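import Cfsg.Agent.Comp.TCDefs

set_option autoImplicit false
set_option maxRecDepth 1000000
set_option maxHeartbeats 0
set_option Elab.async false

namespace CF.J23.P2

open CF.Comp

noncomputable def N_0 : Net := (Net.cons (nat_lit 1) (nat_lit 0x4500545001144040554000000) (Net.cons (nat_lit 2) (nat_lit 0x2032320122210301230000000) (Net.cons (nat_lit 4) (nat_lit 0x9010e010e0d0201090500) (Net.cons (nat_lit 8) (nat_lit 0x8600a3004300a100050000) (Net.cons (nat_lit 16) (nat_lit 0x4470000208500000000) (Net.cons (nat_lit 32) (nat_lit 0x10000000000566480) (Net.cons (nat_lit 64) (nat_lit 0x120566480) (Net.cons (nat_lit 32) (nat_lit 0x700000000a0f74480) (Net.cons (nat_lit 16) (nat_lit 0xb767000049cd00002d40) (Net.cons (nat_lit 8) (nat_lit 0x8600eb000300e100150054) (Net.cons (nat_lit 4) (nat_lit 0x809010e010e0f02050d010c) (Net.cons (nat_lit 2) (nat_lit 0x2032320122310301230000000) (Net.cons (nat_lit 1) (nat_lit 0x4500545001144040554000001)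 Net.nil)))))))))))))
noncomputable def N_1 : Net := (Net.cons (nat_lit 1) (nat_lit 0x41154505510455000540400) (Net.cons (nat_lit 2) (nat_lit 0x3222001332232110200020) (Net.cons (nat_lit 4) (nat_lit 0x1090f0e0200080d01050408) (Net.cons (nat_lit 8) (nat_lit 0x98007e000100c000180000) (Net.cons (nat_lit 16) (nat_lit 0x8053000044e600000008) (Net.cons (nat_lit 32) (nat_lit 2316114800) (Net.cons (nat_lit 64) (nat_lit 2316114800) (Net.cons (nat_lit 32) (nat_lit 0xf00000000e9ee3f78) (Net.cons (nat_lit 16) (nat_lit 0x6c6e000002da0000d028) (Net.cons (nat_lit 8) (nat_lit 0x3f00cb001e00ee000800a0) (Net.cons (nat_lit 4) (nat_lit 0xe0208040202040b0e000008) (Net.cons (nat_lit 2) (nat_lit 0x2301333221331003332113020) (Net.cons (nat_lit 1) (nat_lit 0x1115505045441554154151400) Net.nil)))))))))))))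
noncomputable def N_2 : Net := (Net.cons (nat_lit 1) (nat_lit 0x1401454550000010005144440) (Net.cons (nat_lit 2) (nat_lit 0x2001000122102300031310000) (Net.cons (nat_lit 4) (nat_lit 0x3030f0e0f040002010d0504) (Net.cons (nat_lit 8) (nat_lit 0x56009f005c00c100840002) (Net.cons (nat_lit 16) (nat_lit 0x403d0000245a00000005) (Net.cons (nat_lit 32) (nat_lit 67455728) (Net.cons (nat_lit 64) (nat_lit 67455728) (Net.cons (nat_lit 32) (nat_lit 0xf000000003fffcff5) (Net.cons (nat_lit 16) (nat_lit 0x15de0000705f0000c403) (Net.cons (nat_lit 8) (nat_lit 0x34005100da00bf00b8003e) (Net.cons (nat_lit 4) (nat_lit 0x90d0700010f08020b0c0f0e) (Net.cons (nat_lit 2) (nat_lit 0x200320301002211122223) (Net.cons (nat_lit 1) (nat_lit 0x405445450000004005154440) Net.nil)))))))))))))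
noncomputable def N_3 : Net := (Net.cons (nat_lit 1) (nat_lit 0x4010440145055101004140040) (Net.cons (nat_lit 2) (nat_lit 0x3111020111031222000022200) (Net.cons (nat_lit 4) (nat_lit 0x30605080404080304090200) (Net.cons (nat_lit 8) (nat_lit 0x1400e50000004d00040000) (Net.cons (nat_lit 16) (nat_lit 0x266e0000226d00000000) (Net.cons (nat_lit 32) (nat_lit 914364896) (Net.cons (nat_lit 64) (nat_lit 914627040) (Net.cons (nat_lit 32) (nat_lit 0xf0000000056ef5be0) (Net.cons (nat_lit 16) (nat_lit 0xc6570000843b00009fb0) (Net.cons (nat_lit 8) (nat_lit 0x3200aa009900fb00000024) (Net.cons (nat_lit 4) (nat_lit 0xc0608050606010e000b0006) (Net.cons (nat_lit 2) (nat_lit 0x111323111301222332302023) (Net.cons (nat_lit 1) (nat_lit 0x1545115410500454550405405) Net.nil)))))))))))))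
noncomputable def N_4 : Net := (Net.cons (nat_lit 1) (nat_lit 0x1411514514041444545040100) (Net.cons (nat_lit 2) (nat_lit 0x2310021233120133120010000) (Net.cons (nat_lit 4) (nat_lit 0x30a0d070c0204000409030a) (Net.cons (nat_lit 8) (nat_lit 0x24007500020076000e0000) (Net.cons (nat_lit 16) (nat_lit 0x50a80000a70900000000) (Net.cons (nat_lit 32) (nat_lit 0x10000000048085ab0) (Net.cons (nat_lit 64) (nat_lit 0x7e8085ab0) (Net.cons (nat_lit 32) (nat_lit 0xf00000000bc2359b0) (Net.cons (nat_lit 16) (nat_lit 0xa63800000c9a00000908) (Net.cons (nat_lit 8) (nat_lit 0x200a5008c006f001300bc) (Net.cons (nat_lit 4) (nat_lit 0x50a0c0c0e0e0106090a030d) (Net.cons (nat_lit 2) (nat_lit 0x312301121022210223010000) (Net.cons (nat_lit 1) (nat_lit 0x1410441050140011105544100) Net.nil)))))))))))))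
noncomputable def N_5 : Net := (Net.cons (nat_lit 1) (nat_lit 0x4115541140544411045010100) (Net.cons (nat_lit 2) (nat_lit 0x1221203002220301000000000) (Net.cons (nat_lit 4) (nat_lit 0xa09090a0000090000000900) (Net.cons (nat_lit 8) (nat_lit 0x42004c00f8005000200000) (Net.cons (nat_lit 16) (nat_lit 0x80250000180000000000) (Net.cons (nat_lit 32) (nat_lit 59016256) (Net.cons (nat_lit 64) (nat_lit 61113408) (Net.cons (nat_lit 32) (nat_lit 0x9000000005f8c8440) (Net.cons (nat_lit 16) (nat_lit 0xd8250000c0a80000a180) (Net.cons (nat_lit 8) (nat_lit 0xe200cc007000d90028001a) (Net.cons (nat_lit 4) (nat_lit 0xe09090b00000b0000010907) (Net.cons (nat_lit 2) (nat_lit 0x1221303003230300010000000) (Net.cons (nat_lit 1) (nat_lit 0x4115541140544411045010011) Net.nil)))))))))))))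
noncomputable def N_6 : Net := (Net.cons (nat_lit 1) (nat_lit 0x104150454045000140000000) (Net.cons (nat_lit 2) (nat_lit 0x10130120331201000000000) (Net.cons (nat_lit 4) (nat_lit 0x20d01000004020502020200) (Net.cons (nat_lit 8) (nat_lit 0xcc0021002e009c009e0000) (Net.cons (nat_lit 16) (nat_lit 0x402f000040920000000c) (Net.cons (nat_lit 32) (nat_lit 0x200000000912d4410) (Net.cons (nat_lit 64) (nat_lit 0x2912f4410) (Net.cons (nat_lit 32) (nat_lit 0xe00000000d1bd441c) (Net.cons (nat_lit 16) (nat_lit 0x622f000068d200009e0c) (Net.cons (nat_lit 8) (nat_lit 0x9c0070002e009f00be0020) (Net.cons (nat_lit 4) (nat_lit 0x20d0001000502050202020c) (Net.cons (nat_lit 2) (nat_lit 0x111030121331201000000000) (Net.cons (nat_lit 1) (nat_lit 0x104150454045000140000001) Net.nil)))))))))))))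
noncomputable def N : List Net := [N_0, N_1, N_2, N_3, N_4, N_5, N_6]
noncomputable def C : List Lvl := [⟨(nat_lit 0), [[(nat_lit 3)],
  [(nat_lit 5)],
  [(nat_lit 7)],
  [(nat_lit 9)],
  [(nat_lit 11)]], (nat_lit 3)⟩,
  ⟨(nat_lit 3), [[(nat_lit 3)],
  [(nat_lit 6), (nat_lit 2), (nat_lit 9), (nat_lit 5)],
  [(nat_lit 8), (nat_lit 9), (nat_lit 11), (nat_lit 7)]], (nat_lit 5)⟩,
  ⟨(nat_lit 2), [[(nat_lit 2), (nat_lit 10), (nat_lit 8), (nat_lit 6), (nat_lit 10), (nat_lit 5), (nat_lit 7), (nat_lit 9)],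
  [(nat_lit 2), (nat_lit 4), (nat_lit 10), (nat_lit 8), (nat_lit 6), (nat_lit 10), (nat_lit 5), (nat_lit 7), (nat_lit 9), (nat_lit 3)]], (nat_lit 4)⟩,
  ⟨(nat_lit 1), [[(nat_lit 10), (nat_lit 8), (nat_lit 6), (nat_lit 14), (nat_lit 9), (nat_lit 5), (nat_lit 7), (nat_lit 9), (nat_lit 1)],
  [(nat_lit 4), (nat_lit 10), (nat_lit 8), (nat_lit 6), (nat_lit 14), (nat_lit 9), (nat_lit 5), (nat_lit 7), (nat_lit 9), (nat_lit 3), (nat_lit 1)]], (nat_lit 2)⟩]
noncomputable def T : List Sub := [⟨[(nat_lit 1)], (nat_lit 2), (nat_lit 3)⟩,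
  ⟨[(nat_lit 7)], (nat_lit 2), (nat_lit 4)⟩]
noncomputable def pel : List Nat := [(nat_lit 5), (nat_lit 4), (nat_lit 7)]
noncomputable def jW : List Nat := [(nat_lit 5), (nat_lit 9), (nat_lit 5), (nat_lit 10), (nat_lit 5), (nat_lit 9), (nat_lit 5)]
noncomputable def p2e0_c0 : BT (Bx Nat) := (BT.leaf (Bx.mk (nat_lit 0xe2ab3435541acd0d44862d9594000060d188704437ce1a24c111868bc35601a920d1baad00001cb0d00d5806a2031581a8b0c6a86950314418bc5459062d4336818710c69d22e59076b0360c7a860a8304218310c19060f040400000000)))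
noncomputable def p2e0_c1 : BT (Bx Nat) := (BT.leaf (Bx.mk (nat_lit 0x61f96f04c00000000000000000000000000000000000000cbed6206c000000000000741ac000000000000000036da200000000000000000000000000000000000000000000003a0a00000000000003a1040000)))
noncomputable def p2e0_c2 : BT (Bx Nat) := (BT.leaf (Bx.mk (nat_lit 0x6ec67284e0000000000000000000000000000000001c1d1000000000000121e200000000343d000000000687a7838da1d5000000003a0be0000ca05800000001d05dda02800000001a1ced0e6f4153439e0000d0e200003a1060000)))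
noncomputable def p2e0_c3 : BT (Bx Nat) := (BT.leaf (Bx.mk (nat_lit 0x36a2dba990000000000000000000004e77000000000e3c880000000000000000000034f5400000000000036329c786000000003a0c00000da82ed323690f4858000000000000000000000741540001b183e0a080003a1080000)))
noncomputable def p2e0_c4 : BT (Bx Nat) := (BT.leaf (Bx.mk (nat_lit 0xe1ea70f4f87a4000000000000387a2000035d00000000000000e1e470f1c00000000000070f1ba0d3d067e83374197a0c20000e1e20000000000000e1e1800000001d05be82d7415b8403d04fe82580003a10a0000)))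
noncomputable def p2e0_c5 : BT (Bx Nat) := (BT.leaf (Bx.mk (nat_lit 0x9d110000372ad00df00000000371abc68b00000000000000000000069a874d3a00000000000038d0a000000000000000000000e82e0000000000000000070a07a0a20000e82600003a10c0000)))
noncomputable def p2e0_c6 : BT (Bx Nat) := (BT.leaf (Bx.mk (nat_lit 0xfad900000000000000000000068e8c0001399c80700000000000000000000001c755c3860000000000001139ee1c2e8e4fa0c40000000070e0f471d48940000000000001c301d1c47415fa0a40000e82680003a10e0000)))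
noncomputable def p2e0_c7 : BT (Bx Nat) := (BT.leaf (Bx.mk (nat_lit 0x3ed640000000000000000000000000d9b17114400000000000048d5000012460000000000000000000000000000001344cd9a971117a0c6000000006cd378887d05e0000000000001b347e160f4163a0a60000e82700003a1100000)))
noncomputable def p2e0_c8 : BT (Bx Nat) := (BT.leaf (Bx.mk (nat_lit 0x3524200002def80000000000000000000038e8c0000000000003a0d5d068d38965d4fa0c800000000000000000000000000000000000000d2e474167648a0000000000003a1120000)))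
noncomputable def p2e0_c9 : BT (Bx Nat) := (BT.leaf (Bx.mk (nat_lit 0x34c0a0000000000003a1140000)))
noncomputable def p2e0_p : BT (Bx Nat) := (BT.leaf (Bx.mk (nat_lit 0xd607548d513508d4134c4d213448d11f446d113443d10b307cc0b2c588121c48622187861a184860e182851e146851614184120c7831a0c5831104941210474119045411104341090410000000)))
noncomputable def p2e0_e0 : BT Nat := (BT.node (nat_lit 1472) (BT.node (nat_lit 896) (BT.node (nat_lit 448) (BT.node (nat_lit 320) (BT.node (nat_lit 256) (BT.leaf (nat_lit 2833)) (BT.leaf (nat_lit 3857))) (BT.node (nat_lit 384) (BT.leaf (nat_lit 7953)) (BT.leaf (nat_lit 5397)))) (BT.node (nat_lit 768) (BT.node (nat_lit 512) (BT.leaf (nat_lit 2073)) (BT.leaf (nat_lit 6929))) (BT.node (nat_lit 832) (BT.leaf (nat_lit 789)) (BT.leaf (nat_lit 3609))))) (BT.node (nat_lit 1216) (BT.node (nat_lit 1088) (BT.node (nat_lit 960) (BT.leaf (nat_lit 2057)) (BT.leaf (nat_lit 2825))) (BT.node (nat_lit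 1152) (BT.leaf (nat_lit 8213)) (BT.leaf (nat_lit 4889)))) (BT.node (nat_lit 1344) (BT.node (nat_lit 1280) (BT.leaf (nat_lit 9745)) (BT.leaf (nat_lit 10265))) (BT.node (nat_lit 1408) (BT.leaf (nat_lit 6425)) (BT.leaf (nat_lit 10505)))))) (BT.node (nat_lit 2112) (BT.node (nat_lit 1920) (BT.node (nat_lit 1792) (BT.node (nat_lit 1536) (BT.leaf (nat_lit 3097)) (BT.leaf (nat_lit 3085))) (BT.node (nat_lit 1856) (BT.leaf (nat_lit 2837)) (BT.leaf (nat_lit 3081)))) (BT.node (nat_lit 1990) (BT.node (nat_lit 1984) (BT.leaf (nat_lit 3101)) (BT.leaf (nat_lit 8201))) (BT.node (nat_lit 2053) (BT.leaf (nat_lit 136)) (BT.leaf (nat_lit 140))))) (BT.node (nat_lit 2496) (BT.node (nat_lit 2240) (BT.node (nat_lit 2176) (BT.leaf (nat_lit 5653)) (BT.leaf (nat_lit 7177))) (BT.node (nat_lit 2304) (BT.leaf (nat_lit 7197)) (BT.leaf (nat_lit 8481)))) (BT.node (nat_lit 2624) (BT.node (nat_lit 2560) (BT.leaf (nat_lit 5137)) (BT.leaf (nat_lit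 6409))) (BT.node (nat_lit 2688) (BT.leaf (nat_lit 5393)) (BT.leaf (nat_lit 6413)))))))
noncomputable def p2e0_e : BT Nat := p2e0_e0
noncomputable def p2e0_cols : List (BT (Bx Nat)) := [p2e0_c0, p2e0_c1, p2e0_c2, p2e0_c3, p2e0_c4, p2e0_c5, p2e0_c6, p2e0_c7, p2e0_c8, p2e0_c9]
noncomputable def p2e0_ch (x j : Nat) : Bx Nat := chunkG p2e0_cols (nat_lit 1) x j
noncomputable def p2e0_L (x : Nat) : Bx (Nat → Nat) := lookG p2e0_ch (nat_lit 8) (nat_lit 255) (nat_lit 17) (nat_lit 131071) x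
noncomputable def p2e0_pc (_ j : Nat) : Bx Nat := p2e0_p.get j
noncomputable def p2e0_pb : Bx (Nat → Nat) := lookG p2e0_pc (nat_lit 8) (nat_lit 255) (nat_lit 14) (nat_lit 16383) (nat_lit 0)
noncomputable def p2e0_rots : BT CW := (BT.node (nat_lit 24) (BT.node (nat_lit 12) (BT.node (nat_lit 6) (BT.node (nat_lit 3) (BT.node (nat_lit 1) (BT.leaf ⟨[], (nat_lit 1000000), (nat_lit 0), (nat_lit 0), (nat_lit 0)⟩) (BT.node (nat_lit 2) (BT.leaf ⟨[], (nat_lit 1000000), (nat_lit 0), (nat_lit 0), (nat_lit 1)⟩) (BT.leaf ⟨[], (nat_lit 1000000), (nat_lit 0), (nat_lit 0), (nat_lit 2)⟩))) (BT.node (nat_lit 4) (BT.leaf ⟨[(nat_lit 0), (nat_lit 1)], (nat_lit 0), (nat_lit 0), (nat_lit 1), (nat_lit 3)⟩) (BT.node (nat_lit 5) (BT.leaf ⟨[(nat_lit 3), (nat_lit 2)], (nat_lit 61), (nat_lit 1), (nat_lit 0), (nat_lit 3)⟩) (BT.leaf ⟨[(nat_lit 3), (nat_lit 3), (nat_lit 3)], (nat_lit 64), (nat_lit 0), (nat_lit 0), (nat_lit 4)⟩)))) (BT.node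 (nat_lit 9) (BT.node (nat_lit 7) (BT.leaf ⟨[(nat_lit 2), (nat_lit 3)], (nat_lit 61), (nat_lit 0), (nat_lit 0), (nat_lit 4)⟩) (BT.node (nat_lit 8) (BT.leaf ⟨[(nat_lit 4), (nat_lit 4)], (nat_lit 41), (nat_lit 0), (nat_lit 0), (nat_lit 3)⟩) (BT.leaf ⟨[(nat_lit 8), (nat_lit 4), (nat_lit 1), (nat_lit 4)], (nat_lit 3), (nat_lit 2), (nat_lit 0), (nat_lit 5)⟩))) (BT.node (nat_lit 10) (BT.leaf ⟨[(nat_lit 5), (nat_lit 5)], (nat_lit 42), (nat_lit 0), (nat_lit 0), (nat_lit 3)⟩) (BT.node (nat_lit 11) (BT.leaf ⟨[(nat_lit 7), (nat_lit 6)], (nat_lit 58), (nat_lit 1), (nat_lit 0), (nat_lit 3)⟩) (BT.leaf ⟨[(nat_lit 6), (nat_lit 7)], (nat_lit 58), (nat_lit 0), (nat_lit 0), (nat_lit 3)⟩))))) (BT.node (nat_lit 18) (BT.node (nat_lit 15) (BT.node (nat_lit 13) (BT.leaf ⟨[(nat_lit 7), (nat_lit 7), (nat_lit 7)], (nat_lit 81), (nat_lit 0), (nat_lit 0), (nat_lit 4)⟩) (BT.node (nat_lit 14) (BT.leaf ⟨[(nat_lit 6), (nat_lit 7)], (nat_lit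 58), (nat_lit 0), (nat_lit 0), (nat_lit 4)⟩) (BT.leaf ⟨[(nat_lit 4), (nat_lit 4)], (nat_lit 41), (nat_lit 0), (nat_lit 0), (nat_lit 4)⟩))) (BT.node (nat_lit 16) (BT.leaf ⟨[(nat_lit 2), (nat_lit 4), (nat_lit 2), (nat_lit 4)], (nat_lit 6), (nat_lit 0), (nat_lit 0), (nat_lit 4)⟩) (BT.node (nat_lit 17) (BT.leaf ⟨[(nat_lit 7), (nat_lit 6)], (nat_lit 58), (nat_lit 1), (nat_lit 0), (nat_lit 4)⟩) (BT.leaf ⟨[(nat_lit 3), (nat_lit 7), (nat_lit 2), (nat_lit 6)], (nat_lit 20), (nat_lit 2), (nat_lit 0), (nat_lit 4)⟩)))) (BT.node (nat_lit 21) (BT.node (nat_lit 19) (BT.leaf ⟨[(nat_lit 3), (nat_lit 6), (nat_lit 2), (nat_lit 7)], (nat_lit 83), (nat_lit 3), (nat_lit 0), (nat_lit 4)⟩) (BT.node (nat_lit 20) (BT.leaf ⟨[(nat_lit 3), (nat_lit 4), (nat_lit 3), (nat_lit 4)], (nat_lit 69), (nat_lit 1), (nat_lit 0), (nat_lit 4)⟩) (BT.leaf ⟨[(nat_lit 0), (nat_lit 1)], (nat_lit 0), (nat_lit 0), (nat_lit 1), (nat_lit 4)⟩))) (BT.node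 (nat_lit 22) (BT.leaf ⟨[(nat_lit 0), (nat_lit 4), (nat_lit 1), (nat_lit 4), (nat_lit 8)], (nat_lit 3), (nat_lit 3), (nat_lit 1), (nat_lit 5)⟩) (BT.node (nat_lit 23) (BT.leaf ⟨[(nat_lit 8), (nat_lit 6), (nat_lit 8), (nat_lit 6)], (nat_lit 21), (nat_lit 1), (nat_lit 0), (nat_lit 5)⟩) (BT.leaf ⟨[(nat_lit 9), (nat_lit 1), (nat_lit 8), (nat_lit 1), (nat_lit 8)], (nat_lit 12), (nat_lit 4), (nat_lit 0), (nat_lit 5)⟩)))))) (BT.node (nat_lit 36) (BT.node (nat_lit 30) (BT.node (nat_lit 27) (BT.node (nat_lit 25) (BT.leaf ⟨[(nat_lit 0), (nat_lit 4), (nat_lit 9), (nat_lit 4), (nat_lit 9)], (nat_lit 9), (nat_lit 0), (nat_lit 1), (nat_lit 3)⟩) (BT.node (nat_lit 26) (BT.leaf ⟨[(nat_lit 5), (nat_lit 5)], (nat_lit 42), (nat_lit 0), (nat_lit 0), (nat_lit 4)⟩) (BT.leaf ⟨[(nat_lit 1), (nat_lit 5), (nat_lit 1), (nat_lit 5)], (nat_lit 4), (nat_lit 0), (nat_lit 0), (nat_lit 5)⟩))) (BT.node (nat_lit 28) (BT.leaf ⟨[(nat_lit 8), (nat_lit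 7), (nat_lit 8), (nat_lit 7)], (nat_lit 84), (nat_lit 0), (nat_lit 0), (nat_lit 4)⟩) (BT.node (nat_lit 29) (BT.leaf ⟨[(nat_lit 8), (nat_lit 8)], (nat_lit 45), (nat_lit 0), (nat_lit 0), (nat_lit 4)⟩) (BT.leaf ⟨[(nat_lit 3), (nat_lit 2)], (nat_lit 61), (nat_lit 1), (nat_lit 0), (nat_lit 4)⟩)))) (BT.node (nat_lit 33) (BT.node (nat_lit 31) (BT.leaf ⟨[(nat_lit 1), (nat_lit 4), (nat_lit 8), (nat_lit 4)], (nat_lit 3), (nat_lit 0), (nat_lit 0), (nat_lit 4)⟩) (BT.node (nat_lit 32) (BT.leaf ⟨[(nat_lit 1), (nat_lit 1)], (nat_lit 44), (nat_lit 0), (nat_lit 0), (nat_lit 4)⟩) (BT.leaf ⟨[(nat_lit 3), (nat_lit 6), (nat_lit 5), (nat_lit 7), (nat_lit 2), (nat_lit 5)], (nat_lit 34), (nat_lit 2), (nat_lit 0), (nat_lit 5)⟩))) (BT.node (nat_lit 34) (BT.leaf ⟨[(nat_lit 6), (nat_lit 3), (nat_lit 5), (nat_lit 7), (nat_lit 2), (nat_lit 5)], (nat_lit 35), (nat_lit 2), (nat_lit 0), (nat_lit 5)⟩) (BT.node (nat_lit 35) (BT.leaf ⟨[(nat_lit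 5), (nat_lit 2), (nat_lit 5), (nat_lit 2), (nat_lit 5), (nat_lit 2)], (nat_lit 16), (nat_lit 1), (nat_lit 0), (nat_lit 4)⟩) (BT.leaf ⟨[(nat_lit 8), (nat_lit 4), (nat_lit 1), (nat_lit 4)], (nat_lit 3), (nat_lit 2), (nat_lit 0), (nat_lit 4)⟩))))) (BT.node (nat_lit 42) (BT.node (nat_lit 39) (BT.node (nat_lit 37) (BT.leaf ⟨[(nat_lit 5), (nat_lit 4), (nat_lit 5), (nat_lit 4), (nat_lit 5), (nat_lit 4)], (nat_lit 17), (nat_lit 1), (nat_lit 0), (nat_lit 4)⟩) (BT.node (nat_lit 38) (BT.leaf ⟨[(nat_lit 6), (nat_lit 5), (nat_lit 2), (nat_lit 7), (nat_lit 5), (nat_lit 3)], (nat_lit 98), (nat_lit 0), (nat_lit 0), (nat_lit 5)⟩) (BT.leaf ⟨[(nat_lit 3), (nat_lit 5), (nat_lit 2), (nat_lit 7), (nat_lit 5), (nat_lit 6)], (nat_lit 36), (nat_lit 4), (nat_lit 0), (nat_lit 5)⟩))) (BT.node (nat_lit 40) (BT.leaf ⟨[(nat_lit 5), (nat_lit 7), (nat_lit 5), (nat_lit 7), (nat_lit 5), (nat_lit 7)], (nat_lit 100), (nat_lit 1), (nat_lit 0),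 (nat_lit 5)⟩) (BT.node (nat_lit 41) (BT.leaf ⟨[(nat_lit 0), (nat_lit 7), (nat_lit 4), (nat_lit 6), (nat_lit 4), (nat_lit 7), (nat_lit 4), (nat_lit 6), (nat_lit 4), (nat_lit 7), (nat_lit 4), (nat_lit 6), (nat_lit 4), (nat_lit 7), (nat_lit 2), (nat_lit 2), (nat_lit 4), (nat_lit 6), (nat_lit 4)], (nat_lit 40), (nat_lit 3), (nat_lit 1), (nat_lit 5)⟩) (BT.leaf ⟨[(nat_lit 3), (nat_lit 8), (nat_lit 2), (nat_lit 8)], (nat_lit 7), (nat_lit 2), (nat_lit 0), (nat_lit 4)⟩)))) (BT.node (nat_lit 45) (BT.node (nat_lit 43) (BT.leaf ⟨[(nat_lit 6), (nat_lit 8), (nat_lit 6), (nat_lit 8)], (nat_lit 21), (nat_lit 0), (nat_lit 0), (nat_lit 5)⟩) (BT.node (nat_lit 44) (BT.leaf ⟨[(nat_lit 2), (nat_lit 8), (nat_lit 3), (nat_lit 8)], (nat_lit 7), (nat_lit 0), (nat_lit 0), (nat_lit 4)⟩) (BT.leaf ⟨[(nat_lit 7), (nat_lit 8), (nat_lit 7), (nat_lit 8)], (nat_lit 84), (nat_lit 1), (nat_lit 0), (nat_lit 5)⟩))) (BT.node (nat_lit 46) (BT.leaf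 ⟨[(nat_lit 4), (nat_lit 2), (nat_lit 4), (nat_lit 2)], (nat_lit 6), (nat_lit 1), (nat_lit 0), (nat_lit 5)⟩) (BT.node (nat_lit 47) (BT.leaf ⟨[(nat_lit 8), (nat_lit 3), (nat_lit 8), (nat_lit 2)], (nat_lit 7), (nat_lit 1), (nat_lit 0), (nat_lit 5)⟩) (BT.leaf ⟨[(nat_lit 0), (nat_lit 8), (nat_lit 6), (nat_lit 8), (nat_lit 6)], (nat_lit 21), (nat_lit 1), (nat_lit 1), (nat_lit 5)⟩)))))))
noncomputable def p2e0_hcs : List CW := []
noncomputable def p2e0_H (x j : Nat) : Bx (Nat → Nat → Nat) := mkH p2e0_L p2e0_pb.1 p2e0_e.get (lmap CW.w p2e0_hcs) (nat_lit 1) (nat_lit 2) (nat_lit 10) (nat_lit 64) (nat_lit 4096) (nat_lit 4095) x (p2e0_rots.get j)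
noncomputable def p2e0_F (x b : Nat) : Bool := blkOK p2e0_H p2e0_ch (nat_lit 2) (nat_lit 64) (nat_lit 64) (nat_lit 8) (nat_lit 255) (nat_lit 17) (nat_lit 131071) x b

theorem p2e0_k0_0 : allFrom (p2e0_F (nat_lit 0)) (nat_lit 0) (nat_lit 4) = true := by decide +kernel
theorem p2e0_k1_0 : allFrom (p2e0_F (nat_lit 1)) (nat_lit 0) (nat_lit 4) = true := by decide +kernel
theorem p2e0_k2_0 : allFrom (p2e0_F (nat_lit 2)) (nat_lit 0) (nat_lit 4) = true := by decide +kernel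
theorem p2e0_k3_0 : allFrom (p2e0_F (nat_lit 3)) (nat_lit 0) (nat_lit 4) = true := by decide +kernel
theorem p2e0_k4_0 : allFrom (p2e0_F (nat_lit 4)) (nat_lit 0) (nat_lit 4) = true := by decide +kernel
theorem p2e0_k5_0 : allFrom (p2e0_F (nat_lit 5)) (nat_lit 0) (nat_lit 4) = true := by decide +kernel
theorem p2e0_k6_0 : allFrom (p2e0_F (nat_lit 6)) (nat_lit 0) (nat_lit 4) = true := by decide +kernel
theorem p2e0_k7_0 : allFrom (p2e0_F (nat_lit 7)) (nat_lit 0) (nat_lit 4) = true := by decide +kernel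
theorem p2e0_k8_0 : allFrom (p2e0_F (nat_lit 8)) (nat_lit 0) (nat_lit 4) = true := by decide +kernel
theorem p2e0_k9_0 : allFrom (p2e0_F (nat_lit 9)) (nat_lit 0) (nat_lit 4) = true := by decide +kernel

end CF.J23.P2
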