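import Cfsg.Agent.J23.RBig
import Cfsg.Agent.Comp.TC
import Cfsg.Agent.J23.E0K0
import Cfsg.Agent.J23.E0K1
import Cfsg.Agent.J23.E0K2
import Cfsg.Agent.J23.E0K3
import Cfsg.Agent.J23.E0K4
import Cfsg.Agent.J23.E0K5
import Cfsg.Agent.J23.E0K6

set_option autoImplicit false
set_option maxRecDepth 1000000
set_option maxHeartbeats 0
set_option Elab.async false

namespace CF.Comp.J23B0

theorem big0_all : Cov big0_F 3204 9 0 := by
  have h := Cov.zero big0_F 3204
  have h := h.blk (b := 1368) big0_k0_0 rfl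
  have h := h.blk (b := 1768) big0_k0_1368 rfl
  have h := h.blk (b := 2146) big0_k0_1768 rfl
  have h := h.blk (b := 2546) big0_k0_2146 rfl
  have h := h.blk (b := 2911) big0_k0_2546 rfl
  have h := h.blk (b := 3204) big0_k0_2911 rfl
  have h := h.next (y := 1) rfl rfl
  have h := h.blk (b := 492) big0_k1_0 rfl
  have h := h.blk (b := 1001) big0_k1_492 rfl
  have h := h.blk (b := 1529) big0_k1_1001 rfl
  have h := h.blk (b := 2200) big0_k1_1529 rfl
  have h := h.blk (b := 2997) big0_k1_2200 rfl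
  have h := h.blk (b := 3204) big0_k1_2997 rfl
  have h := h.next (y := 2) rfl rfl
  have h := h.blk (b := 511) big0_k2_0 rfl
  have h := h.blk (b := 1051) big0_k2_511 rfl
  have h := h.blk (b := 1649) big0_k2_1051 rfl
  have h := h.blk (b := 2452) big0_k2_1649 rfl
  have h := h.blk (b := 3204) big0_k2_2452 rfl
  have h := h.next (y := 3) rfl rfl
  have h := h.blk (b := 523) big0_k3_0 rfl
  have h := h.blk (b := 1058) big0_k3_523 rfl
  have h := h.blk (b := 1645) big0_k3_1058 rfl
  have h := h.blk (b := 2430) big0_k3_1645 rfl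
  have h := h.blk (b := 3204) big0_k3_2430 rfl
  have h := h.next (y := 4) rfl rfl
  have h := h.blk (b := 718) big0_k4_0 rfl
  have h := h.blk (b := 1341) big0_k4_718 rfl
  have h := h.blk (b := 2167) big0_k4_1341 rfl
  have h := h.blk (b := 3204) big0_k4_2167 rfl
  have h := h.next (y := 5) rfl rfl
  have h := h.blk (b := 595) big0_k5_0 rfl
  have h := h.blk (b := 1159) big0_k5_595 rfl
  have h := h.blk (b := 1827) big0_k5_1159 rfl
  have h := h.blk (b := 2665) big0_k5_1827 rfl
  have h := h.blk (b := 3204) big0_k5_2665 rfl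
  have h := h.next (y := 6) rfl rfl
  have h := h.blk (b := 592) big0_k6_0 rfl
  have h := h.blk (b := 1168) big0_k6_592 rfl
  have h := h.blk (b := 1944) big0_k6_1168 rfl
  have h := h.blk (b := 2950) big0_k6_1944 rfl
  have h := h.blk (b := 3204) big0_k6_2950 rfl
  have h := h.next (y := 7) rfl rfl
  have h := h.blk (b := 618) big0_k7_0 rfl
  have h := h.blk (b := 1206) big0_k7_618 rfl
  have h := h.blk (b := 1964) big0_k7_1206 rfl
  have h := h.blk (b := 2902) big0_k7_1964 rfl
  have h := h.blk (b := 3204) big0_k7_2902 rfl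
  have h := h.next (y := 8) rfl rfl
  have h := h.blk (b := 528) big0_k8_0 rfl
  have h := h.blk (b := 1061) big0_k8_528 rfl
  have h := h.blk (b := 1654) big0_k8_1061 rfl
  have h := h.blk (b := 2449) big0_k8_1654 rfl
  have h := h.blk (b := 3204) big0_k8_2449 rfl
  have h := h.next (y := 9) rfl rfl
  exact h

theorem big0 : Enum CF.J23.U0 CF.J23.H5 CF.J23.G6 78489 :=
  ⟨big0_cols, big0_ch, big0_L, big0_H, big0_pb.1, big0_e.get, [(nat_lit 0), (nat_lit 1), (nat_lit 3), (nat_lit 4), (nat_lit 5), (nat_lit 7), (nat_lit 9), (nat_lit 10), (nat_lit 11)], (nat_lit 109), (nat_lit 7), big0_rots, big0_hcs,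
    (nat_lit 78490), (nat_lit 9), (nat_lit 262144), (nat_lit 1024), (nat_lit 268435456), (nat_lit 16777215), (nat_lit 8), (nat_lit 255), (nat_lit 37), (nat_lit 0x1fffffffff), (nat_lit 801), (nat_lit 3204),
    fun _ _ => rfl, fun _ => rfl, fun _ _ => rfl, by decide +kernel, big0_all.1⟩

end CF.Comp.J23B0
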