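import Cfsg.Agent.Comp.TCDefs

set_option autoImplicit false
set_option maxRecDepth 1000000
set_option maxHeartbeats 0
set_option Elab.async false

namespace CF.Comp.J23B0

noncomputable def big0_p_256 : BT (Bx Nat) := (BT.node (nat_lit 384) (BT.node (nat_lit 320) (BT.node (nat_lit 288) (BT.node (nat_lit 272) (BT.node (nat_lit 264) (BT.node (nat_lit 260) (BT.node (nat_lit 258) (BT.node (nat_lit 257) (BT.leaf (Bx.mk (nat_lit 0x8171d6340b8e51205c718902e38058171c0240b8df1605c6f0f02e37868171b8340b8dc1605c6d8902e36878171b4340b8da1605c6c8b02e36448171a82c0b8d30605c690f02e34868171a4140b8d01205c670902e3344817194240b8c81e05c640d02e320581718e240b8c61605c620902e30848171823c0b8c11a05c600b02e2fc581717c240b8be0e05c5f0502e2f44817178340b8bc1605c5d8b02e2dc781716e340b8b71605c5b8302e2d848171602c0b8b01205c578b02e2bc481715c3c0b8ad2205c560d02e2b05817156240b8a91e05c548d02e2a0481714c240b8a41205c500902e27058171323c0b8991a05c4c0902e2545817126440b8911205c480f02e24058171200c0b8841205c418f02e20c18170fc440b87e1205c3d8902e1e858170f4240b8781e05c3c0d02e1d848170e4240b86f1205c370f02e1ac48170d2240b8671205c330d02e18478170c2340b8610605c2f8902e17c38170ba3c0b85d1a05c2e8302e16c48170ae2c0b8570605c2b0902e15478170aa2c0b8511e05c270902e12c48170960c0b8471a05c228b02e11058170863c0b8421205c200b02e0fc881707e240b83f0e05c1f8502e0f458170763c0b8381205c1a0f02e0c0681705e2c0b82e1205c158f02e0ac68170560c0b82a1605c148b02e0a44817050440b8281e05c140d02e0a03817050140b8261a05c130302e0944817048240b8231e05c110902e07c781703c240b81c1a05c0e0302e06848170322c0b8191205c0c8302e06088170303c0b8181a05c0c0902e0603817030140b8131205c090902e038481701a240b80c2205c060d02e0304817018140b8082205c040702e01c681700e2c0b8061605c018d02e00848170022c0b8000605bff9102dffc7816ffe340b7ff0e05bff8502dff85816ffa340b7fd1605bfd8f02dfec6816ff4240b7f91605bfb8902dfd84816fe82c0b7f11e05bf88d02dfc04816fde2c0b7ee1205bf68902dfa47816fce2c0b7e61605bf28f02df946816fca1c0b7e41605bf18302df804816fbc3c0b7de1a05bee0b02df6c1816fa8240b7d30605be90d02df446816f983c0b7ca1605be50902df244816f8e3c0b7c71a05be28b02df104816f86340b7c30e05be18502df006816f802c0b7bd1205bde0f02dee07816f70340b7b31a05bd98302dec84816f62240b7ae1605bd68b02deb07816f58340b7a61e05bd30d02de981816f4a240b7a31205bd10b02de848816f423c0b7a10a05bd00f02de7c4816f3a3c0b79d1a05bce8b02de704816f322c0b7981605bcc0302de5c8))) (BT.leaf (Bx.mk (nat_lit 0x897514444ba8a1225d440912ea1c48975043c4ba821a25d408b12e9fc78974fe0c4ba7e1225d3e8b12e9f068974f80c4ba7a1e25d3d0312e9e458974f02c4ba711225d380912e9b448974d4344ba681a25d2e0f12e96028974ae3c4ba571a25d2b8b12e95838974aa2c4ba531225d250b12e9248897492244ba481625d238912e91848174862c0ba431205d210b02e904481747e2c0ba3e2205d1e8b02e8f04817472240ba351e05d160902e8ac4817452440ba291205d140b02e89c4817446340ba201605d0f8302e8741817436240ba191205d0b8902e85c381742c3c0ba151605d098702e840581741a2c0ba0b1605d050902e8247817412340ba081205d020302e80c5817404240b9ff1e05cff8d02e7fc58173f63c0b9fb0605cfc9102e7e478173f2340b9f90e05cfc0f02e7e068173ee240b9f61205cf91102e7c848173e22c0b9ec1205cf40902e79888173cc240b9e41205cf00902e78028173be2c0b9dd1a05cee8b02e77018173b6240b9da1a05ceb8b02e75c48173ac440b9d51a05cea8b02e75048173a63c0b9d31a05ce98b02e73078173943c0b9ca1a05ce40902e70c7817384240b9c11e05ce08b02e6f8481736c240b9b51e05cda8d02e6d45817368240b9b31205cd88b02e6c4481735e2c0b9ad1205cd50b02e6a47817352340b9a81a05cd38902e694781734a340b9a50605cd18902e68858173440c0b99f1e05cce8902e6681817332240b9981605ccc0902e65c481732c2c0b9941205cc81102e62c5817314240b9821e05cc10d02e6044817300240b97e1e05cbf0d02e5f448172f40c0b9781e05cbc0d02e5e018172ec340b9721a05cb80f02e5bc48172dc240b96d1a05cb61102e5ac68172d62c0b9691205cb11102e58478172c2340b9611605cb00902e57878172bc340b95e0605cad8902e56448172b03c0b9581605cab8b02e55c48172aa3c0b9551a05caa8b02e55048172a6240b9521605ca88902e53c781729c240b94d1605ca58f02e52c6817294240b9481205ca30b02e50c58172860c0b9411205ca08302e4fc5817276240b9392205c9b8902e4d08817262240b9301205c968902e4b058172502c0b9271605c928d02e48c7817246240b9230e05c918502e4888817244240b9201a05c900302e47c481723c240b91d1a05c8d0302e4607817230340b9161a05c8a0f02e45068172282c0b9131205c868902e41048171fe240b8ff0605c7f0b02e3f818171fa3c0b8fb1e05c7c8902e3e418171ea240b8ee1605c770902e3b458171da240b8ed0605c760d02e3ac7)))) (BT.node (nat_lit 259) (BT.leaf (Bx.mk (nat_lit 0x8977f8344bbfb1225dfc8f12efe468977f0244bbf71625dfa0f12efcc48977e4244bbed1625df60912efac58977d02c4bbe71625df31112ef9878977cc344bbe60a25df20f12ef9068977c63c4bbe31a25df18b12ef8878977c42c4bbe11225dee8f12ef7468977ba2c4bbdc1e25dee0d12ef7058977b43c4bbda1a25dec0912ef5868977a8244bbd31625de98912ef4478977a22c4bbd01225de70912ef3448977982c4bbcb1625de48912ef1c689778c2c4bbc61225de20f12ef103897788144bbc31e25de18b12ef00789777e244bbb71e25ddb0f12eed86897768244bbb01a25dd78912eeb8689775c2c4bbac1a25dd58912eea47897752344bba90625dd38912ee98789774c244bba60e25dd30512ee94789774a344bba41225dd18912ee8868977422c4bba11225dd00b12ee80489773e244bb9e1625dce0f12ee706897736244bb9a1225dcb8912ee58589772c244bb951e25dc98d12ee38589771a244bb8c1e25dc50512ee2458977063c4bb801e25dc00d12edf858976fc244bb7d2225dbe8912edf438976fa144bb7b1625dbd8912edd478976ea344bb721e25db90d12edc048976de244bb6b1a25db48d12eda028976ce3c4bb671a25dac0912ed40489769c444bb4d1625da58912ed20489768e3c4bb471625da30f12ed18689768a244bb411e25da08312ecf048976763c4bb3b1625d9c8912ecdc889766c3c4bb361a25d9b0b12ecd44897668344bb331225d978b12ecb8489765a2c4bb2d1225d960b12ecac5897654244bb291e25d941112eca0489764e3c4bb271a25d938b12ec88589763e2c4bb181225d8b8f12ec5c689762e2c4bb151225d891112ec3c489761c244bb0a1225d848912ec20689760a244bb041e25d820d12ec0458976020c4bafd1625d7e0312ebe488975f2244baf81e25d7c0d12ebe058975ee2c4baf61e25d7b0d12ebd818975e63c4baf31a25d790912ebb448975d8244bae61225d6f8912eb7878975bc344badc1625d6d8f12eb6c68975b62c4bad91225d6b0912eb5468975aa2c4bad41225d698f12eb4c68975a62c4bad21625d690912eb4458975a2244bad01625d680912eb3858975982c4bacc1225d648f12eb2468975922c4bac90625d628312eb107897588344bac20625d5f0b12eaf8489757a244babb1225d5d0f12eae86897572244bab81225d5a0912eac818975623c4bab11a25d580912eabc589755c244baaa0625d538f12ea9c689754e2c4baa70625d530b12ea88489753a344ba9d0625d4e0b12ea704897534344ba991625d4b0b12ea3c7))) (BT.leaf (Bx.mk (nat_lit 0x897b1c3c4bd8e1a25ec70b12f6304897b12244bd881a25ec38d12f61c5897b082c4bd841225ec18b12f60c4897b02244bd801a25ec00b12f5fc4897af82c4bd7b1a25ebd8b12f5e84897af22c4bd771a25ebb8b12f5d05897ae63c4bd731a25eb80f12f5c06897ae01c4bd6f1a25eb70912f5b44897ad4244bd671225eb30f12f5985897ac82c4bd631a25eb18312f5885897ac03c4bd601a25eaf0912f5687897aae244bd561625eaa8f12f5546897aa42c4bd520625ea80912f5345897a98244bd4b1a25ea50912f5047897a82344bd410625e9f9112f4fc4897a7c3c4bd3e1a25e9d8f12f4ec5897a760c4bd390625e9c0f12f4e05897a6c244bd351225e968912f4b05897a56244bd291225e940b12f49c5897a4c344bd260e25e920f12f4906897a44244bd1f1625e8f0d12f4785897a3c0c4bd171e25e8b0b12f44c7897a26344bd131625e891112f4484897a1e244bd0b2225e858912f4285897a122c4bd081225e7f0912f3ec48979f4444bcfa1225e7c8b12f3e048979e40c4bcf01e25e780b12f3c018979da244bceb1225e738512f39858979ca444bce51225e728712f39068979c82c4bce31625e718912f38858979c4244bcde1225e6e8b12f37448979b8244bcdb1a25e6d8b12f36478979ac3c4bcd41225e698b12f34858979a2344bcd11625e680f12f32c5897994244bcc91e25e648d12f3245897990244bcc61225e608f12f30428979802c4bcbe1e25e5f0d12f2f828979783c4bcbc1a25e5e0b12f2e818979683c4bcb41a25e5a0312f2c87897964344bcb21625e580b12f2bc789795e344bcae1625e558912f2a858979502c4bca61e25e530b12f2907897948344bca40625e510912f280589793c3c4bc9c1225e4e0312f25c489792c3c4bc961a25e4a8f12f254689791e244bc8d1225e448912f21848978fe244bc7b1e25e3d8d12f1e448978ee344bc770625e3b0912f1c878978e42c4bc720625e388b12f1b878978dc2c4bc6c1625e358912f1a848978cc2c4bc641625e320912f18c78978c6344bc611e25e308712f17c58978bc2c4bc5d2225e2e8d12f16c58978b23c4bc591a25e2c8312f15418978a23c4bc511a25e288b12f13c8897898244bc491225e210d12f1007897880344bc3e1e25e188f12f0c468978622c4bc2e1225e150312f0a448978502c4bc271225e128f12f09468978483c4bc211625e100f12f0745897836344bc1b1625e0d0912f04478978201c4bc0f1e25e070b12f03848978142c4bc0a1225e028912f0104897804244bbfe1225dfe8912eff07))))) (BT.node (nat_lit 262) (BT.node (nat_lit 261) (BT.leaf (Bx.mk (nat_lit 0x897e9a244bf4a1225fa50512fd246897e922c4bf480e25fa38f12fd185897e8c244bf451625fa28912fd085897e7c2c4bf381225f9a8f12fcd46897e6a2c4bf311e25f958f12fcac6897e54244bf271a25f928912fc7c8897e3a244bf1c1225f8d0912fc645897e2e244bf161625f8a8912fc4c4897e202c4bf0f1225f870d12fc348897e1a244bf091225f820b12fc104897e062c4bf021a25f808912fc005897dfe2c4beff0625f7f0d12fbf84897dfc1c4befe0a25f7e0b12fbec7897df62c4bef51225f798f12fbb84897dd83c4beeb1e25f758d12fba85897dd0144bee61625f728312fb908897dc83c4bee41a25f720712fb844897dba244bedc1e25f6e0d12fb705897db4344beda1625f6b9112fb504897da23c4bed11a25f660912fb184897d86244bec21e25f608d12fb045897d80244bebd2225f5c8b12fac86897d5c244bead1a25f568512fab04897d4e2c4bea51625f518b12fa707897d362c4be9a1e25f4c0b12fa546897d2a0c4be941225f498b12fa485897d24244be912225f488d12fa345897d18444be8c1e25f460d12fa2c8897d16344be8b0e25f450b12fa244897d103c4be881625f439112fa187897d0c2c4be851e25f428d12fa048897d02244be802225f3f9112f9f84897cfa244be7c2225f3e0f12f9ec8897cf6244be781e25f3c0d12f9cc8897ce4244be711e25f388b12f9b06897cd8144be671e25f338d12f9984897cc8244be5b1225f2d0f12f95c5897cae0c4be561625f2a0f12f9506897ca82c4be501225f250312f9248897c903c4be451225f220b12f90c4897c82444be3f2225f1f1112f8f45897c783c4be3a1e25f1d0d12f8e85897c6a244be341225f198d12f8c85897c5c244be2d1625f160912f8807897c402c4be1d1a25f0e0f12f8706897c36244be181e25f0c0d12f8601897c2e244be161625f0a8912f8505897c26244be121e25f090d12f8481897c1e3c4be0f1a25f078312f8384897c1a244be0b1225f050b12f8244897c0c244be001225eff8d12f7f04897bf2244bdf81625ef90b12f7c06897bdc3c4bdee1a25ef70312f7b44897bd63c4bdeb1a25ef58312f7a07897bd02c4bde71625ef38912f7947897bc4244bde01225eef8b12f77c4897bbc144bddc1225eed8b12f7645897bac244bdd50a25ee90b12f7184897b8a2c4bdc41225ee10d12f7044897b7e244bdbe1a25ede8912f6e85897b722c4bdb40625ed80912f6bc5897b56444bdab1225ed50912f69c5897b4c244bda01225ecf0912f6646897b2a3c4bd951a25ec80d12f63c8))) (BT.leaf (Bx.mk (nat_lit 0x8981c42c4c0e112260700913036458981b2244c0d61e2606b0d13035058981a8244c0cf12260670b1303307898194244c0c71e260638d130318789818c344c0c616260620913030468981820c4c0c0162605f911302fc789817e344c0bf0e2605f851302e87898174344c0ba162605d031302dc489816c2c4c0b31226059111302c84898162344c0b11626057091302ac48981542c4c0a92226054891302a0589814a244c0a322260518913028878981442c4c0a1122604f89130264489812e3c4c09516260498913023c48981183c4c08b12260450f13022868981043c4c0821a2603f0b1301f028980ec3c4c0761a2603b031301d058980e8244c0731626039111301c878980e4144c0701626038091301bc58980dc3c4c06e1a26037071301b828980da244c06a1e260350d1301a478980ce444c06712260310d13017c48980b02c4c0541e2602a0713014c48980a03c4c05006260268d1301245898090444c0481e260240d13011c289808a2c4c044162602189130108489807e2c4c03e122601d891300e8589806c344c0351226019891300c8489805e3c4c02f1a260178b1300a07898050344c0280e260130b130094489803e144c01d162600e0b13006c5898036244c0161e2600b0d1300585898022244c0071e260038d13001c189800c244c00512260020d13000c4898000344c0001226000071300002897ffe244bffd1e25ffe8d12fff45897ff8244bffb1225ffc0f12ffdc4897fec3c4bff61625ffa0912ffcc4897fe2244bfef1a25ff68f12ffb46897fd63c4bfeb1a25ff50b12ffa44897fd0444bfe81e25ff40d12ffa03897fd0144bfe41225ff10912ff847897fc2344bfdf1225fee8d12ff607897fb0344bfd61225fe88b12ff3c5897f9c3c4bfce1625fe60912ff2c7897f96344bfcb1625fe58312ff285897f94244bfc50625fe18912ff007897f80344bfbe1e25fdf0d12fef85897f76244bfb71225fdb0912fed46897f6a2c4bfb31225fd68912feb07897f582c4bfab1625fd48912fe905897f46444bf9f1225fce8b12fe6c7897f362c4bf9b0625fca8912fe384897f1a344bf8d1625fc58912fe288897f14244bf8a0a25fc40912fe1c5897f0e244bf831625fc18912fe084897f02244bf801625fbf9112fdf85897ef6244bf791225fbc0912fddc4897eea3c4bf751a25fba8b12fdb87897ed8344bf6c1625fb58912fda47897ec8244bf611e25fae8f12fd746897eba0c4bf5c1225fad8b12fd644897eb21c4bf571a25fab8312fd544897ea8144bf521225fa88d12fd445)))) (BT.node (nat_lit 263) (BT.leaf (Bx.mk (nat_lit 0x8984460c4c21d1e2610e8d1308742898438344c21a1e2610d0b130858689841c3c4c20e16261040f130820189840e244c2061e261030d13081448984061c4c2030a260ff091307ec88983f02c4c1f712260f90b1307c088983e03c4c1f01a260f8091307c028983de344c1ed12260f5911307ac68983d2244c1e11a260f08313078048983be2c4c1df12260ef0b13077848983ba144c1da16260ec8913075478983aa344c1d31e260e60f1307305898394244c1c722260e189130700489837a244c1bc12260da911306d4789836a1c4c1b50a260d98f1306bc789835e2c4c1af06260d50b1306a06898348444c1a412260d18f13068c5898344244c1a11e260d08b1306704898336144c1991a260cb9113065c48983263c4c19306260c88b13064088983203c4c19012260c80713064028983160c4c18a1a260c18b1306085898304244c18206260c08d13060458982fe244c17e1e260be8f1305f468982f8244c17c06260bd8b1305e878982f4344c17a12260bd071305e828982f23c4c1791a260bc0b1305d878982ec344c1760e260bb051305d478982ea344c1741e260ba0d1305cc78982e6344c17016260b68d1305b088982d8144c16b16260b5091305a838982d20c4c16816260b40313059c58982ce244c16706260b30f13059818982c8344c16412260b18b13058858982c4244c16206260b08f13058468982be3c4c15f1a260af8b13057c18982b83c4c15c1a260ae0313056c48982ae0c4c15612260aa8d13055428982a8344c15312260a88b13054058982a0244c15006260a78913053c289829c3c4c14e1a260a60f13053068982980c4c1491e260a48d130524589828c3c4c1461a260a30b130518189828a444c14512260a18f13050c1898284244c13f222609f8f1304fc689827e1c4c13f0a2609f091304f4789827a344c13d162609e091304ec4898274344c139122609b0b1304d448982663c4c1331626099091304c07898260344c12f1e260978d1304b8489825a244c12a1a260938f13049048982402c4c11d1a2608e0913046c78982323c4c1191a2608c0913045c689822e2c4c1151e2608a8b13045078982263c4c11112260878f13043418982162c4c10a22260850f1304286898214244c10a0e26085051304247898212344c10812260830313040c68982062c4c10306260810913040088981fa3c4c0fd1a2607e831303f048981f62c4c0fa122607d051303e448981ee3c4c0f71a2607a8f1303d458981e63c4c0f31626079091303c448981dc144c0ec22260758b13039c4))) (BT.leaf (Bx.mk (nat_lit 0x898752344c3a81a261d40b130e94789874a344c3a516261d18b130e8c4898740344c3a016261d003130e7068987382c4c39c06261cc89130e5c4898722244c38f12261c50f130e2868987140c4c38912261c311130e18489870c1c4c3860a261c28f130e146898708244c37f12261bf0f130df868986fc2c4c37e06261bd09130de078986f0344c3751e261ba8d130dd458986e83c4c3741a261ba0b130dcc48986de244c36d1e261b68d130dac58986d2244c36712261b309130d9048986b8244c3541a261a58b130d1048986863c4c3421e261a10d130d045898682244c34106261a009130d00389867e244c33e162619d89130ce86898670344c338162619b0b130cd8189866a0c4c3341e2619a0d130cc87898664344c33206261980b130cac4898654344c32a062619489130c942898646244c322062619091130c7c5898636444c31b122618c09130c58789862c344c316062618a09130c40189861e2c4c30f062618691130c34789861a344c30d0e2618685130c3078986182c4c30a12261848d130c24589860c3c4c3061a261818f130c0848985fe444c2ff122617d8f130bec68985f62c4c2fb062617d09130be448985e80c4c2f3122617911130bb058985d0344c2e51a261720f130b7448985b6244c2d9122616b03130b5048985a8144c2d21e261690d130b48189859e1c4c2cf0a261670f130b38689859c2c4c2cd1e261668d130b345898596244c2c31a2616183130b084898580244c2c00e2615e8b130af07898578344c2bc162615d09130ae0589856c244c2b5162615a0d130ad05898566244c2b0122615685130ab058985483c4c2a41a2615189130a8858985421c4c29f122614f0b130a78489853a3c4c29d1a2614d0d130a6448985320c4c2971a2614909130a40489851c244c28922261448f130a2468985103c4c27d16261398b1309c858984da0c4c26c16261350f1309a858984d0344c26616261328b13099418984c8344c2621a261310b13098818984bc3c4c25e062612e8913096858984b4244c25a062612c8b13096448984b20c4c2581e2612b8f13095c68984a83c4c2541a261290f130948689849c3c4c24e16261270313093048984980c4c24b122612583130928289848a3c4c2451a261228b1309103898486344c243162611f0d1308f478984720c4c238222611b8f1308dc189846c444c236122611a911308d448984660c4c2321a261188d1308c4589845c3c4c22e0626116891308b048984561c4c2291626114831308a078984501c4c2280a26113051308905)))))) (BT.node (nat_lit 268) (BT.node (nat_lit 266) (BT.node (nat_lit 265) (BT.leaf (Bx.mk (nat_lit 0x898a483c4c5241a262920b1314901898a420c4c51f222628f831314786898a3c0c4c51c222628e091314687898a323c4c516062628a891314486898a1a3c4c50b1226284891313f818989fa244c4fb1a2627d891313dc68989ee0c4c4f22226279091313c048989d63c4c4ea1a262740913139c48989c6244c4e216262708913137448989b42c4c4d7122626a0d131340689899e244c4cd12262638f13131c689898c244c4c41a262620313130c4898982144c4bf1a2625f091312f448989742c4c4ba12262598b1312cc489895a3c4c4ad1a262558f1312ac3898956144c4a912262540b131298689894c0c4c4a422262520f1312906898948244c4a40e262520513128c48989442c4c4a01a2625003131274789893a344c49d162624d0f1312686898932244c4961e2624a0f13125068989282c4c4931e262498d13124c5898924244c49112262478913123448989142c4c489162624411131220489890e2c4c48612262408913120048988f8244c47b122623b0b1311cc78988e62c4c4721226238091311a858988d23c4c45f162622f0913117048988b6244c456162622a0913114c48988a43c4c4511226226891311304898890244c4471626222111311107898888144c44316262218313110848988840c4c4411e262208d1311007898880344c43c1a2621c891310dc689886c3c4c4361a2621a0f1310d06898864344c43216262180d1310bc489885a244c42a1e262148b13109458988462c4c4221626210911310847898842144c4201e262100d1310705898838244c41c062620d8f13106c6898836144c418122620b8b1310587898828344c413062620783131038789881c344c40e0a262060f13102c48988123c4c4081a262040b1310145898808244c4040a262010b1310045898800444c3fe1e261ff0d130ff048987f63c4c3fb16261fc8f130fe418987f0344c3f606261fa8b130fc878987e4344c3f11e261f48f130fa068987cc244c3e11a261ed0b130f6458987b20c4c3d822261ec0f130f6068987b0244c3d80e261ec05130f5c78987ae344c3d51e261ea8d130f5458987a63c4c3d31a261e98b130f4858987a2244c3ce16261e68b130f2c58987942c4c3c71a261e18b130f0c4898784244c3c206261e08f130f0468987803c4c3c01a261df11130ef8389877a2c4c3ba1e261dd0d130ee81898772444c3b912261dc09130ed8789876c344c3b606261da89130ecc8898766244c3b30e261d90f130ec8689875e3c4c3af1a261d789130ebc389875e144c3ae1e261d68d130ea47))) (BT.leaf (Bx.mk (nat_lit 0x898ca6244c6530e26329851319447898ca2344c65116263278f13193c6898c9e2c4c64c1e263260b1319301898c923c4c6491626324831319184898c8a2c4c64412263200f1319006898c7e244c63b1a2631d831318e84898c722c4c637122631b871318dc2898c6a3c4c6351a2631a8b1318d04898c66244c63116263180f1318c06898c5c3c4c62e1a26317031318b47898c5a344c62d16263160f1318b06898c582c4c6291a263148b13189c4898c44244c621122630d8d1318685898c32244c615122630a831318504898c1c3c4c60e16263058f1318144898c08244c60012262ff0f1317e47898bf02c4c5f722262fb8f1317dc4898bee1c4c5f70a262f98d1317cc5898bde344c5ee1e262f68b1317b08898bd8244c5ec0e262f3091317982898bca444c5e322262f18b13178c4898bc60c4c5e11e262f0831317807898bc0244c5df22262ee891317648898bb2244c5d716262eb891317585898baa3c4c5d31e262e98b13174c1898ba4344c5d112262e78d1317384898b9a244c5cc1e262e60d1317285898b940c4c5c81e262e40d1317205898b8c244c5c51e262e28d1317145898b8a0c4c5c41a262e0831317004898b7e0c4c5be12262df031316f47898b7a344c5bc1e262db031316b87898b5a244c5ac16262d58b1316a87898b54344c5aa0e262d48f1316a46898b4e3c4c5a71a262d3831316984898b4a2c4c5a422262d20f1316904898b481c4c5a40a262d18f1316887898b44344c5a216262d0091316787898b3a244c59c1a262cb8913164c4898b24244c5901e262c80d1316405898b1c244c58d1e262c60b13162c5898b16244c58a22262c50f1316286898b14244c58a0e262c5051316247898b12344c58812262c3891316146898b0a2c4c5811e262c08d1315fc7898afe344c57e12262be0d1315f01898af42c4c57922262bc8f1315e46898af2244c5790a262bb0f1315d86898aec0c4c57516262ba031315c88898ae4244c57012262b78f1315bc6898adc3c4c56c1e262b60d1315ac4898ad43c4c56a1a262b50b1315907898ac8344c56406262b1891315845898ac0244c55f12262ad831315685898ab22c4c5581e262ab8f13155c5898aa60c4c5521a262a88f1315446898a9e3c4c54e12262a60313152c7898a943c4c54712262a20f1315106898a802c4c53f122629f831314f47898a7a344c53a1e2629d0d1314e81898a72344c5390e2629c0f1314e05898a6c2c4c536062629a0d1314d01898a62444c53112262978b1314ac6898a4e2c4c5271226293831314986)))) (BT.node (nat_lit 267) (BT.leaf (Bx.mk (nat_lit 0x898f603c4c7b01a263d709131eb44898f523c4c7a812263d309131e805898f3c2c4c79c06263cd0d131e683898f302c4c79806263cb8b131e5c1898f2c344c79412263ca03131e487898f1a3c4c78d1a263c58f131e287898f103c4c7871a263c00b131e004898efe444c77f1e263bf8d131dfc3898efe144c77e1e263bf0d131df46898ef63c4c77b06263bd11131de46898ef22c4c77816263bb8b131dd86898eec1c4c7760a263ba83131dd06898ee2344c76e22263b70f131db86898edc244c76d16263b60f131dac5898ed03c4c76516263b20b131d8c6898ec61c4c7630a263b10f131d886898ec22c4c75b1e263ad8d131d5c6898eac344c75412263a90b131d446898ea0344c74f1a263a60f131d2c4898e94244c74912263a08f131d046898e802c4c73f0a2639d09131ce04898e6e344c737162639a8b131cc42898e5e244c72f062639483131ca08898e50244c728062639311131c984898e4a2c4c72512263920b131c904898e480c4c7231e263908f131c846898e422c4c721062639009131c7c5898e3a244c718122638b8d131c584898e223c4c7111a263870d131c381898e1a2c4c70d122638603131c2c8898e163c4c70b1a2638589131c2c3898e16144c70a162638409131c1c6898e0e2c4c70706263830f131c186898e04244c6ff122637e91131be87898df4344c6fa162637d03131be44898df0244c6f7122637b0d131bd44898de83c4c6f416263798f131bcc6898de03c4c6f00e2637805131bb87898dd62c4c6ea1e263750d131ba81898dd00c4c6e7122636f89131b786898dbc2c4c6dd122636e0f131b706898db43c4c6da062636b0f131b586898da6344c6d3162636909131b2c5898d923c4c6c91a263628f131b146898d8a2c4c6c506263618f131b0c5898d803c4c6c01a2635f89131af44898d783c4c6bc1a2635e0b131aec7898d762c4c6b91e2635c87131ae02898d6c244c6b31e263598d131ac48898d5c3c4c6a812263530f131a8c4898d44244c6a11e2634c07131a3c7898d1e344c68b12263438b131a144898d042c4c680122633f8b1319f82898cee3c4c6771a2633b831319d47898cea344c674162633a091319d01898ce62c4c6731226339831319c87898ce4344c6711e263388d1319bc5898cdc444c66c1626336091319b01898cd63c4c66b1a26335831319a88898cd4244c6692226334891319a07898cd0344c6661226333051319905898cc4444c660162632d831319687898cb4344c65a0e2632c8b1319607898cae244c6561e2632b0d1319501))) (BT.leaf (Bx.mk (nat_lit 0x8992ce344c96612264b28913258478992c2344c9551e264aa8d13255058992a6244c9521e264a889132540589929e1c4c94f0a264a70f1325345899298244c94a12264a40d132518789928c2c4c9411e264a0831324fc7899278244c936122649a8f1324cc68992643c4c9321a264990b1324bc589925a3c4c92c1226492091324846899240244c91d122648e0b13246878992342c4c919122648a8313244c589921c244c90d1a264868b13243418992042c4c90116264800d1323e888991f4244c8f9162647a091323c458991d42c4c8e616264728913239078991c8344c8e212264700913237468991ba0c4c8db1e2646d8d13235c68991ae0c4c8d6162646a8f13235468991aa0c4c8d312264688b1323344899192244c8c81626464091323146899188244c8c3162645f891322f8489917a2c4c8bb1e2645d8b1322e848991683c4c8b41a2645a0b1322d01899162244c8af12264568913229c4899146244c8a212264508d132280489913e244c89d162644d8f13226c689912a244c89012264468b13222c58991103c4c88806264428f13220078991000c4c87f122643f091321f458990f8444c87c1e2643e0d1321f038990f40c4c878162643b0f1321d868990ec1c4c8760a2643a891321d058990e63c4c8731a264388b1321c048990da244c86c0626435911321ac78990d4344c86912264330f13219868990c23c4c8611a2642e0d13217058990b03c4c8581a2642c0313215c48990ac2c4c8551e2642a8d13215448990aa144c8531e264298b13214848990a2244c84b12264230b13211448990883c4c8441a2641d8f1320e44899070244c837122641b0b1320d448990643c4c8321a264128b1320908899048244c8240e2641205132080589903e244c81e1e2640f0d13207448990382c4c81a1e2640d0b132060489902e244c8141626409891320407899020344c81016264078f13203c689901e2c4c80e16264068f13203468990142c4c8091626404111320207899010344c8080e264040513201c489900c344c80112264000b131ffc7898ffc3c4c7f91a263fc8b131fd04898fe43c4c7f21a263f809131fbc7898fde2c4c7ed12263f489131fa04898fcc2c4c7e512263f209131f8c4898fc23c4c7e11a263f08b131f6c7898fb6344c7d91e263ec8d131f604898fae3c4c7d616263ea8f131f543898faa144c7d316263e88f131f446898f9c2c4c7cd12263e20f131f106898f880c4c7c11e263e089131f043898f7a2c4c7bc1a263de03131ee44898f6a3c4c7b51a263da0f131ecc4))))) (BT.node (nat_lit 270) (BT.node (nat_lit 269) (BT.leaf (Bx.mk (nat_lit 0x89963e144cb1e122658e0b132c687899634344cb1a122658d07132c6828996323c4cb191a2658b8b132c58589962a3c4cb151a265890d132c48189961e3c4cb0f162658783132c307899618344cb0c162658589132c2078996082c4cb0412265818d132c0c58996043c4cb0112265800f132c0068995fc344cafe122657f07132bf828995fa3c4cafd162657d8d132bd068995e63c4caf31a2657889132bbc78995dc2c4caee12265768b132ba858995d4244cae9162657489132ba088995d0344cae712265720f132b9068995c6244cae11a2657009132b7c78995be2c4cade122656d0d132b6458995b02c4cad71a2656b0b132b44589959c3c4cace1a2656509132b18189958a244cac5062656207132b087899584344cac2162656009132afc489957c3c4cabe162655e89132af07899576244cab8062655b8f132ad8789956c344cab2222655889132abc689955e0c4caac12265540f132a9c789954e344caa5122654f89132a78489952c2c4ca941e265490f132a4858995240c4ca8e1e265460d132a247899512344ca87162654389132a147899508344ca831e265418b132a0848994fe244ca7b1a2653d831329e848994f2444ca79122653c851329d848994ea2c4ca740a26539091329c458994dc244ca6d1a265368b1329b048994d0244ca6722265338f13299c48994c8244ca6316265310b13298488994c23c4ca611a265308913298438994c2144ca5e122652d8913296058994aa244ca4e1a265260f1329306899494244ca491e265218f13290c6899480244ca3e1e2651e891328e878994741c4ca3a0a2651b8b1328d818994580c4ca2b12265148f1328a468994503c4ca281a26514071328a028994423c4ca211a265108313287c889943e3c4ca1f122650f8713287c289943c3c4ca1e1a2650f0b1328687899434344ca191e2650c0d132858489942a2c4ca14122650989132848489941e2c4ca0c22265050f132828689940a3c4ca051a265008d13280058993fe244c9fe12264fc0f1327e068993ea244c9ed16264f60d1327a858993d2244c9e612264f10913277c48993ba244c9dc16264ed0b13276048993aa3c4c9d51a264e98b13273c5899378244c9b416264d78f1326bc689935e0c4c9ae12264d6091326a088993503c4c9a80e264d4051326985899342244c99a12264c98913263c189931c244c98c16264c60913262c88993163c4c98b1a264c58913262c3899316144c98a12264c48f13262468993122c4c97c1e264bd891325e478992e22c4c9701e264b5091325a45))) (BT.leaf (Bx.mk (nat_lit 0x8998e0344cc6f1626636031331a858998d4244cc681a266330b13319448998c0344cc591a2662c0b13316048998ac344cc560e2662b0513315448998a83c4cc541a2662a0b133148789989e2c4cc4e22266270f133138689989c1c4cc4e0a26626071331302899896244cc451a266220f13310c7899886344cc3f122661e8f1330e85899874244cc39162661c0f1330e048998642c4cc311a266178f133090889983e3c4cc1e1a2660d0f13306868998340c4cc19122660c09133060389982e244cc14122660a0713304c58998243c4cc0f12266068b133034489981a0c4cc0c16266058f1330287899814344cc0916266038b13301c489980c344cc051a266008f1330041899800244cbfe06265fe0f132fec48997f43c4cbfa1a265fc8b132fe418997f00c4cbf712265fb87132fd878997ec344cbf316265f983132fc888997e43c4cbf21a265f907132fc828997e23c4cbf11a265f88b132fc078997d6244cbe71a265f383132f9848997c8344cbe11a265f08b132f8418997c0244cbde1e265eb8f132f5c68997ae0c4cbd422265e98f132f4c68997a62c4cbd112265e68f132f3438997983c4cbcc1a265e589132f1c489978c2c4cbc612265e18d132f00389977e2c4cbbe0a265de0f132ef0589976c0c4cbb012265d68b132ea858997523c4cba91a265d40f132e844899740244cb9c16265cd0b132e60489972a3c4cb951a265ca89132e5428997263c4cb931a265c98b132e407899720344cb9016265c78d132e38789971c344cb8e16265c609132e2c5899716244cb8a1e265c50d132e24889970e3c4cb871a265c289132e1058996fc2c4cb7e12265be0f132df068996f2244cb790e265bc85132de078996ee3c4cb761e265bb0d132dd858996e83c4cb7312265b78d132dbc18996dc3c4cb6e1a265b689132dac48996d2344cb6916265b389132d8c68996c42c4cb6112265b087132d8428996be2c4cb5c16265ad0f132d6868996b40c4cb591e265ac8d132d6458996b03c4cb581a265ac0b132d5c58996aa3c4cb551a265a883132d4078996922c4cb461a265a303132d1458996882c4cb4322265a18f132d0c6899686244cb430e265a185132d0868996823c4cb3f1e2659f8d132cf07899678344cb39162659c89132ce41899670344cb371e2659b8d132cdc589966a3c4cb351a2659a83132cd048996661c4cb2d12265958b132ca818996522c4cb29122659409132ca0189964e344cb27062659311132c98789964a344cb2112265900b132c7c889963e3c4cb1f1a2658f89132c7c3)))) (BT.node (nat_lit 271) (BT.leaf (Bx.mk (nat_lit 0x899b70344cdb816266db891336d85899b64244cdb116266d8891336c41899b603c4cdb01a266d78d1336b01899b54244cda916266d4891336a41899b503c4cda81a266d30f1336986899b4c2c4cda606266d2911336943899b462c4cda312266d08f1336846899b420c4cda022266d00f1336804899b3e244cd9c12266cd8b13366c4899b360c4cd9a1e266cd0d1336684899b341c4cd9a0a266cc8f1336646899b322c4cd981e266cc0d13364c7899b26344cd9316266c9831336444899b123c4cd861e266c30d1336145899afc244cd7c1a266bd0f1335e47899af22c4cd751e266ba8d1335d05899ae62c4cd7212266b80b1335bc3899adc244cd6c1e266b60d1335a85899acc344cd6316266b08f1335846899ac0244cd5e1e266af091335782899ab2444cd590a266ac091335603899aac444cd5616266aa911335545899aa6344cd5216266a9091335387899a9c2c4cd4e06266a6891335307899a943c4cd4a1a266a5031335205899a8e244cd461e266a18f13350c1899a84344cd4216266a0891334fc7899a7e344cd3f062669f0b1334f45899a762c4cd3406266990b1334c84899a60444cd301e266980d1334c04899a601c4cd300a266960b1334ac6899a503c4cd281a26690871334842899a3e3c4cd1f162668f091334745899a383c4cd1c1a2668d0f1334681899a303c4cd18162668a0f1334506899a263c4cd131626689091334344899a18244cd0a12266848b1334244899a120c4cd080e266840513341c6899a0c144cd0512266818f13340c58999fe244ccfe1e2667e031333e868999f22c4ccf8162667b0d1333c488999e23c4ccf11226678111333c048999de1c4cceb1626675891333a468999d2144cce816266728f13339468999c03c4cce01a2666f0b13335078999a6244ccd016266670913333458999943c4ccca06266648913331c689998e2c4ccc512266618d13330078999800c4ccbe162665e8b1332f088999783c4ccbc1a2665e071332f028999740c4ccb8162665c091332dc589996c444ccb61e2665b091332d8389996c144ccb216266548f1332a4689994c244cca51626650911332844899938244cc991e2664c0f133260689992e244cc961e2664b0b13324c7899926344cc9316266490f13324868999242c4cc90062664711133238789991c344cc8e0e266470513323068999180c4cc891e266448d13322458999120c4cc871a266420713320c68999062c4cc801a2663f0f1331f868998f83c4cc7c1a2663e0b1331ec78998f62c4cc79122663a0f1331d06))) (BT.leaf (Bx.mk (nat_lit 0x899ea20c4cf4a12267a48d133d245899e8a244cf3e1e2679f0d133ce45899e641c4cf320a267988d133cbc5899e582c4cf2b16267948f133ca04899e4e3c4cf27162679309133c946899e422c4cf1d1e2678e8d133c6c5899e343c4cf1a1a2678d09133c683899e34144cf191e2678c09133c584899e2a3c4cf1516267898f133c4c6899e20244cf0f162678783133c388899e1c3c4cf0e0e267860f133c306899e163c4cf0b1a267850b133c284899e120c4cf081e267840d133c185899e0c244cf05162678289133c108899e083c4cf040a267818f133c0c6899e062c4cf01122677f0b133bf47899dfa344cefc1e2677e0d133bf05899dee3c4cef71a2677b83133bd88899dec344cef60e2677a8b133bcc7899de6344cef21a2677889133bc05899ddc3c4ceee162677609133bac5899dd4444ceea1a2677507133b846899dc02c4cede1e2676f0d133b784899dbc144ceda122676c8f133b645899db02c4ced71e267690d133b404899d9e3c4cecf1a267670b133b307899d8c3c4cec616267600b133af46899d7a2c4cebc122675c0f133ad06899d642c4ceb0122675709133aa05899d4c3c4cea61a2675291133a944899d483c4cea312267508b133a687899d32244ce98162674b89133a4c5899d260c4ce91062674809133a244899d102c4ce851226740911339dc5899ce0444ce701e26738071339c02899cde3c4ce6f1a267370d13399c6899ccc244ce66062672e0913396c7899cb6344ce591e2672c8d1339644899cb21c4ce590a2672c0b1339507899ca42c4ce4e12267268b1339307899c98344ce4b1e267248f13391c1899c882c4ce431626721891339086899c84144ce3b162671d111338e87899c741c4ce391e2671b8b1338dc4899c6c344ce36122671b071338d82899c663c4ce301e267180b1338b44899c54244ce271626713891338947899c3e344ce1f062670f091338706899c302c4ce18122670b891338587899c2a3c4ce151a267078f13383c6899c1e0c4ce0d16267068913382c7899c16344ce0b12267058713382c2899c143c4ce0a16267048d1338186899c0c2c4ce031226700091337f07899bf82c4cdfc06266fd891337e84899bf40c4cdf71e266fb091337d45899be43c4cdf112266f8091337bc4899bd42c4cde91e266f38d1337946899bc6244cddc22266ed8d1337647899bb2344cdd916266ec0b13374c7899ba62c4cdd212266e8891337404899b9e3c4cdc81e266e28b1336f85899b7a2c4cdbc1e266de0d1336f04899b781c4cdbc0a266dc8d1336e07))))))) (BT.node (nat_lit 280) (BT.node (nat_lit 276) (BT.node (nat_lit 274) (BT.node (nat_lit 273) (BT.leaf (Bx.mk (nat_lit 0x89a2322c4d118122688909134444789a2222c4d1101e268870b134434589a2181c4d10a16268848f134424689a20c244d1051a268828b134410489a1f02c4d0f6122687a09134398489a1c83c4d0e41a268719113438c489a1c20c4d0e0122686f0f134378189a1aa3c4d0d51a2686a83134350489a1a03c4d0d01a2686809134340389a1a0144d0cf122686689134330489a18e244d0c6122686289134310689a184444d0c21e26861071342f8589a17a344d0bd0e2685d0d1342e8589a1682c4d0b012268578d1342bc589a15a2c4d0ab1e268558d1342a8589a154244d0a81a268510b134278589a138344d09c162684b0913423c689a11a3c4d08b1e2684509134220589a10e244d0870a268430b134210789a108344d0840626840091341f0789a0f8344d07a162683d091341e4489a0de2c4d06e1a2683689134194789a0ca344d06506268320f134190689a0c63c4d06212268308f13417c789a0b4244d056122682a8b13414c789a0a6344d04f16268258f13412c589a092344d0491626823891340f8589a072244d038162681b8d1340dc589a0602c4d02e1e26814111340a0689a04e3c4d0241a2680c85134060689a02e244d0161a2680989134038489a0183c4d00c1a2680603133ff87899ffc344cffa16267fd09133fe06899ff01c4cff80a267fb8b133fdc1899fec344cff416267f90f133fc86899fe23c4cff11a267f889133fc43899fe2144cff01e267f70b133fb47899fda244cfed0e267f685133fb05899fd4344cfe71e267f18f133f8c6899fc60c4cfe20a267eb8f133f5c6899fa83c4cfd41a267ea0b133f501899fa43c4cfd012267e789133f245899f862c4cfc306267e10b133f081899f823c4cfc10a267e00f133f006899f7e2c4cfbf12267df0b133ef44899f7a144cfbc12267dd8d133ee47899f72344cfb916267dc11133ee04899f6e2c4cfb31e267d983133ec84899f622c4cfb00a267d78b133ebc4899f5c2c4cfac1e267d60d133eb05899f54344cfa81e267d40d133e984899f483c4cfa112267ce0b133e704899f36244cf9a12267cc8f133e646899f322c4cf9716267cb11133e587899f2c344cf8d12267c50f133e286899f122c4cf881e267c409133e203899f10144cf8712267c189133e085899f022c4cf8112267c083133e005899efa3c4cf7d1a267be83133df04899ef81c4cf7c0a267bd89133de86899ef2244cf7816267b889133dc05899ede3c4cf6f0e267b785133db85899ece244cf651e267b083133d7c6899ebe0c4cf5606267a88f133d446))) (BT.leaf (Bx.mk (nat_lit 0x89a5603c4d2b01a269570f134ab8689a55c0c4d2a7162695383134a94889a54a3c4d2a51a2695289134a90789a542244d2a0122694c8d134a64589a51e2c4d28d1e269468d134a2c689a5160c4d28a12269448b134a24489a50e444d2871e269438d134a14589a506344d2821e269410d1349f8489a4fa244d27a1e2693d0d1349c4489a4cc1c4d265122692f0b134970489a4b0244d257162692a8f134954689a4983c4d24c1a269260b13491c589a48c3c4d2461a2692305134914489a4863c4d2431a26921091348ec789a476344d23b162691c091348dc489a46c344d23616269188d1348c4589a460244d22c1626915891348a0389a44a2c4d22416269118d134884589a440444d22012269100513487c589a428344d21212269088f13483c589a41a344d20b16269040d134820189a408244d20116269000b1347f8689a3f8244d1f822268fb911347cc789a3e6344d1f11e268f7891347b8589a3d62c4d1eb12268f48d1347a0489a3cc244d1e51e268f28d134794589a3c6444d1e21e268f10d134788589a3c21c4d1df12268ef0b134770589a3b63c4d1db16268ed09134764589a3b2244d1d722268eb8d13475c289a3ac3c4d1d41a268ea0713474c789a3a6344d1d316268e88f13473c689a39e2c4d1ce16268e60f134728789a394344d1c71a268e38913471c289a3863c4d1c31a268e183134700789a3743c4d1b81e268dc0d1346dc589a36c2c4d1b512268da0b1346bc789a356244d1ab06268d40f1346a0689a3502c4d1a71e268d38b134694189a346444d1a31e268d18d134684789a3420c4d19f12268cb8b13465c489a32e0c4d19616268cb09134658189a3243c4d19216268c903134644889a320444d1900e268c70b134634589a314244d1891a268c311134618389a30c144d18306268c111134608489a3003c4d1801a268bf091345f4589a2f8244d1791e268bc8d1345e4589a2f0244d17716268bb0f1345b8789a2d62c4d16a0e268b5051345a4789a2d2344d1681e268b40d13459c589a2cc2c4d16612268b28913458c589a2c4244d1581a268ab0f134558689a2a6244d14f16268a68b134530489a2963c4d14b1a268a58b134518789a28c344d1460e268a28d134514589a288244d1401e2689d8d1344ec589a2743c4d1391e2689c8d1344e0589a26c344d136122689b071344d8289a26a3c4d12d16268950f1344a8689a2540c4d12912268940b13449c589a24c444d1261e2689309134498389a24c144d1241a268920b13448c489a23e3c4d11c1e2688e0313446c4)))) (BT.node (nat_lit 275) (BT.leaf (Bx.mk (nat_lit 0x89a87a3c4d43d1a26a1e8b1350f0489a8763c4d43b1a26a1c8d1350e0489a86c2c4d4351226a1a111350d0789a868344d4341226a1a071350d0289a860244d42e1e26a170d1350ac489a8543c4d42a1a26a1409135098489a84a3c4d4251626a120d135090589a842244d4201626a0f0913506c589a836244d41a0626a0b8f13505c689a82e2c4d4151e26a0a8d135040889a820244d4100e26a078b135024789a80e244d4041e26a020d13500c589a8060c4d4021e26a0109135008289a8023c4d40116269ff8f134ffc189a7fc244d3fd22269fe85134ff0789a7f6244d3f516269f68b134fb0889a7d83c4d3ec1a269f607134fb0289a7d6444d3eb0a269f48f134fa4689a7d0244d3e712269f30d134f98589a7ca244d3e41e269f20b134f6c589a7b60c4d3d71e269eb8d134f50689a7a4244d3cd12269e58f134f2c689a792444d3c91a269e489134f24389a792144d3c41e269e20d134f0c489a7822c4d3c012269de89134eec489a76a244d3b11a269ce89134e6c389a72e3c4d3971a269ca8f134e4c489a720344d38c1a269c589134e28489a712244d38906269c189134df8889a6fa2c4d37906269bc03134ddc789a6ec344d37406269b989134dc4189a6da2c4d36d12269b603134dac789a6d6344d3691a269b383134d90789a6c8344d3611e269b08d134d84189a6c0244d35f22269af8d134d7c489a6be144d35d1e269ae8d134d74189a6b8244d3561e269ab0d134d50789a6a82c4d35406269a809134d3c489a6963c4d34a12269a48b134d20489a68c2c4d34506269a191134d08489a682244d3401a2699f03134cf0489a676244d3391e2699c8d134cc4689a65c3c4d32e1a2699689134cb0489a656444d32b12269950b134c9c489a64e0c4d32512269908f134c80389a63e2c4d31e062698e91134c74489a638444d31c062698d83134c64889a62c244d31506269898b134c48489a622444d3111e269888d134c44489a6221c4d3110a269880f134c3c189a61c244d30d12269860f134c28789a610244d3061a269810b134c04789a6021c4d2ff062697f09134bf4489a5f6444d2fb1e2697d89134bec389a5f6144d2fa122697c8f134be4589a5ec244d2f312269790f134bc0589a5da2c4d2ea122697289134b90389a5c62c4d2e1222697083134b80189a5bc3c4d2dd222696e8d134b6c489a5a62c4d2d122269688f134b44689a5a21c4d2ce122696611134b30689a592344d2c71e269618b134b0c489a5802c4d2bc162695b8d134ad8689a568444d2b40a269598b134acc4))) (BT.leaf (Bx.mk (nat_lit 0x89ac28244d6131e26b098d13584c489ac261c4d6130a26b090f135848589ac183c4d60c1a26b040b135820189ac0a344d5fd1226afe0f1357ec589abf6244d5fa1626afc8f1357e4689abf2244d5f90e26afc851357e0789abf02c4d5f21e26af90d1357c8589abe03c4d5ec1a26af60b1357b0189abce244d5db1226aec0f135760689abb02c4d5d11e26ae88d13572c689ab900c4d5c61e26ae20f135710189ab803c4d5c01a26add8f1356e4789ab72344d5b90626adb111356d8689ab6c244d5b60e26adb051356c4489ab543c4d5aa0626ad48913569c789ab4e344d5a71626acc8f135654489ab263c4d5931a26ac983135640589ab1e244d58c1a26ac503135624489ab0e444d5871a26ac309135614689ab08244d5831e26ac18b1355f0489aaf63c4d57b1626abb091355d0789aae82c4d5731e26ab98d1355c8489aae0244d5671626ab18913556c889aab63c4d55b0e26aac8f135564689aab0244d5561626aa88b13553c889aa9e344d53b0626a9c8f1354e0489aa6c0c4d5341e26a9a0b1354cc589aa66244d52e1e26a968d1354a4489aa4e244d5261626a920913548c889aa46344d5230e26a9109135480689aa402c4d51b1226a8c09135458789aa2c344d5141e26a8a0b13543c789aa1e2c4d50d1a26a858b135428689aa142c4d5061e26a830d13540c789aa06344d5030626a80111353f8789a9fc2c4d4fe0626a7d8f1353ec689a9f62c4d4fb0626a7d091353c4589a9e2244d4ee1226a760b1353a8189a9c40c4d4dd1226a6a8f135354689a9aa2c4d4d50626a6a09135348589a998344d4c91626a628d135314189a97c3c4d4bc1226a5c831352e0689a9623c4d4b10e26a56031352ac189a9543c4d4aa1a26a548f1352a4689a9463c4d4a01626a4f8f135270889a936244d49b0626a4d03135264889a9323c4d4982226a4c0d135254489a9263c4d4931a26a498313523c789a91e1c4d48f0a26a460b13522c289a914344d48a1626a440f135220189a90c344d4851626a420b135208189a9022c4d4801626a3f911351f8589a8f82c4d47a1e26a3d0d1351e8589a8ea2c4d4741e26a3a071351d0289a8e63c4d4721226a38891351bc789a8d2244d4681e26a330f135198589a8c0244d45e0626a2e8f135174689a8b82c4d45b1a26a2d0d135164589a8b2244d4581626a2c0913515c389a8ae144d4561a26a2a89135150889a8a8244d4540e26a298b135144889a8a2244d44e2226a270d13511c489a886344d4421226a208f135104689a87c344d43e1226a1f071350f82))))) (BT.node (nat_lit 278) (BT.node (nat_lit 277) (BT.leaf (Bx.mk (nat_lit 0x89af7c344d7be0a26bdd0b135ee8189af72244d7b70626bda0d135ecc489af643c4d7ad2226bd609135eac589af56244d7a81226bd403135e98789af48244d79f1226bcf09135e74689af2a244d7821a26bc009135dfc489aefe0c4d77a0a26bbc87135de0589aeee2c4d7741e26bba0d135dd0389aee62c4d7711226bb883135dc0689aede344d76e1e26bb583135d94489aeb6444d75b0e26bac8d135d50789aea6344d7511626ba78f135d2c189ae88244d73f1626b9f0f135cf8689ae7c144d73a1626b9b03135cd4889ae6a0c4d7321626b9885135cb8889ae5c244d72e0a26b968f135cb4689ae5a2c4d7271626b9309135c8c889ae463c4d7231a26b9187135c8c289ae423c4d7191626b8c89135c58789ae2c344d7161626b870f135c38689ae1a3c4d70c1226b858d135c28489ae10244d7050626b8211135c10289ae042c4d7021226b8091135c04389ae000c4d6ff1226b7f83135bf8889adfc0c4d6fd1a26b7e83135bf0889adf83c4d6fb1a26b7d89135be8289adf02c4d6ec1a26b7589135ba4489adce244d6e61a26b730b135b88489adbc0c4d6dd1226b6e09135b6c689adb6244d6db0e26b6c8b135b60589adaa344d6cf1226b658b135b20689ad8c2c4d6c61226b6211135b10789ad88344d6c41226b6205135b08789ad84344d6c21626b5c8f135ae4689ad70244d6b31626b5889135abc889ad5e3c4d6af1226b5785135ab4689ad52244d6a81e26b540b135a9c789ad4e2c4d6a31626b5009135a7c389ad383c4d69c1a26b4e03135a60689ad2e244d6961a26b4b0b135a50489ad222c4d68f1e26b470d135a38589ad162c4d68a1226b4507135a20789ad102c4d6871e26b410f135a08589ad023c4d6801226b3f8f1359fc689acf6244d6791626b3c0f1359d8489acea2c4d6751226b3a031359cc689ace6144d6721e26b380b1359b8789acd63c4d66b1626b338913599c189accc344d6602226b2f8b13597c489acbc244d65e0626b2e8f135974689acb83c4d65c1a26b2d0b135964789acb2344d6581e26b2c0d13595c589aca80c4d6510626b2711135938689ac9c244d64e0e26b2705135934789ac9a2c4d64c1626b258f13592c189ac943c4d64a1a26b250b135920589ac82244d6401626b1f8f1358fc689ac7e2c4d63d1626b1e0f1358f0689ac6a244d6341a26b1a071358c8589ac5e444d62d2226b15111358a8589ac502c4d6231e26b118d135888589ac3c0c4d61b1626b0d03135864789ac32344d6181e26b0c0d13585c789ac2e344d6161226b0a8d1358505))) (BT.leaf (Bx.mk (nat_lit 0x89b2aa444d9551a26caa87136554289b2a83c4d9541a26ca90b136544589b292244d9461a26ca28d13650c689b27e2c4d93e2226c9f0f1364f8689b27c1c4d93e0a26c9e8f1364f4689b278244d9371626c960f1364ac489b2522c4d9261e26c9289136490589b244344d91e1626c8e0d136470389b2323c4d9161626c8a89136438489b21a3c4d90c1626c830d1363e8489b1e8444d8f22226c79091363c0189b1dc444d8ee1226c74911363a4689b1d2244d8e90e26c7383136390689b1c62c4d8db1a26c6b8913634c789b19a244d8cc1a26c6591136318789b18c344d8c51e26c628d136310789b188344d8c31626c608f136304689b182244d8c10e26c60851362f0789b178244d8bb1a26c5d0f1362e8689b1742c4d8b91e26c5c8d1362e0689b16e3c4d8b41226c578f1362bc589b15c3c4d8ad0626c558f1362a8689b14e444d8a71226c530b136294189b146444d8a20626c5091136284789b142244d8a01a26c5009136278789b13a244d89b1626c4c8b136260489b12c344d8941626c498b136248389b124144d8911226c480b13623c189b11c344d88e0e26c4705136234489b116344d88b0e26c450d136224789b112344d8881e26c440b13621c789b10e2c4d8861226c4109136208389b1003c4d8801a26c3f091361dc489b0ec3c4d8761a26c3b0b1361d0489b0e43c4d8681626c328f136188489b0c40c4d8610a26c300b136180489b0bc244d85e0a26c2e8b136168189b0b2444d8591626c2c89136160889b0b02c4d8581226c2c0313615c789b0a6244d8521626c288f136144289b0a03c4d84f1226c268d136134289b08e3c4d8471a26c218f13610c689b0862c4d8421226c208d136104589b080244d83e1e26c1f0d1360f4489b078444d83c1a26c1e091360f0389b078144d83a1626c1d091360e4789b06e3c4d8371626c1b831360d8789b06c344d82d1226c160b1360a4689b0522c4d8281e26c138f136094689b03e344d81f1626c0f09136074489b030344d8151626c0a0f136050289b024444d8121e26c090d136044789b0222c4d80f1e26c078d13603c189b0162c4d8091226c0303136000489aff8244d7fa2226bfc11135fd4589afe63c4d7e41626bf083135f80589afc00c4d7df1e26bef8d135f78789afb60c4d7d91226beb8f135f5c689afa8244d7d22226be90f135f48689afa23c4d7d11a26be789135f34789af9a0c4d7cc1226be58d135f2c489af90344d7c80626be389135f18689af8c244d7c60e26be20d135f04889af82244d7c01e26bdf8b135ef87)))) (BT.node (nat_lit 279) (BT.leaf (Bx.mk (nat_lit 0x89b650344db261626d9289136c90489b6462c4db221e26d9089136c80589b638344db1b1626d8d89136c64889b6323c4db191a26d8c89136c64389b632144db161e26d8b0d136c50689b6243c4db121a26d880b136c20489b60e3c4db051e26d8283136bfc589b5fc444dafe1e26d7f09136bd0489b5e2244daea1226d730b136b94489b5c23c4dae11a26d6e8f136b54789b5a0344dacd1e26d668b136b2c789b596344daca1e26d6189136b04589b57e2c4dabd0626d5e0d136aec489b5722c4dab81626d5b8f136adc689b56e1c4dab70a26d5b0f136ad8689b5663c4dab31a26d5983136ac0789b560344da9f1626d4c91136a58889b526344da8f1626d470d136a1c489b50c244da860a26d4109136a04789b4f6444da7b1226d3c8b1369e0489b4ec3c4da761a26d3a891369d0489b4e02c4da6e1a26d358f1369a0789b4d0344da671e26d330f136994689b4c82c4da610626d300d136980189b4be444da581e26d2c0d136960389b4b0144da561626d2a8f136954389b4aa144da4c1226d2489136920689b48e2c4da471226d230b136914789b48a344da450e26d2285136904789b482344da410e26d200f136900689b47e344da3d1e26d1c8f1368e4689b470244da371226d1a091368bc689b456144da2a1226d140f1368a0289b44e3c4da271a26d138b136898489b44c0c4da251e26d110d136880589b43c0c4da1d1226d0e09136834489b4180c4da0b1226d0503136824189b410344da041a26d019113680c489b402244da002226d00091367fc389b3ea444d9f51226cfa111367cc789b3e4344d9f11e26cf88d1367bc789b3de1c4d9e41226cf18f13678c689b3c2344d9db2226ceb8f136754489b3a82c4d9d31e26ce98d136744489b3a0444d9cf1e26ce783136738889b39c3c4d9ce1226ce691136734489b396144d9ca1e26ce50d136720789b390344d9c80e26ce40513671c789b38e344d9c61226ce28f136714489b38a1c4d9c50a26ce20b136700689b3743c4d9b42226cd9911366c8689b35c444d9ae1e26cd70d1366a0889b34e3c4d9a71a26cd30f136698689b34c244d9a60e26cd305136694589b3443c4d9a01626cce8f136674589b338244d9911626cc78f136630789b318344d98b1226cc50d136628489b3141c4d9821e26cbe0f1365d8889b2ec244d9760626cba8b1365d4189b2e4244d96d1a26cb50b1365a4889b2d2144d9682226cb30b136590589b2c62c4d9612226cb009136570789b2b8344d95b1626cac8d136564389b2b2144d9581e26cac0d1365605))) (BT.leaf (Bx.mk (nat_lit 0x89ba7a144dd3c1226e9d8f1374ec689ba74244dd391626e988b1374c0589ba5e144dd2e1a26e930f137498189ba4a3c4dd251a26e9189137488789ba442c4dd201226e8c0913745c489ba2a444dd141626e8983137448889ba223c4dd0f1e26e870b137428789ba122c4dd081626e8303137410589ba06444dd011626e7f8b1373f8889b9fc3c4dcfe0e26e79891373cc289b9e43c4dcf21a26e790b1373c0189b9de444dcef1226e77091373b8189b9da344dcec1e26e76091373ac889b9d6244dce81626e740913739c689b9ce1c4dce70a26e710d137384789b9c0244dcdc1626e6e09137368789b9b4344dcda0e26e6b09137350789b9a8244dcd40e26e6791137338589b98e3c4dcc51e26e628d137310689b980344dcbd1626e5e0b1372ec789b976144dcba1e26e5d0d1372e0489b970144dcaf2226e578b137284789b942344dc9f1226e4e8d137270489b936244dc9a1226e4c0d137254189b9280c4dc8f1226e470b137228589b9140c4dc891a26e438d137214889b908344dc832226e400f1371fc489b8fc244dc7b0e26e3d851371e8789b8f02c4dc741e26e370f1371b8689b8d6244dc651226e308b137174789b8b42c4dc591a26e2c8913715c789b8ae344dc570626e2a8913714c589b89a2c4dc4d0626e260d137128689b8940c4dc481226e230f1370fc489b878444dc3a1226e180d1370bc489b848244dc231226e108b137070689b8300c4dc141e26e0a0b13704c489b822244dc0b2226e0589137028589b812444dc071626dff8f136ff4489b7f0244dbf71a26dfa89136fc0689b7d60c4dbe91e26df289136f7c489b7bc244dbdd1626de491136f20889b7902c4dbc71a26de38b136f14589b78a244dbc50626ddf8f136efc689b774244dbb61a26ddb0b136ed0789b7680c4dbb31226dd911136ec8689b7641c4dbb20a26dd80f136ea0789b74e3c4dba11e26dd009136e6c789b736344db981e26dcc0d136e5c489b728444db941226dc98f136e4c689b720244db8a1226dc48b136e20489b706244db7e1a26dbe0d136de0489b6dc2c4db661226db10f136d7c789b6be344db5f0e26dad8b136d6c489b6b4444db5a1e26dad0d136d68489b6b41c4db551626daa09136d38689b6983c4db4c1a26da489136d20789b68e3c4db471a26da30f136d10789b688344db431e26da089136cf8789b67c344db3e0626d9e8b136cd8789b66c344db360626d9a89136cd0589b668244db332226d9909136cc0489b660144db2f1a26d978b136cac589b6523c4db291a26d9487136ca07)))))) (BT.node (nat_lit 284) (BT.node (nat_lit 282) (BT.node (nat_lit 281) (BT.leaf (Bx.mk (nat_lit 0x89bcc8444de641226f3183137988589bcbe0c4de5e1e26f2e0313796c589bcb40c4de541e26f288f137944689bca21c4de510a26f280f137940289bc94144de411626f1f0b1378f0189bc72244de390a26f1c091378e0389bc6c2c4de341626f198f1378cc689bc643c4de321226f188d1378c4489bc5e2c4de2e1626f168f1378b4389bc5a144de2c1226f158f1378ac689bc522c4de281e26f140d1378a0489bc501c4de280a26f138d13789c589bc4a2c4de230a26f1091137884389bc42144de201626f0f8b13787c489bc36444de1a0626f0c91137864489bc30444de161a26f0b0513784c589bc203c4de101a26f0685137824789bc12344de041e26f020d137808889bc04244de012226f0089137804389bbfe444ddff1226eff111377f8589bbfc244ddfd1e26efe0d1377d0689bbe03c4ddf01a26ef8091377c0389bbda2c4ddeb1226ef48f1377a4689bbd0244dde21a26ef10b137778489bbba2c4dddd1226eee83137770889bbb4244ddd71226eeb09137750589bba63c4ddd31a26ee98713774c289bba2244ddcf1e26ee78d137738889bb9c244ddcc2226ee609137728889bb902c4ddc61e26ee30d137718189bb8a444ddc51226ee20b137708589bb782c4ddbb1226edd831376e8689bb6c444ddb52226eda0f1376d0689bb680c4ddb32226ed9891376c8889bb603c4ddac1626ed50d13769c789bb4e344dda70626ed30b137694589bb48444dda41e26ed20d137690489bb481c4dda40a26ed18b137680489bb3e3c4dd9d1626ece0f137670689bb381c4dd9c0a26ecc89137660589bb243c4dd921a26ec88b137640389bb1c344dd8d1a26ec68b13762c789bb16344dd8b0626ec30b137610589bb08244dd840626ec10f137608689bb023c4dd811a26ec00f137600689bafe244dd7e1626ebf091375f8189bafa3c4dd7d1a26ebe0f1375f0689baf6444dd7b1226ebd851375e8689baee244dd752226eba8b1375d4489bae8244dd740626eb98f1375cc689bae60c4dd722226eb90f1375c8489bae2444dd711226eb80f1375b8589badc244dd6d1a26eb6871375b0789bad63c4dd6b1a26eb5091375a4489bad03c4dd681226eb4071375a0289bace244dd661e26eb30d137590789bac8344dd641626eb109137580789babc344dd5c1e26eae03137568489bab0444dd581e26eac09137560389baac244dd551a26eaa8b137544489ba983c4dd4c0626ea59113752c489ba94444dd481626ea409137520189ba8e344dd461a26ea18f13750c189ba7c2c4dd3d1e26e9e891374f43))) (BT.leaf (Bx.mk (nat_lit 0x89c0d2244e068122703209138188789c0c02c4e060122702d8b138164689c0b03c4e058162702909138138789c09c344e04e162702689138130489c096444e04b122702489138120689c088244e0430e270210b138104789c082344e03e162701e8b1380f0789c078344e03b1a2701c891380e0589c064244e031122701207138080789c03e2c4e01d122700c8b138060689c02e344e01516270098d138034489c018244e00406270018b137ff8889bfdc3c4dfee1a26ff60d137fac889bfd6244dfe61226ff18f137f88589bfc22c4dfe01e26fef0d137f78189bfba244dfd70626feb0b137f54489bfa8444dfd41e26fea0d137f50289bfa6344dfd01e26fe80d137f40289bf9a3c4dfcd1a26fe309137f0c689bf842c4dfc02226fe00d137f00389bf80144dfb91e26fdc09137ed8689bf6c244dfb60e26fd70d137eb4589bf56244dfa81626fd409137e9c689bf4e144dfa51e26fd28d137e8c589bf44244dfa01626fcb8b137e58489bf283c4df941a26fc98f137e4c589bf24244df911226fc68b137e28689bf0e3c4df861226fbf89137dec489bef0244df751a26fb989137dbc489beda2c4df6c1226fa88b137d40589be9c2c4df4d1626fa683137d20589be8c2c4df450626fa20b137d0c789be823c4df3f1e26f9f8d137cf8589be7c244df391626f9c83137cd4489be66244df330626f988f137c8c489be402c4df1d1e26f8e09137c6c589be34344df131a26f858f137c28589be122c4df081226f838b137c14889be0a244df041626f810b137bfc589bdfc2c4defd0626f7d8f137be4589bdea2c4def21226f780f137bc0389bddc2c4deed1e26f7685137bac489bdd60c4deea1e26f748f137ba0689bdba2c4ded91e26f6c83137b60489bdac2c4ded51e26f6a85137b50789bda8344dece1a26f668b137b30789bd98344decc0e26f6605137b2c489bd82244dec10e26f5f11137af4789bd7a344debc1626f5d91137aec489bd742c4deb91626f5c0b137adc589bd6a2c4deb42226f590b137aac789bd560c4deaa2226f5509137aa4289bd4e444dea70626f530b137a94889bd48444dea31e26f518d137a8c389bd46144dea21e26f5107137a88289bd3e3c4de9f0a26f4e0b137a60789bd30344de971226f4b11137a58389bd282c4de901a26f4809137a38589bd183c4de8c1a26f450b137a24389bd12144de861626f4287137a14289bd021c4de810a26f400f1379fc789bcfa2c4de7b2226f3d871379ec289bcf42c4de790a26f3c0d1379a8789bcd02c4de671e26f33111379945)))) (BT.node (nat_lit 283) (BT.leaf (Bx.mk (nat_lit 0x89c4b4344e2591a2712b0f138958689c4ac0c4e24f162712707138930189c4962c4e24a1e271250d138920489c48a2c4e2431e271218d138908689c482244e240122711b0f1388d0789c468344e2321a27119031388bc789c45e1c4e22e16271128d138880589c440244e21f122710f0d138870589c434244e2161e2710a0f138850689c4280c4e21312271090b138844789c4222c4e2071a271028d13880c589c404444e2021a2710109138808289c3fe3c4e1ff1a270fe8b1387ec289c3ea3c4e1f41a270f98b1387bc789c3da444e1e71a270f30b138790889c3c8344e1e40e270f205138788589c3be344e1db1e270ec8d138760789c3b02c4e1d516270e88f13873c489c384344e1c012270df891386e4589c36e444e1b71e270db8d1386dc389c36e144e1b616270da891386bc589c35e0c4e1ad1a270d6111386b0489c350444e1a806270d383138698789c34c0c4e1a522270d18f13868c689c3442c4e1a11e270d089138684389c340444e19b16270cd0f138668289c332344e19816270cb0d138658489c32c1c4e19512270ca0b138648589c322344e18e16270c68b13862c689c3142c4e1881e270c409138620389c30e444e18712270c30d138618589c30a244e18116270c089138600189c2fe3c4e17f1a270be8f1385f4589c2fa0c4e17c22270be051385ec589c2ee2c4e1761e270bb031385d4489c2e6344e17306270b80d1385c0289c2da244e16b1e270b48b13859c789c2c83c4e1621e270b10d13856c589c2b2244e15516270aa89138544489c2a02c4e14912270a30f138514889c28a144e14122270a0891384fc489c27c2c4e13b122709d0f1384e8689c2742c4e137162709b891384d4489c2602c4e12f1627097891384b8789c2582c4e12b1a270950b1384a8489c2503c4e12712270928f13848c589c244244e1211e2708c0d138444589c222244e11106270878d138438489c2183c4e10c1a2708589138424489c20e3c4e1071a270830913840c789c2043c4e1021a270810b138404489c1f8444e0fa16270780b1383c0489c1de3c4e0ec1e270750d1383a4589c1c42c4e0e212270708b138384489c1be2c4e0de0a2706e8b138364489c1ae244e0ce12270648f138324189c18e2c4e0c61a270620f138310689c184244e0c0122705d8d1382e4689c170444e0b512270578d1382b4589c154444e0aa12270548f1382a4689c14c244e0a5122705189138284589c1382c4e09a1a270498f13824c689c122344e08d12270458f138220889c10a344e0841a270380f1381b04))) (BT.leaf (Bx.mk (nat_lit 0x89c8c23c4e4611a2722f8b139174489c8b60c4e4591e272298f13914c689c8a62c4e4471e2722309139114489c87c244e43d162721d891390e8589c8703c4e43622272188b1390b4489c8562c4e42b12272150b1390a0789c8502c4e42606272128f139084789c8422c4e421062720e8f139074689c83a0c4e4171e2720b8d13905c589c81e244e40912272030b139000689c7f43c4e3f81a271fc0b138fd4489c7e43c4e3f21a271f88d138fc0389c7e0144e3ef12271f689138f98789c7cc344e3e21e271f10d138f88589c7c2244e3e016271ef8d138f5c489c7ac3c4e3d616271ea89138f48789c7a42c4e3cc1e271e60d138f28589c792244e3c90a271e40d138f10689c7843c4e3c212271e107138f08289c7822c4e3bf1a271de0d138ee8489c7722c4e3b41e271da0d138ed0589c760244e3af12271d689138e98789c73c244e39d16271cd8f138e6c689c7362c4e39812271c90b138e44489c71e244e38e1a271c589138e1c589c70e244e38706271c303138e14689c70a1c4e3831a271c083138e00789c700344e37f1a271bf0d138df0789c6f8344e37c16271bd8f138de4589c6f2244e3771e271bb0f138dd8589c6e8344e37406271b78d138db8789c6d6344e36a12271b20f138d8c789c6c6344e36212271b089138d7c789c6bc244e35422271aa0d138d3c889c698244e34c06271a589138d0c789c686344e34012271a005138cf4789c670344e3371e2719b0b138ccc489c664244e330062719611138cac789c64c244e32512271918f138c88789c6242c4e31212271888d138c38489c61a2c4e30c162718609138c28589c614244e30522271828f138c10489c6023c4e3011a271800b138bfc789c5fe244e2ff0e2717d09138bdc589c5ec2c4e2f6122717b03138bd4689c5e83c4e2f2062717809138bb4789c5da144e2ec162717289138b90689c5c82c4e2e21e271710d138b88189c5c22c4e2df1e2716f8b138b78789c5b23c4e2d91a2716b8f138b5c589c5ac344e2d41e2716a0b138b40489c59c3c4e2ce0e2716705138b30589c5962c4e2c2222716091138b04189c574244e2a812271528b138a94489c548244e2a406271518f138a8c689c53e444e29e0e2714f05138a70789c538344e29b162714d0b138a64689c530344e295162714a0f138a50689c526344e29112271480b138a38189c514444e28a122714505138a24589c50c2c4e27e222713d0b1389e8189c4f2344e2771e2713b8b1389c8489c4e40c4e27012271358f1389ac689c4d62c4e2671e271328b1389687))))) (BT.node (nat_lit 286) (BT.node (nat_lit 285) (BT.leaf (Bx.mk (nat_lit 0x89ccb83c4e65c1a2732e0b13996c789ccb6344e65b162732b8f13995c689ccac2c4e6550a2732989139948789cc882c4e64412273219113990c789cc861c4e6430a27321091398fc489cc7c3c4e63812273190d1398c8589cc562c4e62b1227315831398a8589cc54244e6281a273128f139890789cc44244e621122731087139878489cc3a2c4e61d122730e0f139854589cc282c4e6131a273098713981c589cc0a244e6041627301891397f8489cbfa344e5fc1e272fc091397d8489cbea244e5f416272f40b139798789cbcc344e5e60e272f305139794789cbca344e5e416272f189139788689cbc4244e5e20a272f08f139780689cbbc244e5dd12272ec8d13975c589cbac444e5d60e272ea0913974c789cba43c4e5d21a272e88f139738789cb9c344e5cc16272e40313971c589cb883c4e5c406272e109139700689cb7c2c4e5be12272de911396f0789cb78344e5ba1a272dd0b1396e0589cb70244e5b806272d78d1396a0689cb502c4e5a71e272d38b139670489cb362c4e59a1e272cd0d139668589cb2c0c4e59516272ca89139650889cb28144e58f12272c70b139630789cb181c4e58b12272c50f139628689cb142c4e58716272c28b1395f8489caee3c4e5771a272b98f1395cc689cae62c4e5711e272b88d1395c0589cade244e56f0a272b70f1395b4489cad82c4e56a12272b503139590789cac8344e56216272af0b139570689cab6344e55a1e272ad0d139560489caae3c4e55312272a903139544789caa2344e5510e272a885139540489ca9c244e54d1e272a68d139534589ca963c4e54b1a272a10b1394e4789ca68244e5331e27299891394cc389ca66144e53216272978d1394b8489ca5a244e52a12272930b139494489ca481c4e5240a2729011139474689ca3a0c4e51c122728b0b139458489ca283c4e512062728891139444789ca22344e511122728887139444289ca202c4e50f1e272870b139430689ca16244e5071e272838d13941c589ca0c244e50316272800f1393ec789c9f6344e4fb162727c0b1393d4889c9e23c4e4f11a272768b139394589c9b81c4e4d91a2726c8b139348689c9a2244e4cf12272670d139330489c9962c4e4c116272600f139300689c97e244e4be1e2725e091392e8489c9703c4e4b416272570f1392a0489c944244e4a11a272508b139270489c936244e4971a2724b0913924c589c926244e492162724809139230589c916244e4881a2724309139210489c9063c4e4831627241091391d4689c8dc244e46a1a272330b1391945))) (BT.leaf (Bx.mk (nat_lit 0x89d0a02c4e84e0e274270513a134589d0982c4e84c12274248f13a124689d0921c4e8490a274240b13a11c489d08c3c4e8461a274228b13a10c589d0842c4e840162741f0f13a0f8689d07c2c4e83d122741d8b13a0ec489d0723c4e8381e2741a8d13a0d4489d06a144e8341a274178913a0b4689d03e244e81c1e2740e0d13a070589d02e2c4e8161a2740a8b13a050589d026244e8130e274098513a048589d024244e81112274088513a040589d01e444e80c22274060b13a02c589d0143c4e80822274040913a01c589d00c2c4e8051a274018b13a00c489d0043c4e8001e274000d139fec789cfec344e7f516273fa07139fc8889cfe2244e7f012273f803139fbc589cfde0c4e7ee1a273f611139fb0289cfd2344e7e516273f283139f8c689cfbc0c4e7dc1e273ee0d139f68789cfb4344e7da06273ec0b139f58889cfa83c4e7d41a273e90b139f40789cfa02c4e7d006273e489139f0c789cf86344e7ac1e273d60d139eac489cf463c4e79d1a273ca8f139e54589cf28344e79416273c809139e30589cf100c4e7861e273c28b139e10589cf08244e7831a273bb89139dd4789ceea244e7731a273b683139d9c789cec83c4e76312273b00d139d7c789ceac0c4e7501a273a709139d30189ce94244e74916273a28f139d10489ce7c3c4e7321e273988b139cc0789ce60344e730122739807139cc0289ce5e244e72c162739491139ca4489ce52144e71a122738c8b139c64489ce303c4e718162738a89139c50489ce263c4e7131a273898b139c3c489ce1c3c4e70e1a273870b139c30589ce0e344e704122737f89139bf8489cdf02c4e6f8122737a83139bd0789cde8344e6f31e2737911139bb4889cdd8344e6ec12273758b139bac489cdd42c4e6ea06273748f139ba4689cdd22c4e6e7162737389139b98589cdcc0c4e6e51e273728d139b8c589cdbe3c4e6df1a2736f8b139b7c189cdba2c4e6dc122736d8b139b68489cdb23c4e6d91a2736c8b139b54589cda63c4e6d31a273698b139b48489cd9c2c4e6cd1e273660b139b0c889cd863c4e6c31a2736009139afc589cd78244e6bb162735a8b139ac8389cd5a244e6ab1a273550f139aa8689cd52244e6a90e2735485139a98489cd483c4e6a312273500d139a78489cd34244e698122734a11139a44489cd203c4e6901a2734609139a1c489cd062c4e6781a2733b8b1399d8489ccea3c4e6751a2733a871399d4289cce63c4e6731a273398b1399c8489cce22c4e6701e273380d1399c0589ccda3c4e66d1a273358d1399947)))) (BT.node (nat_lit 287) (BT.leaf (Bx.mk (nat_lit 0x89d4a2244ea5106275278913a938189d49a3c4ea4b0a275250713a920589d48e2c4ea4622275229113a914589d486444ea431e275210d13a900789d480344ea3f122751f0f13a8f0789d4781c4ea3a1e2751c0b13a8dc589d46c344ea3516275190b13a8c8189d4623c4ea2f1e275178b13a8bc189d458344ea2612275130313a874189d438344ea1a1e2750c0513a850589d414244ea0912275040d13a81c489d40c344ea0312275010f13a7e4789d3f0244e9f71e274fb0d13a7c4589d3de444e9ef16274f78913a7b4789d3d8344e9eb16274f38713a790789d3c8344e9e112274f00b13a77c789d3b6244e9d71e274eb8d13a754389d3a8344e9d312274e60b13a72c589d3943c4e9ca1a274e50713a728289d392344e9ba1a274dc8b13a6d4489d344244e99822274cc0d13a634689d31a144e98c1a274c58913a628689d3102c4e98812274c40313a618789d30c344e9860e274c28d13a60c589d302344e97e16274bf0913a5e4889d2f23c4e9790e274bc8513a5dc489d2e6344e97212274b88d13a5c4589d2e0244e96f16274b48d13a5a0489d2ce244e96416274af0d13a568189d2b23c4e9590e274ab8f13a558889d2a8344e95222274a90913a538589d29c244e94d1e274a68d13a524689d292244e94516274a21113a510789d288244e9440e274a10913a4ec489d276144e93a12274980b13a4c0489d25e3c4e92d1e274940f13a498789d24c344e926162748c0f13a440189d21a444e90c12274850913a424889d212344e90816274840913a41c589d20e244e90706274828f13a414689d208244e9031e274818d13a3fc489d1f82c4e8fb1e2747d8d13a3d8789d1ec2c4e8f31e274798d13a3c8789d1e4344e8ef1a274770f13a3b8689d1d62c4e8ea12274730b13a394589d1c4144e8dc122746d8b13a360789d1a8344e8d11e274688d13a340589d19c344e8ce12274659113a32c789d1942c4e8c91e274638913a304689d17a2c4e8bc0e2745d0f13a2e8689d1740c4e8b91e2745c8d13a2d8289d168344e8b30e274588913a2c0889d158244e8ab1a274550d13a2a0489d1483c4e8a41a274520713a288789d144344e8a2062744e8f13a268489d1323c4e899162744c0b13a258489d122444e8911e274488d13a244289d1203c4e89016274440913a1fc789d0f82c4e878162743b8f13a1d4789d0ea344e87412274390913a19c489d0ca344e86516274318913a188589d0c2244e8601a2742f8913a174889d0ba244e85d0e2742d8b13a160489d0aa3c4e8551a2742a0913a1485))) (BT.leaf (Bx.mk (nat_lit 0x89d920444ec8e22276468313b230489d9022c4ec7f062763e9113b1f4689d8f63c4ec7a1e2763c8913b1dc589d8ec244ec760a276380913b1b8689d8d6344ec6b06276348713b19c489d8cc244ec60162762f0b13b170789d8b2244ec571a276298d13b148489d8a0244ec4d1e276238b13b10c389d87a344ec361e2761a8713b0c8489d8622c4ec3016276180913b0b4189d858144ec2b1e276158b13b080589d83c344ec1e162760e0313b06c889d834444ec18222760b0913b050789d81e244ec0d1e276068d13b02c489d812244ec0722276038f13b01c689d80e144ec040e276018f13b008489d7f02c4ebf71e275fb8d13afd4589d7e8244ebf31a275f80913afb8489d7d80c4ebeb12275f38b13af98589d7cc244ebe506275f18f13af8c689d7b4344ebce1a275e60f13af30689d7962c4ebca22275e50f13af28389d794144ebc416275e20913af0c889d786344ebc312275e18513af04789d77c244ebbd12275de0b13aee0489d7662c4ebb21e275d90713aec4589d75e344ebaf0e275d78513aeb4789d756344ebab06275d40f13ae94689d74a1c4eba50a275d18f13ae8c689d73e2c4eb9e1e275ce0b13ae64589d732244eb9722275cb8913ae58589d7282c4eb8d16275c60713ae30289d7162c4eb8a16275c48f13ae24389d700444eb7f12275bd0f13ade8689d6f2244eb7616275b98713adc0589d6da2c4eb6c16275b58713adac289d6be144eb571e275a98f13ad4c689d6a4244eb4f16275a70b13ad20589d68c2c4eb40162759e8513acf0689d6761c4eb3a162759c8b13acd8789d6682c4eb321e275988b13acc0589d652244eb241e275920713ac90289d6302c4eb16122758a0913ac48789d624344eb1012275878f13ac3c689d610244eb00162757f8913abf4589d5ee244eaf21e275790d13abbc889d5de244eaee22275770913abb8189d5da3c4eaed06275761113abb0489d5d6444eaeb12275750f13aba8689d5d03c4eae80a275738713ab9c289d5cc3c4eae61a275718f13ab8c689d5c61c4eae30a275710913ab5c689d5aa244ead21e275690d13ab40789d5a0344ead00e275680513ab28689d58e344eac01a2755e0f13aaf0589d570244eab11e275588d13aac0489d55e3c4eaad12275558913aaa4489d54c244ea9f122754d0d13aa60589d52e3c4ea971a2754b8913aa5c389d52e144ea8e1a275450913aa14589d508244ea7b162753d0913a9d8489d4ea244ea671a275329113a98c889d4c4444ea62122752f0b13a95c889d4aa1c4ea5416275290b13a9448)))))))) (BT.node (nat_lit 304) (BT.node (nat_lit 296) (BT.node (nat_lit 292) (BT.node (nat_lit 290) (BT.node (nat_lit 289) (BT.leaf (Bx.mk (nat_lit 0x89dd8a2c4eec512277618f13bb0c489dd861c4eec30a2775e9113baf4489dd7a144eebb162775d8913bae4889dd720c4eeb8162775b1113bad4889dd602c4eead12277560513baa4489dd4a244ee9a0e277478b13ba3c189dd1a3c4ee8a1e277450d13ba18189dd042c4ee81162773e8913b9f0889dcf83c4ee7c1a2773e0913b9f0389dcf8144ee7b1e2773d8d13b9e8789dcea3c4ee751a2773a0913b9c4689dcd8244ee691a277310913b978689dcb82c4ee591e2772c8b13b960789dcae3c4ee54122772a0713b950289dca23c4ee511a277288313b934489dc982c4ee4a1e277250d13b91c689dc8e244ee470a277210513b904789dc802c4ee3a122771a1113b8cc889dc5e444ee2f12277169113b8ac389dc522c4ee25162770d0b13b860789dc30344ee17162770b0913b844789dc22344ee1012277078913b830589dc163c4ee0b0e277058513b804489dbdc2c4eded12276f00b13b770689dbb0244edd012276e48913b720589db90244edc212276e08913b700789db801c4edc00a276df8f13b6fc689db7a3c4edbd1a276de8713b6f4289db763c4edb11a276d21113b690189db443c4eda21a276d00f13b680689db402c4ed9712276cb0913b650789db28244ed931a276c98913b648789db20344ed900a276c78b13b634689db183c4ed8c12276c60713b630289db12244ed8616276bc8b13b5d0789dade344ed6f16276b70b13b590489daba3c4ed5a12276a58d13b524489da8c2c4ed4612276a10913b4e4589da70244ed3322276998913b4c8889da60444ed2f22276978913b4b8789da5a2c4ed291e276940d13b498489da443c4ed221a276908913b47c189da3a344ed18122768a8f13b450789da241c4ed0b1a276850b13b428489da103c4ed081a276840913b420389da10144ed0416276820913b400789d9ee344ecf516276790f13b3c8589d9e0244ecf006276778d13b3a4489d9d0244ece71a276738313b394489d9c8444ecdf222766f8913b374589d9b63c4ecdb1a2766c8d13b364289d9b02c4ecd31e276690b13b340689d9a0244ecd00a276660b13b320889d990244ecc80a276638b13b318589d984444ecc216276610313b300789d97c144ecbc222765e0913b2ec789d976344ecbb162765c8b13b2d4489d966444ecb31e276598d13b2cc289d9643c4ecb112276568b13b2b0689d9581c4ecaa12276540913b29c589d94c244eca516276520b13b280589d940244eca0062764f8313b260789d930344ec97162764b8913b254789d92a344ec950e276490d13b2447))) (BT.leaf (Bx.mk (nat_lit 0x89e2003c4f1001a2787f8d13c3f8589e1fa244f0fc1a2787e0913c3f0389e1ec2c4f0f40a278790313c3bc489e1dc2c4f0e61e278730d13c394589e1c6344f0e312278718513c388489e1be344f0dd062786d0913c358789e1a8244f0cb1e278650913c320489e184244f0c1162785f8b13c2f4789e17a344f0bb162785c8f13c2dc589e13c244f09c1e2784d8913c264589e12e2c4f095122784a0913c250189e1263c4f0931a278478b13c234189e1140c4f08922278430f13c218689e10c0c4f0831a278418913c20c389e106144f080122783f8913c1fc389e0fa2c4f07a1a2783c8913c1e0489e0ec3c4f0761a278398f13c1c8689e0e23c4f06f16278378913c1b4789e0d4344f06912278338b13c19c489e0c83c4f0641a278318f13c18c689e0c62c4f05c1e2782e0b13c170189e0b43c4f0581a278288913c13c789e09e0c4f0491e278238d13c108489e07c144f03d162781d8f13c0ec689e072444f039122781c8713c0e0589e0642c4f0301e278178b13c0b4489e0523c4f0291a278108b13c084489e034244f018162780c0913c034789e016244f0061e278020913c008789dff83c4effb1e277fd8d13bfec589dff43c4effa1a277fd0b13bfd4489dfdc344efe71a277f20f13bf90689dfc80c4efe01e277ed8f13bf6c689dfb60c4efd112277e60d13bf2c689df943c4efc11a277df8913bef8489df742c4efb91a277dc8513beb8689df5a3c4efa906277d10d13be84789df42344efa012277ce8913be70589df36444ef9b1e277cd8913be6c289df2e2c4ef9612277be8b13bdd4589dede344ef6706277b30f13bd88589debe2c4ef5e1e277af0d13bd6c689deaa244ef550a277a98713bd48789de9e444ef4f16277a78913bd34589de983c4ef4912277a40313bd18789de88244ef4316277a08913bd00589de6e244ef3306277988913bcc4189de603c4ef301a277978913bcb8889de502c4ef2812277928913bc94189de3e2c4ef1e1e2778e8b13bc70489de36444ef1b1a2778d8713bc6c289de343c4ef16162778b0913bc50789de28344ef121e277890d13bc38789de1c344ef0a1e277850d13bc28389de14144ef0912277840d13bc1c489ddf63c4eef21a277779113bbbc489ddde144eeee12277770313bbac489ddd0344eee80a2776f8f13bb7c689ddbe1c4eedb1a2776c8b13bb64489ddb02c4eed8062776b8f13bb5c689ddaa3c4eed5062776a1113bb50489dda8144eed21e277679113bb38589dd9c0c4eecd1e277668313bb30889dd96444eecb12277648913bb187)))) (BT.node (nat_lit 291) (BT.leaf (Bx.mk (nat_lit 0x89e65e244f32f06279970f13ccb8689e65c1c4f32e0a279968f13ccb4689e65a2c4f3261a279928f13cc94689e648244f31d122798d8b13cc54489e626244f31306279890d13cc44789e61c2c4f30c1e279860d13cc20589e60a244f30212279800d13cbf8489e5f22c4f2f81e2797c0d13cbe0589e5e4144f2e61a279728713cb94289e5c43c4f2df062796e8f13cb44689e58e2c4f2c616279628f13cb14589e582344f2bc162795b8f13cacc789e566144f2b206279580f13caac789e550344f2a8162794f9113ca7c689e53e1c4f29c162794d0d13ca64589e530244f2971e2794a8f13ca48789e51a2c4f28c22279450b13ca28489e5103c4f2881a279440713ca20289e50c3c4f28616279418913ca04589e4f40c4f279122793c0f13c9e0689e4ea1c4f27116279340d13c9a0589e4ce244f2621e279310d13c988589e4be3c4f25f1a2792f8b13c960789e4ae244f2551e2792a0f13c950689e4a23c4f25106279280913c934489e49a0c4f24c1e279260d13c930389e498144f24b1e279258d13c92c589e492344f2471a279210f13c8f4789e4740c4f237162791a0b13c8d0189e466344f23216279190913c8c0789e460344f22f1e279178b13c8ac589e44c244f2231e2790e8b13c874189e4360c4f2191e2790c8d13c854589e420344f2061e279018d13c804489e3fe2c4f1f916278f90f13c7c8689e3e22c4f1ef1e278f78313c7b8889e3dc3c4f1ee1a278f70713c7b8289e3da3c4f1ed1a278f68b13c7ac689e3c82c4f1de1e278ef0d13c75c789e37a3c4f1bc1a278dd8b13c6e8489e3722c4f1b81e278dc0d13c6e0389e36e444f1b712278da0913c6d0189e3622c4f1af1e278d78d13c6b4589e3563c4f1aa16278d50913c6a4589e3503c4f1a80e278d40513c698589e3462c4f1a11e278d08313c67c689e33e2c4f19d06278cd8d13c65c389e320444f18e1a278c68d13c614489e3063c4f18312278c18513c608689e2fc3c4f17b16278bd8913c5d8789e2ea3c4f1741e278ba0d13c5c8589e2e4244f17016278b70f13c5a4489e2ca3c4f1651a278b20b13c588889e2c4344f16212278b10513c558789e2a8144f1521a278a78b13c538389e2903c4f1481a278a38913c518489e2883c4f1441a278a20b13c508489e2822c4f14112278a00b13c500189e27a3c4f13d1a2789d1113c4d4789e26a344f1350e2789a8513c4c8589e264244f13116278988313c4c0789e260344f1291a2788a8f13c44c489e224344f11212278850f13c428689e2142c4f10612278810b13c4045))) (BT.leaf (Bx.mk (nat_lit 0x89ea1c244f50d1e27a868d13d434389ea1a144f50b1627a850f13d428689ea0e2c4f5031627a800313d3f8489e9fa2c4f4fc1627a7e0913d3ec689e9f43c4f4fa1a27a7c0d13d3dc689e9ec344f4f51e27a7a0f13d3d0689e9e82c4f4ee1e27a760b13d3b0489e9cc3c4f4e61a27a730513d380789e9bc3c4f4de1627a6e0d13d364789e9ae2c4f4d41627a690913d344589e9a01c4f4cf1627a670b13d334789e99a144f4cc1a27a658f13d32c689e9942c4f4c91a27a5e0913d2f0389e978144f4b61627a5a9113d2d0489e9643c4f4b21a27a578b13d2b8589e95a3c4f4ad1a27a568913d2b4389e95a144f4ab1e27a558b13d2a8789e954344f4aa1627a540913d29c489e94e0c4f4a61e27a528f13d294689e948444f4a21a27a510313d284489e93e3c4f49e1e27a4e0b13d270489e936244f49a1e27a4d0d13d268489e9341c4f49a0a27a4c8f13d264589e92c3c4f4941e27a4a0d13d250589e91c2c4f4891627a448913d220789e910344f4881227a440713d220289e90c2c4f4821a27a410b13d204189e9003c4f4801a27a3a8b13d1d0789e8e0344f4701627a378913d1b0789e8d2344f45f1a27a2d0d13d154789e8a83c4f4541a27a280d13d13c489e8980c4f44b1627a249113d124789e892344f4471a27a238313d114289e86e144f4331227a188d13d0c4589e8602c4f42e1e27a148313d098589e84c0c4f41e1227a0e8b13d06c789e836344f41b0e27a0d8513d068789e834344f4191227a0c0f13d05c789e82a2c4f40d0627a060f13d030289e8143c4f40a1a27a050b13d01c789e80c344f3ff0a279ff0913cfe8589e7f2244f3f61e279f88d13cfc0789e7dc3c4f3ee1a279f68f13cfb4689e7da2c4f3e312279ed8913cf64789e7b2344f3d90a279eb8b13cf4c789e7a62c4f3cd1a279e60913cf28489e78c2c4f3c41a279e20713cf0c689e7862c4f3c11a279df8b13cef8289e77a3c4f3b806279d98b13cebc789e75e2c4f3ab16279d50913ce94789e74a344f3a41e279d20d13ce78789e73c344f39816279c98b13ce30689e70e344f38306279c10f13ce08689e6f62c4f37b12279bc8f13cde4589e6ea444f3721a279b80b13cdc0189e6de3c4f36f1a279b78713cdbc289e6d8344f36c16279b58b13cd88489e6c23c4f35f0e279ae8d13cd70789e6b8344f35c0a279ac8d13cd50689e6a4344f3511a279a88b13cd08589e682244f34106279a00f13cd00689e67c3c4f33e1a2799f0b13ccf8189e6723c4f3391a2799c8313cce0889e670244f3371a2799b8913ccc05))))) (BT.node (nat_lit 294) (BT.node (nat_lit 293) (BT.leaf (Bx.mk (nat_lit 0x89eeac244f7520627ba60f13dd30689ee70344f7361227b959113dc74789ee3a344f7181a27b869113dc34489ee1a0c4f70a2227b840b13dc10489ee080c4f7020627b809113dc04689ee02244f7010e27b808513dbf8889ede62c4f6f01a27b771113dbb8489edd42c4f6e81227b6f8713db6c289edb42c4f6d91227b6c0f13db5c589eda8344f6ce1627b670913db34789ed9a344f6cb1627b650d13db28389ed92244f6c90a27b640b13db1c589ed88444f6c31627b5e1113daf0589ed78244f6b91627b5b8f13dad8589ed6a3c4f6b41e27b5a0d13dad0589ed602c4f6b01227b570d13dab4589ed58244f6ac0e27b550313daa4689ed4c244f6a51227b4f0b13da70789ed381c4f69b0a27b4c0913da4c689ed26144f6921a27b468913da24589ed002c4f6801227b3f8f13d9fc589ecfc3c4f67e1a27b3e8f13d9e8489ecf23c4f6791a27b3a8d13d9c4489ecd63c4f66b1227b320d13d988489ecc2344f65f1227b2f0913d974689ecba2c4f6521227b290313d940689ec98144f6492227b230f13d914889ec7c3c4f63c1627b1d8b13d8e8889ec743c4f6391627b1c0b13d8cc789ec66344f62a1e27b140913d890289ec40244f61c1e27b0a0b13d850489ec1e3c4f60e1e27b070d13d824589ec12244f6090627b040713d810889ec042c4f5fc1627afd0f13d7d4789ebea344f5f50a27af91113d7c8389ebe0244f5ee1627af58f13d7ac689ebb8244f5db1627aed1113d74c889eba63c4f5d31227ae51113d728789eb94144f5c81e27ae38b13d714489eb8a144f5c21627ae00b13d700189eb7a2c4f5bc1e27add8913d6e4489eb703c4f5b71e27ada8d13d6b8589eb58144f5ab1627ad58913d6a4789eb52344f5a71227ad30b13d690889eb482c4f5a32227ad18b13d68c189eb443c4f5a11a27acf9113d67c489eb3e1c4f59e1627ace8b13d670189eb242c4f5911e27ac88d13d63c589eb1c444f58e1e27ac70d13d638289eb1a3c4f58d1a27ac68b13d618889eb082c4f5801227abf0913d5f4189eaf63c4f57a1a27abb8f13d5dc689eae82c4f5741227aba0313d5cc789eae6344f5731227ab98713d5cc289eae42c4f5711a27ab68d13d5ac789eacc344f5641e27ab20d13d588789eac4344f5621627aae0b13d568389eab2244f5571e27aab8d13d558789ea98244f54b1627aa18d13d504589ea722c4f5381e27a998f13d4cc589ea64244f52e0a27a930f13d498689ea4a344f5251627a908b13d47c189ea3a444f51d1a27a8e8913d474289ea2a2c4f5101e27a878b13d4385))) (BT.leaf (Bx.mk (nat_lit 0x89f30c344f9841627cc20913e60c589f2f82c4f9782227cbc0913e5e0389f2ee2c4f9721e27cb90713e5c8289f2e03c4f9700e27cb78b13e5b8689f2dc1c4f96c1227cb38913e560489f2ae244f9521227ca70d13e520689f27c244f93d1227c9e0f13e4f0689f2742c4f9391e27c9c8913e4e4389f268344f9320a27c988b13e4c4489f2582c4f9251627c920b13e490189f2462c4f9231227c910f13e488689f2441c4f91e1227c8c8b13e464489f22c344f9121e27c880b13e418889f1f63c4f8ee1227c768713e3b0489f1d22c4f8e81e27c740d13e39c589f1b0444f8d62227c6b0913e344189f19e3c4f8cc1627c658f13e32c689f196144f8c71227c628b13e314489f188244f8c21627c5a8913e2d0689f156444f8a82227c540d13e29c589f14c3c4f8a60e27c530513e294589f1483c4f8a41a27c518f13e28c389f146144f89f1627c4e8b13e274489f1363c4f8990a27c4c0b13e25c489f12a444f8951227c4a8313e24c789f126344f8921e27c490913e244689f11e444f88e1a27c460913e228789f114344f8891a27c438913e1fc889f0fc444f87e0627c3e8f13e1f4189f0f8444f87b2227c3b0913e1d8189f0d21c4f8641e27c320d13e18c489f0c61c4f8611627c300313e17c889f0be244f85e0627c2e0f13e16c889f0b6344f85b1227c2b8b13e158589f0ac244f8551a27c278f13e134589f096144f8451e27c228d13e108489f0823c4f8401627c1f0713e0e8789f0722c4f8381227c130d13e094589f042344f8201627c0f8f13e07c689f03e244f81f0e27c0f8513e06c789f036344f81a1e27c0d0d13e068589f030244f8171227c0a8d13e04c489f01a2c4f8091a27c040b13e01c889f00a0c4f8031627bfe1113dfe8189efee1c4f7f70a27bf98b13dfc4589efe0244f7eb1a27bf10b13df78789efba444f7dc1227bee0313df60789efb01c4f7d71227bea0d13df38689ef98244f7ca2227be50713df1c789ef8e1c4f7c61627be18b13df04589ef7c444f7bc1627bdd9113dee8589ef701c4f7b71627bdb0b13dec8589ef623c4f7b10a27bd68d13deb4389ef581c4f7aa1a27bd40d13de94589ef4a0c4f7a42227bd20913de6c789ef28244f7902227bc80513de34789ef1a144f78c1627bc48b13de1c589ef0c2c4f7851627bc10513ddfc189eef80c4f77a2227bbb9113ddd8889eee82c4f7720a27bb58b13dda8789eed4344f76a0e27bb50513dda4789eed2344f7671627bb30b13dd90889eec4444f7602227bb00913dd7c789eebe1c4f75f0a27bad0b13dd681)))) (BT.node (nat_lit 295) (BT.leaf (Bx.mk (nat_lit 0x89f80e344fc051627e020713f000789f7fc3c4fbfe1a27dfd0b13efdc489f7e4244fbf11a27df88b13ef94589f7bc3c4fbdd1e27dee8d13ef64389f7ac244fbd51a27dea8913ef54289f79a344fbc71627de20b13ef10489f7843c4fbc21a27de08f13ef04689f77a0c4fbba1627ddd0913eeb8589f75c244fbac1a27dd60b13eea8789f7540c4fb991e27dcb0b13ee54489f724244fb901227dc70513ee34589f71a244fb8c1627dc58313ee1c589f70c244fb850a27dc18b13edfc489f6fe0c4fb7c1227dbb8b13edd8489f6ea2c4fb751227dba0f13edd0689f6e81c4fb731627dad0b13ed68489f6b23c4fb591a27dac0d13ed58589f6aa2c4fb551227daa8313ed50789f6a8344fb4f1a27da70b13ed38489f69a3c4fb4d0e27da68513ed2c389f694244fb491a27d9d0f13ece0489f66c244fb351e27d9a8d13ecd4589f65a3c4fb2c1e27d958d13ecac489f6561c4fb281a27d910513ec80489f63e2c4fb1b1e27d8d8d13ec60489f628244fb0f1227d868913ec20689f60e244fb061a27d7e8b13ebf4489f5f82c4fafc1227d7d8f13ebec689f5f61c4faf81e27d7c0d13ebbc789f5da2c4faed0627d750913eba4489f5ce2c4fae71227d728f13eb90689f5c62c4fae31227d708f13eb74589f5b8344fad91227d6a8b13eb48589f5962c4fac71227d620913eafc789f56a344fab21a27d570b13eab8489f55c0c4faad1a27d540d13ea94489f5422c4fa991627d4c0713ea5c589f52a2c4fa950627d479113ea34589f5182c4fa8a1627d448b13ea04689f4f81c4fa771227d3b8513e9b4789f4d43c4fa6a1a27d348d13e99c489f4ce1c4fa661627d2d0913e960589f4a82c4fa531227d291113e924689f482344fa3e1a27d160913e8ac689f4462c4fa211e27d108d13e870489f4343c4fa161227d0a0913e848889f420244fa0e1e27d068913e828789f414344fa0a1627d048913e820489f408244fa040627cfe1113e7ec889f3f6244f9fb0627cfd0d13e7e8189f3f2444f9f82227cfc0d13e7d8789f3ea2c4f9f41e27cfa0913e7d0389f3e8144f9f21227cf70513e7b4589f3d81c4f9eb1e27cf58d13e7ac589f3d2444f9e82227cf40b13e7a0489f3cc3c4f9e52227cf28d13e788389f3c22c4f9e11227cf00d13e778789f3ac244f9d41627ce98913e748789f3a03c4f9cc1e27ce38913e714889f38a344f9be1a27cde9113e6f4489f36e2c4f9b61e27cd98d13e6c0789f35e1c4f9a91627cd38f13e69c689f344244f9a11627ccf0d13e664489f32a444f98f1e27cc78d13e62c5))) (BT.leaf (Bx.mk (nat_lit 0x89fd70244feb61627f578d13faa8789fd482c4fea31227f4e8d13fa74189fd360c4fe962227f4b0f13fa3c689fd1a444fe8a1e27f438f13fa14489fd0a144fe7e1e27f3e0b13f9e4689fcf21c4fe721e27f390d13f9c8289fcda2c4fe5f1627f2a8913f950689fc9e244fe4f0e27f270b13f930889fc982c4fe4c1227f260313f92c889fc96244fe481227f230d13f910489fc863c4fe431a27f218513f8ec589fc622c4fe2f2227f171113f8b8189fc5a444fe2d1e27f161113f8b0689fc562c4fe2b1227f148d13f894689fc46344fe231227f0f8b13f874689fc1c1c4fe0b0627f030513f814389fc022c4fe011227f000f13f7f4489fbf8344fdf31627ef90f13f7c8689fbd2344fde81627ef30b13f798489fbca1c4fdd91a27ee59113f72c489fb96144fdc31227ee10f13f708689fb82344fdc11627ede0913f6e0789fb6e2c4fdb31227ed90b13f6c8489fb603c4fdaf1e27ed78d13f6a0489fb4e2c4fda11a27ecf0f13f668489fb323c4fd991a27ecc8b13f660589fb242c4fd921227ec88313f640789fb20144fd8f1e27ec78b13f638789fb1c2c4fd851227ec20b13f5fc789fafa0c4fd721e27eb90d13f594789fab0344fd571e27ea60d13f514689fa7e3c4fd3a1227e9d0313f4e4489fa6e3c4fd361a27e9b0913f4d4289fa68444fd321627e980913f4bc589fa5c3c4fd2e1227e970713f4b8289fa523c4fd271e27e8f8d13f478889fa3c244fd1e0e27e8e0b13f458789fa202c4fd0b0627e828b13f3f8889f9fa444fcfc1627e7c8f13f3e4389f9e02c4fcee0a27e761113f3a0889f9cc444fce61e27e718d13f380489f9be344fcdd1227e6e0f13f370689f9b81c4fcdc0a27e6d8b13f364189f9aa244fcd50a27e699113f34c489f9a42c4fcd20627e688f13f32c689f9903c4fcc11627e5f0d13f2f4589f978244fcbc0a27e5c0913f2c4789f9563c4fcab1a27e539113f290589f940244fc9f1e27e4f8713f274589f9383c4fc991e27e4c8d13f238589f91a444fc8d1e27e468913f22c589f912244fc851627e428313f210789f908344fc831e27e3f8313f1f8689f8ee244fc731627e390f13f1c8689f8d4244fc691e27e348d13f1a4589f8b83c4fc5c1a27e2d0b13f160489f8903c4fc481a27e238913f118589f88a344fc451627e1e8b13f0ec689f8743c4fc3a1a27e1d0b13f0e0489f86a2c4fc311e27e180f13f0c0689f85c3c4fc2e1a27e168f13f0ac789f8561c4fc281227e138d13f09c289f84a3c4fc241a27e110913f06c589f8323c4fc191227e060d13f0247)))))) (BT.node (nat_lit 300) (BT.node (nat_lit 298) (BT.node (nat_lit 297) (BT.leaf (Bx.mk (nat_lit 0x9204fe249027e1e4813b092409cc59204de24902671e481338d24099c59204c80c902611e4812e8b24096c79204b614902531a4812909240928592049424902482248124092408fc592047c34902371e4811b8d2408dc392046c34902311648118892408bc792045e349022f0e481168f2408b4692045a2c902291e481148d2408a4592043a249021b1e4810d8d24086c592041a249020c16481050f24081489203f42c901f71e480f68f24079469203ca14901e31e480f08d14075c68a03a03c501d01a280e68914073068a038824501bd1e280da891406d028a036624501ad16280d08d14067c48a033c245019a12280cc8914065068a031c2c5018e12280c68d14061418a030824501761e280b88f1405c468a02cc2c5016516280ab8f14053c48a02923c501491a280a28914051058a028624501401e2809f0f1404e878a0274345013a12280938914046848a02302c50116122808a0914040c68a01f224500f7122807a8f1403c848a01e41c500f112280760b14038c78a01c234500e01a280700b14037c58a01b424500d9122806a8914034c48a01a41c500cf12280670b1402f088a01743c500b812280588b14028878a0140245009e162804f0914027478a013a345009c1e2804e0d14026c28a01342c50097122804b8714025c28a01242c5009212280440714021458a00fc2450079222803c891401e088a00ec2c5006f1e280358914019848a00c63450063122802e8914016c68a00b0245005516280288314010858a00822c5004106280200f1400fc68a007e145003c162801e091400b048a0054245002712280120d14007c68a00342c50018162800b8f14005c68a001a1c5000b16280058914002078a001034500011627ffb1113ffb8789ffda344ffe11627fed8b13ff5c589ffaa2c4ffd31e27fe60513ff28489ff68344ffb20627fd48d13fea0789ff501c4ffa80a27fcc8b13fe5c789ff2e1c4ff970a27fca0f13fe50689ff22244ff901e27fc80d13fe30489ff162c4ff821227fbe0d13fdcc589fed4244ff661227fb08913fd80489feb4244ff591627fac0913fd58489fea83c4ff4a1227fa40913fd1c889fe88444ff431627f9d8913fcdc589fe6c244ff351a27f990913fcc8389fe5a0c4ff2c2227f959113fca4589fe503c4ff251227f920f13fc90389fe3e2c4ff1d2227f8e8913fc64889fe32244ff131627f850913fc24689fe0a444ff051227f828713fc0c589fdf4344fef11227f740d13fb90589fdc62c4fede1627f6e8313fb60589fd8e1c4fec61a27f5d9113fae08))) (BT.leaf (Bx.mk (nat_lit 0x920caa44906551e4832a872419481920ca22c9065112483278f24193c5920c8c34906460a483220d2419087920c803c906401a4831f892418f87920c78249063b164831b8f2418d85920c5e2c9062f12483168f2418b04920c502c9062516483108b2418687920c300c9061312483088f2418407920c20349060d12483060d2418106920bf63c905f416482fa092417cc6920bdc14905eb1a482f3912417846920bb434905da12482ed072417647920bb234905d31a482e68b2416f04920b7044905b60a482d98b2416c85920b640c905b01a482d78d2416b84920b582c905a312482ce892416646920b303c9058512482bf092415ec7920af22c9057512482ba092415cc6920adc2c9056b16482af112415784920aba449055c22482ae0f24156c6920ab0249055716482a80f24152c5920a96249054a1a482a5092415283920a922c9054812482a38f24151c5920a822c9053f1e4829f8d2414f46920a76249053a1e4829d0d2414c44920a58349052b12482948b24148c7920a323c905151e482860b2414304920a143c9050a1a482840f24141c49209ee3c904f6124827a8b2413b459209d82c904ec06482748f24139859209c23c904e01e482699124134c492099c34904cb1a4826587241320592098e2c904c71248261092412e0492096e24904ac22482468f241228792090e3c90476164823a8f2411d429208e42c9047112482380d2411a049208ce34904621e482310d24116079208b01c9045716482298f24114c592089a2c9044c16482258f241120792089034904471e482210b2410d4492085a3c9042b16482148f2410a4692085024904271a482128f24104849208122c904061e482028d24100449207fe2c903fd1e481fc8b240fd069207de34903ec1a481f589240fa849207c424903e01e481ee89240f7049207aa2c903d116481e18b240ec0592075c24903a61e481d083240e5849207243c9038a12481c38d240ddc69206ec249037606481ba0f240dd039206d62c9036616481b28f240d6479206b0249034612481a20f240ce479206702c9033312481960f240cb0392064e24903231e481918b240c8459206363c9031b0e4818d0f240c60792062e249030d1e481840d240c0859205fa2c902fc164817e09240bdc79205e024902ed16481740b240ba049205ce3c902e70a481708b240b8449205c03c902e01a4816f0b240b7849205ba3c902d8164816309240afc692057824902ba1e4815a89240a904920546349029a164814c11240a2c59205122c90287164814389240a106)))) (BT.node (nat_lit 299) (BT.leaf (Bx.mk (nat_lit 0x9213342c909971e484ca8324264459213183c9098c0e484c60524261859212fa449097d0e484ba0d2425d059212e2249096f1e484b7892425b889212dc249096d12484b58b24256c79212b6349095b16484ac1124256059212b024909561e484aa8d24255049212a0249094f22484a78d242538592129c249094c16484a60924252879212942c90944224849e8d2424d069212662c9093212484988d2424c449212621c909310a484880d24240859211fc0c908fc1a4847c032423c049211c424908de12484610d242304492118214908c0164845c892422c8292115c2c908ae124844f8f24227c492113c3c9089e1a4844e0f242268792111e3c9087f12484378f24219859210c63c9086112484250b242120792108c34908461248423052420f0492107044908380e4841b8b2420d4892106a2c90834224841a092420d0192106444908321e48418912420c469210583c9082c0e484158b2420a859210523c908291a484148524208c29210424490821124840f8f24207c692103e2c9081e124840e0924206859210342490815064840a0d24204879210223c908101248407892420347921016349080b0648405092420245921012249080906484028f2420146921008249080312483fd89241fe87920ff434907fa0e483fc0f241fe05920fec44907f60a483f88f241fc46920fe22c907ed12483f609241fac7920fd43c907ea1a483f403241f9c4920fc224907df1e483ef0f241f786920fba3c907da16483ed09241f645920fb01c907d616483eb09241f547920faa34907d50e483ea0f241f506920fa42c907d116483e58f241f284920f8c24907bf1e483df8d241ef46920f3e449079f12483cf85241e785920f38249079c06483cd8b241e6c1920f34449079a1e483cc91241e5c3920f2a2c907941e483ca07241e502920f1c0c9078d16483c60b241e246920f122c9077f1e483bf8d241df06920ef624907700a483b68d241d8c7920ec6349076212483b105241d844920ebc3c9075e16483ac09241d346920e8e249073c164839c87241cc48920e5e2c9072e164839509241c541920e0c2490705164837391241b988920dbe34906dc164836d0f241b648920dac14906d4164836889241b407920da01c906cf1a4835b09241acc5920d5a24906a1164835009241a7c7920d3e349069e124834e87241a705920d380c90697124834b0b241a405920d082490680224833f0b2419e04920cee2c90676164833b092419d05920ce2449067016483360f2419a06920cca24906650a483318d2419584))) (BT.leaf (Bx.mk (nat_lit 0x921aca3490d6516486b2112435885921ac42490d5e12486ae8d2435644921aae3c90d5512486a9092435284921a923c90d491a486a40f24351c4921a882490d40124869d092434e06921a6e2c90d37124869a8f2434d46921a642c90d2d1a48693832434804921a3c2490d1c124868d892434644921a320c90d161248684092433f049219f22490cf116486778b24339079219c83490ce1124866f0f24337449219b42490cd312486690f24334869219a42c90ccb16486648b243324492198c2c90cc612486628b24330c79219861490cc116486608924323849219142c90c760a4862c8b243138792189c0c90c4c12486240b24312049218842c90c2d1e486168d2430b0792184e2c90c20064860f0d24306c492181c0c90c0d06486060f24302c892180e1490bff16485fb8d242fc039217dc2c90bec16485f58f242fac29217c82c90be412485e90b242f4849217943490bc51a485e08d242ec4592175a3c90ba11a485d00b242e7879217322c90b881e485c20b242dfc59216fa3c90b7d1a485b18d242d5429216961490b491e485a485242d1c792168a3c90b4416485a00b242d00492167e3c90b3f1a4859d89242cec29216741c90b38164859b8b242cc449216502c90b271e485938d242c9c492164e1c90b1d1e4858d0b242c6849216322c90b181e4858809242c40192161e2490b001e485800d242bfc59215fc2490af0164856f0b242ac419215602490a9d224854a11242a2c89215162490a8b0a4854389242a18892150c0c90a8422485420f242a0c89215063490a821a4854105242a0059214fe1490a7e164853c092429dc59214ec4490a761e4853b072429d069214e63c90a731a485380d2429b049214ae0c90a561e4852b0724295829214923c90a481e485238b242914392147e3c90a2e16485158b2428ac49214542490a291e485130524288c49214461c90a221e485110d24288859214422490a1f164850f8924287449214323c90a17064850a8f24284c69214260c90a111e485088d24284419214202490a0f16485070d242834492140a3490a031e48501092427fc79213fa24909f912484fb8f2427dc69213ee14909ea12484f5032427a469213c624909e11e484f08d24278439213c214909df1e484ef8d24276059213ae2c909d712484eb0d24275829213aa2c909d512484e98f24274c692138a24909c012484de0f2426e849213722c909b612484d28b24268889213423c909a11a484d00724267c492133c249099d1e484ce8d24267439213382c9099b16484cd892426686))))) (BT.node (nat_lit 302) (BT.node (nat_lit 301) (BT.leaf (Bx.mk (nat_lit 0x9223022c9118112488b68d2445b429222b62c9115a12488ac8f24456459222b02c9115812488a38b24451c492227e3c9113d124889c0b2444dc592226e2491136164889b092444c86922262349112d16488968924448449222403c911201a4888e0d24446c492223424911161a4888a8924441069221f82c910fc124887c852443e049221f01c910f612488778f24439869221c234910dc124886689244320692216024910ac1a488560b2442a0592215024910a61e488520b24429049221443c9109f164884b0d24425829221283c9107e124883a0b2441bc49220da249105f124882e8f24416c49220880c910401a4881c0f2440dc492206a2c910341e4881a0d2440d0592205e3c9102b1e488141124409c892204e24910261e488120924407079220322c90ffe1e487fe8b243fe85921ff22c90ff01a487f789243fb87921fdc1c90fe51e487f209243f806921fbe2c90fde12487ef05243f6c6921fb42490fd312487e389243efc4921f7c2490fbd16487de0f243ed44921f642c90fb01e487d807243ec02921f5c3c90fae1a487d409243e487921f1c3c90f8712487c30f243dec8921ef63490f7422487b98b243da06921ecc2490f650e487ac8f243d407921ea03490f4f06487a50b243d284921e923490f46224879b09243cd45921e682490f311e487958f243ca46921e4e3c90f1b1e4878d87243c404921e101490f0612487828b243c0c7921e043490eff164877f0f243bf86921dfa3c90efd1a487798f243bcc6921de62c90ef20e4877809243bbc4921dda2490eec06487758f243ba87921dd43490eea164877209243b901921dc03c90ee01a4877003243b7c7921dbc3c90eda124876b8f243b5c4921dac3490ed31e487680b243b404921d9e0c90ece1e487670d243b382921d9a3c90ecd1a487618d243b0c2921d822490ebe1a4875a09243acc7921d663490eb3164875909243ac04921d4c4490ea51e487528d243a945921d482490ea31e487510b243a785921d1a4490e8d124874685243a288921d0c4490e8316487410b2439e45921cf22490e781e48739892439906921cbe2490e5d16487260b2439204921c764490e381a487190b2438985921c463c90e1d164870d852438402921c161c90e0a16486fd8f2437e47921be03c90df01a486f68d2437b44921bda1490ddb1a486eb092437444921b9c3490dcb1e486e58d2437287921b943490dc912486e30f2436d07921b662490d9406486c98d2436444921b1c3490d861e486b9092435b46921ada1490d6a1a486b30d2435947))) (BT.leaf (Bx.mk (nat_lit 0x923082249183c1e48c1e0d2460f0192307424918351248c1a0f2460d069230680c918320648c180924609c492304a3c918241248c0b0924604c69230221c9180e1e48c058b246018492300424917f91248bfc85245fbc7922fde1c917ef0a48bf70d245f646922fb024917d51248be90f245f486922fa40c917d01248be709245f284922f8424917c11648be009245efc4922f7824917b80e48bd911245ec84922f023c917681248bac0b245d546922ea634917521248b9c09245c948922e1c34917091e48b8183245bfc5922df624916f51e48b7a8d245bd45922de644916f31248b780f245bbc8922dde34916c31248b5f89245ac87922d6434916ab1248b5089245a806922d102c9166a1248b340d24599c7922ca0349164a0648b19112458c84922c2424916051648b008b2457e85922bd82c915de1e48aee8d2457546922b7424915b91248ada0b2456cc3922b3824915981e48abf032455f46922ae244915711248ab80f2455c06922ae02c9156f1e48ab7092455b44922ab024915571a48aab852455484922a9a3c915451648aa10f2455086922a7c2c9153e1248a9e892454ec4922a723c915351248a980b2454b45922a58349151d1648a84092453c869229d02c914de1e48a6f0d245370492299c44914cd1248a6183245308892298424914a21a48a500324526c1922900249146a1248a2f87245140492289e3c9144a1e48a250d2450f07922878349143c1648a1c892450dc49228622c914311248a0f8f24507c692283c249141c1648a0d8d2450684922830249140716489ff8d244ff849227f424913f912489f78f244fbc69227dc1c913ed16489f60b244fa049227cc24913e41e489ea0f244f3c192278e2c913c712489e10f244ed8192275c1c913ab1e489d50b244e84592271c449138812489c30d244db049226d63c9136512489b10f244d6869226823c9132c1a4898c09244c30592260e2c91305164898189244be859225e844912f3224897891244bc479225e044912f01a489778f244bb449225ca24912e31a4897109244b8459225c024912cd1e4896609244b28292258e2c912c1124895f91244af889225582c912ab1a489548b244a94792254844912a3124894e8d244a6479225323491297124894a0f244a50692250a2c912821e489410d244a0059224e4249126c12489288d2448f019224763c9123016489128b2448886922440249120112488ff0b24478c59223ac24911ca16488e20f2446e839223662c911b312488d68b244674592233a249118d1a488c60924462c7)))) (BT.node (nat_lit 303) (BT.leaf (Bx.mk (nat_lit 0x923c383491e021248ef6092477ac6923bc83c91dd41248ee98f24774c6923ba62c91dc70e48ee18b2476ec5923b3c2491d8e1648ec7092475f45923afa2491d7a1248ebc092475448923aa22491d491e48ea4112475185923a8c2491d431248ea08f2475007923a6e2491d351e48e988d2474a84923a442491d201e48e8d8d24743c4923a1a3c91d091a48e840d2474107923a083491cff1248e7d8b2473ec49239f43491cfa0a48e7b892473cc49239d22491ce81a48e740524738049239823c91cc11a48e60092472f849239782491cbb1a48e5a8d2472c0492394e2491c981e48e490924723449239002491c7f1a48e3f872471ec69238e02491c6d1248e350b24718849238b63491c5a1248e2a8b24715449238a63491c511248e248924712079238902c91c3e1648e1f092470e069238502491c222248e0089246fe049237ea3c91bf51a48df50f246fa869237d02491be41248de909246f3059237962c91bcb1248de40d246f1c792378e3491bc61248de109246e7469237182491b8b1e48dc58b246e2859237142491b871248dbb8f246ddc59236ec2491b6e1648db709246dac79236d02491b631248db10d246d8859236be4491b531a48da909246d3c892367c2491b3d1e48d9c8b246ce4492366c2491b292248d9489246ca079236502c91b251248d920b246c7c492362e2491b051248d7f0b246bc859235de3c91add1648d6c09246b5c79235ac2c91ad61248d670b246b3849235603c91aac1248d5311246a6449235182491a851648d4289246a1419235023c91a7f1648d3d8b2469d059234e22491a6f1e48d370924699479234c61491a591648d2c8924696059234b00c91a572248d2b8f24695c69234ae1c91a551648d280b24693069234982c91a4a1e48d250d24691049234862c91a421648d1d892468d849234622491a301a48d180b2468b4592345a2491a211648d1089246880792341e3c91a0f1648cf90f2467c869233dc34919ed1648cf58f2467ac69233ce24919e61248cf109246718592338c24919ac1248cd58f2466a0292334c24919a41248ccd892466685923332249198b1248cc18d2465f449232ee34919761248cb48524658c69232c61c919581e48cac0d24655049232883c919441a48ca1092464d469231f03c918e91a48c740924638079231a624918d01e48c68072462d4792315624918a51648c520b24628c79231103c918850a48c410f246208692310224918801248c3b892461d059230c23c918611a48c2d0b24616479230963c918421e48c210d2461081))) (BT.leaf (Bx.mk (nat_lit 0x92480824923ed12491f289248f8849247b824923d412491e40f248f2069247881c923c212491df8d248ef429247782c923bb16491dd0d248ee4792477234923b612491da89248eb4292475224923a71e491d30d248e84592474224923a01a491ce8d248e6c4924730349239112491c589248dcc59246e4349237216491ad8d248d6c59246ac249235412491a98f248d4c69246a23c9234c12491a58f248d084924678249233b1e4919d85248ce8392466a2492334164919a09248ccc5924654349232912491900d248c6c49246282c9230f1e491878b248c2849246103492308164918183248c0469245f824922fc064917c0b248bdc69245ee1c922f516491798d248ba449245c224922bd0a4915e0f248af069245782c922bb124915c8f248adc592456e24922b0124915689248ab069245581c922a912491540d248a9c492454a3c922a31e491518d248a8c5924542249228c1649145092489f859244bc249225212491288b24892049244803492240164911f892488f04924476249223412491198d2488cc5924436449221b124910c91248860592441e3c9220f16491060b248830492440e24921fb1e490fd8d2487b879243da24921e31e490f18d2486e849243723c921b91a490dc8b2486e0492436e2c921b712490d50b2486a8492432424921911a490c88b24861469242e624921571a490a98b24854849242a23c9215116490a883248490692423c2c9211216490878924843069242162492106164907f892483e019241ee24920f612490708f24838469241bc24920dc1e4906d8d248368492419624920bf1e4905f092482d879241443c920871a49039892481c869240e0349206e1e490350d2481a859240ce349206716490300924816849240ac349204c1e490248f248118492408c149204516490218d2481084924082249203e124900f8b24807449240383c9201c1a4900d0924805c59240243c920121a490078d24802c69240142c9200a12490038924801849240082491ff71648ff511247f006923f742c91fba1248fd309247e4c4923f162491f881248fb689247d703923ea62491f471e48f9b8b247c944923e481c91f240a48f8707247bf46923dd42491edb1248f6b0b247b284923d923491ec91648f6409247b005923d802491eb71248f5389247a904923d480c91e9b2248f4209247a0c7923d062c91e7c2248f3a0b24798c7923cc63491e621648f31092479805923cbc2491e541648f298b24794c4923ca22491e4e1e48f1e8f2478f05923c782491e231248f0e912478708))))))) (BT.node (nat_lit 312) (BT.node (nat_lit 308) (BT.node (nat_lit 306) (BT.node (nat_lit 305) (BT.leaf (Bx.mk (nat_lit 0x9a55d41cd2ae71e695738d34ab9c19a55ca24d2ae112695658f34ab2c59a558624d2ac21a695610b34aaa469a55520cd2aa812695521134aa9049a55480cd2aa122695500934aa5869a552c2cd2a8e1e695470d34aa3049a550c24d2a7f12695368934a9a479a54b62cd2a59126952b0f34a95869a54ac0cd2a55126952a0934a87049a542824d2a121a695058934a82849a541024d29f912694fc0f34a7c859a53e234d29f012694ed0934a76479a53b22cd29b112694d60934a6ac69a53483cd29a012694cd0f34a66869a532a44d29941e694ca0d34a64849a531624d298916694c38b34a5fc49a52fc2cd29601e694b00d34a58059a52a02cd295012694a58f34a50079a527634d293a126949b0734a4d049a52643cd29321a694988934a4ac79a525634d292712694908934a47c49a523224d29181a6948c0b34a45449a52283cd291416694868f34a43459a52023cd28ff166947f0934a3ec69a51f03cd28e612694728f34a39459a51b224d28d71e6946b8d34a35c59a51a224d28d012494590924a250292511624928851e494408924a1e859250e23c928711a494380d24a1bc49250da349286c12494328924a18849250c22c92856124942a8d24a1545925080249283f1e4941e8b24a0847925040249281912494070d24a038192501a24927d81a493ec0b249f2c4924f943c927ca16493e409249f186924f6a24927a41a493cc8f249e5c2924f1e3c9277212493ad89249cfc7924e7e349272c064939309249c885924e3a3492717124938a85249bcc4924ddc24926e0124936f8f249b7c5924dbc24926d412493698f249b4c6924da62c926cf1a493630b249b044924d743c926ba164935c89249adc5924d6e24926b5124934f0b249a707924d26249269012493468b2499d07924ce62c926731249339092499b83924ca2349265012493248f2499184924c86249262a16493148b2498a44924c503c9262606493120f2498906924c480c92621124930e0b24986c6924bd43c925dc16492dc892496e05924b34249259612492c88d2496405924b0c2c9258612492c3032495fc7924afe349257f06492be892495dc7924aea24925581e492a10d24943c4924a1a34924f406492798924939849249b424924d91a4926c8b24931849249881c924b812492570f2492b8692494a2c924a5124924e0924921449249082c92480124923b8924917079248b62c92459124922b1124915849248aa3c9245516492230724910449248723c924391a4921b0d24906c7924836349241a12492060924902c4))) (BT.leaf (Bx.mk (nat_lit 0x9a5ece2cd2f631e697b18d34bd5449a5ea414d2f4912697a08f34bd0469a5e642cd2f221a697900f34bc7c49a5e3c24d2f1b166978b8934bc5049a5e263cd2f131a697818f34bc0859a5df43cd2ef116697778b34bbb869a5dd60cd2edc1e697678b34bb3079a5d8c24d2ec512697600f34bafc79a5d7e34d2ebb166975b8934bac049a5d5e24d2eaf0e697558f34baa069a5d482cd2e971e6974a8934ba5429a5d2824d2e921e697478d34ba3849a5d1a2cd2e8b1e697430934ba0c59a5d0224d2e801a6973f8f34b9ec39a5cd43cd2e671a6972a9134b93c79a5c8a34d2e4512697218b34b90849a5c822cd2e39166971c0b34b8e049a5c6e2cd2e3316697178d34b8b869a5c262cd2e1212697080934b83459a5c1a24d2e0b1a697058b34b82049a5c0e24d2e0616697008934b7fc69a5bfc2cd2dfe12696fe0f34b7e879a5bf42cd2df41a696f98934b7c469a5bc22cd2de112696f00b34b77c79a5bba2cd2ddc1e696ed8f34b76469a5bae34d2dd716696e78934b73879a5b9024d2dc40a696e10f34b70869a5b840cd2dc112696de0934b6d879a5b6a24d2d9e1a696cf0334b67059a5b3624d2d9b0e696c88934b64419a5b202cd2d8d1e696c60d34b60449a5ade24d2d6f06696b60f34b5a879a5ad434d2d6112696af0f34b57459a5ab80cd2d5a12696ab8d34b55849a5aa624d2d521a696a90b34b52879a5a8824d2d411e696998b34b47049a5a0c3cd2d0616696800934b3f869a59e024d2ced16696748d34b39059a59c63cd2ce3166966f8934b35479a59a024d2cc21a696600b34b2d849a596234d2cb116696560934b2a479a593a34d2c911a696420b34b1f469a58f824d2c7a126963b8934b1d079a58e434d2c6b12696348334b1a059a58c83cd2c641a696318b34b18049a58ac34d2c5512696290934b10879a588434d2c411a6961e0f34b0ec79a586c0cd2c3012696168d34b05069a58163cd2c0b1a696040d34b02059a580a2cd2c0112695ff1134aff879a57fc34d2bfb1e695f78b34af9c49a57c63cd2bd61a695e78f34af3c39a578c24d2bc516695de8934aef059a577424d2bb712695d68934ae9c49a574c2cd2ba41a695cd8934ae3449a57182cd2b7d12695b58f34ada479a56c024d2b5a12695a40f34ad1849a568624d2b41066959f8b34acf849a567a3cd2b3d1a6959e0b34accc69a56662cd2b2d1e695968b34ac9879a564a24d2b2412695900f34ac7859a562c34d2b0e1e695850b34ac2819a561034d2b071e695838d34ac0469a560024d2af40a695798f34abb87)))) (BT.node (nat_lit 307) (BT.leaf (Bx.mk (nat_lit 0x6018de1300c6d19806368ac0319c46018c82300c5c158062e08c0316c86018a03300c371d806178cc0301846017d62300be715805f28cc02e6c66017323300b9611805ca0ec02e5066017243b00b9011805c60cc02e2866017122300b8311805bf8ec02dfc66016fa3b00b7711805ba08c02dd016016e62300b7305805b808c02dc016016dc3b00b6d1d805b60ec02db066016d22300b30118059408c02c5846015fe3b00afa118057c88c02be416015ee3b00af519805798cc02b5c66015a23b00ac21d805610ac02ae866015362b00a97158054a8cc02a4056014ee3b00a751d805340ec029a066014c02300a5d19805280cc028f446014722b00a39118051988c028c886014642300a271d805108ec0288466014420b00a20118050f88c02824560141223009e91d804f48cc027a4160130a330094b19804a582c02528460123632c085d116042a0eb0215065810a63ac082f1d604178cb020987580f2022c078711603c18cb01e004580eb432c05211ae994a8d74ca506b26524259329112c99480964ca384aa6508355327f1aa993f0f54c9e87aa64f23d532741ea99378f54c9b46aa64d235532661ea99300f54c9784aa64b43d5325512899238d44c9184a26486351323512899198944c8c44a26454251322212899060944c8144a263ec25131ef12898f58944c7844a2639835131c312898dc0944c6d04a2636425131b01e898d50f44c6a44a2635025131a612898d20944c6887a26340251319c12898cd8944c6501a2631e2d1318e12898c38944c6144a263083d131841a898bc0d44c5c84a262e23d131611e898ac0b44c5545a2628c2d1314612898938944c42c5a2620225130fd068987b8f44c3ac8a261ce2d130dc1e898628944c2e44a2617025130b212898570b44c2a47a2615225130a612698490934c23459a611a24d308c1a698460b34c22c59a611624d308a16698440f34c21049a60fe2cd307d166983d8b34c1e489a60f234d3077126983b0934c18079a60c01cd30600a6982f0d34c16489a608e2cd304712698228b34c11449a60780cd303b226981d8d34c0d839a606824d303116698188934c0ac19a605434d30291e6980f8d34c07449a60322cd30131e698098934c04049a60180cd300a12698028934bfc059a5fd634d2fe812697f28b34bf7879a5fba0cd2fdc1a697e78f34bf1059a5f6e34d2faa1e697ce0b34be5459a5f281cd2f9206697c30b34be1079a5f0224d2f801e697be0b34bde439a5eee34d2f7512697ba0d34bdc879a5ee424d2f720a697b80934bdac5))) (BT.leaf (Bx.mk (nat_lit 0x6822ba234115c21a08ae08d045005682280234113e09a089d88d044c8568226423411311da08988cd044c43682262134112a11a088b0ed04458668222c1b4111609a08878ed043e446821da23410e715a087388c4ca98762654c33132a615899528ac4ca9446265482b132a411899518ac4ca8c46265442b132a211899508ac4ca8446265402b132a0118994f8ec4ca7c662653e2b1329e1d8994f0cc4ca78562653a2b1329d118994e0ec4ca6c5626536231329a158994d08c0438046021be2b010de1d8086f0cc04378360219823010c9118086408c0431c66021703b010b8198085188c0428466020f63b0107b198083c8cc041e046020ec3b01076198083a0ec041cc46020e2330106d11808350ec041a866020d23b01069198083308c0419016020c2230105d11808208ec04104660207e3b0103f198081e0ec040e876020743301039118081b88c040d4760206a33010331d808198cc040b076020563b0102b198081508c0408c4602040230101f118080c0cc0405c460202e0b01015198080a10c0404c66020262b00ffa1d807f388c03f9c1601fcc3b00fe619807f210c03f687601fb43300fd011807e688c03f2c5601f962300fc211807e00ec03ee87601f743300faf11807d60ec03e584601f203b00f9019807c806c03e402601f0a2300f831d807c18cc03e0c3601f061300f7d11807be10c03df04601ef63b00f7b19807bd08c03d545601e8e2300f3a218079d08c03ccc4601e4c3300f0f158077f0ec03bf86601df83b00efa11807798ec03bcc6601de23b00eeb118077108c03b801601dbc2300edd118076e82c03b706601db42300ec8158076408c03b108601d863b00eb9158075c0ac03adc7601d583300ea3118075108c03a881601d3e4300e9e198074f0ac03a5c6601d1a3b00e8d0d8074288c03a107601cf43300e6e158073708c039ac4601cd03300e6511807318ec0398c6601cc42300e61118072e08c0396c4601cae3b00e47118072288c039045601c7e3b00e391d8071c8cc038cc4601c642300e2f1d8071108c0387c4601c382b00e1b1d8070d8cc038587601c282300dfa11806f890c037c44601be21300df011806f48ac0379c6601bc43300dcf11806e70ac037347601b9a3300dc611806e20ec037106601b880b00dc211806db0ac036cc5601b642b00db11d806d70cc036804601b182b00d8b1d806c40cc0345856019742b00ca9198065486c032a4260194c2b00ca31d8064c0cc03260560192a3300c8e19806460cc031c456018de4300c6f1d806378cc031bc3))))) (BT.node (nat_lit 310) (BT.node (nat_lit 309) (BT.leaf (Bx.mk (nat_lit 0x6829d033414e815a0a738ad0539856829ca33414e509a0a718ad0538476829c233414e10da0a7084d0537886829bc3b414de19a0a6f06d0537456829ae3b414d719a0a6b10d0535456829762b414ba15a0a5c8cd052d4768296223414b015a0a5390d0529c268294a2b414a511a0a518ed05288668293e334149d15a0a4c86d05260568292c3b4148d1da0a468cd0522c7682916334148b0da0a4584d052144682908234148011a0a3f0cd0518866828a63b4145319a0a2908d05144468287a234143811a0a1308d050944682848434142411a0a1110d0507046828380b414141da0a0a04d0504c3682824434141219a0a080ad05038768281c334140e0da0a0704d050347682810334140419a0a0202d050047682802334140105a0a0008d04ff846827f443413fa11a09fd04d04fc876827e02b413dd15a09ee0ed04f4876827a023413cf1da09e38ad04f08468278023413bd15a09de88d04ee8568277423413b811a09d70ed04eb8668275c0b413ad21a09d688d04eac76827560b413aa11a09cf88d04e6886827343b4139819a09cb0ad04e5456827282b4139205a09c88ed04e4436827183b413881da09c40cd04e20168270a3b4138519a09c282d04e0c46827043b4138219a09c102d04e0046826fe3b4137f05a09a90ad04d4846826a03b4135019a09a806d04d402682682234134011a099e90d04cf076826782b413351da099a8cd04c90568264823413231da09918cd04c8c3682646134130d1da09818ed04c0c66826061b4130309a097d0ed04be866825f42b412f611a097808d04bbc46825dc33412e211a096a0ed04b5016825a623412d119a096808d04b00868258013412be11a095f06d04af4568257a1b412bb15a095c0ed04aa8568255423412aa05a09548cd049ec26824f0234127721a093b88d049d456824ea234126719a09338ad0499846824c823412631da092d88d0496046824ae334125211a09288ed0493c868249e1b4124e15a09268ad0493056824901b4124719a09210ed048f8768247c334123b1da091d8cd048e4468246c23412351da091a8cd048d416824523b412261da09130cd04894468242e23411e715a08f308d0479476823ca33411e509a08ef8ed0475846823aa3b411d41da08e90cd0474076823923b411c919a08de88d046f066823781b411bc09a08db88d046d8468236a3b411b41da08d990d046c8768236433411971da08cb8cd046407682320334118a11a08c208d04604868230223411801da08c00cd045fc46822ca2b4116411a08b18ed0458c6))) (BT.leaf (Bx.mk (nat_lit 0x68318a43418c515a0c6288d0630c868318443418c219a0c5d88d062e4468315c3b418ac11a0c530ad0623c668311a3b4188d19a0c468ad0621c56830fe3b4187f19a0c3f08d061f446830f4334187915a0c338ed0619c66830a43b4185219a0c290ad06148168308c2b4183011a0c0f10d0607826830382b4181b11a0c0d86d0606816830322b4181911a0bff0cd05fdc7682fee0b417f611a0bf108d05f648682fb033417c411a0bdc90d05ee04682f6c23417b521a0bda88d05ed07682f680b417b115a0bd888d05ebc7682f5e33417af0da0bd784d05e784682f3a434179d11a0bce0ed05e706682f36234179a21a0bcc8ad05e5c7682f2e33417970da0bcb84d05e285682f122b4178911a0bc486d05e207682f1033417880da0bc404d05e187682f0c2b4178211a0bc08cd05dfc7682ef0234176811a0bb402d05d988682ecc3b4176609a0bab0ad05d347682e822b4172a1da0b9488d05ca41682e50434172819a0b9406d05ca02682e4c3b4172619a0b920ed05c906682e40334172009a0b8e82d05c687682e3433417171da0b880ed05c406682e1e434170f11a0b8786d05c3c1682e1c334170e0da0b838ed05c1c6682e063b4170319a0b8108d05bec7682df633416fa1da0b7d0cd05be83682df00b416f61da0b7b0cd05bb84682dda3b416e905a0b7402d05b907682dc60b416e221a0b710cd05b848682dc223416e105a0b6f88d05b786682db633416da11a0b6c8ed05b606682da623416d11da0b688cd05b445682da03b416cd11a0b6588d05af44682d7843416bc1da0b5e0cd05af03682d7813416b611a0b598ed05acc5682d542b4169511a0b4a0cd05a1c5682cec3b416691da0b2f88d0594c4682ca4234165115a0b2810d059404682ca01b4165009a0b2408d0591c5682c84234164011a0b2006d058dc5682c64234162911a0b1408d0589c8682c4e23416270da0b1384d058884682c2a43416141da0b0a0cd0584c4682c12234160811a0b0388d0580c4682be443415ed11a0af60ad057ac7682bd633415eb0da0af302d057944682bc823415e311a0aef0ad057782682bba43415dd1da0aee8cd057743682bba13415bb15a0add88d056ec1682b083b4158011a0abf0ed055f48682af83b4157c15a0ab18ed0558c6682abe2b4155e15a0aac90d055644682ab02b4155611a0aa90ad055385682a94434154a1da0aa490d055207682a86234154219a0a9888d054c07682a3a2b4151d11a0a8508d053e856829f22b414f815a0a790ad053b486829da1b414ec15a0a7606d053a47)))) (BT.node (nat_lit 311) (BT.leaf (Bx.mk (nat_lit 0x6837d42341be41da0df208d06f9026837c03341bda15a0dec8ad06f5c76837ae3341bd705a0dea0ad06f5046837a62b41bd21da0de90cd06f4856837a40b41bd115a0de802d06f3c468378c3b41bc619a0de20cd06f0876837843341bc205a0de008d06ee856837721b41bb615a0dd98cd06ec0168375e0b41ba31da0dcf88d06e74768373a2b41b9b1da0dc682d06e2846837122b41b8815a0dc402d06de076836ec3b41b741da0dba0cd06dc046836d02341b6715a0db382d06d8886836c23341b6115a0db010d06d7c16836b02b41b4d11a0da388d06ce846836704341b3811a0d9b90d06cdc468366c3341b3421a0d8b8ad06c5c468360a2b41b0415a0d8088d06bf056835f62b41afb11a0d7d0cd06bd456835e63b41af015a0d7782d06b7456835b23b41ad915a0d6b0ed06b4816835a02341acf11a0d6784d06b2486835922341ac815a0d6082d06af8868357c2341ab711a0d5b04d06abc56835463b41aa319a0d510ad06a8846835422341aa011a0d5006d06a7046835362b41a951da0d4a8cd06a4866835183b41a8019a0d3608d069a456834d02b41a6715a0d3388d0699476834ac4341a4f11a0d2782d068ec56834740b41a2c1da0d160cd068b016834562341a2921a0d1488d068a0468344e2b41a2411a0d0e02d0686846834324341a1911a0d0c86d0685046834262b41a1011a0d068ad0683446834142b41a061da0d030cd06818168340a2341a0011a0cfb08d067d486833ea23419f01da0cf80ad067a076833d033419d911a0cec08d0675c46833a023419d005a0ce108d0670456833803b419c019a0ce006d066f8768337c33419bc19a0cd80ad066c0468335e33419af0da0cd70ad0668056833382b4199b15a0ccd88d0665046833222b4198d15a0cc688d066308683318334198c09a0cc20ad0660066832fa3b4197a1da0cbc10d065e046832f01b4197719a0cbb84d065d836832ea1b4197315a0cb90ed065c866832e41b4197209a0cb78ad065ac56832cc3b4196619a0cb306d0659456832c83b4196409a0cb08cd0658426832ae2b4195711a0caa8cd0654c76832a6334195315a0ca58ad06524568328c33419460da0ca304d065144683286234194215a0c9f88d064f0768326e434193719a0c9b0ad064c886832643b4193219a0c9906d064c82683236234191411a0c810ad063b876831dc33418ee15a0c7706d063b466831da1b418ec09a0c7586d063ac26831d60b418e715a0c7388d0639856831c83b418de15a0c6b0ad06358468319a33418c821a0c6310d063185))) (BT.leaf (Bx.mk (nat_lit 0x683d603b41ead11a0f518ad07a8c4683d443341e8a11a0f440ed07a185683d0a2b41e8415a0f4208d079f84683cfc0b41e7515a0f318cd0797c7683cbe3341e5f0da0f2f84d079647683cb23341e561da0f2b0cd079506683ca82b41e5011a0f2802d079347683c9a3341e4b19a0f2586d0792c2683c8c3b41e4619a0f208ed079046683c723b41e3919a0f1c8ad078dc4683c6e0b41e341da0f1a0cd078c44683c5e0b41e2e21a0f170ed078b41683c582341e2b19a0f1402d0789c4683c4c2341e241da0f0f8cd0786c6683c342341e191da0f0c8cd078604683c262b41e1311a0f090cd077f44683bf82b41df811a0efb0cd077d41683be62b41df221a0ef90ed077c86683be41b41df209a0ef688d077944683bba3b41ddd15a0eed0cd077682683bb02b41dd61da0ee988d077404683b742b41db919a0ed48ad076884683b440b41d9e11a0ecd8ad0766c1683b322b41d8711a0ec18cd076044683af03341d7309a0eb902d075c44683ae21b41d7009a0eb78cd075a84683ad22b41d621da0eb10cd075745683ab63341d561da0eab0cd075544683aa82341d5211a0ea80ed075406683aa02b41d4e19a0ea30ad075184683a843341d3c11a0e9a8ed074d46683a6a2b41d231da0e9090d074846683a422341d210da0e900ad074802683a3c3b41d1e19a0e8f06d074782683a383b41d1c05a0e8a8ed074546683a282341d1311a0e8508d074244683a102341d0711a0e830ad0741446839fe3b41cfc1da0e7d10d073e476839ec2341cf609a0e7490d073a446839d21b41ce115a0e6f8cd0735c46839ae1341cd61da0e6b0cd0735856839ac1341cd415a0e690ed0734866839a41341cc919a0e628ed0730866839842b41cbf1da0e5f8cd072fc16839783341cb611a0e5a88d072d046839664341cb311a0e5808d072bc76839583b41caa1da0e5386d0728886839442341ca20da0e500ad07258368392a2b41c9319a0e4588d0722046839101341c871da0e438cd0721c568390e1341c8609a0e428ad0721076839083341c8409a0e3e0ed071f066838f43341c7915a0e3c86d071e416838ee3341c7715a0e360ed071b066838d80b41c6b11a0e348ed071a466838d20b41c6811a0e2708d07118368388c1341c411da0e208cd07104568387c2341c2f11a0e1708d070a486838503b41c2611a0e128ed07074868383a2341c1d0da0e0e0ed0707056838381b41c1a1da0e0d06d07048768381e2b41c0d19a0e0510d0702846838141341c0615a0dfd0ad06fd856837ea3b41bf20da0df904d06fac5)))))) (BT.node (nat_lit 316) (BT.node (nat_lit 314) (BT.node (nat_lit 313) (BT.leaf (Bx.mk (nat_lit 0x68437e33421be11a10de88d086dc568436033421b015a10d482d0867c768433e334219f05a10ce08d086687684334334219a15a10cd02d08660768433033421941da10ca02d0861846842ea234217421a10ba0ed085d066842e81b4217115a10b80ad085c046842e01b4216f1da10b78cd085bc36842de134216e15a10b60ad0855c5684294434214a1da10a50cd085283684294134213f21a109f88d084fc368427e0b4213e21a109f0ed084f8668427c1b4213e09a10990cd084c836842623b4213119a109884d084b8168425a434212d1da10968cd084b046842523b4212819a109388d08498768424c334211915a108c88d0846066842102b4210811a10838ad08418768420c134210211a107f0ad083e456841da3b420ed0da107684d083ac66841ca33420e509a10710ed0838046841bc3b420de09a106e0ed0837066841b63b420db19a106d88d0836c26841b033420d11da10688cd08344368418e3b420c311a10610ad08304768418233420c01da10600cd082f0768417833420ba1da105c0ed082e066841702b420b311a10568ad082b4168415843420ab15a105584d0828c568413a3b4209d19a104e08d08220568410e434207a15a103808d081b466840d623420651da103208d0813c568409c2b4204e11a102690d0813466840783b4203c19a101e0ad080ec1684074234203911a101b82d080d8868406a2b4203511a101990d080cc768406633420330da101708d080b476840483b4201e05a100b8ed0805c668402c234201511a100708d0803076840062341ffe21a0ffe0ad07ff04683ff23b41ff311a0ff90ad07fa47683fd23341fe811a0fed8cd07f644683fa23341fce1da0fe70cd07f344683f982341fc815a0fdd88d07ee84683f703b41fab1da0fd58cd07ea84683f522341fa11da0fc58ed07e285683f122b41f8905a0fc408d07e004683f001341f7f1da0fbf8cd07dfc5683ef84341f7c11a0fb80ad07da84683ed03341f631da0fb188d07d886683ec41b41f600da0fb004d07d7c7683eae3b41f5719a0fab82d07d584683e802b41f3f05a0f9d8ed07c805683e402341f1715a0f890ad07c245683e120b41f0815a0f8408d07c1c5683e062341f0219a0f7d88d07bb84683dd82341eeb15a0f7490d07ba44683dd21b41ee909a0f728ed07b946683dca0b41ee311a0f7110d07b884683dc41341edc11a0f6d8ad07b545683daa2341ed421a0f6a08d07b503683da81341ecb11a0f650ad07b284683d922341ec415a0f6188d07b006683d7c3341eba1da0f5d0cd07ae85))) (BT.leaf (Bx.mk (nat_lit 0x6a664a235332509a99920ad4cc8c56a664623533221da99910cd4cc8856a6642435332111a999086d4cc8056a6640235331f11a998f0ed4cc7866a663c2b5331d11a998e08d4cc7016a66363b5331b19a998c88d4cc6086a6630235331721a998b88d4cc5846a662a2b5331511a998a0ed4cc5066a66282b5331311a998908d4cc4456a6622235331021a99880ed4cc4066a66201b5331009a998788d4cc3846a6618335330b21a998588d4cc2856a66122b533081da998388d4cc1856a660c235330515a998288d4cc1046a6604435330211a998090d4cc0456a6602235330021a99800ed4cbfc86a65fe33532fe15a997e8ed4cbf466a65f83b532fc15a997d8ed4cbec66a65f443532fa11a997d06d4cbe466a65f22b532f715a997b0ad4cbd456a65ea23532f41da997a0cd4cbd056a65e63b532f319a99798ad4cbc846a65e223532f015a997808d4cbbc56a65de23532ef05a99770cd4cbb856a65da2b532ed11a99760ad4cbb046a65d80b532eb15a997588d4cba876a65d42b532e915a997488d4cba056a65d023532e805a99738ed4cb9c56a65cc33532e615a99728ad4cb9446a65ca0b532e415a997208d4cb9016a65c62b532e311a99710ed4cb8866a65c42b532e11da99708cd4cb8046a65be3b532df19a996f8ad4cb7846a65ba3b532dd19a996e8ad4cb7046a65b62b532db11a996d0ad4cb6846a65b02b532d811a996b8cd4cb5876a65aa3b532d519a996a0ed4cb5066a65a623532d21da99690cd4cb4856a65a23b532d119a99688ad4cb4046a659e23532ce15a996708d4cb3456a659a23532cc11a99658ad4cb2c46a659423532c91da99648cd4cb2436a659213532c815a996408d4cb1c46a658c23532c609a99628ad4cb1446a65883b532c315a996188d4cb0856a658423532c115a996088d4cb0056a657e2b532be15a995f08d4caf456a657833532bc15a995d88d4cae876a657433532ba15a995c8ed4cae466a65702b532b71da995b8cd4cadc16a656a23532b411a99598ed4cac876a656433532b11da995808d4cabc76a655e33532af15a995708d4cab446a655a0b532ac1da99560cd4caac56a655423532aa05a99548ed4caa466a655033532a715a995388d0885c868442e3b4221711a110b84d0885426844283b4221419a11090ad0883046844163b422001da10ff0ed087f866843fc0b421fc1da10fe0cd087f016843f43b421fa19a10fc88d087b846843d80b421eb11a10f508d0879476843c823421db19a10eb88d0873476843963b421cb19a10e58ad086fc7)))) (BT.node (nat_lit 315) (BT.leaf (Bx.mk (nat_lit 0x6a676423533b115a99d78ed4cebc66a675e2b533ae1da99d70ad4ceb456a675a23533ac15a99d608d4ceac56a675623533aa15a99d508d4cea816a67522b533a911a99d482d4cea056a675023533a715a99d388d4ce9876a674c33533a615a99d28ad4ce9056a674823533a315a99d188d4ce8856a674423533a115a99d088d4ce8416a67402b533a011a99d002d4ce7c56a673e235339e15a99cf08d4ce7476a673a335339d15a99ce0ed4ce7056a67363b5339b19a99cd0ed4ce6866a673223533981da99cc0cd4ce6056a672e235339615a99cb08d4ce5056a6728235339321a99c98ed4ce4c66a67261b5339309a99c90ad4ce4846a67223b5339119a99c88ad4ce4046a671e235338e11a99c68ad4ce3046a67162b5338b11a99c50ad4ce2476a6712335338915a99c408d4ce2026a670e3b5338719a99c38ad4ce1856a670a235338415a99c208d4ce0c46a67043b5338219a99c10ad4ce0456a670223533801da99c00cd4ce0056a66fe235337e11a99bd8ed4cdec66a66f62b5337a11a99bc88d4cde076a66ee33533761da99bb0cd4cdd856a66e83b5337419a99ba0ad4cdd016a66e6235337211a99b902d4cdc466a66e043533701da99b80cd4cdc036a66e0135336f1da99b78cd4cdb476a66da335336d05a99b60ed4cdb066a66d6235336a21a99b50ed4cda866a66d41b5336a09a99b48ad4cda446a66d20b5336815a99b408d4cd9c56a66ce23533661da99b30ad4cd9456a66ca235336505a99b20ad4cd9046a66c62b5336311a99b10ed4cd8856a66c2335336115a99af8ed4cd7c66a66be2b5335e1da99af0cd4cd7856a66ba235335c15a99ae08d4cd6c76a66b6335335b15a99ad08d4cd6476a66b2335335915a99ab8ad4cd5c46a66ac235335511a99aa0ad4cd5046a66a62b533521da99a90cd4cd4856a66a23b5335119a99a88ad4cd4046a669c2b5334d21a99a68ed4cd3466a669a1b5334d09a99a60ad4cd3046a66962b5334b11a99a50ed4cd2056a668e235334611a99a28cd4cd1456a66883b5334419a99a20ad4cd0876a6684335334215a99a088d4cd0046a667e335333e19a999e8ed4ccf466a66783b5333c19a999d88d4cce876a6674335333a15a999c8ed4cce466a66722b5333811a999c06d4ccdc56a666c2b5333611a999a88d4ccd076a666833533331da99998cd4ccc846a66623b5333119a99988ad4ccc076a6660335333015a999788d4ccbc36a665c2b5332c11a99950cd4cca856a66522b533281da99940cd4cca016a664e23533261da99930cd4cc948))) (BT.leaf (Bx.mk (nat_lit 0x70487e338243911c121c06e090a877048541b8242a09c12100ae0905047048242b8240e21c12070ee09038670481c1b8240e09c12010ae0900077047fa3b823fd19c11fb90e08fdc47047e633823f111c11f68ce08fa847047b613823d915c11e988e08f4877047a433823cf11c11e602e08f2887047943b823ca19c11e506e08f28270478c23823c41dc11e20ce08ed477047462b823a215c11d090e08e8477047402b8239415c11c310e08e1847047003b8238019c11bf88e08dc477046e2338237011c11b788e08db457046d4238235d11c11ae0ae08d6c77046b6338235b15c11ad82e08d6877046b2238235815c11ab82e08d4067046a00b8234e1dc11a60ee08d306704694338234a05c11a408e08cf84704670238232811c11930ee08c808704640238231705c118a08e08c14770460a338230505c11808ee08c0467045fe3b822ff19c117e88e08bcc47045da23822e111c11700ae08b7877045b633822d411c116906e08b38770459c2b822cb11c116108e08ae8370457413822b011c11570ee08a4447045202b8228911c11440ee08a2067045102b822801dc11400ce08a0057044fc3b822741dc11388ee089c047044d03b822661dc11330ce0899067044c80b8226111c112982e08944170449e3b8224f19c11278ae0893c170449c2b8224e11c112308e088ec6704472238222f19c111408e088904704444238222115c110f8ce0887076a67d02b533e811a99f38ad4cf9c46a67cc3b533e619a99f306d4cf9826a67ca23533e41da99f20cd4cf9056a67c643533e21da99f10cd4cf8446a67c03b533e019a99f00ad4cf7c46a67bc3b533de19a99ef0ad4cf7446a67ba1b533dc1da99ee0cd4cf7056a67b623533da1da99ed0cd4cf6856a67b22b533d911a99ec0ad4cf6046a67ae3b533d719a99eb86d4cf5c26a67ac2b533d611a99ea8ad4cf5446a67a843533d41da99ea0cd4cf5036a67a813533d311a99e90ed4cf4866a67a42b533d115a99e888d4cf4046a67a01b533cf15a99e708d4cf3836a679a3b533cd19a99e68ad4cf3076a679833533cc15a99e588d4cf2856a679423533c911a99e40ed4cf1c76a678e33533c61da99e30cd4cf1856a678a3b533c519a99e28ad4cf1046a67862b533c311a99e10ad4cf0846a67823b533c119a99e08ad4cf0046a677e2b533bf11a99df0ad4cef846a677a2b533bd11a99de0ad4ceec56a677623533ba15a99dd08d4cee456a677223533b815a99db8ad4cedc46a676c2b533b515a99da88d4ced056a676823533b315a99d988d4cec85))))) (BT.node (nat_lit 318) (BT.node (nat_lit 317) (BT.leaf (Bx.mk (nat_lit 0x704eb4138275411c13a908e09cfc6704e7e0b8273e11c139d88e09cb04704e42238270b11c138186e09bc45704dde3b826de11c136c88e09b606704dae2b826d705c136a8ae09b543704d943b826ca19c13600ee09b006704d7e23826be11c135c86e09ad85704d6a33826a419c134f90e09a743704d363b8269b19c134d0ee09a345704cfc2b8267c15c133d88e099e85704cf2238267115c133810e099c07704ce033826700dc133804e099b08704cd83b8266c19c13300ce099688704cb0438265811c132b8ee0995c6704cae2b8265511c132908e099445704c8e2b8263d19c131e10e098f05704c780b8263b21c131d8ee098ec6704c76238263b0dc131d82e098d06704c64238262d1dc13168ae098944704c46238262211c130a88e098345704c1a1b8260d09c130608e098285704c1413826091dc13048ce098204704c0a338260415c12ff0ee097f86704bf223825f815c12f406e097a02704bd00b825e411c12f18ae0978c3704bc42b825e20dc12f102e097844704bc03b825e019c12f00ae097788704bbc23825de0dc12ee8ee097746704bba2b825db11c12eb8ae0975c4704b942b825ca05c12e208e0970c1704b8233825b911c12dc0ce096d47704b6a2b825b21dc12d30ee096986704b4c0b825a511c12d108e096882704b32238259611c12c908e096287704b0c23825860dc12ba04e095ac6704ad2338255f11c12ad0ce095502704aa6238255205c12a890e095383704a9c138254d1dc12a68ce0952c4704a942b8254921c12a48ae095208704a903b8254819c12a408e094d45704a682b8253409c129808e094b46704a5a2b825211dc12908ce094845704a3c238251911c128c02e094488704a242b8251209c128902e094445704a202b8251005c12878ee0943c6704a1e2b8250d0dc12860ce094305704a18138250915c12828ae094107704a0833825040dc128204e094044704a020b825001dc12800ce093f867049f63b824fa1dc127a8ee093d467049e03b824f019c12770ce093b827049d63b824eb19c127582e093a447049bc23824d511c12678ce0933c370499c2b824ce05c12668ee0933467049963b824cb19c12658ae0932c17049923b824c919c126408e09314770498a33824c505c12620ae092f8670497c0b824bd15c125e86e092f057049781b824bb19c125d84e092e8770496e23824b615c125988e092b447049522b824a31dc12518ce0928847048fe3b8247f19c123f82e091ec47048ce238246311c12310ee09188570489c238244715c122088e090fc7))) (BT.leaf (Bx.mk (nat_lit 0x70538a33829c31dc14e108e0a6d8570536843829b41dc14da0ce0a6d0370536813829a511c14d190e0a68c47053303b8299819c14cc0ae0a65c5705326138299111c14c708e0a62c7705316338298a11c14c308e0a6104705306238297719c14b606e0a5b027052d80b8296921c14b008e0a57027052b42b8295621c14ab06e0a55057052a4138294f15c14a690e0a5307705298338294c0dc14a604e0a530170528c2b829451dc149f8ee0a4fc670527e1b8293f09c149e04e0a4e447052702b829331dc149708e0a4b04705256338292a11c149408e0a49067052481b8291819c148a82e0a45057052263b8291319c148986e0a41c4705208238290211c14780ee0a3c067051e02b828ed15c147610e0a3b077051d833828ec0dc147604e0a3a057051b22b828d715c146a8ce0a344670519a2b828c715c146288e0a308770518433828c019c14600ae0a2dc77051502b828a619c14530ae0a29047051423b828a119c144e0ae0a264470511c238288611c14420ce0a1fc27050fc238287c19c143e02e0a1ec57050f623828791dc143c8ce0a1e077050f02b828751dc143a8ce0a1d417050e82b8287311c143982e0a1c877050e4338287119c14378ce0a1b047050d43b8286a19c14350ae0a1a447050ca3b8286311c14300ee0a18067050c01b8286005c142f8ae0a17c37050bc2b8285e0dc142e90e0a17477050ba338285d0dc142e84e0a17087050b81b8285c05c142b8ae0a15c37050a83b828540dc142a04e0a144470509e338284c19c14250ce0a128170508c238284505c142082e0a0f8770507c338283e05c141d8ee0a0ec67050760b8283811c141a10e0a0d047050681b8283409c14190ee0a0b43705054138282911c14108ae0a08037050243b8281205c140888e09ff45704fdc43827ed1dc13f68ce09f888704fc42b827e121c13f08ee09f846704fc21b827e109c13f00ae09f705704fac2b827d411c13e088e09ed84704f6a3b827ae15c13d706e09eb82704f563b827ab05c13d50ae09ea82704f522b827a909c13d40ee09ea03704f4e33827a419c13d18ae09e7c4704f3c2b8279a11c13ca8ae09e447704f22338279105c13c808e09e3c5704f1e0b8278e15c13c690e09e347704f1a238278d0dc13c684e09e2c8704f140b8278515c13c18ae09e081704f02438278005c13bf08e09df41704ef83b8277b1dc13bd8ce09de07704eec3b827731dc13b98ce09dc87704ee4238277209c13b902e09db84704edc0b8276c11c13af0ee09d786704ebc0b8275d11c13ad08e09d683)))) (BT.node (nat_lit 319) (BT.leaf (Bx.mk (nat_lit 0x7059622382cae1dc16570ce0b2b8570595a2b82cac15c16550ae0b2a847059503382ca611c16528ae0b29447059484382ca411c165206e0b290270593c2382c9d15c164c90e0b26427059302b82c9811c164b86e0b258470592a4382c950dc164a10e0b25057059281382c901dc16480ce0b224470590c2382c8011c163f8ae0b1fc47058fc4382c7e09c163e08e0b1e877058f43382c7a15c16398ce0b1c017058dc4382c6e1dc16370ce0b1b837058dc1382c6211c163102e0b17047058ae3382c551dc162a8ce0b13067058943b82c4911c16240ae0b11c870588e1b82c4709c162308e0b0ec57058762382c3a15c161d08e0b0e437058721382c3505c161a0ce0b0c8470585e2382c2611c16110ae0b08087058403b82c2019c16100ae0b07c470583c2382c140dc160a04e0b050170581a1382c0a15c16048ae0b02077058060b82bf615c15f888e0afac47057d43382be719c15f388e0af9477057c62382bd91dc15e808e0af3c570579c2b82bce05c15e68ae0af2c770577a3b82b950dc15c108e0ade447056f03b82b751dc15ba8ce0add417056d60b82b6a21c15b50ce0ada817056aa2382b4311c159f10e0acf8770567c3382b3e0dc159f04e0acf4570567a0b82b3b15c15998ae0acb477056402b82b1f19c158c0ae0ac1477056062382af91dc157c8ce0abe047055ee2382aef19c157708e0aba447055d00b82ae711c157382e0ab9847055ca2b82ae315c157110e0ab8847055c41b82ae115c157008e0ab8027055be2b82ade15c156f08e0ab7457055b82382ad021c156804e0ab38870559c2b82ace11c156682e0ab3087055983b82acc19c156590e0ab2c67055920b82ac715c156310e0ab18770558c3382ac60dc156304e0aafc770557c2382abd1dc155e10e0aaf047055763b82abb19c155d10e0aae877055724382ab919c155308e0aa88670553e2b82a9819c154a02e0aa4417055202382a9005c154588e0aa2c17055103b82a871dc15438ce0aa14770550a3382a841dc154188e0aa0877055043382a7019c153390e0a99c47054ca2b82a6415c15318ae0a980670549e2382a4111c151f0ce0a8e457054702b82a3811c151b8ce0a878770543c3382a1e15c15098ae0a84457054102b829fc11c14fd8ee0a7ec67053f62b829fb0dc14fd84e0a7ec17053f42b829fa0dc14fc8ae0a7e437053ee13829f11dc14f88ce0a7c457053d83b829ec19c14f60ae0a7ac87053d633829eb0dc14f484e0a79087053c423829e115c14f00ae0a76057053b00b829d615c14e48ae0a7147))) (BT.leaf (Bx.mk (nat_lit 0x705cda2b82e6d11c173682e0b9b03705cd64382e6b1dc17358ce0b9981705cca4382e651dc173282e0b9807705cb83b82e5c19c172e06e0b9702705cb62b82e5611c172a8ae0b9402705c9e3b82e4c15c17258ae0b9246705c8e3b82e4719c172310e0b9187705c8c3382e4611c172306e0b9182705c8c0b82e451dc172286e0b9108705c882b82e440dc172202e0b90c7705c863382e4309c172182e0b9088705c843382e4215c172108e0b8fc7705c7e3382e3f15c171f82e0b8e86705c741b82e381dc171c0ce0b8e03705c701382e371dc171b8ce0b8d87705c6c3382e341dc171a04e0b8cc4705c603b82e3019c171708e0b8b45705c583b82e2c19c17158ee0b8ac6705c561b82e2b05c17150ee0b8a86705c541382e2a05c171490e0b8a47705c523382e2911c171302e0b8948705c4a3b82e2505c17110ae0b87c7705c3c3382e1e0dc170e8ae0b86c3705c2e2382e151dc170a86e0b8484705c1e3382e0a1dc170506e0b8247705c122b82e0721c170290e0b8141705c062382e0205c170090e0b8004705bfe2b82dff11c16fe88e0b7f41705bf63b82dfb19c16fd08e0b7e47705bf23382df81dc16fc0ce0b7d84705bea3b82df519c16f90ce0b7c83705be03b82df019c16f80ae0b7c01705bdc3b82dee19c16f608e0b7a07705bd03382de711c16f28ee0b7887705bc43382de20dc16f104e0b7881705bbc3b82dde11c16ed8ae0b75c4705ba04382dce15c16e690e0b7344705b981b82dcc09c16e602e0b7205705b8e2b82dc621c16e30ee0b7186705b8c1b82dc609c16e010e0b7004705b7c2382dba11c16da8ae0b6d05705b662b82dac11c16d18ae0b6745705b143b82d8a15c16b910e0b5c84705ae23b82d6d19c16b50ae0b59c7705acc2382d6015c16a40ae0b51c8705a8e3382d3421c169a0ee0b4d06705a622b82d3111c16980ae0b4bc8705a5e3b82d2f19c169608e0b4745705a383b82d1515c168a88e0b4541705a282b82d1405c16888ee0b4446705a222b82d1011c168790e0b4386705a1c2b82d0c11c168488e0b4204705a0c2382d031dc16818ce0b3f447059fa0b82cfc1dc167e0ce0b3ec47059ee2382cf41dc167a0ce0b3d017059e62b82cf311c167908e0b3c487059e22382cf10dc167884e0b3b047059d62382cea1dc16750ce0b3a457059d04382ce805c167390e0b38077059ba2382cdc11c166d8ce0b35047059a62382cd011c16678ee0b33c47059984382ccb11c16648ee0b32467059902382cc70dc166306e0b310470597e3b82cbf19c165f08e0b2d04))))))))) (BT.node (nat_lit 352) (BT.node (nat_lit 336) (BT.node (nat_lit 328) (BT.node (nat_lit 324) (BT.node (nat_lit 322) (BT.node (nat_lit 321) (BT.leaf (Bx.mk (nat_lit 0x70623e238311c1dc188e0ce0c470570622e2b8311415c18898ae0c44c17062242b8311115c188888e0c424770620a2b8310015c187f88e0c3f467061f423830f51dc187a8ce0c3d457061da2b830ea1dc18750ce0c3a857061c22b830d615c186a8ee0c354670618c23830c315c18608ee0c300570617c33830be09c185f02e0c2ec47061742b830b921c185c8ee0c2e467061721b830b111c18578ce0c2b847061502b830a715c185310e0c298770614c33830a609c18518ee0c28c3706146138308c15c18448ee0c218570610a3b8308411c184190e0c20c57061042b8308121c18408ce0c20447061021b8308109c18400ae0c1fc47060f2238306e21c182b82e0c15877060aa338304b15c182508e0c104170605a238302c15c181290e0c094370604a0b8302011c180f10e0c05077060262b8301111c180886e0c04427060123b8300919c18048ae0c01447060082382ffb11c17fc8ee0bf988705fcc2382fe51dc17f28ce0bf884705fc40b82fe119c17ee88e0bf705705fb80b82fda1dc17ed0ce0bf601705fae3382fd711c17eb86e0bf5c1705fa62382fc419c17df0ae0bef45705f7a2382fbb15c17dd86e0bee04705f6e2b82fb605c17da8ce0bed43705f683382fb415c17d988e0be9c6705f4e2382fa61dc17d30ce0be982705f4c0b82fa515c17d210e0be907705f483382fa411c17d206e0be902705f423b82fa119c17d082e0be804705f3a2382f9d09c17ca8ee0be545705f284382f9215c17c80ce0be385705f142382f841dc17c20ce0be101705f043b82f8219c17c102e0be007705f003382f8005c17bb02e0bdd45705eea2382f7315c17b902e0bd986705eb22b82f561dc17ab0ce0bd581705eaa2382f5305c17a90ee0bd486705ea42b82f3415c17998ee0bccc6705e661b82f3309c179906e0bcc82705e602b82f3005c17978ae0bca47705e502382f2711c179386e0bc987705e4c0b82f2521c17918ce0bc7c5705e3c3b82f1e09c178e0ae0bc703705e361b82f1a09c178888e0bc344705e0e2382ef321c177988e0bbcc1705dde4382eef05c177706e0bbb81705dda4382eed1dc176888e0bae88705d743b82eba09c17558ae0baa87705d502b82ea805c17538ae0ba985705d3a2b82e9515c174a0ae0ba4c6705d063b82e8021c173f82e0b9f08705cf83382e7b15c173d0ee0b9e48705cf20b82e7821c173c04e0b9e01705cee3b82e7719c173b86e0b9dc2705cee0b82e7619c173a8ee0b9d46705cea1b82e7509c17390ee0b9c85705cdc3b82e6e09c173702e0b9b48))) (BT.leaf (Bx.mk (nat_lit 0x7066aa2b8335511c19aa0ae0cd5047066a623833530dc19a984e0cd4477066a22b8334d21c19a68ee0cd34670669a1b8334d09c19a38ce0ccf8470667c0b8333b15c199d88e0cce477066703b833371dc199b8ce0ccc8470665e238332d1dc19968ce0ccb42706658338332c15c19940ee0cc94570664a238332421c199206e0cc9027066443b8332219c198d08e0cc54470661c338330e0dc19868ee0cc34670661623833091dc19848ce0cc2457065f833832f31dc197988e0cbc477065e22b832f10dc197810e0cbc057065e01b832ef09c197710e0cbb867065ac3b832d619c196a82e0cb4c87065a623832d211c19688ee0cb4457065a02b832ce11c196588e0cb2057065900b832c505c196210e0cb0887065842b832c211c196090e0cb0447065803b832c019c195f8ee0caf867065780b832b821c195c0ee0cae0470657013832b721c195b8ae0cad8370656c0b832b521c195a8ee0cad4570654c13832a415c195208e0ca647706528138328f15c194784e0ca38870651c3b8328e19c194708e0ca38370651c138328c21c194606e0ca30270651243832871dc19438ce0ca1c570650a3b8328519c19428ae0c9a477064d2338326915c19340ee0c99457064ca238326421c192f0ae0c96857064b02b8325015c19248ee0c918770648c338324615c192288e0c91057064861b8324115c19200ae0c8f44706478238323b11c191d0ae0c8e84706472438323911c191c86e0c8e0170646e0b8323511c191a0ae0c8cc47064623b8322a1dc19148ee0c89c870644e2b8322711c19130ce0c898170644a43832251dc19128ce0c8908706448338322205c190f90e0c87c770643e338321f0dc190f84e0c878370643c138321e05c190e88e0c8706706430238321215c190886e0c8405706416238320811c190088e0c7fc77063fe33831fd11c18fe82e0c7ec47063ee0b831f611c18f98ee0c7c477063de3b831ef19c18f190e0c78c47063c613831e305c18f108e0c78057063be43831df11c18ee10e0c77077063b42b831ce19c18e00ee0c6bc770635e33831af15c18d58ee0c6ac67063560b831aa11c18d390e0c69c470634e13831910dc18c884e0c640270631e238318f09c18c18ae0c5e057062e6338317315c18b906e0c5b867062dc2b831671dc18b38ce0c59c17062cc238316321c18b188e0c58c27062c2338316011c18a784e0c53c1706296438314a05c18a390e0c50c47062842b8314111c189c8ae0c4e02706268238313311c18990ae0c4c067062482b8312219c189106e0c4882)))) (BT.node (nat_lit 323) (BT.leaf (Bx.mk (nat_lit 0x7069ee33834f715c1a7a88e0d3d427069e643834f305c1a7910e0d3c847069e223834f015c1a758ce0d39c77069c43b834de1dc1a6f0ce0d37087069b823834da1dc1a6d0ce0d36817069ae43834d715c1a6b88e0d35c27069ac2b834d611c1a6b04e0d35817069a83b834d419c1a6a0ae0d34c87069a43b834d219c1a690ae0d34457069a043834cf21c1a6782e0d338870699c3b834ce11c1a6690e0d334470698c23834c41dc1a620ce0d30c87069861b834c209c1a6102e0d300470698013834c005c1a5f8ce0d2fc47069703b834b819c1a578ae0d2b8570695c23834ab1dc1a5508e0d2a8370695413834a915c1a540ae0d2888706944238349f1dc1a4f8ce0d264470693023834970dc1a4b82e0d258370692a2b8349421c1a4a08e0d24c57069221b834901dc1a4788e0d2305706910338348319c1a400ee0d1fc77068fe338347b15c1a3d82e0d1e887068f43b8347a19c1a3d06e0d1e827068f40b8347611c1a3a0ce0d1d027068ce33834651dc1a328ce0d19457068c82b8346411c1a3186e0d18047068be1b8345e11c1a2e88e0d170270688e438344711c1a2208e0d104470687c338343d11c1a1d0ae0d0e0570686a2b8343421c1a1a0ee0d0d067068681b8343409c1a180ee0d0c027068503b8342819c1a1308e0d074270683a0b8341c11c1a0d0ee0d068270682a138341021c1a0808e0d04017068180b8340b11c1a050ee0d01c57067c023833de1dc19ef0ce0cf5477067aa33833d411c19e810e0cf40470679e23833ce1dc19e688e0cf2c470679443833c91dc19e48ce0cf24570679023833c721c19e38ae0cf18870678c0b833c521c19e288e0cf10870678823833c315c19e10ae0cf08470677a23833bc11c19de06e0cef0270677423833b71dc19db8ce0ced8470675a2b833ad11c19d682e0ceb0570675823833ac05c19d50ee0cea8570675223833a821c19d402e0ce9c870674e0b833a621c19d308e0ce90770674833833a405c19d188e0ce88870674423833a209c19cf88e0ce784706738238339a15c19cc08e0ce4487067203b8339019c19c78ae0ce3c470671c0b8338c15c19c590e0ce205706710238338521c19c10ee0ce0867067041b8338209c19c102e0ce0047066fc2b8337e11c19be88e0cdf057066f63b8337b15c19bc8ee0cde457066e63b8337319c19b98ae0cdc847066d213833681dc19b390e0cd9887066ca438336421c19b190e0cd8857066c4238336121c19b088e0cd8437066c2138335f15c19af82e0cd7057066b63b8335b15c19ad0ce0cd685))) (BT.leaf (Bx.mk (nat_lit 0x706f042b837811dc1bc086e0ddf87706efc33837751dc1bba8ce0ddd45706ee22b8377105c1bb40ee0dd984706eb8238375b11c1bac10e0dd604706eb013837571dc1bab08e0dd486706ea03b8375019c1ba308e0dd0c5706e743b8372f11c1b9690e0dcb43706e5423837281dc1b9208e0dc8c7706e46338372111c1b9082e0dc807706e3e338371d19c1b8e82e0dc6c6706e343b837181dc1b8c0ce0dc5c6706e2e2b8371611c1b890ce0dc485706e20238370c21c1b8608e0dc2c5706e161b8370911c1b838ae0dc1c4706e042b8370211c1b7f0ae0dbec4706df433836f715c1b7b08e0dbd05706de63b836f319c1b798ae0dbb08706dd823836ec0dc1b7604e0dba87706dd433836e911c1b728ae0db846706dbc23836d41dc1b670ae0db284706d742b836b911c1b5c86e0dae42706d683b836b419c1b5a0ae0dab84706d5023836a611c1b508ee0da842706d402b8369f15c1b4f0ce0da784706d3c138369715c1b4a8ae0da505706d28238369405c1b4488e0da144706d080b836831dc1b410ee0da086706cfc3b8367e19c1b3e8ee0d9f43706cf63b8367811c1b3a10e0d9cc8706ce2138366c21c1b350ae0d9a48706cd23b8366919c1b3488e0d9a43706cd2138366611c1b3286e0d98c5706cbc438365c21c1b2988e0d9485706ca243836511dc1b288ce0d9443706c9c238364911c1b240ae0d91c5706c86338362e15c1b168ae0d8a85706c54238362a05c1b1408e0d8981706c482b8361611c1b068ae0d8344706c1a0b8360c1dc1b060ce0d82c4706c16138360b05c1b050ee0d8286706c103b8360811c1b0404e0d81c7706c0e338360515c1b0288e0d8104706c080b836021dc1b010ce0d8006706bfe23835fe11c1afa88e0d7d04706bda23835ec1dc1af60ce0d7b05706bd81b835ec09c1af602e0d7ac5706bd443835e921c1af488e0d7a04706bce43835e70dc1af28ee0d7946706bb833835d811c1ae88ce0d73c7706b9e0b835c205c1ae002e0d6fc7706b7e2b835b51dc1ad988e0d6ac5706b423b8359711c1ac98ce0d64c5706afe238357221c1ab78ae0d5bc4706ab82b8355215c1aa804e0d53c7706a9e338354f0dc1aa784e0d53c1706a8a438354511c1aa208e0d5085706a8023835371dc1a9b10e0d4d08706a66438353315c1a9908e0d4ac5706a50438352815c1a8f02e0d4745706a38438351c1dc1a8e0ce0d4703706a32238350f1dc1a8784e0d40c7706a06338350115c1a8082e0d40057069f42b834fa11c1a7d06e0d3e457069f223834f90dc1a7c82e0d3e08))))) (BT.node (nat_lit 326) (BT.node (nat_lit 325) (BT.leaf (Bx.mk (nat_lit 0x70734623839a30dc1cd184e0e684570732643839931dc1cc988e0e6487707324338399111c1cc58ee0e62477073063b8398215c1cc010e0e60067072fe338397b19c1cba88e0e5c057072b43b8395a19c1cad0ae0e55027072a80b8395015c1ca808e0e538670729a238394611c1ca08ae0e500570727e3b8393f0dc1c9c0ae0e4dc170726c3b8393011c1c9788e0e4b44707258238392c09c1c8e08e0e4647707232338391811c1c8b8ee0e45447072223b8391119c1c8786e0e4308707218238390c05c1c8408e0e41c770720e2b839051dc1c828ce0e4141707208238390011c1c7d08e0e3d477071ea33838f511c1c7a86e0e3d427071d42b838e921c1c748ee0e3a467071d21b838e011c1c6f8ae0e344770719e3b838cd1dc1c668ce0e328570719243838c91dc1c648ce0e324370719213838c111c1c5f88e0e2f4470717833838ba15c1c5b0ae0e2d817071583b838ab11c1c5488e0e2a0570714c2b838a11dc1c508ae0e26c270712c2b8389609c1c4a8ae0e254270711e3b8388f19c1c4782e0e23047071163b8388b19c1c450ee0e22867071103b8388819c1c430ee0e218670710a3b8388519c1c4282e0e20047070fe138387719c1c3b8ae0e1d847070e0238386e11c1c368ee0e1b447070d83b8386b11c1c350ee0e1a867070d22b8386811c1c338ee0e19c67070ce13838661dc1c330ae0e19077070c8338386215c1c2f8ee0e17c67070be2b8385f05c1c2c88e0e15c47070ae138384a11c1c230ee0e118170708a238383f21c1c1f88e0e0fc370707e138383e09c1c1e0ee0e0ec7707060238382b19c1c130ee0e098570704a3b8382221c1c1108e0e0847707042338382115c1c0f8ae0e078570703c238381b1dc1c0d8ae0e06c17070303b8381715c1c0a08e0e048770701e2b8380e11c1c060ee0e02c7707016338380511c1c0282e0dfe87706ff42b837f911c1bf98ee0dfcc6706fe423837f115c1bf80ee0dfc06706fde23837ed19c1bf688e0dfa87706fd433837ea15c1bf40ce0dfa05706fbe33837df09c1bee88e0df6c4706fb233837d221c1be908e0df483706fa413837d115c1be808e0df286706f923b837bd15c1bde0ee0def06706f782b837b81dc1bdc0ce0dedc7706f6023837af09c1bd704e0deb44706f562b837aa15c1bd48ee0de9c5706f482b837a411c1bcf8ee0de7c6706f3a238379c1dc1bcd90e0de6c6706f361b8379b09c1bcd0ee0de686706f342b8379919c1bcc8ae0de484706f22238378f11c1bc588e0de287706f14338378611c1bc20ee0de0c4))) (BT.leaf (Bx.mk (nat_lit 0x7076b64383b5b09c1dac10e0ed5c77076ae3383b5611c1daa90e0ed5417076a84383b5415c1daa02e0ed4c87076a62383b5211c1da88ae0ed4077076a03383b4e1dc1da70ce0ed3857076903b83b4805c1da28ee0ed14670768a2b83b411dc1da08ce0ed0457076782383b3c09c1d9d8ee0ecec67076762b83b3a21c1d9d0ae0ece837076740b83b3921c1d9c84e0ecdc470766e0b83b361dc1d9b0ce0ecd8370766c1383b3515c1d9986e0ecbc470765c2b83b2d15c1d9608e0ecac87076562383b291dc1d948ce0ec8847076404383b201dc1d9006e0ec80270763e2b83b1c15c1d8d8ce0ec6877076343383b161dc1d8b08e0ec58370762a2b83b1219c1d8708e0ec3057076182383b0b15c1d8588e0ec2867076141b83b0a09c1d848ce0ec24170760e2383b0611c1d828ee0ec14670760a1b83b0411c1d808ee0ebe047075e03b83aef21c1d778ae0ebb877075da4383aec21c1d760ce0eba457075d01383ae015c1d6a08e0eb2c37075942b83ac915c1d6406e0eb1077075882b83abe11c1d5f02e0eaec67075744383aba11c1d5c02e0eadc17075682b83ab115c1d578ee0eabc670754c2383a9e15c1d480ce0e9f877074fc1b83a7e09c1d3d02e0e9e487074f23b83a7905c1d3b8ae0e9cc77074e23b83a710dc1d3884e0e9c057074da2b83a6c19c1d360ae0e9a017074ce3b83a6719c1d3310e0e99817074c64383a6311c1d308ce0e97867074bc2383a5e0dc1d2f04e0e97057074b82383a5c0dc1d2e02e0e96017074ae4383a571dc1d2b82e0e95057074a01b83a4f15c1d268ce0e934370749a1383a4415c1d2188e0e90857074823b83a4119c1d208ae0e900170747e3b83a3f19c1d1f10e0e8f817074782b83a3b05c1d1d0ee0e8e077074703383a380dc1d1c04e0e8dc770746e3383a3715c1d1b0ae0e8d447074683383a3121c1d1790e0e8b8870745a2383a271dc1d1284e0e89077074483383a1c19c1d0e08e0e87027074363b83a1b11c1d0b0ee0e85077074264383a1315c1d0890e0e84477074204383a1019c1d050ee0e808770740223839ee15c1cf708e0e7b047073d62b839ea15c1cf488e0e7a057073c41b839e209c1cf102e0e78457073bc3b839dd11c1ced90e0e76c47073b61b839d815c1cec08e0e75c77073ae33839d611c1ce90ae0e74457073a033839d009c1ce78ee0e72c47073842b839c205c1ce088e0e6e0570737013839b721c1cdb8ee0e6dc670736e23839b70dc1cdb84e0e6d0470736613839ae15c1cd688e0e6ac670734e23839a611c1cd190e0e68c6)))) (BT.node (nat_lit 327) (BT.leaf (Bx.mk (nat_lit 0x707bd84383dec19c1ee88ee0f7384707b9c1b83dce09c1ee58ae0f72c4707b8a2383dc11dc1ee08ce0f7004707b7e2383dbc11c1ede06e0f6b84707b522b83da911c1ed40ee0f6a04707b482b83da31dc1ed10ae0f6707707b2e4383d9711c1ec790e0f63c5707b1c0b83d8d21c1ec68ee0f6346707b184383d8c19c1eb80ae0f5b88707adc2b83d6a11c1eb482e0f5a08707ad03383d6811c1eb406e0f5982707acc0b83d6521c1eb28ce0f5945707aca0b83d6415c1eb08ce0f5788707abc3383d5e11c1eae8ce0f5708707ab82383d5b1dc1ead8ce0f5688707ab43b83d5919c1ea58ce0f51c4707a843b83d3e11c1e9a0ae0f4b86707a5c0b83d2c11c1e9508e0f4a82707a4a2383d1519c1e8a8ae0f4507707a1a3b83d0c0dc1e8602e0f4208707a003383cff11c1e7e08e0f3e457079f02383cf511c1e7888e0f3c067079e02b83ced1dc1e768ce0f3b437079da1383cec11c1e7488e0f39417079c84383ce41dc1e720ce0f37457079b64383cdb1dc1e6d8ce0f36c37079b42b83cd811c1e6a8ee0f35467079a82383cd315c1e640ae0f31c870798e3b83cc719c1e6386e0f31c27079882383cc31dc1e618ae0f2fc570797e0b83cbe15c1e5e8ae0f2e457079722383cb81dc1e5b0ae0f2c0770795c3383cad11c1e560ae0f2a877079502b83ca711c1e5308e0f260570792e2383c961dc1e4b0ce0f258370792c1383c8715c1e400ae0f20047078fe3b83c7c15c1e3e08e0f1e447078e82b83c721dc1e390ce0f19447078bc2383c5b15c1e2d88e0f16817078b02b83c571dc1e2b8ae0f15417078a82383c5315c1e290ee0f144470789a1b83c4d09c1e2488e0f118870788c2383c460dc1e228ee0f108470787c2b83c3c1dc1e1308e0f08c47078364383c1b0dc1e0d84e0f060470782a1383c1315c1e0888e0f04427078201b83c0911c1e0482e0f014470780a0b83bfe15c1dfe88e0eff077077f83383bfb15c1dfd88e0efd857077ea3b83bf311c1df88ee0efc467077e21383beb1dc1df408e0efa037077d01383be41dc1df20ce0ef9057077c63383bd51dc1dea8ae0ef5047077a62b83bd119c1de388e0eefc77077764383bb721c1ddb8ae0eedc470776a3383bb315c1dd988e0eec8470775c2b83bab11c1dd088e0ee7877077362383b9619c1dc706e0ee30170770e2383b8511c1dc20ee0ee0c87077062383b8121c1dc08ce0eddc67076ee1383b7115c1db810e0edc077076e01b83b7009c1db58ae0eda847076c43383b5f1dc1daf8ce0ed7477076ba3383b5d15c1dae10e0ed701))) (BT.leaf (Bx.mk (nat_lit 0x707ebc2b83f5b1dc1fad8ce0fd485707e9c3383f4915c1f9d10e0fcdc4707e6c2b83f3611c1f948ce0fca45707e482b83f231dc1f918ce0fc8c3707e461383f2211c1f8f82e0fc787707e3c3383f1e05c1f8c0ce0fc5c5707e2c2383f1221c1f8890e0fc445707e222383f0f21c1f878ee0fc3c6707e1c4383f0e19c1f868ae0fc2c7707e144383f0a11c1f8506e0fc281707e123b83f0919c1f8486e0fc242707e120b83f0815c1f838ae0fc186707e0c2b83f0509c1f8282e0fc107707e083383f0405c1f810ae0fc045707e022383f0019c1f7e8ae0fbf07707df03b83ef80dc1f7b8ae0fbdc3707dec3b83ef619c1f7a8ee0fbd45707de82b83ef221c1f790ee0fbc86707de24383ef10dc1f7810e0fbc01707dde2383eeb19c1f7586e0fba87707dd43383eea0dc1f7504e0fb985707dcc2383ee41dc1f7008e0fb3c8707d9a3b83ecc15c1f6510e0fb248707d923383ec61dc1f6304e0fb087707d843383ec01dc1f5d88e0fae47707d721b83eb909c1f570ce0fab82707d5a4383eac1dc1f5606e0faac8707d562b83ea711c1f5310e0fa984707d484383ea311c1f4f0ae0fa684707d2a3b83e9519c1f430ae0fa184707d063b83e821dc1f410ce0fa005707cfe2b83e7f11c1f3f84e0f9fc1707cfc3383e7e0dc1f3f04e0f9ec6707cf61b83e7911c1f3b0ee0f9d04707ce80b83e711dc1f370ae0f9b45707cda2383e6d05c1f360ce0f9b03707cd63b83e6b19c1f3588e0f9a85707cce2b83e6611c1f328ce0f9945707cc83383e6409c1f318ae0f98c2707cc43b83e6219c1f308ee0f9846707cc03b83e6019c1f3008e0f9802707cc00b83e5f21c1f2f8ee0f97c6707cbe2383e5c21c1f2d8ae0f9685707cb40b83e5909c1f2c0ce0f9585707caa3b83e5515c1f2a08e0f9483707ca23b83e4f21c1f278ae0f93c4707c9e0b83e4e21c1f270ae0f9308707c964383e4b1dc1f2510e0f9287707c943383e4515c1f218ee0f90c6707c861b83e4309c1f210ee0f9085707c822b83e3e0dc1f1e8ae0f8ec8707c761b83e3b09c1f1c0ee0f8e06707c701b83e3809c1f1b0ee0f8d82707c643b83e3219c1f1888e0f8b87707c5a4383e2d11c1f1684e0f8a85707c522b83e2911c1f140ce0f8a01707c4e4383e271dc1f1388e0f8987707c460b83e2005c1f0c84e0f8605707c301383e170dc1f0b0ae0f8547707c2a1383e1011c1f078ee0f83c4707c122b83e0115c1f0082e0f7fc7707bf42383df81dc1efc0ce0f7c48707be22383df021c1ef80ae0f7bc8707bde2383dee05c1ef690e0f7b47)))))) (BT.node (nat_lit 332) (BT.node (nat_lit 330) (BT.node (nat_lit 329) (BT.leaf (Bx.mk (nat_lit 0x7268c2339345e15c9a2e8ae4d17447268b83b9345b1dc9a2d0ae4d16847268b2339345915c9a2b0ee4d15867268aa239345421c9a2a0ee4d15067268a823934540dc9a2a04e4d14c57268a4239345111c9a2808e4d13c772689e339344f15c9a2708e4d13447268963b9344b19c9a258ae4d1247726892339344905c9a2408e4d11c572688c2b9344521c9a228ee4d114672688a1b9344509c9a220ee4d11057268863b9344319c9a218ae4d10477268822b9344015c9a1f88e4d0e887268743b9343a19c9a1d06e4d0e827268703b9343811c9a1a8ae4d0d44726868239343315c9a190ae4d0c0672685e3b9342d11c9a160ee4d0b067268562b9342a15c9a148ae4d0a447268520b9342819c9a140ae4d09c572684c23934251dc9a128ce4d094572684623934201dc9a100ce4d080572683e239341e11c9a0e8ae4d0705726838239341a11c9a0c8ee4d064572683023934151dc9a0a8ce4d05457268283b9341419c9a0a0ae4d04c4726824239341015c9a078ae4d038572681c239340c15c9a0608e4d02877268142b9340919c9a038ee4d01c672680e2b9340705c9a0308e4d0144726806239340215c9a0008e4cffc57267fa2b933fd05c99fe10e4cff047267f62b933f919c99fc8ae4cfe047267ee3b933f719c99fb8ae4cfd847267ea23933f21dc99f90ae4cfc047267da23933ec15c99f510e4cfa847267d22b840511dc20288ce10144570809823840451dc202208e100ec4708074338403a15c201b08e100cc470804e2b8402711c20130ee10094770804a338402511c20118ee1008c670804613840221dc20110ce1008477080261b8401215c20088ae10044470801e3b8400f19c200784e100384708018238400c0dc20010ce0fff87707ffc3383ffb11c1ffd84e0ffe87707ff42b83ff81dc1ffb0ce0ffcc4707fe42b83fef11c1ff70ee0ffa87707fd43383fea0dc1ff40ae0ffa01707fca2383fde1dc1fef0ce0ff782707fa62b83fd21dc1fe788e0ff347707f902b83fc811c1fe38ce0ff104707f880b83fc31dc1fe00ce0ff005707f723383fa615c1fd308e0fe945707f483b83fa419c1fd108e0fe807707f403383fa009c1fd002e0fe607707f303383f9711c1fca88e0fe504707f1c1b83f8d11c1fc590e0fe2c3707f0c3b83f8619c1fc30ae0fe107707f083383f8311c1fc10ae0fdf86707ef82383f7b11c1fbd0ce0fde83707ee42383f6f11c1fb68ee0fdb44707ed62383f6a09c1fb502e0fda48707eca3b83f6519c1fb286e0fd942707ec81b83f6409c1fb188e0fd846))) (BT.leaf (Bx.mk (nat_lit 0x726a7a239353c1dc9a9e0ce4d4ec7726a743b9353a15c9a9c0ee4d4e06726a702b935361dc9a9b0ae4d4d44726a6823935301dc9a980ce4d4c05726a5e3b9352f19c9a978ae4d4b87726a5c339352e15c9a9690e4d4b44726a5a139352a21c9a950ae4d4a84726a52439352915c9a9488e4d4a08726a503b9352815c9a9390e4d49c7726a4e339352621c9a9308e4d4945726a482b9352311c9a910ee4d4886726a442b9351f15c9a8f10e4d4787726a3c339351e0dc9a8f04e4d4704726a303b9351819c9a8c02e4d45c8726a2e3b9351719c9a8b88e4d45c3726a2e13935161dc9a8b0ce4d4544726a262b9351221c9a890ae4d4484726a202b9350f1dc9a878ae4d4384726a1a3b9350b21c9a8588e4d4285726a123b9350919c9a8410e4d4207726a10339350811c9a8406e4d4202726a0e239350511c9a8110e4d4087726a0433935020dc9a8104e4d40457269fe23934fd11c9a7e10e4d3f047269f623934f911c9a7c08e4d3dc47269e423934f011c9a770ae4d3b087269d83b934ec19c9a7606e4d3b027269d623934ea21c9a7508e4d3a447269ce3b934e719c9a7310e4d39877269cc33934e611c9a7306e4d39827269c623934e21dc9a710ce4d38857269c223934e011c9a6f10e4d37847269bc1b934dc1dc9a6d8ae4d36857269b22b934d811c9a6b88e4d35077269a633934d315c9a690ae4d33c47269962b934ca1dc9a650ce4d32857269923b934c919c9a640ee4d32067269902b934c61dc9a630ce4d318572698c0b934c41dc9a620ce4d310572698623934c015c9a5f08e4d2f4472697823934b715c9a5b88e4d2d8572696a3b934b21dc9a590ce4d2c477269603b934ae1dc9a570ce4d2b8172695a23934ab11c9a5584e4d2a8472694e3b934a719c9a5308e4d29067269482b934a31dc9a518ae4d28847269422b934a011c9a4f8ae4d278672693c2b9349d15c9a4e88e4d2705726938239349c05c9a4d8ee4d26c67269323b9349915c9a4c82e4d260572692e3b9349615c9a4a8ae4d2446726920239348b15c9a4588e4d22457269120b934881dc9a440ce4d21c57269083b9348419c9a4188e4d20847269040b934801dc9a400ae4d1fc47268fa239347c19c9a3e0ae4d1ec47268f423934771dc9a3b8ce4d1dc57268ec3b9347619c9a3b0ae4d1d057268e8239347321c9a398ee4d1cc67268e61b9347215c9a3908e4d1bc77268de2b9346e11c9a3688e4d1a857268d0239346515c9a320ae4d18c87268c63b9346319c9a3186e4d18c27268c43b9346219c9a310ae4d1847)))) (BT.node (nat_lit 331) (BT.leaf (Bx.mk (nat_lit 0x726be023935ef11c9af588e4d7a84726bd22b935e815c9af38ae4d79c4726bcc2b935e611c9af28ee4d7946726bca13935e41dc9af20ce4d7905726bc43b935e215c9aef0ee4d7786726bbc2b935dd11c9aed88e4d7687726bb433935da15c9aec8ae4d7605726bb023935d71dc9aeb8ce4d7587726bac33935d519c9aea8ae4d74c5726ba623935d21dc9ae80ce4d73c7726b9e33935cd1dc9ae68ce4d7345726b9a0b935cc11c9ae508e4d7246726b922b935c811c9ae388e4d7106726b882b935c21dc9ae10ce4d7085726b840b935c111c9ae008e4d6f44726b7823935bb11c9adc10e4d6e04726b701b935b721c9adb88e4d6d85726b6823935b315c9ad988e4d6c86726b622b935b015c9ad790e4d6bc7726b5e33935af0dc9ad784e4d6b86726b5c2b935ad11c9ad60ae4d6ac7726b5633935aa15c9ad390e4d69c4726b4c43935a415c9ad190e4d68c7726b4633935a30dc9ad184e4d6885726b4423935a11dc9ad08ce4d6845726b40239359e21c9acf02e4d6748726b38439359c19c9acd8ae4d66c4726b342b9359a11c9acc8ae4d6644726b2e2b9359711c9acb82e4d64c5726b26239359215c9ac908e4d6445726b202b9359011c9ac802e4d63c5726b1c3b9358e19c9ac70ae4d6381726b1a239358c11c9ac588e4d62c1726b14339358915c9ac488e4d6205726b10239358715c9ac388e4d6147726b0a339358415c9ac208e4d6101726b062b9358311c9ac182e4d6085726b04239358205c9ac08ae4d6044726b020b9357d15c9abe88e4d5f06726af62b9357b11c9aba90e4d5d45726aea239357505c9ab98ee4d5cc6726ae62b9357305c9ab908e4d5c47726ae2339357115c9ab808e4d5b87726adc339356e15c9ab608e4d5ac7726ad6339356a11c9ab488e4d5a41726ad03b9356819c9ab406e4d59c4726acc2b935651dc9ab28ce4d5905726ac4439356211c9ab102e4d5848726ac2239356021c9aaf90e4d57c6726abc3b9355e15c9aae8ae4d5708726ab83b9355c19c9aad88e4d5685726ab223935551dc9aaa8ce4d5507726aa833935531dc9aa98ce4d54c5726aa4439355211c9aa80ee4d5406726aa00b9354f21c9aa788e4d5388726a9c239354d1dc9aa68ce4d5304726a981b9354c09c9aa58ee4d52c6726a962b9354a1dc9aa50ce4d5244726a9043935481dc9aa40ce4d5203726a9013935471dc9aa38ce4d5187726a8c339354615c9aa28ee4d5146726a8a2b935431dc9aa18ce4d5088726a84239354121c9aa088e4d5007726a80339354015c9a9f0ae4d4f84))) (BT.leaf (Bx.mk (nat_lit 0x726d4e0b936a611c9b5306e4da982726d4a33936a31dc9b518ce4da8c1726d443b936a219c9b510ae4da808726d403b936a019c9b5006e4da802726d3e2b9369f11c9b4f08e4da781726d3a439369d11c9b4e0ee4da706726d363b9369b19c9b4d8ae4da687726d34339369911c9b4b90e4da5c7726d2e339369711c9b4b86e4da5c2726d2c2b9369611c9b4a8ae4da544726d282b9369315c9b4988e4da484726d223b9369115c9b480ee4da406726d201b9369009c9b4790e4da3c4726d1c439368e11c9b468ae4da285726d0c2b9368611c9b4282e4da107726d063b9368319c9b4102e4da047726d02339368105c9b400ee4da006726cfe239367f0dc9b3f84e4d9f87726cfc339367d1dc9b3e8ce4d9f07726cf8339367c15c9b3d0ee4d9e86726cf40b9367921c9b3c88e4d9dc4726cee13936761dc9b3b0ce4d9d85726cea439367511c9b3a0ee4d9d06726ce82b936730dc9b3984e4d9c85726ce4239367115c9b3882e4d9c07726ce0339366f1dc9b378ce4d9bc5726cdc3b9366e19c9b368ee4d9b46726cda2b9366b19c9b350ae4d9a84726cd23b9366919c9b3486e4d9a42726cd02b9366811c9b338ae4d99c4726cc83b9366415c9b318ee4d98c6726cc62b9366211c9b308ae4d9804726cbe239365e11c9b2e0ae4d9704726cb80b9365b15c9b2d88e4d9684726cb40b9365921c9b2c88e4d9605726ca83b9365419c9b2a08e4d9502726ca4239365119c9b288ae4d9405726c9c439364e11c9b2706e4d9345726c982b9364b21c9b2588e4d9288726c94339364611c9b220ee4d9106726c880b9364311c9b210ae4d9084726c82339364115c9b1f08e4d8f44726c78239363921c9b1c8ee4d8e46726c7223936390dc9b1c84e4d8cc4726c5e239362e1dc9b170ce4d8b85726c5a2b9362c15c9b158ae4d8a88726c543b9362a19c9b1506e4d8a82726c52439362911c9b1408e4d89c4726c483b9362419c9b110ee4d8886726c4423936220dc9b1104e4d8845726c40239361e21c9b0f08e4d8705726c36439361b15c9b0d88e4d8688726c3243936191dc9b0c10e4d8606726c2e339361615c9b0a0ae4d8504726c262b9361311c9b0910e4d8487726c24339361211c9b0906e4d8482726c223b9361119c9b088ae4d8404726c1c2b9360b1dc9b0584e4d8284726c123b9360915c9b0408e4d81c5726c0c239360511c9b020ee4d8106726c082b9360011c9afe8ee4d7f46726bfa2b935fd05c9afd08e4d7d48726bea3b935f519c9afa08e4d7cc5726be42b935f121c9af88ce4d7c43))))) (BT.node (nat_lit 334) (BT.node (nat_lit 333) (BT.leaf (Bx.mk (nat_lit 0x726ec223937601dc9bb00ce4dd7c4726ebc2b9375e11c9bae8ae4dd744726eb83b9375c19c9bae06e4dd702726eb63b9375b19c9bad8ae4dd684726eb2239375811c9bab0ae4dd584726eaa239375411c9ba908e4dd444726e9c3b9374e19c9ba68ee4dd346726e9a2b9374c1dc9ba60ce4dd287726e942b9374a05c9ba48ce4dd205726e90239374711c9ba308e4dd0c7726e86339374305c9ba108e4dd044726e7e239373e11c9b9e8ee4dcf46726e7a2b9373c1dc9b9e0ce4dcec4726e742b9373a11c9b9c8ae4dce44726e7043937381dc9b9c0ce4dce04726e701b9373809c9b9b8ee4dcdc6726e6e2b9373615c9b9a88e4dcd04726e602b9372f11c9b948ae4dca44726e502b937271dc9b930ae4dc945726e4a239372415c9b918ee4dc887726e442b937211dc9b908ce4dc785726e38339371b1dc9b8d8ce4dc687726e3433937191dc9b8c8ce4dc645726e2e2b9371711c9b8b0ee4dc586726e2a23937131dc9b898ce4dc4c1726e24239371115c9b8888e4dc408726e203b9371019c9b8808e4dc403726e20139370f1dc9b878ae4dc384726e18239370b11c9b8508e4dc207726e10339370805c9b8388e4dc184726e0a239370411c9b8188e4dc004726dfe3b936ff19c9b7f8ae4dbf84726dfa3b936fd19c9b7e8ae4dbf04726df623936fa11c9b7c0ae4dbe04726dee2b936f711c9b7b82e4dbd87726dec33936f511c9b7a0ce4dbd05726de623936f111c9b7882e4dbc06726de013936ef19c9b778ae4dbac5726dd623936ea15c9b748ae4dba44726dd20b936e811c9b7388e4db987726dcc33936e51dc9b728ce4db908726dc83b936e419c9b7208e4db903726dc813936e211c9b708ae4db844726dbc23936dd19c9b6e0ae4db6c8726db63b936db19c9b6d86e4db6c2726db42b936d91dc9b6c8ce4db607726db02b936d711c9b6b0ce4db582726daa3b936d519c9b6a8ae4db505726da823936d315c9b6988e4db484726da223936d105c9b680ee4db406726d9e3b936cf19c9b6710e4db387726d9c33936ce11c9b6706e4db382726d9a2b936cb15c9b6588e4db288726d943b936ca19c9b6506e4db282726d922b936c711c9b628ee4db145726d883b936c419c9b610ee4db086726d842b936c205c9b600ee4db006726d800b936bd21c9b5e0ae4daec4726d7423936b915c9b5c10e4dae04726d6e43936b711c9b5b0ae4dad44726d6823936b011c9b578ae4dab88726d5c3b936ae19c9b5706e4dab82726d583b936ac19c9b558ee4daac5726d543b936aa19c9b5488e4da9c6))) (BT.leaf (Bx.mk (nat_lit 0x72700a2b9380415c9c0208e4e00c5727006239380215c9c0108e4e0045727002239380021c9c000ee4e00067270001b9380009c9bff0ee4dff85726ffa43937fd11c9bfe0ae4dfec4726ff42b937f911c9bfc0ee4dfe06726ff01b937f809c9bfb90e4dfdc7726fee23937f709c9bfb10e4dfd45726fe83b937f419c9bf988e4dfc88726fe433937f20dc9bf904e4dfc44726fe02b937f005c9bf70ae4dfb47726fda33937eb15c9bf588e4dfa85726fd423937e915c9bf40ae4dfa04726fce3b937e719c9bf386e4df9c2726fcc3b937e619c9bf30ae4df944726fc82b937e411c9bf18ae4df8c4726fc42b937e211c9bf102e4df846726fc033937e015c9bef0ae4df784726fba2b937dd11c9bee0ae4df6c5726fb623937da15c9bed08e4df681726fb23b937d919c9bec86e4df607726fb033937d815c9beb88e4df585726fac23937d515c9bea88e4df541726fa833937d415c9be90ae4df448726fa22b937d111c9be78ee4df3c6726f9e2b937ce11c9be60ee4df306726f963b937cb19c9be508e4df244726f8e33937c615c9be308e4df145726f8a23937c505c9be20ee4df106726f882b937c321c9be188e4df085726f803b937c019c9bdf90e4defc7726f7e33937bf11c9bdf86e4defc2726f7c3b937be19c9bdf0ae4def44726f783b937bc19c9bdd90e4deec4726f761b937b921c9bdc8ae4dee08726f702b937b811c9bdb90e4dedc7726f6c43937b619c9bda8ae4ded07726f6833937b311c9bd88ae4dec44726f6033937b015c9bd788e4deb47726f5a2b937ac1dc9bd60ce4deac8726f5623937aa15c9bd508e4dea07726f5033937a815c9bd388e4de985726f4a3b937a519c9bd286e4de942726f483b937a415c9bd190e4de8c7726f4623937a309c9bd10ee4de886726f42239379c1dc9bce0ce4de6c4726f3223937981dc9bcc0ce4de5c7726f2e339379711c9bcb86e4de5c2726f2c2b9379515c9bc908e4de444726f1c3b9378e15c9bc68ae4de305726f16439378b1dc9bc58ce4de2c3726f1613937881dc9bc40ce4de145726f082b9378321c9bc18ee4de0c6726f061b9378309c9bc108e4de004726efe3b9377f19c9bbf82e4ddf84726efa439377d1dc9bbe8ce4ddf44726efa1b9377d09c9bbe0ae4dde84726eee2b9377711c9bbb0ee4ddcc7726ee633937721dc9bb88ee4ddc46726ee03b9377015c9bb78ce4ddb87726edc339376e15c9bb688e4ddb07726ed8339376b11c9bb508e4dda04726ece3b9376719c9bb308e4dd907726ec8339376405c9bb188e4dd884)))) (BT.node (nat_lit 335) (BT.leaf (Bx.mk (nat_lit 0x7271502b938a811c9c5402e4e29c572714e23938a705c9c530ae4e298472714c0b938a51dc9c528ce4e29047271462b938a311c9c510ae4e28847271440b938a115c9c5088e4e284172713e2b9389f11c9c4f0ee4e278672713a239389c11c9c4d08e4e260472712e239389611c9c4a88e4e254172712823938931dc9c498ce4e24c372712613938921dc9c490ce4e24857271223b9389119c9c4886e4e24427271203b9389015c9c4710e4e238772711c239388e09c9c468ae4e2247727112339388821c9c4408e4e214772710a339388515c9c4208e4e20c7727106339388211c9c4010e4e20047270fe439387f11c9c3f0ae4e1f087270f82b9387c11c9c3d8ae4e1ec47270f60b9387a11c9c3d02e4e1e477270f2339387909c9c3b8ee4e1dc67270ee2b938761dc9c3b0ce4e1d857270ea3b9387519c9c3990e4e1cc47270e6139387215c9c388ae4e1c087270de439386f15c9c3788e4e1b877270da2b9386c11c9c3588e4e1a447270d023938651dc9c328ce4e19457270c823938631dc9c318ce4e18447270c03b9386019c9c300ae4e17c47270bc3b9385d1dc9c2e8ce4e17437270ba139385b15c9c2d0ae4e15847270aa239385221c9c290ee4e14867270a2339385115c9c280ee4e14067270a02b9384f15c9c2708e4e13447270942b9384a11c9c248ae4e124472709023938471dc9c2386e4e118772708c339384615c9c228ee4e11457270883b9384419c9c2188e4e1085727084239384115c9c2088e4e10087270803b9384019c9c2008e4e1003727080139383e1dc9c1f0ce4e0f8172707a239383c1dc9c1e0ce4e0f05727076239383a11c9c1c8ee4e0e467270722b9383811c9c1a08e4e0cc5727066239383215c9c188ee4e0c467270603b9383019c9c168ae4e0b44727058239382b15c9c1508e4e0a0772705033938280dc9c1404e4e09c772704e339382715c9c1310e4e0945727048439382411c9c118ae4e08847270423b9382119c9c100ee4e08067270402b9381f1dc9c0f8ce4e078872703c239381c1dc9c0e0ce4e0701727036439381b11c9c0d10e4e06847270322b9381911c9c0c0ae4e06047270300b9381719c9c0b0ee4e058672702c2b938141dc9c0a0ce4e0501727026439381311c9c090ce4e04447270221b9381109c9c0810e4e040472701e3b9380f19c9c078ae4e034772701a339380d05c9c0610e4e0304727016439380b11c9c050ee4e02867270142b9380921c9c0488e4e0207727010339380815c9c038ee4e01c672700c1b9380609c9c028ee4e0146))) (BT.leaf (Bx.mk (nat_lit 0x7272a03b9395019c9ca80ae4e53c472729c239394d1dc9ca68ce4e53047272962b9394a11c9ca48ae4e520472728e439394719c9ca308e4e514772728a339394515c9ca208e4e50c57272843b9394219c9ca106e4e50827272823b9394119c9c9f8ae4e4f8872727c3b9393e19c9c9f08e4e4f8372727c139393d15c9c9e88e4e4f05727278239393a15c9c9d08e4e4e4572727223939381dc9c9c0ce4e4dc772726e339393715c9c9b0ee4e4d8672726c2b9393511c9c9a08e4e4cc4727264239393119c9c980ae4e4bc572725c439392e1dc9c970ce4e4b8372725c139392d1dc9c968ce4e4b457272583b9392c19c9c9588e4e4a84727252239392811c9c938ee4e49c672724e2b9392611c9c9288e4e4904727246239392211c9c908ee4e48467272422b9391f11c9c8f0ee4e478672723c2b9391e05c9c8e88e4e46c4727234239391911c9c8c0ee4e46067272302b9391711c9c8b0ae4e458472722a2b9391511c9c8a0ae4e45047272263b9391211c9c8888e4e440772721e239390d1dc9c868ce4e4307727218339390b1dc9c850ee4e42867272142b939071dc9c838ce4e418572720c23939051dc9c828ce4e41457272082b9390315c9c810ae4e40487272023b9390119c9c8086e4e404272720023938ff11c9c7e08e4e3ec47271f60b938fa1dc9c7d06e4e3e057271f023938f715c9c7b88e4e3d877271ea3b938f519c9c7a8ae4e3d057271e823938f221c9c790ee4e3c867271e23b938f115c9c7808e4e3bc47271d83b938ec19c9c760ae4e3ac57271d243938e911c9c7410e4e3a047271ce43938e621c9c730ce4e39847271cc1b938e609c9c7290e4e39447271ca1b938e415c9c710ae4e38847271c22b938e111c9c700ce4e37c57271bc23938dd11c9c6e10e4e36887271b42b938da11c9c6d02e4e36487271b22b938d905c9c6c10e4e36077271b02b938d721c9c6b8ee4e35857271aa3b938d519c9c6a8ae4e35417271a823938d311c9c6890e4e34447271a20b938d021c9c680ae4e34047271a00b938cf21c9c678ee4e33c672719c43938ce15c9c6688e4e32c572719623938cb05c9c650ae4e32847271940b938c91dc9c638ae4e318572718c23938c521c9c628ae4e31447271883b938c419c9c620ae4e30c472718423938c11dc9c608ae4e300472717e23938be21c9c5f08e4e2f4572717823938bb21c9c5d88e4e2e8572717243938b911c9c5c08e4e2d8572716a23938b315c9c580ae4e2c0472715e2b938af11c9c568ae4e2b447271583b938ac19c9c5588e4e2a44))))))) (BT.node (nat_lit 344) (BT.node (nat_lit 340) (BT.node (nat_lit 338) (BT.node (nat_lit 337) (BT.leaf (Bx.mk (nat_lit 0x7273b62b939d921c9cec88e4e76087273b023939d721c9ceb10e4e75477273a83b939d419c9cea0ae4e74c47273a23b939d119c9ce882e4e740472739e23939ce11c9ce68ae4e730872739443939ca11c9ce506e4e72457273903b939c819c9ce30ee4e718672738c2b939c605c9ce208e4e70c772738633939c315c9ce182e4e704472737e23939be11c9cde88e4e6f047273762b939ba1dc9cdd0ce4e6e8372737413939b915c9cdb0ee4e6d8672736c0b939b511c9cd990e4e6cc772736633939b311c9cd986e4e6cc272736423939b111c9cd808e4e6bc772735e33939af15c9cd70ae4e6b4572735843939ac1dc9cd60ce4e6b0372735813939aa11c9cd502e4e6a487273523b939a919c9cd484e4e6a0772735033939a71dc9cd38ce4e69c572734c43939a611c9cd28ee4e694672734a2b939a421c9cd208e4e68c772734633939a315c9cd10ae4e68847273422b939a111c9ccf90e4e67c472733c3b9399e19c9ccf0ae4e674872733a239399c1dc9cce0ce4e6705727336239399a21c9ccd08e4e6647727332339399915c9ccc0ae4e660472732e3b939970dc9ccb84e4e658872732c23939951dc9cca8ce4e6545727328439399411c9cc98ee4e64c67273262b9399215c9cc908e4e6445727322239399009c9cc788e4e638672731a439398d11c9cc60ee4e63067273182b9398b15c9cc588e4e62887273123b9398919c9cc48ae4e6205727310239398721c9cc388e4e618772730c339398615c9cc28ae4e61447273082b9398411c9cc18ee4e60c3727306139398215c9cc108e4e604572730223939801dc9cc00ce4e60057272fe2b9397f11c9cbf0ae4e5f847272fa3b9397d19c9cbe86e4e5f077272f8339397b11c9cbd0ae4e5e847272f243939791dc9cbc8ce4e5e437272f213939781dc9cbc0ce4e5e057272ee23939761dc9cbb0ce4e5d857272e83b9397419c9cb988e4e5c877272e4339397215c9cb888e4e5bc57272de239396e15c9cb708e4e5b457272da239396c11c9cb602e4e5ac67272d62b9396a11c9cb502e4e5a457272d2239396821c9cb40ee4e5a067272d01b9396809c9cb38ae4e59c47272cc2b9396611c9cb302e4e59477272ca33939650dc9cb284e4e59077272c8339396415c9cb18ee4e58c67272c62b9396221c9cb108e4e58457272c0439396011c9caf8ae4e57877272bc339395e15c9cae88e4e57077272b8339395c15c9cad8ae4e56847272b2239395621c9cab08e4e55457272a83b9395419c9caa02e4e54c77272a6339395305c9ca908e4e5444))) (BT.leaf (Bx.mk (nat_lit 0x7274be4393a5f1dc9d2f8ce4e97857274bc2393a5d15c9d2e88e4e97077274b83393a5c0dc9d2d8ee4e96c67274b23b93a5919c9d2c08e4e95c47274ac4393a561dc9d2b0ce4e95467274a82b93a5411c9d2a02e4e94c57274a62393a521dc9d290ce4e94847274a41b93a5121c9d2888e4e94427274a02b93a4f1dc9d278ce4e938772749c3393a4d11c9d260ee4e93067274982b93a4b21c9d2588e4e92857274942393a4a05c9d2488e4e92077274903393a480dc9d2404e4e91c572748e2393a4615c9d2308e4e918172748a3b93a4519c9d2286e4e91427274883b93a4415c9d2190e4e90c47274861b93a4121c9d208ae4e90447274804393a3f21c9d1f10e4e8f447274783b93a3c19c9d1e0ae4e8ec47274743b93a3a19c9d1d0ae4e8e447274702393a3719c9d1b8ae4e8d8772746a2b93a341dc9d1a0ce4e8d047274681b93a3409c9d198ae4e8c857274624393a311dc9d188ce4e8c437274621393a2f15c9d1788e4e8b8872745c3b93a2e19c9d1706e4e8b4772745a3393a2d15c9d160ee4e8b067274582b93a2b11c9d1508e4e8a457274522393a2815c9d1408e4e89c572744e2393a2615c9d1308e4e894772744a3393a2415c9d118ae4e88887274443b93a2219c9d1106e4e88827274422b93a2015c9d0f8ee4e87c672743e1393a1e1dc9d0f0ce4e87447274382393a1b11c9d0d0ee4e86867274342b93a191dc9d0c8ce4e86057274302393a1715c9d0b88e4e858572742c2393a1515c9d0a0ee4e85067274282b93a1315c9d090ae4e84477274223393a110dc9d0884e4e83c572741c4393a0e1dc9d070ce4e838372741c1393a0d1dc9d068ce4e83047274162393a0a1dc9d050ce4e82457274103b93a0819c9d0406e4e820272740c2b93a0611c9d028ae4e81447274083b93a0419c9d018ee4e80c67274062b93a0215c9d0108e4e804572740223939ff1dc9cff8ce4e7fc17273fc23939fd11c9cfe08e4e7ec77273f633939fb15c9cfd0ae4e7e457273f043939f81dc9cfc0ce4e7e037273f013939f61dc9cfb0ce4e7d817273ea23939f31dc9cf98ce4e7cc57273e43b939f219c9cf90ae4e7c447273e02b939f011c9cf78ee4e7bc67273de1b939ee1dc9cf70ce4e7b477273da33939ed15c9cf608e4e7ac47273d423939e91dc9cf48ce4e79c77273ce33939e705c9cf28ee4e79467273ca0b939e41dc9cf20ce4e79057273c623939e21dc9cf10ce4e78857273c223939e011c9cef90e4e77c77273be33939df0dc9cef0ee4e77867273ba3b939dd19c9cee8ae4e7704)))) (BT.node (nat_lit 339) (BT.leaf (Bx.mk (nat_lit 0x7275c42393ae11dc9d708ce4eb8457275c04393adf1dc9d6f8ce4eb7c57275bc4393add1dc9d6e8ce4eb7457275b82393adb21c9d6d0ee4eb6867275b42b93ad915c9d6c88e4eb6087275b02393ad71dc9d6b8ce4eb5c57275ac4393ad51dc9d6a8ce4eb5457275a82b93ad411c9d698ae4eb4c47275a43393ad115c9d6888e4eb4037275a01393acf15c9d6788e4eb38572759c2393acd15c9d6688e4eb3057275982393acb15c9d6508e4eb2447275920b93ac81dc9d6406e4eb1c772758e3393ac621c9d6308e4eb1457275884393ac411c9d618ae4eb0487275822393ac021c9d6008e4eafc872757c4393abd11c9d5e0ee4eaf067275782b93abb15c9d5d88e4eae847275724393ab91dc9d5c8ce4eae437275721393ab81dc9d5c0ae4eadc772756c3b93ab619c9d5a0ee4ead067275682b93ab311c9d590ee4eac867275642b93ab11dc9d588ce4eac437275602b93aaf15c9d570ee4eab8672755c1b93aae09c9d568ee4eab467275582393aab15c9d550ae4eaa477275523393aa911c9d5486e4eaa427275504393aa819c9d538ee4ea9c672754e2b93aa611c9d528ee4ea94672754a2b93aa41dc9d520ce4ea9057275462b93aa215c9d5090e4ea8477275423393aa10dc9d5084e4ea80472753e3b93a9f19c9d4f8ae4ea78572753c2393a9d11c9d4e10e4ea7077275383393a9c09c9d4d8ee4ea6c67275362b93a9a1dc9d4d0ce4ea6857275322b93a9815c9d4b90e4ea5c772752e3393a970dc9d4b84e4ea58772752c3393a9615c9d4a8ee4ea54672752a2b93a9411c9d4988e4ea4847275222b93a9111c9d4882e4ea4077275203393a900dc9d478ae4ea3c472751c2393a8d1dc9d468ce4ea3427275183b93a8c15c9d458ee4ea2c67275143b93a8a19c9d450ae4ea2447275102393a8621c9d4308e4ea14872750a2393a8421c9d4190e4ea0857275042393a8115c9d4088e4ea0417275002b93a8011c9d3f8ae4e9fc47274fc3b93a7e19c9d3e8ae4e9f447274f82b93a7c11c9d3d8ce4e9e487274f22393a7821c9d3c08e4e9dc87274ec4393a7521c9d3a88e4e9d077274e83393a7415c9d398ae4e9cc47274e44393a7211c9d388ee4e9c467274e22b93a7021c9d3808e4e9bc77274de3393a6f15c9d370ae4e9b847274d84393a6b1dc9d358ce4e9ac57274d42b93a6a11c9d3490e4e9a077274d03393a6815c9d3390e4e99c47274cc3b93a6619c9d330ae4e99457274ca2393a641dc9d3206e4e99027274c62b93a6311c9d3106e4e98827274c22b93a6111c9d300ae4e9804))) (BT.leaf (Bx.mk (nat_lit 0x7276b03b93b5819c9dab88e4ed5857276ac2393b5515c9daa88e4ed5077276a83393b5411c9daa06e4ed5027276a63b93b5319c9da90ae4ed4847276a40b93b5115c9da888e4ed4067276a02393b500dc9da804e4ed3c872769e2393b4e1dc9da70ce4ed38572769a4393b4d11c9da60ee4ed3067276982b93b4b11c9da508e4ed1c872768e2393b4709c9da30ee4ed18672768c2b93b4521c9da286e4ed1077276883393b4415c9da110e4ed0857276842393b4121c9da08ae4ed0447276804393b401dc9d9f8ce4ecf8772767c3393b3d15c9d9e88e4ecf057276782393b3b1dc9d9d8ce4ecec47276761b93b3b09c9d9d08e4ece477276723393b3915c9d9c0ee4ece0672766e2393b3621c9d9b0ee4ecd8672766c2393b360dc9d9b04e4ecd4772766a3393b3411c9d998ae4ecc857276623b93b3119c9d9888e4ecc437276621393b3015c9d978ae4ecb8872765c3b93b2e19c9d9706e4ecb8272765a3b93b2d19c9d9608e4ecac77276563393b2b15c9d950ee4eca867276542b93b2911c9d940ae4eca0472764e2b93b2711c9d9382e4ec98472764a2b93b2511c9d9282e4ec9077276483393b2211c9d908ce4ec8427276403b93b2019c9d8f88e4ec78772763c3393b1e15c9d8e0ee4ec7067276382b93b1b11c9d8d08e4ec6477276321b93b181dc9d8c0ce4ec5c872762e2393b1709c9d8b0ee4ec58672762c2b93b1521c9d8a88e4ec5437276283b93b1419c9d8a0ae4ec4c87276262393b121dc9d890ce4ec4857276204393b1011c9d878ee4ec3c672761e2b93b0e21c9d8708e4ec34772761a3393b0d15c9d8610e4ec3047276163b93b0b19c9d858ae4ec2837276141393b0921c9d8488e4ec2077276103393b0815c9d8310e4ec18472760a3b93b0519c9d828ae4ec1087276063b93b0319c9d818ae4ec0887276042393b011dc9d808ce4ec0457276004393aff1dc9d7f8ce4ebfc57275fc1b93afe09c9d7e88e4ebf047275f63b93afb19c9d7d86e4ebe847275f24393af91dc9d7c8ce4ebe087275f02393af71dc9d7b8ce4ebdc57275ec4393af611c9d7a8ee4ebd467275ea2b93af421c9d7a08e4ebcc77275e63393af315c9d7910e4ebc847275e23b93af119c9d788ae4ebc057275e02393aef21c9d7788e4ebb877275dc3393aee15c9d768ae4ebb447275d84393aec11c9d758ee4ebac67275d62b93aea21c9d7508e4eba477275d23393ae915c9d740ae4eba047275ce2b93ae711c9d730ce4eb9827275ca1b93ae509c9d7210e4eb9047275c63b93ae319c9d718ae4eb888))))) (BT.node (nat_lit 342) (BT.node (nat_lit 341) (BT.leaf (Bx.mk (nat_lit 0x78847e2bc423b11e211c90f108e4378846e33c423311e211908f108c4678845e3bc422f19e211488f108a0478844e23c422621e211308f1087447884323bc421719e210a8cf1085047884262bc421011e21030af10814878840a3bc42050de210284f1080847884003bc420019e21000af107f057883f423c41f219e20f88af107bc87883de1bc41ef09e20f40af107a047883ce2bc41e705e20f30cf1076447883b02bc41d805e20eb8ef1075c67883a83bc41d211e20e890f1074417883a03bc41d019e20e60ef10730678838a23c41c31de20e18cf106ec878837623c41b719e20da08f106cc778836423c41b115e20d50af1067077883382bc419921e20cc88f10640678831e2bc418c15e20c608f1062c57883142bc418615e20c008f105e047882ee23c41761de20ba0ef105d037882e63bc417319e20b90ef105c867882e413c41711de20b80ef105c067882de23c416e11e20b58cf105a857882d423c416719e20b208f1056c87882b623c415811e20ab8cf1055847882aa2bc415011e20a78cf10530778829833c41491de20a20ef10510678827e2bc413e1de209f0af104ec77882602bc412f11e209786f104b4478824023c411a15e208a8af1045057882280bc411215e208908f1044457882220bc410f11e208702f10434778821a33c410d09e20860ef1043067882182bc410b19e20850af1041847881f82bc40fc11e207d0af103e847881f22bc40f905e207c0cf103d847881ea3bc40f519e207a86f103d057881e62bc40f119e207490f103a447881d023c40e111e206f0cf1036067881ae23c40d61de206b0cf1035447881a42bc40ce19e20630ef10318678817e2bc40be21e205f0ef102f8678817c1bc40be09e205e8ef102f4578816c23c40ad1de20560ef102a4178814e2bc40a711e205308f10290778814423c409815e204a88f1024457881202bc409005e20478af10238578811c23c408d11e20460af10214478810623c40761de203a08f101d037880e423c407115e203808f101bc77880de33c406d1de203388f1019477880ca33c40650de203284f1018c77880b033c40551dc9db70ee4edb867276dc2b93b6d21c9db60ee4edb067276d82b93b6b11c9db30ae4ed9847276ca2b93b6511c9db20ee4ed9067276c81393b6215c9db108e4ed8457276c22393b601dc9db00ce4ed7c57276be2393b5e15c9daf08e4ed7477276ba3393b5d11c9dae86e4ed7427276b83b93b5c19c9dad8ae4ed6c47276b42b93b5a11c9dac90e4ed6477276b23393b5911c9dac86e4ed642))) (BT.leaf (Bx.mk (nat_lit 0x78885823c442b11e221586f110ac27888523bc442919e221210f1109077888482bc44240de221204f11084578884043c441f1de220f8cf1107857888382bc441b21e220d88f1106867888340bc441921e220c88f11060578882e2bc44161de220b08f11058378882a33c441309e220904f1104437888203bc441009e220790f1103c478881c3bc440e19e220688f1103437888183bc440c19e220608f11030378881813c44081de22040cf11020478880e0bc440511e22020af1100047887fe43c43ff09e21fe8cf10fe047887ee23c43f519e21f88ef10fc467887da3bc43ed19e21f608f10fa077887d033c43e805e21f388f10f9887887cc23c43e411e21e508f10f10778878833c43c311e21e108f10ed8578876633c43af1de21d78cf10ebc578875a33c43ab21e21d408f10e9c178874a43c43a51de21d288f10e90878874823c43a311e21d108f10e88178873033c439711e21c78af10e3837887182bc438a1de21c50cf10e1c778870e33c438515e21c20af10e0c478870423c437f21e21bf88f10dfc37886fe13c437815e21bb0af10dd847886ec0bc43751de21ba0cf10dbc67886c43bc436219e21ae84f10d7067886a823c43501de21a50af10d24278869033c434815e21a108f10cf077886763bc433b19e219c88f10ce0778867013c433711e219b0af10cd0778866833c432e21e21970cf10cb8478865833c432c0de219604f10cac87886562bc432b09e219506f10ca8278864c3bc43201de21900cf10c80178863e23c431e21e218f08f10c14878860a3bc430509e218206f10c1027886080bc42ff21e217f88f10bfc37885fa2bc42fd11e217e0af10bec77885f633c42fb05e217c8cf10bc047885d83bc42ec0de217088f10b7c47885b843c42dc11e216d0cf10b18478858623c42c111e215f08f10af4578857233c42b01de21580cf10ac0578855833c42a815e21538ef10a9c478854e1bc42a709e21510ef10a8867885442bc42a01de21500cf10a80578853633c429b0de214d84f10a6c17885342bc429905e214b0cf10a54878852a3bc429419e214a08f10a4c778852633c42921de21490cf10a4817885223bc429021e21480ef10a40678852023c428d15e214586f10a2c27885142bc428711e21400cf10a0017884f63bc427b19e213d08f109e047884e82bc427221e21390cf109c847884e233c426b15e21348cf1098c77884c633c426305e213108f1098447884b82bc425b21e212d8af1096817884b243c42591de212c10f1096077884b033c424f15e211f8ef108fc6)))) (BT.node (nat_lit 343) (BT.leaf (Bx.mk (nat_lit 0x788b7e23c45be15e22dc0ef116d88788b6c2bc45b305e22d90ef116c44788b603bc45b019e22d708f116b81788b5a2bc45ad11e22d682f116a87788b5413c45a711e22d302f116946788b403bc45a019e22d00af1167c5788b3c33c459815e22cb0af116545788b2a23c45941de22ca0cf1164c7788b262bc458c11e22c50ef116286788b140bc458911e22c408f116084788b0413c458009e22c002f115fc8788afe23c457b1de22bd8cf115ec1788af423c457711e22bb86f115dc2788ae82bc45731de22b98cf115cc3788ae613c457115e22b886f115c03788ade13c456c1de22b60af115944788ac823c456121e22b088f115843788ac213c455e11e22ad8ef1155c5788aae13c45561de22aa8ef115546788aaa2bc45531de22a98cf115484788a9e23c454f0de22a708f115383788a9823c454111e229888f114c07788a601bc453009e22978ef114bc6788a5633c452b0de229488f114745788a3a0bc451a1de228d0cf114683788a3413c45191de228c8cf114607788a2e3bc45161de228b0cf1143c3788a1623c450415e228208f114082788a023bc44fc11e227d10f113cc77889e633c44f30de227984f113c487889e23bc44f115e227888f113c087889e03bc44f019e227808f113bc57889de23c44ee15e227510f113a847889d03bc44e819e227308f1139037889c813c44e119e22700ef1138067889be23c44db1de226d0cf1136057889ae23c44d619e226a8af1135057889a63bc44d319e226986f1134c27889a423c44d205e226808f1131c578898a2bc44c411e22618cf1130467889803bc44c019e22600af112fc778897e33c44bc1de225b0cf112cc578895e2bc44ab05e225502f112a4878894a23c449b21e224d8af1126c278893443c449a15e224d04f1126817889323bc449915e224c82f1126087889300bc449511e224a0ef1125067889282bc449409e22498af1124c478891e43c448e15e224708f11238178891a2bc448b1de22458cf1122c578890a43c448511e224282f1120c67889043bc448219e224086f111f457888fa0bc447c21e223e0ef111e847888f223c447905e223c0ef111dc17888ec2bc447505e223a0cf111d017888e433c447211e223906f111b847888dc0bc446d1de22350af111a817888d23bc44681de22340af111a047888ca2bc446511e223284f1119417888c823c446119e223084f1118417888a423c444a15e222502f11124878888e23c444611e222210f1110c578888433c444121e222010f110f0478887623c443911e221908f110c42))) (BT.leaf (Bx.mk (nat_lit 0x788e6033c472f19e23978af11cb04788e563bc472b19e239508f11ca45788e4c3bc472019e23900af11c787788e3623c471b0de238b8cf11c5c5788e2c3bc471619e238a88f11c401788e1c23c470b1de23850cf11c284788e122bc47081de23840cf11c203788e0a33c470315e237e88f11bf04788df63bc46fb05e237a10f11bd04788de81bc46f221e23790af11bc45788dde3bc46ec11e23728af11b6c5788db623c46da15e236d08f11b681788db22bc46d321e23698ef11b4c4788da613c46d20de236904f11b481788da22bc46d111e23678ef11b3c6788d9c43c46ce19e236708f11b383788d983bc46cc19e236590f11b2c7788d9623c46ca21e23650cf11b084788d7e3bc46bb11e235b0ef11ad86788d6c2bc46b305e235808f11ab44788d5023c46a711e235288f11a8c6788d462bc469f1de234c8ef11a646788d2c33c46960de234b04f11a545788d282bc469211e234808f11a146788d082bc468411e23418af11a087788d023bc467f19e233f86f119f88788cfc33c467e15e233f08f119f81788cfa2bc467c15e233e08f119e84788cf023c46761de233b0cf119d44788ce833c467411e233802f119b84788cda2bc466c1de23350ef119a86788cd42bc466615e23318cf1197c5788cbe1bc465f05e232f0af119783788cba3bc465b1de232c86f119604788cae23c465615e232a10f119504788ca643c465311e232408f118f84788c7a2bc463c0de231b08f118d48788c6a23c46350de231a84f118c06788c602bc462e05e231510f118a86788c542bc462a0de231504f118a44788c4e33c462715e231386f118945788c483bc462419e23118af118888788c441bc461f15e230f10f118784788c3a3bc461d19e230e10f118707788c3823c461b15e230d06f118646788c303bc461819e230b90f1185c2788c2a23c461419e23098af118448788c2223c461015e230802f1183c7788c1e33c460e21e230708f118345788c1613c460711e23028ef118146788c0a23c460509e23010ef117fc8788bfe13c45fe15e22fe8ef117e41788bf043c45f80de22fb0ef117d43788bea13c45f505e22fa06f117d02788be80bc45ef19e22f78af117a81788bce43c45e715e22f386f1179c2788bce0bc45e621e22f306f117982788bcc0bc45e311e22ef0af117745788bba23c45db15e22ec88f117608788bb03bc45d819e22ea90f117544788ba643c45d311e22e90ef117485788ba22bc45d111e22e80af1173c5788b9e23c45cc19e22e58ef1172c5788b8c3bc45c619e22e290f117145)))))) (BT.node (nat_lit 348) (BT.node (nat_lit 346) (BT.node (nat_lit 345) (BT.leaf (Bx.mk (nat_lit 0x78917423c48b415e245408f1229c478914a43c48a511e245286f1229427891423bc48a01de24500cf12274878913a3bc489d15e244e86f1227427891363bc489a05e244c86f12260378912e2bc489709e244b0cf12258378912c0bc489521e244a88f12250778912833c489315e244988f1224c378912613c48921de24490cf1224847891241bc489209e24480ef12238678911a2bc488921e244488f12220778910e43c488615e244306f12214678910a13c488305e244008f121fc77890fe33c487f11e243f86f121fc27890fc2bc487d19e243d88f121e877890f043c48781de243c0cf121e057890ee43c487621e243b0af121d827890ec0bc487521e243a8af121d417890e843c487221e243890f121bc37890dc33c486e15e243602f121ac57890d20bc486611e243210f1219047890c62bc486215e243008f1217c57890be23c485f05e242f0af1217487890b843c485c15e242d90f1216887890b243c485811e242b90f1215c47890ae1bc485705e242b10f1215857890ac13c485515e242a0ef1215067890a21bc485015e242804f1213c578909c3bc484e0de24268ef1213057890963bc484b19e24250cf12128478909413c484a05e242484f12124178909033c484815e242402f1211c578908c23c484511e24220ef1210c47890822bc484111e24200af1210047890800bc483d1de241b06f120d4578906a23c483411e241a02f120a4778904e23c482421e241108f12088378904413c482205e241086f1208027890400bc481c19e240e04f1206c67890341bc48190de240c0cf12058678902233c480e19e23ff88f11fec5788ff623c47fb0de23fd84f11fec1788ff23bc47f919e23fb08f11fd81788fe643c47f311e23f910f11fc84788fe23bc47f119e23f808f11fbc4788fde1bc47ee19e23f688f11f6c4788fb423c47da09e23eb8af11f583788faa2bc47d415e23e98cf11f487788f982bc47cb11e23e586f11f146788f7623c47b51de23da0af11ecc6788f6623c47b30de23d984f11e9c4788f4a23c47a41de23d20cf11e884788f4243c47a11de23ce8cf11e686788f263bc479319e23c60ef11e306788f1623c478a11e23c28cf11e144788f0833c478315e23c090f11e047788f0033c477319e23b60cf11db05788ed42bc47681de23b38ef11d9c4788ece13c476611e23b28ef11d908788ec823c47631de23b18cf11d8c1788ec443c47621de23b108f11d848788ec233c475f05e23ad08f11d505788ea01bc474c19e23a188f11ce87788e6a13c473415e239a08f11cc07))) (BT.leaf (Bx.mk (nat_lit 0x7893d223c49e821e24f408f1279847893ca1bc49dc11e24ed08f1276837893b413c49d41de24e98af1274c47893a443c49d219e24e904f1274467893a22bc49d10de24e80af1273c778939e33c49ce21e24e70ef12738678939c0bc49cd21e24e68af12734178939843c49cc1de24e60cf1273017893962bc49ca19e24e48cf1272427893903bc49c819e24e38ef1271c678938e0bc49c621e24e30ef12714878938a33c49c415e24e18ef1270c67893861bc49c309e24e10ef1270867893822bc49c111e24e082f12700778937e2bc49be1de24df0cf126f4778937a33c49bd15e24dd8af126ec47893760bc49ba21e24dd0ef126e867893723bc49b919e24dc8af126e0278936e3bc49b719e24db8af126dc278936c3bc49b619e24db06f126d8278936c0bc49b521e24da86f126d037893680bc49ab05e24d18ef1268c578934423c49a205e24cf8cf12674878933a23c499d09e24ce0ef1266c57893361bc499b09e24cc8ef1266467893321bc499905e24cb82f1265847893283bc499311e24c88af12644478931e43c498f19e24c70cf12638478931c0bc498b11e24c50af1262817893123bc498919e24c302f12614878930a3bc498519e24c282f1261087893083bc498419e24c202f1260c67893060bc498019e24c002f125f877892fc33c497e05e24be0af125ec57892f43bc497a19e24bd06f125dc47892ec13c497319e24b910f125c837892e40bc497121e24b884f125c057892e00bc496f1de24b70ef125b867892dc2bc496d11e24b488f1259c77892ce33c49621de24b10cf1258827892c40bc49601de24af84f1257857892bc13c495d0de24ad08f1255c67892a63bc495319e24a986f1254c27892a60bc495111e24a78ef1253c67892922bc493e15e249c8af124e447892721bc493909e249c82f124d8778926c33c49321de24990cf124c8178926243c493111e249808f124bc778925a23c492c19e248e8af1246c57892342bc491715e248b88f12458378922c13c491311e24890ef12444778922233c490b11e24820cf12410378920813c490311e247f88f123e847891de3bc48ef19e247786f123bc27891dc2bc48ed15e24758ef123a877891d433c48e915e247484f123a057891d013c48e711e24728ef1239467891ca1bc48e509e247208f1238c57891ba3bc48da15e246d04f1236457891b213c48d811e246a0af1234c77891a03bc48cd1de24668cf1233057891902bc48c415e246188f1230887891841bc48be11e245e90f122f077891780bc48bb21e245d10f122e87)))) (BT.node (nat_lit 347) (BT.leaf (Bx.mk (nat_lit 0x78970423c4b8015e25bf90f12dfc47896fe1bc4b7f09e25bb8af12dc087896e023c4b6f15e25b70ef12db057896d823c4b6b1de25b586f12da417896d02bc4b6811e25b38ef12d9c37896c43bc4b6219e25b090f12d8447896c213c4b6021e25b008f12d8037896b83bc4b5c19e25ad88f12d6847896b223c4b581de25ab8cf12d38578969833c4b4515e25a282f12d04478967c2bc4b3e11e259d8af12cec47896761bc4b3b09e259d06f12ce827896740bc4b3911e259c08f12cdc878966c43c4b3519e259a82f12cd0878966643c4b3119e25968cf12c98778964c33c4b260de259304f12c9047896363bc4b1b19e258d84f12c6c178963223c4b190de258c84f12c50578962243c4b1111e25880cf12c40378962013c4b0f15e25870af12c24778961233c4b0811e25830af12c14578960a0bc4b0211e257f88f12bf847895fc0bc4afd1de257e8cf12bf047895f623c4af80de257c04f12bd877895ea33c4aef1de25778cf12bb477895da33c4ae915e257308f12b9837895cc13c4ae311e257088f12b8067895bc3bc4ade0de256e04f12b6857895b01bc4ad809e256782f12b28878959423c4aca05e25648ef12b2467895921bc4ac81de256404f12b1c878956823c4aaa21e255508f12aa8378955413c4aa915e255488f12aa0578955023c4aa721e255388f12a98478954a3bc4aa519e255208f12a8c578954423c4aa11de25508cf12a80478953e2bc4a9d15e254e88f12a6877895342bc4a9819e254b0ef12a5057895262bc4a9311e25490cf12a44578952023c4a8b0de254584f12a2c17895142bc4a8421e254208f12a0c178950243c4a8015e254008f129fc57894fc33c4a7e09e253e8af129f057894f63bc4a7b19e253d86f129e877894f433c4a791de253c10f129dc47894ec2bc4a7521e253310f1299847894ca3bc4a6515e253210f1299047894c633c4a6221e253090f1297c47894b823c4a5a15e252d08f1296447894b02bc4a5805e252a8cf1294857894a423c4a501de252688f12934378949a13c4a4c11e25250ef1292867894883bc4a431de25218cf1290c378948613c4a4219e25210af1290457894682bc4a3321e25198ef128cc67894661bc4a3309e25178cf128b4778945223c4a2815e25138ef12890778944833c4a240de251204f1288447894362bc4a1a15e250c8af12864478942c2bc4a131de250984f12838878941c23c4a0a11e25040af12820378940e2bc4a070de24ff0cf127d047893e62bc49f21de24f88ef127c457893e043c49ee21e24f706f127a87))) (BT.leaf (Bx.mk (nat_lit 0x789a6433c4d3109e26970ef134a41789a5023c4d2721e269388f134904789a442bc4d2009e268b8ef134546789a2a2bc4d0915e26840ef1341c7789a0e33c4d070de268382f1340c57899fe3bc4cff19e267f8af133dc67899ea0bc4cf421e267a0ef133d057899e80bc4cf221e267902f133c457899e223c4cf01de26778cf133bc47899de0bc4ced11e267508f133a817899d243c4ce91de26748cf133a427899d023c4ce621e267290f1339457899ca23c4ce505e26720cf1338c87899c63bc4ce319e267110f1338867899c423c4cdf19e266f0ef1337867899bc23c4cdc1de266e0cf1337027899b62bc4cda1de266d0cf1336837899b223c4cd719e266a8ef1335077899a833c4cd219e266808f13338478999a0bc4ccb19e265f88f132f8778997c33c4cbe15e265e08f132ec77899723bc4cb919e265b0cf132d8178996823c4cb31de26598cf132cc178995e3bc4caa11e265390f1329c478994c43c4ca611e26528af1328c57899443bc4ca219e26510af1328837899440bc4c9e15e264e90f1326c77899362bc4c9711e264708f13204878990223c4c7515e263a88f131d047898e633c4c6f19e263408f1319077898c833c4c6219e263106f1318827898c23bc4c5c1de262d8af1316487898b23bc4c5819e26270ef13138678989c0bc4c4c11e26248af130e8578987423c4c391de261c8cf130e4378986c33c4c3615e261a88f130d0578986823c4c331de26198cf130c8778986433c4c3111e261590f130ac578985623c4c291de26148cf130a4178985043c4c2811e261390f1309c478984833c4c2011e260f90f1307c778983e13c4c1d19e260e0ef13068578982e23c4c1415e260908f13048278980623c4c0219e260106f12ff087897f813c4bfb1de25fd8cf12fec57897ee23c4bf521e25fa88f12fd047897e623c4bf221e25f904f12fc477897e233c4bf115e25f884f12fc087897de23c4bef09e25f70af12fb847897dc13c4be721e25f388f12f9877897c413c4be205e25ef8cf12f7c47897bc23c4bd81de25eb0af12f5437897aa13c4bd311e25e908f12f4457897a223c4bce11e25e68af12f3077897963bc4bcb19e25e508f12f2457897903bc4bc819e25e30af12f18478978a2bc4bc41de25e20cf12f0c778978633c4bc311e25e10cf12f0847897800bc4bbe21e25df0cf12ef8478977c1bc4bbc11e25d608f12eac478975433c4ba81de25d40cf12ea0478974a2bc4ba511e25d18ef12e74778972c33c4b9611e25ca86f12e54278972a0bc4b8c15e25c48cf12e144))))) (BT.node (nat_lit 350) (BT.node (nat_lit 349) (BT.leaf (Bx.mk (nat_lit 0x789d5e23c4eac1de27560cf13aa04789d4e23c4ea619e275288f13a8c6789d3a23c4e9611e27490af13a144789cec2bc4e7611e273a8ef139bc5789cc423c4e6111e27300ef139806789cc01bc4e6009e272f0ef139785789cb63bc4e5b15e272d0af1395c5789cac43c4e551de272a8af139508789ca80bc4e5215e272908f139445789c9e43c4e4f11e272710f139344789c982bc4e4c11e272602f1392c7789c9633c4e4a1de27250cf139285789c8c3bc4e4311e27208ef139046789c820bc4e4011e271f90f138fc4789c7a33c4e3d11e271e86f138f42789c783bc4e3a19e271d02f138e47789c703bc4e3819e271b88f138d44789c683bc4e331de27198cf138c48789c6043c4e2f19e271786f138bc1789c5423c4e1f15e270f88f138785789c3a3bc4e1c1de270e0af138686789c303bc4e1819e270c0af138507789c2423c4e1019e270802f1383c4789c1a23c4e091de27048cf138243789c1213c4e0321e27010ef138004789c001bc4e0009e26fd8ef137ec6789be823c4def15e26f788f137b87789bda3bc4ded19e26f60cf137b04789bd81bc4dea1de26f50cf137a83789bd413c4dea05e26ed8ef1376c6789bb03bc4dd711e26ea0cf137484789ba223c4dd015e26e70ef137386789b903bc4dc811e26e38ef137188789b8c2bc4dc421e26e20ef1370c8789b8633c4dc215e26e108f137007789b8033c4dbf19e26dd90f136ec4789b723bc4db919e26dc82f136d45789b543bc4da51de26d28cf136945789b4233c4d9c15e26cd90f1366c3789b2e23c4d901de26c80cf136401789b1e23c4d8d11e26c608f136287789b1433c4d8a15e26c188f136006789afc13c4d7a09e26bd02f135e48789af23bc4d7919e26bc8af135e06789af01bc4d7805e26bb08f135cc7789ae62bc4d7215e26b88af135c08789ae02bc4d700de26b802f135bc8789ade13c4d6f05e26b70af135b84789ada2bc4d6d11e26b508f135a45789ad02bc4d6811e26b402f1359c5789ace23c4d661de26b30cf135982789ac82bc4d6219e26b104f1357c7789aba33c4d5c21e26ad88f135547789aaa1bc4d5509e26aa82f135508789aa823c4d5205e26a882f135401789a9633c4d4b0de26a584f1352c1789a943bc4d4a11e26a504f135245789a9043c4d4819e26a28af135105789a8823c4d4211e26a08af135008789a803bc4d400de269f8cf134f87789a7c33c4d3e05e269e90f134f44789a782bc4d3c11e269d88f134e87789a703bc4d3819e269b8ef134dc6789a6e0bc4d361de269b02f134cc5))) (BT.leaf (Bx.mk (nat_lit 0x789fbc1bc4fde09e27ed06f13f682789fb40bc4fd815e27e88af13f405789f9e3bc4fcf11e27e786f13f3c2789f9c3bc4fcc1de27e60af13f2c4789f960bc4fc91de27e48cf13f204789f8c2bc4fc611e27e302f13f144789f8843c4fc31de27e18af13f084789f7e23c4fbd1de27de0af13ef04789f7623c4fb915e27dc0af13ed44789f683bc4fb419e27da08f13ecc7789f6633c4faf15e27d690f13eb44789f582bc4fac11e27d58ef13eac6789f562bc4faa15e27d508f13ea48789f5043c4fa711e27cf08f13e686789f302bc4f9811e27cb8af13e5c4789f2c1bc4f9609e27ca88f13e4c2789f222bc4f9111e27c808f13e304789f163bc4f8b19e27c58af13e284789f062bc4f8311e27c10af13e084789f0233c4f810de27bf88f13df46789ef833c4f7c15e27bd10f13de84789eea3bc4f740de27b98ef13dc88789ee42bc4f7211e27b890f13dc41789ede3bc4f6f19e27b78af13db87789ed61bc4f6921e27b30af13d907789ec81bc4f6221e27b108f13d882789ec40bc4f610de27b006f13d802789ec00bc4f5f09e27ae90f13d746789eba1bc4f5c15e27ab8af13d5c4789eac43c4f551de27aa0cf13d502789ea63bc4f5319e27a986f13d4c1789ea423c4f4e19e27a68af13d307789e9833c4f4c15e27a602f13d2c5789e9623c4f4a15e27a508f13d281789e9243c4f491de27a48cf13d187789e8c33c4f4605e27a28af13d104789e863bc4f4305e27a10ef13d045789e802bc4f3f11e279f84f13ce48789e702bc4f371de279b8cf13cdc1789e6c23c4f3521e279a88f13cd05789e6423c4f2b1de27958cf13ca84789e4623c4f1f15e278f86f13c7c2789e3c2bc4f1e0de278f04f13c746789e342bc4f190de278a08f13c4c8789e263bc4f121de27890cf13c485789e2223c4f0f15e278688f13c2c4789e142bc4f0a05e27848ef13c207789e1033c4f0815e278388f13c088789e0243c4f0111e278082f13c007789e0033c4efc19e277d08f13be47789dee23c4ef61de277b0cf13bd47789de823c4ef219e277888f13bc05789de023c4eef19e27758ef13bac6789dd233c4ee61de27730cf13b884789dbe3bc4edf15e276f88f13b7c1789dbc43c4ede11e276e8af13b741789db843c4edc1de276e0cf13b705789db813c4edc05e276d8af13b6c1789db023c4ed619e276b0af13b505789da643c4ecf19e276788f13b387789d9c33c4ecd11e276488f13b1c7789d7e3bc4ebc1de275c8ef13adc7789d6e33c4eb511e275a0ef13ad06789d680bc4eb11de275882f13abc5)))) (BT.node (nat_lit 351) (BT.leaf (Bx.mk (nat_lit 0x78a1b21bc50d909e286c82f14360878a1aa43c50d419e28658ef1432c678a1942bc50ca11e28648ef14324678a19223c50c90de286484f14320478a18e3bc50c719e286288f14310478a18643c50c311e286102f14304878a1823bc50c119e285f82f142f4178a17823c50bb15e285c8ef142e4678a1722bc50b41de285890f142c4778a16223c50b011e28578af142b8478a15423c50a911e285408f1429c578a14e23c50a615e28528ef14290578a1462bc50a21de28510cf14288378a14413c50a115e285082f14280878a13e43c509f1de284f8cf14278578a13c0bc509b21e284d8ef1426c678a1361bc509b09e284d10f14268678a13423c509a0de284c86f14260578a12e23c509609e284a8af14254478a12a1bc509415e284a06f14248278a1222bc509005e284608f14224478a10843c50841de28420cf14210378a10813c508405e284188f14208478a0fe23c507e11e283f06f141e8778a0f40bc507511e283782f14194878a0ca23c50611de28308cf14184578a0be2bc505e21e282f0ef14178678a0bc2bc505d09e282d8af1416c478a0b42bc505915e282a8ef14154378a0a82bc505411e282888f14144278a0a043c505015e282806f1413c878a09e13c504a1de28250cf14124478a08c23c504015e281f0af140f8478a07a33c503d09e281e0af140f0478a0762bc503a1de281d0cf140e8378a07413c503915e281c0af140dc778a06e33c50370de281b84f140d8878a06c2bc50360de281b02f140d0778a0682bc503409e281a02f140cc378a06423c50310de281884f140c4178a06043c503011e281806f140c0278a05e1bc502f05e281710f140b8578a05c13c502c1de28160cf140b0178a05623c502819e281210f14090778a04833c50240de281204f14090178a0463bc50221de28110cf14078678a03823c501b19e280d08f1404c778a02223c500d21e280684f14028678a0142bc500821e280390f1401c578a00e23c500621e28020af14010278a00613c500219e280088f13ffc7789ffe33c4fff0de27ff84f13ff88789ffc13c4ffd21e27fe8af13ff08789ff82bc4ffc09e27fd90f13fec7789ff623c4ffa11e27fd04f13fd07789fe42bc4ff115e27f888f13fc06789fde2bc4fef05e27f68ef13fb07789fd63bc4feb09e27f50ef13fa86789fd223c4fe821e27f408f13fa03789fce3bc4fe719e27f38af13f987789fca43c4fe505e27f20ef13f906789fc80bc4fe321e27f18ef13f8c4789fc433c4fe211e27f08cf13f804789fbe23c4fde1de27ef0cf13f784))) (BT.leaf (Bx.mk (nat_lit 0x78a49a33c524c15e29250af14928478a49223c524515e29218af14904478a47e2bc523d19e291e10f148ec778a46443c523115e291888f148bc278a45c2bc522a1de29130af14898478a4362bc521b11e290d82f14868478a4323bc521919e290c0af14854678a41c43c520e09e29060af14824478a40e2bc520705e28fe0ef147c0578a3de2bc51ee09e28f408f1479c478a3cc3bc51e619e28f288f1478c578a3c623c51e119e28ef90f1477c778a3be33c51df09e28ee8af1476c678a3aa3bc51d519e28ea82f14750878a3a823c51d21de28e808f1471c478a3842bc51bf15e28df06f146f8278a37823c51ba19e28dc0ef146e0678a3702bc51b615e28d990f146c0878a3602bc51b011e28d788f146b0878a3560bc51aa21e28d48af146a4478a34e3bc51a719e28d288f14684578a34223c519f19e28cf84f1466c578a3322bc519619e28ca0af1462c578a31623c518a15e28c502f14624678a30e3bc518719e28c30ef14618678a30c2bc517d15e28be08f145ec678a2f223c517721e28bb10f145d8578a2ea3bc517505e28ba10f145cc878a2e633c516c21e28b608f1458c578a2b813c515b1de28ad8cf14550678a2a823c515305e28a910f14544878a2a23bc515119e28a68cf14534178a29843c514c15e28a590f14528578a29423c514915e28a40ef14520678a2901bc514809e28a30af14518178a28a1bc514211e28a00ef14500678a2801bc514009e289d88f144b0678a2562bc512b11e28950cf144a0778a24e2bc512611e28928ef14494678a24a1bc512509e28920af14490478a24033c511f21e288f8ef1447c678a23e2bc511f09e288f0af14478478a23c0bc511d21e288e8af14474478a2362bc511b05e288d10f14468778a23423c511915e288c82f14460578a22e43c511719e288b0ef14458678a22c2bc511515e288a0ef14450178a22643c511215e288902f14444578a22043c510f11e288782f14438578a21c23c510e05e288588f14428578a21423c510815e288408f14418778a20c0bc51051de28828cf14414478a20a1bc510509e288282f143f0778a1f833c50fc05e287d88f143e8778a1f433c50f911e287b82f143d8478a1ea2bc50f211e28778ef143b0878a1d823c50eb21e287510f143a8278a1d22bc50e815e287408f1439c478a1cc3bc50e619e28730af1438c478a1c423c50e11de28708cf14380478a1be23c50de11e286e90f14374778a1ba23c50dc21e286e0ef14370678a1b823c50dc0de286e04f1436c778a1b633c50db15e286d10f143681)))))))) (BT.node (nat_lit 368) (BT.node (nat_lit 360) (BT.node (nat_lit 356) (BT.node (nat_lit 354) (BT.node (nat_lit 353) (BT.leaf (Bx.mk (nat_lit 0x78a67033c53380de299c04f14cdc578a66c43c533611e299a8ef14cd4678a66a2bc533411e29988cf14cc4278a6601bc532d1de299684f14cb0778a65833c532b19e29950af14ca0878a6502bc53261de29930cf14c98578a64c13c532605e299290f14c94578a64a23c53250de299208f14c88778a6440bc532105e298f82f14c78478a63c0bc531c21e298e04f14c70178a62823c53131de29898cf14c48778a6241bc531121e298886f14c44178a62013c530f21e29878cf14c38578a61a23c530c1de29860cf14c30378a61813c530b1de29858cf14c2c378a61613c530a09e29840cf14c20278a60e2bc530709e29828ef14c14678a6062bc530311e29810af14c04778a60233c53001de29800cf14c00378a60013c52ff15e297f08f14bf4678a5f82bc52fb15e297c08f14bdc778a5ee33c52f715e297b08f14bd4578a5e843c52f419e297988f14bcc178a5e443c52f211e297882f14bc0678a5da3bc52ed19e29768af14bb4378a5da0bc52ec15e29758ef14ba8878a5d42bc52e611e29720cf14b90178a5c60bc52e11de297086f14b80578a5c01bc52df1de296f8cf14b78778a5bc2bc52dd15e296e10f14b70478a5b81bc52da15e296c8af14b60578a5ac2bc52d515e296a06f14b40478a5a013c52cc19e296606f14b2c178a59413c52c921e29648cf14b20578a59023c52c715e29630ef14b18678a58c1bc52c609e29628af14b10578a58823c52c31de29618cf14b08378a5823bc52c119e295f90f14afc578a57e23c52be21e295f0af14af4878a57843c52bc1de295d8af14ae8778a57433c52ba0de295d04f14ae4478a56e3bc52b70de295b84f14ad0378a5663bc52b319e295910f14ac8178a56243c52af15e295702f14ab4878a55a0bc52ab15e295588f14aac178a5540bc52a819e295310f14a94878a54a23c52a421e295202f14a8c478a54443c529e21e294e8ef14a70778a5381bc52991de294c8cf14a64378a53213c529805e294b90f14a5c778a52e0bc529321e29488ef14a44678a5221bc529109e29478ef14a3c278a51c43c528e11e294388f14a14778a50a0bc528411e294008f149f8578a4f843c527b1de293d8cf149e8478a4f22bc527611e293984f149c0778a4e023c526e15e29368af149b0778a4d833c526c09e293584f149a8678a4d42bc526505e293190f1498c378a4c60bc526221e293006f14980178a4be13c525f05e292f0cf14970478a4b43bc525a0de292d04f14968178a4ac3bc525619e292888f14940578a4a023c524f11e29270ef149386))) (BT.leaf (Bx.mk (nat_lit 0x78a94a1bc54a409e2a518af15288578a94413c54a11de2a508cf15280578a9401bc54a009e2a4f8af1527c378a93e13c549e1de2a4f0cf15278378a93c13c549d15e2a4c90f15264478a92e43c549711e2a4b0cf15250478a9202bc548f1de2a478cf15238478a91a2bc548c1de2a460cf15230378a91813c548b1de2a458cf15220478a90c23c548211e2a408af151e8478a8e233c547115e2a378ef151bc678a8de2bc546611e2a320ef15188578a8c033c545e11e2a2a0af15144878a8a043c54500de2a2804f15140178a89e23c544f05e2a2682f15130878a89823c544b1de2a258cf1511c478a88623c54411de2a1f90f150fc778a87e13c543d1de2a1d8ef150ec678a8760bc543111e2a1310f15098478a84c13c542415e2a110cf15070578a82c43c541515e2a0a88f1504c878a82043c540e15e2a0708f15034778a81823c540a1de2a050cf15028378a81413c540615e2a0308f15014578a80833c54021de2a0008f14ffc478a7fa3bc53fa1de29f908f14fb8478a7d643c53ea21e29f50af14fa4378a7d20bc53e821e29f40ef14f78478a7ba2bc53dd11e29ee0ef14f70678a7b81bc53dc09e29ed0af14f64578a7b013c53d715e29e988f14f48678a79e3bc53ce19e29e608f14f30178a79223c53c615e29e18ef14f0c678a7803bc53c019e29de88f14ef4378a77623c53b41de29d990f14ec8778a76243c53ae11e29d68cf14eac578a7462bc53a215e29d008f14e7c578a73c3bc539e19e29cf06f14e78278a7383bc539c19e29cd90f14e68778a73433c539a15e29cc88f14e54478a71e3bc538e1de29c70cf14e34778a71a33c538d09e29c604f14e30178a71643c538a15e29c504f14e24878a7123bc538919e29c48af14e24378a7120bc538519e29c28af14e14178a7060bc538119e29c08af14e00578a6fe43c537f1de29bf8cf14dfc578a6fe0bc537e21e29bf0cf14df8578a6fc1bc537e09e29bf02f14df0778a6f833c537c0de29be04f14de8478a6f22bc537911e29bc08f14dd8778a6ea3bc537519e29ba0af14dcc878a6e43bc537115e29b808f14db4578a6da23c536b11e29b586f14dac178a6d243c53691de29b48cf14da4378a6d00bc536711e29b30af14d90778a6c833c535f21e29af10f14d74178a6b633c53591de29ac8cf14d64578a6b213c535815e29ab86f14d58878a6a433c535215e29a902f14d40778a6a00bc534b1de29a58cf14d2c378a69613c534a0de29a504f14d24578a6902bc53431de29a18cf14cf8778a6782bc533a11e299c8af14ce07)))) (BT.node (nat_lit 355) (BT.leaf (Bx.mk (nat_lit 0x78ab8e0bc55c521e2ae288f15710878ab8823c55c119e2ae08af156fc878ab7e3bc55bf15e2adf08f156f8378ab7a0bc55bb11e2add08f156e8178ab703bc55b819e2adb8ef156dc678ab6c33c55b515e2ada82f156cc878ab642bc55b115e2ad810f156b8578ab5a0bc55aa11e2ad290f15694478ab282bc55930de2ac68af15634478ab182bc558b15e2ac588f15628578ab1413c558921e2ac406f15620278ab0e2bc558615e2ac306f15618278ab0a2bc558509e2ac206f1560c878ab061bc558305e2ac110f15608378ab022bc558111e2ac086f15600578ab001bc558009e2abf82f155f8478aafa1bc557d09e2abe08f155ec578aaf623c557a1de2abc8af155e0678aaee43c55761de2abb0cf155d0778aae833c55731de2ab988f155c4878aae223c557011e2ab790f155bc778aade33c556f15e2ab708f155b4578aada23c556c19e2ab604f155ac878aad43bc556a19e2ab40cf1559c478aace13c556621e2ab290f15594278aac843c556411e2ab202f15588478aab82bc555b11e2aad0ef15568678aab223c555611e2aaa8af1554c578aaa42bc555121e2aa88ef15544178aa9a43c554d11e2aa48ef15520578aa8e2bc554711e2aa386f15510578aa8823c55431de2aa18cf154fc578aa7e23c553b11e2a9d0ef154e4778aa7233c553621e2a9a0af154cc478aa661bc553111e2a9808f154a8778aa5433c552911e2a9484f1549c478aa4423c552015e2a9008f1547c778aa3c2bc551c1de2a8d08f15464778aa321bc55161de2a8b0cf15458278aa283bc551419e2a8a0af15444578aa1e43c550f1de2a868af15430378aa1813c550a15e2a8508f15424578aa0e23c550611e2a8108f15400778a9fe23c54ff05e2a7e8ef153ec878a9f22bc54f421e2a7810f153c0478a9de33c54ee15e2a768af153b0278a9d623c54e91de2a7410f153a0478a9d013c54e71de2a7310f15398378a9ca33c54e415e2a7208f1538c578a9c42bc54e211e2a7102f1537c678a9ba23c54dc15e2a6e08f1536c778a9b633c54db0de2a6d84f15368178a9b22bc54d815e2a6b84f15354478a9a82bc54d411e2a698ef1534c678a9a61bc54d309e2a6788f15334878a99443c54ca11e2a6488f15324178a9900bc54c71de2a6386f1531c278a97833c54bc09e2a5d8ef152ec378a9760bc54ba15e2a5d08f152e4878a97233c54b911e2a5b8ef152dc678a96e2bc54b705e2a5a10f152cc778a9660bc54b115e2a5882f152b0678a95813c54ab21e2a5584f152a8378a9523bc54a709e2a530af152948))) (BT.leaf (Bx.mk (nat_lit 0x78ae361bc571b09e2b8d0af15c68478ae3013c571615e2b8a8ef15c50678ae263bc571319e2b888af15c2c478ae161bc570611e2b828ef15c04478ae0033c57000de2b8004f15bfc678adee2bc56f615e2b790af15bc0678adde2bc56ed09e2b7610f15ba8578add22bc56e515e2b7286f15b94278adc82bc56e40de2b718af15b8c278adc42bc56e105e2b7010f15b80378adc00bc56df21e2b6f8af15b78578adba2bc56dd11e2b6d8ef15b6c678adb40bc56d81de2b6c08f15b60378adb013c56d41de2b6908f15b40778ada033c56d015e2b6788f15b38478ad9623c56c721e2b6310f15b18578ad8423c56be11e2b5c0cf15ae0478ad6a23c56b305e2b5788f15ab8778ad5c33c56ae15e2b550af15aa8478ad5043c56a811e2b5310f15a98678ad4c23c56a515e2b520af15a90478ad442bc56a211e2b4f8cf15a7c578ad3c23c56991de2b4c0cf15a58578ad2a43c56951de2b4a8cf15a54578ad2833c569321e2b4988f15a4c178ad2443c569115e2b480ef15a40678ad2023c569009e2b4788f15a34378ad1a13c568a19e2b450af15a20578ad1023c568715e2b428cf15a14578ad0843c568221e2b4088f159f8878acfc23c567d15e2b3e0af159ec778acf633c56731de2b398cf159cc178ace423c567121e2b3888f159c0578acda2bc566c15e2b3608f159b0178acd63bc566b19e2b358af159a4778acd233c566915e2b338ef1599c678acc63bc566319e2b3182f15988878acc423c566111e2b300af1596c578acac2bc564d15e2b258ef1592c678ac961bc564b09e2b250af15924478ac9023c564515e2b2288f15904678ac802bc564011e2b1f8af158fc478ac7c43c563e11e2b1e8ef158f4678ac6e23c563521e2b1a88f158d4378ac6a0bc563421e2b1a06f158d0178ac6643c563015e2b1788f158b8178ac5443c562a11e2b1410f158a0478ac4e43c562715e2b1388f1589c178ac462bc562115e2b1008f1587c778ac3e33c561f09e2b0d0af15868178ac3223c56190de2b0c06f15860278ac2e2bc56170de2b0b10f15858578ac2c23c561609e2b0890f15844478ac2043c561011e2b0690f15834478ac1633c560919e2b048af15820778ac1033c560311e2afe0af157ec778abf633c55fb11e2afd86f157ec278abf433c55f715e2af98ef157cc678abe62bc55f01de2af80cf157c0578abda23c55ea11e2af488f15798778abcc33c55db11e2aec08f15750478ab9e23c55ce1de2ae70cf15738578ab9a43c55cd05e2ae58af1572c478ab8e43c55c71de2ae38cf1571c5))))) (BT.node (nat_lit 358) (BT.node (nat_lit 357) (BT.leaf (Bx.mk (nat_lit 0x78b09023c584715e2c2308f16114478b08a1bc584321e2c218af1610c478b0842bc58411de2c208cf160fc878b07e33c583f11e2c1f08f160e4478b0702bc583711e2c1b0af160d4478b06a1bc583415e2c1a06f160c8478b05e3bc582d11e2c160af160a8578b05423c58291de2c1408f1609c578b04e23c582611e2c1306f16094778b0482bc582315e2c110ef16088678b04423c58220de2c1104f1607c878b03e0bc581e21e2c0f04f16074878b03a23c581c09e2c0d8ef1606c678b03443c581921e2c0b90f1605c478b02c43c581611e2c0a8cf16050478b02433c581115e2c080af1603c778b01e1bc580f09e2c050ef16028578b0103bc580711e2c028cf16014478b00833c580311e2c0108f16004478b00013c57ff11e2bff84f15ffc178affa43c57fd11e2bfe84f15ff0878aff823c57fc0de2bfd90f15fe8878aff40bc57f91de2bfc8cf15fe4178aff043c57f721e2bfb88f15fd4178afe823c57f31de2bf902f15fbc678afd03bc57e819e2bf388f15f94878afca23c57e31de2bf08ef15f78578afb423c57d711e2be688f15f30778af981bc57cc09e2be590f15f28678af941bc57ca09e2be48af15f1c678af862bc57c115e2be088f15f00578af8023c57bf1de2bdf8cf15efc378af7a23c57b921e2bdc88f15ee0878af7023c57b71de2bdb8cf15ed8878af6c23c57b521e2bd982f15ec8578af6043c57b01de2bd80cf15ec0378af6013c57af11e2bd58ef15eac678af5033c57a71de2bd38cf15e90478af443bc57a219e2bd00af15e7c578af3e23c579e15e2bcf08f15e78178af3a2bc579c1de2bcc90f15e64778af3233c57990de2bcc84f15e5c778af2c33c579419e2bca06f15e48578af240bc57911de2bc88af15e40678af1c23c578c11e2bc50ef15e28678af123bc578815e2bc30af15e18478af0a2bc578511e2bc210f15e10678af0813c578315e2bc088f15e00678aefa23c577c11e2bbd8cf15de0878aeee43c577705e2bbb0af15dd0178aee22bc57700de2bb608f15dac478aed223c576711e2bb30ef15d98678aeca3bc576519e2bb210f15d8c878aeae2bc575411e2ba98af15d48778aea433c57520de2ba904f15d44578aea023c574f15e2ba788f15d38578ae9c0bc574d15e2ba688f15d20678ae8e3bc574419e2ba206f15d10178ae8423c574021e2ba008f15cfc778ae7e13c573f05e2b9f10f15cc0578ae5e2bc572f11e2b970ef15cac478ae5423c572a0de2b9504f15ca4778ae5233c572611e2b9106f15c88178ae4243c571d19e2b8e86f15c742))) (BT.leaf (Bx.mk (nat_lit 0x78b2b633c595b0de2cad84f16568878b2b43bc595a11e2cad04f16564278b2b043c59580de2cab8af16558578b2a82bc595411e2ca988f16548878b2a433c59511de2ca88cf16540678b29e3bc594f19e2ca782f16538878b29c23c594c15e2ca608f1652c678b2960bc594a1de2ca50cf16528178b29243c594705e2ca310f16510878b28243c594109e2ca00cf16500378b28013c594005e2c9f86f164fc278b27c0bc593615e2c9b08f164cc578b25c23c592c1de2c9606f164a4878b25223c592909e2c938cf16498578b24a2bc59250de2c920af1648c878b24613c592219e2c9102f16484578b2402bc591f15e2c8f86f1647c178b23c2bc591e0de2c8f04f16478178b23623c591a0de2c8c8af16460578b22e43c591719e2c8b86f1645c278b22c3bc591619e2c8b0af16454778b22823c591309e2c8908f16444478b22033c590f11e2c868af16434478b21833c590a11e2c8490f16424678b20e43c590711e2c8382f16418478b20a33c590505e2c820ef16410478b20633c590019e2c7f8ef163fc378b1fe13c58fe1de2c7f0cf163f8578b1fa33c58fc1de2c7e0cf163e8478b1f23bc58f919e2c7c88f163d4478b1ea1bc58f41de2c780af163b8678b1d82bc58ec11e2c7588f163a8478b1d243c58e911e2c740af163a0378b1ce43c58e609e2c7208f1638c678b1c40bc58e115e2c7010f16380478b1bc33c58de15e2c6e88f16374378b1b83bc58dc15e2c6d0af16360478b1ae2bc58d711e2c6b06f16354678b19a33c58ca1de2c650cf16328578b18e3bc58c719e2c6382f16318478b18a3bc58c519e2c6188f16308778b18433c58bb11e2c5d84f162e8578b17033c58b31de2c578cf162a4778b15233c58a819e2c538ef1629c578b14c23c58a519e2c510ef16284678b13a2bc589c15e2c4d8ef16260478b12a23c58930de2c488af16240778b1202bc588e15e2c4708f16234578b11a23c588c1de2c460cf16230378b11813c588b21e2c450ef16228678b1103bc588721e2c4310f16218278b10c0bc588521e2c4288f16210578b10823c588311e2c410ef161ec878b0f623c58791de2c3c8cf161e4178b0f023c587511e2c3a0af161c4578b0de3bc586f19e2c3786f161bc278b0dc3bc586d1de2c368cf161a8578b0ce23c586615e2c328ef16194678b0ca1bc586219e2c310af16184578b0c21bc586109e2c300af16180478b0c01bc586009e2c2e8cf16174378b0b843c585c1de2c2e04f16160178b0ae2bc58561de2c2a8ef16154678b0a01bc584b15e2c248af161205)))) (BT.node (nat_lit 359) (BT.leaf (Bx.mk (nat_lit 0x78b4b43bc5a5811e2d2a0af1694c578b4a623c5a4f19e2d278af16934578b4983bc5a4b1de2d2588f1692c278b4942bc5a4915e2d2488f1691c778b48e33c5a4611e2d2210f16910778b4860bc5a4211e2d2090f16904178b48043c5a4005e2d1f88f168f8578b47c23c5a3d15e2d1e88f168e8778b4741bc5a3811e2d1b90f168dc778b46e23c5a3709e2d1b0cf168d8578b46a43c5a3315e2d190af168c8478b46223c5a3105e2d1804f168bc578b45e0bc5a2e21e2d170ef168b8678b45c2bc5a2e05e2d1688f168b0778b45833c5a2c05e2d1590f168ac478b4523bc5a2919e2d140cf1689c678b44e0bc5a2619e2d128ef16894678b44633c5a2205e2d1090f16874178b43813c5a1b15e2d0d06f16868278b4340bc5a1911e2d0c86f16860178b42e0bc5a1315e2d080ef16840678b4202bc5a0e19e2d0004f167f8878b3fc3bc59fe11e2cff06f167f8278b3fa3bc59fd15e2cfe0af167ec578b3f40bc59f815e2cfb04f167d4578b3ea23c59f509e2cfa06f167cc578b3e623c59f309e2cf982f167c8278b3dc13c59ec1de2cf58af167a4278b3ce23c59e51de2cf28cf16794378b3ca13c59e315e2cf004f1677c278b3b63bc59da21e2ced06f16764778b3b233c59d721e2ceb88f16754778b3aa0bc59d41de2cea08f1674c678b3a623c59d221e2ce906f16744678b3a043c59d009e2ce790f1673c378b39e13c59cf05e2ce708f16738278b3983bc59cc19e2ce58cf1672c178b39423c59c821e2ce408f1671c578b38a2bc59c511e2ce20af16710478b3863bc59c319e2ce184f16708778b3823bc59c021e2ce00cf16700378b37e3bc59be15e2cdf08f166f0778b37833c59bb1de2cdd8cf166ec578b36a23c59b415e2cd98ef166cc678b3660bc59b211e2cd890f166c4478b36043c59ae15e2cd686f166b0178b34e33c59a41de2cd188f16688678b3422bc59a00de2cd004f16678578b33a2bc599915e2ccc02f1665c878b32e3bc599621e2ccb0cf16648578b32423c599115e2cc888f1663c578b31c3bc598d1de2cc68cf16634578b3182bc598b1de2cc58cf16628478b31223c598705e2cbf8ef165fc678b2f823c597c0de2cbd0ef165e8678b2f413c59751de2cba8cf165d4578b2e823c597311e2cb884f165b8878b2dc23c596b11e2cb50af165a8478b2d243c596915e2cb482f165a0878b2ce43c596705e2cb310f16598378b2ca43c596519e2cb282f16590878b2c833c596415e2cb188f16584478b2c023c595f11e2caf08f16574678b2ba23c595d09e2cae08f1656c7))) (BT.leaf (Bx.mk (nat_lit 0x78b6be2bc5b5b19e2dad08f16d64478b6b02bc5b5715e2dab88f16d58478b6a62bc5b4f19e2da782f16d30578b69823c5b4811e2da38ef16d1c678b68e0bc5b4515e2d9f8af16ce4578b67213c5b3821e2d9c0cf16ce0378b66e43c5b3715e2d9b82f16cd8878b66c3bc5b3619e2d9b08f16cd8378b66c13c5b3605e2d9a90f16cd4678b66a2bc5b3505e2d9a10f16cc8178b66033c5b3015e2d9802f16cb8478b65a43c5b2d0de2d958ef16ca4878b6523bc5b2919e2d948af16ca0178b64e0bc5b2315e2d9188f16c88678b6441bc5b2209e2d908cf16c80578b63e2bc5b1c11e2d8d10f16c68478b62a1bc5b1509e2d8a0af16c50378b62643c5b1315e2d8984f16c48578b62423c5b101de2d8806f16c40278b61e2bc5b0d15e2d8506f16c28278b6140bc5b0815e2d8402f16c1c778b60e33c5b061de2d830af16c14878b60a3bc5b0509e2d820ef16c10678b60643c5b0311e2d8186f16c08778b60433c5b0215e2d800ef16bfc878b5fe2bc5afe1de2d7f0cf16bf8178b5fa43c5afd1de2d7e88f16bf0878b5f833c5afc11e2d7d8ef16bec678b5f42bc5afa11e2d7c8af16be4478b5f043c5af81de2d7c0cf16be0478b5ee33c5af615e2d7b08f16bd4578b5e823c5af40de2d7a04f16bbc578b5da23c5aec21e2d7608f16ba8878b5d423c5ae919e2d748af16ba0778b5ce3bc5ae61de2d730cf16b94578b5c83bc5ae321e2d7188f16b88478b5c03bc5ada21e2d6d08f16b68178b5b243c5ad81de2d6c0cf16b60578b5ae2bc5ad711e2d6a8af16b54478b5a82bc5ad411e2d6a02f16b48778b5a433c5acf1de2d6784f16b38778b59c33c5acd21e2d6682f16b30878b5983bc5acc19e2d6590f16b28878b5922bc5ac911e2d6404f16b1c778b58e33c5ac70de2d6384f16b14678b5862bc5ac11de2d5f8af16af0878b57823c5ab911e2d5c0cf16ad8778b56c1bc5ab521e2d5a8af16ad4478b56a1bc5ab505e2d5a0ef16acc778b56633c5ab21de2d590af16ac8178b56023c5aaf21e2d5788f16ab8478b55a3bc5aad15e2d560ef16aac578b54e23c5aa615e2d5202f16a88678b5403bc5a9e1de2d4e0ef16a5c778b52a23c5a941de2d4a0cf16a50578b5243bc5a9219e2d478cf16a3c178b5183bc5a8c19e2d4602f16a2c478b51613c5a8315e2d410ef16a00678b5002bc5a8011e2d3f90f169fc478b4fc23c5a7d0de2d3e84f169f4178b4f823c5a7c09e2d3d84f169e8278b4f20bc5a7711e2d3b0cf169c8578b4dc23c5a6911e2d3408f16994478b4c833c5a621de2d3088f169744)))))) (BT.node (nat_lit 364) (BT.node (nat_lit 362) (BT.node (nat_lit 361) (BT.leaf (Bx.mk (nat_lit 0x78b8d61bc5c6b05e2e3510f171a8778b8d02bc5c671de2e3384f1718c378b8c613c5c6305e2e3108f17180778b8c033c5c600de2e3004f17178778b8bc33c5c5c19e2e2c88f1715c778b8ae2bc5c5705e2e2b0cf17158378b8a82bc5c5321e2e298ef1714c678b8a62bc5c5305e2e290af17148478b8a40bc5c5105e2e280ef1713c578b89a2bc5c4c1de2e258cf1712c578b8922bc5c4611e2e220ef17110678b88243c5c3511e2e1910f170c4478b85843c5c2a15e2e1308f17080778b84033c5c1f11e2e0f84f17070778b83833c5c1911e2e0a88f1704c478b8203bc5c1019e2e0688f17034278b81013c5c0515e2e0208f1700c278b80423c5c0021e2e0008f16ffc678b7fe23c5bfe1de2dff0cf16ff0878b7f643c5bf911e2dfb10f16fd8478b7ea3bc5bf515e2df88af16fc0578b7de2bc5bed1de2df68cf16fb4178b7d83bc5bec19e2df606f16fb0278b7ce2bc5be711e2df288f16f90578b7c823c5be305e2df10ef16f88678b7c223c5bdf05e2def0af16f78478b7ba2bc5bdd0de2dee84f16f74178b7b843c5bdc1de2dee04f16f6c178b7b443c5bda15e2ded02f16f64778b7b233c5bd915e2dec0af16f5c578b7a843c5bd411e2de98ef16f4c678b7a62bc5bd01de2de80cf16f3c478b79a43c5bcd11e2de610f16f30478b79643c5bc915e2de38af16f1c478b78c2bc5bc515e2de288f16f0c778b78633c5bc305e2de110f16f08778b78433c5bc211e2de106f16f08278b77a2bc5bbd11e2ddd8af16ee8578b76c0bc5bb511e2dda82f16ed0778b76833c5baf1de2dd78af16eb8578b75a2bc5bad05e2dd608f16eac878b7562bc5bab05e2dd510f16ea8278b7540bc5ba921e2dd488f16ea0878b74e43c5ba71de2dd388f16e98578b74c23c5ba515e2dd108f16e84478b74023c5b9f21e2dcf8ef16e78778b73c33c5b9e15e2dce88f16e6c578b7343bc5b9a19e2dcd06f16e68278b7322bc5b9815e2dcc08f16e58578b72833c5b921de2dc90cf16e48178b72223c5b8f15e2dc788f16e38778b71c33c5b8e09e2dc688f16e18878b70c0bc5b8521e2dc282f16e10878b7083bc5b8419e2dc206f16e10278b7062bc5b8221e2dc08ef16e04178b7002bc5b7d21e2dbe88f16df0478b6f80bc5b7a21e2dbd0ef16de8678b6f423c5b7a0de2dbd04f16de4778b6f233c5b7915e2dbb8cf16ddc578b6ec2bc5b750de2db990f16dcc578b6e623c5b7305e2db910f16dc4878b6e043c5b6f15e2db70af16db4778b6da33c5b6c1de2db50ef16d9c478b6c623c5b6211e2db08af16d805))) (BT.leaf (Bx.mk (nat_lit 0x78bb362bc5d9a1de2ecd02f17664478bb3043c5d981de2ecc0cf17660378bb3013c5d9721e2ecb8cf1765c578bb2e13c5d9705e2ec98af1764c478bb223bc5d9105e2ec788f17638578bb183bc5d8c19e2ec60af17628578bb1223c5d8719e2ec28af17614478bafe3bc5d7f19e2ebf86f175fc278baf423c5d791de2ebc8cf175e4578baf20bc5d7315e2eb908f175c0478bade3bc5d6f15e2eb490f175a0778bace23c5d621de2eb10cf17588378bac413c5d6115e2eb00af1757c578baba2bc5d5c15e2eae08f1756c778bab633c5d5a11e2eac8af1755c678baac23c5d5311e2ea88af17540878baa023c5d4c1de2ea60cf17530378ba9813c5d491de2ea48cf17518678ba862bc5d4115e2ea088f17500478ba7e23c5d3e15e2e9e0ef174f0278ba762bc5d3921e2e9c8af174e0178ba6e3bc5d3719e2e9b8af174d8878ba6c1bc5d351de2e978ef174bc378ba5c43c5d2e1de2e9704f174b4778ba5823c5d2b05e2e948af174a0578ba421bc5d2109e2e8f0af17478478ba3a33c5d1c21e2e8e08f1746c778ba360bc5d1a11e2e8c0ef17460678ba2e2bc5d1605e2e8990f1744c778ba2633c5d1315e2e8986f1744c278ba260bc5d120de2e8904f17448178ba202bc5d0f1de2e870ef17438578ba1a43c5d0d1de2e8610f17430478ba181bc5d0b1de2e850ef17428278ba1243c5d0911e2e840ef17420678ba101bc5d0805e2e838ef1741c478ba0a2bc5d0415e2e818cf1740c378ba0613c5cfe19e2e7f0af173f0678b9f633c5cfb11e2e7d86f173ec278b9f233c5cf815e2e7b86f173d4878b9ea0bc5cf119e2e7808f173b0878b9d823c5ceb21e2e7588f173ac178b9d413c5ce811e2e6f8af17374878b9b83bc5cdc15e2e6d0ef17360478b9a823c5cd315e2e6988f17348578b9a423c5cd121e2e6888f17330478b99223c5cc409e2e618ef17308578b98223c5cc10de2e5c08f172dc878b96e23c5cb615e2e5b08f172d4578b9682bc5cb409e2e590af172c8478b95c33c5cac15e2e5408f17294578b9482bc5ca321e2e5188f1727c678b93e1bc5c9f09e2e4f82f17278778b93a23c5c9c15e2e4d8af17268878b93423c5c991de2e4c0af1725c478b92e0bc5c9515e2e4a08f1724c778b92633c5c930de2e4984f17244878b91e3bc5c8f09e2e460af17230478b9142bc5c861de2e4306f17214578b9082bc5c831de2e4186f17200678b90013c5c791de2e3c84f171e0778b8ee23c5c7611e2e3a0af171c8478b8e413c5c7109e2e378cf171b4678b8da13c5c6c21e2e3604f171b01)))) (BT.node (nat_lit 363) (BT.leaf (Bx.mk (nat_lit 0x78bd903bc5ec819e2f6388f17b14778bd8823c5ec311e2f5e08f17aec578bd5c3bc5eae19e2f5688f17aac478bd541bc5eaa05e2f548ef17aa0578bd4e3bc5ea719e2f538af17a9c178bd4c2bc5ea611e2f5202f17a8c678bd442bc5ea119e2f4f0ef17a78678bd343bc5e9a19e2f4d0af17a64478bd2423c5e9011e2f470ef17a20478bd0e23c5e820de2f3f10f179f8678bcf623c5e7b0de2f3b0af179d0878bce63bc5e7319e2f398af179c4578bce023c5e6f1de2f3708f1799c478bccc43c5e6611e2f328ef17994678bcca0bc5e6411e2f3188f17988578bcc423c5e6115e2f300ef17980678bcc023c5e600de2f3004f17974478bcb63bc5e5b19e2f2d08f1795c478bcaa23c5e5505e2f2a08f1794c778bca633c5e5219e2f288af17944478bca02bc5e4f15e2f250af17920178bc8a2bc5e4221e2f2010f178fc478bc7c3bc5e3e19e2f1f0af178f8278bc7c0bc5e3c11e2f1e02f178ec678bc7433c5e3a05e2f1c82f178d8378bc6a33c5e3411e2f190af178b4678bc5a1bc5e2c19e2f150cf178a0578bc4a0bc5e2215e2f108af17880778bc401bc5e1f21e2f0f10f17874578bc3a23c5e1c15e2f0d8ef1786c678bc343bc5e1a19e2f0b8cf1785c378bc2c3bc5e1619e2f0a0af1784c478bc261bc5e1109e2f0882f17840878bc1c13c5e0615e2f0308f17814778bc0a33c5e050de2f0284f17804678bc0213c5e0021e2f000af177fc378bbfc43c5dfe1de2eff0cf177ec778bbf633c5df91de2efb8af177d8378bbec13c5df415e2ef988f177bc778bbde23c5ded1de2ef68cf177a8478bbd40bc5de71de2ef38cf1779c378bbce13c5de515e2ef206f1778c678bbc443c5de215e2ef102f17784878bbc22bc5de111e2ef086f17780578bbbe43c5ddf15e2eef82f17778578bbbc13c5ddd0de2eee10f17770678bbb80bc5ddb11e2eec8af17760578bbb023c5dd715e2ee988f17740778bba033c5dcf11e2ee70ef17738378bb9c13c5dcc19e2ee50af17720778bb9033c5dc605e2ee202f1770c878bb8623c5dc21de2ee10cf17708578bb7c2bc5dbb11e2edd0af176e8478bb6e3bc5db719e2edb82f176d8778bb6c33c5db611e2edb06f176d8278bb683bc5db419e2eda02f176c8178bb603bc5db005e2ed78af176b8578bb5c0bc5dad21e2ed68cf176b4578bb5a0bc5dac1de2ed60af176b0278bb563bc5dab09e2ed582f176a8878bb541bc5daa05e2ed488f17694678bb4823c5da011e2ecf8ef1767c678bb3e1bc5d9e15e2ecf06f17674578bb383bc5d9c19e2ece06f176702))) (BT.leaf (Bx.mk (nat_lit 0x78c0260bc601021e300808f18040178c01e23c600c11e300188f18004878c00223c60001de30000cf18000278c0000bc5fff21e2fff88f17ff8578bff83bc5ffc19e2ffe06f17ff0278bfee23c5ff615e2ffb08f17fd4778bfea33c5ff211e2ff80ef17fbc878bfdc3bc5fed21e2ff688f17fb0778bfd643c5fe709e2fed88f17f3c578bf982bc5fca05e2fe30af17f14578bf8a23c5fc315e2fdf8af17ef4378bf7a13c5fbc09e2fdd8af17ee8678bf742bc5fb715e2fdb82f17ed8578bf6843c5fb409e2fda02f17ecc578bf6623c5fb215e2fd908f17ec0478bf5e2bc5fae1de2fd68af17eb0478bf5623c5fa91de2fd48cf17ea0478bf4e1bc5fa315e2fd188f17e80678bf3e2bc5f9b11e2fcc8ef17e64678bf322bc5f9611e2fc808f17e3c578bf1e23c5f8e0de2fc68cf17e2c478bf1023c5f861de2fc282f17e0c478bf023bc5f8119e2fc088f17e04378bf0213c5f7f05e2fbe90f17df4478bef843c5f7c15e2fbe08f17df0178bef413c5f7811e2fbc02f17ddc778beec3bc5f7619e2fba8af17dd4478bee82bc5f7311e2fb90af17db0778bed833c5f6b11e2fb490f17da4778bed03bc5f6819e2fb38cf17d98678bec82bc5f6315e2fb10ef17d88678bec413c5f6015e2fb008f17d7c578bebc33c5f5e0de2faf04f17d74878beba3bc5f5d19e2fae8af17d6c178beb443c5f5911e2fac10f17d60478beac23c5f5511e2faa0af17d50478bea81bc5f5321e2fa988f17d48778bea41bc5f5205e2fa80ef17d40678bea01bc5f5009e2fa790f17d3c778be9823c5f4a15e2fa508f17d28178be922bc5f4911e2fa40af17d20478be8e2bc5f4619e2fa308f17d0c778be8633c5f4215e2fa08ef17d04678be8223c5f410de2fa084f17d00578be7a23c5f3a11e2f9c0ef17ce0278be6e23c5f3411e2f990af17cc0778be602bc5f2f1de2f968af17cb4478be4e2bc5f2615e2f928af17c94478be482bc5f2215e2f908ef17c84678be3e23c5f1d1de2f8e8cf17c6c478be361bc5f1b09e2f8c8af17c64478be303bc5f1819e2f8c06f17c60278be2c3bc5f1619e2f8a8ef17c50678be262bc5f110de2f8884f17c30478be1223c5f0715e2f8388f17c14778be062bc5f0311e2f8102f17c04778be0233c5f0011e2f7f0cf17bf8278bdf833c5efb11e2f7d82f17be0478bdf013c5ef711e2f7b10f17bd8478bdec1bc5ef515e2f7a0af17bc8578bde423c5ef205e2f7882f17bb8878bdda33c5eed15e2f760af17bac578bdc823c5ee219e2f6c88f17b60778bdb033c5ed80de2f6c04f17b284))))) (BT.node (nat_lit 366) (BT.node (nat_lit 365) (BT.leaf (Bx.mk (nat_lit 0x78c23623c611a11e308c8af18460678c22c3bc611619e308a90f18454478c22a0bc61141de30898af18448178c22223c610f19e30870af18434478c21623c610715e308388f18418478c20c0bc610515e308188f18408778c1fe3bc60ff19e307f10f183f8378c1fa43c60fd0de307e82f183f0878c1f813c60fb1de307d8cf183d0778c1e833c60f405e307988f183c8478c1de2bc60ef11e307608f183ac578c1d433c60ea15e307388f18398578c1cc23c60e51de30728cf18390478c1c623c60da15e306d08f18350578c1a823c60d315e30680af1833c478c19e1bc60cf09e30670af18334578c1962bc60ca15e306508f18324578c1903bc60c80de306288f18308578c18423c60c01de305f8af182f0778c17833c60b911e305c0af182e0478c16e3bc60b719e305b86f182d4578c1682bc60b309e30590af182c4578c1603bc60b019e30578ef182bc678c15e2bc60ae21e305708f182b8278c15a23c60ad0de305684f182b0578c15823c60ac0de30558af182ac278c15043c60a811e305390f1829c478c14a23c60a415e30518cf18284878c1402bc609f1de304f8cf18278878c13c3bc609e19e304e8ef18274578c1362bc609b11e304c0cf18250878c12623c609211e304888f18240778c12023c608f11e30460af18230278c1162bc608a1de30450cf18228578c11223c608811e304382f18214878c10a23c607915e303c88f181e0578c0ec23c60751de303a8cf181d4578c0e82bc607411e30398af181cc478c0e423c607111e30368cf181b0478c0c23bc606021e303008f1817c578c0be23c605c11e302d8cf1815c478c0ae13c605605e302a90f18154778c0aa33c605515e302a86f1814c778c0a633c60511de302808f1813c478c09e0bc604d19e302686f18130378c0960bc604a1de302408f18120178c08c33c60451de30228cf18110878c0883bc604409e30218ef1810c678c0860bc604221e30210cf18108378c0823bc604119e302082f18100578c08013c603f11e301f84f180fc178c07623c603811e301b8af180dc478c06c3bc603619e301b02f180d4778c06a23c603411e30198ef180cc678c06443c603215e301890f180c4578c0603bc603019e301808f180c0378c06013c602d11e30160cf180ac878c0560bc602a21e30150ef180a0678c04e23c602605e301208f1808c478c04423c60220de30108af18084478c03e2bc601f11e300f0af18078478c03c1bc601e05e300e8af18070578c03823c601a15e300d08f1805c778c02e33c601705e300a08f180502))) (BT.leaf (Bx.mk (nat_lit 0x78c44813c622311e31110af18888478c43c2bc621d1de310d88f18860478c42a2bc62100de310790f1883c778c41e1bc620f09e310706f18834178c4162bc620b11e31050ef18828478c41023c62071de31038af1881c378c40c3bc620615e310288f18810778c4082bc620311e31010af18800478c3fc23c61fb1de30fd8cf187e8178c3f023c61f721e30fa8cf187d0478c3e81bc61f409e30fa02f187cc778c3e623c61ec15e30f30af18798278c3ca2bc61e509e30f282f18790878c3c823c61e409e30f190f1878c378c3c43bc61e219e30f10af18788278c3c223c61e015e30ef8af18778678c3bc23c61dd1de30ee88f18758478c3ac1bc61d609e30ea8ef18754678c3a83bc61d31de30e98cf18748178c3a243c61d115e30e886f1873c778c39e33c61ce09e30e68ef18734378c3983bc61cc19e30e590f18728778c3922bc61c811e30e30ef18714578c38a23c61c509e30e20ef18710478c38623c61be1de30de0ef186e4578c37223c61b619e30d988f186bc578c35e0bc61ae1de30d70af186b0878c3581bc61ab15e30d588f186a8478c3523bc61a919e30d408f1869c478c34c23c61a515e30d18af18670678c33643c619a21e30cd04f18668178c33243c619911e30cc0af18660478c33013c619805e30c890f18644478c3203bc618f21e30c788f18638478c31a2bc618b1de30c58cf1861c778c30c2bc618611e30c10ef18608678c30233c618015e30bf88f185d8478c2e833c617315e30b908f185c4678c2e213c617011e30b688f185a8578c2d223c616819e30b406f18590578c2c613c615e15e30ad08f18564478c2b033c61571de30ab8cf18558478c2aa43c61550de30aa0ef1854c878c2a62bc61530de30a910f18544778c2a233c615109e30a882f18540878c2a03bc615011e30a688f18530578c29623c614b0de30a48ef18524478c2921bc614909e30a28ef18514678c28a2bc614421e30a20cf18510278c2880bc61421de30a10cf18504578c28223c614015e30a004f184fc778c27e33c613f11e309f86f184f8778c27a3bc613d19e309e8af184f4278c27643c613b11e309d02f184e4478c2703bc613819e309b8ef184dc678c26c3bc613619e309b06f184d8278c2683bc613415e309990f184c8678c2642bc613019e309790f184b8878c25c23c612d21e309688f184b0878c25823c612b1de30958cf184ac578c2561bc612b09e30948af184a0878c24e23c612615e30920af18490478c24623c612211e309082f18480778c23c2bc611d15e308e0af184704)))) (BT.node (nat_lit 367) (BT.leaf (Bx.mk (nat_lit 0x78c67c3bc633d1de319e8cf18cf0178c67623c633a15e319d08f18ce0778c66e43c633719e319b86f18cdc278c66c3bc633521e319a88f18cd0278c66643c633215e319908f18cc8278c6623bc633119e319886f18cc0878c66033c633011e319388f18c94478c64633c632011e318f08f18c6c778c63443c631a05e318c88f18c60878c62e3bc631711e318b0ef18c58578c62c13c63151de318a8cf18c50778c62833c63140de318a04f18c48778c62433c631215e31888af18c44478c62023c630f1de31878cf18c34778c61423c630a09e318488f18c20478c61013c630721e318388f18c00478c5fe23c62f91de317a08f18bd0378c5e813c62f20de317904f18bc8178c5d633c62eb05e317508f18b9c778c5cc1bc62e521e317286f18b94178c5c843c62e409e317202f18b8c678c5c61bc62e211e31700af18b78578c5bc23c62dc0de316d8ef18b6c678c5a623c62d309e31690af18b48478c5a01bc62d009e316610f18b30478c5902bc62c71de31638cf18b1c378c58e13c62c615e316308f18b0c478c57c33c62bd09e315e0ef18af0578c5780bc62bb21e315d0af18ae4878c57043c62b815e315b90f18adc478c56c43c62b611e315a0af18acc878c56623c62b209e31588af18ac4478c5621bc62b011e315790f18abc478c55e13c62ae1de31570cf18ab8578c55623c62aa15e315388f18a94478c54833c62a31de31510ef18a88378c53c2bc629d11e314c84f18a60878c53033c629611e314a8ef18a50578c52823c629315e314988f18a4c178c5243bc629219e31490af18a44878c52233c629111e314886f18a44278c5220bc629021e31478ef18a34578c51a23c628c19e314588f18a28578c51423c628215e313c0af189d4478c4e43bc627219e313906f189c4578c4e20bc627019e31380af189c0278c4de3bc626f11e313710f189b4578c4da23c626c15e313608f189ac778c4d633c626a19e31350af189a0478c4ca23c626509e31308af1897c678c4b813c625b1de312d8cf18968878c4b023c625705e312a0ef18950678c4a80bc625311e312910f18948478c4a223c625015e312802f1893c778c49e33c624f15e31258ef18924478c48a43c624509e312210f1890c678c4862bc624221e312106f18908178c48243c624109e311f08f188f4778c47a33c623d11e311e86f188f0578c4762bc623b11e311c0af188dc578c46833c623211e31178ef188bc678c45843c622c11e31158cf188a8578c4522bc622819e311408f188a0278c44e3bc622719e31130af188945))) (BT.leaf (Bx.mk (nat_lit 0x78c8602bc642f15e321706f190b8278c85a2bc642d11e321608f190ac878c8543bc642a19e321288f19090778c84833c642321e321188f19088478c83e43c641f11e320f0ef19078678c83c2bc641d21e320e88f1906c878c83443c641a15e320d08f19060878c83033c641721e320a8ef19054678c82a1bc641509e32098ef1904c678c82623c64130de320984f19048778c82433c64111de32088af1903c778c81e23c640f0de320688f19030478c8181bc640b15e320588f1902c378c8160bc640a21e320508f19028278c81243c640911e320486f19020878c80e43c640621e320308f19018178c80a43c640511e320282f19010578c8062bc640215e320108f19008278c80243c640111e320010f19000478c7fc43c63fe11e31fe90f18ff4478c7f83bc63fc19e31fe02f18fec878c7f63bc63fb19e31fd88f18fe8878c7f433c63fa11e31fc8ef18fe4478c7f213c63f819e31fc08f18fe0378c7e82bc63f411e31f98af18fc8478c7e41bc63f209e31f80ef18fc0578c7de2bc63ee15e31f68af18fac478c7d03bc63e711e31f308f18f8c478c7c423c63e11de31f08cf18f80478c7be23c63de15e31ee88f18f70878c7b823c63db11e31ec0ef18f60678c7b013c63d805e31eb90f18f58578c7a623c63c911e31e408f18f1c778c78e1bc63c709e31e28af18f14478c7882bc63c411e31e18ef18f0c678c7861bc63c011e31df88f18eec878c77623c63ba21e31dd08f18ee0878c76c2bc63b515e31da0cf18ed0378c76813c63ae1de31d70cf18eac478c75613c63aa19e31d40cf18e9c578c74c3bc63a619e31d188f18e80778c7401bc63a009e31d002f18e78478c73843c639c11e31ca8af18e54478c72423c63901de31c80cf18e40378c72013c638f19e31c608f18e28478c7141bc638a09e31c488f18e14478c70823c638221e31c00af18dec578c6f42bc63791de31bc86f18de4278c6ec2bc637611e31ba8af18dd4478c6e62bc637311e31b90af18dc8478c6e223c637015e31b70af18db8478c6da2bc636c15e31b58af18da4478c6ce43c636711e31b310f18d94878c6c623c636115e31b088f18d84378c6c03bc635f11e31ac88f18d64278c6b20bc635809e31ac02f18d5c778c6ae13c635321e31a982f18d48678c69c0bc634b19e31a586f18d2c178c69443c634a1de31a50cf18d28578c6941bc634a09e31a388f18d18478c68c13c634511e31a20ef18d10278c68623c634219e31a10af18d08378c68413c634111e31a082f18d00878c68033c633f1de319f8cf18cfc5))))))) (BT.node (nat_lit 376) (BT.node (nat_lit 372) (BT.node (nat_lit 370) (BT.node (nat_lit 369) (BT.leaf (Bx.mk (nat_lit 0x78ca6423c65301de329808f194bc678ca5e23c652e15e329708f194b8378ca5c13c652d11e329684f194b0778ca5823c652c0de329602f194a4578ca502bc652811e32938af19498578ca4c23c65251de32928cf19490778ca482bc651f11e328e88f19470478ca3623c651a21e328d0ef19468278ca3233c651811e328c06f19460178ca2e3bc651621e328b06f19450578ca2823c651315e32888af19444478ca202bc650f1de32878cf1943c378ca1e13c650e1de32870cf19434778ca1a33c650911e328482f19420478ca0e3bc650719e32838af19418478ca0a33c65041de32820cf19410578ca062bc650221e328108f19408178ca0243c650019e327f88f193f8878c9fc23c64fe0de327e8af193ec578c9f623c64fa11e327d02f193e4778c9f233c64f811e327b08f193d4778c9ea33c64f50de327a0ef193c8478c9e23bc64f119e327888f193bc578c9de23c64ee11e32760cf193b0278c9c82bc64e115e326f08f19370878c9b633c64db05e326d0ef19368578c9b043c64d809e326b8ef1935c678c9ae2bc64d611e326b06f19354378c9a82bc64d311e32690ef19340678c99a0bc64cb21e326588f19320778c99033c64c815e326402f1931c478c98a23c64c415e326208f1930c678c98223c64c01de325f08f192ec578c97623c64ba15e325c88f192e4378c96c23c64b515e325a0ef192c4578c95a23c64ab1de32548cf192a4578c95023c64a21de32508af19284478c9402bc64a011e324e8af19264278c92e3bc649715e324b10f19258778c92c13c64940de32490af19244478c91e2bc648f11e324686f19230778c91833c648b15e324584f1922c178c91443c648a1de32450af19228378c9140bc64891de324482f19220778c91033c648805e324388f19218478c90a23c648415e324190f1920c478c9043bc648215e324102f19204578c90223c64801de32400cf191fc578c8fe23c647e11e323e8af191f0478c8f63bc647b19e323d82f191e8778c8f033c64780de323b0af191d4578c8e833c64740de323a04f191cc878c8e623c64730de32370af1919c478c8c82bc646015e323002f1917c278c8bc33c645e15e322e8af19170778c8b81bc645c09e322d8af1916c178c8b40bc645911e322b0af19154578c8a843c64521de322904f19140478c8a00bc644d1de32268cf19134578c89823c644c0de32218ef1910c678c88423c644111e322084f190fc878c87e23c643f09e321f10f190f4778c87a33c643311e32190af190c8478c8623bc643119e321886f190c42))) (BT.leaf (Bx.mk (nat_lit 0x78cc5843c662c15e331510f198a8778cc5433c662921e33148cf198a0578cc4e2bc66261de33130cf19898378cc4c13c662411e331184f19888578cc4423c662115e33100af19874878cc3843c661c05e330d10f19868778cc342bc661a05e330c90f19864178cc303bc661609e330a08f19850178cc2643c661319e33098af19848178cc220bc661005e33050af19824478cc103bc660819e330404f1981c578cc0c33c66060de330304f19814878cc082bc660405e330190f1980c478cc0433c660215e330106f19804878cc020bc660021e33000af19800478cbfe3bc65ff05e32ff10f197f8778cbfa43c65fd1de32fe8cf197f0878cbf62bc65fb05e32fd0af197e4578cbf223c65f721e32fb8ef197dc178cbe63bc65f319e32f986f197cc278cbe42bc65f115e32f808f197b0778cbd833c65ea05e32f38af1979c478cbce0bc65e611e32f302f19794778cbc833c65e40de32f202f19788778cbc423c65e121e32f088f19780478cbbe23c65df05e32ef08f19774678cbb823c65db1de32ed8cf19764778cbb22bc65d411e32e90cf19748578cba23bc65d119e32e882f19740478cb9e43c65cf11e32e782f19738378cb9c13c65ce05e32e608f19728178cb920bc65c71de32e386f19718678cb8c23c65c51de32e28cf1970c478cb8433c65c11de32dc88f196d8878cb6c23c65b51de32da8cf196d4178cb6623c65b21de32d90cf196c8578cb6213c65b01de32d788f196ac778cb560bc65a911e32d384f19694478cb382bc659911e32cc0af19660478cb2623c65911de32c80ef1963c678cb182bc658c11e32c58af1962c478cb160bc658a19e32c210f1960c478cb061bc658215e32c088f195fc578cafe23c657e11e32be8af195f4478caf82bc657b09e32bc86f195e0678caec2bc65741de32ba06f195d0278cae643c65730de32b910f195c8378cae413c657205e32b886f195c0878cae033c65700de32b70af195b4578cada23c656c19e32b606f195ac678cad623c656b05e32b508f195a4878cad223c656815e32b390f1959c478cacc3bc656515e32b288f19590778cac62bc656311e32b108f19580478cabe3bc655f05e32af0cf19578278cab82bc655915e32ac0af1955c378caac2bc655515e32aa84f19550778caa833c65540de32aa04f1953c778ca9e33c654f15e32a608f19518678ca8a2bc654415e32a202f1950c478ca8423c65410de329f8af194ec478ca723bc653919e329c86f194e4278ca701bc653805e329b0cf194d4878ca683bc653419e329988f194c88)))) (BT.node (nat_lit 371) (BT.leaf (Bx.mk (nat_lit 0x78ce9c23c674d1de33a50af19d20778ce900bc674515e33a00af19ccc478ce5a43c672d11e339684f19ca4478ce4223c67210de339084f19c7c478ce3c43c671e11e338f04f19c74778ce3a33c671d15e338e0af19c70478ce3643c671b11e338d86f19c68678ce342bc671915e338c88f19c60578ce3023c671805e338b8af19c5c178ce2a3bc671315e338988f19c4c378ce242bc67120de33878af19c38578ce1c1bc670d15e33860cf19c30278ce1633c670a19e33848af19c20578ce0e3bc670719e338388f19c1c378ce0c2bc670515e338288f19c10778ce0833c670315e33810af19c04378ce0213c66fd1de337c8af19be4478cdf20bc66f815e337b8cf19bdc178cdea43c66f511e337a10f19bd0178cde243c66f019e337790f19bb8278cdd843c66ec19e337608f19bb0278cdd243c66e911e33738cf19b98878cdc42bc66e211e33700ef19b80678cdc013c66df1de336f04f19b70778cdb81bc66dc09e336d0af19b68478cdb02bc66d609e336a8ef19b44678cda02bc66cf15e336706f19b30578cd9823c66cb11e33650ef19b28678cd9413c66c709e33628ef19b14678cd8623c66c211e33600ef19af0578cd7823c66ba11e335a0cf19ad0378cd6813c66b31de33598cf19ac4778cd602bc66b011e335788f19ab8778cd5c33c66ae0de335704f19ab4678cd562bc66aa11e335506f19a90578cd4823c66a31de33518cf19a8c378cd4613c66a121e335088f19a84278cd3e2bc669d1de334e8af19a6c578cd360bc669a11e334c8af19a5c778cd2e33c669715e334b08f19a50478cd260bc669221e334904f19a44878cd200bc668f15e33470ef19a38678cd1c2bc668e0de334702f19a34578cd1833c668815e33430cf19a10478cd041bc668209e33408af19a00578cd0023c667e11e333e8af199f4478ccf633c66791de333c8cf199dc578ccea3bc667411e33398af199c4478ccdc43c666e19e333706f199b4678ccda1bc666c21e33360af199b0178ccd633c666a15e333490f199a4778ccd043c666811e333406f19998478ccc83bc666405e33310af19988178ccc02bc665f15e332f88f19978578ccba3bc665d19e332e86f19970478ccb63bc665b19e332c08f19958178ccaa43c665421e332990f1994c478cca40bc665115e332808f1993c778cc9e2bc664e15e33218af1990c378cc823bc664119e332084f19900578cc7e43c663f11e331e8ef198f4378cc7a13c663c21e331e0af198f0178cc703bc663819e331b88f198d8478cc6a23c663111e331808f198b45))) (BT.leaf (Bx.mk (nat_lit 0x78d0a033c685011e342788f1a138478d0940bc684521e342288f1a110478d08043c684019e342006f1a100278d07c1bc683a15e341d08f1a0e0578d06e43c683711e341b0af1a0d4878d06a23c68350de341a0ef1a0cc278d06443c68311de34180af1a0c0478d05e2bc682e1de34170cf1a0b8378d05c13c682b0de341308f1a090678d0481bc682409e340f08f1a074578d0382bc681c11e340c88f1a060578d03023c681615e340a8ef1a054178d0223bc681115e34078ef1a03c678d01443c680a1de34050cf1a028478d0141bc680a09e340482f1a020578d0101bc680805e340390f1a01c378d00e13c680705e34030cf1a018378d00c0bc680515e34020ef1a010678d00623c680211e340086f1a004278d0020bc680021e34000ef1a000678d0001bc680009e33ff8af19ffc478cffc43c67fe1de33ff0cf19ff8578cffc0bc67fd21e33fe86f19ff4178cff823c67f91de33fb08f19fd4578cfea23c67f219e33f682f19fac178cfd23bc67e711e33f30af19f94778cfca33c67e511e33f284f19f8c578cfbc3bc67de19e33ee08f19f6c478cfb443c67da09e33ed02f19f60678cfb01bc67d809e33ec02f19f54478cfaa0bc67d415e33ea06f19f4c478cfa61bc67d015e33e806f19f3c678cf9e1bc67cf09e33e70af19f34578cf983bc67cc19e33e604f19f2c578cf923bc67c90de33e484f19f1c678cf8e2bc67c705e33e310f19f18478cf8a2bc67c315e33e10cf19f08578cf840bc67c115e33e088f19efc878cf7e23c67bb21e33dd8ef19eec678cf761bc67bb09e33dd82f19ee4778cf6e23c67b411e33d98ef19ecc678cf5c23c67ab15e33d510f19ea8178cf5233c67a915e33d482f19ea0678cf4e3bc67a621e33d308f19e94778cf4a33c67a41de33d20cf19e90578cf4643c67a311e33d184f19e88778cf4433c67a121e33d08ef19e84678cf421bc67a109e33d00ef19e80678cf3e23c679e19e33cf08f19e70578cf3823c679c05e33cb8af19e5c478cf2e13c67951de33ca8cf19e54578cf263bc679319e33c908f19e34478cf1443c678921e33c488f19e24178cf0e23c678211e33c090f19e00878cefc23c677d11e33be0ef19df0678cef43bc677a19e33bd0af19de4478ceea23c67711de33b88cf19dbc478ceda23c676a21e33b508f19da4778ced233c676915e33b388f19d88678cec42bc67601de33b00cf19d7c478ceba23c675a21e33ac8cf19d64378ceb213c675905e33ab02f19d54778ceaa0bc675219e33a904f19d44478cea03bc67500de33a802f19d3c8))))) (BT.node (nat_lit 374) (BT.node (nat_lit 373) (BT.leaf (Bx.mk (nat_lit 0x78d2e423c697121e34b888f1a5c0578d2de2bc696f11e34b70af1a5b8478d2da23c696d0de34b684f1a5b0778d2d833c696a15e34b488f1a5a0778d2d033c696809e34b190f1a58c378d2c613c696221e34b104f1a580878d2c023c695e11e34ae08f1a56c778d2b623c695a19e34ad08f1a560778d2b033c695715e34ab84f1a55c178d2ac2bc695609e34aa8ef1a554678d2aa2bc69541de34aa0cf1a550578d2a62bc695311e34a910f1a548378d2a23bc695015e34a78af1a53c278d29c3bc694e11e34a590f1a52c478d2943bc694a15e34a490f1a524478d2921bc693f21e349f0ef1a4f8678d27a0bc693c15e349e08f1a4f0178d27643c693b15e349d88f1a4e8478d26e23c693705e349a88f1a4d0778d26623c692f21e349788f1a4a4478d24a3bc692509e349208f1a48c578d24623c691f15e348f88f1a474778d2382bc691a15e348c88f1a464178d23023c691715e348b0ef1a458678d22623c691011e348786f1a42c578d21623c690919e34838ef1a41c678d20c1bc690609e348188f1a408578d20243c69001de34800cf1a400578d1fc23c68fd21e347e88f1a3e8478d1f223c68f81de347c08f1a3e0378d1f013c68f715e347b88f1a3d4778d1ea33c68f41de347a0cf1a3d0578d1e43bc68f219e347890f1a3c0778d1e033c68f015e347688f1a3b0178d1d623c68e711e347384f1a390678d1c423c68dd19e346e0af1a36c578d1b623c68d815e346a8cf1a350578d1a823c68d31de346988f1a34c378d1a613c68d215e346908f1a344478d19c2bc68ce11e346308f1a2fc478d17e13c68bf05e345f10f1a2f8478d17c1bc68bd15e345e0af1a2ec578d17623c68ba11e345b8cf1a2d0578d16823c68b31de34598cf1a2cc378d16613c68ad1de345686f1a2b4278d15823c68ab15e345508f1a2a0578d14a43c68a50de345284f1a294178d1462bc68a21de34510cf1a288578d1440bc68a005e344f8ef1a278778d13c2bc689c15e344d82f1a268478d13223c689705e344a8ef1a254678d12a2bc689505e344908f1a240578d1143bc688911e34440ef1a220678d10e43c688711e34430cf1a218578d1063bc688015e344008f1a1f4778d0f423c68761de343b06f1a1d4578d0e02bc687011e343690f1a1b4478d0d423c68691de34348cf1a1a0478d0ce23c686615e34310af1a184878d0c21bc68601de34300cf1a180578d0be1bc685e21e342e90f1a174478d0b813c685b21e342d10f1a168778d0b423c685a0de342c06f1a160178d0ae43c68571de342b10f1a1584))) (BT.leaf (Bx.mk (nat_lit 0x78d50633c6a8221e35410ef1aa08678d50423c6a820de354104f1aa04578d5000bc6a7f15e353f0af1a9f8478d4fa23c6a7c15e353e08f1a9ec578d4ee43c6a7711e353a90f1a9b8678d4dc1bc6a6e09e353688f1a99c578d4cc3bc6a6311e353186f1a984178d4c02bc6a6011e352e90f1a970678d4b643c6a5b11e352d0ef1a964878d4b043c6a5811e352b8af1a958478d4a82bc6a5411e35298af1a94c478d4a23bc6a5119e35278af1a93c478d49a2bc6a4c1de35260cf1a92c578d49623c6a4a21e35250cf1a928478d4941bc6a4a09e35248af1a920578d49023c6a4715e352388f1a918578d48a23c6a4221e352108f1a904478d47e43c6a3d15e351e08f1a8ec278d4742bc6a3915e351c88f1a8e0778d47033c6a380de351c04f1a8dc778d46e33c6a361de351b0cf1a8cc578d46443c6a3111e351710f1a8b8478d45a3bc6a2d19e351686f1a8b4278d4583bc6a2c0de351604f1a8b0178d45623c6a2811e351288f1a880578d44023c6a1f11e350e0af1a870478d4363bc6a1b19e350d84f1a84c778d42633c6a1115e350888f1a838878d41c3bc6a0c11e35050ef1a828678d4142bc6a081de35040cf1a81c478d40c2bc6a0519e35020ef1a7f8578d3fc23c69fd11e34fe08f1a7e4578d3ee43c69f711e34fb0af1a7d0878d3e823c69f321e34f988f1a7c4478d3e03bc69f011e34f78cf1a7b8678d3dc2bc69ed21e34f68ef1a7b4678d3da2bc69eb1de34f588f1a7a0778d3d033c69e711e34f288f1a78c778d3c62bc69e21de34f08af1a778878d3bc23c69dd15e34ee88f1a75c578d3ae23c69d321e34e988f1a744578d3942bc69c911e34e486f1a724278d39043c69c805e34e390f1a718578d38c23c69c515e34e206f1a70c778d3861bc69c221e34e088f1a700178d37c2bc69be0de34df04f1a6f4578d37a1bc69bb21e34dd86f1a6e0678d3680bc69b319e34d80cf1a6bc878d35c3bc69ae19e34d70af1a6b4878d35a1bc69ac21e34d602f1a6ac878d35623c69ab05e34d50af1a6a8478d35223c69a411e34d188f1a688878d34423c69a121e34d08cf1a684478d33c2bc699e11e34ce86f1a674278d3382bc699b15e34cd88f1a668578d33423c699915e34cc88f1a660578d32e2bc699711e34cb0ef1a658678d32a2bc699511e34c988f1a640578d32023c698f21e34c608f1a630378d3142bc69880de34c404f1a61c478d30643c698311e34c110f1a608478d2fe43c697f11e34be90f1a5f0878d2f62bc697a15e34bd02f1a5e4578d2f033c69780de34ba88f1a5cc7)))) (BT.node (nat_lit 375) (BT.leaf (Bx.mk (nat_lit 0x78d6ba0bc6b5c1de35ae0cf1ad70578d6b643c6b5b19e35ad88f1ad6c378d6b43bc6b5a19e35ad0af1ad68378d6b22bc6b5811e35ab90f1ad5c778d6ae33c6b570de35aa8ef1ad54678d6aa13c6b5505e35aa10f1ad50478d6a623c6b5221e35a908f1ad44878d6a223c6b501de35a80cf1ad3c778d69e33c6b4f15e35a782f1ad38778d69c2bc6b4d1de35a68af1ad34178d69833c6b4a15e35a508f1ad24878d69233c6b4911e35a486f1ad24278d6902bc6b4721e35a386f1ad14578d6862bc6b4311e35a182f1ad04778d68033c6b4015e359f8af1acfc378d67c1bc6b3d0de359e84f1acf0578d67823c6b3909e359c0cf1acd8778d66c33c6b3615e35970af1acb8378d65c0bc6b2c15e359602f1acac878d6561bc6b280de359404f1ac98578d64a3bc6b2519e35928af1ac90278d6463bc6b2319e359110f1ac88478d6423bc6b2119e35908af1ac78578d63c23c6b1d11e358e10f1ac70678d63823c6b161de358b0cf1ac54478d6222bc6b0d19e35858af1ac24578d6102bc6b0715e358388f1ac18678d60a2bc6b0311e358184f1ac04478d6002bc6b0011e357f8ef1abfc678d5fe1bc6aff09e357f0af1abf4778d5fa33c6afd15e357e10f1abf0678d5f823c6afc0de357e04f1abec878d5f42bc6af911e357c84f1abe0578d5f023c6af715e357b88f1abdc278d5ec43c6af611e357a0af1abd0478d5e433c6af121e35780ef1abc0578d5d83bc6aec19e357590f1abac478d5d423c6ae91de35748cf1aba0578d5cc23c6ae211e357086f1ab7c478d5ba33c6ada15e356d08f1ab68278d5b023c6ad721e356b88f1ab4c778d5a223c6ad01de35680cf1ab3c478d59c23c6acd1de356688f1ab34378d5982bc6acb15e356586f1ab28578d59423c6aca0de356502f1ab24578d59043c6ac811e356388f1ab18878d58a43c6ac41de356202f1ab0c878d58443c6abc1de355d88f1aae4378d57213c6ab821e355c08f1aae0278d56c43c6ab521e355a0cf1aacc878d56623c6ab221e355908f1aac4578d56223c6aaf15e35570af1aab8478d55c1bc6aad15e355686f1aab0578d5563bc6aaa15e355408f1aaa0278d54c23c6aa515e35518ef1aa8c678d5461bc6aa309e355106f1aa88278d5422bc6aa111e354f8ef1aa7c678d53e1bc6a9f09e354f08f1aa74578d53833c6a9c0de354d8ef1aa6c678d53443c6a991de354c8cf1aa64378d53213c6a9611e354708f1aa30778d51643c6a8b11e35450cf1aa28278d5140bc6a8921e35440af1aa20478d50e2bc6a8711e35428af1aa0c7))) (BT.leaf (Bx.mk (nat_lit 0x78d8dc13c6c6d21e36368ef1b1b4678d8da2bc6c6c15e36358af1b1ac478d8d423c6c691de36348cf1b1a4278d8ca3bc6c6111e362e8cf1b174578d8ba0bc6c5c1de362e0cf1b168478d8b233c6c5915e362b0ef1b158678d8ac2bc6c5605e362a88f1b154278d89a23c6c4c19e362606f1b130278d8980bc6c4b21e362588f1b128478d8900bc6c4705e362302f1b114578d8843bc6c4219e36210af1b104378d88033c6c3d11e361e82f1b0e4478d87023c6c3511e361a10f1b0d0478d8663bc6c3319e36198af1b0c8878d86423c6c320de36188af1b0c0478d85c3bc6c2d1de361588f1b0a8578d8540bc6c2915e361488f1b0a0678d84e23c6c251de361286f1b094278d8463bc6c2315e361108f1b080778d83c2bc6c1e11e360e8af1b074478d8383bc6c1c19e360e06f1b070278d83023c6c180de360b8af1b05c278d82a3bc6c1519e360906f1b048278d82223c6c110de360804f1b03c578d81e13c6c0e15e360704f1b034878d8182bc6c0a15e360508f1b024578d8103bc6c0819e360390f1b01c578d80e23c6c0611e36028ef1b008478d8023bc6c0115e35fe8ef1aff4678d7fa1bc6bfd09e35fe82f1afec778d7f633c6bfb15e35fc8ef1afe4678d7f023c6bf80de35fb88f1afdc378d7ea43c6bf511e35f988f1afc0778d7e033c6bf015e35f788f1afac478d7ca23c6be31de35f18cf1af88478d7be43c6bde15e35ef08f1af78178d7b833c6bdb11e35ed08f1af5c478d7ac23c6bd51de35ea8cf1af50478d7a62bc6bd211e35e80ef1af40678d7a02bc6bcf15e35e788f1af38478d79c0bc6bcd15e35e688f1af30678d79623c6bca15e35e48cf1af1c478d78c3bc6bc609e35e288f1af0c578d78623c6bc211e35e088f1af04278d7803bc6bc009e35df90f1aefc378d77c3bc6bbe19e35de8af1aef4478d7762bc6bbb11e35dd08f1aee4678d76a2bc6bb01de35d80cf1aec0178d75c2bc6bae11e35d688f1aeb0778d75833c6baa21e35d508f1ae9c478d74c0bc6ba215e35d088f1ae7c478d73a13c6b9d05e35ce08f1ae68178d7320bc6b9711e35cb08f1ae50778d72643c6b9115e35c80af1ae1c578d70c23c6b8311e35c088f1adfc678d6fc3bc6b7e11e35bd0af1ade8478d6f22bc6b7911e35bc0ef1addc778d6e81bc6b731de35b98cf1adc0678d6dc2bc6b6d11e35b590f1adac478d6d60bc6b6a15e35b490f1ada4778d6d233c6b6915e35b40ef1ad98778d6c823c6b6211e35b086f1ad84178d6c043c6b6011e35af90f1ad78878d6bc23c6b5e09e35af02f1ad748)))))) (BT.node (nat_lit 380) (BT.node (nat_lit 378) (BT.node (nat_lit 377) (BT.leaf (Bx.mk (nat_lit 0x78daa223c6d5015e36a808f1b53c478da9c2bc6d4e11e36a68af1b530678da981bc6d4c05e36a588f1b524778da902bc6d461de36a30cf1b510478da840bc6d4115e36a00af1b4f4378da7813c6d3b21e369d8cf1b4d8478da6823c6d3305e369882f1b4bc578da5e23c6d2e15e369686f1b4b0178da5233c6d2915e36938ef1b490678da482bc6d231de36918cf1b48c578da442bc6d2115e369082f1b480578da4023c6d1f15e368f08f1b468778da302bc6d1715e368b0af1b450378da2813c6d111de36888cf1b444578da1c43c6d0e11e368690f1b430878da1643c6d0a21e36850af1b428178da1243c6d0919e36848af1b424178da1023c6d0715e368388f1b410878da0833c6d0321e36810af1b408478da0233c6d010de368084f1b400578d9fe2bc6cfe15e367e88f1b3e8178d9f213c6cf811e367c02f1b3d8778d9ec0bc6cf511e367a82f1b3d0478d9e623c6cf305e367890f1b3b4478d9d83bc6cec19e367588f1b394578d9ca23c6ce11de36708af1b380578d9be2bc6cde15e366e08f1b364478d9b02bc6cd80de366b84f1b358778d9aa23c6cd315e366988f1b348578d9a23bc6cd119e366886f1b344278d9a01bc6cd009e366790f1b33c378d99e13c6cce11e36668ef1b334378d99a13c6ccb1de36640af1b320478d98e2bc6cc611e36620af1b30c578d98623c6cc21de366106f1b308278d98243c6cc11de366084f1b300878d9801bc6cbe15e365e8af1b2f4478d9782bc6cba21e365d0cf1b2e8378d97223c6cb815e365c06f1b2dc778d96e1bc6cb709e365b82f1b2d8578d96c23c6cb515e365a88f1b2d0678d9682bc6cb311e36590cf1b2c8178d96243c6cb11de36580ef1b2c0678d95e33c6caf0de36570ef1b2b4578d95a23c6cab0de365584f1b2ac178d95443c6caa11e365408f1b294778d9463bc6ca319e36518af1b288478d9402bc6c9c15e364c8ef1b264678d9302bc6c9811e364b10f1b258278d92a1bc6c941de364a0cf1b250378d9262bc6c930de36490af1b244878d92213c6c901de364802f1b23c578d91e13c6c8e15e364704f1b238178d91823c6c8b0de36450af1b224578d91043c6c881de36440cf1b220378d91013c6c8711e364384f1b218578d90623c6c8211e364004f1b1fc778d8fe33c6c7f15e363f0ef1b1f8678d8fc2bc6c7c21e363e08f1b1ec878d8f623c6c7a1de363c8af1b1e4478d8f02bc6c7811e363b8cf1b1d8478d8ea23c6c7419e363a08f1b1c8478d8e23bc6c7011e36378ef1b1bc478d8de13c6c6e1de36370cf1b1b85))) (BT.leaf (Bx.mk (nat_lit 0x78dc8843c6e441de37220cf1b910578dc881bc6e4405e372188f1b900678dc7c2bc6e3c15e371b88f1b8d4278dc6a0bc6e3411e371882f1b8c0178dc5c43c6e2e19e37168ef1b8b0578dc562bc6e2a11e37140af1b8a0478dc4e2bc6e2521e37128ef1b894378dc4833c6e240de371202f1b88c578dc440bc6e2115e371088f1b880778dc3c2bc6e1d11e370e08f1b868778dc3433c6e1915e370c08f1b860178dc2a2bc6e1415e37098ef1b84c678dc261bc6e1309e37090af1b848478dc2233c6e110de370884f1b840578dc1e23c6e0e1de37070cf1b834578dc181bc6e0c09e37058cf1b82c578dc1433c6e0a15e370488f1b820778dc1033c6e0815e370310f1b814878dc0843c6e040de370190f1b80c378dc0443c6e0215e370090f1b804578dc0223c6e0021e37000ef1b7fc878dbfe3bc6dff19e36ff88f1b7fc178dbfc43c6dfe1de36ff0cf1b7f8178dbfa43c6dfc21e36fd8af1b7e8178dbf23bc6df919e36fc82f1b7d4478dbe43bc6df219e36f90af1b7ac578dbd623c6de919e36f48af1b7a0478dbca23c6de41de36f20cf1b78c478dbc423c6de111e36ef8ef1b77c578dbba23c6ddc11e36ed0ef1b768678dbb40bc6dd911e36eb08f1b748578db9423c6dc811e36e282f1b70c778db842bc6dc20de36e104f1b704378db8213c6dbf11e36de82f1b6f0178db7623c6dba1de36dd0af1b6e8178db703bc6db819e36dc0af1b6dc478db6c23c6db411e36da04f1b6cc778db6443c6db211e36d906f1b6c4778db6233c6db115e36d80af1b6bc478db522bc6da911e36d410f1b6a0278db4a43c6da51de36d286f1b694278db462bc6da11de36d08cf1b680578db4023c6d9f11e36cf0af1b674478db3643c6d9b19e36cd86f1b668778db3433c6d9a15e36cc8af1b664478db3213c6d9905e36cc0cf1b660378db3013c6d971de36cb0af1b658478db2a3bc6d950de36ca84f1b64c578db241bc6d9015e36c808f1b63c578db1e23c6d8e1de36c70cf1b638378db1c13c6d8b21e36c58cf1b628778db1433c6d8a15e36c388f1b618878db0c23c6d8521e36c28ef1b614678db0a2bc6d850de36c282f1b610178db063bc6d830de36c102f1b5f8778dafc33c6d7c11e36be04f1b5ec578daf613c6d7b05e36bd0af1b5e8478daec33c6d7615e36ba0af1b5c8778dae413c6d7021e36b78ef1b5bc678dad42bc6d6a09e36b48af1b5a4278dad03bc6d6819e36b406f1b5a0278dace23c6d6415e36b208f1b584678dabc2bc6d5b1de36ac88f1b560478daaa23c6d5415e36a90ef1b5486)))) (BT.node (nat_lit 379) (BT.leaf (Bx.mk (nat_lit 0x78deac23c6f560de37ab04f1bd54778deaa33c6f5319e37a810f1bd40478dea013c6f4f15e37a608f1bd1c578de8833c6f4309e37a090f1bd04778de8223c6f410de37a084f1bd00678de802bc6f3f15e379e8af1bcec178de7423c6f3919e379c88f1bcdc578de642bc6f3111e379886f1bcc0778de6033c6f3015e37978af1bcb8778de5c33c6f2e15e37968ef1bcb4678de583bc6f2c19e379608f1bcb0378de5813c6f2c05e37958af1bca0778de5033c6f2815e379388f1bc8c478de3e3bc6f1e21e378e8ef1bc74678de3a2bc6f1c21e378e08f1bc6c478de3023c6f1711e378a8af1bc50578de2823c6f131de37898cf1bc48778de2433c6f1115e378784f1bc38578de1c1bc6f0d0de378590f1bc2c478de1443c6f0a11e378504f1bc24578de1043c6f0811e378390f1bc18278de0c0bc6f0521e37828ef1bc14478de0823c6f0315e378188f1bc04778ddfe33c6efb1de377d8cf1bbe8878ddf423c6ef921e377c88f1bbe0778ddf033c6ef721e377b8ef1bbdc678ddee23c6ef70de377b84f1bbd0478dde623c6ef011e377790f1bbbc778ddde23c6eef09e377708f1bbb4878ddda23c6eed0de37760af1bbb0478ddd81bc6eec05e377584f1bba8678ddd22bc6ee905e37740af1bb9c878ddce33c6ee711e377386f1bb98578ddca43c6ee115e37700ef1bb78578ddbc23c6edd15e376e0af1bb68478ddb22bc6ed911e376c0ef1bb60678ddb01bc6ed809e376b8af1bb58478ddac13c6ed211e376808f1bb3c678dd9e23c6ecf09e376708f1bb34578dd9a23c6eca05e376490f1bb20778dd9033c6ec815e376206f1bb0c478dd841bc6ec209e37608ef1bb04478dd7c23c6ebc19e375d04f1bae4678dd7043c6eb71de375b8cf1bad4578dd622bc6eb111e375886f1bac0778dd601bc6eb009e37560ef1bab0678dd562bc6ea911e37540ef1baa0678dd502bc6ea61de37530cf1ba94478dd4023c6e9f1de374f8cf1ba74778dd3a33c6e9d15e374e08f1ba58478dd2823c6e931de37498cf1ba4c578dd2433c6e9215e37488af1ba3c578dd1843c6e8c1de37460cf1ba30278dd1433c6e7c15e373d0ef1b9e8678dcf01bc6e7809e373c02f1b9dc878dcec2bc6e7611e373a8af1b9d4478dce623c6e721de37388af1b9c0678dce00bc6e6c1de37360cf1b9b0578dcd623c6e6b0de37348af1b9a0478dcbe23c6e5911e372c86f1b964278dcac2bc6e5515e372a88f1b94c878dca63bc6e521de37290cf1b948578dca243c6e4c11e372490f1b920178dc8e2bc6e4621e372304f1b9145))) (BT.leaf (Bx.mk (nat_lit 0x7a77063bd3b821de9dc10cf4edf857a76fa3bd3b7d19e9dbe86f4edf077a76f833d3b7c15e9dbd0af4ede477a76f233d3b771de9dbb8cf4eddc57a76ec2bd3b751de9dba8cf4edcc77a76e443d3b721de9db90cf4edc847a76e41bd3b7209e382d0af1c154478e0a843c70540de382988f1c148878e0a42bc705211e382890f1c144578e0a043c70501de382808f1c13c678e09e23c704e0de38268ef1c130778e0942bc70490de382484f1c11c478e08c2bc70460de382284f1c110778e08813c70401de38200cf1c0fc878e07e23c703e21e381f08f1c0e4878e07223c703721e381b88f1c0d8878e06c23c70351de381a8cf1c0d0878e06833c703321e381908f1c0c4578e0603bc703019e381788f1c0b4478e05823c702a15e381488f1c0a4178e04e3bc702511e381188f1c088478e03e23c701615e380a84f1c04c478e0223bc70101de380804f1c03c478e01e0bc700e1de380704f1c034778e01a33c700c1de380490f1c024478e01213c700711e38030cf1c018578e00433c70011de37ff8af1bff8578dffa2bc6ffc11e37fe04f1bfe8878dff41bc6ff91de37fc8cf1bfe0578dff01bc6ff619e37fb04f1bfd4678dfe83bc6ff419e37fa0af1bfcc678dfe43bc6ff219e37f908f1bfc8378dfe413c6ff111e37f810f1bfc0478dfde3bc6fef19e37f78af1bfb8478dfdc1bc6fed11e37f686f1bfac878dfd423c6fe621e37f308f1bf98278dfc63bc6fe319e37f18af1bf84578dfb423c6fd81de37ec0cf1bf5c478dfaa2bc6fd50de37e990f1bf48678dfa42bc6fd011e37e790f1bf3c478df9a43c6fcd11e37e610f1bf2c878df943bc6fc819e37e384f1bf10878df8823c6fc311e37e10af1bf08478df802bc6fbf1de37df8cf1bef8578df7c23c6fbd15e37de88f1bef0478df781bc6fbb15e37dc8cf1bed8478df6823c6fb40de37da04f1bec8578df6423c6faf1de37d78cf1bebc378df5c3bc6fae19e37d704f1beb8178df542bc6fa915e37d488f1bea0778df5033c6fa80de37d404f1be9c578df4c2bc6fa611e37d28ef1be94378df4a13c6fa41de37d20cf1be84878df4043c6fa011e37cf8ef1be7c678df3e13c6f9e1de37cf0cf1be78378df3a43c6f9d11e37cc90f1be64478df2023c6f8d11e37c308f1be14578df043bc6f8111e37bf88f1bdf8578def843c6f7c11e37bd88f1bde8478def03bc6f7211e37b80af1bdbc478ded62bc6f6b11e37b488f1bd9c478dece0bc6f6615e37b308f1bd88778dec22bc6f6015e37af08f1bd78178deb823c6f5a1de37ad0cf1bd682))))) (BT.node (nat_lit 382) (BT.node (nat_lit 381) (BT.leaf (Bx.mk (nat_lit 0x7a78b01bd3c571de9e298ef4f14857a78a23bd3c5119e9e2810f4f14077a78a023d3c5009e9e2790f4f13c67a789e23d3c4f0de9e270af4f13457a78982bd3c4b21e9e258ef4f12c67a789623d3c4b0de9e2584f4f12457a78903bd3c4819e9e2406f4f11c67a788e2bd3c461de9e230cf4f11847a788c1bd3c4609e9e2208f4f10c47a78803bd3c4019e9e1f88f4f0f857a787c23d3c3d11e9e1e08f4f0ec57a787623d3c3a11e9e1c0af4f0d457a786a23d3c3311e9e188ef4f0c467a786033d3c2f1de9e178cf4f0b877a785623d3c2a15e9e148af4f0a057a784e2bd3c2521e9e128ef4f09427a78483bd3c2415e9e118af4f08857a78422bd3c1e19e9e0e88f4f07057a783443d3c1a11e9e0d06f4f05857a782c23d3c1515e9e0a0af4f05047a78263bd3c121de9e090cf4f04847a78241bd3c1209e9e080ef4f04057a781c2bd3c0e11e9e068af4f03447a781a0bd3c0c1de9e060cf4f03057a78162bd3c0b11e9e0582f4f02857a781423d3c0a05e9e048ef4f02467a78103bd3c0819e9e038ef4f01c67a780c3bd3c0515e9e020ef4f01067a780823d3c040de9e0204f4f00c77a780633d3c0315e9e0108f4f00477a780233d3c0115e9dff0ef4eff867a77fc2bd3bfc11e9dfd8ef4efe057a77ec2bd3bf521e9dfa8af4efd447a77e843d3bf321e9df98ef4efc887a77e433d3bec1de9df60cf4efb017a77d623d3be915e9df488f4efa077a77d033d3be815e9df308f4ef9477a77ca33d3be515e9df208f4ef8857a77be43d3bdf15e9def10f4ef7857a77bc23d3bdd21e9dee8ef4ef7087a77b833d3bdb15e9ded08f4ef6447a77ae43d3bd711e9deb10f4ef5847a77a82bd3bd411e9de80ef4ef4067a77a00bd3bcf11e9de608f4ef1c57a778823d3bc311e9de182f4ef0877a77823bd3bc119e9de08af4ef0047a777223d3bb711e9dda8ef4eed077a776833d3bb415e9dd98ef4eecc67a77643bd3bb219e9dd90af4eec447a775e3bd3baf19e9dd78af4eebc17a77582bd3bab11e9dd50cf4eea447a775023d3ba805e9dd388f4ee9467a77483bd3ba419e9dd20af4ee8c77a774633d3ba21de9dd10cf4ee8477a774233d3ba111e9dd086f4ee8427a773e23d3b9e1de9dcf0cf4ee7057a773633d3b9b0de9dcc8cf4ee6457a772c3bd3b9515e9dca0ef4ee5067a772643d3b9319e9dc988f4ee4877a772433d3b9115e9dc80af4ee3c87a771e3bd3b8f19e9dc788f4ee3c37a771e13d3b8e15e9dc68af4ee3087a77183bd3b8c19e9dc606f4ee3027a771223d3b8711e9dc288f4ee104))) (BT.leaf (Bx.mk (nat_lit 0x7a7a1c23d3d0d11e9e858ef4f42c67a7a143bd3d0919e9e838ef4f41457a7a0a23d3d0415e9e8202f4f40c77a7a0633d3d021de9e810cf4f40857a7a023bd3d0119e9e8008f4f3fc47a79fc3bd3cfe19e9e7e8af4f3f057a79f823d3cfc05e9e7d8ef4f3ec67a79f433d3cfa15e9e7c8ef4f3e467a79f033d3cf71de9e7b0ef4f3d867a79ec2bd3cf421e9e7a08f4f3cc47a79e43bd3cf219e9e790af4f3c457a79e023d3cef09e9e770ef4f3b857a79da43d3ced19e9e7688f4f3b057a79d223d3ce811e9e7208f4f37857a79bc23d3cdc21e9e6e08f4f37027a79b233d3cd81de9e6c0cf4f36047a79b013d3cd621e9e6b08f4f35837a79a843d3cd415e9e6a08f4f34c87a79a623d3cd221e9e6890f4f34467a799e43d3ccf11e9e6710f4f33847a79943bd3cca19e9e6502f4f32057a799023d3cc721e9e638cf4f31c47a798e1bd3cc709e9e630cf4f31857a798a3bd3cc519e9e6210f4f31077a798833d3cc411e9e6206f4f31027a79863bd3cc319e9e6186f4f30c27a798423d3cbd21e9e5e8af4f2f447a79782bd3cbc05e9e5d8ef4f2e887a79743bd3cba11e9e5c8ef4f2e437a79702bd3cb811e9e5b8ef4f2dc67a796c2bd3cb51de9e5a8cf4f2d437a796a13d3cb415e9e598ef4f2cc67a79662bd3cb21de9e590cf4f2c477a796233d3cb021e9e5808f4f2c027a795c2bd3cad1de9e568af4f2b087a795823d3caa15e9e5508f4f2a077a79502bd3ca611e9e518cf4f28877a794433d3ca20de9e5104f4f28457a79402bd3c9f19e9e4f0ef4f27867a793c2bd3c9d1de9e4e8cf4f27437a793a13d3c9c15e9e4d8cf4f26c47a79361bd3c9a15e9e4c8af4f26077a793033d3c9715e9e4b0af4f25477a792a33d3c9511e9e4a86f4f25427a79263bd3c9319e9e4982f4f24847a79202bd3c8f21e9e478ef4f23c47a791e1bd3c8f09e9e470ef4f23867a791a43d3c8919e9e448af4f21c47a790c3bd3c8619e9e430af4f21447a790823d3c8115e9e400af4f20047a79000bd3c7f1de9e3f8cf4f1f877a78fc33d3c7e15e9e3e8ef4f1f467a78f823d3c7b1de9e3d8cf4f1e857a78f23bd3c7919e9e3c0af4f1e047a78f00bd3c771de9e3b8cf4f1d847a78e62bd3c7311e9e390ef4f1c867a78e223d3c6f1de9e350af4f1a847a78d03bd3c6815e9e3388f4f19c27a78cc2bd3c6511e9e3286f4f18c87a78c62bd3c6305e9e3110f4f18847a78c23bd3c6119e9e300ef4f18067a78c01bd3c6009e9e2f8ef4f17857a78ba3bd3c5c15e9e2d8ef4f16c67a78b22bd3c5821e9e2c0ef4f1606)))) (BT.node (nat_lit 383) (BT.leaf (Bx.mk (nat_lit 0x7a7b8c33d3dc515e9ee208f4f70847a7b8043d3dbf11e9edf08f4f6f077a7b7833d3dbc15e9edd8ef4f6ec67a7b743bd3dba19e9edc8af4f6e447a7b702bd3db721e9edb8ef4f6dc67a7b6e1bd3db709e9edb10f4f6d847a7b6843d3db321e9ed988f4f6c887a7b6243d3db021e9ed808f4f6b447a7b582bd3dac11e9ed48cf4f6a457a7b4c2bd3da51de9ed28cf4f69437a7b463bd3da319e9ed186f4f68c27a7b442bd3da11de9ed08cf4f68437a7b4213d3da01de9ecf88f4f67437a7b3a13d3d9b1de9ecd8cf4f66c57a7b343bd3d9915e9ecc88f4f65c57a7b2c23d3d9605e9eca8ef4f65467a7b2823d3d9315e9ec908f4f64447a7b220bd3d9015e9ec808f4f63c77a7b1e33d3d8d15e9ec688f4f63417a7b1643d3d8b11e9ec50ef4f62867a7b142bd3d8811e9ec388f4f61c17a7b0c23d3d8515e9ec288f4f61077a7b0833d3d8311e9ec090f4f60477a7b003bd3d8019e9ec00af4f5f867a7afa0bd3d7c15e9ebe08f4f5ec67a7af62bd3d7a1de9ebd0cf4f5e487a7af233d3d7911e9ebc86f4f5e427a7af02bd3d7721e9ebb88f4f5dc37a7ae843d3d7415e9eba08f4f5cc87a7ae62bd3d7311e9eb910f4f5c877a7ae433d3d7121e9eb88cf4f5c457a7adc3bd3d6e19e9eb684f4f5b057a7ad623d3d681de9eb40cf4f5a057a7ace23d3d6611e9eb288f4f59067a7ac23bd3d6119e9eb008f4f56c77a7ab43bd3d5a19e9eac0ef4f56067a7ab00bd3d5721e9eab88f4f55887a7aac23d3d5515e9eaa88f4f54c57a7aa43bd3d5219e9ea888f4f54437a7aa213d3d4f11e9ea70ef4f53867a7a9a3bd3d4c19e9ea606f4f53027a7a902bd3d4721e9ea38ef4f51c37a7a8a43d3d4515e9ea288f4f51087a7a882bd3d4411e9ea18ef4f50887a7a843bd3d4219e9ea086f4f50427a7a803bd3d4019e9ea006f4f50027a7a7e3bd3d3f19e9e9f86f4f4fc27a7a7a3bd3d3d19e9e9e0cf4f4ec47a7a7443d3d3a1de9e9d08f4f4e837a7a702bd3d3715e9e9b0ef4f4cc87a7a6623d3d3309e9e988af4f4c447a7a602bd3d2f15e9e9688f4f4b077a7a5833d3d2b1de9e958cf4f4ac47a7a561bd3d2b09e9e950cf4f4a857a7a523bd3d2919e9e940af4f4a047a7a4e2bd3d2711e9e9382f4f49477a7a4a33d3d2515e9e9210f4f48c57a7a4443d3d220de9e9010f4f47c67a7a3e0bd3d1e1de9e8f08f4f47447a7a343bd3d1a19e9e8d06f4f46827a7a323bd3d1919e9e8c88f4f46437a7a3213d3d151de9e8a8cf4f45457a7a262bd3d1311e9e8908f4f44417a7a202bd3d1011e9e8788f4f4385))) (BT.leaf (Bx.mk (nat_lit 0x7a7d063bd3e8315e9f4110f4fa0867a7d0423d3e820de9f3f90f4f9fc47a7cfe1bd3e7c15e9f3e08f4f9ec67a7cf62bd3e751de9f3a0ef4f9d067a7ce43bd3e7219e9f390af4f9c447a7ce03bd3e6f19e9f3788f4f9bc37a7cdc23d3e6d05e9f360ef4f9b067a7cd623d3e6a1de9f350cf4f9a837a7cd23bd3e6919e9f3408f4f99c67a7cce23d3e6611e9f328af4f98857a7cc243d3e6015e9f2f90f4f97477a7cba33d3e5c15e9f2d90f4f96887a7cb22bd3e5821e9f2c08f4f95887a7ca843d3e5415e9f2990f4f94c57a7ca623d3e5221e9f290ef4f94487a7ca233d3e4f15e9f270af4f93847a7c9a2bd3e4c19e9f260af4f93017a7c9623d3e4a11e9f248af4f92087a7c9023d3e4621e9f2308f4f91057a7c8823d3e4405e9f1f8ef4f8fc67a7c7c3bd3e3e19e9f1e8ef4f8f467a7c7823d3e3b11e9f1c88f4f8dc47a7c6623d3e3211e9f1902f4f8c457a7c603bd3e3019e9f178ef4f8bc67a7c5a43d3e2d11e9f150cf4f8a857a7c5223d3e2821e9f1408f4f89c87a7c4e23d3e2615e9f1288f4f89057a7c4823d3e2315e9f110ef4f88867a7c441bd3e2209e9f1090f4f88477a7c4223d3e2011e9f0f90f4f87c77a7c3e23d3e1f09e9f0f0ef4f87867a7c3a2bd3e1d11e9f0e82f4f87057a7c3823d3e1c05e9f0d8ef4f86c67a7c361bd3e1b09e9f0d0ef4f86867a7c342bd3e191de9f0c8cf4f86457a7c3043d3e181de9f0c0cf4f86057a7c2e43d3e171de9f0b8cf4f85c47a7c2e1bd3e1709e9f0b0af4f85467a7c2a23d3e150de9f0a0af4f84c57a7c242bd3e1115e9f0810f4f84077a7c2033d3e1011e9f0804f4f83c57a7c1e23d3e0e11e9f0690f4f83477a7c1a33d3e0d11e9f0684f4f82c47a7c0e3bd3e0719e9f030ef4f81867a7c0c1bd3e051de9f0286f4f81077a7c0833d3e040de9f0204f4f80c57a7c0443d3e021de9f0108f4f80827a7bfc23d3dfd19e9efe10f4f7f047a7bf813d3dfa21e9efc90f4f7e457a7bf223d3df821e9efc0ef4f7dc87a7bec3bd3df619e9efb0af4f7d077a7be833d3df315e9ef90af4f7c847a7be243d3df11de9ef88cf4f7c447a7be213d3dee1de9ef68cf4f7b057a7bd823d3deb15e9ef50ef4f7a867a7bd42bd3de91de9ef48cf4f7a077a7bd033d3de815e9ef38cf4f79c57a7bca2bd3de415e9ef18cf4f78477a7bc233d3ddf21e9eef88f4f77c37a7bbe13d3dd915e9eec08f4f76017a7bae23d3dd41de9eea0cf4f75037a7ba813d3dd215e9ee908f4f74057a7b983bd3dcc19e9ee508f4f72457a7b9033d3dc715e9ee388f4f7187)))))))))) (BT.node (nat_lit 448) (BT.node (nat_lit 416) (BT.node (nat_lit 400) (BT.node (nat_lit 392) (BT.node (nat_lit 388) (BT.node (nat_lit 386) (BT.node (nat_lit 385) (BT.leaf (Bx.mk (nat_lit 0x7a7e6e33d3f361de9f9b0cf4fcd857a7e6a2bd3f3415e9f9990f4fccc77a7e6633d3f330de9f9984f4fcc877a7e6433d3f3119e9f980ef4fcbc77a7e5c2bd3f2e11e9f968af4fcb447a7e582bd3f2b11e9f9508f4fca447a7e4e3bd3f2719e9f930af4fc9847a7e4a2bd3f2511e9f9190f4fc8877a7e442bd3f2119e9f908af4fc7c77a7e3e33d3f1f05e9f8f10f4fc7847a7e3a43d3f1d11e9f8e0ef4fc7067a7e382bd3f1b1de9f8d8af4fc6857a7e3423d3f1915e9f8c88f4fc6087a7e3023d3f1715e9f8b10f4fc5457a7e2a0bd3f1415e9f8a08f4fc4c67a7e262bd3f1215e9f8888f4fc4077a7e2033d3f1015e9f878ef4fc3c67a7e1e2bd3f0e1de9f870cf4fc3857a7e1a23d3f0c19e9f850ef4fc2867a7e142bd3f0915e9f8488f4fc2047a7e0e3bd3f0719e9f838af4fc0c57a7e0623d3f0305e9f810af4fc0847a7e040bd3f011de9f800cf4fbfc77a7dfe33d3efe15e9f7f08f4fbf457a7df83bd3efc19e9f7e06f4fbf027a7df623d3efa19e9f7d08f4fbe837a7df223d3ef90de9f7c0ef4fbe067a7dee2bd3ef711e9f7b0ef4fbd867a7dec2bd3ef521e9f7a88f4fbd067a7de82bd3ef21de9f790cf4fbc487a7de223d3ef021e9f7808f4fbb877a7ddc33d3eee11e9f7706f4fbb827a7dd613d3eea1de9f750cf4fba077a7dd033d3ee715e9f7310f4fb9457a7dc643d3ee215e9f7108f4fb8457a7dc223d3ee01de9f700cf4fb7877a7dbc33d3ede15e9f6e90f4fb7077a7db833d3edc15e9f6d10f4fb6477a7db233d3ed815e9f6c08f4fb5c57a7dae23d3ed61de9f6b0cf4fb4887a7da42bd3ed211e9f6890f4fb4457a7da20bd3ed021e9f680ef4fb3c87a7d9e33d3ece1de9f670cf4fb3447a7d983bd3ecc19e9f660af4fb2c57a7d9623d3eca15e9f6508f4fb2457a7d9023d3ec715e9f6388f4fb1877a7d8c2bd3ec321e9f6110f4fb0477a7d8233d3ec115e9f6010f4fafc77a7d7c43d3ebd1de9f5e8af4fadc77a7d6e33d3eb715e9f5b0ef4fad857a7d6a3bd3eb519e9f5a86f4fad427a7d682bd3eb315e9f5988f4fac847a7d623bd3eb119e9f5884f4fab077a7d5833d3eac0de9f5604f4faa447a7d5023d3ea61de9f520af4fa8c47a7d423bd3ea119e9f4f8cf4fa7847a7d383bd3e9c19e9f4d10f4fa6487a7d2a3bd3e9519e9f4a0ef4fa5067a7d242bd3e9211e9f488af4fa4067a7d1a43d3e8d15e9f4688f4fa3077a7d1833d3e8b1de9f458cf4fa2857a7d1043d3e8811e9f4390f4fa1c47a7d0c43d3e861de9f4290f4fa1467a7d083bd3e8419e9f4206f4fa102))) (BT.leaf (Bx.mk (nat_lit 0x7a7fce23d3fe615e9ff28af4ff9087a7fc823d3fe405e9ff10af4ff8817a7fbe43d3fdf1de9fef8cf4ff7c37a7fbe13d3fde15e9fef08f4ff7817a7fba3bd3fdd15e9fed10f4ff6487a7fb21bd3fd815e9fec08f4ff6017a7fae2bd3fd711e9fea8ef4ff5467a7faa13d3fd415e9fe990f4ff4477a7fa20bd3fd011e9fe78af4ff3867a7f9c1bd3fcd1de9fe608f4ff2457a7f9223d3fc511e9fe20af4ff0c57a7f8623d3fc211e9fe00ef4fefc57a7f7a3bd3fbc1de9fde0cf4fef037a7f7813d3fbb15e9fdd88f4fee857a7f722bd3fb911e9fdc82f4fee057a7f7023d3fb715e9fdb0ef4fed867a7f6c1bd3fb515e9fda88f4fed417a7f682bd3fb411e9fd98ef4fecc67a7f643bd3fb219e9fd904f4fec457a7f620bd3fb021e9fd808f4fec017a7f5e43d3faf11e9fd782f4feb857a7f5c0bd3fad19e9fd60af4feac87a7f562bd3fab11e9fd50ef4fe9c57a7f4e23d3fa521e9fd288f4fe8c77a7f4633d3fa315e9fd108f4fe8477a7f3e2bd3f9f11e9fcf0af4fe7457a7f3823d3f9b1de9fcc8af4fe5c77a7f2e33d3f9715e9fca0ef4fe5067a7f2623d3f921de9fc90cf4fe4857a7f223bd3f9119e9fc88af4fe4047a7f1e2bd3f8f11e9fc70af4fe3847a7f1a3bd3f8d19e9fc588f4fe2847a7f1223d3f881de9fc40cf4fe1847a7f0a23d3f8315e9fc188f4fe0857a7f0423d3f8205e9fc08ef4fe0467a7f021bd3f8109e9fc00ef4fe0067a7f002bd3f7f11e9fbe8ef4fdf467a7ef62bd3f7b11e9fbc88f4fde057a7ef00bd3f7715e9fbb88f4fddc17a7eec3bd3f7619e9fba8ef4fdd467a7ee83bd3f7419e9fb988f4fdc877a7ee433d3f7121e9fb888f4fdc427a7ee03bd3f6f15e9fb710f4fdb457a7eda0bd3f691de9fb48cf4fda437a7ed213d3f6821e9fb390f4fd9c47a7eca43d3f6515e9fb288f4fd9047a7ec643d3f6221e9fb08af4fd8067a7ec00bd3f5f1de9faf8cf4fd7c57a7eb843d3f5c11e9fad0ef4fd6867a7eb23bd3f5919e9fac88f4fd6437a7eb213d3f5715e9fab88f4fd5827a7eaa2bd3f541de9faa0cf4fd5057a7ea80bd3f5315e9fa988f4fd4847a7ea243d3f5111e9fa78cf4fd3c57a7e9c43d3f4e0de9fa690f4fd3447a7e9643d3f4b11e9fa490f4fd2447a7e9043d3f4811e9fa390f4fd1c27a7e8c2bd3f4521e9fa288f4fd0c87a7e8623d3f4221e9fa10af4fd0477a7e8233d3f4021e9fa008f4fcfc47a7e7c43d3f3e1de9f9f08f4fcf827a7e7a2bd3f3c15e9f9e08f4fcec47a7e761bd3f3a15e9f9c8af4fce447a7e720bd3f3815e9f9c08f4fcdc8)))) (BT.node (nat_lit 387) (BT.leaf (Bx.mk (nat_lit 0x7a816413d40b015ea0578ef502bc67a815c33d40ae15ea05590f502ac47a815613d40a911ea05408f5029c57a814c2bd40a51dea0528cf5029437a814a13d40a41dea0520cf5028c77a81462bd40a21dea0510cf5028057a813e0bd409e15ea04f08f5027457a81342bd409919ea04c8af5026087a812e2bd409611ea04a8af5025447a81243bd40901dea0478ef5023c67a811c23d408d21ea04688f5023087a81163bd408b19ea04510f5022847a810e23d408505ea0418af5020877a810433d40820dea0408ef5020467a810023d407f1dea03f8cf501f857a80fc23d407e05ea03e8af501f447a80fa0bd407c1dea03e0cf501f057a80f643d407b1dea03d8cf501e887a80f423d407811ea03b90f501d877a80ec33d407605ea03a90f501d447a80e843d407411ea0398af501cc47a80e42bd407211ea03902f501c477a80e233d40701dea0380cf501c057a80de3bd406f19ea03708f501b457a80da23d406c1dea0360cf501b037a80d813d406915ea03488f5019447a80c423d40611dea02f88f5017877a80b823d405b1dea02c08f5015847a80aa23d40541dea0298af5014457a80a223d405015ea02808f5013c87a809e3bd404f19ea02788f5013c37a809e13d404e21ea02708f5013457a809a23d404d05ea0260af5013047a80963bd404b19ea0258af5012877a80942bd40471dea0238cf5011c37a808e13d404615ea02290f5011447a808823d40431dea0218cf5010c57a80842bd404015ea02008f500fc77a807e33d403e15ea01e10f500f047a807623d403921ea01c8cf500e437a807213d403815ea01b0af500d477a806a33d40341dea01a0cf500cc77a806633d403315ea01810f500bc57a805c43d402c1dea0160cf500b037a80562bd402a21ea01508f500a477a804e43d402711ea01310f5009447a804823d40231dea0118cf5008c37a804613d402215ea01090f5008087a804033d402011ea01006f5007887a80362bd401b11ea00d0af5006057a802e0bd401621ea00b08f5005447a80282bd401321ea0090af5003c57a801e23d400e11ea0060cf5002c77a801613d400a15ea00508f5002457a800e2bd40041dea0018af5000857a800233d400109ea0000af4fffc47a7ffc3bd3ffe19e9fff0af4fff817a7ffa2bd3ffd11e9ffd82f4ffe847a7ff40bd3ff921e9ffc88f4ffe417a7fee2bd3ff621e9ffb0af4ffd847a7fea3bd3ff215e9ff908f4ffbc77a7fde33d3fef0de9ff784f4ffb877a7fdc33d3fed0de9ff684f4ffac57a7fd623d3feb05e9ff488f4ff9c5))) (BT.leaf (Bx.mk (nat_lit 0x7a82f433d417a11ea0bd06f505e827a82f22bd417821ea0bc0ef505e067a82f023d41780dea0bc04f505d447a82e833d41731dea0b98cf505cc57a82e43bd417219ea0b90af505c447a82e03bd417019ea0b80af505b867a82dc0bd416a1dea0b48ef505a467a82d223d41690dea0b484f505a077a82ce2bd416415ea0b10ef5058867a82c42bd416205ea0b082f5058077a82c033d415e21ea0af08f5057487a82b82bd415b21ea0ac8af5056087a82ae43d415621ea0aa90f5054877a82a433d41520dea0a904f5054457a82a023d414f1dea0a78cf5053c57a829c1bd414c1dea0a606f5052047a828e23d41461dea0a30cf5051447a82883bd414419ea0a10ef5050447a828023d413f11ea09e8af504f077a82782bd413c05ea09d88f504e887a827423d41381dea09c0cf504dc57a826c3bd413615ea09b02f504d457a826843d413411ea09988f504c857a826423d413015ea09808f504bc57a825c43d412e1dea0970cf504b837a825c13d412d15ea09688f504b057a825823d412b1dea0950ef504a867a82542bd41281dea0940cf504a017a824e43d412711ea0918ef5048c67a82462bd412119ea09088f5048437a824043d41201dea09008f5048037a824013d411f11ea08f0cf5047837a823c13d411c11ea08d8ef5046c67a82361bd411b09ea08d0af5046457a823033d411719ea08b8af5045467a822843d411411ea0898af5044867a82242bd410f05ea0860cf5042c47a82161bd410b09ea0838cf5041877a820c33d410511ea08190f5040847a81fe3bd40ff19ea07e8af503f087a81f83bd40fc19ea07e06f503f027a81f623d40fa11ea07c8ef503e057a81ee43d40f621ea07b08f503d457a81e82bd40f411ea0778ef503bc57a81dc2bd40ed15ea07610f503b077a81d833d40ec0dea07604f503a857a81d423d40ea05ea07410f503a077a81d033d40e80dea07404f5039c77a81ca23d40e31dea0710ef5038847a81c223d40df15ea06f88f5037857a81ba3bd40dc15ea06d90f5036c47a81b243d40d911ea06c10f5036047a81ae43d40d71dea06b0ef5035867a81aa23d40d321ea06988f5034887a81a043d40d011ea06790f5033887a819443d40ca11ea06488f5032087a819023d40c80dea0638af5031c47a818c33d40c411ea06190f5030c47a818243d40c019ea05f88f502f867a817a3bd40bd11ea05e84f502f077a817833d40bb15ea05c08f502d887a816c23d40b51dea05a8cf502d457a81683bd40b419ea0598ef502cc67a81643bd40b219ea05908f502c83))))) (BT.node (nat_lit 390) (BT.node (nat_lit 389) (BT.leaf (Bx.mk (nat_lit 0x7a84862bd424215ea12090f5090057a84800bd423d05ea11d0ef508e457a846e3bd423719ea11b82f508d887a846c23d42351dea11a8cf508d077a84682bd423319ea1198af508c877a846433d42320dea11904f508c467a84622bd423015ea1178af508bc47a845c2bd422e11ea1160cf508b057a84522bd422905ea11410f508a067a84501bd422719ea1138af5089457a84482bd422411ea11202f5088c67a84442bd42211dea1108cf5088077a84402bd421f21ea10f88f5087877a843c33d421e15ea10e8ef5087467a84383bd421c19ea10e06f5087027a843623d421a19ea10d06f5086457a843223d42181dea10c0cf5086027a842e2bd421711ea10b0af5085847a842a43d42151dea10a8cf5085437a842a13d42141dea10a0cf5085057a842423d420c21ea10608f5082c77a841633d42091dea1048cf5081c87a840e23d420621ea10308f5081457a840823d420315ea10188f5080457a840223d42001dea10006f5080027a83fe43d41ff09ea0ff0cf507f857a83f833d41fb19ea0fc88f507e057a83ee3bd41f709ea0fa90f507d457a83ea23d41f415ea0f990f507cc77a83e443d41f219ea0f888f507c077a83e033d41f015ea0f788f507b477a83da33d41ed15ea0f60af507b047a83d62bd41eb11ea0f508f507a077a83d033d41e815ea0f38ef5079c67a83ce2bd41e611ea0f18af5078c47a83c41bd41e111ea0f010f5076477a83b03bd41d819ea0ec0af5074c67a83a423d41d01dea0e806f5073847a839a3bd41cb19ea0e50af5072087a838e43d41c515ea0e210f5070857a838423d41c205ea0df8cf506f877a837c33d41bd15ea0de0ef506f067a837813d41bb1dea0dd88f506ec27a83743bd41ba19ea0dc8cf506e087a837023d41b80dea0db8af506d887a83682bd41b321ea0d988f506c877a836433d41b215ea0d902f506c457a83602bd41b005ea0d78af506bc47a835a23d41ac11ea0d50af506a487a83503bd41a819ea0d402f5069857a834a43d41a511ea0d18cf5068c37a83442bd41a121ea0d010f5067c57a833a3bd419d19ea0cd10f5066847a833413d419721ea0cb8af5065857a832a3bd419519ea0ca82f5065087a83283bd419415ea0ca08f5064c87a83263bd419311ea0c80af5063857a831a2bd418c19ea0c608f5063037a831813d418b15ea0c588f5062857a83123bd418919ea0c486f5062427a830e2bd41861dea0c30cf5061837a830a23d418411ea0c08ef5060467a830223d41810dea0c084f5060047a82fe1bd417f09ea0bd8af505e88))) (BT.leaf (Bx.mk (nat_lit 0x7a85fa33d42fc11ea17d8af50be457a85f02bd42f805ea17b8ef50bdc67a85ee2bd42f621ea17b08f50bd457a85e823d42f315ea17988f50bc857a85e423d42f115ea17888f50bbc57a85de0bd42ee11ea17688f50bb417a85d83bd42ec19ea1758af50ba467a85ca2bd42e511ea17188f50b8847a85c243d42e119ea16f8af50b7c47a85bc2bd42dd21ea16e8ef50b7467a85ba13d42dc21ea16d8af50b5c87a85ac3bd42d605ea16a8af50b5417a85a83bd42d405ea16908f50b4457a85a223d42cf21ea1668cf50b3427a85983bd42cc19ea1660af50b2c47a859443d42c911ea1638af50b1c47a858c2bd42c51dea1628cf50b1437a858a13d42c421ea16208f50b0c77a858633d42c315ea1610af50b0847a85823bd42c119ea16008f50afc47a857c3bd42be19ea15f06f50af827a857a33d42bd09ea15d8ef50aec67a85760bd42ba15ea15c8af50ae447a85703bd42b819ea15c0af50adc57a856643d42b205ea15808f50ab857a855a3bd42ad19ea1560ef50ab067a85581bd42ac09ea1550af50aa847a85522bd42a911ea15310f50a9847a854c1bd42a515ea15190f50a8c57a85460bd42a215ea15108f50a8817a854243d42a11dea15010f50a8067a853e43d429f1dea14f8cf50a7c37a853e13d429e1dea14f0cf50a7857a85362bd429a15ea14c88f50a6037a852c2bd42941dea14a0cf50a5057a85243bd429115ea1470ef50a3817a851a3bd428d19ea1468af50a2877a851433d428921ea1448ef50a2467a85121bd428909ea14390f50a1c77a850e23d42870dea14384f50a1487a850a2bd428511ea14210f50a1057a850823d428321ea1418af50a0887a85043bd427f15ea13f88f509f857a84fc23d427e05ea13e8ef509f467a84f63bd427b19ea13d0ef509e867a84f42bd427615ea13b02f509d457a84ea0bd427421ea13a08f509c857a84e223d427021ea1378af509b847a84da23d426c15ea13608f509ac57a84d623d426a19ea1350af509a057a84d00bd42671dea1338cf5099c57a84cc23d42641dea1320cf5099057a84c42bd426211ea1308af5098087a84c03bd426019ea13006f5098027a84be33d425f15ea12f0af5097447a84b82bd425a05ea12c8ef5096467a84b20bd425815ea12b8af5095c17a84ac43d42561dea12b08f5095827a84a833d425315ea1290ef5094867a84a023d424f1dea1278cf5093c57a849c2bd424e11ea1268af5093077a849833d424c15ea12588f5092087a849033d424515ea12210f5091067a84881bd424409ea1218ef5090c6)))) (BT.node (nat_lit 391) (BT.leaf (Bx.mk (nat_lit 0x7a875e1bd43aa15ea1d48ef50ea467a875223d43a90dea1d484f50ea077a875033d43a815ea1d38ef50e9c67a874e2bd43a61dea1d30cf50e9447a874a0bd43a41dea1d190f50e8c47a874443d43a211ea1d088f50e8077a874033d439f11ea1cf0ef50e7847a873c1bd439e09ea1ce90f50e7447a873843d439c11ea1cd8ef50e6c57a87342bd43991dea1cc8cf50e6077a87302bd439615ea1cb08f50e5457a87282bd439311ea1c90af50e4847a87203bd438f15ea1c70ef50e3867a87182bd438b15ea1c50af50e2487a871223d438721ea1c310f50e1477a870a33d438505ea1c210f50e1047a870643d438311ea1c10ef50e0867a87022bd43801dea1be10f50df047a86f443d437921ea1bc88f50de087a86ee3bd437619ea1ba8ef50dd467a86ea1bd437509ea1ba10f50dcc47a86e423d437121ea1b810f50dc047a86de3bd436f19ea1b78af50db857a86da3bd436d15ea1b58ef50dac67a86d61bd436b09ea1b50cf50da857a86d243d436919ea1b488f50da437a86d03bd436815ea1b38af50d9c47a86cc2bd436611ea1b28af50d9447a86c82bd435e19ea1ae08f50d6c47a86b22bd435815ea1ab0af50d5057a86a43bd435219ea1a88ef50d4457a86a033d435015ea1a70af50d3847a869c0bd434d15ea1a688f50d3417a86983bd434c19ea1a606f50d3027a869633d434b15ea1a50ef50d2867a86942bd43491dea1a48cf50d2457a869043d434715ea1a28ef50d1467a868a2bd43441dea1a20cf50d0c57a86842bd434115ea1a088f50d0057a868023d433e1dea19f0cf50cf457a867a23d433b1dea19b8ef50cdc67a866c23d433519ea19a08f50cc877a866433d433215ea1988af50cc447a86603bd433019ea19806f50cc027a865e3bd432f19ea1978af50cb857a865a43d432d11ea1960ef50cb067a86582bd432a21ea19508f50ca837a86502bd432811ea19402f50c9c57a864e0bd43261dea1930cf50c9477a864a33d43241dea1920cf50c9037a86460bd43221dea1910cf50c8857a86440bd432021ea19008f50c7c77a863e33d431f15ea18f0af50c7457a86382bd431a21ea18c8ef50c6087a863023d43161dea18b0cf50c5847a862c1bd431609ea18a10f50c5047a862443d431211ea18810f50c3c77a861e33d430c11ea18588f50c2877a861433d430a0dea18504f50c2457a861043d430819ea18408f50c2037a860e43d43071dea18388f50c1c37a860823d43031dea1818af50c0857a860423d430115ea18088f50c0437a85fe2bd42fe21ea17f0cf50bf47))) (BT.leaf (Bx.mk (nat_lit 0x7a890433d448215ea24088f511fc47a88fc33d447c11ea23d88f511e857a88f223d447811ea23b8cf511d857a88ec23d44751dea23a84f511d057a88e823d447315ea23988f511cc17a88e023d446e1dea2370af511b457a88d83bd446c19ea23588f511a867a88d22bd446911ea2340ef511a067a88ce3bd446715ea2328ef5119417a88c843d446311ea2308af5118057a88be3bd445e11ea22e8af5117447a88b23bd445919ea22c82f5116057a88b023d445611ea22b06f5115827a88aa23d445315ea2288ef5113c57a889e23d444a1dea2250af5112447a889023d444711ea2230ef5111867a888a23d444311ea2210ef5110867a888223d444011ea21f8ef510fc67a887e2bd443e11ea21e88f510f047a887423d443811ea2198af510cc17a886433d44311dea2188af510c067a885e2bd442f11ea2168ef510b467a885a0bd442c21ea21608f510ac87a885623d442a11ea21506f510a827a88523bd442815ea2138af5109c47a884c33d442609ea21288f5109047a88463bd442319ea21186f5108457a884223d441f19ea20f8af5107077a883833d441b21ea20c8af5106447a882e43d441711ea20b0ef5105857a882a23d441411ea2098af5104847a88222bd441021ea2080af5104017a881e33d440f15ea2070cf5103857a881423d440815ea2038ef5101c67a880c3bd440619ea2020af5101047a88003bd440019ea2000af50ffc47a87fc23d43fc11ea1fc0ef50fe067a87ee43d43f615ea1fa8af50fd067a87e82bd43f31dea1f98cf50fc877a87e433d43f215ea1f80cf50fc017a87de43d43ef11ea1f708f50fb477a87da2bd43ec15ea1f608f50fac57a87d42bd43ea11ea1f48ef50fa467a87ce2bd43e711ea1f30ef50f9867a87c63bd43e319ea1f108f50f8477a87c233d43e011ea1ef88f50f7c17a87bc33d43de15ea1ee88f50f7047a87b623d43d919ea1ec08f50f5c57a87ae23d43d615ea1eb08f50f5457a87aa23d43d411ea1e990f50f4877a87a433d43cf1dea1e78cf50f3477a879a33d43cd05ea1e606f50f2c57a87943bd43ca19ea1e490f50f2077a878e23d43c61dea1e30cf50f1857a878a3bd43c415ea1e110f50f0847a87823bd43c115ea1e00ef50f0067a878023d43c00dea1e004f50ef487a877633d43bb05ea1dd10f50ee847a877243d43b911ea1dc08f50edc57a876e23d43b705ea1db0ef50ed867a876c2bd43b511ea1da86f50ed427a87682bd43b411ea1da02f50ecc77a876633d43b315ea1d90af50ec847a87603bd43b019ea1d790f50ebc4)))))) (BT.node (nat_lit 396) (BT.node (nat_lit 394) (BT.node (nat_lit 393) (BT.leaf (Bx.mk (nat_lit 0x7a8a6e2bd453621ea29a8af514d087a8a662bd453221ea29908f514bc77a8a5c3bd452e11ea29704f514b457a8a563bd452b19ea29588f514a877a8a523bd452919ea2940ef514a067a8a5023d45280dea29404f5149477a8a4a33d45250dea29284f5149087a8a4823d45221dea2910cf5148457a8a402bd452005ea28f88f5147477a8a3a33d451d15ea28d8af5146877a8a3243d451911ea28c84f5146087a8a3023d451715ea28b88f5145c17a8a2a2bd451511ea28a0ef5145067a8a2633d45130dea2890ef5144857a8a223bd451115ea28810f5144047a8a2013d450d21ea2868af5143447a8a1843d450c15ea2858ef5142c67a8a1443d450a1dea2850af5142847a8a1233d450911ea2840ef5142067a8a0c3bd450609ea2828cf5141457a8a0823d45031dea2818cf5140867a8a042bd450105ea28010f5140047a8a000bd44ff1dea27f8cf513f887a89fc23d44fd21ea27e88f513f037a89f813d44fa05ea27c08f513dc47a89ec3bd44f619ea27a88f513d047a89e62bd44f311ea27910f513c087a89e023d44ef11ea2770af513b477a89da33d44ed15ea27608f513ac47a89d42bd44ea11ea2748ef513a467a89d21bd44e721ea2728ef5139457a89c80bd44e21dea2710cf5138857a89c243d44e111ea27010f5138047a89c01bd44df15ea26f88f5137477a89ba13d44db15ea26d88f5136877a89b433d44d91dea26c8cf5136077a89b033d44d71dea26b8cf5135847a89aa3bd44d519ea26a8af5135057a89a62bd44d311ea2680ef5134067a89a02bd44cf11ea2668af5132c77a899633d44ca1dea26508f5132467a89902bd44c811ea2638ef5131c67a898e1bd44c709ea2630af5131457a898a23d44c41dea2620cf5130c77a898633d44c315ea2610cf5130857a89823bd44be1dea25f0cf512f447a897823d44bb21ea25c90f512e087a897023d44b721ea25b0ef512d867a896c2bd44b519ea25a0af512d047a89662bd44b311ea25908f512c457a896043d44ae21ea25708f512b487a895a23d44ac21ea25590f512a877a895433d44a91dea2548cf5129c47a894a3bd44a415ea2518af5128c47a89443bd44a219ea2508ef5128467a89403bd44a019ea25008f5128037a894013d449e11ea24e8cf5126c87a893623d449921ea24c8ef5126467a893223d44990dea24c84f5126057a892e23d44951dea24a0cf5124c57a892623d449215ea24908f5124047a891e23d448e11ea24588f5122477a89103bd448819ea2428cf5121437a89083bd448419ea2418ef512087))) (BT.leaf (Bx.mk (nat_lit 0x7a8bdc2bd45ee11ea2f68af517b447a8bd843d45ec1dea2f60cf517b037a8bd813d45eb11ea2f50ef517a867a8bd22bd45e911ea2f40af517a047a8bce3bd45e719ea2f386f5179c27a8bcc2bd45e611ea2f28af5179447a8bc843d45e41dea2f20cf5179027a8bc63bd45e319ea2f108f5178457a8bc223d45e015ea2ef90f5177c77a8bbe33d45df11ea2ef86f5177c27a8bbc2bd45da15ea2ec90f5176057a8bae23d45d611ea2ea88f5175417a8ba633d45d21dea2e90cf5174837a8ba413d45d01dea2e80cf5172c17a8b942bd45ca11ea2e48af5172447a8b903bd45c819ea2e310f5171847a8b8a43d45c51dea2e210f5170c47a8b8423d45c015ea2e008f516fc57a8b7e23d45bf05ea2df08f516f477a8b7a33d45bc1dea2de08f516ec77a8b7633d45bb0dea2dd84f516e847a8b723bd45b915ea2dc10f516dc77a8b6e33d45b715ea2db10f516d477a8b6a2bd45b115ea2d888f516bc77a8b5e2bd45ae1dea2d70cf516b047a8b543bd45aa19ea2d50af516a447a8b503bd45a819ea2d40af5169c57a8b4e23d45a615ea2d290f5169447a8b4823d45a215ea2d088f5168047a8b3c43d459d19ea2ce8af5166c47a8b3443d459a11ea2cd06f5166057a8b3023d45971dea2cb86f5165c27a8b2c3bd459619ea2cb0af5165487a8b2a23d459415ea2ca08f5165017a8b262bd45921dea2c90cf5164857a8b240bd459121ea2c810f5163c77a8b1e1bd458f09ea2c710f5163847a8b1a23d458c11ea2c50cf5162837a8b1413d458915ea2c402f5161c77a8b0a43d458415ea2c190f5160c57a8b0623d458219ea2c088f515fc57a8af833d457c0dea2bd90f515ec77a8af623d457a15ea2bd08f515e477a8af233d45790dea2bc84f515e087a8aee2bd457711ea2bb82f515d857a8aec23d457505ea2ba10f515cc57a8ae43bd457219ea2b902f515c447a8ae02bd456f19ea2b70cf515b847a8ada33d456d11ea2b58ef515a847a8ad243d456915ea2b488f515a087a8ace2bd456621ea2b30af5159847a8aca33d456211ea2af0ef5157867a8abc1bd455e09ea2ae8ef5157067a8ab813d455b15ea2ad0af5156847a8ab233d45590dea2ac84f5156087a8aae2bd455711ea2ab82f5155857a8aac23d455515ea2aa82f5155087a8aa02bd455011ea2a788f5153057a8a9823d454b15ea2a588f5152877a8a9433d454a0dea2a504f5152447a8a903bd454815ea2a388f5151857a8a863bd454319ea2a10af514fc47a8a7a3bd453c19ea29d8af514ec47a8a743bd453a19ea29c88f514e05)))) (BT.node (nat_lit 395) (BT.leaf (Bx.mk (nat_lit 0x7a8d4e1bd46a611ea35288f51a8857a8d423bd469f15ea34f0af51a7847a8d3a43d469d11ea34e10f51a6887a8d3243d469911ea34c10f51a5c77a8d2e33d46970dea34b0ef51a5457a8d2a23d469415ea34a08f51a4c77a8d2633d469219ea34908f51a3c87a8d1e23d468e21ea34708f51a3487a8d1843d468b19ea3450af51a2847a8d1233d468911ea34486f51a2067a8d0e2bd468621ea34290f51a1447a8d062bd46811dea3408cf51a0427a8d0023d467f11ea33f0ef519f867a8cfa3bd467d11ea33e0af519f047a8cf63bd467b19ea33d86f519ec27a8cf43bd467a19ea33d0af519e477a8cf22bd467821ea33c08f519dc57a8cea23d467221ea33908f519c827a8ce243d467111ea33788f519b887a8cda3bd466d19ea3360ef519b067a8cd82bd466b21ea33588f519a847a8cd03bd466815ea3338cf5198c87a8cc633d466311ea3310af5198847a8cc23bd465f1dea32f8cf5197877a8cbc33d465e0dea32f04f5197457a8cba23d465c19ea32e0af5196477a8cb233d465915ea32b8ef5195c67a8cae0bd465611ea32a8af5195447a8ca83bd465419ea3298ef5194c67a8ca61bd465309ea32908f5194477a8ca03bd465019ea3280af5193457a8c983bd464c19ea3250cf5192837a8c9413d46491dea3248cf5192057a8c9023d464619ea3230af5191447a8c8833d464415ea32188f5190887a8c8023d463e21ea31e8ef518f467a8c7843d463a15ea31c88f518e047a8c700bd463615ea31b08f518d477a8c6a33d463411ea31988f518c857a8c622bd463111ea3180ef518c067a8c601bd463009ea3178af518b857a8c5c23d462d1dea31686f518b427a8c583bd462c19ea3158ef518ac67a8c561bd462b09ea3150af518a847a8c5233d462915ea31408f5189c57a8c4c2bd462521ea31288f5189077a8c4833d462415ea31202f5188c47a8c4443d462209ea3108ef5188467a8c422bd462019ea3100af5187c87a8c3c3bd461e15ea30e8af5187057a8c363bd461b19ea30d0af5186847a8c2e3bd461719ea30b0ef5185857a8c2a2bd461511ea30a0af5184c77a8c2633d461315ea30982f5184857a8c2243d461111ea30710f5183087a8c1823d460a21ea30490f5182447a8c103bd460819ea30388f5181857a8c0a2bd460511ea3020af5181047a8c062bd460221ea3010ef5180867a8c022bd45ff15ea2fe0af517f047a8bf62bd45fa1dea2fd0cf517e857a8bf22bd45f611ea2f98cf517cc17a8be43bd45f219ea2f90af517c487a8be223d45f015ea2f808f517bc4))) (BT.leaf (Bx.mk (nat_lit 0x7a8ee423d477111ea3b782f51db847a8ed83bd476c19ea3b606f51db027a8ed633d476b0dea3b584f51da877a8ed22bd476911ea3b40ef51da067a8ed01bd476711ea3b288f51d8c47a8ec22bd476015ea3af8af51d7c47a8eb83bd475c11ea3ad0af51d6487a8eb223d475821ea3ac08f51d6017a8eae0bd475521ea3aa88f51d5047a8ea62bd47501dea3a80cf51d4037a8ea013d474f15ea3a70ef51d3867a8e9c1bd474e09ea3a68ef51d3457a8e962bd474b11ea3a50af51d2447a8e903bd474815ea3a20af51d0887a8e8423d474011ea3a002f51cfc17a8e7c23d473d11ea39e0af51cf047a8e722bd473911ea39c0ef51ce067a8e701bd473809ea39b8ef51cdc67a8e6e1bd473709ea39a8cf51cd437a8e6a13d473315ea3990af51cc447a8e6023d472d11ea39588f51ca847a8e523bd472919ea3948af51c9c57a8e4c3bd472619ea39302f51c9487a8e4a23d472411ea39190f51c8877a8e4433d472215ea39088f51c8417a8e403bd472019ea38e8cf51c7417a8e303bd471811ea38c04f51c5857a8e2a3bd47150dea38a0af51c5047a8e243bd471219ea3890af51c4447a8e2033d470f1dea38710f51c3837a8e182bd470b1dea3858cf51c2c57a8e142bd470911ea38482f51c2057a8e0e3bd470719ea38382f51c1857a8e0a43d470415ea3810ef51c0457a8dfc43d46fd15ea37e88f51bf077a8df833d46fb11ea37d08f51be447a8df21bd46f81dea37c0cf51bdc77a8dee33d46f611ea37a8af51bd447a8de83bd46f419ea3798ef51bc877a8de433d46f111ea3780ef51bc067a8dde43d46ef11ea3770ef51bb867a8dd61bd46ea11ea3748ef51ba467a8dd02bd46e715ea3730ef51b9867a8dcc2bd46e605ea3728af51b8c77a8dc42bd46e121ea37010f51b8047a8dbc43d46de11ea36e8ef51b7437a8db63bd46db19ea36d86f51b6c27a8db42bd46d815ea36b90f51b5487a8da63bd46d319ea36984f51b4857a8da40bd46d121ea36888f51b4087a8d9e43d46cc15ea3648af51b1c77a8d8e33d46c715ea36382f51b1847a8d8a2bd46c511ea3620af51b0c47a8d8423d46c115ea36088f51b0067a8d802bd46bf15ea35f0cf51af467a8d7a1bd46bd09ea35e0af51af047a8d743bd46ba19ea35d0af51ae477a8d7233d46b811ea35b8ef51adc67a8d6e2bd46b51dea35a8cf51ad437a8d6a13d46b411ea35988f51ac477a8d6233d46af15ea3570cf51ab857a8d5a2bd46ac1dea3560cf51ab037a8d5813d46ab19ea3550af51aa467a8d502bd46a71dea3538cf51a9c4))))) (BT.node (nat_lit 398) (BT.node (nat_lit 397) (BT.leaf (Bx.mk (nat_lit 0x7a90642bd483211ea41806f520bc57a905c23d482d19ea4168af520b087a905823d482b15ea4150af520a847a90522bd482815ea4138af5209867a904a3bd482415ea41208f5208c57a904623d482219ea4110af5208477a904233d482115ea4100ef5208067a903e2bd481e19ea40e10f5206c57a90323bd481919ea40c88f5206437a90302bd481811ea40b88f5205877a902c33d48151dea40a8cf5205447a902a1bd481509ea40a0af5205047a90263bd481319ea4098af5204877a902433d481215ea40888f5203877a901c33d480e15ea40688f5202c77a90123bd480919ea40484f5202057a900e2bd480711ea4030af5201847a900a3bd480515ea4020ef5200477a900023d47ff11ea3ff86f51ff857a8ffc23d47fd15ea3fe88f51ff087a8ff823d47fb15ea3fd88f51fe847a8ff22bd47f81dea3fc0cf51fe057a8fee43d47f711ea3fb0ef51fd867a8fec2bd47f515ea3fa88f51fd077a8fe833d47f311ea3f908f51fc447a8fdc3bd47ee19ea3f70af51fb487a8fd82bd47ec11ea3f58af51fac47a8fd43bd47ea19ea3f40cf51fa037a8fd013d47e715ea3f30af51f9457a8fc823d47e31dea3f18cf51f8c17a8fc043d47e011ea3ef08f51f7447a8fb82bd47dc11ea3ed82f51f6877a8fb433d47da15ea3ed02f51f6447a8fb043d47d819ea3ec08f51f6037a8fae23d47d611ea3eb02f51f4c77a8fa633d47d30dea3e984f51f4867a8fa41bd47d209ea3e88ef51f4467a8fa21bd47d011ea3e690f51f3057a8f9823d47cb15ea3e588f51f2877a8f9433d47c811ea3e38ef51f1c67a8f8e2bd47c611ea3e288f51f1047a8f862bd47c311ea3e088f51ef847a8f7a23d47bd05ea3de10f51eec47a8f7243d47b911ea3dc10f51ee047a8f700bd47b715ea3da0cf51ecc77a8f662bd47b211ea3d808f51ebc47a8f563bd47ab19ea3d508f51ea477a8f5233d47a915ea3d40af51e9c57a8f4e23d47a611ea3d28af51e9057a8f4643d47a311ea3d108f51e8057a8f4023d479f15ea3cf88f51e7857a8f3c23d479d1dea3ce8cf51e7457a8f3823d479b1dea3cc8af51e6447a8f302bd479715ea3cb08f51e5477a8f282bd479321ea3c90ef51e4457a8f203bd479019ea3c80af51e4017a8f1e2bd478e15ea3c690f51e3447a8f183bd478c15ea3c58af51e2c47a8f142bd478a11ea3c488f51e2077a8f1033d478815ea3c388f51e1847a8f0823d478311ea3c004f51dfc47a8ef43bd477a19ea3bd0af51de457a8ef223d477521ea3ba88f51dd047a8ee63bd477319ea3b98af51dc85))) (BT.leaf (Bx.mk (nat_lit 0x7a919a3bd48cb21ea46510f5232847a91940bd48c921ea46410f5232067a918e23d48c619ea4620ef5231067a91882bd48c315ea46110f5230847a917c3bd48be19ea45e88f522f047a917613d48ba21ea45d08f522e447a91703bd48b819ea45c0af522dc57a916e23d48b611ea45a8ef522d467a916633d48b215ea45810f522c077a916033d48b00dea45804f522bc67a915e2bd48ae11ea45688f522b077a915833d48ac0dea45604f522ac67a91542bd48a921ea45488f5229c57a914c3bd48a619ea4530af5229457a914843d48a41dea4520cf5229037a914813d48a31dea4518cf5228c57a91442bd48a211ea4508af5228447a91403bd48a019ea45006f5228027a913e23d489e15ea44f08f5227477a913a33d489b19ea44d8af5226887a913423d489a09ea44c90f5226447a91321bd48971dea44b8cf5225c57a912a3bd489519ea44a8af5224c87a91263bd489211ea4488af5224447a912023d489005ea4478ef5223c67a911e13d488e19ea4470af5223477a911a33d488c1dea4460cf5223057a91163bd488b19ea44510f5222877a911433d488a0dea44504f5222457a910e3bd488615ea4420ef5221067a91080bd488321ea4418ef5220c67a910623d48830dea44184f5220857a91023bd488119ea44084f5220077a910033d487f15ea43f0af521f487a90fa33d487d0dea43e84f521f077a90f833d487c15ea43d8ef521ec67a90f62bd487a11ea43c8ef521e077a90f02bd48771dea43b8af521d077a90e833d487405ea43990f521cc77a90e633d487311ea43986f521cc27a90e42bd487211ea4388af521c447a90e01bd487009ea4378ef521bc67a90dc23d486d1dea4368af521ac57a90d43bd486a19ea43508f521a837a90d413d48691dea4348cf521a457a90d02bd486721ea43388f5219877a90cc33d486515ea43288f5218c47a90c023d485c15ea42d08f5216487a90b223d485815ea42b8af5215857a90aa2bd48541dea42a0cf5215057a90a63bd485319ea42908f5214457a90a223d485015ea42808f5213c57a909e23d484f05ea4270ef5213867a909a23d484c15ea4258ef5212c67a909623d484b0dea42584f5212857a909423d484915ea42488f5212077a909033d48471dea4238cf5211c47a908e1bd484709ea4228af5211447a908823d484311ea4208ef5210467a90821bd484109ea4200ef5210067a90802bd483f1dea41f8cf520f847a907a23d483b11ea41d02f520e457a90702bd483811ea41b0ef520d857a906a23d48341dea41a0af520cc4)))) (BT.node (nat_lit 399) (BT.leaf (Bx.mk (nat_lit 0x7a92d423d496915ea4b410f525a077a92d033d49680dea4b38cf5259857a92ca2bd496511ea4b282f5259067a92c81bd496409ea4b18ef5258c67a92c62bd496221ea4b10cf5258847a92c23bd496119ea4b08af5258067a92be3bd495f19ea4af08f5257477a92ba33d495c21ea4ae08f5256047a92ae23d495615ea4ab08f5255817a92aa2bd495511ea4aa82f5255077a92a833d49531dea4a98cf5254c57a92a43bd495219ea4a888f5253c47a929c2bd494c15ea4a58ef5252c67a92961bd494b09ea4a50af5252477a929233d49490dea4a484f5251c67a928e1bd49451dea4a20af5250c67a92861bd494309ea4a110f5250467a92822bd494021ea4a008f524fc57a927c2bd493d11ea49e0af524ec47a927443d493a1dea49d0cf524e457a927023d493715ea49b0ef524d047a92623bd493119ea49808f524bc57a925a2bd49291dea4948cf524a077a925033d492711ea4920ef5249067a92482bd49231dea4918cf5248477a924233d492111ea49086f5248427a92403bd492015ea48f8ef5247c67a923c23d491d11ea48e0cf5247027a92362bd491b11ea48d08f5246477a923233d491821ea48c08f5245c57a922a43d491421ea48a08f5244477a922233d491115ea4880af5243c77a921e33d490f0dea48784f5243877a921c33d490d1dea4868cf5243457a921823d490b1dea4858cf5242c57a921443d490a09ea48488f5241c87a920e2bd490711ea48382f5241887a920c2bd490611ea4828ef5241067a920623d490215ea48108f5240477a920233d49010dea48084f5240047a91fe2bd48ff11ea47f0ef523f837a91fc13d48fd21ea47e84f523f057a91f62bd48f911ea47c86f523e067a91ec43d48f61dea47b06f523d457a91e82bd48f31dea4798cf523cc57a91e243d48f021ea47808f523bc77a91de33d48ee21ea47708f523b487a91da33d48ed11ea47610f523b067a91d823d48ec0dea4758ef523ac67a91d43bd48ea19ea4748ef523a467a91d02bd48e715ea47388f5239c17a91cc3bd48e619ea47308f5239837a91cc13d48e51dea4728cf5239457a91c83bd48e419ea47188f5238857a91c423d48e11dea4708cf5238437a91c213d48e015ea47008f5238017a91be2bd48df11ea46f0ef5237867a91ba33d48dc21ea46e0ef5237067a91b823d48dc0dea46e04f5236c87a91b22bd48d911ea46c10f5236047a91ac33d48d515ea46a0ef5235067a91a81bd48d409ea46988f5234847a91a23bd48d10dea46884f5234057a919e3bd48cf0dea46784f523382))) (BT.leaf (Bx.mk (nat_lit 0x7a94041bd4a0209ea50090f5280447a94003bd4a0015ea4ff8ef527f847a93fa2bd49fd11ea4fd06f527e457a93f223d49f719ea4fb86f527dc27a93ec2bd49f51dea4fa8cf527d437a93ea13d49f41dea4fa0cf527cc77a93e633d49f211ea4f88af527c447a93e043d49f01dea4f80cf527bc47a93dc2bd49ee11ea4f68ef527b467a93da1bd49ed09ea4f60af527b047a93d623d49ea1dea4f50cf527a837a93d413d49e915ea4f40ef527a017a93ce23d49e615ea4f290f5279447a93c83bd49e419ea4f20af5279017a93c62bd49e11dea4f08cf5278457a93c20bd49e015ea4ef90f5277c47a93bc43d49dd15ea4ee10f5277047a93b643d49db11ea4ed0af5276477a93b233d49d905ea4ec10f5276047a93ae43d49d61dea4ea88f5275057a93a63bd49d319ea4e986f5274c27a93a443d49d211ea4e904f5273c87a939e2bd49cf11ea4e690f5273077a939833d49cc15ea4e582f5272847a93940bd49c91dea4e48cf5271c47a938e0bd49c621ea4e302f5271467a938843d49c411ea4e18cf5270857a938423d49c01dea4e00cf526fc77a937e33d49be15ea4de90f526f447a93783bd49bc19ea4de0af526f017a937643d49bb11ea4dd0af526e487a93723bd49b919ea4dc86f526e427a93703bd49b615ea4da8ef526d467a936a0bd49b421ea4da08f526d037a936623d49b211ea4d808f526bc87a935e23d49ae1dea4d702f526b487a935a23d49ac21ea4d608f526ac77a935633d49aa1dea4d50cf526a047a934e43d49a621ea4d290f5269467a934833d49a411ea4d206f5268c77a934633d49a315ea4d10ef5268867a934033d499f1dea4cf8cf5267877a933c33d499d1dea4ce8cf5267457a93383bd499c19ea4cd8ef5266c67a93360bd499a19ea4cc88f5265c87a932c43d499611ea4c98ef5264c67a932233d499019ea4c80af5263857a931843d498c11ea4c590f5262c47a93143bd498a19ea4c490f5262477a931223d498821ea4c40cf5262047a930c2bd498611ea4c28af5261447a93083bd498419ea4c206f5261027a93063bd498319ea4c18af5260877a930433d498215ea4c00ef5260067a93000bd497f11ea4bf08f525f487a92fa23d497c21ea4be08f525ec47a92f43bd497a19ea4bc8ef525e057a92ee2bd49761dea4bb06f525d827a92ea33d49741dea4ba0cf525cc77a92e633d497309ea4b90af525c847a92e22bd497111ea4b80ef525c067a92e01bd497009ea4b78af525bc47a92dc2bd496e11ea4b68af525b447a92d823d496c05ea4b58ef525ac6))))))) (BT.node (nat_lit 408) (BT.node (nat_lit 404) (BT.node (nat_lit 402) (BT.node (nat_lit 401) (BT.leaf (Bx.mk (nat_lit 0x7a95381bd4a9c09ea54d8ef52a6c67a95362bd4a9a15ea54b02f52a5487a952a23d4a941dea54a0cf52a5057a952623d4a930dea5490ef52a4867a95242bd4a9121ea54888f52a4077a952033d4a9015ea5470ef52a3857a951a2bd4a8c11ea5458ef52a2c67a95162bd4a8a21ea54508f52a2467a95122bd4a8711ea54386f52a1857a950a2bd4a8315ea54188f52a0c17a95042bd4a8211ea54102f52a0487a95023bd4a8119ea54086f52a0427a95003bd4a8019ea5400af529fc77a94fe33d4a7f15ea53f0ef529f867a94fc2bd4a7d15ea53d88f529e847a94f233d4a7915ea53c08f529dc77a94ee33d4a7715ea53b10f529d847a94ea3bd4a7519ea53a8af529d057a94e62bd4a7221ea53908f529c827a94e22bd4a7015ea53808f529bc87a94de23d4a6e1dea5370af529b457a94d843d4a6c11ea5358ef529ac67a94d62bd4a6a15ea53508f529a447a94ce2bd4a651dea5328cf5299457a94c82bd4a6411ea53190f5298c47a94c43bd4a6219ea5310af5298457a94c01bd4a5f1dea52f8cf5297c17a94bc2bd4a5e11ea52e8af5297447a94b82bd4a5b21ea52d8ef5296c67a94b61bd4a5b09ea52d0ef5296867a94b42bd4a591dea52c8cf5296457a94b02bd4a5811ea52b8af5295c47a94ac33d4a560dea52b04f5295477a94aa33d4a5515ea52a0af5295047a94a62bd4a5311ea5290ef5294867a94a23bd4a5119ea5288af5294047a949c3bd4a4e19ea5270af5293477a949a33d4a4d15ea52608f5292817a94903bd4a4819ea5240af5291c67a948c2bd4a4611ea5228af5291447a948843d4a441dea52204f5290c57a94843bd4a4215ea52102f5290487a948223d4a4015ea52002f528fc77a947e33d4a3f15ea51f82f528f457a947843d4a3c11ea51d8af528e887a94743bd4a3a09ea51c88f528dc47a946c43d4a3611ea51a8ef528cc77a946633d4a3315ea51902f528c447a94620bd4a3015ea5178af528b857a945c23d4a2d11ea51610f528b067a94581bd4a2c09ea5150ef528a867a94540bd4a2911ea5140af528a047a94500bd4a2719ea5128af5288c77a944633d4a2115ea5100ef5288067a943e23d4a1d11ea50e0af5287047a943643d4a1b19ea50d86f5286847a942c43d4a1611ea50a90f5285447a942843d4a1321ea50908f5284447a941e2bd4a0f11ea50710f5283877a941c33d4a0e0dea50704f5283457a94182bd4a0c11ea50590f5282c77a941633d4a0b0dea50584f5282847a94140bd4a0915ea50482f5281457a94062bd4a0311ea5010ef528086))) (BT.leaf (Bx.mk (nat_lit 0x7a968c2bd4b4611ea5a290f52d1087a968433d4b4205ea5a08ef52d0467a967e2bd4b3e11ea59f02f52cf447a96780bd4b3b19ea59d08f52ce467a96701bd4b3719ea59b0af52cd477a966a33d4b341dea59a0cf52ccc57a96620bd4b3015ea5978af52cb887a965c23d4b2d15ea59610f52cb047a965443d4b2a19ea59506f52ca427a96503bd4b2819ea5930ef52c9867a964c2bd4b2421ea5920af52c9047a964643d4b2315ea5910ef52c8867a96440bd4b2121ea5908ef52c8447a964043d4b2019ea59008f52c7c57a963e23d4b1e15ea58f08f52c7487a963a3bd4b1d19ea58e88f52c7437a963a13d4b1c1dea58e0af52c6c47a963423d4b181dea58c0cf52c5c57a962e23d4b161dea58b06f52c5827a962a3bd4b1421ea5898ef52c4c67a96222bd4b0f11ea5870ef52c3867a961a2bd4b0d11ea5860af52c3047a96163bd4b0b19ea58586f52c2c27a96143bd4b0a19ea5848ef52c2467a96122bd4b0711ea58308f52c1457a960823d4b0321ea58090f52c0447a960043d4aff1dea57f8cf52bf867a95f83bd4afc19ea57d90f52be887a95f423d4af921ea57c88f52be077a95f033d4af815ea57b88f52bd857a95ea23d4af405ea57908f52bc067a95e013d4aef15ea57788f52bb867a95dc1bd4aee09ea5768af52bb447a95d82bd4aec11ea57602f52bac77a95d633d4aeb0dea57584f52ba877a95d433d4aea15ea5748ef52ba047a95ce2bd4ae619ea57308f52b9837a95cc13d4ae511ea57208f52b8c77a95c633d4ae315ea5710af52b8847a95c223d4ae015ea57008f52b8017a95be2bd4adf11ea56f08f52b7477a95ba13d4adc21ea56e08f52b6c77a95b633d4adb15ea56c88f52b6047a95ae23d4ad511ea56a0cf52b4c57a95a433d4ad215ea5688ef52b4467a95a02bd4acf1dea5678cf52b3c47a959e1bd4acf09ea5670ef52b3857a959a3bd4acd15ea56608f52b2847a959223d4ac71dea5630ef52b1867a958a3bd4ac519ea5620ef52b1067a95863bd4ac319ea5618af52b0877a958433d4ac115ea5600ef52b0017a957e23d4abe15ea55e8ef52af417a957833d4abc11ea55d8ef52aec57a957443d4aba11ea55c8af52adc87a956c43d4ab611ea55990f52acc47a956243d4ab015ea55790f52abc67a955e1bd4aae1dea5570af52ab447a95582bd4aac11ea5558af52aac47a95522bd4aa81dea5540cf52aa057a954e2bd4aa421ea55208f52a8c47a954443d4aa121ea54f8cf52a7c57a953c2bd4a9e11ea54f02f52a7457a953a23d4a9d05ea54e10f52a707)))) (BT.node (nat_lit 403) (BT.leaf (Bx.mk (nat_lit 0x7a97dc3bd4bee15ea5f68ef52fb467a97da2bd4bec11ea5f50ef52fa867a97d40bd4be911ea5f40af52fa047a97ce23d4be615ea5f290f52f9477a97ca33d4be50dea5f284f52f8c47a97c60bd4be021ea5f008f52f7c47a97b623d4bda19ea5ed0af52f5477a97a83bd4bd415ea5e98af52f4887a97a43bd4bd219ea5e906f52f4827a97a223d4bcd15ea5e60cf52f3017a979223d4bc819ea5e406f52f1877a978c33d4bc615ea5e288f52f1057a978823d4bc315ea5e10af52f0847a978023d4bbf05ea5df10f52ef877a977c33d4bbd15ea5de0af52ef047a97763bd4bbb19ea5dd08f52ee447a97702bd4bb811ea5db8af52edc47a976c2bd4bb515ea5da0af52ed047a976623d4bb221ea5d90cf52ec837a976223d4bb011ea5d802f52ebc77a975e33d4bad05ea5d60ef52eb067a975623d4baa15ea5d508f52ea457a975043d4ba81dea5d40cf52ea037a975013d4ba61dea5d30cf52e9817a974a23d4ba415ea5d190f52e8c77a974633d4ba311ea5d186f52e8c27a974043d4ba011ea5d004f52e7c77a973e33d4b9f15ea5ce8af52e7447a97382bd4b9c11ea5cd8af52e6c47a97342bd4b9915ea5cc88f52e6077a973033d4b980dea5cb8af52e5c47a972c2bd4b9611ea5ca88f52e5057a972643d4b931dea5c98cf52e4847a972223d4b9019ea5c80af52e3c47a971c23d4b8b21ea5c588f52e2867a97142bd4b8711ea5c30ef52e1837a970c13d4b8511ea5c18ef52e0c67a97043bd4b8219ea5c090f52e0467a97021bd4b801dea5c00cf52dfc77a96fc3bd4b7e19ea5bf0af52df447a96f83bd4b7c19ea5be0af52dec47a96f233d4b7915ea5bc0ef52ddc47a96ec2bd4b751dea5ba8cf52dd417a96e843d4b740dea5b988f52dcc17a96e423d4b711dea5b80cf52dc047a96de33d4b6e11ea5b68cf52db087a96d813d4b6a1dea5b50cf52da817a96d243d4b6911ea5b410f52da047a96d013d4b671dea5b38cf52d9857a96ca3bd4b6519ea5b282f52d8c87a96c623d4b621dea5b10cf52d8857a96c22bd4b6111ea5b00af52d7c77a96be33d4b5e1dea5ae90f52d7447a96ba1bd4b5c19ea5ae0af52d6c57a96b623d4b5a21ea5ad0ef52d6867a96b423d4b5a0dea5ac8ef52d6467a96b03bd4b5819ea5ab8ef52d5c67a96ae2bd4b5521ea5aa88f52d5087a96a823d4b531dea5a98cf52d4c17a96a443d4b5211ea5a890f52d3847a969a23d4b4c1dea5a60cf52d3027a969643d4b4b11ea5a510f52d2847a969413d4b4921ea5a488f52d2437a968e43d4b4715ea5a388f52d188))) (BT.leaf (Bx.mk (nat_lit 0x7a992a33d4c941dea64a08f5324c67a992623d4c9211ea6488ef5324467a992223d4c910dea64884f5324077a992033d4c8f19ea6478af5323877a991c33d4c8d1dea6468cf5323457a99182bd4c8c11ea64588f5322c17a99143bd4c8a19ea6448ef5322467a99122bd4c8819ea6438cf5321877a990a3bd4c8519ea6420cf5320c57a99042bd4c8211ea6408ef5320467a99021bd4c8109ea6400ef5320067a99002bd4c7f15ea63f88f531f857a98fa3bd4c7d19ea63e86f531f427a98f83bd4c7c19ea63e0af531ec77a98f633d4c7b15ea63d0ef531e867a98f243d4c7911ea63c0ef531e067a98f02bd4c7721ea63b88f531d877a98ec33d4c7615ea63a8af531d447a98e82bd4c7411ea6398af531cc47a98e43bd4c7219ea6388af531c077a98e033d4c700dea6378cf531b877a98dc33d4c6e15ea63608f531b017a98d423d4c6919ea63484f531a047a98ce2bd4c6621ea63308f5319487a98ca23d4c641dea6320af5318c57a98c623d4c6215ea62f0af5317847a98ba0bd4c5b21ea62d88f5316887a98b423d4c591dea62c8cf5316417a98b043d4c5811ea62b90f5315c67a98ae23d4c561dea62b0cf5315487a98a83bd4c531dea6298cf5314857a98a423d4c5121ea62888f5313c47a989c43d4c4e11ea62690f5313087a989643d4c4b11ea6250af5312847a98922bd4c4911ea62408f5311c67a988e1bd4c461dea62288f5311417a988623d4c4211ea6208cf5310427a988043d4c4011ea61f8ef530fc67a987e2bd4c3e11ea61e8af530f077a987833d4c3c15ea61d8ef530ec67a98762bd4c3a11ea61c8af530e447a98702bd4c3811ea61b0af530d047a986643d4c3311ea6190cf530c477a986223d4c3019ea61808f530bc47a985c43d4c2e11ea6168ef530b467a985a2bd4c2b21ea61588f530a887a985243d4c2821ea61390f5309c67a984e23d4c270dea61384f5309877a984c33d4c2511ea6120cf5309037a984623d4c2215ea61108f5308447a98402bd4c2011ea60f8ef5307857a983a23d4c1b1dea60d0af5306467a98303bd4c1819ea60b8cf5305887a982c3bd4c1609ea60a8af5305077a98280bd4c1219ea60902f5304447a98202bd4c0f1dea6078cf5303877a981c33d4c0d21ea60688f5302c87a981623d4c0921ea60410f5301857a980a2bd4c0511ea60210f5301077a980833d4c0311ea60108f5300817a98002bd4bfe19ea5fd08f52fe447a97f03bd4bf819ea5fb88f52fd857a97ea43d4bf51dea5fa8cf52fcc87a97e623d4bf221ea5f908f52fc08))))) (BT.node (nat_lit 406) (BT.node (nat_lit 405) (BT.leaf (Bx.mk (nat_lit 0x7a9a8223d4d4019ea6a008f534fc47a9a7c23d4d3d1dea69e8cf534f077a9a7833d4d3b15ea69d88f534e877a9a7413d4d3921ea69c08f534d887a9a6a43d4d3511ea69a10f534cc87a9a6423d4d3115ea69888f534c087a9a6023d4d2f21ea69690f534b087a9a5823d4d2b21ea69510f534a477a9a5233d4d2915ea6940ef534a057a9a4e2bd4d2711ea6930af5349847a9a4c0bd4d251dea6920ef5349067a9a482bd4d2221ea69108f5348487a9a403bd4d1f21ea68f88f5347847a9a3a3bd4d1d11ea68e84f5347077a9a3833d4d1a1dea68d0cf5346457a9a2e23d4d1511ea68a08f5344c47a9a2443d4d1115ea68888f5344047a9a1e23d4d0e1dea6868ef5343467a9a1823d4d0b11ea6850ef5342467a9a103bd4d0819ea6838af5341c47a9a0c2bd4d0611ea6828ef5341467a9a0a2bd4d0315ea68188f5340877a9a0433d4d011dea6808cf5340077a9a0033d4cff1dea67f8cf533f857a99fc23d4cfd11ea67e0ef533f067a99f82bd4cfb21ea67d0ef533e867a99f243d4cf911ea67c86f533e077a99f033d4cf815ea67b8af533d857a99ec23d4cf51dea67a0cf533cc47a99e42bd4cf211ea6788ef533c467a99e223d4cf10dea67884f533c067a99de33d4cee1dea6770cf533b067a99d43bd4cea19ea6750af533a477a99d03bd4ce819ea6738af5339c47a99cc2bd4ce611ea67288f5339047a99c633d4ce215ea67108f5338457a99c023d4cde1dea66f0af5337087a99b823d4cdb15ea66d0ef5336477a99b02bd4cd811ea66b8af5335c17a99ac33d4cd519ea66a8af5335077a99a833d4cd31dea6698cf5334867a99a22bd4cd111ea66808f5333c67a999e13d4cce15ea66708f5333817a99983bd4ccc15ea66590f5332c47a99943bd4cca19ea6650af5332437a99903bd4cc819ea6640af5331857a998a43d4cc515ea6620cf5330c87a998623d4cc221ea6610cf5330847a99822bd4cc111ea6600af5330047a997e3bd4cbf19ea65f88f532fc37a997e13d4cbd1dea65e8cf532f077a997833d4cbb21ea65c0ef532e067a996e43d4cb711ea65b08f532d467a996843d4cb411ea6598ef532cc67a99662bd4cb211ea6588af532c447a996023d4caf1dea6570af532b847a995a23d4cad05ea65588f532a857a995423d4ca915ea65488f532a057a995023d4ca611ea65288f5329087a994643d4ca311ea6510af5328457a99402bd4ca005ea64f0af5327847a993a2bd4c9b1dea64d8af5326847a993413d4c991dea64c8cf5326457a992e43d4c9615ea64b08f532547))) (BT.leaf (Bx.mk (nat_lit 0x7a9bba3bd4ddd19ea6ed88f5376077a9bb033d4dd615ea6ea08f5375017a9ba443d4dd211ea6e88ef5374467a9ba22bd4dd021ea6e808f5373c77a9b9e33d4dcf15ea6e708f5373447a9b983bd4dcc19ea6e60af5372c47a9b9423d4dc715ea6e388f5371857a9b8c23d4dc521ea6e28ef5371467a9b8a1bd4dc509ea6e20ef5371067a9b882bd4dc321ea6e188f5370877a9b842bd4dc121ea6e088f5370077a9b8033d4dc015ea6df90f536fc47a9b7c3bd4dbe19ea6df0af536f447a9b7823d4dbb11ea6dd10f536e447a9b703bd4db819ea6dc0af536dc87a9b6e23d4db61dea6db0cf536d857a9b6a23d4db411ea6d98af536c847a9b623bd4db115ea6d80af536c047a9b5c23d4dac15ea6d608f536ac57a9b5623d4daa21ea6d50ef536a867a9b541bd4daa09ea6d48ef536a467a9b522bd4da811ea6d38ef5369c67a9b4e2bd4da621ea6d308f5369467a9b4a2bd4da415ea6d208f5368c57a9b4433d4da20dea6d104f5368467a9b421bd4da109ea6d00af5367c87a9b3e13d4d9e1dea6cf0cf5367857a9b3c0bd4d9d15ea6ce88f5367047a9b361bd4d9b09ea6cd0ef5366867a9b342bd4d9911ea6cc0af5366047a9b2e23d4d9615ea6cb08f5365477a9b2a33d4d9515ea6ca0ef5365067a9b282bd4d9311ea6c908f5364477a9b2233d4d9115ea6c78ef5363c67a9b1c2bd4d8e11ea6c688f5363047a9b163bd4d8a15ea6c48ef5362467a9b120bd4d8821ea6c408f5361857a9b0823d4d8311ea6c10ef5360867a9b023bd4d8019ea6c008f535fc47a9afc2bd4d7e11ea6be8ef535f467a9afa1bd4d7c1dea6bd8af535ec47a9af42bd4d7a11ea6bc8af535e077a9af033d4d7805ea6bb88f535d487a9ae82bd4d7205ea6b810f535bc57a9adc43d4d6d21ea6b68ef535b427a9ad82bd4d6c11ea6b58af535ac47a9ad43bd4d6921ea6b40cf5359c47a9acc33d4d6611ea6b306f5359477a9aca33d4d6415ea6b208f5358c77a9ac633d4d630dea6b184f5358847a9ac22bd4d6111ea6b00af5357c77a9abe0bd4d5e21ea6ae8ef5357467a9aba2bd4d5c11ea6ad88f5356c17a9ab43bd4d591dea6ac8cf5356457a9ab043d4d5819ea6ac06f5355c47a9aac23d4d551dea6aa0cf5354c57a9aa623d4d521dea6a906f5354827a9aa22bd4d5021ea6a78ef5353c67a9a9e0bd4d4e21ea6a708f5353447a9a982bd4d4c11ea6a58ef5352c67a9a942bd4d4a11ea6a48af5352447a9a903bd4d4819ea6a38ef5351c67a9a8e2bd4d4615ea6a28af5351047a9a8623d4d421dea6a10cf535047)))) (BT.node (nat_lit 407) (BT.leaf (Bx.mk (nat_lit 0x7a9d262bd4e9311ea7490af53a4847a9d2213d4e901dea7480cf53a4057a9d1e2bd4e8e11ea74688f53a2887a9d123bd4e881dea7440cf53a1c77a9d0e33d4e8521ea74288f53a1087a9d0823d4e8315ea74188f53a0877a9d0433d4e820dea7408af53a0447a9d002bd4e8011ea73f8ef539fc67a9cfe1bd4e7f09ea73f10f539f847a9cf83bd4e7c19ea73d88f539e877a9cf243d4e7911ea73c0ef539e067a9cf02bd4e771dea73a08f539cc47a9ce43bd4e720dea7388af539c447a9ce03bd4e7009ea7378af539b857a9cdc23d4e6e05ea7368cf539b457a9cd823d4e6b1dea7358cf539ac57a9cd443d4e691dea7348cf5399c47a9cca3bd4e6519ea73210f5399047a9cc643d4e6311ea7310af5398847a9cc22bd4e6111ea73082f5398067a9cbe3bd4e5e15ea72e8af5397447a9cb83bd4e5c19ea72e06f5397027a9cb63bd4e5b19ea72d0ef5396867a9cb42bd4e5915ea72c88f5396417a9cb02bd4e570dea72b0ef5395857a9caa3bd4e5519ea72a8af5395047a9ca63bd4e5315ea72910f5394847a9ca22bd4e5111ea7280af5393c47a9c9c2bd4e4e11ea7260ef5393067a9c982bd4e4a19ea72508f5392837a9c923bd4e4919ea72408f5391c47a9c8e0bd4e4415ea72208f5390c57a9c8623d4e421dea7210cf5390837a9c8413d4e401dea72004f538fc57a9c7c33d4e3e05ea71e90f538f477a9c7a13d4e3c15ea71d8af538ec47a9c742bd4e3a11ea71c8af538e447a9c702bd4e3721ea71b8ef538dc37a9c6c2bd4e3515ea7198ef538cc67a9c660bd4e3111ea71882f538c077a9c6033d4e2e05ea7160af538a877a9c503bd4e2615ea7128af5389447a9c4823d4e2321ea7118cf5388c37a9c4423d4e2111ea71082f5388067a9c3a2bd4e1c19ea70d88f5386077a9c3033d4e1805ea70b0af5385487a9c2a3bd4e1519ea70a88f5385437a9c2a13d4e1415ea7098af5384877a9c2433d4e1115ea7080af5383817a9c1a2bd4e0c15ea70590f5382c77a9c1633d4e0b0dea70584f5382477a9c0e2bd4e0711ea70310f5381877a9c0c23d4e060dea70304f5381447a9c0823d4e0111ea7000af5380047a9bfe33d4dff0dea6fd8ef537ec67a9bf443d4dfa11ea6fc8ef537e457a9bea43d4df515ea6fa88f537d087a9be643d4df31dea6f910f537bc57a9bdc3bd4dee19ea6f690f537b477a9bda13d4dec1dea6f60cf537b057a9bd643d4deb19ea6f586f537a877a9bd42bd4de911ea6f28af5379087a9bc63bd4de319ea6f182f5378887a9bc423d4ddf15ea6ef88f537785))) (BT.leaf (Bx.mk (nat_lit 0x7a9e5633d4f2b15ea79508f53ca447a9e503bd4f2819ea7940af53c9c57a9e4e23d4f2611ea7928ef53c9437a9e4a13d4f2421ea79204f53c8c77a9e4633d4f2315ea7910af53c8487a9e4223d4f210dea7900ef53c8067a9e402bd4f2005ea78f88f53c7857a9e3c23d4f1d1dea78e0cf53c7057a9e363bd4f1b19ea78d8af53c6847a9e323bd4f1909ea78c0ef53c6067a9e302bd4f171dea78b8cf53c5c57a9e2a3bd4f1505ea78a0ef53c5047a9e2813d4f131dea7898cf53c4c57a9e2233d4f0f15ea7870ef53c3867a9e1c0bd4f0d15ea78610f53c2c77a9e1633d4f0921ea78488f53c2077a9e1033d4f0815ea78390f53c1877a9e0c2bd4f0521ea78288f53c1067a9e082bd4f0311ea7810af53c0477a9e0233d4f0115ea7800cf53bfc47a9dfc2bd4efd15ea77d8ef53bec67a9df423d4ef911ea77c0ef53be067a9df02bd4ef715ea77b88f53bcc87a9de623d4ef21dea7790cf53bc857a9de243d4ef111ea7780ef53bc067a9de02bd4eef15ea77788f53bb847a9dda3bd4eed19ea77608f53bac87a9dd623d4eea19ea7750af53ba457a9dd223d4ee815ea77408f53b9c77a9dcc3bd4ee619ea7730af53b9477a9dca33d4ee515ea7720ef53b9067a9dc82bd4ee31dea7718cf53b8c57a9dc43bd4ee219ea7710af53b8477a9dc233d4ee115ea77008f53b7c77a9dbe33d4edf15ea76f08f53b7817a9db423d4ed911ea76c0cf53b6027a9dae23d4ed611ea7698af53b4c47a9da41bd4ed209ea7688af53b4047a9d9e3bd4ecf19ea76782f53b3847a9d9a43d4ecd11ea76608f53b2c47a9d942bd4ec91dea7648cf53b2417a9d902bd4ec811ea7630ef53b1867a9d8c1bd4ec609ea7628cf53b1457a9d882bd4ec411ea76188f53b0877a9d8433d4ec115ea7600ef53b0067a9d800bd4ebf15ea75f0ef53af867a9d7c0bd4ebd21ea75e8ef53af447a9d7a13d4ebc15ea75d90f53aec47a9d743bd4eba19ea75d0af53ae817a9d7223d4eb909ea75c0ef53ae067a9d702bd4eb711ea75b0ef53ad867a9d6c2bd4eb511ea75988f53acc17a9d6223d4eb011ea75786f53ab847a9d5a2bd4ead11ea7560ef53ab067a9d562bd4eab11ea7550af53aa847a9d522bd4ea81dea7540cf53aa017a9d4e43d4ea711ea75310f53a9847a9d4a3bd4ea519ea7518af53a8887a9d4423d4ea119ea7508af53a8417a9d3e43d4e9f19ea74f86f53a7857a9d3a3bd4e9d19ea74e0ef53a6c77a9d3633d4e9915ea74c88f53a6077a9d3033d4e980dea74c04f53a5c77a9d2e33d4e9611ea74a88f53a507)))))) (BT.node (nat_lit 412) (BT.node (nat_lit 410) (BT.node (nat_lit 409) (BT.leaf (Bx.mk (nat_lit 0x7a9f9a3bd4fcd19ea7e60ef53f3067a9f982bd4fcb1dea7e58cf53f2c57a9f942bd4fca11ea7e490f53f2447a9f9213d4fc821ea7e408f53f1887a9f8c23d4fc515ea7e10af53f0817a9f822bd4fc01dea7e00cf53f0037a9f8013d4fbf15ea7df88f53ef857a9f7c23d4fbe05ea7de8ef53ef467a9f783bd4fbc19ea7dd8ef53ee877a9f702bd4fb805ea7db8ef53edc67a9f6e1bd4fb709ea7db0ef53ed867a9f6a3bd4fb519ea7da0ef53ed067a9f682bd4fb319ea7d98af53ec457a9f6223d4fb011ea7d78ef53eb877a9f5c33d4fae15ea7d68af53eb447a9f5823d4fab19ea7d586f53eac27a9f543bd4faa19ea7d50af53ea477a9f5233d4fa915ea7d38ef53e9c67a9f4e2bd4fa61dea7d28af53e9057a9f4823d4fa31dea7d18cf53e8c37a9f4613d4fa21dea7d10cf53e8487a9f403bd4fa019ea7d00af53e7c87a9f3e23d4f9e15ea7ce90f53e7447a9f382bd4f9b15ea7cd0ef53e6857a9f323bd4f9919ea7cc8af53e6047a9f2e2bd4f9615ea7cb08f53e5817a9f282bd4f9411ea7c98af53e4c47a9f242bd4f9211ea7c888f53e3857a9f1c23d4f8d11ea7c610f53e2c77a9f1633d4f8a15ea7c48af53e2447a9f103bd4f8819ea7c406f53e2027a9f0e43d4f8711ea7c290f53e1447a9f0643d4f8221ea7c108f53e0487a9f0043d4f7f1dea7bf8cf53df877a9efc33d4f7d1dea7be8cf53df057a9ef623d4f7a11ea7bc10f53de047a9eee3bd4f7719ea7bb8af53dd847a9eea33d4f7515ea7ba0af53dd047a9ee623d4f7211ea7b88ef53dc437a9ee043d4f6f1dea7b78cf53dbc57a9eda43d4f6d11ea7b608f53db017a9ed43bd4f6919ea7b40ef53da067a9ece2bd4f6711ea7b30af53d9477a9eca33d4f650dea7b284f53d9087a9ec83bd4f6419ea7b206f53d9027a9ec62bd4f621dea7b10cf53d8857a9ec40bd4f6115ea7b00ef53d8057a9ebe2bd4f5e15ea7ae90f53d7017a9eb443d4f581dea7ac0cf53d6017a9eae23d4f5611ea7aa0ef53d5067a9ea82bd4f5321ea7a988f53d4857a9ea223d4f5021ea7a78ef53d3877a9e9c33d4f4a1dea7a50cf53d2857a9e940bd4f4915ea7a488f53d1047a9e880bd4f4111ea7a010f53d0067a9e8023d4f3f15ea79f88f53cf857a9e7c23d4f3d21ea79e8ef53cf467a9e7a1bd4f3d09ea79e0ef53cf067a9e782bd4f3b1dea79d8cf53cec57a9e743bd4f3a19ea79d0af53ce057a9e700bd4f3711ea79a90f53cd077a9e6833d4f3415ea79a02f53ccc57a9e6623d4f3111ea79882f53cc047a9e5a3bd4f2d19ea79608f53cac7))) (BT.leaf (Bx.mk (nat_lit 0x7aa0ca2bd506511ea83108f5418477aa0c233d506115ea82f8ef5417c67aa0be2bd505e11ea82e88f5416c47aa0b43bd505a15ea82c88f5416077aa0b033d505815ea82b88f5415847aa0a82bd505411ea82988f5414877aa0a433d505121ea8280ef5414067aa0a02bd504e21ea8270af5413487aa09a2bd504c21ea8260ef5412c87aa09633d504a15ea82508f5412457aa09223d50481dea8240cf5412037aa09013d50471dea8238cf5411847aa08a23d50441dea82206f5410c57aa08623d504215ea82108f5410477aa08233d504011ea81f8af540fc47aa07c3bd503e19ea81f08f540f837aa07c13d503d1dea81e8cf540f457aa07843d503b1dea81d8af540e887aa07423d50391dea81c8cf540e457aa07023d503715ea81b0cf540d857aa06a23d503411ea8198cf540c877aa06433d503215ea81888f540bc77aa05e33d502f15ea81690f540b417aa05843d502b21ea8150cf540a447aa05213d50281dea8140cf540a057aa04e43d502711ea81386f5409877aa04c33d502615ea8128af5409447aa0482bd502411ea81188f5408c17aa0443bd502119ea81008f5407c47aa03c3bd501e0dea80e8af5407447aa03823d501b1dea80d8cf5406477aa03233d501905ea80c08f5405c57aa02c3bd501605ea80a90f5405467aa02a23d50150dea80a08f5404c57aa02623d50121dea8090cf5404837aa02413d50111dea8088cf5404047aa01e2bd500f11ea8070cf5403847aa01a3bd500d19ea80686f5403427aa01833d500c15ea8058cf5402477aa01233d500905ea80408f5401857aa00a3bd500519ea8020af5401047aa0062bd500311ea8010ef5400477aa00233d50001dea7ff8af53ffc47a9ffc23d4ffd11ea7fe86f53ff427a9ff63bd4ffb19ea7fd0af53fe847a9ff22bd4ff911ea7fc0ef53fe067a9fee3bd4ff719ea7fb88f53fdc37a9fee13d4ff61dea7fa8ef53fd467a9fea23d4ff50dea7fa84f53fd077a9fe833d4ff221ea7f908f53fc477a9fe233d4ff011ea7f78af53fbc47a9fdc3bd4fee19ea7f706f53fb477a9fda33d4fec21ea7f606f53fac57a9fd623d4fea11ea7f30af53f9447a9fc643d4fe311ea7f08cf53f8087a9fc03bd4fe011ea7ef90f53f7847a9fba3bd4fdd19ea7ee8af53f7087a9fb823d4fdb1dea7ed8cf53f6c57a9fb443d4fda11ea7ec8ef53f6457a9fb043d4fd719ea7eb8af53f5857a9fac23d4fd511ea7ea0af53f4c57a9fa43bd4fd219ea7e906f53f4827a9fa22bd4fd015ea7e808f53f3c77a9f9e33d4fcf0dea7e784f53f385)))) (BT.node (nat_lit 411) (BT.leaf (Bx.mk (nat_lit 0x7aa1d433d50ea05ea87490f543a447aa1d043d50e81dea87408f543a027aa1ce2bd50e711ea8728af5439057aa1c823d50e31dea8718cf5438c37aa1c613d50e21dea8710cf5438857aa1c23bd50e119ea8700af5438047aa1be2bd50de1dea86f0cf5437847aa1bc1bd50de09ea86e8ef5437467aa1b833d50dc15ea86d8ef5436c67aa1b62bd50da1dea86d0cf5436477aa1b233d50d711ea86b08f5434887aa1a423d50d015ea8678ef5433857aa19843d50cc11ea86590f5432c47aa1943bd50ca19ea86502f5432487aa19223d50c821ea86408f5431c77aa18e33d50c61dea8630cf5431477aa18a33d50c415ea86208f5430c57aa18623d50c21dea8610cf5430837aa18413d50c121ea86088f5430087aa17c43d50be15ea85f08f542f487aa17843d50bb21ea85d0ef542e867aa1742bd50b911ea85b90f542dc47aa16c43d50b611ea85b02f542d487aa1682bd50b411ea8598af542cc47aa1642bd50b211ea85888f542c077aa16033d50b00dea85804f542bc57aa15c3bd50ae19ea85702f542b457aa1582bd50ac11ea8558ef542ac67aa15623d50ab0dea85584f542a477aa15233d50a905ea8540af542a047aa14e2bd50a711ea85310f5429877aa14c33d50a611ea85306f5429827aa14a43d50a511ea8520ef5429067aa1482bd50a311ea8510ef5428867aa1442bd50a01dea8500cf5428017aa13e2bd509f11ea84f0af5427847aa13a43d509d1dea84e8cf5427447aa13a1bd509d09ea84e0af5426857aa13423d509915ea84c88f5426077aa1301bd50971dea84b8cf5425c57aa12a3bd509519ea84a82f5425057aa12823d509405ea84988f5424887aa1243bd509219ea84908f5424837aa12413d509121ea84888f5424077aa12033d509015ea8450af5422847aa1122bd508911ea8440ef5422067aa11023d50880dea84404f5421867aa10a2bd508511ea8420af5421047aa10643d50831dea8418cf5420c37aa10613d508221ea8408ef5420467aa1022bd508021ea83f8ef541fc67aa0fe2bd507d1dea83e8cf541f457aa0f43bd507a05ea83c8af541e447aa0f20bd507815ea83c08f541dc87aa0ee3bd507719ea83b88f541dc37aa0ee13d507611ea83a8ef541d467aa0ea2bd507405ea8398af541c847aa0e40bd50711dea8388cf541c437aa0e213d50701dea8378ef541bc67aa0de2bd506d1dea83682f541b057aa0d823d506c05ea8358af541ac47aa0d43bd506a19ea83508f541a837aa0d413d50681dea8340cf541a057aa0ce43d50661dea8330cf541985))) (BT.leaf (Bx.mk (nat_lit 0x7aa3403bd519f21ea8cf8cf5467847aa33a3bd519d15ea8cd90f5466c47aa33443d519a11ea8cc90f5466057aa32e2bd519711ea8cb0ef5465867aa32c1bd519609ea8ca8af5465057aa3263bd519319ea8c986f5464c27aa3243bd519215ea8c88ef5464467aa32023d518f1dea8c78cf5463c57aa31c23d518d1dea8c68af5463087aa31823d518b15ea8c48cf5462457aa30e2bd518711ea8c288f5460c47aa30443d518211ea8bf10f545f447aa2f42bd517915ea8bc88f545e077aa2f02bd51771dea8bb0cf545d457aa2ea23d517311ea8b984f545c857aa2e22bd517111ea8b808f545bc77aa2de2bd516e11ea8b68ef545b457aa2d63bd516b15ea8b48af545a447aa2ce3bd516719ea8b384f5459887aa2ca23d516411ea8b008f5457887aa2bc23d515d21ea8ae88f5457077aa2b633d515a15ea8ad08f5456457aa2b223d515905ea8ac0ef5456067aa2b02bd51571dea8ab0af5455457aa2aa23d515421ea8aa08f5454c47aa2a423d514f11ea8a70ef5453867aa29c2bd514d11ea8a60cf5453057aa2942bd514a11ea8a488f5452047aa28a3bd514519ea8a28af5451087aa28823d51431dea8a18af5450857aa28423d514115ea8a088f5450067aa27e3bd513e1dea89e8ef544f057aa27823d513b15ea89d0ef544e867aa27423d513a0dea89d04f544e487aa27223d513909ea89c10f544e047aa26c23d513515ea89a10f544cc87aa2642bd513115ea89888f544c417aa2603bd513019ea8978cf544bc57aa25c2bd512d11ea8960ef544b047aa25813d512b15ea8950af544a847aa2523bd512919ea89486f544a427aa2503bd512819ea8940af5449c47aa24c3bd512619ea8930af5449447aa24823d512215ea89108f5448817aa2402bd511f15ea88f0ef5447867aa23c1bd511e09ea88e8af5447077aa23833d511b1dea88d8af5446857aa2302bd511811ea88b8af5445c47aa22c3bd511515ea88a0af5445047aa2263bd511319ea8890af5444847aa2222bd511111ea88806f5444027aa21c23d510d11ea8860cf5443047aa2181bd510c09ea8858cf5442857aa20e43d510711ea88382f5441887aa20a2bd510511ea8820af5441047aa2062bd510311ea8810af5440847aa2023bd51010dea88084f543f457aa1fa0bd50fb1dea87d8cf543ec57aa1f22bd50f811ea87b8af543d857aa1ea3bd50f519ea87a86f543d427aa1e83bd50f415ea8798af543cc47aa1e423d50f119ea8780ef543bc77aa1de33d50ee19ea8770af543b467aa1da1bd50ec15ea8758af543a87))))) (BT.node (nat_lit 414) (BT.node (nat_lit 413) (BT.leaf (Bx.mk (nat_lit 0x7aa48633d524315ea9208cf5490457aa4802bd524011ea91f0ef548f867aa47c2bd523d11ea91e0ef548f067aa4782bd523b11ea91d0af548e447aa4703bd523815ea91b88f548d877aa46c33d523615ea91a88f548d057aa4663bd523315ea91982f548c857aa4623bd523115ea91882f548c057aa45e2bd522d1dea9168cf548b417aa4582bd522b15ea91588f548a887aa4543bd522a19ea91508f548a837aa45413d522921ea91488f548a077aa4502bd522705ea91302f5489447aa4482bd522411ea91186f5488477aa44233d522105ea9100af5488047aa43e2bd521f11ea90f0ef5487867aa43c23d521e0dea90f04f5487487aa43a23d521c19ea90e0af5486857aa43423d521915ea90c88f5486087aa4303bd521819ea90c06f5486027aa42e43d52161dea90a08f5484c47aa42443d52121dea9090cf5484837aa42413d52101dea9080cf5484017aa41e2bd520f11ea9070af5483847aa41a43d520d1dea9068cf5483447aa41a1bd520d09ea90610f5482c67aa4162bd520a11ea9048ef5481877aa40c33d520615ea9010ef5480867aa4042bd52001dea9000cf547f447aa3f823d51fb1dea8fd8cf547ec57aa3f23bd51f919ea8fc8af547e047aa3ea23d51f411ea8f98af547cc47aa3e423d51f11dea8f88cf547c457aa3e03bd51f019ea8f80af547b847aa3da43d51ec11ea8f590f547a877aa3d433d51ea15ea8f488f547a087aa3d023d51e71dea8f38cf5479c57aa3ca23d51e419ea8f08ef5478467aa3c20bd51e021ea8f008f5477c47aa3bc2bd51de11ea8ee8af5477447aa3b82bd51dc11ea8ed8af5476867aa3b223d51d719ea8eb88f5475c27aa3aa3bd51d519ea8ea82f5475047aa3a813d51d31dea8e98cf5474c57aa3a42bd51d211ea8e88ef5474467aa3a22bd51d005ea8e70ef5473047aa3963bd51cb19ea8e58af5472477aa39233d51c915ea8e408f5471c57aa38e23d51c615ea8e308f5471067aa38623d51c115ea8e00ef5470067aa3800bd51bf21ea8df88f546f857aa37a43d51bd11ea8de0ef546f057aa3742bd51b81dea8dc0cf546dc57aa36e23d51b615ea8db08f546d477aa36a33d51b511ea8da86f546d427aa3683bd51b315ea8d988f546c857aa36423d51b11dea8d88cf546c447aa3621bd51b109ea8d80ef546c067aa3602bd51af1dea8d70af546b847aa35a3bd51ad19ea8d686f546b427aa3582bd51ab11ea8d586f546a847aa35223d51a819ea8d388f5469847aa34a43d51a511ea8d284f5469047aa34443d51a211ea8d090f546844))) (BT.leaf (Bx.mk (nat_lit 0x7aa5de13d52ee21ea9768cf54bb457aa5d60bd52ea15ea97508f54ba457aa5d223d52e821ea9740ef54ba067aa5d023d52e80dea97404f54b9857aa5cc23d52e515ea97210f54b9077aa5c833d52e40dea97204f54b8877aa5c42bd52e121ea97086f54b8077aa5c033d52e015ea96f08f54b7467aa5ba2bd52da11ea96c8ef54b6467aa5b22bd52d811ea96b8cf54b5c57aa5ac23d52d51dea96a8cf54b5457aa5a62bd52d11dea9688cf54b4457aa5a03bd52d019ea9680af54b3c47aa59c23d52cc11ea96588f54b2857aa5923bd52c905ea96410f54b2047aa58c3bd52c619ea96302f54b0c77aa58633d52c215ea9608ef54b0467aa5822bd52c105ea9600af54af877aa57a2bd52bd11ea95e0af54af047aa5763bd52bb19ea95d88f54aec37aa57613d52ba11ea95c8ef54ae467aa5722bd52b819ea95c0af54ad487aa56643d52b215ea95908f54ac427aa56023d52af11ea95708f54ab457aa55a23d52ac15ea95608f54aac67aa5561bd52ab09ea9550ef54aa867aa55223d52a815ea95408f54a9c77aa54e33d52a711ea95386f54a9c27aa54a23d52a321ea95188f54a8847aa54223d52a011ea94e0af54a6c57aa53443d529a11ea94d04f54a6487aa5302bd529811ea94b8af54a5c47aa52c3bd52951dea94a88f54a5067aa52823d529221ea94908f54a4457aa52223d529015ea94808f54a3c37aa51e13d528d15ea94688f54a3057aa51823d528b1dea9458cf54a2c47aa5161bd528a11ea9448af54a2447aa5103bd528819ea94406f54a2027aa50e43d528611ea94210f54a1047aa50643d528311ea94110f54a0487aa5003bd527f11ea93f08f549f477aa4fa13d527c11ea93d8cf549ec57aa4f42bd527811ea93b88f549d057aa4e63bd527319ea93986f549cc27aa4e42bd527211ea9388af549c077aa4e033d52700dea93804f549bc87aa4dc43d526e11ea93610f549b047aa4d643d526b15ea93588f549a487aa4ce2bd52661dea9330cf5499837aa4cc13d526515ea93288f5499057aa4c823d52631dea9318cf5498c37aa4c613d52621dea9310af5498457aa4c03bd526019ea9300af5497c87aa4be23d525e19ea92f0af5497457aa4ba23d525c11ea92d88f5496c17aa4b243d525911ea92c0ef5496057aa4ae3bd525511ea92a82f5494c57aa4a623d52521dea9288af5494447aa4a20bd525015ea9278af5493c47aa49c2bd524e05ea9268ef5493467aa49a1bd524d09ea9260ef5493067aa4963bd524b15ea9250af5492477aa4922bd524719ea92382f549145)))) (BT.node (nat_lit 415) (BT.leaf (Bx.mk (nat_lit 0x7aa6e82bd537411ea9b986f54dc477aa6e233d537105ea9b810f54dc047aa6de2bd536f11ea9b70af54db847aa6da43d536d1dea9b68cf54db447aa6da1bd536d09ea9b58ef54dac67aa6d60bd536a15ea9b508f54da457aa6d043d53681dea9b40cf54da047aa6d01bd536809ea9b30ef54d9867aa6cc0bd536515ea9b288f54d9057aa6c823d536321ea9b18ef54d8c67aa6c623d53630dea9b184f54d8857aa6c23bd536105ea9b008f54d7c57aa6be23d535e21ea9af0ef54d7867aa6bc23d535e0dea9af04f54d7017aa6b62bd535b11ea9ad0af54d6847aa6b243d535919ea9ac88f54d6437aa6b213d535615ea9aa0af54d5047aa6a62bd53521dea9a90cf54d4077aa6a033d535005ea9a78af54d3857aa69a43d534d1dea9a68cf54d3447aa69a1bd534d09ea9a58af54d2c47aa6942bd534a11ea9a490f54d2477aa69233d53490dea9a484f54d1857aa68c23d534515ea9a288f54d1087aa6883bd534419ea9a208f54d1037aa68813d534215ea9a108f54d0457aa68043d53401dea9a00cf54d0047aa6801bd534009ea99e8ef54cf457aa6783bd533c19ea99e0af54ce847aa6703bd533819ea99c0af54ccc77aa66633d533305ea9990af54cc847aa6622bd533111ea99810f54cc077aa66033d533011ea99806f54cc027aa65c3bd532e19ea99702f54cb457aa65a23d532c15ea99608f54cac87aa6563bd532b19ea99588f54cac37aa65613d53291dea9948cf54ca417aa6502bd532811ea9938af54c9847aa64c1bd532609ea9920cf54c8c47aa6442bd532211ea99086f54c8427aa64023d531f1dea98f8af54c7477aa63a33d531d05ea98e0af54c7047aa6362bd531a21ea98d0ef54c6867aa63423d531a0dea98d04f54c6487aa63223d531819ea98c0af54c5877aa62c33d531605ea98a8af54c5447aa6282bd531321ea9898ef54c4c67aa62623d53130dea98984f54c4477aa62233d531105ea9880af54c4047aa61e2bd530f11ea9870ef54c3867aa61c1bd530e09ea98690f54c3447aa6183bd530c15ea98588f54c2877aa61433d530a15ea98488f54c1077aa60833d530405ea9818af54c0c47aa6042bd53011dea9808cf54c0447aa6021bd530109ea97f8ef54bfc67aa5fe0bd52fe15ea97e8af54bf447aa5f843d52fc1dea97e0cf54bf047aa5f81bd52fc09ea97d08f54be457aa5f223d52f821ea97c0ef54be067aa5f01bd52f809ea97b08f54bd457aa5e843d52f41dea97a0cf54bd037aa5e813d52f31dea9790af54bc457aa5e02bd52ef21ea9778ef54bbc6))) (BT.leaf (Bx.mk (nat_lit 0x7aa82e3bd541719eaa0b8af5505857aa82c23d541515eaa0a88f5505417aa8263bd541319eaa098af5504467aa81e2bd540f11eaa070ef5503867aa81a23d540c19eaa0608f5502c57aa81623d540a15eaa0508f5502487aa81213d540819eaa0390f5501c47aa80c33d540615eaa0210f5501057aa80643d540315eaa010ef5500867aa80243d540111eaa0010f5500067aa80023d53ff15ea9ff88f54ff857aa7fc23d53fd1dea9fe8af54ff087aa7f813d53fb1dea9fd10f54fe837aa7f23bd53f919ea9fc8af54fe057aa7f023d53f715ea9fb88f54fd877aa7ec33d53f51dea9fa88f54fd067aa7e823d53f311ea9f982f54fc847aa7e223d53f01dea9f80cf54fc057aa7de23d53ee11ea9f68cf54fb457aa7d82bd53ec11ea9f58ef54fac67aa7d43bd53e71dea9f38cf54f9c17aa7cc2bd53e611ea9f28af54f9447aa7c83bd53e419ea9f206f54f8c57aa7c43bd53e219ea9f102f54f8457aa7c223d53e015ea9f008f54f7c87aa7be3bd53df19ea9ef88f54f7c37aa7be13d53de15ea9ee8ef54f7467aa7ba2bd53d915ea9ec0af54f6047aa7ae43d53d71dea9eb8cf54f5c47aa7ae1bd53d709ea9ea0af54f4c57aa7a623d53d221ea9e90ef54f4867aa7a423d53d20dea9e904f54f4457aa7a023d53cf15ea9e782f54f3447aa79833d53cc05ea9e58af54f2847aa79243d53c911ea9e408f54f1c57aa78c43d53c421ea9e18ef54f0c67aa7862bd53c215ea9e08af54f0077aa78033d53bf11ea9df08f54ef477aa77a33d53bc11ea9dd8af54eec47aa7743bd53ba19ea9dd08f54ee837aa77413d53b815ea9db8af54ed487aa7663bd53b319ea9d910f54ec487aa76233d53b111ea9d80af54ebc57aa75e23d53ae15ea9d690f54eb087aa75823d53ac0dea9d58af54ea477aa75233d53a811ea9d38cf54e9c47aa74c43d53a611ea9d290f54e9437aa74443d53a211ea9d090f54e8087aa73e2bd539e15ea9cd0ef54e6847aa7341bd539a09ea9cc8af54e6057aa72e3bd539719ea9cb86f54e5c27aa72c3bd539615ea9ca88f54e5077aa72833d539415ea9c988f54e4867aa7242bd539111ea9c80ef54e4067aa7202bd538f11ea9c70ef54e3857aa71823d538a15ea9c488f54e1c57aa70e23d53851dea9c28cf54e1057aa70823d538315ea9c188f54e0877aa70433d538211ea9c106f54e0827aa7022bd538111ea9c00af54e0047aa6fe3bd537f0dea9bf0ef54df867aa6fc2bd537d1dea9be8af54df047aa6f22bd537911ea9bb8ef54ddc67aa6ee0bd537611ea9ba8af54dd44)))))))) (BT.node (nat_lit 432) (BT.node (nat_lit 424) (BT.node (nat_lit 420) (BT.node (nat_lit 418) (BT.node (nat_lit 417) (BT.leaf (Bx.mk (nat_lit 0x80e2e8240717112038b51101c5a8680e2d22c0716912038b40d01c5a0580e2ca3c071651a038b28b01c590480e2c6240716216038b08901c580480e2be240715e0e038ad0901c558480e2aa2c0715422038aa0901c54c880e2a6240715222038a90901c544880e29e3c0714d1e038a68d01c534580e2982c0714b16038a50f01c528680e2941c0714a0a038a48b01c520480e28c2c0714516038a18f01c50c680e284440714022038a00901c4fc880e278440713b160389d0b01c4e8480e27224071381e0389c0d01c4dc580e26e240713512038991101c4c8780e2641c0713112038988701c4c4280e25c240712c16038958b01c4a8480e25224071281e038930f01c494880e24a24071241e038920301c48c880e2462407121160388f8501c460780e23034071180e0388c0501c450480e224240710c12038850d01c428380e214140710a06038848b01c420480e204340710122038800901c3e4580e1f224070f5220387a8901c3d0580e1e624070ed0a038761101c3b0480e1d63c070eb1a038750f01c3a4780e1d234070e916038740901c39c480e1cc3c070e61a038728901c390480e1c424070e1120386f8b01c374880e1ba24070dc1e0386e0d01c370580e1b644070da1e0386d0b01c360480e1a22c070d012038678b01c324880e1902c070c71e038638901c31c380e18a2c070c222038610d01c308580e17e24070be160385f0901c2f0580e1763c070b9120385c0f01c2e0680e1702c070b412038598901c2c4480e15c3c070ae1a038570b01c2b4880e15a24070a912038528901c290580e1461c070a2120384f8b01c278580e13c0c0709d1e0384e8d01c270880e136340709b160384c8f01c264680e12a3c070951a0384a8301c250880e128240709312038490b01c244880e12224070901e038480b01c23c380e11c440708e12038468901c230480e1142c070861e038430d01c218480e10c1c070860a038420b01c210480e106240708216038410901c200880e100240707f120383f0901c1f4480e0f43c0707a0e0383d0501c1e0580e0ec2407075120383a0b01c1d0480e0e03c070701a038350d01c1a4580e0d024070671e038338d01c19c480e0ce1c070670a038331101c198480e0ca240706422038320901c18c480e0c424070611a0382f8901c17857aa8522bd542911eaa140af5509c87aa84e33d54270deaa128af5509447aa84823d54231deaa118cf5508c37aa84613d542219eaa110af5508447aa84033d542015eaa0f88f5507857aa83a23d541a11eaa0c8ef550645))) (BT.leaf (Bx.mk (nat_lit 0x80e536140729a1e0394b8901ca58580e52c2407295160394a8901ca50680e526440729312039478d01ca3c180e51c240728d22039468901ca30480e5162c0728a22039450901ca24880e512240728722039438901ca18880e50c240728422039419101ca00380e4f42c07279160393c1101c9dc880e4ec4407276120393a9101c9d4480e4e8440727412039399101c9cc480e4d8440726c12039328b01c990780e4c82c072621e039310b01c984580e4c2240725f120392f8301c978780e4bc340725d120392e0901c968680e4b24407259120392c0f01c960680e4ae2c07257120392a8b01c954480e4a62c0725312039290901c934480e496240724712039229101c914480e4884407242120391e0b01c8ec780e47424072391e0391c8701c8e0880e4702407237120391b0f01c8d8380e4682c0723322039198901c8c8580e460240722f12039170f01c8b8680e45a240722c22039160901c8ac580e456240722a22039148f01c88c880e446240722222039110901c868680e43224072141e039089101c844480e4203c072101a039080b01c838780e41c340720e16039069101c830880e416440720a22039050901c824480e40a24072040a039018b01c80c480e4043c0720212039010701c808280e4022c071ff16038ff8901c7f4480e3f824071fb12038fd0f01c7e8680e3f41c071fa0a038fc8901c7e0480e3ee44071f712038fb1101c7d8480e3e844071f322038f98901c7c8780e3e434071f122038f88901c7c0880e3e024071ef16038f70f01c7b8680e3dc1c071ee0a038f60b01c7ac480e3d424071e81a038f40901c79c480e3cc24071e31e038f18d01c788480e3c224071df16038ee8f01c774680e3b82c071dc12038ed9101c76c480e3ae2c071d616038ea8f01c754380e3aa14071d316038e98901c748580e3a424071d11e038e88d01c744380e39a44071cd12038e60901c728880e39424071c912038e40f01c720680e3900c071c622038e30901c714580e38a24071c416038e20901c710180e3861c071c212038e08901c700880e38024071bf16038dd8f01c6ec680e36e34071b516038da8901c6d0380e36044071b012038d71101c6b8480e35a44071a816038d38b01c69c480e34c24071a012038ce8b01c66c880e3322c0719812038cb8301c654480e328240719016038c79101c638580e31a440718c16038c60901c62c580e314440718916038c48901c620480e30e2c0718612038c28901c610480e30624071811e038c08d01c604580e300240718006038bc0f01c5e06)))) (BT.node (nat_lit 419) (BT.leaf (Bx.mk (nat_lit 0x80e75a34073ab1e039d58d01ceac580e75224073a512039d20901ce8c480e74024073a00a039cf8b01ce78780e73c2c0739d16039ce8901ce6c580e73424073971a039ca8b01ce50480e7262c0739312039c80901ce30580e716240738a1a039c50501ce24780e70e2c0738616039c28701ce14280e7082c0738016039bf9101cdfc480e6fc440737d1e039be8d01cdf4580e6fa1c0737c22039be0901cdf0380e6f6440737a0a039bd0301cde4880e6f23c073791a039bc0b01cde0480e6ee3c073761e039bb0d01cdd8580e6ea44073741a039ba0b01cdc8780e6e2240736e22039b70901cdb4880e6da240736c12039b58f01cdac480e6d61c0736b0a039b48f01cda4280e6d03c073681a039b38f01cd9c680e6cc2c0736422039b20901cd8c880e6c4440736122039b08901cd80880e6c0240735f12039ad8901cd6c280e6b03c073581a039ac0b01cd58580e6a63c0735222039a60901cd2c480e69224073481a039a38b01cd1c480e68c3c073460e039a28b01cd08480e6823407340120399f8b01ccf4880e67a240733a120399c8901ccd4480e666440733312039991101ccc8480e66234073310e039988501ccc0480e65e240732e1a039970701ccb8280e65a240732812039930901cc88880e644240732122039908901cc80780e640340731e220398f0901cc64580e6301c073180a0398a8b01cc50680e6263c073131a039898b01cc48480e622340730f22039870f01cc38680e61c1c0730e0a039870301cc2c480e612440730912039830901cc04480e602140730022039800f01cc00680e5fe2c072ff120397e8b01cbf4480e5f844072fc120397b8901cbc8480e5de44072ee1a039770b01cbac480e5d434072e912039740901cb90880e5c83c072e41a039720b01cb8c780e5c424072e1120396f8f01cb7c380e5bc34072dd120396e1101cb70480e5b624072db060396d1101cb68180e5b234072d90e0396c0f01cb58680e5aa44072d41a0396a0b01cb40780e5a034072cf22039678901cb38880e59c24072cd16039660b01cb28880e59424072c916039641101cb20480e58c44072c522039628901cb0c880e58624072c222039608f01cb04680e5821c072c10a039600901caf4880e57a24072ba1a039599101cac8780e5642c072b01e039580d01cac0580e55e44072ae22039570901cab4880e55a24072ac22039560901caac480e55424072a812039520901ca8c480e5442c072a212039508d01ca84480e54214072a0160394e8b01ca74480e5382c0729b1e0394d8d01ca6c3))) (BT.leaf (Bx.mk (nat_lit 0x80e95224074a71e03a520b01d288780e93e240749e1603a4f0901d26c580e93224074970a03a4b0b01d244480e91e24074881203a438f01d21c680e90e2c074862203a428f01d214680e90a2c074842203a419101d208880e90424074812203a408901d200780e900340747b1203a3b8b01d1d8580e8ea1c074750a03a398901d1c8580e8e424074711e03a388d01d1c4380e8e214074701603a378b01d1b8780e8da340746d1603a361101d1b0280e8d63c0746b1a03a358b01d1a4880e8d22c074681603a340901d198880e8ca44074641603a318b01d188780e8c434074611e03a308b01d174780e8b424074591e03a2c8d01d164180e8b024074572203a2b8901d158680e8a624074530a03a278f01d138580e89c240744d1603a268901d130680e898240744c0a03a250b01d128480e8922c074491203a230b01d10c580e88624074421e03a210d01d108380e884140743f2203a1f8901d0f4480e87844074381203a1b0701d0d4780e86a34074331603a190f01d0c8680e8641c074320a03a178901d0bc280e85c2c0742e1203a168b01d0b0780e856340742b1203a158701d0ac280e85444074272203a138901d098880e84c24074242203a119101d084880e840440741f2203a0f8f01d07c480e83c2c0741d2203a0d0b01d064380e8301c074162203a0b0d01d058480e82c1c074160603a0a9101d054580e82a1c074141603a0a0901d04c580e82424074111e03a088d01d044380e82214074101e03a080d01d040580e81e3c0740f1a03a078b01d03c180e81c440740e1203a068f01d034480e818440740c1203a058d01d02c580e8143c0740a1a03a050301d024680e80e2c074052203a028701d010380e8062c074030e03a010b01d008280e80244074010e03a008501d000580e80014073fb0e039fd0f01cfe8680e7f42c073f816039fc0901cfcc480e7de2c073ef12039f70b01cfb4780e7da34073ed0e039f68501cfb4180e7d82c073ec12039f58901cfa8380e7d414073e912039f40901cf94480e7c83c073e31a039f10901cf84780e7c234073e116039ef8f01cf7c580e7bc24073dd12039ee0f01cf6c880e7b424073d916039ec0f01cf5c480e7ac2c073d612039ea8f01cf54480e7aa14073d41e039ea0d01cf50580e7a81c073d31a039e98b01cf4c280e7a42c073d212039e88b01cf44480e7a03c073d01a039e80701cf40280e79c34073cb1e039e48b01cf20480e78e34073c41e039e18901cf04580e78224073c012039de8901ced4380e76a0c073b206039d88301cebc4))))) (BT.node (nat_lit 422) (BT.node (nat_lit 421) (BT.leaf (Bx.mk (nat_lit 0x80eb542c075a31e03ad18301d688880eb4224075a01603ad00701d670580eb362c0759b1203acc8901d660580eb2e44075971203acb0d01d658580eb2424075901203ac78901d638680eb1a24075861e03ac30d01d608580eb0424075811203abf0901d5e8580eaf424075791e03abc8701d5dc580eaec44075710e03ab78b01d5bc480ead424075681e03ab40d01d59c480eacc24075641203ab18f01d58c680eac42c075611603ab08901d580680eac024075600e03ab00501d564480eab214075581603aac0901d55c780eaae34075570e03aab8501d550880eaa824075522203aa90901d544880eaa224075501e03aa79101d53c480ea9c440754c1603aa50501d524880ea9224075482203aa40901d51c780ea8e34075470e03aa38301d518880ea8c24075451203aa20b01d500580ea7e240753e1e03a9f0d01d4f8280ea7a440753b1203a9d1101d4e8480ea7224075381203a9a8b01d4d4480ea6824075321e03a990d01d4c8580ea603c075301a03a980b01d4bc480ea5c3c0752e1a03a958701d4a8880ea54340752a1203a948b01d4a4480ea5214075281e03a940d01d498480ea4a24075241a03a909101d484480ea381c0751b2203a8d8901d468880ea3424075190e03a8c8301d460580ea301c075171203a8b8701d45c280ea2c1c075160a03a8a9101d454780ea2a14075141e03a8a0b01d450380ea2644075131a03a890f01d448680ea242c075111603a888901d440580ea1e2c0750e1603a870901d434780ea1a340750d0e03a868501d430580ea1034075051203a820f01d410680ea0424075011a03a808301d400480e9fc44074fc1203a7d8901d3e8880e9f424074fa0a03a7c8b01d3e0480e9ee3c074f71a03a7b8b01d3d4480e9e83c074f41a03a798f01d3c8680e9e22c074ef1203a760f01d3b0680e9d82c074ea1e03a750d01d3a0480e9ce2c074e71203a718901d384480e9c024074de1603a6e8901d370680e9b624074da1203a6c9101d358780e9ac34074d52203a698901d348480e9a01c074cf1e03a678d01d33c380e99e0c074ce0e03a668701d334280e99844074cc1e03a660501d328880e99434074ca1203a650701d320580e99024074c71603a630b01d318480e9882c074c41203a618f01d30c680e9861c074c21203a608b01d300780e98034074c01603a600701d300180e97e2c074be1203a5e8f01d2f4180e9783c074bb1e03a5d8b01d2ec180e9722c074b91203a5c0b01d2dc480e9683c074b41a03a5a0b01d2c4780e96024074af1203a568901d2ac5))) (BT.leaf (Bx.mk (nat_lit 0x80ed9414076c91603b648301db20580ed8e44076c71e03b638901db1c280ed8c2c076c51603b621101db10680ed881c076c31e03b618d01db0c580ed842c076c21203b608f01db04480ed8034076c01203b5f8f01dafc280ed7e0c076be2203b5f0b01daf8380ed7a44076bd1a03b5e8701daf4280ed7834076bc1603b5e0501daec580ed7224076b81603b5c0901dadc580ed6c3c076b51203b5a1101dad0480ed680c076b31603b590b01dac8480ed623c076b11a03b588701dac4280ed602c076af1e03b578d01dabc380ed5e14076ae1603b568b01dab4480ed5834076ac0a03b558901daac380ed542c076aa1203b548b01daa0480ed4e24076a31203b508901da7c780ed3e340769f1603b4f0901da74580ed3624076931603b498301da40880ed203c076901a03b480701da40280ed1c240768e0a03b448301da1c780ed0e34076871603b438301da18480ed0a24076850603b420301da0c480ed060c0767f1203b3e8901d9ec480ecf60c076771e03b3b8d01d9d4580ece6340766f1a03b360901d9a4480ecd03c076681a03b340b01d998480ecc83c0765f1203b2f0301d954480ec9e2c0764f1203b261101d928580ec9424076491203b230d01d914480ec8824076422203b210901d908380ec80240763d1203b1b8901d8cc480ec6424076311203b180901d8b8480ec4c2c076251e03b110f01d878480ec3a2c0761c1603b0e0901d86c780ec36340761b1603b0c8d01d860480ec2e24076161e03b0a0901d84c580ec2624076101203b070901d834480ec183c0760c1a03b058901d828480ec103c076061603b029101d814780ec0a34076050a03b021101d810780ec0814076031a03b018b01d808180ec0044076001a03b000701d7fc880ebfe1c075fe0e03afe8301d7f0880ebf814075fb1603afd8301d7e8480ebf02c075f72203afb8301d7d8480ebec14075f51203afa8701d7d4180ebe62c075f31203af90901d7c4480ebe034075f00e03aee8901d774280ebb844075dc1e03aee0d01d76c180ebae3c075d71603aeb8301d758580ebac24075d51603aea8901d74c480eba024075cf1e03ae70901d734680eb9a24075cc1603ae51101d728280eb902c075c71603ae30b01d714580eb8814075c11203ae08301d700780eb7e44075bf1a03adf8901d6fc380eb7c2c075be0e03ade0f01d6ec680eb762c075b91603adc0f01d6e0380eb7014075b50603ad98b01d6cc480eb6414075b12203ad88701d6c0580eb5e44075af0e03ad71101d6b8280eb582c075ac1203ad58f01d6a87)))) (BT.node (nat_lit 423) (BT.leaf (Bx.mk (nat_lit 0x80ef063c077822203bc10f01de08480ef041c077811e03bc08d01de04580ef0044077801203bc00701ddfc780eefe340777f1603bbf1101ddf8780eefc2c0777d2203bbe8301ddf0880eef62c0777a1203bbd0301dde4480eef03c077781a03bbc0b01dde0280eeec44077761a03bbb0b01ddd0880eee80c077731603bb98901ddc8480eee224077701a03bb78f01ddbc680eede2c0776e1203bb60f01ddb0680eed82c0776c0e03bb51101dda8780eed4340776a1603bb50301dda4780eed024077651603bb28901dd90180eec63c077631603bb18901dd88580eec424077611203bb00b01dd80180eebe2c0775e1603baf0901dd74780eeba240775b1e03bad8501dd68280eeb22c077561e03ba90901dd40880eea03c077501a03ba58901dd28880ee943c0774a1a03ba50701dd28280ee882c077431603ba18901dd08380ee803c0773a1203b9c0901dcdc480ee6c2c077321603b980901dcb8280ee5a3c0772d1a03b968b01dcb0880ee583c0772c1203b960701dcb0280ee563c0772b1a03b958b01dca8580ee5424077290a03b940b01dca0480ee5014077261203b928f01dc94180ee4844077241203b918b01dc8c180ee442c077221203b910301dc84880ee421c077201203b8f8901dc78880ee3c240771d1203b8e0f01dc70680ee382c0771c0603b8d8b01dc68780ee34340771a1603b8d0301dc64480ee302c077171e03b8b8d01dc58880ee2c24077151e03b8a8d01dc54180ee2844077141203b898f01dc4c580ee260c077121a03b890b01dc44580ee2224077110a03b880b01dc40480ee20140770f1e03b871101dc38480ee1c140770d2203b860d01dc2c480ee142c077091603b848901dc20880ee1024077072203b838901dc0c780edf62c076fb1203b7d0b01dbe4880edf224076f81e03b7c0b01dbdc480edea24076f41e03b7a0d01dbd0380ede624076f01203b778d01dbbc580edd424076e91603b741101dba0480edca3c076e51a03b720b01db90480edc62c076e31203b710f01db88680edc244076e10e03b708501db84180edc024076de1203b6f0301db74480edba0c076dc2203b6e0301db6c780edb634076db0e03b6d8501db68780edb434076d81a03b6b8901db58580edaa3c076d51a03b6a0901db4c480eda224076d10a03b680901db40280ed9e44076cf1203b678701db3c280ed9c2c076ce0e03b670501db38180ed9a2c076cd1203b668701db34280ed9a0c076cc2203b660f01db30680ed9824076cc0e03b660501db2c780ed9634076cb0a03b650f01db286))) (BT.leaf (Bx.mk (nat_lit 0x80f17424078b91203c5c0f01e2e0680f1700c078b72203c5b8f01e2dc480f16c24078b41203c578901e2ac580f1542c078a81203c538f01e29c380f14e14078a51603c520b01e290280f1462c078a31203c508501e284180f140140789f1603c4b8f01e25c680f12c24078951203c4a0b01e244880f1202c0788d0a03c450b01e228480f1122c078881e03c440901e220380f10c2c078861203c410b01e204580f10224078801e03c400701e200280f0fc240787e0603c3e0b01e1f0480f0f624078790a03c3b0701e1d0580f0e824078731203c388901e1b8680f0da240786a1603c341101e19c880f0c834078631603c310901e180780f0ba3c0785d1a03c2d8b01e168580f0b424078541e03c2a0d01e148480f098240784b1a03c238501e114480f08844078441e03c218f01e10c680f0862c078421603c208901e100780f0802c0783f1603c1f8901e0fc180f07a340783c2203c1e0901e0e8680f07024078331603c198901e0c8580f06424078311603c188901e0bc480f05a3c0782b1603c150d01e0a8580f05224078290603c128901e090480f03c240781d1603c0e8301e070480f03424078191e03c0b8901e03c580f01c340780c1603c040f01e018580f00c24078051603c010901dff8580effc24077fb2203bfd1101dfe8480eff044077f81203bfb9101dfdc480efec2c077f51603bf88901dfb4580efda24077ec1203bf48901dfa0480efc62c077e31203bef8901df74680efb844077dc1203bed9101df68180efb244077d81203bec0701df60180efae44077d71e03beb8d01df54880efaa2c077d51203be79101df38880ef9c2c077cd2203be68b01df34480ef9844077cc1a03be58901df28580ef940c077c71603be30901df14680ef8844077c31e03be10b01df04880ef7a24077bb1603bdd0901dee8180ef720c077b51a03bda0b01dec4880ef6234077b10e03bd88301dec0880ef6034077b00e03bd80301debc880ef5e2c077af0e03bd78301deb8880ef5c24077ad2203bd61101deb0480ef580c077a92203bd40f01dea0580ef4e24077a61203bd20901de8c480ef442c077a21203bd08b01de84480ef3e3c0779f1a03bcf8b01de78880ef3c240779d1a03bce1101de6c880ef3434077992203bcc1101de5c580ef282c077921203bc90501de44180ef200c0778e1603bc70901de38180ef1a2c0778d1203bc68301de30780ef18340778b1a03bc58b01de24880ef1044077881a03bc40501de1c580ef0e1c077861e03bc30501de14580ef0a24077841603bc20901de101)))))) (BT.node (nat_lit 428) (BT.node (nat_lit 426) (BT.node (nat_lit 425) (BT.leaf (Bx.mk (nat_lit 0x80f37834079bc1603cdd8f01e6e8880f3743c079b91a03cdc0b01e6d8880f36c14079b60603cda8b01e6d4480f3663c079b31a03cd90b01e6c4680f36034079af1203cd78501e6b8780f35c34079ae0e03cd69101e6b4480f35844079ac1603cd58901e6a8480f3503c079a81a03cd38b01e69c480f34c2c079a61203cd28d01e694280f3483c079a41a03cd20b01e68c580f34624079a21203cd08b01e684480f33e3c0799e2203ccf0901e66c480f3343c079981203ccb8b01e658580f3283c079931a03cc98b01e648480f32224079901a03cc78901e634780f31a340798d1603cc68501e630580f318240798b1203cc50b01e628480f3103c079881a03cc38901e5f0580f2f8240797a1203cba8901e5d4180f2e844079741203cba0301e5cc580f2e624079711603cb79101e5a8580f2d22c079682203cb40d01e5a0280f2ce44079671a03cb30d01e598580f2ca2c079650a03cb20901e58c380f2c414079610603cb01101e580380f2be440795d2203cae0d01e570580f2b61c0795a1203cad0701e568280f2b244079590e03cac0901e560280f2ac24079552203caa8f01e554480f2aa14079541e03caa0d01e550380f2a814079531603ca98901e548780f2a434079521603ca90501e544380f2a2140794f1603ca70b01e538280f29a440794d0e03ca60501e52c580f296240794a1603ca50501e524380f29034079471603ca20b01e510480f2843c079411603c9d0d01e4e8180f27224079372203c9b8501e4d8380f26a2c079342203c9a0701e4cc880f26614079321203c988901e4c0580f260240792d1e03c968d01e49c580f24e24079251e03c928d01e494580f24844079241203c908901e480780f240340791f1203c8f0901e474680f23a2c0791d0e03c8e8501e470680f238140791b1603c8d8901e46c280f22e44079171e03c8b8d01e45c380f22e14079150603c888901e444380f22024079100e03c871101e438480f21c1c0790d0603c848d01e424480f2120c079082203c840301e41c480f20c2c078fe1e03c7d0b01e3d8680f1e03c078f01a03c780b01e3c0180f1de24078ee1203c768901e3a4580f1d024078e51203c6f0701e368580f1b23c078d61603c6b0901e34c780f1a634078d22203c690901e348380f1a23c078d11a03c688b01e340580f19e2c078ca1203c649101e324480f19214078c81e03c640d01e320380f18e34078c61203c630501e314680f18a1c078c50a03c620b01e308480f18224078c01a03c600701e300280f17e2c078bf0e03c5f0f01e2f48))) (BT.leaf (Bx.mk (nat_lit 0x80f4ae1c07a570603d2b0b01e958480f4ac1c07a560603d2a9101e954680f4aa1c07a550a03d2a0b01e950480f4a64407a531203d290f01e948580f4a23407a4f2203d271101e938780f49c1c07a4d2203d260d01e92c580f4942407a491603d240f01e920680f4901c07a471e03d238501e918780f48c3407a441a03d220701e90c780f4863407a421603d208b01e900880f4803c07a400a03d200301e8fc880f47e3407a3f1203d1f8701e8f8580f47a3c07a3d1203d1e0b01e8ec780f4763407a3b0e03d1d8501e8e8580f4722c07a381a03d1b1101e8d8480f4682c07a341203d198f01e8cc680f4661c07a321a03d190b01e8c4880f4623407a302203d180901e8bc580f45c2c07a2e1203d168701e8b4280f4563c07a2b1a03d158701e8ac280f4543407a2a0e03d150501e8a8180f4524407a291a03d148b01e8a4380f4521407a281e03d140501e8a0180f44e4407a271e03d138d01e89c580f44e1c07a270a03d121101e88c480f4442407a211a03d101101e87c780f43c2c07a1d1603d0e1101e86c580f4361c07a191e03d0c8d01e864580f42e2407a152203d0a0301e840180f41e2c07a0f0603d060f01e830680f4182c07a0c0603d048f01e824680f4122c07a090603d041101e820580f4102407a080e03d040501e820180f40e4407a071603d038701e81c280f40e0c07a062203d030901e818380f40c1407a052203d028701e814280f4084407a041203d020301e80c880f4043c079fe1203cfe8901e7f0480f3f644079fb1203cfd0d01e7e0780f3f034079f81603cf98701e7c8780f3e42c079f20e03cf90501e7c8180f3e22c079f11203cf80b01e7c0180f3de14079ee1a03cf68f01e7b4680f3da2c079ec1e03cf60d01e7ac480f3d42c079ea1203cf48b01e7a0880f3d03c079e81a03cf40901e7a0380f3d014079e72203cf38b01e79c480f3ce0c079e61603cf30701e794780f3ca34079e41e03cf20d01e790580f3c624079e21e03cf08901e780480f3be24079de1a03cee8f01e774680f3b824079d92203cec8f01e764680f3b21c079d90a03cec1101e760580f3b024079d72203ceb8301e754780f3aa34079d51603cea0b01e74c780f3a634079d31603ce98301e748480f3a024079d00603ce78d01e73c580f39c24079cd1203ce48901e720580f39024079c61603ce28f01e714680f38a2c079c41203ce18901e708580f3841c079c11e03ce08d01e704580f38214079c10603ce01101e700580f3800c079bf2203cdf8b01e6fc480f37a34079bd0603cde1101e6f07)))) (BT.node (nat_lit 427) (BT.leaf (Bx.mk (nat_lit 0x80f6c02407b5f1a03daf8501ed78580f6bc2407b5d1203dae1101ed70480f6b81407b5a0e03dab0b01ed54780f6aa3407b541203da99101ed4c480f6a44407b521e03da88d01ed40880f6a03407b500e03da78b01ed38580f69a3c07b4d1a03da60b01ed2c480f6942407b4a0e03da50501ed24580f6922407b481603da40901ed1c580f68e2407b461e03da30d01ed0c480f6861c07b430a03da08f01ed04680f6821c07b410a03da00f01ed00480f67c4407b3e0e03d9e8b01ecf0580f6782407b3b1603d9d8501ece8780f6722c07b361203d9a8b01ecd4480f6622407b301203d970901ecac480f6542c07b281203d938901ec80480f63c2407b1b1203d8b8b01ec5c480f6263407b121603d880f01ec40680f61a1407b0b1e03d850901ec24580f6122407b081203d828701ec0c480f5fe2407afc2203d7e0901ebf0280f5f80c07afb2203d7d0b01ebe4580f5f22407af31e03d790d01ebc4580f5e02c07af01203d770901ebb4480f5d42c07ae61e03d728901eb88480f5be4407ade2203d6f0901eb74880f5b84407adb2203d6d8f01eb6c580f5b61407ada1a03d6d0b01eb68380f5b41407ad91a03d6c8b01eb64480f5b21c07ad81603d6b0f01eb54880f5a82c07ad31e03d698d01eb4c380f5a61407ad22203d688f01eb44680f5a03c07ad01a03d680b01eb40380f5a00c07acf1603d678501eb3c180f59c4407ace1203d668b01eb30780f5983407acc0603d659101eb2c480f5942c07aca0603d648901eb18880f58c2407ac52203d620501eb0c680f5841c07ac11603d5f0b01eaec880f5763c07abb1a03d5b8b01eadc480f56e0c07ab61603d5a8f01ead4280f5602c07ab01203d578d01eab4580f5562407aa51603d518f01ea84880f5422407a9f1603d4e8b01ea74180f5344407a971e03d480b01ea40480f51c4407a8e1203d468f01ea34680f51a2c07a8c1203d458901ea28780f5143407a8a0a03d448901ea14580f5063c07a831603d3e9101e9f4480f4f83c07a7c1a03d3e0b01e9ec880f4f62407a7a2203d3d0901e9e4880f4f02407a771603d3a8b01e9c4880f4de2c07a6f1203d370f01e9b8680f4da2c07a6c1603d358f01e9ac680f4d61c07a6b0a03d351101e9a8380f4d41407a690e03d348301e9a0580f4d02407a671603d330d01e990480f4c80c07a632203d318f01e98c280f4c60c07a611603d308901e984180f4bc3c07a5e1603d2f0501e974780f4ba3407a5d0a03d2e0d01e970580f4b62c07a5b0e03d2d0f01e968680f4b41407a580e03d2c0301e95c5))) (BT.leaf (Bx.mk (nat_lit 0x80f8cc2c07c641e03e310901f180780f8c03407c600603e2f8901f178480f8b82c07c591203e2b8901f154480f89c2c07c4e1203e258b01f12c480f8942c07c491e03e248d01f124280f88e2c07c471203e230b01f118480f88a3c07c451a03e228701f114280f8882c07c420e03e210501f104580f8822407c3f1e03e1f8b01f0f8880f87a3c07c3d1603e1c8f01f0e4680f8704407c381203e1b9101f0dc480f86c1407c351603e199101f0cc480f8661c07c321a03e190b01f0c8280f8604407c301603e179101f0bc580f85e2407c2d2203e168d01f0b4480f8584407c2c1603e160901f0a8780f8543407c2a0e03e150501f0a4480f8503c07c281a03e138f01f09c680f84e2407c270e03e138501f098580f8482407c231203e108b01f080580f83e2c07c1f1203e0f0b01f070380f8381407c1b1603e0d0901f064880f8301c07c152203e0a8901f048880f8242407c102203e080901f03c880f81e2407c0d2203e061101f02c480f8143c07c0a1a03e050701f028280f80e3c07c071a03e030b01f018480f8040c07c012203e008901f000480f7fe4407bff1203dfe9101eff4480f7f84407bfc1203dfd0f01efe8680f7f22407bf81203dfb8901efd8780f7ec2c07bf40e03df98901efcc280f7e43c07bf21603df88f01efc4680f7e22c07bf01603df80901efbc580f7de2407bee1203df68501efac180f7d03407be61203df20901ef88480f7c04407be01203def8d01ef7c180f7ba2407bdc1e03dee0d01ef70180f7a63c07bd31a03de98b01ef4c280f7a60c07bd21603de78301ef34680f79a2c07bca2203de40b01ef20480f78c2407bc41e03de10901eef8480f7782407bbb1203ddd0901eee4580f7703c07bb81a03ddc0b01eedc580f76c2407bb01203dd78b01eebc480f75c2407bac1e03dd60501eeac780f7542c07ba91203dd40d01ee98780f74c2c07ba41203dd18901ee88480f7403407b9a0e03dcc0901ee60380f7301407b972203dcb8d01ee5c480f72e1c07b961e03dcb0d01ee58580f72c1c07b952203dca8f01ee54680f72a1c07b941203dc98f01ee4c180f7243c07b911603dc80b01ee3c480f71e1407b8e1e03dc50b01ee28480f7123c07b891a03dc40901ee1c480f70c2c07b851203dc11101ee08280f7003c07b801603dbf8b01ede8580f6f22c07b791203dbc8701edd4580f6ea2407b741203db98701edcc280f6e42c07b701203db68b01edb0580f6d80c07b6b2203db50f01eda8680f6d24407b681e03db38901ed90480f6c62407b611603db08901ed805))))) (BT.node (nat_lit 430) (BT.node (nat_lit 429) (BT.leaf (Bx.mk (nat_lit 0x80fab82c07d5c1203ead8501f568680fab22c07d581603eac0901f54c480faa43407d501203ea78b01f538580fa9c2407d4c1a03ea60b01f524480fa902407d431603ea10b01f508480fa822407d401203e9f8f01f4f8480fa702c07d362203e9b0901f4d4780fa6a2c07d341203e998b01f4c0680fa5c2407d2c1203e940f01f4a0480fa501c07d280a03e938b01f49c480fa462407d221e03e910701f488280fa3a4407d1d1203e8e1101f470480fa344407d1a1203e8c9101f464480fa303c07d181a03e8b9101f458880fa282c07d130e03e890b01f448480fa222407d101e03e880d01f440380fa201407d0c1203e860701f428180fa122407d062203e830901f414880fa0a2407d042203e820901f40c680fa042407d011603e800d01f400480f9fe4407cfe1e03e7f0d01f3f4480f9f82407cfb1e03e7d8d01f3ec580f9f41c07cf91e03e7c8d01f3e4580f9f02407cf71e03e790901f3c4480f9e03c07cf00a03e778f01f3bc680f9de1407cee2203e770d01f3b8380f9da3c07ced1603e768501f3b0580f9d82407ceb1e03e758d01f3ac380f9d61407ce91e03e748301f398680f9c44407ce21203e708f01f384680f9c22c07ce01603e6f8901f378680f9bc0c07cdd1e03e6e0901f36c480f9b42407cd91203e6b8f01f354780f9aa3407cd31203e690901f344480f99c3c07cce1603e670901f334880f99a2407ccc0e03e658701f32c280f9942407cc91603e648301f31c780f98e0c07cc61e03e628f01f310580f9882407cc31203e610901f304780f9823407cc11603e5e8901f2f0680f9743407cb71203e5a9101f2d4480f9683c07cb32203e598901f2cc380f9622c07cb01203e570f01f2b4780f9542c07ca81203e528701f290780f9442c07ca11e03e501101f280780f9402407ca00a03e4f8f01f27c680f93e2c07c9f0a03e4e8b01f270480f9363c07c9b1a03e4d8701f26c280f9343407c9a1203e4d0501f264580f9322407c981203e4b0f01f258680f92c0c07c952203e4a8f01f254480f92a1407c941603e499101f24c680f9260c07c922203e490f01f244580f9202c07c8f1a03e478501f228580f9121c07c871603e438901f208380f9023c07c811a03e400b01f1fc580f8fc4407c7d1a03e3e0b01f1ec580f8f42c07c7a1203e3c0f01f1e0680f8ee2407c761203e3a0b01f1cc480f8e42c07c721203e388b01f1bc580f8de2407c6e0e03e370501f1b4580f8d80c07c6b1e03e358501f1a8580f8d42407c691e03e340f01f1a0680f8d02c07c671203e330f01f1986))) (BT.leaf (Bx.mk (nat_lit 0x80fcd22c07e691203f340f01f99c780fcce2c07e662203f318901f988480fcc22c07e602203f300b01f980480fcbe4407e5f1603f2f8901f978580fcbc0c07e5c1e03f2e0d01f970580fcb80c07e5b2203f2d1101f964780fcb23407e582203f2c0901f95c880fcae2407e562203f2b0b01f954880fca82c07e541203f2a0501f94c880fca62c07e531203f298501f94c180fca43407e521603f290501f940580fc9e3c07e4f1a03f278b01f93c280fc9e0c07e4e1603f270901f938280fc9a2407e4d0a03f268301f930780fc983407e4c1603f258d01f92c380fc944407e4a1203f248f01f920480fc8c4407e461603f230701f918280fc8a3c07e450603f218b01f90c480fc823c07e411a03f208b01f900480fc7e2407e3e1a03f1e8901f8f4280fc782c07e3c1203f1b8901f8d8480fc6a3c07e351a03f1a0901f8cc480fc642c07e311603f188901f8bc780fc5e2c07e2e2203f168d01f8b0480fc543c07e2a1a03f150501f8a0480fc500c07e271603f138901f898480fc4a2407e241203f119101f88c780fc463407e111203f080b01f838580fc1c2407e0e0e03f070301f834880fc1a3407e0a1603f050301f818680fc082c07e040603f018b01f808880fc043c07e020e03f010501f804180fbfe4407dff1a03eff8701f7f8380fbf83407dfc0a03efd8701f7ec280fbf24407df91e03efc8d01f7e4580fbf21c07df90a03efc0901f7dc580fbee2407df62203efb0f01f7d8280fbea3407df50a03efa1101f7d0480fbe81c07df31e03ef90b01f7c4380fbe03c07def1603ef71101f7b8780fbdc3407dee1203ef70701f7b8280fbda1407dec2203ef60701f7ac280fbd23c07de91a03ef40d01f7a0480fbce2c07de71203ef10d01f784480fbc02407ddf1603eef0f01f778680fbbc1c07dde0a03eee8901f76c780fbb63407ddb1603eed0901f758480fba62c07dd31203ee90901f744780fba23407dd11603ee78f01f73c680fb9e2c07dca1203ee28f01f714680fb882407dc21203ee00901f6e8580fb723c07db91a03ed88f01f6c4680fb602407daf1203ed70901f6a8580fb522407da90603ed30901f684880fb423c07da11a03ed08701f684280fb420c07d9e1203ecd0f01f668680fb342c07d9a0603ecc0901f65c580fb2a2407d942203ec99101f648480fb241c07d911203ec80901f63c480fb1a2407d8c1203ec50901f620680fb0c2407d851603ec28901f60c880fafe2407d7e1603ebf0901f5f0780faf63407d731203eb80901f5ac380fad02c07d621203eb08f01f57c2)))) (BT.node (nat_lit 431) (BT.leaf (Bx.mk (nat_lit 0x80fe2c3c07f161a03f8b0b01fc54580fe2a2407f141603f8a0901fc4c580fe262407f121203f888901fc40480fe1e2407f0e1a03f870501fc38180fe1a2c07f0d1203f860b01fc2c480fe161407f0a2203f850d01fc24680fe122c07f081603f840901fc20280fe0e4407f061203f828f01fc14680fe0a2c07f050603f820901fc0c580fe061c07f030603f811101fc08480fe023c07f011a03f808b01fc04180fe004407f001203f7f0b01fbf0780fdf83407efa1203f7b0701fbd0580fde64407ef21603f790901fbc8180fde22c07eec1603f760901fbac780fdd63407eeb0a03f721101fb90480fdb02c07ed81203f6c0701fb58480fdaa2407ed32203f698901fb48880fda43407ed21203f688901fb40580fd9e4407ece2203f670301fb30780fd983407ecc1603f659101fb2c480fd8a2c07ec51203f620f01fb10680fd881c07ec40a03f619101fb0c380fd861407ec30603f610f01fb04880fd802c07ec00e03f600501fafc580fd7e2407ebf0e03f5f8501faf8780fd7c3407ebe1203f5f0701faf4480fd7a1c07ebd0603f5e0901faf0380fd764407ebb1203f5d8701faec280fd742c07eba0e03f5c9101fae4480fd721407eb81e03f5c0d01fae0480fd701c07eb80a03f5b0d01facc480fd660c07eb21203f588b01fac4480fd621407eb01603f580501fabc880fd5e3c07eaf1a03f578501fab8580fd5a3c07ead1a03f568b01fab4280fd5a0c07eac1a03f560b01fab0280fd562407ea91e03f548d01faa0780fd501407ea71e03f538d01fa9c380fd4c3407ea60e03f530301fa94880fd4a3407ea50a03f520b01fa8c580fd444407ea21e03f510901fa88280fd422c07ea02203f500d01fa80380fd3e2c07e9f1203f4e8b01fa70780fd383407e9c0e03f4e0501fa68880fd342407e9a0603f4c8b01fa60780fd303407e980e03f4c0501fa5c580fd2c2c07e961203f4b0301fa54680fd2a1407e942203f4a0b01fa4c880fd260c07e922203f490901fa44880fd221c07e910a03f488301fa40880fd203c07e901603f480301fa3c880fd1c0c07e8d2203f460b01fa28880fd124407e881e03f440d01fa1c180fd0c4407e851203f420b01fa0c880fd063c07e831a03f408d01fa04580fd021407e801603f3f0f01f9f0680fcf82c07e7b1603f3d1101f9dc580fcee0c07e761203f3b0301f9d4580fcea0c07e730603f390301f9c0780fce02c07e700603f379101f9bc680fcde2407e6f0e03f378501f9b8880fcda3c07e6c2203f359101f9ac580fcd44407e6a1a03f350901f9a48))) (BT.leaf (Bx.mk (nat_lit 0x810092140804906040241102012058100901c0804806040238b020118481008a2408042120401f090200e4781006e4408037120401b0f0200d8181006a2c080331e040198b0200cc18100643c0803216040180f0200c0681005e240802e12040168b0200b44810058140802b0e040150b0200a4781005234080290e040140b0200a048100501c0802806040138b020098781004c34080260a040128f020094681004a240802412040118f02008c5810040240801f120400f0902007448100382c0801b160400d0b02006458100322408018120400b8b020058381002a14080141a0400a0b02004c481002224080101e0400789020034881001a240800a1a040050b020024481000e3c0800612040028902001048100062c0800222040008f02000468100022c080001e040000d020000580fffc2407ff91e03ffc8d01ffd4480ffe62407feb0603ff48b01ffa0580ffca3407fe51603ff18901ff80480ffc00c07fdf1a03fee0d01ff60580ffae3c07fd71a03feb0901ff50680ffa62407fd22203fe90f01ff48680ffa41c07fd20a03fe90301ff3c780ff9e3407fcf0603fe69101ff34480ff983c07fcc1a03fe60b01ff30180ff964407fcb1203fe50901ff20480ff8e4407fc71e03fe38901ff1c280ff863c07fc21203fe00b01fefc480ff703c07fb81a03fda0901fec0480ff5c2407fac1a03fd40b01fe98880ff4c0c07fa51603fd20b01fe8c580ff462407fa10e03fd08501fe80880ff3e4407f9e1e03fcf0d01fe78380ff3c1407f991203fcb8901fe58880ff2c2407f951603fca8301fe50780ff283407f940e03fca0501fe4c480ff242407f901203fc70f01fe38680ff1a2407f891203fc41101fe20480ff042407f7f1603fbf8901fdf8580fefc2407f7d1a03fbe0901fdec480fef23407f791603fbc0901fdc8480fee02c07f701203fb78f01fdb0780fed83407f6c0603fb58901fda8580fed42407f691203fb38f01fd9c680fece0c07f631203fb00901fd60480feae2c07f562203fab0d01fd50580fea63c07f531a03fa98b01fd4c380fea41c07f511603fa88901fd40580fea02407f4e1e03fa70b01fd38380fe984407f4c1203fa48901fd24280fe842407f411e03fa08d01fd04580fe820c07f3e1e03f9f0d01fcf8580fe762407f3a1a03f9b8f01fcd8380fe6c1407f351e03f9a8d01fcd4580fe6a1c07f342203f9a0901fcb4480fe562c07f2b1203f940901fc94480fe3c4407f1e1203f8d0901fc64880fe323407f191203f8c8701fc64280fe303c07f181a03f8c0701fc5c4))))))) (BT.node (nat_lit 440) (BT.node (nat_lit 436) (BT.node (nat_lit 434) (BT.node (nat_lit 433) (BT.leaf (Bx.mk (nat_lit 0x8101ec0c080f5160407a090203cc78101e634080f306040790b0203c488101e224080f01e040780d0203bc48101de1c080ef0a04077830203b878101dc34080ee0e040768b0203b448101d824080eb2204075890203a858101d424080e91604074890203a088101d024080e712040730f02039868101cc14080e51e040728902038c58101c22c080dd120406e0b02037048101b62c080db120406d1102036478101b024080d71e0406b8d02035848101aa24080d31a040691102034478101a22c080ce120406689020330881019824080cb1e040658b020328481019024080c516040618f020304881018234080c116040608702030418101802c080c01204060070202fc781017e34080bf160405f0f0202f8681017c2c080be0e0405f050202f4581017a24080bd0a0405e830202f0781017834080bc120405e070202f028101763c080bb1a0405d8b0202e4581017224080b81e0405c0d0202dc681016e2c080b7120405b0f0202d8481016a2c080b416040598b0202cc481016614080b30604059050202c4881016224080b01a04058070202c0181015e14080af0604057090202b8181015a44080ad1e040568d0202b428101560c080a9160405311020298581014c24080a522040528b02029088101483c080a40a040500b020280481013e240809a160404c9102026078101303408098160404c0302025c181012c0c0809516040498b02024c181012224080901a040480302023c481011c240808d06040460f02023068101182c0808b22040458902021c781010e340808612040428902020c7810106340808316040418302020888101042408081160404089020200881010024080800a0403f8d0201fc58100fc3c0807e160403e8f0201f088100f62c0807b120403d850201e888100f43c0807a1a0403d090201e838100f414080791e0403c8b0201e438100f214080781e0403c0d0201e058100ee2c08077120403b090201d448100e83c080741a0403a0b0201cc48100e244080711604038850201c088100e0240806f1e040378d0201b848100da440806d1204035890201a888100d43c0806a1a040350b0201a058100d0140806622040330d02019858100cc1c080660a040320f02018c88100c42c0806116040300f02018068100be340805f160402f0f02017868100bc140805d120402d1102016848100b02408057120402b0902015448100a814080530e0402911020148281009c2c0804e0a0402691020134781009a340804d0e04026850201304810096440804b0a04025830201243))) (BT.leaf (Bx.mk (nat_lit 0x810418240820b22041058902082418104103c082081a041040b0208105810408240820316041010b02080058103fe3c081ff1a040ff8b0207fc18103fc24081fd06040fe0b0207ec18103f40c081f61e040fb0d0207d858103ea2c081f41e040fa0d0207d038103e644081f21e040f90d0207c838103e414081f116040f8890207c088103e02c081f012040f7910207bc58103de24081ee12040f68b0207b088103d644081ea1a040f4910207a088103cc3c081e61a040f28902078c58103be3c081df1a040ef8302077478103ba34081db1a040ec8f02076468103b22c081d906040ec0902075c481039e24081ce1e040e70d020738581039a24081cc16040e60902072c48103943c081ca1a040e483020720181038e24081c61a040e30b02070c481037c24081bc12040dc110206e0781037034081b816040db890206d8581036c24081b516040da890206d048103680c081b212040d80b0206bc181035c24081aa22040d50b0206a448103502c081a712040d30d02069858103481c081a40a040d18902067c481033e1c0819f0a040cf0f020678681033c240819e0e040cf05020674781033a340819a12040cd0702066828103302c0819812040cb8b02065c481032c3c081961a040cb07020658281032a24081941e040c98f02064c68103261c081930a040c90702064828103222c0818d16040c607020624581030c240818512040bf090205f078102f8340817c0e040be050205e048102ee2c081761a040bb070205d058102e8240817316040b9890205c468102e214081701e040b80d0205b448102da1c0816d0a040b6090205ac58102d6240816a12040b50502059448102c644081631a040b10b02057448102b63c0815812040ab8d02055c58102a43c0815116040a811020540381029e340814e16040a7090205345810294340814a0a040a48902051c581028e240814616040a10f0204ec58102742408136120409a890204cc48102661c0813112040980d0204b8781025c340812e1604097050204b4681025a2c0812d0a040960b0204b048102562c0812b12040950b0204a8481025224081281e040938b020498381024a3408121160408f8502046c881023234081190e040898b020448581022424081111a0408887020440581021c3c0810e1a040870b020438181021a240810c16040828902040c58102020c08100120407f8f0203fc68101fe14080fe160407f090203f458101fa24080fc160407e090203ec68101f60c080fa220407c0b0203e048101ee34080f70e0407b0b0203d82)))) (BT.node (nat_lit 435) (BT.leaf (Bx.mk (nat_lit 0x81062c3c083161a0418b0b020c58181062a4408315120418a0d020c5058106280c08313160418989020c485810624240831112041878b020c38681061a2c0830d12041860b020c30481061624083081e041840d020c18481060a3c08301120418009020bfc88105fe3c082ff1a0417f87020bfc28105fc1c082fd1a0417e8b020bec48105f614082fa120417b0f020bd858105ea24082f412041788d020bc088105e014082ef0e0417709020bb078105d834082ec120417607020bb028105d62c082eb12041750b020ba458105ce3c082e71a041738b020b9488105ca24082e41a041720b020b8c18105c41c082e11e041708d020b8458105c21c082df1e0416f8d020b7c18105ba3c082dc1a0416e0b020b6c68105b43c082d9160416c11020b5048105a43c082d21a0416903020b3c881059e14082ce1e041670b020b3438105983c082cc1a041660b020b2c48105961c082ca160416509020b2828105922c082c8160416409020b1c681058c24082c51e041628d020b10481058224082c0120415f8f020afc681057c24082bd120415d8b020ae4581056e44082b7120415b0f020ad8681056c2c082b5120415a09020acc881056624082b216041580f020ac068105602c082ae220415609020aac881055624082a8120415389020a98481054834082a316041510f020a8868105442c082a2060414f85020a7858105364408298120414b89020a5858105281c082940a0414487020a20581050e2c082860e0414305020a0c48105060c08281120414083020a0088105003c0827e120413f030209f488104fa0c0827b220413d110209e448104f02c082751a04139890209c448104e20c082701e041380d0209c028104de0c0826e12041358f0209ac68104d4240826916041330f02099868104cc0c082641e041320302098c88104c03c082601a041300b02098018104bc3c0825d120412e0902095458104a6240824f22041260902092c481049424082481e041240d02091848104823c082411a0411f8f0208fc581047c2408239120411a8f0208c488104603c0822f2204117890208bc181045c440822e0604116910208b44810458440822c1204115910208ac4810454440822a1204114910208a4781045234082291204114870208a4281044c44082261e041130d020898481044c1c082260a04112890208907810448340822416041118902088848104422c08220120410f8902087448104323c082191a0410a110208505810428240821322041098b020848881041e3c0820f1a041078b0208305))) (BT.leaf (Bx.mk (nat_lit 0x8107ba34083dd16041ee83020f6878107b434083da06041ec89020f6078107ac24083d51a041e90f020f4868107a40c083d01e041e80d020f40581079c3c083ce1a041e689020f3048107962c083ca0a041e48f020f24581079224083c822041e409020f1c481078e1c083c70a041e30b020f10481078624083c11a041df8d020ef848107703c083b80e041db89020ed4881076a24083b31e041d90b020ec848107603c083af1e041d789020eb4581075824083ab16041d589020ea4381075214083a60a041d18b020e8c48107442c083a212041d08f020e84381073e3c0839f1a041cf0f020e78581073a440839d16041ce87020e708810738240839c0a041cd8b020e6c48107342c0839a12041cc91020e5c881072e24083970e041cb0f020e5858107282c0839312041c90f020e486810722240839012041c70b020e38381071a2c0838d12041c687020e307810718340838c0e041c605020e2c58107142c0838a12041c48b020e1c481070c2c083851e041c28d020e1438107042c0838022041bf8f020dfc68106fa3c0837d1a041be8b020df088106f6440837a22041bd09020de488106f2240837816041bc09020ddc48106ea3c0837516041ba07020dcc78106e634083730a041b90d020dc848106e22c0837112041b80b020dc048106de440836f16041b705020db478106d82c0836c12041b58b020da458106d0440836812041b38f020d9c68106ce2c0836706041b30b020d9488106ca24083641a041b20b020d9018106c63c083631a041b109020d8448106c02c0836012041af89020d7848106ba240835c12041ad89020d6868106b42c083591e041ac8d020d6418106b024083571e041ab8b020d5878106ac340835606041a991020d4c48106a614083521a041a689020d24581068c2c0834516041a289020d105810688240834322041a18d020d0c48106861c083430a041a10d020d0858106823c083411a041a08b020d005810680240833f160419f0d020cf448106782c0833c120419d8b020cec48106761c08339160419c0f020ce0381067014083371a0419b8b020cd8581066a240833412041998b020cc8881066424083320a041988b020cc0481065e240832e160419709020cb468106583c0832a120419489020ca0481064e3c083271a041938b020c9458106483c083231a041910f020c8838106441408322060419091020c8478106423408321160419087020c842810640240831f220418f89020c78581063c240831d220418e89020c6c18106320c08318120418b91020c5c4))))) (BT.node (nat_lit 438) (BT.node (nat_lit 437) (BT.leaf (Bx.mk (nat_lit 0x8109901c084c806042638b02131c481098c2c084c612042629102131478109863c084c31a0426109021304481098024084c00e04260050212f8781097a3c084bd1a0425e8b0212e8881096c24084b51204259050212c458109602c084ae2204257070212b478109582c084ac12042558b0212a8781095424084a516042520b021290481094624084a306042510f021288681093e240849e1a0424d8902126868109340c08499220424c89021260481092e44084961e0424b0b02125078109282c0849116042480b02123c781091e340848f0e04247850212308810918240848b1a0424409021220181090e34084870a042420b02120c48109003408480160423f890211f448108f83c0847c1a0423c0b0211dc58108ee1c08477060423b0b0211d468108e624084721204238110211b078108d8340846a12042348f0211a448108d0440846812042338902119888108cc240846522042328b02119448108ca1c084650a042321102119038108c8140846406042319102118c68108c6240846222042310b02118488108c044084600a0422f8b02117c48108bc240845d1a0422e0b02116c78108b42408458160422c0902115c58108ae2408455220422a0d02114c88108a43c084521a042290b021144881089e240844e12042268b02113448108983c0844c1a0422607021130281088c2c0844612042228f021114681088a1c084450a042220502110c581088444084411e042208d0211045810880240843f1e0421f8d0210f8781087c240843d220421e110210f07810878240843b120421b910210dc481086c3c08435220421a890210cc481085c2c0842d12042160b0210ac78108503c084281a04214070210a02810848240842312042110702108478108423408421160421087021080481083e440841f1e0420f8902107c281083c340841e0a0420e91021074781083a340841d0e0420e8502107048108343c0841a1a0420d0b0210683810834140841a060420c8902105c881082e3c084161e0420a8d0210541810828440841316042090b0210446810822140840e1204207050210307810818340840c16042058b02102c4810812340840612042028d02101058108062c0840222042001102100048108001c083fc1a041fd89020fe048107ee24083f70e041fb85020fd858107ec14083f512041fa0b020fd048107e61c083f30a041f811020fc078107e014083ee12041f609020fac88107d63c083eb1a041f58b020fa848107d414083e91a041f48b020fa428107ce24083e61a041f305020f747))) (BT.leaf (Bx.mk (nat_lit 0x810be234085f006042f7830217b84810bd424085ea06042f48b0217a44810bd20c085e416042f2090217903810bc814085e406042f18f02178c6810bc61c085e30a042f08f0217846810bc22c085df1e042ef8d0217747810bb834085db12042ea890217488810ba424085cf12042e60f0217306810b982c085cb12042e50b0217245810b9224085c812042e30b0217181810b8a24085c212042e0910216fc5810b783c085bc1a042de0b0216e84810b7224085b812042db0f0216d86810b6c0c085b512042d9890216cc1810b6444085b212042d9050216c45810b603c085ae16042d4110216984810b4a24085a412042ce090216701810b323c0859512042c88902163c4810b1a240858c1e042c60d02162c5810b1424085881a042c30b0216144810b06240858216042c0890216008810b00240857f22042bf890215ec7810af6340857b16042bd830215e44810aec240857512042ba0f0215d06810ae4240856c1e042b5910215ac4810ad2240856416042b2090215884810ac22c0856112042af8d0215788810abc240855d16042ac890215584810a9c240854e06042a6110215204810a8e340854622042a30f0215184810a8a2c0854412042a20702150c7810a842408541120429c8b0214e43810a701408538060429a030214cc7810a662c0853122042988f0214c42810a5e340852f12042970f0214b86810a5c2c0852d16042958b0214ac4810a54340852a0a042948b0214a07810a500c085251e04291110214884810a423c085211a042908b0214841810a3e240851e1e0428f0d0214785810a3c0c0851b1e0428d830214684810a322408517120428b0b0214584810a2a3c085151a0428a8b0214504810a262c0851212042888b0214407810a20340850d1604286890214307810a1624085081e042840d0214144810a0024084ff120427f090213f448109f82c084fb1e0427d870213e848109ee2c084f6120427a910213d448109e834084f31a04279850213c058109e024084ef1604277890213b878109dc34084ee0e042768b0213b448109d844084ec1e04276090213ac58109d624084ea1a042750b0213a848109d244084e91e04274870213a048109ce24084e616042730902139448109c844084e41e042720d02139048109c81c084e40a042718902138858109c23c084e116042708302136c48109b42c084d81e0426c0b02136018109ae44084d7120426b0902135468109a82c084d412042698f02134878109a434084d216042679102133c481099e1c084cc1604265110213284)))) (BT.node (nat_lit 439) (BT.leaf (Bx.mk (nat_lit 0x810d9234086c9160436411021b1c5810d8e24086c51e043628d021b143810d8a0c086c416043610f021b045810d803c086c01a0436003021afc8810d7c2c086be120435e91021af47810d7a24086bd0a0435d8d021aec5810d7244086b81e0435c0d021ae01810d6644086b2220435909021ac44810d5c44086ae1a0435707021ab82810d563c086ab1a043558b021aa45810d5024086a7160435389021a945810d4a24086a41e043520d021a905810d4644086a30e043508b021a805810d40140869f1e0434f87021a781810d3a2c0869d120434d89021a604810d2e3c086971a0434b8b021a4c5810d26240868e06043458f021a2c5810d122c086871e043438d021a1c5810d0834086811a0433f090219f47810cf62408677060433a0d0219c47810ce234086711604338830219ac8810cd6340866b0a043350b0219a45810cd0240866716043330f0219986810cca2c086632204331110219884810cc24408660220432f0b0219743810cb82c0865b160432d0f0219686810cb41c0865a0a0432c8f0219645810cb03c086561e0432a0f0219506810ca82c086531204327910219388810c96440864b0e04325850219247810c9234086490e04324850219208810c903c086481a043240b02191c4810c8c2c086450a04322110219107810c8834086441604322050219101810c8644086431204321850219087810c8434086421604320890219004810c7e2c0863f120431f090218f44810c78240863b220431d8f0218ec6810c76240863b0e0431d850218e84810c722408638120431b910218dc5810c6e1408637060431b090218d83810c6a3c086350e0431a090218cc5810c6624086321a043190b0218c47810c6234086301204317890218b46810c5a2c0862c1204315890218a44810c5034086271e043138d02189c1810c4c24086251e04312890218943810c4a14086250604310890218808810c4034086200e0430f0f0218785810c3a440861d1e0430e890218708810c38340861c0e0430d8d02186c2810c34240861a060430c910218647810c323408619160430b890218505810c2824086131e043098d02184c2810c24140861012043080302183c6810c18440860822043030b0218184810c0a2c086041e043010f0218085810c040c0860006042fe890217f04810bf63c085fb1a042fd8b0217e88810bf424085f912042fc070217e01810bee3c085f71a042fb890217dc3810bee14085f61e042fb0d0217d44810be844085f41e042fa0d0217d05810be814085f406042f98f0217c47))) (BT.leaf (Bx.mk (nat_lit 0x810ef41c0877a0a043bc8f021de46810ef02c0877716043bb09021dd83810eec140877516043ba0f021dcc8810ee43c087721a043b60f021db06810ed80c0876b22043b589021da88810ed4240876916043b40b021da04810ece3c087671a043b38b021d988810ecc240876522043b205021d8c8810ec02c0875f12043af0f021d744810eb43c0875a1a043ac89021d643810eb02c0875512043a90d021d448810ea224087501e043a80d021d405810e9a440874d12043a591021d2c7810e94440874a12043a40f021d1c5810e8e240874616043a28f021d143810e86140874222043a091021d044810e80240873f120439f11021cf84810e7a440873d120439e11021cf04810e762c0873b120439d0b021ce84810e702c087371e0439b8d021cdc3810e6e1408736160439b09021cd48810e68140873312043988f021cc46810e621c08730220439809021cb84810e5a240872c12043958d021ca84810e502408727160439307021c908810e482c087240e0439191021c8c7810e463408723160439187021c8c2810e460c087221e043910d021c885810e423c08721160439011021c805810e400c0871f160438f0b021c781810e3a2c0871c220438e0f021c703810e38140871c060438d91021c6c7810e36340871b160438d87021c6c2810e360c0871a1e0438c8f021c646810e322c087190e0438c0b021c602810e2e2408716120438a8f021c546810e2a2c087141e0438a0d021c505810e200c0870d1a0438609021c2c5810e16240870922043848f021c246810e121c087081e0438403021c1c7810e0e140870622043830d021c183810e0824087031e043818d021c086810dfc0c086fd220437e0b021bf04810df62c086fa1e0437d0d021be82810df22c086f9120437c87021be42810df20c086f8120437b89021bd84810dea24086f412043798f021bcc5810de40c086f1220437803021bbc8810dde0c086ed06043758b021bac4810dd43c086e922043748f021ba42810dd034086e722043730f021b986810dc82c086e4120437187021b8c2810dc41c086e112043700b021b803810dbe2c086df0e0436f83021b787810dbc34086de060436e91021b744810db82c086db160436d83021b688810db43c086da120436d07021b682810db244086d91a0436c89021b643810db03c086d8160436b8b021b588810dac34086d6120436b07021b547810daa34086d4220436a0b021b4c8810da624086d21a0436907021b482810da224086d0160436809021b385810d9a44086cc16043658b021b247)))))) (BT.node (nat_lit 444) (BT.node (nat_lit 442) (BT.node (nat_lit 441) (BT.leaf (Bx.mk (nat_lit 0x8110e80c088701604438090221bc78110de1c0886d12044340d02218458110be3c0885e160442e9102217458110b8440885c160442d0b02216478110b23408858120442b8302215888110ac3c088561a0442b0902215828110a83c088541a0442a0b02215018110a6240884d16044261102213048110980c0884b1e044258d0221207811090340884712044220902210878110843408842160442089022100481107a240883b120441d110220e878110723c088391a0441c8b0220e418110702c08838120441b8d0220dc481106e1c088361e0441b0b0220d8181106a1c088350a0441a090220cc481106424088311e044188d0220bc781105e34088291604414890220a0481104e440882716044131102209858110482c0882412044119102208c48110443408822160441089022080581103e240881b1e0440b89022050581102824088101e044080d02203c481101224088071e044038d022018481100824087fe12043fe89021ff02810ff644087fb1e043fd89021fec2810ff43c087fa1a043fd0b021fe82810ff23c087f91a043fc87021fe42810ff03c087f812043fc07021fdc4810fec44087f61e043fa0d021fd01810fe63c087f31a043f90b021fc45810fe224087f01a043f805021fb85810fdc24087ec1e043f60d021fb05810fd644087eb0e043f50f021fa86810fc824087e216043f08b021f844810fc044087df1e043ef8b021f788810fbc24087de0e043ee0b021f6c5810fb424087d91a043ec09021f5c4810fac2c087d612043ea8b021f504810fa21c087d10a043e80b021f3c5810f9e24087ce1e043e705021f307810f9834087cc16043e589021f284810f8e2c087c70a043e309021f144810f8824087c312043e10d021f044810f803c087c01a043df0f021ef86810f7c2c087bc16043dd89021ee46810f722c087b912043dc11021ee04810f6e14087b706043da89021ecc1810f640c087b11a043d889021ec43810f603c087b01a043d80b021ec03810f5c24087ad1e043d68d021eb43810f503c087a31e043d18d021e8c5810f460c087a112043d00f021e806810f400c0879e22043cf09021e747810f3a2c0879d06043ce0b021e6c5810f36240879922043cc89021e643810f302c0879616043cb09021e547810f2a340879412043c98d021e4c4810f242c0879112043c885021e3c4810f1c240878d22043c689021e342810f18340878c16043c50f021e244810f0e2c0878316043c189021e047810f0234087810e043c085021e004810efc2c0877d1e043be8d021de86))) (BT.leaf (Bx.mk (nat_lit 0x8112e23c089711a044b8090225bc48112da440896d12044b60f0225b058112d80c0896b1a044b5870225ac28112d0240896712044b30f02259868112ca240896412044b18d02258858112c2240896106044b00902257858112ba240895d0e044ae8502257088112b8240895c0a044ab8b02255838112aa2c0895412044a98f02254448112a0240894f12044a783022538481129c0c0894b12044a48b02252058112882c0894412044a18f0224f4781127a340893b1e0449d8d0224ec58112742408939120449b8f0224d018112623c089311a04498830224c0481125e240892e0604496890224b438112563c0892b1a0449509022480481123a240891a1e0448c8902246438112302c089171204489890224444811220240890f22044870f0224285811214240890616044828502241088112063c089031a044818b0224085811204240890112044800b0223f858111f844088f8220447c090223dc18111ec44088f316044790f0223c838111e224088f012044778b0223b478111d624088e50e044718b02238c48111c434088e20e044710502238448111c02c088df160446f1102236c88111b42c088d71e0446b8d02235848111aa24088d416044690902234818111a244088d00e044680502233c581119c2c088ce12044668b022330581119634088cb0e0446585022324581119224088c81a044630f022318581118a2c088c512044620b02230c58111842c088c112044600f02230068111802c088c0060445f910222fc481117c2c088be120445e910222f4681117a2c088bd060445d8b0222ec48111742c088b91e0445c8d0222e458111720c088b8160445b8b0222dc281116e0c088b61a0445b050222d4481116844088b412044598f0222cc68111660c088b21e04459090222b8581115c0c088ad1604456890222b0681115824088ac0a044558b02229c881114e3c088a71a044538702229c281114a3c088a51a044528b0222902811146240889d160444e890222741811138240889b220444d1102226848111341c088991e0444c8d02226458111302c08898120444c0502225c581112e2408895160444a0b022250481112634088921a04449030222447811122340889106044480302223c781111e340888e160444709022234781111a340888d0e04446850222307811118340888c0e044460502222888111142c0888912044440d022220181110e240888622044430502221418111063c088821204440890222007811100340887d120443d890221e848110ee3408877120443b870221d84)))) (BT.node (nat_lit 443) (BT.leaf (Bx.mk (nat_lit 0x8114982408a4b12045250b02292488114922408a481e045240b02291c48114842408a400a0451e0b0228f048114703c08a381a0451c070228e028114700c08a37160451b870228dc281146c2408a360e0451a0b0228d048114662c08a3312045180f0228bc581145c1c08a2c22045148b0228a078114501c08a280a0451389022898781144c2c08a2512045120f02289068114482c08a23120451011022880481143a2408a1c160450e0302286c88114363c08a1b120450c8b02286418114302c08a180a0450b8b02285c281142e0c08a161e0450b0d022858581142a2408a1412045099102284c58114261c08a130a0450909022844481141e3c08a0f1a045060902282448114103c08a081a0450407022820181140e2408a0706045029102281448114082408a0316045010902280478114023408a000a044ff8f0227fc68113fe2c089fd12044fe090227ec58113f424089f91e044fb8f0227d818113e82c089f312044f8890227c048113de3c089ea22044f48b0227a438113d214089e906044f40f0227a068113d01c089e80a044f30f02279868113cc2c089e01e044f00d02277878113bc2c089dd12044ed8f02276848113b224089d81e044ec0d02276058113a224089d10a044e81102273c481139c2c089cb22044e589022728581139424089c912044e40902271c881138a2c089c506044e189022700181137e44089be16044de8b0226f4481137a0c089bc22044de090226f028113763c089bb16044dd890226e848113723c089b91a044dc890226e4381137214089b906044dc110226e0681137024089b722044db8f0226dc281136c2c089b60e044da910226d4681136a24089b41e044da0d0226d018113662c089b222044d9090226c4581136224089ae12044d7030226b0581135824089ab1e044d58d0226ac38113522c089a912044d40b02269c781134a3c089a516044d18d022688381134224089a012044cf8d0226705811336240899712044ca8f022654681132a0c0899412044ca0502265018113263c0899312044c9850226487811324340899112044c78f02263c681131e0c0898e16044c709022638181131a240898d0e044c60f02263068113182c0898b12044c50d02262858113141c0898a06044c491022624281130e24089861a044c20f02261068113080c0898306044c10b0226043811300440898012044c00702260018112fe440897f1e044bf8d0225fc58112fe1c0897e16044bf090225f478112fa340897d0e044be0b0225d848112e8240897216044b9090225c82))) (BT.leaf (Bx.mk (nat_lit 0x8116423408b21120459087022c8078116402408b1f1a0458f89022c7458116383c08b1c160458d8b022c6878116343408b19160458c83022c5c18116283c08b13160458909022c3858116143c08b09220458489022c1c48116063c08b0212045808b022bf048115f62408afa120457c89022bdc78115ec2408af11e045788d022bc458115dc3c08aee1a0457689022bb418115d82c08aeb1e0457509022ba448115cc2c08ae4160457111022b8048115b82408ad7160456b11022b5488115aa2408ad4220456991022b4c48115a44408ad212045688b022b44481159c4408ace120456611022b3048115964408acb12045650f022b2868115924408ac9120456411022b1c581158e2408ac51e045628d022b1428115862408ac2220456105022b0818115822c08ac1120455f8b022af8581157a1408abc220455d89022ae8481156e3c08ab71a0455b85022ad858115683c08ab41a0455a09022ad038115681408ab322045598f022acc68115662408ab30e045590b022ac818115623c08aaf22045578d022abc481155e1c08aae16045568d022aac58115543408aaa0e0455491022aa418115504408aa716045530b022a94781154a1c08aa4220455209022a8868115441c08aa20a0455083022a8088115403c08aa01a0455007022a80281153c1c08a9d160454e89022a7058115380c08a9b220454d8f022a6c38115361408a9a1a0454d0b022a6828115340c08a99160454c89022a6438115302c08a980e0454c03022a5c881152a4408a951e0454a85022a5038115264408a931a0454987022a4878115243408a9216045488b022a4088115202408a8f220454711022a34581151a2408a8c1e045460d022a3038115163408a8b0e0454585022a2848115122408a87160454389022a18881150c3408a86120454305022a1418115084408a84120454205022a0c78115063408a8316045410b022a0848115024408a80120453f0f0229f868114fc2c08a7e060453e8d0229f458114fa2408a7c120453d890229e888114f40c08a79160453c830229dc58114ec2408a76060453a090229cc48114e61408a7012045378b0229b878114dc1c08a6d1a04536090229b028114d40c08a681e045340d0229a058114d00c08a6716045330902299048114c02c08a60120452f8b02297c48114bc2408a5d120452d0902296458114ae3408a551a045298b02294c48114a60c08a5216045289102294478114a23408a510e045288502293c781149e3408a4f060452691022934781149a3408a4d0e04526850229341))))) (BT.node (nat_lit 446) (BT.node (nat_lit 445) (BT.leaf (Bx.mk (nat_lit 0x8117a60c08bd012045e78d022f3c581179e1408bcf06045e711022f38581179c1c08bce0a045e691022f34481179a1c08bcd0a045e683022f3048117981c08bcc0a045e603022f2c48117942408bca0e045e489022f2438117902408bc80e045e403022f1c381178e0c08bc622045e30f022f18481178a3408bc516045e20b022f0858117803c08bc006045df91022efc481177e0c08bbe1e045df0d022ef8181177a4408bbd1e045de89022ef088117783408bbc12045dd89022ee858117722c08bb912045db0b022ed4381176a1408bb506045d811022ec078117603408bb00e045d805022ebc48117562408bab06045d48f022ea4681174a2408ba21e045d10d022e88581173e3c08b9f1a045cf09022e7458117363408b9a12045cc11022e6078117303408b9812045cc07022e60281172e2c08b9712045cb09022e44481171c4408b8e1e045c707022e38181171a2408b8a16045c491022e2458117121c08b8706045c209022e0c38117042408b811e045c08d022e0458117021c08b8016045bf8f022df878116fc3408b7d22045be8f022df448116fa1408b7c1a045bd0f022de858116f41c08b7a06045bc8d022de438116f21408b7906045bc0f022de068116f01c08b7806045ba89022dd438116ea1408b7316045b78f022dbc68116de1408b6f06045b40b022d9868116ca4408b650e045b285022d9418116c82408b631e045b18b022d8c38116c42408b6116045b00f022d8068116c01c08b600a045af8d022d7c28116bc3408b5e0e045af05022d7818116ba0c08b5c22045ae0f022d7048116b81408b5b22045ad89022d6c18116b44408b5a1e045ad0d022d6858116b41c08b5a0a045ad03022d6478116b23408b5916045ac89022d6058116ae4408b571e045ab89022d5c28116ac4408b561a045ab09022d5838116a82c08b5322045a90f022d4858116a03c08b500e045a805022d3c381169e1408b4e0a045a60b022d3048116962c08b4916045a291022d14481168a1c08b441e045a20d022d0c48116782c08b3c120459d8d022cec28116742c08b3a060459c8b022ce448116721408b38160459b09022cd4781166a3408b350e0459a85022cd058116682408b331e045998d022ccc38116661408b321e045990d022cc848116641c08b320a0459889022cc0481165e2408b2e1a045970b022cb8181165a2c08b2d06045958f022cac68116562c08b2b0e0459509022ca4481164e2c08b2712045930b022c9458116482c08b2322045918f022c8c48116461408b221a045910b022c848))) (BT.leaf (Bx.mk (nat_lit 0x8119484408ca222046510f02328868119422408ca0120464f8902327078119382c08c9c060464c8b02326448119302408c971a0464b0b02325458119222408c8f12046458b02322c48119143c08c881e046428b02320c88119062c08c8112046408302320058119000c08c7f1e0463f8d0231fc18118fc3c08c7e1a0463f0b0231f818118f84408c7c160463e090231ec88118f62c08c7b120463d830231e888118f43c08c7a1a0463c910231e478118f23408c79160463c0f0231e068118f01c08c780a0463c030231dc48118ec2408c75220463a8b0231d448118ea1408c75060463a110231d028118e64408c731e046398d0231cc48118e61c08c730a046390f0231c868118e42c08c711604638890231c058118e01c08c6f22046378d0231bc18118dc2c08c6e0a046368b0231b428118d61408c690a046340f0231a058118c62c08c6312046318302318858118c40c08c611e046308d02318048118be2408c5e160462e1102317078118b83408c5c120462e0702316c48118b42c08c59120462c0902315c58118ac2408c510e0462885023144181189e2c08c4e22046270902313458118982408c4b22046258902312888118942408c4922046248f02312448118903408c4812046238b023114481188a1c08c450a046220902310c78118863408c421204621070230f8481187a2408c3d060461d8f0230ec68118723c08c391a0461b890230cc78118660c08c3122046188f0230c458118602408c2f12046170b0230b488118583c08c2c1a046160b0230ac58118562408c291e046148d0230a0481184c2c08c251e046128d023094481184a1c08c250a046118b023078881183c2408c1d120460b89023058781182a2408c14160460a0902304c48118261408c121e046090d023040381181e2c08c0f120460783023038581181c2408c0c1a046058f02302c68118162c08c0a16046050902302428118103c08c0712046029102301078118083408c0316046018902300858117fe2408bfe1e045ff05022ff818117fa2408bfc1e045fe0d022ff038117f81408bfc06045fd0f022fe868117f42c08bf922045fc89022fe058117ee2408bf322045f98f022fcc68117e61c08bf30a045f909022fc448117e02c08bef12045f709022fb048117d23c08be91a045f409022f9448117c02408bdf1a045ef8b022f7878117ba4408bdd1e045ee85022f7078117b83408bdb16045eb91022f5c78117ae2c08bd622045eb0b022f5848117ac1c08bd606045ea91022f5438117aa0c08bd412045e98b022f4c2)))) (BT.node (nat_lit 447) (BT.leaf (Bx.mk (nat_lit 0x811b3a2408d9c16046cd0f0236681811b303c08d981a046cb0f0236586811b282408d9016046c5090236147811b0a3408d8516046c20b0235f44811af82408d7b12046bd0b0235e48811af03c08d781a046bc0b0235dc8811aec3c08d7616046ba050235cc3811ae02c08d6f12046b6890235b04811ad63c08d6b1a046b5090235a44811ace3c08d6612046b28b02358c7811ac62408d630e046b1090235844811ac00c08d5f06046af090235708811ab22c08d5606046aa830235505811aa64408d530a046a8910235445811aa21c08d5016046a80702353c5811a9e2408d4e1a046a4910235247811a922408d490a046a40d0235203811a8e3408d461a046a3070235182811a882c08d4412046a10b0234f84811a7a3c08d3d1a0469e0f0234ec6811a703408d37120469a8f0234d46811a6a0c08d331a046988d02349c4811a4c3c08d261a04692890234905811a402408d1f160468f890234747811a363408d1b060468d0b0234607811a303408d18160468b090234547811a2a3408d15160468a0902344c5811a202408d0f12046870b0234348811a1a2408d0d0604686110234301811a142c08d0a06046848b02341c5811a0e0c08d061604683090234183811a0c1408d0522046828f0234146811a0a1c08d050a04682830234107811a083408d040e04682050234101811a062c08d031204681090234081811a024408d011a046808b0234007811a003408d001604680030233fc88119fe3c08cff1a0467e890233ec48119f42408cf7060467b0f0233d868119ec2c08cf6120467b070233d828119ec0c08cf11e046788b0233c048119de3c08ce412046708f02338468119c21c08ce10a046708302338048119b62c08cdb120466d0f02336448119b03c08cd8160466b8d02335c58119a63c08cd30e046698502334c18119a43408cd216046690702334818119a23c08ccd16046668902333048119963c08ccb1a046651102332858119942408cc922046648b02332418119904408cc81a046640902332038119901408cc806046638702331c281198c2c08cc60e0466305023314681198a2408cc50a046628302331058119881c08cc40a046620302330c88119842408cbf1e0465f8d0232fc181197c4408cbe160465e910232f4681197a2408cbd0e0465e850232f418119744408cba120465c8f0232e468119722c08cb61e0465a910232d448119683408cb416046598b0232cc48119623c08cb116046540f0232a068119502408ca80e046540502329c481194a4408ca51e046528d0232942))) (BT.leaf (Bx.mk (nat_lit 0x811d001c08e7e120473e890239f06811cf63c08e7a1a0473c0b0239dc7811cee2c08e770e0473b090239d82811cea2c08e720e047380b0239c04811cdc3c08e6a1e04734110239a05811cce4408e671604733890239988811ccc3c08e661a04733050239944811cc82408e6312047310f0239886811cc42408e620e04731030239844811cc21c08e5f1e0472f8d02397c5811cb82408e5c060472d8f02396c6811cb44408e591e0472c870239641811cb04408e561e0472b0d0239585811ca62c08e530a04729110239487811ca43408e501e047280d0239401811c9c3c08e4e1a04727030239344811c962408e4a1204725030239248811c923c08e491a04724870239242811c920c08e4512047220f0239106811c843408e40120471d890238e46811c662408e301e047180d0238c01811c5e2408e2d2204716890238b43811c5a1408e2c12047158b0238ac4811c542c08e2a1204715030238a48811c523c08e291204714870238a42811c502408e271e04713090238904811c463408e2116047108902386c5811c362408e1b0e0470d850238684811c341c08e1a0a0470d030238648811c323408e19120470c870238642811c303408e18160470c070238602811c2c4408e16120470a0902384c8811c263c08e131a047080d0238405811c1e2408e0e16047060f0238306811c181408e0c0604705910238285811c142408e0912047038f02381c6811c0c2c08e040604701890238048811c023c08e011a047008b0238041811bfe3408dff0a046ff0d0237f84811bfc1408dfd22046fe870237f07811bf83408dfc16046fd890237e85811bf22c08df912046fc110237dc7811bee3408df612046fa0b0237d04811be62408df11e046f88d0237c04811bde2408dee16046f7090237b81811bda2408ded0e046f6850237b05811bd62408deb06046f48f02379c4811bcc3c08de61a046f30b0237983811bcc0c08de212046f08f0237846811bc03408de016046ef8b0237785811bbc2408ddb22046ed8902376c2811bb43c08dda1a046ed0b0237644811bb03c08dd81a046ec0b02375c4811ba62408dd01e046e80d02373c5811b9e2408dcd1a046e60902372c4811b8e4408dc70a046e30b0237145811b882408dc016046df890236f85811b7a2408dba22046dc8f0236e04811b6c3c08db61a046da8f0236c45811b604408db012046d8070236bc4811b543c08daa1a046d50b0236a04811b4e0c08da61e046d30b0236982811b4c0c08da406046d1830236847811b423408da116046d00902367c7))))))))) (BT.node (nat_lit 480) (BT.node (nat_lit 464) (BT.node (nat_lit 456) (BT.node (nat_lit 452) (BT.node (nat_lit 450) (BT.node (nat_lit 449) (BT.leaf (Bx.mk (nat_lit 0x811eba3408f5d16047ad87023d508811ea83c08f540e047aa05023d501811ea64408f531e047a98d023d4c5811ea43408f520e047a885023d408811ea01c08f4f22047a787023d3c1811e9c4408f4e12047a683023d2c8811e962408f4922047a483023d208811e903c08f481a047a407023d202811e8e2c08f4712047a30f023d186811e8c1c08f460a047a189023d042811e7e3c08f3f1a0479f09023cf41811e783c08f39220479c8f023ce46811e721c08f390a0479c83023ce07811e6e3c08f371a0479b8b023cd86811e683408f3222047988f023cc46811e620c08f3012047978b023cbc4811e5a2c08f2d120479683023cb08811e582408f2b16047950b023ca84811e503c08f281a047918b023c845811e3a3c08f1d160478d89023c684811e321408f18160478c03023c5c6811e2e0c08f16120478b03023c547811e2a2408f150a047898f023c4c6811e240c08f111e047880b023c404811e1e2408f0e1e0478705023c348811e1a3c08f0d1a047858b023c287811e143408f0a160478503023c205811e0e3c08f071a047820b023c104811e020c08f00160477e91023bf07811df83408efa160477b0d023bd81811dea4408ef5120477a0b023bd04811de80c08ef322047798f023bcc6811de61c08ef30a047788f023bb85811ddc2408eec22047760f023bb06811dd82408eea12047748b023b9c4811dca1408ee41e047720d023b905811dc64408ee30e0477185023b845811dc22408ee0160477009023b784811db43c08ed9160476c89023b604811da64408ed212047688f023b446811da22c08ed10e047680d023b403811d982c08ecb160476589023b285811d883408ec3160476091023b047811d823408ec10e0476083023af86811d7c1408ebd1e0475e8b023aec7811d763408ebb060475d11023ae84811d724408eb9160475c85023ae41811d704408eb80e0475c05023ae01811d6e4408eb7120475b87023adc2811d6e0c08eb6220475b0d023ad84811d6c1c08eb5120475a0f023ad06811d682c08eb3160475989023ac88811d642c08eaf120475683023aac4811d561408eaa1e047550d023aa07811d503408ea6160475309023a945811d482408ea316047510f023a883811d3e2408e9d120474e11023a707811d383408e9c120474c0b023a604811d2e3408e96220474b0f023a547811d2a3408e9312047490f023a486811d242c08e9206047488b023a404811d1e3408e8d120474609023a301811d163c08e8b1a0474489023a207811d100c08e851e0474189023a004))) (BT.leaf (Bx.mk (nat_lit 0x812050240902616048120b02408c88120443c0902206048108d024084181203e440901f1e0480f8d02407c581203e0c0901e060480e8902407078120363c0901b1a0480d8302406858120323c09016220480b0f024058681202a2c090140e0480a0502404c68120242c0901206048088d024044581201e240900e220480709024038381201c140900d1e048068b0240307812018340900c1604805890240287812014340900a16048040f02402068120102c09007160480309024014581200a240900312048010b02400078120003408fff12047ff0b023ff84811ffa2408ffc12047fd8f023fe84811fe64408ff30e047f909023fb87811fd41408fe81a047f403023f9c4811fca3c08fe516047f211023f904811fc62408fe01e047f00d023f805811fc01408fdf22047ef8d023f7c4811fbe1c08fdf0a047ef83023f788811fbc0c08fdc06047ed0b023f605811fb00c08fd606047ea91023f547811faa3408fd506047ea11023f504811fa80c08fd222047e889023f441811fa02c08fd012047e78b023f3c1811f9c2408fce06047e691023f345811f9a1408fcd06047e603023f2c5811f962408fcb06047e50d023f247811f904408fc812047e403023f1c6811f8e2c08fc706047e30b023f148811f8a0c08fc41e047e20d023f101811f862c08fc312047e111023f044811f804408fc006047df91023efc1811f7c2c08fbc12047dd89023ee84811f724408fb70a047db0b023ed82811f6a2c08fb512047da0b023ed04811f663c08fb21e047d90d023ec47811f623408fb006047d711023eb45811f524408fa822047d409023e9c7811f4e1408fa706047d311023e987811f4c3408fa616047d28b023e908811f483c08fa41a047d08f023e846811f3c2408f9d16047ce11023e707811f383408f9c12047cd91023e6c4811f2c2408f931e047c90b023e484811f222408f8e12047c689023e342811f1a0c08f8c16047c609023e2c5811f143c08f8a1a047c50b023e281811f0e2408f8512047c209023e0c4811f042408f8112047c00d023df85811efa2c08f7d06047be11023df07811ef83408f7c12047bd85023dec1811ef43c08f7a12047bd05023de47811ef23408f7816047bc09023dd48811ee43c08f721a047b90b023dc04811eda3c08f6d16047b609023dac5811ed42408f6912047b409023d9c5811ecc2c08f651e047b28b023d907811ec83408f6416047b18f023d8c6811ec61c08f6212047b085023d805811ec01c08f5f16047af87023d7c1811ebc4408f5e1e047af05023d747)))) (BT.node (nat_lit 451) (BT.leaf (Bx.mk (nat_lit 0x8121fe34090fe1e0487f0d0243f838121fc14090fd0a0487e0b0243f028121f624090fb060487d050243e818121f224090f81e0487b090243d478121e61c090f20e048778d0243b448121d82c090ec1204875910243ac78121d634090eb1204875870243ac28121d43c090e91a048748b0243a088121d02c090e81204874070243a028121d00c090e712048730f02439868121ca24090e41a048720b02438848121be3c090de160486e9102437478121ba34090dd0e0486e8302437058121b824090dc060486d9102436c78121b634090db120486d8702436c28121b43c090da1a0486d0b02436458121b024090d8060486b8902435c38121ae14090d6120486a0902434c68121a42c090d20e048688b024340481219e24090cc1e0486511024328781219434090ca0e0486505024320781219034090c8160486389024318681218c2c090c41e048620d024310581218644090c31204861110242fc681217a2c090bb1e0485d090242e818121723c090b9060485b8d0242dc481216c3c090b61a0485b0b0242d8281216a1c090b40e04859890242c838121621c090b10604858090242bc681215624090a822048538f024298481214a44090a51e048518f02428c68121462c090a212048508b024280481213c240909c1e0484e0b02426c7812136340909b160484d0902426468121322c090971e0484b8d02425c581212634090930e048488f02424468121222c090910a048488302423c381210e340908716048430d024218481210824090811604840890242008812100240907d160483e090241ec68120f61c0907a0a0483c870241e418120f024090780e0483c030241dc68120ee1c09076120483a8b0241d418120e60c090721604839090241bc78120da3c0906d0e048360d0241b038120d6240906b0604835030241a448120d03c090681a048338f02419c68120ce0c0906612048320d02419058120c644090631e048311102418858120c40c0906112048300b02418048120bc3c0905e1a0482f0b02417448120b8240905b160482d0902416448120b02c090571e0482b8d02415848120a43409051120482809024140181209e440904f1e048278d02413c481209e1c0904f0a0482703024134881209a140904d060482589024120681209024090480e048238b02411c481208c2c0904612048218d02410c58120842c090410e04820850240f048120743c090391a0481b890240dc181206834090331e048198b0240c82812060340902f1204817830240b04812056240902a2204815050240a46))) (BT.leaf (Bx.mk (nat_lit 0x81240a3c0920512049028702481428124083c092041a049020b02480c18124043c092021a04901030248048812402240920012048ff910247fc48123fe1c091fe1e048ff0d0247f848123fc1c091fd1e048fe8b0247f048123f63c091fb1a048fd8b0247e858123f424091f912048fb8b0247d848123ea0c091f41e048fa0d0247d058123e624091f116048f8890247c058123d824091ea1a048f5070247a448123d20c091e816048f40902479c88123ce1c091e70a048f31102479858123cc0c091e516048f28302479078123c834091e416048f18902478078123c034091df12048ee1102476c48123b61c091da1e048ed0d02476858123b034091d51e048ea8d02475058123a424091cf16048e70b02473458123942c091c916048e489024720581238e24091c612048e209024700481238014091bf12048de0f0246f068123782c091ba1e048dc890246dc481236c34091b512048da0f0246d068123682c091b11e048d88d0246bc781235e2c091ad1a048d6830246b0481235624091a216048d089024680481233e2c0919f12048cf0d024678181233a340919d16048ce87024674281233a0c0919b12048cd83024668181233224091961e048cb0d0246585812318240918816048c389024618581230c240918512048c19102460c781230614091820e048c1050245f858122fc240917d16048be850245e478122f234091771e048bb8d0245d848122ea240917416048b98b0245cc38122e60c0916f1a048b78b0245b478122da2c0916b0a048b48d0245a448122d21c0916906048b40902459448122ca1c0916416048b20902458c58122c624091611a048b01102457878122bc340915d16048ae0902456458122b224091581a048ac0702456028122ac2c091551e048aa8b02454c78122a6340915316048a909024544581229e240914e12048a68b0245344812296240914a22048a48f02452468122922c0914812048a28902450c48122842c0914112048a00f024500581227c240913d1e0489e8d0244f4581227a0c0913c120489d8f0244e818122722c091381e0489b0f0244d8681226c2c091341204899890244c458122620c0912f1a048968f0244b458122563c0912b16048918d02448c58122443c0912216048908b024480581223c340911c1e0488e0d02447058122342409119160488c83024458781222c340911512048898902444c181222424091120e0488889024440581221c240910d12048860b02442c48122160c091091e048840902441c581220e0c091050604882090244087))))) (BT.node (nat_lit 454) (BT.node (nat_lit 453) (BT.leaf (Bx.mk (nat_lit 0x8125b01c092d80a0496b87024b5c28125aa44092d50e049698b024b4c48125a42c092d212049680b024b3c481259a2c092cd12049660b024b2c88125963c092cb1a0496589024b2c381259614092ca160496509024b2488125923c092c91a0496489024b24381259214092c906049640b024b1c881258e24092c616049628f024b14681258a2c092c2220496109024b04781258234092c1160495f8b024af048125743c092ba120495a8b024ad0781256824092b40e049590b024ac0881256024092af160495789024ab8681255c2c092ae06049560f024ab068125580c092a9220495489024aa4281255024092a716049528d024a8c481254444092a21e049510d024a88381254414092a01e049500d024a80581253e240929e1a0494e03024a6c481253024092971e0494b8d024a5c581252c24092951e0494a8d024a5458125282409293160494989024a4848125202c0928f160494783024a34781251a340928d160494683024a3058125163c0928b1a049450b024a247812512340928916049428b024a0c58125022409280120493f890249f878124fc340927e160493e890249f048124ee2c09277120493a8f0249d468124ea2c092741604939090249c478124e234092701204937890249b848124d83c0926c1a049360b0249ac88124d6240926912049340d02499848124c83c092641a049320302498c58124c6240926306049310b02498848124c40c0926122049308d02498448124c21c092610a049300902497c78124ba3c0925d1a0492e8302496888124b4340925a120492c8902496058124ae4409257120492b0d02495458124a824092521e049290b02494838124a02c0925006049270b0249301812496440924b12049258702492c2812494440924a12049250702492828124940c0924922049248d02492448124921c092490a049248302491c881248c240924522049228f024914481248a140924506049218d024904581248224092401604920030248fc881247e3c0923f0e0491f850248f4781247a340923d160491e090248f028124743c0923a1a0491d0b0248e458124722409238160491c030248dc781246e3409235120491a0f0248d0681246624092321e049190d0248c838124640c0922f22049178d0248bc481245c3c0922e1a04916110248b07812458340922c0e04916030248a448124503c092281a0491389024898481244a2409223120490d8f02486848124340c09219120490a8f024854681242a0c0920912049040b024820481240e240920706049030b0248148))) (BT.leaf (Bx.mk (nat_lit 0x81275624093a912049d40d024e98481274a34093a516049d10b024e84781274234093a116049d00b024e70581273824093991e049cc8b024e587812726440939316049c88b024e38781271c340938e0e049c705024e34581271a240938c1e049c609024e303812718140938b1e049c58d024e2c5812714240938916049c489024e241812710440938612049c289024e104812700240937e22049bf09024df488126f8240937a0a049bd03024de448126f21c093781e049bc0d024de058126ee2c0937712049bb0b024dd458126ea240937406049b98d024dcc28126e444093721e049b90d024dc818126e2440937112049b883024db848126da340936916049b489024d9c88126ce340936622049b307024d9048126c60c0936216049b08b024d7c78126bc2c0935d0e049ae83024d7038126b80c0935b1e049ad8d024d6c38126b42c0935906049ac0f024d6068126b00c0935722049ab89024d5858126ac24093551e049a98b024d4c48126a42c093520a049a88f024d44381269e240934e22049a68d024d345812698240934a16049a507024d28181269244093491e049a48d024d2448126921c093490a049a483024d2088126903c093481a049a407024d2028126900c0934722049a38b024d1c381268e140934622049a30f024d18681268c1c093460a049a303024d14881268a2c0934412049a103024d0478126803c09340160499f0b024cf8481267a440933d1e0499e85024cf03812678140933b160499d0b024ce848126702c09337160499b89024cd8581266c24093360a0499a8f024cd438126662409332120499891024cc4781266224093310a0499807024cc02812658240932c060499511024ca478126502409327160499389024c94781264a24093250e0499209024c8c68126460c0931f120498e91024c744812638240931b220498d8d024c6c38126361409319220498c89024c5078126283409314060498989024c4458126222409311060498811024c404812620140930b06049850d024c28381260e1c09306120498305024c1478126021c09300120498007024c0018125fe24092fd1e0497e8d024be088125ee44092f70a0497b83024bd488125e824092f322049778d024bac58125d61c092eb060497509024ba838125d01c092e71a049738b024b9458125ca24092e4160497189024b8c28125c42c092e20a0497089024b8438125c214092e0160496f87024b7c28125be0c092de0a0496e89024b7428125b834092db160496d87024b6c28125b42c092da0e0496c87024b642)))) (BT.node (nat_lit 455) (BT.leaf (Bx.mk (nat_lit 0x8129142c094891604a440902521c481290a44094851e04a428902520888128fc340947d1204a3e090251d818128ea24094722204a39090251ac58128d244094681a04a340b02519488128ca14094621604a310902518448128be24094591604a2c8902516048128ae24094570e04a2b8502515448128aa14094541604a2a0902515028128a644094530e04a298302514858128a424094520e04a290502514438128a214094510604a281102514078128a01c094500a04a278f02513c681289e1c0944e1604a2707025138281289a3c0944d1a04a268b0251343812898240944c0e04a258902512c38128960c0944a2204a250f0251286812894240944a0e04a250502512488128923c094491a04a248702512428128920c094482204a240b02512038128900c094472204a238b02511c481288e1c094470604a2311025118781288c34094461204a2307025118281288a34094451604a228702511428128880c094432204a218f025104581288224094400e04a20030250fc481287a2c0943d1204a1d8b0250ec48128742c094380604a1b910250dc781286e34094370e04a1b850250d8581286a3c094351a04a1a0f0250d068128681c094321e04a190d0250c4481286044094301e04a18050250bc581285e240942e1e04a16830250ac88128563c0942b1a04a15870250ac28128523c094291a04a140902509c581284e24094262204a130f025098681284c24094260e04a130502509448128481c094240604a110d02508838128440c094212204a100902507c781283e340941f1604a0f11025078681283c240941c1604a0c0b02505c781282a3c094151a04a0a8302505048128242c094111204a0887025044281281e2c0940e1204a0691025034481281224094071604a030b025018481280a44094041604a018b025004681280024093ff12049fe0f024ff068127f82c093fc0e049fd8b024fe888127f424093f91e049fc8b024fe048127f014093f612049fa8d024fd458127e844093f322049f911024fc848127e244093f112049f80b024fc048127de24093ef0a049f709024fb048127d814093eb1a049f509024f9878127cc34093e616049f305024f9478127ca24093e50a049f20d024f9058127c624093e216049f109024f7878127bc34093de16049ee89024f7048127b63c093d422049ea09024f4458127a044093d012049e589024f20881279024093c612049e009024efc681277c24093bd0a049dd11024ee8481276c24093b312049d789024eb8581275c24093ac1e049d60d024eb05))) (BT.leaf (Bx.mk (nat_lit 0x812ae444095721204ab8910255c44812ae044095701204ab7910255bc4812ad8440956c0a04ab58b0255ac4812ad60c0956a1604ab5030255a05812ace34095651604ab2890255905812ac824095631604ab1890255885812ac424095611604ab0890255788812abc3c0955e1a04aaf0b0255748812aba340955d1204aae870255741812ab81c0955b1e04aad830255685812ab22c095562204aab0f0255505812aa824095521e04aa90d0255445812aa224095501204aa79102553c7812a9e340954f0e04aa70f0255384812a9c1c0954d1604aa60f0255306812a98140954c0604aa50f0255286812a9224095471604aa3090255145812a8224095402204aa0090254fc5812a7c240953d1e04a9e8d0254f45812a7a0c0953c1204a9c0f0254e05812a6e44095371204a9a8b0254d08812a6824095311204a980f0254b86812a543c0952a1a04a94890254a04812a4e2c095271204a910b0254843812a4214095201204a8f110254784812a3824095181604a8c0902545c5812a2e24095161e04a8b0d0254583812a2c14095151604a8a8902543c5812a1c2c0950b1a04a85850254245812a0c3c095061a04a830b0254107812a0834095041604a82030254085812a003c094fe1204a7e890253f048129f81c094fb0e04a7d0f0253e048129ee2c094f61604a7b090253d448129e644094f21e04a790d0253c858129e22c094f01a04a77910253b888129dc3c094ee1a04a77090253b838129dc14094ee0604a760f0253b018129d624094e31204a710f02538868129c42c094e11204a700902537048129b424094d92204a6b0902534458129a02c094cf2204a6789025334781299a34094cd1604a6609025328781299434094c71204a6309025304481297a34094bd0604a5e0f0252f068129782c094bc0604a5d890252e888129743c094ba1a04a5d0b0252e8181297244094b91204a5c830252e048129700c094b72204a5b8f0252dc681296e2c094b70e04a5b850252d8481296a2c094b31604a59890252c8581296024094b00a04a57890252b8481295824094ab1e04a558d0252ac581295444094aa1604a55090252a8181294e24094a70604a5311025298481294c0c094a41204a510d025280781294034094a00e04a500502527c781293e1c0949e1204a4e8f0252742812938440949c1e04a4e0b02526488129322c094990604a4c0b02525c581292c2c094952204a4a8302524c88129263c094921e04a488902524088129200c0948f1604a47890252307812916240948b0e04a450f0252286)))))) (BT.node (nat_lit 460) (BT.node (nat_lit 458) (BT.node (nat_lit 457) (BT.leaf (Bx.mk (nat_lit 0x812cae0c096561204b2a0d0259484812ca224096501204b26910259344812c96240964a1e04b248902591c4812c8c2c096461204b220b02590c4812c82240963d1204b1d8f0258ec6812c760c0963a1604b1d090258e45812c7044096381a04b1c090258e03812c7014096371204b1b0f0258d86812c6c2c096351204b198b0258c48812c6224096310e04b18850258c08812c6024096300604b17910258bc5812c5e240962f0604b17090258b45812c5a1c0962c1204b15890258a48812c523c096291a04b14870258a08812c5024096280a04b139102589c7812c4e34096271604b130b0258947812c4a2c096242204b11890258881812c422c096201604b100902587c5812c3c3c0961e1a04b0f0b0258704812c343c0961a1a04b0d0b0258604812c301c096170a04b0a8d0258447812c2234096101604b078b0258385812c1a2c0960d1204b060f0258305812c180c0960b0604b050b0258284812c1024096070e04b020d0258105812c062c096001604b00090257fc5812bfc3c095fe0e04aff050257e85812bf424095f92204afc8f0257e46812bf21c095f90a04afc0b0257dc5812be824095f31a04af98b0257c47812bd83c095ec1604af6070257b02812bd43c095ea1a04af50b0257a81812bd02c095e52204af28f0257946812bca1c095e50a04af1890257887812bc434095e21604af10302577c6812bb824095db1a04aec8d0257585812bac24095d41204ae88b02573c5812b9e24095ce1604ae7090257381812b983c095cc1a04ae60302572c4812b903c095c41604ae18b0257044812b8034095bf1604ade8d0256e45812b7224095b81204adb0f0256d86812b6a44095b51e04ada890256d07812b6834095b31604ad80b0256b84812b583c095ac1a04ad60b0256b03812b5644095ab1a04ad5870256a87812b5434095aa1604ad4870256a42812b5024095a71204ad3090256944812b482c095a31204ad1090256844812b4214095a01604acf870256787812b3c2c0959d1204ace110256705812b38240959b2204acd8b02566c4812b34440959a1e04acc910256646812b3224095981204acb8b0256584812b2a24095931e04ac9090256384812b1a440958d1204ac39102561c6812b0e1c095870a04ac3830256181812b0a44095851e04ac28d0256142812b0a0c095840604ac19102560c4812b043c095821604abf8b0255f85812afc0c0957d1604abe890255f04812af60c0957a1604abd030255dc6812aee2c095770604abb0b0255d44812ae83c095741a04aba030255cc4))) (BT.leaf (Bx.mk (nat_lit 0x812e1c0c0970d1204b8589025c287812e1434097091204b840b025c1c4812e0c2c097060a04b8291025c147812e0a34097051604b8287025c141812e0624097020e04b8105025c048812e0224096fe1604b7f05025bf08812df824096fb1604b7d11025be87812df434096fa1604b7c91025be44812df20c096f82204b7b91025bd85812dec24096f60a04b7a0d025bbc5812dda14096eb1a04b7511025ba84812dd224096e81604b738f025b9c4812dcc24096e51604b7209025b8c5812dc42c096e21204b7103025b846812dc224096e10a04b7011025b804812dc01c096df1e04b6f8b025b706812db424096d91204b6c0b025b604812da62c096d30604b690b025b444812da20c096d01e04b6691025b344812d9a1c096cc1e04b6607025b301812d9644096cb1e04b6587025b2c2812d9424096ca0604b648f025b243812d8e3c096c71a04b6383025b188812d8c24096c51604b620b025b104812d863c096c31a04b6185025b084812d823c096c11604b6009025afc5812d7c44096bb1604b5a8d025ad08812d6824096b31e04b598d025acc5812d6044096b01204b578b025ab85812d5a24096a81604b538f025a9c5812d4c44096a61204b528f025a946812d4a2c096a31604b510f025a886812d441c096a11204b500f025a806812d401c096a00604b4f8b025a785812d3c240969e0604b4e89025a742812d38440969c0604b4d91025a6c5812d36240969b0604b4c8f025a646812d3024096971e04b4b8d025a5c5812d2e14096961604b4b09025a583812d2c14096960604b4a8b025a543812d2a14096941204b4a07025a4c4812d261c096921a04b490b025a483812d222c096910e04b4885025a404812d1e2c0968f1204b4783025a388812d1c340968e1204b4707025a382812d1c0c0968d2204b468b025a344812d1a1c0968c1604b4607025a2c7812d16340968b0e04b4585025a287812d14340968a1604b4507025a281812d122c096890e04b4403025a1c8812d0e3c096871a04b4311025a186812d0c1c096842204b4205025a101812d022c096811204b400b0259fc7812cfe1c0967f0a04b3f0b0259f08812cf8240967b1e04b3d8d0259e07812cf02c096780604b3b910259dc4812cec2c096761204b3b030259d48812cea24096741604b39890259c84812ce2240966d1e04b368d0259b41812cd83c0966c1a04b360b0259b01812cd62c0966a1604b35090259a81812cd22c096691204b338f02598c4812cc444096621204b300b02597c4812cbc240965b1e04b2c830259605)))) (BT.node (nat_lit 459) (BT.leaf (Bx.mk (nat_lit 0x812ff034097f81604bfc03025fd84812fe624097f01604bf809025fbc5812fde24097ee1e04bf70d025fb83812fdc14097ec1204bf589025fac1812fd444097ea1a04bf50b025fa44812fca24097e41604bf189025f887812fc434097e11204bf009025f7c4812fbc24097dc1e04bee0d025f703812fb62c097db1204bec89025f643812fb214097d81a04bec0b025f5c7812fae2c097d61604beb09025f507812fa81c097d40a04be88b025f444812fa03c097d01a04be807025f402812f9e24097ce1204be689025f307812f9814097cb1204be509025f245812f902c097c71e04be38d025f185812f8824097c40e04be205025f0c7812f8634097c30e04be185025f085812f8424097c11604be089025f041812f802c097c01204bdf89025ef48812f7a24097bc1e04bde07025eec8812f742c097ba1204bdc8b025ee44812f7044097b71604bda8b025ed44812f682c097b11604bd889025ec05812f6024097ae1e04bd70d025eb45812f580c097ab1604bd503025ea44812f500c097a72204bd383025e988812f4c0c097a41604bd10d025e885812f420c097a02204bcf03025e6c8812f2e24097951604bca0b025e448812f2224097901a04bc609025e2c4812f123c097881204bc309025e147812f080c097830604bc08d025e008812efe3c0977f1a04bbf8b025df45812efa24097791e04bbc8d025de41812ef02c097771604bba8d025dd41812ee43c0976d1e04bb68d025db45812ed8240976b1e04bb58d025d988812ecc24097651e04bb28d025d945812ec82c097641204bb111025d887812ec434097621604bb089025d806812ec02c0975f1204baf0f025d785812eba240975d0604bad89025d6c1812eb4340975a1604bac09025d548812ea82c097531a04ba989025d4c3812ea614097511604ba811025d407812ea0240974f1e04ba78d025d3c5812e9c240974e0e04ba691025d347812e9a140974c1a04ba603025d287812e9224097481604ba409025d1c5812e8c2c097461204ba289025d141812e880c097421e04ba10d025d085812e7a3c0973d1a04b9e83025cec6812e760c097391a04b9b8f025cdc6812e6e2c097370604b978f025cbc6812e5c240972e0e04b968f025cb46812e5a2c0972b1204b940d025ca05812e4e24097260604b9283025c905812e462c097222204b9109025c847812e4234097211604b9011025c804812e3e240971e1204b8e0f025c705812e36240971a1e04b8d0b025c5c4812e2c24097152204b8a0d025c487812e2434097121604b8809025c3c1))) (BT.leaf (Bx.mk (nat_lit 0x81316034098b01604c578b0262b8381315a34098ac1e04c560d0262b0581315244098a91604c548902629c781314e34098a71604c530f02629858131442c0989f1204c4f11026278781313c340989e1604c4f0302627448131383c0989c1604c4e070262701813134240989a0a04c4c8f02626468131322c098990e04c4c8502626418131303c098981a04c4c0302625c881312e24098961e04c4b0d026258181312a44098951204c4a0902624c881312624098922204c490b02624828131223c098911a04c480b026240481311e240988d2204c46890262307813118340988c1604c460302622c5813116240988a2204c450f02622868131142c0988a0e04c450502622468131122c098890604c440b026220481311014098871e04c438d02621c381310e14098840a04c418f02620c681310424098820e04c408f02620458130fe2c0987b1604c3d090261e078130f034098780e04c3c050261dc48130ec2c098741204c39090261c488130e23c098711204c38850261c078130e034098701604c38070261bc88130de3c0986f1a04c37890261bc38130de140986f0604c370b0261b848130da2c0986d1204c360f0261b068130d6440986b1204c350d0261a818130d244098691204c34110261a078130d00c098672204c330f02619868130cc0c098642204c320902619038130c814098631e04c318d02618888130c424098620e04c310302618488130be2c0985f1204c2f0902617468130ba240985c1204c2d0b02616818130b23c098590e04c2c0f02615c38130a624098501a04c269102612c8813096240984a2204c2509026124881309224098482204c240d026120481308e24098461604c2309026114581308a24098441604c220902610c78130862c098421204c208f02610468130822c0983e1a04c1e890260e8781307224098381204c1b090260d078130662c098331204c188f0260c468130622c098310604c178f0260bc681305e0c0982e1204c16890260b0781305834098271204c130f026098681304834098221204c100f02608068130402c098200604c0f89026078781303c340981e0e04c0f0502607478130362c0981a1204c0d0302605c481302c3c098161a04c0a0f0260506813020440980e2204c070b026038481301c0c0980d1604c0689026030581301414098081204c038b02601c181300c24098051204c018b02600c48130003c098001a04c0005025ffc1812ff844097fc0604bfd91025fec7812ff634097fb1604bfd0f025fe86812ff42c097f92204bfc89025fe07))))) (BT.node (nat_lit 462) (BT.node (nat_lit 461) (BT.leaf (Bx.mk (nat_lit 0x8133061c099811204cbf8f0265ec18132f414099791e04cbb8f0265dc68132ec24099731e04cb88f0265c468132e22c099701604cb8090265bc78132de340996f1604cb70b0265b848132da240996c1204cb5890265a848132d22c099681204cb38b02659c48132ca24099641204cb20302658458132c224099601204cae0f02657068132b82c0995b1204cad0702656088132b024099551204caa0d02655038132a814099531204ca90902654458132a02c0994e0e04ca7050265341813296440994b1e04ca58d02652c48132961c0994b0a04ca50b02651c581328e24099461204ca289026510781328834099441604ca20302650888132843c099420e04ca103026504481328044099401a04ca0090264fc581327e240993e1604c9f090264f468132763c0993b1a04c9d830264e848132722c099381604c9b910264dc481326e1c099370a04c990b0264c84813260240992d1604c96830264b05813256440992b1204c94910264a058132500c099271604c930b02649848132482c099231604c908f0264846813240240991f1204c8e8b02647448132383c0991c1a04c8e0b02646c6813236240991b0e04c8d0d02646858132321c099190a04c8c0b026460481322e3c099171a04c8b8702645c281322844099141204c890f0264485813220240990f1e04c878d0264344813218240990b1204c8509026424781321234099091604c840502641048132062c099031204c810d02640858132041c099020a04c808b02640448131fe2c098ff1204c7f0b0263f088131f61c098fa1e04c7c8b0263e438131f20c098f82204c7b110263d848131ea2c098f50e04c7a0b0263cc88131e434098f12204c788b0263c448131e044098f01604c78090263c018131da3c098ed1a04c76830263b068131d644098ea1e04c750d0263a858131d40c098e91204c74830263a058131ce2c098e71204c728902639078131c834098e41604c719102638878131c434098e21604c6f8f02637c68131be14098dd1604c6d8902636868131b42c098d92204c6c8902635c48131aa3c098d51a04c698902634858131a424098d11204c678b02633c481319c2c098cd1e04c668b026330881319834098cc1204c660702632c781319624098cb0e04c650b02632828131923c098c91a04c648b02632438131920c098c81604c6389026318681318c0c098c51204c618f02630c681317c24098bc0e04c5e050262ec781317624098bb0a04c5d0d0262e8581317234098b90e04c5c0b0262dc481316c2c098b51204c5a050262c44))) (BT.leaf (Bx.mk (nat_lit 0x81347e4409a3f1204d1f110268f488134783c09a3c0a04d1d850268e888134743409a3a1604d1d050268e488134723c09a391a04d1c870268e428134702c09a381204d1b8b0268d478134682409a331604d19890268c838134622409a302204d18030268bc881345c3409a2d1a04d16110268b048134562c09a2a1604d15050268a468134521c09a290a04d140902689c881344e3c09a271a04d138b026898481344a2409a241204d118d02688858134424409a211e04d108d02688448134421c09a210a04d1083026880481343e2409a1f0a04d0f8302687868134380c09a1b1204d0d09026864481342e2409a161e04d0b0d02685448134283c09a141604d099102684c48134242409a111604d088902683448134161c09a0a1204d048902682048134101c09a080a04d0389026818681340a3c09a032204d018902680c38134043c09a011604d000f02680068134002c099ff1e04cfe0b0267ec48133f434099f91204cfc090267dc68133ee0c099f61604cfb090267d838133ec14099f60604cfa8b0267d438133ea14099f50604cfa110267d068133e814099f31604cf9870267cc28133e424099f11a04cf7910267bc48133dc2c099ee1204cf6890267b018133d424099e91a04cf40b0267a038133d014099e80604cf38b02679c48133ce1c099e61604cf30702679818133ca44099e51204cf20f02679068133c63c099e31a04cf18b02678868133c424099e20e04cf08f02678468133c22c099e10e04cf00702677c48133bc44099de1204cee8d02677438133b624099da1204cec8f02675c68133aa3c099d31604ce98902673c581339c2c099cd1a04ce61102672458133903c099c81a04ce40b026714681338844099c41e04ce20d02671028133880c099c32204ce18902670448133802c099bd1e04cde8d0266f4581337a0c099bc1204cdd910266e878133742c099b81604cdb0f0266d8681336c2c099b51204cda0b0266cc581336624099b21204cd78b0266b8781335c34099ae0604cd6910266b448133582c099ac0e04cd6050266ac88133563c099ab1a04cd5890266ac381335614099aa2204cd5090266a838133523c099a91a04cd48b02669c781334e2c099a70a04cd309026694781334a34099a51604cd20b026690481334424099a20604cd009026680181333c440999e1e04ccf090266782813338240999b1a04ccb0b026658481332a24099921204cc88f02664468133222c0998f1604cc789026630881331614099872204cc38b02661c481330e0c099841204cc18f02660c5)))) (BT.node (nat_lit 463) (BT.leaf (Bx.mk (nat_lit 0x8135b63c09adb1a04d6d87026b6c28135b22c09ad91204d6b0d026b5488135aa1c09ad41e04d6a0d026b5058135a42c09ad11e04d688d026b40481359c2c09ace1204d6611026b3028135963c09acb1a04d658b026b2878135942409aca0a04d648f026b2468135902c09ac71604d6389026b18481358a2409ac50a04d6189026b0838135841409ac11604d600b026afc781357e3409abf0e04d5f85026af038135762c09aba1e04d5d05026ae488135723409ab91204d5c87026ae078135703409ab81604d5b8b026adc481356e1409ab61604d5b09026ad828135682c09ab31204d590f026ac488135622409ab02204d5809026abc881355e3c09aaf1204d5711026ab8481355a2c09aac1604d558f026aac68135561c09aab0a04d5405026a9c881354e3c09aa71a04d5385026a9c181354c4409aa61e04d530d026a98581354c1409aa60604d5291026a9418135484409aa41604d5209026a9038135480c09aa32204d518b026a8c38135444409aa21e04d510d026a8848135441c09aa20a04d5091026a8478135423409aa11604d5087026a8428135420c09aa02204d500b026a8048135401c09aa00a04d4f0d026a78581353a2409a9c1604d4e05026a7018135362c09a9b0a04d4d11026a6878135343409a9a1204d4d07026a6828135324409a991604d4c85026a6418135302c09a980a04d4c03026a5c581352e2409a970a04d4b83026a58581352a4409a951e04d4a89026a5428135283c09a941a04d4a0b026a5028135262c09a931204d4911026a4848135224409a901e04d480d026a40281351e3c09a8f1a04d4709026a34881351a0c09a8c0604d4503026a2418135104409a881e04d4311026a18781350c3409a860604d4291026a1418135084409a841204d4191026a0c58135044409a821204d4107026a0828135023c09a7f2204d3f8d0269fc48134fe1c09a7e1604d3f030269f048134f44409a792204d3c890269e088134ee2c09a771204d3b870269dc28134ea1c09a750a04d3a090269d018134e64409a731e04d398b0269cc28134e02409a6c1604d350f0269a868134d22c09a691204d34830269a058134d02409a680604d339102699c78134ce2409a652204d328f02699458134c84409a640604d2f8d02697c58134bc2c09a5e1204d2e8902695048134a62c09a522204d290702694458134a02c09a501204d270d02693058134981c09a491204d240f026920581348c2409a451204d218f02690878134843409a420a04d208f02690458134821c09a410a04d200b0269004))) (BT.leaf (Bx.mk (nat_lit 0x8137022c09b7f1e04dbf8d026dfc58136fc1409b7d2204dbe11026dec88136f42c09b791604dbc89026de078136f03409b780e04dbc05026ddc48136ec2409b751a04dba8b026dd418136e42c09b711204db80d026dbc48136d82409b6a2204db509026da828136d23c09b691604db487026da078136d02409b680a04db38b026d9c38136cc2409b651604db211026d8478136c23409b610e04daf8d026d7448136ba0c09b5b0a04dad83026d6888136b43c09b5a0e04dac91026d6058136ac3c09b561a04dab07026d5458136aa2409b550e04daa85026d5418136a82c09b541204da98f026d4c68136a62409b522204da90b026d4848136a41c09b512204da887026d4088136a03c09b501204da807026d4028136a00c09b4f1604da789026d38881369c2409b4e0a04da687026d3418136983c09b4c0e04da603026d2c88136963409b4b1604da587026d2c28136960c09b4a1604da503026d2458136920c09b481e04da40b026d20481368e2409b461604da28b026d1088136864409b421e04da10d026d0488136804409b3f2204d9f89026cf8881367c2409b3d2204d9e8b026cf448136782409b3a1204d9c8f026ce468136721c09b361e04d9b0d026cd448136682c09b341204d9991026ccc78136663409b330e04d9985026cc828136640c09b311604d9889026cc088136603c09b301a04d9807026cc0181365e3409b2f1204d9785026cb8781365c3409b2e1604d9707026cb4581365a2409b2b1e04d958d026cac18136544409b2a1204d9409026c9c881364e3409b271204d9387026c9c281364c3c09b231604d9189026c8868136442409b211604d9089026c80481363c3c09b1e1604d8e09026c6888136342c09b192204d8c8b026c6448136304409b151604d8a09026c4c48136240c09b112204d888b026c4048136200c09b0e1e04d860b026c3048136162c09b091204d8409026c1c881360e2409b061e04d830b026c1078136063409b011e04d8011026bfc88135fe2409afe1204d7e89026bf058135f63409afb1604d7c8f026be468135f21c09af90a04d7c11026be048135ec3c09af61604d7a89026bd048135e63c09af31604d788f026bc468135e01c09aee0604d7683026bb048135d42409ae81a04d738b026b9868135ca4409ae51e04d728d026b9448135ca1c09ae50a04d720d026b9058135c81409ae31e04d718d026b8c58135c61409ae21a04d710b026b8828135c24409ae11e04d7085026b7c68135be1c09adf0604d6f11026b7878135bc3409add1604d6e0b026b704))))))) (BT.node (nat_lit 472) (BT.node (nat_lit 468) (BT.node (nat_lit 466) (BT.node (nat_lit 465) (BT.leaf (Bx.mk (nat_lit 0x8138863409c431204e218702710c28138842c09c411204e20090270f8481387a3c09c3d0a04e1e090270ec48138740c09c391e04e1c8d0270dc181386a2409c332204e19890270c888138642409c320e04e18090270b868138562409c2a1e04e150d0270a858138522409c271e04e128f027094681384a2c09c241204e0f91027074781383a3409c1d1604e0d8b02706868138320c09c172204e0b11027058581382c0c09c152204e0a0d02704c88138263c09c131a04e098902704c38138261409c130604e090f02704868138241409c112204e088b02704438138221409c110604e081102704078138203409c101204e080702704028138200c09c0f2204e078b02703c481381c4409c0e1604e0691027034781381a2409c0d0a04e068302703088138183c09c0c1a04e060b02703018138164409c0b1e04e058d02702c58138160c09c091e04e048b02701c581380e1409c070604e0311027018281380a4409c051604e028502701418138084409c041204e020702701028138062409c030604e011102700878138043409c000a04dff89026ff888137fc2409bfe0604dfe89026fec88137f62c09bfa2204dfc11026fe078137ec3c09bf41204dfa03026fcc88137e63c09bf21604df891026fc478137e23409bf10604df809026fc018137de4409bef1604df789026fb888137dc2c09bee1204df703026fb468137d84409bec1e04df605026fac78137d63409bea2204df50d026fa838137d41409be91e04df48d026fa078137d03409be70604df311026f9048137c80c09be30604df10b026f8848137c22c09be01604df009026f8038137c01409bdf1204def87026f7c28137be0c09bde2204def0d026f7848137bc0c09bdc0604ded91026f6848137b20c09bd81604dec09026f5448137a63c09bd31a04de98b026f4858137a42409bd11604de80b026f38781379c2c09bc71e04de30f026f1868137803c09bc01a04dde89026ef418137783409bb71204ddb03026ed078137683409bb41604dd991026ecc38137643c09bb21a04dd60b026eb048137562c09baa1204dd48f026ea4581374c2c09ba60a04dd28f026e9438137482409ba31604dd183026e8868137442409ba11604dd083026e8078137403409ba01604dcf8d026e78881373c0c09b9d2204dcb91026e5c281372c3c09b960e04dca8b026e54481372a1c09b941604dc985026e4878137223c09b910e04dc883026e40581371e3c09b8f1604dc68f026e34681371a2c09b8b1a04dc489026e1848137081c09b840a04dc10d026e082))) (BT.leaf (Bx.mk (nat_lit 0x813a020c09d002204e800f0274006813a001c09d000a04e80030273fc88139fe0c09cfe2204e7f0d0273f858139fc0c09cfd1204e7e0b0273e828139f22c09cf91204e7c0b0273d848139ea2409cf41e04e79890273c458139e22409cef2204e77110273b848139da3c09ced1a04e76110273b048139d64409ceb1204e75090273a058139d02409ce72204e738902739848139ca4409ce51204e720902738c88139c62409ce11204e700f02738068139c02c09cdf1204e6f0902737448139b82409cda0604e6c8b02736068139b02c09cd71e04e6b8d02735c58139ae0c09cd62204e6a8b02735448139aa0c09cd41604e6a0302734c18139a43409cd20e04e690302734448139a02c09cd01204e678b02733c181399c4409cce1a04e6709027338381399a3409ccd1204e660d02733058139964409ccb1e04e658902732c28139943c09cca1a04e650b02732828139922409cc81e04e640d027320581398e4409cc71e04e638b02731018139864409cc21604e610902730478139823409cc10a04e5f8b0272f078139782c09cba1e04e5d0d0272e448139701c09cb71204e5b830272d8781396c3409cb41e04e5a0d0272d058139624409cb11204e58870272bc781395e3409caf0604e57090272b4481395a1409cac1e04e55890272a848139523c09ca91a04e548b0272a048139500c09ca71e04e538702729c281394c3409ca41e04e520d02729018139460c09ca22204e500f02728068139400c09c9f1204e4f09027278181393a2409c9c1204e4e0702727028139322409c981204e4a0d02724c48139261409c921e04e478b02723468139122c09c881a04e438b02721c481390c2409c860e04e4305027214581390a2409c850e04e428502721078139082409c840e04e420302720c88139042409c811a04e408b02720438138fe2409c7f0e04e3f850271f858138fc1409c7d1204e3e030271ec48138f22409c761e04e3b0d0271d448138e82409c740604e39110271c838138e22c09c6e1604e37030271b458138da2409c6d0604e358f0271ac68138d62c09c692204e34890271a058138d00c09c671204e328902719088138c64409c5d1204e2d8902716868138ae2409c561204e2a8d02715448138a82c09c531604e290902714468138a22c09c501204e278b02713c481389c2c09c4e1204e268b02713078138983409c4c0a04e260302712c88138962409c4a1604e250302712488138923c09c491a04e248902712438138921409c481204e2389027118581388a2409c441204e219102710c7)))) (BT.node (nat_lit 467) (BT.leaf (Bx.mk (nat_lit 0x813b442c09da21204ed1030276848813b423c09da11a04ed0870276842813b402409d9f1204ecf110276785813b3a4409d9d1604ece890276704813b362409d9a1604ecc0b02765c5813b2c2c09d931604ec9830276444813b202c09d901204ec78d02763c5813b1c4409d8e1204ec7050276305813b162c09d8b1204ec50f0276286813b140c09d892204ec4890276208813b102409d871204ec30d0276107813b083409d840e04ec1890276087813b043409d821604ebe0f0275f06813af82c09d7a1204ebc8f0275e46813af22c09d781204ebb0f0275d83813ae82c09d740604eb9110275c85813ae42409d720e04eb88f0275c45813ae21c09d701604eb8050275bc8813ade2c09d6f1204eb7110275b87813adc3409d6e1604eb7030275b48813ada0c09d6b1604eb5890275a86813ad41c09d6a0604eb4910275a46813ad22c09d690604eb40b0275a04813ad01c09d671604eb30d0275983813acc1409d660604eb18b02758c4813ac03409d5f2204eaf8f02757c6813abc4409d5e1e04eaf0d0275785813aba0c09d5b1604ead890275684813ab23c09d591a04eac890275643813ab03c09d581a04eab8d0275587813aaa3409d542204eaa0902754c5813aa42409d511604ea8890275404813a9c4409d4e1a04ea7090275383813a9c1409d4d1a04ea60b0275302813a961409d4a1e04ea50d0275285813a941c09d4a0604ea4910275206813a8e2c09d461e04ea2910275144813a8a1409d441a04ea20b0275086813a842c09d401604ea0090274fc5813a7c2409d3d0e04e9e850274f03813a761c09d3b0a04e9d830274e84813a723c09d391a04e9c8b0274e43813a721409d390604e9c110274e06813a702c09d380a04e9c030274dc5813a6e2409d361e04e9b0d0274d83813a6c1409d360604e9a910274d47813a6a3409d350e04e9a850274d41813a684409d341204e9a070274cc5813a643c09d321a04e990b0274c83813a641409d320604e98910274c47813a622c09d311204e98110274c06813a602409d2f1604e97890274b86813a5c2c09d2e0604e968b0274b44813a5a1c09d2c1604e96050274a85813a503c09d261e04e930d0274945813a422409d201604e900902747c5813a3e2409d1e1604e8e070274702813a362c09d1a1604e8c8f0274646813a322409d190a04e8c0b02745c4813a2c2409d151604e8a890274504813a263c09d121204e88910274447813a223409d110e04e878f02743c5813a124409d091e04e848d0274245813a120c09d082204e82090274048))) (BT.leaf (Bx.mk (nat_lit 0x813c9a2c09e4c2204f238f02791c6813c8e2c09e451e04f228d0279142813c863c09e431a04f218b02790c1813c7c1409e3d1604f1d0b0278e84813c704409e362204f1b0f0278d86813c6a1c09e350a04f1a0b0278d03813c681409e340604f198f0278cc5813c661c09e330a04f19830278c88813c642c09e321204f19070278c48813c622c09e311204f18870278c41813c603c09e301a04f18090278c03813c601409e300604f17910278bc5813c5e2409e2e2204f170b0278b84813c583c09e2c1a04f160b0278a45813c522409e281204f138f02789c6813c4e1409e261a04f130b0278945813c464409e230604f11090278844813c3e3409e1e2204f0f0f0278786813c3c2c09e161204f090b0278408813c202409e0f2204f07890278388813c1a3409e0c1604f05890278285813c122c09e071604f03090278181813c0a3c09e051a04f02850278107813c082c09e032204f000b0278001813bfe0c09dfe1604efe8b0277f08813bf82c09dfc1204efe030277ec8813bf62c09dfb0a04efd830277e88813bf42c09dfa1204efd050277e48813bf22c09df91204efc850277e41813bf04409df81e04efc0d0277e03813bf00c09df71a04efb8b0277dc2813bee0c09df31204ef88b0277c41813be02409def1604ef70f0277b85813bd82409deb1604ef5890277a45813bce2c09de51604ef20f02778c5813bc61c09de21e04ef10d0277847813bc23409de10e04ef0830277808813bc03c09de01204eef8b02777c4813bbe0c09dde1e04eed890277684813bb02c09dd71204eeb0f0277586813bac2c09dd52204eea8b0277544813ba84409dd41604eea0902774c8813ba63c09dd31a04ee98b02774c1813ba44409dd21e04ee90d0277483813ba41409dd20604ee8910277447813ba20c09dd01604ee8090277402813ba00c09dcf2204ee78f02773c6813b9e1c09dcf0a04ee7830277384813b982409dca1a04ee50b0277248813b923c09dc90e04ee39102771c7813b8e2c09dc62204ee30f0277186813b8c2c09dc51604ee2850277141813b883c09dc41a04ee20b0277102813b864409dc31e04ee18d02770c2813b860c09dc11204ee00d0277004813b7c0c09dbd1204ede830276ec7813b763409dbb1604edd850276e82813b723c09db91a04edc0d0276dc5813b6e2409db51e04eda8d0276d41813b682409db31204ed90d0276c84813b641409db11604ed7090276b04813b563409dab1604ed5090276a42813b503c09da81a04ed40b0276a02813b4e3c09da71604ed3090276888))))) (BT.node (nat_lit 470) (BT.node (nat_lit 469) (BT.leaf (Bx.mk (nat_lit 0x813e402409f1f1204f8f83027c744813e303c09f180e04f8b8d027c587813e2c3409f161604f8b05027c508813e283c09f141a04f8a07027c501813e264409f131204f8983027c485813e222c09f111204f8811027c407813e203409f101204f8807027c402813e1e2409f0f0604f8711027c387813e1c3409f0e1604f8707027c382813e1c0c09f0d1204f8687027c304813e163c09f0a1604f8509027c244813e102c09f071a04f8387027c145813e082409f021a04f8089027c007813e003409eff1e04f7f89027bf44813dfa1409efc0e04f7e05027bec8813df63c09efb1a04f7d87027be88813df43409efa1204f7d07027be45813df21409ef81e04f7c07027be02813dec3409ef41e04f7a0d027bd03813de81409ef40604f790f027bc86813de42c09eef1204f7709027bb45813dda2409eec2204f760f027bb06813dd81c09eec0a04f7589027ba87813dd43409eea1604f740b027ba04813dcc3c09ee61a04f730b027b944813dca1c09ee50604f7211027b907813dc83409ee40e04f718b027b844813dc20c09ee02204f700f027b806813dc02c09ede0604f6e8d027b707813db61c09ed91e04f6c8d027b645813db20c09ed81604f6c03027b5c5813dae0c09ed62204f6b0f027b586813daa3c09ed51a04f6a8b027b504813da63c09ed21204f680f027b406813d9c2c09ece1204f660d027b2c7813d963409ecb0a04f6583027b244813d902c09ec61e04f630d027b144813d882c09ec21e04f610d027b083813d841409ec11e04f608b027b007813d801409eb81204f5b89027ad86813d6c2c09eb51204f5a0d027ad01813d662409eb21204f5789027ab48813d5a0c09eac1604f5609027a9c7813d4e3409ea70e04f5383027a984813d4a2c09ea31e04f518d027a8c5813d461c09ea21204f5091027a7c8813d3e2409e9d1204f4e0b027a704813d322409e981604f4b0f027a586813d2c2409e960e04f4a03027a488813d243c09e921a04f4907027a482813d240c09e901204f478d027a304813d142409e891204f4485027a184813d0a2409e811204f3c090279dc7813cee2c09e761204f3a8b0279d44813cea1409e741e04f3a090279cc8813ce62409e730a04f390d0279c48813ce03c09e701a04f380b0279b85813cda2c09e6a1204f35050279985813cca3409e651604f32110279904813cc62409e621604f308f0279843813cc02409e5d1a04f2b090279545813caa2409e541204f298f0279445813ca02c09e4f1604f278902793c3813c9e0c09e4e1204f268f0279346))) (BT.leaf (Bx.mk (nat_lit 0x813ff82409ffb1604ffd11027fe87813ff43409ffa1204ffd07027fe82813ff24409ff91204ffc0f027fe06813ff02c09ff81204ffb89027fd87813fec3409ff61604ffb03027fd47813fea3409ff51604ffa87027fd05813fe82409ff40e04ff98f027fcc6813fe61c09ff30a04ff88b027fc02813fdc2409fed1e04ff68d027fb05813fd02409fe71604ff30b027f944813fc81c09fe40a04ff18b027f8c4813fc42409fe11e04ff08d027f845813fc04409fe01e04ff00d027f805813fc00c09fdf1604fee8f027f746813fb82c09fdb1a04fed87027f685813fb22c09fd81a04fec0b027f601813fae2c09fd71204fe98f027f4c6813fa42409fd11204fe689027f284813f902409fc71a04fe38b027f188813f8c3c09fc61a04fe30b027f145813f882c09fc41204fe18f027f0c6813f862c09fc30604fe10b027f081813f824409fc11a04fe009027efc8813f7e3409fbe1604fdf09027ef45813f784409fbc1e04fde0d027ef05813f742409fb91e04fdc0b027edc6813f6e0c09fb61604fdb09027ecc8813f663409fb31204fd987027ebc4813f583c09fac1604fd58d027ea44813f520c09fa81204fd30b027e984813f4a2c09fa42204fd18f027e8c6813f462c09fa11e04fd08b027e804813f3c3c09f9e0e04fce0b027e6c4813f342409f981e04fcc0d027e601813f2e2409f951604fca89027e508813f282409f940e04fc90f027e406813f1c2c09f8c1e04fc60d027e2c7813f0c4409f851e04fc209027e0c2813f041409f820604fc08b027e042813f002c09f800604fbf89027df87813ef63409f731e04fb889027dbc4813ede1409f6d1204fb60d027db04813ed63409f6b1204fb48f027d9c4813eca4409f601604faf8b027d7c4813ebc3c09f5e1a04faf0b027d745813eba2409f5d0604fae11027d707813eb83409f5c1204fae07027d702813eb80c09f5b1e04fad8d027d6c5813eb43c09f5a1a04fad0b027d648813eb22409f581604fac09027d5c5813eac3c09f561a04fab03027d548813ea60c09f521a04fa88f027d446813ea21c09f4e1e04fa705027d347813e9a3409f4d0a04fa50f027d286813e942c09f491204fa409027d1c8813e8a4409f451e04fa28d027d144813e8a1c09f450a04fa189027d045813e7e2c09f3e1e04f9f0d027ce87813e742c09f371e04f9b0b027cd45813e6a2409f342204f9a09027ccc7813e663409f331604f990b027cc84813e622409f2c1604f950d027c9c6813e4e1409f261e04f930d027c983813e4a4409f251204f9109027c844)))) (BT.node (nat_lit 471) (BT.leaf (Bx.mk (nat_lit 0x8141402c0a0a0120504e8b02826c78141362c0a09a160504c89028260581412e3c0a0971a0504b0f028258681412c2c0a09312050490b0282447814122340a090120504789028238581411a2c0a08d12050458b0282287814114340a08a0e050448f02822468141121c0a0890a050438d0282104814104240a0801e050400d02820058140f6240a07a160503d090281e478140f2340a079060503c0b0281e048140ee2c0a077120503b090281d838140ec140a0751a0503a0f0281d068140e6240a0721e050390d0281c468140e2240a06f0605036910281b078140d8340a06b1a05035870281a878140d2340a06916050340b02819848140c62c0a06212050308902818058140be2c0a05f120502e8f02817048140b6440a05b160502d1102816878140b4340a05a0e0502d0502816448140b0240a0580a0502b8b02815478140aa340a055160502a1102815048140a8140a05322050298b02814c48140a4440a05216050290902814468140a2240a050220502809028138581409a240a04c1e050250f02812868140942c0a04a0e050250502812818140921c0a0490a050228f0281107814088340a0431e050218d0281007814080340a040160501f0d0280f8581407a240a03c1e0501e0d0280ec58140761c0a03b0a0501d830280e87814074340a03a0e0501d050280e47814072340a039160501c870280e05814070240a037160501b890280dc181406c440a0361e0501b0d0280d8481406c1c0a0360a0501a0d0280d01814066440a0331e050198d0280cc5814064140a03206050188b0280c44814060440a02f1a050170d0280b44814058440a02c1e050160d0280b058140523c0a02816050130f028098381404c0c0a02512050120f0280903814048140a02316050118902808858140440c0a0211a05010890280843814042140a02106050100902807c681403e2c0a01e1a0500e8f028074681403a2c0a01c120500d8b02806868140322c0a0181a0500c090280603814030140a0171a0500a8902804c78140262c0a0130a05009830280485814024240a01116050080f0280406814020240a0100e0500805028040181401e240a00e12050068f02803468140163c0a00b1a050058b02802488140102c0a00812050038b02801848140083c0a0041a05002070280102814006440a0030e050011102800858140041c0a0020a050010302800448140003c0a0001a050000b02800038140001409fff2204fff8d027ffc5813ffe1409ffe1604ffe8f027ff46813ffa2c09ffd0a04ffe83027ff08))) (BT.leaf (Bx.mk (nat_lit 0x814298340a14c0a050a5890285247814292340a1481e050a40d028520581428e2c0a14712050a3090285144814288240a14316050a08302850088142801c0a13e160509f050284f058142722c0a139120509c110284dc58142682c0a13312050990f0284c86814260340a1301205097090284b4781425a240a12d0a050960b0284b03814258140a12b1e05095870284ac2814254240a12916050938f02849c581424e1c0a1270a050938302849438142480c0a12312050910f02848858142422c0a11e120508e0b0284687814234340a11a160508c8f02846468142322c0a118160508c0902845c481422c3c0a1161a0508b0702845828142263c0a1131605089090284444814220240a10f12050858f02842c68142162c0a1091205084850284103814206340a10312050818702840c28142060c0a1021e05081090284047814202340a1001a050800902840038141fe340a0fe220507e0f0283f068141f62c0a0fb120507d090283e058141f0240a0f7220507b890283dc18141ec440a0f6120507b030283d488141e8440a0f4120507a030283cc58141e6240a0f30e05079830283c858141e4240a0f20e050788f0283c468141e2240a0f10a050780d0283c058141e01c0a0ef22050778b0283bc48141dc3c0a0ee1a05077090283b838141dc140a0ee0605076890283ac48141ca440a0e512050720f02839058141c6240a0e112050701102838048141bc3c0a0dc220506e0d02837048141b81c0a0dc0a0506d9102836c58141b6240a0db0e0506d8502836448141b03c0a0d81a0506c0502835c68141ac240a0d5160506a0902835018141a63c0a0d316050680f02833c481419c240a0c8120506311028318481418a440a0c512050618d0283047814182340a0c11605060890283043814182140a0c106050600f02830068141801c0a0c00a05060030282fc881417e240a0bf060505f110282f8581417c0c0a0bd220505e8b0282f448141782c0a0bc120505e050282f018141763c0a0bb1a0505d890282ec3814176140a0bb060505d110282e85814174240a0ba0e0505d050282e488141722c0a0b9120505c870282e428141720c0a0b81e0505c090282e03814170140a0b8060505b890282d4581416a240a0af12050568f0282b088141582c0a0ac0e05056030282ac7814156340a0ab0e05055850282ac1814154440a0aa1605055090282a82814152240a0a81a050540302829c481414e0c0a0a6160505309028294681414a140a0a41a05051110282887814144340a0a21605051030282845)))))) (BT.node (nat_lit 476) (BT.node (nat_lit 474) (BT.node (nat_lit 473) (BT.leaf (Bx.mk (nat_lit 0x81444a340a22516051118b02888c4814444340a2201e0510f0f028878681443c0c0a21d120510e090288687814434240a21a0a0510c0d02886058144263c0a21112051080f02884068144202c0a21006051078902882c4814414240a2091605103890288184814404440a2021a051010902880838144023c0a2011a051008b02880058143f82c0a1fc12050fd0f0287e868143f4140a1fa06050fc8b0287e448143f02c0a1f812050fa8f0287d468143e2240a1ef22050f7890287b448143d8240a1ea12050f48f0287a468143d02c0a1e812050f30f02879868143ca2c0a1e512050f20b02878c58143c6240a1e212050f08b02877448143b8240a1db1a050ed8902876458143b2240a1d812050eb8902875858143ac240a1d312050e80902873c781439e0c0a1ce22050e70d028738581439c1c0a1ce06050e68b0287305814396440a1cb1e050e58d02872c48143961c0a1ca22050e50f0287286814392440a1c916050e48902871c681438c2c0a1c422050e20d0287104814380240a1bf22050df8f0286fc681437e1c0a1bf0a050df090286f4781437a240a1bc12050dd8f0286ec68143762c0a1ba12050dc8f0286e4581436c240a1b512050da090286cc48143623c0a1b022050d80f0286c06814360240a1b00e050d8050286bc481435a240a1ad06050d6110286b07814358340a1ac12050d5890286a87814352440a1a812050d38d02869c581434a240a1a416050d20902868858143422c0a1a10a050d00d028680581433e3c0a19e1e050cd89028668581432a3c0a1951a050ca8b02864c5814326240a1930a050c9830286485814324240a1920a050c9030286345814316440a18a1e050c5030286207814310340a18816050c403028618181430a240a1831e050c18d02860048142fc3c0a17e0a050bd8b0285ec48142f22c0a1790e050bc0f0285e068142f0140a17722050bb8b0285dc48142ee140a17622050bb0f0285d868142ec1c0a1760a050ba890285d438142e8440a17412050b98d0285c878142e4340a17216050b8890285c088142e03c0a17012050b78f0285b838142da3c0a16d1a050b50b0285a848142d20c0a16712050b38302859888142cc340a16612050b30702859828142ca2c0a16512050b20902858c68142c6240a16116050b00b02858018142be2c0a15e22050af0d02856c78142b6340a15a1e050ab9102855c78142ae140a15606050aa0d02855028142a80c0a15316050a98902854888142a43c0a1521a050a889028540581429c340a14e16050a6890285307))) (BT.leaf (Bx.mk (nat_lit 0x814608340a3040e0518111028c087814604340a30216051808b028c0048145fe240a2fc120517d89028be478145f2340a2f9160517c09028bd878145ec340a2f5120517a09028bc858145e2240a2f01e051780b028bbc88145de240a2ee1a051770b028bb448145d2240a2e81e051740d028ba058145ce3c0a2e71a051738b028b9858145ca340a2e516051720b028b9048145c2240a2db1a0516d09028b6458145b02c0a2d8120516b87028b5c28145aa240a2d41e0516a0b028b4848145a2440a2d01e0516807028b40281459c240a2cb1e051658d028b2c5814594440a2ca120516409028b1c4814588240a2bf120515f0b028af448145782c0a2bb220515d8b028ae85814572240a2b8120515b87028adc281456c0c0a2b41e0515a0d028acc5814566240a2b1120515885028ac04814560140a2af160515709028ab81814556240a2ab060515511028aa87814554340a2aa160515503028aa4181454c2c0a2a5120515191028a8c48145460c0a2a2060515089028a807814540340a2a0160514f11028a78481453a340a29d160514d8f028a6c68145360c0a29a120514c0b028a60181452e1c0a293160514989028a447814520340a28f1a051478b028a38481451a240a28c1e051460d028a305814516240a288120514403028a18481450a2c0a28422051418b028a0888144fe2c0a27f120513f0f0289f868144f8340a27c120513d910289e848144f23c0a279120513c850289e028144ee340a2761a0513b070289d828144ea2c0a274220513a090289cc68144e02c0a27012051378b0289bc48144dc3c0a26d12051350f0289a868144d40c0a26912051348302899c88144ce340a26712051328f02899468144ca0c0a26416051318b02898c48144c60c0a26222051310f02898868144c4240a2620e051310502898818144c2240a2601e051300d02898058144bc340a25d120512e0f02897068144b82c0a25b160512d0b02896848144b23c0a2571e0512b8d02895848144ac0c0a25412051298f02894c68144a61c0a2521e0512889028940781449c240a24c220512411028920481448e3c0a24716051230902891078144880c0a2421e051210d02890818144822c0a2401e051200b028900181447c340a23412051198b0288cc4814464240a2320605118910288c47814462340a2310e05118850288b4881445a3c0a22d1a05116850288b41814458340a22c0e05115890288a87814454340a22a1605114890288a43814450240a2280e051140302889c581444e240a2270e05113830288984)))) (BT.node (nat_lit 475) (BT.leaf (Bx.mk (nat_lit 0x8147b41c0a3da06051ec8f028f6458147ae440a3d71e051eb8d028f5c18147ac240a3d606051ea89028f5088147a8240a3d40e051ea05028f4c88147a62c0a3d21e051e90d028f4858147a22c0a3d112051e883028f4058147a0240a3d006051e791028f3c681479e1c0a3cf0a051e711028f38581479c140a3ce06051e691028f34581479a240a3cd0a051e683028f3088147983c0a3cc1a051e607028f3028147980c0a3ca0a051e48f028f2468147922c0a3c80a051e389028f18581478a2c0a3c512051e18b028f0c481477e340a3bd22051de8f028ef4681477a240a3bd0a051de11028ef048147762c0a3ba0a051da11028ec84814756240a3aa16051d40b028e9068147481c0a3a312051d109028e80581473a3c0a39d1a051ce09028e6c48147342c0a39912051ca83028e4c5814724240a38e16051c68b028e244814710340a3880a051c309028e0848146fa2c0a37b12051bd11028de478146f2340a37916051bb8f028ddc68146ec240a3740e051ba03028dcc88146e63c0a3731a051b98b028dcc28146e60c0a37212051b889028dc048146de440a36f1a051b78b028db848146da240a36c12051b589028da818146d22c0a36912051b483028da078146ce340a3661e051b30d028d9478146ca340a3650e051b20f028d9068146c82c0a36312051b109028d8448146c0240a35f16051af89028d6c58146b2340a35712051ab0f028d5868146ac2c0a35606051aa09028d4c58146a2240a34d06051a591028d2c7814696340a34b12051a587028d2c28146960c0a3491e051a48d028d20481468e2c0a34712051a383028d18781468c340a34612051a307028d1828146863c0a3431a051a18b028d0c28146843c0a3421a051a087028d00781467e2c0a33e160519f09028cf458146782c0a33b0e0519d85028ce858146723c0a3391a0519c83028ce05814670240a337160519b0f028cd8181466a2c0a33506051998f028ccc68146662c0a33112051980d028cc0181465e2c0a32f12051970d028cb8581465c0c0a32d120519609028cac6814656140a32a22051950b028ca848146540c0a329120519485028ca07814650340a328160519389028c9c381464c2c0a324120519189028c884814642440a3211a051908b028c807814640240a31f220518f89028c78881463c240a31d220518e89028c705814636240a31a120518c89028c5c481462a3c0a3151a0518a87028c542814628240a31316051890b028c484814622240a310120518709028c2c4814612240a308160518409028c1c4))) (BT.leaf (Bx.mk (nat_lit 0x814968340a4b4120525a050292d01814966240a4b21605259090292c0681495e240a4ae16052568b0292b04814956240a4aa1205254890292a05814950240a4a722052538f02929c681494e240a4a70e052530b02929848149482c0a4a412052518d02928c48149442c0a4a212052509102928448149400c0a49f1a0524f8302927478149363c0a49b160524c89029260481492e240a496120524a91029254781492a340a495120524a870292542814928440a49406052499102924888149243c0a4921a052490702924828149220c0a4901a0524789029238881491c3c0a48d1605246110292307814918340a48b06052450b0292245814912240a48812052439102921c681490e240a4870e052438502921c181490c2c0a4861205243030292145814906340a48316052410f0292086814902240a47f120523f870291f878148fc2c0a47d120523e090291e088148f0240a4771a0523b090291d478148ea340a475160523a090291d028148e4240a4712205238890291c058148e0240a4700e052378b0291bc48148da3c0a46d1a052368b0291b048148d62c0a46a2205234910291a088148d0240a46722052338902919888148cc240a4641e052320d02919058148c62c0a46312052308902917c68148be0c0a45d1e0522e8b02917058148b60c0a459120522c0f02916068148aa2c0a45406052289102914448148a0240a44e160522709029134781489a340a44d16052258f02912c68148962c0a44a12052248f02912468148922c0a44812052238f02911c681488e2c0a44616052210b0291044814880440a440120521f8d0290f08814878240a43a060521b910290d8781486c340a436160521a8b0290d448148682c0a4341205219090290c818148623c0a43006052178f0290bc581485c0c0a42a1e05214890290a0481484c240a425160521189029078581483a2c0a41c120520d8f02906c68148362c0a41a120520b8b02905c48148283c0a413120520889029038881481c240a40e0e052068902903078148163c0a40b1a052040d029018481480a240a40316051ff89028ff878147fc340a3fe16051fe91028ff428147f62c0a3fb06051fd11028fe868147f42c0a3fa06051fc8b028fe058147ec440a3f416051f991028fc448147e03c0a3ee16051f689028fb058147c82c0a3e316051ef8f028f7c68147be1c0a3de16051ef09028f7838147bc140a3de06051ee8b028f7448147ba1c0a3dd0a051ee83028f7088147b83c0a3dc1a051ee09028f7038147b8140a3db12051ed87028f6c1))))) (BT.node (nat_lit 478) (BT.node (nat_lit 477) (BT.leaf (Bx.mk (nat_lit 0x814b303c0a59712052ca890296481814b1e240a58e1e052c70d0296346814b14240a58916052c40902961c5814b0a2c0a58512052c1090296045814b02240a58016052c0090295fc5814af6240a57712052bb090295d44814ae8240a57312052b9090295b04814ad4240a5681e052b2890295905814ac2440a5611e052b0890295842814ac0140a55f1a052af0b0295706814ab82c0a55b16052ad890295685814ab4240a55a0a052ac8f02955c7814aae340a55716052ab850295586814aac140a55516052aa890295505814aa8240a5540e052a98b0295488814aa43c0a5521a052a9070295481814aa2240a5501e052a80d0295405814a9c3c0a54e16052a6890295308814a98240a54b22052a5890295285814a94240a54a0a052a4890295205814a8e3c0a5471a052a38b02951c1814a88240a54212052a08f0295005814a80240a53f120529e110294f04814a76240a536160529b090294d44814a683c0a5331205298890294c07814a60340a52e12052968f0294b46814a5a0c0a52c1605296090294ac5814a56240a52a1605295090294a44814a50440a52812052938b02949c4814a4c2c0a52612052920b0294904814a463c0a5231a05291870294844814a40240a520060528f9102947c7814a3e340a51f160528f090294688814a34240a514120528a030294347814a142c0a5061205282890294047814a02340a500120527f890293f058149f63c0a4f9220527c890293e418149f0440a4f81e0527c090293e038149ec440a4f6120527a8d0293d458149e0240a4ef1205275890293ac28149d2240a4e716052730b02939058149c63c0a4e31a052718702938468149c0240a4df220526f8b02937888149bc3c0a4de1a0526f0702937828149ba240a4da120526c8902936048149ac3c0a4d61a0526a8f02935458149a8240a4d31a052698302934488149a2240a4cc22052660f02933068149982c0a4cc0605265890293287814994340a4ca1605265050293247814992340a4c8160526409029320181498e440a4c71e052638d02931c481498e1c0a4c70a0526309029318181498a1c0a4c422052620f02931068149882c0a4c40a05262030293084814980240a4c0060525f890292fc181497c240a4bd1e0525e0d0292ec7814976340a4ba1e0525d0d0292e828149723c0a4b91a0525c870292e41814970440a4b81e0525c090292e03814970140a4b8060525b850292dc181496c440a4b61e0525b0d0292d8481496c1c0a4b60a0525b030292d4781496a340a4b5160525a870292d08))) (BT.leaf (Bx.mk (nat_lit 0x814c901c0a6461205323070299147814c8a340a6441605321050299043814c802c0a6400e0531f8b0298fc4814c7e1c0a63e1e0531f0d0298f84814c7c1c0a63e0a0531e0f0298e85814c722c0a639120531c0f0298e06814c70140a6351e0531a090298cc5814c622c0a62e12053168d0298b44814c5a1c0a62d06053160b0298b04814c563c0a62b1a05315870298ac2814c54240a6291205314110298a07814c50340a6280a053140302989c5814c4c3c0a6261a05313070298982814c4a3c0a6251a053128b0298943814c4a140a62506053120902988c7814c46340a6231605311830298888814c44240a61d120530e0d0298644814c30440a618120530b8f02985c6814c2e2c0a616120530a0b02984c5814c26240a61216053088f0298446814c222c0a61022053080f0298406814c202c0a6100e05308050298401814c1e3c0a60e12053068f0298346814c1a2c0a60d0e053058f02982c6814c161c0a60b0a053050f0298286814c142c0a60916053048302981c5814c0e1c0a60616053021102980c5814c06240a6021a05301070298048814c000c0a5ff12052ff110297f48814bfa240a5fc22052fd8f0297ec6814bf62c0a5fa1e052fd0d0297e85814bf2440a5f822052fc030297dc8814bee240a5f622052fb090297d45814bea240a5f506052fa0b0297cc7814be6340a5f222052f90f0297c46814be0440a5f01a052f80b0297c03814bde2c0a5ef06052f70b0297b84814bda3c0a5ec1e052f60d0297b05814bd63c0a5eb1a052f58b0297a87814bd4340a5ea16052f48f0297a45814bd0240a5e716052f38902979c1814bca240a5e41e052f20d0297905814bc6240a5e212052f0110297806814bc01c0a5e006052ef8b02977c4814bbc2c0a5de12052ef030297747814bb8240a5db12052ed0b0297684814bb22c0a5d912052ec0f0297606814bb01c0a5d80a052eb8f02975c2814baa440a5d51e052ea8d0297544814baa1c0a5d50a052ea050297501814ba4440a5d20e052e9050297481814ba23c0a5d11a052e88b0297443814ba2140a5d106052e68d0297184814b8a340a5c516052e2090297085814b84240a5c012052df890296f88814b7a3c0a5bd1a052de8b0296f04814b76240a5b722052db890296d86814b6c2c0a5b512052da0f0296d06814b682c0a5b40e052d98b0296cc4814b623c0a5b11a052d8090296b86814b5c2c0a5ad12052d5890296a84814b52240a5a81e052d40d0296986814b4a2c0a59e1a052cd8f02966c6814b360c0a59a12052cc8b0296608)))) (BT.node (nat_lit 479) (BT.leaf (Bx.mk (nat_lit 0x814e38140a71c060538d89029c687814e34340a71a160538d09029c647814e32340a719160538c89029c5c7814e2a340a71516053880f029c3c4814e1c2c0a70d160538689029c306814e181c0a70a16053840b029c1c5814e0e240a707060538309029c0c6814e062c0a6ff160537f09029bf07814df8340a6fc160537e07029bf02814df6440a6fb1e0537d8d029bec5814df61c0a6fa1e0537d0b029be83814df4140a6fa060537c91029be44814df03c0a6f81a0537c0b029be03814dee3c0a6f71a0537b85029bd84814dec1c0a6f5120537a09029bc47814de22c0a6f0120537611029bb04814dd6340a6eb16053748f029ba46814dd22c0a6e4220537209029b8c8814dc6240a6e2160537109029b848814dc23c0a6e11a053708b029b805814dc0240a6e00e0536f89029b7c3814dbc440a6de1e0536f0d029b785814dbc1c0a6de060536e87029b707814db8340a6dc0a0536e03029b6c5814db61c0a6da1e0536d0d029b682814db2240a6d8160536c09029b601814dae3c0a6d7160536b11029b587814dac240a6d60a0536a8d029b544814daa1c0a6d4160536985029b487814da4340a6d122053688d029b443814da03c0a6d01a053678b029b3c4814d9c3c0a6ce1a0536707029b346814d982c0a6cc12053658f029b2c6814d961c0a6cb0a053648f029b246814d922c0a6c71e053638d029b184814d7e2c0a6be220535f0d029af83814d78240a6bb1e0535d8d029ae84814d72240a6b41a0535909029ac08814d603c0a6b01a053580b029ac02814d600c0a6af22053578b029abc4814d5a3c0a6ad1a053568b029ab04814d56340a6ab0a0535583029aa44814d50240a6a71e0535385029a987814d4c340a6a6160535305029a944814d48240a6a31e053518d029a8c5814d44440a6a2120535107029a847814d422c0a6a0160534f89029a6c4814d34240a6981a0534c07029a602814d242c0a6920e0534891029a447814d22340a691120534887029a442814d1e3c0a68f1a053478b029a3c3814d1e0c0a68e22053470f029a383814d1c0c0a68d220534689029a2c7814d16340a6891e053448d029a204814d0a240a680120533e890299f41814cf82c0a67a120533c890299e05814cea3c0a6751a0533a090299cc4814ce4240a6711205338090299b87814cd6240a66a1605335090299a44814cd0240a6651e053328d0299904814cc6240a65f120532e090299687814cb4240a6591e0532b0f0299586814caa240a6541e0532a0d0299347814c98340a64822053240d0299204))) (BT.leaf (Bx.mk (nat_lit 0x81500c2c0a80512054020902a00c5815006240a8021e054010302a0048815002240a80016053ff91029ffc7814ffe340a7ff0e053ff85029ff84814ffa3c0a7fd1a053fe8b029ff04814ff6240a7fb0e053fd83029fe84814ff2240a7f812053fc05029fdc7814fee340a7f612053f98b029fc85814fde340a7ef0e053f68d029fb41814fd62c0a7e922053f48f029fa46814fd21c0a7e716053f28b029f905814fc8240a7e212053ee09029f505814fa62c0a7d116053e78d029f384814f983c0a7cc1a053e60b029f2c4814f943c0a7c81e053e40d029f205814f8e240a7c512053e209029f0c5814f842c0a7bf22053df8f029efc6814f7e240a7bf0e053df85029ef88814f7c2c0a7be12053df05029ef47814f7a340a7bd06053de0b029ef04814f76240a7ba1a053dd0b029ed84814f6a240a7b216053d889029ec43814f5e3c0a7af1a053d60b029ea86814f463c0a7a31a053d187029e8c2814f460c0a7a21e053d103029e848814f42240a7a016053cf07029e684814f323c0a7991a053cc8b029e641814f30240a79712053cb83029e548814f2a240a79506053ca09029e4c4814f24440a7920a053c80d029e384814f183c0a78c1a053c603029e2c4814f12340a7890a053c203029e0c5814f04240a7811a053c087029e041814f003c0a78016053c007029e001814efc2c0a77c22053be0f029df06814ef82c0a77c0e053be05029df01814ef43c0a77a1a053bd07029de82814ef40c0a77922053bc85029de05814eee3c0a77712053ba89029dd04814ee63c0a7731a053b90b029dc47814ee21c0a7710a053b70b029db45814ed8240a76b12053b509029d9c5814ece240a76612053b291029d944814ec6240a76112053af8b029d784814eb2240a75812053ab91029d5c4814eaa2c0a7511e053a88b029d3c3814e9e0c0a74d1e053a68d029d306814e982c0a74a1e053a48d029d183814e883c0a7441a053a10f029d085814e841c0a74206053a089029ce44814e721c0a738160539c07029cdc7814e6c1c0a7360a0539b03029cd45814e6a1c0a734160539a07029ccc8814e663c0a7331a0539891029cc47814e62340a731160539887029cc08814e60240a72e120539611029cac6814e562c0a729120539409029c9c5814e4e240a7270e0539385029c9c1814e4c2c0a72612053928b029c905814e48240a72406053918d029c8c3814e42440a721160539009029c7c7814e3e2c0a71e1e0538f0d029c785814e3c140a71e060538e91029c747814e3a340a71d160538e0d029c703)))))))) (BT.node (nat_lit 496) (BT.node (nat_lit 488) (BT.node (nat_lit 484) (BT.node (nat_lit 482) (BT.node (nat_lit 481) (BT.leaf (Bx.mk (nat_lit 0x8151ba140a8dc220546e0f02a37068151b8240a8dc0e0546e0502a36868151b02c0a8d7160546b8902a35848151ac1c0a8d41e054699102a34828151a2240a8d10a054678902a338581519a340a8cc12054658902a3288815194240a8c91e054648d02a3245815190240a8c712054630b02a314881518a240a8c422054619102a30c4815184440a8c212054608b02a300581517e2c0a8bd160545e8902a2f428151783c0a8bc1a0545e0502a2ec88151763c0a8bb1a0545d8b02a2ec3815176140a8bb060545d1102a2e87815174340a8ba060545c8b02a2e44815172140a8b81e0545c0d02a2e03815170140a8b71e0545b8d02a2dc581516c440a8b6120545a8902a2d05815166340a8b112054578d02a2bc581515c240a8ac1e054560d02a2b01815156240a8aa12054548902a2a0481514c240a8a512054520f02a29068151482c0a8a0120544f0702a2707815138340a897160544b0b02a254881512a340a8950e0544a0902a24c48151242c0a89012054470902a23028151141c0a88812054438902a2106815106240a882120543f8f02a1f858150fa440a87d1a0543e8702a1f428150f8340a8781a0543c0902a1e038150f0140a87312054390b02a1c458150de2c0a86f12054358f02a1ac68150d60c0a86a16054348d02a1a048150cc440a8661e054330d02a19848150cc1c0a8660a054328502a19088150c81c0a8640a054320302a18c48150c4440a8620e054310502a18818150c2240a860120542e8b02a16c48150b0140a856120542a8902a15058150a4240a8511a054278902a138581509c240a84d16054268902a1305815098240a84712054228902a104781507e3c0a83f1a0541f8302a0f848150783c0a8381a0541c0b02a0d46815068240a83116054188302a0c07815060340a8300e054160f02a0b068150582c0a82c0e054160302a0ac5815056140a82a16054150302a0a488150502c0a82812054128d02a094581504a0c0a82416054120302a0888815042440a8201a054100b02a07c681503e2c0a81e220540e9102a0708815036440a81b120540d0b02a06828150322c0a819120540c8502a0607815030340a818120540c0702a05c781502e340a8170e0540b8502a05c181502c2c0a816120540a8b02a0507815028340a814120540a0502a04c88150263c0a81316054090b02a0447815022340a81116054088702a040481501e240a80e1e054070d02a034881501a2c0a80c16054060302a02c5815016240a80b06054050f02a02868150142c0a80912054040902a01c4))) (BT.leaf (Bx.mk (nat_lit 0x815394240a9c512054e18902a7046815382140a9bf22054de8902a6e84815372240a9b906054dc0902a6d8781536c340a9b606054da0902a6c818153622c0a9af1e054d70d02a6b448153562c0a9a812054d20b02a69048153442c0a9a116054d08902a680481533e3c0a99f16054cf0902a674781533a340a99c12054cd8902a6684815330240a9971a054cb8b02a65848153243c0a99116054c78302a6384815314440a98a12054c38b02a618581530c240a98412054c20302a60c4815302440a98112054bf8d02a5f478152fa340a97b1e054bd8d02a5ec58152f4240a9731e054b98d02a5b888152dc240a96d12054b60f02a5b068152d82c0a96b16054b48f02a5a468152d22c0a96822054b40902a59c58152ca240a96412054b18902a58888152c4240a9611e054b08d02a58458152c0240a95f12054af1102a57848152bc0c0a95c1e054ae0d02a57058152b6240a9591e054ac8d02a56058152b0240a95716054ab8902a55848152a22c0a94e12054a58f02a52c68152962c0a94912054a30d02a514681528a2c0a94412054a08b02a4fc481527c2c0a93d120549e0902a4ec4815272340a939160549b8f02a4d4781526a2c0a9331e054988f02a4c468152620c0a93012054978902a4b47815258240a9291e054948d02a4a458152503c0a9281a054938902a494881524a240a92506054919102a48c3815244140a92112054900302a47c78152362c0a91a120548c8f02a46468152321c0a9190a0548c1102a460181522e440a916160548b0702a454881522a3c0a9151a0548a8902a454381522a140a91416054890f02a44868152242c0a91206054888b02a438181521a0c0a90c16054858902a42878152142c0a90a06054848b02a420881520e3c0a9071a054838302a418381520a440a9051a054828902a41418152082c0a90412054818b02a40c4815204240a9011a054808b02a40048151fa240a8fc160547e0902a3f028151f63c0a8fb1a0547d8902a3ec38151f6140a8fa160547d0902a3e838151f4140a8f81e0547c0902a3e028151f00c0a8f7120547b0b02a3d848151ea2c0a8f5120547a0b02a3d048151e63c0a8f31a054798702a3cc28151e43c0a8f21a054790702a3c828151e40c0a8f116054780f02a3c068151e01c0a8f00a054778902a3b848151da3c0a8ed1a054768b02a3b418151d82c0a8ec12054760702a3ac78151d6340a8eb0e054758502a3a888151d4240a8e81e054739102a39c48151ce1c0a8e516054710f02a38868151c41c0a8e01e0546f0b02a3745)))) (BT.node (nat_lit 483) (BT.leaf (Bx.mk (nat_lit 0x8155542c0aaa816055540902aa9c581554c440aaa51e055528b02aa9048155463c0aaa31a055518b02aa8478155422c0aa99160554c0902aa4c4815522240aa9012055478902aa384815516440aa8b1a055458b02aa2c3815516140aa8912055438d02aa1c581550c440aa861e055430b02aa14881550a3c0aa851a055428b02aa14381550a140aa8412055410f02aa0868155042c0aa80120553f1102a9f078154f4440aa7a160553c1102a9e048154ee2c0aa76120553a8f02a9d468154e6240aa721e055390d02a9c448154e0240aa6e16055360902a9b038154d62c0aa6922055348902a99c48154cc340aa6616055320902a98848154be440aa5a1e0552d0d02a96818154b2240aa58220552c0f02a96068154b0240aa580e0552c0502a95c48154ac2c0aa5312055291102a94448154a03c0aa501a055280b02a93c48154942c0aa481e055240d02a920581548c3c0aa4512055200b02a8f48815478140aa3b1a0551c8902a8e0481546e240aa36060551a1102a8d07815468340aa340e0551a0502a8c86815462240aa3016055180902a8bc581545c3c0aa2e12055170702a8ac6815454240aa2812055138902a898481544a240aa2322055118f02a88c48154461c0aa230a055110f02a88868154442c0aa2116055100902a87c881543e240aa1e120550e8f02a87418154382c0aa1c120550d0902a8646815430240aa171e0550b8b02a8503815426440aa131a055098902a84c38154260c0aa121e055090d02a8485815422240aa1012055078f02a83c681541e2c0aa0f0a055071102a838781541c340aa0e12055070702a838281541a440aa0d12055060f02a83068154180c0aa0b12055050f02a82868154142c0aa0a06055049102a8244815410240aa0722055038f02a81c681540e2c0aa061e055030d02a818581540a240aa0412055018902a8084815402340aa0116055008902a80048153fa240a9fc1e054fe0d02a7f058153f62c0a9fb12054fd0d02a7e858153f40c0a9f916054fc8902a7e438153ec240a9f51e054fa8702a7d058153e62c0a9f21e054f90d02a7c858153e03c0a9ef12054f70d02a7b478153da340a9ed16054f60d02a7a468153d22c0a9e812054f39102a79888153ca440a9e512054f21102a79048153c4240a9e11e054f08d02a78458153c02c0a9e012054ef8902a77818153ba2c0a9db1a054ed0f02a76868153b2240a9d71e054eb8d02a75c58153ae0c0a9d51e054ea8d02a75418153a8240a9d312054e68f02a7346815398440a9cb1e054e58d02a72c5))) (BT.leaf (Bx.mk (nat_lit 0x8156e4340ab7216055b88902adc078156de240ab6d22055b68d02adb458156d83c0ab6c1a055b60b02adac58156d42c0ab6916055b40902ad9c58156cc340ab6612055b28902ad9078156c8340ab6416055b18902ad8c38156c4340ab6216055b10702ad8468156c22c0ab5f1e055af0902ad7458156ba240ab5c12055ad8902ad6c38156b2340ab5616055ab0902ad5068156a4240ab511e055a70b02ad345815698240ab471e055a38902ad1448156883c0ab441a055a20b02ad0c4815684240ab420a055a00902acfc581567e0c0ab3c120559d0f02ace868156742c0ab3a0e0559d0502ace81815672240ab390e0559c0b02ace0381566e2c0ab37120559b8702acdc181566c440ab361e0559b0d02acd8481566c1c0ab360a0559a8d02acd45815668240ab3112055980f02acc0681565e3c0ab2f1a055970902acb8381565a2c0ab2c16055950f02aca858156540c0ab2912055938b02ac9888156483c0ab241a055920b02ac8c8815646240ab2212055900902ac78481563a240ab191e0558c8d02ac6458156302c0ab180a0558c0302ac5c581562e140ab16120558a0b02ac4c8815626240ab130e055898502ac486815624240ab120e055888f02ac445815620240ab0a1e055850d02ac285815612440ab0912055848702ac20581560e240ab0612055818902ac0478155fe0c0aafe120557f0702abe858155f4240aaf6120557a0902abc488155e03c0aaf01a055778f02abb878155dc240aaed12055760b02abb048155d6240aaea12055748f02aba468155d22c0aae716055730902ab9448155ca0c0aae11e055708d02ab7c78155be340aade120556e8902ab6828155b22c0aad9120556c0f02ab6038155b00c0aad7220556b8b02ab5c48155ae140aad7060556b1102ab5858155ac140aad5220556a8d02ab5448155aa1c0aad4220556a0502ab4c58155a42c0aad212055689102ab4478155a2340aad10e055688502ab3c881559e3c0aacf0a055671102ab38681559c1c0aacd1e055668d02ab34581559a140aacc16055659102ab288815594240aac81e055640d02ab203815590140aac722055638b02ab1c481558e1c0aac70a055638302ab1448155881c0aac406055618902ab084815582140aabf120555f8302aaf4581557a1c0aabc1e0555e0d02aaf03815578140aabc060555d8b02aae848155740c0aab9220555c8902aae4281556e340aab7160555b0f02aad8381556c140aab5220555a8902aad048155603c0aab01a055578b02aab4781555a340aaad16055568302aab04))))) (BT.node (nat_lit 486) (BT.node (nat_lit 485) (BT.leaf (Bx.mk (nat_lit 0x815836440ac1a220560c9102b060881582e440ac17160560b8302b058881582c2c0ac15120560a0f02b05058158280c0ac131e056088f02b04468158221c0ac110a056088302b04048158200c0ac0f16056070902b038381581a2c0ac0c0e056060502b02c1815812440ac091a056048702b020781580e2c0ac061a056020902b00c68158062c0ac030e056018502b00c18158040c0ac0122056008702b00428158020c0ac0016056000902b00038157fe2c0abff12055ff8702affc18157fc440abfe1e055ff0d02aff848157fc1c0abfe0a055fe8f02aff468157fa1c0abfd0a055fe8302aff058157f81c0abfb16055fd8902afec38157f60c0abfa22055fd0d02afe848157f41c0abfa0a055fc8d02afe458157f0440abf812055fb8302afd858157ec140abf606055fa9102afd478157ea240abf50e055fa8502afd078157e8340abf416055f98902afc458157e2140abf012055f60902afac48157d4240abe912055f40902af9c58157cc3c0abe616055f30702af9048157c43c0abe20e055f08f02af8468157c21c0abe10a055f00b02af7c58157b63c0abd916055eb0f02af5868157ac2c0abd606055ea8902af4c78157a4240abcd22055e60b02af2c4815794340abc812055e38b02af1c481578a440abc51e055e28d02af104815786240abc112055df8902aef8381577a2c0abbc12055dd8f02aee8481576a240abb412055da0302aecc8815766240abb21a055d90b02aec47815762340abb10e055d80702aebc481575e1c0abaf06055d71102aeb8481575c140abae06055d60f02aeb068157500c0aba722055d31102ae98781574c340aba60e055d30502ae9488157443c0aba21a055d10702ae881815742340aba112055d00d02ae80481573e440ab9f1a055cf8702ae7c281573e0c0ab9e16055cf0902ae78381573c0c0ab9d1e055ce8b02ae7418157382c0ab9c12055cc8902ae60581572c340ab951a055c90b02ae48481571e3c0ab8f1a055c78302ae38481571a2c0ab8d12055c60b02ae2c88157163c0ab8b12055c58702ae2c28157103c0ab881a055c40b02ae20181570e2c0ab8712055c30902ae144815708440ab8412055c18b02ae0c4815704240ab811e055c08702ae0418157002c0ab8012055c00302adfc88156fe3c0ab7f1a055bf8902adfc38156fe140ab7e16055be9102adf478156fa340ab7d12055be8702adf428156f63c0ab7b1a055bd8b02adec38156f6140ab7b06055bd0b02ade078156f0340ab7816055bb8b02add848156ea2c0ab7416055b98902adc87))) (BT.leaf (Bx.mk (nat_lit 0x81599a0c0accc22056660f02b33058159981c0accc0a056660302b32c5815996240accb06056650d02b32478159920c0acc822056640502b320181598e0c0acc622056630f02b318681598c2c0acc416056609102b3007815980140acc0060565f9102b2fc781597e340acbf160565f1102b2f8781597c340acbd1a0565e8b02b2f07815978340acbc160565d8902b2e4481596a3c0acb51a0565a8702b2d42815968440acb41e0565a0d02b2cc88159663c0acb31a056598b02b2c848159622c0acb022056580f02b2c068159601c0acb00a056580302b2bc581595c240acad22056568902b2b07815958240acab16056550b02b2a84815954140aca81e056540d02b2a0581594e240aca61e056530d02b2907815948340aca416056518902b2887815944340aca1120564f8902b278881593a440ac9c120564d8b02b26c48159361c0ac9b0a0564d0b02b26848159341c0ac9a0a0564d0302b2646815932240ac99060564c0902b25c681592e2c0ac96220564b0902b25448159282c0ac9312056498502b24848159240c0ac9012056480302b23c781591e340ac8e12056468902b234381591a0c0ac8c22056460f02b2303815918140ac8b12056450902b22488159123c0ac891a056448902b2243815912140ac8906056440502b21c681590e2c0ac870e056430902b20c78159022c0ac8012056400302b1fc78158fa340ac7d160563d8f02b1e458158f2240ac78160563c0902b1d478158ea340ac75160563a8302b1d058158e8240ac7212056389102b1c478158e2340ac7112056388702b1c048158de3c0ac6f1a056378b02b1b848158da440ac6d1e056368b02b1b438158d43c0ac6a1a056350302b1a468158ce3c0ac671a056338302b19818158ca240ac641e056320d02b19058158c6240ac6116056308902b18058158c00c0ac5f160562f8902b17888158bc3c0ac5d120562e0902b16c58158b42c0ac59120562c8702b16088158b03c0ac58120562c0702b15c58158aa240ac541e0562a0b02b14848158a23c0ac511a056288b02b14418158a02c0ac5012056270902b134781589a340ac4b12056250302b12048158900c0ac4706056228902b11438158883c0ac4416056218b02b1085815884240ac401a0561e8f02b0ec48158742c0ac390e0561c0f02b0e0681586c240ac36060561a9102b0d4781586a240ac350a0561a0902b0c878158642c0ac320e056188902b0b46815858240ac2912056140902b098481584a340ac2416056118902b08848158440c0ac1f120560f0b02b0706)))) (BT.node (nat_lit 487) (BT.leaf (Bx.mk (nat_lit 0x815ac22c0ad6012056af8b02b5784815aba3c0ad5d1a056ae8702b5645815ab2240ad5812056ab9102b55c4815aae1c0ad570a056ab0f02b5586815aac2c0ad551e056aa8d02b5505815aa63c0ad531a056a98702b5484815aa22c0ad5112056a80902b53c5815a9a240ad4c1a056a60b02b52c8815a96240ad4b0e056a58302b5286815a923c0ad490e056a48302b5205815a900c0ad471e056a38d02b51c2815a8c3c0ad461a056a30902b5148815a8a2c0ad4422056a20b02b5104815a880c0ad4322056a18902b50c1815a84240ad411e056a08d02b4f84815a763c0ad3b1a0569d8b02b4e48815a723c0ad391a0569c8902b4e43815a72140ad39060569c0f02b4dc4815a6a3c0ad3412056989102b4c45815a62240ad3022056980902b4c01815a5e440ad2f1a056971102b4b86815a5c0c0ad2d12056968702b4ac5815a542c0ad2922056948d02b4a01815a4e3c0ad2706056930b02b4984815a4c0c0ad251e056928d02b4945815a482c0ad2312056910902b4847815a40240ad1f1e0568f8b02b46c7815a36340ad1b160568c8f02b45c6815a2e140ad17060568b1102b4587815a2c340ad16120568b0702b4582815a2a3c0ad151a0568a8b02b4508815a28240ad140a056899102b44c5815a26140ad1222056890f02b4486815a24240ad120e056890502b4448815a223c0ad111a056888b02b4442815a220c0ad101e056880d02b43c5815a1e0c0ad0e12056860f02b4306815a16440ad0b1e056858d02b42c4815a161c0ad0b0a056858302b4284815a12240ad0412056810f02b4007815a00340ad0016056800502b40018159fe340acff0e0567f8502b3fc18159fc2c0acfe120567d0f02b3e868159f42c0acf91e0567c8d02b3e458159ec240acf512056790b02b3bc88159de240acef06056771102b3b848159dc0c0aced1e056761102b3b078159d8340acec06056758302b3a858159d40c0ace916056748902b3a418159d03c0ace71e056738d02b39868159ca440ace516056728902b39418159c8440ace41e056720d02b39058159c80c0ace316056718502b38848159c4140ace206056708b02b38448159c2140ace0120566f8d02b37888159bc2c0acdd220566e8f02b37468159ba2c0acdc220566e0f02b37068159b82c0acdb120566d0902b36468159b2240acd81e0566c0d02b36058159ae440acd61e0566a8902b34c78159a6340acd316056691102b34838159a4140acd206056688f02b34458159a20c0acd022056680f02b34068159a01c0accf12056670b02b3344))) (BT.leaf (Bx.mk (nat_lit 0x815c52240ae281a057140b02b89c7815c4e340ae2716057138702b89c2815c4c3c0ae261a057130702b8982815c4a2c0ae240a057118f02b88c6815c442c0ae2212057108f02b87c6815c3e240ae1e160570f0902b8744815c382c0ae1b1a0570d0b02b8684815c32240ae190a0570c0f02b8606815c301c0ae180a057098b02b84c4815c203c0ae101a057078902b8347815c1a340ae0d12057068702b8342815c18240ae0c0e057058b02b8247815c122c0ae0812057038f02b81c6815c0e2c0ae0622057030b02b8184815c0c1c0ae060a057030302b8107815c08340ae0406057010302b8048815c023c0ae011a057008b02b8041815bfe240adfe06056fe1102b7f04815bf81c0adfc06056fc0702b7dc4815be8240adf312056f91102b7c84815be2140adee12056f69102b7b45815bda240adec22056f60f02b7b06815bd8240adec0e056f60502b7b01815bd63c0adeb1a056f58502b7ac1815bd42c0ade916056f48902b7a08815bd03c0ade81a056f40902b7a03815bd0140ade722056f38902b7987815bcc2c0ade522056f20b02b7887815bc4340ade20e056f10302b7845815bc0240addf22056ef8902b7747815bba340addd0e056ee8502b7741815bb82c0add81e056ec0d02b7605815bae240add622056eb0902b7582815baa1c0add416056e98f02b7405815b9c2c0adcd16056e58b02b72c4815b942c0adc91e056e40b02b7204815b8e240adc61e056e30d02b7182815b88240adc222056e10902b7081815b823c0adc11a056e08702b7007815b702c0adb712056db0b02b6d84815b6a440adb512056d98902b6b88815b5c240adad16056d58f02b6ac6815b562c0adaa12056d40f02b69c4815b4c240ada51e056d28d02b6846815b3a240ad9c12056cd9102b66c6815b36240ad9b0e056cd0f02b6686815b341c0ad9a0a056cc8b02b6644815b321c0ad971a056cb0b02b6545815b2a1c0ad9416056ca0902b64c4815b22340ad9012056c60b02b62c5815b16240ad8b06056c50b02b6281815b12440ad891e056c48d02b6244815b12140ad881e056c40d02b6205815b0e340ad8716056c30b02b6184815b0c0c0ad8512056c20f02b6106815b082c0ad8322056c18f02b60c5815b002c0ad7e12056be8b02b5f04815af6440ad7b12056bd8502b5e88815af4140ad7a06056bc9102b5e47815af2340ad7812056bb8302b5cc8815ae6340ad721e056b90302b5c41815ae0440ad7012056b70f02b5b86815ad83c0ad6c1a056b58902b5a44815aca240ad6416056b08f02b5846)))))) (BT.node (nat_lit 492) (BT.node (nat_lit 490) (BT.node (nat_lit 489) (BT.leaf (Bx.mk (nat_lit 0x815dee3c0aef71a0577b8b02bbdc1815dec140aef512057790b02bbc47815de2340aef106057781102bbc04815dde240aeee22057770f02bbb86815ddc140aeec12057750f02bba86815dd42c0aee822057740f02bba06815dcc240aee41e057720b02bb8c8815dc63c0aee31a057718702bb8c1815dc42c0aee20a057708f02bb846815dc2240aee10e057708502bb808815dc03c0aee01a057700902bb803815dc0140aedf1e0576f8d02bb7c3815dbe140aedf060576f1102bb787815dbc340aede0e0576f0502bb781815dba240aedc120576d8f02bb6c5815db2240aed81e0576c0d02bb5c3815dac340aed6160576a0b02bb484815da2240aed012057678702bb3c2815d9a3c0aecd1a057668702bb307815d960c0aec91e057648b02bb241815d90340aec716057628d02bb144815d8a1c0aec41a057618902bb046815d80240aebf120575e8d02baf45815d7a0c0aebb160575d1102bae87815d74340aeba120575d0502bae45815d703c0aeb81a0575b8b02badc4815d6a240aeb41a057598b02bac86815d640c0aeb01e057580d02bac01815d5e240aeae1a057570b02bab44815d58240aeaa1e057550d02baa44815d50240aea712057531102ba984815d4a3c0aea51a057520d02ba8c5815d460c0aea21e0574e0b02ba702815d342c0ae9a120574d0702ba5c7815d2e340ae970e0574a0f02ba505815d1e0c0ae8e16057470902ba383815d1c140ae8d22057468d02ba344815d1a1c0ae8d0a057468302ba2c7815d16140ae8912057438302ba184815d0a3c0ae851a057428b02ba104815d060c0ae81120573f8f02b9f88815cfc2c0ae7e120573e8b02b9f41815cf83c0ae7c1a0573e0502b9ec6815cf62c0ae79160573c8702b9e41815cee3c0ae77060573b0b02b9d84815cea2c0ae7416057380902b9c01815cde340ae6e1a057368902b9ac5815cd60c0ae6a1e057350d02b9a85815cd2340ae6522057310f02b9886815cc40c0ae6116057308902b9804815cb6240ae5a120572d0502b95c7815cae340ae57160572a8902b94c4815c9e2c0ae4e22057270902b9383815c9c140ae4c16057260302b9284815c923c0ae4712057230902b9147815c8a340ae431e057218d02b9045815c7c240ae3e0e0571e8f02b8f45815c782c0ae3c120571d8902b8e84815c74140ae39120571c0f02b8e06815c702c0ae37120571b1102b8d85815c6c140ae35220571a8b02b8d42815c66240ae301e057180d02b8c05815c60140ae2f16057178902b8b85815c5c0c0ae2c12057160702b8ac4))) (BT.leaf (Bx.mk (nat_lit 0x815f2e140af9706057cb0902be4c5815f261c0af921e057c90d02be482815f240c0af9012057c79102be3c7815f1e240af8f0e057c71102be384815f1c1c0af8d16057c61102be2c7815f16340af8b16057c50902be205815f10240af8806057c38b02be1c4815f0c440af861e057c30d02be184815f0c1c0af860a057c30302be145815f0a140af8506057c20f02be106815f063c0af831a057c18b02be084815f02340af8116057bf0902bdf04815ef62c0af7b12057bc8f02bde46815ef22c0af7612057ba8902bdd07815ede3c0af6f1a057b78b02bda04815ec82c0af6412057b10b02bd884815ec2440af6112057b00f02bd7c4815eb8240af5c0a057ac8b02bd644815eae440af571a057aa8b02bd504815ea6440af530e057a90f02bd485815ea22c0af5112057a80f02bd405815e9e440af4e1e057a61102bd305815e981c0af4b22057a58902bd2c3815e960c0af4a22057a50b02bd284815e941c0af4a0a057a48902bd243815e92140af4812057a40702bd202815e900c0af4716057a38902bd1c3815e8c440af461e057a30d02bd184815e8c1c0af460a057a30302bd147815e88440af440e057a20502bd0c3815e86140af4306057a10702bd082815e840c0af4122057a08b02bd044815e821c0af410a057a01102bd005815e80240af400e057a00502bd001815e7e3c0af3f1a0579f8902bcfc3815e7e140af3f060579f0302bcf45815e7a240af3c120579c1102bce04815e6c440af36120579a9102bcd44815e64240af311e057988502bcc06815e5e2c0af2e12057969102bcb46815e583c0af2a16057950302bca47815e52340af271e057938d02bc9c5815e4e0c0af261e057930902bc947815e4a340af2512057928502bc908815e483c0af2412057918b02bc884815e423c0af2116057900f02bc805815e3c2c0af1e120578d8302bc688815e343c0af1a1a0578d0702bc682815e30440af18160578c0902bc602815e2e240af170a0578b0f02bc586815e2c240af160a0578b0302bc547815e282c0af140e0578a0502bc4c7815e26340af1312057898702bc4c2815e260c0af1222057890f02bc404815e1e340af0f0e057870502bc344815e1a1c0af0c1e057860502bc245815e102c0af0716057838902bc185815e0c240af060e057830302bc145815e0a240af0416057818f02bc0c6815e06240af030a057810f02bc045815e02240af010e057800b02bbfc4815dfc2c0aefc1e0577e0d02bbec6815df61c0aefb0a0577d8302bbe85815df41c0aefa060577c8f02bbe46)))) (BT.node (nat_lit 491) (BT.leaf (Bx.mk (nat_lit 0x8160b03c0b0581a0582c0b02c15c48160ac240b0560a0582a8902c15438160a8240b05312058290b02c14448160a03c0b0501a058280b02c13c581609e240b04d16058258f02c12c68160960c0b04a12058240b02c11c881608e3c0b0471a058238702c118881608c240b0460a058208f02c1046816080240b03f120581f0902c0f4781607a340b03d160581e0902c0f01816074240b038120581a8f02c0d048160662c0b03212058190502c0c4581605e3c0b02f16058170902c0b4481604e240b02622058130f02c098481604c140b02516058120f02c0903816048140b02316058118902c0885816044240b0201a0580e8b02c0705816038240b01b1e0580d8d02c0684816032340b018160580b8502c0584816028240b01312058090b02c04848160222c0b01112058081102c04048160201c0b0100a058078b02c038481601a2c0b00c12058058d02c02c5816014440b00a16058050902c0283816014140b00916058048902c0243816012140b00906058040b02c01c781600e0c0b00622058030f02c018681600c2c0b00512058018902c0084816002240afff16057ff8902bffc3815ffc2c0affe12057ff0702bff81815ffa240affb16057fd0b02bfe84815ff40c0aff81a057fb8902bfd47815fe83c0aff41a057f68902bfb08815fd83c0afec12057f60702bfb02815fd6240afea16057f50702bfa81815fd03c0afe81a057f40b02bfa02815fce240afe61e057f30d02bf985815fca340afe512057f28702bf907815fc8340afe416057f18b02bf885815fc4240afe01a057ef0f02bf786815fbc1c0afde06057ee8b02bf744815fb8440afdc1e057ee0902bf703815fb6440afdb1e057ed8d02bf6c5815fb42c0afd922057ec0d02bf605815fac3c0afd616057eb0502bf581815fa43c0afd21a057e88902bf3c5815f96240afca22057e50f02bf286815f94140afc912057e40902bf1c8815f8e3c0afc71a057e38902bf1c3815f8e140afc616057e28f02bf145815f863c0afc31a057e18b02bf085815f822c0afc112057e00b02befc5815f7c2c0afbe12057de9102bef45815f7a140afbd06057de0f02bef06815f780c0afba0a057dc8f02bee46815f72140afb81e057dc0302bedc5815f6e0c0afb612057da9102bed44815f6a1c0afb50a057da1102bed02815f66440afb11e057d88d02bec05815f60240afae12057d70502bea85815f54240afa712057d30d02be985815f4a240afa41e057d20d02be905815f46240af9e1e057ce8902be707815f2e440af971e057cb8d02be5c3))) (BT.leaf (Bx.mk (nat_lit 0x81620e3c0b1071a058838b02c418781620c2c0b10612058828b02c4104816206440b1031e058818d02c40c58162061c0b1030a058818302c40878162041c0b1020a058800702c40028162000c0b0ff120587f8502c3f888161fc3c0b0fe1a0587f0702c3f478161fa2c0b0fd0e0587e8502c3ec78161f6340b0fb160587d8702c3ec28161f4240b0f6220587b0902c3d448161e62c0b0f222058790f02c3c848161e41c0b0f20a058788902c3c078161e0340b0f016058768902c3ac48161cc440b0e612058708902c38078161c0340b0e0060586f9102c37c78161be340b0df120586f8702c37c28161bc440b0de1e0586f0d02c37858161ba240b0dd0e0586e0902c36c58161b22c0b0d9060586c0902c35c68161ac240b0d41e058698902c34c28161a60c0b0d21e058690d02c34858161a03c0b0d01a058680b02c33c881619e240b0cd1e058659102c32c7816196340b0cb12058658702c32c2816194240b0c81a058640b02c31848161883c0b0c316058618902c30c2816184440b0c21e058610d02c30848161841c0b0c20a058600f02c30068161800c0b0bf160585f0b02c2f4881617a3c0b0bd120585e8702c2f42816178240b0bb160585d0902c2e478161722c0b0b8120585b8b02c2dc481616e140b0b7060585b0b02c2d8481616c140b0b5160585a0b02c2d04816166440b0b31e058598d02c2cc38161642c0b0b11e058588b02c2c0581615e2c0b0af12058571102c2b8781615c340b0ae0e058570502c2b458161583c0b0ac1a058560b02c2a87816154340b0aa16058540902c2a0181614e240b0a612058530302c2906816144240b09f160584f1102c278781613c340b09e0e0584f0502c26c8816136340b0991e0584b8f02c25c681612e2c0b0970e0584b8502c25c181612c240b0951e0584a0b02c25048161263c0b0931a058498b02c24c18161242c0b09212058488b02c244381611a2c0b08c22058460902c22c48161161c0b08a1e058450b02c22828161123c0b0891a058440902c21c881610e3c0b0871a058438702c21c281610c3c0b0861a058430b02c218181610a240b08416058408b02c2044816100240b07f120583e8b02c1f048160f63c0b07a220583d0902c1e478160f2340b077120583b0b02c1d068160e8240b0740e0583a0502c1c458160e2240b0710e058380f02c1c068160e01c0b0700a058378b02c1bc48160dc240b06c22058350902c1a048160c8240b0631e058318d02c18c58160c4240b061120582e8902c17078160b8340b05c160582d8902c1644))))) (BT.node (nat_lit 494) (BT.node (nat_lit 493) (BT.leaf (Bx.mk (nat_lit 0x81635c2c0b1ae12058d70702c6b4881635a340b1ad12058d68702c6b428163582c0b1ac12058d60702c6ac7816356340b1ab0e058d58502c6a85816354240b1aa06058d49102c6a45816352240b1a822058d40f02c6a068163501c0b1a80a058d39102c69c781634e140b1a606058d29102c694781634a2c0b1a50a058d20f02c69068163482c0b1a40e058d20502c68c5816346140b1a216058d08502c68418163402c0b1a012058cf1102c678781633c240b19e0e058cd8b02c66888163343c0b19a1a058cd0702c66828163302c0b19716058cb0f02c658581632c140b19606058ca9102c654581632a240b19422058ca0302c64c78163262c0b1921e058c90d02c64818163222c0b1901e058c80d02c640181631c3c0b18e1a058c70302c63448163182c0b18c12058c59102c62c7816316340b18b12058c58702c62c28163142c0b18a06058c38d02c61c281630e0c0b18522058c28f02c614681630a2c0b1850a058c28302c6104816306240b18212058c08b02c60448162fe440b17f1e058bf8d02c5fc48162fe1c0b17f0a058be8f02c5f048162f62c0b17a16058bc0b02c5e048162f0140b17712058bb0902c5d048162e62c0b17312058b89102c5c428162e0140b16f16058b70b02c5b438162da140b16b12058b50b02c5a448162d03c0b1681a058b40b02c59c48162ca240b16412058b18902c58448162c03c0b1601a058b00b02c57c88162be2c0b15f12058af0902c57088162b6440b15612058aa8902c55058162a8240b15316058a90902c53c781629e140b14e12058a60f02c52c4816292240b14722058a38902c518481628a2c0b14412058a18f02c50c68162862c0b14306058a10902c504481627c440b13e120589e8302c4f048162760c0b13a220589d0f02c4e868162742c0b139220589c8f02c4e468162702c0b138120589b8902c4dc181626c3c0b1360e0589b0302c4d4781626a340b1350e0589a8502c4d418162663c0b1331a058998302c4c88816264240b13112058980902c4bc581625c0c0b12d12058968502c4b41816258240b12a12058948b02c4a44816252140b12816058940902c49c481624c240b1251e058928b02c4908816248240b12406058918702c47c481623c2c0b11d220588e8902c4707816236240b1191e0588c8d02c460481622c240b1151e0588a8d02c454381622a140b115060588a0f02c4506816228140b1130e058898302c4408816220240b10e1e058870302c4305816216240b10a16058850502c42818162122c0b10912058841102c4204))) (BT.leaf (Bx.mk (nat_lit 0x81654c3c0b2a616059520f02ca9068165462c0b2a216059508902ca7c781653c3c0b29e1a0594f0b02ca7818165383c0b29c1a0594e0b02ca6848165340c0b298160594b8302ca5858165263c0b2931a059491102ca4848165223c0b2911a059488b02ca40481651a3c0b28d1a059468b02ca14781650a340b28516059418902ca007816500340b280160593f8b02c9fc48164fc240b27d1a0593e8b02c9f088164f63c0b27b160593c0902c9dc88164ec340b276160593a8902c9d418164e8440b2741a059398902c9c458164e2240b27006059378902c9b878164da0c0b26c16059350902c99858164cc240b26516059328902c99048164c62c0b260160592f9102c97c48164b82c0b25b120592c8f02c96468164b20c0b258160592c0902c95c48164ac240b25216059289102c934781649a340b24d16059260b02c9304816498140b24b16059258902c92848164923c0b2491a059248b02c9207816490340b24816059239102c918881648a3c0b2451a059228302c9108816488240b24322059218902c9088816484240b23f160591f8902c8f8481647c0c0b23d120591e1102c8e848164722c0b239120591c0f02c8e0681646e240b2351e0591a8d02c8d4581646a0c0b23412059198902c8c8781645c0c0b22d12059138d02c89c581644c440b22512059120b02c88c4816444340b22216059108b02c8805816440240b21e120590d0b02c8645816430340b2171a0590a9102c854781642a340b2150e0590a8502c85418164242c0b21112059078f02c83818164163c0b20b06059050902c8248816412240b2081e059040d02c820581640c3c0b2041e059020d02c8103816408140b20312059010f02c80858163fe240b1fd16058fe8902c7e878163f4340b1f516058fa8902c7d048163e6240b1f112058f80902c7bc78163de340b1ee16058f68b02c7b078163d8240b1ec0e058f60502c7ac68163d62c0b1eb0e058f50b02c7a848163d2240b1e512058f20b02c78c58163c23c0b1e11a058f08b02c78018163bc3c0b1de1a058ef0b02c77448163ba0c0b1dc12058ed8902c76058163b0240b1d612058ea8f02c75458163a42c0b1d012058e78902c72c4816394340b1c916058e40b02c720481638e2c0b1c322058e18902c70858163803c0b1bf16058df0f02c6f86816378240b1ba1e058dd0d02c6e458163703c0b1b806058db8b02c6d8781636c0c0b1b512058da1102c6d07816368340b1b406058d98b02c6cc4816364440b1b212058d89102c6c448163621c0b1b10a058d78902c6bc3)))) (BT.node (nat_lit 495) (BT.leaf (Bx.mk (nat_lit 0x8166de3c0b36f1a059b78702cdbc28166dc240b36d12059b60b02cda868166d4240b36a0a059b38f02cd9c18166cc2c0b36516059b08b02cd8088166bc2c0b35d22059ad8902cd6848166b23c0b3591a059ac8b02cd6078166b0340b35816059ab8b02cd5c48166a83c0b35212059a88b02cd4448166a03c0b3501a059a80b02cd3c581669e240b34e1a059a60f02cd284816692240b34716059a31102cd18481668a1c0b3450a059a20f02cd105816688140b3431e059a18d02cd0c58166860c0b34212059a08b02cd005816680240b33f160599f8902ccf8581667c240b33e0e0599e9102ccf44816678240b33b1e0599d8d02ccec58166761c0b33b0a0599d8302cce8581666e2c0b336220599b0f02ccd8681666c1c0b3360a0599a8b02ccd41816662240b32d16059948f02cca4581664e3c0b3271a059928b02cc944816648240b32216059908b02cc844816640240b31f120598f0f02cc78681663c140b31d160598e8902cc7048166343c0b31a0a0598c0b02cc60481662e2c0b316120598a0d02cc484816622240b30f12059868f02cc346816614340b30a16059838b02cc18781660c340b30616059830502cc144816608240b30312059810902cc0448165fe0c0b2fe120597e8f02cbf418165f8240b2fc060597d9102cbec48165f43c0b2fa060597c9102cbe448165f03c0b2f81a0597c0b02cbe018165ee440b2f7060597b0f02cbd868165ea0c0b2f122059788502cbc078165e0340b2f016059778f02cbbc68165de2c0b2ee1e059770d02cbb468165da240b2ed0e059768502cbb078165d8340b2ec16059760702cbb028165d63c0b2eb1a059758302cba848165d23c0b2e91a059748b02cba418165d0240b2e80e059740502cb9c78165ce240b2e70e059738502cb9458165ca240b2e41e059720d02cb9058165c81c0b2e40a059718902cb8858165c2240b2e01e059700d02cb7878165bc340b2de160596e8902cb6c48165b4440b2da120596c8f02cb6468165b22c0b2d8220596c0902cb5c58165ac240b2d5160596a0902cb4878165a41c0b2d20a059689102cb4448165a03c0b2d01a059680b02cb385816594440b2ca16059650902cb2468165921c0b2c822059638f02cb1c681658e2c0b2c51a059620902cb087816580340b2c016059600302caf8781657c340b2bc120595b8902cad8881656a3c0b2b412059591102cac848165623c0b2b11a059588b02cac07816560340b2b016059578902caac78165562c0b2aa06059549102caa47816552340b2a822059540b02ca9c4))) (BT.leaf (Bx.mk (nat_lit 0x8168bc340b45e0e05a2f0502d17488168ba240b45c1e05a2e0d02d17058168b6240b45a1e05a2c9102d16448168ae2c0b4571205a2b0902d15478168a6340b4531605a290b02d14458168a2240b4510605a270f02d1385816894440b44a1e05a250d02d1283816894140b44a0605a240f02d12068168902c0b4461605a230902d1144816888440b4422205a208902d10048168800c0b43c1205a1d8902d0ec18168702c0b4371205a1b0b02d0d8481686c1c0b4351605a1a8702d0d418168663c0b4331a05a198b02d0c8481685c140b42d1605a168502d0b07816858240b42c0e05a160302d0a848168523c0b4291a05a148b02d0a0481684e240b4251605a128902d0905816848240b4211a05a100b02d078881683c3c0b41e1a05a0f0302d074481683a0c0b41c1205a0d0d02d06848168341c0b41a0a05a0c8f02d06458168303c0b4181a05a0c0b02d0545816828240b4121205a070902d0308816818240b40c0e05a058f02d02c58168142c0b40a1205a040d02d01448168063c0b40212059ff8b02cff448167f8240b3fb12059fd1102cfe848167f4140b3f912059fc0902cfdc78167ee340b3f716059fb0902cfc848167e23c0b3f11a059f80902cfb858167dc240b3ed12059f60f02cfb058167d6240b3ea1e059f48902cfa048167c63c0b3e21e059f01102cf7c88167bc2c0b3dd1e059ee0902cf6c68167b4340b3da16059ed0302cf6418167b03c0b3d81a059ec0302cf5c48167ac240b3d51e059ea8d02cf5448167a63c0b3d316059e90902cf40481679e3c0b3cf1a059e70902cf3418167980c0b3ca1a059e50302cf24481678e440b3c712059e38302cf18581678a3c0b3c51a059e28702cf1048167862c0b3c016059e00902cf00181677e2c0b3bf12059df1102cef8681677c140b3be06059de0b02cee87816772440b3b80a059d98f02cecc5816766140b3b20e059d88502cec0581675e2c0b3af12059d78702ceb8781675c340b3ae0e059d70502ceb448167562c0b3ab12059d38902ce9458167443c0b39f1e059cf8d02ce7c581673c240b39d12059ce0f02ce68481672e240b3941e059c99102ce4c78167262c0b3930a059c88f02ce4468167222c0b39022059c80b02ce38881671c0c0b38d22059c58d02ce247816712340b38916059c30902ce142816708440b3841a059c20b02ce1028167043c0b3821a059c10702ce081816702440b3811e059c08d02ce0448167021c0b3810a059c01102ce0048166fa0c0b37c12059bd8902cde448166f0340b3761e059ba0902cdbc8))))))) (BT.node (nat_lit 504) (BT.node (nat_lit 500) (BT.node (nat_lit 498) (BT.node (nat_lit 497) (BT.leaf (Bx.mk (nat_lit 0x816a52440b5291a05a948902d4a41816a50440b5271205a930f02d4944816a46240b5211205a900902d47c7816a3e340b51f1605a8f0902d4746816a382c0b51a1605a8c0d02d45c7816a2e340b5170a05a8b8302d4581816a2a3c0b5141e05a8a0d02d44c7816a24240b5111605a880302d4384816a1c0c0b50c1205a860302d4248816a121c0b5081605a838902d4186816a0a240b5041a05a818902d4086816a042c0b5011205a800902d3f858169fa240b4fb1a05a7d8b02d3dc88169ee240b4f70a05a7b1102d3d878169ec340b4f61605a7b0502d3d448169e43c0b4f21a05a781102d3c018169de240b4ee1205a768f02d3b438169da140b4ec1205a758902d3a848169d22c0b4e50a05a718b02d38c48169c2340b4e11605a6f8f02d37c68169be2c0b4de1205a6e0902d36c58169b61c0b4d71e05a6b8502d34c58169a6240b4d21605a690902d34488169a23c0b4d10e05a688502d34048169a0140b4cc1a05a660702d32c7816996340b4cb1605a658702d32878169941c0b4c91e05a648d02d32458169920c0b4c81205a638b02d31c481698c2c0b4c51605a628902d31058169863c0b4c31a05a618b02d30c1816984240b4c11205a601102d300481697e2c0b4bf1205a5f0902d2f46816978240b4bb1e05a5d8d02d2ec58169742c0b4b71205a5b0902d2d4581696a240b4b41205a590902d2c43816962140b4b02205a579102d2bc581695c440b4ae0e05a560f02d2b068169582c0b4ac0605a558902d2a47816952340b4a81205a539102d29c781694e340b4a70e05a538502d29c181694c240b4a60e05a528902d2905816942440b4a01e05a500d02d280581693e240b49e1205a4e8902d2704816936340b4991a05a4c8b02d2641816930240b4971205a4a0f02d2506816928240b4940e05a4a0502d2447816920240b48f1205a470b02d23848169143c0b4881205a430b02d20c7816906340b4821205a408b02d20048168f8240b47b1e05a3d8d02d1ec58168ec440b4761605a3a9102d1d458168ea240b4741e05a3a0d02d1d058168e8140b4731205a390902d1c478168e2340b4710a05a380b02d1bc58168dc440b46e1e05a370902d1b838168dc140b46d1205a361102d1b078168d8340b46c1605a358f02d1ac68168d62c0b46b0e05a358302d1a878168d4340b46a1605a348902d19c48168cc240b4641a05a318b02d18848168c22c0b4611205a308502d18088168c03c0b4601a05a300902d18038168c0140b45f2205a2f8f02d17c68168be140b45f0605a2f1102d1787))) (BT.leaf (Bx.mk (nat_lit 0x816bae240b5d70e05aeb8502d7588816bac340b5d61605aea8b02d7544816ba83c0b5d41a05aea0b02d7503816ba63c0b5d31a05ae98b02d7487816ba42c0b5cf1205ae50902d7243816b92140b5c71605ae38902d7144816b863c0b5c21e05ae10d02d7085816b82340b5c10a05ae00702d7002816b7e440b5bf1e05adf8902d6fc3816b7e140b5be1e05adf0d02d6f83816b7c140b5be0605add8b02d6ec4816b742c0b5ba1205adc8302d6dc4816b6e0c0b5b61e05adb0902d6d82816b6a3c0b5b51a05ada0f02d6d06816b682c0b5b11e05ad88d02d6c45816b620c0b5b01e05ad80d02d6c05816b601c0b5b00605ad79102d6bc7816b5e340b5af0e05ad78502d6bc1816b5c2c0b5ad1605ad61102d6b07816b58340b5ac1205ad60702d6b02816b563c0b5ab1a05ad58b02d6a87816b54340b5aa1605ad49102d6a45816b50440b5a81205ad39102d6984816b4a2c0b5a50e05ad28502d6908816b483c0b5a41205ad20702d6902816b480c0b5a31a05ad18302d6848816b423c0b5a11a05ad08902d6843816b42140b5a01605acf8d02d67c2816b3c2c0b59e1205acf0302d6704816b363c0b59b1605acc8902d6605816b30240b5971205acb0902d6544816b282c0b58f1e05ac78d02d63c5816b1e0c0b58d1e05ac68902d6287816b142c0b5891605ac40902d61c4816b043c0b5821a05ac08702d6007816b00340b5801605abf8b02d5f85816afa3c0b57c1205abd8902d5e45816af03c0b5780e05abc0502d5e01816aee2c0b5770e05abb0702d5d44816ae8440b5741e05aba0d02d5d04816ae81c0b5740a05ab98f02d5cc5816ae61c0b5730a05ab90f02d5c82816ae2440b5702205ab79102d5b86816adc2c0b56e0e05ab69102d5b47816ada1c0b56d0605ab58f02d5a84816ad2240b5682205ab39102d5988816ac83c0b5641a05ab20b02d58c5816ac42c0b5611205ab00b02d57c6816abe2c0b55f0a05aaf0902d5747816aba340b55d1605aae0b02d5704816ab63c0b55b1a05aad8b02d56c3816ab4240b5591205aac0902d55c5816aac240b5560a05aaa8f02d5545816aa8140b5531605aa90b02d5484816aa23c0b5511a05aa78f02d53c5816a96240b54a1205aa48f02d5246816a903c0b5481a05aa28b02d5104816a842c0b5420605aa09102d5045816a82240b5401205a9f8d02d4f47816a7a340b53c1205a9d8902d4e84816a72240b5351605a9a8902d4d04816a66240b5330a05a990902d4c46816a603c0b52f1205a970d02d4b85816a542c0b52a1205a950702d4a82)))) (BT.node (nat_lit 499) (BT.leaf (Bx.mk (nat_lit 0x816d00240b6800a05b3d0902d9e45816cf2240b6782205b3c0f02d9e04816cee440b6771e05b3b8d02d9dc1816cec440b6761e05b3b0d02d9d83816cec140b6751e05b3a8b02d9d07816ce8340b6731e05b398702d9c87816ce4340b6721605b390702d9c44816ce0240b66e1e05b370d02d9b05816cd8240b66a2205b350f02d9a44816cd03c0b6681a05b340b02d9a03816cce240b6670a05b330f02d9986816ccc2c0b6651205b320902d98c4816cc43c0b6621a05b310b02d9883816cc22c0b6611205b2f8702d97c2816cba2c0b65c1205b2d9102d96c4816cb4440b65a1205b2c8902d9544816ca82c0b6541205b290b02d9484816ca40c0b6511205b280f02d93c7816c9e340b64f0e05b278502d9344816c9a1c0b64c1205b260302d91c5816c8e240b6470605b230b02d9184816c8a3c0b6451205b228702d9142816c882c0b6441205b218b02d90c4816c860c0b6422205b210f02d9086816c84240b6420e05b210502d9081816c823c0b6411a05b208b02d9041816c80440b6401e05b200d02d9005816c7e240b63e1a05b1f0b02d8e87816c74340b6391205b1c0302d8dc7816c6e340b6371205b1b8702d8dc2816c6c240b6351a05b1a8b02d8d05816c66240b6321605b180902d8b88816c5c3c0b62d2205b168902d8b41816c58440b62c1e05b160d02d8b05816c562c0b62b0605b150b02d8a44816c520c0b6281e05b130f02d8943816c482c0b6240e05b118d02d88c4816c441c0b6212205b0d1102d8687816c34340b61a1605b0c8b02d8644816c320c0b6181e05b0c0d02d8605816c2e440b6171a05b0b8b02d8587816c2c340b6161605b0a0902d84c6816c262c0b6121e05b090502d8481816c22240b60d1e05b068d02d8345816c183c0b60c1a05b060b02d82c5816c142c0b60a0e05b050502d8243816c12140b6081a05b040902d8188816c0c3c0b6061a05b030b02d8148816c0a3c0b6041205b018902d8087816c020c0b6002205b000902d8001816bfe440b5ff1205aff8302d7f88816bfc2c0b5fe1205aff0302d7f05816bf6340b5f91205afc0b02d7e01816bec240b5f60a05afa8902d7d42816be8440b5f41a05af99102d7cc4816be60c0b5f20605af81102d7c05816be0240b5f00605af70f02d7b46816bd8240b5eb1205af58302d7a07816bd0340b5e80605af30902d7981816bca2c0b5e32205af18f02d78c6816bc6240b5e30e05af18502d7884816bbc3c0b5d92205aec8b02d7643816bb0440b5d81605aec0902d7603816bb00c0b5d72205aeb8f02d75c6))) (BT.leaf (Bx.mk (nat_lit 0x816e540c0b7291a05b948902dca43816e52140b7280a05b940302dc9c7816e4e2c0b7270e05b938502dc9c1816e4c440b7260a05b929102dc947816e4a340b7241a05b918302dc888816e44240b7220e05b908f02dc846816e420c0b7202205b8f9102dc748816e383c0b71c1a05b8e0902dc703816e38140b71c0605b8d9102dc6c7816e36340b71b1605b8c8f02dc646816e322c0b7181205b8b8902dc585816e2c240b7141605b8a0302dc4c7816e26340b7131605b888f02dc446816e222c0b7110605b868b02dc2c5816e14340b70a0605b840f02dc206816e102c0b7080605b838b02dc1c4816e0e1c0b7061205b820b02dc104816e06440b7031e05b818d02dc0c4816e061c0b7030a05b810f02dc086816e02240b7001205b7f8f02dbfc5816dfc2c0b6fe0a05b7e0f02dbf05816df6240b6fa1205b7c8702dbe42816df02c0b6f71605b7b8902dbd44816de6240b6f21205b788d02dbc43816de03c0b6ef1205b768b02dbb05816dd6240b6ea1a05b750b02db807816dc0240b6e00a05b6f8902db785816dbc240b6dc2205b6e0902db703816db8140b6db1205b6d0b02db645816db2240b6d71605b6b0302db544816daa1c0b6d50a05b6a0902db503816da8140b6d40605b698f02db4c6816da6240b6d30e05b698502db487816da4340b6d21605b690702db482816da2340b6cf1605b678902db347816d9a340b6cd1605b668702db341816d98440b6cc1a05b660902db302816d96240b6cb0a05b650b02db284816d94140b6c91205b641102db204816d901c0b6c80a05b638d02db184816d88340b6c31e05b618d02db046816d7e240b6be1205b5e8f02daf06816d761c0b6bb0605b5c0d02dad86816d6c2c0b6b52205b5a8f02dad46816d6a1c0b6b50a05b5a8302dac88816d643c0b6b21205b590702dac82816d623c0b6b11605b580902dac01816d5e440b6af1e05b570902dab47816d5a340b6ac1205b558902daa88816d543c0b6aa1a05b550b02daa82816d52440b6a91e05b548d02daa45816d521c0b6a90a05b548302daa04816d4e240b6a60e05b530502da945816d482c0b6a41205b518b02da885816d44240b6a20e05b508f02da842816d3e2c0b69f1205b4f0902da747816d3a1c0b69d0a05b4c8b02da644816d2c2c0b6960605b498f02da4c6816d262c0b6930a05b491102da404816d1c440b68e1e05b470502da348816d1a240b68c0605b450f02da286816d140c0b6881205b421102da107816d08340b6840e05b420502da101816d06240b6811205b408502da005))))) (BT.node (nat_lit 502) (BT.node (nat_lit 501) (BT.leaf (Bx.mk (nat_lit 0x816f901c0b7c80a05be38b02df144816f863c0b7c21e05be10d02df085816f803c0b7bf1205bde1102dee05816f6e240b7b61605bdb0902ded45816f6a240b7b50605bd98f02dec88816f62440b7b11e05bd88d02dec43816f62140b7b10605bd80902debc6816f5e2c0b7ae1205bd70702deb82816f5a240b7ad0e05bd68502deb41816f580c0b7ab1205bd50f02dea86816f542c0b7a91205bd30b02de904816f481c0b7a31605bd10902de846816f42240b7a10e05bd00b02de784816f343c0b79a1a05bcd0302de644816f30240b7951a05bca8302de4c5816f26240b7920e05bc88902de407816f20340b7901605bc68902de342816f183c0b78c1a05bc60b02de244816f121c0b7881205bc39102de187816f0c340b7841e05bc20d02de0c4816f042c0b7811605bc08902de008816f003c0b7801a05bc00b02de001816efe440b77f1605bbf8902ddfc1816efc440b77e1605bbf0302ddf47816efa340b77d1205bbe8502ddf05816ef63c0b77b1a05bbd0902dde06816ef0240b7780a05bbb0b02ddd04816ee62c0b7722205bb90902ddc44816ee20c0b7701e05bb80d02ddbc1816eda2c0b76d0605bb61102ddb06816ed63c0b76b1a05bb58302dda86816ed40c0b7692205bb48b02dda44816ed2140b7681605bb40502dd9c6816ece240b7660a05bb00f02dd806816ec02c0b75f1e05baf8d02dd7c5816ebc3c0b75e1a05bae8902dd701816eb63c0b75b1a05bad8902dd6c3816eb0240b7571605bab0902dd582816eaa2c0b7551205baa8502dd541816ea83c0b7541205baa0502dd501816ea2240b74f2205ba78b02dd3c1816e9c440b74e1605ba70902dd347816e9a340b74d1205ba68702dd342816e98440b74c1e05ba60d02dd301816e962c0b74b1205ba51102dd287816e94340b74a1205ba50702dd282816e923c0b7491a05ba48b02dd207816e90340b7481605ba20b02dd104816e881c0b7431e05ba10f02dd083816e840c0b7411605ba08902dd043816e80440b7401e05ba00502dcfc7816e7e340b73f0605b9f0902dcf44816e7a0c0b73c1a05b9e0902dcf01816e763c0b73b1a05b9d0902dce81816e722c0b7381e05b9c0d02dce04816e701c0b7380a05b9b9102dcdc7816e6e340b7371205b9b8702dcdc2816e6c3c0b7361a05b9b0b02dcd47816e6a340b7351605b9a0f02dcd06816e682c0b7311605b988902dcc43816e62140b7301205b980702dcc02816e5e3c0b72f1205b970f02dcb86816e5c1c0b72d1605b968902dcb41816e583c0b72c1605b950d02dca82))) (BT.leaf (Bx.mk (nat_lit 0x8171003c0b8801a05c400b02e20018170fa2c0b87d1205c3e0902e1e478170f2340b8791605c3c8502e1dc78170ec340b8751e05c3a8d02e1d458170e63c0b8731a05c398b02e1c858170e2240b8701e05c380d02e1c038170dc340b86e1605c370502e1b448170d83c0b86c1a05c360b02e1b028170d42c0b86a1205c340b02e1a048170d00c0b8671605c330f02e19858170cc0c0b8641605c320902e19038170c8140b8640605c318902e18058170be440b85f1e05c2f8d02e17c28170b82c0b85b2205c2d8f02e16c68170b61c0b85b0a05c2c8f02e16468170b22c0b8590605c2b8f02e15c68170ac440b8561e05c2a8d02e15048170a63c0b8531605c290902e14468170a22c0b8501205c278f02e13c681709e2c0b84d1205c261102e1307817098240b84c0a05c250902e12088170903c0b8481a05c240b02e11c581708c240b8431a05c218302e104581707e3c0b83f1a05c1f0902e0f04817076340b83b1605c1d0f02e0e868170742c0b8391605c1c8902e0dc781706c240b8360605c1a8f02e0d45817068340b8341605c198b02e0cc4817064240b8312205c188902e0c07817060140b82d1205c150902e0a8181704c3c0b8261605c118b02e0847817042340b8211605c108702e080481703e340b81f1605c0f8302e0707817036240b81a1605c0b8902e058681702c2c0b8160605c0a0f02e05068170281c0b8140a05c080f02e04068170200c0b80f1205c070b02e03458170183c0b80c0e05c058902e0287817014240b8091e05c048d02e0245817010240b8080a05c038f02e01c381700c240b8041a05c020902e00c78170061c0b8030605c011102e0087817004340b8020e05c010502e00448170002c0b8001205bff8902dff87816ffc340b7fd1e05bfe8702dfe83816ff4140b7f91e05bfc8d02dfe42816ff0240b7f71605bfb0b02dfd44816fe83c0b7f41a05bf98902dfc85816fe20c0b7f02205bf80f02dfc06816fe01c0b7f00a05bf80302dfbc7816fde340b7ea1205bf48d02dfa45816fd0240b7e52205bf28902df942816fc63c0b7e31a05bf18b02df885816fc23c0b7e11a05bf08b02df841816fc0440b7e00a05bef9102df7c4816fbe140b7dd1205bed8f02df6c6816fb4240b7da0e05bec8b02df607816fb02c0b7d72205beb8902df587816fac2c0b7d51e05bea8d02df545816fa82c0b7d31605be98902df487816fa23c0b7d10e05be88302df3c5816f9e240b7ce1e05be70d02df306816f980c0b7cb1205be48b02df241816f90440b7c81e05be40d02df204)))) (BT.node (nat_lit 503) (BT.leaf (Bx.mk (nat_lit 0x8172cc440b9661205cb28f02e59468172ca2c0b9641205cb18902e58848172c02c0b95d1605cad0f02e56868172b42c0b9592205cac0d02e55878172ac340b9561605ca98f02e54878172a4340b9501e05ca80d02e540581729e340b94f0605ca68f02e5346817298240b94b1605ca50b02e52448172902c0b9471e05ca38d02e514781728a340b9451605ca28302e50c7817286340b9421205ca00f02e4f8181727a2c0b93c0605c9d0f02e4e868172742c0b9391205c9c0902e4cc7817266340b92c1e05c960d02e4ac4817254240b9291e05c948d02e4a45817250240b9271205c938302e494781724a0c0b9242205c920b02e48c8817246340b9230605c900f02e480581723a3c0b91c1605c8e0902e46448172302c0b9162205c8b0f02e458581722c0c0b9151205c890902e43c881721e240b90e1205c860b02e42c4817214240b9091205c838902e418481720a240b9031e05c800f02e40068171fe2c0b8fe1205c7e8d02e3f448171fa1c0b8fd0a05c7e0902e3ec68171f62c0b8fa1205c7c8b02e3e058171f0240b8f80605c7b9102e3dc78171ee340b8f71205c7b8702e3dc28171ec240b8f51605c7a8302e3d058171e8240b8f40605c799102e3cc78171e6340b8f30e05c798502e3c878171e4340b8f21605c788902e3c088171e02c0b8f01205c780302e3bc88171de2c0b8ef1205c778302e3b078171d82c0b8eb1605c748f02e3a468171ce3c0b8e71a05c720f02e39068171c82c0b8e40605c710902e38828171be240b8de1205c6f0702e37828171ba240b8dc1e05c6c0b02e35c58171ac3c0b8d61a05c6b0302e35448171a62c0b8d22205c690902e34838171a2440b8d11205c678f02e33c681719e2c0b8cc1205c630f02e318681718c1c0b8c51205c620b02e30c5817186240b8c10e05c600302e2f8881717c3c0b8be1a05c5e8b02e2f418171783c0b8ba1e05c5d0d02e2e858171740c0b8b91605c5c0902e2dc381716a1c0b8b50a05c5a8302e2d048171662c0b8b31205c590902e2c47817162240b8ae1a05c570b02e2b448171583c0b8aa1205c538902e298581714a2c0b8a51205c518f02e28c68171462c0b8a21e05c510d02e28858171422c0b8a11205c4f8902e278781713c340b89e1605c4f0702e27448171383c0b89c1a05c4d8902e26458171320c0b8971205c4b0902e25058171263c0b8931a05c498902e24c3817126140b8901a05c478902e2384817118240b88a1205c440f02e22068171102c0b8880605c438902e218481710a2c0b8831a05c418b02e2044))) (BT.leaf (Bx.mk (nat_lit 0x8174663c0ba331a05d198902e8c838174622c0ba311205d180b02e8c0481745e2c0ba2f1205d170902e8b4681745a2c0ba2c1605d150f02e8a868174541c0ba2a0a05d130902e8944817448240ba232205d118f02e88c58174461c0ba230a05d108f02e88468174421c0ba210605d100d02e880281743e3c0ba1f1a05d0f8702e87c281743a340ba1d1605d0d0f02e86868174342c0ba1a0e05d0d0302e8607817430340ba181605d0b8d02e858681742c2c0ba151205d0a0902e8487817424340ba111e05d088d02e84418174203c0ba100605d079102e83c781741e240ba0f0a05d070b02e838481741a240ba0c1205d060502e82c48174122c0ba071205d030902e8107817408340ba041605d018f02e80c68174040c0ba011a05d000902e7f848173fa240b9fb1a05cfd0b02e7e448173f2140b9f81605cf98902e7c048173de3c0b9ed1205cf58b02e7ac48173d4240b9e91e05cf48702e79c88173ce240b9e51a05cf28902e79418173c43c0b9e20e05cf10502e78478173c21c0b9e10a05cef8f02e77c68173bc240b9dd1e05cee0b02e77048173b62c0b9da2205ced0f02e76848173b41c0b9da0a05cec8902e76088173b0240b9d61205cea8f02e74c28173a4240b9d11e05ce88d02e74458173a0240b9ce1a05ce68902e72c7817396340b9cb1605ce50b02e72448173902c0b9c71205ce30b02e7145817388440b9c41e05ce20d02e71048173881c0b9c40a05ce18d02e70c28173860c0b9c22205ce10f02e70868173841c0b9c20a05ce08d02e7042817380240b9bf1e05cdf8d02e6fc581737e1c0b9be0a05cde8b02e6f04817376240b9ba1205cdc8902e6e42817370240b9b71605cda8302e6c87817364340b9b21605cd80902e6bc481735c240b9ab1605cd49102e6a448173521c0b9a90a05cd40f02e6a0581734c2c0b9a51605cd10f02e688681733c2c0b99b2205ccd8902e658781732c340b9951205cc98902e640481731e240b98e1205cc58f02e62c6817316140b9891e05cc48d02e6245817312140b9881e05cc40d02e62058173100c0b9871605cc38902e618581730c240b9842205cc20b02e6104817308140b9831a05cc10302e6045817300440b9801e05cc00d02e6003817300140b97e0605cbe8b02e5f088172f83c0b97c1a05cbe0902e5f038172f8140b97a1e05cbd0d02e5e858172f02c0b9772205cbb8902e5d858172ea240b9741205cb90f02e5c858172e2240b9701a05cb80b02e5bc58172dc440b96d1e05cb68b02e5b048172d63c0b96a1205cb40902e59c4)))))) (BT.node (nat_lit 508) (BT.node (nat_lit 506) (BT.node (nat_lit 505) (BT.leaf (Bx.mk (nat_lit 0x82aa484415524120aa918f055488282aa3e1c1551e1e0aa8f0d05546c482aa342c155191e0aa8c8d055464582aa303415517120aa8989055448482aa162415509220aa838b055418482aa082415503220aa808b055404482aa0024154ff1e0aa7f8d0553fc382a9fe14154fe1e0aa7f0d0553f0882a9f62c154fb120aa7d0f0553e8682a9f234154f7160aa7b0b0553d4782a9e83c154f41a0aa798f0553cc682a9e234154f1060aa780f0553bc482a9dc24154ed120aa760f0553ac782a9d624154e7220aa7389055398882a9ca44154e41e0aa720d055384782a9c214154e0220aa6f8d05537c582a9ba24154da220aa6c89055360682a9b02c154d7120aa6b0b055354582a9a82c154d0120aa6789055338782a99c2c154cc1e0aa658b05532c482a99424154c9160aa638f05531c682a98c2c154c2120aa608f055304682a9802c154c0120aa5f8f0552f8782a97c34154be0e0aa5f050552f0482a9763c154bb1a0aa5d870552ec282a9723c154b91a0aa5c0b0552d8882a96a2c154b4120aa59890552c8782a96434154b20e0aa59050552c4782a9622c154b01a0aa580b0552b4482a95624154aa120aa5409055294582a94a24154a4160aa520905528c782a94634154a21e0aa510d055284582a940241549f1e0aa4f8d055278582a93a3c1549d1a0aa4d8f05526c682a9343c1549a1a0aa4c8b055264482a9303c154981a0aa4b8d05525c382a92a2c15495120aa498b05524c482a922241548d1e0aa4687055230482a916441548b120aa450f055224482a9103c154871e0aa420905520c582a9044415482120aa3f8b0551e4582a8f224154771e0aa3b850551d8582a8ec24154751e0aa3a8d0551d4382a8ea14154741a0aa390d0551c0682a8e02c1546e160aa368905519c882a8ce2415466120aa320f05518c782a8c63415463160aa310d055188582a8c02c15460120aa2f8f055170682a8b63c1545b1a0aa2d85055164582a8b22415458120aa2b91055150482a8a22c154500e0aa2805055138582a89c2415449160aa240b055118482a8882415443120aa20090550f4682a87a1c1543d0a0aa1d8f0550ec682a8742c15438120aa1b8f0550dc682a86c3c154361a0aa1b090550d8382a86c14154351e0aa1a8d0550d0582a8682415433160aa19890550c8482a858241542b160aa150902e90848174822c0ba402205d200902e8fc781747e340ba3e1205d1e8f02e8ec48174743c0ba371205d1b1102e8d8481746a340ba350a05d1a8302e8d07817468340ba341605d1a0702e8d01))) (BT.leaf (Bx.mk (nat_lit 0x82ac082c156031e0ab018d055808782ac0434156011e0ab008d0557fc782abfe34155fe1e0aaff0d0557f4482abf824155fb160aafd890557e8582abf424155fa060aafc8b0557e0882abf02c155f8060aafb8f0557dc682abee1c155f70a0aafb0f0557d8582abea3c155f5160aafa110557d0782abe834155f4120aafa070557d0282abe62c155f1120aaf8830557bc882abde24155eb1a0aaf4830557a0482abce44155e6160aaf309055790482abc42c155e1160aaee0f055770682abb82c155dc060aaed89055764582abb024155d7120aaea0f05574c782aba62c155d2120aae903055740782aba034155cd1a0aae685055730782ab9834155cc160aae511055724582ab8e3c155c71a0aae38b055718582ab8c24155c5160aae289055710482ab862c155c1160aadf8b0556fc482ab7c34155bd160aadd8d0556e8582ab702c155b8120aadb0b0556d4782ab6a34155b4220aad98b0556c8582ab6424155b01e0aad80d0556c0282ab5e2c155ae160aad68d0556b0882ab562c155a91e0aad48d0556a4582ab520c155a71e0aad38b05569c182ab4c34155a3120aad183055688682ab42441559f220aacf8905567c282ab3c241559b160aacd89055668782ab34341559a0e0aacd05055664782ab303c155971a0aacb8b055654182ab284415594120aac991055648482ab241c15591220aac889055644382ab202c1558f160aac70b055634582ab162c1558a160aac38f055618582ab0a4415585120aac10f055608682ab041c155820a0aac08d0555fc582aafe241557d1e0aabe8d0555f0482aaf43415578160aabb890555d8582aaea4415575120aab98b0555cc482aae43415571160aab80b0555bc882aade241556a120aab4830555a0782aad034155671e0aab38d055594782aaca0c15564160aab19105557c782aabe141555e160aaae8f055574682aaba0c1555c220aaad91055568782aab43415557120aaab83055558682aaa83415554160aaa98b05554c482aaa23c15551160aaa80f055540582aa9c3c1554e1a0aaa703055534482aa982c1554b1e0aaa48f055524682aa903c155481a0aaa409055520382aa901415547120aaa309055514582aa8834155440e0aaa18b055508882aa842415541120aa9f890554f8482aa761c1553b0a0aa9d090554e4482aa6e24155351a0aa9a0f0554d0382aa681415533220aa99890554cc282aa622c15530160aa97090554b4782aa5a341552c160aa96090554ac482aa522c15529120aa94830554a0782aa503415527120aa92910554944)))) (BT.node (nat_lit 507) (BT.leaf (Bx.mk (nat_lit 0x82ae98241574b120aba48b055d1c782ae8e3415746160aba289055d0c582ae860c15742220aba08b055cf0882ae78241573c0a0ab9c09055cdc782ae6e34157361a0ab9b09055ccc882ae641415731160ab9711055cb4582ae502c15726120ab9291055c94782ae483c15721160ab8f8d055c78582ae382c1571a1e0ab8c91055c64382ae32141570e1e0ab8703055c30882ae18241570c0e0ab8605055c2c482ae142c15708220ab8409055c1c682ae0e2c15706120ab820f055c00682adfe2c156f8160ab7b89055bd4582ade824156f3220ab7987055bc4582add424156e81e0ab740d055ba0382adcc44156e6120ab7289055b94282adc824156e3160ab710b055b84582adc224156e0160ab6f8f055b7c682adbe14156de160ab6e0b055b6c682adb434156da160ab6c8f055b5c582adae24156d4160ab698f055b4c682ada42c156d2120ab688b055b40782ad9e34156cf160ab670d055b34482ad9824156cb120ab6587055b28582ad9224156c81e0ab638d055b18882ad8c34156c60e0ab6305055b14582ad862c156c2160ab608f055b04282ad803c156bf1a0ab5e8f055af4182ad7644156bb120ab5d0d055ae8582ad7024156b7160ab5b0b055ad8482ad6a0c156b31e0ab5987055acc282ad642c156b1160ab580f055ac0582ad5e3c156af1a0ab570b055ab8482ad5a2c156ab1a0ab550f055aa8682ad523c156a9160ab5409055a9c782ad4a2c156a4160ab5209055a8c582ad4624156a21a0ab510b055a84782ad422c156a0220ab4d8d055a68482ad2a2c15692120ab488d055a44582ad1e2c1568e1e0ab4609055a14782ad0a3415685160ab4191055a08482ad00241567e220ab3f090559f0682acf80c1567a120ab3a8b0559cc782ace63415673160ab39090559c4582ace0441566f1a0ab378b0559b8582acd6241566a120ab338f05598c482acc22c15660160ab2e8f055974682acba141565b160ab2d89055964482acb014156571e0ab2b8705594c582aca2241564f160ab2711055938782ac9c341564e120ab2707055938282ac9a2c1564b060ab240b055918682ac8a2c156401a0ab1f110558f4782ac78241563b220ab1d0b0558e8182ac722c15639120ab1c830558e0682ac701c156380a0ab1a090558c8482ac58341562c160ab158d0558ac582ac522415624220ab110f055874882ac2e4415617120ab0b85055858682ac2c2c15615120ab0a0b055850482ac263415612120ab0903055840282ac1e3c1560f1a0ab078b055838782ac143c1560a1a0ab04090558185))) (BT.leaf (Bx.mk (nat_lit 0x82b09034158471e0ac2309056114482b0842415840160ac1f0f0560f4482b078241583b1e0ac1d8d0560e4882b0722415838120ac1a890560d0782b06834158331e0ac180f0560c0682b05c241582c120ac140905609c682b04c3c158261a0ac118b05608c482b0422c15820220ac1009056078482b036441581b0e0ac0c89056060782b0303415817120ac0a8b056050582b0262c15813060ac090b056048482b01c241580d1a0ac068305602c482b0123c158091a0ac048b056020482b0101c15806160ac028f056014682b00a2c15804160ac020905600c582b0044415802120ac008f056004682b0002c157ff160abff0b055ff4782affa34157fd120abfe87055ff4282aff83c157fc1a0abfd8b055fec482aff424157f91e0abfc8d055fe0782aff034157f8120abfc07055fe0282afee24157f6120abfa8f055fd4682afea1c157f50a0abf88b055fc0382afe014157ef160abf68f055fa8482afd034157e20e0abf08f055f84682afc22c157e01e0abf00b055f74582afb80c157db220abed89055f68582afb244157d8220abec09055f58782afac34157d5220abea87055f4c782afa634157d3160abe88b055f38582af9a44157cc1e0abe60d055f30182af903c157c80e0abe405055f1c882af8e24157c70a0abe30f055f18682af882c157c3160abe111055f08482af823c157c11a0abe083055f00482af7c2c157be120abde09055eec682af7224157b81e0abdc0d055edc582af6e24157b5160abda0b055ed0482af663c157b31a0abd985055ec4782af6234157b0160abd78b055eb8782af5c34157ae160abd68d055eb0582af563c157ab0a0abd48b055ea4482af4e24157a51a0abd189055e8c382af442c157a11a0abd00b055e7c482af3a441579b160abcd09055e4c482af223c157911a0abc78f055e3c682af1e2c1578e160abc709055e30682af0e2415786160abc20b055e0c782af0634157821e0abc107055e08282af0224157801e0abc00d055e00382af00141577f160abbf0b055dec482aef424157781e0abbc0d055de0582aeec2415775160abba0b055dc8782aee23c157711a0abb88b055dc0782aee0341576f220abb68f055db4682aed63c1576b1a0abb509055da4482aed02c157671e0abb387055d98782aecc3415763220abb111055d80782aec0341575f160abaf89055d7c182aebc441575e1e0abaf0d055d78482aebc1c1575e0a0abae8d055d74582aeb62c1575a120abac91055d64782aeb23415759120abac87055d64282aeac4415752120aba709055d305))))) (BT.node (nat_lit 510) (BT.node (nat_lit 509) (BT.leaf (Bx.mk (nat_lit 0x82b2b8241595c0e0acae05056568582b2b23c159591a0acac0b056560482b2ae2415956160acab09056550782b2a83415954160aca98f056544582b29a241594d0a0aca60b05652c482b2942415949160aca40b05651c582b28c2c15945120aca10f056508682b2823415941160aca00b056500482b27e341593f160ac9b0d0564d4582b26a2415935060ac9a090564cc582b26624159321a0ac990b0564b8782b25c341592e160ac968f0564b4682b2583c1592c160ac950905649c782b24c2415923160ac910f056484582b240241591f160ac8e89056470482b2322c15918120ac8b11056458782b22c2415915160ac898b056448782b2243415912160ac888f056444682b2202c1590e160ac8689056428682b2102c159031a0ac810b056404582b1fe0c158fe220ac7f0d0563f4782b1fa34158fa1a0ac7c910563e4482b1f044158f8120ac7b0b0563d8482b1ea2c158f5120ac7a0b0563cc582b1e60c158f2220ac790f0563c8682b1e424158f20e0ac79050563c4782b1e22c158f01e0ac780b0563bc482b1da2c158ec160ac75890563ac282b1d224158e71a0ac7387056394782b1ca34158e5160ac7283056390482b1c624158e2120ac708f056384582b1c024158df120ac6f09056368782b1b434158d9120ac6c0b05635c782b1ae34158d70e0ac6b85056354782b1aa34158d5060ac6909056348382b19824158cb060ac650f056328682b1923c158c9120ac640d056320482b18e3c158c6160ac628b056310582b18224158bf160ac5e890562f0882b1762c158ba160ac5c890562d8582b16a2c158b3120ac59110562c8782b16434158b20e0ac58090562bc782b15e34158ac1a0ac56030562ac882b15624158a91a0ac541105629c782b14c24158a5220ac520b056270782b138341589c060ac4d89056268482b1322c15898220ac4c0f056260682b13024158980e0ac4c0505625c882b12e2c15896120ac4a09056248882b1243c158921a0ac4907056248282b1222c15890120ac458b05622c482b114241587f160ac3a110561d0482b0e62c158721e0ac390d0561c8582b0e22415870120ac378f0561b4782b0d82c1586c120ac35890561a8682b0d41c1586a0a0ac339105619c282b0ca3415864160ac3089056180482b0bc241585d1e0ac2e0905616c682b0b62c1585a160ac2d0905615c582b0aa3c158551a0ac2a0905614c182b0a43415852060ac2883056140182b09e241584e160ac2709056134782b0983c1584c1a0ac2589056128582b09424158491e0ac248d0561245))) (BT.leaf (Bx.mk (nat_lit 0x82b4f82415a7b1a0ad3d8b0569e4782b4f03c15a781a0ad3b8b0569dc482b4ec2415a751e0ad3a8d0569d0682b4e82415a740e0ad3a050569cc782b4e42415a71160ad38890569c0782b4e03415a70160ad368f0569b4682b4d63c15a6a120ad348905699c882b4cc2c15a65120ad3207056990282b4c63c15a631a0ad2f89056974782b4ba3415a5d160ad2e83056970782b4b04415a58120ad2a91056954482b4a82415a50160ad278b056930782b4983415a4c160ad2589056920782b4903415a48060ad238b05691c482b48c3c15a461a0ad228b056910582b4842c15a401e0ad200d0568fc782b47a3c15a3d1a0ad1e8b0568f0782b4782c15a3a160ad1b8b0568d4782b4662415a31120ad17890568a8582b4523c15a291a0ad14870568a4282b4504415a27220ad1389056894882b44a2415a24220ad120905688c882b4444415a21120ad100905687c582b43c2415a1e0e0ad0e0905686c482b4323415a17120ad0b0d056858482b42a2415a141e0ad0a0d056850582b41e3c15a0f060ad070b056834482b4164415a0b1a0ad058905682c382b4122c15a09120ad039105681c482b4081c15a03160ad0091056800582b3fe3c159fd160acfe0f0567f0682b3f43c159fa1a0acfc8d0567e0482b3ee24159f5120acfa0f0567d0682b3e82c159f0160acf8030567bc882b3de3c159ef1a0acf7870567bc282b3dc2c159ec160acf6090567ac482b3d224159e8120acf109056784482b3c034159df120aced89056768582b3b424159d8120aceb8f056754482b3a82c159d3120ace983056748482b3a224159d0120ace68b056730582b39644159cb0a0ace50f056724582b39224159c8160ace40905671c782b38e1c159c70a0ace30b056714582b38a24159c4160ace209056708782b38414159c1220ace00b0566fc582b37e24159bd120acde110566f0482b3742c159b91e0acdc8d0566e4382b3702c159b6120acda890566d0782b3642c159b11a0acd80b0566bc382b35e14159ae160acd68b0566a8782b35434159a9160acd4110566a0682b3501c159a80a0acd28905668c782b34634159a3060acd109056684482b3420c159a0120acce89056660782b3302c15997160accb89056658682b3283c159941a0acca0b05663c782b31e2415987120acbf090565ec482b2f43415978220acbc090565d8482b2e83c159741a0acb6070565ac582b2d224159671e0acb387056598782b2cc3415965160acb20b056584582b2c224159601e0acb00d05657c782b2bc2c1595e120acae110565707)))) (BT.node (nat_lit 511) (BT.leaf (Bx.mk (nat_lit 0x82b7303c15b981a0adcc0b056e5c782b72e3415b97160adcb11056e58682b7282415b931a0adc90d056e48582b71e3c15b8f1a0adc783056e34782b71a3415b8c1e0adc60b056e2c482b7142415b87120adc189056e08582b7042415b81220adbf09056df4482b6f63c15b7a1e0adbc89056de0882b6ee3c15b73160adb90d056dc8382b6e41415b711e0adb88d056dc4582b6e02415b6f1a0adb78b056db8482b6d82415b6b120adb383056d98482b6cc0c15b65120adb283056d90782b6c83415b62060adb00f056d80682b6be2415b5e1a0adae8b056d68482b6b22c15b59120adac09056d5c782b6ac4415b56120adaa8f056d54682b6a82415b53160ada791056d38482b69c0c15b4d160ada689056d30882b6983c15b4c1a0ada58d056d28582b6922c15b481a0ada38f056d1c682b68e2c15b46160ada28b056d10482b6862c15b42120ada08f056d04682b6822c15b3f160ad9f09056cf4782b67a1c15b3d0a0ad9d8b056cec482b6702415b37160ad9a0f056ccc782b6624415b31120ad970d056cb4782b65a2c15b2c120ad958f056cac582b6522415b24120ad9207056c8c582b6424415b201e0ad900d056c78482b6303c15b16160ad8a91056c50182b6264415b121e0ad890d056c48582b6203c15b0f120ad8689056c30782b6164415b0b120ad850f056c24582b6102c15b08120ad8389056c0c382b6061415afe220ad7f09056bf0782b5f80c15afb220ad7d11056be8482b5f23c15af91a0ad7c87056be4282b5ee0c15af61e0ad7b0d056bd8282b5ea2415af4120ad798b056bbc482b5dc3c15aee1a0ad770b056bb4482b5d62c15aea160ad748b056ba0782b5d00c15ae7220ad7389056b98582b5ca0c15ae4120ad718b056b8c482b5c42c15ae11e0ad708b056b80782b5c03415ae0160ad6f8f056b78482b5ba2415ad9160ad6c0f056b60682b5b02c15ad61e0ad6b0d056b54682b5aa1c15ad50a0ad698b056b40582b5982c15acb160ad650b056b28182b5923c15ac8160ad638b056b14482b5882c15ac4120ad6189056b08782b5843415ac11e0ad608d056b00682b57e2c15abe160ad5e0f056aec782b5763415aba120ad5c89056ae0382b56c0c15ab5120ad5909056abc582b55e2415aad220ad5689056ab0482b5562c15aa9160ad5389056a98482b5402415a9f120ad4e8b056a68282b5323415a98120ad4b89056a58782b52c3415a951e0ad4989056a28882b5122c15a89120ad4483056a20582b5102415a84160ad408d056a00882b5002415a7f220ad3e8f0569f45))) (BT.leaf (Bx.mk (nat_lit 0x82b9542415ca9220ae548d0572a0582b9502415ca7160ae530b057290782b9483415ca4160ae518f057288182b9422415c9f1a0ae4d09057264582b9322415c98160ae4c0905725c782b92e3415c97160ae4b09057258382b92a3c15c951a0ae4a8b057244482b9203c15c901a0ae4789057238482b9183c15c8a0e0ae4505057224482b9102c15c861e0ae430d057210782b9083415c80120ae3f0f0571f8682b8fa2c15c7b120ae3c910571e0582b8ee4415c76220ae3b090571d8282b8e82c15c701e0ae380b0571c0182b8de2415c6d1e0ae358b0571ac482b8d42c15c69120ae340d05719c582b8ce2415c66220ae3309057190882b8c63415c62120ae308b057184482b8c20c15c601a0ae2f8f05717c682b8be2c15c5e1e0ae2f0d057178582b8b82c15c5a1e0ae2d0d057164782b8b23415c58160ae2991057148582b8a42415c51220ae2885057140482b89c3415c4e0e0ae268f057134682b89a2c15c4c160ae259105712c782b8963415c4b0e0ae2585057128882b8943415c4a120ae248905711c482b8844415c41120ae200f0570f8782b87c3415c3e160ae1e8d0570f4582b8782415c3b220ae1d890570e8782b8743415c3a160ae1c8b0570dc782b86e3415c36120ae19090570c0582b8600c15c2f160ae17830570b8582b85a2c15c2b1e0ae150f057090782b8462415c201e0ae1007057080282b83a2415c1c220ae0e0705706c582b8344415c1a120ae0c8705705c782b82e3415c16160ae099105704c482b8202c15c10120ae0789057038782b81c3415c0c1e0ae060d057030182b8164415c0b1e0ae058905702c382b8161415c0a160ae048b057020482b80e2415c06120ae0289057010482b8080c15c02120ae008f056ffc582b7fa2415bfc1a0adfc83056fdc882b7ee2415bf70a0adfa8b056fd4482b7e80c15bf3220adf98f056fcc382b7e61415bf2120adf889056fbc582b7de2415bec120adf58b056fac182b7d42415be8120adf291056f94582b7ca0c15be4220adf207056f90282b7c62c15bdf1a0adef8b056f78182b7ba2415bda1a0adec8d056f60482b7ae2c15bd6160adea83056f50782b7a82c15bcb220ade511056efc482b7742415bb7120addb83056ed4682b76a2c15bb41a0adda0b056ec0582b75e0c15bae220add70f056eb8682b75c1c15bae0a0add60b056ea4482b7503415ba71e0add283056e90682b7462c15ba2160adce91056e74682b73a2415b9c220adcd8b056e6c482b7360c15b9a160adcd09056e68182b7323415b99120adcc87056e642)))))))))))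
noncomputable def big0_p_512 : BT (Bx Nat) := (BT.node (nat_lit 640) (BT.node (nat_lit 576) (BT.node (nat_lit 544) (BT.node (nat_lit 528) (BT.node (nat_lit 520) (BT.node (nat_lit 516) (BT.node (nat_lit 514) (BT.node (nat_lit 513) (BT.leaf (Bx.mk (nat_lit 0x82bb8e4415dc61e0aee30d057718582bb8a4415dc41a0aee20b057704582bb7c3415dbd1e0aede8d0576f4582bb762c15dbb120aedd0b0576e4882bb723c15db91a0aedc890576e4382bb721415db81e0aedc0d0576e0582bb6c2c15db41a0aed88f0576c4682bb622c15db0160aed60f0576b0682bb562415da9160aed48905769c482bb4c3c15da61a0aed30b057698182bb462415da2160aed08d057680582bb402415d9e160aece89057668582bb323c15d99060aecc0905765c482bb261415d90120aec48905761c582bb0e0c15d86160aec309057618182bb0a3c15d851a0aec28b057610782bb083415d840e0aec18f05760c682bb042c15d82060aec0890575f8882bafc3c15d7e1a0aebf090575f8282bafa2c15d7c220aebd8f0575ec682baf62c15d791e0aebc8b0575d8482baea4415d75120aeba090575cc482bae43c15d721a0aeb88f0575c0682bae02c15d6f120aeb70f0575b4482bad62415d6a1e0aeb50d0575a4482bac83c15d641a0aeb083057580482bac01415d5f1e0aeae83057570782bab63415d5a120aeab8d05755c482baae1415d54160aea70b057530882ba983415d4c0a0aea511057524782ba923415d49160aea10d0574f8582ba762415d391a0ae9b8d0574dc582ba663415d311a0ae950b0574a4582ba4c3c15d260e0ae9305057490682ba482c15d24120ae9091057484682ba421c15d20160ae8d8b057468882ba343c15d19220ae8c8905745c782ba2e3415d17160ae8b09057454782ba2a3415d14220ae8a0f057450382ba1a3415d0d160ae8589057428582ba122c15d061e0ae8011057400482ba001415cfd160ae7e0f0573f0682b9f63c15cfb160ae7d0b0573e0482b9ee3c15cf71a0ae7b0b0573d4482b9e82c15cf21e0ae790d0573c4582b9e22415cef1e0ae778b0573b8682b9dc2c15ce9160ae74890573a0782b9d03415ce80a0ae7389057398682b9cc1c15ce5120ae720f057390282b9c23c15ce10e0ae7085057370882b9b62c15cda160ae6b9105735c482b9ae1c15cd6160ae6a8b05734c582b9a62415cd2120ae6889057340782b9a03415ccf120ae670f057338682b99c2c15ccd160ae6689057330482b9980c15ccb1e0ae658d057328782b9943415cc81e0ae640b057320182b98c3415cc5120ae6209057308182b9823c15cc11a0ae5f8b0572fc482b97c2c15cbe120ae5e8f0572f4682b9783c15cba160ae5d090572dc582b96c0c15cb41e0ae5a0d0572d0382b9642415cb1160ae58110572c0482b95c2415cad1a0ae55890572a85))) (BT.leaf (Bx.mk (nat_lit 0x82bdbe1415edb160af6d83057b68782bdb43415eda160af6b8b057b50482bda42415ed0120af6789057b34482bd963415eca1a0af6507057b28282bd922c15ec2160af6103057b04882bd804415ec0060af5f8f057aec582bd760c15eb71e0af5b0b057ad0582bd5a3c15ead1a0af560f057ab0682bd582c15eab060af5511057aa8582bd524415ea9160af5483057aa0882bd503c15ea8160af5391057a98782bd4c3415ea51e0af528d057a88682bd422415ea0160af5009057a7c782bd3c3c15e9b1e0af4d8d057a6c582bd360c15e9a160af4c8b057a64482bd303c15e981a0af4c07057a60282bd2e2415e96160af4a8b057a54482bd284415e94120af4a03057a4c882bd262415e91120af4887057a40782bd203415e90160af4689057a2c282bd123415e89160af4409057a1c582bd082c15e81160af3f0d0579f8482bcfc1c15e7d220af3e890579f4382bcf83c15e7c1a0af3e0b0579ec482bcf03c15e78160af3b890579d8482bcea2415e731a0af38090579bc482bcd63c15e6b1a0af35850579a8582bcd22c15e68160af338f05799c682bcce1c15e670a0af330f057994782bcca3415e65160af318f05798c682bcc03c15e601a0af3007057980282bcbc0c15e5b160af2d0f057968382bcac0c15e55160af2a83057950682bca04415e50160af279105793c582bc9c4415e4e1e0af2691057934682bc983c15e4c1a0af2607057930282bc942c15e49160af240b057920182bc8c2c15e46120af220b05790c582bc802c15e40120af1f910578fc782bc7e3415e3f0e0af1f850578f8582bc763c15e3b1a0af1c890578dc582bc6c2c15e351a0af19890578b4482bc4e3c15e261e0af100b05787c882bc3e2415e1f0a0af0f0b057870582bc322c15e18160af0a8f057854682bc2a0c15e14220af0a0905784c582bc240c15e11120af080b05783c582bc1a0c15e0c160af060905782c682bc142c15e09220af0483057820682bc100c15e061e0af020f05780c782bc063415e01120af000f057800682bbfe3c15dff120aeff0d0577ec782bbf61c15dfb0a0aefd070577e8282bbea2415df4120aef8850577b8582bbdc0c15ded160aef40d0577a0582bbca4415de50e0aef28505777c582bbba3415ddd0e0aeee85057770582bbb62415dda120aeec8f057764682bbae2c15dd7120aeea0f057750182bba43c15dd21a0aee90b057740182bb9e4415dcf1e0aee78d05773c482bb9e1415dcd1a0aee68b057730582bb962c15dca1e0aee50d057728582bb923c15dc91a0aee48b0577204)))) (BT.node (nat_lit 515) (BT.leaf (Bx.mk (nat_lit 0x82bfd62415fea1e0aff50d057fa8582bfd22c15fe9120aff30b057f98482bfca2415fe4160aff209057f74582bfb83c15fdc1a0afee07057f70282bfb64415fdb1a0afec8b057f60682bfae2c15fd6120afeb03057f4c782bfa63415fd3160afe90b057f34882bf980c15fc8160afe38f057f1c682bf8e2c15fc7060afe309057f14782bf8a3415fc5160afe191057efc782bf7e2c15fbd120afdd8f057ee0582bf6e2415fb61e0afdb0d057ed8582bf6c0c15fb5160afda0b057ec0582bf5e2c15fae160afd68d057eb4582bf563415faa120afd411057ea0382bf4e2415fa5120afd287057e8c582bf444415fa2120afd107057e84582bf402c15fa0120afcf89057e78582bf3c2415f9d160afce89057e64682bf322c15f98120afca8b057e4c482bf202c15f8f120afc68b057e34182bf182415f8a160afc48b057e1c782bf0e3415f84160afc191057e04482bf003415f7f160afbe8b057df0482bef44415f7a120afbc89057de0482beea2415f721e0afb90d057dbc782beda3c15f6d1a0afb60b057db0482bed62415f68120afb389057d98782becc2c15f65120afb091057d84482bec21415f60160afaf8b057d7c482bebc2c15f5d220afad89057d6c382beb22415f58160afab8b057d54482beaa1c15f54160afa98f057d4c682bea61c15f530a0afa90f057d48682bea42c15f4f160afa783057d38782be9c1c15f4e0a0afa68f057d34582be984415f4a120afa391057d1c682be8e1c15f46120afa289057d10782be883415f42120afa08b057d00782be801c15f400a0af9f0d057cf4482be763c15f371e0af9b8d057cdc582be6a2c15f34120af998f057cc4582be620c15f301e0af978d057cb8582be5a4415f2d0a0af960b057cb0182be560c15f291e0af948d057ca4582be502415f27120af930d057c8c482be442c15f21120af8f8b057c64782be323415f19160af8b8b057c5c482be2c2c15f14160af898d057c4c582be242415f11120af870f057c38682be1c2c15f0c120af858d057c2c582be160c15f0a160af8503057c24582be104415f08160af8403057c1c782be0e3415f07060af830f057c18582be0c2415f051e0af8289057c10582be062415f02220af810d057c08482be041415f01060af7f0b057bf4882bdf42c15efa120af7d03057be0482bdf00c15ef7220af7b0b057bd4582bdea2415ef4120af7909057bc4682bde03c15eef160af770b057bb8482bdda3415eed160af760b057ba8582bdd40c15ee7120af718d057b84582bdc22415edf1e0af6f8d057b7c3))) (BT.leaf (Bx.mk (nat_lit 0x82c2a23c161511a0b0a887058544282c29c241614d1a0b0a30905850c582c2822c16141060b0a00f058500382c27e2c1613d1e0b09e8d0584f4382c2703416138160b09b890584d4782c26a2c1612f060b0970f0584b4782c258241612b1e0b0958b0584a8682c2502416126120b09289058490882c2443c161211e0b0908d058484482c2421c161210a0b0900b058478582c23a2c1611c1e0b08d0b058460282c22c2416114160b08689058420782c2102416107120b0830b058414482c2043c16102160b080890583fc482c1f83c160fc1a0b07c8b0583e4482c1ee44160f71e0b07b8d0583dc382c1ee14160f61e0b07b0d0583d8582c1ea24160f2120b0780b0583bc582c1de24160ea160b0748b0583a0882c1d03c160e81a0b074090583a0382c1d014160e71e0b0738d05839c582c1cc34160e4120b06e0f058370682c1b82c160da060b06c91058358482c1a42c160cd120b06609058328482c19224160c6160b06289058304482c17e24160bd120b05d0d0582dc482c16a24160b2120b058090582bc482c15a3c160ac120b055890582a8482c1541c160a91e0b0548d0582a4582c14e2c160a6220b0530b058294682c14824160a3160b0510b058284782c13e2c1609d0a0b04e0f058270582c1342416099160b04c89058250682c120241608d120b0460305822c882c116341608b120b04587058228882c11424160881e0b0440d058220182c10e4416087120b0430d058218482c1064416083120b04109058200782c1003416080160b03f090581e0482c0ec2416075120b03a090581c4482c0e0241606f1e0b0378d0581bc582c0d62c1606a160b03509058188882c0c244160610a0b0300b058180482c0be2c1605f120b02b89058144882c0a23c160511a0b0280b05813c782c098441604c120b0240b05811c682c08e2c16047060b0220f058104482c080241603e120b01c8b0580e0482c06e3c1602e060b016030580ac782c0543c160291e0b014110580a0482c04c2c16026120b0128b058094482c0483c16024160b0119105808c482c040241601f1e0b00f8d058078882c0382416017220b00b8705805c282c0284416014160b00705058034582c0183c1600b120b0040f058020382c0101416007120b0030b058018482c00c0c16004120b0020505800c782c0063416003160b0010f058008682c0022415fff160afff11057ff8482bffa2415ffa1e0affd05057fe4382bff03415ff71e0affb87057fd8582bfe82c15ff4060aff909057fbc882bfde2415fed120aff60d057fb05))))) (BT.node (nat_lit 518) (BT.node (nat_lit 517) (BT.leaf (Bx.mk (nat_lit 0x82c4aa3416254120b1288b05893c882c49e341624e160b1258b058928882c494241624a0a0b1238f05891c682c48e2c16246120b1228b058910782c4883416244060b12191058908582c4840c1623f160b11e8f0588f4582c476441623b120b11d0f0588e8582c4722416238120b11c030588dc682c46c24162360e0b11a8f0588d0582c46234162301a0b117890588bc282c458341622c160b115910588ac382c4543c1622a1a0b1150b0588a0482c44a3c162251a0b1120b058888782c4440c162211e0b1108d058884582c440241621e120b10f0305886c482c4322c162181e0b10b87058858482c42a3c162151a0b10a8b058850582c4243c162121a0b1090b058848182c4222c16211060b1080b058840182c41e3c1620f1a0b10787058838782c41c341620e160b1058f058828782c4143416209160b1040b058818582c40a4416203120b1010b0587fc882c3fc2c161fd120b0fe090587e0882c3f034161f80e0b0fc050587d4882c3ea24161f3160b0f90b0587c8482c3e22c161f1120b0f78f0587bc682c3de2c161ed160b0f60f0587b0182c3d43c161ea1a0b0f5030587a4482c3ce44161e7120b0f30905878c482c3c224161de160b0ef09058774482c3b834161db1e0b0ec89058760582c3ae2c161d7060b0eb05058754482c3a824161d3220b0e98d05874c382c3a614161d21e0b0e90d058748582c3a22c161d0120b0e78b05873c482c39c3c161ce1a0b0e70b05872c582c3960c161c81a0b0e407058720282c38e3c161c71a0b0e38b058718482c3803c161c01a0b0df8f0586fc682c37c2c161b8160b0dc030586c4582c36044161b00a0b0d48f0586a0482c34e2c161a6120b0d111058680882c340241619f160b0cf0b058678482c3383c1619c1a0b0cd8b05866c482c3323c161991a0b0cc8b058660682c32c2c16195120b0c98d05864c382c3242c161901e0b0c80d058640582c31e241618e1a0b0c70b058634582c3163c1618a1a0b0c491058624482c3121416188220b0c305058614782c30a3416184120b0c189058604582c2fe341617e120b0be8b0585f4482c2f82c1617c120b0bd8b0585e8482c2ee3c161771a0b0bb8b0585d8582c2ea2c16173160b0b90f0585c8682c2e42c16171120b0b7890585b8882c2da2c1616b120b0b38b05859c482c2c82c16163160b0b183058588882c2c43c161621a0b0b107058588282c2c23c161611a0b0b08b058580782c2c03416160160b0af89058578582c2ba2c1615d120b0ad89058560782c2b03416156120b0aa0b0585501))) (BT.leaf (Bx.mk (nat_lit 0x82c6ba3c1635d1a0b1ae0b058d70482c6b43c1635a1a0b1ac87058d60782c6b03416358160b1ab0f058d58682c6aa2c16355120b1aa0b058d50482c6a63c16353160b1a88b058d44182c69e24163481e0b1a30f058d18682c6882c16344060b1a109058d04782c6823416341060b19f91058cfc782c67e341633f0e0b19f05058cf4782c67a341633d160b19e09058ce8682c66e3c163371a0b19b09058ccc482c6622c1632f1a0b1978b058cb8482c6583c1632c160b19603058ca8182c6522c16328060b19389058c98582c64c24163251e0b1928d058c94382c6482c16324120b1918b058c88782c6442c16321220b19089058c80482c63e241631c120b18d09058c5c882c62e3416316160b18a89058c54182c6283c163141a0b18a07058c50282c6222c16310120b1878b058c3c482c61c3c1630d1e0b1868d058c30782c618341630c160b18311058c18682c6083c16302220b18091058c04482c6020c162ff1e0b17f8d058bec582c5f02c162f7220b17b8b058bdc482c5ee0c162f6220b17b0d058bd8382c5ec14162f2160b1788f058bc0482c5de2c162ef120b1770b058bb8482c5da24162ec120b17589058b9c882c5ce3c162e71a0b17387058b9c282c5ca0c162e4220b16f91058b7c482c5b834162db120b16c11058b60782c5b034162d8120b16c07058b60282c5ae2c162d2120b16905058b3c482c59c2c162cd160b1648b058b1c482c58c3c162c6160b1600b058af0482c57634162ba160b15d09058ae4382c57214162b8160b15c09058ad8582c56c24162b5160b15a89058ad0582c56824162b3160b15989058ac4782c56234162af060b15591058aac182c55424162a8220b15409058aa0382c54e3c162a71a0b1538b058a8c582c54624162a2120b1508b058a84482c5403c1629f160b14f89058a78182c53a2c1629c220b14d0b058a68182c53244162981e0b14c0d058a60582c52e24162961e0b14b0d058a54482c5242c16291220b14889058a44382c51e241628f0e0b1468b058a30682c514341628a060b14409058a1c682c50a24162831e0b1418d058a0c582c5042416281120b140090589fc782c4fe341627f160b13f0f0589f8682c4fc2c1627c120b13d8b0589ec482c4f24416277120b13b0b0589d4782c4ea2c162701e0b1380d0589bc782c4de341626f160b1350b0589a8482c4d23c162691a0b1348b05898c582c4c62416262160b13109058984782c4c234162610e0b12f11058978582c4bc241625d220b12c8f058964582c4b02416257160b12b0f0589586)))) (BT.node (nat_lit 519) (BT.leaf (Bx.mk (nat_lit 0x82c8a81416453160b2288f059144682c8a21c164510a0b2280b059140482c89e3c1644e1e0b2270d059134582c8982c1644c120b22589059128382c8941416449220b2240f059120682c8902c16447220b2230d059110882c8882416443220b2210d059108382c8823c164411a0b2208b059100482c87e341643f160b21f0f0590f8682c87c2c1643d120b21e830590f0582c8723c164390a0b21a8f0590d4682c86a2c164341e0b21a0d0590cc682c8643c164321a0b2188b0590c0582c860241642e120b215890590a4482c84e24164241a0b2120505908c782c8463416423160b2108f059084682c8422c16420120b20f8b059074682c83624164181e0b20c0705905c682c82a3c16415160b20a83059048782c82434164120a0b2088b059040882c820241640e1a0b20689059030782c818341640b1e0b20509059024482c8102c16408120b2030f059018682c8083c164040e0b2018b059008582c7f424163f9120b1fc0b058fdc582c7ee24163f6160b1fb09058fd4482c7e83c163f21e0b1f90d058fc4482c7e03c163f01a0b1f80b058fbc482c7d82c163ec120b1f603058fac882c7d224163e7220b1f211058f90482c7c81c163e40a0b1f189058f88382c7c02c163df220b1ef8f058f7c482c7be1c163df0a0b1ef0b058f74782c7ba34163dd120b1ee87058f6c482c7b61c163d9160b1ec11058f60582c7a624163d21e0b1e90d058f44582c7a224163ce120b1e703058f34682c7983c163cc120b1e509058f24582c7902c163c7160b1e311058f18782c78c34163c60e0b1e305058f14782c78a2c163c41e0b1e20d058f0c582c78024163c00e0b1df8d058ef8582c77834163af060b1d711058eb8782c75c34163a9120b1d411058ea0682c7501c163a80a0b1d38f058e9c582c74a24163a4220b1d20d058e90382c74814163a3160b1d10b058e80482c7401c163a00a0b1cf89058e68482c72a3c163951a0b1ca8b058e48582c72424163911a0b1c887058e44282c71e2c1638c1e0b1c60d058e30382c718141638b060b1c40b058e14882c70a1c16384160b1c209058e0c582c7062416382160b1c109058e00782c700341637e160b1be8f058df4182c6f8441637c120b1bd91058dec482c6f6141637a120b1bc8b058de0482c6ea3c163750a0b1ba09058dcc482c6e0241636e160b1b709058db8182c6da3c1636d1a0b1b58d058dac582c6d60c1636a1e0b1b50d058da4482c6d044163681e0b1b40d058da0382c6c82c163611e0b1b00f058d80682c6be3c1635f1a0b1af8b058d784))) (BT.leaf (Bx.mk (nat_lit 0x82cafa1c1657c160b2bc8f0595e4682caf22c16578120b2bb0f0595d8682caec1c16574160b2b9830595c8482cae41c165720a0b2b8090595bc582cade241656e1e0b2b70d0595b8282cada441656d120b2b6850595ac482cad43c1656a160b2b40b05959c482cac844165640e0b2b205059588582cac03416560160b2af89059578582cabc241655d160b2ad89059564482cab03c165581a0b2ac09059560382cab01416557120b2aa89059550582caa62c16553120b2a983059540382ca9224165481a0b2a40b05951c682ca8e2c165451e0b2a20b05950c782ca861c165430a0b2a111059508482ca823c16541160b2a0110594e4482ca702416537160b29b890594cc882ca622c16531060b298090594bc782ca5e341652f160b296890594b0582ca562c1652a120b2940f0594a0682ca4c3c16525120b29211059490482ca4624165211e0b28f0b059474582ca363c1651b1a0b28d11059458582ca2a34165150e0b2898b059444482ca2214165101e0b2880d059440582ca1e241650e120b2868b059434482ca0e2416505160b2820b059410482ca0434165020e0b28105059404482ca0024164ff1e0b27f8d0593fc582c9fc24164fe0a0b27e0d0593ec482c9f42c164f81e0b27c0d0593e0582c9ea2c164f5120b2788b0593c0782c9e034164f0160b2778f0593bc282c9da3c164ed120b2760f0593a0782c9d034164e51e0b27109059384782c9c234164e1160b26f8f05937c682c9be2c164de1e0b26f0d059374482c9b82c164dc120b26d11059368482c9b22c164d51a0b2678b059334582c9982c164cb160b2648b059320782c99034164c8160b2640305931c582c98c0c164c5120b2620d059300582c9781c164bc0a0b25d0b0592e4482c96a34164b5160b258890592c0482c95e2c164ae1a0b257030592b4882c9582c164ab060b255090592a0582c94a0c164a41a0b25183059284782c93e341649c120b24d0b059264582c92e3c16495160b2498b059248782c92434164911e0b2488d059240582c920241648e160b2468b059230482c90c4416486120b2428f059214682c90a2c16484120b2418b0591fc582c8fc2c1647d1e0b23e8d0591f4582c8fa0c1647c160b23d8f0591ec682c8f62c1647b060b23c830591d8582c8e82416472220b239090591c4882c8e0441646f220b2370b0591b4582c8d82c1646a120b2348b0591a0782c8ce2c16466160b23309059190482c8c63416463160b2308f059184582c8c0241645f120b22f0905916c482c8b24416457160b22b090591507)))))) (BT.node (nat_lit 524) (BT.node (nat_lit 522) (BT.node (nat_lit 521) (BT.leaf (Bx.mk (nat_lit 0x82cd7444166ba1e0b35d0d059ae4582cd720c166b4160b35991059acc282cd5e34166ae120b35689059ab4182cd580c166ab0e0b35585059aa8582cd5424166a4120b3518b059a88882cd443c166a21a0b35109059a88382cd4414166a11e0b35009059a70782cd38141669b1e0b34d8d059a6c582cd342416699160b34b8f059a5c682cd2c2416692120b34889059a3c782cd1c241668a120b3440b059a1c582cd0e2416686160b34291059a0c582cd062416681160b340830599f4782ccf63c1667a160b33c0b0599d4582cce23c166711a0b338090599bc582ccde241666e160b3368b0599b4482ccd6341666b160b3348f0599a4682ccd20c166680a0b3339105999c482cccc3c16666160b3329105998c482ccc42416660120b32f8b05997c482ccbc2c166591e0b32c8d059964582ccb02416657160b32b89059958482cca844166531e0b3298d05994c582cca42416651120b3278d059938682cc982c1664c060b32511059928482cc8e2c16647120b3220b05990c882cc862416640120b31f110598e8582cc7024166371e0b31b090598d4682cc6a2c16634220b31a090598d0382cc60341662f120b3160d0598b0582cc563416629160b3140905989c782cc4c2416625160b3120b059890482cc463416622160b31089059880782cc4034166200e0b3100505987c582cc3c3c1661e1a0b30e8b05986c782cc36341661a160b30c89059860682cc222c16610160b30709059830582cc16441660a220b3048f059824682cc122c166081e0b3040d05981c782cc0e2c166061e0b3030d059818582cc0a3c166051a0b3020905980c782cc023416600120b2fe0b0597ec882cbf624165fb060b2f9890597c8682cbde44165ef120b2f7830597b4482cbd824165eb120b2f50b0597a4682cbca2c165e4060b2f18d059788482cbc224165e01e0b2f00d05977c582cbba2c165dd060b2ed11059764482cbb20c165d81a0b2ec0b05975c682cbae2c165d60a0b2e911059748782cba434165d11e0b2e88d059744582cba024165cf1e0b2e78d05973c582cb9c24165cb1e0b2e58d05972c182cb9424165c9160b2e489059724182cb9044165c81a0b2e40705971c482cb8a24165c0220b2e009059700282cb7e44165bf0e0b2db8f0596dc682cb6e2c165b5120b2d8110596bc582cb5a3c165ad1a0b2d6870596b4282cb5824165aa160b2d30f059684582cb402c165a0060b2cf0b059678182cb2a2416591120b2c789059638482cb0c2c16586120b2c18f05960c382cb022c1657e160b2bf030595f44))) (BT.leaf (Bx.mk (nat_lit 0x82cfc40c167e01e0b3f009059f7c882cfbe24167de220b3ef0f059f78682cfbc1c167de0a0b3ee0b059f70482cfb63c167db1a0b3ed85059f68582cfb03c167d81a0b3eb8b059f5c482cfae0c167d61e0b3eb0d059f58382cfac14167d51e0b3ea8d059f54582cfa82c167d1160b3e883059f3c882cf9a24167cd0e0b3e685059f20482cf8a2c167c5120b3e189059f08782cf842c167c0060b3dd8b059edc682cf6624167ae220b3d709059eb8382cf5a2c167ac120b3d58b059ea4782cf5234167a90e0b3d40b059e9c882cf4c44167a5160b3d20b059e88782cf4434167a2060b3d091059e84482cf3c241679b120b3cd0b059e68482cf320c167981e0b3ca8f059e54682cf2a0c16793220b3c90f059e48582cf240c16790160b3c791059e3c482cf1a241678c1e0b3c60d059e24582cf1224167881e0b3c38b059e1c482cf0c44167860a0b3c28f059e14682cf0a2c167831a0b3c089059e00782cf001c167800a0b3be83059dec682cef42c1677a060b3bc91059de4782cef23416779120b3bc87059de4282ceee2416776120b3ba0f059dd0382cee81416773120b3b88d059dc4582cee20c167701a0b3b80b059db4582ced82416768220b3b40f059da0682ced01c167680a0b3b30d059d98582ceca24167641e0b3b20b059d8c482cec42c16761160b3af09059d60582ceac2c16756060b3a991059d30582ce98241674b120b3a38f059d1c682ce8c3c167461a0b3a30b059d04482ce802c16740060b39f89059cf8482ce7a2416739220b39c8d059ce0682ce6e2c16731120b39807059cbc682ce5e2c1672e120b3958b059ca4582ce502c167271e0b3928b059c90882ce483c16724120b39207059c90282ce462c1671a120b38c09059c58682ce282c16714060b3888b059c40682ce1e341670f160b38709059c24582ce103416707160b3830d059c08482ce002c166fe1e0b37f0d059bf8582cdf63c166fb1a0b37b09059bcc882cde63c166f31a0b37987059bcc282cde424166f1160b3768b059bb0882cdd82c166eb1e0b3728f059b94682cdc83c166e4120b3718d059b88482cdc22c166de1e0b36e8b059b70882cdb80c166db1a0b36d83059b60482cdac24166d5220b36a89059b50682cda62c166d00e0b36805059b3c582cd9c2c166ce060b36691059b30882cd982c166cc060b3658f059b2c682cd961c166ca220b3650b059b24782cd9234166c9160b3640b059b1c582cd8e0c166c61e0b3630d059b10782cd8834166c4160b36203059b0c482cd8224166be120b35e89059aec1)))) (BT.node (nat_lit 523) (BT.leaf (Bx.mk (nat_lit 0x82d1de2c168ee120b4768b05a3b0482d1d63c168eb0e0b4750f05a3a4582d1d034168e8160b4738905a398582d1cc0c168e5160b4728905a390882d1c80c168e3220b4718f05a38c682d1c624168e30e0b4718505a388782d1c434168e2160b4708905a380582d1be24168d9160b46c8905a364182d1b044168d81e0b46c0d05a360282d1aa24168d4160b4690f05a348682d1a02c168cd160b4660b05a330482d1962c168cb120b4650f05a328682d19224168c7060b4630b05a314782d18a34168c5160b4620d05a308582d18424168be120b45e8f05a2e4782d17234168b9160b45b8f05a2d8582d16a2c168b5120b4590f05a2c8682d1642c168af120b4570505a2b0482d15624168a9120b4538b05a29c482d14c2c168a41a0b4520b05a288682d1442c168a1160b44f8f05a27c582d13a241689c120b44c8905a260782d1302c168971e0b44b8705a25c282d12c2c168941e0b4478b05a238882d11c3c1688e1a0b4470705a238282d11a3c1688d160b4451105a228782d1143416889120b4428b05a214482d1082c16884120b43f0d05a1f8582d0fc0c1687c160b43e0305a1e0782d0f03416878160b43b0905a1c8782d0e04416870160b4380905a1bc882d0de241686e060b4369105a1b4782d0d8441686c1a0b4359105a1a0782d0d034168680e0b4340505a198582d0c824168611a0b4308905a180782d0c034168600e0b4300505a178582d0ba3c1685d1a0b42e8b05a170582d0b80c1685b1e0b42d8d05a16c382d0b6141685a1e0b42d0d05a168582d0aa2c16855060b4288f05a13c682d09e2c1684e120b4268b05a120582d08e24168460a0b4228f05a114682d08a2c16844120b4218905a108482d080341683f120b41e0f05a0f0682d0781c1683c0a0b41d0b05a0e0782d0703416836220b4190d05a0c4682d0602c1682f1e0b4160b05a0ac882d0544416829220b4148f05a09c482d04a2c16825120b4120f05a090682d04624168211e0b4108b05a084182d0363c1681b1a0b40d8305a068482d0322416815120b40a0d05a050382d0281416811160b4080905a038482d0142416809120b4040905a01c482d00c24168041e0b4020d05a008682cffc2c167fd1e0b3fe8b059ff0782cff834167fb220b3fd8f059fec682cff624167fb0e0b3fd85059fe8482cff22c167f81e0b3fc0d059fe0582cfee3c167f71a0b3fb87059fdc282cfe844167f4120b3f98b059fb8482cfd42c167ea060b3f489059fa4182cfd02c167e6220b3f307059f94582cfc82c167e4060b3f191059f8c1))) (BT.leaf (Bx.mk (nat_lit 0x82d3e814169f2220b4f90d05a7c8582d3e414169f1120b4f80f05a7c0682d3da3c169ed1a0b4f60f05a7b0682d3d824169ec0a0b4f50b05a7a4882d3d23c169e91a0b4f48705a7a4282d3d024169e71a0b4f38b05a798182d3ca44169e3120b4f08f05a778582d3ba2c169dc1e0b4ee0705a770282d3b63c169db1a0b4ed8b05a764782d3b22c169d81e0b4eb8b05a75c182d3ac34169d6120b4eb0705a750582d3a224169ce120b4e68905a730482d39424169c9160b4e40905a71c582d38c3c169c61a0b4e29105a714782d38a34169c5120b4e28705a710582d3880c169c3160b4e09105a704482d37e0c169be160b4de8b05a6f0782d37834169bb1a0b4dd8b05a6e8582d3722c169b9060b4dc0b05a6e0482d36c24169b5160b4da0f05a6d0682d3663c169b31a0b4d98b05a6c8482d35a24169a9120b4d48705a6a4282d34c2c169a5120b4d10905a680582d340241699f1e0b4ce8905a660582d32a3c16995060b4c90b05a63c882d31a2c1698c060b4c58b05a628882d314341698a120b4c50705a628282d3123416989160b4c41105a620782d3102c16987160b4c38705a61c282d3083c169841a0b4c20705a610282d3064416983120b4c18705a600782d30034169800e0b4bf1105a5f0782d2f8341697c060b4bd9105a5ec482d2f22c16979120b4bc0b05a5dc582d2ec2c16976060b4ba8b05a5cc782d2e62c169721e0b4b90705a5c4482d2e03c169701a0b4b70905a5b4482d2d234169690e0b4b40905a590482d2c624169621a0b4b10705a588282d2ba2c16959160b4ac8305a558782d2aa24169550e0b4a98905a544582d2a02c1694e120b4a68d05a534582d298441694b1e0b4a58d05a52c582d2942c169491a0b4a40b05a514582d28a2416944120b4a08d05a4fc682d27e0c1693e1e0b49f0905a4f8382d27c141693d1e0b49e8d05a4f4582d278441693c120b49d9105a4ec782d276341693b0e0b49d8505a4e8582d2722416936120b49a0905a4d0282d2664416933120b4990b05a4c4182d260241692d1e0b4968705a4b4282d258241692b1e0b4951105a4a8782d254341692a120b4950705a4a8282d25224169271e0b4930905a494882d24a3c169251a0b4928905a490782d2483416922120b4908b05a470582d2322416918160b48b0905a450882d22824169140a0b4898f05a44c482d2261416912160b4890905a444582d220241690f1a0b4870905a430582d2163c1690b160b4849105a420582d2042c168fe1e0b47f0d05a3f8382d1f844168f5160b4798905a3c46))))) (BT.node (nat_lit 526) (BT.node (nat_lit 525) (BT.leaf (Bx.mk (nat_lit 0x82d5da1c16aec160b5750f05aba8582d5ce4416ae70a0b5728b05ab90582d5c24416ae01e0b5700d05ab80582d5bc3c16ade160b56e8905ab70582d5b63416adb160b56c0905ab58482d5aa2416ad3160b5690b05ab44882d5a23c16ad11a0b5688705ab44282d5a04416ad0120b5678d05ab3c582d59c2416acc1e0b5658b05ab28582d5940c16ac9120b5640905ab1c782d58e3416ac61e0b5630d05ab18582d58a3c16ac51a0b5608905aafc782d57c2416abd120b55e0f05aaf0682d5762416abb060b55d0b05aae8182d5723416ab81e0b55c0d05aae0582d56c2416ab51e0b5590b05aac8482d5621c16aae220b5570f05aab8682d55c1c16aae0a0b5569105aab4782d55a1416aab1e0b5558d05aaac382d5561416aa9160b5540f05aa9c582d54e2416aa6120b5530305aa94882d54a1c16aa50a0b5520f05aa90682d5464416aa31e0b5518505aa88782d5443416aa1120b5500905aa7c482d5362c16a96160b54a1105aa50482d5242416a91220b5488905aa40482d51c2c16a8d160b5461105aa30482d5163c16a8b1a0b5458b05aa24582d5122416a87120b5430b05aa14482d5062c16a83120b5410905aa04882d5022416a801a0b53f8905a9f4282d4f42416a7a0e0b53c8f05a9e4682d4f22c16a78160b53b8905a9d4682d4e62c16a72160b5378b05a9b4882d4d82c16a6a160b5349105a9a4482d4cc4416a66120b5328f05a994682d4c82416a62120b5300b05a978482d4b63416a5a0e0b52c0b05a960482d4ae2c16a57060b52b0d05a958282d4aa3c16a551a0b52a8b05a950582d4a64416a530e0b5290b05a948182d4a02416a4f060b5270f05a938682d49c1c16a4e0a0b5268f05a934582d4982416a4a160b5248b05a924182d4904416a48120b5238f05a91c682d48a2416a43160b5210905a904582d4802416a3e1e0b51f0b05a8e8582d4742416a39220b51c8f05a8e4682d4721c16a390a0b51c0905a8dc482d4663c16a32160b5188b05a8c0282d45e2416a2d220b5150905a8a0582d4502416a27120b5128b05a894482d4483c16a241a0b50e0f05a870682d4381416a1b1e0b50d8d05a86c582d4340c16a19220b50c8b05a860782d4303416a180e0b50c0505a85c882d42e3c16a171a0b50b8b05a854882d42a3416a15120b50a8705a854282d4282c16a10160b5070f05a838382d41a3c16a0d160b5050b05a824482d40c2416a04120b5018905a808482d40034169fe120b4fe8f05a7f4682d3f62c169fa160b4fc0b05a7dc782d3ec0c169f5220b4fa8905a7d07))) (BT.leaf (Bx.mk (nat_lit 0x82d8062c16c03120b6008f05b000482d7f23c16bf91a0b5fc8b05afdc782d7ee2c16bf6120b5fa8305afcc782d7e63416bf30a0b5f88305afac782d7d62c16bea120b5f48b05afa0482d7cc3c16be6160b5f18905af88582d7c23c16be1160b5f08305af7c582d7ba3c16bdc220b5ee0d05af70382d7b81416bd9220b5ec8905af60482d7aa4416bd1220b5e88f05af44682d7a21c16bd10a0b5e80b05af40482d79e2416bce120b5e60905af28582d7904416bc51e0b5e28d05af14582d7883c16bc31e0b5e18705af0c282d7823c16bc11a0b5e08705af04282d7802c16bbf160b5df0b05aef8482d77a2c16bbc1e0b5de0d05aef0582d7742416bb7120b5da0905aec8582d7623416bb0120b5d78f05aebc582d75a2c16bad120b5d60f05aeb0682d7582c16bab1e0b5d58b05aea8482d7503c16ba81a0b5d40b05ae98482d7382c16b9a1a0b5cd0b05ae64482d72e2416b96160b5ca0b05ae4c482d7224416b911e0b5c88d05ae44482d7221c16b910a0b5c78b05ae3c482d7182416b8a160b5c48905ae20582d7102416b87220b5c38905ae1c282d70c2416b84160b5c20905ae08682d7042416b811e0b5c08d05ae04582d7004416b80120b5bf8905adf4582d6f64416b7b120b5bc0f05add8782d6e82c16b731e0b5b98d05adc8782d6e23416b710e0b5b78b05adbc482d6da2c16b6d060b5b50f05ada8382d6d22c16b69120b5b40905ad90882d6c82c16b631e0b5b18d05ad88482d6c23c16b611a0b5b00905ad78782d6bc3416b5d120b5ad8905ad68482d6ac4416b56120b5aa8905ad4c782d6a42416b51120b5a80f05ad40682d6a01c16b500a0b5a58b05ad28782d6943416b4a160b5a40b05ad1c682d68c2c16b441a0b5a08905ad00582d67c3c16b3e1a0b59f0705acf8282d6782c16b3c120b59d8f05acec682d6742c16b3a120b59c8905ace0782d6703416b37120b59b0905acd4882d66a2416b341a0b59a0b05acb0582d6582416b281a0b5938d05ac9c582d6462416b221e0b5910d05ac88582d63c2c16b1d120b58d8905ac68682d6342c16b19120b58b8905ac58782d62c3416b141e0b5898905ac44682d6222416b10120b5878f05ac3c582d61c2c16b0e120b5858b05ac28782d6143416b0a0e0b5850505ac24882d6123c16b09120b5848505ac20482d60e2c16b06120b5828f05ac0c482d6043c16b011a0b5800f05abfc582d5fa3c16afd1a0b57d8b05abe8582d5f23c16af91a0b57b0b05abd8182d5ea3c16af51a0b57a8b05abd0682d5e82c16af20e0b5780905abb85)))) (BT.node (nat_lit 527) (BT.leaf (Bx.mk (nat_lit 0x82da222416d0d220b6858d05b428682da142416d0a0e0b6849105b410482da063c16d031a0b6818705b40c282da002c16cf31e0b6798d05b3cc582d9e23416cf1120b6780d05b3c0582d9de2c16cee1e0b6770905b3b0582d9d62416cea1e0b6750d05b3a4682d9c84416cde120b66e8b05b374482d9b82416cdb120b66d8305b368782d9b43416cd91e0b66c0d05b358682d9aa3416cd5160b66a0505b348782d9a43416cd20a0b6688f05b344682d9a22c16ccf1e0b6678d05b33c582d99a2c16ccc1a0b6658f05b32c682d9904416cc71a0b6630905b314682d98a1c16cc41a0b6618905b300482d97c2416cbc220b65c8d05b2e0482d96e2c16cb6120b65a8905b2d0582d9662c16cb3120b6590f05b2c8682d9642c16cb1120b6580d05b2bc582d95e2416cad1e0b6561105b2b0482d9564416cab120b6538b05b29c482d94c2416ca30e0b6518505b284682d9420c16ca0120b64e8b05b26c782d9363416c9b160b64d0905b264482d92c3c16c96160b64b0305b250782d9283416c94060b6498d05b248482d9222416c8f1e0b6478d05b23c282d91c2c16c8e120b6468b05b234482d9164416c8b160b6458905b228482d9101c16c85160b6418f05b20c682d9043c16c82160b6408f05b204682d8fe3c16c7e1e0b63f0d05b1f8582d8fa2416c7b220b63c8b05b1e0882d8f02416c780e0b63c0505b1dc782d8ee3416c77160b63b0d05b1cc182d8e44416c72120b6390505b1c4582d8e04416c6e160b6370905b1b4582d8d82416c6c0e0b6360505b1ac482d8d42c16c69120b6340f05b1a0682d8d02c16c671a0b6338b05b198782d8cc2c16c65120b6328305b190782d8c82c16c63120b6318305b184782d8c20c16c60120b62f8f05b178582d8b82c16c59160b62c1105b15c882d8ae0c16c56220b62a8f05b150582d8a82416c53120b6228b05b104582d8822416c40160b6200905b0f8582d87a2416c3c220b61d8b05b0ec482d8742416c361e0b61b0d05b0d8582d86a2416c34120b6198f05b0cc682d8642c16c31120b6180b05b0bc482d85c0c16c2d1e0b6168d05b0ac782d8522c16c29120b6140b05b0a0482d84e2c16c26120b6128b05b090482d8462c16c23120b6110905b084782d8423416c20120b60f8905b074582d83a2416c1c160b60c9105b060582d8302416c171e0b60b8d05b058882d82a3c16c151a0b60a0f05b050582d8262c16c12120b6089105b044482d8221c16c101e0b6078905b038682d81a2416c0c1e0b6060b05b028482d8122416c08120b6028f05b0146))) (BT.leaf (Bx.mk (nat_lit 0x82dc3e4416e1f1a0b70f8705b878582dc384416e191e0b70c8d05b864582dc302416e17120b70b0f05b854482dc282416e140a0b7090f05b848582dc222416e0e160b7060b05b830182dc143c16e0a1a0b7048905b820882dc0e2416e051e0b7020905b808582dc042416e01120b6fe8905b7f0782dbf83416dfc160b6fc8f05b7dc482dbec2c16df1160b6f78905b7b0582dbd63416dea160b6f48905b7a4282dbd03c16de8160b6f38b05b79c482dbcc3416de6120b6f30705b798282dbca2c16de11e0b6f08905b784382dbc21416ddf1e0b6ee8905b76c782dbb62c16dda160b6ec0b05b75c582dbae2416dd6120b6ea0b05b750482dba44416dd21a0b6e58305b728482db8a4416dc51a0b6e20f05b710682db863c16dc1120b6de8b05b6f0682db762416dba120b6dc8b05b6e4482db702c16db8120b6db0905b6d4482db662c16db2220b6d90d05b6c8482db641c16db20a0b6d89105b6c4582db562416daa120b6d39105b69c782db4e2416da70e0b6d38505b698782db4c3416da6160b6d21105b690482db462c16da1120b6d00d05b678582db382416d9b1e0b6cd8d05b66c582db342c16d991e0b6cc8d05b664582db302416d97160b6ca8f05b654682db2a1c16d911e0b6c88d05b644582db203c16d901a0b6c80b05b63c582db1a3c16d8d1a0b6c60f05b630582db122416d88160b6c30b05b614882db084416d840a0b6c18b05b60c182db043c16d821a0b6c10b05b608182db024416d81120b6c08505b5f8582dafc2416d7c160b6be0305b5ec582daf62416d791e0b6bc0b05b5dc482daec2c16d73120b6b90b05b5c4582dae02c16d6e220b6b68b05b5b0782dad83416d6c160b6b58905b5a8482dad22c16d65160b6b20905b58c782dac63416d601a0b6ad8b05b558882daaa2416d54160b6a88b05b540482da9c3416d4d1e0b6a68d05b534282da943c16d4a060b6a48b05b51c782da8e3416d46120b6a20f05b510682da862416d42120b6a08905b504182da802c16d3f1e0b69f8d05b4fc382da7e1416d3e160b69e9105b4ec882da722416d36120b69a0b05b4d0482da643c16d321a0b6988f05b4c4582da622416d30120b6978b05b4b8582da5c2416d2d1a0b6968705b4b4282da583c16d2c1a0b6960b05b4a8782da543416d2a160b6950305b4a0782da502c16d27120b6930905b490582da462416d22160b6910905b47c482da3c3c16d1e0e0b68f0505b470582da382416d1b220b68d8d05b468582da322c16d18160b68b8f05b454782da2a3416d14160b6898d05b44c1))))))) (BT.node (nat_lit 536) (BT.node (nat_lit 532) (BT.node (nat_lit 530) (BT.node (nat_lit 529) (BT.leaf (Bx.mk (nat_lit 0x82ded42416f61120b7af0905bd70482deb23c16f590a0b7ac0b05bd58182deaa2416f541a0b7aa0b05bd4c582de9a3c16f4d1a0b7a60d05bd2c482de942416f491e0b7a48d05bd24582de902c16f47160b7a28905bd10882de882416f43120b79f8905bcf8582de783c16f3c1a0b79d0f05bce8682de742c16f39120b79c0d05bce0582de683c16f33120b7988905bcb8782de5c3416f2e060b7958f05bcac682de562c16f2a120b7948b05bca0582de4e2416f251a0b7928b05bc90482de462416f230a0b7910b05bc80582de402416f1f1e0b78f0b05bc70582de363c16f1b1a0b78d0b05bc68482de323416f19160b78c0f05bc60682de301c16f15220b78a8905bc50782de282416f140e0b78a0505bc4c782de263416f121e0b7890d05bc44582de1c3416f0d160b7860b05bc2c782de142c16f0a120b7848f05bc24682de121c16f090a0b7840d05bc20582de0e3416f07160b7810905bc04482ddfc2416efd120b77d0905bbe4582ddde2c16eea120b7730d05bb94782ddca3416ee5160b7718b05bb88582ddc23c16ee11a0b7700b05bb6c482ddb43c16eda1a0b76c8b05bb64482ddb03416ed8120b76c0705bb60282ddae2c16ed5120b76a0b05bb4c482dda02c16ecf120b7670f05bb38682dd9c1c16ece0a0b7660f05bb30682dd982c16ecb1e0b7650b05bb24482dd8e3416ec51e0b7628d05bb14582dd883c16ec4160b7618905bb04182dd7e3c16ebe160b75e8d05baf0482dd6e2416eb61a0b75a0b05bab4282dd582416eab1a0b7548905ba90582dd482416ea2120b7509105ba80582dd383c16e9c160b74e0305ba54582dd204416e8f1e0b7478b05ba34882dd1a3c16e8d1a0b7468705ba30582dd162c16e8a120b7448b05ba20782dd103416e861e0b7430d05ba18582dd0c0c16e85220b7428905ba0c782dd063416e82160b7408905ba00582dcfe2c16e7c060b73c1105b9e0682dcf02416e780a0b73a0b05b9c4482dcdc3416e6e160b7350d05b9a8582dcca2c16e63120b72f8905b978182dcba2416e5c120b72d9105b96c482dcb42c16e59160b72c8905b960482dcaa2c16e54120b7298d05b948682dca41c16e51120b7280f05b93c582dc9c2c16e4d1a0b7268b05b910882dc881416e43160b7211105b908482dc841c16e411a0b7200b05b900482dc7e2c16e3d1e0b71e8d05b8f4282dc783c16e3a120b71c0905b8e0182dc6c2416e35160b7198b05b8c4482dc600c16e2f1e0b7178d05b8b8782dc5a2c16e2d060b7160305b8a0182dc4e2416e260a0b7128b05b8805))) (BT.leaf (Bx.mk (nat_lit 0x82e1123c170891a0b8448305c21c482e10c44170860a0b8428d05c214582e1082c170831e0b8418b05c200482e0fe3c1707f160b83f0905c1f4782e0fa341707d160b83d8f05c1ec682e0f62c1707a120b83b0905c1c8582e0e42417071060b8380f05c1c0682e0de2c1706d120b8360f05c1b0682e0d82c1706a1e0b8350d05c1a8582e0d22417067120b8330f05c198682e0cc1c17065160b8321105c18c882e0be241705e160b82e0b05c160582e0a02c17050120b8278305c138882e09c3c1704e1a0b8268f05c134582e0983c1704c1a0b8258d05c12c582e0944417048060b8238b05c11c482e08c44170461e0b8230d05c118482e08c14170451e0b8220905c10c782e0863417043160b8210905c100782e080341703e160b81e0f05c0f0582e07624170391e0b81c0905c0dc482e06a2417034120b8169105c0b4682e0583c1702c1a0b8160b05c0ac482e0542417025120b8120905c084482e03c3c1701e1a0b80f0b05c074482e0362c1701a120b80c0f05c060582e02e2417016160b80b0905c054482e02844170141e0b80a0d05c050382e02814170131e0b8088905c040482e01c3c1700d160b8068905c02c782e016341700b160b8058305c028482e0122c17008120b8030f05c018682e00c2c17002120b7ff8905bfec482dff42c16ff91a0b7fb8905bfd8582dfec2416ff51e0b7fa8b05bfd0482dfe62c16ff11a0b7f80f05bfb4582dfda2416feb1e0b7f58705bfac282dfd23c16fe6120b7f08b05bf80582dfc02416fdf160b7ed8f05bf68482dfb22416fd8160b7eb8905bf44782dfa02c16fcf160b7e70d05bf38382df9a2c16fcc120b7e58905bf24782df920c16fc8220b7e38b05bf10582df880c16fc11a0b7e08b05bf00482df7c3416fbd120b7de0905beec482df742416fb91a0b7dc0905bed8182df683c16fb41a0b7da0305becc582df643c16fb21a0b7d90b05bec8182df622c16fae120b7d68f05beb4682df564416fab120b7d50905bea4782df523416fa9160b7d48305bea0582df4c3416fa6060b7d28905be90782df483416fa3120b7d10905be84782df423416fa0120b7cf0f05be78682df3c2c16f99120b7cc0705be60282df2e2416f95120b7ca0f05be50682df262416f901a0b7c78f05be3c682df1e2c16f8e120b7c68905be24782df123416f89160b7c30f05be18682df0c2c16f85120b7c10d05be04582defa3416f7d160b7be0905bde0682deee2416f761e0b7bb0d05bdd8582dee82416f721e0b7b90d05bdc4782dede3416f6f160b7b78305bdb45)))) (BT.node (nat_lit 531) (BT.leaf (Bx.mk (nat_lit 0x82e32634171930e0b8c98505c648582e322241718e060b8c68f05c634682e3182c1718b160b8c50f05c628182e3122417187160b8c30f05c618682e30a3c171851a0b8c28b05c604782e3022c1717d160b8bd8905c5e4782e2f23417176160b8ba8305c5d0782e2e834171731e0b8b90b05c5c0882e2e03c171701a0b8b80905c5c0382e2e0141716a160b8b38505c598782e2cc3417166160b8b28905c590682e2c82c17161120b8af0d05c570782e2b8341715b120b8ad0b05c568482e2b03c171581a0b8ab1105c558682e2ac1c171560a0b8aa8d05c554582e2a824171531e0b8a98b05c548682e2a42c17151120b8a80d05c540582e29e241714c160b8a58905c51c182e28444171420a0b8a08b05c500582e27e441713f120b89e8905c4dc782e26e3417136120b89a8f05c4d4682e26a2c171331e0b8998d05c4cc182e26424171301e0b8980305c4bc582e25e241712e120b8968f05c4b4682e25a2c1712c120b8959105c4a4782e2522c171281e0b8940b05c49c482e24a2c17125120b8920d05c48c482e24444171221e0b8910905c488382e244141711e220b88f0f05c478482e23c1c1711e0a0b88e0b05c470482e2362c1711b120b88d0b05c464782e2302417117160b88b8305c458782e22c34171160e0b88b0505c454582e2282417112220b8890905c440782e2203417110160b8878d05c430682e2182c1710b120b8838b05c418782e20c3417105160b8828905c40c582e2062417102160b8810905c404782e2023417100160b87f8b05c3fc182e1fa3c170fd1a0b87d8d05c3e4682e1f02c170f7120b87b0b05c3d4582e1ea24170f31e0b8798d05c3c8482e1e23c170f01e0b8780d05c3c0382e1e014170ef120b8770f05c3b8582e1da24170ec1e0b8758d05c3a8582e1d424170e61e0b8730d05c394582e1c42c170e1220b8708905c380882e1be24170de1a0b86d8b05c36c482e1b40c170d8120b86b1105c358482e1a644170d3120b8690905c344582e1a224170ce160b8670905c334582e19a24170cb160b8640f05c310782e18834170c4160b8618905c2f4682e17a2c170bc120b85c8f05c2e4682e16e3c170b71a0b85b8305c2d8482e16a44170b51e0b85a8d05c2d4482e16a1c170b50a0b85a0905c2cc582e16024170af120b8568f05c2b0482e15624170a9120b8540f05c2a0682e1502c170a31e0b8510f05c284482e13e241709e120b84d8905c264482e1304417094120b84a0305c24c882e1261c170930a0b8480b05c23c482e11a241708c160b8460305c22c7))) (BT.leaf (Bx.mk (nat_lit 0x82e55a0c172aa1e0b9550d05caa8182e5522c172a9120b9538905ca98782e54a24172a4120b9510b05ca88482e5382c17299120b94c0b05ca60482e52c4417296120b94b0705ca4c782e5263417293160b9490d05ca40482e51a2c1728d120b9460b05ca30482e5163c1728a1a0b9450b05ca24482e50c3c172861a0b9428905ca08482e5022c17281120b9400b05ca00482e4fe441727f120b93f8505c9f8782e4fc341727e160b93e8f05c9f4682e4fa2c1727c120b93d8b05c9e8782e4f02c17278120b93b9105c9dc482e4ee1c172761e0b93b0d05c9d4482e4e824172731e0b9398d05c9b4782e4da341726d060b9360905c9ac482e4d23c172690e0b9348505c9a0482e4cc34172651e0b9328d05c994482e4ca1c172650a0b9320b05c98c582e4c41c172620a0b9308f05c984682e4c22c17260160b92f0b05c978182e4b6441725b1a0b92c8b05c95c482e4ae14172561e0b92b0b05c94c582e4a60c172501a0b9280b05c930482e496341724b160b9250f05c928582e4922417248160b9221105c910782e48824172440a0b9208f05c904682e48224172410e0b9208505c900782e4802c1723f060b91f1105c8f8582e47c241723e060b91e8d05c8f0482e4780c1723a160b91d0305c8e4882e4723c172390a0b91c1105c8e0582e46c2417235160b91a1105c8d0582e46824172321e0b9190d05c8c8182e46224172301e0b9180d05c8bc482e4562417229160b9130905c890782e4483417222160b9108b05c87c582e43a2c1721c160b90d9105c86c682e4302c17218120b90c0305c85c682e42e1c172170a0b90b0905c854482e4222c17210120b9070f05c838682e40a3c17205160b9010f05c800482e3fc24171f8120b8fb8905c7d8482e3e43c171f21a0b8f78b05c7b8482e3da24171ec060b8f40b05c79c882e3ce1c171e70a0b8f30b05c784782e3be2c171df060b8ef1105c774382e3ba14171d9120b8ec0f05c75c482e3a824171d3120b8e78905c734182e3983c171cc1a0b8e60305c728882e3943c171ca1a0b8e50905c728382e39414171c9160b8e30b05c714482e3882c171c4060b8e01105c700182e37e2c171be220b8df0305c6f4882e37a24171bb220b8dd8705c6e4782e3721c171b6160b8da9105c6d0682e36424171af120b8d68f05c6b4682e35824171ac060b8d58905c6a0782e35034171a7120b8d30f05c698682e34c2c171a3160b8d10b05c684782e34234171a10e0b8ce8f05c674582e33a0c171971e0b8cb8d05c658182e32a2c17195120b8c99105c64c7))))) (BT.node (nat_lit 534) (BT.node (nat_lit 533) (BT.leaf (Bx.mk (nat_lit 0x82e7560c173aa220b9d50b05cea4582e7503c173a81a0b9d40705ce9c782e74634173a3160b9d08b05ce7c582e73c2c1739e120b9cd8b05ce68582e73244173951a0b9ca8905ce50782e72834173940e0b9ca0505ce4c582e7242c173911e0b9c88d05ce44582e7203c173901a0b9c80b05ce3c582e71e0c1738e220b9c70b05ce34782e71a34173891e0b9c48d05ce24382e71214173881a0b9c40b05ce18482e7042417380120b9bf8d05cdec482e6e82c17374060b9b98f05cdcc682e6e614173721e0b9b90b05cdc0682e6e02c17370060b9b78905cdb0782e6d8341736c0e0b9b60505cdac782e6d62c173691e0b9b38d05cd9c582e6ca2c17365060b9b21105cd90582e6c63c173631a0b9b10d05cd88582e6c244173611e0b9b08d05cd84382e6c21417360160b9af8b05cd5c582e6ac3c173561a0b9ab0905cd58382e6ac1417355160b9aa0b05cd44782e6a23417351060b9a80905cd38482e69a241734c1e0b9a60705cd30282e6940c17349220b9a08b05cd00582e67e2c1733e120b99e8f05ccf4682e678241733c0e0b99d8d05ccec582e67224173381e0b99c0d05cce0582e66e2417336120b99a0f05ccd0282e6623c173311a0b9988b05ccc0782e6603417330160b9958d05ccac582e6543c1732a160b9928b05cc90582e6462417322160b9909105cc84782e64234173210e0b9908505cc7c782e63e2c1731e160b98e8b05cc74482e6383c1731c1a0b98e0b05cc6c682e6323c17318120b98b1105cc58482e62a2c17313220b9898d05cc4c282e6242c17311160b9880b05cc3c782e61e2c1730d160b9858d05cc28782e6141c1730a0a0b9840905cc18582e60a2c17304160b9818905cc04382e5fc2c172fe120b97e0b05cbe8782e5f434172f9220b97c8f05cbe4382e5f214172f7160b97b0f05cbd8682e5ec0c172f5220b97a0b05cbc0582e5dc0c172ed120b9760b05cba8882e5d43c172ea1a0b9750905cba8382e5d414172e9220b9748f05cba4482e5d214172e81e0b9740d05cba0582e5ce0c172e5120b9718905cb8c282e5c444172e2120b9708f05cb84582e5c044172e0120b96f0b05cb74482e5b424172d9160b96c0905cb5c482e5aa44172d50e0b9690905cb44182e5a034172ce120b9668905cb30882e5981c172cb160b9658905cb24682e5903c172c8120b9638f05cb1c682e58e1c172c70a0b9631105cb14782e58a34172c5160b9620905cb0c582e58624172c2120b9609105cb04482e57c2c172be120b95e8905caf0682e5782c172b81a0b9590905cab84))) (BT.leaf (Bx.mk (nat_lit 0x82e98c3c174c61a0ba630905d318382e98c14174c4060ba618905d304582e98224174c1060ba600305d2f4782e97a34174bd160ba5e0905d2e8482e97234174b9160ba5c0b05d2dc782e96e34174b7160ba5b0905d2c4182e9602c174af060ba548f05d2a0482e94e44174a71a0ba538505d294782e93e2c1749e1e0ba4f0d05d278582e938241749a160ba4c8b05d264482e9302c17498120ba4a1105d250482e9281c17492160ba488905d240782e92034174900e0ba480505d23c782e91e341748f160ba470b05d224782e9123417488120ba438905d214582e9082c1747f120ba3f0905d1ec482e8f23417479160ba3c0d05d1d4482e8e82c17474120ba398f05d1cc582e8e42c17471120ba360505d1ac782e8d6341746a120ba328f05d194682e8c43c174621a0ba308b05d178882e8bc141745c060ba2d8905d168882e8b42417459120ba2c0905d15c582e8ac3417456160ba2a8905d150382e8a63c17452160ba288905d13c682e89c241744b1e0ba251105d128782e894341744a0e0ba248d05d11c182e88a2c174441e0ba220705d110282e8862417440220ba200f05d0fc782e87e341743f160ba1e0905d0e0782e8703417438160ba1b8b05d0d4582e8682c174331e0ba198d05d0c8582e8622c17430120ba178b05d0bc482e85a2c1742c160ba140505d098882e84c1c174251a0ba120b05d08c582e8442417420220ba100905d07c482e83a2c1741b1e0ba0d8d05d06c582e8342417419120ba0b0905d054882e82a1c17412160ba088b05d040882e8203c174101a0ba080705d040282e81e2c1740d160ba060d05d030182e8120c17408120ba018b05d008582e8042417402060ba000305cffc482e7f83c173fc1a0b9fe0b05cfe4782e7f234173f9060b9fc0f05cfe0582e7e234173f1160b9f70d05cfb8182e7da1c173e9160b9f48905cf90782e7c834173e1120b9ee8f05cf70482e7b024173d4220b9e90905cf44482e79e2c173cf120b9e70f05cf38682e79c1c173ce0a0b9e68905cf2c582e7960c173ca060b9e49105cf24582e7920c173c81e0b9e40d05cf20182e78e44173c71a0b9e38905cf18882e78c2c173c6120b9e20f05cf10682e7881c173c40a0b9e18b05cf08782e7842c173c1160b9e08305cf00582e77e44173be1e0b9df0d05cef8382e77a2c173bd120b9de0d05cef0582e7763c173bb0e0b9dd0905cee4482e77024173b4160b9d98f05cecc682e76244173b1160b9d80b05cebc882e75e3c173af160b9d71105ceb8782e7583c173ac1a0b9d60b05ceac5)))) (BT.node (nat_lit 535) (BT.leaf (Bx.mk (nat_lit 0x82ebf634175fa120bafc0905d7d8482ebea24175f41e0bafa0d05d7cc782ebe634175f11e0baf88b05d7b8782ebdc34175ee060baf60905d7a4782ebcc34175e21e0baf10d05d788582ebc02c175df160baef0f05d778682ebbc2c175de060baee8905d770582ebb224175d81e0baeb8905d758582ebaa24175d41a0baea0b05d74c582eba42c175d2120bae80f05d740682eb9c24175cd160bae68905d72c782eb9634175cb160bae39105d718482eb8a3c175c51a0bae28705d714282eb8844175c4120bae18b05d708882eb8424175c11e0bae08b05d700482eb7e3c175bf160bade0b05d6e8482eb723c175b91a0badc8b05d6dc882eb6e24175b5160bad98905d6c0582eb6024175af160bad61105d6b0482eb522c175a81a0bad40b05d6a0182eb4e2c175a7120bad00705d680282eb3e2c1759d1e0bace8d05d674582eb38241759b1e0bacd8b05d668582eb303c17598160bacb8905d64c582eb242417591160bac70b05d634582eb18241758b220bac58d05d62c482eb161c1758b0a0bac50905d620582eb0e4417587120bac30905d610882eb0824175831e0bac18b05d608782eb043417580120babe8f05d5f4682eafa1c1757d0a0babc8305d5d4482eae644175731e0bab98d05d5cc382eae61417572160bab89105d5bc482eade141756c120bab50d05d5a8582ead024175670e0bab38505d598582eacc2417565120bab20b05d58c782eac63417563160bab18305d588482eac22c1755f1a0baae1105d554582eaa63c17552120baa88b05d540182ea9c2c1754d1e0baa68d05d534582ea942c17548220baa40705d518582ea8824175431e0baa08b05d504482ea7a34175371e0ba9b8d05d4d8882ea6c24175311e0ba988b05d4bc682ea583c1752b220ba958f05d4ac482ea561c1752a160ba948b05d49c782ea4e34175270a0ba920d05d484782ea422c17520120ba8f8905d478582ea3a2c1751d120ba8c8d05d45c782ea2e34175151e0ba8a0905d44c482ea203c175101a0ba870f05d438182ea180c1750b160ba850b05d428182ea102c17506220ba808f05d404582ea002c174fc1e0ba7e0d05d3f0382e9f814174f71e0ba7b8d05d3d8482e9ea24174f4120ba788f05d3c4682e9e024174ef120ba768b05d39c782e9ce34174e7060ba730f05d394582e9c63c174e31a0ba708f05d384582e9c024174df160ba6f8905d378482e9b82c174db120ba6d0b05d360582e9ae3c174d71a0ba6b8505d350882e9a834174d21a0ba678b05d328782e9942c174c81a0ba638b05d3188))) (BT.leaf (Bx.mk (nat_lit 0x82ee4624177201e0bb900d05dc7c482ee3c3c1771e1a0bb8f0b05dc74482ee3024177161e0bb8b0d05dc58582ee283c177141a0bb878b05dc3c482ee1a241770c160bb860305dc2c782ee162c1770a160bb840f05dc20682ee101c17706060bb828305dc0c782ee063417703160bb818305dc08482ee024417701120bb800305dbfc882edfe3c176ff1a0bb7f0905dbf4482edfa0c176fb160bb7d1105dbe8482edf23c176f9060bb7c1105dbdc482edec2c176f6060bb7a8f05dbc0882ede024176ef220bb768905dbb0582edd824176eb160bb740d05dba0182edca2c176e31e0bb718b05db8c182edc224176dc120bb6d0905db60782edaa3c176d0120bb678d05db38582ed983c176cc1a0bb660705db28782ed9434176ca160bb648b05db24482ed8e24176c51a0bb628905db04582ed8024176bf1e0bb5f8d05dafc582ed7a2c176bd120bb5e8305dae8882ed741c176b91a0bb5c8705dacc882ed5424176a9160bb540f05daa0682ed4e24176a31e0bb518b05da88582ed40241769e160bb4e8b05da70782ed342417697220bb4b8905da5c282ed2c24176960e0bb4a8f05da54682ed2a2c17693220bb498905da48782ed2434176901e0bb480d05da3c482ed1c3c1768e1a0bb448f05da24482ed102c17687160bb438905da18782ed0c34176860a0bb420905da08482ed02241767f1a0bb3f0d05d9f4582ecfa241767c120bb3d8b05d9d8682ecec0c17675220bb3a8905d9d4382ece83c176741a0bb398b05d9cc482ece224176701e0bb380d05d9c0382ece0141766f160bb378905d9b8482ecd8341766b1e0bb350b05d9a4482ecd024176671e0bb338d05d998682eccc2c17664160bb318905d984582ecc0241765f1e0bb2e8f05d974682ecba0c1765c120bb2d0905d960782ecb034176571a0bb2b0905d950482eca22c176500e0bb278b05d930782ec981c1764a1e0bb250305d920582ec8e2c176451e0bb228d05d910582ec823c176411a0bb208b05d900582ec7a341763d060bb1e1105d8f0482ec6e3417637160bb1a8d05d8d0482ec6814176331e0bb198d05d8cc582ec6414176301e0bb180d05d8bc482ec583c1762b160bb150905d8a4782ec523417626120bb120905d888582ec3e241761e160bb0c8f05d864682ec302417617120bb0a8b05d850582ec282417613160bb090905d844482ec1c3c1760d1a0bb068b05d828782ec14341760a160bb048905d81c782ec083c176041a0bb019105d80c482ec043c17602160bb000b05d800482ebfe24175fd120bafe1105d7f04)))))) (BT.node (nat_lit 540) (BT.node (nat_lit 538) (BT.node (nat_lit 537) (BT.leaf (Bx.mk (nat_lit 0x82f0720c178381e0bc1c0d05e0e0582f06e2417835220bc1a8905e0c0882f060241782e120bc158f05e0ac682f0562c17826220bc129105e094482f0484417820220bc100d05e06c182f034441781a1e0bc0b9105e05c682f02a2c17815060bc098305e048482f0222417810160bc078905e038682f01a241780c160bc048f05e020782f01034178061e0bc028905e008482f0040c17801120bc001105e000682f00014177ff1e0bbff8d05dff4582eff844177f81e0bbfb0905dfd4482efe42c177f1060bbf81105dfc0682efe01c177ef1e0bbf78b05dfb8482efda24177eb120bbf40905df8c582efc42c177e2120bbf08d05df80682efc02c177df1e0bbef8505df74782efba34177dd160bbee0f05df70582efb024177d7120bbeb8305df54882efaa1c177d3160bbe98905df48582efa03c177cf160bbe70d05df38582ef942c177ca120bbe49105df24782ef9234177c90e0bbe48505df18482ef8a3c177c51a0bbe28905df14382ef8a14177c4160bbe08d05df04582ef8024177be120bbde8f05def4682ef7824177bb1a0bbdd8b05dee8482ef6a2c177b21e0bbd90b05dec4482ef603c177b01a0bbd80b05deb8482ef563c177a9120bbd40b05de9c582ef4e24177a6160bbd30905de8c782ef462c177a2120bbd00d05de80382ef3c241779d160bbcd9105de6c782ef363417799160bbcc0905de5c582ef2e2417795160bbca0905de4c782ef263417793160bbc90f05de40782ef20341778f120bbc70f05de38282ef1a241778c120bbc48d05de24382ef121417788120bbc38b05de18882ef0c34177860a0bbc20b05de0c682ef042c17782120bbc08f05de04682ef00241777f160bbbe8f05ddf4682eefa2c1777c120bbbd8b05ddec482eef4441777a1e0bbbd0705dddc582eeec2417775120bbba0f05ddd0682eedc341776c160bbb50905dda8182eed22417767120bbb28b05dd8c782eec634177630e0bbb18505dd88482eec23417760160bbae0905dd68482eeb03c17757120bbaa8d05dd4c682eea62c177521a0bba78b05dd3c182ee9c3c1774e160bba58b05dd20782ee902c177461e0bba30b05dd14582ee84241773e1a0bb9e8f05dcf4682ee7a2c1773c120bb9d8905dce4782ee722c17739060bb9c0f05dce0682ee702c177351a0bb9a8b05dcd0582ee662c177321e0bb990d05dcc8282ee5c3c1772e1a0bb970b05dcb4582ee582c1772c120bb960305dca8882ee543417729120bb940905dc9c782ee4e3417727160bb930f05dc98682ee4a3c177251a0bb928b05dc904))) (BT.leaf (Bx.mk (nat_lit 0x82f2d40c17969120bcb38b05e598882f2cc24179660e0bcb28905e590782f2c62417962160bcaf8305e578482f2b6241795a120bcac8905e554482f2a83c179541a0bcaa0b05e540582f29e2c1794e1e0bca70d05e52c482f29224179471a0bca30905e514482f2883417944160bca00905e4f0882f2763c1793b1a0bc9d0b05e4e8482f2722c17939120bc9b8d05e4d4482f2682c17933120bc991105e4c8782f26434179311e0bc988b05e4bc782f25e0c1792b220bc958905e4ac382f2522c17924120bc908905e480882f2403c179201a0bc900705e478782f23c2c1791d120bc8d8905e464782f2302c17914160bc899105e44c482f22224179110e0bc878b05e43c482f21c2c1790e120bc868f05e430782f218341790b1e0bc858d05e42c582f2142417909160bc838905e418582f2083c179021e0bc810d05e408482f2041c179020a0bc808b05e404482f2000c178ff1a0bc7f8b05e3f4782f1fa34178fd160bc7e0b05e3e8582f1f02c178f71a0bc7b8b05e3d8782f1ea34178f4120bc790905e3c0682f1da24178e9120bc740d05e3a0582f1ce2c178e4120bc710905e370482f1b634178db0a0bc6d0b05e368482f1b224178d9060bc6c1105e360782f1b024178d7120bc6b0905e350482f1a62c178d2120bc688b05e338682f19c24178cd120bc658b05e320682f1901c178c61e0bc610b05e304882f18224178c10e0bc608505e300782f18034178c0160bc5f1105e2f8582f17c24178bd120bc5e8705e2ec782f17424178b91e0bc5c8d05e2e4582f1683c178b0120bc578905e2b8482f15a3c178ad1a0bc550b05e2a4482f1502c178a8120bc538f05e290582f1463c178a31a0bc500d05e278582f13a3c1789d160bc4d8b05e268582f1323c178991a0bc4c8505e260482f12e2417896120bc4a8d05e250782f1283417893120bc478f05e23c682f11c241788d160bc460905e22c482f11424178891e0bc438b05e214582f1084417883220bc418b05e204482f0fa241787b120bc3c8905e1dc782f0ee3417876120bc398b05e1c8882f0e4241786e1a0bc360f05e1b0582f0d6341786b120bc358705e1a4882f0d224178671e0bc331105e198482f0c82c17864120bc318f05e188782f0c42c178611e0bc308505e180482f0be2c1785c120bc2d9105e164482f0a82c17854060bc288b05e13c682f098141784b160bc250f05e128682f0940c17848160bc240905e120182f08c2417845220bc228d05e110782f0802c1783e1e0bc1f0d05e0f8582f07a2c1783c220bc1d8b05e0e85)))) (BT.node (nat_lit 539) (BT.leaf (Bx.mk (nat_lit 0x82f4f42417a79120bd3c0905e9d8482f4e83c17a741a0bd3a0b05e9c8782f4e42c17a6d220bd368905e9b0782f4d42c17a691e0bd348d05e9a4582f4d02417a66120bd300905e97c582f4be2417a5e220bd2f0f05e978682f4bc1417a5c160bd2c8905e960682f4ae2c17a55160bd290b05e940482f49e4417a4f120bd270b05e934482f4982417a4b1e0bd248b05e924482f4902c17a48120bd238705e91c282f48c3c17a46160bd228b05e90c882f4863c17a431a0bd218905e90c382f4861417a42160bd200d05e900582f47e2c17a3e160bd1f0905e8f4582f47a2417a3c160bd1d8b05e8e8882f4743c17a3a1a0bd1d0705e8d4582f4662417a321a0bd190905e8c8382f4641417a2b160bd158305e8a8382f4541417a29160bd130b05e894782f44a1c17a250a0bd118905e884482f4402c17a1e120bd0e9105e874682f4304417a181a0bd0b8f05e85c682f42c2417a15220bd0a8905e854382f4282c17a121e0bd080905e83c782f41e1417a0e220bd070905e834782f41a3417a0d160bd048b05e820882f4103417a080e0bd030f05e818582f40a0c17a04220bd020f05e810682f4062417a02160bcff8b05e7e8582f3f23c179f6120bcfa8b05e7d0582f3e63c179f31a0bcf90f05e7c8682f3dc24179ed160bcf68905e7b0682f3d634179eb120bcf58705e7a8582f3d02c179e7120bcf30305e794882f3c844179e1220bcf08f05e784682f3c21c179df1e0bced0f05e768682f3b42c179d91e0bcec8d05e758482f3a824179d3120bce88905e734482f39834179cc160bce40905e718482f38a24179c4120bce18b05e6fc582f37c3c179be1a0bcdf0905e6f8382f37c14179bd1e0bcde8d05e6f0482f37624179bb060bcdd0f05e6e8482f37414179b7160bcdb1105e6d8582f36844179b3160bcd90905e6c4582f35e0c179ad220bcd68905e6a8882f35424179a8120bcd31105e694482f34834179a3160bcd10b05e684682f33e241799d1e0bcce0b05e66c482f3342c17998220bccb0b05e654882f32a3c179951a0bcca8705e654282f3263c17993160bcc88905e638782f31c341798c1a0bcc58f05e62c582f314341798a160bcc48905e620582f30a3c179841e0bcc20d05e610382f30814179831e0bcc08f05e604682f300241797f220bcbf8f05e5fc682f2fe1c1797a1e0bcbd0d05e5dc682f2ec2c17976060bcba9105e5d4682f2ea24179750e0bcba8505e5d0782f2e83417972160bcb89105e5c4782f2e214179701e0bcb80d05e5c0582f2dc341796c160bcb60905e5a87))) (BT.leaf (Bx.mk (nat_lit 0x82f7301417b94120bdc98f05ee4c382f71c2c17b8d120bdc60905ee18582f70a3c17b851a0bdc28905ee14382f70a1417b84120bdc00b05edfc482f6fc3c17b7c1e0bdbe0305edec482f6f24417b791e0bdbc8d05ede4482f6f21c17b790a0bdbb0f05edd8682f6ea2417b731a0bdb78905edb8582f6dc2417b6d220bdb68d05edb4382f6da1417b6c120bdb58f05edac682f6d42c17b6a120bdb48b05eda4482f6d02c17b67120bdb20905ed8c882f6c63c17b631a0bdad0b05ed68482f6ae3417b55120bdaa0f05ed50582f6a42417b51120bda78f05ed3c682f69e2c17b4e120bda68f05ed28882f6942417b49160bda40f05ed20682f68e3417b46120bda28905ed08582f6842417b41120bd9f8905ecf0282f6742417b391a0bd9c0905ecdc482f6684417b34120bd990b05ecc4582f6622417b29120bd940905ec98482f6400c17b1e1e0bd8f0d05ec74582f6382417b1b120bd8d8305ec64782f6322c17b18220bd8c0905ec58782f62c3417b16160bd8b0305ec50582f6243c17b121a0bd889105ec38682f61a3417b0c1e0bd860b05ec2c482f6142417b091e0bd848d05ec24582f6102417b07220bd838705ec18782f60c1c17b060a0bd828f05ec14582f6063c17b031a0bd818b05ec04482f5f62c17afa160bd7c0305ebd8882f5ec3c17af61a0bd7b0905ebd8382f5ec1417af5160bd7a0905ebc0882f5da4417aed120bd760b05ebac382f5d42417ae9120bd740f05eba0682f5c82417ae3120bd710d05eb84482f5be2c17ade120bd6f0705eb78282f5ba2417adc120bd6d8905eb64482f5b02417ad6160bd6b0305eb50682f5a63417ad21e0bd690705eb48282f5a22417ad0160bd678b05eb3c482f59c4417ace1e0bd670d05eb30582f5962417ac9120bd640b05eb1c682f5883c17ac31e0bd618d05eb08782f5842c17ac0220bd600905eb00382f57e2c17abe160bd5e8b05eaf4482f5782c17abc120bd5d8b05eaec482f5742417ab81a0bd5c0905eae0382f5680c17ab2060bd588905eac0882f5603c17ab01a0bd580705eac0282f5563417aab0a0bd550b05eaa0182f54c2417aa51a0bd520b05ea90482f5462c17aa3120bd510905ea70582f5382417a99220bd4c8905ea60882f5302417a96220bd4b0905ea54882f52a2417a931a0bd498b05ea48782f5202417a8f1e0bd478d05ea3c582f51e0c17a8e220bd470905ea34682f51a2c17a8b160bd458305ea1c482f5082417a83120bd408505e9fc482f4fc3c17a7e1a0bd3f0305e9f4482f4f84417a7c1e0bd3e0d05e9f04))))) (BT.node (nat_lit 542) (BT.node (nat_lit 541) (BT.leaf (Bx.mk (nat_lit 0x82f9162c17c8b120be450d05f228382f9123c17c891a0be440905f21c582f90c3c17c860e0be428905f210582f9082417c830e0be418505f208682f9022417c7f1a0be3f0b05f1f4882f8fa2417c7c1e0be3e0d05f1f0582f8f62c17c7a160be3c0b05f1dc882f8ea2417c731a0be390905f1c4782f8e23417c71160be380b05f1c0482f8dc1417c6c160be360905f1ac582f8d43c17c6a0e0be350505f1a4682f8ce2c17c66220be330905f190482f8c63c17c63160be318305f184882f8c02c17c5f220be2f8905f178882f8ba3c17c5d160be2e0b05f16c582f8b43417c5a060be2c8b05f160182f8aa2c17c55120be290f05f148682f8a23c17c501e0be278f05f13c682f89e2c17c4e1e0be270b05f134482f8982417c4b120be250905f11c782f88e2c17c46160be220b05f10c582f8843c17c420e0be210505f104482f8802417c3e160be1e0d05f0e8482f8723c17c391a0be1c8705f0e4282f86c2c17c35120be1a0f05f0d0682f8663c17c331a0be198b05f0c8482f8623c17c311a0be188b05f0b8582f85c2417c2d1e0be168d05f0b4382f85a1417c2c120be158905f0a8582f8522c17c28120be138905f098782f84c3417c25120be120905f088582f8442417c21160be108905f080482f83a2c17c1c1a0be0e0705f070282f8342417c19120be0c0b05f060482f82c4417c16120be0a8f05f050582f8262c17c13120be098305f048882f81e4417c0e220be068f05f034682f8184417c0c120be059105f02c482f8144417c09220be039105f01c482f80c4417c06120be029105f010882f8043417c01160be000f05f000582f7fe2417bfd160bdfe8905efe8482f7ee2c17bf61e0bdfa0b05efd0482f7e62c17bf3120bdf98305efc8582f7e42417bf1160bdf80f05efc0682f7e01c17bf00a0bdf70b05efb8482f7da2c17bed120bdf60b05efa8882f7d42417be9120bdf40f05ef9c482f7cc2417be51e0bdf28d05ef94382f7ca1417be41e0bdf11105ef84782f7c23417be0160bdef8905ef78582f7ba2c17bdb160bdec8305ef54582f7aa2417bd4160bdea0905ef4c482f7a03c17bd01a0bde38b05ef0c782f7863417bc3060bde10b05ef04782f7822c17bc1060bde00b05eefc582f77e0c17bbe120bdde0b05eeec882f7762417bb81e0bddc0d05eee0382f7701417bb6160bddb0905eed4582f7683417bb4160bdd78305eeb4682f7562c17baa220bdd50905eea0682f7502c17ba41a0bdd18905ee88482f7402c17b9c060bdcd8905ee60882f7303c17b981a0bdcc0905ee603))) (BT.leaf (Bx.mk (nat_lit 0x82fb682417db2160bed90305f6c0182fb5e2c17dae160bed61105f6b0482fb563c17dab160bed49105f6a0782fb500c17da7220bed38905f698882fb4a2417da41a0bed20705f690282fb462c17da2160bed01105f680482fb3c3c17d9d220bece1105f670482fb362417d9a120becb8f05f65c682fb283c17d941a0beca0b05f644482fb1e2417d8d220bec68905f624482fb102c17d88120bec30905f614482fb002c17d80120bebd8b05f5e4782faf02417d731e0beb98d05f5cc182fae42417d711e0beb88b05f5c0482fada2c17d6c120beb30b05f594582fac82c17d631a0beb18505f588482fac40c17d61120beaf1105f570682fab64417d5a220bead0905f560582faae2c17d56220beab0905f54c482faa43c17d521a0bea88905f538582fa982c17d4b220bea40f05f520682fa900c17d47120bea30905f514582fa882c17d42160bea08705f504282fa7e2c17d3e160be9f0905f4f4782fa7a3417d3d0e0be9e8505f4f0582fa763417d3b160be9c8705f4e0782fa703417d35120be990f05f4c8682fa641c17d31160be988905f4bc782fa5e2c17d2e160be970905f4b4582fa583417d2a120be948905f4a4282fa502c17d27160be938905f494582fa4a2417d25060be920d05f488582fa422c17d20160be900905f47c682fa3c2c17d1e120be8e0d05f46c482fa343c17d18120be8b8905f458782fa2c3417d15120be898905f448482fa203417d10060be878905f438482fa182417d09120be838905f40c482fa024417d01120be800905f3f8482f9f83c17cfb160be7d0b05f3e8482f9f22c17cf8220be7b8f05f3d8482f9e60c17cf2220be781105f3b0882f9d63c17ceb1a0be750905f3a4882f9d02417ce3120be718705f38c282f9c40c17ce01a0be6f8905f378482f9ba3417cdb160be6d0305f364682f9b02417cd7160be6b0f05f358682f9aa3c17cd51a0be698f05f34c682f9a43c17cd21a0be690b05f340482f9a01c17ccf160be670b05f334482f9922417cc8160be638d05f318482f98a1417cc4120be608905f2f8782f97c3417cbe0a0be5e8905f2f0482f9763c17cb8120be5b0f05f2d8682f96c0c17cb5120be5a0905f2cc782f9663417cb1120be568905f2b0782f9562417caa120be548905f29c482f94c2c17ca41e0be520d05f290582f9462417ca1120be500f05f27c882f93e1417c9e1e0be4f0d05f278582f93a2c17c9d120be4e0905f26c582f9342c17c9a120be4c8905f25c182f92c0c17c95160be4a8905f250482f9242417c8e120be468905f2304)))) (BT.node (nat_lit 543) (BT.leaf (Bx.mk (nat_lit 0x82fd722c17eb8120bf5b8905fad8482fd6a2c17eb2060bf580b05fac0182fd5e4417eaf1e0bf578d05fabc382fd5e1417eae1a0bf570b05fab4582fd563c17eab160bf551105faa8482fd522c17ea8160bf538b05fa98682fd482417ea2160bf508f05fa84682fd421c17ea10a0bf500b05fa80482fd3e2417e9e0e0bf4e8b05fa6c682fd361417e9a120bf4c8b05fa5c882fd2e2417e96060bf4a9105fa50882fd220c17e90220bf478b05fa38882fd1a3c17e8c160bf458905fa28582fd104417e87220bf430b05fa10882fd082417e83120bf410b05fa08482fd003417e80120bf400705f9fc682fcfc2c17e7e120bf3e8b05f9f0782fcf81c17e7c0a0bf3d8d05f9e8782fcf43417e791e0bf3c8d05f9e4582fcee2417e76120bf3a8b05f9cc582fce42417e70060bf378f05f9b4182fcd63c17e6b1a0bf350905f9a4582fcce2417e64120bf310f05f988682fcc42c17e61120bf300905f97c482fcac2417e551e0bf2a8b05f950582fca43c17e521a0bf290b05f948182fc9c2417e4b120bf250905f91c482fc8c2417e43160bf210905f904582fc803c17e401a0bf1e8f05f8f4682fc7a0c17e3c120bf1d9105f8ec482fc744417e39120bf1b8f05f8dc182fc6c2417e311e0bf188d05f8c0582fc5e2c17e2e120bf160f05f8b0682fc562417e2a120bf140f05f89c482fc4c2417e25220bf128905f894282fc482c17e221e0bf110d05f884582fc422417e1e220bf0f0f05f878682fc3c1417e1c1a0bf0e0505f868882fc322c17e18160bf0b1105f858482fc2a2c17e141a0bf078905f83c182fc1c2417e0d1e0bf068d05f830482fc162417e09160bf040f05f820682fc101417e061e0bf028b05f808782fc043417e011e0bf008d05f800482fbfe3c17dff1a0beff8b05f7f8782fbfc2c17dfc120befd0905f7e4482fbec2417df60e0befa8b05f7d0582fbe82417df3160bef80d05f7c0382fbde2c17def120bef68f05f7b0782fbd82c17deb160bef50b05f7a8482fbd02417de71e0bef38d05f79c582fbcc2c17de5120bef20b05f790482fbc62417de21e0bef10d05f784482fbbe2417dde160beee8b05f76c782fbb63417ddb0e0beed8505f764782fbb23417dd9060beec0f05f760682fbae2417dd6120beea1105f74c782fba63417dd01a0bee78b05f730882fb902417dc71e0bee38b05f714782fb8a0c17dc4120bee18b05f70c182fb822417dc01a0bedf8905f6f4782fb7a3417dbd060bede0905f6e4782fb723417db8160bedb8f05f6dc682fb6e2c17db7060bedb0b05f6d08))) (BT.leaf (Bx.mk (nat_lit 0x82ff663c17fb31a0bfd98b05fec8582ff642417fb0120bfd70905feb4582ff542c17fa81a0bfd28905fe90382ff481417fa1120bfcf0f05fe78682ff3c0c17f9d160bfce0d05fe70382ff363417f991e0bfcc8d05fe64182ff2e3c17f971a0bfcb8305fe58482ff2a3417f95160bfc98b05fe48882ff222417f90060bfc60905fe2c782ff163417f86220bfc30905fe10582ff082417f83120bfc10f05fe08682ff042c17f81160bfc08905fe00382fefe3c17f7e160bfbf0905fdf4582fef63c17f7a1a0bfbc8b05fde4482fef02c17f78120bfbb8f05fddc682feee1c17f770a0bfbb0b05fdd8482feea2c17f75120bfba0f05fdd0682fee81c17f740a0bfb90b05fdc8482fee40c17f71220bfb88b05fdc4482fee03c17f700e0bfb80505fdb4482fed83c17f6c060bfb50905fd98882feca4417f65120bfb18905fd80482febc3c17f5e060bfae9105fd74482feb84417f5c120bfae0505fd6c782feb63417f5b160bfac0905fd58682feaa2417f54160bfa98905fd44482fe982417f4b120bfa50f05fd20782fe901417f46120bfa28f05fd14682fe8a0c17f44120bfa18f05fd04582fe803c17f401a0bfa00305fcfc482fe7c2c17f3d160bf9e0905fcec682fe762c17f3b060bf9b0b05fcd4782fe6a1417f34120bf998b05fcc0782fe603417f30160bf960f05fcb0682fe580c17f2b220bf950905fca4482fe502417f280a0bf938d05fc9c582fe4a2c17f25120bf918f05fc8c282fe442c17f20160bf8f8b05fc78782fe3c3417f1e0e0bf8f0505fc74582fe383417f1c0e0bf8e0505fc6c682fe322c17f19120bf8c0905fc5c582fe2e2417f151e0bf899105fc4c482fe244417f12120bf888b05fc3c782fe1e3417f0f160bf868905fc28482fe122c17f07160bf830b05fc14682fe062c17f03120bf808f05fc00482fdfe2c17efd1e0bf7e8b05fbf0782fdf83417efc160bf7d0b05fbe4582fdf02c17ef8120bf7b8b05fbd8682fdec1c17ef60a0bf7a8b05fbd0482fde62417ef2120bf789105fbc0682fde02c17eef220bf769105fba0782fdce2c17ee6160bf728b05fb90582fdc62c17ee11e0bf700f05fb80682fdc02c17ede1e0bf6f0d05fb74482fdb64417eda120bf6c8905fb5c482fdac2417ed3120bf690b05fb48482fda22417ece160bf668f05fb34682fd9a2c17ec9120bf638b05fb1c482fd8a3c17ec51a0bf618f05fb0c582fd842417ec1120bf600905fafc782fd7c4417ebe1a0bf5f0905faf8382fd7a3c17ebd1a0bf5e8b05faf0582fd762417eba120bf5c8f05fae46)))))))) (BT.node (nat_lit 560) (BT.node (nat_lit 552) (BT.node (nat_lit 548) (BT.node (nat_lit 546) (BT.node (nat_lit 545) (BT.leaf (Bx.mk (nat_lit 0x8301c42c180e0160c06f9106037c68301be1c180df0a0c06e0906036068301aa2c180d5120c06a0306034c28301a244180d11a0c0688706034088301a024180d00a0c0678b06033478301963c180cb1a0c06509060318883018a34180c5160c0620b06030c68301861c180c30a0c0611106030878301841c180c20a0c0600b0602f8883017c34180be0e0c05f050602f4583017a24180bb220c05d8d0602ec38301742c180b9160c05c890602e0783017034180b7160c05a0b0602cc88301663c180b31a0c059870602cc28301622c180ad0a0c0540b06029c583014a2c180a3160c0518906028848301422c1809f120c04f0906026c7830136341809a120c04c8f06026468301302418095120c04a0b06024878301222418090120c0479106023c783011e1c1808f0a0c0468f0602305830116441808b1a0c0458906022c38301161418084120c0418906020878301043418081120c040090601f458300f62c1807a120c03c090601d888300e84418072160c0388b0601c448300de2c1806e220c0370d0601b838300dc141806b160c035110601a878300d02c18067160c0320906018c78300c62c18061160c02f0306017458300b62c1805a160c02c9106016448300ae44180511e0c0288d060144283009a341804c120c02409060120183008e44180471e0c0238d06011c383008e1418044120c0200b0600f4883007a1c1803c160c01e090600ec48300743c1803a0e0c01d050600e0783007034180380a0c01b890600d848300642418031160c0180d0600c0583005e241802e120c016090600a4683004c24180241e0c0120d060090583004424180201e0c00f890600745830036241801a120c00d03060064583002e4418017120c00b85060058583002a44180150e0c0090906004458300220c1800f160c0078906003448300143418008160c0040306001048300062418002120bfff0f05fff8382fffc1417ffd160bffe1105fff0482fff63c17ffb1a0bffd8305ffe8482fff03c17ff81a0bffc0305ffdc482ffec4417ff6120bffa8f05ffd4682ffe82c17ff4120bff78905ffb8482ffd83c17fec1a0bff60b05ffa0482ffce3c17fe5120bff10905ff84482ffb63417fd81a0bfec0705ff60282ffac3c17fd4120bfe98905ff48782ffa43417fd0160bfe79105ff3c782ff9e1c17fcd160bfe60b05ff2c582ff944417fc9160bfe41105ff20482ff8e3417fc7160bfe29105ff10582ff862417fbf120bfdf0b05fef4882ff7a1c17fbd0a0bfde0b05feec582ff742c17fb7160bfdb8305fed47))) (BT.leaf (Bx.mk (nat_lit 0x83040824182011a0c100090607fc58303fa24181fb1a0c0fc0b0607d848303e414181f0160c0f7890607b878303dc14181eb220c0f5090607a478303d234181e9160c0f40b0607a048303ca2c181e5120c0f00906078018303bc2c181d91e0c0ec0906075c78303ae34181d7160c0eb0f06075858303a63c181d21a0c0e709060734483039444181ca120c0e505060724583038e24181c4220c0e20906070c68303862c181c0160c0e0090606f8483037624181ba160c0db0b0606d8483036a34181b31a0c0d88f0606c468303622c181b1060c0d8090606b8583035424181a91e0c0d4870606a428303502c181a7220c0d389060698583034a2c181a31e0c0d18d06068c583034234181a1060c0d00b060680183033e241819e0a0c0ce0906066c8830336241819a1e0c0cc8906065c583032c2418195120c0ca8706065058303282418193160c0c90f06064868303241c181920a0c0c88b0606405830320241818f1e0c0c70b060638483031a2c1818d120c0c60706062c5830316241818a120c0c48f06062468303121c181890a0c0c40f06061c283030a1c181841e0c0c20d06060c58303062418182120c0c00b0605f858302fc241817d160c0be890605f078302f82c1817b1a0c0bd8b0605dc58302ec2418171160c0b80b0605c048302dc3c1816e1a0c0b68b0605b058302d6241816a1e0c0b50d0605a858302d23c181691a0c0b28b06059048302be2c1815e160c0ae8f06056478302b23418159060c0ac0906055458302a844181541e0c0aa0706055028302a2241814c1e0c0a60306052c58302942418149160c0a483060520583028c2c18144160c0a08b06050448302803c181401a0c09f0d0604f45830278241813b120c09d090604e048302642c18132120c0988b0604c418302603c181301a0c0978f0604bc683025c241812d1e0c0968d0604b458302583c1812c160c0950d0604a4583025044181281a0c094070604a0283024c24181241e0c0920d06049018302443c181221a0c0910b06048818302403418120060c08f8b06047818302323c181191a0c08c83060460583022e2c18116160c08a9106045048302262418111060c0880f06044068302202c1810e120c0868f060434683021a0c1810c120c0858906042848302141418109160c0840f060420683020e2418106120c0829106041058302062c180fe160c07e8b0603f448301f22c180f0120c076910603b058301d644180eb0e0c075850603a868301d23c180e91a0c0748b06039848301ca24180e41a0c0720b06038c3)))) (BT.node (nat_lit 547) (BT.leaf (Bx.mk (nat_lit 0x8306482c18321160c18f8f060c7c683063e0c1831e120c18e0d060c7058306343c18318060c18b09060c40483061e241830e1a0c18707060c38283061a2c18309120c18407060c20283060e2418305160c18189060c08483060234182ff120c17e0b060bf048305f62c182fb120c17d0d060be838305f414182f81e0c17c03060bdc48305e844182f40a0c17987060bc858305e424182f01e0c1778d060bb858305dc24182ec160c1758f060bac68305d61c182eb0a0c1748b060ba448305cc24182e5160c17103060b8488305c234182e10e0c17085060b7878305bc34182d8160c16c09060b5c58305aa3c182d51a0c16a83060b4c48305a424182d2060c1680f060b4068305a00c182cd120c16489060b20483058e2c182c5120c1618d060b08483058244182c10e0c1600f060b0068305802c182bf160c15f89060af448305783c182bc1a0c15e07060ae8583057424182b9160c15c89060ad8783056a2c182b4160c15a09060ac8783056434182b1160c1580f060ac068305600c182af160c1570b060ab818305583c182ac160c15589060aa878305542c182a9120c1540b060a9c483054a24182a2160c15009060a74583053a24182991e0c14c0b060a5c683052e2c182951a0c14a8b060a50483052424182911e0c1488d060a4078305203418290160c1478b060a385830518441828b1e0c14511060a2478305122c18286220c1428f060a1468305082418283220c14189060a004830500141827f160c13f0b0609f438304f82c1827b160c13d090609e488304f23c182791a0c13c850609d448304e41c182701e0c138030609bc58304dc2c1826d160c135910609a848304d22c18268160c1338b06099c48304cc2418263160c12f0906097058304b8241825a160c12d0906096458304b02418257160c12b8906095878304ac34182560e0c12a0906095028304a42418251120c1278d06093c283049a3c1824d160c1260b06092868304942c1824a060c1238f06091c583048c24182421e0c11f0f0608f8183047a441823d120c11d910608ec48304743c18239120c11a8d0608c0483045e3c1822f160c116890608b0483045424182291e0c1148b06089848304462418221120c1100f06087c583043e0c1821e160c10f03060874783043a1c1821d0a0c10e0f06087068304382c1821b120c10d0f06086868304342c182181a0c10b89060854583042a0c182131e0c1098706084c28304224418211120c1080d060840583041e2c1820d1e0c1068d06083048304162418208120c103890608108))) (BT.leaf (Bx.mk (nat_lit 0x8308861418442160c22089061100583087e2c1843e160c21e910610ec5830876241843a160c21d090610e818308723c18438120c21b0f0610d4483086634184330a0c217890610b848308580c18427160c2128f06109468308482c18423220c2111106108848308423c18421160c21083061078183083644184191e0c20c8d061060483082e2418416220c20a8f061050883081e2418409120c2028d061014483080834183fe1e0c1ff0d060ff818307fa44183fd120c1fe11060ff048307f614183f9120c1fc11060fe048307ee3c183f71a0c1fb83060fd888307ec24183f5220c1fa89060fd078307e834183f3120c1f889060fbc58307dc24183ed220c1f68f060fb438307d83c183eb120c1f489060fa428307d024183e6120c1f289060f9048307c424183e0120c1ef89060f7848307ba2c183dc160c1ed91060f6c68307b61c183da160c1ea8d060f5458307a82c183d3220c1e88d060f4438307a214183cc120c1e589060f20383078e2c183c6160c1e309060f14583078844183c40a0c1e109060efc683077e2c183bb120c1dc0d060edc683076e2c183b50a0c1da0b060ecc283076434183b2160c1d88f060ec0583075e3c183af1a0c1d783060eb8483075844183ac1a0c1d609060eb0383075414183a91e0c1d48d060ea4583075034183a6160c1d303060e9048307462c183a2220c1d08b060e80883073c441839e120c1ce11060e6c8830734441839a120c1cc8b060e5c58307263c18391160c1c889060e38683071a241838c160c1c591060e2c7830716341838b0a0c1c309060e14683070a0c18383120c1c10f060e0448306fa241837c120c1bc91060de038306ee2c183751a0c1ba85060dd058306e824183721a0c1b887060dbc78306de341836f0e0c1b68b060db068306d6241836a120c1b489060da058306ce2c183661e0c1b28b060d9078306c62c18362160c1b091060d8448306bc441835e120c1ae11060d6c78306b22418354120c1a989060d4878306a43418352160c1a88b060d4078306a0141834f120c1a709060d308830696441834b120c1a511060d2488306904418348120c1a38b060d1088306880c18342220c1a009060cfc583067a241833c1a0c19d11060ce848306723418339160c19c0d060ce0383066e2c18337120c19a0f060cd068306680c18333160c1990f060cc868306642c18332060c1988b060cc078306603418330160c19803060cbc583065c241832d120c1960b060cac78306562c183291e0c1948d060ca418306502c18327160c1930d060c945))))) (BT.node (nat_lit 550) (BT.node (nat_lit 549) (BT.leaf (Bx.mk (nat_lit 0x830af81c1857c0a0c2bd890615e88830af4241857a0a0c2bb910615dc6830aee1c18575120c2ba0f0615d06830ae444185721a0c2b9070615c82830ae22c1856e120c2b6910615b47830ada341856b160c2b5890615a44830ac844185631e0c2b18d06158c1830ac42418561220c2b0890615805830abe241855e160c2af030615708830ab8241855b160c2ac910615605830aae4418554220c2aa090615485830aa42418551120c2a7890615385830a9c241854b220c2a38f06151c6830a881c18541220c2a00f0615006830a802c1853f1a0c29f050614f08830a762c1853a120c29c910614e06830a701418537160c29a8b0614d07830a681c185340a0c2998f0614c85830a622c18531120c298830614c07830a601c185300a0c2970b0614a48830a504418525120c291890614844830a40241851a120c28c8d0614641830a2e2418516220c28b0d0614504830a242418511160c288830614402830a1e441850f120c2870d0614385830a1a441850b160c285890614287830a1434185091e0c283110614108830a064418502220c2808b0614005830a0024184fc120c27c110613e068309f01c184f1120c2778f0613bc38309dc24184ed220c2768d0613b438309d824184eb120c2740b0613a048309ce44184e71a0c2720b06138458309c044184e01a0c26d0b06136488309b234184d90a0c26a09061348583099e3c184cf0e0c26785061334183099444184ca1a0c26509061324583098e24184c3160c261090612fc683097e2c184bd120c25d910612e4883096c44184b6120c25a8b0612d0883096644184b2160c2588b0612c4483096034184b00e0c258050612b418309562c184a51e0c2518f06128c683094424184a1160c24f8f06127c583093c2418498220c24c0d06126038309301418497160c24a0906124c48309222c1848f1e0c2478306123088309182418488160c2430d06120868309041c1847f120c23f0b0611f058308f4441847a0a0c23b910611dc78308ee34184770e0c23b850611d858308ea24184741a0c23a0b0611c858308e02c1846f160c2370b0611b848308da141846c120c2340f06119858308cc24184651a0c2328506118878308c0241845f1e0c22f8d06117c58308bc241845d120c22e8306117048308b6241845a120c22c8906116048308ac24184551e0c22a8d06115048308a62418452120c2288906113c183089a24184491e0c2248d06112418308902418447120c22383061118883088c3c184461a0c22309061118383088c1418444120c2219106110c3))) (BT.leaf (Bx.mk (nat_lit 0x830d243418692160c34889061a405830d1c241868d1e0c3468b061a307830d182c1868b1a0c34587061a2c2830d144418686160c3420f061a106830d081c18683120c34107061a082830d022418680160c33f8b0619f46830cfa2c1867a160c33d090619e81830cf23c186781a0c33b8b0619dc4830cec3c186761a0c33b070619d82830cea2c18675120c339870619cc2830ce42c18672060c3388b0619c44830ce03c186701a0c338070619c02830cdc241866c160c336090619a85830cd424186680e0c334050619984830cca3418664120c3318f06198c5830cc22c18660120c32f8b0619744830cb8241865b1e0c32d0b06195c5830cac44186561a0c32b070619506830ca82c18653160c329890619484830ca0341864e160c326910619347830c9a1c1864d0a0c326050619287830c940c18648120c3240306191c7830c8e24186470e0c323850619185830c8a3c186451a0c322830619104830c8624186421a0c3210b0619045830c82241863f160c31f090618f04830c742c1863a120c31c8b0618e07830c6c2c18636120c31a830618d07830c6834186340e0c31a050618cc8830c663c186331a0c3198b0618c41830c602c1862f160c317890618bc1830c5c441862e1e0c3170d0618b83830c5c141862d120c316110618b04830c564418629160c3138f06189c6830c4e0c18626120c312890618907830c442418620060c30f0f0618786830c3c2c1861d160c30e0b0618704830c34341861a160c30c8b0618604830c283c186140e0c30a050618441830c20441860e120c3068d0618341830c18241860a120c304890618242830c102418607160c3028b0618105830c0024185fd120c2fc0b0617dc3830bea3c185f51a0c2fa830617cc6830be62c185f1160c2f8110617c04830bde2c185ee220c2f60d0617b02830bd434185e91a0c2f48b0617a04830bcc24185e4120c2f10b0617846830bc03c185e0160c2ee910617705830baa24185d3120c2e68b06171c4830b8a44185c51e0c2e10d0616fc4830b7c24185bd120c2dc830616d88830b6c3c185b61a0c2db090616d83830b6c14185b41e0c2d7890616b84830b5624185a6220c2d29106168c5830b442c185a11e0c2d0870616842830b401c185a00a0c2ce8d06166c5830b36241859a120c2cc890616505830b222c18591060c2c80306163c8830b1e241858e120c2c68b0616308830b1644185891e0c2c4090616188830b082418584060c2c10b0616048830b0224185801e0c2bf8d0615f85830afa2c1857c220c2be0f0615f06)))) (BT.node (nat_lit 551) (BT.leaf (Bx.mk (nat_lit 0x830f522c187a9120c3d28d061e941830f462c187a3060c3d10f061e804830f3e241879e120c3ce89061e705830f322c18798160c3cb09061e504830f242418790160c3c809061e401830f1e241878a1a0c3c503061e1c7830f0a14187841e0c3c20d061e105830f061c187830a0c3c087061e005830efc341877d160c3be0f061df06830ef62c18779060c3bb09061dd07830ee83418773160c3b989061dc84830ee23c187711a0c3b80d061db85830ed82418769120c3b40b061d9c8830ece3418766160c3b309061d944830ec624187620a0c3b089061d806830ebe2c1875d1a0c3ac09061d504830ea62418752160c3a889061d3c5830e9c241874d1e0c3a68d061d345830e98241874a1e0c3a50b061d245830e8e2c187460e0c3a28d061d145830e883c18744160c3a18b061d045830e804418740120c39f8b061cf88830e7c241873e0a0c39e8b061cf03830e763c18738160c39a8b061cd04830e662c18733120c39983061cc87830e64341872f160c3970b061cac7830e563418728120c3918b061c888830e4434187220e0c39105061c804830e3e3c1871f1a0c38e8d061c744830e36241871a1a0c38c03061c547830e2a3418714120c3898b061c485830e242418711120c38809061c344830e16241870a160c38489061c205830e0e2c18706220c3830f061c186830e0c1c187060a0c3820b061c084830e003c18700060c37f89061bf44830df824186fb1e0c37d09061be44830df02c186f7160c37b89061bd87830dec34186f60e0c37b05061bd45830dea24186f4120c3798f061bcc2830de42c186ef160c37789061bb84830dd83c186ec1a0c37603061ba87830dd434186ea060c3748f061ba46830dd22c186e8120c37403061b944830dc034186e0060c36f0f061b786830dbc0c186dc120c36e07061b5c7830dae34186d70e0c36b85061b546830da624186d21e0c3690b061b444830da034186d0160c36689061b304830d9624186c91a0c36485061b1c7830d8a2c186c3160c36189061b087830d8434186c1160c3600f061b006830d802c186c0060c35f0f061af86830d7c0c186bd160c35e89061af41830d780c186ba120c35c0f061ae01830d6e2c186b5160c35a83061acc5830d6424186b0120c3560d061ab05830d5034186a8060c3530b061a984830d4c0c186a5220c35285061a904830d4224186a0120c34f0d061a708830d3424186991e0c34c8d061a641830d302418696220c34b0f061a586830d2c24186960e0c34b05061a544830d283c186941a0c34989061a487))) (BT.leaf (Bx.mk (nat_lit 0x83117224188b81e0c45c0d0622e0583116e44188b61a0c45a8b0622d4483116224188af1e0c4578b0622b4483115824188a81e0c4540d0622a058311500c188a5120c4518f06228818311422c1889d1e0c44e0b062264783113234188981a0c44b0f06225868311263c188931a0c4498b06224c18311243c188921a0c4490b062244483111e2c1888e220c4470f062238383111c141888d1e0c4460d06222c48311142c18889120c4440906221458311083c18882160c4410306220458311022418880220c4400f06220068311001c188800a0c43f0f0621f868310fc0c1887a120c43c8f0621e468310f22c18878120c43b090621d468310ea2c18874120c439090621c448310e0241886f120c437090621a858310d23c188691a0c434870621a428310d04418868120c4340506219c48310cc2c18864160c4318f06218c38310c43c188621a0c42f0906217468310b6241885a1e0c42d0d06216858310b024188550a0c42a0906214c58310a22c1884f120c4270f062138683109c141884c1a0c426070621302831096241884a120c4228b06211058310863c188431a0c4218b06210c1831080241883f1a0c41f870620f8183107a241883c160c41d890620e868310742c188391e0c41c8d0620e458310704418836160c41a8b0620d418310682c18833160c4188b0620b8583105a241882c1e0c4160d0620b058310562418829120c4140f062098483104a2418824120c41189062088483103c2c1881b1e0c40d8306206448310302418813160c4088b062044483101e2c1880c1a0c4058f06202c68310162c1880a1a0c4050b06202478310123418809160c4040906200858310022418800160c3ff0f061ff86830ffc1c187fe0a0c3fe8d061ff05830ff624187fa160c3fb8f061fd86830fea24187f2120c3f809061fc02830fde3c187ef1a0c3f78b061fb88830fdc24187ed160c3f58b061fa84830fd044187e81a0c3f28f061f946830fc434187e2160c3f08b061f844830fc024187df120c3ee0f061f644830fb024187d7120c3eb0b061f4c4830fa424187d11a0c3e809061f3c6830f9e2c187ce1e0c3e689061f304830f963c187cb1a0c3e505061f244830f8c2c187c5220c3e285061f0c5830f8434187c0120c3df8d061ef87830f7a2c187bc160c3dd8f061eec6830f762c187ba1a0c3dd0b061ee05830f6e44187b70e0c3db85061ed86830f6a3c187b51a0c3da8b061ed05830f662c187b2160c3d889061ec05830f5c2c187ad1e0c3d68d061eb43830f5a14187aa1e0c3d50d061ea85)))))) (BT.node (nat_lit 556) (BT.node (nat_lit 554) (BT.node (nat_lit 553) (BT.leaf (Bx.mk (nat_lit 0x8313a43c189d21a0c4e88f06274458313a024189cf120c4e709062724583139224189c7220c4e38906271c283138c2c189c3120c4e18306270078313802c189be120c4dd8f0626ec683137424189b91e0c4dc8d0626e4583136e3c189b71a0c4db090626d468313662c189b3120c4d9830626c4683136024189ae1e0c4d68d0626b0783135834189ac160c4d5890626a888313543c189aa0a0c4d40b0626a0483134c44189a61e0c4d30d06269828313482c189a3220c4d18f06268c68313461c189a30a0c4d10906267c883133e341899f0e0c4ce0f06266c583133244189991e0c4cc8d06266428313303c18996160c4ca0906264c78313263418993160c4c80306263c683131c441898d1e0c4c68d06263458313183c1898c1a0c4c49106262468313121c18986060c4c2890626104831304241897e160c4be8f0625f428312f63c1897b060c4bc8f0625e468312f22c18978120c4bb890625d858312ec2418975160c4ba830625cc78312e63418973160c4b90b0625c048312d83c1896c060c4b58f0625ac68312d62c1896a1e0c4b50d0625a858312d22418966120c4b20906258878312c41c189620a0c4b01106257c58312bc2c1895b120c4ac0906255c78312ae3418957060c4ab0906255478312aa2c18954120c4a98906253c883129e241894e1a0c4a70b062534583129a241894c220c4a58f06252c583128e24189451e0c4a28d0625107831284241893d160c49e890624f0783126e3c189370a0c49a910624d448312662c189321e0c4990d0624c048312582418928160c4938906248c88312462418922160c49011062480483123e2c1891e120c48d890624687831234341891a160c48c8d062460483122e3c189171a0c48b8b062458483122a3c18915160c48a0906244c48312203c189101a0c48789062438683121c1c1890d1a0c4860d06243028312162c1890b120c4840f062420683120e2418905120c4820b06240c483120424189011e0c47f910623fc48311f644188f9160c47b890623d868311ea24188f4220c47a090623d038311e814188f2120c478090623b448311d63c188e8120c4738906238c78311c634188e3060c4710906238458311c20c188e0120c4700506237c78311be1c188df0a0c46f0b06237458311b62c188da220c46d0f06236868311b41c188da0a0c46c0906234c78311a634188d3060c4688f06234468311a22c188d0120c4670f06233448311980c188cb120c4648906232078311880c188c3220c4609106230448311802c188bf160c45e0b0622ec5))) (BT.leaf (Bx.mk (nat_lit 0x8315ce2c18ae6120c5728f062b8c58315c60c18ae11e0c5708b062b8418315b83c18adb120c56d0d062b6448315aa2c18ad4060c5678f062b3868315962418ac9120c5640d062b20583158c2418ac3120c56109062b0428315802418abf0e0c55f85062af4783157a3418abd060c55d8f062aec68315762c18aba160c55c8d062ae4183156c0c18ab5160c55989062ac858315640c18ab1120c55791062abc683155e1418aad1e0c5568d062ab418315582c18aab160c55511062aa878315543418aaa0e0c55505062aa4483154e2418aa61e0c55303062a9058315462418aa2120c5508b062a80483153e2418a9e1e0c54e09062a6c78315363418a9a160c54d09062a6468315321c18a990a0c54c09062a5828315263c18a92160c54903062a4078315202c18a8f120c54709062a3448315123c18a88160c5430b062a14783150a3418a850e0c54285062a1078315062418a82120c540890629fc48314fc2418a7e060c53e830629f048314f42c18a790e0c53c850629e058314ec4418a761e0c53b0d0629d838314ec1418a75160c5398f0629c448314e20c18a6d160c5360f0629b068314d82c18a6b120c535090629a458314c82418a63220c5318906298c38314c42c18a61160c5300b06298048314b62c18a5a120c52b0906295448314a82418a521a0c5288906294078314a03418a50160c5270d062938383149c1418a4d160c5260706292c48314923c18a491a0c52483062920483148c3c18a46120c52307062918283148a3c18a45160c5220f06290848314822c18a40160c51f910628fc783147e3418a3f0a0c51f0b0628f4883147a1c18a3a220c51d0f0628e838314724418a38120c51b8b0628dc48314683c18a341a0c51a0b0628cc58314622c18a301e0c518070628b448314582418a2b160c515830628a878314543418a2a0e0c515050628a478314523418a29160c5141106289858314463c18a23160c5118306288078314403418a20060c50f89062874683143a2c18a1b220c50d0b06286488314321418a18160c5098906284848314224418a11120c5080b062838583141a2c18a0d120c5060706282c483140e2418a06120c5028f062814683140a1c18a050a0c5018f06280c68314022c18a001a0c5000b0627f488313fa24189fa220c4fd090627e488313ec2c189f4120c4f90f0627c858313e224189f0160c4f7890627b848313d644189e6160c4f18b06278c48313c42c189e2120c4f10306278478313c234189db220c4ed0f06276868313b224189d8220c4ec0906275c4)))) (BT.node (nat_lit 555) (BT.leaf (Bx.mk (nat_lit 0x8318183418c0b120c6050306302478318121c18c08220c6040906301c783180e2c18c051e0c6028d06301418318083c18c041a0c6008906300438318021418c00120c5ff8d062ffc58317fc3418bfd120c5fe0b062fec48317e82418bf21a0c5f90b062fc448317dc3c18bee1a0c5f70b062fb478317da3418bec1e0c5f60d062fb058317d22418be81e0c5f40d062f9c48317ca3c18be31e0c5f08f062f8468317c20c18be0120c5ee8d062f6848317b22418bd5120c5e811062f40283179e4418bcf120c5e70b062f3448317983418bcb160c5e50f062f2868317942418bca0a0c5e38f062f1c683178e2c18bc61e0c5e30d062f18583178a2418bc31e0c5e18d062f0878317843418bc2160c5e089062f0078317803418bc0160c5df89062ef8783177c2c18bbd120c5de0b062ef048317722418bb8120c5d90d062ec478317603c18bb01a0c5d78f062ebc683175e2c18bae1a0c5d70b062eb4683175a2c18bac1e0c5d60d062eac48317560c18baa120c5d405062e98583174c2418ba51e0c5d18f062e8c68317462c18ba3060c5cf11062e78783173c3418b99060c5ca89062e4c48317222418b901e0c5c80d062e4058317162418b8a120c5c30b062e0878317043418b81120c5be09062de848316f22418b78220c5bb09062dd458316e62c18b73120c5b90d062dc478316e03c18b6e120c5b689062db058316d82418b6b160c5b589062da878316d42c18b69120c5b40b062d9c58316ce2418b65120c5b189062d7878316bc3418b5e060c5ad0f062d6448316b02418b57120c5ab09062d5058316a64418b531e0c5a987062d4858316a22418b50120c5a78d062d3078316983418b4c060c5a50f062d2868316942c18b4a060c5a489062d1c483168c2418b43220c5a18d062d0c38316861418b420e0c59f89062cf848316783c18b3c0e0c59b09062cd448316641418b311a0c5988b062cc0583165c2c18b2d220c5960b062cac68316562c18b2a120c5948f062ca458316502418b26220c59289062c8448316403c18b201a0c5900b062c7c483163c2418b1d1a0c58d89062c60483162e3c18b171a0c58b87062c5448316223c18b111a0c5880b062c3c583161e2418b0b1e0c58585062c1848316082c18b02120c5800f062bf478315fa2c18afc0a0c57d8b062be878315f41418af9120c57c0f062be068315f02c18af7160c57b0b062bd818315e82c18af3160c5790f062bc868315e42c18af2060c5788b062bb448315d63c18aeb1a0c5758b062ba848315d23c18ae91a0c5748b062ba04))) (BT.leaf (Bx.mk (nat_lit 0x8319f21c18cf90a0c67b8f0633dc68319ee0c18cf6120c67a890633d058319e22418cf0160c677090633b458319d82418ceb1e0c6758d0633ac58319d42418ce91a0c6740b0633a048319ce2c18ce7120c6730f06339868319cc1c18ce60a0c6728906339048319c42418cdf120c66e8f06336c48319b23c18cd91a0c66c8b06335c58319ae2418cd5120c66a0f06334848319a22418cd01e0c6678b063334883199a3c18ccd1a0c6668706333428319982c18ccb160c6651106332878319943418cca0e0c6650506332478319923418cc8120c6638b06331c483198c1c18cc5160c661090632f858319783418cbc160c65d890632dc583196c3c18cb5120c65a090632cc78319663418cb3160c6588f0632c4683195e0c18cad1a0c6558d0632ac38319561418caa160c6548b0632a0783194c3c18ca61a0c6530306329458319480c18ca3120c6518706328c28319441c18ca11e0c6508b063280583193c3c18c9e1a0c64e0f06327068319382c18c9b160c64d0b06326848319323418c990e0c64c8506325c883192c3c18c96160c64a9106325068319282c18c93120c64909063244483191c4418c8e0e0c6468906322848319122c18c89120c6440f063218783190c2c18c86060c6428f06321468319062418c821e0c6410b0631fc48318fe0c18c7e0e0c63d090631e418318ee3418c77160c63a090631cc48318da2418c6a160c634110631a048318ce2c18c65160c6320b06318c48318c22c18c60160c62f8f06317c68318be1418c5e1e0c62f0d06317858318ba3c18c5d1a0c62e0f06317068318b43c18c591e0c62c8d06316078318ae3c18c571a0c62b8b06315078318a83418c521e0c6290d06314078318a00c18c4e1e0c6268b06313448318982418c4a1a0c6250b06312478318923418c49160c6228d06311058318844418c40120c61f8f0630fc683187e2c18c3d1a0c61e110630f078318743c18c3a1a0c61d0b0630e818318723c18c391a0c61b110630d8483186a3c18c351a0c61a8b0630cc78318663418c33160c618110630bc583185c2418c2d120c6160b0630a888318542418c291a0c6140906309458318481c18c240a0c6118b06308c48318442c18c22060c6108f06308468318421418c201a0c6100b06307828318383c18c1c1a0c60e0306306c48318344418c1a1e0c60d0706306828318322418c190a0c60c0f063060683182e4418c151e0c60a8d06305058318262c18c121e0c6090d06304848318241c18c120a0c6088d06304458318203c18c10160c6078d0630387))))) (BT.node (nat_lit 558) (BT.node (nat_lit 557) (BT.leaf (Bx.mk (nat_lit 0x831bca1418de4120c6f18d06378c5831bc43c18de2160c6f0890637804831bbe2c18ddf120c6ee110637704831bb64418ddb120c6ec910637604831bae1c18dd70a0c6eb0b0637547831baa2c18dd4120c6e9890637404831b9a3c18dcd1a0c6e58b06372c4831b942c18dca120c6e48f0637246831b921c18dc90a0c6e4110637204831b8c4418dc6120c6e10b0637045831b822418dc01a0c6e0050636f87831b7c3418dbe160c6de890636f07831b782c18dbb160c6dd890636e47831b703418db71e0c6db8b0636d84831b6a2c18db3120c6d9090636c42831b5e3c18daf1a0c6d7830636b88831b583c18dac1a0c6d6030636a84831b522418da7160c6d3890636984831b4a3c18da51a0c6d2870636942831b464418da3120c6d10d0636885831b424418da1120c6d00f0636805831b3e2c18d9e120c6ce890636684831b302c18d95160c6ca890636541831b283c18d940e0c6c9890636484831b204418d90120c6c7910636348831b162418d8a1e0c6c38f0636148831b084418d84120c6c18f06360c6831b060c18d82120c6c0910636044831afe2418d7c160c6bd890635e88831aea4418d74160c6b9890635c87831ae43418d720e0c6b9050635c45831ae22418d70160c6b78d0635bc3831ade1418d6e160c6b60b0635ac3831ad61418d6a120c6b38b0635987831ac84418d64120c6b1910635887831ac43418d62060c6b0110635804831abe4418d5f120c6af0f0635786831aba2418d5c1e0c6ae0d0635705831ab22c18d571a0c6ab0906354c4831aa42418d511e0c6a88d0635404831a9c2c18d4d120c6a60f0635306831a981c18d4c0a0c6a58f06352c2831a923c18d491a0c6a48306351c5831a8a3c18d45160c6a20b06350c6831a841418d411e0c69f830634f88831a7c2418d3e0e0c69e890634e85831a742418d39160c69c0f0634e06831a701418d36120c6988f0634c46831a622c18d30120c6970b0634b01831a522418d271a0c6928906348c6831a442418d211e0c6908d0634845831a3e2418d1e120c68e890634684831a324418d19120c68c0f0634606831a2e3c18d171a0c68b8b0634587831a2c2c18d14120c68a030634445831a222418d10160c6880906343c7831a1e3418d0f0e0c687850634385831a1c2418d0d160c6860b06342c7831a163418d0b160c6840f0634202831a0e4418d07120c6828b0634106831a081c18d040a0c6818f0634047831a023418d010e0c6808506340058319fc3c18cfe1a0c67f0b0633f048319f63c18cfb1a0c67d0b0633e44))) (BT.leaf (Bx.mk (nat_lit 0x831e062c18f02120c78089063c004831dfe3418eff160c77e09063bdc8831dee2418ef70e0c77b0d063bd85831dea2c18ef5120c7790d063bc45831de22418eed220c7760f063bb06831dd62418ee91e0c7748d063ba42831dd02418ee7120c7730b063b984831dc82c18ee4120c77189063b841831dbe2c18edd160c76e09063b687831db22418ed8120c76b89063b584831da81418ed3160c76909063b447831d9e2418ece120c76689063b304831d882418ec2120c76009063af04831d764418ebb1a0c75c8d063ae02831d6c3c18eb5120c75a0d063ac88831d622418eb01a0c7578f063abc6831d5e0c18eae120c75689063ab05831d562418eaa160c75509063aa46831d502418ea7120c7530b063a945831d482418ea3120c7510d063a845831d420c18ea0160c74f8f063a7c6831d3e1c18e9f0a0c74e8b063a744831d343c18e9a1a0c74c89063a604831d2e2c18e94120c7490f063a486831d242c18e8f120c7470f063a386831d1c2c18e8d1e0c7468d063a2c4831d142c18e891e0c7448d063a241831d102418e851e0c7428b063a141831d082c18e84120c7418b063a0c4831d041c18e81220c740110639f05831cf82418e7a160c73c8b0639e03831cec2c18e75160c737890639b87831cdc3418e6e160c737030639b44831cd43c18e6a1a0c7350b0639a81831cd22418e68120c7338f0639984831cca3c18e651a0c7328b0639905831cc03418e5f120c72f0f0639786831cbc2c18e5d120c72c890639602831cae4418e561e0c72a0b0639484831c9e4418e4f0e0c726890639303831c962c18e4a160c7248f0639241831c902c18e46160c7228f0639105831c864418e43120c7210b0639004831c7e3c18e3e120c71e8b0638f05831c762c18e3b120c71d0b0638e84831c722c18e370a0c71b090638d83831c682418e33160c7190b0638c84831c623c18e30120c717890638b85831c5c2418e2c1e0c7158b0638a85831c542418e291e0c7148b0638a04831c4e3c18e271a0c7138b0638847831c422c18e1d120c70d890638644831c2e3418e15120c709890638407831c203418e10160c7080306383c4831c182418e091e0c7048d0638207831c103418e07120c6fe8b0637f07831bf82c18dfa160c6fc110637dc5831bec2c18df6120c6fa8b0637d44831be82c18df4120c6f98f0637c88831be41c18df20a0c6f8030637bc5831bdc2c18dee060c6f68f0637b45831bd62418de91e0c6f48d0637a41831bd03c18de81a0c6f3890637984831bcc0c18de51e0c6f2890637943)))) (BT.node (nat_lit 559) (BT.leaf (Bx.mk (nat_lit 0x832038341901c060c80c8f06406458320303c190181a0c80c0b06405c883202c2c19014160c8088d0640408832016441900a220c8049106401458320062419002160c8000b063ff07831ff83418ffc060c7fd11063fe86831fee4418ff01a0c7f791063fbc4831fdc2418fea160c7f40b063f987831fcc3418fe6160c7f289063f905831fc42418fe01e0c7f00b063f7c4831fbc3c18fde160c7ee89063f704831fb22418fd81e0c7ec0b063f5c7831fae3418fd7160c7eb09063f544831f9e2c18fce220c7e709063f307831f962c18fca160c7e48f063f185831f8a2c18fc5060c7e211063f107831f883418fc40e0c7e205063f0c7831f863418fc3160c7e10f063f086831f803418fc0160c7df11063ef07831f783418fbc060c7dd0f063ee85831f740c18fb8160c7dc09063edc5831f6e0c18fb41e0c7da0d063ed01831f623418fb0120c7d807063ea87831f543418faa060c7d489063ea05831f4e2418fa61e0c7d30d063e985831f4c0c18fa4160c7d209063e8c4831f443c18fa21a0c7d107063e882831f403c18f9c1e0c7ce0b063e6c4831f282418f931a0c7c98b063e484831f222418f8f120c7c709063e383831f183c18f8b160c7c589063e285831f142418f89220c7c48f063e246831f122418f890e0c7c40b063e1c5831f0c3c18f861a0c7c303063e148831f064418f82220c7be8b063df44831ef82c18f7c120c7bd8f063dec6831ef20c18f78120c7bb0b063dd47831eea2c18f75060c7b98f063dcc6831ee62c18f73060c7b90b063dc84831ed82418f6b160c7b509063da45831ed22418f681e0c7b28b063d887831ec22418f60160c7af89063d787831ebc1c18f5e0a0c7ae8b063d704831eb62c18f5b120c7ad0b063d684831eb02c18f57160c7ab89063d584831eaa2c18f541e0c7aa0d063d502831ea62c18f52120c7a88b063d444831e9c2418f4c160c7a50b063d281831e922c18f48120c7a38b063d184831e8a3c18f450a0c7a10f063d081831e802c18f40060c79e09063cec6831e722418f37220c79b0d063cd07831e683418f32160c7988f063cbc4831e5c2c18f2e120c7968f063cb46831e5a1c18f2c120c7958b063cac4831e543c18f2a1a0c79507063ca82831e522418f231e0c7918d063c8c1831e423c18f211a0c79083063c7c4831e3c2c18f1e120c78e8b063c744831e382418f16160c78b09063c545831e2a2418f14120c78989063c444831e203c18f101a0c7880b063c387831e102c18f061a0c7830b063c144831e083c18f041a0c7820b063c0c6))) (BT.leaf (Bx.mk (nat_lit 0x8321e22c190f1120c8780b0643bc38321da3c190ed1a0c876830643b058321d62c190eb120c8750f0643a848321d41c190ea0a0c8748b0643a078321d034190e61a0c8728b06439048321c644190e31a0c8718906438c38321c614190e11e0c8708d06437c88321be3c190df1a0c86f8706437878321bc34190de060c86e8906437038321b23c190d9160c86c0906435c88321ae1c190d6160c86a8b06435018321a644190d3160c8690b06434488321a23c190d0220c8680d064338483219a1c190cd0a0c8660b06433048321960c190ca1e0c8650d064328383219414190c71e0c8630506431458321883c190c2120c8608d064300583217e2c190bf120c85f0f0642f8683217c24190be0e0c85f050642f0783217834190bc060c85d8b0642e8483217244190b91e0c85c8d0642e4383216a3c190b51a0c85a830642d0483216644190b3120c859870642cc283216424190b11a0c8588b0642bc783215c24190ad220c856890642b048321522c190a9060c8540306429c683214c44190a51e0c8528d06429458321483c190a2120c8508b064284483214044190a01e0c8500d06427c483213c2c1909c1e0c84e03064268583213244190991e0c84c8d06426438321321419098220c84c0506425458321261c190901e0c8480d06423c3832116441908b1e0c8451106422868321122419085160c8428906421078321081c190840a0c84185064208783210434190810e0c8400f06420068320fa341907c160c83e090641ec58320f6241907a1e0c83d0d0641e838320f414190781a0c83a090641cc58320e62419072160c839090641c468320e21c190710a0c8380f0641c068320de2c1906f060c8370b0641b848320da441906d1e0c8368d0641b438320da141906c160c8358b0641a888320d43c1906a1a0c835070641a828320d23c190691a0c8348b06419c58320cc2c19066120c8328f06419468320ca1c190650a0c8318906418878320c43419062160c8308906418078320c03419060160c82f0906416c58320b43c1905a0a0c82b8d06415c58320ae0c19056220c82a0b06415048320a62c19052220c8290f06414868320a41c190520a0c8289106414468320a22c19050220c8270f064138583209c0c1904d220c82589064128883209234190461a0c8230306411058320882419043120c82111064108783208434190420e0c8210506410448320762c19037220c81b110640d458320682c190331e0c8190f0640c868320582419029120c8130b064078783203c341901e160c80f030640707))))))) (BT.node (nat_lit 568) (BT.node (nat_lit 564) (BT.node (nat_lit 562) (BT.node (nat_lit 561) (BT.leaf (Bx.mk (nat_lit 0x8323ec34191f6160c8fa890647d078323e82c191ee120c8f6890647a448323d024191e61e0c8f28d06478c58323c02c191e0060c8ed8906476858323b424191d9160c8ec0b06476048323ae44191d71e0c8eb8d06475c38323ae14191d6160c8ea0f06474c58323a02c191d0120c8e80306473c683239a44191cd120c8e60d06472c583239234191c9060c8e411064720483238e34191c7160c8e311064714783238a34191c5160c8e08f064700883238024191bf220c8df890646f068323742c191ba120c8dc890646e0883237024191b71a0c8d7890646b448323582c191ab220c8d50f0646a4883235224191a90e0c8d40f0646a0683234e2c191a6160c8d28f06468c583234624191a2120c8d00906467c783233e341919f0a0c8cf0f064678583233a3c1919d1a0c8ce8b06467088323322c19198160c8cc03064658483232a2c19192120c8c78f06463c683231a3c1918d1a0c8c6830646305832318241918c060c8c5890646286832314241918a0e0c8c50506462478323123419188220c8c40d06462048323101c191880a0c8c38d06461c583230a3419185160c8c20906460848323022c19180160c8bf8f0645f068322f6441917a1a0c8bc8b0645dc48322e82419173120c8b90f0645c828322e22c191701e0c8b80d0645b858322dc241916d1e0c8b6090645ac48322d43c19168160c8b4090645a018322ce2c19167120c8b30906459838322c83c191641a0c8b18d06458c58322c414191611e0c8b00b06458048322be441915f0e0c8af0f06457868322bc2c1915d1e0c8ae8b06457048322b23c19158160c8ab8b06455c48322ac44191561e0c8ab0d06455848322ac1c191560a0c8aa8b06455068322a62c19152160c8a789064538683229c1c1914e0a0c8a60906452888322903c19147120c8a28b06450c583228624191421e0c8a10706450828322823419141160c8a00f064500583227e2c1913e120c89e8b0644f448322782c1913b160c89d890644dc583226a3c191350e0c89a850644d0583226624191320e0c8978f0644b458322583c1912c1a0c895890644a8783225434191280a0c89303064494483224a14191221e0c8900f064480183223c441911b220c88c9106446478322303c19117220c88b8506445438322283c191141a0c8888b064444183222034191100e0c88805064434783221a0c1910c1e0c8860d06442078322101c191080a0c88391064418783220a2c19105120c8821106440c583220044190fc120c87a8b0643d088321e83c190f41a0c87a070643d02))) (BT.leaf (Bx.mk (nat_lit 0x8326662c19332120c99809064cbc583265e241932e120c9968b064ca888326461c19322120c9900b064c7c583263e241931d060c98d8b064c6c183262e4419316160c9890f064c48683261e241930c1a0c9848b064c20383260c2c19303060c9808f064c0418325fe2c192ff060c97f0d064bf838325fc14192fd160c97e0b064bf048325f644192fb1a0c97d87064be858325f02c192f8120c97a0b064bc088325da44192e81e0c9740d064ba058325ce3c192e71a0c9730b064b9478325ca34192e5120c97287064b9428325c43c192e21a0c97107064b8828325be44192dd220c96e11064b6c78325b634192db160c96c89064b5058325a80c192d3120c96983064b4878325a434192d20e0c96905064b44683259e34192cd220c9660b064b2848325883c192c41a0c9620b064af878325782c192b8160c95b8b064acc68325643c192b1120c95511064aa0483254c44192a6120c9500d064a78883253c241929c220c94e0b064a6c88325340c19298220c94c0d064a58183252a2419294160c94a09064a5018325262c19293120c94911064a4878325243419292120c94907064a48283252224192901a0c9480b064a3c483251c341928a120c9448f064a2468325122c19288160c94289064a1078325082c19281160c93e0d0649ec78324f224192781e0c93b8d0649dc58324ea3c19275060c939910649cc78324e624192730a0c9370f0649b868324da241926c120c935090649a088324d02419267220c9330906499458324c62c19262160c9308f06498468324c21c192610a0c9300d06497c58324bc2c1925d220c92e8f06497468324ba241925d0a0c92e0b06496838324b414192570e0c92b0b06495848324aa0c192541e0c92a0d064944583249e2c1924b120c9250f06492868324942c19246160c92309064914583248a0c192421e0c9210d06490858324803c192401a0c91f890648f448324783c1923a060c91c8f0648e4683246e3419237160c91b830648d8583246c24192341e0c91a050648c858324624419230160c918090648b84832456441922b120c915090648a4483245214192271a0c9121106488c78324463419222120c90f8906487848324382c1921b1e0c90d8d06486c383243614192191e0c90c8306485c783242e2c19217060c90a8906485068324262c19212060c9088b0648407832420341920f1e0c9078d06483c583241c241920d120c9050306482078324103419208060c9030b064814783240a3419205060c9021106481048324042419201160c8ff0d0647d87)))) (BT.node (nat_lit 563) (BT.leaf (Bx.mk (nat_lit 0x83282c2c19415160ca08110650404832820141940d120ca06850650305832816441940b0e0ca048f065024383280c2c19405120ca020f065010683280824194040e0ca020506500c58328044419402120ca008f06500458328002c193fd1e0c9fd8f064fec58327f43c193fa1a0c9fd0b064fdc78327ee34193f6120c9fa89064fd058327e824193f3160c9f989064fc858327e234193f0120c9f78b064fbc48327dc2c193ee120c9f60f064fb028327d024193e7120c9f089064f8058327bc24193dd160c9ed89064f6c38327b42c193d9160c9ec0b064f6048327ae3c193d5160c9ea89064f5058327a824193d31e0c9e98d064f4c38327a614193d2220c9e88d064f3c483279c2c193cd1e0c9e589064f2848327923c193c91a0c9e487064f20583278e2c193c7120c9e30f064f18683278c1c193c60a0c9e289064f10483278434193c2060c9e08b064f0418327802c193c0060c9df91064efc783277e34193bf120c9df87064efc28327762c193bb060c9dd11064ee8783277434193ba120c9dd07064ee8283277224193b81a0c9dc0b064edc483276c3c193b61a0c9db0b064ed0783276834193b4160c9d989064ec8483276224193b0120c9d583064ea8883275024193a71e0c9d38d064e9848327483c193a41a0c9d189064e84783274234193a1060c9cf83064e74883273a3c1939d1a0c9ce89064e74383273a141939c120c9cd8f064e6c583273224193990a0c9cc0f064e6068327302c193951a0c9ca83064e5058327263c19393160c9c983064e445832722241938c120c9c58f064e2858327122c19389120c9c40b064e14583270a2419384120c9c18f064e0418327002c1937e1e0c9bf0d064df858326fc0c1937a060c9bc0f064de068326ec3419376160c9ba8f064dd458326e82419372120c9b88d064dc048326de3c1936f1a0c9b78b064db858326da241936a060c9b489064da058326d02419367220c9b38f064d9c68326ce24193670e0c9b30d064d9058326c62c19362220c9b10d064d8838326c02c1935f220c9af8f064d7c68326be1c1935f0a0c9af0d064d7858326b43c1935a1a0c9ac0b064d5878326ac3419356160c9ab03064d4c68326a424193501e0c9a70f064d3458326982c1934c120c9a591064d2c7832696341934b0e0c9a585064d2858326923419349060c9a40b064d1c58326882419342220c9a091064d0448326802c19340120c99f89064cf858326763c1933b1a0c99d8b064ce468326722c193381a0c99c0b064cdc483266c3419336160c99a89064ccc7))) (BT.leaf (Bx.mk (nat_lit 0x832a3e341951f160ca8f0906546c3832a2e3c19515160ca8a0f0654506832a282c19513120ca890b0654445832a222419510160ca870f0654343832a183c1950c1a0ca85890654285832a142419509120ca840906541c7832a0e34195070a0ca820f0654105832a062c19501120ca80090653f078329f834194fa120ca7c8b0653e448329f02c194f8120ca7b8b0653dc48329ea2c194f4120ca770d0653ac78329d634194ea120ca748b06539c78329ce0c194e4160ca718b06538858329c024194df120ca6f0f06537868329bc1c194de0a0ca6e8b06537078329b81c194dc0a0ca6d8906536858329b224194d90e0ca6b8906535848329a61c194d1160ca680b06533c583299c2c194cd1e0ca6683065330783299624194ca1e0ca650d06532448329902c194c8120ca638b06531c483298c2c194c5160ca618f06530c583298434194c2160ca608b06530078329802c194bd1a0ca5e0b0652ec583297424194b9120ca5b8b0652d8683296c2c194b5160ca5a890652d0483296424194b1120ca580f0652c068329602c194af120ca570d0652b8583295a24194a9160ca518b06528c4832944241949f1e0ca4f8d06527878329382419498120ca4b0306525058329282419492220ca490f065248683292424194920e0ca490506523c58329183c1948a1e0ca450d065228583290e3c19486120ca428906521048329062419482160ca41090652045832902241947f160ca3f090651f048328f224194781e0ca3c0d0651e058328ee24194761e0ca3b0d0651d478328ea2c194741e0ca3a0b0651cc48328e23c194711a0ca378f0651bc58328d63c1946b1a0ca35830651a888328d4341946a120ca35070651a828328d22c19466160ca308f06518468328be2c1945f120ca2f0b06517848328b82c1945c120ca2d8906516858328b024194551a0ca2a0906514c48328a434194520a0ca280f06513c583289c2c1944d220ca268f065134683289a1c1944d0a0ca248f06511c58328882c194431a0ca218b0651085832882441943e1a0ca1f0b0650f0783287624194391e0ca1c090650dc483286c2c19436120ca1a890650d048328662c19431160ca18890650b8683285c0c1942a1e0ca150d0650a818328522c19429120ca140b0650a0483284e44194271e0ca138d06509c383284e14194261e0ca128906509058328463c194231a0ca118b0650884832842241941f1e0ca0f8b065078483283a3c1941d1a0ca0e0906506c78328362c1941a120ca0c8b06505c783282e3419417160ca0b0f0650586))))) (BT.node (nat_lit 566) (BT.node (nat_lit 565) (BT.leaf (Bx.mk (nat_lit 0x832c16441960b1e0cb058d0658287832c14341960a160cb038b06581c4832c0c2c196031a0cb008f0658008832c0024195fe120cafe090657e45832bec3c195f5160cafa0b0657d04832be624195f30a0caf88f0657c46832be02c195f0120caf70d0657b84832bdc1c195ee0a0caf68f0657b06832bd424195ea060caf48f0657a42832bce3c195e71a0caf38b0657946832bc844195e31a0caf18b0657848832bc044195dd160caed9106576c6832bb61c195db0a0caec0b0657604832bae3c195d71a0caeb850657541832ba82c195d4120cae98b0657487832ba434195d20e0cae90506573c4832b9c2c195ce120cae68f0657346832b983c195cc1a0cae58f06572c5832b943c195c6120cae2910657147832b8a34195c5120cae28706570c7832b8634195c3060cae10b0657045832b803c195c01a0cadf8f0656fc6832b7a44195bd120cade0f0656f06832b7624195ba220cadd090656e83832b7224195b81a0cadc0b0656dc7832b6e34195b60a0cada070656cc5832b6244195b1160cad8890656c08832b602c195af1e0cad7110656b86832b582c195ab1e0cad58d0656ac3832b5614195a9160cad4890656a41832b502c195a8120cad38f06569c6832b4e24195a70e0cad3850656947832b4a34195a5060cad20906568c4832b4614195a11e0cad08b06567c4832b382419596160caca110656507832b2414195911e0cac88d0656407832b20341958d120cac58f06562c6832b161c1958b0a0cac40f0656205832b0a3c19585160cac20b06560c5832b0624195820e0cac1050656045832b022419580160cabf910655fc7832afe341957f0e0cabf850655f85832afa3c1957d1a0cabe0b0655ec5832af4441957a120cabd070655e82832ae83419574160cab90f0655c82832ae22c19571120cab80b0655c04832ade3c1956d1a0cab58d0655ac5832ad42c19568120cab3890655984832ac83419564160cab1890655885832ac0241955d120caae0f0655705832ab6241955a1a0caad0b06555c4832aae0c195561a0caaa8d06554c4832a943c1954a1a0caa50b0655244832a903c195481a0caa40b06551c4832a8834195421e0caa10d0655044832a802c19540120ca9f890654f88832a7c241953d160ca9c0b0654d85832a6a1c195350a0ca988b0654c44832a602c19530120ca98030654bc7832a5e341952f0e0ca97850654b87832a5c341952e160ca968b0654b04832a56241952a120ca93090654907832a483419524160ca918f06548c6832a462c19522120ca90890654804))) (BT.leaf (Bx.mk (nat_lit 0x832e661419732160cb988f065cc45832e60241972f1e0cb978b065cb85832e583c1972c160cb9589065ca85832e5224197261e0cb930b065c944832e482c19722160cb908b065c844832e420c197201e0cb900d065c787832e3c341971e160cb8f03065c707832e383419719120cb8b8f065c585832e2a3c197150e0cb8a0b065c448832e20441970f120cb8709065c304832e162c1970b120cb8511065c284832e141c19709160cb840b065c1c4832e062c19703120cb810b065c004832dfc3c196fe1a0cb7e0f065bf06832df424196f9120cb7b0f065bd86832dea3c196f51a0cb7a8b065bc85832de424196f1160cb7889065bc05832de024196ef160cb7789065bb85832dda3c196ed1a0cb768b065bb41832dd82c196eb1e0cb758b065bac1832dd424196e9160cb7291065b944832dc83c196e41a0cb720b065b8c4832dc43c196e21a0cb710b065b844832db83c196dc060cb6d8b065b6c4832db42c196da120cb6c8d065b586832daa24196d4160cb6a09065b4c8832da634196d3120cb6987065b4c2832da23c196d1160cb680b065b344832d982c196c90a0cb6409065b184832d8a24196c41e0cb6205065b0c7832d8634196c2160cb608b065b007832d8034196c00e0cb5f8b065af85832d783c196bc1a0cb5d0b065ae81832d7034196b8160cb5b0f065ad86832d683c196b41a0cb5a0b065ac85832d5e24196ae0a0cb5691065ab44832d5a1c196ac160cb558b065aac4832d542c196aa120cb538b065a9c4832d4a2c196a4160cb518f065a8c6832d461c196a30a0cb508d065a804832d3a241969c1a0cb4e07065a6c4832d3424196990a0cb4c0d065a5c5832d2c44196960e0cb4b05065a501832d243c196921a0cb480d065a405832d1c341968e160cb4587065a284832d0e2c19687120cb430b065a184832d082c19683120cb408f065a045832d00241967f1a0cb3f8b0659e84832ce444196720e0cb38910659bc8832cde241966e1e0cb370b0659b48832cd24419665160cb320b0659904832cc80c196631e0cb318d0659887832cc43419661120cb2f890659704832cb80c1965b160cb2d890659648832cb22419658160cb298f06594c6832c962c1964b120cb228f0659146832c8a0c19643120cb1d910658dc8832c68241962f1e0cb17110658b48832c543419629120cb110f0658886832c440c19620220cb100f0658804832c40141961d1e0cb0e8d0658745832c3a0c1961a120cb0a090658485832c242419611160cb08890658407832c2034196100e0cb08050658384)))) (BT.node (nat_lit 567) (BT.leaf (Bx.mk (nat_lit 0x832ff42c197fa120cbfd03065fe44832ff024197f61e0cbfb0b065fd44832fe83c197f0160cbf711065fb87832fdc1c197ee0a0cbf691065fb42832fd63c197eb1a0cbf509065f9c8832fce3c197e71a0cbf387065f9c2832fcc2c197e51e0cbf28d065f904832fc81c197e31e0cbf18d065f884832fc224197e00e0cbef89065f785832fba1c197dd0a0cbee0b065f645832fb02c197d7220cbeb8f065f5c6832fae1c197d70a0cbeb0b065f584832faa2c197d5120cbea11065f507832fa81c197d40a0cbe98b065f385832f9c24197cd160cbe611065f307832f9834197cc0e0cbe605065f2c4832f941c197c9160cbe20b065f0c5832f8624197c11e0cbe08d065f041832f802c197bf160cbdf89065ef86832f7c24197be0e0cbde0b065eec7832f7234197b9060cbdc09065edc8832f6e34197b7120cbdb87065edc2832f6c3c197b5120cbd983065ec87832f6434197b20e0cbd905065ec44832f5e24197af0e0cbd609065ea44832f4e3c197a6120cbd28f065e946832f403c197a01a0cbd009065e803832f3a2c1979d120cbce0b065e701832f36441979b1e0cbcd8d065e6c3832f3614197991a0cbcc8b065e607832f2e2c19797120cbc98d065e4c1832f242c19791220cbc88d065e444832f221c197910a0cbc78f065e3c6832f1c1c1978d1e0cbc68d065e305832f18241978b120cbc50b065e284832f1234197890e0cbc40b065e204832f0e24197861e0cbc30d065e182832f0a2c19784160cbc18f065e0c6832f061c197830a0cbc08b065e007832f0034197800e0cbc005065dfc5832efe241977e120cbbe91065df46832efa1c1977d0a0cbbe0b065df04832ef62c1977a220cbbd0f065de86832ef41c1977a0a0cbbc8d065de45832ef02c19778120cbbb8b065dd88832eec3c197761a0cbbb07065dd82832ee63c197731a0cbb98b065dc87832ee43419772160cbb889065dbc5832edc3c1976e160cbb689065da05832ecc2419766060cbb28d065d907832ec83419763160cbb08d065d807832ec02c1975f0e0cbaf85065d785832ebc241975d160cbae83065d706832eb6241975a160cbaa07065d502832ea43c197521a0cba90b065d445832ea02c19750120cba78b065d3c4832e982c1974c060cba48b065d244832e902c19748060cba38f065d1c6832e8a24197441e0cba20d065d0c4832e80341973f160cb9f09065cf47832e7a341973d0e0cb9e85065cf07832e722c19738160cb9b8f065cdc6832e6e1c197370a0cb9b0f065cd45832e682c19733220cb998f065ccc3))) (BT.leaf (Bx.mk (nat_lit 0x8331b61c198da160cc6c8b06636058331b00c198d71e0cc6b0d06635458331a62c198d2160cc6909066340583319e1c198ce160cc668d066334383319824198cb1a0cc658b06632878331942c198c8160cc640906631c483318c3c198c61a0cc630506631068331863c198c2060cc600d0662fc583317e24198be120cc5e850662f048331762c198bb120cc5d0d0662e8383317414198b8160cc5b8f0662dc683316e1c198b70a0cc5b0b0662d4283316824198b40e0cc598f0662cc58331642c198b1160cc58890662b8483315a2c198ab120cc55090662a4883314e34198a6120cc520f06629068331480c198a3220cc518906628848331403c198a01a0cc5005066274883313a1c1989d0a0cc4e0b06626478331323419899160cc4c0b066260483312c3c19896160cc4a89066250583312624198911a0cc488b06623c683311e2c1988e1e0cc470b0662288833114241988a0a0cc4489066220583310e2419886160cc430906620868330fe2c1987d160cc3e830661e858330f42419879160cc3c890661e058330ee2c19876160cc3b090661d448330e81c198721e0cc390d0661c858330e03c19870060cc37090661b818330da441986d1e0cc368d0661b438330da141986c1e0cc358b0661ac48330d60c1986a220cc350f0661a868330d4241986a0e0cc35050661a448330d03419868160cc338f06619c68330cc3c19865120cc310906618818330c22c19860220cc300d06618038330c0141985e1e0cc2f0b06617818330ba2c1985a160cc2c0b06616048330ae2419856160cc2a0b06615048330a62c1984b120cc248b06612088330903c198481a0cc2407066120283308e3c19847160cc22110661107833086441983e160cc1e0f0660ec78330762c1983b060cc1d0f0660e868330702419838060cc1b910660d4783306a0c19834120cc1a070660c4483305e2c1982f120cc170b0660b45833058341982c0a0cc148d0660a068330502c19827120cc130f066098683304c2c19822220cc1109066088283304044198200e0cc0f8b0660745833038441981c160cc0e0906606c7833034441981a1a0cc0c8b06606058330302419817220cc0b8f06605c683302e1c198170a0cc0b0b066054583302a24198141e0cc0a0d06605038330281419813160cc0989066048583302244198111e0cc088d06603c583301c2c1980c160cc058b0660287833014341980a0e0cc050506602468330122c198071e0cc038b06601058330062c19803120cc0003065ffc5832ffe0c197fe1e0cbfe8f065ff07)))))) (BT.node (nat_lit 572) (BT.node (nat_lit 570) (BT.node (nat_lit 569) (BT.leaf (Bx.mk (nat_lit 0x83338424199c11e0cce08d066700783338024199bf1a0ccdf890666f8583337a2c199bc220ccde0f0666f068333781c199bc0a0ccdc910666e468333721c199b90a0ccdb8f0666dc683336e0c199b6160ccda8b0666d4483336844199b41e0ccda0d0666d048333681c199b40a0ccd9090666c8283336024199b00e0ccd6890666ac583335444199a9160ccd40b06669c583334e0c199a6220ccd30f066698683334c14199a01e0ccd00d06667c483333c2c1999d160ccce110666707833338341999c120ccce0706667028333343c1999a1a0cccd0306666448333302c19997160cccb11066658783332c3419996120cccb07066658283332a2419993120ccc90d06664858333223c199911a0ccc809066634683331a2c1998c1a0ccc60b06661c58333082c19983160ccc18906660c18333043c199821a0ccc0070665fc58332f8241997b1e0ccbd8d0665ec18332f424199791e0ccbc110665dc58332e22419970160ccb7890665b878332dc2c1996d120ccb5890665a848332ce2c199661e0ccb30d06659058332c824199621e0ccb10d06658478332c2341995c1e0ccae0d06656c48332b42c19959120ccab0b06655068332a82c199531a0cca90f06654868332a22419950120cca78b06653c483329c241994d220cca68906653428332983c1994c1a0cca60b06652c88332961c1994a1e0cca50d06652858332922c199451e0cca28d06651048332862419942160cc9f8f0664fc683327c241993c160cc9e090664ec58332742c199391e0cc9c8d0664e458332720c19937120cc9a910664d058332602c1992f160cc96090664ac7833256341992a1e0cc950b066498783324a2419923120cc900d066478583323c0c1991d1e0cc8e8d066474483323a1c1991d0a0cc8d8f06646c68332342c19919160cc8c8906646088332303c199181a0cc8c0906646038332301419916060cc8a1106645078332283419914120cc8a07066450283322244199111a0cc8887066444283321e2c1990d220cc86890664342833218441990c0e0cc858b06642858332123c19906220cc828d066410483320624199000e0cc80050663fc58331fc2c198fb1e0cc7d8d0663ec38331f42c198f9160cc7c0f0663e068331f01c198f80a0cc7b0f0663d018331e624198f11e0cc788d0663c418331de2c198ef060cc76850663b058331d644198eb0e0cc750b0663a818331d03c198e71a0cc731106639478331ca2c198e4220cc718b06638458331c224198e0160cc700906637c58331ba2c198dd120cc6d9106636c4))) (BT.leaf (Bx.mk (nat_lit 0x8335642419ab1160cd568b066ab448335582419aab0e0cd5585066aa878335543419aaa160cd540f066aa068335500c19aa61a0cd5303066a9448335443c19aa1120cd500b066a7c483353c3c19a9e160cd4e8f066a7458335382419a97160cd4b0b066a58483352c0c19a951a0cd4a11066a4c48335242c19a91220cd4811066a40483351e0c19a8e120cd4689066a2c48335160c19a89220cd440b066a1c883350c2c19a84220cd4209066a0c88335004419a80120cd3e0b0669e448334f02c19a78120cd3b090669cc48334e42c19a71220cd38890669c078334e02c19a6e220cd37090669b488334d44419a65160cd310b06698448334c04419a601e0cd300d06698038334be2c19a5f060cd2f0b06697818334ba3c19a5b1a0cd2d0b06695c18334aa3c19a551a0cd2a8306695088334a82419a53220cd2989066940583349e2c19a4e220cd270d06693838334961c19a49160cd240b066920483348e3419a461e0cd2309066914883348a3419a45120cd220906690c88334862419a430a0cd200b0668f8883347c2c19a3d220cd1e8b0668f088334783c19a3b220cd1d8d0668ec483346e3419a370e0cd1a8b0668cc78334663419a330e0cd19850668c038334601419a2f060cd170f0668b8683345a4419a2d0a0cd160b0668a888334541c19a29160cd139106689c583344e2419a27060cd130b066898483344a3c19a251a0cd128306689078334482419a23220cd118d06688c48334443c19a221a0cd108b066880583343e4419a1f1e0cd0f8d06687c483343e1c19a1f0a0cd0e9106687428334382c19a19160cd0c0f06685458334282c19a13220cd098f06684c68334261c19a130a0cd081106684048334201419a0f160cd069106682c58334160c19a0a160cd050906682078334102419a071a0cd0389066818583340a2c19a04220cd020f06681068334081c19a040a0cd010b06680088334003c19a001a0cd000706680028333fa3c199fd1a0ccfd0f0667e838333f414199f9160ccfc0b0667e018333ee3c199f71a0ccfb870667d078333e834199f3160ccf90f0667c868333e424199f20e0ccf9050667c058333dc3c199ee1a0ccf7090667b838333dc14199ed1e0ccf68d0667b458333da0c199ec1a0ccf5890667a858333ce0c199e5160ccf19106678c68333c61c199e30a0ccf10b06678058333bc2c199dd220cced1106676828333b22c199d5160ccea8906675078333a634199d2160cce90906673c78333963c199cb160cce50906672478333922c199c7160cce30b06670c4)))) (BT.node (nat_lit 571) (BT.leaf (Bx.mk (nat_lit 0x8337404419b9d1e0cdce8d066e7418337363c19b9a1a0cdcc0b066e60483372e4419b971e0cdcb8d066e5c483372e1c19b970a0cdcb0f066e5078337283419b94120cdca07066e5028337262419b921e0cdc90b066e4468337222c19b90160cdc78b066e38583371a3c19b8d0e0cdc58d066e2488337122419b890e0cdc485066e20883370c2419b82160cdc08b066e0088337001419b7f160cdbd8d066de848336ee0c19b76120cdba8b066dd078336e80c19b731a0cdb98b066dbc48336dc1c19b6d160cdb609066dac58336d22419b680e0cdb389066d9878336cc3419b65120cdb20f066d8888336c42419b620a0cdb089066d8438336c03c19b60160cdaf8b066d7c48336bc2c19b5e120cdad8b066d6858336b40c19b59220cdac8f066d6468336b21c19b590a0cdac0f066d5858336ac2419b55220cdaa8f066d5468336aa2419b550e0cdaa85066d5078336a82c19b531e0cda98d066d4c58336a22c19b50160cda809066d3c483369e1419b491e0cda487066d24283368a3c19b450e0cda285066d1088336864419b421e0cda10d066d0858336822419b40160cd9f8b066cfc483367a2419b3c1a0cd9e0b066ce858336742419b36160cd998f066cc878336642c19b31120cd980f066cc0683365c2419b2d160cd9689066cb418336581c19b2a1a0cd9503066ca4483364e2419b26160cd9289066c9078336482c19b221a0cd910b066c7078336381c19b1c0a0cd8d8b066c6858336322c19b181e0cd8c0d066c60283362e4419b161e0cd8b0b066c5088336282419b140e0cd898b066c40683361e2c19b0e1a0cd8707066c3828336162c19b08120cd838b066c1c483360c2419b04220cd8209066c0438336002c19aff160cd7f89066bf878335f82c19af91e0cd7c83066be048335ee4419af7120cd7b0b066bd488335ea2419af50a0cd7a11066bd038335e42c19af1160cd780f066bb858335d62c19ae9120cd740f066ba068335d02c19ae7220cd7389066b9848335ca2c19ae5120cd720f066b9068335c62419ae1160cd7089066b7c58335be2419ade1a0cd6f07066b7828335ba2419adc120cd6d8d066b6c38335b61419ada120cd6c8b066b5878335ac3419ad51a0cd698f066b4c68335a60c19ad20e0cd688b066b40383359c3c19ace060cd660f066b3068335982c19acc060cd658b066b2848335940c19ac91a0cd6383066b14583358a0c19ac4160cd618b066b0458335822419ac0120cd5f8b066afc483357a2c19abc220cd5b89066ad8583356a3c19ab51a0cd5a83066acc5))) (BT.leaf (Bx.mk (nat_lit 0x8339183c19c8b1e0ce458d06722858339122c19c881e0ce440d06722048339101c19c880a0ce430b067214783390a3419c850a0ce420f06721068339062c19c80160ce3f8f0671f458338f83c19c7c1a0ce3e070671f028338f62c19c7a120ce3c0b0671d878338ec3419c76160ce398b0671c888338e43c19c721a0ce39070671c828338e23c19c711a0ce378f0671bc18338dc2c19c6d160ce36110671b078338d83419c6c120ce36070671b028338d63c19c6b1a0ce35090671a458338ce3c19c671a0ce328b06718878338c43419c60160ce2f8906717878338bc2c19c5c160ce2d8f06716848338b23c19c58120ce2b8b06715c48338ac2c19c56120ce2a8f06715078338a62419c501a0ce280706713c483389c3c19c4e160ce260b06712c78338963419c4b0a0ce238b067118183388a4419c451a0ce228706711428338882c19c421e0ce210d067100483387e3c19c3f1a0ce1f8b0670f4683387a2c19c3c120ce1c0b0670e048338700c19c371a0ce1a8f0670d4583386a0c19c34120ce190f0670c458338604419c301e0ce180d0670c0383385e4419c2d120ce16090670a4783384e2419c261a0ce120906708c48338423c19c211a0ce108b067080383383e3c19c1f1a0ce0f8b067078483383a2c19c19120ce0c0b067060483382e3c19c171a0ce0b8706705c283382c2c19c15120ce0a0b06703c483381a2419c0c1e0ce058b06700878338043419c02060ce000f06700068338000c19bff120cdfe89066ff078337f62c19bfa120cdfd07066fe828337f02c19bf61e0cdfb0d066fd818337e64419bf30e0cdf90f066fc458337e22419bf0160cdf809066fb488337da2419bed0a0cdf611066fa858337d23c19be7160cdf30f066f9868337cc1c19be60a0cdf28b066f9058337c63c19be31a0cdf10b066f8848337c03c19be01a0cdf007066f8028337ba3c19bdd1a0cdee87066f7428337b63c19bdb1a0cded09066f6458337ae4419bd7120cdeb87066f5858337aa3c19bd2060cde80b066f3c483379c1c19bcd1e0cde68d066f3458337963c19bcb0e0cde48b066f1448337862419bc11e0cde00b066efc783377e3419bbf120cddf87066efc283377c3c19bbd160cdde89066ef078337783419bbc120cdde07066ef028337762c19bba1e0cddd07066ee488337722419bb90a0cddc0d066ee0583376e2419bb21e0cdd88f066ec4683375e2c19bad1a0cdd683066eb048337562419baa120cdd48f066ea468337522c19ba8220cdd407066e9c583374c2c19ba5120cdd18d066e8c3))))) (BT.node (nat_lit 574) (BT.node (nat_lit 573) (BT.leaf (Bx.mk (nat_lit 0x833b0a2419d84160cec1910676087833b042c19d801e0cec00d0675fc4833afc2419d7d160cebe090675ec7833af23c19d79160cebc830675dc6833ae04419d70120ceb78b0675b84833ad83c19d6c1a0ceb50f0675a44833ad03419d68160ceb3890675984833ac03c19d601a0ceb00b0675801833abc3c19d5e1a0ceaf0b0675745833ab82c19d5b120cead0f0675685833ab23419d59160ceac0906755c4833aac3c19d561a0ceaa8b0675544833aa83419d54120ceaa070675502833aa61c19d530a0cea90d0675485833aa40c19d511e0cea8110675404833aa01c19d4d1e0cea59106752c4833a943c19d4a1a0cea50b0675244833a902419d47120cea00d0675005833a800c19d3f160ce9e8f0674f46833a7a2c19d3d060ce9d890674e85833a6e3419d36220ce9b050674d45833a682419d331e0ce99090674c45833a622419d2e160ce968f0674b46833a5a1c19d2d0a0ce96070674b02833a562c19d2b120ce95830674a85833a540c19d29220ce94870674a42833a4e0c19d26160ce93030674948833a4a3c19d251a0ce92870674942833a462c19d221a0ce910b0674845833a402419d1d160ce8e110674706833a382419d1c0e0ce8e0506746c5833a342c19d18120ce8b8b0674542833a262c19d13120ce89070674444833a203c19d10160ce870b0674384833a1a2419d0c120ce86030674245833a102c19d08120ce838b06741c4833a0c3c19d060e0ce830506740c8833a061419d001e0ce800d0673fc58339fa2c19cfc1e0ce7e070673e878339ee4419cf70e0ce7b0f0673d868339e63c19cf31a0ce79890673cc28339e24419cf1120ce780d0673b888339dc2419cee0a0ce76090673ac48339d42419cea0a0ce748f0673a048339ce2c19ce6220ce730f06739458339c62c19ce21e0ce710d06738838339c41419cde120ce6d1106736458339ae4419cd7120ce6b1106735848339a64419cd0160ce669106733058339943419cca160ce640b06731c583398e2419cc7060ce630f067318683398a2419cc4160ce61910672fc783397e3419cbf060ce5f090672f448339742419cb90e0ce5c090672e0283396c4419cb2160ce58910672c478339604419cb01a0ce58090672b458339583419caa220ce55090672a488339504419ca81e0ce528306729078339483419c9e220ce4f0b067278483393a4419c9c060ce4d9106726c78339362419c9a220ce4d0d06726848339302c19c970a0ce498b06724888339243c19c921a0ce490706724828339222c19c90160ce470b0672345))) (BT.leaf (Bx.mk (nat_lit 0x833d2c4419e95220cf4a89067a501833d264419e92220cf4811067a406833d201419e8f120cf470b067a342833d142c19e8a120cf448f067a243833d121419e88160cf4409067a1c5833d0e0c19e861e0cf430d067a148833cfe2419e7e060cf3e890679f08833cf82419e7b160cf3d0b0679e47833cf04419e76220cf3a8d0679d45833ce64419e73120cf39110679c47833ce23419e71060cf38090679bc4833cd64419e64160cf310b0679785833cbc2419e5d0e0cf2e850679705833cb62419e5a1a0cf2b890679544833ca63419e53060cf29090679444833c9e0c19e4e120cf26910679346833c9a2419e4d0e0cf249106791c4833c8a2419e3d220cf1d910678e85833c662c19e321e0cf180b0678c04833c5e2c19e2e1e0cf170d0678b47833c5a3419e2b060cf150d06789c3833c4c2c19e25160cf118f06788c4833c443419e22120cf108b0678805833c3e3c19e1e220cf0e910678743833c344419e1a160cf0d090678648833c322c19e181e0cf0c0d06785c7833c2e2419e16120cf0a070678445833c1e4419e0e1a0cf068b0678304833c144419e081e0cf038d0678102833c042c19e01160cf000b0677fc6833bfa2c19dfc220cefe0d0677ec6833bf44419dfa0a0cefc070677d48833bea2c19df4160cef9110677c87833be24419df11a0cef8890677c08833be01419dee220cef58b0677a88833bd43c19de9220cef40b06779c7833bce1419de4160cef18b0677888833bc43c19de21a0cef1050677846833bc02c19ddf220ceef8d06777c4833bbe1c19ddf0a0ceee0b06776c7833bb63419ddb0e0ceed850677686833bb03c19dd81a0ceec090677603833bb01419dd71e0ceeb8d0677507833ba83419dd40e0ceea0506774c7833ba63419dd30e0cee9850677485833ba04419dd01e0cee80d0677403833ba01419dcf160cee70b0677347833b9a3419dcd0e0cee6850677305833b963419dc91e0cee40506771c5833b883c19dc4060cee18b0677085833b823c19dbf120cedf830676f45833b764419dbb1e0cedd8d0676ec3833b761419dba1e0cedc8d0676e05833b702419db61e0cedb0b0676d06833b5a2c19dab220ced5890676ac3833b561419da91e0ced48d0676a43833b521419da51a0ced18b0676885833b423c19da1160cecf8d0676788833b3a2c19d99120cecc0b0676604833b2e3c19d96120ceca8f0676545833b282419d93120cec90f0676486833b222419d90120cec68f0676346833b1a0c19d8b1e0cec58b0676285833b103c19d861e0cec30d0676181)))) (BT.node (nat_lit 575) (BT.leaf (Bx.mk (nat_lit 0x833f7c3419fbd120cfde0d067ef05833f763c19fbb1a0cfdc8b067ee08833f703c19fb8120cfdc05067edc5833f6c3c19fb5160cfda11067ed07833f682419fb40a0cfd90f067ec86833f622419fb0120cfd591067e884833f402419f9f160cfcf11067e784833f3a3c19f9d160cfce0b067e6c8833f344419f99060cfcc11067e5c8833f2c1c19f960a0cfca8b067e505833f263c19f930e0cfc985067e488833f202c19f8a220cfc509067e248833f121419f880e0cfc291067e145833f0a2419f84220cfc20b067e104833f044419f821e0cfc109067e048833f023419f81120cfbf05067df07833ef83419f7b160cfbd89067de05833eea3c19f71160cfb791067dbc7833eda2419f6a1a0cfb40b067d985833eca1c19f611a0cfb00f067d804833ebe3419f5f120cfae8f067d585833eaa2419f54220cfa90f067d486833ea41c19f51160cfa78f067d3c1833e9c2419f4c160cfa40b067d187833e8c3419f46060cfa18b067d085833e840c19f40160cf9f89067cf07833e783419f3b120cf9d09067ce44833e6e2c19f36160cf9a8f067ccc4833e5e2c19f2e1a0cf9709067cac7833e563419f2b120cf9587067cac2833e542c19f29160cf9489067ca05833e4e4419f271e0cf938d067c9c3833e4e1419f261e0cf928b067c907833e483419f240e0cf9205067c8c5833e441c19f220a0cf908d067c845833e401419f1f1a0cf8f0b067c784833e3a2c19f19160cf8b0f067c586833e2a2419f14120cf8991067c448833e203c19f0e120cf868b067c305833e164419f0b1e0cf858d067c2c3833e161419f0a160cf8509067c243833e121419f081e0cf840d067c205833e082419f01220cf800b067bf85833dee4419ef5220cf7a0b067bc85833de42419ef0060cf778f067bb45833dd82c19ee8120cf7291067b944833dc64419ee3120cf7111067b884833dc22c19ee1120cf700b067b7c7833dbe3419edc220cf6e09067b6c5833db24419ed9120cf6c11067b604833dae0c19ed6220cf6b09067b548833daa2419ed3120cf690f067b3c5833d9c2c19ecd120cf658f067b284833d922419ec6160cf6291067b088833d7a1419ebb0e0cf5c09067adc5833d6e2419eb7060cf5b0f067ad48833d6a2419eb4120cf5a07067ac88833d642c19eb2120cf5889067ac07833d603419eb0060cf5791067abc4833d5c4419eae1a0cf5709067ab42833d502c19ea7220cf538b067a988833d4c3c19ea5220cf5211067a902833d462c19ea20e0cf4f11067a785833d383c19e9b220cf4d11067a608))) (BT.leaf (Bx.mk (nat_lit 0x8975d23c4bae91a25d748912eba438975d2144bae81225d738912eb9448975c8244bae31225d708d12eb8078975c0344bae01625d6f0b12eb7478975ba344badd1625d6e8312eb54789759e2c4bacd1225d658b12eb2858975902c4bac71e25d638d12eb1c589758e0c4bac61225d608312eb00589757e244babd1625d5e0b12eadc589756e244bab70625d5b0b12ead8489756a444bab51e25d5a8d12ead4489756a1c4bab50a25d5a0b12ead018975662c4bab31225d590b12eac84897562444bab11225d588712eac428975603c4bab00a25d578f12eabc689755a2c4baad1225d560b12eab048975543c4baaa1a25d550b12eaa4489754a3c4baa51a25d528b12ea9418975423c4baa11a25d508b12ea7c489753a3c4ba9d1625d4d8b12ea6888975343c4ba9a1225d4d0712ea6828975303c4ba981a25d4c0b12ea60189752e244ba961225d490b12ea408897520244ba900a25d478d12ea3c589751c2c4ba8e1225d468b12ea3448975123c4ba891a25d448b12ea107897508344ba841625d419112ea0c7897506344ba831625d410b12ea0818974fe344ba7e2225d3f0f12e9f868974fc1c4ba7e0a25d3e0f12e9f058974f62c4ba7a1a25d3d0b12e9e448974f03c4ba781a25d3b8b12e9d848974e8244ba731e25d398d12e9cc58974e43c4ba721a25d390b12e9b078974d82c4ba6b1225d350b12e9a448974d03c4ba681625d338f12e99c68974cc344ba651225d320d12e99058974c6244ba621225d2f0912e97478974ba344ba5d1625d2e0d12e96c78974b6344ba582225d2c0912e95848974aa3c4ba551a25d2a0912e94c58974a03c4ba501a25d280b12e93c489749c2c4ba4e1225d270712e93468974983c4ba4c1a25d260b12e92c48974943c4ba4a1a25d240f12e920683402e441a00e220d006910680308834016441a00b120d00509068020683400e2c1a0061a0d00309068018383400c141a0051a0d0020f0680106834008241a0040e0d0018f06800c58340022c1a0001e0cfff0b067ff47833ffa1c19ffb1a0cffd09067fe46833ff02419ff51a0cff90f067fc86833fe02c19ff0120cff803067fb84833fda3c19fec0a0cff58f067fac6833fd23c19fe7120cff203067f8c5833fc44419fe21e0cff10d067f884833fc22c19fde120cfed0d067f5c7833fac2419fd51e0cfea8d067f545833fa63c19fd31a0cfe98b067f484833fa21c19fca160cfe491067f247833f923419fc8120cfe38f067f1c6833f8e2c19fc4120cfe109067f047833f823419fc0120cfdf8f067efc5))))))))) (BT.node (nat_lit 608) (BT.node (nat_lit 592) (BT.node (nat_lit 584) (BT.node (nat_lit 580) (BT.node (nat_lit 578) (BT.node (nat_lit 577) (BT.leaf (Bx.mk (nat_lit 0x897790244bbc80e25de40512ef1c589778a444bbc51625de28912ef106897788244bbc21625de10912ef081897782444bbc11625de08912ef008897780344bbc00e25de00512eef8789777c344bbbe1625dde8912eef05897778244bbbb1225ddd0912eee4489776e344bbb71625ddb8312eed8589776a0c4bbb11225dd80f12eec0589775c3c4bbac1e25dd60312eeac88977563c4bbab1a25dd58712eeac28977502c4bba71625dd31112ee98689774a2c4bb9d1225dcc0f12ee6068977300c4bb971625dcb0312ee54889772a344bb951225dca8712ee542897728244bb931625dc91112ee485897724244bb920625dc89112ee447897722344bb911225dc88712ee4428977202c4bb901225dc78d12ee3c589771c244bb8e0625dc68b12ee308897718344bb8c0e25dc60512ee2c7897716344bb8b1625dc50912ee244897710244bb871225dc38312ee18489770a344bb831a25dc09112ee0448976fe2c4bb7f1225dbe8f12edf468976f82c4bb7c1225dbd0b12ede848976f03c4bb781a25dbc0312eddc58976ee244bb762225dbb0f12edd868976ec244bb760e25dbb0512edd458976e83c4bb741a25dba0b12edcc78976e6344bb731625db90b12edc488976d83c4bb6c1a25db60b12edac78976d62c4bb691e25db48312eda088976d03c4bb681a25db40912eda038976ce2c4bb670625db30f12ed9868976cc2c4bb660625db20b12ed9048976c4344bb601e25db00d12ed8058976be244bb5e1e25daf0b12ed7448976b8244bb591225dac0b12ed5c48976ac2c4bb551225da99112ed4c48976a4244bb511225da81112ed3c789769e344bb4f1625da70912ed347897698244bb4a1225da48912ed20889768e344bb461625da28b12ed104897686244bb411a25da00912ecfc589767c0c4bb3d1e25d9e8d12ecf45897678444bb3b1a25d9d0912ecd078976682c4bb321225d978912ecb85897658244bb2b1225d950b12eca468976521c4bb290a25d930912ec94789764a344bb251625d918f12ec8c68976460c4bb221225d908912ec7c789763e344bb1f0625d8f0912ec74489762c244bb141225d898f12ec4c68976262c4bb111225d880f12ec4068976202c4bb0b1625d858912ec2858976103c4bb081625d838912ec18789760c344bb061625d828b12ec1018976063c4bb031a25d818b12ec047897602344bb001225d7f8912ebf878975fc344bafc1a25d7d0312ebd458975e8444baf41e25d7a0d12ebd048975e81c4baf40a25d798b12ebc448975e0244baeb1a25d750912eba48))) (BT.leaf (Bx.mk (nat_lit 0x897958144bcaa1e25e550d12f2a44897950244bca71225e530d12f28c5897944444bca21e25e510d12f2883897944144bca11225e4f8912f278689793c2c4bc9d1225e4d8912f26048979300c4bc961625e4a8312f25088979283c4bc941a25e4a0b12f24c4897924244bc8e1625e470912f2307897918344bc8a1225e440912f21c689790e144bc851225e428312f21048979023c4bc811a25e408b12f2005897900244bc7f1625e3f0912f1f448978f60c4bc7a1625e3c9112f1e478978f2344bc790e25e3c8512f1dc78978ec2c4bc751625e3a1112f1d078978e8344bc741225e3a0712f1d028978e62c4bc721a25e380f12f1c068978e02c4bc700625e378912f1b868978da244bc6c1e25e360d12f19c48978cc3c4bc661a25e328f12f19468978ca2c4bc621625e309112f18468978c2244bc610a25e300912f17478978ba244bc5d0e25e2e8512f16c78978b6344bc5b0625e2d0b12f16458978b0244bc541625e298f12f14c68978a62c4bc521e25e290d12f14858978a40c4bc510625e278912f138789789c344bc4e1625e268912f1207897890344bc481625e238912f118489788a244bc431225e218512f1085897882244bc401625e1f8912f0f8589787a3c4bc3d1a25e1e8b12f0f418978783c4bc3c1a25e1e0b12f0ec8897876244bc3b0a25e1d0f12f0e868978742c4bc391e25e1c8d12f0e45897870244bc371225e1b0912f0d4889786a244bc341e25e1a0d12f0d058978663c4bc331a25e190912f0c828978603c4bc301a25e180b12f0bc589785e244bc2a1e25e150d12f09c589784c2c4bc261225e128b12f09068978482c4bc231225e110f12f08868978441c4bc220a25e108912f080289783c244bc1d1e25e0e8d12f07048978363c4bc1a1625e0c8b12f0644897830244bc171225e0b0b12f05848978280c4bc131225e090912f04468978222c4bc102225e080912f03c689781e2c4bc0d1625e068912f0245897812244bc081225e038912f01858978063c4bc031a25e008912f0005897800244bbff1225dfe0512efe888977f4244bbf91625dfb8f12efdc68977ea3c4bbf51a25dfa8312efd058977e80c4bbed1225df60b12efac78977d6344bbea1225df48912ef9848977cc1c4bbe40625df10d12ef8048977c00c4bbde1225ded8912ef6888977b40c4bbd91625dec1112ef6078977b0344bbd80e25dec0512ef5c58977ac444bbd61e25deb0b12ef5448977a4244bbcc1225de60312ef2c4897794444bbca1625de50912ef2818977922c4bbc90625de40f12ef206)))) (BT.node (nat_lit 579) (BT.leaf (Bx.mk (nat_lit 0x897b022c4bd801e25ebf8b12f5f85897afa444bd7d1e25ebe8d12f5f44897afa1c4bd7d0a25ebe0f12f5f06897af63c4bd7b0625ebc8f12f5e46897af0444bd781225ebb8f12f5d84897aea2c4bd732225eb98912f5cc3897ae6144bd721625eb90912f5c45897ae0444bd701225eb80512f5bc7897ade2c4bd6a1625eb48912f5a07897ad0344bd681225eb40712f5a02897acc344bd652225eb28912f58c7897ac2444bd611e25eb08d12f5844897ac21c4bd610a25eb00b12f57c4897ab6244bd5a1a25ead0b12f5644897ab02c4bd581225eab8b12f5584897aa83c4bd541a25eaa0b12f5501897aa62c4bd521e25ea90d12f5445897aa2244bd4f1e25ea78d12f5384897a9a244bd471e25ea38d12f51c5897a8e0c4bd461225ea28912f5143897a861c4bd430a25ea00b12f4fc7897a7e344bd3f0e25e9f8512f4f85897a7c0c4bd3d1625e9d8d12f4e47897a72344bd391625e9c0d12f4dc7897a6e344bd371625e9a8b12f4d05897a68244bd331e25e998d12f4cc5897a660c4bd321625e990912f4c07897a60144bd2f0625e960f12f4b06897a54244bd262225e930f12f4984897a4c144bd240625e918b12f48c4897a44444bd221e25e910d12f4883897a44144bd201e25e900d12f4805897a400c4bd1e1e25e8e8b12f4744897a3a0c4bd171a25e8b8b12f45c1897a283c4bd141a25e8a0b12f4501897a260c4bd101225e860912f4287897a14344bd091225e820912f40c4897a023c4bd011625e800912f3fc58979fc2c4bcfd1625e7e8912f3f078979f8344bcfc0e25e7e0512f3e478979ee244bcf61225e7a0b12f3d048979e62c4bcf21e25e790d12f3c858979e22c4bcf01a25e778912f3bc38979dc244bcec1e25e760d12f3b058979d4244bce72225e738912f39878979cc344bce41e25e700b12f38048979be2c4bcdf1225e6f0b12f36c78979b4244bcd91a25e6c8b12f36048979ae244bcd61a25e6a8912f34c48979a4244bcd11e25e680d12f340189799e3c4bccf1a25e678312f338589799c244bccd1625e668912f32c489798e3c4bcc71a25e638b12f3107897988344bcc40625e618b12f3085897982444bcc11a25e608912f304389797e2c4bcbe2225e5f0912f2f8389797a3c4bcbd1a25e5e8b12f2e8489796e3c4bcb71a25e5b8b12f2d8589796c244bcb42225e5a0b12f2cc88979662c4bcb31225e588b12f2c44897960244bcaf2225e578912f2bc389795e144bcae1225e568f12f2b4689795a244bcad0e25e568512f2b088979583c4bcac1a25e560912f2b03))) (BT.leaf (Bx.mk (nat_lit 0x897cf81c4be7c0a25f3e0312f9e87897cf4344be7a1625f3c8912f9e05897cee2c4be771225f3b0912f9d44897ce8244be711a25f380912f9bc6897cdc244be6d1625f361112f9b07897cd0244be671625f329112f9944897cc4244be601225f2f8912f9784897cb8244be5a1a25f2d0b12f9645897cb2244be581225f2b8912f9548897caa2c4be550e25f298912f9485897ca4244be4f1a25f268912f9301897c92244be490a25f240b12f91c7897c8e2c4be461225f220f12f9106897c82244be3d1225f1e0512f8ec4897c72244be381225f1b0912f8d45897c662c4be321e25f188912f8c04897c5e3c4be2f1a25f178712f8bc2897c5a244be2c1a25f160712f8b02897c563c4be2b1a25f158b12f8a84897c523c4be291a25f148b12f8a05897c50244be271225f130912f8944897c483c4be241a25f120b12f8901897c46244be222225f110912f8844897c40344be200e25f100312f8785897c3c244be1e0a25f0e8f12f8705897c380c4be1a1625f0a9112f8547897c2a344be150e25f0a8512f8485897c222c4be102225f080912f83c5897c1a444be0c2225f060912f8302897c162c4be0a1225f048b12f8205897c10244be071e25f038d12f81c3897c0a2c4be051225f018f12f80c6897c062c4be030625f010912f8044897bfe3c4bdff1625eff8312f7f84897bfa3c4bdfd1a25efe8b12f7f41897bf6244bdfa1225efc0f12f7e06897bee244bdf61225efa8912f7d06897be6244bdf11625ef88912f7c08897be03c4bdf01225ef80712f7c02897bdc2c4bdec1625ef58b12f7ac2897bd2244bde81a25ef40312f7845897bc02c4bdde1225eee8f12f7746897bba2c4bddb1e25eed8d12f7685897bb4244bdd91225eec0f12f7606897bae244bdd52225eea8912f7507897ba8344bdd41625ee90912f7444897ba0244bdcf1225ee70912f7345897b98244bdcb1625ee58912f7284897b92344bdc90a25ee38b12f7146897b882c4bdc31225ee00912f6f87897b7c2c4bdbd1625edd8f12f6ec6897b760c4bdba1225edc8912f6e04897b6e244bdb61e25eda8b12f6c44897b60444bdaf1e25ed78d12f6b85897b5c244bdad1225ed60912f6a44897b50244bda71e25ed38d12f6944897b44444bda21225ed08f12f6845897b40444bd9f1e25ecf8d12f67c5897b3a244bd9c1225ecd8912f6684897b323c4bd991625ecc0912f65c5897b2e244bd950625eca0f12f6503897b262c4bd920625ec80f12f6344897b12444bd881e25ec40b12f61c7897b0c244bd851225ec10b12f6084))))) (BT.node (nat_lit 582) (BT.node (nat_lit 581) (BT.leaf (Bx.mk (nat_lit 0x897e6c244bf341a25f9a0b12fccc4897e64244bf311a25f980912fcbc4897e5c244bf2d1e25f968d12fcb45897e58244bf2b1625f948f12fca46897e522c4bf281225f938f12fc9c5897e4e0c4bf261225f900912fc7c4897e3c3c4bf1e1a25f8f0b12fc644897e302c4bf152225f8a0912fc484897e223c4bf111a25f888b12fc407897e20344bf100625f870f12fc385897e183c4bf0c1a25f860b12fc2c7897e16344bf0b1625f858312fc287897e14344bf0a1625f850312fc204897e0a444bf051225f818912fc087897e040c4bf001225f7f8912fbf88897dfc3c4befd1225f7e0f12fbf06897df6344befa1225f7c8912fbdc4897dec3c4bef61a25f7b0b12fbd83897dec144bef51625f7a8712fbd41897de82c4bef41225f7a0712fbcc8897de6344bef31225f798712fbcc2897de42c4bef21225f790712fbc48897de22c4bef11225f788712fbc07897de02c4bef00e25f778f12fbbc2897ddc2c4beed1225f760d12fbb05897dd62c4beea1225f748b12fb9c7897dce344bee70e25f738512fb9c1897dcc244bee60e25f728b12fb944897dca1c4bee41225f720512fb8c7897dc6344bee31625f718712fb8c2897dc43c4bee21a25f710b12fb883897dc2444bee02225f700912fb7c6897dbe1c4bede1225f6d8912fb687897db03c4bed81a25f6c0b12fb601897dae244bed51e25f6a8d12fb545897daa144bed50625f6a1112fb503897da63c4bed31625f690912fb445897d9e244bece1225f650912fb282897d92244bec81e25f640b12fb1c5897d8e244bec61625f628f12fb105897d863c4bec21a25f608f12fafc3897d7c244bebd1225f5e0912faec4897d742c4beb82225f5c0f12fae06897d70244beb80e25f5c0512fadc7897d6e344beb71625f5b8512fad84897d6a3c4beb51a25f5a8b12fad08897d682c4beb31225f590b12fac44897d5e244beaf0625f570b12fab82897d582c4beab1e25f548f12faa46897d522c4bea90625f538912fa987897d4a3c4bea51a25f520912fa8c4897d443c4bea21a25f510912fa883897d423c4bea11625f500912fa787897d3c344be9e0625f4e8b12fa744897d3a1c4be9c2225f4e0d12fa704897d38144be9b1e25f4c0f12fa606897d300c4be971225f4a8f12fa4c4897d260c4be911e25f488912fa443897d22144be901225f478912fa385897d1c244be8d1225f460912fa303897d18144be8b1225f450f12fa1c4897d0a2c4be841225f418f12fa0c6897d062c4be801225f3f0b12f9f83897cfa2c4be7d0e25f3e0d12f9f04))) (BT.leaf (Bx.mk (nat_lit 0x89802a244c01412260080913003c489801c444c00d2226006891300341898018444c00b222600509130014889800a3c4c0051a260028713001428980083c4c00406260010b13000848980022c4c00112260008313000088980003c4bfff2225fff0912ffe44897ff0344bff81625ffc0512ffd86897fec1c4bff60a25ffa8f12ffd46897fea1c4bff50625ffa0b12ffd01897fe62c4bff22225ff90f12ffc86897fe4244bff20e25ff90512ffc45897fe21c4bff10625ff81112ffc05897fe0244bff00e25ff79112ffbc7897fde244bfef0e25ff78512ffb87897fdc2c4bfed1625ff60b12ffb04897fd62c4bfe91625ff40912ff9c5897fcc3c4bfe61a25ff30b12ff981897fca244bfe42225ff18f12ff8c6897fc62c4bfe11625ff00912ff784897fba2c4bfdc1225fed8912ff644897fb02c4bfd71e25feb8d12ff5c5897fac2c4bfd51225fea0912ff4c4897f9c344bfc91225fe40f12ff206897f8c244bfc12225fe08d12ff044897f821c4bfc10a25fdf8912fef47897f7a344bfbd1625fdd9112fee84897f70444bfb51e25fda0912fec45897f62244bfb01225fd70f12feb86897f58344bfab1225fd50912fe9c4897f4c244bfa51625fd18f12fe8c6897f46244bfa30e25fd18512fe884897f42244bf9e1e25fcf0d12fe785897f3c0c4bf9c1225fcd8d12fe604897f2e2c4bf941225fc98912fe487897f24344bf921625fc90312fe444897f20244bf8f1e25fc78d12fe3c5897f1e0c4bf8d1e25fc68312fe304897f123c4bf891a25fc48b12fe205897f0c3c4bf861a25fc28912fe104897f042c4bf801e25fc00d12fdfc4897efc244bf7d1225fbe0f12fdf06897ef4244bf791625fbc0b12fddc5897eec244bf741e25fba0d12fdd05897ee6244bf721225fb88d12fdc42897ee0244bf6f2225fb78912fdb47897eda344bf6d1625fb60f12fdb02897ed43c4bf6a1a25fb50b12fda83897ed40c4bf691a25fb48b12fda41897ed02c4bf681225fb30b12fd984897ec8444bf631a25fb18b12fd8c1897ec4244bf611a25fb08312fd807897ec0344bf601625fb00712fd7c7897ebe344bf5f1625fad0b12fd648897eb23c4bf591a25fac8512fd5c7897eac244bf551625faa1112fd507897ea8344bf541225faa0712fd4c5897ea23c4bf510625fa80912fd3c4897e98244bf4b1625fa58912fd288897e923c4bf482225fa40912fd1c6897e8e2c4bf441225fa18b12fd0c4897e84244bf411225fa00b12fcfc4897e7a2c4bf3d1225f9e0912fce84897e722c4bf371625f9b8912fcd88)))) (BT.node (nat_lit 583) (BT.leaf (Bx.mk (nat_lit 0x8981de244c0ee22260770f1303b868981dc244c0ee0e26076891303b048981d63c4c0eb1a260750f1303a868981d42c4c0e912260740913039048981c6444c0e3122606f8f13037c68981bc244c0dd122606e0b13037048981b6244c0da162606d0913036058981b0244c0d512260698b13034c48981a4244c0ce1e260670d130334789819a344c0cd16260661113033068981980c4c0cb22260658b13032888981943c4c0ca1a260650713032828981903c4c0c81a260640313031c889818e2c4c0c512260608f1302fc489817a3c4c0bd1a2605e831302f0489816c3c4c0b61a2605a891302d04898160244c0af12260550913029c489814c244c0a412260510d1302807898140344c0a0162604f0f13027448981383c4c09c1a2604e0b13026c7898136344c09b162604d0b13026848981322c4c098222604c0f1302604898130144c0971a2604b8b130258889812c244c0951e2604a8d13025048981202c4c09012260470f130238689811c2c4c08d22260468913023068981181c4c08a06260448b130224489810c2c4c08612260428913021048981042c4c0811e260408d13020458980fe3c4c07f1a2603f071301f458980f8444c07c1e2603e0d1301f048980f81c4c07b122603d091301d448980e6244c0721a26039091301c838980e2244c06f1226037831301b888980dc244c06c1a260360b1301ac48980d42c4c0691a260348b1301a038980cc444c06612260329113019058980c8244c0640e260318913018c38980c60c4c06222260310f13018848980c41c4c0620a260310313018478980c2344c06116260308513018048980bc3c4c05e1a2602f0b13017838980bc0c4c05d162602e8913017438980b8444c05c1e2602e0d13017058980b81c4c05c062602d8913016878980b42c4c0591e2602c8b13016048980ae2c4c057122602b0f13015478980aa344c05516260298b13014878980a4344c0501a2602789130138489809a444c04d1e260268913013438980983c4c04c16260259113012c4898096144c04a12260248913012048980901c4c0480a260240313011c689808a3c4c0451a26022831301107898088344c04406260218b1301085898082244c040122601f0b1300f44898078244c03a1e2601d0d1300e83898074144c039122601b0b1300d07898068344c0311226018091300a87898054344c02a0626014891300a08898050244c0280a26013891300987898048244c023222601189130088489803c244c01d1e2600e091300644898030244c0171e2600b8d13005c5))) (BT.leaf (Bx.mk (nat_lit 0x8983a23c4c1d11a260e78f13073c689839c244c1cd12260e60d1307248898392244c1c822260e28f130714689838a2c4c1c506260e2091307084898382244c1bf1e260df091306ec48983703c4c1b81a260dc031306dc489836c2c4c1b51a260da891306cc68983660c4c1b212260d88b1306c0489835e344c1ad1e260d68d1306b4589835a0c4c1ab1e260d489130698889834c244c1a012260cf891306787898336444c19b12260cd0f13066868983342c4c1991e260cc0b130660489832e3c4c1971a260cb8713065c289832c244c1931a260c90b130640689831e244c18e16260c68b13063088983183c4c18c1a260c6091306303898318144c18b16260c58913062878983103c4c1881a260c40b130620189830e2c4c1861e260c30d130618389830c0c4c18522260c28f13061448983083c4c1841a260c20b13061038983080c4c18312260c08f13060418983003c4c1801a260c00513060018982fc344c17e0a260bf031305f488982f8444c17c16260be051305ec88982f6244c17b0a260bd831305e428982f0244c17716260bb891305dc18982ec244c17522260ba8b1305d058982e6444c17316260b9831305c848982e22c4c17112260b8831305c048982e00c4c16f1e260b78d1305b478982da2c4c16d06260b6091305a888982d0244c1661a260b28f13059448982c8444c16312260ae8913056848982b2244c1581e260ac0d13055c58982ae244c15616260ab0313055478982aa244c1550e260aa0f13055058982a43c4c1521a260a88913053c789829e344c14e16260a68b1305281898286344c14112260a0091304fc48982743c4c13a162609c0f1304e068982702c4c137222609b8f1304dc689826e1c4c137062609b091304d45898268444c1341e2609a0d1304d048982681c4c1340a260990b1304c45898262244c13016260978b1304ac48982543c4c12a1626094891304a05898250244c1280e260940513049c889824e344c12712260938713049c289824c2c4c126122609307130494589824a244c1250e2609189130480489823e244c11e1a2608f0b130478389823a144c11b1a2608d8b13045c889822e3c4c116122608a8d13045068982281c4c1131a260898b13044c3898226144c11306260890b1304407898220344c11016260880713044028982200c4c10f1a260878713043c189821a3c4c10d1a2608609130418789820c344c10412260818f1304044898200244c0ff162607d111303e878981f4344c0fa0e2607c091303dc58981ec244c0f51a2607a091303cc6)))))) (BT.node (nat_lit 588) (BT.node (nat_lit 586) (BT.node (nat_lit 585) (BT.leaf (Bx.mk (nat_lit 0x8985343c4c29a162614c8b130a605898530244c2971e2614b8b130a58889852c3c4c2961a2614b0b130a58389852c144c296062614991130a4c5898526244c2930e2614983130a4888985242c4c2920e2614903130a405898520144c28f1e261478d130a38889851c3c4c28e0a261468f130a34689851a2c4c28d0a261460d130a2c7898516344c28b16261450b130a2848985140c4c2890e2614485130a2068985102c4c2871e261438d130a1c589850c3c4c2860e2614305130a14789850a344c28516261420b130a104898506244c28306261400f130a0068985002c4c27f122613f091309f478984fa344c27c1e2613e0d1309f058984f6244c27a122613c091309d878984ec344c276162613b031309d448984e82c4c2721e261390d1309c448984e0244c26d1626136891309b048984d80c4c26b1e261358d1309a868984d03c4c26712261330913099448984c8444c2641e261310f13098478984c2344c2610e261308513098418984be244c25e1a2612f0b13097058984b8244c25c0e2612d8f13096c68984b0344c258122612c0713096028984aa244c254162612a0313094c48984a60c4c25216261288913094438984a0244c24e22261270d130934789849a344c24c16261250f1309286898494244c24a0e261248f13092468984922c4c24812261238d13091c489848c244c24412261218f13090848984840c4c240122611f891308f8389847a344c23c1e2611e0d1308f05898476444c23b122611d871308e858984723c4c238162611c091308e0189846e344c2361e2611a8d1308d05898468244c2331626119891308c878984623c4c22f12261170d1308ac48984542c4c22a1226115031308a44898450344c22812261138f13089c689844e2c4c22612261128f130894689844a2c4c2231e261118d13086868984340c4c219122610c0313085c889842e3c4c2171a2610b071308504898426244c21212261080f130840689841c344c20d12261060913082068984082c4c2031e261018d13080c4898404244c20012260ff8f1307fc68983fe2c4c1ff06260fd891307e858983f2244c1f61e260fb0d1307d858983e83c4c1f41a260fa031307cc48983e4244c1f20a260f88b1307c448983e2144c1f00e260f78f1307bc18983dc244c1ed16260f60b1307b048983d63c4c1eb12260f5871307ac28983d4244c1e812260f38913079048983c6244c1e11e260f08b13077488983ba3c4c1dd1a260ee8913077438983b8244c1db12260ed0f13076868983b0244c1d412260e98d13074c5))) (BT.leaf (Bx.mk (nat_lit 0x8986320c4c318222618c0d130c545898628444c3141e2618a0d130c503898628144c313162618989130c4848986203c4c3101a2618789130c38589861c244c30e062618689130c3068986123c4c309062618409130c1c589860e244c306162618289130c104898606344c303162618009130bf868985fa2c4c2f5122617a09130bc488985e23c4c2f11a261788b130bc438985e0244c2f00a261778f130bbc68985de2c4c2ef0e2617785130bb878985dc344c2ee162617703130bb448985d8444c2ec122617607130bb018985d62c4c2eb0a2617511130ba858985d4244c2ea0e2617503130ba488985d22c4c2e9122617483130ba078985d0144c2e8062617391130b9c68985ce2c4c2e7122617309130b9488985ca3c4c2e5162617287130b9428985c8344c2e4062617191130b8c48985c42c4c2e122261708f130b8468985c2244c2e10e2617085130b8058985be3c4c2df1a2616f8b130b7c18985bc244c2dd222616e09130b6878985b4344c2da162616c0f130b6068985b02c4c2d61e2616b0d130b5458985a8444c2d41e2616a0d130b5038985a22c4c2d0162616791130b3c789859e344c2cf122616609130b207898590344c2c816261638b130b18489858a3c4c2c51a261628b130b1058985863c4c2c216261608b130b0088985803c4c2c01a2616005130afc489857c2c4c2bd1e2615e8d130aec48985742c4c2b9162615c83130ae07898570344c2b71e2615b8d130adc589856c444c2b61e2615b0d130ad8389856c144c2b6062615a91130ad4789856a344c2b50e2615a85130ad418985683c4c2b322261598f130acc28985660c4c2b222261590d130ac848985641c4c2b2062615891130ac45898562244c2b10e2615883130ac088985602c4c2b00e2615803130abc789855e344c2af162615787130abc289855e0c4c2ae1e261570d130ab8389855c144c2ae062615691130ab4789855a344c2ad122615687130ab048985580c4c2ab22261558f130aac6898556244c2ab0e2615585130aa87898554344c2aa16261548b130aa448985502c4c2a8122615391130a9c789854e344c2a7122615387130a9c289854c2c4c2a6122615303130a94589854a244c2a5062615207130a902898546444c2a30a2615109130a882898542444c2a11e2615089130a8428985402c4c2a0122614f91130a7c589853e1c4c29f0a2614f83130a78889853c144c29e062614e91130a74589853a1c4c29d0a2614e83130a7088985383c4c29c1a2614e07130a702898536444c29b1e2614d8d130a6c5)))) (BT.node (nat_lit 587) (BT.leaf (Bx.mk (nat_lit 0x89872c3c4c3961a261cb09130e58389872c144c39606261ca91130e54589872a244c3950e261ca83130e5088987283c4c3941a261ca09130e503898728144c39406261c98b130e488898724344c39212261c907130e482898722444c3910e261c80b130e3c889871e2c4c38e22261c70b130e38489871a444c38d1e261c689130e341898718444c38c1a261c60b130e3048987180c4c38922261c40b130e1c589870c3c4c3861a261c28b130e1418987062c4c38212261c089130e0058986fa2c4c37d12261be11130df048986f6344c37b16261bd89130de888986f02c4c37806261bb8b130dd888986ec3c4c3761a261bb09130dd838986ec144c37506261ba03130dc058986de2c4c36e12261b68b130db048986d63c4c36b1a261b50f130da858986d2444c3681e261b40d130da058986ca244c36416261b203130d8c58986c6244c36306261b10f130d8868986c42c4c3611e261b08d130d8078986c0344c36006261af91130d7c78986be344c35f16261af89130d7888986bc344c35e16261af09130d7458986ba244c35c22261ae0b130d7028986b80c4c35b1e261ad8d130d6c28986b4344c35a16261ad03130d6488986b22c4c35912261ac83130d6078986b0344c35806261ab91130d5c78986ae244c35622261ab0d130d5858986ac244c35522261aa8b130d5448986aa0c4c35422261aa0f130d5018986a63c4c3531a261a98b130d4888986a42c4c35212261a903130d4478986a2344c35116261a809130d3c789869e344c34f16261a68f130d34689869a2c4c34d0e261a683130d304898696444c34b1e261a58d130d2c38986943c4c34a1a261a50b130d2448986901c4c3480a261a38f130d1c689868e2c4c3470e261a385130d1c189868c2c4c34612261a305130d18189868a2c4c34512261a285130d1418986883c4c3440a261a18d130d0c58986803c4c3401a261a005130cf8789867c344c33d122619e0f130cf068986782c4c33a1e2619d0b130ce448986703c4c337222619b09130cd4589866a244c332162619891130cc47898662344c331122619887130cc4289865e2c4c32e22261970d130cb8489865c1c4c32d1e261968d130cb4389865a144c32d06261950f130ca0589864e2c4c32622261930f130c98689864c244c3260e2619305130c9438986462c4c322162619109130c847898642344c320062618f8f130c7c689863e0c4c31e162618e8b130c7058986381c4c31c062618d8b130c6c3898634444c31a162618d09130c6838986340c4c3191e2618c8d130c642))) (BT.leaf (Bx.mk (nat_lit 0x8988ca2c4c46412262318913118048988be3c4c45f1a2622f8313117478988ba344c45d162622e8313116058988b0244c457162622b8913115848988aa244c4521a262280913113c489889c2c4c44b1e2622509131120589888e244c4461e262230d131118589888a2c4c444122622189131108589887e3c4c43f1a2621f0f1310f8689887c2c4c43d122621d8b1310ec4898874244c43a062621c8f1310e46898872144c4381e2621c0d1310e0589886e3c4c437162621b0b1310d018988640c4c4311226218111310c078988602c4c43006262170d1310b8589885a2c4c42d0e26216091310ac4898854344c42912262140f1310a06898850244c4280e262130913108c7898846344c42112262100513107c489883a2c4c41d122620c8f13106468988302c4c417122620b83131058689882a344c415162620a0f13104c88988262c4c41312262090b13104848988240c4c411122620789131038489881a444c40d1e262068d13103068988143c4c40a1a262050b13102468988122c4c4081e262038b131018889880c3c4c4061a262020f13100c68988062c4c4021226200891310007898800344c40012262000713100028987fe3c4c3ff1a261ff8b130ff828987fa3c4c3fd1a261fe8b130fec68987f2344c3f81e261fb0f130fd868987ea344c3f506261fa0b130fc468987e03c4c3f01a261f80b130fbc48987dc244c3e91a261f40f130f9c48987c62c4c3e11e261f009130f7878987bc344c3de06261ee11130f7078987b8344c3dc06261ed89130f6888987b4244c3da06261ec91130f6448987ae244c3d70e261eb85130f5888987ac244c3d412261e90f130f4868987a0244c3ce22261e709130f38189879a444c3cd12261e683130f307898798344c3cb1e261e58d130f2c18987922c4c3c822261e40b130f2048987900c4c3c71e261e383130f18889878c3c4c3c61a261e309130f14889878a344c3c516261e289130f1048987842c4c3c122261e00b130efc589877c244c3bc1e261de0b130ef01898776444c3bb16261dd89130ee47898772344c3b822261dc0d130edc48987682c4c3b412261d98f130ecc6898766144c3b206261d88b130ec448987620c4c3b016261d809130ec0189875e444c3ae1a261d70b130eb4789875a2c4c3ac12261d58b130eac48987542c4c3aa12261d503130ea448987521c4c3a90a261d40f130e9c789874e344c3a716261d309130e94889874a1c4c3a412261d111130e8078987383c4c39b12261cd09130e68189872e444c39716261cb87130e5c1))))) (BT.node (nat_lit 590) (BT.node (nat_lit 589) (BT.leaf (Bx.mk (nat_lit 0x898a90344c54612262a3051315144898a882c4c54312262a10d1315084898a841c4c5420a262a1031315047898a82344c540122629f8b1314f87898a7c344c53e122629f051314f48898a7a2c4c53b122629d0b1314e08898a70344c538062629b8b1314dc4898a6e0c4c536122629a0f1314cc4898a64244c5311a26298851314bc7898a5e344c52e1e262970d1314b07898a58344c52c16262958f1314a05898a50244c52806262930f13148c8898a46244c52216262908b1314808898a40244c520062628f8b13147c4898a3c3c4c51d222628e8f1314744898a38344c51b162628d891314686898a32344c519162628b891314587898a2c344c5141226289891314487898a242c4c51112262880913143c4898a1a344c50a1626283091314144898a06244c5021e262810d13140858989fc3c4c4fe1a2627e0f1313f068989f8144c4fb1e2627d871313ec28989f23c4c4f91a2627c831313dc78989ee2c4c4f412262778f1313bc68989de2c4c4ed1e262768d1313b418989d8244c4eb22262758d1313ac48989d61c4c4eb0a262750f1313a858989d23c4c4e91a262748b13139448989c43c4c4e21a262701113138078989c0344c4e012262700713138028989bc3c4c4de1a2626f0b13137838989bc0c4c4dc122626d8913136878989b4344c4d81e2626c0d13135848989aa244c4d41e2626a0b13135038989a8144c4d31e262698d13134c18989a4244c4d01e262680b131340189899c244c4cc1226265891313286898992244c4c812262638b13131078989842c4c4c122262608f1313046898982244c4c10e2625f8f1312fc18989783c4c4bc1a2625e0b1312ec4898972244c4b7122625a8f1312d458989683c4c4b41626259091312c44898960344c4b00a26257891312b858989582c4c4ab1a26255891312ac18989542c4c4a61e262528b13128878989403c4c49f1e2624f8d13127c589893c244c49c1e2624e0d1312705898936244c49a162624c8b13125c889892e3c4c4971a2624b83131258689892c2c4c496062624a8b13125088989220c4c4901e262478b1312384898918244c48b12262450f1312286898912244c48512262410b13120848988fe3c4c47f1a2623f871311fc28988fc2c4c47e122623e891311e878988f4344c47a162623c8b1311e448988f0244c4761e2623b0d1311d818988ea244c4731a26239831311c448988e20c4c46d1226236111311b078988d8344c46c1226236071311b028988d6244c46a1e262350d1311a468988d22c4c4681226233111311984))) (BT.leaf (Bx.mk (nat_lit 0x898c000c4c5ff12262ff0d1317f85898bfa244c5fb12262fc8d1317e41898bee344c5f616262fa8b1317d08898be83c4c5f41a262fa091317d03898be8144c5f31e262f9091317c07898be0344c5f016262f78f1317bc5898bdc344c5ec1e262f60d1317b02898bd62c4c5ea12262f40f1317a06898bce244c5e622262f2891317943898bc4444c5e216262f1091317846898bc0444c5df1a262ef891317704898bb63c4c5db1a262ed831317684898bb23c4c5d91a262ec871317642898bac244c5d606262ea911317546898ba6344c5d21e262e8091317403898b9e3c4c5cf16262e58b13172c4898b94244c5c91e262e48d1317244898b92144c5c316262e08f1317046898b822c4c5bf16262df891316f85898b78344c5bc16262de031316e84898b723c4c5b91a262dc831316e04898b6e2c4c5b712262db0b1316d84898b6a3c4c5b51a262d98f1316cc6898b662c4c5b306262d90b1316c84898b623c4c5b11a262d8871316c41898b603c4c5b016262d8091316c01898b5e244c5ae1a262d70b1316b81898b58244c5ac0e262d6031316ac4898b561c4c5ab06262d5091316a82898b522c4c5a90e262d3911316988898b4c2c4c5a60e262d2911316944898b4a1c4c5a506262d20d13168c6898b461c4c5a206262d08f1316846898b422c4c5a10a262d08313167c5898b3c344c59e0a262ce0f1316705898b38144c59c06262cd8913166c3898b34244c59912262cc0f1316606898b302c4c59612262ca911316547898b2a344c59512262ca871316542898b28244c5911e262c88d1316445898b1e2c4c58f12262c7851316385898b1c144c58d1a262c6851316341898b18244c58c0a262c5851316245898b121c4c5890a262c20913160c7898b06344c58316262c0091315f07898af6244c5790e262bb891315d85898ae83c4c5741a262b9891315c45898ade1c4c56f06262b70d1315b85898adc144c56d16262b6051315b01898ad41c4c56a0a262b5031315a44898ad21c4c56812262b30f1315986898acc2c4c56606262b19113158c7898ac6344c5630e262b1851315887898ac4344c56216262b08f1315846898ab63c4c55b1a262ad8b1315608898ab0344c55812262ac071315602898aae344c55616262ab091315583898aac144c55606262aa8f1315546898aaa1c4c55416262aa091315501898aa62c4c55312262a90f1315445898aa03c4c5501a262a8071315402898aa00c4c54f1a262a78b1315345898a9a244c54c16262a60913152c8898a96344c54a1a262a50b1315207)))) (BT.node (nat_lit 591) (BT.leaf (Bx.mk (nat_lit 0x898cec1c4c6760a2633b031319d48898cea2c4c6750e263388b1319c41898ce0444c6701e26338091319c02898cde244c66e1226337071319b47898cd8444c66a1e263350d1319a46898cd00c4c6671626333891319988898ccc3c4c6661a26333071319904898cc62c4c6631226331831319887898cc4344c66216263308f1319846898cc22c4c661062632f0f1319786898cbc2c4c65e062632e891319705898cb8244c65c062632d8b13196c4898cb4444c65a122632d051319647898cb2344c6581a2632c0b1319601898caa2c4c655122632a0b1319504898ca63c4c6531a26329111319487898ca4344c6521626328111319407898ca0344c6500e263280513193c8898c9e1c4c64f0a263260d13192c8898c92344c64816263240513191c8898c8e344c64712263238713191c2898c8c444c6461e26323071319182898c8a1c4c64422263220b13190c8898c862c4c6431226321111319087898c84344c6421626321091319081898c82444c6411e263208d1319045898c82244c6410626320031318f85898c7a444c63d1e2631e8d1318f44898c7a1c4c63d0a2631d8f1318e05898c6e444c6371e2631b8d1318d84898c64244c6302226318091318c03898c60144c62e16263158b1318ac4898c561c4c62b0a26315831318a85898c54244c62a0a26314911318a47898c521c4c6290a263140f1318a06898c501c4c62716263130f1318986898c4c244c6260e26313051318948898c4a3c4c6251a26312891318943898c4a144c6241626312091318903898c463c4c6231a263118b13188c2898c442c4c6211626310871318805898c40244c6200e2630f8f13187c6898c3e1c4c61f0a2630f0b1318784898c3c0c4c61d222630e8f1318746898c3a1c4c61d0a2630e0f1318706898c381c4c61c0a2630d8f13186c5898c343c4c61a1a2630c911318646898c321c4c619062630c111318607898c30344c618162630c0313185c7898c2e344c617162630b871318585898c2c244c615162630a0b1318501898c26444c6131e263098d13184c5898c261c4c61306263090b1318484898c241c4c6120a263088b1318444898c221c4c61106263080f1318406898c201c4c6100a263080313183c7898c1e344c60f16263078513183c1898c1c344c60d12263060f1318306898c182c4c60b22263058d13182c5898c161c4c60b0626305091318247898c12344c6091626304871318242898c10244c6041e263020513180c7898c043c4c6021a26301091318048898c022c4c6011226300111318005))) (BT.leaf (Bx.mk (nat_lit 0x898dc2244c6e01e263700d131b805898dbc3c4c6dc162636d0d131b685898db22c4c6d8162636b0b131b581898daa2c4c6d41e2636a0d131b505898da63c4c6d112263670f131b386898d9c2c4c6ce062636689131b305898d98244c6ca16263648b131b241898d902c4c6c812263638b131b0c6898d860c4c6c11e263608d131b045898d7e444c6bf1e2635f8d131afc3898d7e144c6bf062635f0f131af86898d7c2c4c6be0e2635f05131af81898d7a444c6bd1e2635e8d131af43898d7a144c6bd062635e11131af02898d76344c6ba162635d09131ae81898d72444c6b91a2635c89131ae42898d70444c6b81e2635c09131adc7898d6e344c6b7162635b11131ad86898d6c1c4c6b6062635a8b131ad44898d6a1c4c6b50a2635a83131ad08898d68244c6b40a2635a03131acc8898d662c4c6b306263590b131ac81898d622c4c6b1122635811131ac05898d60244c6b006263578f131abc6898d5e0c4c6ae222635709131ab48898d5a344c6ad12263560b131ab04898d58144c6ac06263558f131aac6898d562c4c6aa1a263550b131aa82898d523c4c6a91a263548b131aa05898d501c4c6a80a2635403131a9c5898d4e244c6a70e2635385131a9c1898d4c444c6a61a263530b131a982898d4a444c6a5162635289131a943898d4a0c4c6a41e263520d131a903898d48144c6a4062635191131a8c5898d460c4c6a222263510b131a881898d42444c6a1122635011131a806898d40244c69f162634f89131a788898d3c2c4c69e122634e91131a745898d3a244c69d062634e11131a707898d38344c69c122634e07131a702898d363c4c69b1a2634d8b131a687898d34344c69a162634d03131a645898d32244c6990e2634c11131a607898d30344c698122634c05131a5c5898d2e244c6961e2634b0d131a585898d26444c6931e263498d131a4c3898d26144c6911e263488d131a401898d1e2c4c68e1e263470d131a385898d1a444c68d1e263468d131a345898d1a1c4c68d0a2634683131a305898d18244c68c0a263458b131a2c2898d14344c68a16263448d131a245898d103c4c6881a263440b131a1c4898d0c444c6861e263430d131a183898d0c144c685162634283131a105898d08244c68406263418f131a0c6898d061c4c6830a263410f131a086898d002c4c680062633f911319fc4898cfc444c67e1e2633f0d1319f83898cfa3c4c67d1a2633e8b1319f04898cf80c4c67a122633c8f1319e46898cf22c4c677222633b8b1319dc3898cee144c676222633b0b1319d84))))))) (BT.node (nat_lit 600) (BT.node (nat_lit 596) (BT.node (nat_lit 594) (BT.node (nat_lit 593) (BT.leaf (Bx.mk (nat_lit 0x898ef4144c7791e263bc09131ddc4898eec3c4c77612263ba8b131dd44898eea1c4c7750a263ba0f131dcc4898ee23c4c77106263b80b131dc04898ede244c76f0e263b783131db47898eda344c76c1a263b58f131dac6898ed4444c76a16263b509131da45898ed2244c76822263b40d131da04898ed01c4c7680a263b38f131d9c6898ece2c4c7661e263b30d131d985898eca244c76412263b18f131d8c4898ec41c4c7601e263b00d131d7c6898ebe2c4c75c1e263ae0d131d701898eb4244c7571e263ab0f131d581898eaa444c75516263aa89131d543898eaa144c75506263aa11131d505898ea81c4c7540a263a98f131d4c6898ea62c4c7530e263a909131d481898ea23c4c7501e263a80b131d401898e9e2c4c74f0a263a70f131d386898e9c1c4c74e0a263a68f131d346898e9a1c4c74d0a263a683131d306898e980c4c74b22263a58f131d2c6898e961c4c74b0a263a511131d285898e94144c74922263a48b131d242898e920c4c74822263a40f131d206898e90244c7480e263a405131d201898e8e2c4c74712263a30b131d184898e8c0c4c7451e263a28d131d144898e8a1c4c7450a263a211131d107898e88344c74416263a18f131d0c6898e862c4c74306263a10f131d086898e842c4c74206263a087131d004898e800c4c73f1e2639f8d131cfc4898e7e1c4c73e0a2639e8f131cf46898e7a2c4c73d0e2639e85131cf41898e782c4c73c122639d8b131cec4898e760c4c7391e2639c8d131ce45898e6e3c4c7361e2639b0d131cd85898e6a3c4c7351a2639a09131ccc7898e66344c733162639911131cc05898e60244c73006263978b131cb87898e5c344c72c1e263960d131cb05898e580c4c72b16263950b131ca84898e52344c729162639485131ca05898e50144c7271e263938d131c9c3898e4e0c4c7261e263918d131c808898e403c4c7201a2639007131c802898e3c3c4c71d222638e8b131c707898e38344c71c062638d91131c6c7898e36244c71a222638d0d131c685898e34244c7171e2638b8b131c5c1898e2a2c4c715122638a0b131c4c4898e24244c711162638809131c387898e182c4c70c12263850f131c286898e122c4c7071e263830b131c147898e0a344c70412263800b131bf84898dfa344c6fc162637c91131bd87898dec2c4c6f41a2637983131bc85898de22c4c6f1122637811131bc06898de0244c6ee1a2637703131bb45898dda244c6ec22263760f131bb06898dd8244c6ec0e2637605131ba85898dd03c4c6e81a263740b131b984))) (BT.leaf (Bx.mk (nat_lit 0x8990c22c4c86106264300913217448990b83c4c855222642a8713215048990a6344c8501226427091321308899094244c84912264240913211c489908a2c4c844162642189132104489907c244c83e0a2641e8b1320f0489906c3c4c8361a264190b1320c44899060244c82d1e264168b1320b058990562c4c82a1626415051320a488990523c4c8291a26414871320a4289904e3c4c8271a2641383132098489904a244c8241e264120d1320887899044344c822062641089132080489903e2c4c81f062640f11132078489903c1c4c81e0a2640e911320742899036244c81a1a2640c8f13206468990322c4c815122640a0f1320506899024244c8112226406911320342899012244c8061e264030b1320145899008244c80312264000d131ffc6898ffe2c4c7fe1a263ff0b131ff83898ffc0c4c7fd1e263fe8d131ff45898ff82c4c7fc12263fe05131fec7898ff6344c7fb16263fd09131fe47898fee244c7f612263f90b131fc47898fe2344c7f116263f78d131fb48898fd8444c7eb22263f511131f9c4898fcc244c7e212263f009131f7c4898fbc344c7db16263ed11131f687898fb4344c7da16263ed05131f641898fb0444c7d81e263ec0d131f603898fb0144c7d71a263eb83131f548898faa344c7d512263ea0b131f4c7898fa6344c7d306263e90b131f445898fa20c4c7d012263e789131f384898f98244c7cb1a263e509131f244898f902c4c7c716263e311131f187898f8c344c7c612263e307131f182898f88144c7c316263e10b131f048898f82344c7c10a263df89131ef87898f7c344c7be16263df03131ef07898f782c4c7ba12263dc0f131ee06898f700c4c7b712263db0b131ed48898f6a244c7b50e263da85131ed06898f682c4c7b40a263da03131ec84898f623c4c7b11a263d88b131ec05898f5c2c4c7ac12263d58b131ea84898f52344c7a916263d389131e944898f46444c7a312263d183131e887898f44344c7a216263d105131e881898f422c4c79f1e263cf8d131e7c4898f3e144c79c16263ce09131e6c5898f36244c79a1e263cc89131e604898f2e244c7961e263ca8f131e546898f2a2c4c79416263c98b131e4c4898f260c4c7921a263c909131e483898f223c4c7911a263c80b131e404898f1e244c78f06263c70f131e386898f18244c78b1a263c58b131e286898f142c4c7881a263c38f131e184898f083c4c7841a263c20b131e101898f022c4c78112263bf89131df83898efc144c77d1e263be8b131dec6898ef43c4c77a1a263bd09131de83)))) (BT.node (nat_lit 595) (BT.leaf (Bx.mk (nat_lit 0x899270244c9371a2649b8b1324d428992663c4c93316264980b1324b8589925c244c92d16264958f1324ac68992562c4c92a1626495091324a44899250444c9280a264938f13249c589924c2c4c9251626492891324905899246244c92212264908f1324845899242144c91f1e2648f8d13247c589923c244c91c1a2648d8913246c1899234444c91a1a2648c8313245c489922a3c4c9151a2648a0913244888992243c4c9121a26489091324483899224144c911162648889132440489921e2c4c90d1e264859113242c4899212244c9081e264840d132420589920e3c4c9071a26483091324144899208244c9031226480111324007899200244c9000e26480051323fc48991fc244c8fd162647e891323f048991f23c4c8f91a2647c831323e058991f0244c8f6222647b091323d458991e42c4c8f21226478891323c088991e0144c8ef1e264778d1323bc58991dc2c4c8ee12264768b1323b448991d4244c8e912264740f1323a068991d02c4c8e612264720513238c78991c6344c8e316264708f13238458991be244c8dd1e2646e8b13237058991b62c4c8db062646d0b13236458991b0244c8d71e2646b8b13235458991a8244c8d21e264690d13234858991a41c4c8d11e264688d132340489919e2c4c8cf0a264670f132338689919c2c4c8ce06264668b1323342899198144c8cb222646589132328489918e3c4c8c71a264638713231c289918c444c8c61e2646309132318389918c144c8c516264618d1323084899180244c8bd1e2645e8d1322f04899176344c8b9122645c0f1322e068991702c4c8b7122645b0f1322d8689916c0c4c8b21e264590d1322c858991640c4c8b01e264580d1322c0589915c3c4c8ae1a264570b1322b048991523c4c8a91226454091322908899148244c8a11e2644f09132274789913a344c89c122644d9113226c58991342c4c8991e2644c8d13226418991302c4c898122644b89132258489912a2c4c8950a2644a0913224c4899124144c89116264488913224058991200c4c88e1e264470d132238589911c0c4c88d12264460f1322306899116344c88a12264440d132220589910e244c8851a264428b1322141899108244c8801a2643f0b1321f448990f8244c87c0a2643d0f1321e868990f2244c878122643b8b1321dc48990ec444c87612264398b1321c848990e23c4c8711a26437891321b458990d82c4c86c12264358d1321ac48990d6144c86a1e264350b1321a078990d0344c86816264338913219888990cc2c4c86512264320913218c4))) (BT.leaf (Bx.mk (nat_lit 0x8993be2c4c9de12264ee0f13277068993b6444c9db12264ec8913275c48993ac244c9d516264ea0913275018993a6444c9d31e264e98d13274848993a0344c9d016264e80313273c489939c2c4c9cd16264e60913272c7899396344c9cb16264e58513272c18993943c4c9ca1a264e50b1327282899392244c9c812264e38b132718389938c0c4c9c51e264e28d132714389938a144c9c506264e2111327107899388344c9c412264e20713271028993863c4c9c31a264e18b13270c28993860c4c9c216264e10913270828993840c4c9c10a264e00b1327004899380144c9c006264df0f1326f8689937c2c4c9be06264de0b1326ec7899376344c9ba1e264dd0d1326e858993703c4c9b81a264dc031326dc489936c3c4c9b61a264db0b1326d44899368244c9b40e264d9911326cc7899366344c9b312264d9871326cc28993660c4c9b212264d68b1326b4489935a1c4c9ad0a264d6111326b07899358344c9ac0e264d6051326a87899354344c9aa06264d4891326a06899350244c9a722264d389132698789934a244c9a412264d1891326887899344344c9a216264d009132678589933c244c99e0e264cf05132674589933a244c99d0e264ce851326741899338444c99c1e264ce0d13267048993381c4c99c0a264cd8f13266c58993361c4c99b0a264cc911326647899332344c99916264cc0913265c489932c244c99212264c88913263c789931e344c98d16264c603132620489930e244c98422264c2091326102899306344c98316264c1091326044899300244c97f1e264bf8d1325fc58992fc244c97d16264be111325f068992f8244c97c0e264be051325ec58992f42c4c97922264bc8d1325e438992f0244c97712264bb0f1325d868992ec2c4c9760a264ba891325c888992e4244c9720a264b80b1325bc48992dc2c4c96e12264b68f1325b048992d6244c9691e264b48d1325a048992ce2c4c96312264b10f13258868992c42c4c96116264af8313257058992b8244c95c0a264ad8b13256c48992b6144c95a22264ad0f13256868992b4244c95a0e264ad0513256468992b22c4c9581a264ab8913255458992aa0c4c95412264aa0313254c58992a4444c9521a264a90713254818992a20c4c95022264a80913253c889929e3c4c94f1a264a789132538689929c2c4c94d1e264a68d1325285899292244c9481e264a40b13251c489928c344c9451e264a28d132514589928a144c94416264a20913250c5899282344c94116264a085132500489927e344c93f162649f091324e84))))) (BT.node (nat_lit 598) (BT.node (nat_lit 597) (BT.leaf (Bx.mk (nat_lit 0x89959a2c4cacc1e265660d132b305899596244cac612265628b132b1088995883c4cac41a265608f132b0468995803c4cac01a2656007132af86899578344cab9162655c89132ae05899570244cab71a2655b0b132ad4889956a3c4cab5122655a85132ad07899568344cab31e265598d132acc18995643c4cab2122655891132ac4689955c244caad162655611132ab068995581c4caac0a265550b132aa848995522c4caa912265540d132a9c589954c3c4caa61a265528f132a94689954a1c4caa50a265520f132a906899546244caa01e265500d132a744899538244ca98122654b09132a54589952a244ca95062654a0d132a4868995223c4ca911a2654887132a4428995220c4ca90162654809132a40289951e2c4ca8f122654785132a3448995183c4ca8b122654509132a245899510244ca86162654309132a1458995083c4ca831a2654183132a047899502344ca81162654083132a0048994fc244ca7d122653d8f1329ec58994f0244ca77122653b0b1329d448994e8444ca741e2653a0d1329d048994e81c4ca7312265388f1329c468994e0244ca6d1e265358f1329ac68994d60c4ca6a12265348b1329a448994d02c4ca671a265338713299c28994ca3c4ca651a265328713299418994c6244ca6212265300913297c48994b62c4ca5a122652c8913296068994ae244ca561a265290f13294868994a42c4ca501e265280d13293c489949c3c4ca4e16265258913292468994922c4ca481226523891329085899484244ca41122651f0d1328ec7899476344ca3b0a2651d831328e848994703c4ca381a2651c0b1328e0189946c3c4ca361a2651a891328c848994622c4ca310626517891328b068994582c4ca2a1a26514871328a08899450244ca271e265138d13289c38994463c4ca231a2651183132880589943e344ca1d122650d8f13286c68994362c4ca1a222650d0b13286468994322c4ca18222650c0f132860589942e244ca151e2650a8d1328505899422244ca1012265070913283448994183c4ca0c1a26506091328303899418144ca0b1e265058d13282c58994142c4ca091226504091328145899408244ca031e265018d13280c5899404244ca011e265008b1328007899400344c9fb12264fd0f1327e868993f42c4c9f912264fc0b1327dc48993ec2c4c9f412264f9091327c048993de2c4c9ef12264f68f1327b468993da0c4c9ec1e264f60b1327ac48993d43c4c9ea1a264f40b1327a048993ca3c4c9e51a264f28b13279078993c8344c9e416264f1891327804))) (BT.leaf (Bx.mk (nat_lit 0x8996d6344cb6b0e265b585132da848996d23c4cb6906265b40f132da068996d02c4cb680a265b403132d9888996cc244cb6516265b211132d9078996c8344cb6412265b207132d9028996c60c4cb6122265b08d132d8068996c02c4cb5e16265ae8b132d6c58996b42c4cb5906265ac03132d5c78996ae344cb5706265ab09132d5458996aa0c4cb5416265aa09132d5028996a6444cb531e265a98d132d4c48996a61c4cb530a265a983132d4888996a42c4cb5212265a907132d4828996a40c4cb5122265a88b132d4448996a21c4cb510a265a80d132d4058996a0144cb4f1e265a78d132d3c589969c3c4cb4e1a265a70b132d3448996963c4cb4b1a265a583132d285899692244cb4822265a40f132d206899690244cb480e265a405132d1878996843c4cb4216265a08d132d0458996802c4cb3f062659f0b132cf8489967a444cb3d1e2659e8d132cf4489967a1c4cb3d0a2659e0b132cec78996742c4cb3a122659c0f132cc85899664244cb31162659889132cc418996603c4cb301a265970f132cb8689965c2c4cb2e062659691132cb42899658444cb2c122659607132ca0589964e3c4cb26122659289132c8c48996443c4cb221a2659103132c78589963a3c4cb1d1a2658e09132c7018996362c4cb1b122658d83132c60489962e244cb16122658b03132c545899626244cb121e265890b132c3c68996142c4cb0a122658503132c247899612344cb081a265840b132c1c889960e2c4cb07122658385132c1c189960c3c4cb061a2658307132c18289960c0c4cb05162658289132c1018996063c4cb021a2658105132c0818995fe2c4caff122657f85132bfc18995fc3c4cafd1a2657e85132bf068995f63c4cafb162657d0f132be868995f42c4cafa0e2657d05132be448995f03c4caf81a2657c07132be018995ee2c4caf7122657b85132bd888995ec3c4caf61a2657b09132bd838995ec144caf5162657a89132bd428995e8444caf41e2657a09132bd038995e8144caf3162657985132bc848995de344caef162657705132bb448995da144caec22265760f132bb068995d8244caec0e2657605132bac78995d6344caeb0a2657583132ba828995d2144cae81e2657409132ba038995d0144cae61e265730d132b9858995c43c4cae21a265710b132b8478995be344cadd1e2656e8b132b7048995b43c4cada162656d03132b5c88995ae3c4cad7122656b87132b5c28995ac3c4cad61a2656a89132b5048995a4244cad11e265688d132b40489959c2c4cace06265668f132b346)))) (BT.node (nat_lit 599) (BT.leaf (Bx.mk (nat_lit 0x8997a4344cbd216265e891132f4478997a2344cbd10e265e885132f4418997a0444cbd01e265e80d132f4058997a01c4cbd00a265e803132f3c889979e2c4cbcf12265e783132f38889979c2c4cbce12265e703132f34689979a144cbcc16265e607132f3028997962c4cbcb0e265e50f132f2868997941c4cbc922265e48f132f2468997922c4cbc912265e411132f206899790244cbc80e265e405132f20189978e444cbc70e265e311132f18389978c0c4cbc522265e28b132f14489978a1c4cbc50a265e283132f105899788244cbc40e265e191132f0c78997862c4cbc216265e109132f0818997822c4cbc112265e083132f007899780344cbc00a265df8d132ef8889977c3c4cbbe12265df03132ef4889977a344cbbd12265de87132ef08899778344cbbc0e265dd91132eec78997762c4cbb81e265dc0d132ed4889976a2c4cbb512265da85132ed088997683c4cbb41a265da07132ecc7899766344cbb316265d90f132ec868997642c4cbb116265d889132ec0589975e444cbaf1e265d78d132ebc589975e1c4cbaf0a265d783132eb8689975a3c4cbac1e265d60d132eb058997562c4cbab12265d583132ea848997521c4cba90a265d40d132ea0589974e3c4cba71a265d38b132e9848997482c4cba322265d18f132e8c48997461c4cba30a265d183132e885899742444cba116265d011132e8058997400c4cb9f22265cf8f132e7c589973e244cb9e22265cf0d132e78489973a444cb9d16265ce89132e74389973a144cb9c22265ce09132e703899738144cb9c06265cd8f132e6c6899736244cb9b0e265cd85132e6c1899734444cb9a12265cd03132e647899732344cb990e265cc83132e5c589972e244cb9616265cb09132e58189972a444cb950e265ca83132e506899728244cb940e265c983132e487899724344cb9216265c88d132e4448997221c4cb8f1e265c78b132e3c189971c0c4cb8c16265c583132e2858997140c4cb891e265c489132e2428997120c4cb8816265c383132e18889970c3c4cb8616265c309132e14889970a344cb8412265c205132e0c78997062c4cb821e265c10d132e045899700444cb801e265c00d132e0048997001c4cb800a265bf91132dfc48996fe1c4cb7d1e265be8d132df458996f80c4cb7b16265bd89132de858996f4244cb7922265bc8f132de468996f02c4cb771a265bb8b132dd888996ec144cb741a265ba0b132dd018996e4244cb7206265b891132dc478996e21c4cb6f1e265b78b132db818996da444cb6c16265b591132dac7))) (BT.leaf (Bx.mk (nat_lit 0x8999003c4cc80162663f891331f858998fa244cc7b1a2663d091331cc58998e6244cc711626638891331c078998e02c4cc6e1e266370d1331a458998d2244cc6822266340f13319878998ca2c4cc641e266320b13318c78998c4244cc611e266308d13318458998c03c4cc5f1e2662f8d13317878998bc344cc5b1e2662d8d13316c18998b42c4cc59222662c8913316438998b01c4cc57162662b8913315c38998ac444cc561e2662b0913314c58998a4344cc5212266290713314828998a23c4cc511a266280b133138489989a2c4cc4c1e266260d13313048998962c4cc4a1626625091331245899892244cc48162662409133120189988e3c4cc471a266230f133118689988c2c4cc451e266228b13311068998861c4cc401e266200d13310058998800c4cc3f162661f871330f8589987c244cc3e0e2661f051330f4889987a344cc3d122661e871330f42899878244cc3b1e2661d8d1330e44899870344cc380e2661c051330d8789986c344cc3512266180d1330bc689985a3c4cc2d1a26616831330ac6899854444cc2a1e266150d1330a848998541c4cc2a0a266148b1330a44899852144cc2816266138b133098589984c244cc260a2661303133094889984a2c4cc2512266120b1330904899848144cc2406266119113308c78998462c4cc2312266110f13308868998442c4cc220a266110313308458998403c4cc201a266100b133080189983e444cc1f1a2660f8b13307c389983e144cc1e1e2660f0b133074589983a244cc1d062660e0b1330704899830444cc181e2660c0d133060289982c3c4cc161a2660b0b13305448998263c4cc131a266090d13304858998223c4cc111a266088b133040489981c244cc0c12266060313302c68998162c4cc0a1626605031330205899810244cc0706266030f133014789980a2c4cc0422266020f1330104899808144cc0316266010f1330086899804144cc011a266008713300088998003c4cc0006265ff0f132ff868997fa2c4cbfc12265fe07132ff028997f2244cbf816265fc09132fdc78997ee344cbf70a265fb0b132fd448997e82c4cbf412265f989132fc848997e0344cbf016265f789132fb878997dc344cbee16265f68f132fb468997d8244cbea12265f38f132f9c58997ca244cbe11e265ee8f132f7468997ba2c4cbdd0e265ee11132f7058997b62c4cbda1e265ed0d132f6858997b40c4cbd922265ec8f132f6468997b22c4cbd906265eb8b132f5858997aa2c4cbd512265ea0f132f5068997a8244cbd40e265ea05132f487)))))) (BT.node (nat_lit 604) (BT.node (nat_lit 602) (BT.node (nat_lit 601) (BT.leaf (Bx.mk (nat_lit 0x899aa03c4cd4e1a266a60d1335305899a922c4cd4912266a40913351c8899a8e3c4cd471a266a38513350c6899a862c4cd3f222669f871334fc2899a7c244cd3e0e2669e891334f08899a783c4cd3c1a2669e091334f03899a78144cd3b1e2669d111334e87899a74344cd3a122669d071334e82899a723c4cd391a2669c8b1334e43899a72144cd38122669b891334d85899a6c244cd360a2669a0f1334d06899a66244cd311626698891334bc4899a5c244cd2d12266960d1334ac7899a562c4cd2a1e266950d1334a85899a52244cd281626693891334984899a48344cd241626692071334902899a46244cd221226690891334804899a3c2c4cd1c222668e091334703899a38144cd1a1a2668d0b1334645899a30344cd17122668b091334547899a2a344cd15162668a0b1334501899a26344cd1112266870f1334386899a183c4cd0c1a266860713342c7899a16344cd081e266840d1334204899a0c3c4cd0612266820f1334105899a06344cd00122667f051333f458999fa244ccfc162667e091333ec78999f6344ccfa1e2667d0b1333e448999f0244ccf8062667b0f1333d858999ec0c4ccf4222667a0b1333d048999e6444ccf31626679891333c878999e4344ccf206266780d1333bc48999dc2c4ccee1226677071333b478999da344cced1626676091333b028999d42c4ccea1226675031333a478999d2244cce90e266740f1333a068999ca444cce50a266718f13338c68999c62c4cce306266708d13338458999c01c4ccde1e2666f0d13337818999b8244ccda1e2666d0d13336448999b02c4ccd8122666c0513335c78999ae344ccd61e2666b0d13335838999ac144ccd6062666a8913335068999a63c4ccd31a266698713334c28999a60c4ccd21e266680f13334068999a00c4cccf12266670b1333344899998444cccc1e266660d13333048999981c4cccc0a266650d1333285899990244ccc71e266630913330c78999862c4ccc212266600d1332fc489997c244ccbd122665e091332e87899974344ccb9122665b891332d8689996a244ccb41e2665a0d1332d05899966244ccb21e266590d1332c4489995e244ccac1e266560d1332a0489994e3c4cca71a266538b133294789994a344cca4122665109133280889993e444cc9e122664c8b13326088999300c4cc961a2664a0f13325068999280c4cc930626649031332407899920344cc8f1626647091332307899916244cc871e266430b133218489990a2c4cc8422266420f1332106899908244cc840a266418f1332044))) (BT.leaf (Bx.mk (nat_lit 0x899b942c4cdca12266e5071337281899b923c4cdc91a266e48b1337244899b921c4cdc90a266e4831337206899b902c4cdc71e266e38d13371c5899b8c444cdc61e266e3091337183899b8c144cdc50e266e2111337105899b88244cdc406266e19113370c5899b86244cdc222266e10f1337085899b84244cdc122266e08f1337046899b82244cdc022266e00f1337006899b80144cdbf12266df111336f84899b7c144cdbe06266de911336f44899b7a144cdbc06266dd891336e84899b72444cdb91e266dc891336e43899b72144cdb906266db111336d87899b6c344cdb512266da831336d04899b680c4cdb222266d90b1336c48899b5e444cdaf1e266d78b1336b85899b5a444cdad16266d6891336b42899b583c4cdac1a266d6071336ac8899b563c4cdab16266d5891336ac1899b542c4cda512266d1911336888899b442c4cda212266cf9113367c6899b3c244cd9d1e266ce8d1336705899b302c4cd9806266cb891336588899b2c3c4cd961a266cb0b1336548899b2a3c4cd951a266ca851336484899b240c4cd9106266c7891336384899b1c0c4cd8c12266c60313362c8899b16244cd8922266c48d1336245899b120c4cd8816266c38b13361c4899b0c444cd8612266c3071336182899b0a444cd851e266c28d1336107899b08344cd8416266c18b13360c4899b060c4cd8222266c10b1336084899b04144cd8206266c08b1336044899b02144cd8106266c00f1336006899b002c4cd800a266bf8f1335fc6899afe2c4cd7e16266bf051335f81899afa2c4cd7d12266be851335f41899af83c4cd7c16266bd911335ec5899af6244cd7b0e266bd851335ec1899af4344cd7a16266bc8d1335e07899af0344cd7816266bb911335dc7899aee344cd7712266bb871335dc2899aec2c4cd7312266b9111335c87899ae4344cd720e266b9051335c45899ae0244cd6f22266b78f1335bc6899ade244cd6f0a266b70b1335b83899ada2c4cd6d12266b6871335b41899ad81c4cd6b1a266b5871335ac1899ad4244cd6916266b4891335a07899acc3c4cd6616266b3031335947899aca344cd650e266b2851335941899ac8444cd6412266b20513358c4899ac60c4cd621e266b10d1335884899ac40c4cd6016266b0071335802899abe2c4cd5f12266af8713357c2899abc344cd5e0e266af031335748899aba244cd5c22266ae091335703899ab80c4cd5b1e266ad8d13356c5899ab2244cd5716266ab891335584899aaa244cd5422266aa0f1335504899aa6444cd5312266a88b1335444)))) (BT.node (nat_lit 603) (BT.leaf (Bx.mk (nat_lit 0x899cae244ce561e2672b0d1339584899cac1c4ce560a2672a0d13394c7899ca6344ce5316267290f1339486899ca22c4ce511226728831339407899ca0344ce4f1e267278d13393c5899c9c2c4ce4d1226725091339246899c922c4ce4816267240913391c5899c8e244ce461e267230d1339185899c8a3c4ce451a267228b1339104899c843c4ce421226721071339044899c7e3c4ce3f1a2671f0b1338f84899c7c144ce3d122671e091338ec4899c761c4ce3b062671d0d1338e84899c74144ce391a2671c8b1338e07899c70344ce380a2671b0f1338d47899c6a344ce34122671a051338cc6899c662c4ce321626719091338c44899c60344ce2f1e267178d1338bc5899c5c3c4ce2e1a267170b1338b04899c56244ce2912267140f1338a06899c50144ce261626713091338981899c4a344ce241e267120d1338905899c480c4ce2322267118f13388c4899c46144ce2216267108f1338843899c40444ce201626710091338803899c400c4ce1f1e2670f851338788899c3c344ce1c062670d8b1338688899c343c4ce1a1a2670d091338683899c34144ce17162670a8b1338507899c282c4ce140e267099113384c5899c26244ce130e267090f1338486899c24144ce120626708911338446899c222c4ce1112267078b1338387899c1c344ce0c1626706091338247899c10244ce0712267030f1338145899c0a244ce041226701871338086899c04144ce0112266ff0b1337f06899bf2444cdf91e266fc8d1337e44899bf21c4cdf90a266fc831337e05899bf0244cdf71a266fb8b1337dc1899bec444cdf61e266fb0d1337d83899bec144cdf606266fa0f1337d05899be81c4cdf406266f9911337cc5899be6244cdf30e266f90d1337c82899be40c4cdf122266f88d1337c45899be20c4cdf022266f80b1337c02899bde444cdef16266f7851337bc1899bdc3c4cdee1a266f7091337b83899bdc144cdee06266f6911337b47899bda344cded12266f6871337b42899bd83c4cdec16266f6071337b02899bd6244cdea1e266f50d1337a46899bd22c4cde716266f3831337985899bca2c4cde412266f08f1337846899bc20c4cde01e266f0091337803899bc0144cddf16266ef0f1337786899bbc0c4cddd16266ee0f1337706899bb8244cddc0e266ee0513376c7899bb62c4cddb06266ed0b1337607899bb0344cdd716266eb0f1337586899bac2c4cdd512266ea0913374c6899ba42c4cdd116266e80b13373c6899b9a3c4cdcd1a266e60b1337304899b963c4cdcb1a266e58b1337288))) (BT.leaf (Bx.mk (nat_lit 0x899e462c4cf22122679089133c787899e3c344cf1e162678f03133c741899e382c4cf1c122678e03133c6c1899e34444cf191a2678c8b133c5c7899e2e344cf17162678b11133c546899e283c4cf141a2678991133c4c5899e223c4cf111a2678883133c405899e1e244cf0e1a2678709133c382899e1a244cf0c16267858b133c245899e12244cf0722267838f133c1c6899e08344cf04122678207133c085899e04244cf01162678009133bfc5899dfa2c4cefd062677e03133bec4899dec3c4cef6122677b05133bd44899de82c4cef4062677989133bcc3899de6144cef21e267790b133bc07899de0344ceef12267770d133bb47899dda344ceeb12267750f133ba47899dd2344cee9162677409133b9c4899dcc244cee512267708f133b804899dc00c4cedf162676f89133b7c1899dbc1c4cedd122676e09133b6c4899db4444ceda162676c8d133b5c6899dae0c4ced6162676b09133b545899daa244ced4222676a0f133b506899da8244ced40e2676a05133b4c4899da43c4ced2162676891133b447899da2344ced116267668b133b306899d98244cecc0e2676605133b2c7899d96344cecb162676511133b287899d94344ceca16267630d133b181899d8a244cec416267618b133b085899d82244cebf122675e8f133af41899d76244ceba1a2675d0b133ae44899d70344ceb8162675b89133ad84899d6a244ceb41e2675a0b133acc4899d64344ceb1122675789133ab47899d5a344cead0e2675609133aac4899d54244cea90a267540f133aa06899d48344cea416267510f133a886899d442c4cea11e267508d133a804899d3e244ce9d162674e89133a6c4899d34344ce9a162674c0f133a606899d2e2c4ce96122674a89133a4c6899d223c4ce911a267488b133a3c4899d14244ce8922267440f133a206899d0e244ce861e267430d133a185899d08244ce8112267400f133a006899d002c4ce7f122673e8f1339f04899cf63c4ce7b1a2673d8b1339e84899cf0244ce771e2673b091339d45899ce8444ce741226739891339c45899ce0344ce701226737091339b83899cda3c4ce6d1a267368b1339b41899cd82c4ce6b1626735891339a85899cd4244ce6a06267348f1339a46899cd03c4ce681a267328f1339946899cc8344ce631626731891339887899cc42c4ce611e267308d1339807899cc0344ce60162672f8b13397c4899cbc3c4ce5e1a2672f091339783899cbc144ce5d162672e891339705899cb6144ce5b062672d0b1339684899cb2444ce581e2672c0d13395c5))))) (BT.node (nat_lit 606) (BT.node (nat_lit 605) (BT.leaf (Bx.mk (nat_lit 0x899fca2c4cfe212267f08f133f846899fc22c4cfe01e267f00d133f805899fba2c4cfdb1e267ed8d133f6c1899fb42c4cfd916267eb8b133f5c1899fac3c4cfd61a267eb0b133f581899faa2c4cfd21a267e88b133f444899fa20c4cfd016267e803133f3c8899f9e3c4cfcf1a267e787133f3c2899f9c244cfcd22267e689133f304899f962c4cfcb12267e583133f287899f94344cfc91e267e48d133f207899f90344cfc816267e389133f184899f8a244cfc312267e109133f048899f82344cfc112267e087133f001899f7c244cfbd22267de8f133ef46899f7a1c4cfbc22267dd8f133eec5899f74244cfb71e267db8d133ed84899f6a244cfb31a267d90b133ec44899f620c4cfb022267d80f133ec06899f601c4cfae12267d703133eb47899f5a344cfad16267d589133ea87899f542c4cfa922267d389133e906899f463c4cfa31a267d109133e804899f3e3c4cf9f1a267cf8b133e784899f3a3c4cf9d1a267ce8b133e6c1899f30244cf9612267cb07133e582899f2a244cf9422267ca0f133e506899f282c4cf9406267c989133e484899f1e244cf8e16267c709133e381899f1a2c4cf8d06267c609133e2c7899f16344cf8b16267c489133e206899f0c3c4cf861a267c30b133e144899f082c4cf8412267c10f133e086899f00244cf8006267bf8f133dfc6899efe244cf7f0e267bf85133df08899ef83c4cf7c1a267bd0f133de85899ef03c4cf781a267bb0b133dd84899eec0c4cf751e267ba8d133dd41899ee8244cf7012267b803133dbc8899ede344cf6e1e267b70d133db44899ed8244cf6b12267b30f133d986899ecc2c4cf651a267b28b133d904899ec6244cf611e267b08d133d7c7899ebe2c4cf5e1e267af0d133d785899ebc0c4cf5d12267ae09133d604899eae0c4cf561e267ab0d133d548899eaa3c4cf551a267aa89133d543899eaa144cf5412267a989133d445899e9c2c4cf4c22267a60f133d306899e981c4cf4c06267a58f133d2c6899e962c4cf4a16267a48f133d204899e8e3c4cf471a267a38b133d104899e82444cf4112267a00f133d006899e802c4cf3f222679f8d133cfc4899e7c2c4cf3d122679d0f133ce86899e702c4cf371e2679b8d133cdc4899e6e1c4cf370a2679b09133cd46899e6a2c4cf341e2679a0d133cd01899e662c4cf3222267990f133cc86899e64244cf3122267988f133cc41899e60244cf2e12267968f133cb45899e542c4cf271a267928f133c945899e48444cf241e267920d133c904899e481c4cf240a267918f133c8c6))) (BT.leaf (Bx.mk (nat_lit 0x89a0e8344d0741626838891341c0889a0e0244d06f1e268378d1341b8589a0d8244d06b1e268340f1341a0689a0d00c4d06722268338f13419c689a0ce244d0670e2683385134198589a0ca2c4d06416268320313418c689a0c62c4d063062683111134188689a0c41c4d0611a268308b134184189a0c02c4d05f1a2682f8b13417c389a0be144d05e162682e91134174589a0b83c4d05c1a2682e0b134170389a0b6344d05b162682d11134168589a0b41c4d05a0a2682d03134164489a0ae3c4d0571a2682b8b13415c189a0aa344d054162682a09134150189a0a6444d05312268298713414c289a0a23c4d0511a2682883134140489a09e244d04e162682691134134789a09a344d04d122682687134134289a098444d04c12268260713412c689a094244d0491e2682409134114489a0863c4d0431a268218b134108889a084244d0411e268208d134104589a0821c4d040122681f8f1340fc689a07e2c4d03e1e2681f0d1340f4589a0783c4d03c1a2681e0b1340ec489a074244d0381e2681c0d1340dc789a06c244d035122681a0f1340d0689a0682c4d03312268190f1340c8589a0622c4d02f1e268178d1340bc589a05e1c4d02f0a268170d1340b8589a05c1c4d02d22268168f1340b4689a05a2c4d02d0e26816851340ac789a056344d02b0626815091340a8289a0522c4d0291226814851340a4189a0503c4d0281226814071340a0289a0500c4d0271a2681309134098389a04c144d025122681287134094289a04a0c4d0240a268120313408c489a0442c4d021122680f89134078789a03c344d01e162680e8f134074689a03a2c4d01c1a2680d8d134068489a032244d018162680b0f134058389a02c144d016062680a8f134054689a02a2c4d0150e2680a85134050489a024244d0111e268088d134044589a01e3c4d00f1a2680783134030589a016244d00a12268048913401c589a00e244d00612268018d13400c389a0060c4d0021a268010b134008289a002444d0011e2680089134004289a000244cfff1e267ff8b133ffc2899ffc2c4cffe0e267fe8d133ff05899ff8244cffc0a267fd91133fec7899ff6344cffb16267fd07133fe45899ff2244cff90e267fc0f133fe04899fee244cff61e267fa89133fd04899fe63c4cff31a267f905133fc81899fe2444cff01a267f78b133fbc4899fdc244cfed1a267f609133fac5899fd6244cfeb06267f50f133fa48899fd23c4cfe91a267f48b133fa43899fd20c4cfe816267f409133fa03899fce344cfe716267f385133f984)))) (BT.node (nat_lit 607) (BT.leaf (Bx.mk (nat_lit 0x89a2763c4d13a1a2689d0b1344dc589a26c444d1361e2689a8d1344d4589a2682c4d1340e2689a051344cc589a266144d13222268990f1344c8689a2641c4d1320a268988b1344c4489a262144d13022268980f1344c0689a260244d1300e26898051344bc789a25e344d12f0626897091344b4489a258444d12c1e268960d1344b0489a2581c4d12c0a26895111344a8389a2520c4d12812268939113449c489a24c344d1251e268928d134494589a2483c4d1211e268908d134484589a240244d11f1a2688f8b134478489a238344d11c162688d09134464789a232344d117122688a8913444c889a226244d1130a268888d134440689a2202c4d10e12268860f134430689a218144d10b162688589134424889a212244d1090e2688485134420489a20e3c4d1071a268838b134414789a204144d100122687f891343f8489a1fa3c4d0fd1a2687e8b1343f4389a1f8244d0fb122687d091343e4489a1f03c4d0f81a2687b8f1343dc689a1ee2c4d0f6222687a911343d0589a1e63c4d0f30e26879851343c8489a1e22c4d0f11226878851343c0889a1e0244d0ef1626877851343b8489a1d82c4d0ec12268758b1343ac489a1d43c4d0e91e268748d1343a4589a1ce2c4d0e712268730b134394789a1c82c4d0e11e268708d134384589a1bc344d0dd222686e8f134374689a1ba244d0dd0e2686e85134374189a1b8244d0db122686b8f13435c689a1ae2c4d0d516268690f134348689a1a40c4d0d1122686811134338789a19c344d0ce162686509134324789a192344d0c9162686485134320489a1883c4d0c316268618913430c389a184344d0c2122686105134300789a180344d0c0062685f891342f4889a17a3c4d0bd122685e851342f0489a176244d0ba1e2685c891342e0489a16a244d0b112268578f1342b8489a1582c4d0ac1226855911342ac389a152244d0a81e268540b13429c489a14a3c4d0a516268520913428c489a1443c4d0a21a2685089134280489a13e244d09e1e2684f0d134274489a1383c4d09b122684d09134260589a130244d0971e2684b85134254489a1283c4d0940a2684989134244789a122344d0910a2684883134240489a11e444d08f1e268478913423c389a11e144d08e16268468d134234589a11a144d08d06268460913422c689a1160c4d08916268439113421c789a10e344d0870e268428b134210589a106244d082122683f091341f4589a0fa244d07c162683e051341ec789a0f61c4d07b0a2683c0f1341e0689a0f02c4d077122683b091341d44))) (BT.leaf (Bx.mk (nat_lit 0x89a3b0244d1d71e268eb8913475c389a3ac344d1d60a268eb03134754589a3aa244d1d422268ea0f134750489a3a8144d1d212268e88d134744589a3a0244d1cf1e268e709134730689a3963c4d1cb1a268e58b134724589a3902c4d1c722268e38f13471c389a38c2c4d1c522268e28f134714689a38a244d1c50e268e28513470c589a384244d1c01a268e00b134700189a37e2c4d1bd1e268de8d1346f4589a37a0c4d1bc16268dc891346e0589a36e3c4d1b71a268db0f1346d0789a368344d1b312268d9091346c4789a362344d1b116268d80b1346bc889a35e344d1af12268d7871346bc289a35c444d1ae12268d68f1346b4689a35a2c4d1ac22268d60f1346b0689a3582c4d1a912268d38d134698489a34a2c4d1a416268d18913468c389a346144d1a11a268d08b134680889a3402c4d19e1e268cf0d134678589a33a244d19a12268cc8d134664589a3303c4d1981a268cc0b13465c389a32c1c4d19516268ca89134654189a3283c4d1941a268c90d134644489a322144d19106268c80f134640489a320144d18f16268c711134638489a31a444d18d12268c60f134630689a3180c4d18b22268c58f13462c589a316244d18a22268c50d134624789a3120c4d18816268c38b134618789a30c344d18612268c28913460c789a306344d1821e268c10d134608389a304144d1811e268c08d134604589a302144d18016268bf111345f8789a2fc1c4d17e0a268bf031345f4889a2f8444d17c16268bd911345ec789a2f6344d17b16268bd891345e8889a2f43c4d17a1a268bd091345e4189a2f0444d1771e268bb8d1345dc189a2ec344d17616268bb071345d8189a2ea444d17512268ba091345cc489a2e4344d16e1a268b6891345b0789a2d8344d16c06268b5111345a8789a2d4344d16a12268b48b1345a4189a2d02c4d16806268b38f13459c689a2c8244d1631e268b08f134584689a2c22c4d16012268af89134578789a2bc344d15d12268ad9113456c489a2b43c4d15a16268ac89134560789a2b02c4d1580e268ab8f13455c689a2ae2c4d15616268ab03134554489a2a8444d1541e268aa0d134550489a2a81c4d1540a268a90f134548689a2a42c4d1520a268a903134544489a2a02c4d15012268a789134538489a29a3c4d14d1a268a50b134524889a2923c4d1491a268a489134524389a292144d14816268a40913451c589a28c444d14612268a305134514789a280344d140162689f8b1344fc489a27c2c4d13d162689e111344f0789a278344d13c122689e071344f02)))))))) (BT.node (nat_lit 624) (BT.node (nat_lit 616) (BT.node (nat_lit 612) (BT.node (nat_lit 610) (BT.node (nat_lit 609) (BT.leaf (Bx.mk (nat_lit 0x89a51e244d28e162694709134a34889a51a244d28d0e2694685134a2c789a5102c4d288122694389134a1c389a50e144d286222694309134a10489a5063c4d28316269410b134a04489a500244d27e162693f051349f4589a4fa144d27c222693e0f1349f0689a4f81c4d27c062693d891349e8589a4f2244d2781e2693c0d1349e0589a4ee244d276122693a091349c8789a4e4344d2720e26939031349c4589a4e02c4d2701226937911349bc789a4de344d26f1226937871349bc289a4dc244d26d1226936831349b0789a4d82c4d26b1e269358d1349ac589a4d4244d2681626934091349a0189a4ce3c4d2671a269338b134994589a4c83c4d2621e269310d134988589a4c40c4d261122693009134978789a4bc344d25d122692d89134968489a4b2244d258162692b09134954589a4a6244d24e122692689134924789a492344d248162692409134918889a48c244d2460e269220913490c589a482244d240122691e851348f0489a474244d2361e2691a091348c4789a45e444d22f1e269178d1348bc489a45e1c4d22f0a26917831348b8489a458244d22a1e269150d1348a8289a450444d2281a269140913489c589a44c2c4d225122691209134890189a446444d2231e269108f134884689a4420c4d21e222690f09134878389a43a2c4d21c162690d9113486c589a436244d21a222690d0b134868489a4323c4d2191a2690c83134860889a4303c4d218122690b9113485c689a42e244d216162690b09134854589a42a244d2141e2690a0b13484c589a426244d2130e269098513484c189a4242c4d2111a2690809134838589a41a444d20d1e2690689134834389a41a144d20c162690511134828789a414344d20a122690507134828289a4103c4d20816269038b134818489a40a3c4d2051a269028b134814189a404244d201122690087134800489a4001c4d20006268ff911347fc589a3fe244d1fe22268ff0f1347f8189a3fa444d1fd1e268fe8b1347f4489a3fa0c4d1fc22268fe0d1347f0189a3f63c4d1fb1a268fd111347e8489a3f41c4d1fa06268fc891347e4389a3f2144d1f816268fc091347e0389a3f0144d1f716268fb891347dc289a3ea3c4d1f51a268fa831347d0589a3e8244d1f322268f9891347cc389a3e6144d1f11a268f8831347c0489a3de2c4d1ee12268f6911347b4789a3da344d1ed0e268f50b1347a8489a3d23c4d1e71e268f38d13479c589a3c8244d1e30a268f089134780789a3c02c4d1df16268ef09134770789a3b8344d1db1a268ed0b1347605))) (BT.leaf (Bx.mk (nat_lit 0x89a680444d3401e269a009134d00389a67c3c4d33e1a2699f0b134cf4889a67a2c4d33d122699e85134cf0889a6782c4d33c0a2699e03134ce8489a6722c4d338162699c09134cdc489a66e0c4d3361e2699b0d134cd8589a66a244d334122699989134cc4789a6622c4d3301e269980d134cc0589a65e444d32f1e269978d134cbc589a65c2c4d32b0a2699505134ca4889a652244d3290e2699483134ca0889a6502c4d328122699405134ca0189a64e444d327162699385134c98889a64c3c4d3261a2699309134c94589a64a1c4d32506269920f134c90689a6443c4d3221a269910b134c88189a642344d321162699011134c80489a63c2c4d31d162698e0b134c70489a6363c4d31b1a2698d11134c68789a634244d3191a2698c8b134c64489a62a3c4d3151a2698a09134c48589a620344d31006269878b134c3c489a61c2c4d30d22269868f134c34689a61a1c4d30d0a269860d134c30589a616244d30a1a269830f134c18589a6063c4d3031a2698091134c04689a602244d3010a2697f8f134bfc689a5fa2c4d2fc162697d8d134be4689a5f0244d2f412269790d134bc8589a5e22c4d2f1122697809134bbc789a5de344d2ef122697787134bbc289a5dc444d2ee1e269770d134bb8489a5dc1c4d2ee0a2697703134bb4789a5da344d2ec12269730f134b98689a5cc2c4d2e5162697211134b90489a5c42c4d2e206269708b134b84489a5c0444d2e0162697009134b78889a5b83c4d2dc1a2696e0b134b6c889a5b61c4d2da162696c91134b64589a5b2244d2d8222696c0b134b60489a5b00c4d2d7222696b8f134b5c489a5ac444d2d61a2696b09134b54489a5a8244d2d2162696909134b44289a5a03c4d2d01a269680b134b40189a59e244d2ce16269668b134b34489a5983c4d2cc122696607134b30289a5963c4d2cb1a269658b134b28489a5923c4d2c916269638b134b08489a5822c4d2c1122695f91134afc789a57e344d2bf122695f87134afc289a57c244d2bd122695e0f134af0689a576244d2ba122695b8f134adc589a56c3c4d2b5162695a83134ad0789a568344d2b4122695a07134ac8589a5640c4d2b112269580b134ab8589a55a244d2ac122695503134aa0789a550344d2a8062695389134a98589a54c244d2a6062695287134a94289a548344d2a3162695189134a88589a5440c4d2a122269508f134a84689a5421c4d2a10a2694f8f134a7c689a53e2c4d29c122694d09134a60789a530344d298162694b09134a4c589a526244d292162694889134a404)))) (BT.node (nat_lit 611) (BT.leaf (Bx.mk (nat_lit 0x89a778444d3bc1e269de0d134ef0589a776444d3bb16269dd85134eec189a774444d3ba16269dd09134ee8289a7723c4d3b91a269dc8b134ee0189a76e244d3b61a269db0b134ed8489a76c1c4d3b60a269db03134ed4889a76a2c4d3b50a269da83134ed0589a768244d3b316269d989134ecc189a7643c4d3b21a269d88f134ec4589a760444d3b01e269d809134ec0289a75e444d3af16269d789134ebc389a75c444d3ae1e269d70d134eb8289a75c0c4d3ad22269d68f134eb4689a75a244d3ad06269d609134eac789a756344d3ab16269d509134ea4589a752244d3a90a269d409134e9c789a74e344d3a70a269d383134e98589a74c244d3a60a269d291134e94789a74a344d3a512269d287134e94289a7482c4d3a412269d203134e8c189a7443c4d3a21a269d10b134e88189a742244d39d22269ce85134e70789a738344d39c16269cd91134e6c489a7360c4d39a16269cd09134e64589a732244d39812269cb91134e5c289a72c3c4d3961a269cb0b134e54689a72a0c4d3941e269ca0d134e50589a7262c4d39216269c909134e48189a7223c4d3911a269c80b134e40189a71e244d38c1e269c60b134e2c589a7142c4d38a0a269c48b134e20589a710244d3880e269c38b134e1c489a70e0c4d3861e269c30d134e14489a704444d3821e269c10d134e08589a7041c4d3820a269c08f134e04689a702244d3810a269c011134e00789a700344d38012269bf0f134df8689a6fc1c4d37e0a269be8f134df4689a6f22c4d37912269bc0b134de0489a6ee344d3761e269bb0b134dd4889a6ea244d3750a269ba83134dcc889a6e62c4d37306269b911134dc8589a6e4244d37206269b88f134dc4689a6e0444d3701e269b80d134dc0489a6de444d36f1a269b789134db0589a6d8244d3691e269b48b134da4189a6d03c4d3681a269b40b134da0389a6d0144d36806269b38f134d9c689a6ce1c4d3670a269b289134d90589a6c80c4d36322269b189134d7c789a6be1c4d35b16269ad89134d6c389a6b4444d35a1e269ad0d134d68489a6b41c4d35a0a269ad03134d64589a6b2244d35822269ac0f134d60689a6b0244d3580e269ac05134d58189a6a8344d3521e269a90d134d48589a6a2244d34d1e269a68d134d30889a698244d34b1a269a58b134d28889a6943c4d34a0e269a505134d24789a692344d34816269a389134d1c189a68c444d34612269a291134d14589a68a244d34422269a20f134d10589a688244d3431a269a189134d08589a684144d34122269a08b134d042))) (BT.leaf (Bx.mk (nat_lit 0x89a8c02c4d4600626a2f8b13517c489a8bc244d45d1626a2e0f135170689a8b8144d45b1e26a2d8b135168889a8b43c4d45a1626a2c91135164189a8b0444d4571e26a2b8d13515c489a8ac3c4d4561626a2a8b135150689a8a4344d4520626a288b135144189a8a03c4d4501a26a280313513c889a89e3c4d44f1226a270b135138489a89a3c4d44d1a26a268b135134189a8982c4d44c1226a260513512c889a8962c4d44b1226a258513512c189a894444d44a1e26a250d135128589a894244d44a0626a248b13511c889a88c3c4d4461a26a230b135118189a88a444d4451226a220b135110489a8863c4d4430626a2111135108789a884344d4420e26a2105135108189a8802c4d4401226a1f8b1350fc489a87c3c4d43b1626a1d0f1350e8689a8742c4d4391e26a1c8b1350dc789a86e344d4370e26a1b851350dc189a86a2c4d4331626a190f1350c8689a8642c4d4320626a18911350c4489a860444d42f1e26a178d1350bc589a85c2c4d42e0a26a16891350b0489a8542c4d4291e26a148d1350a4389a852144d4290626a140b13509c589a84c444d4261e26a130d135098389a84c144d4251a26a1287135090789a8481c4d4232226a1111135080789a840344d41f1e26a0f8913507c389a83c2c4d41d1226a0e0f135070689a8342c4d41a1226a0c91135064789a832344d4191226a0c87135064289a830244d4161226a0a8b135048489a8200c4d40f1226a070b135038489a81a3c4d40c1626a060313502c789a8143c4d40a1a26a050b135024889a812344d4091626a0487135024189a80c344d4061626a030313500c489a806144d4021a26a0107135004689a7fe344d3fe16269fe8f134ff4689a7fa244d3fd0e269fe0d134ff0589a7f43c4d3fa1a269fd0b134fe4789a7f2344d3f916269fc09134fdc489a7ea3c4d3f51a269fa09134fcc789a7e2244d3f01e269f609134fac489a7d20c4d3e61e269f20d134f8c489a7c4244d3e112269ef8b134f78889a7bc2c4d3de12269ef05134f78189a7ba3c4d3dd1a269ee89134f74389a7ba144d3dc1e269ee0d134f70589a7b6244d3da16269ed03134f64789a7b2344d3d912269ec87134f64289a7b03c4d3d81a269ec0b134f5c189a7ac244d3d512269ea0b134f4c789a7a6344d3d316269e889134f3c789a79e344d3cf16269e70f134f38689a79c2c4d3cc1e269e60d134f30389a798144d3ca16269e503134f24789a7903c4d3c81a269e40b134f10589a7880c4d3c212269e08f134f04689a77e3c4d3bf16269df11134ef48))))) (BT.node (nat_lit 614) (BT.node (nat_lit 613) (BT.leaf (Bx.mk (nat_lit 0x89a9a6244d4d21226a688f135344689a9a22c4d4d01226a670b135338489a99a1c4d4cc1e26a660313532c589a996244d4ca1e26a650b135324689a9903c4d4c81a26a640313531c489a98a3c4d4c51626a620913530c789a986344d4c31626a6109135304489a97e244d4be1a26a5f0b1352f4489a974444d4ba1626a5d091352e8389a9740c4d4b92226a5c8b1352e4489a9721c4d4b81e26a5c0b1352dc589a96c2c4d4b51626a5a0b1352d0289a9662c4d4b22226a590b1352c8489a9641c4d4b20a26a59031352c4689a962244d4b10a26a58831352c0589a960144d4af2226a578f1352bc689a95e244d4af0e26a57851352b8589a95a2c4d4ad0a26a560b1352b0489a9562c4d4ab1226a548b1352a0889a950244d4a80e26a540313529c889a94e3c4d4a71a26a538b13529c389a94e0c4d4a61626a5303135294889a94a2c4d4a51226a5283135290889a9482c4d4a41226a520313528c689a9460c4d4a22226a510f135288489a942444d4a11e26a508d135284489a940244d4a00a26a4f8d135278489a93a0c4d49c1626a4e0913526c889a9362c4d49a1e26a4d0d135264489a930244d4971e26a4b8d13525c289a92e0c4d4961626a4b09135254889a92a3c4d4951a26a4a87135254289a92a0c4d4931626a498713524c289a9243c4d4921a26a4905135248189a9222c4d4911226a480b135240489a91e444d48f1a26a4789135238489a91a444d48d1e26a468d135234489a91a1c4d48d0a26a4683135230489a916444d48b1e26a458d13522c389a9143c4d4881a26a440b135218889a90c3c4d4861626a4303135214789a90a344d4841226a4203135208889a9043c4d4821a26a4091135204489a9020c4d4802226a4009135200189a8fe3c4d47f1a26a3f891351fc389a8fe144d47e2226a3f0f1351f8689a8fa3c4d47d1a26a3e8b1351f0889a8f83c4d47c1a26a3d891351e4489a8ec3c4d4761a26a3b071351d8189a8ea244d4742226a3a0d1351d0489a8e6344d4730626a38911351c4789a8e2344d4710e26a38851351c0489a8de344d46f1626a37111351b8489a8da444d46d1226a36091351ac789a8d6344d46b1626a35851351a8789a8d4344d46a1626a35071351a8289a8d22c4d4690e26a34111351a0689a8d02c4d4680e26a340513519c889a8ce3c4d4671a26a338b135198889a8cc344d4660626a3291135194589a8ca244d4650a26a3283135190589a8c8244d4632226a318f13518c689a8c6244d4630e26a3185135188589a8c2444d4611626a30891351808))) (BT.leaf (Bx.mk (nat_lit 0x89ab2a444d5951e26aca8d135654389ab2a144d5932226ac987135648489ab22444d5911e26ac88d135644489ab221c4d5910a26ac80f135640689ab1a244d58c1e26ac60b135628789ab14344d58a1626ac38f135614789ab0a2c4d5831a26ac109135604489aafe244d57d1226abd8d1355e8789aaf4344d57a1626abd051355e8189aaf2244d5781626abc091355dc589aaec2c4d5760a26aba911355d4789aaea344d5751226aba871355d4289aae62c4d5711226ab78f1355bc589aadc244d56d1626ab6891355a8489aad23c4d5691a26ab48b1355a0489aace3c4d5671a26ab309135590789aac8344d5641626ab191135588889aac23c4d5611a26ab08b135580789aac0344d5601626aaf8b13557c289aabc2c4d55d1226aae0913556c689aab6244d55b0a26aac8b135564189aaae444d5571226aab0d135554789aaaa344d5551626aaa0913554c489aaa2244d5510a26aa80b135540489aaa0144d54f1e26aa78913553c389aa9e0c4d54e1226aa68f135534689aa9a2c4d54c1226aa589135528489aa90244d5471226aa311135518489aa8a3c4d5451626aa18b13550c489aa842c4d5421226aa103135504789aa803c4d5401a26aa00b1354f8489aa7a3c4d53b1e26a9d8d1354ec589aa72344d5391626a9c831354d8789aa6c344d5361626a9a0d1354c8589aa622c4d5301626a98091354c0189aa5e244d52e1a26a970b1354b4589aa58244d52b1226a95091354a4589aa50244d5260626a928f135494689aa48444d5241626a918f13548c489aa46144d5211226a900f13547c789aa3e344d51f1626a8f0b135478489aa3a244d51c1226a8c0d13545c789aa2e2c4d5160e26a8a8913544c789aa26344d5131626a880913543c689aa1c244d50d1e26a868b135430489aa163c4d50b1a26a850f135424489aa10244d5071e26a838d13541c589aa0c0c4d5052226a828f135414689aa0a244d5050e26a8285135408589aa022c4d5011226a800f135400689aa00244d5000e26a80051353f8689a9f8244d4f91e26a7c8d1353e4589a9f03c4d4f81a26a7c0b1353e0189a9ee244d4f70a26a7a911353d4489a9e83c4d4f41a26a7a0b1353cc789a9e6344d4f31626a79091353c0489a9de244d4ee1626a76891353b0789a9d8344d4ea1e26a750d1353a4489a9d0444d4e81e26a740d1353a0489a9d01c4d4e80a26a7389135398589a9ca2c4d4e31226a710f135388689a9c42c4d4e11626a7089135380489a9be244d4db1226a6d0f135368689a9b42c4d4d91226a6c091353584)))) (BT.node (nat_lit 615) (BT.leaf (Bx.mk (nat_lit 0x89ac74444d63a1226b1c911358e0789ac70344d6372226b1b8b1358dc489ac6e144d6370626b1b0f1358d8689ac6c244d6360e26b1a0f1358d0489ac68144d6340626b19891358c8789ac64344d6311e26b188d1358c4589ac60244d62f1e26b17891358bc289ac5c2c4d62d1226b16871358b0589ac563c4d62b1226b15871358a8489ac541c4d6292226b148d1358a4489ac520c4d6271626b1311135898789ac4c344d6261226b1307135898289ac4a2c4d6251226b120b135890489ac480c4d6232226b110f135888689ac42444d6211226b1085135884189ac40344d6200e26b100313587c889ac3e2c4d61f1226b0f8713587c189ac3c3c4d61e1a26b0f05135874889ac3a344d61d1226b0e0913586c489ac342c4d61a1226b0c89135864389ac32144d6181626b0b8b135854789ac24344d60c1626b0603135820789ac10344d6071626b0389135818589ac0c244d6060626b028f135814589ac0a0c4d6041e26b020d135810589ac080c4d6032226b018f13580c689ac043c4d6021a26b010b135804489ac00444d6001e26b0009135800289ac000c4d5ff1a26aff8b1357fc289abfc444d5fe1e26aff0d1357f8489abfc0c4d5fc1a26afd091357e8189abf0344d5f61e26afb0d1357d8589abec0c4d5f51626afa891357d0589abe8244d5f40626af98f1357cc689abe62c4d5f11e26af88d1357c4589abe0344d5f01626af78f1357bc689abde2c4d5ee1626af7091357b0789abd4244d5e91226af40f1357a0689abd02c4d5e62226af30f135798689abcc2c4d5e60626af289135790489abc62c4d5e31226af109135784489abc20c4d5e01226aef89135778889abbc3c4d5de1a26aef09135778389abbc144d5de0626aed0f135768689abb42c4d5d91226aeb89135758489aba8244d5d21226ae883135740789aba0344d5d00626ae789135738489ab963c4d5cb1626ae509135720789ab90344d5c71626ae309135718389ab8c144d5c41a26ae18b135708889ab843c4d5c21a26ae109135708389ab84144d5c11e26ae08d135704589ab802c4d5bf1226adf091356f0489ab76344d5bb1626adc0b1356dc589ab6c3c4d5b51e26ada8d1356d0889ab683c4d5b41a26ada091356d0389ab68144d5b31e26ad98d1356cc589ab5c244d5ad1e26ad68d1356b4589ab58244d5aa1a26ad4911356a4789ab52344d5a90e26ad4851356a0489ab4c244d5a11e26ad08d13567c789ab3e344d59e1226ace89135670489ab36244d5991a26acc83135660489ab2e2c4d5971226acb0b1356584))) (BT.leaf (Bx.mk (nat_lit 0x89addc3c4d6ee1a26b7709135bb8389addc144d6ed1e26b768d135bb4589add83c4d6eb1626b7587135ba8589add4244d6ea0e26b748f135ba4689add21c4d6e90a26b740f135ba0689add02c4d6e61e26b720f135b90689adbc3c4d6de1a26b6e0b135b6c889adb63c4d6db0a26b6d09135b64489adae244d6d61226b6a8f135b54589ada8244d6d11226b6809135b38489ad9a3c4d6cd1a26b6683135b30489ad94444d6ca1e26b650d135b28489ad941c4d6ca0a26b640f135b20189ad8e244d6c60a26b628b135b10389ad86244d6c11226b5e8b135af0489ad72444d6b91626b5c83135adc789ad6e344d6b71626b5b0b135ad8489ad6c0c4d6b51626b5a89135ad4189ad68244d6b31e26b598d135ac8789ad64344d6b20626b588b135ac0489ad5e344d6ae1a26b5709135ab4789ad5a2c4d6ac1226b540d135a9c689ad48244d6a31226b510b135a88189ad423c4d6a11a26b500b135a80189ad3e3c4d69f1a26b4f89135a7c289ad3c244d69c1626b4c89135a60589ad2c3c4d6951226b4909135a44789ad22344d6901226b478d135a3c589ad1c3c4d68d1e26b468d135a34189ad182c4d68a2226b450f135a28689ad14144d6891226b440d135a1c689ad0e2c4d6870626b430b135a14589ad083c4d6841a26b420b135a0c489ad04344d6811a26b408b1359fc589acfc444d67e1e26b3f0d1359f8589acfc0c4d67d1226b3d091359e4789acf2344d6781626b3b891359d8589ace82c4d6741226b39911359cc789ace6244d6730e26b39111359c8689ace42c4d6712226b388b1359c4489ace2144d6710626b380f1359c0689acde3c4d66f1a26b378b1359b8689acdc2c4d66d2226b368b1359b4489acda1c4d66c1e26b360d1359b0589acd80c4d66b2226b358d1359ac389acd6144d6681626b34091359a0189acce2c4d6661e26b320f135990689acc82c4d6640626b318b135988789acc42c4d6621226b3105135984889acc22c4d6611226b3083135980789acc0244d65e1626b2e0b13596c889acb6344d65b1226b2d8713596c189acb21c4d6590a26b2c83135960589acae244d6561226b2a0f135950689aca82c4d6531226b288f135944689aca02c4d6501226b278b13593c489ac9e0c4d64e1e26b268d13592c689ac962c4d64a0626b2489135920789ac90344d6471e26b238d13591c589ac8c244d6431226b2183135908889ac843c4d6421a26b210b135908189ac82444d6401e26b200d1358fc189ac7c244d63c2226b1e091358f0389ac78144d63c0626b1d911358ec4)))))) (BT.node (nat_lit 620) (BT.node (nat_lit 618) (BT.node (nat_lit 617) (BT.leaf (Bx.mk (nat_lit 0x89af12244d7890626bc38f135e1c689af0e2c4d7870626bc309135e10489af043c4d7821626bc08b135e04489af002c4d77e1e26bbf0d135df4589aefa244d77c1e26bbe0d135de8889aef4244d77a0626bbc91135de4489aef0244d7771226bbb09135dd4589aeea244d7750626bba11135dcc789aee6344d7721626bb909135dc4589aee03c4d76f1e26bb70b135db4689aeda244d76d0a26bb683135db0689aed80c4d76b2226bb589135dac289aed4444d76a1a26bb50b135da8489aed23c4d7691a26bb489135da4389aed2144d7681226bb389135d98489aecc1c4d7660626bb291135d94589aeca1c4d7642226bb20b135d90489aec81c4d7640626bb191135d8c689aec6244d7630626bb10b135d88489aec41c4d7620626bb089135d80789aec0344d7601626bb007135d80189aeb63c4d75b1a26bad85135d6c189aeb23c4d7591626bac09135d58589aeac244d7551626baa89135d4c789aea62c4d7511226ba80b135d40489ae9e344d74e1e26ba70d135d38589ae9a244d74b1e26ba58d135d2c589ae94444d74a1226ba40f135d20689ae902c4d7480626ba18f135d0c689ae862c4d7421226ba091135d04789ae82344d7411226ba087135d04289ae820c4d7401226b9f89135cf8489ae7c1c4d73d1e26b9e8d135cf4589ae78444d73c1a26b9e09135cf0389ae78144d73b1626b9c8f135ce4689ae722c4d7381626b9c09135cdc489ae6e1c4d7370a26b9b83135cd8889ae6c2c4d7361226b9b07135cd4589ae6a244d7350a26b9a09135ccc589ae66244d7312226b988f135cc4689ae62244d7310e26b970f135cb0589ae562c4d7281226b930b135c94489ae482c4d7241226b9189135c88489ae42344d7211626b9009135c7c789ae3e2c4d71e1626b8f09135c74589ae3a244d71c1626b8c0b135c5c489ae2a244d7131226b8889135c40789ae20344d7101626b8789135c38589ae1a344d70c2226b860f135c30689ae181c4d70c0a26b8603135c2c789ae162c4d7091226b840b135c20289ae100c4d7071e26b838d135c14789ae0a344d7051626b8209135c0c789ae06344d7031626b808f135c04489ae02144d7010626b7f91135bfc589adfc2c4d6fe1226b7e8f135bf0589adf8244d6fb2226b7d11135be8489adf2444d6f91226b7c87135be4189adf0144d6f71226b7b87135bdc189adec444d6f61626b7b09135bd8389adec0c4d6f52226b7a8b135bd4489adea1c4d6f50626b7a11135bd0789ade8344d6f41226b7889135bc0789ade0344d6f00626b7789135bb88))) (BT.leaf (Bx.mk (nat_lit 0x89affc2c4d7fd2226bfe8b135ff4489affa1c4d7fd0a26bfe83135ff0889aff82c4d7fc0e26bfe05135ff0189aff63c4d7fb1a26bfd0d135fe8489aff41c4d7fa0a26bfc8b135fe0489aff01c4d7f71626bfb09135fd4889afea244d7f42226bfa0b135fd0489afe6444d7f31226bf983135fc8889afe4344d7f21626bf909135fc8189afe23c4d7f11a26bf80b135fbc589afdc444d7ee1e26bf70d135fb8489afdc1c4d7ee0a26bf68f135fb4689afda244d7ed0e26bf685135fb4189afd8444d7ec1e26bf60d135fb0589afd62c4d7ea1626bf48f135fa4689afd22c4d7e90e26bf40b135f9c589afcc444d7e61e26bf30b135f94689afca2c4d7e31626bf111135f88789afc4344d7e21226bf107135f88289afc22c4d7e11226bf009135f78689afbc2c4d7de0626bee91135f74789afba344d7dd1626bee87135f74289afba0c4d7dc1e26bee0d135f70389afb8144d7dc0626bed8f135f6c689afb61c4d7db0a26beb8b135f5c189afac444d7d61226bea0b135f4c589afa6244d7d30626be88b135f40189af9e444d7cf1626be711135f38589af9c244d7ce0626be68d135f30889af983c4d7cc1a26be60b135f2c889af963c4d7c91226be40f135f18889af8c3c4d7c60a26be20f135f10589af880c4d7c31226be10b135f08489af80344d7bf1226bdf11135ef8489af7c1c4d7bd1226bde09135ee8789af74344d7b71e26bdb8d135edc589af6a444d7b51226bda87135ed4289af683c4d7b41626bd991135ec8689af642c4d7b11626bd889135ec0489af60144d7af2226bd789135eb8889af5c2c4d7ae1226bd705135eb8189af5a3c4d7ac1626bd607135eb0189af56444d7ab0e26bd511135ea8789af54344d7aa1226bd507135ea8289af522c4d7a91226bd487135ea4189af502c4d7a80e26bd389135e98689af4c2c4d7a51e26bd28d135e94589af46244d7a21226bd089135e80489af3c2c4d79e0626bce8f135e74589af38244d79b1226bcd0b135e68489af340c4d7991626bcc89135e64189af303c4d7981a26bcc0b135e60189af2e3c4d7971a26bcb8b135e58589af2c244d7952226bca8b135e54189af28444d7941626bca09135e50289af280c4d7932226bc98f135e4c489af260c4d7921e26bc90d135e48589af24244d7920e26bc905135e48189af20244d78f1e26bc78d135e3c589af1e1c4d78f0626bc70b135e38489af1c1c4d78d1626bc689135e34389af18244d78b2226bc58f135e2c689af16244d78b0e26bc585135e2c189af142c4d78a1226bc503135e245)))) (BT.node (nat_lit 619) (BT.leaf (Bx.mk (nat_lit 0x89b0f42c4d8792226c3c8b1361e4489b0f2144d8790626c3c111361e0789b0f0344d8780e26c3c051361e0189b0ee2c4d8770a26c3b111361d8289b0ea3c4d8751a26c3a851361d4189b0e82c4d8740e26c398b1361cc489b0e4444d8721a26c39091361c8389b0e4144d8720626c388f1361c4689b0e21c4d8710626c380b1361c0489b0e01c4d86f1626c37891361bc389b0dc444d86e1e26c370d1361b8489b0dc1c4d86e0a26c368f1361b4689b0da2c4d86d0e26c36851361b4189b0d82c4d86c1226c358b1361ac489b0d60c4d86a2226c350f1361a8689b0d42c4d86a0626c34891361a4189b0d0444d8681e26c340d1361a0389b0ce444d8671626c338913619c289b0ce0c4d8662226c3309136198289b0cc0c4d8652226c328d136194589b0ca244d8642226c320f136190689b0c82c4d8631626c3189136188589b0c23c4d8611a26c3089136184389b0c00c4d85f1626c2f89136178889b0b8444d85c1226c2e0713616c589b0b6244d85a1226c2d05136164189b0b0144d8572226c2a91136154489b0aa144d8541626c288d136140689b09e2c4d84f0626c270b136138489b09c0c4d84d1e26c2689136134389b09a0c4d84c1e26c260d136130589b0963c4d84b1a26c258b136128489b0922c4d8491226c240b13611c389b08e144d8451626c2289136110589b0823c4d8401626c1f8b1360fc489b07e0c4d83c1e26c1d891360e8189b072344d8371a26c1b0b1360d4589b06a244d8341e26c1a0d1360d0389b068144d8340626c198f1360cc689b0662c4d8321e26c190d1360c8389b064144d8320626c18891360bc489b05c244d82d1626c16831360b0489b0580c4d82b2226c158b1360ac489b0561c4d82b0a26c15831360a8489b050344d8271a26c138b136094789b04a1c4d8250626c120b136090489b0481c4d8231626c1187136088889b0443c4d8221a26c1109136088389b044144d8211e26c108d136084589b040244d81f1e26c0d8f13606c689b036244d81b0e26c0d8513606c189b034444d81a1626c0d09136068389b034144d8192226c0c8b136064489b0321c4d8190a26c0c0f13605c789b02e344d8161626c0b03136054489b02a0c4d8142226c0a0d136050489b0281c4d8140626c0983136048489b024144d8111a26c078b136030789b018344d80c1626c058f136024589b0120c4d8081226c030f136018689b00c2c4d8051226c0111136008589b004244d8020626c0091136004589b002244d8002226c000b136000289affe444d7ff1626bff89135ffc2))) (BT.leaf (Bx.mk (nat_lit 0x89b2003c4d9001a26c800b136400389b1fe444d8ff1e26c7f8d1363fc589b1fe1c4d8ff0a26c7f0d1363f8589b1fa2c4d8fd1226c7e831363f0589b1f8244d8fc0626c7d8f1363ec689b1f62c4d8fa1626c7c0f1363e0689b1f01c4d8f80a26c7c031363dc689b1ec244d8f60626c7a8f1363d4689b1e8244d8f12226c78891363c0789b1e0344d8ef2226c77891363b0789b1d8344d8ec0626c758b1363a4789b1d2144d8e82226c740b1363a0489b1d00c4d8e72226c738b13639c489b1c83c4d8e21e26c710d136388489b1c41c4d8e20a26c708f136384689b1c02c4d8e01226c700313637c589b1be244d8df0626c6f0b136378489b1bc0c4d8dd1e26c6e8d136370489b1b63c4d8db1626c6c8f136364689b1b02c4d8d71e26c6b8d13635c389b1ae144d8d51e26c6a8d13634c689b1a43c4d8d21a26c690b136344789b1a2344d8d02226c6809136340189b19e2c4d8ce1a26c6691136334189b1983c4d8cb0626c6503136320589b190244d8c71626c6389136310889b1880c4d8c31226c610b136308489b1840c4d8c12226c5f8f1362fc689b17e0c4d8bd1626c5e111362f0689b1763c4d8bb1626c5c831362e0589b1700c4d8b71a26c5b8b1362d8589b16c244d8b51e26c5a8b1362cc789b166344d8b31626c59111362c8589b164244d8b20a26c58911362c4589b162244d8b10a26c58831362c0789b160344d8b00e26c58051362c0189b15e344d8ae1a26c568b1362b4489b15a144d8ac1626c56091362b0289b1580c4d8ab1a26c55851362a8789b1542c4d8aa0626c54911362a4489b152144d8a81626c540913629c389b14c244d8a60a26c528b136290889b1482c4d8a41226c520313628c589b146244d8a30626c510f136288689b140444d89f1e26c4f8d136278689b13c2c4d89d2226c4e8d136274389b1383c4d89c1a26c4e0b13626c489b1343c4d89a1a26c4d09136268389b134144d89a0626c4c89136260589b12c3c4d8960a26c4b03136254489b128244d8931226c4911136248789b124344d8921226c488b136240489b11e2c4d88f1226c470f136238489b11a2c4d88c1626c460913622c789b116244d88b0a26c450f136228589b112444d8890626c440d13621c689b1083c4d8841a26c418b13620c489b1061c4d8830a26c4183136208789b104344d8820a26c4011136200189b0fe444d87f1e26c3f8d1361fc489b0fe1c4d87f0a26c3f0b1361f8389b0fc0c4d87d1626c3e891361f4389b0fa0c4d87c1e26c3e0d1361ec589b0f6244d87a2226c3d0f1361e86))))) (BT.node (nat_lit 622) (BT.node (nat_lit 621) (BT.leaf (Bx.mk (nat_lit 0x89b2dc244d96e0e26cb68f1365a8889b2d4244d96a0e26cb5031365a4489b2d0244d9680e26cb38f13659c689b2ce2c4d9661226cb211136590489b2c6444d9631226cb183136588789b2c4344d9620626cb08f136584489b2c0444d9601a26caf8b13657c189b2bc2c4d95e1226caf03136574889b2ba3c4d95d1a26cae8b136574289b2ba0c4d95c2226cad89136568589b2b4244d95a0626cac8f136564489b2b20c4d9571626cab8913655c389b2ac2c4d9561226cab07136554789b2aa244d9541626caa07136550289b2a63c4d9531a26ca909136544489b2a03c4d9501a26ca809136540389b2a0144d94f1626ca78913653c389b29c2c4d94e1226ca707136538289b29a3c4d94d1a26ca689136534389b29a144d94d0626ca60f136530689b298244d94c0e26ca605136530189b296444d94b1226ca585136528489b2941c4d9490a26ca40b136520489b28e2c4d9471226ca383136518789b28c2c4d9451e26ca28b13650c789b2860c4d9401626ca0091364fc489b27c244d93d1626c9e111364f0589b2781c4d93c0a26c9d911364ec589b276244d93b0e26c9d851364ec189b274444d93a1e26c9d0d1364e8489b2741c4d93a0a26c9d031364e4589b272244d9390e26c9c0f1364e0689b2702c4d9372226c9b891364dc389b26e144d9361626c9b031364d4889b26a2c4d9351226c9a111364d0589b268244d9340626c99911364cc789b266344d9330626c99111364c8789b264344d9321226c99031364c4889b262344d9311226c98831364c0789b260344d9301626c98051364bc789b25e344d92f1626c970b1364b8489b25a2c4d92d1226c96831364b0689b2582c4d92c0626c95111364a8589b254244d92a0e26c95031364a4689b24e3c4d9271a26c938713649c289b24c344d9261626c920f136490689b246244d9221e26c910b136480789b240344d9200626c8f89136478489b23a2c4d91c2226c8e0f136470489b238144d91b2226c8d8913646c289b2343c4d91a1a26c8d0b136464889b232344d9191226c8c87136464289b230244d9171226c8b0f136458689b228244d9131226c8809136440289b21e344d90f1626c868d136434589b2181c4d90c0a26c859113642c789b216344d90b1226c858713642c289b2142c4d90a1226c8505136428189b2122c4d9091226c8485136424189b2103c4d9081a26c840b136420389b20e244d9061e26c830b136414489b2082c4d9041226c818f13640c689b2062c4d9021e26c810d136408489b2041c4d9020a26c808f1364046))) (BT.leaf (Bx.mk (nat_lit 0x89b3b4244d9d91626cec89136760589b3b0244d9d80a26cec0313675c489b3ac3c4d9d61a26ceb09136758389b3ac144d9d51626cea87136754189b3a8244d9d40e26cea03136744889b3a22c4d9d10626ce80b136740489b39e344d9cd1a26ce60b136730489b3980c4d9cb1e26ce58d13672c489b3961c4d9ca2226ce507136724589b392244d9c82226ce40913671c189b38a444d9c51a26ce20f136710689b3862c4d9c31226ce185136708789b384344d9c21226ce107136708289b3840c4d9c11e26ce08d136704489b3821c4d9c10a26ce083136700789b3802c4d9bf1226cdf0b1366f8489b37a2c4d9bd1226cde831366f0589b378244d9bb1626cdd891366e4789b372344d9b91626cdc0f1366e0689b3701c4d9b80a26cdc031366dc889b36e244d9b70e26cdb091366d4889b36a2c4d9b51226cda0b1366d0489b3663c4d9b31226cd90f1366c8489b35a3c4d9ad1a26cd68b1366ac789b356344d9ab1626cd50b1366a8489b3522c4d9a91226cd40f1366a0689b350244d9a80e26cd40513669c389b34e0c4d9a62226cd28f136694689b348244d9a31626cd111136688489b344144d9a12226cd08d136684489b3421c4d9a10626cd011136680789b340344d9a00a26cd00313667c889b33e3c4d99f1a26ccf8b13667c389b33e144d99e1626ccf09136678289b33a344d99d0e26cce85136674189b3382c4d99c0e26cce0513666c889b3363c4d99b1226ccd8713666c289b3360c4d99a1626ccd09136668389b334144d99a0626ccc8b136664489b3321c4d9990a26ccc83136660689b3301c4d9980a26ccb9113665c489b32e1c4d9962226ccb0b136658489b32a244d9950e26cca11136650589b328244d9940e26cc99113664c589b326244d9930e26cc983136648889b324344d9921626cc909136648189b322244d9910e26cc807136640189b31e244d98f0e26cc711136638489b31c0c4d98d1626cc683136630589b3180c4d98b2226cc511136624889b312244d9890626cc40f136620689b3102c4d9871626cc389136618589b30c244d9851626cc289136610489b306244d9821a26cc10b136604889b3022c4d9811226cc087136604289b300444d9801626cc009136600289b3000c4d97e1626cbf091365f4589b2fa244d97b1e26cbd8d1365ec589b2f43c4d97a1a26cbd071365e8289b2f40c4d9782226cbc091365e0189b2ec2c4d9752226cba891365d0789b2e8344d9721626cb88b1365c4489b2e02c4d9701226cb8051365bc789b2de344d96f1626cb7111365b86)))) (BT.node (nat_lit 623) (BT.leaf (Bx.mk (nat_lit 0x89b4b40c4da591e26d2c8d13695c589b4ae244da561226d2a8d136954489b4a8244da521226d2907136948289b4a23c4da502226d280b136940489b49a444da4c1626d2589136928589b494244da491626d240f136920389b48c244da451226d220913690c489b4842c4da411226d1f891368fc389b47c444da3e1e26d1f091368f8289b47c0c4da3d2226d1e8d1368f4589b47a144da3d0626d1e111368f0789b478344da3c0e26d1e051368f0189b4763c4da3b1a26d1d8b1368e8889b4743c4da3a1a26d1d091368e8389b474144da391626d1c871368e4189b470444da381a26d1c0b1368e0289b46e444da371626d1b0f1368d8689b46c2c4da360e26d1b051368d4789b46a344da351626d1a871368d0589b468144da331626d19891368c8589b464244da320626d188f1368c4689b4603c4da301626d18091368bc789b45e2c4da2f1226d17051368b4589b45a244da2d0a26d16111368b0589b458244da2c0a26d158f1368ac689b456244da2b0e26d150b1368a8289b4522c4da291226d14851368a4189b450344da281226d1407136898589b44a344da251626d1209136890189b4462c4da231226d110f136884789b442344da202226d100f136880689b4400c4da1f1a26d0f83136878789b43c344da1d1e26d0e83136870889b4383c4da1c1a26d0e0313686c789b436344da1b1626d0d11136868789b434344da1a1226d0d07136868289b4323c4da191a26d0c8b136860589b430244da172226d0b8d13685c489b42e0c4da161626d0b09136854589b42a244da141626d0a0913684c589b426244da130a26d0911136848489b424144da111e26d088d136844589b4202c4da101226d079113683c489b41e144da0e1e26d070d136838589b41a2c4da0c1626d060913682c589b414244da091226d040f136820389b410144da072226d038b13681c489b40e1c4da070626d0311136818589b40c244da060e26d0305136818189b40a2c4da041e26d020b136810189b404444da021226d00911367fc889b3fe244d9fe1626cff091367f8389b3fa2c4d9fd1226cfe851367f0689b3f0244d9f80e26cfb911367dc489b3ee1c4d9f70626cfa8b1367d0589b3e8244d9f21e26cf8851367bc689b3dc444d9ee1226cf68f1367b4689b3da2c4d9ec1626cf6091367ac589b3d6244d9ea1e26cf50d1367a8589b3d40c4d9e91226cf40f13679c889b3ce3c4d9e71226cf385136798789b3cc344d9e61226cf307136798289b3ca2c4d9e51226cf18b136788789b3c23c4d9db1226ced851367685))) (BT.leaf (Bx.mk (nat_lit 0x89b5b03c4dad81a26d6c0b136b60289b5aa344dad51626d6a87136b54189b5a8244dad31e26d698d136b4c589b5a2244dad01e26d6807136b40289b59e444dacf1a26d6789136b3c389b59e0c4dace2226d670d136b38489b59c1c4dace0626d6691136b34689b59a0c4dacc1226d6605136b2c589b594444daca1a26d650b136b24589b592144dac81626d6409136b20189b58e444dac71a26d638b136b1c489b58e1c4dac70a26d630f136b18689b58c1c4dac60a26d6291136b14689b58a244dac50e26d6283136b10889b5882c4dac41226d6207136b0c889b5843c4dac21a26d610b136b04489b580444dac01226d5f89136af8489b57c0c4dabd1626d5e89136af0789b5763c4daba1226d5c89136ae0489b56e244dab61626d5a89136acc589b564444dab21e26d5909136ac8289b5640c4dab11626d580b136ac0189b55e2c4daae1e26d570d136ab8589b55c0c4daac1626d558b136aa4689b5522c4daa62226d5309136a94489b546444daa31226d5111136a88489b5402c4daa01226d4f89136a78789b53c344da9e1226d4f07136a78289b53a244da9b1226d4d85136a68689b5322c4da991226d4b91136a54489b5282c4da941226d498f136a48589b524244da920e26d4905136a44789b522344da911226d4887136a44289b5202c4da901226d4807136a3c489b51c3c4da8e1226d4707136a38289b518244da8b1e26d458d136a28789b5122c4da891226d4485136a20889b5103c4da881a26d440b136a20189b50e444da871626d4385136a1c189b50c444da861e26d430d136a18389b50a3c4da851a26d428b136a14389b50a144da841e26d420d136a10589b5081c4da840a26d4191136a0c589b506244da830e26d4185136a08589b504144da811a26d408b136a04489b5020c4da801626d4009136a00389b500144da7f1626d3f891369fc389b4fe144da7f0626d3f111369f8589b4fc244da7d2226d3e8b1369f4489b4f8444da7c1226d3d0f1369e8689b4f42c4da791226d3b891369dc189b4e6444da731e26d398d1369cc589b4e60c4da722226d390b1369c8489b4e41c4da720a26d39031369c4789b4e2344da710e26d38091369bc589b4de244da6e1e26d37091369b8389b4dc144da6b1a26d358b1369a8489b4d21c4da690626d340b1369a0289b4d00c4da671a26d338913699c389b4cc344da660e26d318f13698c689b4c62c4da630626d3111136988489b4c22c4da601e26d300b13697c589b4be244da5d1626d2e0b13696c789b4b6344da5b1626d2d0f1369686))))))) (BT.node (nat_lit 632) (BT.node (nat_lit 628) (BT.node (nat_lit 626) (BT.node (nat_lit 625) (BT.leaf (Bx.mk (nat_lit 0x89b71a2c4db891e26dc48d136e1c789b70e344db871626dc30b136e14589b708244db821226dc089136df8789b6fc2c4db7e0a26dbe89136df0789b6f82c4db7b1226dbd09136de4589b6f2244db781626dbb89136ddc289b6ea3c4db751a26dba0f136dd0689b6e82c4db731226db90b136dc4889b6e23c4db711a26db889136dc4389b6e2144db701226db78f136dbc589b6dc3c4db6c1626db609136db0189b6d63c4db6a1e26db509136da8289b6d23c4db681e26db40d136d9c489b6c4344db611626db089136d80589b6c0244db5f1226daf85136d74789b6ba344db5d0626dae0b136d70489b6b4144db591e26dac8d136d5c789b6ae344db571626dab83136d58489b6aa244db541626da98f136d4c689b6a62c4db521226da88f136d44689b6a22c4db501226da789136d38789b69c2c4db481a26da40b136d1c589b68e0c4db461a26da30b136d18189b68a2c4db441626da207136d10289b686344db431626da187136d08489b67c2c4db3d1226d9e0b136cec489b6742c4db391626d9c11136ce0789b670344db381226d9c07136ce0289b6663c4db331a26d9989136ccc389b666144db321626d988b136cc4489b6620c4db2e1226d9689136cb0489b656244db2b0626d950b136ca4489b652144db280626d938b136c9c489b64a444db251e26d928d136c94389b64a144db221626d9091136c80789b63e3c4db1f1a26d8f0b136c78489b63a2c4db1d1226d8e87136c70789b6381c4db1c0626d8d0b136c68489b6302c4db181226d8c07136c5c889b62e2c4db171226d8b87136c58589b62c1c4db160a26d8a8d136c54489b62a1c4db141e26d8a0b136c44489b6203c4db101a26d8789136c38789b61c2c4db0c1e26d860d136c30389b618144db0c0626d858b136c28889b6143c4db0a1a26d8509136c28389b614144db091226d8487136c1c689b60e2c4db051a26d828b136c10589b6062c4db021a26d808f136c04689b6020c4db001226d7f0d136bf8389b5fc144dafd1226d7e0f136bf0689b5f82c4dafc0a26d7d89136be0789b5f0344daf81626d7b89136bd8789b5ec344daf51226d7a0b136bd0289b5e63c4daf31a26d7989136bcc389b5e6144daf21226d788b136bc0789b5de244daef0e26d770f136bb8689b5dc1c4daec1226d758b136bac489b5d23c4dae91a26d7487136ba4289b5d03c4dae81626d7389136b98789b5cc344dae12226d7089136b84389b5c2144dae01626d6f89136b78489b5ba2c4dadc1e26d6e0b136b6c689b5b6244dada1626d6c8b136b644))) (BT.leaf (Bx.mk (nat_lit 0x89b8402c4dc1f1626e0f89137078589b83c244dc1e0626e0e0f137060789b830344dc161226e0a0d137038389b818244dc0a1226e0489137020589b80c444dc061226e0307137018189b80a444dc051226e0283137010889b808244dc040626e0189137000589b800244dbff2226dff8d136ffc489b7fe1c4dbff0a26dfe0f136ff0689b7f8244dbfb1226dfd0b136fe8489b7f2444dbf91e26dfc8d136fe4489b7f21c4dbf90a26dfc11136fe0389b7ee3c4dbf71626dfb0b136fd8489b7ea2c4dbf42226dfa0b136fd0489b7e63c4dbf31a26df98b136fc8489b7e2244dbf10626df80f136fb8889b7dc244dbee0e26df705136fb8189b7da444dbed1626df689136fb4389b7da144dbec1626df609136fb0389b7d8144dbeb1626df589136fa8589b7d4244dbea0626df48d136fa0789b7d0344dbe71626df389136f98489b7ca2c4dbe41626df189136f88789b7c42c4dbe11e26df08d136f84189b7ba3c4dbdd1a26ded0b136f68489b7b4144dbd92226dec8f136f64689b7b2144dbd81e26dec0b136f60489b7b0144dbd72226deb89136f58889b7ac344dbd61226deb03136f50489b7a63c4dbd31a26de98b136f4c289b7a60c4dbd22226de90b136f48489b7a40c4dbd12226de88b136f44489b7a20c4dbd01e26de80d136f40389b7a0144dbd00626de791136f3c789b79e344dbcf1226de787136f3c289b79c244dbcd1e26de68d136f30489b796444dbcb1226de585136f2c189b794244dbca0e26de505136f28189b7922c4dbc91226de487136f20489b790144dbc80626de38f136f1c389b78e144dbc70626de311136f18689b78c244dbc60e26de303136f10789b788344dbc41226de207136f10289b7863c4dbc31a26de18b136f08789b784344dbc21626de089136f00489b77e444dbbf1226ddf87136efc289b77c2c4dbbe1226ddf07136ef8289b77a3c4dbbd1a26dde8b136ef0489b776244dbb91e26ddc8d136ee4589b770244dbb61e26dda11136ed0689b7643c4dbb21226dd903136ec4589b762244dbb01a26dd789136eb8489b75a244dbaa2226dd50b136ea8489b754144dba92226dd48b136ea4489b752144dba90626dd411136ea0689b7501c4dba80a26dd38d136e9c589b74c3c4dba61a26dd289136e90489b7463c4dba31a26dd18b136e88489b742344dba11626dce0b136e6c589b734244db980626dcb0b136e54589b7283c4db941a26dca07136e50289b7260c4db921226dc88b136e40889b7203c4db901a26dc807136e40289b71e244db8e1226dc68f136e346)))) (BT.node (nat_lit 627) (BT.leaf (Bx.mk (nat_lit 0x89b94e2c4dca71226e538713729c289b94e0c4dca62226e530b137298489b94c1c4dca60a26e5303137294489b948444dca41626e5209137290189b946444dca31626e518913728c189b9443c4dca21a26e508b137280889b9403c4dca01a26e500b137278789b93c344dc9e1226e4f07137278289b93c0c4dc9d1e26e4d8f13726c689b9361c4dc9b0a26e4c8f137264689b9322c4dc981e26e4c0b13725c789b92e344dc971626e4b09137254589b92a244dc950e26e4a0b137250489b9281c4dc931e26e498d13724c589b924444dc921e26e490d137248489b9241c4dc920a26e488b137240589b91e444dc8f1a26e4787137234889b91a3c4dc8d1226e4611137230689b9182c4dc8c1226e458b13722c489b914244dc891e26e438f13721c589b90e0c4dc861e26e428b137214489b9083c4dc840626e418f13720c689b9062c4dc831226e4111137208689b9042c4dc821226e4089137200689b9000c4dc7e2226e3f0f1371f8689b8fc1c4dc7e0a26e3e891371f0589b8f8244dc7b1e26e3d8d1371ec489b8f4344dc7a1626e3c891371e0789b8f0344dc771226e3b091371d0689b8e82c4dc711226e380f1371c0689b8e02c4dc6f1226e368b1371b0589b8d63c4dc6b1a26e35871371ac289b8d4244dc691626e340b13719c889b8ce3c4dc671a26e338913719c389b8ce144dc661226e3109137184789b8c03c4dc601a26e300b13717c589b8bc244dc5d1a26e2e8b137170789b8b8344dc5b1626e2c91137164789b8b21c4dc590a26e2b85137158589b8aa444dc551e26e2a8d137154389b8aa144dc541226e298f13714c689b8a4244dc511226e280f13713c489b89a444dc4d1226e260f137128789b8942c4dc491e26e248d137124589b8921c4dc490626e240b137120289b88e2c4dc471226e230d137118389b88c0c4dc452226e228f137114689b88a2c4dc451226e2209137108489b8823c4dc411a26e2089137104389b882144dc410626e200f137100689b8802c4dc3e1226e1e8d1370f4589b878244dc3c0a26e1e031370ec789b876344dc3b0626e1d0b1370e8389b8740c4dc391a26e1c831370e0789b8702c4dc342226e1a0f1370d0689b8682c4dc340e26e1a051370d0189b8663c4dc331a26e19091370c0789b85c244dc2d1e26e168d1370b4589b8582c4dc2c1226e15891370a8489b8522c4dc291226e140f13709c589b84e244dc261e26e130d137098589b84a3c4dc251226e1285137088889b8443c4dc221a26e1107137088289b8423c4dc211a26e100f1370806))) (BT.leaf (Bx.mk (nat_lit 0x89ba3a244dd1d0626e8e0d137470489ba38144dd1c0626e8d9113746c489ba360c4dd1a2226e8d0f137468689ba34244dd191e26e8c8d137460889ba303c4dd181a26e8c07137460289ba2e2c4dd170626e8b11137458789ba2c344dd151226e8a09137450389ba26344dd130a26e890b137448489ba240c4dd111a26e8887137444189ba20444dd101e26e880d137440489ba1e344dd0f0626e8709137434589ba1a244dd0c2226e860f137430689ba18244dd0c0e26e860513742c789ba16344dd0b1626e850d137428389ba14144dd091e26e848d137420789ba10344dd061e26e830d137418389ba0c144dd051626e8289137410489ba063c4dd031a26e818913740c389ba06144dd022226e810f137408689ba042c4dd020e26e8105137404789ba02344dd001626e80091373fc489b9fc344dcfe1226e7f051373f4789b9fa344dcfd0a26e7e831373f0889b9f83c4dcfc1a26e7e091373f0389b9f8144dcfb1e26e7d8d1373ec589b9f43c4dcfa1a26e7d0b1373e4489b9f02c4dcf81226e7c071373e0189b9ee3c4dcf71a26e7b871373dc289b9ee0c4dcf62226e7b0b1373d8489b9ec0c4dcf51e26e7a8d1373d0789b9e8344dcf41626e79911373c4589b9e2244dcef1626e77111373b8589b9da3c4dced0626e76111373ac689b9d4244dce91626e748913739c889b9ce3c4dce71226e7309137394589b9ca244dce50626e720b137390489b9c80c4dce31226e710f137388589b9c2344dce11626e6f0f137378689b9bc2c4dcde0e26e6f05137378189b9ba3c4dcdd1a26e6e87137374289b9ba0c4dcdb1626e6d89137368889b9b4244dcda0a26e6c0f137360689b9b0144dcd80626e6b89137358589b9aa2c4dcd51226e6a11137350689b9a8144dcd31e26e698d137348589b9a4244dcd12226e688f137344689b9a2244dcd10e26e6885137340489b99e244dccf0a26e670f137334489b9983c4dccc1626e648b137324489b9902c4dcc81226e638713731c289b9883c4dcc31e26e618d13730c589b9843c4dcc21a26e610b137300789b97c3c4dcbe1a26e5f031372f4489b976444dcbb1a26e5d891372ec389b9722c4dcb90a26e5c0f1372e0689b9701c4dcb71a26e5b8b1372d8489b968444dcb41e26e5a091372d0289b9662c4dcb21626e58911372c4489b9621c4dcb01e26e58051372bc489b95e0c4dcae1e26e570d1372b8389b95c0c4dcad2226e568f1372b4489b9582c4dcab1226e55091372a8389b952444dca91e26e54891372a4389b952144dca90626e540b13729c8))))) (BT.node (nat_lit 630) (BT.node (nat_lit 629) (BT.leaf (Bx.mk (nat_lit 0x89bb5c344ddae1226ed7071376b8289bb5a244ddac2226ed6091376ac889bb562c4ddab1226ed50f1376a8489bb541c4ddaa0a26ed48f1376a4689bb522c4dda31226ed10b137684889bb423c4dda11a26ed089137684389bb42144dda01626ecf8d13767c489bb3e1c4dd9f0a26ecf0b137678489bb3a244dd9c2226ece0913766c889bb363c4dd9b1226ecd83137668889bb342c4dd9a1226ecd03137664589bb32144dd981226ecc05137660189bb2e344dd971226ecb8513765c189bb2c444dd961226ecb03137654889bb2a3c4dd951226eca11137650789bb28344dd941226eca07137650289bb263c4dd931a26ec903137644489bb20444dd901e26ec80d137640489bb20144dd8e1e26ec70b137638189bb1a3c4dd8b1626ec50b137624589bb102c4dd871e26ec38d13761c589bb0c3c4dd851626ec18913760c389bb060c4dd821626ec107137604889bb022c4dd810e26ec085137604189bb002c4dd800e26ec0031375fc589bafe1c4dd7e0e26ebe0b1375e8789baf42c4dd792226ebc891375e4389baf03c4dd781a26ebc0b1375dc589baec0c4dd742226eba0b1375c4689bae0344dd6f1626eb7891375b4789bada244dd6d0a26eb6111375b0689bad82c4dd6c0e26eb6051375b0189bad6144dd6a1626eb48b1375a4289bad0444dd681a26eb39113759c689bace1c4dd670a26eb30b137598289bacc0c4dd652226eb289137594389baca0c4dd642226eb205137590189bac62c4dd631226eb10b137588189bac2344dd611626eaf9113757c789babe344dd5f0626eaf11137578789babc244dd5e0e26eaf05137574389bab8344dd5c0a26ead89137568589bab22c4dd591226eac0d137560289baae244dd531e26ea98d13754c389baa6144dd521e26ea90d137544889baa02c4dd501226ea789137538689ba9c0c4dd4d2226ea689137534189ba98344dd4b1e26ea509137528189ba922c4dd491226ea38f137518789ba8c1c4dd460a26ea30313750c689ba862c4dd421226e9f8f1374fc689ba7a344dd3b0626e9d111374e8789ba74344dd3a0e26e9d051374e8189ba723c4dd391a26e9c091374dc889ba6e2c4dd371226e9b831374d8889ba6c244dd360626e9a911374d4589ba6a244dd350626e9a0d1374cc489ba642c4dd321226e98891374c4189ba60244dd2f1e26e978d1374bc389ba5c3c4dd2e0e26e97051374b0789ba58344dd2a1e26e9503137498689ba4c2c4dd251626e9089137480289ba3e444dd1f1e26e8f8d13747c589ba3c2c4dd1e1226e8f031374748))) (BT.leaf (Bx.mk (nat_lit 0x89bc6e344de371626f1b091378d4589bc6a244de341226f1a031378c0789bc60344de2f1226f17091378b4689bc5a244de2a2226f150b1378a8489bc541c4de2a0626f14911378a4489bc521c4de290626f138f137898789bc4c344de251226f120b137890489bc463c4de231a26f118913788c389bc442c4de221226f108f137884689bc42244de201226f100513787c289bc3e0c4de1e1e26f0f0d137870889bc382c4de1c1226f0d8b13786c489bc343c4de1a1a26f0c8f137864689bc30344de181226f0b0f137858489bc2c1c4de151e26f0a8d137854589bc282c4de141226f0989137848589bc24244de111e26f088d137844489bc221c4de110a26f080b137840389bc1e444de0f1626f078913783c189bc1c444de0e1626f0709137838189bc1a444de0d1e26f068d137834489bc1a1c4de0d0626f060f137830689bc162c4de0b1226f050b137828489bc140c4de091226f0487137824289bc120c4de081226f038f13781c689bc0e2c4de061e26f030d137818589bc0a3c4de051a26f0211137810589bc063c4de031a26f018b137808289bc00244ddff1626eff831377f4889bbfa344ddfd1226efe831377f0889bbf83c4ddfc1226efe031377ec889bbf62c4ddfb1226efd851377ec189bbf4444ddfa1626efd091377e8289bbf40c4ddf82226efc0f1377e0689bbf02c4ddf80626efb8f1377dc689bbee2c4ddf70626efb111377d8489bbea444ddf51226efa111377d0789bbe80c4ddf31226ef9111377c8589bbe2444ddf11626ef8891377c0889bbe0144ddf00626ef78f1377bc689bbde2c4ddee1226ef68f1377b0489bbd4244dde91626ef48313779c489bbc8244dde31e26ef18d13778c589bbc61c4dde21e26ef107137780789bbbe3c4ddde1626eef03137770489bbb62c4ddda2226eed03137764889bbb2244ddd81e26eec0d137760189bbae444ddd62226eea8b137754489bbaa0c4ddd41226eea03137748789bba4344ddd12226ee88b137740889bba02c4ddd01226ee803137734689bb9a144ddcb2226ee58f13772c689bb961c4ddcb0626ee509137728189bb923c4ddc91a26ee487137724289bb90344ddc51e26ee28d137714389bb8a144ddc41e26ee20d13770c889bb86244ddc21226ee091137704789bb82244ddc02226ee00d137700489bb7e2c4ddbe1626edf091376f4889bb7a3c4ddbd1a26ede891376f4389bb7a144ddbc1226edd8b1376e8789bb72444ddb91226edc111376e0489bb6c244ddb51226ed9091376c0689bb600c4ddaf1626ed7111376b87)))) (BT.node (nat_lit 631) (BT.leaf (Bx.mk (nat_lit 0x89bd543c4deaa1a26f5491137aa4489bd520c4dea81226f5403137a9c489bd4c444dea61226f5303137a94789bd4a244dea41e26f520d137a90489bd46244dea21a26f5109137a84589bd42244dea02226f500b137a80189bd3e444de9e2226f4f0f137a78689bd3c2c4de9e0626f4e11137a70489bd36444de9b1626f4d89137a6c189bd302c4de972226f4b85137a58489bd2a3c4de951a26f4a8b137a50489bd262c4de931226f490f137a48689bd223c4de911226f478f137a3c689bd1c244de8d1e26f468d137a34489bd1a1c4de8d0a26f4611137a2c889bd162c4de8b1226f4585137a2c189bd14444de8a1226f4505137a28189bd123c4de891a26f4489137a24189bd103c4de881a26f438b137a1c489bd0c244de851e26f428d137a14489bd083c4de841a26f420b137a0c589bd06244de830e26f4185137a08589bd04244de820e26f4105137a08189bd023c4de811a26f4089137a00689bcfe344de7f1626f3e891379f0589bcf8244de7b1e26f3d8d1379ec489bcf23c4de791226f3c0f1379dc589bcec3c4de761226f3b051379d4489bcea0c4de741a26f39911379cc489bce60c4de721226f38111379c0489bce00c4de6f2226f37891379b8789bcdc344de6e0626f36891379b0489bcd6444de6b1226f35851379a8689bcd42c4de6a0e26f35051379a8189bcd22c4de691226f348513799c689bcce2c4de670626f3309137994189bcc63c4de631a26f318b13798c289bcc23c4de611a26f308b137984389bcc20c4de602226f300b137980489bcbe444de5f1626f2f89137978689bcba344de5d1626f2e11137970789bcb8344de5b1e26f2d11137968789bcb4344de5a1626f2c0f137960689bcb0144de580626f2b89137958589bcac244de551626f2a89137954189bca8244de531226f2911137948489bca2244de501a26f2809137940389bc9e2c4de4f1226f2783137938589bc9c244de4e0626f2691137934789bc9a1c4de4d0a26f260b137930489bc981c4de4c0a26f258b13792c489bc961c4de4b0a26f250f137928689bc94244de4a0e26f248f137924389bc90444de481e26f240d137920589bc8e2c4de471226f2311137918489bc8c144de451e26f228d137914589bc88444de441226f220713790c589bc86244de422226f210b137908489bc841c4de420626f2091137904489bc82144de410626f200b137900489bc7e3c4de3f1a26f1f8b1378f8489bc7a2c4de3d1226f1e0b1378f0489bc762c4de3b1226f1d0b1378e8489bc740c4de392226f1c111378dc7))) (BT.leaf (Bx.mk (nat_lit 0x89be3e244df1f0e26f8f85137c78589be3c244df1d1a26f8e89137c74389be3a144df1c1626f8e07137c70189be36244df1b0e26f8d83137c68789be342c4df191e26f8c89137c64389be32144df181626f8c09137c5c689be2e244df170e26f8b0f137c58689be2c2c4df151626f8a89137c50589be28244df131e26f890f137c44789be22344df110e26f8885137c44189be203c4df101a26f880b137c3c589be1e244df0f0e26f870f137c38689be1c2c4df0d1226f8611137c30689be18244df0b1a26f858b137c2c189be14444df0a1226f8505137c24489be102c4df071e26f8387137c18789be0c344df060a26f8303137c14689be0a1c4df040626f818f137c0c689be062c4df030e26f8183137c04789be02344df011626f8083137bf8689bdf8444defc1226f7e07137bf0289bdf6344defb1626f7d85137be8889bdf4244defa0e26f7c8f137be4689bdf2144def82226f7c0b137be0489bdf01c4def71226f7b11137bd8589bdec244def51226f7a83137bd0889bde83c4def41a26f7991137bcc689bde6244def21626f7907137bc4589bde2244def10e26f780d137bc0489bde0144deef1626f7789137bbc389bddc244deee0e26f768d137bb4489bdda1c4deed0626f760b137bb0489bdd62c4deea1a26f748d137ba0789bdd02c4dee71226f7309137b94789bdca344dee51626f720b137b90489bdc62c4dee31226f710b137b88489bdc22c4dee11226f700f137b80689bdbe344dede1626f6f09137b74489bdba0c4dedc1e26f6e0d137b6c789bdb61c4deda2226f6d0b137b68489bdb2344ded90a26f6c11137b60789bdb0344ded71626f6b89137b5c389bdac244ded60e26f6b03137b54689bdaa244ded50e26f6a07137b48789bda4344decf1626f670f137b38489bd9c1c4dece0a26f6609137b2c589bd94244dec91e26f648d137b20889bd90244dec71e26f6311137b18489bd8a3c4dec51a26f6285137b14189bd88244dec32226f618d137b0c489bd861c4dec30a26f6183137b08889bd843c4dec21a26f610b137b08289bd82444dec10626f600b137b00489bd801c4dec00626f5f8b137afc489bd7e0c4debe1226f5e87137aec189bd74444deba1e26f5d0d137ae8389bd740c4deb91226f5c83137ae0489bd700c4deb71226f5b83137ad8789bd6c344deb41226f5a03137acc689bd662c4deb30626f590d137ac4889bd62244deb01e26f580d137ac0189bd5e2c4deaf1226f5787137ab8789bd5a3c4dead0e26f5611137ab0589bd58244deac0e26f558d137aac2)))))) (BT.node (nat_lit 636) (BT.node (nat_lit 634) (BT.node (nat_lit 633) (BT.leaf (Bx.mk (nat_lit 0x89bf441c4dfa20a26fd091137e84789bf42344dfa11226fd087137e84289bf403c4dfa01a26fcf89137e78789bf3c344df9e1626fcf07137e74789bf3a344df9d0e26fcd8f137e6c689bf362c4df9b0626fcd09137e64589bf302c4df971e26fcb8d137e54789bf2a344df951626fca0b137e50189bf26344df8f1226fc709137e30589bf18244df8c0626fc589137e28589bf12244df871a26fc38b137e10789bf08344df841626fc203137e0c489bf04244df811226fc00b137e00489befe2c4df7f0626fbf0b137df8489befc144df7d1e26fbe85137df0489bef62c4df7b0626fbd0f137de8689bef42c4df771e26fbb8b137dd8489beea3c4df751626fb689137db0589bed81c4df6c0626fb58f137dac689bed62c4df6b0e26fb50f137da8689bed42c4df6a0e26fb40f137da0689bed02c4df680e26fb405137da0189bece244df661e26fb30d137d98589bec82c4df641226fb203137d8c589bec6244df621e26fb10d137d84789bec2344df611626fb011137d80489bec0144df5f1e26faf8d137d7c589bebc244df5e0e26faf05137d74589beba244df5d0e26fae83137d70589beb8244df5c0626fad8d137d6c489beb42c4df5a1226fac8b137d64489beb03c4df581a26fac0b137d5c589beae244df561226faa91137d54489beaa0c4df542226faa09137d4c789bea6344df531626fa90d137d48589bea4244df501226fa803137d3c589be9a444df4d1e26fa68d137d34289be982c4df4c1226fa603137d2c189be94244df4a0626fa48f137d24689be90344df470626fa30f137d10489be843c4df421a26fa107137d08289be82344df410e26fa085137d00889be80244df400a26f9f8b137cfc389be7c144df3d1e26f9e8d137cf4589be7a1c4df3c2226f9e0d137cf0589be78244df3c0a26f9d89137ce8889be742c4df3a1226f9d03137ce4889be72244df382226f9c0f137ce0189be6e444df371e26f9b8d137cdc189be6c2c4df361226f9b05137cd4589be6a144df341e26f9a0d137cd0489be681c4df340a26f998b137cc8789be64344df311a26f9885137cc0789be60344df301626f9791137cbc789be5e244df2f0a26f970b137cb8489be5a2c4df2d1226f960f137cb0689be58244df2c0e26f9605137cac589be56244df2a1e26f950d137ca8489be541c4df2a0a26f948b137ca4489be503c4df281a26f940b137c9c589be4e244df261626f9309137c94789be4a344df251626f9211137c90489be480c4df221226f9103137c84589be42244df201226f8f8f137c7c6))) (BT.leaf (Bx.mk (nat_lit 0x89c062444e0310a27018831380c0889c0603c4e0301a27018071380c0289c0600c4e02f22270178b1380bc489c05e0c4e02e22270170b1380b8489c05c144e02e06270168b1380b4489c05a0c4e02c1627016091380a8789c054344e02a0e27015051380a8189c052444e0291e270148d1380a4489c0521c4e0290a270140f1380a0689c0502c4e0280e27014051380a0189c04a2c4e025122701283138090789c048344e0221e270110d138084889c0423c4e0211a270100d138080489c0401c4e0200a2700f8f13807c689c03c3c4e01e1a2700e0913806c489c0342c4e01a122700c89138064189c0303c4e018162700b8f138058489c02a3c4e0151a270098f138048789c024344e01216270088f138044689c0222c4e010122700789138038789c01c344e00e162700489138020589c00e2c4e00622270030f138018689c00c244e0060e2700305138010789c008344e00416270018f13800c689c004244e0001226fff8b137ff8789bffc344dffe1226fff07137ff4489bff82c4dffb1e26ffc8b137fe4489bff03c4dff81626ffb89137fd8489bfea444dff51e26ffa8d137fd4189bfe8244dff31226ff905137fc0789bfdc2c4dfec1e26ff60b137fb0189bfd42c4dfea1226ff503137fa4889bfd22c4dfe91226ff409137f9c489bfcc2c4dfe51626ff289137f94389bfca144dfe31a26ff109137f84489bfc0344dfe01226ff007137f80289bfbc3c4dfde1626fee91137f70489bfb63c4dfdb1a26fed8b137f68789bfb4344dfda1626fec89137f5c789bfae344dfd61226fea8b137f50489bfa81c4dfd31e26fe90b137f48489bfa22c4dfd11226fe809137f40389bf9e3c4dfcf1a26fe78b137f30789bf98344dfcc1626fe509137f24489bf903c4dfc81a26fe40b137f1c789bf8e344dfc71626fe387137f1c189bf8c144dfc51226fe285137f10489bf862c4dfc11626fe00f137f00489bf7e2c4dfbe1626fde91137ef4789bf7a344dfbd1226fde87137ef4289bf783c4dfbc1a26fde0b137ef0389bf76244dfb91a26fdc83137ee0889bf703c4dfb81a26fdc07137ee0289bf6e3c4dfb71a26fdb0f137ed8289bf6a244dfb41626fda09137ed0389bf662c4dfb31226fd987137ecc189bf643c4dfb21a26fd88f137ec4689bf5c3c4dfae0e26fd689137eb4189bf582c4dfac1226fd591137eac789bf56344dfab0e26fd585137ea8789bf54344dfa91626fd489137e9c889bf4e3c4dfa71226fd387137e98489bf4a1c4dfa50626fd20b137e90489bf46244dfa22226fd10f137e886)))) (BT.node (nat_lit 635) (BT.leaf (Bx.mk (nat_lit 0x89c166344e0b312270590b1382c4589c162244e0b01627058091382bc889c15e3c4e0af1227057871382bc289c15c2c4e0ad12270560b1382ac789c156344e0ab1227055871382a4589c150444e0a81e270540d1382a0589c14e144e0a6162705303138294889c14a2c4e0a422270520913828c889c1460c4e0a21e270510d138284489c1402c4e0a012270500313827c889c13e244e09f0e2704f85138278889c13c244e09e0e2704f05138278189c13a2c4e09d122704e87138274189c138244e09c0e2704e0313826c789c136344e09b0e2704d85138268789c132444e099162704c89138264289c1320c4e098222704c0f138260689c1300c4e097162704b89138258789c12c344e0941e2704a0d138250589c1280c4e09322270498b13824c289c1260c4e09222270490b138248489c1241c4e0920a2704903138244789c1221c4e0910a2704883138238789c11c344e08e16270470313822c689c1162c4e08b062704509138224889c1123c4e0891a270448b138224389c112144e0881a270440913821c589c10e244e0870a270428f138210789c1082c4e083122704111138208489c102444e08022270400f138200689c0fe444e07f1e2703f8d1381fc389c0fc3c4e07e1a2703e911381f4789c0fa344e07d062703d8b1381ec489c0f60c4e07a162703d091381e8189c0f23c4e0791a2703c891381e4389c0f2144e0741227039891381c4489c0e0344e0701627037891381b8489c0da3c4e06d1a270368b1381a8789c0d4344e06816270340713819c889c0ce3c4e0671a270338913819c389c0ce144e066122703289138190589c0c62c4e06312270308913817c589c0be244e05e1e2702f0d138178489c0bc1c4e05e0a2702e8f138174589c0b6244e05a122702d03138164789c0b2144e057122702b0f138158689c0ac2c4e05512270280913813c889c09e244e04f0a2702783138138289c09c0c4e04d162702687138130889c0982c4e04c0e2702605138130189c096144e04a22270250b138128489c0941c4e04922270248b138124389c0920c4e048222702409138120189c08e244e046162702309138114589c08a244e04416270220313810c789c086344e043122702185138108789c084344e04122270208b138100489c07e244e03e122701e891380f0889c078244e03c0e2701e051380ec789c0762c4e03a122701c0f1380e0689c06e244e036162701b091380d8389c06c0c4e0351e2701a8d1380d4389c068444e034122701a031380cc589c066244e03222270190b1380c81))) (BT.leaf (Bx.mk (nat_lit 0x89c2822c4e1410e270a085138504189c280444e14016270a009138500289c2800c4e13f162709f091384f4589c27a244e13d0e2709e851384f4189c2782c4e13c122709e071384f0289c2780c4e13b222709d8f1384ec689c2761c4e13b0a2709d071384e4889c2723c4e139122709c871384e4289c2703c4e137222709b0f1384d8689c26c0c4e135222709a8f1384d4589c268444e1341e2709a0d1384d0589c268244e1331627099891384cc389c266144e13306270990b1384c8489c2641c4e1320a27099031384c4789c262344e1311627098871384c4289c260244e1300e27098051384c0189c25e1c4e12f0a270970d1384b8489c25c1c4e12e0a270968b1384b4489c25a1c4e12d0a27096091384b0389c258144e12b22270958f1384ac489c2561c4e12b0a27095051384a4589c252244e1290e27094851384a0889c250344e1281227094071384a0289c24e2c4e126162709309138494889c24a344e125122709287138494289c2483c4e1241a2709205138490189c246244e122162709091138484689c242244e1210e2709085138480489c23e244e11e1e2708f0d138478589c23a444e11d1e2708e8d138474589c2382c4e11c122708d8b13846c489c2360c4e11a162708d09138464589c232244e1181e2708c0b13845c489c22c2c4e116122708a8b138454489c2242c4e11212270880f138440689c2201c4e10f1e270878513842c789c216144e10a1e270850d138428589c2103c4e1081a270840b138410489c206344e1031627080091383f4589c1fa244e0fc122707d8b1383e4889c1f2244e0f8162707b911383dc489c1ee0c4e0f6222707b091383d4889c1ea244e0f5062707a0b1383cc589c1e4244e0ef22270778d1383b8889c1dc244e0ee0a27077031383b4889c1da244e0ed06270760d1383b0389c1d8144e0ec06270750f1383a8589c1d40c4e0e912270740f1383a0689c1d01c4e0e80a270738f13839c689c1cc444e0e61e270730d138394489c1c8244e0e3122707103138384189c1c03c4e0e01a270700b138378789c1bc344e0de0e2706e8f138374689c1b83c4e0dc1a2706e0b13836c789c1b6344e0da1e2706d0d138360489c1ac244e0d4122706909138344489c1a0244e0cf1e270678b138334489c192344e0c916270640b138318789c18c2c4e0c512270620b13830c789c186344e0c3162706011138300189c17e244e0bc162705d911382ec789c176244e0bb0e2705d851382e4789c1722c4e0b8122705b8b1382d8589c16a444e0b4222705a091382cc8))))) (BT.node (nat_lit 638) (BT.node (nat_lit 637) (BT.leaf (Bx.mk (nat_lit 0x89c3a2444e1d11a270e889138744389c3a2144e1d01e270e80d138740589c3a01c4e1ce1a270e691138734789c39a344e1cd16270e683138730489c396444e1cb16270e58913872c389c394244e1c912270e409138718789c38c344e1c60e270e305138718189c38a444e1c516270e289138714389c38a0c4e1c422270e20b138710489c3881c4e1c406270e189138708789c382444e1c11e270e08d138704589c37c3c4e1be1a270df0b1386f4789c37a344e1bd16270de871386f4289c37a0c4e1bc12270dd891386e8789c374344e1ba16270dd071386e8189c3702c4e1b712270d9891386c8489c362244e1b10a270d8091386bc489c35c2c4e1ae12270d7031386b4789c3562c4e1aa22270d5091386a8189c350244e1a722270d389138698689c34a244e1a422270d20913868c189c342444e1a11a270d085138680489c33e2c4e19e16270ce8d138674489c33a1c4e19d06270ce11138670489c3380c4e19a22270cd0d138668489c3341c4e19a06270cc8f138664389c332144e19812270cb8b138658789c32c144e19522270c989138644789c322244e19022270c80b138640489c3201c4e1900a270c78f13863c689c31e1c4e18f0a270c709138630789c318344e18c12270c60713862c789c3122c4e18912270c483138620689c310144e1871a270c38713861c289c30c3c4e18516270c211138610589c308244e18406270c19113860c589c306244e1830a270c183138608889c3043c4e18212270c00b138600489c2fa344e17c1e270be091385ec789c2f6344e17a12270bd031385e4889c2f23c4e1791a270bc8b1385e4289c2f03c4e1780e270bb911385dc489c2ee1c4e1761a270bb051385d4889c2ea344e1731e270b90b1385c8489c2e22c4e17112270b8111385c0789c2de244e16d16270b60f1385b0689c2d8244e16c0e270b6051385ac689c2d4244e16912270b40b1385a0489c2ce344e16712270b385138594889c2ca3c4e1651a270b289138594389c2ca144e16506270b20d13858c789c2c6344e1630e270b185138584489c2c03c4e1601a270b00b138574489c2b83c4e15c1a270ad8913856c189c2b4244e1591e270ac8d13855c789c2ae344e15706270ab09138550889c2a83c4e1541a270aa09138550389c2a8144e15312270a90f138548589c2a03c4e14f12270a70f138538589c29a2c4e14d12270a687138530489c2981c4e14a1e270a30d138518589c28a244e1441e270a20d138510589c2881c4e14316270a18913850c289c284244e1420e270a1051385081))) (BT.leaf (Bx.mk (nat_lit 0x89c4bc2c4e25d1e2712e8d138974489c4ba1c4e25d0a2712d8f13896c689c4b42c4e2591e2712c8b138954589c4a82c4e25322271298f13894c689c4a6244e2530e2712985138948789c4a4344e252162712889138938889c49c344e24e12271260f138930689c4963c4e24b1a2712511138924589c490444e2481e271240d138920389c490144e24722271238f13891c689c48e2c4e2461e271230d138918589c48a3c4e2451a2712211138910489c4862c4e242162711f091388f4789c47a344e23d162711e0f1388f0689c4782c4e23b162711d0f1388e8689c4740c4e239162711c0f1388e0589c4700c4e237122711b0d1388d8589c46a244e23416271190f1388c8589c4622c4e2301627117911388bc689c45e244e22f0a271170f1388b8689c45a244e22c12271148913889c789c44e344e227162711383138898489c44a3c4e225162711209138888589c444244e2211e271108d13887c589c43c3c4e21e122710f07138878289c43a2c4e21d122710e0913886c589c436244e21a162710c0f138860689c4302c4e217122710b0b138844689c4203c4e2101a271080b13883c489c4183c4e20c1a271060b138830189c4163c4e20b1a271050b138824789c412344e20916271040f138820689c4102c4e207162710383138818789c40c344e20616271028f138810589c4043c4e2020e271008f138804689c3fe444e1ff16270ff871387f8789c3fc344e1fe16270fe911387f4789c3fa344e1fd06270fe091387ec889c3f6244e1fa16270fc911387e4489c3f21c4e1f812270fb911387dc589c3ee244e1f706270fb111387d8589c3ec244e1f522270fa891387d0889c3e8244e1f222270f90f1387c8689c3e4244e1f20e270f9051387c4589c3e2244e1f016270f8091387c0189c3de344e1ee1e270f70d1387b8589c3da244e1ed0e270f6111387b0589c3d8244e1eb1e270f58d1387ac189c3d4444e1ea1e270f5091387a4889c3d23c4e1e91a270f48b1387a4489c3d0244e1e71e270f38513879c189c3ca2c4e1e41e270f20913878c589c3c6244e1e306270f109138784789c3c2344e1e112270f087138784289c3c20c4e1e01e270f00d138780589c3be444e1df1e270ef0b138778489c3bc1c4e1dd1e270ee8d138774489c3ba1c4e1dd0a270ee0f138770689c3b82c4e1dc0e270ed8d13876c589c3b4444e1da1e270ed0d138768389c3b4144e1d922270ec8f138764389c3b2144e1d822270ec0d138758489c3a8444e1d41e270ea0d138750489c3a81c4e1d40a270e98b1387485)))) (BT.node (nat_lit 639) (BT.leaf (Bx.mk (nat_lit 0x89c57c244e2be0e2715f05138af4889c57a3c4e2bd122715e85138af0589c578244e2bb162715d89138aec289c574444e2ba162715d07138ae8189c572444e2b9162715c89138ae4389c5720c4e2b8222715c0f138ae0689c570244e2b80e2715c05138ae0189c56e444e2b71e2715b8d138adc589c56e1c4e2b70a2715b83138ad8889c56c2c4e2b6122715b07138ad8289c56c0c4e2b51e2715a8d138ad4389c56a144e2b5062715a0f138ad0689c568244e2b40e2715a05138acc589c566244e2b2162715909138ac8389c564144e2b122271588f138ac4689c562244e2b10e2715885138ac0589c560244e2b00e2715791138abc689c55e244e2af0e2715783138ab8889c55c3c4e2ae1a271570b138ab8289c55c0c4e2ad162715689138ab0889c5583c4e2ac1a2715591138aac589c556244e2aa22271550f138aa8689c554244e2aa0e2715505138aa4889c5523c4e2a91a271548b138aa4189c54e444e2a71e271538d138a9c389c54e144e2a61e271530d138a98589c54c144e2a4162715187138a8c289c5460c4e2a21e271510d138a84789c542344e2a1162715087138a80789c540344e2a00a2715003138a7c489c53c444e29e1e2714f0d138a74789c53a344e29d162714e0b138a70389c5380c4e29b122714d09138a68189c5323c4e299162714c0f138a60389c530144e298062714b8f138a5c689c52e2c4e296162714b09138a58389c52a244e2950e2714a83138a50889c528244e2940e2714a05138a50189c5263c4e292162714909138a48389c5240c4e2911e271488d138a44389c522144e29106271480f138a40689c5200c4e28f162714789138a38589c51c244e28d1e271468d138a2c789c516344e28b162714583138a20589c50e344e287162714311138a18489c50a3c4e2851a2714283138a10889c5083c4e284162714209138a0c889c506344e283122714111138a08489c504144e2811a271408b138a00589c4fe244e27f0e2713f851389f8589c4fc244e27e0e2713e911389f4589c4fa244e27d0a2713e831389f0489c4f62c4e27b122713d091389e4789c4f22c4e278122713b8d1389d8789c4ec344e276162713a8b1389cc589c4e6244e27216271388f1389c4689c4e22c4e26f1e271378d1389bc589c4dc244e26d12271360f1389b0689c4d82c4e26a1e271350d1389a8589c4d22c4e26816271338d13899c489c4ce1c4e2670a2713309138990789c4c8344e26406271318f13898c689c4c60c4e262122713091138984489c4c0244e25f1e2712f8d13897c5))) (BT.leaf (Bx.mk (nat_lit 0x89c6b6244e35b0e271ad0b138d60889c6b02c4e35812271ab91138d5c589c6ae244e3561e271ab0d138d58189c6aa444e3551e271aa89138d50589c6a8244e3521e271a90d138d48189c6a22c4e35016271a78f138d3c689c69e244e34f0e271a785138d38789c69c344e34d16271a689138d34189c6982c4e34b1e271a58d138d2c389c696144e34a12271a40f138d20689c68e3c4e3471a271a38b138d18489c68a244e34412271a183138d08589c6822c4e34022271a00f138d00689c6801c4e33e1e2719f0d138cf8589c67c0c4e33d1a2719e8b138cf0489c6723c4e3391a2719c8b138ce0789c6702c4e3371a2719b8b138cd8789c66c344e3301e271980d138cc0589c65c3c4e32e1a2719703138cb4589c6583c4e32c1a2719609138cb0389c658144e32b1a271958b138ca8489c64c2c4e325162719209138c8c589c6442c4e3211e271908d138c84589c6403c4e3201a271900b138c7c689c63e2c4e31e122718e89138c70889c6383c4e31c1a2718e0b138c6c489c634244e318122718b89138c54489c628244e312222718891138c44789c6202c4e31012271878b138c3c489c61c3c4e30e1a2718707138c38289c61a444e30d122718683138c30889c6180c4e30b162718511138c28189c612444e309162718489138c24189c60e3c4e3071a2718383138c18889c60c2c4e306122718303138c14689c60a244e3050e2718285138c10889c6082c4e3040e2718203138c0c789c606344e3030e2718185138c08889c6043c4e3021a271810b138c08189c600244e300062717f8d138bfc289c5fc3c4e2fe1a2717f0b138bf4489c5f8244e2fb122717d11138be8189c5f2444e2f9122717c11138be0489c5ee244e2f51e2717a0d138bd0189c5e43c4e2f21a271788b138bc4489c5e20c4e2f016271778f138bbc689c5de1c4e2ef0a2717711138bb8589c5dc244e2ed1a2717687138bb0689c5d63c4e2eb1a2717509138ba4489c5ce244e2e612271720f138b80889c5c03c4e2e0122717005138b7c689c5bc344e2de162716e89138b70489c5b22c4e2d8122716b8d138b58789c5ac0c4e2d51e2716a8d138b54589c5a8344e2d40a2716991138b4c489c5a4244e2d122271678f138b3c689c59e2c4e2ce22271670d138b38489c59a244e2cc1e271660d138b2c789c596344e2ca122716489138b18589c58c244e2c5222716289138b10589c588244e2c3122716187138b0c289c5860c4e2c2122716105138b08189c5822c4e2c112271600b138b00489c57e2c4e2bf122715f0f138af86)))))))))) (BT.node (nat_lit 704) (BT.node (nat_lit 672) (BT.node (nat_lit 656) (BT.node (nat_lit 648) (BT.node (nat_lit 644) (BT.node (nat_lit 642) (BT.node (nat_lit 641) (BT.leaf (Bx.mk (nat_lit 0x89c7e23c4e3f01e271f80d138fc0489c7e00c4e3ef16271f787138fb8589c7dc244e3ee06271f68b138fb0589c7d8244e3ec06271f58f138fac689c7d43c4e3ea1a271f50b138fa4889c7d2244e3e816271f409138fa0189c7ce444e3e71e271f38d138f9c289c7cc444e3e616271f307138f98289c7ca3c4e3e51a271f28b138f90589c7c8244e3e312271f091138f80789c7c0344e3df22271ef8f138f7c589c7be1c4e3df0a271ef83138f78889c7bc3c4e3de1a271ef0b138f78389c7ba244e3dc12271ec89138f60789c7b0344e3d816271eb0d138f48689c7a23c4e3d11a271e88b138f44389c7a03c4e3d01a271e78b138f38589c79a444e3cd1e271e68d138f34489c79a1c4e3cd0a271e603138f2c589c792444e3c91e271e48d138f24389c7903c4e3c816271e38f138f1c689c78e244e3c70e271e385138f1c189c78a444e3c51e271e28d138f14489c78a1c4e3c506271e20f138f0c489c784344e3c112271e00b138f00489c77e444e3bf1e271df89138efc389c77e144e3be1e271df0d138ef8589c77a244e3bc1e271de0b138eec789c776344e3bb16271dc8f138ee4689c770244e3b712271da89138ecc789c766344e3b212271d889138ea8789c754344e3aa16271d489138ea0489c74e2c4e3a712271d311138e98689c74c244e3a60e271d305138e90789c748344e3a406271d189138e88589c744244e3a122271d08f138e84689c742244e3a10e271d085138e80489c73e3c4e39f1a271cf8b138e74789c73a344e39c12271cd09138e64789c732344e39916271cb8f138e5c589c72c3c4e3961a271cb0b138e54489c7243c4e39012271c70f138e38589c71a3c4e38d1a271c68b138e34189c718244e3881e271c40d138e18589c70c244e3851e271c289138e14289c708244e3831e271c18b138e08589c704244e38116271c089138e00489c7001c4e3800a271bf8f138dfc589c6fc3c4e37e16271be8f138df4689c6fa2c4e37b1a271bd8b138de8489c6f02c4e37812271bc03138ddc689c6ee2c4e3761a271ba0f138dd0589c6e63c4e3731a271b98b138dc8789c6e4344e37116271b889138dc4389c6e2144e3701e271b80d138dc0489c6e01c4e3700a271b78f138dbc589c6dc344e36e16271b689138dac789c6d6144e36a16271b489138d9c489c6ca244e3641a271b20b138d8c589c6c60c4e36116271b083138d80789c6c0344e36016271af8d138d7c589c6be0c4e35e16271af07138d78289c6bc0c4e35d22271ae8d138d74489c6ba1c4e35d0a271ae0b138d6c8))) (BT.leaf (Bx.mk (nat_lit 0x89c8f63c4e47b1a2723d8b1391e8789c8f4344e47a162723c8f1391e4689c8f22c4e478162723c091391e0189c8ee2c4e477122723b0b1391d8489c8ec0c4e475222723a8f1391d4489c8ea1c4e4750a2723a831391d0489c8e4244e4701627238091391bc589c8de244e46f06272370b1391b8189c8d82c4e46c12272358b1391ac489c8d60c4e46a1e272348d1391a4589c8d21c4e4690a27234111391a0489c8d0144e4671e272338d13919c389c8ce144e467062723309139194489c8ca0c4e4641e272320d13918c889c8c6244e462162723087139184289c8c20c4e46016272300913917c489c8be0c4e45e1e2722f0d139178589c8b82c4e45c122722d8b13916c489c8b4444e45a1e2722d0d139168389c8b4144e4591a2722c8b13915c589c8ae244e4561e2722b0d139154589c8aa244e455062722a11139150789c8a8344e454122722a07139150289c8a43c4e4521a272290b139144889c8a22c4e451122722887139144289c8a20c4e4501e272280d139140589c89e2c4e44f12272270b139138489c89c0c4e44d1e272268d13912c789c896344e44b162722583139128789c894344e44a0e2722505139128189c892244e44812272238d139118589c88c1c4e4451e272228d139114389c88a144e4441e272220d139110589c8863c4e4431a272218b139108489c8823c4e4411a272200b139100489c8801c4e440062721f8f1390fc689c87e244e43f0e2721f851390f4789c87a344e43c1e2721e0d1390f0589c874244e439162721c891390e0689c8702c4e4371e2721b8d1390dc589c86c244e4360a2721a8b1390d0889c868344e434122721a071390cc589c864344e4312227218891390c0789c860344e4300627217911390bc789c85e244e42e22272170d1390b8489c8583c4e42c1a27215091390a8189c8523c4e4291a27214891390a4389c852144e4281a272138b13909c489c84c2c4e42612272128d139094589c842344e41d162720d89139060889c8303c4e4181a2720c09139060389c830144e416122720a8f139054689c82a2c4e414122720989139048489c81c244e40d1e272068d139034589c8183c4e40c1a272060b139030389c818144e40c062720589139028489c8102c4e40716272028b139010789c808344e404162720205139010189c8062c4e40212272008b139000789c8002c4e3ff12271fe89138ff0789c7f8344e3fc16271fd89138fe8689c7f42c4e3f912271fb8f138fdc689c7ee2c4e3f612271f911138fc8589c7e41c4e3f20a271f903138fc48)))) (BT.node (nat_lit 643) (BT.leaf (Bx.mk (nat_lit 0x89c9ce3c4e4e7122727385139398889c9cc2c4e4e6122727307139398189c9ca3c4e4e51a2727285139390589c9c8244e4e40e272718f13938c689c9c61c4e4e30a272710b139388489c9c41c4e4e122272708f139384689c9c2144e4e01e272700d139380489c9c01c4e4e00a272700313937c889c9be3c4e4df1a2726f8713937c289c9be0c4e4de162726f09139374589c9ba244e4dc222726e0f139370689c9b8244e4dc0a2726d9113936c789c9b6344e4db0e2726d8513936c189c9b43c4e4da1a2726c8f139360489c9b00c4e4d7222726b8f13935c689c9ae244e4d70e2726b85139358789c9ac344e4d6162726a91139354589c9aa244e4d5062726a0b139350489c9a80c4e4d3162726989139348789c9a23c4e4d11a2726887139344289c9a03c4e4d01a272680b13933c589c99e0c4e4ce1e2726691139334489c998444e4ca162726483139320889c9902c4e4c812272639113931c489c98e0c4e4c61e272630d139318189c98a444e4c5122726211139310489c986244e4c2162726109139308189c982244e4c0162725f0d1392f4789c97a344e4bb122725c0d1392e0189c96e444e4b71e2725b8d1392dc489c96e1c4e4b70a2725b0f1392d8689c96c2c4e4b5122725a871392d0789c968344e4b31e272598d1392c8789c964344e4b216272588b1392c4489c9603c4e4b01a272580b1392bc589c95c344e4ae1627256891392b0489c9543c4e4aa1a272550b1392a8189c9522c4e4a91227254111392a0589c94e2c4e4a712272530b139298489c94a444e4a51e272528d139294489c94a1c4e4a50a272520f139290689c9482c4e4a3162725189139288889c9441c4e4a11e272500b139280489c93e444e49f162724f8913927c389c93e0c4e49e222724f0b139278489c93c144e49e062724e91139274789c93a344e49d122724e87139274289c93a0c4e49c162724e0713926c589c9361c4e49a222724d0f139268489c934144e499162724c89139260889c930344e498122724c0713925c789c92e2c4e4970a2724b0b139258389c92a444e4951a2724a11139250789c928244e4940a2724a03139248489c9222c4e49112272480b139240189c91e2c4e48f122724783139238889c91c3c4e48e1a272470b139234589c91a244e48c1e272460d13922c589c9143c4e48a1a272450b139224489c9103c4e488162724389139214789c90a344e48516272418d13920c389c9022c4e4811227240091391fc789c8fe344e47f162723e8f1391f4689c8f83c4e47c1a2723e091391f03))) (BT.leaf (Bx.mk (nat_lit 0x89cac4344e5620a272b089139580489cabe244e55e12272ae8b139574489cab8444e55c1e272ae09139570389cab8144e55b1e272ad8b139568589cab41c4e55916272ac89139560589caae344e55616272ab09139554789caaa344e55512272aa87139554289caa83c4e5541a272a90b139548489caa2244e54f1e272a78d13953c589ca983c4e54c1a272a60b13952c589ca94244e54822272a40b139520489ca901c4e5480a272a40313951c789ca8e344e5470e272a385139518889ca8c244e5460a272a28b139510589ca86344e54312272a111139508489ca82444e5411e272a089139500889ca80344e540122729f891394f8589ca7a2c4e53c162729d8f1394ec489ca76144e53b062729d111394e8589ca74244e539222729c8b1394e4489ca70244e537162729b091394d4789ca6a344e534162729a031394cc689ca643c4e5321a272988f1394c4689ca60244e52f1e272958f1394ac689ca562c4e52b06272948913949c889ca4e3c4e5271a2729309139494589ca483c4e5241a2729209139490189ca461c4e52222272910b139488489ca441c4e5220a2729103139484889ca423c4e5211a2729087139484289ca40244e5200a272900313947c689ca3e2c4e51f0e2728f83139478889ca3c2c4e51e122728f03139474889ca3a3c4e51d0a2728e11139470789ca38344e51c062728d8f13946c589ca361c4e51a1e2728d0d139468289ca323c4e5191a2728c87139464189ca30444e5181e2728c0d139460589ca30244e517162728b03139454589ca2a244e515062728a0d139450189ca262c4e51312272890b139448489ca203c4e5101a272879113943c689ca1e2c4e50f06272870f139438689ca183c4e50c16272850b139424889ca123c4e5091a2728489139424389ca12144e5081a272828f139414689ca0a2c4e50416272810b139404589ca00344e500162727f091393f4589c9f42c4e4fa122727c8f1393e4689c9f22c4e4f90a2727c0f1393e0689c9ee3c4e4f71a2727b8b1393d8489c9ec144e4f6062727a891393d0889c9e82c4e4f4122727a031393cc889c9e6244e4f22227279091393c8189c9e2444e4f11627278831393c0589c9e0244e4ef22272778d1393bc489c9de1c4e4ef0a27277111393b8789c9dc344e4ee1227277071393b8289c9da444e4ed1e272768d1393b4389c9da144e4ec22272760f1393b0689c9d8244e4ec0e27276051393ac889c9d6344e4eb1227275871393a8589c9d4244e4e91627274891393a4389c9d02c4e4e812272740713939c8))))) (BT.node (nat_lit 646) (BT.node (nat_lit 645) (BT.leaf (Bx.mk (nat_lit 0x89cbda2c4e5ec16272f6091397ac589cbd6244e5eb06272f50f1397a8689cbd23c4e5e91a272f4091397a0189cbce2c4e5e712272f383139798489cbcc0c4e5e522272f283139790889cbc8244e5e322272f18b139788889cbc43c4e5e20e272f103139784689cbc22c4e5e01e272f00b13977c789cbbe2c4e5de16272ef03139774889cbba2c4e5dc22272ee0b139770489cbb63c4e5db1a272ed8b139768889cbb43c4e5da1a272ec8f139764189cbb02c4e5d812272eb8913975c189cbac3c4e5d61a272eb09139758289cbaa2c4e5d512272ea0b139750189cba6344e5d312272e98713974c289cba2444e5d11a272e80f139740689cba02c4e5cf12272e785139738589cb9a244e5cc1e272e60d13972c589cb94444e5ca1e272e50d139728489cb941c4e5ca0a272e40f139720689cb902c4e5c71e272e38d139718789cb8c344e5c616272e20d13970c589cb860c4e5c222272e10f139708689cb841c4e5c20a272e089139700789cb802c4e5bf1e272df8d1396f4789cb7a344e5bd12272de871396f4289cb782c4e5bc06272dd891396e8789cb722c4e5b912272db8f1396dc689cb6c244e5b516272da891396d4189cb683c4e5b41a272d90b1396c8489cb62444e5b11e272d88d1396c4389cb62144e5b106272d80f1396c0689cb602c4e5af1e272d7091396b4489cb54244e5a922272d48f1396a4689cb52244e5a90e272d4851396a0789cb4e344e5a61e272d30d139698589cb4a2c4e5a412272d18f13968c689cb462c4e5a216272d089139678589cb3a244e59c0a272cd8f13966c689cb32444e59912272cc11139658789cb2c344e59506272ca0f139650689cb28244e5940e272c98f13964c689cb262c4e5921e272c90d139648589cb203c4e5901a272c803139638489cb1a2c4e58d12272c611139630689cb18244e58c0a272c40b139620489cb0e244e5861e272c30d139618389cb0a3c4e5851a272c20913960c789cb06344e58316272c10f139608689cb02244e58012272bf891395f4789cafa344e57d16272be091395ec589caf6244e57b0a272bd0f1395e8689caf42c4e5791e272bc8d1395e4389caee2c4e57706272bb0b1395d4489cae82c4e5721e272b90d1395c8589cae20c4e56f22272b78f1395bc689cade1c4e56e1a272b70b1395b0689cad6444e56b1e272b58d1395ac589cad6144e56a16272b48b1395a4489cad03c4e5681a272b4091395a0389cad0144e56712272b311139598789cacc344e56612272b307139598289caca244e56416272b1891395887))) (BT.leaf (Bx.mk (nat_lit 0x89cd2a344e6950e2734a85139a54189cd283c4e6941a2734a09139a50389cd28144e69312273490b139a48489cd202c4e68f1e273478d139a3c589cd1c244e68d122734509139a20789cd10344e688162734309139a14689cd0a2c4e68416273410f139a08689cd042c4e6811e273408d139a04589ccfe244e67f062733f111399f8789ccfc344e67e122733e911399f4489ccf8444e67c1e2733e0d1399f0489ccf80c4e67b1e2733d8b1399ec189ccf2344e679162733c111399e0789ccf0244e6780e2733c051399dc889ccee0c4e676222733b0b1399d4889ccea244e67412273388f1399c4689cce0444e66f1227336871399b4289ccda0c4e66c12273358f1399ac589ccd4244e6691a27334891399a4389ccd0344e668162733389139994689ccca2c4e66506273320913998c789ccc6344e662122733089139980489ccbc2c4e65d122732d0913995c189ccac244e656062732a91139954789ccaa344e655122732a87139950489cca4344e652162732889139940589cca0244e65006273278f13993c689cc9a244e64c1e273260d139930289cc980c4e64b12273238f13991c689cc8e244e6470e273238513991c189cc8a3c4e6451a273228313990c689cc86244e6411e273208d139904589cc80244e63e1a2731f0b1398f4889cc7a2c4e63d122731e111398f0789cc78344e63c122731e071398f0289cc74444e63a1e2731d0d1398e8589cc740c4e639162731c891398e0589cc6e244e636222731b0f1398d8689cc6c244e6360e2731b051398d0789cc68344e634162731a031398cc789cc66344e63316273190f1398c4489cc603c4e6301a273180b1398bc589cc5e244e62e1227316091398a4489cc503c4e62816273138b13989c489cc4c2c4e626122731303139894689cc48344e623162731183139888589cc440c4e6211e273108d139884289cc40444e6201e273100d139880589cc400c4e61f162730f0b139870889cc38344e61c122730e07139870289cc363c4e61b1a2730d8b139868489cc323c4e6191a2730c8b139860889cc302c4e61506273098f13984c489cc26144e612122730889139838489cc1a344e60d16273060913982c489cc142c4e60916273040913981c789cc0e344e60612273020f139810689cc00244e5ff12272fe8f1397f4589cbf82c4e5fb16272fd091397e4589cbee244e5f41e272fa0d1397cc489cbe23c4e5f11a272f88b1397c4189cbe02c4e5f012272f8031397bc589cbde244e5ef06272f7111397b8789cbdc344e5ee16272f68f1397b46)))) (BT.node (nat_lit 647) (BT.leaf (Bx.mk (nat_lit 0x89ce68244e73312273990d139cc4489ce621c4e731062739803139cbc889ce5e2c4e72f0e2739783139cb8889ce5c2c4e72e122739705139cb4589ce5a244e72c12273958f139ca8789ce54344e72a16273940b139c98889ce4c2c4e726122739291139c94589ce4a244e7241e273920d139c90189ce46444e7231e2739189139c88889ce44344e722122739089139c80789ce40344e720162738f8b139c7c489ce3e144e71e162738f09139c78289ce3c0c4e71d062738e0f139c70689ce382c4e71c062738d8f139c6c689ce362c4e71a162738c0d139c5c489ce2c3c4e7161a2738b0b139c48589ce24244e710122738803139c34489ce183c4e70c1a273858b139c28589ce12444e7091e273848d139c24489ce121c4e7090a273840b139c1c789ce0e2c4e705122738189139c08489cdfa444e6fd122737e0d139bf0589cdf6244e6fa122737c89139be0389cdf0144e6f8062737b8f139bdc689cdee2c4e6f6162737b09139bd4589cdea244e6f31a273798b139bcc189cde4344e6f2122737907139bc8289cde22c4e6f01a273780b139bbc889cdde2c4e6ef12273770f139bb8689cddc0c4e6ed1e2737689139bb0889cdd82c4e6eb0e2737509139ba8389cdd20c4e6e8122737387139b98489cdcc1c4e6e5162737287139b90789cdc8344e6e4062737189139b88889cdc43c4e6e21a2737109139b88389cdc4144e6e11e273708d139b84589cdba3c4e6dd1a2736e83139b6c789cdb6344e6d8122736b8f139b5c689cdae2c4e6d7062736b0f139b58689cdac2c4e6d51e2736a8d139b44789cda2344e6d116273680b139b3c589cd9a444e6cd1a2736689139b34389cd9a144e6cc1e273660d139b28489cd922c4e6c816273638b139b1c489cd8e1c4e6c6122736289139b08489cd823c4e6c11a273608b139afc789cd7e344e6be122735e89139aec789cd76344e6ba222735d09139ae0489cd6e2c4e6b61e2735b0d139ad8589cd6c144e6b51a2735a0b139ad0489cd662c4e6b3122735985139ac8789cd64244e6b20a273588b139ac4489cd602c4e6b0122735803139abc789cd5e344e6ae122735609139aac789cd561c4e6ab0a2735491139aa4789cd52344e6a81e273540d139aa0589cd4e2c4e6a712273530b139a94789cd48344e6a4162735203139a8c589cd442c4e6a212273508f139a80589cd3e244e69e0e2734f03139a74789cd3a2c4e69d062734e0f139a70689cd382c4e69c0e2734e05139a70189cd362c4e69b122734c8f139a64689cd322c4e6971e2734b8b139a547))) (BT.leaf (Bx.mk (nat_lit 0x89cf78444e7bc1e273de0d139ef0489cf781c4e7bc0a273dd89139ee8489cf6e444e7b712273db85139ed8689cf6c244e7b60a273da89139ed4389cf68244e7b312273d911139ec8789cf64344e7b20a273d88f139ec4689cf622c4e7b016273d809139ebc789cf5a444e7ad1e273d689139eb4389cf5a144e7ac16273d58b139ea8589cf54244e7a916273d489139ea0489cf4e2c4e7a712273d383139e98789cf4c344e7a616273d28b139e94489cf483c4e7a41a273d18d139e8c189cf443c4e7a21a273d10b139e80489cf3e244e79f06273cf0f139e78689cf3c2c4e79c16273ce09139e6c789cf36344e79a22273cd0f139e68689cf341c4e79a06273cc91139e64789cf32344e79906273cb09139e50789cf263c4e7931a273c98b139e48889cf242c4e79212273c891139e44589cf22244e79022273c80f139e40689cf201c4e7900a273c78f139e3c689cf1e2c4e78f0e273c70b139e38489cf1a444e78d1a273c689139e34389cf14244e7881e273c40d139e20589cf0e2c4e78712273c387139e1c289cf0e0c4e78622273c30d139e0c889cf063c4e78312273c187139e0c289cf04244e78112273c011139e00789cf00344e78012273c007139e00289cefe244e77e1e273bf0d139df8589cefa244e77912273bc0f139de0689ceee2c4e77616273bb09139dd4689ceea1c4e7750a273ba09139dcc789cee62c4e77216273b909139dc8189cee22c4e77112273b883139dc0789cee0344e76f1e273b78d139dbc589cede0c4e76e0a273b703139db4889ceda2c4e76d12273b685139db0889ced82c4e76c12273b605139db0189ced63c4e76b1a273b587139dac189ced4444e76a1e273b50b139da8489ced02c4e76812273b407139d9c689cece2c4e76612273b28f139d94689ceca2c4e7641a273b00f139d80389cec00c4e75f22273af8d139d7c389ceba244e75b1e273ad8d139d6c589ceb4244e75912273ab0b139d58489ceaa2c4e75506273aa09139d4c489cea03c4e75016273a78f139d3c689ce9e2c4e74c1e273a60d139d30589ce96444e74b12273a48f139d20489ce8e244e7461e273a30d139d18589ce8c0c4e7451a273a28b139d0c789ce86344e74316273a109139d04489ce802c4e740122739f8b139cfc489ce7e0c4e73e1a2739f0b139cf4589ce7a244e73c162739e09139cec789ce76344e7391e2739c8d139ce4589ce720c4e738162739c09139cdc889ce6e2c4e737122739b11139cd8589ce6c244e735222739a8f139cd4589ce6a244e734222739a0f139cd06)))))) (BT.node (nat_lit 652) (BT.node (nat_lit 650) (BT.node (nat_lit 649) (BT.leaf (Bx.mk (nat_lit 0x89d052244e8290e274148513a0a0789d050344e82816274139113a09c589d04e244e82706274130f13a098689d04c2c4e82412274118f13a08c689d0462c4e8211e274108d13a084589d040244e81f162740f0b13a074789d03a344e81d162740e8513a074189d034244e8171e2740b8d13a05c289d02c3c4e815122740a0913a050189d0263c4e8131a274089113a03c489d01e1c4e80e16274070913a038289d01a2c4e80c12274059113a02c489d0160c4e80a22274050313a024889d012344e80906274040513a014889d00a3c4e8041e274020d13a010489d0081c4e8040a274019113a00c389d006144e80306274010d13a008189d0022c4e8010a274001113a000489d0001c4e8000a273ff8b139ff8589cffc244e7fe0a273fe91139ff4589cffa244e7fd0a273fe83139ff0789cff8344e7fc12273fe07139ff0289cff6344e7fb16273fd0f139fe8689cff22c4e7f912273fc83139fe0789cff0344e7f812273fc07139fe0289cff00c4e7f712273fb11139fd8789cfec0c4e7f422273fa0f139fd0689cfe8244e7f40a273f983139fc8789cfe4244e7f20e273f891139fc4589cfe21c4e7f106273f80b139fbc489cfdc3c4e7ed1e273f68d139fb4589cfd8244e7eb16273f589139fa8889cfd43c4e7ea12273f507139fa8289cfd23c4e7e916273f40b139fa0489cfce1c4e7e706273f311139f98589cfcc244e7e60e273f303139f94889cfca244e7e41e273f20d139f90289cfc80c4e7e322273f189139f88889cfc43c4e7e212273f107139f88289cfc22c4e7e112273f009139f80389cfc0144e7e006273ef91139f7c589cfbe244e7df0e273ef85139f78889cfbc2c4e7de12273ef05139f74589cfba244e7dc22273ee09139f70389cfb8144e7d912273ec09139f5c589cfae244e7d61e273eb0d139f58489cfac1c4e7d60a273ea8b139f54489cfaa144e7d422273ea09139f50389cfa8144e7d316273e989139f48489cfa0344e7ce1e273e70d139f38589cf9a244e7cb22273e589139f2c189cf94444e7ca1e273e50d139f28589cf941c4e7ca0a273e491139f24289cf920c4e7c822273e40f139f20389cf900c4e7c71e273e38d139f1c189cf8c2c4e7c612273e307139f18289cf8c0c4e7c522273e28b139f14489cf8a1c4e7c50a273e20b139f10489cf880c4e7c312273e187139f0c289cf843c4e7c21a273e10b139f00789cf80344e7c016273df89139ef8889cf7c3c4e7be1a273df0b139ef8389cf7c144e7bd22273de8f139ef4689cf7a2c4e7bd0e273de85139ef41))) (BT.leaf (Bx.mk (nat_lit 0x89d1402c4e89f162744f8913a278489d13a344e89d162744d8f13a26c689d136144e89b062744c8d13a260789d130344e89412274490f13a248689d1242c4e8920e274490513a248189d122244e8910e274480d13a23c889d11e244e88f0a274468913a230889d116244e88a1e274450d13a228589d1123c4e88916274438b13a218889d10c244e88516274420913a20c489d102244e87f1a2743f8b13a1fc389d0fe0c4e87e1e2743f0d13a1f8589d0fa2c4e87d122743d8b13a1e8889d0f43c4e87a1a2743d0913a1e8389d0f4144e879122743c0f13a1dc689d0ee2c4e8731e274398d13a1cc589d0e2244e87012274378f13a1bc689d0de244e86f0e274378513a1bc189d0dc444e86e16274370913a1b4589d0da244e86c1e274360b13a1ac589d0d4444e86a1e274350d13a1a8589d0d41c4e86a06274348f13a1a4689d0d22c4e8690e274348313a1a0589d0d0244e86722274338b13a19c289d0ce0c4e86622274330b13a198489d0cc144e86606274329113a194789d0ca1c4e86416274320913a190289d0c62c4e8630a274310913a188189d0c22c4e86106274300f13a180589d0be444e85f0a2742f8313a178889d0bc3c4e85e1a2742f0b13a174689d0ba0c4e85c222742e0f13a170689d0b82c4e85b222742d8913a16c189d0b43c4e85a1a2742d0313a164889d0b23c4e859122742c1113a160689d0ae444e8571e2742b8d13a15c589d0ae0c4e856222742b0913a158289d0aa2c4e855062742a1113a150589d0a6444e85316274298913a14c389d0a60c4e85222274290913a148289d0a40c4e8511e274288d13a140489d09e2c4e84f12274271113a138789d09c344e84e12274270313a134489d0962c4e84b12274250b13a128489d0940c4e84912274240913a11c589d08e0c4e84612274230713a118289d08a3c4e8451a274228313a110789d088344e84312274218713a10c289d0860c4e84212274210713a108289d0840c4e8411e274208d13a104489d0821c4e8410a274201113a100489d0801c4e8400a274200313a0f0789d078344e83c162741d0b13a0e8489d0740c4e8391a2741c8913a0e4389d072144e8381a2741b8b13a0dc489d06c244e8350e2741a0f13a0d0589d064444e83216274190913a0c8189d062444e8311e274188b13a0c4489d0620c4e83022274180d13a0c0489d0600c4e82f22274178b13a0bc189d05c3c4e82e1a274170b13a0b4889d05a3c4e82d16274168313a0b0789d058344e82b16274158913a0ac189d0542c4e82a12274148f13a0a46)))) (BT.node (nat_lit 651) (BT.leaf (Bx.mk (nat_lit 0x89d208344e90416274818b13a40c189d2043c4e9021a274808f13a404689d202244e9010e274808513a400789d200344e90016274800713a3fc889d1fe344e8ff0e2747f1113a3f8589d1fc244e8fe0e2747f0513a3f4889d1fa2c4e8fd122747e8713a3f4289d1fa0c4e8fc122747e0713a3f0189d1f6444e8fb122747d8713a3ec289d1f60c4e8f9222747c8f13a3e4689d1f22c4e8f90a2747c8313a3e0889d1f02c4e8f8122747c0713a3e0289d1ee444e8f71e2747b8d13a3dc589d1ee144e8f6222747b0d13a3d4489d1e83c4e8f41a2747a0b13a3cc589d1e42c4e8f206274788f13a3c4689d1e20c4e8f022274780f13a3c0689d1e0244e8f00e274780513a3bc789d1de2c4e8ef06274770b13a3b8189d1da244e8ec12274758f13a3ac689d1d03c4e8e81a274739113a39c789d1ce344e8e70e274738513a39c189d1cc244e8e60a274728913a394289d1ca0c4e8e41e274720d13a390289d1c80c4e8e322274718d13a38c589d1c6244e8e306274711113a388789d1c4244e8e116274701113a380489d1c01c4e8df222746f8b13a37c489d1be1c4e8de162746f0913a378189d1ba3c4e8dd1a2746e8b13a370889d1b83c4e8dc1a2746e0713a370289d1b43c4e8d9222746c8b13a364489d1b0444e8d8122746b9113a35c689d1ae2c4e8d7122746b0913a354589d1aa244e8d5062746a0f13a350589d1a63c4e8d31a274698b13a34c189d1a43c4e8d21a274690b13a348189d1a21c4e8d106274680913a33c589d19e244e8ce22274670f13a338389d19c144e8cd16274668913a330589d198244e8cb1a274658913a32c389d196144e8ca1e274650d13a324889d192344e8c822274640b13a320489d18e2c4e8c51e274628d13a310489d1863c4e8c31a274610913a304789d1822c4e8c0122745f8b13a2fc489d17c3c4e8be1a2745e1113a2f0789d178344e8bc122745e0513a2e8589d1722c4e8b81a2745c0b13a2dc589d16e244e8b61e2745b0d13a2d8489d16c1c4e8b5162745a0f13a2cc889d1663c4e8b31a274598913a2cc289d1642c4e8b212274590713a2c4589d1621c4e8b01e274580d13a2c0489d1601c4e8b00a274580313a2bc789d15e344e8af16274570913a2b4589d1582c4e8ab22274558f13a2a8789d1542c4e8a816274540713a2a0289d14e3c4e8a71a274538713a29c189d14c2c4e8a612274530313a294589d14a244e8a422274520913a290289d1462c4e8a222274510713a288289d142444e8a11e274508d13a284489d1421c4e8a10a274500f13a2806))) (BT.leaf (Bx.mk (nat_lit 0x89d3082c4e9821e274c10d13a608589d3023c4e98116274c01113a600489d300144e98006274bf8b13a5fc489d2f8244e9791a274bc8313a5e0789d2f0344e97716274bb8313a5d8589d2ec244e9751e274ba8d13a5d4489d2ea1c4e9750a274ba0f13a5d0689d2e82c4e9731e274b90f13a5c8689d2e41c4e9711e274b78f13a5bc689d2dc3c4e96e1a274b70b13a5b4489d2d83c4e96c16274b48f13a5a4189d2cc3c4e9661a274b30b13a594489d2c83c4e9641a274b18913a588489d2c0244e95e1e274ae8b13a574489d2ba0c4e95c1e274ae0d13a56c589d2b6244e95a16274ad0913a564889d2b2344e95912274ac8513a560589d2b0244e9580e274ac0313a55c689d2ae1c4e9561e274ab0913a558289d2aa2c4e95422274aa0f13a550589d2a63c4e95316274a98913a54c189d2a42c4e95206274a89113a544789d2a22c4e95112274a81113a540689d2a0244e94f22274a78f13a53c689d29e2c4e94f0e274a78513a53c189d29c0c4e94d12274a68713a534289d298444e94c1e274a60d13a530189d296444e94b16274a58913a52c389d294444e94a16274a50913a528389d292444e9491e274a48713a524289d2903c4e9481a274a38f13a51c589d28c3c4e9461a274a30713a518289d28c0c4e9450e274a20d13a510289d2863c4e9431a274a18b13a50c289d2822c4e94016274a00913a500389d2800c4e93f1e2749f8d13a4f8789d27c344e93e162749e8f13a4f4689d27a0c4e93b222749d8d13a4e4789d272344e939162749b8913a4d8489d26a3c4e935162749a0913a4cc889d2643c4e9321a274990b13a4c8189d2622c4e93006274978d13a4bc589d25c3c4e92e1a274970313a4b4689d25a2c4e92d06274960f13a4b0689d2582c4e92b12274950b13a4a4489d250344e92816274928b13a490589d246244e92216274909113a484789d242344e92112274908713a484289d2403c4e9201a274900b13a47c489d2382c4e91c122748e0713a470189d236444e91b162748d8913a46c389d234444e91a162748d0913a468389d2340c4e9191e2748c8d13a464589d230344e918162748c0313a45c489d22c3c4e9161a2748b0b13a454789d22a344e91516274898b13a44c489d2243c4e9121a274880f13a440689d2202c4e90f22274878913a43c389d21e0c4e90e06274868b13a434489d218444e90c16274860313a42c789d216344e90b06274851113a428789d2122c4e90912274840513a41c289d20c444e90616274830913a418389d20a144e90506274821113a4107))))) (BT.node (nat_lit 654) (BT.node (nat_lit 653) (BT.leaf (Bx.mk (nat_lit 0x89d3bc244e9dd12274ee0f13a770689d3b82c4e9d812274eb0b13a758189d3aa444e9d51e274ea8d13a754489d3aa144e9d41e274ea0b13a744789d3a2344e9d106274e68f13a734689d39a2c4e9cc12274e58913a728889d394244e9c91e274e48b13a71c889d38e3c4e9c71a274e38313a714889d38a344e9c512274e28713a710589d3880c4e9c322274e18b13a70c489d386144e9c222274e10f13a708489d3840c4e9c116274e00f13a700689d3801c4e9c00a274df8b13a6f8589d37a444e9bd1e274de8d13a6f4389d37a144e9bc22274de0f13a6f0689d3782c4e9bc0e274de0513a6f0189d376444e9bb1a274dd8913a6ec389d376144e9ba1e274dd0b13a6e8389d374144e9ba06274dc9113a6e4789d372344e9b90e274dc8513a6e4189d370444e9b816274dc0913a6e0389d370144e9b722274db8b13a6dc489d36e1c4e9b70a274db8313a6d8889d36c3c4e9b61a274db0913a6d8389d36c144e9b516274da0b13a6d0489d366444e9b31e274d98d13a6cc489d3661c4e9b30a274d91113a6c8489d3622c4e9b112274d88313a6c0889d360344e9b016274d78b13a6bc489d35e0c4e9ae1e274d70d13a6b0789d358344e9ac16274d60313a6ac889d356244e9ab0a274d58313a6a8889d3542c4e9aa12274d50313a6a4789d352344e9a906274d41113a6a0789d350344e9a812274d39113a69c689d34e244e9a61e274d30b13a698189d34a444e9a516274d28913a690789d348344e9a406274d19113a68c789d346244e9a222274d10d13a684789d342344e9a10e274d08313a680889d3403c4e9a01a274d00913a680389d340144e9a006274cf8f13a67c689d33e1c4e99f0a274cf8313a678889d33c3c4e99e1a274cf0913a678389d33c144e99e06274ce9113a674789d33a344e99d12274ce8713a674289d33a0c4e99b22274cd8f13a66c689d3360c4e99a22274cd0b13a668489d332444e99916274cc8913a660789d330244e9980e274cc0513a65c789d32e344e99716274cb8313a658789d32c344e99616274ca9113a654789d32a244e9950e274ca8513a654189d328444e99416274ca0913a64c889d3263c4e9931a274c98b13a64c489d3260c4e99222274c90f13a648689d3240c4e9911e274c88d13a644589d320444e9901e274c80d13a63c889d31e2c4e98f12274c78313a638889d31c2c4e98e12274c70313a634789d31a244e98d0e274c61113a630789d3182c4e98a1e274c50b13a624489d30e2c4e98712274c30913a618289d30a3c4e98516274c20f13a6106))) (BT.leaf (Bx.mk (nat_lit 0x89d4bc1c4ea5e0a2752e8f13a974689d4ba244ea5d0e2752e8513a970489d4b6444ea5b1e2752d8d13a96c289d4b60c4ea571e2752b8d13a95c389d4ae144ea57062752b1113a958689d4ac244ea560e2752b0513a958189d4aa444ea55122752a0913a94c489d4a61c4ea530a275298313a948889d4a4244ea520e275290313a944589d4a2144ea4f16275278513a938589d49c244ea4e0a275268d13a930489d496444ea4b12275251113a928489d4923c4ea491a275248b13a920489d48e0c4ea4616275230913a914489d48a0c4ea441e275220d13a910189d486244ea4222275210913a900189d47e2c4ea3e222751f0d13a8f8489d47c1c4ea3e0a2751e8b13a8f4489d478444ea3c1a2751e0913a8f0289d474344ea3a0e2751d0313a8e4489d470244ea37122751b1113a8d8789d46c244ea360e2751b0513a8d4489d4682c4ea34122751a0313a8cc589d466244ea3212275188d13a8c4489d4621c4ea310a275178d13a8b4789d45a344ea2d16275160f13a8b0589d456244ea2922275148913a8a4389d450344ea2816275140913a8a0389d450144ea271a275138913a89c389d44e0c4ea2622275130b13a898389d44a3c4ea251a275128313a890789d448344ea2416275120313a88c589d446244ea230e275110f13a888689d4442c4ea2112275100f13a880689d4402c4ea200e2750f0b13a878489d43a2c4ea1d122750e1113a870789d438244ea1c0e2750e0513a86c489d434344ea1a162750c8f13a864689d430444ea18122750c0313a85c889d42e244ea170e2750b0b13a854589d428444ea14122750a0713a850189d426444ea1316275098913a84c189d4243c4ea1206275089113a844689d422244ea0d12275050b13a828189d4122c4ea0906275040f13a820589d40c3c4ea0606275028f13a814689d40a2c4ea0506275020913a808689d4042c4ea0012274ff0913a7f4589d3fa1c4e9fc22274fe0f13a7f0689d3f8244e9fc0e274fe0513a7e8489d3f2344e9f916274fb8d13a7dc589d3ec3c4e9f616274fa8b13a7d4489d3ea0c4e9f416274fa0513a7cc789d3e6344e9f316274f91113a7c8489d3e41c4e9f10e274f80913a7c0189d3dc444e9ee16274f70913a7b8189d3da444e9ed1a274f68913a7b4189d3d8444e9ec12274f60313a7a8589d3d4244e9e912274f41113a7a0589d3d0244e9e80e274f40513a7a0189d3ce444e9e71e274f38d13a79c489d3ce144e9e61e274f30d13a798589d3ca244e9e212274f08b13a77c889d3be344e9df12274ef8713a77c2)))) (BT.node (nat_lit 655) (BT.leaf (Bx.mk (nat_lit 0x89d5a4144ead206275688b13ab44489d5a0444ead012275678f13ab38589d59c244eacd1e275668d13ab34489d59a1c4eacd0a275660913ab2c489d596144eaca1e275650b13ab24589d592244eac90a275648313ab20489d58e3c4eac716275630f13ab18689d58c2c4eac512275611113ab08789d584344eac20e275610513ab04889d5822c4eac112275608713ab04289d5820c4eac022275600f13ab00389d580144eac0062755f8b13aafc489d57e1c4eabe1e2755f0d13aaf8589d57c1c4eabe0a2755e8913aaf0689d5763c4eabb1a2755d8b13aae4789d572344eab9062755b8b13aadc389d56c444eab61e2755b0d13aad8489d56c1c4eab60a2755a1113aad0789d568344eab406275598913aac8889d5643c4eab21a275590913aac8389d564144eab116275578b13aab8489d5543c4eaaa1a275550b13aaa0789d550344eaa816275538913aa94789d54a344eaa512275528513aa90889d5483c4eaa41a275520913aa8c489d5461c4eaa212275509113aa84489d5403c4eaa01a2754f9113aa74589d53a244ea9d062754e0f13aa70689d536344ea9b162754d0f13aa68189d5322c4ea99122754c8313aa60489d52e444ea961a2754a0d13aa50489d528144ea9322275498b13aa4c489d524444ea9216275490913aa48189d522444ea911e275488d13aa44389d522144ea9106275481113aa40589d520244ea9006275479113aa3c589d51e244ea8f06275470f13aa38389d51c144ea8d22275468b13aa34489d518344ea8c16275458b13aa24489d50e3c4ea871a275438b13aa18489d50a3c4ea851a275420b13aa08689d5042c4ea8206275408913aa00489d4fe3c4ea7f1a2753f8b13a9f8489d4fa444ea7d1e2753e8d13a9f4589d4f8444ea7c1e2753e0d13a9f0589d4f80c4ea7b222753d8f13a9ec689d4f61c4ea7b062753d1113a9e8589d4f41c4ea7a0a2753d0313a9e4889d4f23c4ea791a2753c8b13a9e0889d4f02c4ea78122753c0713a9e0189d4ee444ea771e2753b8d13a9dc589d4ee244ea77062753b0b13a9d4889d4ea2c4ea7322275398f13a9cc689d4e60c4ea7122275388f13a9c4689d4e20c4ea6f1e275378d13a9bc589d4dc2c4ea6e12275368b13a9b4489d4d83c4ea6b1e275358d13a9a8489d4d2444ea691e275348d13a9a4489d4d21c4ea690a275348313a9a0789d4d0344ea6816275338f13a99c589d4ca244ea650e275328313a98c589d4c6244ea630a275310513a984889d4c23c4ea6112275300f13a980489d4c01c4ea5f122752f1113a9784))) (BT.leaf (Bx.mk (nat_lit 0x89d688344eb4416275a20913ad0c589d686244eb430a275a10f13ad08489d6841c4eb420a275a08b13ad04489d682144eb4022275a00913acfc789d67e2c4eb3e222759f0f13acf8689d67c2c4eb3e0e2759f0313acf4889d67a3c4eb3d122759e0f13acf0589d676444eb3b122759d0913ace4489d6703c4eb38122759b8d13acdc489d66c344eb35162759a8913acd4189d668244eb331e275998d13accc489d6661c4eb330a275998313acc8689d6642c4eb3112275980913acc0289d65e3c4eb2f1a275978913acbc389d65e144eb2e12275970713acb4789d65a244eb2d0a275961113acb0589d658244eb2b22275958f13acac489d6542c4eb2a12275940f13aca0689d64c2c4eb2612275930513ac94589d64a244eb250a275920d13ac90489d6462c4eb2222275910b13ac88489d6440c4eb2122275908913ac84189d6403c4eb201a2758f8f13ac7c689d63e1c4eb1f0a2758f8313ac78789d63c344eb1e162758f0313ac74489d6382c4eb1c122758d8b13ac6c489d634444eb1a1a2758d0913ac68389d634144eb191e2758c8d13ac64589d6303c4eb181a2758b8b13ac5c489d62a2c4eb15122758a0b13ac4c589d626244eb1116275888913ac3c589d61c444eb0e16275870913ac34589d6183c4eb0c1a275860b13ac30189d6162c4eb0b12275851113ac28489d612444eb0912275840b13ac1c589d60e244eb051e275828d13ac10789d608344eb0212275808b13ac04489d6021c4eb0022275800913ac00189d5fe444eaff162757f8313abf8889d5fc3c4eafe122757f0513abf4789d5fa344eafc1a2757e0b13abf0489d5f62c4eafb122757d8713abe8889d5f43c4eafa1a2757d0513abe4689d5f2244eaf9062757c1113abe0589d5f0244eaf7162757b0b13abd8489d5ea344eaf5122757a8713abd4289d5ea0c4eaf4162757a0913abd0189d5e62c4eaf312275798313abc4589d5e2244eaf006275778313abb4689d5d22c4eae912275741113aba0689d5d0244eae80e275738f13ab9c689d5ce244eae622275730713ab94589d5ca244eae416275720913ab8c889d5c6244eae222275710f13ab88289d5c03c4eae01a275700913ab80389d5c0144eadf162756f8913ab78789d5bc344eade122756f0713ab78289d5ba3c4eadd1a2756e8713ab74189d5b82c4eadc122756d8f13ab6c689d5b61c4eada162756d0913ab64589d5b2244ead8122756c0713ab58589d5ac244ead60a2756a8b13ab54289d5a83c4ead41a2756a0913ab50389d5a8144ead31e275698b13ab4c3))))))) (BT.node (nat_lit 664) (BT.node (nat_lit 660) (BT.node (nat_lit 658) (BT.node (nat_lit 657) (BT.leaf (Bx.mk (nat_lit 0x89d7742c4ebb912275db8f13aedc689d76c244ebb512275da0b13aed0489d766244ebb21a275d90913aec8289d762244ebb016275d80913aebc789d75e244ebad1a275d68b13aeb0689d7581c4ebab1e275d58b13aeac389d756144ebaa1e275d50513aea4589d750344eba816275d40313ae9c589d74e244eba616275d28f13ae90689d748244eba40e275d20513ae8c589d7461c4eba30a275d10f13ae88689d7442c4eba20e275d10313ae84589d742244eba10e275d08513ae84189d7402c4eba012275cf8913ae78689d73c244eb9e0e275cf0513ae74889d73a244eb9d0e275ce0913ae6c489d7342c4eb9a12275cc9113ae64189d730444eb9816275cc0913ae60189d72c244eb9522275ca8913ae50489d724444eb9212275c90313ae44889d722244eb9106275c80f13ae40689d7200c4eb8f22275c78913ae38889d71c244eb8d12275c60f13ae30689d718244eb8b12275c50913ae24889d712344eb8912275c48513ae20789d710344eb8816275c18f13ae0c689d7062c4eb8306275c10f13ae08689d7041c4eb820a275c08f13ae04689d7022c4eb8012275bf8b13adf8489d6fa2c4eb7d12275be0b13adf0489d6f63c4eb7b1a275bd8b13ade8589d6f2444eb791a275bc8713ade4189d6f03c4eb7812275bc0313addc589d6ee244eb7622275bb0913add8189d6ea444eb7516275ba8913add4189d6e8444eb741e275ba0d13add0589d6e6244eb7306275b91113adc8789d6e4344eb7216275b88b13adc4389d6e20c4eb7012275b80713adc0289d6de444eb6f1e275b78d13adbc589d6de1c4eb6f06275b71113adb8789d6dc344eb6e16275b70913adb8189d6da244eb6c12275b58f13adac689d6d6244eb691e275b48913ada4389d6d2144eb6716275b38913ad94589d6c6244eb6216275b10913ad84589d6c02c4eb5f1e275af8d13ad7c489d6be1c4eb5e12275af0713ad78289d6ba3c4eb5d1a275ae8b13ad70589d6b8244eb5b16275ad8913ad68589d6b4244eb5916275ac8913ad60589d6b0244eb5806275ab8d13ad5c589d6ac2c4eb5612275aa8b13ad50689d6a82c4eb5316275a98313ad48889d6a2244eb510e275a81113ad40489d6a01c4eb5006275a78913ad38489d69a3c4eb4d1a275a61113ad30589d698244eb4c06275a59113ad2c789d696344eb4b0e275a58513ad2c189d694444eb4a1a275a50913ad28389d694144eb4922275a48f13ad24489d6921c4eb490a275a40f13ad20689d6901c4eb4716275a38913ad18489d68a3c4eb4516275a28913ad107))) (BT.leaf (Bx.mk (nat_lit 0x89d87c244ec3e0e2761e0913b0ec789d876344ec3b162761d0b13b0e8489d870444ec38162761c0913b0dc889d86e244ec37062761b1113b0d8589d86a3c4ec351a2761a0913b0cc789d866344ec3316276188f13b0c4689d85e3c4ec2f1a276178913b0bc389d85e144ec2f06276170b13b0b8489d85a2c4ec2d12276168513b0b0889d8583c4ec2c1a276160713b0ac689d84e244ec2616276130713b094489d848244ec240a276118913b088789d844344ec2216276109113b084589d842244ec2022276100913b080189d83e444ec1f122760f0f13b074589d83a244ec1b122760d0913b068189d8323c4ec191a2760c8313b060489d82e444ec17122760b0b13b054589d82a244ec14222760a0d13b050489d8281c4ec140a276098913b048889d824344ec1212276090713b044789d822344ec1116276088513b03c889d81c444ec0e12276068313b030889d8183c4ec0c1a276060913b02c889d8143c4ec0a1a276050313b024589d8102c4ec0812276038913b01c389d80c2c4ec0612276030713b014589d80a244ec0422276020f13b010689d808244ec040a276018d13b00c589d804444ec021a276010713b004789d802344ec0116276008513b000789d800344ec0012276000713affc889d7fe344ebff12275ff0b13aff8489d7fa2c4ebfd12275fe8313aff0789d7f8344ebfc16275fd8f13afec689d7f61c4ebfb0a275fd8313afe8589d7f4244ebfa0a275fc8f13afe4689d7f2244ebf90e275fc8513afe0789d7f0344ebf722275fb8b13afd8489d7ec144ebf512275fa0b13afcc889d7e63c4ebf312275f98713afcc289d7e23c4ebf11a275f88b13afc4189d7de244ebec1e275f60d13afb0589d7d62c4ebea16275f50913afa4889d7d23c4ebe91a275f48913afa4389d7d2144ebe81e275f40d13afa0589d7ce3c4ebe71a275f28b13af94489d7c62c4ebe216275f10913af84589d7c2244ebe10e275f01113af80789d7c0344ebde1e275ef0d13af74789d7ba344ebdc1e275ee0d13af70589d7b43c4ebd81e275ec0d13af60389d7ac244ebd51e275ea8d13af54589d7a83c4ebd41a275ea0b13af44689d7a22c4ebd016275e78f13af3c689d79e2c4ebce1e275e70b13af28689d7923c4ebc91a275e48b13af1c789d78e344ebc70a275e38313af18489d78a2c4ebc512275e18f13af0c389d784244ebc11a275e00f13af00689d7802c4ebc00a275df9113aefc589d77e244ebbf06275df1113aef8589d77c0c4ebbd22275de0f13aef0689d776444ebbb12275dd0f13aee86)))) (BT.node (nat_lit 659) (BT.leaf (Bx.mk (nat_lit 0x89d95a244ecac22276560f13b2b0489d958144ecab16276558913b2a8589d952444eca91e276548d13b2a4489d9521c4eca90a276538913b29c389d94c2c4eca60e276528913b294389d948244eca40e276519113b28c789d946344eca312276518713b28c289d9443c4eca21a276510b13b288389d93e2c4ec9f122764f0f13b278689d93c144ec9d1e2764e8d13b274389d9382c4ec9c122764e0513b270189d936244ec9a1e2764d0d13b268589d9323c4ec991a2764c8713b264289d92c2c4ec95122764a8513b250589d928244ec9316276498913b248789d9222c4ec9012276480713b23c789d91c2c4ec8e12276468f13b234689d918444ec8c1e276460d13b22c889d916344ec8b16276458913b228789d914344ec8916276440b13b21c889d90e3c4ec871a276438913b21c389d90e144ec8422276420f13b210689d9081c4ec840a276419113b20c789d906244ec830e276418513b208589d902444ec8112276401113b200589d900244ec7f1e2763f8d13b1f8889d8fc3c4ec7e162763f0913b1f4789d8fa2c4ec7d122763e0913b1ec689d8f62c4ec7b062763d0d13b1e8589d8f03c4ec781a2763b8913b1dc389d8ec3c4ec761a2763b0713b1d8189d8ea244ec741e2763a0d13b1d0589d8e6344ec7312276390913b1c4489d8dc3c4ec6e16276368913b1a8489d8d2444ec691e276348d13b1a4489d8d2144ec651e276328d13b194589d8ca1c4ec650a276320f13b190689d8c82c4ec640e276320513b190189d8c62c4ec630a276310b13b184489d8c21c4ec610a276300913b180189d8be3c4ec5f1a2762f0f13b178689d8ba3c4ec5d1a2762e8713b170689d8b8144ec5a1e2762d0d13b168589d8b40c4ec59222762c8b13b164289d8b0444ec58162762c0913b15c789d8ac444ec561e2762b0913b158289d8ac0c4ec55162762a8913b150789d8a8344ec540e2762a0513b150189d8a63c4ec5316276290313b144789d8a2344ec5116276281113b140689d8a01c4ec500a276280313b13c589d89e244ec4f06276270b13b138489d89c0c4ec4d1a276260913b12c789d896344ec4b16276258713b12c189d894444ec4a1e276250d13b128589d892444ec491e276248913b124389d8902c4ec480a276238713b118589d88a444ec451e276228d13b114589d88a144ec4506276220f13b110689d8882c4ec4406276218f13b10c689d886244ec430a276209113b104689d882244ec410e276200f13b100689d8802c4ec400e276200513b0fc589d87e244ec3f0e2761f8513b0f85))) (BT.leaf (Bx.mk (nat_lit 0x89da520c4ed281e276940b13b49c789da4e2c4ed2412276919113b48c689da46244ed230e276918513b488589da422c4ed2016276900913b47c889da3e2c4ed1f122768f8713b478889da3c2c4ed1e122768f0713b478189da3a444ed1d162768e8913b474189da343c4ed1a1a2768d0313b464489da302c4ed17222768b8f13b45c689da2e244ed170e2768b8513b458589da2c244ed151a2768a0d13b44c889da263c4ed131a276898b13b448889da24344ed1212276888f13b444689da222c4ed1016276880913b43c789da1e344ed0f06276870f13b438689da1c0c4ed0d1e276868913b430689da18244ed0b1e276848b13b424489da0c3c4ed061a276830313b414589da0a244ed0322276818f13b40c689da06244ed030e276818513b408489da022c4ed001a276800313b3fc489d9fc3c4ecfe122767e8f13b3f4689d9fa2c4ecfd0e2767e1113b3f0789d9f8344ecfc122767e0713b3f0289d9f80c4ecfb222767d8f13b3ec689d9f62c4ecfb0e2767d0b13b3e8489d9f4144ecf9162767c8913b3e4289d9f02c4ecf8122767b8913b3dc389d9ee144ecf5122767a0d13b3d0389d9e6344ecf21a276780b13b3c0389d9de444ecef1e276771113b3b8489d9da2c4ecec22276760913b3ac589d9d6244ecea06276749113b3a4189d9d0444ece806276738f13b398889d9cc344ece612276729113b390789d9c8244ece316276710913b384489d9c21c4ece01e276700913b380389d9bc444ecde122766e8913b370589d9b6144ecda162766c9113b364789d9b2244ecd90e2766c0913b35c489d9ac444ecd61e2766b0d13b358489d9ac144ecd412276698d13b34c189d9a22c4ecd112276681113b340789d9a01c4eccf12276670b13b334789d99a344eccd16276660f13b330689d9980c4eccb16276658913b32c389d9943c4ecca1a276650b13b324789d992344ecc916276648313b320789d98e3c4ecc71a276630913b314889d98a244ecc50e276628313b310889d9883c4ecc41a276620b13b30c789d9862c4ecc306276610913b304789d982344ecc106276601113b300489d97e444ecbf1a2765f8913b2f8889d97c244ecbd1e2765e8d13b2f4589d97a1c4ecbc1e2765e0d13b2f0389d978144ecba1a2765d0513b2e4889d972244ecb90a2765c1113b2e0789d970344ecb80e2765c0313b2dc889d96e3c4ecb7162765b8913b2dc189d96c3c4ecb61a2765b0713b2d4589d9682c4ecb412276598913b2cc389d964344ecb216276580f13b2c0689d9600c4ecaf12276570b13b2b84))))) (BT.node (nat_lit 662) (BT.node (nat_lit 661) (BT.leaf (Bx.mk (nat_lit 0x89db322c4ed9912276cc8513b664189db302c4ed9812276cb9113b65c589db2c444ed9616276cb0313b654789db2a344ed9506276ca1113b64c889db24344ed9116276c88913b640889db203c4ed9012276c80713b63c489db1c2c4ed8e12276c68f13b630189db163c4ed8b1a276c50b13b628489db141c4ed8a06276c48d13b624389db120c4ed8822276c40b13b620489db10144ed871e276c38d13b61c389db0e144ed8622276c30f13b618689db0a2c4ed8512276c28713b614189db082c4ed8412276c18b13b60c489db043c4ed821a276c10913b608389db04144ed8116276c08913b604389db002c4ed8012276c00713b5fc589dafe244ed7f0e276bf1113b5f8489dafc1c4ed7c22276be0b13b5f0489daf8144ed7b1e276bd8d13b5ec489daf61c4ed7b0a276bd0f13b5e8689daf2444ed7912276bc1113b5e0589daf0244ed7722276bb8f13b5dc689daee244ed770e276bb8513b5d8789daec344ed7616276ba8f13b5d4689daea2c4ed7422276ba0d13b5d0389dae8144ed7406276b99113b5cc589dae6244ed730a276b98313b5c8789dae4344ed7216276b88913b5c0489dade3c4ed6e1e276b60f13b5b0689dad81c4ed6c06276b58b13b5a8589dad4244ed6922276b48f13b5a4689dad2244ed690e276b48513b5a0489dace244ed6622276b30f13b598689dacc244ed660e276b30513b594789daca2c4ed631e276b18d13b58c589dac4244ed6112276af8913b578889dabc3c4ed5e1a276af0b13b574689daba2c4ed5c12276ad8913b564789dab2344ed581e276ab9113b55c489daac3c4ed561a276ab0513b558189daaa244ed5416276aa0913b54c589daa6244ed5222276a90b13b548489daa40c4ed5116276a88913b544189daa02c4ed5012276a70f13b534789da9a344ed4b1e276a50b13b524789da92144ed4816276a40913b520389da8e3c4ed471a276a38b13b518889da8a444ed4512276a21113b510489da863c4ed431a276a11113b508789da84344ed4206276a09113b504589da82244ed4106276a00f13b500689da802c4ed3f222769f8f13b4fc689da7e1c4ed3e122769e9113b4f4789da7a344ed3d122769e8713b4f0889da78244ed3b222769d8913b4ec389da74444ed3a162769d0913b4e4489da702c4ed371e2769b1113b4d8489da6a444ed3512276990b13b4c8489da623c4ed311a276988313b4c0489da5c344ed2e16276968913b4b0889da583c4ed2c1a276960713b4b0289da563c4ed2b1a276958b13b4a8789da54344ed2a16276948d13b4a45))) (BT.leaf (Bx.mk (nat_lit 0x89dc10344ee0812277040713b820289dc0e444ee0716277038913b81c389dc0e144ee0706277030913b808489dc022c4ee001e277000d13b800389dc00144edff1a276ff8b13b7f8589dbfa444edfd1e276fe8d13b7f4489dbfa1c4edfd0a276fe8313b7f0789dbf8244edfc0a276fe0313b7ec889dbf63c4edfb1a276fd8b13b7ec389dbf6144edfb06276fd0b13b7e8489dbf40c4edf922276fc8b13b7e4489dbf0244edf806276fb8f13b7dc689dbee1c4edf616276fb0913b7d4189dbe8344edf412276fa0513b7cc589dbe6244edf306276f91113b7c8489dbe40c4edf116276f88913b7c0889dbe03c4edf012276f80513b7bc789dbde344edef16276f70913b7b8189dbda2c4eded06276f60f13b7b0689dbd82c4edeb1e276f58d13b7ac589dbd42c4edea12276f49113b7a4789dbd2344ede916276f48513b7a4189dbd02c4ede71e276f38d13b79c589dbce0c4ede622276f30913b794589dbca244ede412276f18b13b788789dbc4344ede216276f10313b784789dbc2344ede012276ef9113b77c489dbbc244eddd22276ee8913b770789dbb82c4eddb12276ed0913b764489dbb02c4edd716276eb8913b758689dbac144edd51e276ea0b13b750489dba43c4edd21a276e78913b738789db9c344edcd1e276e68d13b734489db9a1c4edcd0a276e60f13b730689db98244edcc0e276e60513b72c589db96244edca1e276e50913b728389db94144edc916276e40313b71c889db8e244edc61e276e30d13b718589db8a444edc512276e21113b710489db863c4edc31a276e18313b708889db82444edc01a276e00913b6fc289db7e0c4edbe16276df0913b6f4889db7a244edbc16276de0913b6ec889db76344edbb12276dd8713b6ec289db74244edb91e276dc8d13b6e4589db702c4edb812276db9113b6dc489db6c3c4edb61a276da9113b6d4789db6a344edb516276da8513b6d4189db683c4edb41a276da0713b6d0289db680c4edb316276d98913b6c8589db64244edb11e276d88b13b6c0489db5e244edae1e276d70d13b6b8589db5a244edad0e276d60913b6ac589db56244edaa1e276d50d13b6a8289db522c4eda912276d48713b6a4289db502c4eda812276d40513b6a0189db4e3c4eda70e276d28d13b690589db48244eda31e276d18d13b684789db42344eda116276d01113b680389db40144ed9f22276cf8f13b67c689db3e1c4ed9f0a276cf8313b678889db3a244ed9d0a276ce0b13b670489db381c4ed9b1e276cd8913b66c389db360c4ed9a16276cd0913b6682)))) (BT.node (nat_lit 663) (BT.leaf (Bx.mk (nat_lit 0x89dd02244ee8106277400f13ba00689dd001c4ee7f1e2773f8d13b9fc389dcfe144ee7f062773f0b13b9f8489dcfa2c4ee7b162773d8713b9e4489dcf03c4ee781a2773c0b13b9dc489dcec3c4ee761a2773b0b13b9d4589dcea0c4ee7316277390b13b9c4789dce02c4ee6f22277378f13b9bc689dcde244ee6f0e277378513b9b8789dcdc344ee6e16277368913b9ac689dcd4244ee691e277348b13b9a0489dcce244ee6616277330713b998289dcca2c4ee6412277318b13b988589dcc22c4ee6112277300b13b980489dcc00c4ee5f162772f8913b97c389dcbe144ee5f062772f0f13b978289dcba244ee5c122772d8f13b96c689dcb62c4ee5a122772c8d13b960689dcb02c4ee580e2772b8d13b958589dcaa2c4ee54222772a0f13b950689dca62c4ee4f12277270f13b938689dc9c2c4ee4b1e277258d13b92c589dc961c4ee4916277248913b924389dc920c4ee4816277240913b920389dc8e3c4ee4522277228f13b914689dc8a244ee450e277228513b910489dc862c4ee4312277218513b908889dc843c4ee421a277210913b908389dc82344ee410e277208513b904189dc80244ee3f162771f8913b8f8889dc7c3c4ee3e1a2771f0913b8f8389dc7c144ee3d222771e8f13b8f4689dc7a244ee3d0e2771e8513b8f0889dc783c4ee3c062771d8913b8ec389dc760c4ee3a222771d0f13b8e8689dc741c4ee3a0a2771c8f13b8e4689dc721c4ee39062771c1113b8e0789dc70344ee38122771c0713b8e0289dc700c4ee37222771b8b13b8dc489dc6e1c4ee370a2771b0f13b8d8689dc6c244ee36062771a8b13b8d4489dc6a1c4ee350a2771a8313b8d0489dc66244ee321e277190d13b8c8589dc62244ee3022277180913b8b8889dc5c244ee2d12277160b13b8b0489dc563c4ee2b12277158513b8a8589dc54244ee2912277140f13b8a0689dc50244ee280e277140513b89c789dc4e344ee2716277130913b894489dc483c4ee221e277110d13b888189dc42444ee211e277108913b884289dc403c4ee201a277100913b87c589dc3e244ee1e222770f0f13b878689dc3c244ee1d1e2770e8d13b874589dc38444ee1c1a2770e0913b870389dc380c4ee1b162770d8913b868489dc340c4ee19162770c8913b864189dc2e244ee16222770a9113b854489dc282c4ee1412277098b13b84c489dc24244ee1206277078d13b838589dc1c244ee0d16277068913b830489dc16244ee0a22277050f13b828489dc14144ee0a06277049113b824789dc12344ee0916277048513b8241))) (BT.leaf (Bx.mk (nat_lit 0x89ddde1c4eeee16277770513bbb4789ddda344eeed16277760913bbac189ddd4244eee916277740f13bba0489ddd01c4eee71e277738d13bb9c589ddce0c4eee51e277728d13bb94589ddc8444eee416277720913bb8c889ddc6244eee216277710913bb84589ddc21c4eedf0a2776f0b13bb78489ddbc0c4eedd1e2776e8d13bb70689ddb63c4eedb162776d0f13bb68689ddb42c4eed8122776a8d13bb54589dda63c4eed31a277698b13bb48689dda42c4eed206277688b13bb44489dd9e2c4eecf12277671113bb38489dd9a344eecc1e277660913bb2c689dd943c4eeca1a277650313bb24589dd903c4eec81a277640913bb20389dd90144eec71e277638d13bb1c589dd8c344eec60e277630313bb10589dd88244eec322277618d13bb0c189dd843c4eec21a277610b13bb04789dd82344eec10e277608513bb00589dd80244eec00a277600313bafc889dd7e3c4eebf1a2775f0f13baf8689dd7c2c4eebc1e2775e0d13baf0589dd722c4eeb9122775c1113bae0489dd6e3c4eeb71a2775b8313bad8789dd6c2c4eeb6122775a8d13bad4489dd683c4eeb41a2775a0513bacc789dd66344eeb30e277598513bacc189dd64244eeb022277580913bac0389dd5e444eeaf1e277578d13babc489dd5e1c4eeaf0a277570913bab4589dd58444eeac1e277560d13bab0489dd581c4eeaa1e277550d13baa8389dd54144eeaa06277549113baa4789dd52344eea90e277548513baa0489dd4e3c4eea71a277538b13ba9c389dd4c2c4eea612277530313ba94589dd4a0c4eea422277520f13ba90689dd482c4eea322277518913ba8c189dd44444eea212277510713ba88289dd440c4eea122277508913ba84389dd403c4eea0122774f9113ba7c589dd3e244ee9e222774f0913ba74889dd3a344ee9d122774e0b13ba70489dd362c4ee9b122774d1113ba68789dd34344ee9a122774d0513ba64589dd32244ee99062774c0b13ba60489dd300c4ee97222774b8b13ba5c489dd2c3c4ee961a2774b0913ba58389dd2c144ee951e2774a8d13ba54589dd28444ee941e2774a0d13ba50489dd281c4ee940a277498b13ba4c489dd24444ee921e277490d13ba48489dd241c4ee920a277488f13ba44689dd222c4ee910e277488513ba3c489dd1c2c4ee8e12277461113ba30789dd181c4ee8b22277458b13ba2c489dd161c4ee8b0a277450913ba28389dd14144ee8a06277448b13ba20589dd0c3c4ee861a277430b13ba14589dd083c4ee841a277419113ba0c789dd06344ee8312277418713ba0c2)))))) (BT.node (nat_lit 668) (BT.node (nat_lit 666) (BT.node (nat_lit 665) (BT.leaf (Bx.mk (nat_lit 0x89def00c4ef771e277bb0f13bdd8689dee62c4ef7312277b98313bdc8589dee4244ef7016277b80913bdbc789dede144ef6e1e277b70b13bdb4789deda344ef6d16277b40b13bda0489ded01c4ef6806277b38b13bd9c489dece1c4ef661a277b28b13bd94489dec8444ef641a277b20913bd90389dec80c4ef631e277b18d13bd8c389dec6144ef6306277b10913bd88189dec22c4ef6112277b08313bd80789dec0344ef5f1e277af8d13bd78389debc0c4ef5b1e277ad0913bd64889deb2344ef5912277ac8713bd64289deb20c4ef5816277ac0913bd60389deb00c4ef571e277ab8d13bd58789deac344ef5616277aa9113bd50589dea8244ef540a277a99113bd4c689dea6244ef521a277a90b13bd44589dea2244ef501a277a80913bd40289dea00c4ef4f0a277a78313bd38889de9c3c4ef4e12277a70313bd34489de98344ef4c16277a58f13bd2c689de962c4ef481e277a40d13bd20589de8e244ef461a277a28b13bd14489de8a1c4ef441e277a20d13bd10389de88144ef431e277a18d13bd08789de84344ef4216277a08b13bd00489de7c3c4ef3e1a2779f0b13bcf8189de7a244ef3c122779d8913bce8489de723c4ef391a2779c8b13bce0789de70344ef38162779b0f13bcd8689de6c2c4ef34162779a0913bccc589de64444ef3212277989113bcc0189de5e444ef2e12277968f13bcb4689de58444ef2c12277958f13bcac689de562c4ef2a22277950913bca4789de52344ef2916277938313bc98889de4c244ef2522277920f13bc90689de480c4ef2322277918913bc88889de44244ef2112277900b13bc80489de3e244ef1e222778f0d13bc78489de3c1c4ef1e0a2778e8913bc70589de363c4ef1b122778d1113bc68689de341c4ef1a0a2778c8f13bc64689de322c4ef18222778c0b13bc60489de300c4ef17222778b8b13bc5c489de2a2c4ef1512277868f13bc34689de182c4ef0c12277858b13bc2c489de14244ef0916277840f13bc20489de101c4ef080a277840313bc1c889de0e2c4ef070e277830b13bc14889de0a3c4ef051a277828913bc14189de08444ef041e277820d13bc10489de081c4ef040a277819113bc0c589de06244ef030e277810b13bc04889de02244ef0022277800913bbfc889ddfe244eefe222777f0913bbf4589ddfa244eefc162777e0913bbf0189ddf6344eefa222777d0913bbe4589ddf0444eef8122777c0513bbdc789ddee344eef70e2777b8513bbdc189ddec244eef416277790f13bbc8189dde22c4eef016277778f13bbbc6))) (BT.leaf (Bx.mk (nat_lit 0x89dfda344efed12277f68713bfb4289dfd83c4efec1a277f60b13bfac489dfd2244efe81e277f40d13bfa0589dfce3c4efe61e277f30d13bf98589dfcc0c4efe322277f18d13bf8c489dfc61c4efe21e277f10d13bf88589dfc2244efe01a277f00b13bf7c589dfbc2c4efdd1e277ee8d13bf74489dfba1c4efdd0a277ed8b13bf68789dfb4344efda06277ec8913bf58589dfac244efd516277ea8913bf50589dfa8244efd316277e98913bf48589dfa4244efd206277e89113bf44589dfa02c4efd012277e78b13bf3c489df9c244efcd12277e61113bf30789df982c4efcb1e277e50d13bf28489df941c4efca0a277e50313bf24489df903c4efc81a277e40b13bf1c489df8c444efc61e277e30d13bf18489df8c1c4efc60a277e30313bf14589df882c4efc322277e18f13bf0c689df86244efc30e277e18513bf08889df843c4efc21a277e08f13bf00489df78244efbb16277dd0913bee4789df72244efb90e277dc0913bedc889df6e344efb712277db8713bedc289df6c2c4efb50e277da8313bed0889df682c4efb412277da0713bed0189df66444efb316277d98913becc189df643c4efb21a277d90513bec8189df62444efb11a277d88b13bec4489df602c4efb012277d78b13bebc489df5c3c4efad16277d61113beb0689df58244efac0e277d58d13beac189df54444efaa16277d50913bea8189df523c4efa91a277d41113bea0789df50344efa812277d40313be9c889df4e3c4efa71a277d38913be9c189df4c3c4efa61a277d30b13be94489df48244efa322277d18f13be8c689df442c4efa116277d08313be7c589df3c3c4ef9e1a277cf0313be6c689df361c4ef9a12277cc8f13be64689df322c4ef9812277cb8f13be5c689df2e144ef9706277ca8913be50589df26444ef931e277c98d13be4c489df261c4ef930a277c90f13be48689df242c4ef9112277c80d13be40589df1e444ef8f12277c71113be38789df1c344ef8e12277c70713be38289df1a3c4ef8d1a277c60b13be2c589df14444ef8a1e277c50d13be28489df141c4ef8a0a277c48913be20889df10244ef8806277c39113be1c489df0c2c4ef8516277c21113be10489df080c4ef8322277c18913be0c189df04444ef821e277c10913be08189df022c4ef801e277c00d13bdfc589defc3c4ef7e1a277bf0913bdf8389defc144ef7d1e277be8d13bdf4389defa144ef7d06277be0f13bdf0689def63c4ef7b1a277bd8713bde8889def43c4ef7a1a277bc8f13bde4689def21c4ef790a277bc0b13bde04)))) (BT.node (nat_lit 667) (BT.leaf (Bx.mk (nat_lit 0x89e0f82c4f07c122783e0313c1ec589e0f6244f07a1e2783d0913c1e8389e0f4144f079162783c0b13c1e0189e0ee244f076162783a8f13c1d4689e0ea2c4f074122783a0513c1cc689e0e62c4f0721e278390b13c1c4689e0e22c4f07012278370b13c1b8489e0dc0c4f06d1a278368b13c1b0789e0d8344f06c16278350f13c1a8189e0d2444f0691e278348d13c1a4389e0d2144f06812278330b13c198489e0ca3c4f0651a278328913c194389e0ca144f06416278311113c188789e0c4344f061122782f8913c170689e0b4344f05a162782c8f13c164689e0b03c4f058162782b8f13c15c589e0aa244f0541e2782a0d13c14c589e0a42c4f05122278288f13c144689e0a21c4f0510a278278d13c13c589e09c3c4f04e1a278270b13c134489e098244f0491a278248b13c120489e08e3c4f04716278230f13c118689e08c2c4f04606278228f13c114689e08a2c4f04322278218b13c10c489e0860c4f04122278208f13c104689e0822c4f03e222781f0f13c0f8489e07a244f03c162781e0913c0f0189e0743c4f03a1a2781d0b13c0dc789e06e2c4f037062781b1113c0d8589e06c244f0351e2781a8d13c0d4189e068444f0341e2781a0913c0cc889e066344f03312278190913c0c4589e062244f03106278180d13c0c0589e05e3c4f02f1a278170b13c0b8489e05c144f02d16278168513c0b4189e0583c4f02c1a278160b13c0ac789e056344f02a1e278150d13c0a8489e0541c4f02a0a278140913c09c789e04e344f02716278131113c098789e04c344f02612278130713c098289e048244f02406278118f13c08c689e0462c4f02306278110b13c088489e0403c4f0201a278100b13c07c589e03e244f01e162780f0913c074689e03a2c4f01c222780e0b13c070489e036444f01b1e2780d8d13c06c189e034444f01a062780c9113c064589e032244f019062780b8b13c05c489e02e0c4f0161e2780b0d13c058589e02a444f0151e2780a8d13c054589e02a1c4f01412278098913c048589e0223c4f0111a278080913c03c489e01c244f00d1a278068b13c030489e014244f0091e278048d13c024589e010244f0071e278038d13c01c589e00c344f00616278028913c00c789e006344f0021a278010b13c004489dffe2c4efff12277ff0b13bff8489dffa244effc1a277fe0b13bfe4789dff2344eff916277fc0b13bfdc789dfee2c4eff612277fa0b13bfd0489dfe62c4eff312277f98313bfc8589dfe4244eff112277f80f13bfc0689dfe02c4efef1e277f78d13bfb48))) (BT.leaf (Bx.mk (nat_lit 0x89e1d03c4f0e81a278738f13c39c689e1ca244f0e50a278720b13c390489e1c8144f0e406278718f13c38c389e1c23c4f0e11a278708b13c380589e1c0244f0e0062786f8f13c374789e1ba344f0dc222786e0913c36c889e1b6244f0da222786c9113c364489e1b20c4f0d8222786c0913c35c789e1ae244f0d61a2786b0713c358289e1aa3c4f0d51a2786a0b13c34c789e1a6344f0d30e278698513c348689e1a42c4f0d11e278688d13c344589e1a0244f0cf12278670913c32c889e196344f0cb0e278658513c32c189e1942c4f0c916278648913c320889e1903c4f0c81a278640713c320289e1900c4f0c722278638b13c31c489e18e0c4f0c622278630b13c318489e18a444f0c516278628913c310789e188344f0c31e278618d13c30c189e1842c4f0c206278608913c304189e180444f0c016278600913c2fc889e17e244f0bf062785f1113c2f8789e17c344f0be122785f0713c2f8289e17a444f0bd0e2785e0f13c2f0689e1782c4f0b91a2785c8313c2e0789e170344f0b8162785b8f13c2dc689e16c244f0b512278598f13c2cc689e1662c4f0b21e278590b13c2c4789e162344f0b01e278580d13c2c0589e15e3c4f0af1a278578b13c2b8889e15c3c4f0ae1a278570913c2b8389e15c144f0ae06278569113c2b4689e15a244f0ad0e278568313c2b0889e1583c4f0ac1a278560b13c2b0289e1580c4f0ab16278558913c2a8889e154244f0aa06278549113c2a4489e1521c4f0a816278540913c29c889e14e2c4f0a712278538313c298889e14c244f0a606278528b13c294489e1482c4f0a412278520713c28c889e1462c4f0a312278518713c28c189e144444f0a21e278510d13c288589e1441c4f0a20a278510313c284789e142344f0a116278508713c284289e1403c4f0a01a278500b13c280389e1400c4f09f1e2784f8d13c27c589e13a3c4f09d1a2784e8b13c270689e1382c4f09a1e2784d0d13c268589e132444f099122784c8313c260789e130344f098162784b8f13c25c689e12c444f0961e2784b0d13c258589e12c244f095162784a8513c250589e128144f09222278490913c248289e1222c4f09022278480913c240389e11c2c4f08d16278461113c230589e118244f08b22278458b13c22c489e1160c4f08a1e278450d13c224789e112244f08822278440d13c220489e10a2c4f08416278419113c20c789e1043c4f0821a278410313c204589e102244f08106278400b13c1fc889e0fe3c4f07f1a2783f8513c1f8789e0fc344f07e162783e8f13c1f46))))) (BT.node (nat_lit 670) (BT.node (nat_lit 669) (BT.leaf (Bx.mk (nat_lit 0x89e2d8244f16c0a278b58f13c5ac689e2d6244f16b0e278b58513c5ac189e2d43c4f16a1a278b18b13c588789e2c41c4f1611e278b08d13c584589e2bc444f15e16278af0913c578389e2bc144f15d16278ae8913c574289e2b82c4f15c12278ae0513c570189e2b62c4f15b12278ad8713c56c289e2b43c4f15a1a278ac8913c560889e2b02c4f15812278ab9113c55c589e2ae244f15622278ab0913c554889e2aa344f15512278aa1113c550789e2a8244f15322278a98d13c54c489e2a43c4f15216278a80b13c540489e29e244f14e22278a70f13c538689e29c244f14e0a278a70313c534589e29a244f14c22278a60f13c530689e298244f14c0e278a60513c530189e2922c4f14912278a40b13c520189e28c2c4f14512278a18913c508889e2841c4f14122278a01113c500489e27e444f13f122789f0b13c4f4389e27a144f13d062789e0b13c4f0489e276444f13b1e2789d8d13c4e8489e2740c4f139222789c8913c4e0789e270344f138062789b9113c4dc789e26e244f136222789b0913c4d0789e268344f13416278998913c4c4489e260444f13016278978f13c4bc689e25e2c4f12f0e278971113c4b8789e25c344f12e12278970713c4b8289e25a344f12b22278958f13c4ac689e256244f12b0e278958513c4a4789e2520c4f12806278938f13c49c689e24e2c4f12706278930913c494589e24a244f12506278920b13c48c789e246344f12316278918313c488789e244344f12216278910313c484789e242344f12116278900913c47c789e23e2c4f11e162788f0913c474489e2382c4f11c122788e0313c46c789e236344f11b162788d0b13c468489e232244f119062788c0f13c460689e230244f1171e2788b8d13c454689e2282c4f11406278898b13c448789e2241c4f1120a278888913c440489e21e3c4f10f16278868f13c434689e21a2c4f10d06278848913c420789e210344f10816278838f13c41c689e20e2c4f10512278810913c404489e200244f1000e278800513c3fc889e1fe3c4f0ff062787f0913c3f4589e1fa0c4f0fc222787e0f13c3f0289e1f63c4f0fb1a2787d8b13c3e8889e1f43c4f0fa1a2787d0b13c3e8189e1f22c4f0f9122787c0b13c3e0489e1ee3c4f0f71a2787b0913c3d4589e1ea244f0f4222787a0f13c3d0689e1e8244f0f40e278790f13c3c8689e1e22c4f0f112278781113c3c0789e1e0344f0f012278780713c3c0289e1de2c4f0ee12278768f13c3b4689e1d8244f0eb1e278758d13c3ac589e1d4244f0e91e278748d13c3a45))) (BT.leaf (Bx.mk (nat_lit 0x89e3e23c4f1f11a278f78d13c7b8489e3d8244f1eb1e278f58b13c7a8789e3d4344f1ea16278f48913c7a0489e3ca444f1e51e278f28d13c794489e3ca1c4f1e50a278f20f13c790689e3c6244f1e222278f10f13c788689e3c42c4f1e112278f00f13c780689e3c02c4f1df12278ef0b13c774489e3b4344f1da16278ec8b13c760589e3ae444f1d71a278eb8913c75c389e3ae144f1d616278ea1113c750589e3a8144f1d406278e98f13c74c689e3a6244f1d30e278e98513c74c189e3a4344f1d212278e90513c748189e3a23c4f1d11a278e88b13c740489e39e444f1cf16278e78913c73c189e39c244f1cd12278e60f13c730689e3982c4f1cc0a278e60313c72c489e3943c4f1ca16278e48913c720789e390344f1c816278e38f13c71c589e38c244f1c512278e11113c708789e384344f1c212278e10713c708289e382244f1c01e278e00d13c700589e37a344f1bc1e278de0913c6f0389e378144f1bb1e278dd8d13c6e8589e372244f1b812278dc0513c6d8889e36c244f1b522278da8913c6d4189e368444f1b322278d98913c6c8889e364244f1b112278d80b13c6c0489e3600c4f1ae1e278d70d13c6b4489e3582c4f1ac12278d60313c6ac689e356244f1ab0e278d58513c6a4489e3520c4f1a81a278d38f13c69c689e34c344f1a41e278d20d13c690189e346344f1a11a278d00f13c680689e3402c4f19f1e278ce8f13c674689e33a2c4f19c12278cd8f13c66c589e3343c4f19a1a278cc9113c664489e332144f19816278cb9113c65c489e32c2c4f19422278ca0b13c650489e3280c4f19322278c98b13c64c489e3243c4f1921a278c90313c644889e3223c4f19112278c80d13c640489e31e2c4f18f12278c78313c638789e31c2c4f18d1e278c68b13c634189e318444f18c12278c60513c630189e316444f18b16278c58913c62c389e3160c4f18a22278c50d13c628489e3103c4f1881a278c40b13c620189e30e444f18716278c38913c61c389e30e144f18706278c30f13c618689e30a2c4f18416278c20913c610189e306344f1830e278c10f13c608589e3023c4f1811a278bf8913c5f8689e2fc2c4f17d12278be0b13c5f0489e2f43c4f17a1a278bd0913c5e8389e2f4144f17916278bc8913c5e0589e2f0244f1771e278bb8d13c5dc489e2ee1c4f1770a278bb0b13c5d4689e2ea2c4f17416278b98f13c5cc689e2e62c4f1720e278b90313c5c4789e2e2344f16f1e278b78d13c5bc389e2de144f16f06278b70d13c5b4589e2da244f16d0a278b68313c5b05)))) (BT.node (nat_lit 671) (BT.leaf (Bx.mk (nat_lit 0x89e4d2244f2681e279320b13c98c889e4c63c4f2631a279318913c98c389e4c6144f2611e279308d13c984589e4c0244f25e1e2792f0d13c978589e4ba3c4f25d1a2792e8b13c970889e4b82c4f25c122792d8f13c96c689e4b61c4f25b0a2792d0b13c968489e4b22c4f259122792c8313c960689e4b02c4f257162792b0b13c958489e4a82c4f25406279298f13c94c589e4a61c4f25222279290b13c948489e4a41c4f2511a279288513c940889e4a03c4f2501a279278f13c93c689e49e0c4f24e16279270913c934589e498444f24c12279260313c92c189e4943c4f24a1a279250b13c928189e4923c4f24916279248313c920889e4903c4f2481a279240b13c920189e48e3c4f24716279238313c918589e48c244f24522279228b13c914489e48a0c4f24422279220f13c910689e4881c4f2440a279219113c90c589e486244f2430e279218313c908889e484344f24216279210513c904789e482344f24112279208713c904289e4802c4f240122791f9113c8fc689e47e244f23f0e2791f8313c8f8789e47c344f23e162791e9113c8f4689e47a2c4f23d0e2791e8513c8f4189e4782c4f23c122791d9113c8ec789e476344f23b0e2791d8513c8e8589e474244f23a0a2791c8f13c8e4689e4722c4f238162791c0913c8e0289e46e244f2370a2791b8313c8d8889e46c3c4f2361a2791a9113c8d4589e46a244f2350e2791a8513c8d0489e4681c4f2340a279198f13c8cc489e4661c4f2330a279188b13c8c4489e45e344f22e16279170913c8b4789e45a344f22d16279161113c8b0489e4581c4f22b12279150913c8a4789e452344f22812279138913c894489e4482c4f22412279120313c88c689e4462c4f22212279108b13c884489e4403c4f220162790e8f13c86c789e436344f21b162790d0913c864589e4320c4f218122790a0913c84c789e426344f21216279090913c848289e4223c4f2111a279088b13c840789e4202c4f20f1a279078913c83c289e41e0c4f20e22279070d13c834589e41a244f20c1e279060d13c830489e4181c4f20c0a279058f13c82c589e4143c4f20a1a279048f13c824689e4103c4f2081a279040b13c81c589e40e244f2061a279028f13c814689e40a2c4f20422279020b13c810489e4063c4f20306279011113c808489e402444f20012278ff8913c7f8589e3fc244f1fd1e278fe8d13c7f4489e3fa1c4f1fd0a278fe0f13c7e4789e3f2344f1f906278fc0b13c7e0489e3f01c4f1f71e278fb8d13c7dc589e3ec244f1f41e278fa0d13c7cc4))) (BT.leaf (Bx.mk (nat_lit 0x89e5ca344f2e512279720b13cb90489e5c62c4f2e312279718313cb88689e5c23c4f2e11a279708b13cb80589e5c0244f2df162796f8913cb78789e5bc344f2dd1a2796e8b13cb70889e5b82c4f2dc122796e0713cb6c789e5b6344f2db0a2796d8313cb68889e5b4344f2da122796c8f13cb64689e5b2244f2d90e2796c0f13cb60689e5b02c4f2d71e2796b8d13cb5c389e5ae144f2d51e2796a8d13cb54589e5a63c4f2d31a279698b13cb48589e5a4244f2d20a279688f13cb44589e59e3c4f2cf1a279678b13cb3c389e59e144f2cf06279670913cb34789e59a344f2cd16279660913cb24489e5903c4f2c816279638913cb18489e58c0c4f2c51a279620b13cb10489e5862c4f2c312279618313cb08789e584344f2c216279608f13cb04589e5803c4f2c01a279600b13cafc889e57e2c4f2bf122795f8713cafc189e57c3c4f2be1a2795e0f13caf0689e5780c4f2bb222795d8913cae8489e572244f2b81e2795c0d13cadc489e56c344f2b6122795a8913cad0589e566244f2b212279588b13cac4489e5620c4f2b01a279578f13cabc689e55e2c4f2ae1e279570b13cab0489e556344f2ab16279550f13caa8689e5542c4f2a912279540f13ca9c489e548244f2a31e279518d13ca88789e544344f2a216279500f13ca80689e5400c4f29f122794f0f13ca78689e53a244f29c1e2794e0d13ca6c589e536244f29a1e2794d0913ca68389e534144f299122794c0b13ca5c689e52c3c4f2961a2794a8d13ca54389e52a144f294162794a0913ca4c489e5260c4f2921a279480f13ca40689e51e2c4f28f12279478313ca38789e51c344f28e12279468913ca30789e518344f28c12279460713ca30289e516244f28916279448913ca20889e510244f2871e279438d13ca1c489e50e1c4f2870a279430d13ca14789e50a344f28516279420b13ca10489e5081c4f28316279418713ca0c189e5043c4f2821a279410713ca00789e500344f28012279400713ca00289e4fc2c4f27e122793e8f13c9f0789e4f8344f27c162793d8f13c9ec689e4f62c4f27b0a2793d8313c9e8789e4f4344f27a0e2793c9113c9e4789e4f2344f277162793b8913c9dc389e4ec2c4f276122793b0713c9d8189e4ea3c4f2751a2793a8913c9d4289e4e82c4f27412279398f13c9cc689e4e6244f2730e279398513c9c8789e4e4344f27216279388f13c9c4689e4e0244f26f1e279378d13c9bc589e4dc244f26d12279360b13c9ac789e4d6344f26b0e279358513c9a8789e4d4344f26a0e279350513c9a81)))))))) (BT.node (nat_lit 688) (BT.node (nat_lit 680) (BT.node (nat_lit 676) (BT.node (nat_lit 674) (BT.node (nat_lit 673) (BT.leaf (Bx.mk (nat_lit 0x89e6aa344f35516279aa0f13cd4c789e6a6344f35222279a90f13cd48489e6a41c4f3520a279a88f13cd40789e6a0344f35016279a79113cd3c689e69e2c4f34e12279a68b13cd34489e69a1c4f34c16279a60913cd30189e6963c4f34b1a279a50d13cd28489e6941c4f34a0a279a48b13cd24489e6902c4f34812279a38d13cd18489e68c1c4f34512279a28713cd10789e686244f3430e279a18313cd08489e6822c4f33d222799e8d13ccf4489e67a1c4f33d0a2799e0b13ccec689e674444f33a162799d0913cce0789e670344f337222799b8b13ccd8589e66c244f3360e2799b0513ccd4589e66a244f3350e2799a8513ccd4189e6683c4f3341a2799a0313cccc889e6663c4f3331a279998913cccc189e664444f3321a279990b13ccc8489e6640c4f3311e279988d13ccc4589e660244f32f16279971113ccb8489e658344f32c16279960313ccac689e6562c4f32a1e279950d13cca8589e654144f32916279948913cca4189e6502c4f32812279938b13cc9c489e64e0c4f32622279930f13cc98589e64c1c4f3260a279930313cc8c589e646244f3221e279910d13cc88489e6441c4f3220a279908f13cc84689e6422c4f32016279900913cc7c789e63c3c4f31e1a2798f0b13cc6c489e6361c4f31b062798d0f13cc68689e6322c4f3181e2798c0713cc5c889e62e2c4f317122798b8713cc58789e62c344f3160a2798b0313cc54889e62a344f314162798a0913cc4c589e6243c4f31216279888d13cc44589e6220c4f31016279878b13cc3c489e61c244f30e06279868f13cc34689e61a244f30d0e279868513cc30589e6162c4f30b12279858713cc28789e614344f3091e279848d13cc20789e610344f30712279830913cc10889e6082c4f30412279820713cc10289e6080c4f30322279818f13cc0c689e606244f3030e279818513cc0c189e6023c4f3011a279808b13cc00789e6002c4f2ff162797d8b13cbe8789e5f4344f2fa162797c8f13cbe4689e5ee444f2f71a2797b8913cbdc389e5ee0c4f2f61e2797b0713cbd8289e5ea3c4f2f51a2797a8b13cbd4389e5ea144f2f41e2797a0d13cbd0589e5e8244f2f40a279799113cbcc789e5e6344f2f316279798913cbc8889e5e43c4f2f21a279790913cbc8389e5e40c4f2f116279788913cbc4189e5e02c4f2f012279780713cbc0289e5de2c4f2ef12279778713cbbc289e5da3c4f2ed1a279758f13cbac689e5d22c4f2e912279748313cba0789e5d0344f2e80e279740513cb9c789e5ce344f2e716279730f13cb947))) (BT.leaf (Bx.mk (nat_lit 0x89e7ba1c4f3dd0a279ee0913cf6c589e7b42c4f3da12279ec8913cf64389e7b0244f3d71e279eb8d13cf58789e7ac344f3d616279ea8f13cf54689e7aa2c4f3d41e279ea0d13cf50589e7a6344f3d212279e88b13cf44489e7a2144f3d01e279e80d13cf40589e79e444f3cf1a279e78913cf3c389e79c2c4f3cd1e279e68513cf34189e798444f3cc1e279e60d13cf2c589e796244f3ca16279e48f13cf24589e7903c4f3c81a279e40b13cf20189e78e244f3c612279e28b13cf14489e78a0c4f3c41e279e20913cf10289e7863c4f3c212279e08f13cf00589e780244f3bf12279df0f13cef8689e77c244f3be0e279de8d13cef4589e7783c4f3bc1a279dd8913cee8489e7703c4f3b81a279dc0b13cedc489e76c244f3b31e279d98d13cec8489e75e344f3ae1e279d70d13ceb8589e758344f3ac16279d60313ceac689e7502c4f3a722279d38f13ce9c689e74e244f3a70e279d38513ce94589e74a0c4f3a416279d18f13ce8c689e7443c4f3a21a279d08913ce80789e740344f3a016279cf8913ce78589e73a3c4f39d1a279ce8713ce74289e73a0c4f39c12279ce0513ce70189e7363c4f39b1a279cd8b13ce68889e734244f39a0a279cc8b13ce64489e730244f39712279cb0f13ce50789e728344f39416279ca0313ce4c489e7242c4f39212279c90313ce44789e722344f39012279c78b13ce3c489e71e144f38e1e279c70d13ce38589e7183c4f38c16279c60313ce2c789e716344f38b16279c50b13ce28489e7141c4f38916279c48913ce20589e710244f3871e279c38b13ce18789e70c344f38616279c30513ce14489e7082c4f38412279c18b13ce0c489e7042c4f38112279bf0f13cdf8689e6fc2c4f37e06279be9113cdf4489e6fa1c4f37d06279be1113cdf0489e6f80c4f37b22279bd0f13cde8689e6f2344f37812279bb9113cddc789e6ee244f3770a279bb0f13cdd8289e6ea244f3750a279ba0f13cdd0689e6e81c4f37406279b99113cdcc789e6e6244f3721e279b88913cdc0489e6dc344f36d1e279b68d13cdb4589e6d8444f36c1e279b58913cdac389e6d42c4f36a12279b50713cda4789e6d2344f36916279b40f13cda0689e6ce3c4f3661e279b30d13cd98489e6cc1c4f3660a279b28f13cd94689e6ca2c4f3650e279b28313cd90489e6c6244f36216279b08913cd84389e6c2144f36012279af9113cd7c789e6be344f35f12279af8513cd78589e6ba3c4f35d06279ae1113cd70489e6b81c4f35b16279ad0913cd64789e6b22c4f35812279ab8913cd547)))) (BT.node (nat_lit 675) (BT.leaf (Bx.mk (nat_lit 0x89e8ae2c4f4571227a2b0b13d158489e8a82c4f4531627a298913d148789e8a4344f4520a27a290313d144889e8a2244f4501e27a280b13d130789e898344f44c0e27a258913d128589e894244f4491227a248713d124289e88e3c4f4470a27a230b13d118489e88a3c4f4451227a228713d110589e888244f4431e27a218d13d10c489e8861c4f4430a27a210f13d108689e8842c4f4411227a200d13d100589e87e244f43e1a27a1f0b13d0ec589e874244f43a0e27a1d0313d0e4589e872244f4381e27a1c0d13d0e0589e86e3c4f4371227a1b1113d0d8489e86a244f4350e27a1a0b13d0d0489e8662c4f4321e27a188f13d0c0489e85e2c4f42f1227a178313d0b8689e85a2c4f42d1227a160b13d0b0489e8563c4f4291e27a148d13d0a4589e84c3c4f4261a27a128b13d094489e84a1c4f4241e27a120d13d090589e846244f4222227a110913d084589e842244f4210a27a100b13d080489e840144f4200627a0f9113d07c589e83e244f41f0e27a0f8513d078589e83c1c4f41e0a27a0f0313d074889e83a244f41d0e27a0e1113d070589e838244f41c0e27a0e0513d06c489e832444f4191e27a0c8d13d064389e830344f4181627a0b8b13d058789e82c344f4161627a0a8f13d054689e828244f4131227a090b13d044789e822344f4111627a080913d034789e81a344f40c2227a060d13d030489e8181c4f40b1e27a058d13d020889e8103c4f4081a27a040313d01c689e80e2c4f4061e27a030b13d014589e80a244f4041227a018f13d008689e8042c4f4011e27a008d13d000589e7fe3c4f3ff12279ff0b13cff4789e7fa344f3fd16279fe0b13cff0489e7f62c4f3fb12279fd8313cfe8489e7f22c4f3f81e279fc0d13cfe0589e7f00c4f3f722279fb8d13cfdc489e7ee1c4f3f61a279fb0b13cfd4589e7ea244f3f416279fa0913cfcc589e7e6244f3f21e279f90d13cfc8589e7e23c4f3f116279f88313cfc0689e7e02c4f3f006279f78b13cfb8589e7dc0c4f3ed06279f60f13cfb0689e7d82c4f3ec0e279f59113cfac789e7d6344f3eb12279f51113cfa8789e7d4344f3ea16279f48f13cfa4589e7d2244f3e822279f40b13cfa0489e7d00c4f3e716279f38913cf98589e7cc244f3e51e279f28d13cf94389e7ca144f3e416279f20913cf8c889e7c62c4f3e306279f11113cf88789e7c4344f3e216279f08b13cf84489e7c20c4f3e016279f00913cf80189e7be2c4f3df12279ef8513cf7c189e7bc3c4f3de1a279ef0713cf78289e7bc0c4f3dd1e279ee8d13cf744))) (BT.leaf (Bx.mk (nat_lit 0x89e99a344f4cc1e27a658b13d328489e992444f4c91e27a648913d324389e992144f4c81627a640913d31c489e98c3c4f4c61a27a630b13d314489e9883c4f4c41a27a620b13d30c789e986344f4c11e27a608d13d300589e97e2c4f4be1e27a5f0d13d2f4589e9783c4f4bc1a27a5d8b13d2ec489e9743c4f4b91e27a5c8d13d2e0689e970144f4b80627a5b8f13d2dc689e96c244f4b51e27a5a8d13d2d4489e96a144f4b41627a598b13d2cc489e9623c4f4b11a27a580f13d2c0689e95e444f4af1227a578713d2b8889e95c244f4ae0e27a570313d2b0489e9561c4f4aa2227a548913d2a4189e9502c4f4a71627a530d13d294589e948344f4a41227a520713d28c789e946344f4a30e27a518513d288789e9441c4f4a20a27a509113d284589e940444f4a01627a500913d280189e93e344f49f1627a4f8313d278689e93c2c4f49d1e27a4e8d13d26c589e930444f4981e27a4c0d13d260389e930144f4971227a4b1113d258689e92c2c4f4960e27a4b0513d254489e9280c4f4932227a498f13d24c689e926244f4930e27a498513d24c189e924444f4921627a490913d248189e922444f4911e27a488d13d244589e922244f4910627a481113d240789e920344f4901627a480913d240189e91e244f48e1e27a470d13d234789e91a344f48d1627a460f13d230689e9181c4f48c0a27a458f13d22c689e9161c4f48b0a27a458313d228889e9143c4f48a1a27a440313d21c589e90e244f4861227a429113d214789e90a344f4851227a428713d214289e9083c4f4841a27a420b13d20c789e906344f4831627a410f13d204589e902244f4810a27a400b13d200289e8fe3c4f47f1a27a3f8b13d1f8589e8fc244f47d1e27a3e0f13d1f0689e8f82c4f47c0627a3d8b13d1e8489e8f41c4f4792227a3c8b13d1e4489e8f21c4f4782227a3c0b13d1e0489e8ee444f4771a27a3b8913d1d8789e8ec344f4751227a3a8313d1d0689e8e8244f4740e27a3a0513d1cc789e8e6344f4731627a398313d1c8489e8e23c4f4711a27a388b13d1c4389e8e03c4f46e1627a368b13d1b4489e8d8344f46c1627a360313d1ac789e8d6344f46a1e27a350d13d1a4789e8d22c4f4681227a338f13d19c689e8ce2c4f4661e27a330d13d198289e8cc0c4f4652227a328f13d194689e8ca2c4f4651227a320f13d190689e8c81c4f4640a27a320313d18c589e8c22c4f4611227a308713d180789e8c0344f4601627a2f8f13d17c589e8ba244f45c1227a2d8d13d164789e8b2344f4581e27a2c0d13d1605))))) (BT.node (nat_lit 678) (BT.node (nat_lit 677) (BT.leaf (Bx.mk (nat_lit 0x89ea96144f54a1227aa48f13d524689ea922c4f5481627aa40913d520189ea8e2c4f5471227aa30f13d518689ea8c244f5460e27aa30513d514789ea8a344f5451627aa20b13d510489ea88144f5440627aa18f13d50c489ea861c4f5430a27aa18313d504789ea82344f5401227a9f8f13d4fc689ea7e2c4f53e1227a9e8913d4f0889ea783c4f53c1a27a9e0713d4f0189ea763c4f53b1a27a9d0b13d4e4489ea70444f5381a27a9c0913d4e0389ea70144f5371227a9b0913d4d4889ea6a2c4f5351227a9a8713d4d0789ea68344f5340e27a9a0513d4cc689ea62244f5302227a980f13d4c0689ea602c4f52f1627a978913d4b8489ea5c1c4f52d1627a968913d4b0489ea563c4f52b0e27a950b13d4a8489ea522c4f5291227a948313d4a0789ea50344f5271627a930b13d498189ea4a3c4f5250627a920f13d490689ea482c4f5231227a910b13d488489ea42244f5210627a8f8f13d47c689ea3c2c4f51d1e27a8e8713d46c489ea34444f51a1e27a8d0d13d468289ea340c4f5191e27a8c8d13d460789ea30344f5181227a8c0713d460289ea2e3c4f5171a27a8b8b13d45c189ea2c3c4f5161a27a8b0b13d454789ea2a344f5141227a898f13d44c689ea262c4f5121227a880d13d440189ea1e244f50f0627a869113d434489ea182c4f50c1227a858913d428489ea141c4f50a0a27a848f13d424589ea10244f5071e27a838d13d418489ea0a2c4f5051227a821113d410789ea08344f5041227a820713d410289ea06244f5022227a810f13d408689ea04244f5020e27a810513d400789ea00344f5001627a7f8b13d3fc489e9fc2c4f4fd1227a7d8f13d3e8589e9f2244f4f81e27a7c0b13d3dc789e9ee0c4f4f62227a7b0f13d3d8489e9ec1c4f4f60a27a7a8d13d3cc789e9e6344f4f31627a791113d3c8789e9e4344f4f21627a788913d3c4189e9e02c4f4f01227a780313d3b8889e9dc344f4ed1627a758f13d3ac689e9d6244f4eb0e27a758513d3a8789e9d42c4f4e91627a740b13d3a0489e9ce2c4f4e71227a730913d398389e9ca2c4f4e51227a720f13d390689e9c63c4f4e31a27a718713d388789e9c4344f4e11e27a708d13d384589e9c0344f4df1e27a6f8d13d37c589e9bc344f4dd1e27a6e8d13d374589e9b83c4f4dc1627a6d8b13d368589e9b2344f4d91627a6c0f13d360689e9b02c4f4d71e27a6b8d13d358489e9aa2c4f4d51227a6a0913d34c889e9a63c4f4d31a27a690b13d344489e9a20c4f4d02227a680f13d340689e9a0244f4d00a27a678913d3384))) (BT.leaf (Bx.mk (nat_lit 0x89eb8e0c4f5c61627ae30913d714789eb8a344f5c50e27ae21113d710789eb88344f5c40627ae18f13d70c689eb86244f5c30e27ae18513d708789eb822c4f5c11227ae00913d6fc789eb7e344f5bf1627ade8f13d6f4689eb7a0c4f5bc1a27ade0b13d6f0189eb743c4f5ba1a27add0b13d6e4589eb70344f5b61227ada8f13d6d4589eb683c4f5b41a27ada0b13d6c8789eb64344f5b21627ad90313d6c4589eb62244f5b01627ad80513d6bc789eb5e344f5af1627ad70913d6b4589eb5a244f5ac1e27ad60d13d6b0489eb581c4f5aa1627ad50913d6a8189eb52244f5a90e27ad48513d6a0889eb50244f5a80a27ad40313d69c889eb4e1c4f5a51227ad20913d68c489eb44444f5a21227ad09113d684789eb42244f5a02227ad00913d680289eb400c4f59d1227ace0b13d670489eb363c4f59a2227acd0b13d668489eb341c4f59a0a27acc8f13d664689eb320c4f5981627acc0913d65c789eb2e344f5971627acb0913d650789eb28344f5940627ac90913d648189eb22244f5910e27ac88513d640489eb1e0c4f58e1227ac70713d634189eb183c4f58c1a27ac60b13d630189eb143c4f58a1a27ac50913d628389eb14144f5891627ac48913d620589eb10244f5871e27ac38d13d61c589eb0c244f5860e27ac28b13d610889eb08244f5832227ac18b13d60c489eb04444f5821e27ac10913d604889eb02344f5811227ac00b13d5fc789eafc2c4f57d1627abe8913d5f0789eaf8344f57c1227abe0713d5f0289eaf6344f57b1627abd0f13d5e0789eaf0344f5781627abc0313d5dc589eaec3c4f5761a27aba8b13d5d4489eae43c4f5721a27ab88f13d5c4589eae20c4f5701e27ab80d13d5c0589eadc3c4f56e1a27ab70b13d5b4789eada2c4f56b1a27ab58b13d5ac189ead23c4f5691a27ab48313d5a0589ead0244f5672227ab38f13d59c689eace244f5670e27ab38513d598789eacc2c4f5651227ab20b13d58c789eac6344f5631627ab08f13d584689eac22c4f5602227ab00f13d580689eac02c4f5600627aaf0913d574889eaba3c4f55d1a27aae8913d574389eaba144f55b1627aad1113d568789eab4344f55a1227aad0513d564589eab02c4f5581227aac0313d55c589eaac344f5560e27aab0513d558189eaaa2c4f5551227aaa8513d550789eaa8344f5531627aa90d13d548489eaa41c4f5512227aa88b13d544489eaa0444f5501a27aa80913d540189ea9e244f54e1e27aa70d13d534589ea9a244f54d0a27aa60f13d530689ea981c4f54c0a27aa58f13d52c6)))) (BT.node (nat_lit 679) (BT.leaf (Bx.mk (nat_lit 0x89ec3a0c4f61c1a27b0d8f13d86c689ec362c4f61b0627b0d0f13d868689ec342c4f6191e27b0c8d13d864589ec30444f6181e27b0c0d13d860589ec301c4f6180a27b0c0313d85c889ec2e244f6170a27b0b0f13d858689ec2c2c4f6160627b0a9113d854589ec2a244f6150e27b0a8313d850889ec28144f6131227b088b13d844489ec202c4f6101227b078d13d83c489ec1e1c4f60f0a27b068b13d834489ec18244f60b1e27b058d13d828589ec14244f6081e27b040d13d820489ec10144f6071627b038913d81c289ec0e0c4f6061e27b030d13d814789ec0a344f6051627b020913d810389ec080c4f6030e27b011113d808489ec041c4f6012227b008b13d804489ec020c4f6001e27b000d13d7fc789ebfe344f5ff1627aff0f13d7f8689ebfa2c4f5fd1227afe0913d7ec789ebf6344f5fb1227afd8713d7ec289ebf4344f5fa0627afc8d13d7e4389ebf20c4f5f82227afc0d13d7e0489ebf01c4f5f80a27afb8b13d7d8589ebec244f5f51227afa8713d7d0789ebe82c4f5f31e27af98d13d7c8789ebe4344f5f21227af90513d7c4789ebe2344f5f02227af80f13d7c0689ebe01c4f5f00a27af80313d7bc489ebdc344f5ed1227af61113d7b0589ebd8244f5ec0e27af60313d7ac589ebd61c4f5eb0627af51113d7a8589ebd4244f5ea0e27af50313d7a4889ebd23c4f5e91a27af48913d7a0889ebd02c4f5e81227af40513d79c889ebce2c4f5e71227af38513d79c189ebcc444f5e61e27af30d13d798589ebca444f5e51e27af28d13d794389ebca144f5e41627af20913d78c889ebc63c4f5e31a27af18913d78c389ebc6144f5e22227af10f13d788689ebc42c4f5e20e27af10513d788189ebc23c4f5e11a27af08b13d784289ebc20c4f5e01627af00913d780189ebbe2c4f5df1227aef8313d778889ebbc3c4f5de1a27aef0b13d778189ebba444f5dd1e27aee8d13d774589ebba1c4f5dd0a27aee8313d770589ebb8144f5db1227aed8513d76c189ebb4244f5da0a27aec8f13d764689ebb22c4f5d82227aec0913d760389ebb00c4f5d70627aeb1113d758589ebac244f5d52227aea8b13d754489ebaa0c4f5d41e27aea0d13d748889eba4344f5d21227ae88f13d744689eba22c4f5d02227ae80f13d740489eba01c4f5d00a27ae80313d73c889eb9e2c4f5cf1227ae78313d738889eb9c2c4f5ce1227ae70513d738189eb9a444f5cd1e27ae68d13d734589eb9a244f5cc1627ae60913d72c589eb96244f5ca1a27ae50913d728389eb922c4f5c91227ae40d13d71c4))) (BT.leaf (Bx.mk (nat_lit 0x89ed10144f6880627b431113da18589ed0c244f6852227b428b13da14489ed083c4f6841a27b420313da0c889ed063c4f6831a27b418913da08889ed04344f6821627b410913da04589ed02244f6800627b3f8d13d9fc189ecfc1c4f67e0a27b3f0313d9f4689ecfa2c4f67d0627b3e0913d9ec789ecf6344f67a2227b3d0f13d9e8689ecf41c4f67a0a27b3d0313d9e4889ecf22c4f6790e27b3c8513d9e4189ecf03c4f6781a27b3c0b13d9dc789ecee344f6761e27b3b0d13d9d8589ecea3c4f6751627b3a1113d9d0789ece8344f6741227b3a0713d9d0289ece80c4f6731627b398913d9c8789ece4344f6721627b389113d9c4689ece21c4f6710a27b380b13d9b8889ecdc2c4f66e1227b369113d9b4589ecda244f66c1e27b360d13d9ac889ecd4444f66a1a27b350b13d9a8489ecd22c4f6682227b340b13d9a0489ecd01c4f6680a27b340313d99c489eccc3c4f6661a27b330b13d994589ecca244f6650e27b328313d990789ecc82c4f6631e27b318d13d98c589ecc23c4f6611627b300f13d980689ecc02c4f65f1627b2f0b13d974789ecb6444f65b1627b2d8913d968589ecb22c4f6581627b2b9113d95c589ecae244f6570e27b2b8513d95c189ecac3c4f6561a27b2a8b13d954489eca8444f6541e27b2a0913d950389eca8144f6540627b298913d94c389eca4444f6521627b290713d944889eca22c4f6511227b281113d940489ec9e2c4f64f1227b270f13d938689ec9a3c4f64d1a27b268b13d930889ec98244f64b1e27b258d13d92c589ec922c4f6491227b241113d920589ec90244f6471e27b238d13d91c189ec8c444f6461627b230913d914689ec8a244f6431e27b218d13d90c189ec84244f6411627b208913d900789ec80244f6400e27b200513d8fc489ec7c244f63e0e27b1f0513d8f4789ec7a344f63c1227b1d8913d8e8689ec74244f63a0e27b1d0513d8e4489ec70244f6371627b1b8913d8d8589ec6c244f6351e27b1a8d13d8d4589ec68444f6341227b198b13d8c8889ec64344f6321227b190713d8c8289ec623c4f6311a27b188b13d8c0689ec60244f62f2227b178913d8b8889ec5c3c4f62e1627b170913d8b4589ec5a244f62d0a27b160f13d8b0489ec581c4f62b1227b150b13d8a4489ec4e3c4f6271a27b138b13d898789ec4c344f6261627b130713d898289ec4c0c4f6251227b128513d890789ec48344f6231e27b118d13d88c589ec461c4f6221e27b110d13d888589ec422c4f6211227b100b13d880189ec3e244f61e1627b0f0913d8744)))))) (BT.node (nat_lit 684) (BT.node (nat_lit 682) (BT.node (nat_lit 681) (BT.leaf (Bx.mk (nat_lit 0x89edd61c4f6eb0a27b758313dba8489edd41c4f6ea0a27b750313dba4789edd2344f6e82227b740513dba0189edce444f6e71e27b738d13db9c589edcc2c4f6e52227b728b13db94489edca0c4f6e42227b720b13db90489edc63c4f6e31a27b718313db88889edc43c4f6e21a27b710913db84889edc2344f6e11227b700f13db80689edc01c4f6e00a27b700313db7c789edbe244f6df0a27b6f0b13db78489edba2c4f6dd1227b6e0b13db70489edb6444f6db1e27b6d8d13db6c489edb61c4f6da2227b6d0f13db68689edb22c4f6d90e27b6c8513db64189edb0444f6d81a27b6b9113db5c489edae1c4f6d70a27b6b8313db58889edac2c4f6d61227b6b0713db58289edac0c4f6d51e27b6a8d13db54489edaa1c4f6d50a27b6a8313db50789eda82c4f6d40a27b6a0313db4c889eda62c4f6d31227b698713db48889eda43c4f6d21a27b690b13db48389eda4144f6d11227b688713db44289eda20c4f6d01e27b680d13db40589eda01c4f6cf1627b678913db34489ed9a1c4f6cd0a27b660b13db30489ed96244f6ca1e27b650913db28289ed92444f6c62227b630913db18389ed8c0c4f6c41627b620913db0c889ed86244f6c11a27b601113db00489ed80144f6c00627b5f9113dafc489ed7e1c4f6be1627b5e9113daf4589ed7a244f6bb2227b5d8f13daec689ed74444f6ba1a27b5d0913dae4389ed702c4f6b81227b5c0713dadc689ed6e0c4f6b60e27b5a9113dad4689ed6a244f6b50e27b5a8513dacc789ed66344f6b31627b590f13dac8689ed622c4f6b11227b578f13dabc689ed5e244f6af0e27b578513dab8789ed5a244f6ad0627b560f13dab0689ed58144f6ab1627b558913daa8589ed54244f6a91e27b548b13daa0789ed50344f6a81627b538f13da9c689ed4c2c4f6a60e27b528f13da94689ed4a1c4f6a50a27b520f13da90189ed46344f6a31627b518313da88489ed422c4f6a11227b508713da84289ed3c244f69e0627b4e8b13da74489ed38344f69c1227b4e0513da6c889ed363c4f69b1a27b4d8913da6c389ed343c4f69a1a27b4c8913da58589ed2a2c4f6941627b499113da4c789ed26244f6930e27b490f13da48589ed223c4f6911a27b488b13da40589ed1e444f68f1a27b478913da3c389ed1e144f68f0627b471113da38489ed1c1c4f68e0627b469113da34589ed1a144f68d0627b461113da30589ed18244f68c0a27b460313da2c889ed163c4f68b1a27b458913da2c189ed143c4f68a1a27b448f13da24689ed10444f6881a27b440913da203))) (BT.leaf (Bx.mk (nat_lit 0x89ee9e244f74e1227ba68f13dd34489ee9a1c4f74d0a27ba60b13dd2c789ee96344f74b1227ba58713dd2c289ee94244f7491e27ba48d13dd24189ee90244f7471e27ba38b13dd1c489ee8e0c4f7462227ba30b13dd18489ee8a444f7451e27ba28d13dd14589ee8a244f7450627ba21113dd10789ee88344f7440627ba18b13dd0c489ee860c4f7421227ba08f13dd04689ee822c4f7401227b9f1113dcf8689ee7c244f73e0e27b9f0313dcf4889ee7a2c4f73d1227b9e8713dcf4289ee7a0c4f73c2227b9e0f13dcf0689ee781c4f73c0a27b9d8d13dcec589ee761c4f73a1e27b9d0d13dce8589ee740c4f7381e27b9c0b13dcdc489ee6a3c4f7351a27b9a8b13dcd0589ee68244f7331e27b988b13dcc4489ee621c4f7310a27b980f13dcc0689ee5e244f72d1627b968913dcb4389ee5a0c4f72b1a27b958513dca8789ee54344f72a0627b948913dca0789ee50344f7281627b939113dc9c589ee4e244f7270627b931113dc98789ee4c344f7261627b928713dc94189ee48444f7241627b920913dc90389ee480c4f7232227b918b13dc8c489ee461c4f7230627b911113dc88689ee42244f7201627b8f8913dc7c389ee3e144f71f0627b8f0f13dc78689ee3c2c4f71d2227b8e0b13dc70489ee342c4f7191e27b8c8d13dc64589ee303c4f7181627b8b0b13dc58489ee2c0c4f7151e27b8a8d13dc4c789ee26344f7131627b898313dc48889ee24344f7121227b890713dc48289ee240c4f7111e27b888d13dc44589ee202c4f7101227b878b13dc3c389ee1e0c4f70e2227b870b13dc38489ee1c1c4f70d1627b860f13dc30689ee18144f70c0627b859113dc2c689ee162c4f70b1227b850913dc28289ee140c4f7092227b848d13dc24489ee121c4f7090627b841113dc20489ee10144f7080627b839113dc1c789ee0e344f7071227b838313dc14789ee0a344f7051627b828313dc10589ee081c4f7021e27b810d13dc04189ee002c4f6ff1227b7f0d13dbf8489edfc1c4f6fe0a27b7e8b13dbf4489edf83c4f6fc1a27b7e0913dbf0389edf8144f6fb1e27b7d8b13dbe8589edf22c4f6f91227b7c0f13dbe0689edee2c4f6f61e27b7b0d13dbd8489edec1c4f6f60a27b7a8f13dbd4689edea0c4f6f41e27b7a0d13dbd0189ede4444f6f21e27b790d13dbc8489ede41c4f6f20a27b790313dbc4889ede2244f6f10a27b788313dbc0789ede02c4f6ef1227b778713dbbc189eddc2c4f6ee0e27b770313dbb4889edda2c4f6ed1227b768313dbb0889edd8344f6ec1227b758b13dbac4)))) (BT.node (nat_lit 683) (BT.leaf (Bx.mk (nat_lit 0x89ef6a244f7b50627bda0913decc689ef66244f7b22227bd90913dec4689ef62244f7b10e27bd81113dec0589ef60244f7af1e27bd78d13debc589ef5c2c4f7ae1227bd69113deb4789ef5a144f7ac1227bd60313deac889ef563c4f7ab1227bd58513dea8789ef542c4f7aa0e27bd50313dea4589ef52244f7a90a27bd41113dea0789ef502c4f7a71227bd29113de94489ef482c4f7a31e27bd18d13de88789ef44244f7a11a27bd08913de80789ef3c2c4f79e1227bce8b13de74489ef383c4f79c1a27bcd8d13de6c289ef34244f7991e27bcc8d13de64489ef32144f7981627bcc0913de60389ef30144f7971e27bcb8d13de5c489ef2e1c4f7970a27bcb8313de58789ef2c344f7951627bca8913de50589ef263c4f7931a27bc98913de4c389ef26144f7911a27bc88913de44389ef20244f7900627bc78d13de3c489ef1e0c4f78e1627bc70913de38389ef1a444f78d1a27bc68313de2c889ef163c4f78b1a27bc58b13de2c289ef160c4f78a1627bc50913de28189ef12244f7890627bc41113de20789ef10344f7871e27bc38d13de1c189ef0c344f7860627bc28f13de14189ef083c4f7841a27bc20313de0c389ef04444f7821227bc10313de04589ef02244f7810a27bc00b13de00489ef000c4f77f1627bbf8913ddf8789eefc2c4f77e1227bbe8f13ddf4689eefa244f77c1627bbe0913ddec789eef6344f77b1627bbd8513dde8489eef2444f7791227bbc0f13dde0489eeee244f7761227bba9113ddd4489eee8444f7741227bba0313ddcc889eee62c4f7731227bb98313ddc8789eee4244f7720e27bb89113ddc4789eee2344f7711627bb88713ddc4289eee20c4f7702227bb80913ddbc789eede344f76f0e27bb78513ddbc189eedc444f76e1627bb70913ddb8389eedc144f76e0627bb69113ddb4789eeda344f76d0e27bb68513ddb4189eed8444f76c1627bb60913ddb0189eed6444f76b1227bb51113dda8489eed40c4f7691627bb40f13dda0689eed02c4f7671227bb30913dd94789eeca344f7641227bb18d13dd8c289eec4244f7612227bb08f13dd84689eec21c4f7610627bb00313dd7c689eebc444f75e1627baf0913dd78189eeba2c4f75d1227bae0b13dd70489eeb62c4f75b1227bad8313dd68489eeb23c4f7591a27bac8713dd64289eeb03c4f7581a27bac0713dd60289eeae344f7571227bab1113dd58589eeaa444f7551e27baa8d13dd54489eea8444f7541e27baa0d13dd50489eea62c4f7531227ba90b13dd48489eea2244f7501e27ba80d13dd405))) (BT.leaf (Bx.mk (nat_lit 0x89f050244f8271227c130f13e090889f0483c4f8241a27c120913e090389f048144f8231627c110f13e088689f0442c4f8220e27c110513e084789f040244f81e1227c0e0f13e068889f034144f81a0627c0c9113e064789f032344f8191227c0c1113e060589f030144f8172227c0b8713e05c189f02c244f8151e27c0a8b13e050489f0243c4f8121a27c090b13e044589f022244f8101627c080913e040389f0200c4f80f1227c078713e038789f01c344f80e1627c068913e030589f018244f80b1227c051113e028489f0141c4f80a0a27c050313e024889f0123c4f8091627c048713e024289f0120c4f8081227c038913e01c189f00c2c4f8060627c028f13e014689f00a2c4f8050a27c020b13e00c789f006344f8030e27c018313e008889f0042c4f8021227c008f13e004689f0002c4f7ff2227bff8f13dffc689effe0c4f7fe1e27bfe9113dff4789effa344f7fd0627bfe0913dfec489eff4244f7f91e27bfc8d13dfe0689efee3c4f7f71a27bfb0913dfd4789efea344f7f51627bfa0913dfcc489efe43c4f7f21a27bf88913dfc0589efde3c4f7ef1a27bf78913dfbc389efde144f7ee1227bf70313dfb4889efda244f7ed0627bf61113dfb0589efd8244f7eb2227bf58f13dfac589efd60c4f7ea1a27bf50513dfa4689efd0344f7e81227bf40713df9c489efcc3c4f7e61a27bf30b13df94589efca244f7e42227bf20913df90389efc8144f7e40627bf18b13df8c489efc60c4f7e20e27bf09113df84789efc2344f7e11627bf08713df84289efc20c4f7e02227bf00f13df80689efc0144f7df1e27bef8d13df7c589efbe244f7df0627bef0d13df78589efbc0c4f7dd1227bee8313df6c489efb60c4f7d91e27bec8913df60689efb0244f7d80a27beb8b13df5c189efac444f7d61227beb0513df54689efaa244f7d50e27bea0f13df50589efa80c4f7d31a27be91113df48589efa4244f7d11e27be88d13df40789ef9e444f7cf1a27be78913df38789ef9a2c4f7cd1227be60b13df2c789ef96344f7cb1227be58713df2c289ef94244f7ca0627be49113df24589ef92244f7c90a27be41113df20489ef8e344f7c70627be30f13df18489ef8c1c4f7c51627be28313df10789ef88344f7c41627be20713df10189ef843c4f7c21a27be10b13df08189ef82444f7c11227be00f13df00689ef7e2c4f7be1227bde9113def4789ef7a344f7bd0627bde0d13deec489ef74444f7ba1e27bdd0313dee4789ef72344f7b91627bdc8513dee0889ef70244f7b71227bdb0913ded45))))) (BT.node (nat_lit 686) (BT.node (nat_lit 685) (BT.leaf (Bx.mk (nat_lit 0x89f15c144f8ae0627c569113e2b4489f15a1c4f8ac1227c558b13e2ac489f154444f8aa1627c550913e2a4889f1523c4f8a91227c540913e298689f14c244f8a60627c528f13e294689f14a144f8a42227c520713e290289f1480c4f8a31a27c518913e288589f1422c4f8a02227c500f13e280689f140244f8a00e27c500513e278889f13c3c4f89e1a27c4f0913e278389f13c144f89c1627c4e0913e270189f136344f89a1a27c4d0b13e264889f132244f8981e27c4c0d13e25c589f12a2c4f8942227c4a0b13e250489f124444f8901e27c480d13e23c689f11e244f88f0e27c470f13e238589f11c1c4f88e0a27c468f13e234689f11a244f88d0e27c468513e230589f1163c4f88b1a27c458b13e224889f110444f8881e27c440d13e220589f10e2c4f8870e27c438313e218589f10c244f8860e27c430313e214789f10a344f8842227c420913e210189f106444f8831227c410b13e204589f1000c4f87f1227c3f0913e1f4689f0f8244f87b1227c3d1113e1e8489f0f2244f8781627c3c0913e1dc889f0ee244f8762227c3a9113e1d0889f0e8244f8731e27c398d13e1cc389f0e42c4f8721227c388d13e1c4489f0e2144f8701227c378f13e1bc689f0de2c4f86e1227c369113e1b4789f0da344f86d1627c360b13e1b0489f0d81c4f86b1e27c358d13e1ac589f0d43c4f86a1a27c350b13e1a4889f0d2244f8682227c340b13e1a0489f0ce444f8671627c338913e19c189f0cc444f8661e27c330913e198189f0ca444f8651a27c328b13e194489f0ca0c4f8641627c319113e188789f0c4344f8621627c308913e17c589f0bc444f85e1627c2f0913e174789f0ba344f85d0627c2e1113e170489f0b43c4f85a1a27c2d0b13e164589f0b2244f8590e27c2c1113e160689f0b0244f8580e27c2c0513e160189f0ae244f8542227c2a0f13e14c889f0a62c4f8531227c291113e148589f0a4244f8511e27c288d13e144589f09c2c4f84c1627c259113e12c789f096344f84b1227c258713e128789f092244f8481227c238f13e11c689f08e2c4f8441627c220913e10c589f086244f8422227c210f13e108689f0841c4f8420a27c208d13e100489f07e2c4f83f1227c1f1113e0f8789f07c344f83e1227c1f0513e0f4789f07a344f83c1e27c1e0d13e0f0589f076244f83a1a27c1d0b13e0e4789f072344f8371227c1a8b13e0d0589f0662c4f8311e27c188d13e0c4589f0620c4f8301e27c180d13e0c0589f05e3c4f82f1a27c178513e0b8789f05c344f82e0e27c148f13e0a46))) (BT.leaf (Bx.mk (nat_lit 0x89f2342c4f91a1227c8d0513e460489f2300c4f9171e27c8b8d13e458789f22c144f9151e27c8a8d13e454589f2263c4f9131a27c898b13e44c189f224344f9121627c889113e444489f2221c4f9101e27c880d13e43c889f21e244f90e1e27c870d13e438589f21a2c4f90d1227c860913e42c489f214444f90a1627c850913e428389f214144f9091627c848913e424289f2103c4f9081a27c838f13e41c689f20e2c4f9061227c828b13e410489f206244f9030627c810f13e408689f204244f9011227c801113e400589f200244f9000e27c800313e3fc789f1fe344f8fe1627c7e8f13e3f4689f1fa144f8fd0627c7e0f13e3f0689f1f81c4f8fc0627c7d9113e3ec689f1f62c4f8fb0a27c7d0b13e3e8489f1f23c4f8f91a27c7c8b13e3e4389f1f2144f8f81627c7c0913e3e0389f1f0144f8f71627c7b8913e3d8589f1ec244f8f51e27c7a8d13e3cc789f1e6344f8f31627c791113e3c8489f1e4144f8f20627c788913e3c0689f1de344f8ed2227c768f13e3b0889f1d83c4f8ec0e27c760513e3ac789f1d6344f8eb1627c751113e3a8789f1d4344f8ea1627c748913e3a0389f1d0144f8e71e27c738d13e394589f1ca244f8e42227c720913e388889f1c4244f8e20627c709113e384489f1c03c4f8e01a27c700313e37c889f1be3c4f8df1227c6f1113e378489f1ba2c4f8dd1227c6e8513e370589f1b8244f8dc0a27c6e0313e36c789f1b6344f8da2227c6d0913e368389f1b23c4f8d91a27c6c8b13e360489f1ae244f8d70a27c6a9113e354589f1aa244f8d42227c6a0913e348489f1a23c4f8d11a27c680b13e340489f19e244f8cf0e27c678513e338789f19c344f8ce1627c668b13e334489f198244f8cb2227c658913e32c389f194444f8ca1227c650513e324789f192344f8c91627c640f13e320689f1902c4f8c71627c631113e318589f18c244f8c60e27c629113e314289f18a0c4f8c41627c618b13e30c489f1860c4f8c21e27c610d13e304589f182244f8c10e27c608513e300789f180344f8c01227c600713e300289f17e3c4f8bf1a27c5f8b13e2f4789f17a344f8bb1e27c5d8d13e2e8789f174344f8b91627c5c8913e2e0589f170244f8b72227c5b8b13e2dc489f16c444f8b61627c5b0913e2d8289f16c0c4f8b52227c5a8b13e2d4289f1683c4f8b40627c599113e2cc489f1661c4f8b21227c590713e2c8189f162444f8b11627c588913e2c4389f1620c4f8b02227c580b13e2c0489f1601c4f8b00627c579113e2bc689f15e2c4f8af1227c571113e2b84)))) (BT.node (nat_lit 687) (BT.leaf (Bx.mk (nat_lit 0x89f312444f9891e27cc48d13e624589f312144f9881627cc40913e61c889f30e244f9861e27cc30b13e618389f30a2c4f9851227cc18913e608789f304344f9811e27cc08d13e600589f300244f9800a27cbf8f13e5fc589f2fe244f97f0627cbf1113e5f8589f2fc244f97e0627cbe8f13e5f4689f2fa2c4f97d0e27cbe8513e5f4189f2f8444f97c1227cbd9113e5ec789f2f6244f97b0a27cbd0f13e5e8689f2f42c4f9791627cbc8913e5dc489f2ee1c4f9770627cbb0f13e5d8289f2ea244f9741627cba0913e5d0289f2e62c4f9731227cb98513e5c8889f2e4344f9721227cb88b13e5c4489f2e2144f9701a27cb80913e5c0289f2dc3c4f96e1227cb68f13e5b4689f2da2c4f96c1627cb58f13e5ac589f2d6244f96a1627cb50913e5a8389f2d23c4f9691a27cb48913e5a4389f2d2144f9682227cb40b13e5a0489f2ce2c4f9670627cb30f13e598689f2cc2c4f9660a27cb28b13e594489f2c8244f9632227cb18b13e58c489f2c61c4f9630627cb11113e588789f2c4344f9621627cb10713e588289f2c23c4f9611a27cb08b13e584389f2c0244f95f1627caf0913e574789f2ba344f95d1627cae8313e56c789f2b6344f95b1627cad8313e568889f2b4244f9591627cac8913e560889f2ae2c4f9561627cab0913e554889f2aa244f9550a27caa0f13e550689f2a82c4f9532227ca98913e54c389f2a42c4f9511627ca88913e53c689f29a444f94d1e27ca68d13e534389f29a144f94d0627ca60b13e530489f2980c4f94b1e27ca58d13e528489f292244f9482227ca40f13e520489f2901c4f9480a27ca40313e51c789f28e344f9471627ca38513e518589f28a3c4f9451a27ca20f13e510589f286244f9421227ca08b13e504489f2802c4f9401227c9f8f13e4fc689f27c444f93d1627c9e8313e4f0889f2762c4f93b1227c9d0913e4e4689f272144f9381627c9c0913e4e0189f26e244f9362227c9b0913e4d4489f2683c4f9331627c998913e4c8789f264344f9321227c990713e4c0889f260244f92f1627c971113e4b8789f25c244f92e0627c968f13e4b4689f25a1c4f92d0a27c960f13e4b0689f2581c4f92b1e27c958d13e4ac289f254244f9291227c940b13e49c789f24e344f9271627c931113e498789f24c344f9261227c930713e498289f24a244f9241227c910913e488289f2423c4f9211a27c908b13e480789f240344f91f1627c8f8913e47c289f23e0c4f91e1627c8f0513e478189f23a3c4f91d1a27c8e8b13e46c789f236344f91b1627c8d8313e4687))) (BT.leaf (Bx.mk (nat_lit 0x89f3e21c4f9f10a27cf80d13e7b8889f3dc244f9ed1227cf61113e7b0489f3d42c4f9e91627cf48913e7a4189f3ce3c4f9e71a27cf38313e798889f3cc244f9e51227cf21113e790489f3c8144f9e31e27cf18d13e78c589f3c4444f9e21a27cf10913e784889f3c0444f9e01227cf00313e77c589f3be244f9de2227cef0d13e778589f3bc0c4f9dd2227cee8f13e774489f3ba144f9dc1e27cee0d13e770589f3b81c4f9db1627ced8913e76c289f3b60c4f9da1627ced0913e768289f3b2244f9d81627cec0913e75c589f3ae244f9d61627cea8913e750789f3a8144f9d21a27ce90b13e740689f3a00c4f9cf1627ce71113e738789f39c344f9ce1227ce70713e738289f398344f9cc1627ce59113e72c789f396344f9cb1627ce50f13e728689f394144f9c81e27ce40d13e720189f38e2c4f9c61627ce30913e714789f38a244f9c50e27ce28513e710789f388344f9c31627ce18913e708589f384244f9c12227ce08f13e704689f382244f9c10e27ce08513e700789f380344f9c01627cdf0f13e6f0789f378344f9bc1627cdd8913e6e8889f374244f9b92227cdc8913e6e0889f370244f9b71227cdb1113e6d8689f36c244f9b60e27cdb0513e6d4689f36a244f9b50e27cda8513e6d0589f366444f9b31e27cd98b13e6cc189f3642c4f9b21227cd90713e6c4589f360444f9b01a27cd80b13e6c0189f35e244f9ae1227cd69113e6b4489f35a1c4f9ad0627cd61113e6b0589f358244f9ac0627cd59113e6ac689f356244f9ab0627cd50913e6a4889f352244f9a90a27cd48313e6a0889f3502c4f9a81227cd40513e6a0189f34e2c4f9a70e27cd38513e69c189f34c444f9a61e27cd30d13e698489f34c1c4f9a60a27cd30313e694889f34a3c4f9a51227cd28713e694289f3482c4f9a41227cd20713e690289f3462c4f9a31227cd18513e688589f3441c4f9a20a27cd08913e680789f340344f9a01227cd00713e680289f33e444f99f1227ccf8713e678789f33c2c4f99e0e27ccf0513e678189f33a3c4f99d1227cce8513e674189f338444f99c1e27cce0d13e66c589f336144f99b0627ccd0713e668289f3340c4f9990627ccc1113e660789f330344f9981627ccb8913e658889f32c244f9960627cca8913e650889f328244f9932227cc98913e648889f324244f9911627cc88913e644289f3220c4f9901627cc80913e63c589f31c444f98e1227cc70713e638289f31a444f98d1627cc68913e630889f3183c4f98c1627cc60913e62c489f3160c4f98a1627cc50913e6281))))))) (BT.node (nat_lit 696) (BT.node (nat_lit 692) (BT.node (nat_lit 690) (BT.node (nat_lit 689) (BT.leaf (Bx.mk (nat_lit 0x89f4c2244fa601e27d300b13e97c489f4bc244fa5c1e27d2e0d13e970189f4b6244fa5a2227d2d0f13e968689f4b41c4fa5a0a27d2c8f13e964689f4ae3c4fa571227d2b8713e95c289f4ac3c4fa561a27d2b0b13e950689f4a4244fa512227d288d13e944489f4a0444fa501627d280913e940189f49e444fa4f1227d278513e938589f49c244fa4d1227d260b13e930489f4962c4fa4b1227d258313e928789f494344fa491e27d248b13e920489f4900c4fa471627d230913e918189f48a344fa450e27d220b13e910489f4863c4fa431a27d218913e90c389f484344fa411e27d208b13e900489f47e444fa3f1627d1f8913e8fc389f47e144fa3f0627d1f1113e8f8789f47c2c4fa3e0e27d1f0513e8f4889f47a3c4fa3d1a27d1e8b13e8f0789f478344fa3c1627d1d9113e8ec489f4760c4fa3a2227d1d0f13e8e8489f4740c4fa391627d1c8913e8e4289f4720c4fa381627d1c0913e8e0289f4700c4fa371a27d1b8b13e8dc389f46e144fa370627d1b0b13e8d8489f46c144fa351627d1a8913e8d0589f468244fa331e27d198d13e8cc389f4643c4fa321a27d190713e8c8289f4640c4fa311227d178f13e8bc689f45c344fa2d1627d168913e8b0589f4563c4fa2a2227d150913e8a4889f452244fa290a27d140f13e8a0689f4501c4fa280627d139113e89c489f44e0c4fa262227d130913e898289f44c0c4fa252227d128f13e894689f44a244fa250a27d120b13e890489f446244fa230627d110b13e888489f4422c4fa201e27d100d13e880589f43e2c4fa1f1227d0f8313e878589f43c244fa1e0627d0e9113e874589f43a244fa1d0a27d0e8313e870889f4382c4fa1c0a27d0e0313e86c789f436344fa1b1227d0d8713e86c289f4360c4fa1a2227d0d0d13e868389f434144fa1a0627d0c8f13e864689f4321c4fa190627d0c0b13e85c889f42e244fa170627d0b1113e858189f42a444fa151227d0a1113e850589f428144fa140627d099113e84c589f426244fa130a27d098313e848489f4221c4fa100627d078913e838689f4183c4fa0c1227d059113e82c789f416244fa0b0e27d058513e824589f410444fa081627d039113e81c589f40e244fa070a27d038313e818889f40c3c4fa061627d030913e814489f4082c4fa031e27d018d13e804789f4022c4fa010627d000913e7fc789f3fe344f9ff1627cff0b13e7f8489f3f82c4f9fc1227cfd8b13e7e8789f3f23c4f9f71e27cfb8d13e7dc589f3ec344f9f51227cfa0d13e7cc489f3e42c4f9f11e27cf88d13e7c44))) (BT.leaf (Bx.mk (nat_lit 0x89f57e444fabf1a27d5f8b13eafc289f57c3c4fabe1a27d5f0b13eaf4889f57a2c4fabd1227d5e8513eaf4189f5782c4fabc1227d5d8b13eaec489f574444faba1e27d5d0d13eae8589f5722c4fab91227d5c1113eae0689f5702c4fab81227d5b8b13eadc489f56c2c4fab61227d5a9113ead4789f56a2c4fab41627d5a0913eacc789f566344fab31627d590f13eac8589f562244fab01627d580913eabc589f55e244faad1e27d560b13eaac789f556344faab0e27d558513eaac189f5542c4faaa1227d548b13eaa4489f5520c4faa81e27d539113ea9c589f54e244faa61e27d530d13ea98189f54a444faa51e27d521113ea90689f548244faa31627d518913ea8c189f544444faa21e27d510d13ea88389f544144faa11e27d508d13ea80889f5402c4faa01227d500313ea7c889f53e3c4fa9f1a27d4f8913ea7c389f53e144fa9e1e27d4f0d13ea78389f53c144fa9e0627d4e8b13ea74489f53a144fa9d0627d4e0f13ea70689f5381c4fa9c0a27d4e0313ea6c789f536344fa9a1627d4d0913ea64489f5303c4fa981a27d4c0913ea60289f52e3c4fa951e27d4a8d13ea50589f528244fa931e27d498d13ea4c389f526144fa922227d490f13ea48689f524244fa920a27d480b13ea3c489f51e1c4fa8e1627d468f13ea34489f51a1c4fa8d0a27d461113ea30489f5181c4fa8b2227d458b13ea2c489f514444fa8a1227d450313ea24789f512344fa881e27d440d13ea20389f510144fa871e27d438d13ea1c389f50e144fa861e27d430d13ea18189f50a2c4fa851227d420b13ea10489f5080c4fa832227d418f13ea0c689f506244fa830e27d418513ea08789f504344fa811e27d408b13ea00489f4fe244fa7e1e27d3f0d13e9f8589f4fa2c4fa7c1e27d3e0d13e9f0489f4f8144fa7b1627d3d0f13e9e8689f4f42c4fa791627d3c8913e9e0589f4f0244fa780627d3b9113e9dc789f4ee344fa770e27d3b0f13e9d8689f4ec144fa760627d3a9113e9d4789f4ea344fa751627d3a8913e9d0589f4e8144fa732227d398d13e9cc489f4e61c4fa730a27d390b13e9c8489f4e22c4fa711227d381113e9c0789f4e0244fa700a27d379113e9bc689f4de244fa6f0e27d370f13e9b8689f4dc0c4fa6d1a27d361113e9b0789f4d8244fa6c0627d359113e9ac789f4d6344fa6b1227d358313e9a4889f4d23c4fa681627d338f13e99c689f4ce144fa670627d330913e994589f4ca0c4fa642227d320f13e990689f4c8244fa640e27d320513e990189f4c63c4fa631a27d310f13e9886)))) (BT.node (nat_lit 691) (BT.leaf (Bx.mk (nat_lit 0x89f678144fb3b2227d9d8f13ecec689f676244fb3b0e27d9d8513ece8889f674344fb3a1627d9c8f13ece4689f6722c4fb371627d9b8913ecd0589f6662c4fb321e27d990d13ecc4789f662344fb311627d968d13ecb4189f658344fb2b2227d958f13ecac289f6543c4fb2a1a27d950b13eca4489f6503c4fb281627d938f13ec9c689f64e2c4fb261227d928913ec90789f648344fb231627d918913ec88789f644344fb221227d910713ec84489f63e3c4fb1f1a27d8f0913ec70489f6362c4fb1a1227d8c8913ec58889f62c3c4fb161a27d8b0913ec58389f62c144fb160627d898913ec4c189f624444fb120627d888913ec40789f620344fb101627d870913ec2c489f612244fb081e27d840b13ec18789f60c2c4fb051627d820b13ec0c589f604444fb021e27d810d13ec08489f6041c4fb020a27d810313ec04789f602344fb011627d7f8f13ebfc689f5fe244faff0e27d7f8513ebfc189f5fc3c4fafe1a27d7f0713ebf8289f5fa1c4fafc0e27d7d8913ebec289f5f60c4fafa1e27d7d0d13ebe8589f5f2444faf91227d7c0b13ebdc589f5ee244faf61e27d7b0d13ebd4489f5ea144faf41627d7a0913ebd0389f5e8144faf40627d798f13ebcc689f5e62c4faf21227d788b13ebc4489f5e21c4faf10a27d788313ebc0789f5e0344faf01227d780713ebc0289f5de344faef1627d771113ebb8589f5dc244faee0e27d770513ebb4889f5da244faed0e27d768513ebb0889f5d83c4faec1a27d760913ebb0389f5d8144faeb2227d758f13ebac689f5d6144faeb0627d751113eba8789f5d4344faea1627d750313eba4589f5d21c4fae90a27d740f13eba0689f5d02c4fae61627d730913eb94689f5ca244fae50e27d728513eb90789f5c4244fae11a27d708913eb84389f5c2144fae02227d700f13eb80689f5c0244fae00e27d6f9113eb7c489f5be144fade1627d6e9113eb74489f5ba144fadc1e27d6d8b13eb6c489f5b42c4fada1227d6c8f13eb64689f5b21c4fad90a27d6c0f13eb60689f5b02c4fad71227d6b0913eb50589f5a6444fad31e27d698d13eb4c489f5a61c4fad30a27d690d13eb3c589f59e244face1627d670913eb34589f59a244facd0627d660b13eb30489f5980c4facb1227d658513eb2c189f5943c4faca1a27d650913eb28389f594144fac91e27d648d13eb24389f592144fac81e27d640d13eb20589f58c444fac61627d630913eb18189f58a3c4fac51a27d628b13eb10889f586244fac21227d610713eb04489f5803c4fac01a27d600713eb002))) (BT.leaf (Bx.mk (nat_lit 0x89f736444fb9b1627dcd8913ee6c289f7360c4fb9a2227dcd0f13ee68689f734244fb9a0e27dcd0513ee64689f7322c4fb982227dcc0f13ee60689f730244fb980e27dcc0513ee5c789f72e344fb971627dcb1113ee58789f72c344fb951627dca1113ee50789f728344fb941627dca0513ee4c789f726344fb931627dc88913ee40589f71e2c4fb8f1227dc70f13ee38689f71c244fb8e0e27dc60913ee30189f7162c4fb8b1227dc50f13ee28689f712244fb890627dc40b13ee20489f70e444fb871227dc38513ee18889f70c2c4fb860a27dc30313ee14789f70a344fb850e27dc20f13ee10689f7082c4fb840627dc18913ee08789f704344fb821227dc10713ee08289f7023c4fb811627dc00f13ee00689f7002c4fb7f1627dbf0b13edf8489f6fc0c4fb7d1227dbe1113edec889f6f6244fb7a2227dbd0913ede4889f6f2244fb782227dbc0913edcc789f6e6344fb721e27db90d13edc8489f6e41c4fb720a27db88f13edc4689f6e22c4fb701e27db80d13edc0589f6de3c4fb6f1a27db78313edb8489f6da444fb6d1e27db68913edb4389f6da144fb6c2227db60b13edb0489f6d8144fb6b2227db58b13edac489f6d42c4fb6a1227db48f13eda4489f6d21c4fb690a27db41113eda0789f6d0344fb681227db40713eda0289f6ce444fb671627db38913ed9c389f6ce0c4fb662227db30f13ed98689f6cc2c4fb660e27db30513ed98189f6ca444fb651e27db28d13ed94589f6c8444fb641627db20913ed90289f6c6444fb631627db18913ed8c389f6c6144fb630627db11113ed88489f6c4144fb611a27db08b13ed80589f6c0244fb600a27daf8b13ed7c489f6be144fb5f0627daf1113ed78489f6bc144fb5d2227dae8913ed70889f6b83c4fb5c1a27dae0913ed6c589f6b6244fb5a0627dac0f13ed60389f6b0144fb580627dab8913ed58489f6a82c4fb531627da98913ed4c389f6a6144fb530627da90b13ed48489f6a40c4fb511627da88913ed40789f6a0344fb501627da78f13ed38289f69c0c4fb4d2227da68d13ed34489f698444fb4c1e27da60d13ed30589f696444fb4b1e27da58d13ed2c489f696144fb4a1627da50513ed28189f6923c4fb481627da31113ed18589f68c244fb452227da28b13ed14489f6883c4fb441a27da20313ed0c889f6863c4fb431627da18913ed08889f684344fb421227da08f13ed04689f6822c4fb401227d9f8f13ecfc689f67e2c4fb3e2227d9f0f13ecf8689f67c1c4fb3e0a27d9f0313ecf4589f67a244fb3d0a27d9e0b13ecf04))))) (BT.node (nat_lit 694) (BT.node (nat_lit 693) (BT.leaf (Bx.mk (nat_lit 0x89f8321c4fc190a27e0c8313f060789f830344fc181627e0b8f13f05c589f82c244fc151627e0a8913f050789f826244fc121e27e090b13f044789f822344fc101227e078913f034789f81a344fc0c1e27e060913f030389f818144fc0a1e27e050d13f028189f812344fc091627e040f13f020689f80e3c4fc061627e030913f014489f808444fc041e27e020d13f010489f808144fc031e27e018d13f00c589f8043c4fc021a27e010b13f004589f800344fc001627e000313effc589f7fc2c4fbfd1e27dfe8d13eff4589f7f83c4fbfc1a27dfe0b13eff0189f7f62c4fbfb1227dfd8313efe4889f7f23c4fbf91a27dfc8913efe4389f7f2144fbf81627dfc0913efdc589f7ec3c4fbf61a27dfb0913efd8389f7ec144fbf51627dfa8913efd0589f7e8244fbf31627df98913efc8589f7e23c4fbf01627df78b13efb8789f7dc344fbed1627df60b13efac789f7d6344fbeb1227df58713efac289f7d42c4fbe91227df40f13efa0689f7d02c4fbe71227df30f13ef98689f7cc2c4fbe51227df20b13ef90489f7c62c4fbe31227df10b13ef88489f7c23c4fbe11a27df08b13ef80789f7c0344fbe01627def8913ef78689f7bc2c4fbde0627dee8b13ef74189f7b83c4fbdc1a27ded8b13ef6c489f7b42c4fbda1227dec8f13ef64689f7b2244fbd90a27dec0f13ef60689f7b00c4fbd71627deb8913ef58589f7aa444fbd51e27dea8713ef50489f7a6244fbce1e27de70d13ef38589f79a3c4fbcb1e27de58d13ef2c589f7961c4fbcb0627de50b13ef28489f7940c4fbc91627de48913ef20589f790244fbc80627de38913ef1c389f78e144fbc70627de30f13ef18689f78c2c4fbc51e27de28d13ef14589f7862c4fbc31227de18313ef04589f7802c4fbbf1e27ddf1113eef8589f77c244fbbd1e27dde8d13eef0889f7783c4fbbc1227ddd9113eeec689f7762c4fbbb1227ddc8f13eee4689f7722c4fbb81e27ddc0d13eee0389f770144fbb80627ddb8f13eedc689f76e2c4fbb61627ddb0913eed8289f76a2c4fbb51227dda8513eed0689f7682c4fbb31e27dd98d13eec8489f7603c4fbb01a27dd80b13eebc489f75a3c4fbad1a27dd60f13eeac789f756344fbab0e27dd58513eea8689f7541c4fbaa0a27dd48b13eea4489f7521c4fba90627dd40913ee9c789f74e344fba71627dd28d13ee94189f748444fba41e27dd20d13ee90489f7481c4fba40a27dd18d13ee8c589f744244fba11227dcf0f13ee78689f73c2c4fb9d1e27dce8d13ee74589f73a144fb9c1e27dce0d13ee705))) (BT.leaf (Bx.mk (nat_lit 0x89f9340c4fc991627e4c8313f258689f92c2c4fc960a27e4a8913f250489f922244fc902227e480f13f240689f920244fc900e27e480513f23c789f91e344fc8d1a27e468713f234289f9183c4fc8c1a27e460b13f22c789f9143c4fc8a1a27e450b13f220489f90e2c4fc871227e438513f218589f90c244fc851227e418d13f20c589f9042c4fc811e27e408d13f204389f902144fc810627e400b13f200489f8fe2c4fc7f1227e3f0f13f1f8589f8fa444fc7d1e27e3e8d13f1f4489f8fa1c4fc7d0a27e3e0913f1ec589f8f6244fc7a1627e3d0913f1e8189f8f23c4fc791a27e3c8913f1e4389f8f2144fc781e27e3c0d13f1e0589f8ea3c4fc751a27e3a8b13f1d4189f8e82c4fc741227e398913f1cc189f8e42c4fc711e27e388d13f1c4589f8e03c4fc701a27e380b13f1bc589f8de244fc6f0a27e368f13f1b4689f8da0c4fc6c1227e359113f1ac789f8d6344fc6b1227e358713f1ac289f8d03c4fc681a27e340b13f19c489f8cc244fc641a27e320b13f18c789f8c6344fc631627e310b13f184489f8be244fc5d1e27e2e8d13f16c589f8b6244fc5a1227e2d0313f164489f8ae144fc561627e2a8f13f154689f8a8244fc540e27e2a0513f14c489f8a61c4fc530a27e298313f148789f8a41c4fc520627e288913f144389f8a20c4fc501e27e280d13f140489f8a00c4fc4f2227e278f13f13c689f89e0c4fc4e2227e270913f134889f89a3c4fc4d1a27e268913f134389f89a144fc4c2227e260f13f130689f896244fc4b0627e250b13f124889f8922c4fc491227e241113f120489f8901c4fc480a27e230f13f118689f888444fc441227e219113f10c489f8843c4fc421a27e210913f108389f8840c4fc411227e200b13f0fc589f87e244fc3e2227e1f0f13f0f8689f87c244fc3e0e27e1f0513f0f4789f87a344fc3c2227e1e0f13f0f0689f878244fc3c0e27e1e0513f0ec789f8762c4fc391627e1c8913f0e0589f86e244fc361e27e1b0d13f0d8589f86a3c4fc351a27e1a0913f0cc589f866244fc321627e190913f0c4689f8602c4fc2f1227e170b13f0b8189f85a344fc2c1627e160913f0ac689f856244fc2b0a27e150b13f0a8489f8523c4fc291a27e140b13f09c789f84c3c4fc261a27e128d13f090789f8480c4fc231627e118913f08c189f844444fc221e27e110d13f088389f844144fc211e27e108d13f084589f8402c4fc1f2227e0f8f13f07c689f83c3c4fc1e1a27e0f0913f078389f83c144fc1d1627e0e0b13f06c489f834444fc1a1e27e0d0d13f0646)))) (BT.node (nat_lit 695) (BT.leaf (Bx.mk (nat_lit 0x89fa022c4fd011227e808313f400889fa00344fd001227e800713f3fc789f9fe344fcff1227e7f0f13f3f8489f9fa3c4fcfd1a27e7e8913f3f0489f9f8144fcfc0627e7d8f13f3ec689f9f62c4fcfa1e27e7d0d13f3e8589f9f2444fcf91a27e7c8913f3e4289f9f0444fcf81e27e7c0d13f3e0589f9ee3c4fcf71a27e7b0b13f3d8489f9ec0c4fcf51e27e7a8d13f3d4489f9ea1c4fcf50a27e7a8313f3d0789f9e8344fcf41627e7a0313f3cc589f9e6244fcf30e27e790f13f3c8589f9e23c4fcf11a27e780913f3bc589f9de244fcee2227e770f13f3b8689f9dc244fcee0e27e769113f3b4589f9da244fced0a27e760d13f3b0489f9d81c4fcec0a27e758f13f3ac689f9d62c4fceb0e27e758313f3a8589f9d2444fce91627e748913f3a0589f9d0244fce71e27e738d13f39c189f9cc244fce52227e728d13f394589f9ca244fce41e27e720913f390389f9c8144fce32227e718f13f38c189f9c42c4fce21227e710513f388189f9c22c4fce11227e701113f380789f9c0344fce00e27e700513f37c789f9be2c4fcdf0627e6f0f13f378689f9bc144fcdd1627e6e8513f370889f9b8244fcdb1e27e6d8d13f368589f9b4244fcd91627e6c8913f360789f9b0344fcd81227e6c0713f360289f9ae244fcd52227e698b13f348889f9a4244fcd01a27e670913f338189f99a344fccd1627e660d13f32c789f9942c4fcca1227e650513f324789f992344fcc91227e648713f324289f9920c4fcc81a27e640b13f31c689f98e2c4fcc41627e620913f310289f9880c4fcc31e27e618d13f30c589f9842c4fcc12227e608913f300889f9803c4fcc01a27e5f9113f2fc789f97e344fcbf0627e5f0f13f2f0889f9783c4fcbc1a27e5e0713f2ec789f976344fcbb1627e5d0f13f2e8689f9702c4fcb80a27e5b8f13f2dc689f96c2c4fcb61227e5a8b13f2d4489f96a0c4fcb41e27e5a0d13f2d0489f9681c4fcb40a27e5a0313f2cc789f966344fcb31627e598313f2c8589f964244fcb20e27e588d13f2c4489f9621c4fcb10a27e580f13f2c0689f95e2c4fcaf1227e578713f2bc289f95e0c4fcae1e27e570d13f2b8289f95a2c4fcad1227e560b13f2b0489f9543c4fcaa1a27e550b13f2a4789f952344fca90e27e548513f2a4189f9502c4fca71227e538713f298589f94a3c4fca51227e528513f290889f948244fca32227e518f13f28c489f944244fca11e27e508d13f280589f9400c4fc9f1a27e4f8913f27c289f93e0c4fc9e1627e4f0913f274489f9382c4fc9a1e27e4d0d13f2685))) (BT.leaf (Bx.mk (nat_lit 0x89fada1c4fd6d0a27eb60b13f5ac589fad43c4fd6a1a27eb50713f5a8289fad40c4fd681227eb40513f59c489faca344fd651627eb28713f590589fac8244fd631627eb18913f58c189fac43c4fd621627eb08f13f584689fac0244fd5f1227eaf0f13f574889faba3c4fd5d1a27eae8513f574189fab83c4fd5c1627ead9113f56c789fab6344fd5b1627ead8313f568589fab4244fd591627eac8913f564189fab03c4fd571a27eab8b13f558889faac344fd561227eab0713f558289faac0c4fd552227eaa8913f554389faaa0c4fd540627ea99113f54c589faa6244fd522227ea90b13f548489faa40c4fd511e27ea88d13f544189faa0444fd501e27ea80d13f540489fa9e444fd4f1a27ea78b13f53c489fa9c2c4fd4e1227ea70513f534589fa9a244fd4d0a27ea68313f530789fa982c4fd4b2227ea58f13f52c689fa962c4fd4b0e27ea58513f52c189fa94344fd4a1627ea48f13f524689fa922c4fd481e27ea40d13f51c489fa8c3c4fd461a27ea30b13f518389fa8a3c4fd451627ea28713f510589fa88244fd440a27ea18d13f50c489fa861c4fd430627ea11113f508489fa840c4fd412227ea08f13f504689fa803c4fd401a27ea00b13f4fc689fa7e2c4fd3e1e27e9f0d13f4f8589fa7a2c4fd3d1227e9e8713f4f4189fa783c4fd3c1a27e9e0b13f4e8889fa742c4fd392227e9c8b13f4e0789fa70344fd372227e9b8b13f4dc489fa6c444fd361e27e9b0b13f4d4889fa6a3c4fd351227e9a8313f4d0489fa681c4fd331e27e998913f4cc389fa66144fd322227e990913f4c8389fa64144fd320627e989113f4c4789fa62344fd301627e978913f4b8689fa5a3c4fd2d1627e960f13f4ac789fa56344fd2b1627e950b13f4a8489fa52244fd290e27e948513f4a0489fa4e344fd271627e930913f48c489fa44244fd211e27e908d13f484589fa402c4fd201227e8f8f13f47c489fa3e1c4fd1f0a27e8e8f13f474689fa3a2c4fd1c1227e8d9113f46c489fa36144fd1a2227e8d0913f468389fa322c4fd191227e8c1113f460589fa30244fd180a27e8b9113f45c589fa2e244fd170a27e8b8313f458889fa2c244fd141627e899113f44c689fa261c4fd130a27e890913f440489fa1e444fd0f1627e870f13f438689fa1c244fd0e0e27e870513f434789fa1a344fd0b1227e850f13f428489fa141c4fd091e27e848d13f420589fa10244fd080627e838f13f41c689fa0e244fd070e27e838513f414689fa062c4fd031227e810f13f408689fa04244fd020e27e810513f4081)))))) (BT.node (nat_lit 700) (BT.node (nat_lit 698) (BT.node (nat_lit 697) (BT.leaf (Bx.mk (nat_lit 0x89fbbc444fdde1a27eee8f13f774689fbb8444fddc1e27eee0913f770389fbb8144fddc0627eed8b13f76c489fbb60c4fdda1627eed0913f764889fbb23c4fdd91627eec0f13f760689fbb00c4fdd61e27eeb0d13f758589fbac144fdd60627eea8f13f754689fbaa2c4fdd31627ee98913f74c189fba4444fdd21e27ee90913f748289fba23c4fdd11a27ee88b13f740589fba0244fdcf1e27ee78d13f73c589fb9c2c4fdce1227ee70713f738289fb9a3c4fdcd1a27ee68b13f730789fb98344fdcb1e27ee58d13f72c389fb94244fdc91e27ee48b13f720889fb903c4fdc80627ee38913f718489fb8a244fdc41627ee18b13f708589fb823c4fdc01e27ee00d13f700589fb7e2c4fdbe2227edf0f13f6f8689fb7c2c4fdbd1e27ede8d13f6f0889fb782c4fdbc0e27edd8b13f6ec489fb761c4fdbb0627edd0b13f6e8489fb722c4fdb91227edc8313f6e0689fb6e3c4fdb71a27edb0d13f6d8289fb6a444fdb51627eda8913f6d4289fb683c4fdb41a27eda0713f6d0189fb66444fdb31e27ed98d13f6c4589fb62244fdaf1627ed71113f6b8589fb5c244fdae0e27ed70513f6b4789fb5a344fdad0e27ed68513f6b4189fb583c4fdac1a27ed60b13f6ac489fb543c4fdaa1a27ed48b13f6a4489fb521c4fda81e27ed40d13f6a0389fb50144fda71e27ed38713f698489fb4c1c4fda60627ed28f13f694689fb4a244fda41227ed18913f688589fb44244fda12227ed08f13f684489fb421c4fda10a27ed00f13f680689fb402c4fd9f1227ecf0d13f678589fb3a244fd9c1e27ece0d13f670589fb36244fd990627ecc0f13f660689fb300c4fd971227ecb0913f654789fb2a344fd941e27eca0d13f650389fb28144fd940627ec98f13f64c689fb222c4fd911227ec80d13f640489fb201c4fd8f1a27ec70d13f638189fb1a2c4fd8d1227ec68713f630489fb16444fd8b1e27ec58913f62c289fb142c4fd892227ec48d13f624489fb121c4fd881e27ec40d13f620489fb101c4fd880a27ec38f13f61c689fb0c2c4fd861227ec30313f614789fb0a344fd850e27ec28513f610789fb08344fd831e27ec18d13f60c589fb023c4fd811a27ec08b13f5fc689fafe2c4fd7d1e27ebe8d13f5f0889faf83c4fd7c1a27ebe0913f5f0389faf8144fd7b1227ebd0f13f5e8689faf42c4fd771227ebb0f13f5d8689faec2c4fd751227eba0f13f5d0689fae82c4fd731227eb90b13f5c8189fae22c4fd702227eb80b13f5c0489fae0144fd700627eb78b13f5b8589fada444fd6d1e27eb68d13f5b44))) (BT.leaf (Bx.mk (nat_lit 0x89fc943c4fe491227f238913f914489fc8a0c4fe421627f210913f904789fc822c4fe401e27f200d13f8fc789fc7e344fe3f1627f1f0913f8f0789fc78344fe3c0a27f1e0313f8ec789fc743c4fe3a1a27f1d0b13f8e4489fc703c4fe381a27f1c0b13f8dc589fc6e244fe361627f1b0913f8d4589fc6a244fe350e27f1a8513f8d4189fc68444fe341e27f1a0d13f8d0589fc68144fe332227f198913f8cc389fc642c4fe310e27f180b13f8c0489fc600c4fe2f1627f178913f8b8589fc5c244fe2d1a27f168913f8b0589fc58244fe2b0e27f158513f8a8589fc54244fe2a0a27f149113f8a4789fc52244fe290e27f148513f8a0789fc50344fe280627f139113f89c589fc4e244fe270e27f138313f898789fc4c344fe261227f130713f898289fc4a3c4fe241227f119113f88c789fc461c4fe230a27f110913f884589fc420c4fe201227f0f8913f878589fc3a3c4fe1d1227f0e8713f874289fc382c4fe1b2227f0d8b13f86c489fc361c4fe1b0a27f0d8313f868589fc323c4fe191a27f0c8b13f864289fc30444fe181627f0c0913f85c489fc2e0c4fe161e27f0b0d13f858589fc2a2c4fe151227f0a0b13f850489fc280c4fe131e27f098d13f848789fc24344fe112227f088913f844289fc220c4fe101227f080713f83c489fc1e1c4fe0f0a27f070f13f838689fc1a3c4fe0d1627f060b13f830489fc162c4fe0b1227f050f13f828689fc142c4fe091227f040b13f820489fc0e3c4fe071a27f031113f818489fc0c0c4fe052227f028913f810589fc08244fe031227f018313f808889fc042c4fe021227f009113f804189fc00444fe001227eff9113f7fc689fbfe244fdfe1627eff0913f7f4589fbfa0c4fdfc1e27efd8f13f7ec689fbf62c4fdfa2227efd0913f7e8389fbf22c4fdf91227efc0913f7e0289fbee444fdf71627efb8913f7d8889fbec2c4fdf61227efb0513f7d8189fbea444fdf51e27efa8d13f7d4489fbe8444fdf41a27efa0913f7d0389fbe8144fdf31227ef91113f7c8489fbe41c4fdf20a27ef88b13f7c4489fbe03c4fdf01a27ef80b13f7bc789fbde344fdef1627ef71113f7b8589fbdc244fded2227ef68f13f7b4689fbda2c4fded0627ef61113f7b0789fbd8344fdec0627ef58f13f7ac689fbd62c4fdeb0627ef50b13f7a8489fbd23c4fde91227ef48713f7a4289fbd03c4fde81a27ef38913f794789fbca344fde51227ef28513f790789fbc82c4fde32227ef18913f78c289fbc60c4fde21a27ef09113f784589fbc2244fde00627eef8f13f77c6)))) (BT.node (nat_lit 699) (BT.leaf (Bx.mk (nat_lit 0x89fd5e2c4feae0627f569113fab4589fd5a244feac2227f560b13fab0489fd580c4feab1e27f558d13faa4689fd52244fea82227f540913faa0289fd4e444fea71e27f538913fa9c389fd4e144fea70627f530b13fa98489fd4a444fea51227f528313fa8c889fd443c4fea21a27f510b13fa88289fd440c4fea11627f508913fa80589fd40244fe9f2227f4f8f13fa78589fd3c0c4fe9d1e27f4e0f13fa70189fd363c4fe9b1a27f4d8b13fa64489fd30444fe981627f4c0913fa5c589fd2e244fe961a27f4b0913fa58189fd2a244fe950627f4a0f13fa50689fd282c4fe931e27f498713fa4c289fd260c4fe921627f490913fa48189fd22244fe910627f480913fa3c889fd1e3c4fe8f1627f468b13fa34489fd1a0c4fe8c2227f460913fa2c789fd16344fe8a2227f450913fa24589fd12244fe881627f440913fa1c689fd0c2c4fe861227f429113fa14789fd0a344fe850e27f420f13fa10589fd063c4fe831a27f418b13fa0c289fd060c4fe822227f410913fa08189fd022c4fe811227f408713fa00589fd00244fe7f1627f3f8913f9f8689fcfa2c4fe7d1227f3e0913f9ec889fcf63c4fe7b1a27f3d8713f9e8589fcf4244fe7a0e27f3c8913f9e4289fcf03c4fe781a27f3b8b13f9dc489fcec344fe760e27f3a8f13f9d4689fcea1c4fe750627f3a0b13f9d0489fce81c4fe740a27f398b13f9cc389fce6144fe721227f390713f9c8189fce2444fe711e27f388d13f9c4489fce21c4fe710a27f388313f9c0489fcde3c4fe6f1a27f378b13f9b8789fcdc344fe6e1627f368913f9b0589fcd8244fe6b2227f358f13f9a8889fcd4244fe6a0627f348d13f9a4489fcd2144fe690627f341113f9a0489fcd00c4fe672227f338913f998789fccc344fe660e27f330513f994589fcca244fe641627f320913f98c889fcc63c4fe631a27f318b13f98c289fcc60c4fe622227f310f13f988689fcc42c4fe620a27f310313f984889fcc22c4fe611227f308313f980889fcc02c4fe601227f2f9113f97c789fcbe344fe5f0e27f2f8513f978489fcbc1c4fe5e0a27f2f0313f974589fcba244fe5c1e27f2e0d13f970589fcb62c4fe5b1227f2d8713f96c289fcb60c4fe5a1e27f2d0d13f968289fcb22c4fe590627f2c1113f960589fcb0244fe580627f2b9113f95c589fcae244fe570627f2b0f13f958689fcac0c4fe552227f2a8f13f950889fca82c4fe541227f298b13f94c489fca60c4fe521e27f290d13f948189fca22c4fe511227f288313f940589fca0244fe4f2227f278313f92c5))) (BT.leaf (Bx.mk (nat_lit 0x89fe3c0c4ff1c2227f8e0b13fc70489fe380c4ff1b1e27f8d8d13fc6c189fe34444ff1a1a27f8c0b13fc60489fe2e2c4ff171227f8b8313fc58789fe2c344ff151e27f8a8d13fc54389fe2a144ff150627f8a0913fc4c489fe242c4ff121227f888b13fc44489fe20244ff0f2227f878913fc3c189fe1c444ff0e1227f869113fc34789fe1a344ff0d1227f861113fc30689fe18244ff0b1e27f858d13fc2c389fe16144ff0b0627f850b13fc28389fe123c4ff091227f848713fc24289fe103c4ff081227f840713fc20289fe0e3c4ff071a27f830f13fc18689fe0c2c4ff051a27f820f13fc10689fe082c4ff031227f811113fc08589fe04244ff020627f808f13fc04689fe020c4ff002227f800f13fc00489fdfe444feff1a27f7f8913fbf8489fdfa2c4fefd1227f7e8713fbf4289fdf82c4fefc1227f7e0713fbf0289fdf43c4fef91e27f7c8d13fbe4589fdf0244fef71e27f7b8d13fbdc589fdec244fef41227f798f13fbcc389fde43c4fef21a27f790b13fbc4889fde2344fef10e27f788513fbc0589fde0244feef1627f778913fbb8689fddc244feee0627f768d13fbb4589fdda0c4feec1227f758b13fbac489fdd4444feea1227f748b13fba4489fdd0444fee81e27f740b13fb9c589fdce244fee61227f728913fb90489fdc6244fee21e27f710b13fb84489fdc0444fee01a27f700913fb7c789fdbe344fedf0e27f6e8f13fb74689fdba2c4fedd0e27f6e0b13fb70489fdb6444feda1627f6d0313fb64189fdb0344fed80627f6b1113fb58789fdac244fed60e27f6b0513fb54789fdaa344fed51627f6a8513fb50789fda8344fed41627f6a0513fb4c589fda6244fed21a27f688d13fb40589fda0244fed00e27f678f13fb3c489fd9e1c4fecf0a27f671113fb38589fd9c244fecd2227f668b13fb34489fd983c4fecc1a27f659113fb2c489fd96144fecb0627f650f13fb28689fd942c4fec91627f648913fb20589fd90244fec80a27f638d13fb1c489fd8e144fec61e27f630b13fb18389fd8c144fec60627f628f13fb14489fd8a144fec41e27f620d13fb10589fd881c4fec40a27f618b13fb0c489fd843c4fec21a27f610b13fb04789fd82344fec11627f608913fb00589fd80244febf2227f5f8b13fafc489fd7e144febf0627f5f1113faf8489fd7a444febd1227f5d8913fae8789fd740c4feb92227f5c8913fadc589fd6e244feb61227f5b0313fad4889fd6a244feb50627f5a1113fad0689fd68244feb40627f598913fac8489fd623c4feb01227f579113fabc7))))) (BT.node (nat_lit 702) (BT.node (nat_lit 701) (BT.leaf (Bx.mk (nat_lit 0x89ff0a444ff851227fc20f13fe10689ff081c4ff840a27fc18913fe08589ff040c4ff812227fc08f13fe04689ff022c4ff810e27fc08513fe04189ff003c4ff801a27fc00b13fdfc489fefc3c4ff7e1a27fbf0b13fdf8389fefc144ff7d1627fbe8913fdec889fef6244ff7a2227fbd0913fde8189fef22c4ff791227fbc0f13fde0489fef01c4ff772227fbb8f13fddc689feee244ff770e27fbb8513fdd8789feec344ff761627fba9113fdd4789feea344ff751627fba0b13fdd0489fee6244ff721e27fb88f13fdc4689fee22c4ff701e27fb80d13fdc0589fedc444ff6e1227fb60f13fdb0689fed82c4ff6b1227fb50313fda4889fed2244ff681e27fb40d13fda0589fece2c4ff671227fb31113fd94889feca244ff650627fb20b13fd8c889fec6244ff621e27fb10d13fd88589fec22c4ff601627faf8b13fd7c489febe0c4ff5e1227faf0713fd78289febc0c4ff5d1627fae8913fd74289feb8344ff5c0e27fad1113fd68389feb2244ff590e27fac1113fd60589feb01c4ff580a27fab9113fd5c589feae244ff570e27fab8513fd5c189feac2c4ff551e27faa8d13fd54489feaa1c4ff550a27faa0d13fd50589fea6444ff531a27fa90f13fd48689fea4244ff520e27fa90513fd48189fea22c4ff511227fa88513fd40789fea0344ff4f1627fa78913fd3c389fe9e0c4ff4e1627fa70913fd34889fe9a3c4ff4d1227fa68513fd34189fe98444ff4c1227fa60713fd2c789fe94444ff4a1627fa48f13fd24689fe920c4ff482227fa40f13fd1c689fe8e244ff461e27fa30d13fd18589fe8a444ff451a27fa28913fd14389fe8a144ff441a27fa20913fd10389fe86444ff431227fa18513fd0c189fe842c4ff421227fa10513fd04889fe822c4ff411227fa08713fd04189fe803c4ff401a27fa00913fd00389fe80144ff3f1e27f9f8d13fcfc489fe7e1c4ff3f0a27f9f0913fcf4489fe783c4ff3c1a27f9e0b13fcf0289fe762c4ff391227f9c0913fce0289fe6e244ff370627f9b0b13fcd8189fe6a3c4ff341e27f9a0d13fcd0589fe680c4ff331627f998913fcc8889fe623c4ff311a27f988b13fcbc889fe5e2c4ff2f1227f978313fcb8889fe5c2c4ff2e1227f968f13fcb4689fe583c4ff2c1227f958d13fcac589fe56244ff2a1627f950913fca8189fe52244ff271e27f938d13fc9c589fe4c3c4ff261a27f930313fc94589fe48244ff240a27f919113fc8c589fe46244ff230a27f918313fc88889fe443c4ff221a27f910b13fc84889fe42244ff202227f900913fc7c4))) (BT.leaf (Bx.mk (nat_lit 0x89ffda0c4ffec1a27ff60913ffac589ffd6244ffea1227ff48913ffa0889ffd0244ffe71e27ff38d13ff9c589ffcc444ffe61227ff29113ff94489ffca0c4ffe41e27ff20d13ff90589ffc6244ffe21e27ff10d13ff88589ffc2244ffe01627ff00913ff7c889ffbe244ffde1227fee8b13ff74189ffb8444ffdc1e27fee0d13ff70589ffb8144ffdc0627fed1113ff68789ffb4344ffda1627fed0713ff68289ffb40c4ffd82227feb8f13ff5c689ffae0c4ffd62227feb0313ff54789ffaa0c4ffd41a27fe98d13ff4c589ffa61c4ffd21627fe90913ff44589ffa2244ffd01e27fe80913ff3c789ff9e2c4ffcf1227fe70b13ff38489ff9c144ffcd1627fe68913ff34289ff983c4ffcc1a27fe60913ff30389ff962c4ffcb1227fe50b13ff24789ff90244ffc71227fe31113ff18789ff8c344ffc61627fe28d13ff14489ff882c4ffc41227fe18913ff08689ff842c4ffc11627fe08913ff00489ff80144ffc00627fdf8b13fefc489ff7e144ffbf0627fdf0f13fef8589ff7c0c4ffbd1227fde1113fef0789ff78344ffbc1627fde0313feec789ff762c4ffb91227fdc0b13fee0489ff701c4ffb71627fdb8913fed8589ff6c244ffb60e27fdb0313fed4889ff6a2c4ffb51227fda8513fed4189ff68444ffb41e27fda0513fecc689ff662c4ffb30627fd91113fec8789ff64344ffb21627fd88f13fec0889ff601c4ffb00627fd78913feb8589ff5c244ffad1227fd60913feb0189ff563c4ffab1a27fd58713feac289ff560c4ffaa2227fd50f13fea8489ff540c4ffa92227fd48f13fea4589ff520c4ffa81a27fd40913fe9c889ff4e3c4ffa71a27fd38913fe9c389ff4e144ffa61627fd30913fe98389ff4c144ffa51627fd28913fe94189ff48344ffa41627fd20913fe8c789ff462c4ffa31227fd10f13fe88689ff44244ffa20e27fd10513fe84789ff42344ffa01627fd00913fe80289ff3e3c4ff9f1a27fcf8913fe7c189ff3c2c4ff9e1227fcf0513fe74489ff3a144ff9d0627fce0f13fe70689ff38244ff9c0a27fcd8b13fe6c489ff361c4ff9b0a27fcd8313fe68789ff34344ff981627fcc0913fe5c889ff2e344ff971227fcb8313fe58889ff2c3c4ff961a27fcb0913fe58389ff2c144ff960627fca8913fe50589ff280c4ff931e27fc98d13fe4c189ff24444ff921627fc90913fe44589ff220c4ff8f1e27fc78d13fe3c489ff1e1c4ff8f0a27fc70f13fe38689ff1c2c4ff8d1227fc60b13fe2c489ff160c4ff8a1e27fc50d13fe24789ff12344ff890a27fc40913fe1c4)))) (BT.node (nat_lit 703) (BT.leaf (Bx.mk (nat_lit 0x8a009c2c5004e12280269114013478a009a345004d12280260f14013068a0098245004c0e280260514012c58a0096245004b0e280258514012c18a00943c5004a1a280250914012838a0094145004916280248914012058a0090245004722280238f14011c68a008e1c5004622280230f14011868a008c24500460e280230514011478a008a34500441a280218f14010c68a008624500430e280218514010888a0084245004122280208914010088a008034500400e280200514010018a007e3c5003f122801f871400f878a007c345003d1e2801e8d1400f458a0076445003b122801d851400e888a00742450039222801c891400e418a00704450038162801c091400dc88a006e2450037062801b091400d478a006a3450035162801a0f1400d068a00681c500340a2801a031400cc48a0064245002f1e280178d1400bc58a005c445002e1628017091400b828a005a445002d1628016891400b428a0058445002c1628016051400b018a00562c5002b12280148f1400a468a00522c5002822280140f1400a068a00502c5002806280138b14009858a004c245002522280128914009438a004a0c500241e280120b14008c48a00443c500211e280108314008088a00402c5002012280100314007c78a003e245001f0e2800f8514007878a003c345001e162800e0b14007048a00381c5001c0a2800e0314006c58a0036245001b0e2800d8514006c18a0034245001a062800c8f14006468a003044500181e2800c0314005c18a002c4450016122800b0714005488a002a3c50015122800a8714005428a002a0c50014162800a0914005038a00262c5001312280098714004c18a00242c5001212280090314004458a0022245001106280080f14004068a00202c5000f1e280078d14003c58a001c3c5000e1a280070b14003488a001a245000c1e280060914003038a00180c5000b22280058714002888a0014345000a12280048b14002448a0010445000816280038b14001c48a000c2c5000612280028f14001468a000a24500050e280028514001078a0008345000416280019114000c48a0004445000212280008913fffc889fffe244fffe2227fff0913fff8189fffa3c4fffd1a27ffe8313fff0889fff8244fffb2227ffd8f13ffec489fff4444fffa1627ffd0913ffe4889fff2244fff81e27ffc0d13ffe0589ffee1c4fff61627ffb0913ffd4889ffea244fff41e27ffa0d13ffd0289ffe80c4fff32227ff98913ffc8589ffe4244fff11627ff88913ffbc489ffdc344ffed2227ff68f13ffb45))) (BT.leaf (Bx.mk (nat_lit 0x8a017214500b8222805c0f1402e068a01701c500b80a2805b8f1402dc58a016c3c500b61a2805b0b1402d458a016a24500b41e2805a0d1402d058a01643c500b21a280590b1402c818a01623c500b11a28058091402bc78a015e34500af1628057091402ac78a015634500ab16280548b1402a448a015214500a906280540f1402a068a01502c500a71e280538d14029858a014a2c500a512280528314029058a014824500a316280518914028478a014234500a10e280508314028088a01403c5009f162804f8914027818a01381c5009c0a2804e0314026c88a01363c5009b1a2804d8714026878a013434500991e2804c8d14026438a01320c50098162804b9114025c78a012e3450096162804a8f14025468a012a2c500941e2804a0d14025038a0126245009122280488f14024468a012224500910e280488514024088a01203c500901a280480914024038a0120145008f22280478b14023c48a011c3c5008e16280469114023468a011a245008d0e280460f14023068a0116445008b1e280458d14022c18a0114445008a1e280450d14022848a01140c5008922280448f14022468a01122c5008912280448314022078a0110345008812280440514021c58a010e24500861e280430d14021048a010644500831a280418914020c38a010614500821a280410b14020448a01020c500801228040031401fc78a00fe345007e222803f031401f488a00fa245007c162803d111401e858a00f4245007a062803b8f1401d848a00ea3c500751a2803a8b1401d078a00e8345007416280398f1401cc68a00e62c500730e280388f1401c468a00e22c5007012280378d1401b858a00dc245006e0a28037031401b478a00da345006d0a280360f1401b068a00d82c5006b22280358f1401ac38a00d6145006a1e280350d1401a858a00d22c5006912280339114019c58a00ce245006622280330b14019818a00ca3c500651a280328314019088a00c83c5006412280319114018c58a00c43c500621a280310b14018478a00c234500610e280308514018088a00c03c500601a280300b14017c78a00be345005f162802f0d14017838a00ba445005d162802e0f14017068a00b8145005c062802d9114016c58a00b6245005a122802c8914016058a00b01c50057222802b8f14015c68a00ae24500570e2802b8514015848a00aa24500550e2802a8314015078a00a834500540e2802a0514015018a00a6445005312280290b14014848a00a2245005022280280b14014048a009e445004f1228027831401388))))))))) (BT.node (nat_lit 736) (BT.node (nat_lit 720) (BT.node (nat_lit 712) (BT.node (nat_lit 708) (BT.node (nat_lit 706) (BT.node (nat_lit 705) (BT.leaf (Bx.mk (nat_lit 0x8a023e0c5011e122808e8b14047078a0238345011c162808d8f14046c68a02361c50118122808b8b14045c48a022c4450116162808b0314045458a022a2450114162808a0314044c88a02263c501131a280898914044c38a022614501121e280890d14044858a02223c501111a280888b14044078a0220345011016280878f14043c68a021e2c5010e16280870914043488a021a3c5010d12280868714043428a02182c5010c12280859114042c58a0216245010b0e280858314042858a021424501091e280848d14042458a02102c5010812280839114041c78a020e345010716280831114041878a020c24501060a280828f14041468a020a2c5010422280820f14041068a020824501040e280820514040c78a02062c5010306280810b14040848a02022c5010112280800b14040048a01fe2c500ff122807f0f1403f868a01fc2c500fd1e2807e8d1403f438a01f63c500fb1a2807d091403e048a01ee2c500f61e2807b0d1403d848a01ec1c500f60a2807a8d1403d048a01e62c500f312280790f1403c488a01e23c500f11a28078851403c058a01de44500ef1228077851403b858a01da44500ed1628076891403b438a01da0c500ec2228076091403b018a01d644500eb1e280758d1403ac48a01d43c500ea1a280750b1403a478a01d03c500e81a280738f14039c68a01ce2c500e616280730914039818a01ca2c500e512280720f14039068a01c824500e40e280720514038c68a01c43c500e21a280710914038838a01c414500e206280708f14038458a01c03c500df122806f8714037c18a01bc2c500de122806f0714037818a01ba44500dd1e2806e8914037428a01ba0c500dc222806e0d14037048a01b81c500db1e2806d8d14036c18a01b444500da1e2806c9114036468a01b02c500d7162806b1114035878a01ac34500d6122806b0714035828a01aa44500d4162806a0914035038a01a62c500d30e280690f14034868a01a424500d20a280688f14034468a01a22c500d10e280680f14034068a01a02c500ce1e280668914033078a01982c500cb16280650914032458a019044500c81e280640d14032048a01901c500c80a280638f14031c68a018e2c500c512280618f14030c68a01862c500c21e280610d14030858a01823c500c11a280608b14030078a018034500c012280600714030028a01800c500bf162805f891402f858a017c24500be062805e8f1402f468a017a2c500bc1e2805e091402f028a01763c500bb1a2805d891402ec38a017614500ba1a2805c8b1402e44))) (BT.leaf (Bx.mk (nat_lit 0x8a031414501891e280c48d14062448a03121c501890a280c40f14062068a03101c501871e280c38d14061858a030c145018516280c28914061428a03083c501841a280c20714061028a03080c501831e280c18d14060c58a03043c501821a280c10b14060448a03003c501801a280c00b1405fc48a02fc3c5017e1a280be911405f448a02fa1c5017d0a280be111405f058a02f8245017c0e280bd911405ec58a02f6245017b0a280bd831405e858a02f4245017a06280bc8f1405e468a02f22c5017816280bc091405dc58a02ee245017616280ba8f1405d468a02e83c501741a280ba091405d038a02e814501731e280b98d1405cc38a02e22c5016f1e280b78d1405bc58a02dc245016d1e280b68d1405b458a02d83c5016c1a280b5911405ac78a02d6345016b12280b5871405ac28a02d43c5016a1a280b50b1405a448a02d03c501681a280b4091405a038a02ce3c501671a280b38b14059848a02ca245016506280b20b14058c78a02c634501630e280b18514058c18a02c42c5016212280b08b14058448a02c20c5016016280af8f14057c68a02be2c5015e16280af0914057458a02ba245015d06280ae0f14057068a02b62c5015a16280ac8b14056078a02b0345015816280ab8d14055c58a02ae0c5015616280aa8914055058a02a644501531e280a98d14054c48a02a61c501530a280a90f14054868a02a42c5015112280a80b14054048a029e2c5014e22280a70f14053868a029c245014e0e280a70514053468a029a2c5014c16280a60914052c58a0296245014b06280a50f14052868a02922c501481e280a40d14052018a028e2c5014706280a31114051878a028c345014612280a30714051828a02883c5014316280a10b14050848a028244501411e280a08d14050448a02821c501410a280a01114050068a02802c501400a2809f8f1404fc68a027e0c5013e1a2809f091404f838a027c145013d1e2809e8d1404f458a02782c5013c122809d8f1404ec68a02741c5013a0a2809c8b1404e448a02702c50138122809b8f1404dc58a026c3c50136162809a891404d078a02683450134122809a051404cc78a02643c501321a28098891404bc78a025e345012f1628097091404b478a025a345012b1e280958d1404a878a0254345012a16280948f1404a468a02503c501281a28094091404a038a0250145012806280930914049458a024a245012506280921114049048a02480c501231e280918d14048c18a0244245012122280908b14048448a02420c5011f1e2808f8d14047c5)))) (BT.node (nat_lit 707) (BT.leaf (Bx.mk (nat_lit 0x8b40e01c5a0700a2d0370f1681b868b40da2c5a06c162d0358f1681ac68b40d6145a0681e2d0340d1681a058b40ce2c5a067122d0330b16819848b40ca3c5a0611a2d02e9116816858b40ae2c5a0561a2d02b0716815458b40a8245a052162d0290316814468b409e0c5a04d122d0258f16812c68b40960c5a04a162d0248f16812468b4092245a0490a2d0230316810c88b4084245a041122d01f091680f448b40782c5a036162d019891680bc78b405e345a02d222d0160b1680a048b404e345a027162d0128916808078b4040345a01f162d00e0f16807058b4030445a0180e280ed8914076878a03b434501da16280ec8914076068a03b02c501d722280eb8f14075c48a03ae1c501d70a280eb0914075488a03aa3c501d51a280ea8914075438a03aa14501d41e280ea0d14075058a03a42c501d212280e90514074468a03a22c501d016280e70f14073868a039c0c501cd22280e68f14073468a039a1c501cd0a280e60f14073058a039644501cb16280e58914072c38a039614501cb06280e48f14072468a03921c501c90a280e40d14072058a038e3c501c71a280e30f14071868a038c2c501c51e280e28d14071458a03862c501c312280e1091406fc48a037c24501bd1a280de8b1406f058a037824501bc0e280dd8b1406ec48a03761c501ba1e280dd0d1406e858a03723c501b91a280dc0f1406e068a037024501b80e280dc051406dc88a036e3c501b71a280db8b1406dc38a036e14501b616280db091406d458a03683c501b41a280da091406d038a03662c501b30e280d9851406c878a036434501b112280d8851406c088a036024501b006280d7911406bc58a035e24501ae22280d7091406b448a035844501ac16280d6091406ac78a035634501aa1e280d50d1406a078a035034501a806280d39114069c68a034e24501a70e280d38514069878a034c34501a51a280d18f14068c68a03462c501a306280d11114068878a034434501a216280d10714068478a0340245019f1e280cf8d14067c38a033c2c5019d1e280ce8d14067448a033a1c5019d0a280ce0b14066c58a0334445019a16280cd0514066818a033244501991e280cc8514066058a032e245019616280ca9114065478a032a345019512280ca8714065428a03283c5019316280c98914064c28a03260c5019216280c90914064828a03240c501911e280c88d14064448a03221c501910a280c78b14063c48a031a3c5018d16280c60b14063048a0318145018b1e280c58d14062c38a0316145018b06280c50b1406284))) (BT.leaf (Bx.mk (nat_lit 0x8b44c0445a260162d1300316896458b44ac2c5a2551e2d12a8d16895438b44aa145a254162d1250f16891c48b448c2c5a244062d121091688fc48b447a2c5a23c162d11e091688e858b4472345a2390e2d11c851688dc18b445c3c5a22e1a2d117071688a058b444c2c5a2211a2d10f0916886c88b44363c5a21b1a2d10a8316883c78b441c3c5a20e1a2d1068f16883058b4412245a204162d0fa8b1687c858b43e20c5a1f01e2d0f80d1687c058b43d60c5a1e9162d0f48316879c58b43ce0c5a1e30e2d0f11116877878b43bc2c5a1de062d0ee0b16876868b43a42c5a1d11e2d0e88d16874438b43a2145a1cf162d0e70f16873448b4396245a1c8162d0e40916871878b438c345a1c3122d0e10b16870078b437e445a1be162d0dd8b1686e078b4370345a1b8162d0db0d1686d448b435a245a1a81e2d0d4091686a038b433e3c5a19f1a2d0cc8f16863888b431c345a188162d0c20f16861068b42fe245a17a1a2d0bd0b1685e048b42e43c5a1721a2d0b9031685b468b42da2c5a16d062d0b58916859048b42c03c5a15f1a2d0af0916857058b42b2245a156222d0ab0716855448b42a42c5a1501e2d0a80d16854018b429a245a148222d0a40916851c78b428e345a1421e2d0a10d16850468b427c3c5a13b1e2d09d8d1684e858b426c245a134162d0990f1684bc78b425a2c5a129162d0938b16849818b4244245a121122d0900d16847448b42343c5a11a1a2d08d0b16845868b422c1c5a1160a2d0898b16844848b421e2c5a10d1e2d0868d16843058b4216245a10a1e2d0848d16842078b42062c5a100162d07e8b1683ec48b41f42c5a0f9062d07c0f1683e068b41f01c5a0f80a2d07a8f1683d438b41e83c5a0f41a2d07a0b1683cc58b41e02c5a0ef162d0768f1683b078b41d6445a0eb1e2d0758d1683ac48b41d61c5a0e9162d0738b16838858b41c01c5a0d9222d0690b16834418b41a02c5a0cd122d0658f16832c68b4188245a0c21e2d0610d16830448b4180245a0bf1a2d05e851682f068b4176345a0ba122d05c8b1682e058b416e345a0b7162d05b831682d478b41562c5a0a61e2d0530716829078b41423c5a0a11a2d0500916827418b4138245a09b162d0491116824878b4124345a0920a2d0488b16821c78b41042c5a0811e2d0408d16820438b4102145a0801e2d0400d16820058b40fe445a07f1e2d03f8d1681fc48b40fe1c5a07d222d03e8f1681f468b40fa245a07d0e2d03e851681e048b40e8345a074122d03a071681d028b40e63c5a073162d0388b1681c06))))) (BT.node (nat_lit 710) (BT.node (nat_lit 709) (BT.leaf (Bx.mk (nat_lit 0x8b48c22c5a460162d22f8f16917818b48ba345a459162d22a8916915438b48aa145a4541e2d2280f16914068b48a02c5a44b0a2d2248316911c88b488e345a4470e2d2220b16910878b4884345a4411e2d21f8f1690fc68b487a345a43d162d21e091690ec78b4876345a43a1a2d21d0b1690d458b48682c5a42a122d215031690a058b4848345a4240e2d20f8916907448b4838245a419222d20c0b16905888b482c3c5a4161a2d20b0516905478b482a345a415162d20a0f16904c88b4824345a40f122d2048916902078b480c0c5a400122d1ff0b168ff848b47f23c5a3f71a2d1f591168fac68b47ce3c5a3e4162d1f18b168f8048b47ba3c5a3dc122d1ed09168f6448b479a3c5a3cd1a2d1e38b168f1848b47862c5a3c0162d1df8f168efc68b477e2c5a3be162d1de0f168eec78b4776345a3b9162d1dc83168ee058b476e3c5a3b6122d1da89168ed048b47662c5a3b11e2d1d709168ea868b474e3c5a39b122d1c90f168e4868b47242c5a390162d1c809168e2858b47120c5a381122d1c003168dfc88b46fe345a376122d1ba05168dcc58b46e43c5a372122d1b807168db448b46d22c5a3651e2d1b28d168d9058b46c4345a362162d1b103168d8448b46bc3c5a35e162d1ae89168d7088b46b8345a34d222d1a611168d1478b46883c5a3421e2d1a10d168d0858b46783c5a33c0a2d19d0d168ce458b466c2c5a3351a2d19711168cb868b465c145a32c1e2d1960d168cb028b4654345a32a162d19489168c9c68b46443c5a31b162d18c91168c5448b46283c5a30f162d18789168c2c58b460c3c5a306162d1820b168c0c38b46002c5a2f81a2d17991168bcc68b45de2c5a2ec1e2d1760d168ba048b45ce2c5a2e2222d17109168b7c78b45be1c5a2d9162d16c0f168b6068b45b0145a2d71e2d16a09168b4858b45a2145a2cb122d16489168b2078b458e2c5a2c6162d1620b168b0c78b45823c5a2c11a2d15f8b168afc18b457a245a2b81e2d15a8b168aa868b45542c5a2a6162d15309168a9488b454a345a29f1a2d14f8b168a7448b45383c5a29c1a2d14d89168a6448b45303c5a2961a2d1498f168a4c68b45260c5a2921e2d1490b168a4478b4522345a291162d1460f168a3068b45182c5a28c062d14589168a1c58b450c245a2821e2d1410d168a0478b4502345a280162d13f8f1689fc68b44fe2c5a27f062d13f0b1689f458b44fa0c5a27b122d13a0b1689cc58b44e4245a271222d1388f1689c468b44e21c5a26f162d1348716899878b44c8345a262162d130911689845))) (BT.leaf (Bx.mk (nat_lit 0x8b4cce3c5a667162d3330b16999478b4cca1c5a65e122d32e0316996c48b4cae245a656122d3290b16994058b4c92445a6491a2d3248716990458b4c82245a640222d3200f16990068b4c80245a6400e2d320051698f888b4c7c245a63e0e2d31f051698e858b4c6a2c5a632162d3178f1698bc68b4c582c5a62b122d3148f16989c18b4c44245a6201e2d3100716987078b4c38345a61c162d30c0b16985c18b4c2c345a615222d30a8b16985448b4c28445a614122d3058916982818b4c12445a608222d3040316981888b4c0c2c5a606122d3029116981478b4c042c5a600122d2fe091697e418b4bee445a5f71a2d2fb851697d888b4bec145a5f4122d2fa031697bc68b4bda245a5ed062d2f48916979058b4bbc3c5a5de1a2d2ee8d16976048b4bb01c5a5d61a2d2eb0b16975058b4ba80c5a5d3122d2e90916973c48b4b8c245a5bf122d2df0b1696ec58b4b722c5a5b8162d2db111696d868b4b6c1c5a5b4222d2da0d1696d048b4b600c5a5ae062d2d6911696b478b4b58445a5ab1e2d2d10916968058b4b3a2c5a59b122d2cc8316966088b4b30245a5980a2d2cb8316965078b4b223c5a5861e2d2c30b16961448b4b082c5a57f162d2be0f1695f068b4af82c5a57b1e2d2bd8b1695e478b4aea245a5741a2d2b88f1695c458b4ade245a56e1e2d2b7091695b828b4ada2c5a56c1e2d2b60d1695b058b4ad6345a56b162d2b28b16959058b4ac6245a562122d2ae1116956c88b4ab62c5a558122d2ab0b16955478b4aaa345a5550e2d2aa8516955078b4a980c5a54a122d2a20f16951068b4a882c5a5421e2d2a08916950048b4a7e245a53e1e2d29f0d1694f458b4a76245a538122d299891694bc78b4a54245a5220e2d2910516947878b4a3a245a51c162d28c8f16946468b4a320c5a518122d28b9116945c78b4a2e345a517122d28b8716945c28b4a182c5a508222d2840f16942068b4a101c5a5080a2d281891693e878b49f4245a4fa0e2d27d051693d048b49e60c5a4f0222d2738f16939c68b49cc2c5a4e3162d2700916937448b49b83c5a4dc162d26d0916935448b49a82c5a4d3222d2688b16933c78b499c245a4cd122d2660d16932c48b4994245a4c4162d2608d1692f848b496e3c5a4b71a2d25b8b1692dc18b496a3c5a4b5162d2588f1692c438b4954245a4a6162d2528b16928448b49402c5a497122d24b0916924448b49203c5a4901a2d2480b16923c48b49163c5a48a122d2440316920858b48f0245a4751a2d23a851691d058b48de445a46f1a2d235891691a04)))) (BT.node (nat_lit 711) (BT.leaf (Bx.mk (nat_lit 0x8b50ba245a85c122d42d0b16a16458b50b0445a8581e2d42c0d16a16038b50b0145a855162d4280b16a14048b50a00c5a84f0e2d4270d16a13468b50982c5a84c122d4248d16a12458b50902c5a848122d4231116a11818b508a445a845162d4221116a11078b5088345a843222d4218d16a10c58b507e2c5a83c1e2d41e0b16a0f018b50663c5a833122d4198516a0b478b50582c5a8261e2d4130b16a08478b5042345a821162d40d0b16a06438b5030245a8161a2d40b0b16a05018b5026245a8101a2d4080b16a03048b5010345a808162d4018d16a00c38b5002245a7ff1e2d3ff8d169ffc58b4ff2245a7f81a2d3fb0d169fd088b4fe2245a7ee0e2d3f691169fb478b4fda1c5a7ec162d3f50b169f6c48b4fb23c5a7d8122d3eb89169f3c78b4f9e345a7cf162d3e691169f1c58b4f7c245a7bc162d3dd8b169ed078b4f68345a7b4162d3d80d169eb058b4f563c5a7ab1a2d3d48f169ea048b4f4e3c5a7a7122d3d385169e9458b4f48245a7a11e2d3d08d169e8458b4f420c5a7a0162d3ce8f169e7468b4f3a2c5a79b1e2d3cd8d169e6c58b4f281c5a792122d3c80b169e3c78b4f1e345a78e1e2d3c70d169e3848b4f1c1c5a78c162d3c50b169e2478b4f12345a7881e2d3c40d169e2048b4f101c5a781162d3be03169dd848b4eea3c5a7751a2d3b88f169dc058b4edc2c5a76d1e2d3b68d169db458b4ed8245a767162d3b209169d8888b4ec2445a761062d3af0f169d7868b4ebc2c5a75e062d3ae0b169d5458b4e9c2c5a74a122d3a409169cfc88b4e7e0c5a73e1a2d39d11169ce058b4e680c5a733222d3968f169c9c58b4e4a445a7250a2d38d0f169c6868b4e32245a717222d38b8f169c5888b4e1e2c5a70f062d38691169c1028b4e04445a7020e2d3800b169bfc58b4df8345a6fc062d37d89169be858b4df22c5a6f9122d37c11169be078b4df0345a6f8122d37b0f169bd818b4dea245a6f4162d37a09169bc888b4de4345a6f2122d37811169bc058b4de0245a6ef1a2d37785169ba858b4dd03c5a6e81a2d3740b169b9c48b4dcc2c5a6e5222d3728f169b9468b4dca1c5a6e50a2d3720d169b9058b4dc62c5a6e11e2d3708d169b8438b4dc2145a6dd1e2d36e8d169b7458b4db82c5a6d70e2d36a89169b5418b4d9e0c5a6ce222d36709169b3458b4d923c5a6bf122d35d09169ad458b4d64445a6b2122d3588f169ab478b4d58345a6ab122d35585169aa838b4d4e2c5a6a61a2d3528f169a8458b4d28345a688162d33d891699e868b4ce42c5a66f162d3360f1699a81))) (BT.leaf (Bx.mk (nat_lit 0x8b54a8345aa531a2d5298b16a94458b54a2245aa4f062d5250b16a90c48b54843c5aa3c1a2d51d8b16a8ec48b5474445aa3a1e2d51d0d16a8dc58b546c2c5aa35122d5178d16a8b888b545c3c5aa2e1a2d5170916a8b838b545c145aa27222d50e0916a86c78b5436345aa1b162d50c8b16a86418b542c0c5aa131a2d5098516a83c58b541e245aa0f062d5070f16a83848b541a3c5aa0d162d5041116a82078b5410245aa080e2d5040516a81c48b540a245aa01222d4ff8b16a7e848b53f22c5a9f9062d4fc1116a7e018b53ee345a9f50a2d4f98316a7c878b53e03c5a9f01a2d4f80716a7c028b53de245a9ee162d4f48b16a7a048b53cc245a9d21e2d4e90d16a74818b53a2245a9d0222d4e80f16a74068b53a0245a9d00a2d4e68916a73048b53943c5a9c7222d4e38716a71858b53882c5a9c4062d4de0b16a6ec58b536c345a9b6162d4d90916a67068b532e245a9970e2d4c90b16a64458b5320445a9901a2d4c00d16a60038b52ea345a974122d4b99116a5c858b52e0445a970162d4b68916a5ac58b52d42c5a965162d4b28916a57c78b52ba3c5a95c162d4ad8916a56c28b52b4345a95a162d4ac8716a56058b52ac245a951162d4a88316a53c88b5296445a94b162d4a51116a52858b52923c5a949062d4a41116a52078b5290245a947222d4a38d16a51c48b52822c5a93f162d49f0b16a4f458b5278145a93a122d49b0b16a4d058b5268245a926222d4920b16a47c78b523e2c5a91e122d48e0d16a46c78b52362c5a919162d48c0916a45c78b522e2c5a9161e2d48b0d16a45838b522c145a914162d48a0916a44878b5224345a912162d4888d16a43858b521c0c5a90d162d4860716a43028b52163c5a90a1e2d4850d16a42828b520a445a903162d4818316a40878b5204345a901162d4800316a3f888b51f6245a8f4162d4798916a3bc58b51dc2c5a8ed122d4760916a3ac48b51d42c5a8d90e2d46c0916a35c58b51a82c5a8d3162d4680b16a33c48b519a245a8cb162d4648f16a32438b518e3c5a8c7162d4620b16a31018b51862c5a8c2122d4610716a30828b51823c5a8c11a2d4608b16a30048b517e3c5a8bf1a2d45d8316a2e458b51642c5a8ac222d4560916a2a458b5150445a8a81a2d4530916a29458b5148445a8a3122d4508d16a27058b512c3c5a895122d4488f16a24468b5120245a88f1e2d4478b16a22448b51062c5a882222d4410d16a1f488b50fa345a8771a2d43b8b16a1d848b50e4245a8720a2d4378b16a1bc48b50ce3c5a8670a2d4310f16a1745)))))) (BT.node (nat_lit 716) (BT.node (nat_lit 714) (BT.node (nat_lit 713) (BT.leaf (Bx.mk (nat_lit 0x8b58f22c5ac78162d63b0716b1bc78b58dc245ac67162d6330b16b19048b58c4445ac621e2d6310d16b18848b58c41c5ac5f122d62f0d16b17018b58ae1c5ac56162d6290f16b14048b5898245ac49162d6238d16b11c28b588a445ac44162d6218916b0f038b586a245ac321e2d6190d16b0c838b5864145ac30122d6178d16b0b048b5856245ac28222d6130916b09468b584a2c5ac23162d60f0916b07468b5838245ac1a162d60c8916b05448b5826245ac121a2d6090b16b04048b581e2c5ac071a2d6038b16b01448b5808245abfd162d5fd0f16afe458b57ea3c5abf51a2d5fa0f16afd068b57e82c5abf3122d5f98716afc858b57e02c5abeb222d5f50f16af9c48b57c6445abdf162d5ef0b16af7488b57ba3c5abdd1a2d5ee8716af6048b57a83c5abcd1a2d5e68716af2848b57822c5abc0162d5df8b16aef878b577c345abba162d5dd0916aed848b5768245abb21e2d5d80516aeb878b575c345abaa122d5d18316ae8858b57422c5aba1062d5cf8b16ae7c18b5736245ab96122d5ca0b16ae4478b57220c5ab8f162d5c70b16ae2c58b5710245ab871e2d5c38d16ae1c58b5706145ab7b122d5bb0b16adc468b56e03c5ab6e062d5b68916ada448b56c82c5ab5f1a2d5ae8916ad5048b56a81c5ab540a2d5a98b16ad4858b56a2445ab511a2d5a88716ad4048b569c3c5ab4e1a2d5a58f16ad2c58b568c345ab46162d5a20b16ad0c88b56861c5ab430a2d5a10b16acfc58b567a2c5ab34222d5998d16acc488b565c3c5ab2e1a2d5958916ac9c48b564c245ab241e2d5920d16ac9058b563e245ab161e2d58b0d16ac5858b56263c5ab13162d5890f16ac4858b561c3c5ab0d122d5848b16ac2058b560c2c5ab051a2d5818f16ac0848b55f62c5aaf3162d5798916abb458b55d0245aae7162d5729116ab9448b55ca145aae41e2d5720b16ab8448b55ba345aada122d56b8916ab4448b55a03c5aad01a2d5669116ab3478b559a145aacc122d5658f16ab2c68b55943c5aaca0a2d5648b16ab2058b558e245aac2162d55f8716aafc28b5578345aaba1e2d55d0d16aae448b55703c5aab4162d5590b16aac848b55623c5aaaf1e2d5578d16aabc58b555a2c5aaac1e2d5560d16aaac58b55523c5aaa31e2d54f0b16aa7478b55382c5aa9a122d54c8f16aa6468b552a2c5aa95062d5489116aa1848b55003c5aa7c162d53a1116a9d028b54e2145aa70062d5378316a9b078b54d80c5aa67062d5310716a98448b54c21c5aa5a222d52d0916a96458b54ae1c5aa55122d52a1116a9507))) (BT.leaf (Bx.mk (nat_lit 0x8b5c503c5ae281a2d7120b16b88c88b5c44445ae200a2d70f8b16b87848b5c363c5ae1b1a2d70d8916b86c38b5c36145ae15122d7060916b82c18b5c0e2c5ae03162d7011116b7fc48b5be83c5adf41a2d6f88316b7c088b5be0345adeb1e2d6f50b16b78858b5bc2245addf1e2d6ef8516b76458b5bb02c5add6222d6eb0f16b75868b5bac245add5162d6ea0916b74858b5ba40c5add11e2d6e88516b74078b5ba02c5adcf1a2d6e78b16b73888b5b9c3c5adce0a2d6e60b16b72c78b5b96345adcb162d6e50b16b72848b5b92245adc90a2d6e40b16b71c58b5b8e245adc7062d6e30f16b71868b5b8c245adc60e2d6e30516b70878b5b802c5adbe1a2d6df0516b6f058b5b70345adb6122d6db0316b6d438b5b6a145adaf122d6d68b16b6b058b5b56245adaa122d6d30916b69458b5b46445ada31a2d6d18716b68458b5b3c245ad9c1e2d6ce0b16b66c48b5b34245ad991e2d6cc8b16b66078b5b2c3c5ad961a2d6cb0b16b65088b5b24345ad8f1e2d6c78d16b63848b5b16445ad87222d6c30b16b61488b5b0a1c5ad83222d6c18b16b5e868b5af42c5ad77062d6ba9116b5d448b5aea0c5ad740e2d6b91116b5c468b5ae22c5ad6f162d6b50b16b5a018b5ace245ad66162d6b30916b59448b5ac4245ad5e1e2d6af0d16b57818b5aba245ad56122d6a88916b53848b5a9a245ad491a2d6a48b16b52058b5a8e2c5ad46222d6a30f16b51868b5a8c1c5ad43122d6a10d16b4f058b5a78245ad39162d69b8b16b4d458b5a68245ad340e2d6998b16b4c848b5a5e2c5ad2e1a2d6948b16b4a018b5a4e0c5ad26222d6930316b49488b5a4a2c5ad24222d6920f16b48c88b5a463c5ad231a2d6918716b48c28b5a400c5ad1c1e2d68e0916b46c58b5a303c5ad181a2d68c0b16b45868b5a2a345ad14162d6898b16b44478b5a22345ad10122d6858b16b42458b5a0a2c5acfb222d67d8d16b3ec38b59f02c5acf4122d6789116b3c478b59e2345acf10e2d6788516b3ac58b59ca0c5ace3222d6718d16b38c48b59c61c5ace30a2d6708916b37878b59ba245acdc1e2d66d8916b36848b59ac245acd2062d6678b16b33878b599a2c5accb122d6618f16b30848b597c345acbd122d65d8f16b2ec68b5964445acb21a2d6590916b2c838b5964145acb01e2d6570916b2ac78b59562c5ac9d122d64c8916b25838b592a3c5ac95162d6498b16b23858b591c245ac8d1e2d6460b16b22818b59122c5ac88162d6439116b21c48b590e145ac86122d6428f16b21468b59063c5ac801a2d6400b16b1e47)))) (BT.node (nat_lit 715) (BT.leaf (Bx.mk (nat_lit 0x8b603c245b01d162d80e0b16c06448b60280c5b0121e2d8090b16c03858b6016445b008222d8039116c01478b60042c5b0011e2d8008d16c00058b5ffc3c5affd062d7fe0d16bff048b5ff6445affa0e2d7fc0f16bfe068b5fe8245aff2162d7f90316bfac48b5fce345afe41e2d7f20b16bf8478b5fc2145afda122d7ec8916bf6048b5f9e2c5afc71a2d7de8b16beec18b5f742c5afb9222d7dc8d16bee068b5f702c5afab162d7d48b16bea058b5f4a445afa50a2d7d21116be9038b5f3c245af9d122d7cd0316be6458b5f2a2c5af95122d7ca0b16be4c88b5f263c5af931a2d7c90d16be4858b5f22445af911a2d7c88716be4428b5f202c5af8f122d7c70f16be3868b5f142c5af8a062d7c40d16be1868b5f0c2c5af86062d7c20b16be0478b5f020c5af7d122d7bb8b16bdc878b5ee4345af720e2d7b78d16bdbc58b5ed2245af66162d7af8916bd5878b5eac345af54162d7a88f16bd4468b5e9c245af4d1a2d7a58b16bd2878b5e8c345af45162d7a28916bd0458b5e7e2c5af3e162d79e8b16bcf048b5e763c5af3b1a2d79d0d16bce468b5e722c5af32122d7989116bcc468b5e523c5af291a2d7948716bca058b5e463c5af231a2d7910b16bc7848b5e383c5af1b162d78a8b16bc5078b5e28345af140e2d78a0516bc4c78b5e26345af13162d7888f16bc4468b5e222c5af11062d7870b16bc3458b5e142c5af0a062d77d8d16bbe878b5de0345aee8162d7739116bb9c68b5da42c5aed2062d7640b16bb1848b5d8a2c5aec21a2d7600316bae458b5d68245aeb2162d7580b16bab828b5d580c5aeab122d7521116ba9058b5d402c5ae9f222d74f8d16ba7c38b5d3e145ae9c1e2d74e0716ba7028b5d362c5ae99162d74b8b16ba5878b5d2c345ae951a2d74a8b16ba5448b5d262c5ae92122d7490716ba3c58b5d1c0c5ae8d122d7461116ba3058b5d16445ae8b1a2d7458916ba2c38b5d16145ae8a162d7440f16ba1c48b5d0c245ae81122d7400d16ba0058b5cee445ae76222d73a9116b9d048b5ce62c5ae73062d7390b16b9c848b5ce40c5ae701e2d7380d16b9c058b5cde3c5ae6f1a2d7378b16b9b858b5cda1c5ae6b1e2d7358b16b9a848b5cd0245ae66162d7320f16b99068b5cc82c5ae63122d72f9116b97c58b5cbc345ae5c122d72c8316b96048b5cae445ae571e2d72b8d16b95c48b5cae1c5ae570a2d72a8916b94048b5c92245ae44122d7208b16b8f858b5c7a445ae3d0a2d71e0b16b8d428b5c660c5ae321e2d7190d16b8c848b5c62345ae31162d7168916b8a84))) (BT.leaf (Bx.mk (nat_lit 0x8b642a2c5b20f122d9070f16c83868b6418345b20b162d9038b16c7fc68b63fe2c5b1fa162d8fd0916c7e478b63f2345b1f9122d8fc8716c7e428b63ee3c5b1f7162d8fb0916c7c438b63e03c5b1f01a2d8f80b16c7bc68b63de2c5b1e81a2d8f40516c79c88b63ce245b1e70e2d8f38516c77058b63b40c5b1d61e2d8eb0d16c75478b63aa245b1ce162d8e70916c72058b638e2c5b1c6162d8e20316c70c28b63843c5b1c21a2d8e10b16c6f858b637a2c5b1bb1a2d8dd8b16c6e058b6366345b1b1222d8d88f16c6c468b6362245b1b10e2d8d88516c6c078b63602c5b1ae1e2d8d70d16c6a838b634e3c5b1a5162d8d10d16c68448b6336445b19b1a2d8cd8916c66078b6330345b198122d8cc0516c64448b6316245b188122d8c28916c61058b6304245b17f1e2d8bf0916c5f448b62d4245b165162d8b08916c57848b62ba3c5b1581a2d8ab0916c55488b62a82c5b151122d8a78916c53848b62962c5b148122d8a38b16c51c48b628a2c5b1401a2d8a00716c4fc78b627e345b13f162d89e8d16c4f078b6278345b13c162d89d8916c4b078b6242245b11e162d88e0916c46058b622e3c5b1171a2d88b0516c45458b62283c5b1141a2d8858f16c42478b620e3c5b1071a2d8798916c3c848b61de245b0e8122d86f8d16c37478b61b6445b0db1a2d86b0b16c34448b619c2c5b0ce122d8659116c32c68b6194345b0c31e2d8618b16c30458b617e0c5b0be0e2d85f0516c2f058b6176345b0bb0e2d85d8516c2e458b6172245b0b7162d85b0f16c2d868b61682c5b0b31a2d8598916c2c878b61642c5b0b1162d8578d16c2bc58b615c245b0ad122d8558316c29488b614a245b0a3162d8510916c28448b6140245b09f222d84e8916c27078b6132445b0990a2d84b0b16c25458b61260c5b08e1e2d8470d16c22c58b61140c5b089222d8440f16c22068b6108145b083162d8418316c20058b60fa445b07d122d83e0b16c1d458b60de2c5b06c162d8348b16c19c88b60ce1c5b063122d8300b16c17c48b60be0c5b05e1e2d82f0d16c17838b60bc145b05d162d82d8f16c16c68b60b62c5b05b062d82b8316c15848b60a8345b054122d82a0516c14828b6096445b04b062d8251116c12478b6092345b0481e2d8240b16c12048b608e445b0471e2d8229116c11478b608a345b044162d8210b16c10848b60840c5b041162d8208916c0fc48b607c2c5b03d1a2d81e8b16c0f058b6076245b03b062d81d0316c0e078b6070345b038162d8170f16c0b858b605a2c5b0290e2d8140716c0844))))) (BT.node (nat_lit 718) (BT.node (nat_lit 717) (BT.leaf (Bx.mk (nat_lit 0x8b68142c5b4091a2da048916d02428b680a345b404162da018b16cffc48b67fa2c5b3f9162d9fc0916cfdc68b67ee2c5b3f5122d9fa0916cfb058b67d2245b3e41a2d9f00f16cf7858b67ba245b3db122d9ec8b16cf5c78b67ae0c5b3d6162d9e78d16cf1c48b678c2c5b3c3162d9dd8d16cedc48b676c3c5b3b6162d9d98316cec848b67622c5b3b0222d9d80d16cec038b6760145b3ad162d9d68916ce9058b67383c5b39c1a2d9cd8916ce5458b671a2c5b38d062d9c60b16ce2888b67143c5b38a0a2d9c40b16ce1c58b670c445b3861e2d9c30d16ce1838b670c145b383122d9be8916cdf058b66f43c5b37a1a2d9bd0716cde828b66ec2c5b374122d9b90f16cdbc88b66dc2c5b36d122d9b58316cda858b66d40c5b369122d9b48716cd9c48b66c2345b359162d9ac8316cd5c78b66ac245b3521a2d9a70916cd3458b66880c5b343122d9a10916cd0418b667e0c5b33e122d99e8d16ccd468b666a1c5b3350a2d99a0f16ccd068b66662c5b32b1e2d9958d16ccac58b66543c5b329122d9938316cc9848b664a1c5b324162d9918b16cc8848b6642345b321162d9900916cc7c48b663a345b31c1a2d98c0916cc4458b6620445b30f222d9860d16cc2038b660a2c5b3041e2d9810f16cc0868b66002c5b2f6122d97a8d16cbcc68b65e2245b2f0122d9770b16cbb438b65d42c5b2e9122d9740f16cb9c58b65ce245b2e6162d96f0b16cb7468b65b22c5b2d81e2d96c0716cb6028b65ac3c5b2d61a2d96a8916cb4048b659a3c5b2cc122d9650b16cb2428b658a3c5b2c51a2d9628716cb1428b65860c5b2c2122d9609116cb0478b6582245b2bd122d95c0d16cadc58b656e245b2b6122d95a0916cac868b6564245b2af062d9570b16cab818b655a3c5b2ad1a2d9548f16ca9478b654a345b2a50e2d9528516ca8478b6542345b2a0122d94c0d16ca6058b652e3c5b295122d9480916ca3058b6516445b287062d9431116ca1878b650c345b286122d9430716ca1828b650a2c5b284162d9419116c9f468b64f6245b27b062d93d1116c9dc88b64ee3c5b276162d9390b16c9c048b64d0345b265122d9308916c96858b64b40c5b2591e2d92c8d16c96078b64b0345b258162d92b8916c95448b64a22c5b251122d9278d16c93458b64963c5b2451e2d9228d16c91438b64862c5b242162d9208f16c8e858b64702c5b234222d91a0d16c8d038b6468145b233162d9140f16c8a068b64500c5b2261e2d9130d16c89858b6440445b21d222d90e1116c87048b6434245b219122d90b9116c8588))) (BT.leaf (Bx.mk (nat_lit 0x8b6bbe445b5dc122daed8b16d74858b6ba2345b5d10e2dae80b16d73868b6b982c5b5ca162dae48f16d72048b6b8e0c5b5c6062dae28916d70c58b6b84145b5bb162dada0916d6cc68b6b602c5b5af1e2dad70516d6b018b6b560c5b5a91e2dad48d16d6a418b6b500c5b5a7062dad30716d69458b6b42245b5a0122dacf8f16d67858b6b380c5b59b1e2dacd8d16d66478b6b30345b5961e2dacb0d16d65448b6b2a0c5b593062dac90f16d64868b6b24145b5911e2dac88b16d64078b6b162c5b588062dac38f16d61c68b6b0e1c5b5870a2dac30f16d61868b6b0a245b57f162dabf0516d5f048b6af63c5b579122dab98916d5cc38b6ae6145b56f122dab60b16d5a018b6acc2c5b565122dab28716d59428b6ac82c5b562162dab08916d58088b6ac03c5b5601a2dab00916d57c78b6abc245b55b1e2daad8d16d56878b6ab4345b558162daaa9116d55468b6aaa245b5530a2daa40d16d52058b6a8c3c5b5461a2daa30b16d51068b6a882c5b542122da9f0b16d4f018b6a74245b536122da998916d4b458b6a58245b52b1e2da950916d4a078b6a502c5b526122da911116d48458b6a3a445b51c062da8d9116d46c78b6a34445b51a1a2da8c0916d46038b6a182c5b50b1e2da850b16d42448b6a0e245b500162da7d8716d3e858b69f22c5b4f7162da7a0f16d3d058b69e02c5b4e4162da6d8d16d36c58b69b4245b4d6162da6b0916d35058b69a8245b4ce122da660b16d32c88b69963c5b4cb1a2da658716d32c28b6990245b4c2162da5e8916d2ec58b6974445b4ba1a2da5d0716d2e478b69722c5b4b8162da5b8916d2d848b69643c5b4b21a2da590b16d2bc58b69582c5b4aa162da530b16d28c58b69442c5b4a1222da508916d28428b693e2c5b49f122da4c1116d26048b69300c5b497062da498b16d24058b691c245b48c122da438f16d21c68b69082c5b483162da410b16d20478b6902345b4810e2da3b0f16d1c068b68da2c5b46c1e2da360d16d1b038b68d22c5b4631a2da310b16d17c58b68b43c5b459222da2c8d16d14058b689c445b44e0a2da268d16d13058b6894245b447162da238916d10c88b6886245b442222da200d16d0f818b687a145b43c1e2da1e0d16d0ec78b6876345b43a1e2da1d0d16d0e858b686e245b436122da198b16d0c848b685c3c5b42e162da168916d0ac48b6852245b4281e2da140d16d0a058b684e245b4261a2da130b16d09448b6846245b41f122da0f0916d06c78b6836345b4161e2da0b0d16d05858b6820445b40d1a2da068b16d02c5)))) (BT.node (nat_lit 719) (BT.leaf (Bx.mk (nat_lit 0x8b6f98245b7ca162dbe28916df0078b6f800c5b7bf1e2dbdf8d16def858b6f74345b7b8062dbdb0f16ded868b6f6c2c5b7b41e2dbda0d16ded058b6f66445b7b3122dbd50b16dea448b6f483c5b7a41a2dbd20b16de8c58b6f42245b79f162dbcc8316de6088b6f30245b797222dbca8f16de5058b6f263c5b7931a2dbc78316de3838b6f1c145b78c222dbc60f16de3068b6f18245b78c0a2dbc40b16de1858b6f062c5b77e222dbbf0f16dde458b6eec2c5b770162dbb79116ddbc78b6ede345b76f122dbb78716ddbc28b6eda2c5b76a062dbb48b16dd9048b6ea82c5b7491a2dba28916dd1048b6e881c5b7440a2db9e0b16dcd458b6e5a1c5b728162db938316dc8058b6e400c5b71f162db8f0d16dc7478b6e3a245b71a122db8c8f16dc6468b6e320c5b716222db8b0f16dc5868b6e243c5b7121a2db890316dc4488b6e1e2c5b70f122db868516dc2c78b6e0e2c5b7051e2db821116dc1078b6dfc3c5b6fe0e2db7f0516dbf458b6df62c5b6fa062db7c8b16dbe418b6df0345b6f60a2db770f16dbb868b6dda2c5b6ed062db728316db8418b6db2445b6d91a2db6c8716db6428b6db0245b6d31a2db688b16db4088b6da0345b6d0122db680516db1468b6d88345b6c2122db608916db0438b6d82145b6c0122db5f8b16daf458b6d78145b6bb0a2db5c1116dae038b6d66345b6b1122db571116dab878b6d5c345b6ae0e2db570516daac88b6d56245b6ab062db550d16daa858b6d4e3c5b6a71a2db530f16da9868b6d4c145b6a3122db4a8916da4848b6d222c5b68f222db478516da1c48b6d023c5b6811a2db408516d9fc88b6cfe1c5b676062db3a0916d9cc18b6ce4145b66d162db360b16d9ac58b6cd40c5b669222db348316d9a088b6cd00c5b667062db331116d99488b6cca3c5b661162db300516d97878b6cbc345b65d1e2db2e8b16d97048b6cb6245b6571a2db2b0b16d94c48b6ca23c5b64f222db278d16d93c48b6c9e1c5b64f0a2db270b16d93078b6c98345b64c162db230316d90c78b6c86245b642122db210716d90828b6c781c5b63a222db1c8b16d8e418b6c6e245b634162db188b16d8bc88b6c5c3c5b62e1a2db170716d8b828b6c58245b62a122db120b16d88078b6c402c5b61f222db0f8916d87448b6c38445b61c1e2db0e0d16d86868b6c2e2c5b615222db0a8d16d84c68b6c201c5b60e062db060f16d83068b6c142c5b601122db000b16d7f068b6be62c5b5f2122daf88b16d7c058b6bdc3c5b5ee162daf68b16d7b058b6bd22c5b5e6162daf28b16d7887))) (BT.leaf (Bx.mk (nat_lit 0x8b74623c5ba30162dd140b16e89848b7446245ba230e2dd110f16e88868b7436345ba1b162dd0d0916e83c58b7414245ba07122dd008f16e80048b73fe245b9fa062dcf98b16e7c418b73de3c5b9ef162dcf70f16e7b048b73d63c5b9eb1a2dcf50916e7a468b73d22c5b9e80e2dcf38d16e79848b73ca245b9e31e2dcf18316e78848b73c2445b9df222dcef8f16e77c38b73be145b9dd062dced8b16e76448b73aa3c5b9d50e2dcea8516e75048b73a6245b9ce162dce60516e72c68b73962c5b9c7162dce18d16e70c58b7380245b9be162dcdf0916e6b848b7356245b9a9222dcd21116e69068b73481c5b9a1162dccf0916e66c78b7336345b99b162dccd0f16e66478b7332245b998122dcc98916e64068b731c245b98b222dcc58f16e62c68b7316145b985162dcc20916e5fc88b72fc3c5b97e162dcbb8f16e5dc68b72e42c5b96f122dcb30b16e57088b72b62c5b94e122dca61116e53048b7298145b94b162dca50716e52458b72902c5b948122dca30d16e51848b72882c5b9401a2dc9f0b16e4d018b7266245b92e162dc938916e46048b722e245b914162dc898916e42c58b7214345b9091a2dc7c8b16e3e418b71ec445b8f6122dc7b0716e3d828b71de2c5b8ef062dc770f16e3b858b71d82c5b8e8122dc718b16e38838b71c03c5b8dc122dc6d8916e36458b71a83c5b8d41a2dc681116e33078b7198345b8cc162dc650d16e31858b718a3c5b8c50e2dc628516e31068b7182345b8bf1e2dc5d8b16e2d458b715c445b8ab1e2dc558d16e2a858b714e2c5b8a6162dc528916e28c78b71462c5b8a0162dc4f8b16e27878b713c345b89d162dc4c8f16e25058b7124245b88e1e2dc460d16e21048b70fa245b87c222dc3e0f16e1e058b70ee2c5b874162dc390316e1c468b70e2145b86d1e2dc368916e19878b70cc2c5b860122dc2c8f16e15c68b70a4345b8501e2dc278b16e13858b709a245b84b222dc238516e11068b70862c5b8420a2dc190b16e0c088b7060345b82e162dc168916e08468b7040245b81f222dc0f8916e07c28b7032245b8131e2dc098b16e04418b7020245b80e222dc070d16e03828b701a2c5b80a122dc050516e02478b70122c5b807162dc038916e01078b7008345b804162dc018916e00048b6ff6245b7fa122dbfc8f16dfd458b6fea245b7eb1e2dbf48916dfa058b6fcc2c5b7e5222dbf28f16df9448b6fca145b7dd122dbed8b16df6858b6fae3c5b7d70e2dbeb0b16df4c78b6fa6345b7d3062dbe90b16df4458b6fa03c5b7d00e2dbe70f16df381))))))) (BT.node (nat_lit 728) (BT.node (nat_lit 724) (BT.node (nat_lit 722) (BT.node (nat_lit 721) (BT.leaf (Bx.mk (nat_lit 0x8b7802445bc010a2ddff0f16eff858b77fc0c5bbfd122ddfd8d16efe848b77ea3c5bbf51a2ddfa8716efd428b77e62c5bbf21a2ddf90716efc458b77e03c5bbe91a2ddf48b16efa418b77c8345bbe31e2ddf18d16ef8c58b77c43c5bbe21a2ddf10b16ef8458b77be2c5bbde162ddef0916ef7458b77ba0c5bbdc1e2ddee0d16ef7038b77b8145bbdb162ddea0b16ef4c78b77a6345bbd01a2dde78b16ef1448b77883c5bbc41a2dde20b16ef0878b7784345bbc0162dde00316eefc58b7778245bbb01a2ddd68916eeb028b774c0c5bba40a2ddd10b16ee8818b77403c5bb9f1a2ddcc8f16ee6448b77302c5bb97122ddca0f16ee5068b77280c5bb92222ddc90f16ee4868b76f4145bb780e2ddba0f16edb048b76c82c5bb5d1e2ddae8d16ed7438b76ba145bb5b062ddab0916ed4068b769e2c5bb4e222dda70916ed3458b7694345bb4a062dda38316ed0848b76803c5bb3d062dd9d9116ecec68b76743c5bb36162dd9a8f16ecd468b7664245bb301a2dd980916ecb078b7656245bb2a1e2dd950d16eca858b7652445bb29122dd930916ec8c78b76442c5bb21162dd900f16ec8068b7640245bb1a1a2dd8d0b16ec6078b7630345bb18162dd8a0d16ec5048b76281c5bb13162dd890b16ec4848b76240c5bb110a2dd858b16ec2878b76102c5bafd1e2dd7e8d16ebf448b75fa1c5bafd0a2dd7c8916ebdc58b75e83c5baf3122dd790916ebc818b75de3c5baee1e2dd770d16ebb838b75dc145baec162dd748916eba078b75d0345bae8162dd738916eb9878b75cc345bae6162dd728916eb7468b75b82c5bad8062dd6b0d16eb5018b75a23c5bad11a2dd688b16eb3058b7588445bac41a2dd618f16eb0878b75842c5bac1162dd600516eafc88b757e2c5bab7062dd5b0b16ead478b756a345baad1e2dd560916ea9c88b754e3c5baa71a2dd530f16ea8c78b7546345baa3162dd508916ea7458b75382c5ba94162dd490f16ea4448b751e445ba8f1e2dd478d16ea3048b7516445ba8b1e2dd458d16ea2c38b75142c5ba89162dd428b16ea1078b7508345ba840e2dd418d16e9fc48b74fa3c5ba7d1a2dd3e8316e9ec78b74f6345ba7b162dd3d0f16e9e868b74f22c5ba77222dd3b8d16e9dc38b74ec2c5ba75162dd388916e99068b74c6345ba63162dd310516e97c58b74be0c5ba5b222dd298d16e94c28b74a23c5ba51162dd288316e94048b749c2c5ba4d122dd260916e92448b748c345ba45222dd220916e90c48b74843c5ba421a2dd208b16e90448b747a2c5ba39162dd1a0516e8cc4))) (BT.leaf (Bx.mk (nat_lit 0x8b7ac42c5bd61162deb00f16f58058b7ab63c5bd5a1a2deac8716f56428b7aac3c5bd561a2deaa8d16f55458b7aa8245bd52222dea88f16f54458b7aa03c5bd4f122dea70916f53458b7a9a245bd4c162dea50f16f52868b7a922c5bd49122dea41116f52048b7a8c2c5bd44062dea18f16f50c68b7a86145bd411e2dea08d16f4fc58b7a782c5bd3b162de9c8b16f4dc78b7a6e2c5bd36162de9a8b16f4cc68b7a622c5bd30162de960b16f4ac78b7a56345bd291e2de948d16f4a418b7a50445bd281e2de940d16f4a048b7a501c5bd280a2de938b16f49488b7a4a2c5bd23162de908d16f47478b7a3a345bd1a162de8b8d16f45478b7a2a145bd14162de8a0916f44058b7a1e2c5bd0f122de868b16f42488b7a123c5bd091a2de848716f41848b7a023c5bd011a2de808716f40428b7a002c5bcfe1e2de7d0f16f3e858b79e42c5bcf1222de788d16f3c438b79e2145bcee122de768916f3a458b79ce345bce51e2de728d16f39448b79ca1c5bcde1e2de6f0516f37088b79b83c5bcdc1a2de6e0716f37028b79b60c5bcda1e2de6b9116f35c48b79ac2c5bcd6062de6a1116f35068b79a60c5bcd2222de688d16f34018b799e445bcce1e2de668d16f33048b79961c5bcc91e2de648d16f32058b798c3c5bcc60e2de630516f31088b7986445bcc3162de610f16f30868b7982445bcc11a2de608b16f2f458b79782c5bcb81e2de5c0716f2d848b79660c5bcb0222de579116f2b488b795a3c5bca8162de531116f29818b7948445bca20e2de500d16f28048b79401c5bc9e1e2de4f0d16f27458b7936345bc99162de4c1116f23458b791a245bc8c0e2de450b16f22458b7910345bc84162de420316f20c78b79062c5bc821a2de400916f1fc48b78fc3c5bc7e0e2de3f0516f1f458b78f63c5bc7b1a2de3d8b16f1d888b78ea2c5bc741a2de390b16f1c428b78e03c5bc70162de370916f1b448b78ce2c5bc66162de328b16f19068b78c81c5bc63222de318f16f18c68b78c03c5bc60062de2e8f16f17418b78b62c5bc58222de2c0916f16038b78b0145bc56222de2b0b16f15458b78a0245bc4e122de248f16f12468b78920c5bc48122de239116f11c38b7888445bc440e2de1e0b16f0d848b78682c5bc301a2de180b16f0b878b78541c5bc291e2de148d16f0a048b784e245bc24122de118b16f08818b783e2c5bc1e162de0d8916f05c78b782a3c5bc151a2de0a8716f05428b7828345bc14162de099116f04448b7820245bc0e1e2de070b16f03058b78142c5bc08122de028916f0101)))) (BT.node (nat_lit 723) (BT.leaf (Bx.mk (nat_lit 0x8b7d6c2c5beb5222df5a8d16fad438b7d60245beac122df550916fa9858b7d4c245bea41e2df520d16fa9048b7d48145be9d0e2df4d8b16fa6888b7d34345be9a122df4b8b16fa5888b7d2c345be96122df4a8b16fa5048b7d263c5be931a2df460d16fa2c88b7d16345be8b0e2df450b16fa2428b7d10345be880e2df440516fa1c78b7d0e2c5be851e2df428d16fa1048b7d020c5be80222df3e0916f9ec58b7cf6245be79162df3b0f16f9d868b7cec2c5be72222df390b16f9c478b7ce21c5be710a2df378916f9b878b7cdc345be6e0e2df370516f9b478b7cda345be6b162df358916f9a858b7cd23c5be631e2df318d16f97858b7cba445be5d0a2df2c0b16f96018b7cae3c5be571a2df2b0b16f95438b7caa145be4f162df270d16f93838b7c9c145be4d122df260d16f93038b7c98145be4b162df258916f92878b7c942c5be491e2df240716f91c58b7c8e245be460e2df220d16f90c58b7c86245be42222df210916f8e478b7c72145be36222df1b0316f8d088b7c643c5be321a2df190916f8c838b7c64145be31162df179116f8bc78b7c5e1c5be2f0a2df168b16f8ac78b7c501c5be21162df0f1116f87058b7c34445be181a2df0c0716f84c88b7c26345be130e2df090916f82c58b7c14445be0a0a2df048b16f82448b7c102c5be08062df030d16f81858b7c0a3c5be051a2df011116f80858b7c02445be001e2defe1116f7f018b7bf22c5bdf5222def98b16f7c848b7be2345bdf00a2def78f16f7bc68b7bde2c5bded222def50916f79038b7bc20c5bdda122deed0516f76468b7bb22c5bdd9062deec0b16f75c38b7baa445bdd5162deea0b16f74c88b7ba62c5bdd3122dee91116f74088b7ba0245bdcf222dee78916f73c18b7b9c445bdce1e2dee70d16f73838b7b9a2c5bdcb162dee50f16f72488b7b92145bdc71e2dee38d16f71488b7b8a145bdc4062dee10b16f70848b7b7c0c5bdbd122dedd9116f6e448b7b6e3c5bdb71a2dedb8716f6dc28b7b60345bdaf222ded78516f6b488b7b5a3c5bdad0e2ded68516f6b058b7b562c5bdaa162ded48b16f6a088b7b503c5bda81a2ded40516f68818b7b420c5bda01a2decd8b16f66478b7b303c5bd981a2decb9116f65c78b7b2e345bd97122decb8716f65878b7b2c345bd96162deca8f16f65468b7b263c5bd931a2dec80f16f64068b7b1e445bd8f1e2dec78516f62c68b7b02445bd7f122debf0916f5f058b7af62c5bd7a1e2debd0d16f5e448b7aea2c5bd6d222deb68b16f5b068b7ad63c5bd690e2deb20916f58c5))) (BT.leaf (Bx.mk (nat_lit 0x8b818e245c0c4162e060871702f448b81763c5c0ba1e2e05c891702cc58b815c245c0ac162e0530917029448b8134245c099122e04c0b17025c58b812e0c5c0951a2e0490317024448b8114245c089162e0430b17021818b8106245c082062e0409117020458b8100445c080162e03f911701fc78b80fa2c5c07c222e03c091701dc68b80ee0c5c0761a2e03a8f1701d468b80ea1c5c0750a2e03a0d1701d058b80e42c5c072122e038111701c078b80e0345c0700e2e036091701ac58b80d4245c065162e0308317017c48b80bc3c5c05e1a2e02d8917016478b80b0245c057122e0240317011868b808c1c5c0460a2e0208b17010038b8080145c03d162e01e0b1700cc88b8066245c032122e0170d1700b068b8056245c026122e0128b17007c58b803a0c5c01c222e00d9117006c18b8034345c019222e00c8917006438b802e2c5c015122e00a0b17003c48b801c2c5c006122e0028b16fff878b7ffc345bffb122dffa8b16ffcc48b7fe02c5bfea0e2dff38316ff9858b7fcc0c5bfe5222dfec0f16ff6068b7fa82c5bfd11e2dfe80716ff2c88b7f8a0c5bfc2162dfe08d16ff0068b7f7c345bfbb062dfdd1116fee858b7f723c5bfb8222dfdb8516fed878b7f682c5bfb4122dfd90f16febc58b7f5c2c5bfae062dfd58d16fea818b7f4e445bfa41a2dfd08b16fe7818b7f3a245bf9c122dfcb8b16fe4848b7f22245bf901a2dfc68916fe3428b7f162c5bf8b062dfc50d16fe2468b7f10345bf87162dfc31116fe1878b7f0c145bf851a2dfc20d16fe0878b7f040c5bf7d162dfbd1116fde838b7ef4145bf78062dfbb8f16fdd868b7ee62c5bf6d162dfb28b16fd8058b7ebc145bf5d162dfae0f16fd7068b7eb8245bf5c0e2dfae0516fd6c48b7eb42c5bf57162dfab0b16fd5078b7ea8345bf531e2dfa98d16fd3838b7e982c5bf4a122dfa48916fd0818b7e82245bf401a2df9f8b16fce848b7e72245bf38122df9b8f16fcdc68b7e6e2c5bf2f162df970b16fcb058b7e522c5bf27162df910b16fc7c58b7e3a2c5bf19162df8c0b16fc5848b7e1e2c5bf0d0a2df850916fc2438b7e0e3c5bf070a2df820316fc0048b7dfe3c5bef8122df7b8f16fbd478b7de4445bef21e2df790d16fbc468b7de2245bef10e2df780f16fbc068b7dde345beeb162df750b16fba478b7dc6445bee30e2df718516fb8458b7dc02c5bede122df6d8b16fb6478b7db2345bed9122df6c8716fb5c78b7dac245bed4162df661116fb3078b7d98245becc0e2df660516fb2068b7d90245bec7222df618f16fb0c6))))) (BT.node (nat_lit 726) (BT.node (nat_lit 725) (BT.leaf (Bx.mk (nat_lit 0x8b84fa245c27d0e2e13e851709f048b84f43c5c27a1a2e13d091709e478b84f2345c278162e13c091709dc48b84ee1c5c2770a2e13a0d1709d038b84e6245c271162e137851709a078b84d0345c265162e1318d17097458b84b02c5c2561e2e12a8f17095468b84aa245c2550e2e12a8517095058b84a4245c2511e2e1288d17093c58b84962c5c2481e2e1240d17091c58b8480445c2401e2e11f8b1708f888b847c0c5c23a1e2e11c0b1708dc58b846e0c5c236162e11b031708d468b846a1c5c2341e2e11a0d1708c878b84603c5c22e162e1168b1708b448b84562c5c226222e1130b17089418b84480c5c223222e1118f17088888b84402c5c21e1e2e10f0d17087478b84203c5c2091e2e1048517081078b84062c5c1fe1a2e0fa8b1707d418b83e83c5c1f40e2e0fa051707cc78b83e6345c1f11a2e0f80b1707b858b83dc245c1ea162e0f4911707a088b83ce245c1e5162e0f18917078088b83c03c5c1df1e2e0ef0317077418b83b8445c1da122e0ec8f17076468b83b21c5c1d90a2e0ec0317075c58b83ac145c1d51a2e0ea0b17074c58b83a43c5c1d20e2e0e90517074458b83a2245c1cf1e2e0e78917073c28b83963c5c1cb1a2e0e40b17071858b838a245c1c4162e0e18f17070c68b83822c5c1c1062e0df8b1706f058b83742c5c1ba122e0dd031706e468b836e2c5c1b6222e0db0d1706d838b836c145c1b41e2e0d98f1706cc68b8356245c1aa122e0d38f17069c68b834c345c1a5122e0ce0317066088b83303c5c1981a2e0ca0b17064848b831e2c5c18a122e0c48917062048b830a445c185122e0be891705ec48b82f4345c17a162e0bc0f1705e058b82e6245c1701e2e0b80d1705b448b82da1c5c16a162e0b38917058878b82c4345c15e162e0ae8b17057048b82b43c5c15a0a2e0ac0b17056018b82ac145c155122e0a98b17053c58b82980c5c14a062e0a40317051c58b828c2c5c142162e0a0091704fc48b826c2c5c135162e0988b1704b458b825a0c5c12b222e095891704ac18b8250445c1281a2e0930f17049448b82422c5c11c1e2e08e0d17046c58b82343c5c11a1a2e08d0717046828b8230445c118122e08b8f17045c58b82202c5c10f162e0871117043878b821c345c10e122e0870517043448b8210345c1060e2e0820b17040848b81fc445c0f5122e07a111703d068b81e02c5c0ef162e0750d17039058b81c23c5c0e11a2e0708b17038068b81bc3c5c0dd122e06e0917036478b81b2345c0d7122e06b8317035478b81a22c5c0cd0e2e0648717031c5))) (BT.leaf (Bx.mk (nat_lit 0x8b880c3c5c406162e2010917100018b87fe0c5c3f90a2e1fa91170fa858b87ca245c3e4122e1f18b170f8448b87ba245c3d7162e1eb03170f0878b8784345c3bc222e1dc83170ed878b876c345c3b5122e1d989170ec848b8760245c3af1e2e1d60b170eac58b87502c5c3a7222e1d38d170e9c38b87483c5c39c162e1cd8d170e6858b872c1c5c394162e1c889170e3c48b871c245c38e0e2e1c58f170e2c28b8712245c384222e1c109170e0468b86fe345c37b222e1bb8b170dcc58b86e42c5c371162e1b80d170db848b86da3c5c36d122e1b685170db058b86d62c5c36a122e1b48d170d9448b86c83c5c3611e2e1af89170d6848b86aa2c5c353162e1a909170d3848b869a3c5c34c162e1a58b170d2888b8694345c34a0e2e1a411170d2068b8690245c3480a2e1a38f170d1c68b868e2c5c345122e1a20f170d1068b86862c5c341122e19f8f170cf858b8676345c339162e19c0f170ce028b8668445c3341a2e19a05170cc858b865a245c32b0e2e1950b170ca078b8650345c327162e1928b170c9078b86481c5c3240a2e19189170c8888b86443c5c3221a2e19105170c8458b8640345c320122e19007170c5c78b862e345c3161e2e18b0d170c5838b862a3c5c314162e18983170c4868b86242c5c3111e2e18809170c3c68b861c245c30c1e2e1860d170c3048b86181c5c30c0a2e1858b170c2448b860e245c3041e2e1820d170c1048b86081c5c3040a2e1808f170c0468b85fe2c5c2fd122e17c91170be438b85f02c5c2f71a2e17b0f170bd868b85ec245c2f2162e1788f170bc048b85d6445c2ea1a2e17211170b9068b85c62c5c2e3122e1708d170b8428b85be1c5c2df0a2e16f0f170b7868b85bc2c5c2dd162e16e89170b7058b85b61c5c2db0a2e16c8b170b6448b85ac2c5c2d6122e16a8f170b5468b85aa245c2d50e2e16a85170b5078b85a8345c2d3122e1690d170b4848b85a41c5c2d20a2e16809170b3c88b859e0c5c2ce1a2e1668f170b2c78b8594245c2c8222e16389170b1818b8588445c2c3122e1608f170b0448b8582145c2bf1e2e15f8d170af478b857a345c2bc122e15d89170ae868b85723c5c2b91a2e15c09170adc78b856e245c2b70a2e15a89170ad078b85682c5c2b2162e1580b170ab878b855a345c2aa1a2e15507170aa478b85502c5c2a8122e15389170a9c28b854c2c5c2a5162e15205170a8878b85442c5c2a1162e14f89170a6878b85262c5c2911e2e1488d170a3478b85163c5c284162e14089170a0438b84fe3c5c27f1a2e13f0b1709f46)))) (BT.node (nat_lit 727) (BT.leaf (Bx.mk (nat_lit 0x8b8b8e2c5c5be162e2df031716e828b8b6e0c5c5b41a2e2d98f1716cc68b8b64245c5aa122e2d48917168458b8b3e2c5c59d122e2ce0b17165c58b8b28445c5941e2e2ca0717165028b8b262c5c5921e2e2c90717164828b8b1e2c5c58f062e2c71117163818b8b1a445c58d162e2c68317163078b8b180c5c58b1e2e2c58d17162c58b8b143c5c58a1a2e2c50b17162848b8b12445c5891e2e2c48d17162448b8b121c5c5890a2e2c40b17160468b8b021c5c5810a2e2c00b1715f818b8afa445c57d162e2be111715f018b8af62c5c57a1e2e2bd0b1715e488b8af2345c5770a2e2bb0b1715d048b8ae6245c571122e2b80f1715c068b8ae02c5c56d222e2b50517159c88b8ace345c565162e2af8f17157c68b8abe2c5c55e1e2e2af0b17156c78b8ab6345c5571a2e2ab0917155058b8aa8245c552122e2a88d17154458b8a9c245c54d1e2e2a60917152878b8a7a2c5c53c0e2e29c831714d418b8a643c5c5321a2e2970f1714b868b8a5c2c5c52c122e2950b1714a818b8a520c5c523162e2908b17148028b8a3e2c5c51d1a2e28c0917145048b8a263c5c5130e2e2898517144858b8a202c5c50e1e2e2870d17143838b8a16345c50b0e2e2840b17141848b8a0c1c5c4f6162e27a0b1713c448b89e02c5c4ee222e276831713a458b89c2245c4e10e2e2708517137c68b89be0c5c4d6122e2658317132048b898e3c5c4c7122e2638717131c28b898c2c5c4c0222e25f111712f878b897c345c4be0a2e25e831712d458b8968445c4b41a2e25a071712cc58b89640c5c4ac122e2538f17129c68b894e2c5c4a51e2e2528d17129068b893c1c5c49e0a2e24e8b17127048b89362c5c4961e2e24b0d17125838b892c145c4931e2e2498d17124858b891e2c5c48e222e2470f17123868b891c245c48e0e2e2470517123458b89102c5c487222e2438f17121c68b890e1c5c4861e2e2430d17121838b890c145c4851e2e2428d17120c48b89003c5c4801a2e23e911711f468b88fa1c5c47b162e23c891711c858b88e2445c4701e2e236911711a058b88d0245c463222e2310317118468b88c0345c460122e2300717118028b88ba245c44e1e2e2269117113058b8896445c44b122e2258517112488b888e445c4471a2e2231117111868b888c245c445222e222891710e458b886e2c5c4361e2e217091710b438b8858445c42c0a2e2150d17108c68b883a445c41c1e2e20d8917106848b88302c5c417162e20a8717105068b88242c5c4111e2e2080f17103878b881c345c408062e2038f17101c6))) (BT.leaf (Bx.mk (nat_lit 0x8b8f380c5c79a122e3cc8d171e5c68b8f20245c78e122e3c311171e1048b8f022c5c77c1e2e3be0b171de058b8eea2c5c7741a2e3ba07171dc818b8ee02c5c76b1a2e3b511171da878b8ed4345c76a0e2e3b505171d8c88b8ec43c5c7621a2e3b10b171d7048b8eb6245c7591a2e3ac83171d5468b8ea8245c7521a2e3a90b171d4058b8e9a2c5c74d062e3a60b171d2c38b8e96145c74a162e3a48d171d2018b8e8c0c5c742062e39b8f171cdc28b8e662c5c732122e3978f171cb858b8e5c245c72d162e3960f171cb038b8e58145c7281a2e39009171c7c48b8e342c5c719122e38b8b171c5858b8e2a345c7150e2e3890f171c4868b8e1e3c5c70f1a2e38785171c3818b8e1a445c70d1e2e3868d171c2c18b8e08245c702122e37f89171bf478b8df82c5c6fb062e37d11171be818b8de62c5c6f1062e37691171bb468b8dda245c6ed0e2e37685171b9c78b8dce345c6e6122e37305171b7c58b8dbe245c6de1e2e36f0d171b7838b8dbc145c6dc162e36e09171b4c58b8da41c5c6cf1e2e3670f171b3048b8d962c5c6ca1e2e3650d171b2838b8d94145c6c9162e3640b171b1058b8d86345c6c3162e36109171b0478b8d80245c6bf122e35d8d171ae878b8d722c5c6b9122e35a8b171ad078b8d68345c6b4162e3598d171ac858b8d5a445c6ad122e35603171aac88b8d54245c6a8162e35391171a9c18b8d4a3c5c6a51a2e3520d171a8c58b8d46245c6a2222e3510d171a8838b8d44145c6a0162e34f0b171a7488b8d36345c698162e34b0d171a5078b8d28345c6921e2e3490d171a3888b8d1a445c68b162e34509171a1858b8cfc245c675162e33a051719cc58b8ce40c5c671162e338111719c058b8ce00c5c66e222e3370f1719b468b8cda245c668162e3338d17199058b8cbe3c5c65f1a2e32f8b17197488b8cba1c5c65c162e32c0b17195c38b8cac3c5c6561a2e3298917194c38b8c94445c64a0e2e3250517190858b8c7e3c5c63f1a2e31f831718ec48b8c722c5c638122e31a0b1718d018b8c602c5c62e122e3168f17189478b8c4a2c5c6231e2e30e8b17186468b8c303c5c618162e30b8917183c18b8c1c345c60d1e2e3068d17181c78b8bf23c5c5f91a2e2fc871717e428b8bf02c5c5f6122e2fa8d1717d438b8be63c5c5f31a2e2f98b1717c488b8bdc245c5ed222e2f68d1717b448b8bda1c5c5e2162e2f08b17178068b8bc0245c5e00e2e2f00517177c78b8bbe345c5df162e2ef0917177478b8bba345c5dd162e2eb8f17174c58b8b983c5c5cc1a2e2e6091717286)))))) (BT.node (nat_lit 732) (BT.node (nat_lit 730) (BT.node (nat_lit 729) (BT.leaf (Bx.mk (nat_lit 0x8b92d82c5c967162e4b28b17259048b92c6245c962122e4b10717258478b92c2145c95d162e4ad8b17256c48b92b42c5c95a122e4ac8d17256438b92b2145c958162e4ab8f17255c68b92ae245c9570e2e4ab0b17255068b92a61c5c951162e4a88917254018b929e445c94f062e4a70f17253448b9298345c94b222e4a58d17252c38b9292445c9491a2e4a48917252438b9292145c9481a2e4a40317251c88b928e2c5c947122e4a30717251058b92862c5c9421e2e4a10d17250468b92822c5c940162e49f0d1724f828b927a3c5c93d1a2e49e0b1724ec28b926c445c929122e4938317249858b92463c5c922162e4900b17247878b923c345c91b1e2e48d8d17246458b92240c5c9101e2e4880d17244058b921c245c90d1e2e4868d17243458b92120c5c9051a2e4828717241428b92082c5c903162e481091723f458b91f00c5c8f41e2e47a0d1723d058b91e2445c8f11a2e478871723c428b91de2c5c8ec162e4738317239888b91cc245c8e6062e4721117237488b91ba245c8dd0a2e46d1117235c58b91a8345c8d2122e4659117232c48b91960c5c8ca062e4648f17230888b9182145c8bf222e45f8d1722ec38b9176145c8ba222e45c111722dc58b916a245c8b41a2e4558b17229038b9148145c89d162e44e0d17223038b9118145c88b1a2e4448917222428b910e0c5c886222e4430f17221868b910c245c8851e2e4420f1721f858b90fa445c87a222e4398b1721c848b90e20c5c86f1a2e4370d1721ac58b90d02c5c862122e42c8b17215478b90aa0c5c852122e4280f17214068b90a02c5c8461e2e4230d17210c58b907e3c5c83f122e41f851720f878b907c345c83d1e2e41e8d1720f458b9076245c83a222e41d0f1720e848b90741c5c83a0a2e41b911720dc78b906e1c5c8370a2e41b0b1720d048b90663c5c833162e418891720c018b9052345c8290e2e4148517209c78b904e2c5c822162e40d1117206818b9032445c819062e40c0f17206068b902c3c5c8161a2e40a0b17205018b9022245c8101a2e4078f17203c58b9014245c8001e2e4000d171ff868b8ffc2c5c7fc162e3fc0f171fb848b8fda2c5c7eb1a2e3f28f171f9058b8fc62c5c7e3062e3f111171f8468b8fb4245c7d7122e3e98f171f4c68b8fa2245c7ca1e2e3e50d171f2448b8f882c5c7c31e2e3e18d171f0c58b8f843c5c7c0162e3e009171f0018b8f7a3c5c7bd1a2e3dd8f171eec58b8f6c2c5c7b5162e3da0f171ed028b8f662c5c7b1122e3d703171eb478b8f562c5c7ab062e3d389171e8c4))) (BT.leaf (Bx.mk (nat_lit 0x8b960e0c5cb06222e58307172c1828b96023c5cb011a2e5800b172bf868b95fc245cafc1a2e57d8f172bec68b95f62c5caf5122e5790f172bc868b95e0245caef162e5750f172ba868b95d4245caea0e2e57505172b9c58b95ca2c5cae2122e56e8f172b6858b95b23c5cad90a2e56c0b172b5c68b95ae245cad70e2e56b85172b4058b959c245caca1a2e5648b172b2048b958a3c5cac51a2e5628b172b0c48b956e3c5cab11e2e5588b172abc58b955e0c5caa9222e55489172aa068b954c445caa60e2e5520f172a9068b9544245caa11e2e5508b172a7c58b953a245ca91122e5458f172a2c58b950c2c5ca80122e53e8b1729e858b94f40c5ca79222e53c091729c878b94e0345ca6f122e5370b1729b458b94d8445ca6c1e2e536071729ac68b94ce3c5ca67062e5328b17299068b94c81c5ca640a2e5318917298058b94be2c5ca5e1e2e52f0d17297838b94bc145ca5b1e2e52d8d17296c48b94b6145ca59162e52c0f17296068b94b0145ca571a2e5298b17294878b94a4345ca52122e5290717294828b948e0c5ca44222e5220f17291068b9488245ca440e2e5201117290048b94782c5ca3a122e51c091728d868b94620c5ca2c162e516031728ac68b94522c5ca27222e5120b17288848b943e445ca1f122e50f8717287c28b9438345ca1c0e2e50d8f17286c58b9430445ca18122e5098b17284848b941c2c5ca0c222e5060d17283038b9418145ca0a162e5050917282488b94123c5ca091a2e5048917282438b9412145ca05122e501831727f478b93f43c5c9fa1a2e4fc0b1727d458b93d63c5c9eb1a2e4f5831727a848b93ce0c5c9e6222e4f30d17279848b93cc1c5c9e60a2e4f20917278c48b93c43c5c9e21a2e4f10517278078b93c0345c9e0062e4ef8917276048b93a82c5c9d2222e4e90717274458b939c445c9ce122e4e60517272c88b93961c5c9c9162e4e40b17271868b93883c5c9c41a2e4e20317270c48b93842c5c9c1222e4e08f17270468b9382245c9c10e2e4e0851726f448b93783c5c9bc1a2e4dc0b1726dc48b93682c5c9b4062e4d9091726b818b93583c5c9aa122e4d48b1726a418b93503c5c9a7162e4d18b17266478b932a2c5c993062e4c90b17264848b93222c5c990222e4c80d17264038b931c0c5c98d222e4c68f17263468b931a245c98d0e2e4c68517263088b93183c5c98c1a2e4c60917263038b9318145c98b1a2e4c58b17262458b93103c5c9881a2e4c40917262038b9310145c97d062e4be091725f018b92f4445c97a0e2e4bc851725d85)))) (BT.node (nat_lit 731) (BT.leaf (Bx.mk (nat_lit 0x8b99bc2c5ccdb222e66d8517336878b99b42c5ccd71a2e66b0b17334468b99a22c5ccc7222e6630917330058b9980245ccbe1e2e65f091732ec88b99762c5ccbb122e65d0b1732e078b9970345ccb8162e65a831732d048b9964245ccb11a2e6588b1732b068b99503c5cca81a2e6540317325c78b992e345cc97122e64b8717325c28b992a245cc901e2e6480b17323448b9918245cc8b1e2e6458d17322448b99103c5cc881a2e6440917320848b98fc3c5cc7c222e63e0f1731dc58b98ec3c5cc76162e6398b1731c888b98e4345cc720e2e6380f1731bc48b98da2c5cc6b162e6350b1731a468b98d0345cc63162e6300b17317c78b98be345cc5f162e62d9117316c48b989e245cc4a122e6230b17311048b9884345cc42162e61f091730e888b98743c5cc3a1a2e619911730cc68b9866245cc2b162e6150d1730a058b984c245cc25222e6128d17307488b9834245cc190a2e60c0f17306068b982e2c5cc170e2e60a8f17305468b9828245cc121e2e6090d17304858b98222c5cc10122e6058f17302c68b9814245cc09162e6040f17302048b98101c5cc080a2e6028917300c48b98061c5cc030a2e6008b17300078b9800345cbff122e5ff0f172ff428b97f03c5cbf6122e5fa8f172fd468b97ea2c5cbf20a2e5f88b172fc088b97e0345cbed162e5f511172fa878b97d22c5cbe81a2e5f38b172f9878b97cc345cbe5162e5f20d172f9058b97be245cbde162e5ee0b172f5c58b97aa245cbd5062e5e90d172f4858b97a40c5cbcd122e5e589172f2848b97903c5cbc81a2e5e283172f0c48b977a2c5cbbc222e5dd0f172ee478b97700c5cbb61e2e5d509172ea088b9750245cba51e2e5d00f172e8068b97402c5cb98062e5cb11172e4418b971e245cb8c1e2e5c50b172e2448b9710245cb861e2e5c28b172e1418b97083c5cb82062e5c011172dfc78b96ec0c5cb73062e5b50f172da868b96d02c5cb5f1e2e5af8d172d7c18b96ba2c5cb5d062e5ab09172d5478b96aa345cb51162e5a80b172d4048b969e345cb4f0a2e5a70f172d3868b969a2c5cb4b0a2e5a50b172d1058b96843c5cb42162e59f8f172cfc38b967a2c5cb3c062e59c8b172ce048b966e245cb34162e59a03172ccc48b96643c5cb321a2e5990b172cc058b965e3c5cb2f1a2e59787172cb878b965c2c5cb2b122e5938f172c9c68b964e145cb241e2e5920d172c8458b96383c5cb1c1a2e58e0b172c6468b962a445cb151e2e58a8d172c5438b9628345cb14162e5880f172c3c48b9610445cb08062e58391172c1c5))) (BT.leaf (Bx.mk (nat_lit 0x8b9cfe2c5ce7d1e2e73d831739c088b9ce0345ce6e122e736831739ac58b9cd4245ce69222e7348d17399858b9cbe2c5ce5a1e2e72d0d17395c58b9cac445ce56062e7278b17393818b9c9a2c5ce4c222e7260717392088b9c90245ce47122e7218917390868b9c841c5ce420a2e7208b1738d858b9c68245ce33162e718891738b848b9c5a2c5ce2d122e716831738b058b9c580c5ce2b222e7148b17389c68b9c4c245ce22162e7110317388488b9c422c5ce1c122e70e0517386c48b9c343c5ce1a162e70c0f17386068b9c2e445ce171a2e70b8917384c48b9c242c5ce0d162e7060f17382c68b9c12245ce07122e7030b17381458b9c0a0c5ce04122e7008917380068b9c002c5cdfb122e6fd0f1737e858b9bf22c5cdf7222e6fb8b1737dc48b9bec1c5cdf60a2e6fa8b1737cc88b9be62c5cdf2222e6f9091737c478b9bd80c5cdeb162e6f5091737a478b9bd2345cde9162e6f18917378848b9bc02c5cdde0e2e6ef0517377058b9bb80c5cddb162e6eb8917375848b9ba0245cdd00a2e6e70b17373818b9b96445cdcb1e2e6e51117372438b9b92145cdbb162e6dd0f1736e868b9b741c5cdba0a2e6db8f1736dc68b9b62345cdac122e6d58917369c58b9b4e245cda61e2e6d30917369828b9b46445cd9f122e6cf0b17366c78b9b30245cd960e2e6ca8917364c58b9b242c5cd91062e6c81117364058b9b1e445cd8f162e6c71117363878b9b1c345cd8e0a2e6c40f17362068b9b0c3c5cd861a2e6c30b17361458b9b062c5cd7a122e6bd071735e058b9aea2c5cd74122e6b8891735c048b9ada2c5cd6b1e2e6b58d1735a078b9ac4345cd61162e6b00917357088b9ab4245cd5a062e6ac0d17354068b9a9a0c5cd41162e69f8d1734fc38b9a7e145cd3e1e2e69f0d1734f448b9a7a1c5cd3c122e69c0b1734d078b9a682c5cd30162e698031734b888b9a5c0c5cd2d1e2e6968d1734b068b9a58245cd2b222e6958b1734ac48b9a523c5cd291a2e694831734a048b9a4e245cd24062e6919117347848b9a3c1c5cd1c1e2e68e0d17346c68b9a362c5cd1a122e68c8b17344c78b9a26345cd0f1a2e6878b17341018b9a04345cd001a2e6800917340028b99fe3c5ccfd122e67d0b1733e848b99f02c5ccf8122e679911733cc68b99e6145ccf11e2e6788d1733c458b99e0245ccee1e2e6770d1733b828b99d83c5ccec1a2e6758b1733a878b99d4345cce91e2e6748d1733a458b99ce345cce7122e6738717339858b99c8345cce4162e6718f17338878b99c4345ccdf162e66f0f1733786))))) (BT.node (nat_lit 734) (BT.node (nat_lit 733) (BT.leaf (Bx.mk (nat_lit 0x8ba0602c5d02d122e8160f1740b068ba058245d02c0e2e816051740a418ba0503c5d028162e8130717409458ba0480c5d0221a2e80f1117407878ba03c345d01e0e2e80f0517406858ba02c2c5d015122e80a0f17405068ba020245d00f122e8068f17402448ba0102c5d008062e8039117401c38ba00c245d005162e8020f173ffc78b9ffe345cfff122e7ff87173ff458b9ff8145cff51e2e7fa8d173fd458b9fe6245cfee122e7f60d173fac88b9fd6345cfe81a2e7f28f173f9468b9fc8245cfe3162e7f183173f8888b9fc43c5cfe20e2e7f105173f8478b9fba245cfdd0a2e7ed8b173f4058b9f922c5cfc4122e7de89173ef058b9f702c5cfb7222e7db89173ed818b9f6a445cfb5122e7da11173ecc88b9f66345cfb2122e7cd8d173e6478b9f32245cf95162e7ca89173e4858b9f220c5cf8a1e2e7c50b173e2048b9f083c5cf830e2e7c00b173dfc88b9efe2c5cf7e222e7bf0f173df488b9efa345cf7c162e7bd8f173dec68b9ef22c5cf78162e7bb91173dd088b9ee83c5cf741a2e7b80b173dc018b9ede0c5cf6e122e7b68f173dac78b9ed6345cf6b162e7b30b173d9818b9eca2c5cf63122e7b103173d8448b9ec0445cf601a2e7b009173d7c48b9ebc1c5cf5d162e7ad8d173d6848b9eb23c5cf591a2e7ac8b173d6058b9eac245cf560e2e7a80b173d3478b9e92345cf490a2e7a10f173d0868b9e842c5cf411e2e7a08d173d0458b9e7c2c5cf3e122e79e91173cf478b9e7a245cf3d0a2e79e0b173cec48b9e662c5cf32222e7990d173cc848b9e641c5cf2c1e2e79603173cac58b9e54245cf291a2e7948b173ca078b9e4c445cf261e2e7930d173c9848b9e4c1c5cf260a2e7918b173c7848b9e2e245cf15122e7898b173c4038b9e1e3c5cf0c162e78509173c1458b9df6245cef9122e77b09173bc848b9de2245ceea162e7748d173b9848b9dbe2c5cedd1a2e76e8b173b6448b9d9c345cecb162e76589173b2888b9d94345ceca0e2e7640f173b2068b9d902c5cec7122e7628f173b1468b9d8a2c5cec31a2e76187173b0c28b9d843c5cec21a2e7608b173afc18b9d7a2c5cebd062e75c0b173ad458b9d68245ceaf122e7568b173aac58b9d503c5cea81a2e75407173aa028b9d4c2c5cea5162e7520f173a9068b9d44345cea20e2e75105173a8058b9d342c5ce99162e74c0f173a6068b9d2e3c5ce971a2e74b89173a5868b9d2c2c5ce96122e74a8b173a4c88b9d26245ce921e2e7490d173a4838b9d223c5ce8f1e2e74411173a2028b9d0e2c5ce86222e7410b173a045))) (BT.leaf (Bx.mk (nat_lit 0x8ba3f80c5d1f40a2e8f90f1747b878ba3dc345d1ea122e8f20317478848ba3ba3c5d1dd1a2e8ee8b17476478ba3ac3c5d1d6162e8eb0317474448ba3a20c5d1d0122e8e78917473868ba39c2c5d1cc1a2e8e60b17472c58ba38e245d1c6122e8e2051746e858ba36c345d1b2122e8d7891746b048ba34e2c5d1a7122e8d30917465488ba32a245d1931e2e8c90b17464458ba322245d1901e2e8c68917462c58ba312245d188222e8c40f17461818ba3082c5d17e162e8bd8b1745e858ba2f2245d1790e2e8bc851745d058ba2d82c5d16b1e2e8b40917458c58ba2c22c5d15d1a2e8ae8917457438ba2b8245d156162e8ab0917453c68ba29c2c5d14d222e8a68d17452858ba2923c5d149122e8a48717452428ba2902c5d142162e89f031744f418ba2783c5d13b1e2e89d091744e088ba26c145d1331a2e899091744c448ba25e145d12d062e896091744ac78ba256345d12b162e8950b1744a458ba24a3c5d124122e8918b17448448ba23a345d11c162e88d8917446c28ba234345d1181e2e88c0b17445c48ba21c1c5d10d162e8860317442c58ba2160c5d10a222e8850317441c68ba208445d1040a2e87e091743ec48ba1f42c5d0f9162e87c0f1743d468ba1e82c5d0e9162e8738b17439848ba1ca245d0e5062e8718d17438458ba1be445d0df1e2e86f8517437048ba1b62c5d0da1a2e86d0717436828ba1aa2c5d0d41e2e8698b17434858ba1a00c5d0cf062e8670317433478ba19a345d0cc222e8660d17433048ba196445d0cb162e8658917432888ba194345d0ca122e8648317432058ba18e3c5d0c71a2e8628f17431428ba1862c5d0c21a2e860031742fc88ba17e2c5d0bf062e85e911742f468ba17a2c5d0bd122e85e111742f078ba1782c5d0bc122e85d8d1742ec38ba176145d0ba162e85c0b1742d838ba1682c5d0b11e2e858891742c428ba15c2c5d0ad0e2e8560b1742ac58ba150245d0a7162e8530b17429428ba13c3c5d09e0e2e84f0517427458ba132445d099162e84c1117425c78ba12c245d08f1e2e8478d17423c58ba11e0c5d08e122e8460b17422c88ba1163c5d088122e8438317420c88ba1020c5d07e1e2e83f0d1741f468ba0f62c5d0791e2e83c8d1741e458ba0f20c5d078162e83b031741d018ba0d4245d069162e82e8d17417058ba0aa445d055122e8298917414418ba09a3c5d04d1a2e8260d17412c58ba0942c5d04a062e8248917410c78ba0861c5d0430a2e820891740f858ba07a3c5d03a1a2e81b891740d888ba06c3c5d0361a2e8190b1740c07)))) (BT.node (nat_lit 735) (BT.leaf (Bx.mk (nat_lit 0x8ba6943c5d34a122e9a505174d2468ba6922c5d348122e9a28b174d1418ba688445d343162e9a085174cfc78ba67e345d33d1e2e99e8d174cf448ba67a145d33b122e99c8b174ce088ba6702c5d337222e99b8d174cd488ba66a0c5d334162e9960f174ca858ba6540c5d329222e99483174c9418ba648345d3231e2e98f11174c7868ba63a3c5d31c162e98d09174c5c68ba6242c5d311162e9870f174c3868ba6183c5d30c162e9850d174c2848ba6141c5d3091a2e9848b174c2058ba60a345d3011a2e97e8b174bec58ba5f42c5d2f91e2e97c11174bd878ba5ec345d2f6162e97a8b174bd088ba5e8245d2f11e2e97883174bc078ba5e0345d2f0162e9778f174bbc68ba5dc245d2ed222e9768d174bb438ba5d83c5d2ec1a2e9750d174ba838ba5d4145d2e9162e9740f174b9c28ba5c83c5d2e40e2e9718b174b8818ba5c2445d2e1122e97009174b7458ba5b82c5d2d71e2e9670f174b3868ba5963c5d2cb1a2e96585174b2858ba58e145d2c6162e9600d174b0028ba57c2c5d2bc0e2e95e05174aec78ba5743c5d2ba1a2e95d07174ae828ba5722c5d2b7222e95b8f174ac888ba55c1c5d2ac062e9550d174aa838ba5502c5d2a7222e9538f174a9c68ba54e145d2a51e2e95289174a9438ba54a145d2a41a2e9520b174a8888ba5443c5d2a21a2e95107174a8828ba53c1c5d29b162e94d0b174a6418ba530445d298162e94b0b174a5848ba52c0c5d295062e9488f174a4468ba51e245d28b162e94589174a2448ba50e2c5d287122e9428f174a1468ba50a0c5d284222e94207174a0c78ba5062c5d281162e93e8d1749f418ba4f8245d27b122e93a0f1749d068ba4e81c5d2740a2e9398b1749c878ba4e42c5d270162e9370b1749b848ba4d42c5d2691a2e9338d17499c48ba4ce145d266122e9320917496858ba4b21c5d2561e2e92b0d17495858ba4aa2c5d254162e92a0917494c48ba4a61c5d252162e9288517494048ba49c2c5d24d062e9260f17493068ba4982c5d24b1e2e9258d17492c58ba4941c5d249162e9240b17491c58ba48c445d2461a2e9230b17491488ba48a3c5d245162e9221117491078ba488345d2440e2e9220517490878ba484345d240122e91e851748f058ba4762c5d23a162e91d051748cc68ba45c3c5d22e1a2e9160f17489c48ba4423c5d21f1a2e90d9117486c48ba4361c5d215222e90a8917485058ba4263c5d2131a2e9088d17484058ba416445d209162e9048917482078ba40e2c5d206122e9028b17481078ba4062c5d2011a2e9000b1747fc6))) (BT.leaf (Bx.mk (nat_lit 0x8ba9b6145d4d51e2ea6a8d17535058ba9a4245d4cf1e2ea670b17532058ba986245d4bb162ea5d091752e078ba96e2c5d4b7062ea5a831752d078ba966345d4b20e2ea59051752bc88ba95e1c5d4af0a2ea570b17529058ba944345d4a0162ea4e8517526c58ba9341c5d496162ea498917524458ba9202c5d490062ea478917522458ba8fe2c5d47d222ea3d891751dc88ba8ea245d473162ea390d1751c468ba8de445d46f0e2ea368917519478ba8ca1c5d4650a2ea318f17518058ba8c0245d45f222ea2f0b17517458ba8b6345d459162ea2b1117515848ba8a82c5d454122ea298317514878ba8a4345d4511e2ea288d17513c88ba89e245d4471e2ea238317510828ba87c3c5d43e122ea1e8d1750ec18ba8740c5d439222ea1c111750dc88ba86e345d4341a2ea198b1750c878ba864345d4301e2ea180b1750bc58ba85a345d42c122ea15891750a078ba850345d427122ea130917507858ba832245d416222ea0b0d17505848ba8283c5d4141a2ea0a0317504c78ba826345d411122ea070b17503848ba81a3c5d40d1a2ea068b17503048ba8162c5d407122ea031117501838ba80a3c5d4051a2ea010d17500448ba800245d3fb122e9fc0f174fe058ba7e43c5d3f20a2e9f691174fb418ba7d82c5d3ea162e9f489174f9c58ba7c43c5d3e11e2e9f08b174f7c68ba7be1c5d3df0a2e9ef03174f7488ba7ba2c5d3dd122e9ed03174f6448ba7ae2c5d3d6162e9ea0d174f4c68ba7a62c5d3d20e2e9e88b174f3c68ba79e0c5d3ce162e9e691174f3078ba798345d3cc062e9e10b174f0468ba782145d3c01e2e9e007174eec58ba7742c5d3b9222e9dc89174ee418ba7700c5d3b70e2e9db0b174ed488ba7663c5d3b31a2e9d90b174eb848ba75c145d3ac1a2e9d605174eac78ba756345d3a8122e9d209174e8c78ba746345d3a11e2e9d085174e7888ba73c1c5d39d1a2e9ce87174e7058ba7363c5d398162e9cb0b174e4c88ba7122c5d3881e2e9c087174e0078ba7002c5d37f162e9bf0d174df838ba6fa2c5d37c122e9bd8d174de828ba6f03c5d3781a2e9bc07174de028ba6ee445d3771e2e9bb87174ddc28ba6e83c5d3740e2e9ba05174dcc58ba6da345d366122e9b08b174d7c68ba6bc2c5d35e062e9ae89174d7428ba6b8345d35c062e9ad8b174d6888ba6b41c5d359062e9ac0b174d5c88ba6ae245d356222e9ab0b174d5488ba6aa3c5d3551a2e9aa87174d5078ba6a82c5d352162e9a891174d4088ba6a03c5d350162e9a78f174d3c68ba69c145d34c222e9a60b174d304)))))))) (BT.node (nat_lit 752) (BT.node (nat_lit 744) (BT.node (nat_lit 740) (BT.node (nat_lit 738) (BT.node (nat_lit 737) (BT.leaf (Bx.mk (nat_lit 0x8bace02c5d66e162eb37091759b488bacda2c5d66c1e2eb360d1759ac48bacd4445d66a1a2eb35091759a448baccc445d666122eb328b17599068bacc81c5d6640a2eb318b17598878bacc4345d65b162eb2c0d17596038bacb0145d657162eb2b0917595418baca83c5d654162eb290f17593048bac92345d648122eb238917591878bac8a345d642162eb1f8d1758fc38bac7e145d63e1e2eb1f0d1758f448bac7a1c5d63d0a2eb1c8f1758e468bac6a345d634122eb198d1758cc48bac661c5d6330a2eb190f1758c048bac5c445d62e1e2eb17051758b458bac56345d62a122eb14891758a068bac50245d6280e2eb138d17589c58bac4c2c5d621222eb108517583858bac122c5d609062eb040717581c68bac0a2c5d6031e2eb018717580c28bac043c5d6021a2eb010b17580458babfe3c5d5ff1a2eaff8b1757fc18babfc3c5d5fe122eaff051757f458babf8445d5fc122eafd911757e818babf2245d5f8222eafb0f1757d858babec0c5d5f4122eaf7891757b828babd4445d5e91a2eaf48b17576848babb03c5d5d41a2eae98b17574858baba40c5d5d1162eae88317574068baba01c5d5d00a2eae78b17573888bab9a445d5cd162eae68917573068bab981c5d5c9162eae20f17571068bab88145d5bf122eade0b1756ec68bab723c5d5b81a2eadb8f1756dc68bab6a3c5d5b51a2eada891756d438bab6a145d5b2222ead8891756b878bab5c2c5d5ad162ead31117568458bab40245d59f162eace0f17567068bab381c5d59c0a2eacd0917566048bab243c5d590162eac70f17563868bab1c1c5d58e0a2eac68b17562c48bab143c5d589122eac40b17561458bab082c5d583222eac18d17560c38bab003c5d5801a2eabf891755f488baafa345d57d0e2eabe851755e818baaf22c5d579062eabb071755cc18baae4245d571162eab8891755c018baada0c5d5691a2eab48b1755a058baacc145d5651e2eab28d17558c68baac61c5d55e122eaad0f17556868baaaa245d54e162eaa68917553438baa9a145d541122eaa01117550068baa80245d5400a2ea9f091754f488baa7a345d53d122ea9e871754f428baa763c5d53b162ea9d831754e848baa723c5d539162ea99031754c458baa600c5d52f1e2ea900f17548068baa400c5d51f122ea8f0917547088baa38345d51c0a2ea8b8517544c58baa1c245d50e0e2ea870517542888baa14145d509162ea830b17541078baa022c5d5001e2ea7e0b1753e448ba9ea2c5d4ee062ea760917539c58ba9ba445d4dd162ea6d8b17536c3))) (BT.leaf (Bx.mk (nat_lit 0x8bafa43c5d7d11e2ebe88b175f4428baf98245d7ca1e2ebe50d175f2858baf92245d7c4162ebe191175f0c78baf86345d7c3122ebe187175f0478baf82345d7c01e2ebe00d175ee888baf743c5d7ba1a2ebdd09175ee838baf74145d7b91e2ebdc8b175ee078baf70345d7b0162ebd70f175eb868baf5c2c5d7ad122ebd309175e9478baf46245d79e1a2ebce8f175e7468baf30245d797162ebc80d175e4038baf1c2c5d78e122ebc68b175e3448baf18445d789162ebc483175e2058baf0e3c5d7871a2ebc30d175e1858baf0a2c5d785122ebc209175e1028baf06345d77a1a2ebbd09175de078baef0345d776062ebba11175dcc58baee22c5d76d122ebb60b175d9c78baec62c5d760122ebae09175d6c48baeb43c5d75a1a2ebad09175d6458baeb20c5d755162ebaa0d175d4c58baea02c5d750122eba70f175d3868bae982c5d74b1e2eba58d175d2c58bae943c5d74a0e2eba403175d1c58bae8a1c5d741162eba009175cf858bae7c0c5d73d122eb9d85175cc048bae60145d72e162eb9689175cac78bae56245d72b0e2eb9585175ca058bae4c2c5d726122eb928f175c9468bae483c5d724162eb918f175c8c48bae44245d7211e2eb908d175c8088bae3a2c5d71c162eb8d91175c6c38bae34445d7191a2eb8c8b175c6438bae2a345d715162eb8a05175c4468bae1e345d70e162eb868d175c2848bae10245d708062eb830b175c1848bae04445d7021e2eb8105175c0088bae001c5d6ff222eb7f8f175bfc28badfc345d6fd0e2eb7e85175bec28badf2345d6f8222eb770b175bb478badd61c5d6e91a2eb7389175b9868badcc2c5d6e5122eb7209175b9018badc22c5d6e1122eb700f175b7858badba2c5d6dc0a2eb6d8f175b6c58badb23c5d6d8162eb6c09175b5c58badac345d6d5122eb6a0f175b5068bada43c5d6d11e2eb688d175b4048bad9e245d6cd162eb6689175b3048bad942c5d6ca122eb638f175b1c68bad880c5d6c3162eb5f09175af448bad742c5d6b91e2eb5c8d175ae458bad6e345d6b70e2eb5b0f175ad078bad602c5d6ae222eb570f175ab468bad582c5d6ab1e2eb558d175aa848bad52345d6a9122eb5487175aa428bad4e2c5d6a5162eb5203175a8c88bad46245d6a01e2eb5003175a7048bad36345d699062eb4c11175a6028bad2c2c5d696122eb4a8b175a5058bad26345d6921e2eb490d175a4478bad222c5d6901e2eb4805175a3458bad182c5d687162eb430d175a1838bad04245d677122eb3a8f1759d088bace62c5d672222eb39091759c83)))) (BT.node (nat_lit 739) (BT.leaf (Bx.mk (nat_lit 0x8bb32c245d992122ecc90717664058bb31a1c5d98c162ecc50517661478bb30a345d9850a2ecc20b17660088bb300245d97e162ecbe891765f068bb2f82c5d977122ecb9891765ac48bb2d4245d967122ecb10b17657058bb2b43c5d959122ecab0317654488bb2a0345d94f162eca70317653088bb2980c5d9480a2eca18917650058bb27e3c5d93f1a2ec9f891764f888bb27c145d93d1a2ec9d0b1764c848bb2623c5d9311a2ec96031764ac58bb254345d925122ec920f17648c48bb2442c5d9211e2ec908d17648438bb2402c5d91f122ec8f0b17644c88bb224445d911222ec880f17643c48bb21a345d9091a2ec848b17641858bb2081c5d8fe122ec7e891763e848bb1f02c5d8f6162ec7a8f1763c848bb1e20c5d8eb122ec740f1763a068bb1d02c5d8e61e2ec730517639468bb1be2c5d8df122ec6f0b17637848bb1ba445d8dd1e2ec6e8d17637448bb1ba145d8d8162ec6c0917636018bb1ae345d8d5222ec6a8917634c88bb1a22c5d8d1122ec668f17633418bb1922c5d8c61a2ec5f8f1762fc68bb17a245d8bb1e2ec5d8d1762e848bb170245d8b71e2ec5b8d1762dc58bb16c345d8b51e2ec5a8d1762d048bb1643c5d8b21a2ec590b1762c478bb162345d8b0162ec578f1762b458bb15a0c5d8ac1e2ec56071762b028bb1543c5d8aa1a2ec550b17629c58bb148345d89d062ec4d8917626488bb1303c5d88d162ec460b17622c88bb1163c5d88b1a2ec458917622c28bb1143c5d889162ec441117622078bb110345d888122ec440717622028bb10e345d887162ec430b17620c18bb0f8345d87b1e2ec3d091761e088bb0ea3c5d874162ec3a091761c038bb0dc445d86e122ec340f17619c58bb0cc2c5d8651e2ec328d17618858bb0c4245d8601e2ec300517617068bb0b81c5d85a162ec2c0717614878bb0983c5d84c1a2ec260b17612878bb0921c5d848162ec228b17610c78bb086345d83e062ec1e8b1760f088bb0780c5d83b162ec1d0f1760c458bb05c3c5d828162ec0f9117607878bb03c345d81b1a2ec0c0f17606068bb02c2c5d814162ec090917604048bb01c3c5d80e1a2ec068317603068bb0123c5d809162ec039117601888bb008445d8041e2ec020d17601048bb0081c5d8040a2ec018b17600888bb0043c5d8021a2ec010517600458baff82c5d7fb162ebfc09175fcc68bafe43c5d7f21a2ebf909175fc838bafe4145d7ee122ebf50b175f8c48bafc22c5d7dd222ebee8f175f7468bafba245d7dc162ebed09175f5848bafac1c5d7d4222ebea0f175f4c7))) (BT.leaf (Bx.mk (nat_lit 0x8bb61c2c5db0e0a2ed8489176c1858bb60c0c5db04222ed820f176c1068bb606445db031e2ed818d176c0458bb602245daff162ed7e11176bf078bb5f8345dafc122ed7e07176be888bb5f42c5dafa062ed7c91176be448bb5ee2c5daf6122ed7891176bc058bb5de3c5daef1a2ed7785176bac88bb5d6145dae9122ed7411176ba048bb5d01c5dae7162ed7283176b9088bb5c82c5dae4062ed7191176b8888bb5c4345dad31a2ed6987176b4c28bb598245dacb222ed6489176b2058bb58e2c5dac6062ed6291176b1448bb58a0c5dac4222ed620b176b1048bb5880c5dac31e2ed610d176b0848bb5803c5dac0162ed5e0b176aec78bb574345daba0e2ed5d05176aac58bb5503c5daa7122ed520b176a8878bb544345daa2162ed490d176a2478bb50c3c5da85122ed4189176a0448bb500245da7d122ed3e091769e878bb4f4345da7a162ed3c8b1769d868bb4ec1c5da75162ed3a051769cc58bb4de445da6f1e2ed37891769b868bb4dc2c5da6c1e2ed36091769ac68bb4d62c5da6a1e2ed350d1769a458bb4cc345da63222ed318d17698078bb4c0345da5f0a2ed2e0b17697018bb4b62c5da591e2ed2c0d17695478bb4aa345da55122ed2a8717693088bb4983c5da4c1a2ed260917693038bb498145da4b122ed238917691858bb484445da401e2ed1f0f1768f868bb4763c5da3b0e2ed1d851768e448bb46a245da311e2ed188d1768b448bb4583c5da2c1a2ed160b1768b018bb456245da29122ed140b17689888bb44c245da24122ed118917688c38bb446145da211a2ed0f8b17687478bb43a345da1d0e2ed0e8517687048bb436345da19162ed0b8317684c58bb4102c5da05162ed018f17680c68bb4062c5da01162ed000f17680068bb3f8245d9fb162ecfd051767e468bb3f21c5d9f81a2ecfc0b1767d458bb3e82c5d9f3122ecf9111767c868bb3e41c5d9f20a2ecf88b1767b048bb3d42c5d9e91e2ecf48517679858bb3ca445d9e50e2ecf08917678038bb3c0145d9df162ecef8917677858bb3bc245d9dd1e2ecee8d17677438bb3ba145d9dc1a2ecee0717676c48bb3b4445d9da1e2eced0d17676838bb3b4145d9d9122ecec0b17675858bb3aa345d9d5162ece90d17673448bb3983c5d9cc1a2ece38f17671c68bb3843c5d9c11e2ece08d17670078bb380345d9bf1a2ecdf8b1766f478bb37a345d9bd0e2ecde851766ec78bb376345d9bb0e2ecdd851766e078bb370345d9b80e2ecdc051766c418bb34c245d9a5162ecd10d17668838bb344145d9a1162ecce0317666c4))))) (BT.node (nat_lit 742) (BT.node (nat_lit 741) (BT.leaf (Bx.mk (nat_lit 0x8bb8d40c5dc691a2ee34111771a078bb8d0245dc66062ee321117718858bb8b8245dc58062ee2b8b17714478bb8a0345dc4f1e2ee270b17713058bb88e2c5dc43062ee210b17710458bb880445dc40162ee200917710018bb8762c5dc3a1a2ee1c8b1770dc58bb86e0c5dc32222ee190b1770bc88bb85e3c5dc2f122ee17111770b868bb85c245dc2d162ee14911770a088bb8502c5dc271a2ee138717709888bb84c3c5dc261a2ee128d17709458bb8483c5dc151a2ee0a8b17704858bb820445dc101e2ee079117703828bb818345dc0b162ee051117702488bb812245dc081e2ee040317701c88bb80c445dc04162ee020317700c18bb804245dc011e2ee008b176ff858bb7fc0c5dbfb1e2edfd8d176fec58bb7f23c5dbf91a2edfc8b176fe048bb7ee345dbf7162edfb09176fd828bb7ea1c5dbf41e2edfa0d176fcc78bb7e6345dbf2162edf807176fb488bb7da2c5dbeb062edf511176fa878bb7d4245dbe8162edf389176f9858bb7c8345dbe0062edef8f176f7848bb7ba3c5dbdd1a2edee0b176f6c48bb7b4445dbda1e2eded07176f6828bb7b22c5dbd4222ede991176f4878bb7a40c5dbd1222ede889176f4048bb79c3c5dbce1a2ede60b176f2848bb790445dbc6062ede011176f0058bb77e445dbbd1e2edde8d176ef438bb77a145dbb71e2eddb8d176edc58bb76c245dbb5122edda09176ec858bb7622c5dbb1122edd50f176ea448bb7502c5dba71e2edd38d176e9c48bb74e1c5dba70a2edd183176e8058bb73c3c5db9e1a2edcf09176e7838bb73c145db9c122edcb8b176e4c58bb7242c5db910a2edc791176e3c78bb71e345db8f0e2edc785176e2418bb70e3c5db871a2edc383176e1448bb708345db840e2edc205176e0c48bb704345db81162edc00b176e0018bb6fe345db7e162edbf09176df488bb6fa345db7d0e2edbd8f176dec68bb6f2245db74162edba03176dcc58bb6e23c5db71162edb809176dbc48bb6dc445db6c122edb48b176d9c38bb6cc3c5db63122edb185176d8068bb6bc2c5db5e062edae89176d4c48bb6a43c5db50122eda78b176d3448bb6922c5db471e2eda307176d1828bb68a2c5db40062ed9d0f176ce468bb6700c5db37062ed9b11176cd058bb6642c5db31162ed960b176cb048bb6562c5db2a1e2ed9509176ca838bb654145db27122ed9211176c9058bb646445db231e2ed9187176c8c28bb6443c5db221a2ed910b176c8088bb63c1c5db1d162ed8e0f176c6848bb630445db181a2ed8c07176c6028bb62e245db16122ed8909176c404))) (BT.leaf (Bx.mk (nat_lit 0x8bbc16345de0a162ef038b17781448bbc0a0c5de03162eeff891777ec18bbbf02c5ddf50e2eef90b1777c448bbbe03c5ddef1e2eef78d1777bc48bbbdc345ddee162eef7091777b088bbbc8245dddd122eeed8917774428bbb8e2c5ddc3162eee1091776e458bbb702c5ddb6162eeda891776bc38bbb5c2c5ddae062eed6911776b458bbb58445ddab1e2eed58d1776ac38bbb56145dda61a2eed19117768c68bbb46245dda21a2eed10b17768048bbb3a2c5dd9d122eece8317766c68bbb361c5dd9b0a2eecc8f17766468bbb301c5dd980a2eecb8b17765838bbb2c145dd94122eeca0517764858bbb1e3c5dd8f1a2eec70f17762c58bbb102c5dd871e2eec38d17761c38bbb0a2c5dd84222eec20f17761068bbb081c5dd840a2eebd091775e488bbaf21c5dd77122eebb0b1775d488bbae8245dd72222eeb88f1775c468bbae21c5dd710a2eeb78f1775bc28bbada345dd6d0e2eeb58b1775a858bbad22c5dd681a2eeb4071775a028bbacc2c5dd66122eeb10d17758828bbac22c5dd600e2eeb00517757c78bbabc445dd5e1e2eeaf0517757048bbab63c5dd5b1a2eead8b17755c78bbaae345dd57162eeab0f17753448bba94345dd4a162eea30b17750458bba7c445dd3d222ee9d911774ec48bba74445dd39162ee9c051774dc18bba683c5dd341a2ee998b1774c478bba62345dd310e2ee980f1774c068bba602c5dd2e1e2ee970b1774b828bba58345dd2a1e2ee950d17749868bba442c5dd22122ee900f17747478bba382c5dd1b1a2ee8d8917746c38bba36145dd1a1e2ee8c8b17746418bba2c3c5dd141e2ee8a0d17744858bba240c5dd111a2ee888b17743868bba18345dd0c162ee858d17742058bba0a2c5dd02162ee80851773fc88bb9fe245dcfb162ee7b091773c048bb9da2c5dcec122ee76071773ac68bb9d4345dce61e2ee6c8917735c88bb9ae245dcd6122ee6a8b17734c58bb9a4245dcd1122ee680917734018bb99e0c5dcce222ee668f17733468bb99a2c5dcc9162ee638b17731848bb9882c5dcc3222ee611117730068bb97c0c5dcbd062ee5e091772dc18bb96a3c5dcb5062ee58091772b488bb95a245dcad0e2ee558d1772a858bb94e345dca7162ee530d17729858bb9480c5dca31e2ee518d17728c58bb9422c5dc9f162ee4e8b17727048bb932245dc99062ee4a8f17724c68bb91c0c5dc8a1e2ee450d17721078bb908345dc84162ee3c891771dc78bb8ee1c5dc770a2ee3a031771cc18bb8e42c5dc6e162ee368b1771ac58bb8d60c5dc6a222ee350b1771a84)))) (BT.node (nat_lit 743) (BT.leaf (Bx.mk (nat_lit 0x8bbefa345df7d162efbe0f177de878bbef22c5df781e2efbc0b177dd818bbeea245df74162efb987177dc888bbee43c5df711e2efb88d177dc458bbee02c5df700e2efb709177db078bbed6145df67122efb28f177d9458bbec42c5df62122efb009177d7488bbeba345df5d122efae87177d7428bbeb8445df5c1e2efae0d177d7048bbeb8145df5a162efac8b177d4c78bbea02c5df4b122efa40b177d1c78bbe8e345df45062efa20b177d0c78bbe86345df43122efa187177d0c28bbe82245df3f122ef9f09177cf458bbe7a245df3c1e2ef9d0f177ce868bbe722c5df36222ef998b177cc028bbe5e2c5df2b162ef948b177c9458bbe463c5df23062ef910b177c8058bbe3e445df1f1a2ef8e0f177c7028bbe2c3c5df161a2ef8a0d177c5048bbe242c5df11162ef870d177c3838bbe1a2c5df0b0e2ef8585177c2858bbe122c5df09062ef8407177c1c58bbe0c445df060a2ef828b177c1088bbe04245defe0a2ef780f177bc058bbdde445deee0e2ef760b177b9468bbdc63c5dee31a2ef7187177b8c28bbdc2345dee1162ef690b177b4018bbd903c5dec81a2ef6389177b1058bbd86445dec31e2ef618d177b0c38bbd86145dec21e2ef610d177b0018bbd7e2c5debf122ef5f11177af868bbd7c245debe0e2ef5f05177aec88bbd761c5deb9062ef598b177acc48bbd642c5deb11e2ef588d177ac438bbd62145deb0222ef580d177ac038bbd582c5deab162ef5511177aa858bbd52445dea81e2ef5407177a9c88bbd4e3c5dea7162ef530b177a9048bbd480c5dea3122ef5183177a8488bbd423c5dea0222ef4d0d177a6838bbd2c3c5de960e2ef4b05177a4078bbd1e245de8e122ef4707177a3828bbd082c5de80162ef40091779fc48bbcf8245de78162ef3b911779dc68bbcec2c5de75162ef3a0f1779c488bbcd00c5de67222ef338b17799c48bbcce0c5de66222ef330317799488bbcca3c5de65122ef320f17798c78bbcc6345de630a2ef300f17798068bbcc00c5de5b162ef2d0b17796478bbcb03c5de581a2ef2c0b17795c58bbca22c5de50162ef268b17793048bbc8c245de451e2ef220d17790c78bbc862c5de3a1e2ef1d0d1778e448bbc6e2c5de37062ef1b091778d438bbc683c5de330e2ef19031778c488bbc622c5de31122ef180b1778b478bbc5a345de2d162ef160b1778b018bbc562c5de2b122ef158317788c68bbc461c5de20222ef100f17788068bbc401c5de200a2ef0c8f17786468bbc322c5de16122ef0a8b17785058bbc262c5de11122ef070b1778345))) (BT.leaf (Bx.mk (nat_lit 0x8bc1ce0c5e0e40e2f0720517838c78bc1c6345e0e3162f0709117838478bc1c2345e0e1122f0708717838428bc1be2c5e0d7122f06b0517835058bc1a4245e0d11a2f0680b17833478bc19a345e0cd0e2f0668517833088bc1942c5e0ca0e2f0648b17832088bc1902c5e0c7062f0630d17831438bc18a145e0c4162f0618b17830c48bc184245e0c1122f05f0b1782f448bc178445e0bc1e2f05e0d1782f038bc178145e0b80a2f05b891782d458bc16a0c5e0b31a2f0590b1782bc58bc15c345e0ab162f0548b17829c48bc14c3c5e0a6162f0520b17828c58bc144445e0a1222f04f8917827068bc1342c5e0961a2f0488917823858bc11c0c5e08d1a2f0460b17822c18bc10e345e087122f0428917821048bc100245e07d062f03d8b1781e888bc0f22c5e0771e2f03b0d1781d858bc0ea2c5e073162f0390b1781c478bc0e2345e06e222f0370b1781b078bc0d8145e069122f0321117819078bc0c8345e064122f0320717819028bc0c6345e063162f0310917816058bc0b0245e057162f02a0f17815058bc0a6245e050162f0280917813478bc09a345e04d162f0260b17813048bc0943c5e04a1a2f0250b17811858bc08a3c5e0451a2f0228b17810878bc084345e0411e2f0208b1780ec78bc076345e03a1e2f01d091780e478bc0722c5e035222f01a0b1780cc68bc066245e0330a2f016891780ac78bc056245e02b0e2f015851780a878bc0542c5e029162f0140b17809878bc04c345e0251e2f0128b17809448bc0482c5e0221e2f0100f17808068bc03e445e01d222f00e8717807058bc0362c5e01a1a2f00c8d17806448bc02e2c5e016222f00b0f17805868bc02c1c5e0160a2f00a8517804c18bc020345e00e162f0070917802c78bc016145e00a222f0050917800c38bc004345e001162effe8f177fd458bbfe82c5dff3162eff90f177fa448bbfca245dfe1122efee83177f6c88bbfb0245dfd7222efeb8f177f5828bbfaa3c5dfd5122efea85177f3888bbf9c345dfce0e2efe689177f2c58bbf92445dfc91a2efe487177f2428bbf8a2c5dfc3162efde8b177ef058bbf760c5dfba1e2efdd0d177ee468bbf722c5dfb5222efda03177ecc58bbf66245dfb3062efd90f177ec868bbf62245dfb0162efd68f177eb448bbf5a1c5dfab162efd48f177ea468bbf50245dfa7162efd30b177e9438bbf460c5dfa2162efd08d177e8058bbf3e345df9d1a2efcd8f177e6c58bbf341c5df9a0a2efcc0f177e3c18bbf14445df89162efc483177e1058bbf062c5df821a2efbf0b177df81)))))) (BT.node (nat_lit 748) (BT.node (nat_lit 746) (BT.node (nat_lit 745) (BT.leaf (Bx.mk (nat_lit 0x8bc5180c5e28a1a2f1450b178a2058bc508345e284062f141891789fc88bc4fe245e27f0e2f13f091789bc58bc4c4345e262162f12f0317896878bc4b4345e257222f12b8f17895c68bc4ac3c5e255162f12a0317894868bc4a02c5e250062f1278f17893c58bc496245e249162f1241117892068bc490245e245162f11e111788f078bc478345e23c122f11d0b1788dc78bc468245e233162f119091788bc78bc45e145e22b162f1150d1788a448bc4502c5e228122f1138917889878bc44a2c5e223222f1118d17888878bc444345e2181e2f10b8917885878bc42c2c5e2151e2f10a8d17885458bc424245e212062f1088b17884058bc41c245e20d162f1060f17883038bc4162c5e20a162f1038b17881878bc40a2c5e201162f100071787fc58bc3fc3c5e1fe1a2f0fe8d1787f458bc3f03c5e1f4162f0fa091787cc18bc3e43c5e1f21a2f0f88f1787b858bc3d63c5e1ea1e2f0f50d1787a858bc3d03c5e1e8162f0f10f17878868bc3c41c5e1e20a2f0ef8b17875058bc39c3c5e1ca1e2f0e50317872448bc3920c5e1c7162f0e38317871858bc388445e1c41e2f0e20d17870458bc37e0c5e1bd162f0de0b1786ec78bc376345e1bb0e2f0dd851786e458bc36e445e1b71a2f0db871786dc28bc36a0c5e1b4222f0da0f1786d068bc368245e1b40e2f0da051786cc78bc366345e1b3162f0d70b1786b458bc3542c5e1a8162f0d40317869c48bc34a2c5e1a41e2f0d18f17868c58bc3442c5e1a1162f0d08317866c78bc336345e19b0a2f0cc8b17866448bc32e3c5e1971a2f0cb8517865858bc32a2c5e194162f0c99117864c78bc326245e18f1a2f0c78717863c28bc31c3c5e18a1e2f0c50d17862828bc3122c5e186162f0c20917860c78bc3043c5e1821a2f0c08d17860458bc3002c5e17f162f0be8b1785e468bc2f22c5e177162f0bb091785c878bc2e4345e172162f0b8091785bc88bc2d63c5e16a1a2f0b30d17859848bc2cc1c5e1660a2f0b28b17859058bc2c62c5e162162f0b08f17858418bc2c03c5e1601a2f0b00917857c68bc2be2c5e159122f0ab0f17855458bc2a43c5e14d1e2f0a60b17852818bc2920c5e1481e2f0a40917850858bc284245e1411e2f0a08917850428bc2803c5e1401a2f0a00b1784ec18bc2723c5e137122f09b111784d878bc26c345e1360e2f09b051784d058bc268245e133162f08a0f17845068bc2142c5e10a062f0840317841448bc200145e0ff162f07d091783e448bc1ee445e0f70a2f07b071783d458bc1e83c5e0f3122f0790b1783b84))) (BT.leaf (Bx.mk (nat_lit 0x8bc8082c5e4031e2f2008f17900468bc7fc3c5e3fe122f1ff05178ff478bc7fa345e3fd162f1fe09178fe488bc7f22c5e3f9122f1fc83178fe078bc7f0345e3f40a2f1f98d178fcc38bc7e4345e3f20e2f1f905178fc478bc7e0445e3f0122f1f807178fc028bc7dc345e3e91e2f1f48d178fa048bc7ce2c5e3e6122f1f305178f9058bc7c61c5e3e2062f1ef8d178f6c18bc7b4445e3d6162f1ea91178f5478bc7aa245e3d50a2f1ea0d178f5038bc7a62c5e3d11e2f1e88d178f3428bc7962c5e3ca122f1e411178f1c58bc78c2c5e3c5062f1e10b178f0458bc7802c5e3bd222f1de8d178ef448bc77a1c5e3bd0a2f1de0b178ed858bc76a2c5e3b31e2f1d98d178ec868bc7642c5e3b0222f1d80d178ec048bc75c2c5e3ad122f1d60b178eac58bc7540c5e3a8122f1d38f178e9c28bc74a2c5e3a4222f1d20d178e9038bc7443c5e3a1222f1d08f178e7478bc73a1c5e39b162f1cd83178e6858bc72e2c5e395162f1ca0f178e5038bc726145e38d222f1c687178e2048bc708245e381122f1be09178de058bc6e83c5e36f162f1b709178da078bc6d0345e365062f1b18f178d8c48bc6c61c5e3630a2f1b08f178d8468bc6bc245e35b062f1ac8f178d5868bc6ac2c5e354162f1a885178d3858bc6983c5e34c0e2f1a605178d2c58bc6942c5e349162f1a38b178d1458bc6843c5e3421a2f19f8b178cf888bc67c3c5e33d222f19d89178ce048bc6683c5e3341a2f19a07178cc838bc65e3c5e32f1a2f1978b178cbc18bc65a245e3241a2f1908b178c7c58bc62c145e3150a2f1890b178c4818bc6220c5e310222f18783178c3878bc61c345e30e122f18707178c3828bc6123c5e3091a2f18483178c2068bc60c2c5e304062f1818b178c0878bc604345e3020e2f18105178c0458bc6002c5e2ff1e2f17f8d178bfc38bc5fc145e2fd1e2f17987178bcc28bc5e4145e2f11e2f1788d178bbc68bc5da345e2ec1a2f1758b178ba468bc5d2245e2e90a2f1738d178b9448bc5c4445e2e11e2f1708d178b8448bc5c21c5e2df222f16f89178b7888bc5ba3c5e2da162f16c8b178b5c38bc5ae145e2d4122f16909178b4018bc59e445e2cf1e2f16789178b3c28bc59c2c5e2cc122f16503178b2458bc5920c5e2c81a2f1638b178b0078bc580345e2be1e2f15f09178af838bc57c145e2b9162f15983178abc48bc552445e2a7122f1528b178a8c58bc53c2c5e29d162f14e0b178a6878bc534345e298122f14a0b178a5018bc526345e293162f14905178a4038bc51e2c5e28e1a2f1468f178a344)))) (BT.node (nat_lit 747) (BT.leaf (Bx.mk (nat_lit 0x8bcaf23c5e5791a2f2bb911795dc48bcaea245e574122f2b9891795cc18bcae4345e5701e2f2b8051795b868bcadc1c5e56b162f2b5111795a838bcad4145e569162f2b28317959088bcac6445e563062f2b09117958448bcabe2c5e55d0e2f2ae0f17956468bcab2245e5590a2f2a90b17954478bca9c2c5e54c1e2f2a60d17953048bca981c5e54c0a2f2a58b17952478bca92345e549162f2a41117952048bca8e2c5e5451a2f2a19117950c58bca86245e543062f2a08b17950088bca7e245e539122f29c0f1794e048bca70145e536162f29a8f1794d078bca68345e532122f298891794bc48bca58245e528162f2928d17949048bca44345e5220a2f2900917947448bca322c5e517162f28b0917945418bca26345e512222f2890917943c88bca1e1c5e50e1e2f2870b17943478bca182c5e50a1a2f2848f17942078bca082c5e503122f2808f17940468bca02245e5010e2f2808517940058bca00245e4fa0a2f27b891793d458bc9e8445e4f41a2f27a091793d038bc9e8145e4f3162f2788317939858bc9ca2c5e4e2122f2700b17937c88bc9be345e4df122f26f8717937c28bc9bc2c5e4dc062f26d8f17936c38bc9b6145e4d8222f26c0b17935858bc9ac0c5e4d20e2f2690517933448bc9960c5e4c9222f2648b17932418bc98e345e4c6222f2630b17931848bc97c245e4bd162f25e091792e858bc9740c5e4b9222f25c831792d448bc9640c5e4b0222f258051792b858bc95c145e4ad062f2560b1792a858bc954245e4a91e2f2540b1792a048bc94e2c5e4a6222f2530f17929848bc94c1c5e4a60a2f2528f17928478bc942345e49f1a2f24e0f17927048bc9381c5e49c0a2f24d0717926078bc92e245e496162f2488917924048bc91c1c5e48e0a2f2468b17922c28bc9122c5e488162f2420d17920448bc9003c5e4801a2f23f8b1791f848bc8fc0c5e47c1e2f23b8d1791d458bc8e6345e473162f237831791a458bc8ca2c5e465062f2320317918c88bc8c62c5e460122f22f8f17917458bc8b62c5e45b122f22d0d17916458bc8aa2c5e440122f21f8b1790f848bc8740c5e438162f21b911790d858bc86a445e4350e2f219911790c818bc862445e431122f218111790c048bc856245e42a162f2148f1790a458bc84c345e423162f2110917908818bc8423c5e421162f2100717907058bc836445e41a222f20c8317906048bc82e445e417122f20b0717905058bc822445e4111e2f2088917904088bc820345e40a222f2038917901888bc80c345e406122f203071790182))) (BT.leaf (Bx.mk (nat_lit 0x8bcd9c2c5e6c71e2f36309179b1818bcd8a2c5e6c41a2f3618b179b0c48bcd842c5e6c11e2f3608d179b0448bcd821c5e6c10a2f36003179afc58bcd7c0c5e6bd1e2f35e8d179af058bcd78245e6bb222f35d8f179ae888bcd741c5e6b61e2f35b0d179ad858bcd68445e6b2162f3578b179ab458bcd542c5e6a9122f35303179a7858bcd3c245e69b0a2f34c8f179a6048bcd2a3c5e6951a2f3488b179a3c58bcd18445e68c062f34591179a2488bcd10445e6881a2f34409179a0848bcd022c5e676162f33a871799d428bcce83c5e6741a2f3390b1799c818bcce2245e6700a2f3378b1799b458bccd82c5e66c122f3340f1799a068bccce445e667122f3331117999878bcccc245e6651e2f3328517999078bccc8345e664162f3310f17998868bccc42c5e661122f32f0917997828bccb83c5e65c162f32c8b17995868bccac2c5e654122f3298917994c38bcc9e3c5e64f1a2f3278b17993878bcc9c345e64d122f3258f17992848bcc8e445e646122f3230317991088bcc88245e644062f3210f1798fc88bcc7e2c5e63e222f31e8b1798f088bcc782c5e63b062f31a831798d048bcc642c5e631122f3180d1798c038bcc60145e62e122f315091798a438bcc52145e628162f3138b17989c48bcc4a245e620222f30f8717987488bcc3a2c5e61c222f30d8f17986c38bcc36145e61a1e2f30d0d17986478bcc30245e6171e2f30b8d17984858bcc1e2c5e60f122f3071117983878bcc1c345e60e122f3070717983828bcc122c5e609122f3048317982068bcc0e3c5e6071a2f3038b17981418bcc063c5e6031a2f3018b17980448bcc021c5e5ff122f2ff0b1797f488bcbfa245e5fb162f2fc8f1797e458bcbf21c5e5f90a2f2fb091797c028bcbda445e5ed122f2f6111797ac88bcbd6345e5e9162f2f40917979868bcbc82c5e5e3162f2f18317978828bcbc22c5e5e0222f2f00917977c18bcbba3c5e5dd1a2f2ee8917977438bcbba145e5d81e2f2eb0917975818bcba62c5e5d2162f2e70917973438bcb9a145e5cc1e2f2e60d17973058bcb96145e5c9122f2e40b17971858bcb8a445e5c51e2f2e28d17971428bcb863c5e5c31a2f2e08b17970418bcb802c5e5c0062f2df8f1796f868bcb7a345e5ba122f2db8f1796dc68bcb64445e5b21a2f2d78b1796a858bcb52245e5a7162f2d38917968458bcb400c5e59e222f2cf0f17967868bcb363c5e59b1a2f2cd8917966c38bcb36145e599162f2cc8317965878bcb2c345e596162f2ca0b17964c48bcb242c5e591122f2c28b1796041))))) (BT.node (nat_lit 750) (BT.node (nat_lit 749) (BT.leaf (Bx.mk (nat_lit 0x8bd026245e8130a2f4081117a04068bd020245e8100e2f4068517a03088bd010245e8080e2f4028b17a01028bcffe345e7fd222f3fe8f179ff468bcfea2c5e7ec122f3f48d179fa078bcfce445e7e7122f3f385179f9858bcfc82c5e7e31e2f3f18d179f8c58bcfba1c5e7d7162f3e88f179f4438bcfa2145e7cd162f3e689179f3058bcf98245e7cb0a2f3e48d179f2438bcf92145e7c81e2f3e40d179f1448bcf802c5e7c0062f3df91179ef888bcf78345e7b5162f3da0d179ecc68bcf600c5e7ae162f3d607179e9c78bcf4e345e7a7062f3d309179e9448bcf48445e7a41a2f3d205179e8858bcf440c5e7a11e2f3d08b179e8088bcf403c5e79e222f3ce8d179e7058bcf36245e799062f3cc09179e5c48bcf2a3c5e7951a2f3ca83179e4c78bcf26345e793122f3c987179e3028bcf162c5e788162f3c30f179e1458bcf06445e7830a2f3c08b179dfc58bceee1c5e776122f3ba0f179dd058bcee6445e7731a2f3b987179dcc28bcede3c5e76f162f3b58b179d8c48bcec42c5e760162f3ae8f179d7468bceba2c5e75b062f3ad0f179d6868bceb4245e75a0e2f3ad05179d6058bceae445e7571a2f3ab87179d4848bce9c2c5e74b1e2f3a58d179d2c58bce94245e749122f3a409179d1058bce86245e741222f3a08f179d0468bce82245e7410e2f39f09179cf478bce7a345e73d162f39d0f179cc858bce64245e731222f3980f179cc068bce5e445e72d122f3960f179cb068bce58245e72c0e2f39605179cac48bce543c5e72a0e2f39505179ca488bce4e2c5e7261e2f39189179c8488bce422c5e721122f3900f179c8068bce40245e7200a2f38f8f179c7c68bce3e1c5e71f0a2f38f0f179c7868bce3a3c5e71d1a2f38e87179c7428bce38345e71c162f38c91179c6058bce2e2c5e716222f38a11179c5058bce200c5e70f122f38783179c3468bce18345e70b162f3840b179c1858bce0c245e7051e2f3820f179c1068bce06345e7021a2f37f0f179bf868bcdfa3c5e6fd1a2f37e89179bf428bcdf83c5e6fc1a2f37d0b179be848bcdf22c5e6f8222f37b0f179bd868bcde83c5e6f41a2f37a03179bcc88bcde6245e6f2222f37909179bc458bcde02c5e6f0122f37791179bbc68bcdde245e6ef0e2f37785179ba848bcdd03c5e6e81a2f37391179b9068bcdc8245e6e2122f37089179b7858bcdb82c5e6db162f36d89179b6858bcdb0445e6d8122f36b91179b5858bcdac245e6d6062f36a83179b5068bcda60c5e6d2122f3688f179b4468bcda02c5e6d0062f36791179b3c2))) (BT.leaf (Bx.mk (nat_lit 0x8bd33c245e99b162f4cd0d17a66058bd330245e9971e2f4cb8917a65c38bd32e145e991162f4c80317a63c68bd31a245e98d0a2f4c60b17a63048bd3142c5e9860a2f4c28b17a60c78bd2f6345e970222f4b70f17a5b868bd2d83c5e96c1a2f4b58b17a5a458bd2ce3c5e9671a2f4b38b17a59848bd2c8245e960222f4af8917a55c78bd2ac245e9551e2f4aa8d17a55458bd2a23c5e94f222f4a58917a52828bd2922c5e9481e2f4a18b17a50858bd2823c5e9411a2f4a08b17a50078bd2802c5e93f162f49f1117a4f848bd27a0c5e93c222f49c0917a4e018bd26e3c5e9361e2f49b0d17a4d478bd26a245e9331a2f4998717a4cc28bd25c3c5e92d122f4960b17a4a488bd2520c5e925162f4910b17a48478bd238445e91c1e2f48e0717a47028bd2362c5e919162f48b8b17a45838bd2282c5e914122f48a0317a44448bd220245e9100e2f4880517a43c78bd21e2c5e90d1a2f4860f17a43058bd216245e8fd1e2f47e8d17a3e058bd1e83c5e8f41a2f4798f17a3c088bd1de345e8ef162f4770b17a3b458bd1d6345e8e9162f4741117a3a058bd1cc2c5e8e51e2f4728717a39428bd1c80c5e8e3162f4708f17a37c48bd1be145e8dd162f46e0b17a36c68bd1b43c5e8da162f46d0917a36478bd1b2345e8d3162f4690317a34458bd1a2245e8d0162f4678b17a33868bd1982c5e8cb162f4651117a32878bd1942c5e8c9222f4648f17a32088bd190345e8c80e2f4638f17a31c58bd18a0c5e8c41e2f4620d17a2fc58bd16e245e8b6122f4590917a2c478bd162345e8b10e2f4588517a29458bd14a0c5e8a40e2f4520517a28c58bd144245e89d222f44e0917a26c58bd1342c5e898162f4470b17a23448bd11a145e88c1e2f4450917a21018bd1062c5e882162f4408917a20078bd1001c5e8800a2f43f8f17a1fc68bd0fa1c5e87b1e2f43d8d17a1ec38bd0f6145e879162f43c0317a1d878bd0ea2c5e8740a2f4398f17a1c048bd0de245e86c062f4350d17a1a848bd0d2145e867162f4320f17a18c58bd0c2245e8610a2f42f0f17a17458bd0b6145e854162f42a0917a14c78bd0a6145e850162f4280717a13878bd09a3c5e84b1a2f4258717a11088bd088345e8440e2f4210917a10458bd080245e83c062f41c8d17a0d448bd068245e8321e2f4190d17a0c848bd0641c5e8320a2f4180b17a0bc88bd05e1c5e82e162f4170317a0b478bd05a0c5e82c122f4150d17a0a828bd052345e829162f4130b17a09058bd0462c5e81e122f40e1117a07048bd0342c5e819162f40b8917a0587)))) (BT.node (nat_lit 751) (BT.leaf (Bx.mk (nat_lit 0x8bd692245eb481a2f5a28717ad0858bd6782c5eb391a2f59c8917ace078bd6702c5eb2b162f5940b17ac9078bd6462c5eb21062f58f8b17ac7c48bd63a145eb1c162f58c8d17ac6068bd6301c5eb180a2f58b0b17ac5458bd62a245eb131e2f5898d17ac4c58bd624345eb12162f5860b17ac2048bd60e3c5eb061a2f5830b17ac1458bd608245eb021e2f5810517abf858bd5fa445eaf71e2f57a8f17abd428bd5dc3c5eaee1a2f5770717abb828bd5ce445eae7122f5731117ab9488bd5ca3c5eadf162f56f0b17ab6848bd5ae2c5ead6162f56a8b17ab4c38bd5a6145eace222f5670f17ab3868bd59c245eace0e2f5670517ab3078bd5982c5eacb1e2f5638917ab1848bd58a245eac2122f5608f17ab0468bd5822c5eabc122f55b8917aad058bd566345eab1222f5579117aa9c48bd548345eaa40e2f5520517aa8888bd544245eaa20a2f5501117aa7888bd53c3c5ea9e122f54f0517aa6c58bd5302c5ea971e2f54a8b17aa4858bd5202c5ea8f162f5460b17aa2c88bd5161c5ea83162f5418917aa0858bd504245ea811e2f53f8b17a9fc48bd4fc0c5ea7d1a2f53d9117a9ec58bd4f6245ea791e2f53c8b17a9e078bd4ec3c5ea761a2f53b0717a9d828bd4ea2c5ea70162f5360917a9a448bd4d02c5ea66122f5328917a98c58bd4c02c5ea5c162f52c8f17a95858bd49e245ea4e1e2f5270d17a93478bd4983c5ea4c0a2f5238b17a90858bd4802c5ea3c222f51e0917a8ec88bd476245ea3a222f51c0f17a8d818bd458345ea2c0e2f5160517a8ac58bd4542c5ea29162f5148317a8a048bd44e3c5ea271a2f5128917a89048bd440445ea1e1e2f50f0d17a86c88bd436245ea18162f50b8b17a85028bd422245ea100a2f5068b17a83028bd4163c5ea0b1a2f5038d17a80818bd402445ea01162f5000b17a7fc88bd3f42c5e9fa122f4fc0f17a7dc78bd3ee345e9f5162f4f90f17a7b878bd3d82c5e9ea222f4f50d17a78448bd3ba345e9dd0e2f4ee0717a77028bd3b43c5e9da1a2f4ec0917a75848bd3aa1c5e9d41e2f4e98317a74848bd3a41c5e9ce162f4e59117a72c78bd396345e9cb0e2f4e58517a72878bd394345e9ca162f4e48d17a71438bd3882c5e9c21a2f4df0f17a6f868bd37c0c5e9bb1e2f4dd0917a6e448bd36c245e9b2222f4d88917a6c068bd35e445e9af1a2f4d78717a6b448bd3583c5e9ac1a2f4d50917a6a458bd3520c5e9a8222f4d40f17a6a068bd350245e9a80e2f4d40517a69c58bd3482c5e9a11a2f4d08717a68428bd33e445e99f162f4cf8917a6788))) (BT.leaf (Bx.mk (nat_lit 0x8bd9c22c5ece0222f66f8f17b37c68bd9be1c5ecdf0a2f66f0f17b37858bd9b8245ecdc062f66d0d17b36858bd9b23c5ecd91a2f66c1117b36078bd9b0345ecd8122f66a8b17b35078bd9a8345ecd3222f6688b17b34088bd99e0c5ecce222f6649117b32088bd98e1c5ecc70a2f6620f17b31068bd9863c5ecc3162f6610d17b30858bd9820c5ecbf162f65f8317b2f048bd9582c5ecaa062f6549117b2a478bd952245eca8222f6540d17b29c78bd94c3c5eca61a2f6520b17b27c68bd93e1c5ec9f0a2f64c8517b25458bd9280c5ec931e2f6490d17b24448bd9203c5ec90162f6478517b23838bd916245ec81122f63f0b17b1f448bd8f42c5ec79222f63c8f17b1e468bd8f2245ec790e2f63c8517b1dc78bd8ea3c5ec751a2f63a0f17b1d068bd8d0245ec67162f6330d17b19848bd8cc1c5ec64122f6300d17b17c68bd8ba3c5ec5d162f62b8f17b15c38bd8ac2c5ec52062f6269117b13458bd89a245ec4d062f6261117b12488bd890445ec48062f6230f17b11868bd88a345ec44122f61f0d17b0f858bd87a3c5ec351e2f61a8d17b0b858bd85a245ec2c162f6140f17b09c78bd84e2c5ec1f222f60f8f17b07c28bd8363c5ec1a122f60b8d17b05448bd82a0c5ec141e2f60a0d17b04c68bd8243c5ec121a2f6080917b03858bd81a3c5ec0d1a2f6058f17b02c68bd8160c5ec08122f6030f17b01868bd80c245ec060e2f6030517b01458bd8083c5ec04162f6000f17aff848bd7f2245ebf8162f5fb8b17afd818bd7e8245ebf31e2f5f98b17afc058bd7e0245ebef1e2f5f70b17afac78bd7d6345ebea162f5f48b17af9858bd7ca3c5ebe31a2f5f18917af8058bd7c0245ebdd1e2f5ec8b17af6418bd7ae1c5ebd5222f5ea8b17af5018bd7a6445ebd31e2f5e98917af4888bd7a4245ebcf122f5e70717af2818bd790245ebc8062f5e38917af1c18bd78a0c5ebc4222f5e20b17af1048bd7880c5ebc3222f5e18317af0088bd780345ebbd222f5de8b17aef418bd778445ebbc0e2f5dd8b17aee468bd770345ebb8122f5dc0717aee028bd76c3c5ebb61a2f5db0b17aed468bd76a2c5ebb4062f5d80917aea428bd74c2c5eba0122f5ce8517ae7058bd71c145eb8d222f5c59117ae2c58bd712445eb891e2f5c41117ae1c78bd70e345eb861e2f5c30917ae1828bd7082c5eb831e2f5c18517adec58bd6f4145eb781e2f5bb1117add848bd6e83c5eb70222f5b61117adac58bd6d2445eb680e2f5b40517ad9468bd6ca1c5eb60122f5ad8f17ad4858bd6a4245eb4c162f5a58d17ad2c5))))))) (BT.node (nat_lit 760) (BT.node (nat_lit 756) (BT.node (nat_lit 754) (BT.node (nat_lit 753) (BT.leaf (Bx.mk (nat_lit 0x8bdc3e445ee1e162f70f0917b86c58bdc36245ee1a222f70d0d17b86838bdc34145ee19162f70c0b17b85c48bdc242c5ee0d0e2f7068517b83058bdc162c5ee09162f7039117b81c78bdc0e245ee070a2f7028b17b80c58bdc023c5ee011a2f7008717b7fc18bdbfc445edfe1e2f6ff0d17b7f838bdbfa245edfc162f6fc8f17b7e058bdbec2c5edf6122f6fa8f17b7cc58bdbe42c5edf10a2f6f80b17b7bc48bdbd62c5edea122f6f38b17b79468bdbc8345ede10e2f6ef8b17b77878bdbbc345edde0e2f6ee8f17b77468bdbb2245edd81e2f6ec0d17b75c78bdbac2c5edd5222f6ea8f17b75468bdbaa1c5edd50a2f6e98b17b74888bdba43c5edd20a2f6e71117b73868bdb9c1c5edcd1a2f6e58b17b72478bdb92345edc7162f6e30f17b71478bdb88245edc2222f6e10f17b70868bdb84245edc20a2f6e08f17b6f848bdb763c5edbb1a2f6dd8717b6ec28bdb74345edba0e2f6dc0317b6dc48bdb6e1c5edb70a2f6db0d17b6d858bdb6a2c5edb31e2f6d98d17b6c458bdb60345edb0162f6d71117b6b838bdb5c145edac122f6d50f17b6a848bdb541c5eda41e2f6d20d17b68858bdb42445eda11a2f6d08917b68438bdb3e2c5ed9e1e2f6cf0d17b67848bdb3c1c5ed9e0a2f6cd0917b64468bdb202c5ed8f122f6c70d17b62858bdb122c5ed871a2f6c38b17b61088bdb063c5ed83162f6be8917b5f038bdaf2245ed77062f6bb0f17b5d838bdaec145ed75122f6b98b17b5c858bdae2145ed700e2f6b78b17b5bc48bdadc0c5ed6d062f6b60b17b5ac88bdad60c5ed69222f6b40d17b5a038bdace345ed670a2f6b08f17b58458bdabe3c5ed5f062f6ae8b17b57048bdab62c5ed54222f6aa0917b54c58bdaa23c5ed511a2f6a70917b53078bda98345ed4b1e2f6a58d17b52c58bda8e2c5ed46122f6a29117b50048bda7e345ed3e162f69e8917b4e858bda72445ed391e2f69c8517b4e068bda701c5ed35222f69a8f17b4d468bda5e245ed2e1e2f6970d17b4b048bda522c5ed271e2f6938d17b49c38bda46245ed21122f68f8917b47078bda38145ed1b062f68b8f17b45848bda2a245ed13122f6880917b43858bda1a0c5ed0c162f6860317b42c88bda0c0c5ed03222f6800b17b3fc38bd9fc2c5ecfd122f67d0317b3e488bd9f2345ecf8222f67c0d17b3e058bd9ea245ecf4162f67a0917b3d018bd9e43c5ecf21a2f6788d17b3c088bd9e0245ecf00a2f6778f17b3bc68bd9de2c5ecee162f6770917b3b038bd9d63c5eceb1a2f6758317b3a858bd9d02c5ece71e2f6730d17b3904))) (BT.leaf (Bx.mk (nat_lit 0x8bdf50145efa11a2f7cf8f17be7c68bdf3e0c5ef9e122f7ce1117be7068bdf38245ef9c0e2f7ce0517be6858bdf2a445ef941e2f7ca0d17be4878bdf24345ef91062f7c70d17be3858bdf160c5ef881a2f7c40b17be1848bdf022c5ef801e2f7c00d17be0028bdefc2c5ef7e122f7be0f17bde848bdee8245ef73062f7b90f17bdc868bdedc0c5ef6c1e2f7b60d17bdb058bdece2c5ef67062f7b30f17bd9868bdecc1c5ef660a2f7b28f17bd9458bdec4245ef61162f7af0b17bd7488bdeb83c5ef5c1a2f7ae0b17bd6878bdeb42c5ef5a062f7ac8917bd6088bdeb0345ef52222f7a90f17bd4468bdea0245ef4c222f7a60317bd2058bde88245ef440e2f7a20517bd0c78bde822c5ef3e1e2f79b8917bcd858bde68145ef33162f7988917bcbc68bde5a245ef2a122f7948b17bca088bde4c2c5ef25062f7918517bc7448bde2c245ef150e2f78a8517bc4478bde222c5ef0e222f7869117bc3448bde18345ef0c062f7859117bc2888bde102c5ef08062f7838f17bc1868bde0c2c5ef02162f77f8b17bbf458bddf83c5eefa162f77c8517bbe058bddec345eef5162f77a0f17bbd068bddd83c5eee90e2f7731117bb9448bddc83c5eee41a2f7720b17bb8c48bddc42c5eee0162f76f0917bb7478bddba345eeda162f76c8b17bb5848bdda03c5eed01a2f7680917bb4028bdd9e3c5eecf162f7650b17bb1458bdd800c5eebe062f75e8b17baf448bdd7a0c5eebb1e2f75d8d17baec58bdd743c5eeba162f75c8d17bad858bdd6a2c5eeb3222f7591117bac468bdd62145eeb01e2f7580d17bab458bdd5a0c5eeac122f7548917baa058bdd4c245eea5122f7518f17ba8c58bdd443c5eea21a2f7500917ba7848bdd382c5ee9b122f74c8917ba6078bdd30345ee98162f74b0d17ba5858bdd243c5ee92162f7488917ba4058bdd200c5ee8f122f7470f17ba3838bdd122c5ee86162f7420d17ba0c78bdd04345ee81162f7408917ba0068bdcfe3c5ee7f1a2f73f0917b9f018bdcf02c5ee76122f7310917b97888bdcbc245ee5e0e2f72e0b17b96c58bdcb42c5ee57122f72b0917b95448bdca82c5ee52122f7288917b93c68bdc9a245ee4a062f7238f17b91c68bdc8c3c5ee451e2f7228d17b91458bdc88245ee431e2f7218d17b90c58bdc842c5ee42122f7200b17b8f888bdc7c345ee3e0e2f71f0517b8f458bdc6e445ee371a2f71b8917b8dc38bdc683c5ee341a2f71a0917b8d038bdc68145ee30122f7160317b8ac58bdc52245ee290a2f7140f17b89848bdc4a3c5ee251a2f7128317b8904)))) (BT.node (nat_lit 755) (BT.leaf (Bx.mk (nat_lit 0x8be276245f13a122f89c8917c4e078be270345f138162f8950517c4a438be24e245f126162f8928b17c49088be2483c5f1241a2f8920517c48878be2422c5f120122f88f0b17c47478be23a145f11c1e2f88e0d17c46c88be236345f11a1e2f88d0d17c45858be2102c5f1041e2f8820d17c41048be2081c5f1040a2f8818917c40458be202245f100122f87f1117c3f468be1fa0c5f0fc1e2f87e0917c3d878be1e62c5f0f2122f8780b17c3b058be1d60c5f0ea1a2f8738317c39048be1c43c5f0e2122f8710717c38078be1be245f0de162f86d0917c34c28be1a42c5f0d01a2f8680717c33c58be19c2c5f0c8122f8630917c31078be1862c5f0bf1e2f85c8b17c2e068be16e345f0b7122f85b8717c2dc28be164345f0b1162f8579117c2bc78be15e145f0ae1e2f8570b17c2a858be154245f0a60e2f8518b17c28078be140345f09f122f84f0917c27468be13a2c5f0991e2f84c0317c25c58be118245f089122f8440b17c21018be1043c5f0821a2f83f0917c1ec48be0ec2c5f0751e2f83a8b17c1c858be0d0245f0661e2f8320317c18c88be0c4445f060222f82f8d17c16858be0b0145f0571e2f82b8d17c15c58be0ac345f055162f82a0f17c15068be0a42c5f0510a2f8278d17c13c58be09a245f048162f8230d17c10448be0802c5f03f162f81f0f17c0f868be07a245f03c1e2f81e0d17c0dc58be068245f0331e2f8198d17c0cc18be05e3c5f02e1a2f8158b17c0ac18be0543c5f02a1a2f8150b17c0a428be04c445f026162f8130917c09088be0483c5f024122f8119117c08c48be0442c5f021162f8100917c07878be03c245f01e0e2f80f0517c05838be02c145f0151e2f80a8d17c04c78be024245f011222f8088717c04428be01e3c5f00f0e2f8078517c03458be0162c5f00a162f8040b17c01858be00c0c5f004222f8020317c00418bdffe445efff062f7ff1117bff488bdff0245eff71a2f7fb0917bfcc88bdfe6145eff1162f7f80b17bfb868bdfdc145efed0a2f7f50917bfa038bdfcc445efe5222f7f21117bf9078bdfc82c5efe31e2f7f18d17bf8838bdfbe445efdf1e2f7ef8d17bf7c38bdfbe145efdd1e2f7ec0b17bf5c48bdfa2345efd10e2f7e88517bf3c58bdf9c345efcb162f7e48d17bf2078bdf8c145efc4162f7e18f17bf0858bdf82345efc01e2f7df8b17bef818bdf782c5efbb162f7dc8f17bee468bdf6e3c5efb6162f7db0317bed438bdf662c5efb11a2f7d80b17bebc48bdf5c345efab122f7d50d17bea848bdf522c5efa81e2f7d40917bea03))) (BT.leaf (Bx.mk (nat_lit 0x8be4ae345f2570e2f92b8517c95458be4a03c5f2501a2f9280917c94038be4a0145f24f122f9270917c93468be49a245f24d0e2f9260d17c93048be4981c5f24b0e2f9258517c92858be48c2c5f2451a2f9220b17c90888be482145f23b1e2f91d8d17c8e858be4723c5f2391a2f91c0917c8dc58be466245f230122f9170f17c8b868be456345f228162f9130b17c89458be4483c5f2241a2f9120b17c89018be446245f221162f9101117c88048be43e3c5f21c122f90d0d17c86478be430245f2151e2f90a8d17c85048be4261c5f212062f9081117c84018be41e3c5f20f1a2f9071117c83868be41c245f20c1a2f9060b17c82c48be40a3c5f205062f9020917c80c48be402445f1ff062f8fd9117c7ec48be3f43c5f1fa1a2f8fd0717c7e828be3f2445f1f91a2f8fc8717c7dc48be3ea445f1f51a2f8fa8917c7d068be3e82c5f1f2162f8f89117c7c478be3e2345f1f1122f8f88517c7c048be3de245f1ed1a2f8f48f17c7a458be3d03c5f1e81a2f8f38b17c79c48be3ca2c5f1e5122f8f20f17c79068be3c8245f1e40e2f8f08b17c78058be3ba0c5f1db122f8ec0f17c76068be3ae3c5f1d71a2f8eb0d17c73848be39a3c5f1cd1a2f8e60917c72c58be3922c5f1c9062f8e38f17c71c68be38e245f1c70e2f8e38517c71818be38a2c5f1c4222f8e20f17c71068be3881c5f1c40a2f8e18f17c70c68be3862c5f1c0222f8de8317c6f088be3780c5f1ba1e2f8dc9117c6e478be370445f1b81a2f8db1117c6c818be360345f1ad122f8d50f17c6a848be3522c5f1a81a2f8d40917c6a038be350145f1a41e2f8d20d17c68c28be33e2c5f19f122f8ce8b17c66c78be336245f19b0e2f8cd0b17c66818be3323c5f198062f8cb9117c65888be32a3c5f1951a2f8ca8317c65088be328345f194122f8c99117c64c68be326245f18f222f8c78917c63458be31a245f18a1e2f8c50917c61c78be3063c5f1831a2f8c18917c60c28be2fe3c5f17f1a2f8be8d17c5f458be2f6345f17b122f8bd8717c5ec28be2f4245f1781e2f8bc0d17c5dc58be2ec2c5f176122f8b98917c5c048be2de245f16c222f8b60d17c5b028be2d6245f168222f8b40f17c5a028be2ce445f1671a2f8b38717c59c28be2cc2c5f163062f8b09117c58458be2c20c5f15f1a2f8af0b17c57848be2b8245f15c0a2f8ad8b17c56858be2a82c5f154122f8a99117c54c68be2a6245f1530e2f8a81117c54058be29e3c5f14f162f8a68917c53418be2983c5f14c162f8a38b17c51858be28a3c5f145122f8a20f17c4f86))))) (BT.node (nat_lit 758) (BT.node (nat_lit 757) (BT.leaf (Bx.mk (nat_lit 0x8be7583c5f3aa1a2f9d38517ce9868be74c1c5f3a21e2f9ce9117ce7048be738145f39b1e2f9cc8917ce6438be732145f3971a2f9cb0917ce3448be71a1c5f38d0a2f9c60717ce2c78be712345f387162f9c20917ce0c48be704245f3820e2f9c10517cdf878be6fc345f37d1e2f9bd8b17cdec48be6f4145f3791a2f9bc0d17cddc48be6e02c5f36d1e2f9b68d17cdb458be6da0c5f365162f9b28317cd9018be6c22c5f35b1a2f9ac8917cd5c58be6ac3c5f3561a2f9aa0b17cd4c88be6a6345f3530e2f9a98517cd4458be69e3c5f34d0e2f9a59117cd2868be6923c5f349122f9a38317cd1848be688245f341162f9a00317ccf458be6780c5f33b062f99d1117cce818be6702c5f32f1e2f9978d17ccb038be656245f32a1e2f9950b17cca488be652345f329122f9938d17cc9c58be646245f3221e2f9910d17cc8458be640245f31d0a2f98e0d17cc6878be634345f31a162f98c8b17cc5858be628345f314162f9878d17cc3c58be61e0c5f30c162f9860917cc2c68be6143c5f301122f9800717cbfc58be5fc245f2fc222f97c0f17cbe018be5ec2c5f2f2162f9780f17cbbc68be5da345f2ec162f9760317cbac58be5d6245f2ea122f9748f17cba458be5ca2c5f2e3162f9710b17cb8418be5c0145f2de062f96d8b17cb6c48be5b23c5f2d9122f96c0f17cb6068be5b02c5f2d6122f96a0917cb4868be5a42c5f2cd222f9668917cb3438be5982c5f2c8162f9638917cb1858be5843c5f2c21a2f9608f17cb0468be57c3c5f2bd222f95e8917caf428be5783c5f2bc1a2f95d8b17caec48be5743c5f2b8122f9598b17cacc48be5623c5f2b1122f9578d17cab858be55c245f2ac1e2f9550f17caa868be552245f2a8122f9520f17ca8448be52e2c5f296222f94b0317ca5048be5281c5f2940a2f9490b17ca4848be5223c5f2911a2f9488917ca4438be522145f28e1e2f9470d17ca3018be512245f288122f9438f17ca1c68be50c245f2851e2f9428d17ca1448be50a1c5f2850a2f9420717ca0878be504145f281162f93f8b17c9fc48be4fc2c5f27d1e2f93e8d17c9f418be4f8245f27b162f93c0f17c9e048be4f01c5f2780a2f93b8717c9d488be4ea245f2741e2f93a0d17c9d058be4e6245f270162f9379117c9bc38be4da245f26c1e2f9339117c99c58be4ce245f2661a2f9330717c99828be4ca445f2651e2f9328517c98848be4c2245f260122f92f8b17c97888be4bc2c5f25d122f92e8717c97428be4b82c5f25b122f92d0917c96838be4b4145f2591e2f92c0917c95c7))) (BT.leaf (Bx.mk (nat_lit 0x8bea5e245f52d1e2fa968d17d4b048bea542c5f5291a2fa940d17d4a058bea3a445f51c162fa8e0917d46c38bea2e245f516162fa8a0517d43c58bea1c3c5f505222fa820b17d3fc88be9fc445f4fd1e2fa7e8d17d3f438be9fa145f4f9122fa7c0d17d3d868be9e81c5f4f40a2fa751117d3a488be9d22c5f4e8222fa740d17d39c88be9ce2c5f4e60e2fa730517d39468be9c82c5f4e30e2fa6e0717d36c78be9ae245f4d6162fa6a8f17d35438be9aa145f4d3122fa691117d34828be9a02c5f4cf1a2fa670917d33478be99a245f4cb122fa628d17d2e858be974245f4b7122fa5b0f17d2d868be96c2c5f4b1162fa588917d2c058be95c245f4ad162fa550317d2a478be952345f4a90e2fa500917d27078be938345f49c0a2fa4a8d17d25438be9283c5f4941a2fa498d17d24c48be9261c5f491062fa470b17d23068be916445f486062fa419117d20428be9000c5f47e0e2fa3e8b17d1f058be8f63c5f47b1a2fa3b8517d1d818be8ea2c5f475122fa3a0d17d1d038be8e23c5f4711a2fa368f17d1b468be8d8245f46a1e2fa350517d19c88be8ce1c5f4670a2fa330d17d19858be8ca2c5f465122fa320b17d19048be8c8145f463162fa318317d18478be8c03c5f4601a2fa300517d17488be8b82c5f4591e2fa2c8317d15878be8a42c5f451222fa288b17d14418be8a03c5f4501a2fa279117d13088be8982c5f44c122fa259117d12878be894345f449222fa241117d11c58be88c245f4451a2fa228917d11438be88a145f444122fa210f17d10838be884145f4410e2fa1f0b17d0f458be8722c5f436222fa1a9117d0c888be8643c5f431162fa170317d0b478be85a345f42c1a2fa160917d0a848be850245f4241e2fa110917d07c18be83a245f41c222fa0e0917d06448be82e245f416122fa0b0717d04868be8241c5f4111e2fa088b17d04048be81e245f40d122fa060b17d03048be816245f408162fa040917d01c78be80e345f4061e2fa030517d00c48be8022c5f401062fa000d17cffc68be7fe145f3fb122f9fc8f17cfe048be7ec2c5f3f41e2f9fa0717cfac18be7d4245f3e8162f9f38f17cf9c68be7ca2c5f3e4062f9f08f17cf8468be7c0245f3dc222f9ee0b17cf6878be7b4345f3da0e2f9eb0b17cf4c58be7a4145f3d11a2f9e80917cf3828be796245f3c4162f9e20917cf0c78be7861c5f3c30a2f9e10f17cf0868be782445f3c11e2f9e08917cf0058be77a445f3bc162f9dc0317ced458be764345f3b2162f9d88b17cec068be75e445f3af1e2f9d78517ceb85)))) (BT.node (nat_lit 759) (BT.leaf (Bx.mk (nat_lit 0x8bed5e3c5f6af1a2fb570f17daac78bed56345f6ab062fb549117daa478bed52345f6a90e2fb548517daa058bed4a345f6a5162fb520d17da7858bed3a2c5f698122fb4b8f17da5c68bed2e1c5f690222fb480917da4018bed1e445f68f062fb469117da3088bed141c5f689162fb430917da1048bed02445f680122fb3f8917d9f878becfc145f67a062fb3c8917d9d818bece82c5f6731e2fb398d17d9cc38bece4445f6721a2fb390717d9c458bece02c5f66f162fb330d17d99048becc63c5f6631a2fb308d17d98438becb82c5f65b222fb2d8717d96858becb40c5f658222fb2b0b17d95818becaa245f654162fb2a0917d93c58bec9c3c5f64e1a2fb260917d90088bec7c245f63d1e2fb1e8d17d8d458bec642c5f631222fb188f17d8c468bec62245f6310e2fb188517d8bc58bec58145f62b122fb148b17d8a058bec4e445f6270a2fb120917d87868bec3c245f613162fb090917d84078bec16345f60b162fb040b17d81868bec06245f602122fb010317d80478bec02345f6010e2fb008517d7dc58bebec345f5f60e2fafa8b17d7c048bebdc2c5f5ec122faf58f17d7ac68bebd62c5f5ea122faf30917d79828bebc42c5f5e1122faf00f17d78058bebb01c5f5d0122fae71117d73488beb8a2c5f5c5122fae10f17d70448beb80245f5c0062fade0f17d6ec58beb74245f5ba0e2fadd0517d6e058beb6e3c5f5b71a2fadb8717d6d458beb66345f5b21a2fad80917d6bc78beb5e345f5af162fad78317d6b848beb582c5f5ab222fad50b17d6a448beb503c5f5a80e2fad40517d69c58beb4a3c5f5a4222fad20917d69028beb442c5f59f162facf8317d67878beb3c345f59e122facd8f17d66c48beb323c5f5991a2facc8b17d66048beb2e2c5f596122faca0f17d64c58beb24345f5920a2fac88917d63c78beb1e345f58c122fac48f17d62048beb0e2c5f5861a2fac30717d61828beb0a3c5f584062fac10717d60828beb023c5f5811a2fac00f17d60058beafe2c5f57f062fabf0f17d5f868beafa3c5f57d1a2fabe8b17d5f058beaf2345f577122fabb8717d5cc58beae42c5f571162fab80317d5b878beadc345f56e162fab69117d5b428bead8445f56c0e2fab58b17d5a878bead0245f5641e2fab20917d58c78beac6345f562122faaf8b17d57048beab80c5f55b1e2faad8b17d56888beab43c5f558222faab9117d54c88beaa42c5f5511a2faa80b17d54048bea9a2c5f5471e2faa08f17d50458bea7e3c5f53f1a2fa9f0b17d4e048bea6e2c5f535062fa981117d4bc5))) (BT.leaf (Bx.mk (nat_lit 0x8bf0a2245f850162fc278f17e13c68bf09e1c5f84b062fc250b17e12048bf08e2c5f8461e2fc200b17e0e878bf0700c5f833162fc168f17e0a048bf04a245f823122fc110917e08048bf03c245f81d122fc0e0917e06c78bf0322c5f8171e2fc0b8d17e05478bf0282c5f810162fc078b17e03458bf0103c5f808162fc038917e01c18bf00c2c5f8051e2fc028d17e01428bf0080c5f803062fc010d17e00848bf004145f8011e2fc000b17dffc48beffc245f7f81e2fbfc0d17dfd858befea3c5f7f51a2fbf99117dfcc48befe2245f7f0122fbf68b17dfa858befd0245f7e61e2fbf28917df7c48befbc2c5f7dd1e2fbee8d17df7078befb8345f7dc162fbed8317df5c68befae145f7d51a2fbe88917df3868bef9c2c5f7cd162fbe60917df2848bef84245f7c01e2fbe00d17defc78bef7e345f7bd122fbdd8f17deec68bef761c5f7bb0a2fbdd0d17dee058bef6e0c5f7b61a2fbda0b17deb818bef5a445f7aa0e2fbd50517de9c48bef4a245f795122fbc88517de3c38bef1a445f78d062fbc60317de2c78bef16245f78a122fbc48b17de1c18bef063c5f77f1a2fbbd0f17dde868beef4145f779122fbbc8717dde078beef0345f76d062fbb60b17dda058beec82c5f761162fbb08917dd8048beebe3c5f75f1a2fbad8b17dd6858beeac245f7551e2fbaa8d17dd5058beea60c5f7521e2fba88d17dd4078beea02c5f74e222fba70517dd2c88bee94445f749122fba30f17dd1868bee8c245f7460e2fba30517dd1048bee880c5f7411e2fba08d17dd0458bee802c5f73e1e2fb9f0d17dcf478bee7a345f73c1e2fb9e0d17dcec58bee702c5f738122fb9b8d17dcdc58bee5a2c5f7251a2fb8f0f17dc7868bee36445f71a222fb8c8317dc6088bee30245f717222fb8a8317dc5078bee28345f7140e2fb8a0517dc4c38bee26145f70f1e2fb870d17dc3458bee18445f70c1a2fb860917dc3038bee18145f7091e2fb848917dc2438bee12145f706162fb818b17dc0878bee04345f702162fb7f0317dbec38bedf42c5f6f5062fb7a0b17dbd018bede63c5f6f31a2fb798717dbcc28bede2245f6ec162fb748917db9c58bedca0c5f6e4162fb710f17db8848bedc41c5f6e20a2fb700f17db7858bedba2c5f6dd122fb6e0b17db6c48beda02c5f6cf1e2fb678d17db3c38bed9e145f6c6122fb620917db0c58bed842c5f6c1122fb600917daf858bed7a445f6bd122fb5c8b17dae078bed70145f6b7122fb5a0b17dacc88bed663c5f6b3122fb598717dacc28bed640c5f6b1222fb588317dac07)))))) (BT.node (nat_lit 764) (BT.node (nat_lit 762) (BT.node (nat_lit 761) (BT.leaf (Bx.mk (nat_lit 0x8bf466245fa2d1e2fd168717e8b428bf458245fa24162fd120917e88878bf444345fa1d1e2fd0e0f17e87058bf4362c5fa1b062fd0d1117e86868bf4320c5fa171e2fd0b8b17e83878bf41c345fa0e162fd068917e83078bf418345fa0c162fd058917e81438bf3f6245f9f6162fcf80917e7bc68bf3de2c5f9ed1a2fcf58517e7a418bf3ce3c5f9e61a2fcf28b17e79418bf3c8445f9e41e2fcf20d17e79048bf3c81c5f9e40a2fcf19117e78888bf3c43c5f9e20a2fcf01117e78048bf3be445f9df122fcee9117e77448bf3b8445f9dc122fced0f17e76868bf3b2245f9d71e2fceb8d17e75c18bf3a4245f9d11a2fce88b17e73458bf3980c5f9ca162fce48f17e72468bf3922c5f9c7162fce30d17e71858bf388245f9c2162fce08917e70048bf3782c5f9bc122fcdd8917e6dc58bf36c2c5f9b5222fcda8f17e6d468bf36a1c5f9b50a2fcd90917e6c458bf3603c5f9b01a2fcd79117e6b888bf35c345f9ae0e2fcd48917e6a038bf350145f9a61e2fcd30d17e69488bf34a3c5f9a51a2fcd28717e68c48bf342245f99f1e2fccf0317e66c48bf32c0c5f992062fcc48f17e62468bf3120c5f988122fcc38f17e60048bf2fe2c5f97a162fcbd0317e5e078bf2ee245f975062fcba0917e5cc88bf2e6245f9730a2fcb80917e5a878bf2d40c5f968122fcb28917e58c68bf2c03c5f95e122fcae8d17e56818bf2b2245f9531e2fca90d17e54858bf2a0245f94e122fca60917e52838bf294145f9431e2fc9f0f17e4f868bf278245f93a222fc9d0d17e4e838bf272245f9381e2fc9c0d17e4e058bf26c445f9361a2fc980f17e4b858bf25a245f92b122fc950917e4a048bf24e245f9261e2fc928d17e48c48bf22a245f911062fc878917e43468bf21a2c5f90c162fc850917e42458bf2102c5f907122fc828917e40c48bf2042c5f9001e2fc800317e3f818bf1f02c5f8f21e2fc790d17e3b058bf1ce345f8e6122fc6d8b17e36828bf1b0245f8d1122fc670f17e33858bf19a245f8cc122fc648d17e32418bf188245f8bb0a2fc5a8d17e2d458bf168245f8b2122fc578b17e2a448bf150245f8a7122fc530b17e29448bf148245f8a3122fc4f8917e25c88bf12c3c5f8951e2fc4a8d17e24c48bf11c2c5f88d1e2fc468d17e23438bf11a145f88c162fc458f17e22048bf10e2c5f8851e2fc428b17e20c48bf104245f881122fc3e8917e1ec58bf0ee245f874162fc398917e1bc48bf0dc2c5f86d122fc360b17e1ac68bf0d4245f868162fc330f17e18c58bf0bc0c5f85c122fc2d8b17e1544))) (BT.leaf (Bx.mk (nat_lit 0x8bf85a2c5fc2c1e2fe160d17f0b028bf8563c5fc2b1a2fe140917f07058bf8362c5fc1a162fe0c0b17f06048bf82e345fc17122fe0b8717f05468bf82a2c5fc14222fe098917f03888bf816345fc0b162fe048b17f01468bf8063c5fc03162fe001117f00078bf800345fbff162fdff0917efec78bf7f2245fbf6122fdfa8917efc878bf7de245fbeb1a2fdf48b17efa048bf7cc245fbe11a2fdf00d17ef7468bf7b8245fbdb162fded8917ef6868bf7b2245fbd7222fdeb8717ef5858bf7a82c5fbd3162fde80d17ef3c58bf79c245fbcd222fde68f17ef3428bf796245fbca122fde39117ef1c68bf78e1c5fbc2062fddf8917eef048bf776245fbba1e2fddc8917eee048bf76e245fbb6122fdda8917eed058bf762245fbb0122fdd78917eeb048bf750245fba2122fdd08917ee8058bf736445fb9b0a2fdc50f17ee2868bf712445fb891a2fdc48717ee2068bf710145fb86122fdc28b17ee1448bf6fe0c5fb7c122fdbd8917edcc48bf6e42c5fb6f162fdb60917ed9c48bf6c0245fb5e0a2fdae0917ed6448bf6b02c5fb571e2fdab8d17ed5848bf6a8245fb52162fda68f17ed3458bf6962c5fb48062fda38f17ed1c38bf68a345fb41122fd9f8917ecf848bf6762c5fb341e2fd990b17ecc458bf660345fb2a062fd938b17ec8c48bf6382c5fb1b162fd8d8917ec6458bf630245fb151e2fd8a8d17ec5058bf624445fb11222fd888317ec4078bf620345fb10062fd879117ec3c78bf61c445fb0e1a2fd870917ec3458bf618345fb0c0e2fd848317ec2088bf610245fb07122fd829117ec0868bf5fe3c5fafe162fd7e0b17ebec58bf5f60c5fafa0e2fd7c8d17ebdc68bf5ee2c5faf2122fd770917eb9c48bf5ca0c5fae01e2fd700d17eb7c88bf5bc245fadc1e2fd6d0b17eb5c78bf5ae0c5fad6122fd6a8917eb4c48bf5a23c5fad1062fd679117eb3c68bf59e245face1e2fd668917eb3048bf5961c5faca0a2fd648f17eb2468bf5922c5fac7162fd620917eaf878bf57a3c5fabc122fd5d0517eae448bf56e2c5faa61a2fd530b17ea8868bf5441c5fa9d122fd4d8b17ea6448bf512245fa841e2fd420d17ea1058bf4fe245fa7e122fd3e0717e9f028bf4ea2c5fa72222fd390f17e9c868bf4e23c5fa711a2fd388b17e9c048bf4d8245fa6b1e2fd358d17e9ac58bf4d02c5fa671e2fd338517e99058bf4c6245fa601e2fd300917e97c48bf4b8245fa581a2fd2c0b17e95c78bf4aa3c5fa55062fd290f17e92858bf4921c5fa490a2fd220d17e90448bf480245fa3a122fd1c1117e8e06)))) (BT.node (nat_lit 763) (BT.leaf (Bx.mk (nat_lit 0x8bfbac345fdd6062feea0f17f75068bfba80c5fdd0162fee78b17f73888bfb9c345fdce0e2fee58b17f72c48bfb960c5fdca1e2fee40f17f70448bfb72345fdb51e2feda8b17f6c848bfb5a0c5fdab1e2fed58d17f6ac58bfb560c5fda91a2fed48317f69028bfb463c5fda31a2fed10917f68478bfb42345fda01e2fed00d17f67c48bfb3c3c5fd9e1a2fece0f17f67068bfb322c5fd99122fecc1117f66078bfb30345fd98122fecc0517f65488bfb2a1c5fd941a2fec88f17f60c48bfb02245fd7d162febe8317f5ec88bfaf6345fd7b0e2febd8517f5e838bfaf00c5fd77162febb8917f5d068bfae6345fd730e2feb90917f5c458bfae02c5fd6f1e2feb68f17f5a458bface345fd661e2feb20d17f59058bfac4345fd61122feaf8f17f57858bfaba245fd59122feab8f17f55c68bfa9e3c5fd4f1a2fea68b17f53048bfa92445fd491a2fea48717f52428bfa8c2c5fd441e2fea20317f4fc88bfa7c2c5fd36122fe9a8917f4d048bfa66245fd32222fe968d17f4b058bfa523c5fd281e2fe940d17f49c48bfa4c3c5fd261a2fe930317f49058bfa461c5fd230a2fe908d17f48058bfa3e2c5fd1f122fe8e8517f47048bfa303c5fd151e2fe8a8317f45058bfa24245fd0f162fe858317f41448bfa043c5fd021a2fe810b17f3f448bf9f6245fcfa122fe7c0f17f3e068bf9e8245fcf1122fe770917f3b448bf9d63c5fceb162fe750917f3a088bf9d0245fce80e2fe700b17f37888bf9bc345fcda122fe6a8f17f35428bf9a43c5fcd20a2fe668f17f33048bf994245fcc71e2fe610f17f2fc78bf97c245fcb9122fe5c0917f2d048bf9542c5fca3122fe510b17f28478bf940245fc9f162fe4e9117f27418bf938445fc9c162fe4e0317f26c78bf9360c5fc9a222fe4d0f17f26848bf932445fc991a2fe4b8f17f25c48bf92e1c5fc970a2fe4b0b17f25428bf928345fc94162fe498d17f24868bf920245fc8b122fe450d17f22838bf914145fc891a2fe438b17f21458bf9083c5fc84122fe420517f20858bf900245fc7e1e2fe3f0d17f1f448bf8f6245fc761a2fe3a8f17f1d468bf8e8245fc73162fe380917f19c58bf8cc3c5fc660a2fe328f17f18c48bf8bc2c5fc58122fe2b8917f15848bf8a4245fc51162fe260b17f12c58bf8923c5fc47122fe238717f11c28bf88c0c5fc44222fe220317f10c78bf886345fc43062fe210f17f10848bf882445fc41122fe200b17f0fc28bf87a345fc391e2fe1c0d17f0dc78bf86e145fc35122fe1a0f17f0d058bf8641c5fc30062fe179117f0bc2))) (BT.leaf (Bx.mk (nat_lit 0x8bff32445ff96062ffca8d17fe5078bff243c5ff921a2ffc78b17fe3888bff18445ff86122ffc30717fe1448bff042c5ff811e2ffbe8b17fdf048bfef4245ff79122ffbb8f17fdd848bfee62c5ff6e1e2ffb70d17fdb818bfed8245ff6b122ffb40f17fda068bfed02c5ff68062ffb30f17fd9858bfec62c5ff63122ffb10b17fd8848bfec03c5ff601a2ffae0917fd6c48bfeb2445ff590a2ffac0f17fd6068bfeaa2c5ff541e2ffaa0b17fd4448bfe92445ff481e2ffa30317fd1088bfe823c5ff3f1e2ff9f8d17fcf878bfe7c345ff3d122ff9d8f17fce878bfe74345ff35222ff9a1117fcd068bfe66445ff32162ff990317fcc478bfe5e345ff2e122ff968b17fcac78bfe46345ff1f0a2ff8f0b17fc6088bfe300c5ff17222ff8b0d17fc4c48bfe22245ff10122ff858317fc2428bfe0e2c5ff07122ff830717fc1458bfe08245ff03162ff810f17fc0868bfe00245feff162ff7f8917fbf858bfdfc245fefe062ff7e9117fbf468bfdfa1c5fefd0a2ff7e0b17fbec58bfdf6245fefa122ff7d0717fbdc78bfdee345fef7162ff7b0917fbd448bfde2345fef0122ff778917fbb078bfdd8345feea1a2ff728f17fb9458bfdc83c5fee3122ff6d0317fb6458bfdb20c5fed8222ff6c0d17fb6038bfdb0145fed71e2ff6b8d17fb5858bfdaa245fed41e2ff6a0d17fb4c78bfda6345fed2162ff680d17fb3868bfd90245fec71e2ff638b17fb1848bfd882c5fec3222ff608d17faf448bfd702c5feb3222ff591117fac448bfd54445feaa1e2ff550d17faa848bfd541c5fea9222ff548f17fa8c88bfd46345fea3122ff518717fa6048bfd2a245fe93222ff498d17fa4c38bfd20445fe90122ff468917fa3048bfd142c5fe89162ff440f17fa1838bfd042c5fe82122ff408b17fa0038bfd00145fe7e1e2ff3c8b17f9e048bfcee245fe761e2ff3b0b17f9d468bfce23c5fe711a2ff328917f98c78bfcc6345fe63162ff309117f98448bfcc0345fe5e162ff2e9117f97468bfcba1c5fe5c162ff2c0917f94448bfc98245fe3b122ff1d0917f8dc48bfc643c5fe30122ff178917f8a048bfc44345fe211e2ff0e8d17f87418bfc36245fe181a2ff0b0f17f85448bfc262c5fe0d162ff058917f82858bfc0e2c5fe05122ff001117f80078bfbfa245fdfd0e2fefd8917f7e448bfbee2c5fdf6122fefa0917f7c848bfbe0245fdef162fef70917f7b458bfbd43c5fdea1a2fef50717f7a828bfbcc2c5fde51a2fef18517f78878bfbc4345fddf122feee0917f76888bfbb2345fdd9162feec0917f7587))))) (BT.node (nat_lit 766) (BT.node (nat_lit 765) (BT.leaf (Bx.mk (nat_lit 0x8c02f4246017822300bb111805d458c02e844601701a300b7911805b438c02d82c601661e300b30d18058c88c02c4446016122300af8b18057478c02ba346015a16300ad0918054c18c02a4246015112300a78518053888c029a246014c12300a60318052c78c029634601491e300a48d18052418c02902460140123009e091804e818c02722c60138163009b0b1804d048c0262246012822300930918049458c0240146011f123008e0f18047038c02381460115123008a0f18045068c022244601111e300888d18044438c0222146010f06300871118043488c021a0c6010c1e300840918041c48c020c2c601041e300810918040438c01f844600fc1e3007e051803e488c01f234600f90e3007c071803dc58c01ea2c600f5123007a071803cc48c01e244600ee2230076111803b048c01d624600e81e300740d18039c38c01cc2c600e416300718f18038c68c01c61c600e30a300708918038048c01ba34600dc1a3006d8918036c18c01b424600d9123006c0f18035448c01a824600d31e300698d18034848c019e24600c822300640518031c58c018e24600c416300618318030848c01840c600c10a30060031802fc58c017e24600be1e3005f0d1802f858c017a2c600bc163005e091802ec88c01761c600b8063005b911802d888c016c2c600b6063005a831802cc88c016634600b312300580b1802bc88c015e3c600af0a300568f18029c48c014c24600a416300519118028c38c014224600a01e3004f0318026c48c01303c600981a3004b8918024448c01203c600901a300478918023848c011a146008812300440318021c18c010c446008512300420518020088c010034600800e3003f0b1801f038c00de446006d1e300348f18018468c00c0246005c063002d8918014858c00a424600501e300280d18013848c00942c600491a300248518011c88c008a2c6004412300218918010468c00822c6003e1e3001f0d1800e468c006834600340630019891800c888c00641c6002f1e300170b1800a048c004e14600251a300128b18008848c003e246001b123000b8918005078c0028346001112300068b18001c78c000e346000612300008b18000038bfff63c5fffb1a2fffb8b17ffd448bffda345ffe7122fff30917ff8c58bffc23c5ffdc1e2ffee0d17ff5878bffa82c5ffcc122ffe49117ff2058bff8e345ffc6122ffe10d17ff0858bff82245ffbf162ffde8317feec48bff74345ffba162ffdb8b17fed448bff5a245ffaa122ffd29117fe7828bff362c5ff9b062ffcd1117fe687))) (BT.leaf (Bx.mk (nat_lit 0x8c068e44603471e301a38d180d1878c068c346034616301a289180d0478c0682146033c123019d09180cd488c066a246033416301978b180cb848c06562c6032922301938b180c9868c063c3c60318163018b0d180c5448c06263c603131a301878f180c3c68c061c246030b16301830b180c1478c060a34603021a3018009180c0038c060014602ff1e3017f0b180bf418c05f83c602fc1a3017d0f180be078c05ee34602f3123017909180bb848c05da44602ed1e3016f85180b7858c05ba3c602da1a3016d07180b6828c05ac3c602d31a301690b180b4458c05a03c602d0123016807180b4028c059c44602cc22301660d180b2088c059034602c6163015a8b180ab878c055c2c602a9123014f0f180a7868c053a34602941a3014a0b180a4878c052434602911e3014791180a3c78c051e346028f0a301470f180a3868c051424602871a301428d180a1048c05063c602831a3014109180a0448c05003c602801a3013f091809f418c04f22c602771e3013b8d1809dc38c04e824602711230138051809bc58c04d434602691e301348d1809a458c04d0246026712301328918097458c04ba246025c0e3012d0f18096868c04ae2c6025122301288518094058c0496346024b16301250f18092078c0490346024416301218b18090c48c04841c602420a301200b1808f458c0476346023a1e3011d0d1808dc28c04683c602341a301198b1808c088c045c446022a1e301150d18089418c0448446021d1e3010d0d18086448c04302c60217123010a9118085438c042844602131e301090d18083c48c041a246020a1a301050518082478c0410146020716301030f18081858c040a24602041230101091807ec58c03f03c601f71e300fb8d1807d868c03ea34601f212300f88f1807b868c03da34601e81e300f4071807a028c03ce2c601e612300f29118079068c03c814601e112300ef8718073848c039a3c601cd1a300e68b18072c58c03942c601c916300e38f18070c48c038424601be12300df071806f448c037834601ba1e300dc891806dc78c036c3c601b512300d9891806c888c03643c601b21a300d9091806c838c036414601af12300d70f1806b828c035824601ab12300d5111806a848c03541c601a81a300d28f18069418c03462c601a216300d10918068478c034234601a112300d08718068428c03402c6019e0a300cc0f18066068c032e0c6019422300c90518064018c031e3c6018d16300c60918062c58c03141c6018912300c38918060868c02fc246017e0e300be8b1805f05)))) (BT.node (nat_lit 767) (BT.leaf (Bx.mk (nat_lit 0x8c09ac34604d216302689118134478c09a234604d10e302680f18134068c099e2c604ca16302650918132818c098c34604c512302620b18130c28c09842c604be123025c8f1812e078c09702c604b6163025b091812d058c096624604b30630259031812c018c095e2c604ae1e302570d1812ac48c094c2c604a51e302518f18126c68c09360c604981e3024c0d18126058c092c3460496163024a0918124068c091e2c6048f12302470b18123848c09183c6048c1a302448d18122458c090a34604841e302420d18120848c090044604800a3023d8b1811cc48c08e03c604701a302370b1811b478c08da346046d0e30236851811b088c08d83c6046a12302328718119428c08c83c6045f223022f8918117088c08b81c6045616302238918111448c087a446043d1a3021e891810f438c0878246043b1230219831810c878c08623c604311a302188b1810c028c08543c6042a1a302150b1810a448c084e2c6042522302128d18109438c084a146041f223020f0f18106078c08303460418163020b1118104c18c0824446041022302068f18103428c08143c6040a1a302048b18101048c080624604010e301ff8b180ffc48c07fa3c603fc1a301fd09180fe478c07f234603f916301f987180fc078c07dc34603ee0a301f58f180fac68c07d61c603eb0a301f40b180f9c78c07ce34603e51e301f28d180f9428c07c824603e31e301f10f180f7c58c07b624603da12301ec0d180f6038c07b014603d31a301e909180f4048c079e3c603cf1a301e691180f2c58c079414603c91e301e40d180f1488c078a24603c222301e091180f0088c077a2c603bd12301de0f180ef068c07781c603bb1a301db05180ed488c076a1c603b316301d90b180ec418c07603c603b012301d78d180ebc48c075a2c603ac1e301d60d180eb038c075814603aa1e301d48b180ea058c074e3c603a71a301d387180e9c28c074834603a312301d10b180e8058c073434603981e301cc0d180e5c58c072c3c603961a301c98b180e3c48c07181c6038c0a301c58d180e2858c07121c6038816301c309180e1488c070a34603850e301c285180e0c28c070044603800e301c005180dfc78c06fe346037a1e301bd0d180de018c06ee446037706301b98f180dc858c06e20c603701a301b70f180db868c06da246036c1e301b50f180da818c06d23c603691a301b20f180d8468c06bc2c6035d16301ae0f180d7028c06b4246035916301aa89180d5078c06a82c603511e301a88d180d3488c069a346034a16301a503180d204))) (BT.leaf (Bx.mk (nat_lit 0x8c0d2e2c60695123034a0f181a4c58c0d22146068f0e303470b181a3458c0d0c24606851e303428d181a0c88c0d0614606812230340031819f848c0cfa346067d0e3033d0f1819e868c0cf224606781e3033c0d1819dc48c0ce4246066f1e303378d1819b868c0cdc2c6066d1230335891819a478c0cd03c606681a30334071819a028c0cc8446066322303300b18197c68c0cbe1c6065e163032f0918197458c0cba246065d063032c8b18196418c0cb03460657123032a1118194c88c0c9e3c6064e1a303268918193078c0c98346064c0a303220f18190c48c0c7e0c6063c123031d8d1818dc28c0c5a346062b1a303148b1818a048c0c400c6061f123030d8918184448c0c0e24605fd12302fe0f1817f058c0bf42c605f61e302fb051817cc48c0be034605ee1e302f70d1817b838c0bda44605ec16302f20918177c48c0bb62c605da22302ed0f18176868c0bb41c605da0a302ec8f18175468c0baa2c605d11e302e80b18172c48c0b942c605c716302e18918170048c0b7a0c605bc16302dd8d1816d888c0b6c14605b516302d98b1816c858c0b623c605b01a302d7871816b058c0b542c605a312302d10b18167448c0b36446059b1e302cc0318165c48c0b2c0c6059522302ca8318165088c0b26446059116302c80d18163c48c0b1c3c6058e16302c68918163058c0b162c6058a1a302c39118161888c0b0c246058522302c00f18160018c0af8446057c06302bc8f1815e048c0aee44605770a302bb0f1815d448c0ae6246057222302b90d1815bc58c0adc346056d22302b68f1815b438c0ada14605691e302b28f18159468c0ac22c6056022302b00918157c58c0ab6246055112302a78b18153488c0a9a1c6054712302a10b18150458c0a8044605401a302a0051814ec88c0a720c60537063029b091814c478c0a58346052c0e302958f1814ac68c0a543c605291e302940b18149868c0a4c1c605260a302920b18148c88c0a4634605230e302910d18148448c0a402c6051b1e3028d8d18146c28c0a322c60518163028b8b18145878c0a2c34605160e3028b0518144858c0a223c605110e302888518144048c0a1e3c6050f1a302868f18143468c0a18246050b12302820f18141068c0a0824605040e30282051813f448c09f424604f5163027a891813cc78c09e634604f30e30279851813c878c09e434604f21630277831813b048c09d814604eb1630275111813a078c09d034604e80a302730f18139048c09c63c604e31a302708918137848c09ba2c604dc123026d091813587)))))))))))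
noncomputable def big0_p_768 : BT (Bx Nat) := (BT.node (nat_lit 784) (BT.node (nat_lit 776) (BT.node (nat_lit 772) (BT.node (nat_lit 770) (BT.node (nat_lit 769) (BT.leaf (Bx.mk (nat_lit 0x8c105444608291e304148d1820a058c105024608211e304108d18208418c1040246081d163040e8918206c68c10361c6081b0a3040d0f18206868c102e246081316304088918203c88c101c2c6080d1a304068718203428c10182c6080b1a304050f18201c48c10041c608020a304000f181ff018c0ff63c607fb0e303fd0f181fe868c0ff024607f622303fb0d181fd078c0fe834607f406303f989181fc848c0fe22c607ed16303f683181f9c48c0fcc34607e612303f307181f9828c0fca24607e11a303ef11181f7838c0fbc14607dd1e303ee8d181f7458c0fb824607db16303ec8b181f6058c0fa83c607d412303e989181f4878c0fa434607d022303e70f181f3868c0f9424607c816303e409181f1c88c0f8034607c006303df11181ef868c0f7c24607be0e303dd8b181ee888c0f682c607b21e303d90d181ec848c0f641c607b20a303d88f181ebc38c0f5e14607ae1e303d70d181ea018c0f4c24607a012303cf89181e6c48c0f342c6079a12303cc8b181e6418c0f3044607981e303cc0d181e6038c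0f2e3c607971a303cb0d181e3c48c0f183c6078b1a303c411181e2038c0f10146078512303c20d181e0c48c0f042c607801e303c00d181dfc48c0efc3c6077e1a303bc89181dd878c0eec346077512303ba0b181dcc18c0ee23c607711a303b78b181db888c0edc3c6076e1a303b587181d9018c0ec0246075b12303ad83181d6878c0eb41c607591e303ac8d181d6458c0eaa24607501e303a80d181d3c58c0e9c1c6074b0e3039f89181ce048c0e6c2c6073506303998d181cb878c0e5c0c6072d16303960b181cac88c0e563c6072b1a3039589181cac38c0e561460729123039407181c9c48c0e4c2c60725163039283181c9078c0e481c607240a303918d181c8c58c0e400c6071f1e3038f8d181c7c28c0e3c346071906303890d181c3c48c0e1c246070c1a3038509181c2458c0e103c607081a3038405181c1c68c0e0e2c607061e303820b181bdc58c0de624606f216303768b181bac88c0dd63c606eb1a3037585181b9c18c0dca24606e312303710b181b8468c0dc21c606e10a303700d181b7838c0dba24606da163036c89181b5458c0da82c606d322303698d181b4c38c0da224606d0123036703181b2c58c0d942c606c71e303638b181b1848c0d882c606c20e3036105181af878c0d7c34606bd123035d09181ad478c0d6a34606b412303568b181ab058c0d503c606a712303530f181a9868c0d4c2c606a5123035209181a8c48c0d3e346069b1e3034c0f181a606)))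 (BT.leaf (Bx.mk (nat_lit 0x8c13bc24609da1a304ea8918275058c13a63c609d11e304e70d18273448c139624609c60a304e28918271438c138624609c006304df0d1826c018c135e34609ae16304d68b1826b048c135424609a322304d10918267058c1336446099712304cb0f18265868c132c0c6099512304ca1118265048c1326346099112304c70f18263858c131a2c6098c0e304c60518262c58c1314246098822304c01118260068c13001c6097c1a304bd891825ec38c12f4246097616304b8891825c048c12de2c6096f12304b7091825b818c12da346096c1e304b5871825ac28c12d42c609671a304b20b18258c78c12c634609630e304b18518257028c12b6246095a16304aa9118255478c12a8346095312304a80b18253478c1298246094a22304a20f18250c78c12822c609401a304a0071824fc48c127c246093d1e3049e8d1824ec88c12760c6093a223049c911824e068c126c44609361e3049b091824d838c126c14609332230499851824c458c125a2c6092c1a30495911824ac78c1256346092b1230495851824a848c12420c6091f1e3048d8f18246c68c12342c609170e3048a8b18244058c121c446090e0a304869118243048c1216246090a16304848918241c58c120e0c609061a304828f18241468c11f844608fc1a304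7e071823f028c11f62c608fa1e3047c0b1823d478c11ea34608f41230479111823c088c11de3c608ed1230475911823a888c11d40c608e812304739118239c48c11c42c608e116304701118238078c11c034608dd123046e8318237048c11b63c608da1e3046d0d18236858c11b02c608d716304680918233888c11941c608ca0a304630918230068c117c1c608bc123045c031822dc58c116c44608b61e3045b0d1822d848c116c1c608b60a3045a0b1822cc78c11642c608b10a30457031822b458c11563c608ab1a304558b1822a078c115034608a41e304520718229028c1134346089a163044b8318224c78c11242c608911e304488d18223c88c111e246088d1e304468d18222448c110a2c608801a3043e091821c878c10de446086e1a304360f1821b068c10d8146086b16304310b18218088c10c0146085d1e3042e0918216858c10ae3c608571a3042b8318215888c10ac246085216304290318214058c109e3c6084f1a304270f18213868c1096146084912304240b18210c68c10861c608430a304210b1820fc48c107c246083d223041e091820e858c106e2460836163041a891820d088c10683c608341a3041a051820c848c105a0c6082c1e304160d1820ac7)))) (BT.node (nat_lit 771) (BT.leaf (Bx.mk (nat_lit 0x8c16ac246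0b5512305aa11182d5078c16a81460b5216305a809182d3458c16982c60b491a305a409182d1c48c168c2c60b4516305a289182d1068c16881460b3f063059e8d182cf088c16783c60b3c0a3059d8f182cec68c16723460b3812305978b182cb018c16564460b29223059489182ca088c16502460b251a3059009182c6c78c16363460b1a123058c8b182c5c78c16223c60b111a3058605182c2038c160e2460b06123058289182c0048c15fe4460afe1e3057f0d182bf438c15f83460af9123057c07182bd468c15e82460af40e3057a05182bcc58c15e41460af11e305788d182bb488c15da2c60aec16305750f182ba848c15d22460ae7163057389182b9848c15c81c60ae40a3057111182b8478c15c23460ae0123056f83182b7488c15ba0c60adc223056d8f182b6c68c15b62c60ada223056c0b182b5c68c15ae1c60ad41a3056989182b3c58c15944460aca1a3056409182b1c58c158c3c60ac61a305618b182b0878c15843460abe1e3055f0b182af458c157a2460abb223055d8d182aec38c15761460aba1e3055b0f182ad858c156a4460ab41a3055787182abc28c15563c60aab1a3055387182a9848c154a3c60aa31a3055187182a8848c15423c60aa11a3055087182a8428c15362460a9a0e3054d05182a6088c152c3c60a92163054805182a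3c58c15162460a8a1e305450d182a2838c15141460a891a3054409182a1888c150a3c60a851a3054283182a1058c15063c60a831a305418b182a0c18c15004460a80123053f8b1829f848c14f82460a771e3053b8d1829d848c14e23460a701e305370b1829b848c14d81460a6a06305348318299858c14c81c60a640a305310b18297c68c14be1c60a5d0e3052e8518297088c14b02c60a571e3052b8d18295c38c14ae1460a561e3052b0d18295478c14aa3460a541e305288918294048c14a00c60a4e1a305268918292058c148e3c60a471a305238718291848c148a3c60a41223051d8f1828e848c14723c60a381e3051b0b1828d848c14683460a331e305198d1828cc58c145c2460a2d1e305160d1828ac68c14502c60a2716305130b18288058c143c0c60a1d223050e8918287088c14382460a1a123050c8918286078c14303460a17123050b8718285c28c14262460a1212305068918283068c14163c60a0b1a305058718282c28c140c2c60a0522304fc911827dc88c13ec44609f512304fa0b1827c468c13de24609ee16304f7091827b078c13d834609e81e304f30b18279848c13c61c609e212304f08b1827805))) (BT.leaf (Bx.mk (nat_lit 0x8c1a5a2c60d2812306928918349048c1a462460d2216306908918348048c1a3e2460d1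81e3068a0f18345068c1a242460d0d0e306858b18342858c1a0e2c60d0616306808f1833f888c19fc3460cfe0e3067a111833d068c19e44460cf116306751118338458c19c03c60cdf1e3066f8d18337448c19b83c60cdc1a3066e0718337028c19b62c60cd8123066b0918334468c19a22c60ccd12306658f18332c68c19942460cc706306628918330858c19802c60cbd223065d8f1832d078c19642460cab2230655111832a448c19502460ca806306538b18329848c19462c60ca3123064f9118327848c19302c60c911a306478f18323c68c191c3c60c8d12306460b18322c48c19143c60c8a16306448f18322468c19122c60c8612306400b1831fc78c18fe3460c7d1a3063e8b1831f048c18f42460c76123063a0d1831d018c18e40c60c711230638091831bc58c18dc3460c6e16306360b1831a078c18d03460c671e306338d18319c38c18ce1460c6616306328918318c58c18c21460c5f163062f1118317428c18b82c60c5b1a3062c8918316018c18ae3c60c55123062a0d18314c68c18a43460c5112306258f18312c68c188e2c60c3e223061e8f1830ec48c18724460c331e306198d1830c878c185e2460c2e1230616891830b048c18580c60c2a16306140f1830a068c18501460c271a3060f1118306048c18243c60c101e306080d1830405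8c181e3c60c0f1a306070f18303868c181a3c60c0d1a306060f18303068c18162460c071e306038d18300458c17fc2c60bfc22305fe0d182fec78c17f63460bfa1a305fc89182fd858c17ea0c60bed22305f611182fa478c17d23460be90e305f38b182f9028c17c42c60bde16305ee87182f7428c17b82c60bdb0e305ed85182f6858c17b24460bd422305ea09182f4c58c17a43c60bce12305e68f182f3468c17962c60bca06305e411182f2048c17900c60bc722305e389182f1868c178a4460bc512305e08b182ef848c177a4460bbc12305db87182ed448c17683c60bb416305d98d182ec878c17641c60bb016305d60f182ea448c17502460ba722305d30f182e9858c174a3460ba516305d18d182e8478c17423460ba012305cf8b182e7428c17362460b9816305cb0f182e5868c172c0c60b9412305c911182e4868c17241c60b8f22305c78d182e3c48c171e1c60b8e0e305c30f182e1448c17062460b8012305bf89182dfc18c16f83c60b7c1a305be03182dd858c16e02c60b6b12305b48b182d9c78c16cc2460b630e305b00b182d602))))) (BT.node (nat_lit 774) (BT.node (nat_lit 773) (BT.leaf (Bx.mk (nat_lit 0x8c1e442c60f211e3078f0b183c7848c1e3a1460f1a1a3078d07183c6458c1e2c3460f16163078a8b183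c5048c1e1e2460f08223078209183bf458c1df63460ef3123077889183bb448c1dce2c60ee612307720b183b8878c1dbe3460eda123076c89183b5888c1dac3460ecf1e307678d183b3c38c1d9e1460ecd163076607183b3028c1d8c2c60ec2123075f8f183aec78c1d762460ebb0a3075991183ac048c1d5c2460ea81e307540b183a8868c1d3e2c60e9d1a3074e8b183a6458c1d302460e97123074b0f183a5868c1d2a2c60e9212307470f183a3868c1d1a2460e891e307448b183a2418c1d022460e80063073b8f1839dc18c1cec2460e7512307398b1839c868c1cdc3460e6e0630736091839a458c1cce3460e6706307328918399078c1cc63c60e631a307318918398c38c1cc61460e621e307300b18397c48c1cba3460e5c163072d8518395048c1ca63c60e521a307278718391868c1c881460e421230721071838e458c1c722460e381e3071b8f1838dc68c1c6c3c60e311a30718891838c428c1c603c60e301a30716091838a878c1c543460e2a16307148918389878c1c4c3460e221e307110d18388858c1c423460e1f123070d8b18386088c1c2c2460e091e307048d18381c68c1c0a3c60e051a307028918381438c1c0a1460dfa16306fc911837e478c1bf21460df412306f78d1837bc38c1bde1460ded12306f58318379828c1bca3c60de5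1a306f10318378488c1bc20c60de022306ef9118377478c1bba3460ddd06306ee0f18377068c1bb24460dd906306ec1118376018c1bae4460dd61a306e90f18374868c1ba23460dce16306e68b18373078c1b983460dc712306e30918370c28c1b824460dc10a306de8b1836f088c1b6c3460db606306da091836cc48c1b642c60db016306d7911836bc68c1b5e1c60dab16306d50b1836a438c1b521460da816306d30918368c78c1b463460d9e22306cf0918367488c1b364460d9b1e306cd1118366868c1b2e3c60d971a306ca8f18365468c1b2a2c60d9412306ca0718364048c1b1a3c60d8d16306c40f18361868c1b0c0c60d851e306c28d18361458c1b002460d7c12306bb871835cc48c1ad83c60d6a16306b28d18358818c1ac23c60d6116306ae8918357048c1ab23460d590e306ac0918355888c1aac3460d560e306aa8918355048c1aa42c60d511e306a80918353c48c1a9c2460d451e306a28b18350c48c1a7a4460d3d1a3069c8b1834e038c1a6e3460d36123069a8b1834d078c1a683460d34123069a071834d02))) (BT.leaf (Bx.mk (nat_lit 0x8c222c44611160a3088a0b18444c78c222634611130e308878b18443838c22122c6110822308840d18442048c22101c611071e308838b18441848c220a2c61104123088107184400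78c22001c610ff1e3087f8d1843f478c21fa2c610f9223087b8f1843d448c21ea1c610f40a30879891843c848c21dc2c610ee06308768b1843b448c21d834610ec0e308760518439c78c21cc3c610e61a308728f18438058c21be3c610df1a3086f8718437878c21b824610dc0e3086d8b18436478c21b234610d61e308698718434c28c21a224610d10e308669118433078c219834610cc16308658d18432c58c219224610c716308620718430c48c218424610c10e308600b1842f888c217c34610bc163085d8f1842ec68c216a34610b512308598b1842c858c216044610b01a308578b1842b888c215644610ab0e308550f1842a458c214e24610a61a308528b18429448c214834610a40e308518b18428c48c214434610a20e308510518428478c21422c610a0163084f8d18427878c21383c6109c1a3084e0718427028c212e2c61095123084a1118424848c2122446108f12308470918423428c21182c6108b16308448f18422068c210e14610821630840091841f458c20f82c6107b1a3083d871841d418c20e434610711e308388d1841b448c20d2446106612308320918418c68c20c044610601e308300518417028c20b244610591a3082c8718415c48c20a8246104f12308270918411c48c208c44610441230821891840fc68c207e0c6103e123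081d831840e458c20701c6103316308180318409088c2048146102322308110918408488c2042146101e223080d0918403c78c201a446100a12308018d18400448c2002146100012307fd09183fd858c1fe03c60fef1e307f78d183fb058c1fd62460fe916307f38d183f7c18c1fbc3c60fde12307ef07183f6c88c1fae2460fd412307e907183f4828c1fa03c60fd01a307e70d183f3478c1f9a2460fcc1a307e389183f1848c1f882460fc322307e087183ecc58c1f602460fa91a307d48b183ea058c1f4e1c60f9f1e307cf8b183e7868c1f3c2c60f9c12307cd8d183e6888c1f322460f9812307cb0f183e4858c1f1a0c60f8c1a307c609183e2c38c1f0c2460f8412307be8d183dd848c1eea2460f6e12307b50f183da868c1ed02460f631a307b00f183d8068c1ebe2460f5d12307ac0b183d5c48c1eac3c60f561a307ab05183d5468c1eaa2c60f5016307a789183d3848c1e824460f3f123079c8b183cdc88c1e6c2460f3606307978b183c942)))) (BT.node (nat_lit 775) (BT.leaf (Bx.mk (nat_lit 0x8c25fc44612fd223097e05184bec78c25ee44612f222309790f184bc448c25e02c612f0123097703184ba848c25d024612e612309728b184b8858c25bc44612de123096e0f184b7048c25b624612da1a3096d07184b5878c25aa3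4612d31a3096989184b4c38c25a614612d1123096809184b3c58c259e24612cd12309660f184b2088c258e44612c40a3096089184b0438c25802c612bf223095f8f184afc28c257c34612bc223095e0d184af048c257814612ba0e3095903184ac468c255e2c612ad163095603184aa858c25503c612a31a309518b184a7c68c253e1c6129f0a3094f0f184a7868c25363c612991e3094c87184a5858c252a24612941e309488d184a4418c2520246128f12309460f184a3068c25180c6128a12309440d184a2058c25002c6127d1a3093d8f1849e048c24ec34612760e3093b051849d058c24e63c612731a30939871849cc28c24e2346126e0e309348b18499848c24b62c6125a123092c8918495848c24a0246124f1e309268918492c78c24901c612480a309228318490848c247c3c6123e063091c8d1848e048c246e3c612371a3091b8b1848d478c246a346123112309170f1848b478c244c2c612241e309120d18489058c2444246122122309108918488068c24400c6121f1e3090f8918487888c243c346121e123090d0d18484c68c24203c6120c1e309060b18481c88c240c446120512309011118480838c240024611fc1e308fe0d1847ec18c23ea1c611f50a308f80b1847bc58c23dc14611ea1a308f41118479048c23c61c611e30a308f10f18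478448c23be24611de12308ee8918477078c23b834611dc0a308ed8f18476c68c23b42c611d112308e70b18472c48c239224611c41a308e20718470448c23802c611bc06308dd891846e478c23702c611b806308db091846d828c236a3c611b51a308d9891846bc78c235c24611ad16308d60f18469c58c234e24611a50a308d20f18468458c233e2c6119e16308cf0918467478c233a1c6119d0a308ce0f18467068c23282c6119022308c78d18463858c2316246118712308c20d18461058c23043c6118016308bf0f1845f868c22fc2c6117b12308bd091845e048c22da3c6116a1e308b50d1845a048c22ce2c6115b0a308aa0918453078c2298346114712308a10b18450848c22823c611411a308a08718450428c22803c6113d123089e091844e858c22740c611371230899891844bc58c225c346112e16308968d1844ac58c224c346112116308900b18448048c223a2c6111b1a3088c8f1844646))) (BT.leaf (Bx.mk (nat_lit 0x8c29902c614c72230a638718531868c29843c614be1230a5e0d1852f038c297024614b61230a5a111852c458c296224614b02230a580f1852bc88c295e34614ad0e30a548f1852a468c295024614a52230a520b18529048c294624614a21e30a508f18528078c293e3c614992230a4b0b18524c78c29263461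4902230a460918522c78c2916346148b1630a450f18522868c29142c614891230a430b18521438c29082c614831630a410f18520868c29041c614820a30a3f0f1851f048c28f62c6147a1230a3b891851cc78c28e61c614730a30a38891851c058c28da446146d1a30a36871851ac58c28d034614622230a308718517c68c28bc446145e0e30a2e0b18517048c28b63c6145a1e30a2c8f18514c88c28902c614480630a1f0b1850f418c28783c614391230a1b891850d088c28642c614320630a18091850b088c28503c614261a30a130918509838c284c146141d1a30a0c8b18506048c282e24614151230a0a0918503888c281c346140e0e30a068f18502c58c280e14614041630a018f18500c68c28042c614011e30a000b184ff858c27fc24613fa1e309fd0d184fe478c27f234613f71a309fa89184fd078c27e224613ee06309f58b184fa888c27d434613ea0e309f40b184f9078c27bc2c613de12309ee8b184f7078c27b03c613d61a309e909184f4458c27a02c613cf22309e78f184f3c38c279824613cb12309e50d184f1848c278a24613c31a309e00b184f0018c277e0c613bd1e309de8d184ef078c27683c613b41a309d989184ec088c27582c613ab0e309d487184ea428c274624613a10e309d085184e8088c273c2c6139d0a309ce0f184e6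c48c273434613981e309cc0d184e6038c272c3c613961a309c98f184e4c68c27260c6139212309c609184e1858c27083c6138416309c189184e0458c26f8146137a1a309bd05184de088c26ee3c6137706309ba89184dd068c26e634613701e309b78f184db478c26da346136a0e309b40d184da038c26cc44613661e309b30d184d9838c26cc146136312309b08b184d8018c26be3c6135e1a309ad8f184d6868c26b22c6135912309ac0b184d5828c26a23c613501e309a80d184d3078c26963c6134806309a391184d1888c268c34613421a3099e0f184cf068c26743c61335223099a03184ccc88c2666246133106309980f184cbc88c2656246132a163099089184c6058c262a2c61314123098a03184c4c48c2622246131012309840f184c2068c26101c613080a309838b184c1818c260a2c61303223098187184c008)))))) (BT.node (nat_lit 780) (BT.node (nat_lit 778) (BT.node (nat_lit 777) (BT.leaf (Bx.mk (nat_lit 0x8c2d0444616812230b3e0d1859ec48c2cf43c6167a1a30b3c0d1859e038c2cf014616741230b398d1859c448c2ce02c6166e1a30b37071859b828c2cda3c6166d1630b360d1859ac78c2cd6346166b1230b35851859a078c2cd01c616680a30b338918599868c2cca34616631e30b318718598c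28c2cc0446165b1630b2c8718593c48c2c941c616471230b228918591058c2c8024616400a30b1f0d1858e078c2c7034616301630b16071858a448c2c4c24616241a30b110f18587c78c2c3e346161f1630b0f0b18587048c2c343c616191230b0b8918585448c2c263c616131a30b088f18584468c2c1e246160e1a30b058918581428c2c0824616021630b010918580488c2c0214615fe2230aff0b1857f088c2bf83c615fc1230afd911857ec68c2bf624615f91630afc091857dc78c2bee34615f61630afb091857c458c2be034615ee1230af68d1857b438c2bda14615ec1630af5831857a838c2bd414615e91a30af48b18579458c2bca24615e41630af11118578848c2bc234615e01230aee8318576058c2ba83c615d41a30aea0318574c48c2ba22c615c81230ae10b1856f448c2b7624615b91230adb891856c458c2b522c615a70630ad20d18569048c2b48146159d1e30ace0918566c58c2b340c615951230ac80f18564058c2b1c0c615891e30ac40b18561868c2b0c14615832230abf0f1855ec28c2af4446157a0e30ab70b1855b848c2ad81c6156c0a30ab50b18557078c2ab8346155a1a30aac8f18556438c2ab214615582230aac0918555c68c2aac2c615561230aaa0b18554c58c2aa624615501630aa80918553458c2a981461546123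0aa28d18551058c2a8824615421e30aa10d1854fc68c2a782c6153b2230a9d0f1854e868c2a742c615351e30a9a8d1854b848c2a5a0c6152c1e30a960d1854ac58c2a54446152a1230a948318549c88c2a463c615221a30a908d18548438c2a3e1c6151c1a30a8d0918546448c2a302c615170e30a890f18544858c2a223c615101e30a880d18543878c2a182c6150b1630a851118542488c2a102c615072230a831118541088c2a0214615001a30a800718540028c29f624614fa0630a7c0b1853dc58c29ec1c614f60a30a79911853c878c29e434614f21630a78111853bc58c29d624614e82230a740518539858c29c814614e21630a708718538428c29c034614e00a30a6f8b18537858c29b82c614dc1230a6d0918535c68c29ac2c614d41e30a6a0d18534c78c29a634614d21e30a690d18534448c29a03c614ce1630a648f1853246))) (BT.leaf (Bx.mk (nat_lit 0x8c305e0c6182e1230c160b1860ac38c305614618290a30c138f18609c68c304c24618230e30c110b18608478c30422c6181b0e30c0d8518606468c30321c618190a30c0c0718605c88c302c2c618161230c0a8b18605448c302834618141630c088d18603c28c300e2c618061e30c030d18601838c300c14618040630c008f185ff848c2ffa24617fc1e30bfe0d185fec48c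2ff424617f91230bfc0b185fd448c2fe834617f40e30bfa05185fcc48c2fe424617ef1a30bf58f185fac38c2fd614617ea0a30bf409185f8868c2fc41c617e11e30bf08d185f8458c2fc03c617de1e30bef0d185f7818c2fb424617d91630bec0b185f5c48c2fa83c617d41a30bea03185f4c58c2fa02c617ce1630be58f185f2c68c2f960c617c91e30be187185f0478c2f8234617c10e30be00d185efc58c2f7c34617bd1630bdd0b185ec068c2f602c617af1e30bd78b185ea858c2f5424617a81230bd407185ea028c2f4c3c617a32230bcb8d185e5488c2f2a24617941630bc88f185e4468c2f220c6178f1a30bc689185e2c78c2f1024617851630bc00f185e0068c2efe246177d1630bba89185dc448c2eda0c6176a1630bb487185d9078c2ec6346175c1e30bae0d185d7058c2eb224617560e30baa09185d5038c2ea8146174e1a30ba50b185d0858c2e80246173d1230b9c09185cdc48c2e682c617340630b9709185cb088c2e58346172c1230b9489185ca078c2e5034617281630b9389185c9478c2e3a2c6171a1e30b8d0d185c5878c2e2a2c617110a30b880b185c3c18c2e142c6170a1230b8403185c1c48c2e0c44617061e30b830d185c1828c2e0a24617041e30b820d185c0c78c2e0434617001e30b8003185bd468c2dea1c616f11e30b7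80b185bc048c2dde24616ee1230b768b185bb078c2dd81c616ec0a30b748b185ba018c2dce3c616e71a30b7387185b9c28c2dcc3c616e61a30b730b185b9458c2dc634616e11e30b708d185b8048c2dba34616dd1230b6e87185b6458c2db02c616d71e30b6b8d185b5848c2daa2c616d21e30b6905185b3c48c2d9224616c90a30b6383185b1858c2d8a44616c51a30b6289185b1438c2d8a14616c20e30b6105185b0428c2d760c616ba2230b5d09185ae048c2d680c616b21630b570f185ab868c2d5c2c616a91230b5483185aa038c2d4e34616a50a30b5205185a8c58c2d44146169d0a30b4e11185a7048c2d322c616980630b4b8f185a5078c2d2834616940e30b490f185a4868c2d240c6168f1e30b478d185a3858c2d1a1c6168d0a30b4489185a186)))) (BT.node (nat_lit 779) (BT.leaf (Bx.mk (nat_lit 0x8c33ec14619f21e30cf88d1867b048c33d814619e61230cf28b18677858c33b42c619d91230ceb0d18675088c33a21c619cb0e30ce39118671478c338824619c31e30ce18718670878c33823c619c01230cdf891866f888c337424619b81e30cdc0d1866e058c336e24619b61630cda891866d048c336624619b11630cd8891866c418c33601c619b00a30cd7091866b828c335a3c619ad1a30cd5091866a818c33503c61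9a71230cd30918669078c334834619a01630cd00918667c48c333c146199c0e30cce0518666c38c333244619971630ccb8918665878c332c34619951e30cca8b18664c78c332634619911230cc60f18661c78c330e34619861230cc18318660468c32fe246197d1e30cbc8f1865d848c32ea3c619750a30cb8891865bc58c32dc146196b1e30cb5831865a868c32d224619681630cb18b18658878c32c434619601e30cb00d18657818c32b6446195a1a30cac8918655c58c32a0446194f1230ca58f18652058c32863c619421230c9c891864dc68c326824619331230c990d1864bc18c325a246192a1a30c948918649c18c324c2c619241e30c910b18648458c324224619201230c8f8f18647848c323a2c6191b1230c8d0f18645488c321a3c6190c1230c858f18642c68c321024619061230c828918641038c320234619000a30c7f0b1863f418c31f834618f71a30c7b0f1863d048c31e63c618f31a30c79871863b448c31d60c618e71e30c738718639058c31c634618df1e30c6f8d18637448c31b034618d71230c6a1118635058c31a42c618d11630c688918633068c31883c618c31e30c618d18630088c318034618bf0e30c5e891862ec78c317634618ba1230c5c8b1862dc58c316e24618b70630c5b0f1862d838c316c14618b21e30c590d1862c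448c315c44618ad1e30c55111862a868c31541c618aa0a30c540f1862a028c31482c618a21e30c508d18628058c31383c6189c1230c4d8d18626c48c313044618981a30c4a8918625048c312234618910e30c478f18623c68c311e1c6188f0a30c470b18623478c311a1c6188d0a30c460f18622858c311244618891e30c448518622058c310814618822230c410718620458c31002c6187f0a30c3f0b1861ec78c30e63c618731a30c38091861b448c30d624618671e30c338d18619448c30be446185e1a30c2e0918616048c30b00c618571a30c2b8b18614438c30981c6184a1a30c230718611828c308824618421e30c210d18610428c307e2c6183e1e30c1e8d1860d058c30663c618331a30c19871860cc2))) (BT.leaf (Bx.mk (nat_lit 0x8c37b22c61bd61a30dea0b186f4878c37a43461bd11630de409186f1c78c378e3461bc51630de187186f0c28c37843461bc11630ddf8f186efc68c377e0c61bba1a30ddb8f186edc58c376c3c61bb51e30dda8d186ecc68c37623c61bb11a30dd70d186eb818c375a4461bab1a30dd58b186e9088c37483461ba40e30dcf8d186e7058c37343461b991630dcb89186e5848c37282c61b930630dc90b186e4848c37221c61b910a30dc80b186e3c78c371e3461b8d1230dc609186e2c78c37163461b8b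1630dc503186e1c78c370c3461b851230dc205186e0c48c37024461b811a30dc00f186e0058c36fe2461b7b2230dbc83186de078c36ee3461b751e30db903186dc448c36dc3c61b6e1a30db609186da448c36cc3c61b651230db209186d8868c36c23c61b611a30db08b186d8078c36bc2461b5a1230da78b186d2c48c36942461b481230da189186d0848c36803461b401630d9f89186cf068c36763c61b3b1a30d9c8f186ca848c36502c61b251e30d9209186c8418c363e0c61b171e30d8a07186c5028c36262c61b111e30d888d186c4058c361e4461b0f1a30d8787186c3c28c361a2c61b0c1630d858f186c2c58c360c2c61b001e30d800d186c0018c35f23c61af90a30d7c0b186bdc78c35ee1c61af70a30d7a09186bc448c35de2c61aea0630d7403186b9c88c35c82c61ae21230d7091186b7488c35ba3461adc1630d6d8d186b5878c35a41461ad12230d6791186b3888c359a0c61acc2230d6609186b2c88c358e3c61ac70e30d6385186b1848c358a2c61abd2230d5d8f186ac828c355c3c61aae1630d568d186aac48c354a2c61aa31a30d4e09186a5888c352c3c61a961a30d4b07186a5488c35244461a900a30d4611186a3048c35143461a8a0e30d4505186a2468c35121c61a871230d430f186a0848c34fe3c61a7f1630d3f091869f048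c34f62461a791230d3c0f1869e038c34da2c61a6c1630d35911869ac78c34d63461a6b0e30d35851869a448c34d03c61a681a30d330f18699478c34ca3461a641a30d310918698078c34c03461a591e30d2c0918695c48c34ac2461a551630d298f18694c68c34a42461a4e1230d228b18690c18c347c2461a3c1230d1d8b1868dc48c345c4461a2e1e30d17071868b828c344e2461a251e30d128d18689088c34382c61a1c1230d0a8318685048c34242c61a0f1e30d078d18683058c34162c61a051630d020f18681068c34081c61a040a30d011118680058c33fe3c619fd0e30cfd8d1867ec18c33f424619f91a30cfb8d1867d84))))) (BT.node (nat_lit 782) (BT.node (nat_lit 781) (BT.leaf (Bx.mk (nat_lit 0x8c3b0a2c61d811230ebc8b1875e448c3af03461d761630eba0b1875cc18c3ae43461d721630eb88f1875c468c3ae02c61d6d1a30eb50b18759878c3ac83461d641630eb18918758848c3aba0c61d5c1e30eae0d18755848c3aa22461d501230ea70918753818c3a944461d4a0a30ea40b18751848c3a8a2c61d441630ea20918750858c3a822461d401630ea0091874fc48c3a7c2461d3d0e30e9e851874e438c3a702c61d321a30e988b1874b478c3a5a3461d2b1230e950f1874a048c3a500c61d271a30e930d1874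9478c3a482461d231630e910f18748868c3a422c61d201230e8e8b18746c48c3a320c61d171a30e8b0f18745868c3a2c2c61d121630e890918744418c3a204461d100a30e878d18743878c3a1c3461d0d1a30e860918742c48c3a142c61d091e30e848d18741068c3a003c61cfd1230e7d091873e458c39ee2461cf51a30e798d1873bc58c39dc2461ced1230e758f1873a458c39d04461ce80e30e738f18738c78c39c63461ce31630e6f0f18737828c39b82c61cda1230e6b8918735048c39a23461cd10630e680f18733888c399a2c61cc91e30e638918731888c398c3c61cbc1230e5d891872e458c39720c61cb81630e5b8f1872dc68c396e1c61cb70a30e5b0b1872d848c396a4461cb50a30e5a0d1872d058c39662c61cb21e30e590b1872c478c39622c61caf0e30e57851872b448c39562461ca81e30e540d1872a058c394c4461ca61230e528b18729078c393a2461c9c1630e4d8b18726858c39324461c991e30e4c8718726078c39302c61c971230e4b0918725488c392a3461c950e30e4a0918724c58c39242c61c911230e470b18723468c39142c61c831e30e418d18720888c39003c61c801a30e3f911871f848c38f42c61c761e30e3b0b1871d448c38e42c61c711630e38891871b448c38c83c61c641630e320318718868c38be2c61c5e1230e2e8b18717078c38b83461c5c0a30e2d8b18716478c38b03c61c581a30e2a8918715078c38a82c61c521e30e290d18714858c38a02461c4f1630e240d18711c48c388c3c61c461a30e21831870f448c386a3c61c331230e168f1870b458c38583461c2a1230e138b18709048c38403c61c1f1630e0f0b18706c18c38342461c191230e098318703468c381a0c61c0c1630e059118702c68c38161c61c0a1230e038918701458c38064461c002230e000f186ffc88c37fe3461bfd1230dfd85186fd478c37da3461bea2230df509186f9c88c37ce2461be61230df289186f8c78c37c62c61bdc1e30ded91186f6c6)))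 (BT.leaf (Bx.mk (nat_lit 0x8c3e3e3c61f1f1a30f8f0f187c7868c3e383c61f1c1a30f8e0b187c6c68c3e342461f181630f8b8f187c5c68c3e2e1c61f170a30f8a89187c4078c3e203461f100e30f8805187c3c58c3e1c3c61f0e1a30f870b187c3478c3e1a2c61f0b0630f8511187c2818c3e0e0c61f061630f8309187c1818c3e0a4461f050e30f8285187c0c58c3dfe3461eff1230f7e8d187bf458c3df83c61ef70630f7b0b187bd488c3dea0c61ef41e30f798d187bc858c3de42461ef20630f788d187bc428c3de04461eee1e30f770d187bb838c3dd02c61ee41230f700b187b7c78c3dba1461edc1230f6d0f187b6868c3d9e2c61ecc1e30f660d187b3048c3d924461ec61e30f630b187b1448c3d883461ec41630f6189187b0868c3d822461ec01630f5f89187af858c3d7a4461ebd0e30f5d8f187ae458c3d702461eb61230f5a89187abc68c3d5e2c61ea81230f538b187a9448c3d4a0c61ea31a30f5185187a8078c3d403461e9d1230f4d8b187a6428c3d2e3c61e961e30f4b0d187a5468c3d2a2c61e941a30f498b187a4848c3d202461e8d1630f458f187a2878c3d103c61e880630f428b187a0c78c3d042461e7c1230f3c0f1879dc68c3ce82461e731230f39871879cc28c3cd64461e6a1230f320b18799018c3cc64461e611630f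2f8f18797c58c3cbc0c61e581630f2b0b18795048c3ca62461e521230f288918793848c3c9a4461e4d0e30f268518793058c3c963c61e4b1a30f258718792c28c3c943461e491a30f248b18791c68c3c8a1c61e441230f1c0b1878dc78c3c6e3461e351630f1a891878d418c3c682461e340e30f1a051878c448c3c603461e301630f178d1878ac78c3c562c61e1f1e30f0f8d18787878c3c3c2c61e1a1230f0c8718785478c3c2a1461e141230f098f18783048c3c123c61e091a30f010f18780478c3bfe3461dff1630eff831877f888c3bfa2c61dfa2230efd071877e068c3bf00c61df60e30efb051877d058c3be82461df31e30ef8831877a058c3bce2c61de71230ef18d18778878c3bc43461de11630ef00b18777c18c3bb23c61dd91a30eea8b18774c38c3ba02c61dcf1e30ee78b18773848c3b9c0c61dcd0630ee60f18772c78c3b963461dca1230ee48f18772448c3b921c61dc81630ee30d18771858c3b842461dc11a30ee00f1876f048c3b723c61db90630eda0b1876bc68c3b5e1c61daa1a30ed48b18769888c3b4c1c61da51e30ed10918767c48c3b362c61d9a1a30ecd0718766828c3b2e0c61d961e30ec80918763468c3b123461d871e30ec3891876147)))) (BT.node (nat_lit 783) (BT.leaf (Bx.mk (nat_lit 0x8c41962c6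20ca22310649118832088c417c34620bd1e3105e8d1882ec48c41742c620b8163105b8f1882d878c416c34620b5223105a871882d048c41642c620ae22310540918829c88c414e24620a61e310530d18829048c413c3c6209e1a3104e0b18826888c4120446208f22310478518822c48c41082c6207d163103d111881e818c40ec2c6207522310388f1881c068c40ce3c6206516310328918819088c40c8346206316310308b18817858c40ba2c6205d123102e0f18817068c40b81c6205c0a3102d8b18816478c40b234620521e310290318814448c40a044620500e310260d18813048c40981c620491a310240f18812068c408e246204416310218b18810448c40783c6203c063101c8d1880e058c406c24620341e3101a0d1880b858c405a2c6202c1631014911880a478c4052146202712310130f18809858c40482c62023123100f0f18807868c403c2c620101e310071118803848c40143c6200a06310040318801c88c400a446200422310018718800c28c40022c61fff1230ffe91187ff478c3ff82461ffb1e30ffd8d187fec58c3fee3c61ff51a30ff90d187fc058c3fde3461fed1230ff38b187f9858c3fcc2461fe51e30ff107187f8828c3fc24461fe11a30ff087187f7c58c3fba3c61fdd1a30fea03187f4c78c3fa62461fd30a30fe909187f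4478c3fa23461fd11630fe78b187f3838c3f9a3461fcd1630fe40f187f2068c3f8c3c61fc51230fe209187f0448c3f803c61fc01a30fdf0f187ef858c3f703c61fb81630fdb89187ed078c3f683461fb40630fd68f187eb468c3f540c61fa91e30fd48d187ea078c3f503461fa71630fd203187e8878c3f443461f9f1630fcf11187e7878c3f3c3461f9e0e30fcf05187e7478c3f382c61f9c1230fcc8f187e5c78c3f2e3461f961630fca09187e4878c3f202461f8e1a30fc589187e2818c3f123c61f891a30fc40f187e2068c3f102c61f871230fc28d187e0c88c3f063461f831230fc10b187df878c3ef82c61f7a1e30fbd0d187de838c3ef41461f761630fba8b187dc458c3ee02461f6f1230fb70b187db448c3ece2461f641230faf0b187d7478c3eba3461f5b1a30fab0d187d5818c3eaa3461f531230fa789187d2c48c3e942c61f481a30fa389187d1488c3e8a3c61f450e30fa285187d0c58c3e843461f420e30fa005187cf878c3e7c3461f381e30f9c0d187cdc78c3e6c3461f332230f998d187ccc38c3e5a1461f291630f9489187c9c78c3e4e3461f270a30f910f187c8478c3e422c61f201e30f900d187c805))) (BT.leaf (Bx.mk (nat_lit 0x8c45580c622aa223115507188aa478c455234622a81e311540d188a8c78c454634622a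316311508f188a7478c453a346229306311490d188a4838c45202c6228e16311460f188a3068c4516346228b16311418d188a0c38c45021c62280163113f8b1889ec58c44f43c6227a1a3113d071889d058c44e63c6226a0a311338918899c28c44ca2c62260163112e0518896888c44ae246225512311298d18892c58c449424622491a311220918890868c447e2c6223e1a3111d0b1888e448c446e2c622321a311190b1888b458c445424622291a311140d18889448c44483462223163110f8b18886c78c44322462219063110a8b18885058c442624622101e311080718883c58c44162c6220a1e311050318882068c44101c6220722311028b18881448c44063c6220316311010b18880058c43fe3c621ff1a310ff831887f048c43f81c621f516310f60d1887a868c43d024621e416310f10d18878838c43c414621de16310ee8f18877468c43b83c621dc1a310ee0b18876818c43b224621d822310ec0918876028c43ae3c621d71a310e98f18872848c43920c621c806310e38518871878c438c34621c616310e28f18871468c437e24621bd1a310de051886ec48c43703c621b80e310db891886cc78c435e0c621ae12310d6071886b028c435224621a71e310d38d18867c78c433e346219e16310cd0d18866448c432e34621961a310c88918862c6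8c43143c621871e310c28f18861468c430634621830e310c08f18860438c4302146217f16310bd8b1885e858c42f424621771a310bb0b1885cc58c42e42c6216b16310b48f1885a458c42c6346216216310af8f18854c68c42a62c621521a310a88f18853c28c429c3c6214e1a310a68718853058c42962c6214a16310a48b18851c78c428834621440e310a20518850c58c428624621421e310a01118850048c42762c6213a163109b8b1884d858c426c24621351e3109a8d1884d438c426a14621341e3109a0b1884c448c425e2c621230e310918518848868c42422c6212106310900b18848018c423e3c6211f1a3108f0f18847868c42383c6211c1a3108d8918846848c42322c62118163108c0318845c78c422e2c62115163108a0f18845028c422644621131a310889118844058c421c3c6210a22310849118841858c420c24621051e310828d18841438c420a14621031e310808d1883e478c41f234620f7223107b0f1883d458c41e02c620ee2231076891883a478c41d234620e622310720918837888c41b044620d71631069091883348))))))) (BT.node (nat_lit 792) (BT.node (nat_lit 788) (BT.node (nat_lit 786) (BT.node (nat_lit 785) (BT.leaf (Bx.mk (nat_lit 0x8c499e2c624cd16312638f18931848c4986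44624c30e312600b1892f048c497044624b8123125b0d1892c428c49602c624af16312570f1892ac58c494634624a1163124e0918926848c492c0c6248f16312450f18921c58c49063c6247622312358f1891a058c48ce1c6246616312328b18918c58c48c42c62461223122f8b18917828c48b62c6245b123122c8d18915858c48aa2c6245416312298f18914848c48a0246244c22312259118912468c489034624451e312228d18910c58c48860c62442123121f0d1890f488c486244624311a31218871890b068c484424624201e312100918908038c483e346241e1a3120e8918907078c48382c6241b163120c8d18905c58c4826346241316312090b18904478c48222c6240e16312070918903458c481a0c6240c1a312058d18902878c4814346240806312031118901818c480a3c6240412312018918900868c48003c623fe0a311fe09188fec28c47f43c623f312311f80b188fb478c47d83c623ec1a311e98b188f4458c479c2c623ce06311e50b188f2058c47900c623bf12311df0f188ef478c477a34623bd16311dc8b188ee078c476c2c623b51e311da09188ecc68c476434623b016311d70b188eb478c47583c623aa22311d211188e9068c474814623991e311cc8b188e6088c472a2c6239016311c78d188e3c38c471e146238d22311c58b1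88e1c48c470c2c623851e311c08f188e0468c46f22c6237712311ba91188dc858c46e40c6236d22311b68d188db448c46d81c6236422311b191188d8888c46b83c6235c16311ad0f188d5848c46a8246235316311a809188d3448c4696346234612311a20b188d1048c46803c6233e163119e09188cec58c466c3462336123119b07188cd828c4668246232e163119703188ca818c465224623251e311928d188c9038c46463c62320063118f11188c7868c463c246231a163118c0b188c6018c46282c6231406311898f188c4c68c46261c623130a311890f188c4868c46242c62311123118783188c3878c461a346230b1e311850f188c2868c46121c623070e311830b188c0848c460224622fc163117c0d188bd878c45ec34622f41e3117a0d188bcc58c45e424622ef0a311758f188ba068c45ca24622e41a311720b188b8868c45ae2c622d6123116909188b3448c45983c622cb1e3116509188b2838c458e44622c7123116383188b1888c458a44622c51a3115f03188ae458c45720c622b8163115c03188adc68c456c34622b5163115a0f188ac078c456034622b0163115783188ab84))) (BT.leaf (Bx.mk (nat_lit 0x8c4d6a3c626b50e3135a85189ad068c4d681c626b40a3135987189ac458c4d603c626af163135789189ab878c4d5c1c6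26aa1e3135503189aa448c4d46246269d123134e09189a6058c4d2e2c626961e3134b0d189a5428c4d262c626921e3134891189a2048c4d100c62687123134289189a0c58c4cfc246267d1e3133d911899e088c4cee4462676223133a911899d468c4cde2c6266a12313338918998c78c4cc43c62661123132f0918997078c4cb62c6265a063132c8d18996058c4cae2c62657123132b8318995878c4cac3462654163132a0918994c78c4ca634626530e313298518994448c4ca0346264f16313270f18993458c4c980c6264812313240318990c68c4c821c6263e223131f0d1898f478c4c7a346263b1a3131a8f1898d468c4c6024626241e313111118988458c4c3c2c6261b063130c0f18986068c4c2e2c62617123130a9118985078c4c2834626131a313070b18983848c4c1a246260c1e313060d18982c78c4c12446260916313048918981c18c4c0c3c6260612313028d18981078c4c0834625fe12312fe8f1897f468c4bf83c625fc1a312fe091897ec68c4bf244625f91e312fc8d1897e428c4bee3c625f70a312fb0b1897d478c4bd424625ea0a312f4911897a468c4bca3c625e51a312f08918977c18c4bac2c625d41a312e88f18973c78c4b9e34625c412312e20718971028c4b7e2c625bd12312dc0b1896dc88c4b6e3c625b71a312db871896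d848c4b6834625b312312d7911896b888c4b5634625aa16312d28918968c58c4b4034625a016312cd8f18966c68c4b2c3c6259616312ca0918964c88c4b26146259016312c78b18963878c4b162c625891e312c48d18962438c4b1214625851a312bf911895f878c4af80c6257916312ba8f1895d458c4ade446256f1a312b58b1895a868c4abc346255c12312ac8918954c58c4aa6246255216312a88f18954468c4a9c246254e0e312a70518953018c4a96446254b12312a38918951478c4a8a34625450e312a28518951078c4a843c6253f163129f0f1894f828c4a7a2c625381e3129c0d1894d078c4a6834625331e312968f1894b418c4a5624625291e312948d1894a458c4a50346252616312918718948858c4a3a2c6251d123128c8f18946028c4a262c6250e16312858f18942c58c4a0e3c6250706312818718940458c4a004462500163127f911893fc78c49f63c624fb1a3127d831893c488c49e044624ee1631275911893a078c49d034624e816312718b18938418c49be3c624db1e3126d091893404)))) (BT.node (nat_lit 787) (BT.leaf (Bx.mk (nat_lit 0x8c504e2c6282712314138318a09088c503e3c6281e1a3140e0d18a07028c5036446281a063140c1118a05c88c502e3c62816223140b0d18a04c18c50243c628121a31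4088918a04058c501e1c6280e1a314070b18a03458c501a246280c1a314048f18a02458c50063c628031a3140189189ff448c4fee3c627f71a313fa85189fc848c4fe22c627f112313f883189fc078c4fe01c627f00a313f28b189f9448c4fc82c627e316313f189189f8818c4fc234627e01e313f00d189f7c48c4fbc24627de06313ee91189f7478c4fba34627dd0e313ee85189f6078c4fae44627d616313ea8b189f5448c4fa834627d11e313e88d189f3848c4f963c627cb1a313e58b189f2418c4f9044627c816313e391189f1c78c4f8c44627c61a313e18f189f0c68c4f843c627c21a313e08b189f0448c4f7e1c627bf0a313df0b189eec88c4f763c627bb12313dd85189ee878c4f7434627b91e313da07189ecc58c4f6034627ae1e313d703189eb448c4f5424627a51a313d00d189e8048c4f401c6279d1a313ce07189e7028c4f36246279a1e313cd0b189e6048c4f2634627921e313c78b189e3858c4f1c246278d1e313c687189e3428c4f182c6278b1a313c509189e1848c4f0c1c6278416313c189189e0c38c4f042c6278022313c00f189e0028c4efc246277c16313bd05189ddc58c4eec2c6277516313ba0d189dd038c4ee814627731a313b90d189db068c4ed61c6276b0a313b48f189da468c4ece3c627671a313b30d189d9838c4ec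a24627641e313b20d189d8848c4ec0246275e16313ae8d189d7438c4eb8246275b12313ad0d189d6838c4eb414627591a313ac09189d5c58c4eac146275516313a90d189d4448c4e9e346274e22313a705189d3458c4e9a246274c16313a50d189d1848c4e8a34627450e3139d0d189ce828c4e703c627361a3139a0d189cc478c4e62146272e12313968f189cb468c4e582c6272b123139587189cac28c4e4e246272616313920f189c9068c4e4614627200a3138e09189c6c48c4e342462718123138b91189c5c68c4e2c2c62716123138a8d189c5438c4e2a146271122313880b189c3c58c4e1e246270e063138691189c3478c4e1a1462707123138083189bd038c4de634626f30e313790d189bc838c4de03c626ef1a313768b189bb048c4dca24626e506313720f189b9038c4dc814626e0123136a8b189b5078c4da624626d116313648b189b2078c4d902c626c71e3136109189b0478c4d8234626c01e3135f09189ae028c4d6e3c626b71a3135b0b189ad48))) (BT.leaf (Bx.mk (nat_lit 0x8c538434629c01e314e00d18a6fc78c537c24629bc12314dd8918a6e458c536a2c629af12314d70f18a6a848c534e24629a412314d18f18a68c68c53402c629981e314cc0d18a66038c532c446299522314ca1118a64c88c532434629920e314c9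0518a63c48c531a2c6298b0a314c50b18a62468c530e346298506314c20918a60848c5302246298016314bf9118a5fc68c52ec246297516314ba0f18a5c888c52e4346296e16314b70918a5a878c52d2246296812314b30918a59838c52ca2c6296512314b08318a57c88c52ba1c6295822314a81118a53c88c529c246294c1e314a48b18a50868c52841c6293e0e3149e8b18a4f058c52762c629391a3149b0b18a4d058c5264446292d12314950f18a4a868c52503c629271e314938d18a49878c5248246292116314900b18a47858c523c246291d1a3148e8718a47428c52360c6291a163148c8b18a46418c52302c629141e3148a0518a44c68c5224246291116314869118a43448c521a146290c1a314859118a42c38c52143c6290a1a314840b18a41458c52080c6290216314808f18a40468c52003c628ff163147f8318a3f858c51fc0c628fc1e3147d0f18a3e868c51f23c628f91a3147a8f18a3d468c51e844628f412314798918a3c878c51e434628f112314778f18a3b878c51dc2c628eb1a314748918a3a078c51d034628e80a314720918a38448c51c024628df1a3146c8b18a35888c519a44628c91e314648d18a31888c518a24628c222314610918a30488c517e2c628bf123145e8d18a2f058c517624628ba1e3145d0518a2d458c516a24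628b5063145a0f18a2d038c516814628af22314568b18a29868c51463c628a11e314508d18a27018c51303c628961e3144b0d18a24038c5120146288f1e314478d18a23c58c51122c6288516314420b18a20c58c51062462883063143e8d18a1f058c50f244628791a3143c8718a1d858c50ea2c628740e3143a0518a1cc78c50e6346287112314380918a1a458c50d00c6286712314330b18a18878c50c4346286212314308f18a18058c50bc446285e1e3142f0d18a17828c50b83c6285c1a3142e0318a16c88c50b63c6285b1a3142d8918a16c38c50b614628591e3142c8d18a15878c50a42c6285212314288d18a14448c50a21c628510a314280d18a13848c509a346284b16314250b18a12478c508c246284512314210f18a10458c5080246283e1e3141f0d18a0f438c5076346283a123141c0d18a0d058c50680c6283316314181118a0c048c505e446282f1a314178918a0b45))))) (BT.node (nat_lit 790) (BT.node (nat_lit 789) (BT.leaf (Bx.mk (nat_lit 0x8c567a1462b3c163159d8b18acec18c566e2462b351e3159a8718accc48c56642462b320e315990518acb878c565c3462b2d12315958f18ac9488c564a1462b2416315918718ac8458c56402c62b20063158f8d18ac7478c563a3462b1a163158a8f18ac3858c56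1a2c62b0b22315858718ac2858c560e3c62b061a315828b18ac1078c56083462b040e315820518ac0878c56043462b020e315810518ac0458c55fe2c62afe1a3157d0b18abe478c55f23462af9063157c0b18abd848c55ea2462af316315798918abc858c55e23c62af012315778918abb048c55d81462aeb12315748f18aba438c55ca1c62ae212315708f18ab8438c55c21462ae0163156f8b18ab7038c55b81462ad5163156a8918ab4c78c55a03462acf1e315678d18ab3088c55943c62aca06315649118ab2478c55923462ac912315648718ab2428c558c4462ac60a315620b18ab0058c557e3c62abf0e3155f8518aaf858c557c2462abd163155e1118aaf078c55781c62abc0a3155d8d18aaec58c556e2c62ab61e3155b0d18aac878c55643462ab212315590718aac828c55623c62ab11a315580918aabc48c55522462aa812315538b18aa9058c55463c62aa31a315518718aa8c28c55421462aa0163154e8b18aa7068c55362462a98223154b8b18aa5458c55243c62a9216315470918aa3068c55182c62a8b1a315450918aa2448c55102462a8616315428918aa0c48c55060c62a811e315400f18aa0068c54f84462a7c123153e0518a9e858c54ea2c62a6f22315378f18a9bc68c54de1462a6d22315368d18a9b438c54d63462a6b16315338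b18a99c48c54c63c62a621e315308f18a98468c54b81c62a5b1a3152c0b18a96048c54ae2c62a57123152a8918a95058c54a82462a5322315298718a94c28c54a43c62a5216315278d18a92458c54903462a40223151f8d18a8fc38c54761c62a39163151c8918a8e078c54702462a371e315188918a8ac48c54542462a281a315110918a88068c54363c62a1b0a3150c0918a85458c54264462a131e315098918a84488c541e2462a0d16315068918a83058c54163c62a0b1a315040b18a81858c540a3c62a050e315028518a80c58c54022462a010e315008518a7f448c53f81c629f90a314fc0b18a7d858c53de2c629ec22314f60918a7b038c53d43c629ea1a314f50b18a7a468c53d22c629e316314f18918a78448c53be3c629df0e314ef8518a77418c53b834629d322314e90b18a74458c53a224629d106314e61118a72c48c53903c629c816314e28d18a7087))) (BT.leaf (Bx.mk (nat_lit 0x8c59da1c62cec16316758f18b3ac68c59d61c62cea1e316748d18b37018c59b42c62cda063166c0918b35c58c59a82c62cd21a316690718b33c88c599a3c62ccd1a316660918b32858c59903c62cc81a316638918b31858c59842c62cc206316608d18b2f858c59722c62cb21e316590d18b2c818c595a2c62cac1a316560518b2ac78c59563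462cab0e316558518b2a858c59523c62ca91a316540b18b29848c59482462ca312316508f18b28468c59363462c9a123164b0318b25448c59263c62c9206316480f18b24018c59123462c8916316440918b21048c59062c62c7e0e3163e8918b1e058c58f02462c761a3163b0b18b1d818c58e00c62c6e06316328f18b19468c58ca2c62c6316316308918b17858c58b82462c59123162b0318b15478c58aa3462c54223162a0718b14c48c589c2c62c4e12316258318b11838c588a2c62c4416316218d18b10448c58820c62c4016316200918b0ec58c58742462c311a316170318b0a428c58502c62c271e316128918b08c78c583e2462c1b1e3160c8f18b05c48c582a2462c121a316090318b04058c581e3c62c0d16316068918b02038c58083462c0316316018318b00858c58042462c0206315ff0918aff458c57f82c62bfc12315fd8f18afec68c57f23c62bf91a315fc0918afd848c57ea3c62bf40a315f88b18afc088c57e02462bee12315f58718afa858c57d22c62be816315f38f18af9868c57ca3c62be51a315f10b18af7428c57b82462bdb1e315ed8b18af5428c57a62c62bd216315e88f18af3088c57964462bca22315e49118af2468c57883c62bc416315e10518af0458c57762c62bba16315dc0b18aed878c576c3462bad22315d58918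aea048c574a3c62ba512315d20d18ae9048c57424462ba11a315d00918ae6888c57303c62b9416315c91118ae4868c57241462b9116315c80b18ae3c68c571e1c62b8e16315c60f18ae3068c57103c62b861e315c30d18ae1048c57061462b821e315c08b18ae0448c56fc2462b7d12315be0d18adf058c56f22c62b761e315bb0718add478c56e00c62b6f22315b78d18adbc48c56de1c62b6e1e315b70d18adb838c56dc1462b6a0e315b48b18ada058c56ca2c62b641e315b20718ad9028c56c62c62b6212315b10318ad8458c56c00c62b5c16315ad8318ad6438c56b02c62b5812315ac0318ad5858c56aa0c62b5412315a90918ad4448c569e2c62b4d0e315a50d18ad2828c56922462b4822315a30f18ad1868c568a2462b430e315a18518acf858c567a4462b3d1e3159e8d18acf43)))) (BT.node (nat_lit 791) (BT.leaf (Bx.mk (nat_lit 0x8c5c9c2462e4d16317258918b91878c5c8c2c62e431e317218d18b90058c5c7c3462e3d123171d8918b8c048c5c5e0c62e2c1e317160d18b8b058c5c562462e2a1e317150d18b8a858c5c522462e2812317130d18b89068c5c3a2c62e1c1a3170d8b18b86858c5c2c3c62e15123170a0d18b84848c5c223c62e111a317080918b83c78c5c1e3462e0e1e317060d18b82478c5c121462e0816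317038f18b81c68c5c0c2c62e0612317028f18b81468c5c083c62e0316317010b18b80478c5c023462e010e317008518b7fc68c5bfe1c62dff0a316fe8f18b7f468c5bf83c62dfb16316fd0f18b7e868c5bf41c62dfa0a316fc8f18b7e458c5bee0c62df612316fa0f18b7d068c5be02462def16316f58f18b79c68c5bcc3c62de61a316f10f18b78858c5bc23462de01e316f00d18b77c28c5bb43462dd816316ea8d18b74878c5ba43462dd116316e68f18b73468c5b983462dcc16316e48318b71878c5b8c3462dc512316e18b18b70848c5b822462dc012316e00318b6fc68c5b7c3462dbd1e316de8d18b6ec68c5b742462db91e316dc8b18b6dc78c5b6c3462db31e316d98d18b6c878c5b642c62db112316d78b18b6b418c5b503c62da712316d08b18b68058c5b3e3c62d9f1a316cf8718b67c28c5b382c62d9b0a316cd0b18b66458c5b303c62d981a316cc0b18b65848c5b2a0c62d941e316ca0d18b64c78c5b263462d9216316c88f18b62c48c5b0e3c62d871a316c38b18b61448c5b061462d8222316c10718b60468c5afc3c62d7e1a316bf0718b5f468c5af83462d7b12316bd0918b5e448c5af21462d781e316bc0d18b5e058c5aee3c62d771a316bb8b18b5d068c5ae62462d7216316b89118b5c468c5ade2c62d6e1e316b58518b5a868c5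ad22c62d6812316b30b18b59488c5ac82c62d561e316ab0318b55078c5aa82c62d4e1e316a70d18b53078c5a983462d4612316a20d18b50c48c5a742c62d390a3169c0f18b4e068c5a6a3c62d351a3169a8718b4d058c5a663c62d3016316978918b4b478c5a543462d2a0a316938f18b49048c5a462462d1f1e3168f8718b47c28c5a381c62d1b123168d0f18b46868c5a342c62d181a3168c0b18b45868c5a244462d111a316880918b43858c5a142c62d0a12316850318b42448c5a120c62d081a316838b18b41478c5a0a3462d0516316820f18b40c48c5a042c62d011a316800f18b3fc48c59fa2462cfc1a3167e0918b3f038c59f81462cfb163167d8918b3e478c59f23462cf81e3167b8918b3d878c59ec3462cf416316790f18b3c81))) (BT.leaf (Bx.mk (nat_lit 0x8c601024630080e318038b18c01488c6006446300316318009118bffc88c5ffc2c62ff812317fb9118bfd078c5fe83462ff406317f98918bfbc58c5fd02462fe722317f18918bf8058c5fbe2462fde1a317ee8d18bf7048c5fb43c62fda0e317ed0518bf6458c5fb02c62fd622317eb0d18bf5838c5faa1c62fd016317e80318bf2488c5f8a0c62fc222317e00518bef878c5f7a2c62fba1a317dc8918bedc68c5f5c2c62fae12317d69118beb078c5f562c62fa91e317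d48d18bea078c5f502c62fa61e317d28918be9048c5f463462fa216317d08918be8438c5f421462fa016317cf8d18be7468c5f383462f9b22317cd8518be6858c5f2c2c62f9612317ca0f18be5068c5f161462f8616317c18d18be0048c5f001c62f7c12317bb8f18bddc68c5eee2c62f751a317b48d18bd9c68c5ec42c62f6116317af0918bd7458c5eac2c62f5512317aa0b18bd4888c5ea40c62f5122317a88918bd4088c5e9e4462f4b22317a51118bd2488c5e8c2c62f450a3179e8f18bcec58c5e743c62f3a0a3179c8f18bcd878c5e6c3462f36123179a0918bccc88c5e603c62f300e317968518bcb078c5e564462f2916317930d18bc8c68c5e401c62f1f163178e8b18bc6048c5e284462f1306317891118bc4488c5e1e4462f0c22317860918bc2c88c5e142c62f0906317840b18bc1c58c5e0c3462f051a317828718bc0878c5e043462f020e317810518bc0468c5e022c62f00163177f8b18bbf868c5dfa2c62efc1e3177e0718bbe858c5df21c62ef90a3177c0b18bbdc88c5dec4462ef416317790b18bbb848c5dd62c62eeb06317750d18bb9018c5dc62c62ee212317708918bb7828c5db83462edc123176e0718bb6478c5db21462ed81a3176b8b18bb5848c5daa3c62ed122317688f18bb4468c5da22462ed10e317688518bb4058c5d9e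2c62ece0a317668f18bb3468c5d983c62ec91a317631118bb1458c5d881462ebf223175e8d18bad878c5d6c3462eb60a3175a0b18bac038c5d5e2c62ead1a317568b18bab038c5d562c62eaa16317520b18ba8878c5d423c62ea1163174f8f18ba7048c5d362c62e9a223174d0918ba6458c5d262c62e9312317490b18ba4428c5d1e3462e8d1a317468918ba3438c5d1a1462e8b1e317448f18ba1c58c5d0c2462e851e317428d18ba0c78c5d063462e7e123173e9118b9f478c5cfa2462e7b123173c8f18b9d488c5cea1462e7312317390b18b9b488c5cd82c62e6b1e317358d18b9ac38c5cce3c62e6212317308d18b97858c5cb82c62e541e3172a0d18b9486)))))) (BT.node (nat_lit 796) (BT.node (nat_lit 794) (BT.node (nat_lit 793) (BT.leaf (Bx.mk (nat_lit 0x8c63a42c631d01a318e78b18c73448c639224631c812318df0f18c6f868c637c14631bd16318dd0f18c6e018c63642c631b122318d78b18c6b858c635a1c631ad0a318d60918c6a888c635024631a716318d30d18c69068c63440c631a116318ce0b18c66858c633244631981a318ca0b18c64c88c63261c6319016318c80318c63878c631c346318c22318c60918c62c78c6312446318912318c30f18c61448c63082c6318322318c18f18c60c68c63062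4631830e318c00918c5fc48c62fc3c6317e1a318bf0718c5f828c62f8246317a16318bd0918c5e068c62ee2c6317412318b98d18c5cc18c62e4246317116318b88918c5c058c62e0246316d1e318b48b18c59c48c62cc246316512318b20918c58458c62c224631600a318ae9118c57088c62b82c6315a12318ac9118c55488c62aa246315216318a90918c53858c62923c631491a318a48b18c52038c62881c6314316318a08f18c50458c62760c63137163189b0918c4b858c625a2c6312b12318938918c48c48c62442c6311b1e3188d8d18c46c38c6236146311216318870f18c41018c6206346310212318810718c40058c61fe2c630fe0a3187e8d18c3f058c61f614630fa1e3187c8f18c3e468c61ee34630f422318790b18c3a488c61d044630e81e318739118c39c68c61bc3c630d8063186b1118c35868c61ac24630d60e3186a0b18c34c58c61a444630d21a318690718c34828c61a224630cc12318648f18c32468c61883c630c41a318620b18c2fc68c617e0c630be123185b0f18c2d478c61601c630af16318578918c2b858c615c0c630ad1e318548b18c2a058c614c3c630a516318520b18c28c48c61442c6309f1e3184f8d18c27858c613c246309d1e3184e8d18c26448c61302c63097163184b8918c25488c6126446309312318491118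c24848c61203c630900e318480518c23c48c611c346308e0e318470518c23468c6116446308b12318440918c22018c61083c630831a318410d18c1f418c60f63c6307b163183a8d18c1d458c60e824630721a318380918c1b848c60c8246306406318310b18c18848c60c0346305f163182f1118c17848c60b4446305a123182c8918c15c48c60aa1c63054163182a0918c14c88c60a434630520e318290518c14048c6096246304912318238b18c11848c60862c6304312318211118c10878c608434630420e318210518c10078c607c2c6303d123181e0b18c0cc78c6066346302d1e318148f18c0a078c60500c63027123180d0b18c05c18c60263c6300c16318041118c0206))) (BT.leaf (Bx.mk (nat_lit 0x8c664224633201a3198f9118cc7868c663a246331c1e3198e0d18cc7058c66344463319223198c8b18cc6088c66303c63318123198b9118cc5c68c662c2c6331412319890b18cc4848c66223c633111a319888718cc4428c6620346331016319878d18cc3858c66183c6330c1a319858b18cc2478c6612346330512319820b18cc0878c660434633020e319810518cc0058c65fe3c632ff0a3197e0318cbe048c65ea24632f216319780b18cbb878c65d224632e81e319740918cb8c58c65c21c632db1e3196d8d18cb5c48c65ac3c63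2d61a3196a0f18cb5058c65a624632d216319670f18cb3858c659a34632cb1a319658b18cb2048c658e44632c512319620d18cb1058c65823c632c11a319608b18cb0048c657e3c632bf1a3195f8b18caf848c657a24632b9123195a8d18cad078c655234632a716319529118ca9448c65482c632a30e319501118ca8058c65400c6329f223194f8318ca7818c653a446329d1e3194e1118ca7068c65342c63298223194c0b18ca6048c652c0c632941a3194a0918ca4c78c65223c632911a319488518ca4078c651a3c6328d1a319468918ca3048c6514446328a1e319450d18ca2478c65103c6328816319438f18ca1c68c650c3463283163193f8918c9f848c64fa346327c163193d8318c9e878c64f43463277123193a8d18c9c458c64e044632701e319380d18c9c048c64e0146326d06319330718c99828c64ca2c632621e319310b18c97c48c64b6346325a1e3192b0918c95078c64a8146325316319278b18c93c48c649c346324e0e319270518c93088c64983c6324c1a319260518c92c78c6494346324a16319248b18c92078c648c2c6324612319228d18c91438c64881c632431a319200718c8ec18c6474446323a1e3191c8318c8d488c6462446323022319180318c8bc88c645c446322d16319161118c8b038c645814632231e319118d18c88088c643e246321e163190e1118c86c88c64344463219223190b8918c84c78c6426346320f12319070d18c83858c641a346320b12319048f18c82468c64121c632090a319040b18c81c68c640e1c632070a319030b18c81848c640a3c632051a319028718c81428c64083c6320316318ff9118c7fc38c63fe14631fd1e318fe8d18c7f048c63f62c631fa1e318fd0b18c7cc78c63de2c631ee22318f70f18c7b458c63d80c631eb1e318f50b18c7a818c63d244631e822318f39118c79878c63cc34631e516318f20d18c76888c63b424631d81e318ec0518c75488c63aa3c631d51a318ea8718c7542))))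 (BT.node (nat_lit 795) (BT.leaf (Bx.mk (nat_lit 0x8c690c3c634850631a3f8b18d1f868c68fa3c6347c1e31a3d8918d1e428c68ee2c634761231a3b0518d1d088c68dc3c6346d1231a360918d1a078c68d034634680e31a340518d19c58c68cc3c634660a31a328918d17888c68b844634580a31a2a8918d15088c68a824634511231a280918d13c58c689c446344e1a31a270718d12c48c689614634471231a230b18d11458c688614634401631a1f1118d0f878c687c346343e0e31a1f0518d0f478c6878346343c0e31a1e0518d0e458c687224634381e31a1c0718d0e028c686e34634361631a1b0918d0d448c686a1c634350a31a198918d0c848c686224634310631a178918d0b078c68562c634291e31a148d18d0a438c685214634281a31a130918d08c48c68443c634221631a108f18d08468c68422c6341f0631a0f1118d07848c6838446341c1e31a0e0718d06488c683214634181631a0b0f18d05868c68262c634111a31a080918d03c58c681e246340e1e31a070d18d03838c681c146340b1a31a050f18d02858c681024634051631a020b18d00c38c68042c634011e31a008d18d00458c680034633ff16319ff0718cff828c67f624633fa22319fb8718cfd428c67e63c633ee12319f68f18cfac78c67d43c633e91e319f48b18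cf9078c67bc3c633de1a319ed8918cf6878c67b224633d81e319ec0d18cf5c88c67ac2c633d512319ea8318cf5058c67a62c633d11e319e88d18cf4448c67a21c633d10a319e58f18cf2c68c67962c633ca1a319e00d18cf0048c677e3c633bf1a319dd0718cee828c67663c633b31a319d60d18ceac88c675614633a81e319d40718cea028c674e2c633a712319d30f18ce9868c674c1c633a51a319d19118ce8c78c674634633a30e319d18518ce8858c6740146339e1e319ce8d18ce7438c67302c633971a319cb0d18ce4448c6720246338f1e319c78d18ce3c58c67163c6338b1a319c50b18ce1c78c670e2c6338422319c20918ce0488c6702246338022319bf8318cdf878c66fa446337d12319bc1118cde078c66f034633780e319bc0518cddc48c66e63c633731a319b88f18cdc468c66d03c633681a319b40918cd9c78c66cc246336416319b18f18cd8c68c66c61c633630a319b08f18cd8468c66c21c633610a319af0b18cd7458c66b83c6335c0a319ad0318cd4838c669c34633491e319a40d18cd2038c668e3c6334416319a08918cd0028c667e246333d223199e8918ccf058c66763c633311e319988718ccc428c665e346332b12319950b18cca478c66503c633281a319928b18cc845))) (BT.leaf (Bx.mk (nat_lit 0x8c6c542463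6271231b0e8518d87068c6c382c6361b0e31b0d0b18d85c78c6c2e34636161631b0a8b18d85078c6c262c636120a31b078b18d83468c6c182c6360c1231b058918d82888c6c122c636071e31b030d18d81458c6c0844636031231afe0f18d7f038c6bf814635fb1a31afc8d18d7e438c6bf214635f81a31afc0718d7d478c6bea34635f40a31af90b18d7c848c6be23c635f11231af88718d7c428c6be034635ef1231af70518d7ac48c6bd224635e51631af20918d78c58c6bc024635dd1231aed0d18d76078c6bb034635d61e31aeb0d18d74848c6ba41c635d01a31ae80b18d73428c6b8e3c635c61a31ae18918d70818c6b7e3c635bd1e31add8f18d6ec68c6b723c635b61631adb0318d6c468c6b602c635ae1231ad60318d6ac58c6b521c635a90a31ad40f18d6a068c6b4e24635a51a31ad28918d69438c6b4a14635a21e31ad00f18d68068c6b3c3c6359e1a31ace8918d67058c6b362c6359a1231acc8b18d65818c6b2a24635941a31ac98918d64438c6b2214635901a31ac60b18d61888c6b0c24635841231abf8b18d5fc48c6aec2c635751a31aba0718d5cc78c6ae424635701e31ab80318d5bc48c6adc246356a1631ab40d18d59448c6abe3c6355e1231aae0f18d57068c6ab22c635582231aab1118d55488c6aa83c635541a31aa88b18d54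448c6aa044635501a31aa80518d53c58c6a9c3c6354e1a31aa58918d52858c6a9224635481631aa28918d51078c6a8824635431a31aa10b18d50468c6a8224635410e31aa08518d50078c6a7234635351231a998b18d4bc58c6a583c6352c1a31a948d18d4a058c6a4e0c635262231a930918d49458c6a482c6351d1631a8c8b18d45c48c6a2c34635151631a880f18d44068c6a1e446350b1e31a858b18d42858c6a122c635080a31a831118d40c58c6a043c635011a31a800d18d40058c69fe0c634fe2231a7e9118d3f418c69f414634f91231a7c0f18d3e068c69ee44634f51631a770918d3ac68c69d424634e11631a6f8f18d37448c69b40c634d71631a6b0b18d35488c69aa34634d50e31a679118d33888c69962c634cb1231a648d18d31c88c698c2c634c42231a619118d30468c698034634bf0e31a5e8b18d2ec48c697224634b81e31a5c0d18d2e038c696e2c634b42231a5a0b18d2cc88c69623c634b11231a560718d2ac58c69542c634a91631a540918d29878c694824634a31a31a508d18d28048c693e3c6349e1631a4e8918d26888c693244634981a31a4b1118d24458c6916346348a1231a440b18d21c8))))) (BT.node (nat_lit 798) (BT.node (nat_lit 797) (BT.leaf (Bx.mk (nat_lit 0x8c6f9a2c637cc2231be6091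8df2848c6f9234637c91631be18b18df0458c6f802c637bf1e31bdf8d18def418c6f7834637bb1231bdb9118ded888c6f5c3c637ad1a31bd60f18deb038c6f5814637ab1a31bd50b18dea848c6f5244637a81631bd40918de9c38c6f463c637a31a31bd18318de8478c6f4044637a01a31bd00918de8038c6f40146379f1e31bcf8d18de7848c6f3a2c6379c1231bcc8d18de6048c6f2e3c637971a31bca8f18de5468c6f2a2c637901631bc70b18de3818c6f1a2c6378c0a31bc40918de1888c6f0a44637850631bc21118de1078c6f0644637831a31bbf8b18ddf088c6ef82c6377c0631bbd8318dde878c6ef424637791a31bbb0d18ddd838c6eec14637751631bba0b18ddcc58c6ee624637721e31bb80918ddbc88c6ede1c6376d2231bb68b18ddb448c6ed83c6376a1631bb48718dda058c6ec634637622231bb10918dd6888c6eb044637560e31ba70f18dd3458c6e982c6374a1231ba30f18dd1818c6e842c6373f1631b9e0b18dce058c6e6e34637370e31b9a8f18dcd468c6e6444637312231b988718dcc088c6e5e2c6372e2231b970918dcb458c6e5a0c6372a2231b948518dca088c6e501c637251631b928918dc9088c6e482c637231e31b910d18dc8488c6e40246371f1631b8c0918dc5858c6e2c24637121231b889118dc4438c6e1a34637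0b0e31b840f18dc2068c6e1014637040e31b810b18dbf868c6df42c636f91a31b7b0518dbcc88c6de63c636f22231b759118dbac48c6dd444636ea1231b749118dba088c6dce44636e71a31b738718db9448c6dc83c636e31231b6f8d18db6088c6db024636d71231b6a9118db5448c6da844636d41231b699118db4888c6d9e44636ce1631b648518db1c78c6d8844636c01e31b600d18daf888c6d7824636bb1a31b5b8918dacc68c6d6424636af1631b558918daa868c6d540c636a82231b538b18da9868c6d482c636a41231b518318da8468c6d403c6369f1a31b4e0f18da5078c6d2824636930a31b471118da3488c6d1a2c6368d0631b460f18da2c68c6d0a2c636851231b400318d9fc88c6cfc446367e1231b3d0918d9dc58c6cec3c636701e31b378d18d9b848c6cda24636652231b320918d96448c6ca22c636502231b280d18d94038c6ca0146364b2231b238b18d91468c6c8a1c636441631b218918d90478c6c7c3c6363e1a31b1f0718d8f828c6c7a346363a1231b1c0918d8dc48c6c6a24636341231b198f18d8cc68c6c661c636330a31b178b18d8b888c6c5c1c6362d1231b160918d8a88))) (BT.leaf (Bx.mk (nat_lit 0x8c734e44639a32231cd00f18e67058c73323c639991a31ccc0b18e65c78c732e34639970631ccb0918e6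4488c731e446398d2231cc48918e62088c730a446397f1631cbf1118e5f488c72fa346397c0631cbd9118e5e878c72f41c6397a0a31cbb1118e5d848c72e60c639701231cb20f18e58848c72be3c6395f0a31cad9118e56488c72b044639532231ca98918e54868c72a20c639502231ca78b18e53c48c729c446394c0631ca40518e51058c72863c6393d2231c9e1118e4c818c72602c6392e1231c958d18e4a848c725224639271231c920918e48c48c72442c639221231c908918e48068c7240146391e1231c8e0f18e47048c7238146391a1231c8a8918e43c88c721e346390d1e31c848d18e42058c720e2c639060a31c828f18e40c78c720624639030a31c809118e40478c720234639010e31c808518e3f048c71f044638f32231c770918e3b058c71d244638e81631c729118e39078c71c644638e31231c6f8d18e37848c71b224638d82231c6c0918e35c58c71a82c638d32231c679118e33888c719c1c638cc1631c660918e32c48c719434638c91231c640918e31478c717e24638bd1231c5e0d18e2e878c716c2c638b51e31c598f18e2cc38c716614638b21631c588f18e2c468c71621c638b10a31c580718e2c028c715e14638ad1631c550b18e29c68c714044638a01a31c500718e28028c713e346389e1e31c4f0d18e27838c713c146389b1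231c4d0b18e26468c71303c638931631c490918e24458c711c2c6388d1231c468318e23068c71143c638872231c430b18e21448c71002c6387f1a31c3e8f18e1f418c70f8246387b1631c3d0918e1e478c70f224638790e31c3c8518e1dc48c70e83c6386e1231c350918e19858c70ca24638640a31c318f18e18878c70c044638600e31c2f1118e16c48c70aa2c638551231c2a0718e14858c70a22c638511231c288318e14078c709e3c6384f1231c270d18e13848c709a2c6384c1631c259118e12888c70923c638491a31c248b18e11c88c708c44638461631c228f18e11468c708844638441e31c220918e10c88c708634638431231c201118e0fc88c707e2c6383e0631c1e8f18e0f068c707444638381a31c1a0918e0ac78c705634638251231c0e8b18e07078c703834638190631c0c0f18e06068c700a34638041231c000318dfec58c6ff044637f81231bfa0918dfbc78c6fda3c637ed1231bf68518dfac78c6fd614637e91e31bf40f18dfa068c6fd02c637e71231bef8f18df7878c6fb834637da1e31bec8918df384)))) (BT.node (nat_lit 799) (BT.leaf (Bx.mk (nat_lit 0x8c76781c63b382231d9c0f18ece048c766c3c63b341a31d998918ecbc48c76563c63b2a1231d940b18ec9c58c764e2463b251e31d928918ec9068c764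82463b231631d911118ec8828c76422c63b201631d8f0f18ec7868c763a3c63b1d1231d8e0d18ec7048c76323c63b170631d8a0d18ec2868c76120c63b081631d838f18ec1c68c760e2463b070e31d838518ec1088c75f83c63afa1631d7d0918ebe488c75f22463af90e31d7c0f18ebe068c75f02c63af51631d7a0f18ebd068c75e64463af31e31d798918ebc868c75e42463aed1231d760d18ebb048c75d22463ae90e31d748518eba058c75ce3463ae70e31d738518eb9838c75cc1463ae51231d720718eb8458c75be3c63ade2231d6f0918eb7488c75ba2463adb1a31d660f18eb3068c75902463ac51a31d620918eafc78c757e0c63abe1231d5d1118eae848c75702c63ab61631d598b18eab458c75582463aa82231d540918ea9c78c754e3463aa62231d530918ea9488c754a2463aa30e31d518518ea8068c75362463a971231d480d18ea3848c751c1463a8c1e31d460d18ea2c78c75163463a891231d440918ea1c58c750c4463a860e31d418718ea0868c74fa3c63a7d1a31d3e0b18e9f048c74f23c63a771e31d3b8d18e9d848c74ec1c63a751e31d3a8d18e9d058c74e62463a730e31d390b18e9c438c74da4463a6d1a31d368518e9a448c74ca3c63a650e31d328518e98c78c74c60c63a621231d308918e97c48c74b61463a5a1631d2c0b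18e95478c74a42463a520e31d288b18e94048c749e4463a4f1a31d278718e93858c74983c63a4c1631d250318e92448c748e0c63a461231d208918e8ec88c74762463a390631d1c0d18e8e058c746e2463a361a31d1b0b18e8d448c74623c63a2b1e31d130f18e87c68c74300c63a161e31d0b0d18e85058c74262463a121231d050d18e82448c74103463a071a31d038718e80848c74023c639ff1a31cfe9118e7f068c73f82c639fb1e31cfc0b18e7e048c73ee2c639f71231cfb0518e7d448c73ea0c639f41231cf98f18e7cc68c73e42c639ef1231cf70f18e7b868c73da24639ec1e31cf58b18e7ac48c73d424639ea0a31cf48918e7a028c73ce2c639e60a31cf28718e79068c73c624639e11631cef8918e76818c73b034639d81631ceb8918e75488c73a644639d21631ce88f18e74468c73a20c639d01631ce78b18e73058c73922c639c81e31ce20b18e70c38c73802c639b92231cdc1118e6dc28c73662c639b31231cd98318e6c858c73623c639b11231cd60b18e6ac1))) (BT.node (nat_lit 800) (BT.leaf (Bx.mk (nat_lit 0x8c79ba1463cd91631e6c0d18f36038c79b01463cd51e31e690918f34488c79a03c63cd01a31e680b18f33c48c799c3c63cce1a31e668918f33088c79982463ccb2231e651118f32448c79903463cc80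e31e638b18f31858c79880c63cc31231e5e8d18f2f448c797a1c63cbb1a31e5d8b18f2e878c79743463cba1631e5c8318f2dc68c79680c63cb21631e588f18f2b448c79584463cab1e31e548b18f2a048c794e3c63ca71a31e538b18f29048c793e4463c9f1231e4f8518f27868c793c2c63c9d1631e4e8918f26478c792c4463c960e31e499118f24c58c79240c63c912231e488f18f24068c791a3463c8d0e31e460f18f23068c79181c63c8c0a31e458b18f21c78c790e3463c861231e421118f20448c78f22463c781631e3b0d18f1d048c78e22463c701e31e380b18f17048c78b43463c5a0631e2b8f18f14c68c78a22c63c4f1231e250918f11858c78843c63c420631e1e1118f0f078c78782463c3c0a31e1b8f18f0dc68c786c2c63c351231e1a0918f0c848c78622c63c301231e178318f0b878c785c3463c2d0631e158b18f0a478c78502463c1d1a31e0e8b18f06048c781e0c63c0e1631e049118f01888c78024463bfb2231dfc0f18efe068c77ee2463bf61231dfa0918efc448c77e02463bef1e31df78518efb838c77dc1463bec1231df18b18ef8c48c77c43c63be21a31df10718ef8828c77be2c63bdd1e31dee0d18ef6458c77b03c63bd81a31deb0718ef5058c77a23c63bd11231de80d18ef4048c779e2463bc71631de28d18ef0c48c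77803463bb91231ddb8f18eed078c77662c63bb22231dd90f18eec848c77641463bb10e31dd80b18eeb868c775a1463baa2231dd50b18eea488c77523c63ba82231dd40d18ee9c48c774e1463ba41e31dd18b18ee8858c77421463ba01631dd00918ee7c78c77383c63b9b1231dcd0918ee5868c77282463b921231dc70d18ee2848c770c2c63b851a31dc18918ee0858c77023463b810a31dc00f18ee0068c76fc3c63b7e1a31dbf0b18edf068c76f82c63b7a1231dba9118edd478c76ea2463b750a31db80918edb458c76da2463b6c1231db60318edac78c76d63463b691e31db48d18eda458c76d02463b670a31db30f18ed9448c76c82463b632231db08318ed8068c76b63c63b5b1631dad0918ed6478c76b23463b591631dab8f18ed5848c76a22463b4b1631da58918ed2858c76924463b491231da48518ed2078c76903463b471631da30b18ed1478c76883463b431631da08f18ecfc58c767c2c63b3d1e31d9e8d18ecf04))) (BT.leaf (Bx.mk (nat_lit 0x118f60888c7b002c63d7f1231ebe1118f5ec58c7adc1463d692231eb20d18f58888c7ac42463d601231eae0b18f57048c7ab02463d571231ea61118f52858c7a8c2463d400a31e9f8918f4fc18c7a7c2c63d390a31e958b18f4a488c7a523463d290e31e919118f47858c7a3a3463d1d0e31e8e0f18f47028c7a341c63d1a0a31e8b9118f45c38c7a2c3c63d161a31e8b0b18f45448c7a204463d0d1231e860918f42458c7a102c63d080631e828718f3ec88c79f63463cf71631e7a0918f3c828c79e23c63cf01631e770318f3b488c79da2463ceb1231e731118f39868c79cc1c63ce51e31e728d18f39458c79c82c63ce10e31e700d18f3747)))))))))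
noncomputable def big0_e0 : BT Nat := (BT.node (nat_lit 4267970) (BT.node (nat_lit 4246468) (BT.node (nat_lit 4235265) (BT.node (nat_lit 4229314) (BT.node (nat_lit 4226308) (BT.node (nat_lit 4224966) (BT.node (nat_lit 3565060) (BT.node (nat_lit 2366790) (BT.node (nat_lit 72) (BT.node (nat_lit 68) (BT.node (nat_lit 66) (BT.leaf (nat_lit 2)) (BT.leaf (nat_lit 262146))) (BT.node (nat_lit 69) (BT.leaf (nat_lit 524290)) (BT.leaf (nat_lit 786434)))) (BT.node (nat_lit 2298695) (BT.node (nat_lit 2298694) (BT.leaf (nat_lit 1048578)) (BT.leaf (nat_lit 370152))) (BT.node (nat_lit 2298696) (BT.leaf (nat_lit 370152)) (BT.leaf (nat_lit 370152))))) (BT.node (nat_lit 3207111) (BT.node (nat_lit 3118404) (BT.node (nat_lit 2366791) (BT.leaf (nat_lit 378668)) (BT.leaf (nat_lit 378668))) (BT.node (nat_lit 3207110) (BT.leaf (nat_lit 507468)) (BT.leaf (nat_lit 493872)))) (BT.node (nat_lit 3296260) (BT.node (nat_lit 3296257) (BT.leaf (nat_lit 493872)) (BT.leaf (nat_lit 475292))) (BT.node (nat_lit 3418820) (BT.leaf (nat_lit 475292)) (BT.leaf (nat_lit 498304)))))) (BT.node (nat_lit 4224898) (BT.node (nat_lit 3801543) (BT.node (nat_lit 3801539) (BT.node (nat_lit 3801537) (BT.leaf (nat_lit 508140)) (BT.leaf (nat_lit 474000))) (BT.node (nat_lit 3801542) (BT.leaf (nat_lit 474000)) (BT.leaf (nat_lit 474000)))) (BT.node (nat_lit 4163655) (BT.node (nat_lit 4163654) (BT.leaf (nat_lit 474000)) (BT.leaf (nat_lit 645956))) (BT.node (nat_lit 4224775) (BT.leaf (nat_lit 645956)) (BT.leaf (nat_lit 655672))))) (BT.node (nat_lit 4224903) (BT.node (nat_lit 4224900) (BT.node (nat_lit 4224899) (BT.leaf (nat_lit 621612)) (BT.leaf (nat_lit 621612))) (BT.node (nat_lit 4224902) (BT.leaf (nat_lit 621612)) (BT.leaf (nat_lit 621612)))) (BT.node (nat_lit 4224961) (BT.node (nat_lit 4224904) (BT.leaf (nat_lit 621612)) (BT.leaf (nat_lit 621612))) (BT.node (nat_lit 4224965) (BT.leaf (nat_lit 718760)) (BT.leaf (nat_lit 652908))))))) (BT.node (nat_lit 4225733) (BT.node (nat_lit 4225218) (BT.node (nat_lit 4225092) (BT.node (nat_lit 4225090) (BT.node (nat_lit 4224967) (BT.leaf (nat_lit 718760)) (BT.leaf (nat_lit 718760))) (BT.node (nat_lit 4225091) (BT.leaf (nat_lit 619456)) (BT.leaf (nat_lit 619456)))) (BT.node (nat_lit 4225157) (BT.node (nat_lit 4225095) (BT.leaf (nat_lit 619456)) (BT.leaf (nat_lit 752088))) (BT.node (nat_lit 4225159) (BT.leaf (nat_lit 780416)) (BT.leaf (nat_lit 695336))))) (BT.node (nat_lit 4225284) (BT.node (nat_lit 4225220) (BT.node (nat_lit 4225219) (BT.leaf (nat_lit 600840)) (BT.leaf (nat_lit 600840))) (BT.node (nat_lit 4225222) (BT.leaf (nat_lit 600840)) (BT.leaf (nat_lit 738768)))) (BT.node (nat_lit 4225352) (BT.node (nat_lit 4225348) (BT.leaf (nat_lit 775340)) (BT.leaf (nat_lit 673748))) (BT.node (nat_lit 4225669) (BT.leaf (nat_lit 612660)) (BT.leaf (nat_lit 791312)))))) (BT.node (nat_lit 4225990) (BT.node (nat_lit 4225927) (BT.node (nat_lit 4225799) (BT.node (nat_lit 4225798) (BT.leaf (nat_lit 630284)) (BT.leaf (nat_lit 627168))) (BT.node (nat_lit 4225926) (BT.leaf (nat_lit 623548)) (BT.leaf (nat_lit 597136)))) (BT.node (nat_lit 4225987) (BT.node (nat_lit 4225986) (BT.leaf (nat_lit 597136)) (BT.leaf (nat_lit 777960))) (BT.node (nat_lit 4225988) (BT.leaf (nat_lit 603800)) (BT.leaf (nat_lit 777960))))) (BT.node (nat_lit 4226180) (BT.node (nat_lit 4225992) (BT.node (nat_lit 4225991) (BT.leaf (nat_lit 603800)) (BT.leaf (nat_lit 603800))) (BT.node (nat_lit 4226117) (BT.leaf (nat_lit 603800)) (BT.leaf (nat_lit 613796)))) (BT.node (nat_lit 4226247) (BT.node (nat_lit 4226245) (BT.leaf (nat_lit 694196)) (BT.leaf (nat_lit 647472))) (BT.node (nat_lit 4226305) (BT.leaf (nat_lit 647472)) (BT.leaf (nat_lit 647452)))))))) (BT.node (nat_lit 4227778) (BT.node (nat_lit 4226887) (BT.node (nat_lit 4226628) (BT.node (nat_lit 4226435) (BT.node (nat_lit 4226433) (BT.node (nat_lit 4226309) (BT.leaf (nat_lit 760392)) (BT.leaf (nat_lit 647452))) (BT.node (nat_lit 4226434) (BT.leaf (nat_lit 773480)) (BT.leaf (nat_lit 600064)))) (BT.node (nat_lit 4226439) (BT.node (nat_lit 4226438) (BT.leaf (nat_lit 600064)) (BT.leaf (nat_lit 595876))) (BT.node (nat_lit 4226564) (BT.leaf (nat_lit 595876)) (BT.leaf (nat_lit 656796))))) (BT.node (nat_lit 4226821) (BT.node (nat_lit 4226692) (BT.node (nat_lit 4226632) (BT.leaf (nat_lit 606316)) (BT.leaf (nat_lit 606316))) (BT.node (nat_lit 4226756) (BT.leaf (nat_lit 700344)) (BT.leaf (nat_lit 600004)))) (BT.node (nat_lit 4226823) (BT.node (nat_lit 4226822) (BT.leaf (nat_lit 690724)) (BT.leaf (nat_lit 690724))) (BT.node (nat_lit 4226886) (BT.leaf (nat_lit 690724)) (BT.leaf (nat_lit 685492)))))) (BT.node (nat_lit 4227462) (BT.node (nat_lit 4227268) (BT.node (nat_lit 4226950) (BT.node (nat_lit 4226949) (BT.leaf (nat_lit 685492)) (BT.leaf (nat_lit 656320))) (BT.node (nat_lit 4227076) (BT.leaf (nat_lit 656320)) (BT.leaf (nat_lit 601960)))) (BT.node (nat_lit 4227333) (BT.node (nat_lit 4227272) (BT.leaf (nat_lit 652300)) (BT.leaf (nat_lit 652300))) (BT.node (nat_lit 4227461) (BT.leaf (nat_lit 614440)) (BT.leaf (nat_lit 621628))))) (BT.node (nat_lit 4227525) (BT.node (nat_lit 4227521) (BT.node (nat_lit 4227463) (BT.leaf (nat_lit 697156)) (BT.leaf (nat_lit 697156))) (BT.node (nat_lit 4227524) (BT.leaf (nat_lit 697032)) (BT.leaf (nat_lit 691624)))) (BT.node (nat_lit 4227591) (BT.node (nat_lit 4227589) (BT.leaf (nat_lit 697032)) (BT.leaf (nat_lit 692968))) (BT.node (nat_lit 4227652) (BT.leaf (nat_lit 692968)) (BT.leaf (nat_lit 595360))))))) (BT.node (nat_lit 4228228) (BT.node (nat_lit 4228037) (BT.node (nat_lit 4227844) (BT.node (nat_lit 4227782) (BT.node (nat_lit 4227779) (BT.leaf (nat_lit 651956)) (BT.leaf (nat_lit 651956))) (BT.node (nat_lit 4227783) (BT.leaf (nat_lit 612032)) (BT.leaf (nat_lit 612032)))) (BT.node (nat_lit 4227973) (BT.node (nat_lit 4227909) (BT.leaf (nat_lit 595432)) (BT.leaf (nat_lit 801844))) (BT.node (nat_lit 4227975) (BT.leaf (nat_lit 603392)) (BT.leaf (nat_lit 639064))))) (BT.node (nat_lit 4228099) (BT.node (nat_lit 4228039) (BT.node (nat_lit 4228038) (BT.leaf (nat_lit 610884)) (BT.leaf (nat_lit 668036))) (BT.node (nat_lit 4228098) (BT.leaf (nat_lit 610884)) (BT.leaf (nat_lit 622248)))) (BT.node (nat_lit 4228103) (BT.node (nat_lit 4228102) (BT.leaf (nat_lit 622248)) (BT.leaf (nat_lit 622248))) (BT.node (nat_lit 4228163) (BT.leaf (nat_lit 622248)) (BT.leaf (nat_lit 594716)))))) (BT.node (nat_lit 4228423) (BT.node (nat_lit 4228356) (BT.node (nat_lit 4228292) (BT.node (nat_lit 4228232) (BT.leaf (nat_lit 628076)) (BT.leaf (nat_lit 628076))) (BT.node (nat_lit 4228296) (BT.leaf (nat_lit 626392)) (BT.leaf (nat_lit 623528)))) (BT.node (nat_lit 4228421) (BT.node (nat_lit 4228357) (BT.leaf (nat_lit 721092)) (BT.leaf (nat_lit 671128))) (BT.node (nat_lit 4228422) (BT.leaf (nat_lit 617600)) (BT.leaf (nat_lit 617600))))) (BT.node (nat_lit 4228870) (BT.node (nat_lit 4228676) (BT.node (nat_lit 4228424) (BT.leaf (nat_lit 617600)) (BT.leaf (nat_lit 596340))) (BT.node (nat_lit 4228869) (BT.leaf (nat_lit 648824)) (BT.leaf (nat_lit 640180)))) (BT.node (nat_lit 4229124) (BT.node (nat_lit 4228871) (BT.leaf (nat_lit 646452)) (BT.leaf (nat_lit 646452))) (BT.node (nat_lit 4229313) (BT.leaf (nat_lit 598368)) (BT.leaf (nat_lit 635696))))))))) (BT.node (nat_lit 4232133) (BT.node (nat_lit 4230916) (BT.node (nat_lit 4230278) (BT.node (nat_lit 4229576) (BT.node (nat_lit 4229444) (BT.node (nat_lit 4229318) (BT.node (nat_lit 4229315) (BT.leaf (nat_lit 712884)) (BT.leaf (nat_lit 712884))) (BT.node (nat_lit 4229319) (BT.leaf (nat_lit 635696)) (BT.leaf (nat_lit 635696)))) (BT.node (nat_lit 4229448) (BT.node (nat_lit 4229445) (BT.leaf (nat_lit 635708)) (BT.leaf (nat_lit 635708))) (BT.node (nat_lit 4229509) (BT.leaf (nat_lit 635708)) (BT.leaf (nat_lit 713888))))) (BT.node (nat_lit 4229830) (BT.node (nat_lit 4229640) (BT.node (nat_lit 4229636) (BT.leaf (nat_lit 687008)) (BT.leaf (nat_lit 692784))) (BT.node (nat_lit 4229829) (BT.leaf (nat_lit 608348)) (BT.leaf (nat_lit 636228)))) (BT.node (nat_lit 4229892) (BT.node (nat_lit 4229831) (BT.leaf (nat_lit 636228)) (BT.leaf (nat_lit 636228))) (BT.node (nat_lit 4230277) (BT.leaf (nat_lit 772848)) (BT.leaf (nat_lit 619024)))))) (BT.node (nat_lit 4230533) (BT.node (nat_lit 4230342) (BT.node (nat_lit 4230338) (BT.node (nat_lit 4230280) (BT.leaf (nat_lit 619024)) (BT.leaf (nat_lit 619024))) (BT.node (nat_lit 4230339) (BT.leaf (nat_lit 605916)) (BT.leaf (nat_lit 605916)))) (BT.node (nat_lit 4230405) (BT.node (nat_lit 4230343) (BT.leaf (nat_lit 605916)) (BT.leaf (nat_lit 605916))) (BT.node (nat_lit 4230408) (BT.leaf (nat_lit 605336)) (BT.leaf (nat_lit 605336))))) (BT.node (nat_lit 4230725) (BT.node (nat_lit 4230661) (BT.node (nat_lit 4230660) (BT.leaf (nat_lit 650324)) (BT.leaf (nat_lit 660260))) (BT.node (nat_lit 4230724) (BT.leaf (nat_lit 660260)) (BT.leaf (nat_lit 617212)))) (BT.node (nat_lit 4230792) (BT.node (nat_lit 4230788) (BT.leaf (nat_lit 617212)) (BT.leaf (nat_lit 730116))) (BT.node (nat_lit 4230853) (BT.leaf (nat_lit 635904)) (BT.leaf (nat_lit 642568))))))) (BT.node (nat_lit 4231368) (BT.node (nat_lit 4231173) (BT.node (nat_lit 4230983) (BT.node (nat_lit 4230981) (BT.node (nat_lit 4230917) (BT.leaf (nat_lit 626132)) (BT.leaf (nat_lit 626132))) (BT.node (nat_lit 4230982) (BT.leaf (nat_lit 794044)) (BT.leaf (nat_lit 619584)))) (BT.node (nat_lit 4231047) (BT.node (nat_lit 4231045) (BT.leaf (nat_lit 619584)) (BT.leaf (nat_lit 607120))) (BT.node (nat_lit 4231111) (BT.leaf (nat_lit 607120)) (BT.leaf (nat_lit 614488))))) (BT.node (nat_lit 4231239) (BT.node (nat_lit 4231175) (BT.node (nat_lit 4231174) (BT.leaf (nat_lit 751472)) (BT.leaf (nat_lit 751472))) (BT.node (nat_lit 4231237) (BT.leaf (nat_lit 758564)) (BT.leaf (nat_lit 710232)))) (BT.node (nat_lit 4231304) (BT.node (nat_lit 4231300) (BT.leaf (nat_lit 671100)) (BT.leaf (nat_lit 635624))) (BT.node (nat_lit 4231364) (BT.leaf (nat_lit 635624)) (BT.leaf (nat_lit 627704)))))) (BT.node (nat_lit 4231620) (BT.node (nat_lit 4231489) (BT.node (nat_lit 4231430) (BT.node (nat_lit 4231429) (BT.leaf (nat_lit 627704)) (BT.leaf (nat_lit 614456))) (BT.node (nat_lit 4231431) (BT.leaf (nat_lit 614456)) (BT.leaf (nat_lit 614456)))) (BT.node (nat_lit 4231493) (BT.node (nat_lit 4231492) (BT.leaf (nat_lit 603952)) (BT.leaf (nat_lit 603952))) (BT.node (nat_lit 4231557) (BT.leaf (nat_lit 603952)) (BT.leaf (nat_lit 774076))))) (BT.node (nat_lit 4231749) (BT.node (nat_lit 4231687) (BT.node (nat_lit 4231686) (BT.leaf (nat_lit 707120)) (BT.leaf (nat_lit 651876))) (BT.node (nat_lit 4231748) (BT.leaf (nat_lit 651876)) (BT.leaf (nat_lit 650356)))) (BT.node (nat_lit 4231878) (BT.node (nat_lit 4231873) (BT.leaf (nat_lit 650356)) (BT.leaf (nat_lit 610456))) (BT.node (nat_lit 4231879) (BT.leaf (nat_lit 610456)) (BT.leaf (nat_lit 610456)))))))) (BT.node (nat_lit 4233863) (BT.node (nat_lit 4232837) (BT.node (nat_lit 4232453) (BT.node (nat_lit 4232257) (BT.node (nat_lit 4232194) (BT.node (nat_lit 4232193) (BT.leaf (nat_lit 684620)) (BT.leaf (nat_lit 608412))) (BT.node (nat_lit 4232195) (BT.leaf (nat_lit 608412)) (BT.leaf (nat_lit 608412)))) (BT.node (nat_lit 4232261) (BT.node (nat_lit 4232260) (BT.leaf (nat_lit 613064)) (BT.leaf (nat_lit 613064))) (BT.node (nat_lit 4232452) (BT.leaf (nat_lit 613064)) (BT.leaf (nat_lit 618896))))) (BT.node (nat_lit 4232582) (BT.node (nat_lit 4232518) (BT.node (nat_lit 4232517) (BT.leaf (nat_lit 757284)) (BT.leaf (nat_lit 631768))) (BT.node (nat_lit 4232519) (BT.leaf (nat_lit 738332)) (BT.leaf (nat_lit 611420)))) (BT.node (nat_lit 4232646) (BT.node (nat_lit 4232583) (BT.leaf (nat_lit 659616)) (BT.leaf (nat_lit 606880))) (BT.node (nat_lit 4232647) (BT.leaf (nat_lit 609888)) (BT.leaf (nat_lit 609888)))))) (BT.node (nat_lit 4233349) (BT.node (nat_lit 4233154) (BT.node (nat_lit 4233094) (BT.node (nat_lit 4233093) (BT.leaf (nat_lit 674952)) (BT.leaf (nat_lit 664280))) (BT.node (nat_lit 4233095) (BT.leaf (nat_lit 683896)) (BT.leaf (nat_lit 683896)))) (BT.node (nat_lit 4233159) (BT.node (nat_lit 4233158) (BT.leaf (nat_lit 723432)) (BT.leaf (nat_lit 723432))) (BT.node (nat_lit 4233348) (BT.leaf (nat_lit 723432)) (BT.leaf (nat_lit 703040))))) (BT.node (nat_lit 4233479) (BT.node (nat_lit 4233477) (BT.node (nat_lit 4233412) (BT.leaf (nat_lit 611512)) (BT.leaf (nat_lit 652016))) (BT.node (nat_lit 4233478) (BT.leaf (nat_lit 703320)) (BT.leaf (nat_lit 703320)))) (BT.node (nat_lit 4233796) (BT.node (nat_lit 4233604) (BT.leaf (nat_lit 703320)) (BT.leaf (nat_lit 691832))) (BT.node (nat_lit 4233862) (BT.leaf (nat_lit 612152)) (BT.leaf (nat_lit 714428))))))) (BT.node (nat_lit 4234632) (BT.node (nat_lit 4234310) (BT.node (nat_lit 4234119) (BT.node (nat_lit 4233991) (BT.node (nat_lit 4233990) (BT.leaf (nat_lit 714428)) (BT.leaf (nat_lit 663516))) (BT.node (nat_lit 4234117) (BT.leaf (nat_lit 663516)) (BT.leaf (nat_lit 643696)))) (BT.node (nat_lit 4234245) (BT.node (nat_lit 4234181) (BT.leaf (nat_lit 643696)) (BT.leaf (nat_lit 651260))) (BT.node (nat_lit 4234246) (BT.leaf (nat_lit 718292)) (BT.leaf (nat_lit 718292))))) (BT.node (nat_lit 4234626) (BT.node (nat_lit 4234566) (BT.node (nat_lit 4234311) (BT.leaf (nat_lit 658784)) (BT.leaf (nat_lit 658784))) (BT.node (nat_lit 4234567) (BT.leaf (nat_lit 722072)) (BT.leaf (nat_lit 722072)))) (BT.node (nat_lit 4234630) (BT.node (nat_lit 4234627) (BT.leaf (nat_lit 697424)) (BT.leaf (nat_lit 697424))) (BT.node (nat_lit 4234631) (BT.leaf (nat_lit 697424)) (BT.leaf (nat_lit 697424)))))) (BT.node (nat_lit 4234949) (BT.node (nat_lit 4234758) (BT.node (nat_lit 4234693) (BT.node (nat_lit 4234692) (BT.leaf (nat_lit 697424)) (BT.leaf (nat_lit 615248))) (BT.node (nat_lit 4234753) (BT.leaf (nat_lit 615248)) (BT.leaf (nat_lit 697196)))) (BT.node (nat_lit 4234884) (BT.node (nat_lit 4234759) (BT.leaf (nat_lit 709748)) (BT.leaf (nat_lit 709748))) (BT.node (nat_lit 4234885) (BT.leaf (nat_lit 684160)) (BT.leaf (nat_lit 636052))))) (BT.node (nat_lit 4235138) (BT.node (nat_lit 4235013) (BT.node (nat_lit 4235012) (BT.leaf (nat_lit 603364)) (BT.leaf (nat_lit 668624))) (BT.node (nat_lit 4235076) (BT.leaf (nat_lit 668624)) (BT.leaf (nat_lit 650844)))) (BT.node (nat_lit 4235140) (BT.node (nat_lit 4235139) (BT.leaf (nat_lit 709096)) (BT.leaf (nat_lit 709096))) (BT.node (nat_lit 4235144) (BT.leaf (nat_lit 701216)) (BT.leaf (nat_lit 615508)))))))))) (BT.node (nat_lit 4240324) (BT.node (nat_lit 4238215) (BT.node (nat_lit 4236611) (BT.node (nat_lit 4235784) (BT.node (nat_lit 4235398) (BT.node (nat_lit 4235333) (BT.node (nat_lit 4235270) (BT.node (nat_lit 4235269) (BT.leaf (nat_lit 679684)) (BT.leaf (nat_lit 701220))) (BT.node (nat_lit 4235271) (BT.leaf (nat_lit 679684)) (BT.leaf (nat_lit 701220)))) (BT.node (nat_lit 4235395) (BT.node (nat_lit 4235394) (BT.leaf (nat_lit 652608)) (BT.leaf (nat_lit 676596))) (BT.node (nat_lit 4235396) (BT.leaf (nat_lit 676596)) (BT.leaf (nat_lit 791320))))) (BT.node (nat_lit 4235521) (BT.node (nat_lit 4235400) (BT.node (nat_lit 4235399) (BT.leaf (nat_lit 676596)) (BT.leaf (nat_lit 676596))) (BT.node (nat_lit 4235460) (BT.leaf (nat_lit 676596)) (BT.leaf (nat_lit 722420)))) (BT.node (nat_lit 4235527) (BT.node (nat_lit 4235525) (BT.leaf (nat_lit 782236)) (BT.leaf (nat_lit 635088))) (BT.node (nat_lit 4235780) (BT.leaf (nat_lit 789672)) (BT.leaf (nat_lit 684648)))))) (BT.node (nat_lit 4236357) (BT.node (nat_lit 4235909) (BT.node (nat_lit 4235905) (BT.node (nat_lit 4235844) (BT.leaf (nat_lit 617596)) (BT.leaf (nat_lit 673520))) (BT.node (nat_lit 4235908) (BT.leaf (nat_lit 669020)) (BT.leaf (nat_lit 669020)))) (BT.node (nat_lit 4236039) (BT.node (nat_lit 4236038) (BT.leaf (nat_lit 599388)) (BT.leaf (nat_lit 616400))) (BT.node (nat_lit 4236292) (BT.leaf (nat_lit 616400)) (BT.leaf (nat_lit 610308))))) (BT.node (nat_lit 4236488) (BT.node (nat_lit 4236424) (BT.node (nat_lit 4236420) (BT.leaf (nat_lit 618064)) (BT.leaf (nat_lit 606948))) (BT.node (nat_lit 4236484) (BT.leaf (nat_lit 617528)) (BT.leaf (nat_lit 671544)))) (BT.node (nat_lit 4236552) (BT.node (nat_lit 4236548) (BT.leaf (nat_lit 671544)) (BT.leaf (nat_lit 672716))) (BT.node (nat_lit 4236610) (BT.leaf (nat_lit 672716)) (BT.leaf (nat_lit 645028))))))) (BT.node (nat_lit 4237313) (BT.node (nat_lit 4236996) (BT.node (nat_lit 4236678) (BT.node (nat_lit 4236674) (BT.node (nat_lit 4236614) (BT.leaf (nat_lit 645028)) (BT.leaf (nat_lit 645028))) (BT.node (nat_lit 4236675) (BT.leaf (nat_lit 670248)) (BT.leaf (nat_lit 670248)))) (BT.node (nat_lit 4236869) (BT.node (nat_lit 4236679) (BT.leaf (nat_lit 670248)) (BT.leaf (nat_lit 670248))) (BT.node (nat_lit 4236932) (BT.leaf (nat_lit 671516)) (BT.leaf (nat_lit 597992))))) (BT.node (nat_lit 4237192) (BT.node (nat_lit 4237185) (BT.node (nat_lit 4236997) (BT.leaf (nat_lit 617584)) (BT.leaf (nat_lit 756144))) (BT.node (nat_lit 4237188) (BT.leaf (nat_lit 671960)) (BT.leaf (nat_lit 688988)))) (BT.node (nat_lit 4237254) (BT.node (nat_lit 4237253) (BT.leaf (nat_lit 671960)) (BT.leaf (nat_lit 676360))) (BT.node (nat_lit 4237255) (BT.leaf (nat_lit 676360)) (BT.leaf (nat_lit 676360)))))) (BT.node (nat_lit 4237892) (BT.node (nat_lit 4237569) (BT.node (nat_lit 4237381) (BT.node (nat_lit 4237320) (BT.leaf (nat_lit 636640)) (BT.leaf (nat_lit 636640))) (BT.node (nat_lit 4237448) (BT.leaf (nat_lit 777148)) (BT.leaf (nat_lit 676608)))) (BT.node (nat_lit 4237638) (BT.node (nat_lit 4237576) (BT.leaf (nat_lit 600028)) (BT.leaf (nat_lit 600028))) (BT.node (nat_lit 4237639) (BT.leaf (nat_lit 601528)) (BT.leaf (nat_lit 601528))))) (BT.node (nat_lit 4238085) (BT.node (nat_lit 4238021) (BT.node (nat_lit 4237956) (BT.leaf (nat_lit 648004)) (BT.leaf (nat_lit 611244))) (BT.node (nat_lit 4238022) (BT.leaf (nat_lit 611248)) (BT.leaf (nat_lit 617868)))) (BT.node (nat_lit 4238087) (BT.node (nat_lit 4238086) (BT.leaf (nat_lit 607844)) (BT.leaf (nat_lit 607844))) (BT.node (nat_lit 4238213) (BT.leaf (nat_lit 607844)) (BT.leaf (nat_lit 631040)))))))) (BT.node (nat_lit 4239299) (BT.node (nat_lit 4238792) (BT.node (nat_lit 4238664) (BT.node (nat_lit 4238532) (BT.node (nat_lit 4238470) (BT.node (nat_lit 4238276) (BT.leaf (nat_lit 662736)) (BT.leaf (nat_lit 770516))) (BT.node (nat_lit 4238471) (BT.leaf (nat_lit 703212)) (BT.leaf (nat_lit 703212)))) (BT.node (nat_lit 4238597) (BT.node (nat_lit 4238533) (BT.leaf (nat_lit 681488)) (BT.leaf (nat_lit 681488))) (BT.node (nat_lit 4238657) (BT.leaf (nat_lit 607640)) (BT.leaf (nat_lit 768884))))) (BT.node (nat_lit 4238785) (BT.node (nat_lit 4238724) (BT.node (nat_lit 4238721) (BT.leaf (nat_lit 768884)) (BT.leaf (nat_lit 682436))) (BT.node (nat_lit 4238728) (BT.leaf (nat_lit 682436)) (BT.leaf (nat_lit 690180)))) (BT.node (nat_lit 4238790) (BT.node (nat_lit 4238786) (BT.leaf (nat_lit 602952)) (BT.leaf (nat_lit 602952))) (BT.node (nat_lit 4238791) (BT.leaf (nat_lit 602952)) (BT.leaf (nat_lit 602952)))))) (BT.node (nat_lit 4239170) (BT.node (nat_lit 4238981) (BT.node (nat_lit 4238856) (BT.node (nat_lit 4238852) (BT.leaf (nat_lit 602952)) (BT.leaf (nat_lit 608088))) (BT.node (nat_lit 4238917) (BT.leaf (nat_lit 608088)) (BT.leaf (nat_lit 669552)))) (BT.node (nat_lit 4239045) (BT.node (nat_lit 4239044) (BT.leaf (nat_lit 602960)) (BT.leaf (nat_lit 596768))) (BT.node (nat_lit 4239169) (BT.leaf (nat_lit 596768)) (BT.leaf (nat_lit 607644))))) (BT.node (nat_lit 4239233) (BT.node (nat_lit 4239174) (BT.node (nat_lit 4239171) (BT.leaf (nat_lit 638688)) (BT.leaf (nat_lit 607644))) (BT.node (nat_lit 4239175) (BT.leaf (nat_lit 638688)) (BT.leaf (nat_lit 638688)))) (BT.node (nat_lit 4239297) (BT.node (nat_lit 4239237) (BT.leaf (nat_lit 636796)) (BT.leaf (nat_lit 636796))) (BT.node (nat_lit 4239298) (BT.leaf (nat_lit 628148)) (BT.leaf (nat_lit 628148))))))) (BT.node (nat_lit 4239880) (BT.node (nat_lit 4239493) (BT.node (nat_lit 4239430) (BT.node (nat_lit 4239364) (BT.node (nat_lit 4239300) (BT.leaf (nat_lit 628148)) (BT.leaf (nat_lit 628148))) (BT.node (nat_lit 4239429) (BT.leaf (nat_lit 642128)) (BT.leaf (nat_lit 597856)))) (BT.node (nat_lit 4239489) (BT.node (nat_lit 4239431) (BT.leaf (nat_lit 597856)) (BT.leaf (nat_lit 597856))) (BT.node (nat_lit 4239492) (BT.leaf (nat_lit 653684)) (BT.leaf (nat_lit 760756))))) (BT.node (nat_lit 4239621) (BT.node (nat_lit 4239559) (BT.node (nat_lit 4239558) (BT.leaf (nat_lit 653684)) (BT.leaf (nat_lit 677568))) (BT.node (nat_lit 4239620) (BT.leaf (nat_lit 661616)) (BT.leaf (nat_lit 704604)))) (BT.node (nat_lit 4239873) (BT.node (nat_lit 4239749) (BT.leaf (nat_lit 704604)) (BT.leaf (nat_lit 598748))) (BT.node (nat_lit 4239876) (BT.leaf (nat_lit 767976)) (BT.leaf (nat_lit 749384)))))) (BT.node (nat_lit 4240068) (BT.node (nat_lit 4239942) (BT.node (nat_lit 4239939) (BT.node (nat_lit 4239938) (BT.leaf (nat_lit 767976)) (BT.leaf (nat_lit 640148))) (BT.node (nat_lit 4239940) (BT.leaf (nat_lit 629008)) (BT.leaf (nat_lit 773708)))) (BT.node (nat_lit 4240004) (BT.node (nat_lit 4239943) (BT.leaf (nat_lit 629008)) (BT.leaf (nat_lit 629008))) (BT.node (nat_lit 4240005) (BT.leaf (nat_lit 593204)) (BT.leaf (nat_lit 593204))))) (BT.node (nat_lit 4240262) (BT.node (nat_lit 4240193) (BT.node (nat_lit 4240132) (BT.leaf (nat_lit 602928)) (BT.leaf (nat_lit 591012))) (BT.node (nat_lit 4240261) (BT.leaf (nat_lit 602904)) (BT.leaf (nat_lit 593208)))) (BT.node (nat_lit 4240264) (BT.node (nat_lit 4240263) (BT.leaf (nat_lit 593208)) (BT.leaf (nat_lit 593208))) (BT.node (nat_lit 4240321) (BT.leaf (nat_lit 593208)) (BT.leaf (nat_lit 630212))))))))) (BT.node (nat_lit 4242950) (BT.node (nat_lit 4241412) (BT.node (nat_lit 4240836) (BT.node (nat_lit 4240516) (BT.node (nat_lit 4240449) (BT.node (nat_lit 4240388) (BT.node (nat_lit 4240328) (BT.leaf (nat_lit 630212)) (BT.leaf (nat_lit 723312))) (BT.node (nat_lit 4240389) (BT.leaf (nat_lit 683460)) (BT.leaf (nat_lit 599028)))) (BT.node (nat_lit 4240455) (BT.node (nat_lit 4240454) (BT.leaf (nat_lit 620932)) (BT.leaf (nat_lit 647028))) (BT.node (nat_lit 4240456) (BT.leaf (nat_lit 647028)) (BT.leaf (nat_lit 620932))))) (BT.node (nat_lit 4240773) (BT.node (nat_lit 4240577) (BT.node (nat_lit 4240520) (BT.leaf (nat_lit 763180)) (BT.leaf (nat_lit 594284))) (BT.node (nat_lit 4240584) (BT.leaf (nat_lit 619904)) (BT.leaf (nat_lit 619904)))) (BT.node (nat_lit 4240775) (BT.node (nat_lit 4240774) (BT.leaf (nat_lit 711064)) (BT.leaf (nat_lit 670824))) (BT.node (nat_lit 4240834) (BT.leaf (nat_lit 670824)) (BT.leaf (nat_lit 649860)))))) (BT.node (nat_lit 4241160) (BT.node (nat_lit 4241094) (BT.node (nat_lit 4240966) (BT.node (nat_lit 4240965) (BT.leaf (nat_lit 649860)) (BT.leaf (nat_lit 644356))) (BT.node (nat_lit 4240967) (BT.leaf (nat_lit 683976)) (BT.leaf (nat_lit 683976)))) (BT.node (nat_lit 4241156) (BT.node (nat_lit 4241095) (BT.leaf (nat_lit 677080)) (BT.leaf (nat_lit 677080))) (BT.node (nat_lit 4241157) (BT.leaf (nat_lit 659964)) (BT.leaf (nat_lit 659964))))) (BT.node (nat_lit 4241288) (BT.node (nat_lit 4241218) (BT.node (nat_lit 4241217) (BT.leaf (nat_lit 785264)) (BT.leaf (nat_lit 785240))) (BT.node (nat_lit 4241219) (BT.leaf (nat_lit 681352)) (BT.leaf (nat_lit 681352)))) (BT.node (nat_lit 4241410) (BT.node (nat_lit 4241352) (BT.leaf (nat_lit 785244)) (BT.leaf (nat_lit 651008))) (BT.node (nat_lit 4241411) (BT.leaf (nat_lit 620800)) (BT.leaf (nat_lit 620800))))))) (BT.node (nat_lit 4242376) (BT.node (nat_lit 4241798) (BT.node (nat_lit 4241606) (BT.node (nat_lit 4241541) (BT.node (nat_lit 4241540) (BT.leaf (nat_lit 620800)) (BT.leaf (nat_lit 793552))) (BT.node (nat_lit 4241602) (BT.leaf (nat_lit 756380)) (BT.leaf (nat_lit 651556)))) (BT.node (nat_lit 4241669) (BT.node (nat_lit 4241607) (BT.leaf (nat_lit 651556)) (BT.leaf (nat_lit 651556))) (BT.node (nat_lit 4241733) (BT.leaf (nat_lit 610984)) (BT.leaf (nat_lit 651560))))) (BT.node (nat_lit 4242116) (BT.node (nat_lit 4241986) (BT.node (nat_lit 4241799) (BT.leaf (nat_lit 672928)) (BT.leaf (nat_lit 672928))) (BT.node (nat_lit 4242052) (BT.leaf (nat_lit 712268)) (BT.leaf (nat_lit 651428)))) (BT.node (nat_lit 4242312) (BT.node (nat_lit 4242308) (BT.leaf (nat_lit 603580)) (BT.leaf (nat_lit 592328))) (BT.node (nat_lit 4242372) (BT.leaf (nat_lit 592328)) (BT.leaf (nat_lit 598216)))))) (BT.node (nat_lit 4242694) (BT.node (nat_lit 4242502) (BT.node (nat_lit 4242499) (BT.node (nat_lit 4242498) (BT.leaf (nat_lit 681912)) (BT.leaf (nat_lit 681908))) (BT.node (nat_lit 4242500) (BT.leaf (nat_lit 681908)) (BT.leaf (nat_lit 647992)))) (BT.node (nat_lit 4242690) (BT.node (nat_lit 4242503) (BT.leaf (nat_lit 681908)) (BT.leaf (nat_lit 681908))) (BT.node (nat_lit 4242691) (BT.leaf (nat_lit 699548)) (BT.leaf (nat_lit 699548))))) (BT.node (nat_lit 4242759) (BT.node (nat_lit 4242757) (BT.node (nat_lit 4242695) (BT.leaf (nat_lit 699548)) (BT.leaf (nat_lit 699548))) (BT.node (nat_lit 4242758) (BT.leaf (nat_lit 716556)) (BT.leaf (nat_lit 616360)))) (BT.node (nat_lit 4242885) (BT.node (nat_lit 4242820) (BT.leaf (nat_lit 616360)) (BT.leaf (nat_lit 723404))) (BT.node (nat_lit 4242886) (BT.leaf (nat_lit 591032)) (BT.leaf (nat_lit 621848)))))))) (BT.node (nat_lit 4244356) (BT.node (nat_lit 4243718) (BT.node (nat_lit 4243142) (BT.node (nat_lit 4243075) (BT.node (nat_lit 4243012) (BT.node (nat_lit 4242951) (BT.leaf (nat_lit 616284)) (BT.leaf (nat_lit 623896))) (BT.node (nat_lit 4243074) (BT.leaf (nat_lit 708652)) (BT.leaf (nat_lit 754728)))) (BT.node (nat_lit 4243079) (BT.node (nat_lit 4243078) (BT.leaf (nat_lit 754728)) (BT.leaf (nat_lit 754728))) (BT.node (nat_lit 4243141) (BT.leaf (nat_lit 754728)) (BT.leaf (nat_lit 702060))))) (BT.node (nat_lit 4243527) (BT.node (nat_lit 4243201) (BT.node (nat_lit 4243143) (BT.leaf (nat_lit 702060)) (BT.leaf (nat_lit 702060))) (BT.node (nat_lit 4243526) (BT.leaf (nat_lit 616252)) (BT.leaf (nat_lit 710824)))) (BT.node (nat_lit 4243591) (BT.node (nat_lit 4243590) (BT.leaf (nat_lit 607360)) (BT.leaf (nat_lit 691572))) (BT.node (nat_lit 4243717) (BT.leaf (nat_lit 691572)) (BT.leaf (nat_lit 611888)))))) (BT.node (nat_lit 4243973) (BT.node (nat_lit 4243845) (BT.node (nat_lit 4243782) (BT.node (nat_lit 4243719) (BT.leaf (nat_lit 611888)) (BT.leaf (nat_lit 611888))) (BT.node (nat_lit 4243783) (BT.leaf (nat_lit 712208)) (BT.leaf (nat_lit 712208)))) (BT.node (nat_lit 4243847) (BT.node (nat_lit 4243846) (BT.leaf (nat_lit 624216)) (BT.leaf (nat_lit 646244))) (BT.node (nat_lit 4243908) (BT.leaf (nat_lit 646244)) (BT.leaf (nat_lit 775960))))) (BT.node (nat_lit 4244164) (BT.node (nat_lit 4244100) (BT.node (nat_lit 4244036) (BT.leaf (nat_lit 647508)) (BT.leaf (nat_lit 647516))) (BT.node (nat_lit 4244101) (BT.leaf (nat_lit 661488)) (BT.leaf (nat_lit 608712)))) (BT.node (nat_lit 4244354) (BT.node (nat_lit 4244293) (BT.leaf (nat_lit 668240)) (BT.leaf (nat_lit 616948))) (BT.node (nat_lit 4244355) (BT.leaf (nat_lit 606088)) (BT.leaf (nat_lit 606088))))))) (BT.node (nat_lit 4245639) (BT.node (nat_lit 4244805) (BT.node (nat_lit 4244483) (BT.node (nat_lit 4244359) (BT.node (nat_lit 4244358) (BT.leaf (nat_lit 732724)) (BT.leaf (nat_lit 606088))) (BT.node (nat_lit 4244421) (BT.leaf (nat_lit 606088)) (BT.leaf (nat_lit 774948)))) (BT.node (nat_lit 4244677) (BT.node (nat_lit 4244486) (BT.leaf (nat_lit 741872)) (BT.leaf (nat_lit 741872))) (BT.node (nat_lit 4244741) (BT.leaf (nat_lit 600312)) (BT.leaf (nat_lit 622280))))) (BT.node (nat_lit 4244935) (BT.node (nat_lit 4244931) (BT.node (nat_lit 4244930) (BT.leaf (nat_lit 641800)) (BT.leaf (nat_lit 602132))) (BT.node (nat_lit 4244934) (BT.leaf (nat_lit 602132)) (BT.leaf (nat_lit 602132)))) (BT.node (nat_lit 4245063) (BT.node (nat_lit 4244998) (BT.leaf (nat_lit 602132)) (BT.leaf (nat_lit 636788))) (BT.node (nat_lit 4245381) (BT.leaf (nat_lit 639408)) (BT.leaf (nat_lit 687512)))))) (BT.node (nat_lit 4245893) (BT.node (nat_lit 4245827) (BT.node (nat_lit 4245764) (BT.node (nat_lit 4245702) (BT.leaf (nat_lit 601780)) (BT.leaf (nat_lit 770960))) (BT.node (nat_lit 4245826) (BT.leaf (nat_lit 708120)) (BT.leaf (nat_lit 716856)))) (BT.node (nat_lit 4245831) (BT.node (nat_lit 4245830) (BT.leaf (nat_lit 716856)) (BT.leaf (nat_lit 679400))) (BT.node (nat_lit 4245892) (BT.leaf (nat_lit 716856)) (BT.leaf (nat_lit 698168))))) (BT.node (nat_lit 4246403) (BT.node (nat_lit 4246344) (BT.node (nat_lit 4245957) (BT.leaf (nat_lit 659040)) (BT.leaf (nat_lit 679408))) (BT.node (nat_lit 4246402) (BT.leaf (nat_lit 689848)) (BT.leaf (nat_lit 666220)))) (BT.node (nat_lit 4246406) (BT.node (nat_lit 4246404) (BT.leaf (nat_lit 666220)) (BT.leaf (nat_lit 666220))) (BT.node (nat_lit 4246407) (BT.leaf (nat_lit 635160)) (BT.leaf (nat_lit 635160))))))))))) (BT.node (nat_lit 4256967) (BT.node (nat_lit 4251909) (BT.node (nat_lit 4248965) (BT.node (nat_lit 4247811) (BT.node (nat_lit 4247047) (BT.node (nat_lit 4246853) (BT.node (nat_lit 4246600) (BT.node (nat_lit 4246536) (BT.node (nat_lit 4246472) (BT.leaf (nat_lit 707640)) (BT.leaf (nat_lit 707640))) (BT.node (nat_lit 4246596) (BT.leaf (nat_lit 659400)) (BT.leaf (nat_lit 664944)))) (BT.node (nat_lit 4246664) (BT.node (nat_lit 4246660) (BT.leaf (nat_lit 642312)) (BT.leaf (nat_lit 666936))) (BT.node (nat_lit 4246725) (BT.leaf (nat_lit 595584)) (BT.leaf (nat_lit 665996))))) (BT.node (nat_lit 4246980) (BT.node (nat_lit 4246978) (BT.node (nat_lit 4246854) (BT.leaf (nat_lit 677504)) (BT.leaf (nat_lit 603300))) (BT.node (nat_lit 4246979) (BT.leaf (nat_lit 597720)) (BT.leaf (nat_lit 597720)))) (BT.node (nat_lit 4246983) (BT.node (nat_lit 4246982) (BT.leaf (nat_lit 597720)) (BT.leaf (nat_lit 597720))) (BT.node (nat_lit 4247046) (BT.leaf (nat_lit 597720)) (BT.leaf (nat_lit 718556)))))) (BT.node (nat_lit 4247239) (BT.node (nat_lit 4247174) (BT.node (nat_lit 4247171) (BT.node (nat_lit 4247170) (BT.leaf (nat_lit 718556)) (BT.leaf (nat_lit 689828))) (BT.node (nat_lit 4247172) (BT.leaf (nat_lit 689828)) (BT.leaf (nat_lit 689828)))) (BT.node (nat_lit 4247234) (BT.node (nat_lit 4247176) (BT.leaf (nat_lit 689828)) (BT.leaf (nat_lit 689828))) (BT.node (nat_lit 4247238) (BT.leaf (nat_lit 600160)) (BT.leaf (nat_lit 600160))))) (BT.node (nat_lit 4247557) (BT.node (nat_lit 4247301) (BT.node (nat_lit 4247240) (BT.leaf (nat_lit 600160)) (BT.leaf (nat_lit 600160))) (BT.node (nat_lit 4247364) (BT.leaf (nat_lit 599552)) (BT.leaf (nat_lit 690176)))) (BT.node (nat_lit 4247809) (BT.node (nat_lit 4247621) (BT.leaf (nat_lit 599656)) (BT.leaf (nat_lit 772512))) (BT.node (nat_lit 4247810) (BT.leaf (nat_lit 591676)) (BT.leaf (nat_lit 591676))))))) (BT.node (nat_lit 4248516) (BT.node (nat_lit 4248198) (BT.node (nat_lit 4248005) (BT.node (nat_lit 4247876) (BT.node (nat_lit 4247814) (BT.leaf (nat_lit 591676)) (BT.leaf (nat_lit 591676))) (BT.node (nat_lit 4247877) (BT.leaf (nat_lit 692576)) (BT.leaf (nat_lit 692576)))) (BT.node (nat_lit 4248135) (BT.node (nat_lit 4248134) (BT.leaf (nat_lit 641844)) (BT.leaf (nat_lit 622704))) (BT.node (nat_lit 4248197) (BT.leaf (nat_lit 622704)) (BT.leaf (nat_lit 722480))))) (BT.node (nat_lit 4248325) (BT.node (nat_lit 4248263) (BT.node (nat_lit 4248262) (BT.leaf (nat_lit 627084)) (BT.leaf (nat_lit 622768))) (BT.node (nat_lit 4248324) (BT.leaf (nat_lit 622768)) (BT.leaf (nat_lit 598224)))) (BT.node (nat_lit 4248452) (BT.node (nat_lit 4248449) (BT.leaf (nat_lit 598224)) (BT.leaf (nat_lit 767888))) (BT.node (nat_lit 4248453) (BT.leaf (nat_lit 618200)) (BT.leaf (nat_lit 767888)))))) (BT.node (nat_lit 4248776) (BT.node (nat_lit 4248710) (BT.node (nat_lit 4248582) (BT.node (nat_lit 4248517) (BT.leaf (nat_lit 686304)) (BT.leaf (nat_lit 686304))) (BT.node (nat_lit 4248583) (BT.leaf (nat_lit 689356)) (BT.leaf (nat_lit 689356)))) (BT.node (nat_lit 4248712) (BT.node (nat_lit 4248711) (BT.leaf (nat_lit 630040)) (BT.leaf (nat_lit 630040))) (BT.node (nat_lit 4248773) (BT.leaf (nat_lit 630040)) (BT.leaf (nat_lit 689508))))) (BT.node (nat_lit 4248898) (BT.node (nat_lit 4248838) (BT.node (nat_lit 4248836) (BT.leaf (nat_lit 740416)) (BT.leaf (nat_lit 597472))) (BT.node (nat_lit 4248897) (BT.leaf (nat_lit 685972)) (BT.leaf (nat_lit 592256)))) (BT.node (nat_lit 4248902) (BT.node (nat_lit 4248899) (BT.leaf (nat_lit 592256)) (BT.leaf (nat_lit 592256))) (BT.node (nat_lit 4248903) (BT.leaf (nat_lit 592256)) (BT.leaf (nat_lit 592256)))))))) (BT.node (nat_lit 4250182) (BT.node (nat_lit 4249540) (BT.node (nat_lit 4249155) (BT.node (nat_lit 4249028) (BT.node (nat_lit 4248967) (BT.node (nat_lit 4248966) (BT.leaf (nat_lit 637836)) (BT.leaf (nat_lit 637836))) (BT.node (nat_lit 4249025) (BT.leaf (nat_lit 637836)) (BT.leaf (nat_lit 712760)))) (BT.node (nat_lit 4249093) (BT.node (nat_lit 4249029) (BT.leaf (nat_lit 712760)) (BT.leaf (nat_lit 654548))) (BT.node (nat_lit 4249154) (BT.leaf (nat_lit 597016)) (BT.leaf (nat_lit 720032))))) (BT.node (nat_lit 4249350) (BT.node (nat_lit 4249346) (BT.node (nat_lit 4249284) (BT.leaf (nat_lit 720032)) (BT.leaf (nat_lit 655584))) (BT.node (nat_lit 4249347) (BT.leaf (nat_lit 705792)) (BT.leaf (nat_lit 705792)))) (BT.node (nat_lit 4249476) (BT.node (nat_lit 4249351) (BT.leaf (nat_lit 705792)) (BT.leaf (nat_lit 705792))) (BT.node (nat_lit 4249480) (BT.leaf (nat_lit 680960)) (BT.leaf (nat_lit 598892)))))) (BT.node (nat_lit 4249735) (BT.node (nat_lit 4249668) (BT.node (nat_lit 4249604) (BT.node (nat_lit 4249544) (BT.leaf (nat_lit 721156)) (BT.leaf (nat_lit 593932))) (BT.node (nat_lit 4249608) (BT.leaf (nat_lit 636284)) (BT.leaf (nat_lit 636284)))) (BT.node (nat_lit 4249731) (BT.node (nat_lit 4249672) (BT.leaf (nat_lit 608872)) (BT.leaf (nat_lit 608872))) (BT.node (nat_lit 4249734) (BT.leaf (nat_lit 597424)) (BT.leaf (nat_lit 597424))))) (BT.node (nat_lit 4249992) (BT.node (nat_lit 4249861) (BT.node (nat_lit 4249796) (BT.leaf (nat_lit 597424)) (BT.leaf (nat_lit 707108))) (BT.node (nat_lit 4249925) (BT.leaf (nat_lit 597432)) (BT.leaf (nat_lit 705348)))) (BT.node (nat_lit 4250116) (BT.node (nat_lit 4250056) (BT.leaf (nat_lit 793144)) (BT.leaf (nat_lit 793148))) (BT.node (nat_lit 4250179) (BT.leaf (nat_lit 639880)) (BT.leaf (nat_lit 703224))))))) (BT.node (nat_lit 4251266) (BT.node (nat_lit 4250504) (BT.node (nat_lit 4250372) (BT.node (nat_lit 4250244) (BT.node (nat_lit 4250183) (BT.leaf (nat_lit 703224)) (BT.leaf (nat_lit 703224))) (BT.node (nat_lit 4250245) (BT.leaf (nat_lit 694148)) (BT.leaf (nat_lit 694148)))) (BT.node (nat_lit 4250436) (BT.node (nat_lit 4250376) (BT.leaf (nat_lit 595452)) (BT.leaf (nat_lit 744416))) (BT.node (nat_lit 4250500) (BT.leaf (nat_lit 629616)) (BT.leaf (nat_lit 630320))))) (BT.node (nat_lit 4250758) (BT.node (nat_lit 4250696) (BT.node (nat_lit 4250568) (BT.leaf (nat_lit 630320)) (BT.leaf (nat_lit 650380))) (BT.node (nat_lit 4250757) (BT.leaf (nat_lit 670744)) (BT.leaf (nat_lit 689688)))) (BT.node (nat_lit 4251204) (BT.node (nat_lit 4250759) (BT.leaf (nat_lit 689688)) (BT.leaf (nat_lit 689688))) (BT.node (nat_lit 4251205) (BT.leaf (nat_lit 621680)) (BT.leaf (nat_lit 621680)))))) (BT.node (nat_lit 4251653) (BT.node (nat_lit 4251271) (BT.node (nat_lit 4251268) (BT.node (nat_lit 4251267) (BT.leaf (nat_lit 650756)) (BT.leaf (nat_lit 650756))) (BT.node (nat_lit 4251270) (BT.leaf (nat_lit 751392)) (BT.leaf (nat_lit 650756)))) (BT.node (nat_lit 4251460) (BT.node (nat_lit 4251272) (BT.leaf (nat_lit 752168)) (BT.leaf (nat_lit 752168))) (BT.node (nat_lit 4251588) (BT.leaf (nat_lit 629160)) (BT.leaf (nat_lit 607024))))) (BT.node (nat_lit 4251719) (BT.node (nat_lit 4251715) (BT.node (nat_lit 4251714) (BT.leaf (nat_lit 763172)) (BT.leaf (nat_lit 601540))) (BT.node (nat_lit 4251718) (BT.leaf (nat_lit 601540)) (BT.leaf (nat_lit 601540)))) (BT.node (nat_lit 4251846) (BT.node (nat_lit 4251720) (BT.leaf (nat_lit 601540)) (BT.leaf (nat_lit 601540))) (BT.node (nat_lit 4251847) (BT.leaf (nat_lit 682944)) (BT.leaf (nat_lit 682944))))))))) (BT.node (nat_lit 4254658) (BT.node (nat_lit 4252993) (BT.node (nat_lit 4252546) (BT.node (nat_lit 4252355) (BT.node (nat_lit 4252164) (BT.node (nat_lit 4251972) (BT.node (nat_lit 4251911) (BT.leaf (nat_lit 768784)) (BT.leaf (nat_lit 700172))) (BT.node (nat_lit 4252037) (BT.leaf (nat_lit 700560)) (BT.leaf (nat_lit 673844)))) (BT.node (nat_lit 4252231) (BT.node (nat_lit 4252230) (BT.leaf (nat_lit 683132)) (BT.leaf (nat_lit 646756))) (BT.node (nat_lit 4252354) (BT.leaf (nat_lit 646756)) (BT.leaf (nat_lit 627876))))) (BT.node (nat_lit 4252360) (BT.node (nat_lit 4252358) (BT.node (nat_lit 4252356) (BT.leaf (nat_lit 627876)) (BT.leaf (nat_lit 660468))) (BT.node (nat_lit 4252359) (BT.leaf (nat_lit 627876)) (BT.leaf (nat_lit 627876)))) (BT.node (nat_lit 4252421) (BT.node (nat_lit 4252420) (BT.leaf (nat_lit 627876)) (BT.leaf (nat_lit 693048))) (BT.node (nat_lit 4252545) (BT.leaf (nat_lit 593432)) (BT.leaf (nat_lit 634684)))))) (BT.node (nat_lit 4252678) (BT.node (nat_lit 4252612) (BT.node (nat_lit 4252550) (BT.node (nat_lit 4252549) (BT.leaf (nat_lit 634684)) (BT.leaf (nat_lit 634684))) (BT.node (nat_lit 4252551) (BT.leaf (nat_lit 634684)) (BT.leaf (nat_lit 634684)))) (BT.node (nat_lit 4252675) (BT.node (nat_lit 4252674) (BT.leaf (nat_lit 634688)) (BT.leaf (nat_lit 716116))) (BT.node (nat_lit 4252676) (BT.leaf (nat_lit 716116)) (BT.leaf (nat_lit 606160))))) (BT.node (nat_lit 4252869) (BT.node (nat_lit 4252680) (BT.node (nat_lit 4252679) (BT.leaf (nat_lit 716116)) (BT.leaf (nat_lit 716116))) (BT.node (nat_lit 4252740) (BT.leaf (nat_lit 716116)) (BT.leaf (nat_lit 713156)))) (BT.node (nat_lit 4252871) (BT.node (nat_lit 4252870) (BT.leaf (nat_lit 647444)) (BT.leaf (nat_lit 647444))) (BT.node (nat_lit 4252935) (BT.leaf (nat_lit 647444)) (BT.leaf (nat_lit 629700))))))) (BT.node (nat_lit 4253765) (BT.node (nat_lit 4253318) (BT.node (nat_lit 4253125) (BT.node (nat_lit 4252999) (BT.node (nat_lit 4252998) (BT.leaf (nat_lit 696136)) (BT.leaf (nat_lit 696136))) (BT.node (nat_lit 4253061) (BT.leaf (nat_lit 696136)) (BT.leaf (nat_lit 796800)))) (BT.node (nat_lit 4253127) (BT.node (nat_lit 4253126) (BT.leaf (nat_lit 619776)) (BT.leaf (nat_lit 619776))) (BT.node (nat_lit 4253313) (BT.leaf (nat_lit 619776)) (BT.leaf (nat_lit 708420))))) (BT.node (nat_lit 4253511) (BT.node (nat_lit 4253509) (BT.node (nat_lit 4253319) (BT.leaf (nat_lit 708420)) (BT.leaf (nat_lit 708420))) (BT.node (nat_lit 4253510) (BT.leaf (nat_lit 712956)) (BT.leaf (nat_lit 671636)))) (BT.node (nat_lit 4253574) (BT.node (nat_lit 4253573) (BT.leaf (nat_lit 671636)) (BT.leaf (nat_lit 593964))) (BT.node (nat_lit 4253636) (BT.leaf (nat_lit 673556)) (BT.leaf (nat_lit 679100)))))) (BT.node (nat_lit 4254280) (BT.node (nat_lit 4253958) (BT.node (nat_lit 4253767) (BT.node (nat_lit 4253766) (BT.leaf (nat_lit 676980)) (BT.leaf (nat_lit 676980))) (BT.node (nat_lit 4253895) (BT.leaf (nat_lit 676980)) (BT.leaf (nat_lit 655448)))) (BT.node (nat_lit 4254149) (BT.node (nat_lit 4253959) (BT.leaf (nat_lit 728736)) (BT.leaf (nat_lit 728736))) (BT.node (nat_lit 4254276) (BT.leaf (nat_lit 603888)) (BT.leaf (nat_lit 609208))))) (BT.node (nat_lit 4254467) (BT.node (nat_lit 4254465) (BT.node (nat_lit 4254340) (BT.leaf (nat_lit 626444)) (BT.leaf (nat_lit 598488))) (BT.node (nat_lit 4254466) (BT.leaf (nat_lit 665880)) (BT.leaf (nat_lit 665880)))) (BT.node (nat_lit 4254471) (BT.node (nat_lit 4254470) (BT.leaf (nat_lit 665880)) (BT.leaf (nat_lit 665880))) (BT.node (nat_lit 4254657) (BT.leaf (nat_lit 665880)) (BT.leaf (nat_lit 708180)))))))) (BT.node (nat_lit 4255750) (BT.node (nat_lit 4255234) (BT.node (nat_lit 4254916) (BT.node (nat_lit 4254724) (BT.node (nat_lit 4254662) (BT.node (nat_lit 4254659) (BT.leaf (nat_lit 708180)) (BT.leaf (nat_lit 708180))) (BT.node (nat_lit 4254663) (BT.leaf (nat_lit 615764)) (BT.leaf (nat_lit 615764)))) (BT.node (nat_lit 4254852) (BT.node (nat_lit 4254789) (BT.leaf (nat_lit 630296)) (BT.leaf (nat_lit 664796))) (BT.node (nat_lit 4254856) (BT.leaf (nat_lit 596996)) (BT.leaf (nat_lit 696116))))) (BT.node (nat_lit 4255048) (BT.node (nat_lit 4254980) (BT.node (nat_lit 4254920) (BT.leaf (nat_lit 720964)) (BT.leaf (nat_lit 702872))) (BT.node (nat_lit 4255044) (BT.leaf (nat_lit 602348)) (BT.leaf (nat_lit 656764)))) (BT.node (nat_lit 4255111) (BT.node (nat_lit 4255110) (BT.leaf (nat_lit 707444)) (BT.leaf (nat_lit 705212))) (BT.node (nat_lit 4255175) (BT.leaf (nat_lit 705212)) (BT.leaf (nat_lit 631396)))))) (BT.node (nat_lit 4255494) (BT.node (nat_lit 4255303) (BT.node (nat_lit 4255238) (BT.node (nat_lit 4255235) (BT.leaf (nat_lit 637476)) (BT.leaf (nat_lit 637476))) (BT.node (nat_lit 4255239) (BT.leaf (nat_lit 637476)) (BT.leaf (nat_lit 637476)))) (BT.node (nat_lit 4255490) (BT.node (nat_lit 4255429) (BT.leaf (nat_lit 637148)) (BT.leaf (nat_lit 597128))) (BT.node (nat_lit 4255492) (BT.leaf (nat_lit 634748)) (BT.leaf (nat_lit 634748))))) (BT.node (nat_lit 4255685) (BT.node (nat_lit 4255556) (BT.node (nat_lit 4255495) (BT.leaf (nat_lit 680856)) (BT.leaf (nat_lit 680856))) (BT.node (nat_lit 4255557) (BT.leaf (nat_lit 687464)) (BT.leaf (nat_lit 687464)))) (BT.node (nat_lit 4255746) (BT.node (nat_lit 4255745) (BT.leaf (nat_lit 600396)) (BT.leaf (nat_lit 600384))) (BT.node (nat_lit 4255747) (BT.leaf (nat_lit 595268)) (BT.leaf (nat_lit 595268))))))) (BT.node (nat_lit 4256582) (BT.node (nat_lit 4256006) (BT.node (nat_lit 4255876) (BT.node (nat_lit 4255752) (BT.node (nat_lit 4255751) (BT.leaf (nat_lit 595268)) (BT.leaf (nat_lit 595268))) (BT.node (nat_lit 4255813) (BT.leaf (nat_lit 600384)) (BT.leaf (nat_lit 745772)))) (BT.node (nat_lit 4255940) (BT.node (nat_lit 4255877) (BT.leaf (nat_lit 615788)) (BT.leaf (nat_lit 615788))) (BT.node (nat_lit 4256003) (BT.leaf (nat_lit 679808)) (BT.leaf (nat_lit 706544))))) (BT.node (nat_lit 4256071) (BT.node (nat_lit 4256066) (BT.node (nat_lit 4256007) (BT.leaf (nat_lit 719728)) (BT.leaf (nat_lit 719728))) (BT.node (nat_lit 4256070) (BT.leaf (nat_lit 604368)) (BT.leaf (nat_lit 604368)))) (BT.node (nat_lit 4256197) (BT.node (nat_lit 4256196) (BT.leaf (nat_lit 604368)) (BT.leaf (nat_lit 628112))) (BT.node (nat_lit 4256388) (BT.leaf (nat_lit 628112)) (BT.leaf (nat_lit 662316)))))) (BT.node (nat_lit 4256710) (BT.node (nat_lit 4256646) (BT.node (nat_lit 4256584) (BT.node (nat_lit 4256583) (BT.leaf (nat_lit 716500)) (BT.leaf (nat_lit 716500))) (BT.node (nat_lit 4256645) (BT.leaf (nat_lit 621556)) (BT.leaf (nat_lit 688532)))) (BT.node (nat_lit 4256705) (BT.node (nat_lit 4256647) (BT.leaf (nat_lit 642960)) (BT.leaf (nat_lit 642960))) (BT.node (nat_lit 4256707) (BT.leaf (nat_lit 628936)) (BT.leaf (nat_lit 642916))))) (BT.node (nat_lit 4256836) (BT.node (nat_lit 4256769) (BT.node (nat_lit 4256711) (BT.leaf (nat_lit 642916)) (BT.leaf (nat_lit 642916))) (BT.node (nat_lit 4256772) (BT.leaf (nat_lit 649496)) (BT.leaf (nat_lit 649496)))) (BT.node (nat_lit 4256965) (BT.node (nat_lit 4256900) (BT.leaf (nat_lit 662036)) (BT.leaf (nat_lit 595388))) (BT.node (nat_lit 4256966) (BT.leaf (nat_lit 618212)) (BT.leaf (nat_lit 618212)))))))))) (BT.node (nat_lit 4263429) (BT.node (nat_lit 4260293) (BT.node (nat_lit 4258376) (BT.node (nat_lit 4257671) (BT.node (nat_lit 4257412) (BT.node (nat_lit 4257032) (BT.node (nat_lit 4257028) (BT.node (nat_lit 4257025) (BT.leaf (nat_lit 662552)) (BT.leaf (nat_lit 622752))) (BT.node (nat_lit 4257029) (BT.leaf (nat_lit 625064)) (BT.leaf (nat_lit 622752)))) (BT.node (nat_lit 4257221) (BT.node (nat_lit 4257220) (BT.leaf (nat_lit 622752)) (BT.leaf (nat_lit 620552))) (BT.node (nat_lit 4257288) (BT.leaf (nat_lit 620552)) (BT.leaf (nat_lit 665328))))) (BT.node (nat_lit 4257542) (BT.node (nat_lit 4257538) (BT.node (nat_lit 4257413) (BT.leaf (nat_lit 671608)) (BT.leaf (nat_lit 671608))) (BT.node (nat_lit 4257539) (BT.leaf (nat_lit 660380)) (BT.leaf (nat_lit 660380)))) (BT.node (nat_lit 4257605) (BT.node (nat_lit 4257543) (BT.leaf (nat_lit 660380)) (BT.leaf (nat_lit 660380))) (BT.node (nat_lit 4257670) (BT.leaf (nat_lit 660388)) (BT.leaf (nat_lit 593956)))))) (BT.node (nat_lit 4258184) (BT.node (nat_lit 4257992) (BT.node (nat_lit 4257863) (BT.node (nat_lit 4257862) (BT.leaf (nat_lit 593956)) (BT.leaf (nat_lit 704372))) (BT.node (nat_lit 4257988) (BT.leaf (nat_lit 704372)) (BT.leaf (nat_lit 702888)))) (BT.node (nat_lit 4258056) (BT.node (nat_lit 4258052) (BT.leaf (nat_lit 702888)) (BT.leaf (nat_lit 670724))) (BT.node (nat_lit 4258120) (BT.leaf (nat_lit 670724)) (BT.leaf (nat_lit 767652))))) (BT.node (nat_lit 4258370) (BT.node (nat_lit 4258308) (BT.node (nat_lit 4258248) (BT.leaf (nat_lit 630728)) (BT.leaf (nat_lit 630740))) (BT.node (nat_lit 4258312) (BT.leaf (nat_lit 712808)) (BT.leaf (nat_lit 663928)))) (BT.node (nat_lit 4258374) (BT.node (nat_lit 4258371) (BT.leaf (nat_lit 630460)) (BT.leaf (nat_lit 630460))) (BT.node (nat_lit 4258375) (BT.leaf (nat_lit 630460)) (BT.leaf (nat_lit 630460))))))) (BT.node (nat_lit 4258948) (BT.node (nat_lit 4258759) (BT.node (nat_lit 4258625) (BT.node (nat_lit 4258498) (BT.node (nat_lit 4258437) (BT.leaf (nat_lit 630460)) (BT.leaf (nat_lit 630468))) (BT.node (nat_lit 4258502) (BT.leaf (nat_lit 667352)) (BT.leaf (nat_lit 667352)))) (BT.node (nat_lit 4258754) (BT.node (nat_lit 4258693) (BT.leaf (nat_lit 664124)) (BT.leaf (nat_lit 664316))) (BT.node (nat_lit 4258755) (BT.leaf (nat_lit 641860)) (BT.leaf (nat_lit 641860))))) (BT.node (nat_lit 4258882) (BT.node (nat_lit 4258822) (BT.node (nat_lit 4258821) (BT.leaf (nat_lit 745260)) (BT.leaf (nat_lit 648632))) (BT.node (nat_lit 4258823) (BT.leaf (nat_lit 721616)) (BT.leaf (nat_lit 721616)))) (BT.node (nat_lit 4258886) (BT.node (nat_lit 4258884) (BT.leaf (nat_lit 597832)) (BT.leaf (nat_lit 789352))) (BT.node (nat_lit 4258887) (BT.leaf (nat_lit 700404)) (BT.leaf (nat_lit 700404)))))) (BT.node (nat_lit 4259396) (BT.node (nat_lit 4259330) (BT.node (nat_lit 4259206) (BT.node (nat_lit 4258949) (BT.leaf (nat_lit 641852)) (BT.leaf (nat_lit 709940))) (BT.node (nat_lit 4259207) (BT.leaf (nat_lit 611004)) (BT.leaf (nat_lit 611004)))) (BT.node (nat_lit 4259334) (BT.node (nat_lit 4259331) (BT.leaf (nat_lit 624780)) (BT.leaf (nat_lit 624780))) (BT.node (nat_lit 4259335) (BT.leaf (nat_lit 624780)) (BT.leaf (nat_lit 624780))))) (BT.node (nat_lit 4259716) (BT.node (nat_lit 4259526) (BT.node (nat_lit 4259521) (BT.leaf (nat_lit 663628)) (BT.leaf (nat_lit 627184))) (BT.node (nat_lit 4259527) (BT.leaf (nat_lit 694296)) (BT.leaf (nat_lit 694296)))) (BT.node (nat_lit 4260101) (BT.node (nat_lit 4259909) (BT.leaf (nat_lit 671200)) (BT.leaf (nat_lit 714572))) (BT.node (nat_lit 4260225) (BT.leaf (nat_lit 608944)) (BT.leaf (nat_lit 782452)))))))) (BT.node (nat_lit 4261766) (BT.node (nat_lit 4261188) (BT.node (nat_lit 4260616) (BT.node (nat_lit 4260610) (BT.node (nat_lit 4260422) (BT.node (nat_lit 4260295) (BT.leaf (nat_lit 720380)) (BT.leaf (nat_lit 694428))) (BT.node (nat_lit 4260423) (BT.leaf (nat_lit 618856)) (BT.leaf (nat_lit 618856)))) (BT.node (nat_lit 4260614) (BT.node (nat_lit 4260611) (BT.leaf (nat_lit 660752)) (BT.leaf (nat_lit 660752))) (BT.node (nat_lit 4260615) (BT.leaf (nat_lit 660752)) (BT.leaf (nat_lit 660752))))) (BT.node (nat_lit 4260680) (BT.node (nat_lit 4260678) (BT.node (nat_lit 4260673) (BT.leaf (nat_lit 660752)) (BT.leaf (nat_lit 706436))) (BT.node (nat_lit 4260679) (BT.leaf (nat_lit 672852)) (BT.leaf (nat_lit 672852)))) (BT.node (nat_lit 4260934) (BT.node (nat_lit 4260868) (BT.leaf (nat_lit 706436)) (BT.leaf (nat_lit 711852))) (BT.node (nat_lit 4260993) (BT.leaf (nat_lit 646176)) (BT.leaf (nat_lit 692768)))))) (BT.node (nat_lit 4261636) (BT.node (nat_lit 4261319) (BT.node (nat_lit 4261254) (BT.node (nat_lit 4261253) (BT.leaf (nat_lit 601556)) (BT.leaf (nat_lit 621040))) (BT.node (nat_lit 4261318) (BT.leaf (nat_lit 621040)) (BT.leaf (nat_lit 624316)))) (BT.node (nat_lit 4261383) (BT.node (nat_lit 4261382) (BT.leaf (nat_lit 624316)) (BT.leaf (nat_lit 770048))) (BT.node (nat_lit 4261444) (BT.leaf (nat_lit 643016)) (BT.leaf (nat_lit 699844))))) (BT.node (nat_lit 4261702) (BT.node (nat_lit 4261699) (BT.node (nat_lit 4261698) (BT.leaf (nat_lit 691116)) (BT.leaf (nat_lit 671868))) (BT.node (nat_lit 4261700) (BT.leaf (nat_lit 671868)) (BT.leaf (nat_lit 686992)))) (BT.node (nat_lit 4261704) (BT.node (nat_lit 4261703) (BT.leaf (nat_lit 671868)) (BT.leaf (nat_lit 671868))) (BT.node (nat_lit 4261765) (BT.leaf (nat_lit 671868)) (BT.leaf (nat_lit 617608))))))) (BT.node (nat_lit 4262917) (BT.node (nat_lit 4262338) (BT.node (nat_lit 4261894) (BT.node (nat_lit 4261828) (BT.node (nat_lit 4261767) (BT.leaf (nat_lit 617608)) (BT.leaf (nat_lit 617608))) (BT.node (nat_lit 4261893) (BT.leaf (nat_lit 627364)) (BT.leaf (nat_lit 718788)))) (BT.node (nat_lit 4262086) (BT.node (nat_lit 4261895) (BT.leaf (nat_lit 608392)) (BT.leaf (nat_lit 608392))) (BT.node (nat_lit 4262087) (BT.leaf (nat_lit 689292)) (BT.leaf (nat_lit 689292))))) (BT.node (nat_lit 4262725) (BT.node (nat_lit 4262343) (BT.node (nat_lit 4262339) (BT.leaf (nat_lit 685668)) (BT.leaf (nat_lit 685668))) (BT.node (nat_lit 4262403) (BT.leaf (nat_lit 685668)) (BT.leaf (nat_lit 652800)))) (BT.node (nat_lit 4262914) (BT.node (nat_lit 4262789) (BT.leaf (nat_lit 756972)) (BT.leaf (nat_lit 692660))) (BT.node (nat_lit 4262916) (BT.leaf (nat_lit 655960)) (BT.leaf (nat_lit 655960)))))) (BT.node (nat_lit 4263110) (BT.node (nat_lit 4263044) (BT.node (nat_lit 4263042) (BT.node (nat_lit 4262920) (BT.leaf (nat_lit 702304)) (BT.leaf (nat_lit 655960))) (BT.node (nat_lit 4263043) (BT.leaf (nat_lit 663432)) (BT.leaf (nat_lit 663432)))) (BT.node (nat_lit 4263047) (BT.node (nat_lit 4263046) (BT.leaf (nat_lit 663432)) (BT.leaf (nat_lit 663432))) (BT.node (nat_lit 4263109) (BT.leaf (nat_lit 663432)) (BT.leaf (nat_lit 663276))))) (BT.node (nat_lit 4263175) (BT.node (nat_lit 4263173) (BT.node (nat_lit 4263111) (BT.leaf (nat_lit 663276)) (BT.leaf (nat_lit 663276))) (BT.node (nat_lit 4263174) (BT.leaf (nat_lit 720180)) (BT.leaf (nat_lit 720180)))) (BT.node (nat_lit 4263237) (BT.node (nat_lit 4263234) (BT.leaf (nat_lit 720180)) (BT.leaf (nat_lit 720176))) (BT.node (nat_lit 4263301) (BT.leaf (nat_lit 720176)) (BT.leaf (nat_lit 633432))))))))) (BT.node (nat_lit 4265222) (BT.node (nat_lit 4264323) (BT.node (nat_lit 4263942) (BT.node (nat_lit 4263623) (BT.node (nat_lit 4263558) (BT.node (nat_lit 4263431) (BT.node (nat_lit 4263430) (BT.leaf (nat_lit 660864)) (BT.leaf (nat_lit 660864))) (BT.node (nat_lit 4263557) (BT.leaf (nat_lit 660864)) (BT.leaf (nat_lit 606324)))) (BT.node (nat_lit 4263617) (BT.node (nat_lit 4263559) (BT.leaf (nat_lit 606324)) (BT.leaf (nat_lit 606324))) (BT.node (nat_lit 4263622) (BT.leaf (nat_lit 782232)) (BT.leaf (nat_lit 624312))))) (BT.node (nat_lit 4263876) (BT.node (nat_lit 4263687) (BT.node (nat_lit 4263686) (BT.leaf (nat_lit 624312)) (BT.leaf (nat_lit 699384))) (BT.node (nat_lit 4263875) (BT.leaf (nat_lit 699384)) (BT.leaf (nat_lit 624308)))) (BT.node (nat_lit 4263939) (BT.node (nat_lit 4263877) (BT.leaf (nat_lit 624308)) (BT.leaf (nat_lit 624308))) (BT.node (nat_lit 4263941) (BT.leaf (nat_lit 699324)) (BT.leaf (nat_lit 699324)))))) (BT.node (nat_lit 4264134) (BT.node (nat_lit 4264066) (BT.node (nat_lit 4264002) (BT.node (nat_lit 4263943) (BT.leaf (nat_lit 699324)) (BT.leaf (nat_lit 699324))) (BT.node (nat_lit 4264005) (BT.leaf (nat_lit 677988)) (BT.leaf (nat_lit 677988)))) (BT.node (nat_lit 4264068) (BT.node (nat_lit 4264067) (BT.leaf (nat_lit 715848)) (BT.leaf (nat_lit 715848))) (BT.node (nat_lit 4264133) (BT.leaf (nat_lit 715848)) (BT.leaf (nat_lit 645808))))) (BT.node (nat_lit 4264258) (BT.node (nat_lit 4264196) (BT.node (nat_lit 4264135) (BT.leaf (nat_lit 645808)) (BT.leaf (nat_lit 645808))) (BT.node (nat_lit 4264257) (BT.leaf (nat_lit 699404)) (BT.leaf (nat_lit 657608)))) (BT.node (nat_lit 4264262) (BT.node (nat_lit 4264259) (BT.leaf (nat_lit 657608)) (BT.leaf (nat_lit 657608))) (BT.node (nat_lit 4264263) (BT.leaf (nat_lit 640692)) (BT.leaf (nat_lit 640692))))))) (BT.node (nat_lit 4264899) (BT.node (nat_lit 4264517) (BT.node (nat_lit 4264513) (BT.node (nat_lit 4264389) (BT.node (nat_lit 4264324) (BT.leaf (nat_lit 633600)) (BT.leaf (nat_lit 633600))) (BT.node (nat_lit 4264453) (BT.leaf (nat_lit 610356)) (BT.leaf (nat_lit 642284)))) (BT.node (nat_lit 4264515) (BT.node (nat_lit 4264514) (BT.leaf (nat_lit 693780)) (BT.leaf (nat_lit 693780))) (BT.node (nat_lit 4264516) (BT.leaf (nat_lit 693780)) (BT.leaf (nat_lit 693780))))) (BT.node (nat_lit 4264708) (BT.node (nat_lit 4264581) (BT.node (nat_lit 4264580) (BT.leaf (nat_lit 640712)) (BT.leaf (nat_lit 620904))) (BT.node (nat_lit 4264707) (BT.leaf (nat_lit 620904)) (BT.leaf (nat_lit 625688)))) (BT.node (nat_lit 4264897) (BT.node (nat_lit 4264836) (BT.leaf (nat_lit 625688)) (BT.leaf (nat_lit 598928))) (BT.node (nat_lit 4264898) (BT.leaf (nat_lit 734372)) (BT.leaf (nat_lit 734372)))))) (BT.node (nat_lit 4265026) (BT.node (nat_lit 4264963) (BT.node (nat_lit 4264902) (BT.node (nat_lit 4264900) (BT.leaf (nat_lit 642624)) (BT.leaf (nat_lit 734372))) (BT.node (nat_lit 4264903) (BT.leaf (nat_lit 642624)) (BT.leaf (nat_lit 642624)))) (BT.node (nat_lit 4264965) (BT.node (nat_lit 4264964) (BT.leaf (nat_lit 642152)) (BT.leaf (nat_lit 682592))) (BT.node (nat_lit 4265025) (BT.leaf (nat_lit 642152)) (BT.leaf (nat_lit 660220))))) (BT.node (nat_lit 4265031) (BT.node (nat_lit 4265029) (BT.node (nat_lit 4265027) (BT.leaf (nat_lit 660220)) (BT.leaf (nat_lit 660220))) (BT.node (nat_lit 4265030) (BT.leaf (nat_lit 660220)) (BT.leaf (nat_lit 697548)))) (BT.node (nat_lit 4265218) (BT.node (nat_lit 4265092) (BT.leaf (nat_lit 697548)) (BT.leaf (nat_lit 720788))) (BT.node (nat_lit 4265219) (BT.leaf (nat_lit 704228)) (BT.leaf (nat_lit 704228)))))))) (BT.node (nat_lit 4266754) (BT.node (nat_lit 4266244) (BT.node (nat_lit 4265668) (BT.node (nat_lit 4265349) (BT.node (nat_lit 4265224) (BT.node (nat_lit 4265223) (BT.leaf (nat_lit 652424)) (BT.leaf (nat_lit 652424))) (BT.node (nat_lit 4265285) (BT.leaf (nat_lit 652424)) (BT.leaf (nat_lit 627608)))) (BT.node (nat_lit 4265474) (BT.node (nat_lit 4265415) (BT.leaf (nat_lit 667512)) (BT.leaf (nat_lit 653044))) (BT.node (nat_lit 4265476) (BT.leaf (nat_lit 636984)) (BT.leaf (nat_lit 636984))))) (BT.node (nat_lit 4266051) (BT.node (nat_lit 4265990) (BT.node (nat_lit 4265989) (BT.leaf (nat_lit 704528)) (BT.leaf (nat_lit 709000))) (BT.node (nat_lit 4266050) (BT.leaf (nat_lit 709000)) (BT.leaf (nat_lit 651476)))) (BT.node (nat_lit 4266055) (BT.node (nat_lit 4266054) (BT.leaf (nat_lit 651476)) (BT.leaf (nat_lit 651476))) (BT.node (nat_lit 4266181) (BT.leaf (nat_lit 651476)) (BT.leaf (nat_lit 749316)))))) (BT.node (nat_lit 4266562) (BT.node (nat_lit 4266435) (BT.node (nat_lit 4266375) (BT.node (nat_lit 4266374) (BT.leaf (nat_lit 719756)) (BT.leaf (nat_lit 635232))) (BT.node (nat_lit 4266434) (BT.leaf (nat_lit 714268)) (BT.leaf (nat_lit 638520)))) (BT.node (nat_lit 4266498) (BT.node (nat_lit 4266436) (BT.leaf (nat_lit 638520)) (BT.leaf (nat_lit 638520))) (BT.node (nat_lit 4266501) (BT.leaf (nat_lit 675224)) (BT.leaf (nat_lit 675224))))) (BT.node (nat_lit 4266626) (BT.node (nat_lit 4266564) (BT.node (nat_lit 4266563) (BT.leaf (nat_lit 683888)) (BT.leaf (nat_lit 683888))) (BT.node (nat_lit 4266565) (BT.leaf (nat_lit 683888)) (BT.leaf (nat_lit 683888)))) (BT.node (nat_lit 4266628) (BT.node (nat_lit 4266627) (BT.leaf (nat_lit 717128)) (BT.leaf (nat_lit 717128))) (BT.node (nat_lit 4266753) (BT.leaf (nat_lit 717128)) (BT.leaf (nat_lit 713564))))))) (BT.node (nat_lit 4267462) (BT.node (nat_lit 4266950) (BT.node (nat_lit 4266817) (BT.node (nat_lit 4266759) (BT.node (nat_lit 4266756) (BT.leaf (nat_lit 713564)) (BT.leaf (nat_lit 713564))) (BT.node (nat_lit 4266760) (BT.leaf (nat_lit 713564)) (BT.leaf (nat_lit 713564)))) (BT.node (nat_lit 4266821) (BT.node (nat_lit 4266820) (BT.leaf (nat_lit 598292)) (BT.leaf (nat_lit 598292))) (BT.node (nat_lit 4266885) (BT.leaf (nat_lit 598292)) (BT.leaf (nat_lit 631628))))) (BT.node (nat_lit 4267268) (BT.node (nat_lit 4267077) (BT.node (nat_lit 4266951) (BT.leaf (nat_lit 706328)) (BT.leaf (nat_lit 706328))) (BT.node (nat_lit 4267266) (BT.leaf (nat_lit 628540)) (BT.leaf (nat_lit 647560)))) (BT.node (nat_lit 4267272) (BT.node (nat_lit 4267269) (BT.leaf (nat_lit 647560)) (BT.leaf (nat_lit 647560))) (BT.node (nat_lit 4267461) (BT.leaf (nat_lit 647560)) (BT.leaf (nat_lit 642664)))))) (BT.node (nat_lit 4267719) (BT.node (nat_lit 4267653) (BT.node (nat_lit 4267649) (BT.node (nat_lit 4267463) (BT.leaf (nat_lit 642664)) (BT.leaf (nat_lit 642664))) (BT.node (nat_lit 4267651) (BT.leaf (nat_lit 648564)) (BT.leaf (nat_lit 648564)))) (BT.node (nat_lit 4267717) (BT.node (nat_lit 4267713) (BT.leaf (nat_lit 648564)) (BT.leaf (nat_lit 615096))) (BT.node (nat_lit 4267718) (BT.leaf (nat_lit 615096)) (BT.leaf (nat_lit 695332))))) (BT.node (nat_lit 4267907) (BT.node (nat_lit 4267848) (BT.node (nat_lit 4267843) (BT.leaf (nat_lit 695332)) (BT.leaf (nat_lit 613204))) (BT.node (nat_lit 4267906) (BT.leaf (nat_lit 613204)) (BT.leaf (nat_lit 636248)))) (BT.node (nat_lit 4267910) (BT.node (nat_lit 4267908) (BT.leaf (nat_lit 636248)) (BT.leaf (nat_lit 677316))) (BT.node (nat_lit 4267911) (BT.leaf (nat_lit 636248)) (BT.leaf (nat_lit 636248)))))))))))) (BT.node (nat_lit 4285765) (BT.node (nat_lit 4276099) (BT.node (nat_lit 4271873) (BT.node (nat_lit 4270215) (BT.node (nat_lit 4269318) (BT.node (nat_lit 4268674) (BT.node (nat_lit 4268231) (BT.node (nat_lit 4268037) (BT.node (nat_lit 4267974) (BT.node (nat_lit 4267973) (BT.leaf (nat_lit 668900)) (BT.leaf (nat_lit 700048))) (BT.node (nat_lit 4267975) (BT.leaf (nat_lit 700048)) (BT.leaf (nat_lit 668900)))) (BT.node (nat_lit 4268225) (BT.node (nat_lit 4268164) (BT.leaf (nat_lit 654536)) (BT.leaf (nat_lit 593976))) (BT.node (nat_lit 4268230) (BT.leaf (nat_lit 717964)) (BT.leaf (nat_lit 717964))))) (BT.node (nat_lit 4268483) (BT.node (nat_lit 4268421) (BT.node (nat_lit 4268420) (BT.leaf (nat_lit 717964)) (BT.leaf (nat_lit 650384))) (BT.node (nat_lit 4268482) (BT.leaf (nat_lit 650384)) (BT.leaf (nat_lit 691096)))) (BT.node (nat_lit 4268548) (BT.node (nat_lit 4268484) (BT.leaf (nat_lit 691096)) (BT.leaf (nat_lit 691096))) (BT.node (nat_lit 4268612) (BT.leaf (nat_lit 698188)) (BT.leaf (nat_lit 608324)))))) (BT.node (nat_lit 4269060) (BT.node (nat_lit 4268806) (BT.node (nat_lit 4268740) (BT.node (nat_lit 4268675) (BT.leaf (nat_lit 704152)) (BT.leaf (nat_lit 704152))) (BT.node (nat_lit 4268741) (BT.leaf (nat_lit 681480)) (BT.leaf (nat_lit 608388)))) (BT.node (nat_lit 4268932) (BT.node (nat_lit 4268807) (BT.leaf (nat_lit 707288)) (BT.leaf (nat_lit 707288))) (BT.node (nat_lit 4268996) (BT.leaf (nat_lit 700508)) (BT.leaf (nat_lit 601232))))) (BT.node (nat_lit 4269252) (BT.node (nat_lit 4269250) (BT.node (nat_lit 4269125) (BT.leaf (nat_lit 656568)) (BT.leaf (nat_lit 685936))) (BT.node (nat_lit 4269251) (BT.leaf (nat_lit 693552)) (BT.leaf (nat_lit 723124)))) (BT.node (nat_lit 4269254) (BT.node (nat_lit 4269253) (BT.leaf (nat_lit 693552)) (BT.leaf (nat_lit 723124))) (BT.node (nat_lit 4269315) (BT.leaf (nat_lit 723124)) (BT.leaf (nat_lit 685928))))))) (BT.node (nat_lit 4269702) (BT.node (nat_lit 4269633) (BT.node (nat_lit 4269443) (BT.node (nat_lit 4269379) (BT.node (nat_lit 4269320) (BT.leaf (nat_lit 685928)) (BT.leaf (nat_lit 697148))) (BT.node (nat_lit 4269384) (BT.leaf (nat_lit 682188)) (BT.leaf (nat_lit 682188)))) (BT.node (nat_lit 4269447) (BT.node (nat_lit 4269446) (BT.leaf (nat_lit 684528)) (BT.leaf (nat_lit 684528))) (BT.node (nat_lit 4269572) (BT.leaf (nat_lit 684528)) (BT.leaf (nat_lit 673540))))) (BT.node (nat_lit 4269638) (BT.node (nat_lit 4269635) (BT.node (nat_lit 4269634) (BT.leaf (nat_lit 632340)) (BT.leaf (nat_lit 632340))) (BT.node (nat_lit 4269636) (BT.leaf (nat_lit 632340)) (BT.leaf (nat_lit 632340)))) (BT.node (nat_lit 4269640) (BT.node (nat_lit 4269639) (BT.leaf (nat_lit 632340)) (BT.leaf (nat_lit 632340))) (BT.node (nat_lit 4269701) (BT.leaf (nat_lit 632340)) (BT.leaf (nat_lit 655600)))))) (BT.node (nat_lit 4269956) (BT.node (nat_lit 4269827) (BT.node (nat_lit 4269766) (BT.node (nat_lit 4269703) (BT.leaf (nat_lit 655600)) (BT.leaf (nat_lit 655600))) (BT.node (nat_lit 4269767) (BT.leaf (nat_lit 722660)) (BT.leaf (nat_lit 722660)))) (BT.node (nat_lit 4269889) (BT.node (nat_lit 4269829) (BT.leaf (nat_lit 699684)) (BT.leaf (nat_lit 699684))) (BT.node (nat_lit 4269894) (BT.leaf (nat_lit 731068)) (BT.leaf (nat_lit 731068))))) (BT.node (nat_lit 4270084) (BT.node (nat_lit 4270020) (BT.node (nat_lit 4270018) (BT.leaf (nat_lit 594100)) (BT.leaf (nat_lit 729392))) (BT.node (nat_lit 4270023) (BT.leaf (nat_lit 609024)) (BT.leaf (nat_lit 729392)))) (BT.node (nat_lit 4270211) (BT.node (nat_lit 4270088) (BT.leaf (nat_lit 614020)) (BT.leaf (nat_lit 656844))) (BT.node (nat_lit 4270214) (BT.leaf (nat_lit 608424)) (BT.leaf (nat_lit 715328)))))))) (BT.node (nat_lit 4271175) (BT.node (nat_lit 4270660) (BT.node (nat_lit 4270530) (BT.node (nat_lit 4270279) (BT.node (nat_lit 4270274) (BT.node (nat_lit 4270216) (BT.leaf (nat_lit 715328)) (BT.leaf (nat_lit 715328))) (BT.node (nat_lit 4270275) (BT.leaf (nat_lit 698832)) (BT.leaf (nat_lit 698832)))) (BT.node (nat_lit 4270341) (BT.node (nat_lit 4270280) (BT.leaf (nat_lit 698832)) (BT.leaf (nat_lit 698832))) (BT.node (nat_lit 4270468) (BT.leaf (nat_lit 710888)) (BT.leaf (nat_lit 697972))))) (BT.node (nat_lit 4270535) (BT.node (nat_lit 4270533) (BT.node (nat_lit 4270531) (BT.leaf (nat_lit 662816)) (BT.leaf (nat_lit 662816))) (BT.node (nat_lit 4270534) (BT.leaf (nat_lit 662816)) (BT.leaf (nat_lit 662816)))) (BT.node (nat_lit 4270658) (BT.node (nat_lit 4270597) (BT.leaf (nat_lit 662816)) (BT.leaf (nat_lit 702824))) (BT.node (nat_lit 4270659) (BT.leaf (nat_lit 671324)) (BT.leaf (nat_lit 671324)))))) (BT.node (nat_lit 4270851) (BT.node (nat_lit 4270724) (BT.node (nat_lit 4270663) (BT.node (nat_lit 4270662) (BT.leaf (nat_lit 671324)) (BT.leaf (nat_lit 671324))) (BT.node (nat_lit 4270664) (BT.leaf (nat_lit 671324)) (BT.leaf (nat_lit 671324)))) (BT.node (nat_lit 4270790) (BT.node (nat_lit 4270789) (BT.leaf (nat_lit 674756)) (BT.leaf (nat_lit 708840))) (BT.node (nat_lit 4270791) (BT.leaf (nat_lit 624460)) (BT.leaf (nat_lit 624460))))) (BT.node (nat_lit 4271109) (BT.node (nat_lit 4270854) (BT.node (nat_lit 4270852) (BT.leaf (nat_lit 717492)) (BT.leaf (nat_lit 722928))) (BT.node (nat_lit 4270981) (BT.leaf (nat_lit 717492)) (BT.leaf (nat_lit 753980)))) (BT.node (nat_lit 4271173) (BT.node (nat_lit 4271111) (BT.leaf (nat_lit 676764)) (BT.leaf (nat_lit 676764))) (BT.node (nat_lit 4271174) (BT.leaf (nat_lit 618284)) (BT.leaf (nat_lit 618284))))))) (BT.node (nat_lit 4271366) (BT.node (nat_lit 4271298) (BT.node (nat_lit 4271236) (BT.node (nat_lit 4271234) (BT.node (nat_lit 4271233) (BT.leaf (nat_lit 618284)) (BT.leaf (nat_lit 618276))) (BT.node (nat_lit 4271235) (BT.leaf (nat_lit 618276)) (BT.leaf (nat_lit 618276)))) (BT.node (nat_lit 4271240) (BT.node (nat_lit 4271237) (BT.leaf (nat_lit 618276)) (BT.leaf (nat_lit 618276))) (BT.node (nat_lit 4271297) (BT.leaf (nat_lit 618276)) (BT.leaf (nat_lit 624472))))) (BT.node (nat_lit 4271304) (BT.node (nat_lit 4271300) (BT.node (nat_lit 4271299) (BT.leaf (nat_lit 624472)) (BT.leaf (nat_lit 624472))) (BT.node (nat_lit 4271301) (BT.leaf (nat_lit 624472)) (BT.leaf (nat_lit 624472)))) (BT.node (nat_lit 4271362) (BT.node (nat_lit 4271361) (BT.leaf (nat_lit 624472)) (BT.leaf (nat_lit 608652))) (BT.node (nat_lit 4271365) (BT.leaf (nat_lit 608652)) (BT.leaf (nat_lit 666388)))))) (BT.node (nat_lit 4271618) (BT.node (nat_lit 4271491) (BT.node (nat_lit 4271428) (BT.node (nat_lit 4271367) (BT.leaf (nat_lit 608652)) (BT.leaf (nat_lit 608652))) (BT.node (nat_lit 4271490) (BT.leaf (nat_lit 699944)) (BT.leaf (nat_lit 603036)))) (BT.node (nat_lit 4271495) (BT.node (nat_lit 4271494) (BT.leaf (nat_lit 603036)) (BT.leaf (nat_lit 603036))) (BT.node (nat_lit 4271557) (BT.leaf (nat_lit 603036)) (BT.leaf (nat_lit 615560))))) (BT.node (nat_lit 4271684) (BT.node (nat_lit 4271622) (BT.node (nat_lit 4271619) (BT.leaf (nat_lit 682784)) (BT.leaf (nat_lit 682784))) (BT.node (nat_lit 4271623) (BT.leaf (nat_lit 682784)) (BT.leaf (nat_lit 682784)))) (BT.node (nat_lit 4271814) (BT.node (nat_lit 4271749) (BT.leaf (nat_lit 720288)) (BT.leaf (nat_lit 626584))) (BT.node (nat_lit 4271815) (BT.leaf (nat_lit 710468)) (BT.leaf (nat_lit 710468))))))))) (BT.node (nat_lit 4273603) (BT.node (nat_lit 4272770) (BT.node (nat_lit 4272258) (BT.node (nat_lit 4272129) (BT.node (nat_lit 4272001) (BT.node (nat_lit 4271879) (BT.node (nat_lit 4271878) (BT.leaf (nat_lit 722908)) (BT.leaf (nat_lit 694264))) (BT.node (nat_lit 4271944) (BT.leaf (nat_lit 694264)) (BT.leaf (nat_lit 655456)))) (BT.node (nat_lit 4272067) (BT.node (nat_lit 4272002) (BT.leaf (nat_lit 650448)) (BT.leaf (nat_lit 650448))) (BT.node (nat_lit 4272068) (BT.leaf (nat_lit 656640)) (BT.leaf (nat_lit 656640))))) (BT.node (nat_lit 4272134) (BT.node (nat_lit 4272131) (BT.node (nat_lit 4272130) (BT.leaf (nat_lit 623276)) (BT.leaf (nat_lit 623276))) (BT.node (nat_lit 4272132) (BT.leaf (nat_lit 623276)) (BT.leaf (nat_lit 623276)))) (BT.node (nat_lit 4272196) (BT.node (nat_lit 4272135) (BT.leaf (nat_lit 766860)) (BT.leaf (nat_lit 766860))) (BT.node (nat_lit 4272197) (BT.leaf (nat_lit 625896)) (BT.leaf (nat_lit 625896)))))) (BT.node (nat_lit 4272517) (BT.node (nat_lit 4272264) (BT.node (nat_lit 4272262) (BT.node (nat_lit 4272259) (BT.leaf (nat_lit 711160)) (BT.leaf (nat_lit 711160))) (BT.node (nat_lit 4272263) (BT.leaf (nat_lit 711160)) (BT.leaf (nat_lit 711160)))) (BT.node (nat_lit 4272388) (BT.node (nat_lit 4272386) (BT.leaf (nat_lit 711160)) (BT.leaf (nat_lit 672152))) (BT.node (nat_lit 4272392) (BT.leaf (nat_lit 672152)) (BT.leaf (nat_lit 672152))))) (BT.node (nat_lit 4272707) (BT.node (nat_lit 4272647) (BT.node (nat_lit 4272646) (BT.leaf (nat_lit 704672)) (BT.leaf (nat_lit 628008))) (BT.node (nat_lit 4272705) (BT.leaf (nat_lit 628008)) (BT.leaf (nat_lit 595016)))) (BT.node (nat_lit 4272709) (BT.node (nat_lit 4272708) (BT.leaf (nat_lit 595016)) (BT.leaf (nat_lit 616616))) (BT.node (nat_lit 4272712) (BT.leaf (nat_lit 595016)) (BT.leaf (nat_lit 595016))))))) (BT.node (nat_lit 4273217) (BT.node (nat_lit 4272967) (BT.node (nat_lit 4272962) (BT.node (nat_lit 4272900) (BT.node (nat_lit 4272776) (BT.leaf (nat_lit 629864)) (BT.leaf (nat_lit 629864))) (BT.node (nat_lit 4272901) (BT.leaf (nat_lit 685552)) (BT.leaf (nat_lit 685552)))) (BT.node (nat_lit 4272964) (BT.node (nat_lit 4272963) (BT.leaf (nat_lit 632424)) (BT.leaf (nat_lit 632424))) (BT.node (nat_lit 4272966) (BT.leaf (nat_lit 632424)) (BT.leaf (nat_lit 632424))))) (BT.node (nat_lit 4273153) (BT.node (nat_lit 4273095) (BT.node (nat_lit 4273094) (BT.leaf (nat_lit 632424)) (BT.leaf (nat_lit 641452))) (BT.node (nat_lit 4273096) (BT.leaf (nat_lit 641452)) (BT.leaf (nat_lit 641452)))) (BT.node (nat_lit 4273158) (BT.node (nat_lit 4273154) (BT.leaf (nat_lit 719724)) (BT.leaf (nat_lit 719724))) (BT.node (nat_lit 4273159) (BT.leaf (nat_lit 719724)) (BT.leaf (nat_lit 719724)))))) (BT.node (nat_lit 4273415) (BT.node (nat_lit 4273284) (BT.node (nat_lit 4273221) (BT.node (nat_lit 4273219) (BT.leaf (nat_lit 641788)) (BT.leaf (nat_lit 641788))) (BT.node (nat_lit 4273224) (BT.leaf (nat_lit 641788)) (BT.leaf (nat_lit 641788)))) (BT.node (nat_lit 4273412) (BT.node (nat_lit 4273410) (BT.leaf (nat_lit 602280)) (BT.leaf (nat_lit 655128))) (BT.node (nat_lit 4273414) (BT.leaf (nat_lit 655128)) (BT.leaf (nat_lit 655128))))) (BT.node (nat_lit 4273479) (BT.node (nat_lit 4273477) (BT.node (nat_lit 4273416) (BT.leaf (nat_lit 655128)) (BT.leaf (nat_lit 655128))) (BT.node (nat_lit 4273478) (BT.leaf (nat_lit 697128)) (BT.leaf (nat_lit 719168)))) (BT.node (nat_lit 4273539) (BT.node (nat_lit 4273538) (BT.leaf (nat_lit 719168)) (BT.leaf (nat_lit 628132))) (BT.node (nat_lit 4273602) (BT.leaf (nat_lit 628132)) (BT.leaf (nat_lit 674440)))))))) (BT.node (nat_lit 4274758) (BT.node (nat_lit 4273989) (BT.node (nat_lit 4273734) (BT.node (nat_lit 4273608) (BT.node (nat_lit 4273606) (BT.node (nat_lit 4273604) (BT.leaf (nat_lit 674440)) (BT.leaf (nat_lit 692632))) (BT.node (nat_lit 4273607) (BT.leaf (nat_lit 674440)) (BT.leaf (nat_lit 674440)))) (BT.node (nat_lit 4273731) (BT.node (nat_lit 4273730) (BT.leaf (nat_lit 692632)) (BT.leaf (nat_lit 674396))) (BT.node (nat_lit 4273732) (BT.leaf (nat_lit 674396)) (BT.leaf (nat_lit 674396))))) (BT.node (nat_lit 4273857) (BT.node (nat_lit 4273736) (BT.node (nat_lit 4273735) (BT.leaf (nat_lit 674396)) (BT.leaf (nat_lit 674396))) (BT.node (nat_lit 4273797) (BT.leaf (nat_lit 674396)) (BT.leaf (nat_lit 619124)))) (BT.node (nat_lit 4273924) (BT.node (nat_lit 4273861) (BT.leaf (nat_lit 676300)) (BT.leaf (nat_lit 676300))) (BT.node (nat_lit 4273988) (BT.leaf (nat_lit 687196)) (BT.leaf (nat_lit 644928)))))) (BT.node (nat_lit 4274566) (BT.node (nat_lit 4274436) (BT.node (nat_lit 4274118) (BT.node (nat_lit 4274113) (BT.leaf (nat_lit 644928)) (BT.leaf (nat_lit 636564))) (BT.node (nat_lit 4274119) (BT.leaf (nat_lit 636564)) (BT.leaf (nat_lit 636564)))) (BT.node (nat_lit 4274502) (BT.node (nat_lit 4274501) (BT.leaf (nat_lit 654760)) (BT.leaf (nat_lit 664960))) (BT.node (nat_lit 4274503) (BT.leaf (nat_lit 596632)) (BT.leaf (nat_lit 596632))))) (BT.node (nat_lit 4274631) (BT.node (nat_lit 4274629) (BT.node (nat_lit 4274567) (BT.leaf (nat_lit 715304)) (BT.leaf (nat_lit 715304))) (BT.node (nat_lit 4274630) (BT.leaf (nat_lit 604684)) (BT.leaf (nat_lit 604684)))) (BT.node (nat_lit 4274755) (BT.node (nat_lit 4274692) (BT.leaf (nat_lit 604684)) (BT.leaf (nat_lit 601128))) (BT.node (nat_lit 4274757) (BT.leaf (nat_lit 620452)) (BT.leaf (nat_lit 707852))))))) (BT.node (nat_lit 4275398) (BT.node (nat_lit 4275144) (BT.node (nat_lit 4274887) (BT.node (nat_lit 4274820) (BT.node (nat_lit 4274817) (BT.leaf (nat_lit 620452)) (BT.leaf (nat_lit 614208))) (BT.node (nat_lit 4274886) (BT.leaf (nat_lit 620848)) (BT.leaf (nat_lit 648588)))) (BT.node (nat_lit 4275142) (BT.node (nat_lit 4275138) (BT.leaf (nat_lit 648588)) (BT.leaf (nat_lit 635960))) (BT.node (nat_lit 4275143) (BT.leaf (nat_lit 635960)) (BT.leaf (nat_lit 635960))))) (BT.node (nat_lit 4275334) (BT.node (nat_lit 4275269) (BT.node (nat_lit 4275205) (BT.leaf (nat_lit 635960)) (BT.leaf (nat_lit 775872))) (BT.node (nat_lit 4275333) (BT.leaf (nat_lit 819036)) (BT.leaf (nat_lit 717224)))) (BT.node (nat_lit 4275394) (BT.node (nat_lit 4275335) (BT.leaf (nat_lit 717224)) (BT.leaf (nat_lit 717224))) (BT.node (nat_lit 4275395) (BT.leaf (nat_lit 681864)) (BT.leaf (nat_lit 681864)))))) (BT.node (nat_lit 4275907) (BT.node (nat_lit 4275780) (BT.node (nat_lit 4275526) (BT.node (nat_lit 4275399) (BT.leaf (nat_lit 681864)) (BT.leaf (nat_lit 681864))) (BT.node (nat_lit 4275527) (BT.leaf (nat_lit 672440)) (BT.leaf (nat_lit 672440)))) (BT.node (nat_lit 4275844) (BT.node (nat_lit 4275781) (BT.leaf (nat_lit 682148)) (BT.leaf (nat_lit 682148))) (BT.node (nat_lit 4275906) (BT.leaf (nat_lit 687052)) (BT.leaf (nat_lit 595024))))) (BT.node (nat_lit 4275912) (BT.node (nat_lit 4275910) (BT.node (nat_lit 4275908) (BT.leaf (nat_lit 595024)) (BT.leaf (nat_lit 595024))) (BT.node (nat_lit 4275911) (BT.leaf (nat_lit 595024)) (BT.leaf (nat_lit 595024)))) (BT.node (nat_lit 4275973) (BT.node (nat_lit 4275972) (BT.leaf (nat_lit 595024)) (BT.leaf (nat_lit 616920))) (BT.node (nat_lit 4276097) (BT.leaf (nat_lit 623160)) (BT.leaf (nat_lit 634412)))))))))) (BT.node (nat_lit 4281415) (BT.node (nat_lit 4278723) (BT.node (nat_lit 4277250) (BT.node (nat_lit 4276612) (BT.node (nat_lit 4276359) (BT.node (nat_lit 4276290) (BT.node (nat_lit 4276102) (BT.node (nat_lit 4276101) (BT.leaf (nat_lit 634412)) (BT.leaf (nat_lit 708564))) (BT.node (nat_lit 4276103) (BT.leaf (nat_lit 634412)) (BT.leaf (nat_lit 634412)))) (BT.node (nat_lit 4276357) (BT.node (nat_lit 4276293) (BT.leaf (nat_lit 698752)) (BT.leaf (nat_lit 676288))) (BT.node (nat_lit 4276358) (BT.leaf (nat_lit 678164)) (BT.leaf (nat_lit 678164))))) (BT.node (nat_lit 4276485) (BT.node (nat_lit 4276422) (BT.node (nat_lit 4276420) (BT.leaf (nat_lit 678164)) (BT.leaf (nat_lit 601584))) (BT.node (nat_lit 4276424) (BT.leaf (nat_lit 606232)) (BT.leaf (nat_lit 601584)))) (BT.node (nat_lit 4276551) (BT.node (nat_lit 4276549) (BT.leaf (nat_lit 637260)) (BT.leaf (nat_lit 773392))) (BT.node (nat_lit 4276610) (BT.leaf (nat_lit 687936)) (BT.leaf (nat_lit 714864)))))) (BT.node (nat_lit 4276804) (BT.node (nat_lit 4276737) (BT.node (nat_lit 4276679) (BT.node (nat_lit 4276613) (BT.leaf (nat_lit 616348)) (BT.leaf (nat_lit 714864))) (BT.node (nat_lit 4276680) (BT.leaf (nat_lit 606308)) (BT.leaf (nat_lit 606308)))) (BT.node (nat_lit 4276742) (BT.node (nat_lit 4276739) (BT.leaf (nat_lit 608824)) (BT.leaf (nat_lit 608824))) (BT.node (nat_lit 4276802) (BT.leaf (nat_lit 608824)) (BT.leaf (nat_lit 620228))))) (BT.node (nat_lit 4277185) (BT.node (nat_lit 4276808) (BT.node (nat_lit 4276807) (BT.leaf (nat_lit 620228)) (BT.leaf (nat_lit 620228))) (BT.node (nat_lit 4276933) (BT.leaf (nat_lit 620228)) (BT.leaf (nat_lit 608828)))) (BT.node (nat_lit 4277190) (BT.node (nat_lit 4277189) (BT.leaf (nat_lit 792644)) (BT.leaf (nat_lit 617700))) (BT.node (nat_lit 4277191) (BT.leaf (nat_lit 617700)) (BT.leaf (nat_lit 617700))))))) (BT.node (nat_lit 4278150) (BT.node (nat_lit 4277571) (BT.node (nat_lit 4277382) (BT.node (nat_lit 4277378) (BT.node (nat_lit 4277319) (BT.leaf (nat_lit 659620)) (BT.leaf (nat_lit 641188))) (BT.node (nat_lit 4277379) (BT.leaf (nat_lit 601944)) (BT.leaf (nat_lit 601944)))) (BT.node (nat_lit 4277442) (BT.node (nat_lit 4277383) (BT.leaf (nat_lit 601944)) (BT.leaf (nat_lit 601944))) (BT.node (nat_lit 4277570) (BT.leaf (nat_lit 698092)) (BT.leaf (nat_lit 691076))))) (BT.node (nat_lit 4277895) (BT.node (nat_lit 4277830) (BT.node (nat_lit 4277574) (BT.leaf (nat_lit 691076)) (BT.leaf (nat_lit 691076))) (BT.node (nat_lit 4277894) (BT.leaf (nat_lit 608532)) (BT.leaf (nat_lit 628384)))) (BT.node (nat_lit 4278146) (BT.node (nat_lit 4278020) (BT.leaf (nat_lit 628384)) (BT.leaf (nat_lit 701808))) (BT.node (nat_lit 4278147) (BT.leaf (nat_lit 615020)) (BT.leaf (nat_lit 615020)))))) (BT.node (nat_lit 4278343) (BT.node (nat_lit 4278214) (BT.node (nat_lit 4278152) (BT.node (nat_lit 4278151) (BT.leaf (nat_lit 615020)) (BT.leaf (nat_lit 615020))) (BT.node (nat_lit 4278213) (BT.leaf (nat_lit 615020)) (BT.leaf (nat_lit 707896)))) (BT.node (nat_lit 4278341) (BT.node (nat_lit 4278215) (BT.leaf (nat_lit 647800)) (BT.leaf (nat_lit 647800))) (BT.node (nat_lit 4278342) (BT.leaf (nat_lit 710188)) (BT.leaf (nat_lit 710188))))) (BT.node (nat_lit 4278598) (BT.node (nat_lit 4278532) (BT.node (nat_lit 4278404) (BT.leaf (nat_lit 710188)) (BT.leaf (nat_lit 637424))) (BT.node (nat_lit 4278597) (BT.leaf (nat_lit 618732)) (BT.leaf (nat_lit 661648)))) (BT.node (nat_lit 4278660) (BT.node (nat_lit 4278599) (BT.leaf (nat_lit 661648)) (BT.leaf (nat_lit 661648))) (BT.node (nat_lit 4278721) (BT.leaf (nat_lit 602912)) (BT.leaf (nat_lit 602892)))))))) (BT.node (nat_lit 4279812) (BT.node (nat_lit 4279301) (BT.node (nat_lit 4278916) (BT.node (nat_lit 4278854) (BT.node (nat_lit 4278726) (BT.node (nat_lit 4278725) (BT.leaf (nat_lit 602892)) (BT.leaf (nat_lit 602892))) (BT.node (nat_lit 4278727) (BT.leaf (nat_lit 602892)) (BT.leaf (nat_lit 602892)))) (BT.node (nat_lit 4278914) (BT.node (nat_lit 4278855) (BT.leaf (nat_lit 655032)) (BT.leaf (nat_lit 655032))) (BT.node (nat_lit 4278915) (BT.leaf (nat_lit 597784)) (BT.leaf (nat_lit 597784))))) (BT.node (nat_lit 4278979) (BT.node (nat_lit 4278919) (BT.node (nat_lit 4278918) (BT.leaf (nat_lit 597784)) (BT.leaf (nat_lit 597784))) (BT.node (nat_lit 4278977) (BT.leaf (nat_lit 597784)) (BT.leaf (nat_lit 712916)))) (BT.node (nat_lit 4279047) (BT.node (nat_lit 4279045) (BT.leaf (nat_lit 712916)) (BT.leaf (nat_lit 621252))) (BT.node (nat_lit 4279109) (BT.leaf (nat_lit 611836)) (BT.leaf (nat_lit 703236)))))) (BT.node (nat_lit 4279560) (BT.node (nat_lit 4279490) (BT.node (nat_lit 4279430) (BT.node (nat_lit 4279429) (BT.leaf (nat_lit 789952)) (BT.leaf (nat_lit 609352))) (BT.node (nat_lit 4279431) (BT.leaf (nat_lit 609352)) (BT.leaf (nat_lit 609352)))) (BT.node (nat_lit 4279492) (BT.node (nat_lit 4279491) (BT.leaf (nat_lit 631188)) (BT.leaf (nat_lit 631188))) (BT.node (nat_lit 4279556) (BT.leaf (nat_lit 631188)) (BT.leaf (nat_lit 693756))))) (BT.node (nat_lit 4279748) (BT.node (nat_lit 4279623) (BT.node (nat_lit 4279622) (BT.leaf (nat_lit 693756)) (BT.leaf (nat_lit 680820))) (BT.node (nat_lit 4279747) (BT.leaf (nat_lit 680820)) (BT.leaf (nat_lit 671492)))) (BT.node (nat_lit 4279809) (BT.node (nat_lit 4279751) (BT.leaf (nat_lit 638504)) (BT.leaf (nat_lit 671492))) (BT.node (nat_lit 4279810) (BT.leaf (nat_lit 687884)) (BT.leaf (nat_lit 687884))))))) (BT.node (nat_lit 4280517) (BT.node (nat_lit 4280198) (BT.node (nat_lit 4279879) (BT.node (nat_lit 4279877) (BT.node (nat_lit 4279816) (BT.leaf (nat_lit 598492)) (BT.leaf (nat_lit 687884))) (BT.node (nat_lit 4279878) (BT.leaf (nat_lit 638508)) (BT.leaf (nat_lit 638508)))) (BT.node (nat_lit 4280007) (BT.node (nat_lit 4280003) (BT.leaf (nat_lit 751396)) (BT.leaf (nat_lit 660756))) (BT.node (nat_lit 4280197) (BT.leaf (nat_lit 660756)) (BT.leaf (nat_lit 614424))))) (BT.node (nat_lit 4280323) (BT.node (nat_lit 4280257) (BT.node (nat_lit 4280199) (BT.leaf (nat_lit 614424)) (BT.leaf (nat_lit 614424))) (BT.node (nat_lit 4280322) (BT.leaf (nat_lit 795388)) (BT.leaf (nat_lit 668548)))) (BT.node (nat_lit 4280326) (BT.node (nat_lit 4280324) (BT.leaf (nat_lit 668548)) (BT.leaf (nat_lit 668548))) (BT.node (nat_lit 4280327) (BT.leaf (nat_lit 614448)) (BT.leaf (nat_lit 614448)))))) (BT.node (nat_lit 4281096) (BT.node (nat_lit 4281090) (BT.node (nat_lit 4280647) (BT.node (nat_lit 4280580) (BT.leaf (nat_lit 683840)) (BT.leaf (nat_lit 597060))) (BT.node (nat_lit 4280902) (BT.leaf (nat_lit 617196)) (BT.leaf (nat_lit 687396)))) (BT.node (nat_lit 4281092) (BT.node (nat_lit 4281091) (BT.leaf (nat_lit 617160)) (BT.leaf (nat_lit 617160))) (BT.node (nat_lit 4281093) (BT.leaf (nat_lit 617160)) (BT.leaf (nat_lit 617160))))) (BT.node (nat_lit 4281282) (BT.node (nat_lit 4281219) (BT.node (nat_lit 4281218) (BT.leaf (nat_lit 617160)) (BT.leaf (nat_lit 702000))) (BT.node (nat_lit 4281281) (BT.leaf (nat_lit 702000)) (BT.leaf (nat_lit 687800)))) (BT.node (nat_lit 4281285) (BT.node (nat_lit 4281284) (BT.leaf (nat_lit 687800)) (BT.leaf (nat_lit 675504))) (BT.node (nat_lit 4281411) (BT.leaf (nat_lit 687800)) (BT.leaf (nat_lit 667344))))))))) (BT.node (nat_lit 4283842) (BT.node (nat_lit 4282760) (BT.node (nat_lit 4282374) (BT.node (nat_lit 4281795) (BT.node (nat_lit 4281669) (BT.node (nat_lit 4281541) (BT.node (nat_lit 4281540) (BT.leaf (nat_lit 667344)) (BT.leaf (nat_lit 706388))) (BT.node (nat_lit 4281605) (BT.leaf (nat_lit 773280)) (BT.leaf (nat_lit 720132)))) (BT.node (nat_lit 4281734) (BT.node (nat_lit 4281733) (BT.leaf (nat_lit 776444)) (BT.leaf (nat_lit 665720))) (BT.node (nat_lit 4281735) (BT.leaf (nat_lit 602908)) (BT.leaf (nat_lit 602908))))) (BT.node (nat_lit 4282180) (BT.node (nat_lit 4281926) (BT.node (nat_lit 4281796) (BT.leaf (nat_lit 602896)) (BT.leaf (nat_lit 602896))) (BT.node (nat_lit 4282053) (BT.leaf (nat_lit 666032)) (BT.leaf (nat_lit 615404)))) (BT.node (nat_lit 4282370) (BT.node (nat_lit 4282181) (BT.leaf (nat_lit 615372)) (BT.leaf (nat_lit 615372))) (BT.node (nat_lit 4282373) (BT.leaf (nat_lit 700972)) (BT.leaf (nat_lit 700972)))))) (BT.node (nat_lit 4282565) (BT.node (nat_lit 4282438) (BT.node (nat_lit 4282435) (BT.node (nat_lit 4282434) (BT.leaf (nat_lit 723464)) (BT.leaf (nat_lit 615376))) (BT.node (nat_lit 4282436) (BT.leaf (nat_lit 615376)) (BT.leaf (nat_lit 615376)))) (BT.node (nat_lit 4282440) (BT.node (nat_lit 4282439) (BT.leaf (nat_lit 615376)) (BT.leaf (nat_lit 615376))) (BT.node (nat_lit 4282564) (BT.leaf (nat_lit 615376)) (BT.leaf (nat_lit 618280))))) (BT.node (nat_lit 4282693) (BT.node (nat_lit 4282629) (BT.node (nat_lit 4282628) (BT.leaf (nat_lit 618280)) (BT.leaf (nat_lit 704432))) (BT.node (nat_lit 4282692) (BT.leaf (nat_lit 662260)) (BT.leaf (nat_lit 667008)))) (BT.node (nat_lit 4282755) (BT.node (nat_lit 4282754) (BT.leaf (nat_lit 667008)) (BT.leaf (nat_lit 616900))) (BT.node (nat_lit 4282757) (BT.leaf (nat_lit 616900)) (BT.leaf (nat_lit 616900))))))) (BT.node (nat_lit 4283076) (BT.node (nat_lit 4282946) (BT.node (nat_lit 4282882) (BT.node (nat_lit 4282823) (BT.node (nat_lit 4282822) (BT.leaf (nat_lit 616900)) (BT.leaf (nat_lit 609724))) (BT.node (nat_lit 4282824) (BT.leaf (nat_lit 609724)) (BT.leaf (nat_lit 609724)))) (BT.node (nat_lit 4282886) (BT.node (nat_lit 4282885) (BT.leaf (nat_lit 696904)) (BT.leaf (nat_lit 696904))) (BT.node (nat_lit 4282887) (BT.leaf (nat_lit 696904)) (BT.leaf (nat_lit 696904))))) (BT.node (nat_lit 4282952) (BT.node (nat_lit 4282950) (BT.node (nat_lit 4282949) (BT.leaf (nat_lit 622632)) (BT.leaf (nat_lit 622632))) (BT.node (nat_lit 4282951) (BT.leaf (nat_lit 622632)) (BT.leaf (nat_lit 622632)))) (BT.node (nat_lit 4283074) (BT.node (nat_lit 4283014) (BT.leaf (nat_lit 622632)) (BT.leaf (nat_lit 664916))) (BT.node (nat_lit 4283075) (BT.leaf (nat_lit 609400)) (BT.leaf (nat_lit 609400)))))) (BT.node (nat_lit 4283460) (BT.node (nat_lit 4283394) (BT.node (nat_lit 4283204) (BT.node (nat_lit 4283202) (BT.leaf (nat_lit 610824)) (BT.leaf (nat_lit 758172))) (BT.node (nat_lit 4283205) (BT.leaf (nat_lit 652320)) (BT.leaf (nat_lit 652320)))) (BT.node (nat_lit 4283398) (BT.node (nat_lit 4283395) (BT.leaf (nat_lit 613800)) (BT.leaf (nat_lit 613800))) (BT.node (nat_lit 4283399) (BT.leaf (nat_lit 613800)) (BT.leaf (nat_lit 613800))))) (BT.node (nat_lit 4283719) (BT.node (nat_lit 4283585) (BT.node (nat_lit 4283524) (BT.leaf (nat_lit 689060)) (BT.leaf (nat_lit 609560))) (BT.node (nat_lit 4283589) (BT.leaf (nat_lit 653952)) (BT.leaf (nat_lit 653952)))) (BT.node (nat_lit 4283783) (BT.node (nat_lit 4283782) (BT.leaf (nat_lit 705536)) (BT.leaf (nat_lit 681552))) (BT.node (nat_lit 4283841) (BT.leaf (nat_lit 681552)) (BT.leaf (nat_lit 624212)))))))) (BT.node (nat_lit 4284804) (BT.node (nat_lit 4284168) (BT.node (nat_lit 4284033) (BT.node (nat_lit 4283911) (BT.node (nat_lit 4283848) (BT.node (nat_lit 4283844) (BT.leaf (nat_lit 600124)) (BT.leaf (nat_lit 600124))) (BT.node (nat_lit 4283910) (BT.leaf (nat_lit 624212)) (BT.leaf (nat_lit 610784)))) (BT.node (nat_lit 4283970) (BT.node (nat_lit 4283969) (BT.leaf (nat_lit 610784)) (BT.leaf (nat_lit 628104))) (BT.node (nat_lit 4283972) (BT.leaf (nat_lit 628104)) (BT.leaf (nat_lit 628104))))) (BT.node (nat_lit 4284039) (BT.node (nat_lit 4284035) (BT.node (nat_lit 4284034) (BT.leaf (nat_lit 708500)) (BT.leaf (nat_lit 617844))) (BT.node (nat_lit 4284038) (BT.leaf (nat_lit 708500)) (BT.leaf (nat_lit 672880)))) (BT.node (nat_lit 4284165) (BT.node (nat_lit 4284101) (BT.leaf (nat_lit 672880)) (BT.leaf (nat_lit 763732))) (BT.node (nat_lit 4284167) (BT.leaf (nat_lit 666016)) (BT.leaf (nat_lit 666016)))))) (BT.node (nat_lit 4284419) (BT.node (nat_lit 4284357) (BT.node (nat_lit 4284228) (BT.node (nat_lit 4284225) (BT.leaf (nat_lit 653968)) (BT.leaf (nat_lit 710788))) (BT.node (nat_lit 4284229) (BT.leaf (nat_lit 710788)) (BT.leaf (nat_lit 710788)))) (BT.node (nat_lit 4284359) (BT.node (nat_lit 4284358) (BT.leaf (nat_lit 614980)) (BT.leaf (nat_lit 631036))) (BT.node (nat_lit 4284418) (BT.leaf (nat_lit 631036)) (BT.leaf (nat_lit 711904))))) (BT.node (nat_lit 4284615) (BT.node (nat_lit 4284613) (BT.node (nat_lit 4284420) (BT.leaf (nat_lit 711904)) (BT.leaf (nat_lit 711904))) (BT.node (nat_lit 4284614) (BT.leaf (nat_lit 675516)) (BT.leaf (nat_lit 675516)))) (BT.node (nat_lit 4284802) (BT.node (nat_lit 4284676) (BT.leaf (nat_lit 675516)) (BT.leaf (nat_lit 675520))) (BT.node (nat_lit 4284803) (BT.leaf (nat_lit 742052)) (BT.leaf (nat_lit 742052))))))) (BT.node (nat_lit 4285187) (BT.node (nat_lit 4285063) (BT.node (nat_lit 4284995) (BT.node (nat_lit 4284934) (BT.node (nat_lit 4284807) (BT.leaf (nat_lit 742052)) (BT.leaf (nat_lit 742052))) (BT.node (nat_lit 4284935) (BT.leaf (nat_lit 649660)) (BT.leaf (nat_lit 649660)))) (BT.node (nat_lit 4285060) (BT.node (nat_lit 4284999) (BT.leaf (nat_lit 695016)) (BT.leaf (nat_lit 741868))) (BT.node (nat_lit 4285061) (BT.leaf (nat_lit 675388)) (BT.leaf (nat_lit 675388))))) (BT.node (nat_lit 4285125) (BT.node (nat_lit 4285122) (BT.node (nat_lit 4285064) (BT.leaf (nat_lit 675388)) (BT.leaf (nat_lit 675388))) (BT.node (nat_lit 4285124) (BT.leaf (nat_lit 715520)) (BT.leaf (nat_lit 715520)))) (BT.node (nat_lit 4285185) (BT.node (nat_lit 4285128) (BT.leaf (nat_lit 715520)) (BT.leaf (nat_lit 715520))) (BT.node (nat_lit 4285186) (BT.leaf (nat_lit 715568)) (BT.leaf (nat_lit 715568)))))) (BT.node (nat_lit 4285320) (BT.node (nat_lit 4285254) (BT.node (nat_lit 4285189) (BT.node (nat_lit 4285188) (BT.leaf (nat_lit 715568)) (BT.leaf (nat_lit 715568))) (BT.node (nat_lit 4285192) (BT.leaf (nat_lit 715568)) (BT.leaf (nat_lit 715568)))) (BT.node (nat_lit 4285316) (BT.node (nat_lit 4285255) (BT.leaf (nat_lit 643640)) (BT.leaf (nat_lit 643640))) (BT.node (nat_lit 4285317) (BT.leaf (nat_lit 631268)) (BT.leaf (nat_lit 631268))))) (BT.node (nat_lit 4285699) (BT.node (nat_lit 4285573) (BT.node (nat_lit 4285381) (BT.leaf (nat_lit 631268)) (BT.leaf (nat_lit 690784))) (BT.node (nat_lit 4285698) (BT.leaf (nat_lit 623344)) (BT.leaf (nat_lit 714532)))) (BT.node (nat_lit 4285702) (BT.node (nat_lit 4285700) (BT.leaf (nat_lit 714532)) (BT.leaf (nat_lit 714532))) (BT.node (nat_lit 4285703) (BT.leaf (nat_lit 647360)) (BT.leaf (nat_lit 647360))))))))))) (BT.node (nat_lit 4294919) (BT.node (nat_lit 4289478) (BT.node (nat_lit 4287944) (BT.node (nat_lit 4286915) (BT.node (nat_lit 4286146) (BT.node (nat_lit 4285891) (BT.node (nat_lit 4285829) (BT.node (nat_lit 4285767) (BT.node (nat_lit 4285766) (BT.leaf (nat_lit 714368)) (BT.leaf (nat_lit 714368))) (BT.node (nat_lit 4285826) (BT.leaf (nat_lit 714368)) (BT.leaf (nat_lit 607600)))) (BT.node (nat_lit 4285831) (BT.node (nat_lit 4285830) (BT.leaf (nat_lit 596100)) (BT.leaf (nat_lit 607600))) (BT.node (nat_lit 4285890) (BT.leaf (nat_lit 607600)) (BT.leaf (nat_lit 692180))))) (BT.node (nat_lit 4286021) (BT.node (nat_lit 4285894) (BT.node (nat_lit 4285892) (BT.leaf (nat_lit 692180)) (BT.leaf (nat_lit 692180))) (BT.node (nat_lit 4285896) (BT.leaf (nat_lit 692180)) (BT.leaf (nat_lit 692180)))) (BT.node (nat_lit 4286086) (BT.node (nat_lit 4286081) (BT.leaf (nat_lit 677820)) (BT.leaf (nat_lit 727452))) (BT.node (nat_lit 4286145) (BT.leaf (nat_lit 727452)) (BT.leaf (nat_lit 700440)))))) (BT.node (nat_lit 4286466) (BT.node (nat_lit 4286274) (BT.node (nat_lit 4286152) (BT.node (nat_lit 4286150) (BT.leaf (nat_lit 629704)) (BT.leaf (nat_lit 700440))) (BT.node (nat_lit 4286273) (BT.leaf (nat_lit 700440)) (BT.leaf (nat_lit 759136)))) (BT.node (nat_lit 4286339) (BT.node (nat_lit 4286275) (BT.leaf (nat_lit 759136)) (BT.leaf (nat_lit 759136))) (BT.node (nat_lit 4286340) (BT.leaf (nat_lit 686336)) (BT.leaf (nat_lit 680332))))) (BT.node (nat_lit 4286599) (BT.node (nat_lit 4286536) (BT.node (nat_lit 4286468) (BT.leaf (nat_lit 734428)) (BT.leaf (nat_lit 635956))) (BT.node (nat_lit 4286598) (BT.leaf (nat_lit 676040)) (BT.leaf (nat_lit 622720)))) (BT.node (nat_lit 4286727) (BT.node (nat_lit 4286726) (BT.leaf (nat_lit 622720)) (BT.leaf (nat_lit 707464))) (BT.node (nat_lit 4286914) (BT.leaf (nat_lit 707464)) (BT.leaf (nat_lit 671384))))))) (BT.node (nat_lit 4287496) (BT.node (nat_lit 4287109) (BT.node (nat_lit 4287042) (BT.node (nat_lit 4286982) (BT.node (nat_lit 4286918) (BT.leaf (nat_lit 671384)) (BT.leaf (nat_lit 671384))) (BT.node (nat_lit 4287041) (BT.leaf (nat_lit 605148)) (BT.leaf (nat_lit 688208)))) (BT.node (nat_lit 4287048) (BT.node (nat_lit 4287043) (BT.leaf (nat_lit 785812)) (BT.leaf (nat_lit 785812))) (BT.node (nat_lit 4287105) (BT.leaf (nat_lit 688208)) (BT.leaf (nat_lit 601840))))) (BT.node (nat_lit 4287300) (BT.node (nat_lit 4287111) (BT.node (nat_lit 4287110) (BT.leaf (nat_lit 601840)) (BT.leaf (nat_lit 601840))) (BT.node (nat_lit 4287172) (BT.leaf (nat_lit 601840)) (BT.leaf (nat_lit 715460)))) (BT.node (nat_lit 4287429) (BT.node (nat_lit 4287301) (BT.leaf (nat_lit 628372)) (BT.leaf (nat_lit 628372))) (BT.node (nat_lit 4287492) (BT.leaf (nat_lit 663632)) (BT.leaf (nat_lit 598764)))))) (BT.node (nat_lit 4287813) (BT.node (nat_lit 4287560) (BT.node (nat_lit 4287557) (BT.node (nat_lit 4287556) (BT.leaf (nat_lit 598764)) (BT.leaf (nat_lit 627324))) (BT.node (nat_lit 4287559) (BT.leaf (nat_lit 627324)) (BT.leaf (nat_lit 627324)))) (BT.node (nat_lit 4287752) (BT.node (nat_lit 4287745) (BT.leaf (nat_lit 627324)) (BT.leaf (nat_lit 743220))) (BT.node (nat_lit 4287811) (BT.leaf (nat_lit 743220)) (BT.leaf (nat_lit 597984))))) (BT.node (nat_lit 4287880) (BT.node (nat_lit 4287815) (BT.node (nat_lit 4287814) (BT.leaf (nat_lit 597984)) (BT.leaf (nat_lit 597984))) (BT.node (nat_lit 4287876) (BT.leaf (nat_lit 597984)) (BT.leaf (nat_lit 657300)))) (BT.node (nat_lit 4287942) (BT.node (nat_lit 4287940) (BT.leaf (nat_lit 657300)) (BT.leaf (nat_lit 705624))) (BT.node (nat_lit 4287943) (BT.leaf (nat_lit 705624)) (BT.leaf (nat_lit 705624)))))))) (BT.node (nat_lit 4288580) (BT.node (nat_lit 4288325) (BT.node (nat_lit 4288132) (BT.node (nat_lit 4288068) (BT.node (nat_lit 4288066) (BT.node (nat_lit 4288002) (BT.leaf (nat_lit 705624)) (BT.leaf (nat_lit 721556))) (BT.node (nat_lit 4288067) (BT.leaf (nat_lit 715332)) (BT.leaf (nat_lit 715332)))) (BT.node (nat_lit 4288130) (BT.node (nat_lit 4288071) (BT.leaf (nat_lit 715332)) (BT.leaf (nat_lit 715332))) (BT.node (nat_lit 4288131) (BT.leaf (nat_lit 625036)) (BT.leaf (nat_lit 625036))))) (BT.node (nat_lit 4288197) (BT.node (nat_lit 4288135) (BT.node (nat_lit 4288134) (BT.leaf (nat_lit 628412)) (BT.leaf (nat_lit 625036))) (BT.node (nat_lit 4288136) (BT.leaf (nat_lit 625036)) (BT.leaf (nat_lit 628412)))) (BT.node (nat_lit 4288199) (BT.node (nat_lit 4288198) (BT.leaf (nat_lit 639240)) (BT.leaf (nat_lit 639240))) (BT.node (nat_lit 4288322) (BT.leaf (nat_lit 639240)) (BT.leaf (nat_lit 715336)))))) (BT.node (nat_lit 4288452) (BT.node (nat_lit 4288387) (BT.node (nat_lit 4288327) (BT.node (nat_lit 4288326) (BT.leaf (nat_lit 715336)) (BT.leaf (nat_lit 715336))) (BT.node (nat_lit 4288386) (BT.leaf (nat_lit 715336)) (BT.leaf (nat_lit 705672)))) (BT.node (nat_lit 4288450) (BT.node (nat_lit 4288389) (BT.leaf (nat_lit 705672)) (BT.leaf (nat_lit 705672))) (BT.node (nat_lit 4288451) (BT.leaf (nat_lit 601832)) (BT.leaf (nat_lit 601832))))) (BT.node (nat_lit 4288518) (BT.node (nat_lit 4288516) (BT.node (nat_lit 4288453) (BT.leaf (nat_lit 601832)) (BT.leaf (nat_lit 601832))) (BT.node (nat_lit 4288517) (BT.leaf (nat_lit 601904)) (BT.leaf (nat_lit 601904)))) (BT.node (nat_lit 4288578) (BT.node (nat_lit 4288520) (BT.leaf (nat_lit 601904)) (BT.leaf (nat_lit 601904))) (BT.node (nat_lit 4288579) (BT.leaf (nat_lit 632568)) (BT.leaf (nat_lit 632568))))))) (BT.node (nat_lit 4289158) (BT.node (nat_lit 4288836) (BT.node (nat_lit 4288645) (BT.node (nat_lit 4288583) (BT.node (nat_lit 4288582) (BT.leaf (nat_lit 684044)) (BT.leaf (nat_lit 632568))) (BT.node (nat_lit 4288584) (BT.leaf (nat_lit 632568)) (BT.leaf (nat_lit 632568)))) (BT.node (nat_lit 4288769) (BT.node (nat_lit 4288709) (BT.leaf (nat_lit 647780)) (BT.leaf (nat_lit 743196))) (BT.node (nat_lit 4288773) (BT.leaf (nat_lit 742660)) (BT.leaf (nat_lit 745072))))) (BT.node (nat_lit 4289030) (BT.node (nat_lit 4288964) (BT.node (nat_lit 4288837) (BT.leaf (nat_lit 754372)) (BT.leaf (nat_lit 599196))) (BT.node (nat_lit 4289029) (BT.leaf (nat_lit 626112)) (BT.leaf (nat_lit 694944)))) (BT.node (nat_lit 4289155) (BT.node (nat_lit 4289154) (BT.leaf (nat_lit 671104)) (BT.leaf (nat_lit 666720))) (BT.node (nat_lit 4289156) (BT.leaf (nat_lit 666720)) (BT.leaf (nat_lit 666724)))))) (BT.node (nat_lit 4289350) (BT.node (nat_lit 4289285) (BT.node (nat_lit 4289160) (BT.node (nat_lit 4289159) (BT.leaf (nat_lit 666720)) (BT.leaf (nat_lit 666720))) (BT.node (nat_lit 4289221) (BT.leaf (nat_lit 607048)) (BT.leaf (nat_lit 660252)))) (BT.node (nat_lit 4289287) (BT.node (nat_lit 4289286) (BT.leaf (nat_lit 659604)) (BT.leaf (nat_lit 617896))) (BT.node (nat_lit 4289347) (BT.leaf (nat_lit 659604)) (BT.leaf (nat_lit 629304))))) (BT.node (nat_lit 4289415) (BT.node (nat_lit 4289413) (BT.node (nat_lit 4289351) (BT.leaf (nat_lit 658240)) (BT.leaf (nat_lit 658240))) (BT.node (nat_lit 4289414) (BT.leaf (nat_lit 617252)) (BT.leaf (nat_lit 611708)))) (BT.node (nat_lit 4289475) (BT.node (nat_lit 4289474) (BT.leaf (nat_lit 611708)) (BT.leaf (nat_lit 599512))) (BT.node (nat_lit 4289476) (BT.leaf (nat_lit 599512)) (BT.leaf (nat_lit 715936))))))))) (BT.node (nat_lit 4292675) (BT.node (nat_lit 4291778) (BT.node (nat_lit 4290372) (BT.node (nat_lit 4289862) (BT.node (nat_lit 4289603) (BT.node (nat_lit 4289480) (BT.node (nat_lit 4289479) (BT.leaf (nat_lit 599512)) (BT.leaf (nat_lit 599512))) (BT.node (nat_lit 4289540) (BT.leaf (nat_lit 599512)) (BT.leaf (nat_lit 646268)))) (BT.node (nat_lit 4289607) (BT.node (nat_lit 4289605) (BT.leaf (nat_lit 647512)) (BT.leaf (nat_lit 647512))) (BT.node (nat_lit 4289857) (BT.leaf (nat_lit 647512)) (BT.leaf (nat_lit 685016))))) (BT.node (nat_lit 4290055) (BT.node (nat_lit 4289988) (BT.node (nat_lit 4289863) (BT.leaf (nat_lit 746164)) (BT.leaf (nat_lit 685016))) (BT.node (nat_lit 4290054) (BT.leaf (nat_lit 671724)) (BT.leaf (nat_lit 596748)))) (BT.node (nat_lit 4290310) (BT.node (nat_lit 4290305) (BT.leaf (nat_lit 596748)) (BT.leaf (nat_lit 664348))) (BT.node (nat_lit 4290311) (BT.leaf (nat_lit 664348)) (BT.leaf (nat_lit 664348)))))) (BT.node (nat_lit 4291076) (BT.node (nat_lit 4290567) (BT.node (nat_lit 4290439) (BT.node (nat_lit 4290438) (BT.leaf (nat_lit 693944)) (BT.leaf (nat_lit 672904))) (BT.node (nat_lit 4290566) (BT.leaf (nat_lit 672904)) (BT.leaf (nat_lit 681532)))) (BT.node (nat_lit 4290884) (BT.node (nat_lit 4290881) (BT.leaf (nat_lit 681532)) (BT.leaf (nat_lit 745724))) (BT.node (nat_lit 4291073) (BT.leaf (nat_lit 656632)) (BT.leaf (nat_lit 704300))))) (BT.node (nat_lit 4291588) (BT.node (nat_lit 4291204) (BT.node (nat_lit 4291080) (BT.leaf (nat_lit 704300)) (BT.leaf (nat_lit 704300))) (BT.node (nat_lit 4291208) (BT.leaf (nat_lit 639144)) (BT.leaf (nat_lit 639144)))) (BT.node (nat_lit 4291717) (BT.node (nat_lit 4291716) (BT.leaf (nat_lit 706336)) (BT.leaf (nat_lit 723280))) (BT.node (nat_lit 4291777) (BT.leaf (nat_lit 777384)) (BT.leaf (nat_lit 697864))))))) (BT.node (nat_lit 4292293) (BT.node (nat_lit 4291973) (BT.node (nat_lit 4291907) (BT.node (nat_lit 4291848) (BT.node (nat_lit 4291779) (BT.leaf (nat_lit 697864)) (BT.leaf (nat_lit 697864))) (BT.node (nat_lit 4291906) (BT.leaf (nat_lit 654920)) (BT.leaf (nat_lit 604124)))) (BT.node (nat_lit 4291910) (BT.node (nat_lit 4291908) (BT.leaf (nat_lit 604124)) (BT.leaf (nat_lit 655676))) (BT.node (nat_lit 4291911) (BT.leaf (nat_lit 604124)) (BT.leaf (nat_lit 604124))))) (BT.node (nat_lit 4292164) (BT.node (nat_lit 4292038) (BT.node (nat_lit 4291976) (BT.leaf (nat_lit 655680)) (BT.leaf (nat_lit 712972))) (BT.node (nat_lit 4292039) (BT.leaf (nat_lit 696480)) (BT.leaf (nat_lit 696480)))) (BT.node (nat_lit 4292228) (BT.node (nat_lit 4292165) (BT.leaf (nat_lit 671872)) (BT.leaf (nat_lit 625004))) (BT.node (nat_lit 4292229) (BT.leaf (nat_lit 695520)) (BT.leaf (nat_lit 695520)))))) (BT.node (nat_lit 4292548) (BT.node (nat_lit 4292423) (BT.node (nat_lit 4292356) (BT.node (nat_lit 4292294) (BT.leaf (nat_lit 643460)) (BT.leaf (nat_lit 710880))) (BT.node (nat_lit 4292422) (BT.leaf (nat_lit 643464)) (BT.leaf (nat_lit 604008)))) (BT.node (nat_lit 4292546) (BT.node (nat_lit 4292485) (BT.leaf (nat_lit 604008)) (BT.leaf (nat_lit 622360))) (BT.node (nat_lit 4292547) (BT.leaf (nat_lit 719204)) (BT.leaf (nat_lit 719204))))) (BT.node (nat_lit 4292613) (BT.node (nat_lit 4292551) (BT.node (nat_lit 4292550) (BT.leaf (nat_lit 651440)) (BT.leaf (nat_lit 719204))) (BT.node (nat_lit 4292552) (BT.leaf (nat_lit 719204)) (BT.leaf (nat_lit 719204)))) (BT.node (nat_lit 4292615) (BT.node (nat_lit 4292614) (BT.leaf (nat_lit 610652)) (BT.leaf (nat_lit 800276))) (BT.node (nat_lit 4292674) (BT.leaf (nat_lit 610652)) (BT.leaf (nat_lit 712120)))))))) (BT.node (nat_lit 4293576) (BT.node (nat_lit 4293060) (BT.node (nat_lit 4292871) (BT.node (nat_lit 4292740) (BT.node (nat_lit 4292679) (BT.node (nat_lit 4292678) (BT.leaf (nat_lit 712120)) (BT.leaf (nat_lit 712120))) (BT.node (nat_lit 4292680) (BT.leaf (nat_lit 712120)) (BT.leaf (nat_lit 704784)))) (BT.node (nat_lit 4292804) (BT.node (nat_lit 4292801) (BT.leaf (nat_lit 623432)) (BT.leaf (nat_lit 719200))) (BT.node (nat_lit 4292808) (BT.leaf (nat_lit 610508)) (BT.leaf (nat_lit 610508))))) (BT.node (nat_lit 4292995) (BT.node (nat_lit 4292935) (BT.node (nat_lit 4292934) (BT.leaf (nat_lit 713808)) (BT.leaf (nat_lit 608008))) (BT.node (nat_lit 4292994) (BT.leaf (nat_lit 608008)) (BT.leaf (nat_lit 634700)))) (BT.node (nat_lit 4292999) (BT.node (nat_lit 4292998) (BT.leaf (nat_lit 634700)) (BT.leaf (nat_lit 634700))) (BT.node (nat_lit 4293000) (BT.leaf (nat_lit 634700)) (BT.leaf (nat_lit 634700)))))) (BT.node (nat_lit 4293252) (BT.node (nat_lit 4293127) (BT.node (nat_lit 4293064) (BT.node (nat_lit 4293061) (BT.leaf (nat_lit 692828)) (BT.leaf (nat_lit 637120))) (BT.node (nat_lit 4293126) (BT.leaf (nat_lit 692828)) (BT.leaf (nat_lit 687280)))) (BT.node (nat_lit 4293188) (BT.node (nat_lit 4293185) (BT.leaf (nat_lit 687280)) (BT.leaf (nat_lit 687324))) (BT.node (nat_lit 4293192) (BT.leaf (nat_lit 668208)) (BT.leaf (nat_lit 687324))))) (BT.node (nat_lit 4293441) (BT.node (nat_lit 4293316) (BT.node (nat_lit 4293253) (BT.leaf (nat_lit 609844)) (BT.leaf (nat_lit 772996))) (BT.node (nat_lit 4293317) (BT.leaf (nat_lit 712532)) (BT.leaf (nat_lit 773000)))) (BT.node (nat_lit 4293571) (BT.node (nat_lit 4293448) (BT.leaf (nat_lit 775160)) (BT.leaf (nat_lit 654692))) (BT.node (nat_lit 4293572) (BT.leaf (nat_lit 639512)) (BT.leaf (nat_lit 639512))))))) (BT.node (nat_lit 4294338) (BT.node (nat_lit 4294082) (BT.node (nat_lit 4293958) (BT.node (nat_lit 4293701) (BT.node (nat_lit 4293637) (BT.leaf (nat_lit 639512)) (BT.leaf (nat_lit 607260))) (BT.node (nat_lit 4293957) (BT.leaf (nat_lit 687520)) (BT.leaf (nat_lit 719272)))) (BT.node (nat_lit 4294019) (BT.node (nat_lit 4293959) (BT.leaf (nat_lit 697764)) (BT.leaf (nat_lit 697764))) (BT.node (nat_lit 4294023) (BT.leaf (nat_lit 773260)) (BT.leaf (nat_lit 650272))))) (BT.node (nat_lit 4294148) (BT.node (nat_lit 4294087) (BT.node (nat_lit 4294086) (BT.leaf (nat_lit 632964)) (BT.leaf (nat_lit 632964))) (BT.node (nat_lit 4294147) (BT.leaf (nat_lit 632964)) (BT.leaf (nat_lit 632984)))) (BT.node (nat_lit 4294215) (BT.node (nat_lit 4294211) (BT.leaf (nat_lit 705384)) (BT.leaf (nat_lit 680760))) (BT.node (nat_lit 4294337) (BT.leaf (nat_lit 680760)) (BT.leaf (nat_lit 606688)))))) (BT.node (nat_lit 4294598) (BT.node (nat_lit 4294532) (BT.node (nat_lit 4294341) (BT.node (nat_lit 4294340) (BT.leaf (nat_lit 606688)) (BT.leaf (nat_lit 606688))) (BT.node (nat_lit 4294468) (BT.leaf (nat_lit 606688)) (BT.leaf (nat_lit 666836)))) (BT.node (nat_lit 4294594) (BT.node (nat_lit 4294593) (BT.leaf (nat_lit 707988)) (BT.leaf (nat_lit 707984))) (BT.node (nat_lit 4294595) (BT.leaf (nat_lit 707984)) (BT.leaf (nat_lit 707984))))) (BT.node (nat_lit 4294788) (BT.node (nat_lit 4294659) (BT.node (nat_lit 4294599) (BT.leaf (nat_lit 707984)) (BT.leaf (nat_lit 707984))) (BT.node (nat_lit 4294660) (BT.leaf (nat_lit 614800)) (BT.leaf (nat_lit 614800)))) (BT.node (nat_lit 4294856) (BT.node (nat_lit 4294852) (BT.leaf (nat_lit 718056)) (BT.leaf (nat_lit 678848))) (BT.node (nat_lit 4294917) (BT.leaf (nat_lit 678848)) (BT.leaf (nat_lit 647104)))))))))) (BT.node (nat_lit 4299590) (BT.node (nat_lit 4297735) (BT.node (nat_lit 4295942) (BT.node (nat_lit 4295300) (BT.node (nat_lit 4295109) (BT.node (nat_lit 4295046) (BT.node (nat_lit 4294980) (BT.node (nat_lit 4294979) (BT.leaf (nat_lit 647104)) (BT.leaf (nat_lit 696556))) (BT.node (nat_lit 4295045) (BT.leaf (nat_lit 696556)) (BT.leaf (nat_lit 722112)))) (BT.node (nat_lit 4295106) (BT.node (nat_lit 4295047) (BT.leaf (nat_lit 661804)) (BT.leaf (nat_lit 661804))) (BT.node (nat_lit 4295107) (BT.leaf (nat_lit 697536)) (BT.leaf (nat_lit 697536))))) (BT.node (nat_lit 4295235) (BT.node (nat_lit 4295172) (BT.node (nat_lit 4295171) (BT.leaf (nat_lit 697536)) (BT.leaf (nat_lit 750196))) (BT.node (nat_lit 4295234) (BT.leaf (nat_lit 632520)) (BT.leaf (nat_lit 650240)))) (BT.node (nat_lit 4295238) (BT.node (nat_lit 4295236) (BT.leaf (nat_lit 650240)) (BT.leaf (nat_lit 608976))) (BT.node (nat_lit 4295239) (BT.leaf (nat_lit 621352)) (BT.leaf (nat_lit 621352)))))) (BT.node (nat_lit 4295494) (BT.node (nat_lit 4295366) (BT.node (nat_lit 4295362) (BT.node (nat_lit 4295301) (BT.leaf (nat_lit 611236)) (BT.leaf (nat_lit 611236))) (BT.node (nat_lit 4295363) (BT.leaf (nat_lit 709712)) (BT.leaf (nat_lit 709712)))) (BT.node (nat_lit 4295429) (BT.node (nat_lit 4295367) (BT.leaf (nat_lit 709712)) (BT.leaf (nat_lit 709712))) (BT.node (nat_lit 4295432) (BT.leaf (nat_lit 796916)) (BT.leaf (nat_lit 597612))))) (BT.node (nat_lit 4295685) (BT.node (nat_lit 4295557) (BT.node (nat_lit 4295556) (BT.leaf (nat_lit 597616)) (BT.leaf (nat_lit 693276))) (BT.node (nat_lit 4295684) (BT.leaf (nat_lit 693276)) (BT.leaf (nat_lit 605324)))) (BT.node (nat_lit 4295812) (BT.node (nat_lit 4295749) (BT.leaf (nat_lit 605324)) (BT.leaf (nat_lit 638836))) (BT.node (nat_lit 4295876) (BT.leaf (nat_lit 704488)) (BT.leaf (nat_lit 786788))))))) (BT.node (nat_lit 4296770) (BT.node (nat_lit 4296324) (BT.node (nat_lit 4296008) (BT.node (nat_lit 4296004) (BT.node (nat_lit 4296003) (BT.leaf (nat_lit 701960)) (BT.leaf (nat_lit 620236))) (BT.node (nat_lit 4296005) (BT.leaf (nat_lit 620236)) (BT.leaf (nat_lit 620236)))) (BT.node (nat_lit 4296260) (BT.node (nat_lit 4296068) (BT.leaf (nat_lit 620236)) (BT.leaf (nat_lit 698936))) (BT.node (nat_lit 4296261) (BT.leaf (nat_lit 678420)) (BT.leaf (nat_lit 678420))))) (BT.node (nat_lit 4296518) (BT.node (nat_lit 4296388) (BT.node (nat_lit 4296387) (BT.leaf (nat_lit 695932)) (BT.leaf (nat_lit 654876))) (BT.node (nat_lit 4296514) (BT.leaf (nat_lit 688076)) (BT.leaf (nat_lit 715580)))) (BT.node (nat_lit 4296580) (BT.node (nat_lit 4296519) (BT.leaf (nat_lit 715580)) (BT.leaf (nat_lit 715580))) (BT.node (nat_lit 4296643) (BT.leaf (nat_lit 654796)) (BT.leaf (nat_lit 597604)))))) (BT.node (nat_lit 4297156) (BT.node (nat_lit 4296776) (BT.node (nat_lit 4296774) (BT.node (nat_lit 4296771) (BT.leaf (nat_lit 709720)) (BT.leaf (nat_lit 709720))) (BT.node (nat_lit 4296775) (BT.leaf (nat_lit 709720)) (BT.leaf (nat_lit 709720)))) (BT.node (nat_lit 4296900) (BT.node (nat_lit 4296837) (BT.leaf (nat_lit 648240)) (BT.leaf (nat_lit 768368))) (BT.node (nat_lit 4296901) (BT.leaf (nat_lit 656096)) (BT.leaf (nat_lit 656096))))) (BT.node (nat_lit 4297348) (BT.node (nat_lit 4297219) (BT.node (nat_lit 4297218) (BT.leaf (nat_lit 698628)) (BT.leaf (nat_lit 663148))) (BT.node (nat_lit 4297220) (BT.leaf (nat_lit 663148)) (BT.leaf (nat_lit 663148)))) (BT.node (nat_lit 4297540) (BT.node (nat_lit 4297476) (BT.leaf (nat_lit 636236)) (BT.leaf (nat_lit 613704))) (BT.node (nat_lit 4297604) (BT.leaf (nat_lit 610480)) (BT.leaf (nat_lit 674648)))))))) (BT.node (nat_lit 4298753) (BT.node (nat_lit 4298308) (BT.node (nat_lit 4298120) (BT.node (nat_lit 4297990) (BT.node (nat_lit 4297863) (BT.node (nat_lit 4297862) (BT.leaf (nat_lit 687096)) (BT.leaf (nat_lit 651760))) (BT.node (nat_lit 4297989) (BT.leaf (nat_lit 651760)) (BT.leaf (nat_lit 686516)))) (BT.node (nat_lit 4297992) (BT.node (nat_lit 4297991) (BT.leaf (nat_lit 686516)) (BT.leaf (nat_lit 686516))) (BT.node (nat_lit 4298113) (BT.leaf (nat_lit 686516)) (BT.leaf (nat_lit 603600))))) (BT.node (nat_lit 4298246) (BT.node (nat_lit 4298242) (BT.node (nat_lit 4298180) (BT.leaf (nat_lit 603600)) (BT.leaf (nat_lit 697576))) (BT.node (nat_lit 4298243) (BT.leaf (nat_lit 643600)) (BT.leaf (nat_lit 643600)))) (BT.node (nat_lit 4298248) (BT.node (nat_lit 4298247) (BT.leaf (nat_lit 643600)) (BT.leaf (nat_lit 643600))) (BT.node (nat_lit 4298305) (BT.leaf (nat_lit 643600)) (BT.leaf (nat_lit 697752)))))) (BT.node (nat_lit 4298564) (BT.node (nat_lit 4298372) (BT.node (nat_lit 4298312) (BT.node (nat_lit 4298309) (BT.leaf (nat_lit 697752)) (BT.leaf (nat_lit 656644))) (BT.node (nat_lit 4298369) (BT.leaf (nat_lit 697752)) (BT.leaf (nat_lit 645384)))) (BT.node (nat_lit 4298500) (BT.node (nat_lit 4298376) (BT.leaf (nat_lit 645384)) (BT.leaf (nat_lit 645384))) (BT.node (nat_lit 4298563) (BT.leaf (nat_lit 650220)) (BT.leaf (nat_lit 651756))))) (BT.node (nat_lit 4298632) (BT.node (nat_lit 4298627) (BT.node (nat_lit 4298565) (BT.leaf (nat_lit 680020)) (BT.leaf (nat_lit 651756))) (BT.node (nat_lit 4298628) (BT.leaf (nat_lit 659804)) (BT.leaf (nat_lit 659804)))) (BT.node (nat_lit 4298692) (BT.node (nat_lit 4298691) (BT.leaf (nat_lit 659804)) (BT.leaf (nat_lit 714544))) (BT.node (nat_lit 4298693) (BT.leaf (nat_lit 650184)) (BT.leaf (nat_lit 714544))))))) (BT.node (nat_lit 4299142) (BT.node (nat_lit 4298949) (BT.node (nat_lit 4298822) (BT.node (nat_lit 4298758) (BT.node (nat_lit 4298756) (BT.leaf (nat_lit 666948)) (BT.leaf (nat_lit 666948))) (BT.node (nat_lit 4298819) (BT.leaf (nat_lit 666948)) (BT.leaf (nat_lit 714604)))) (BT.node (nat_lit 4298824) (BT.node (nat_lit 4298823) (BT.leaf (nat_lit 714604)) (BT.leaf (nat_lit 714604))) (BT.node (nat_lit 4298945) (BT.leaf (nat_lit 714604)) (BT.leaf (nat_lit 660076))))) (BT.node (nat_lit 4299012) (BT.node (nat_lit 4298952) (BT.node (nat_lit 4298951) (BT.leaf (nat_lit 660076)) (BT.leaf (nat_lit 660076))) (BT.node (nat_lit 4299009) (BT.leaf (nat_lit 660076)) (BT.leaf (nat_lit 660084)))) (BT.node (nat_lit 4299079) (BT.node (nat_lit 4299016) (BT.leaf (nat_lit 660084)) (BT.leaf (nat_lit 660084))) (BT.node (nat_lit 4299141) (BT.leaf (nat_lit 667124)) (BT.leaf (nat_lit 714592)))))) (BT.node (nat_lit 4299395) (BT.node (nat_lit 4299269) (BT.node (nat_lit 4299265) (BT.node (nat_lit 4299143) (BT.leaf (nat_lit 679708)) (BT.leaf (nat_lit 679708))) (BT.node (nat_lit 4299268) (BT.leaf (nat_lit 611180)) (BT.leaf (nat_lit 611180)))) (BT.node (nat_lit 4299393) (BT.node (nat_lit 4299271) (BT.leaf (nat_lit 656636)) (BT.leaf (nat_lit 656636))) (BT.node (nat_lit 4299394) (BT.leaf (nat_lit 624504)) (BT.leaf (nat_lit 624504))))) (BT.node (nat_lit 4299400) (BT.node (nat_lit 4299398) (BT.node (nat_lit 4299397) (BT.leaf (nat_lit 624504)) (BT.leaf (nat_lit 624504))) (BT.node (nat_lit 4299399) (BT.leaf (nat_lit 624504)) (BT.leaf (nat_lit 624504)))) (BT.node (nat_lit 4299459) (BT.node (nat_lit 4299458) (BT.leaf (nat_lit 624504)) (BT.leaf (nat_lit 680756))) (BT.node (nat_lit 4299460) (BT.leaf (nat_lit 680756)) (BT.leaf (nat_lit 680756))))))))) (BT.node (nat_lit 4301635) (BT.node (nat_lit 4300742) (BT.node (nat_lit 4300356) (BT.node (nat_lit 4299976) (BT.node (nat_lit 4299653) (BT.node (nat_lit 4299650) (BT.node (nat_lit 4299591) (BT.leaf (nat_lit 715992)) (BT.leaf (nat_lit 715992))) (BT.node (nat_lit 4299652) (BT.leaf (nat_lit 689916)) (BT.leaf (nat_lit 689916)))) (BT.node (nat_lit 4299783) (BT.node (nat_lit 4299782) (BT.leaf (nat_lit 689916)) (BT.leaf (nat_lit 718628))) (BT.node (nat_lit 4299972) (BT.leaf (nat_lit 718628)) (BT.leaf (nat_lit 617172))))) (BT.node (nat_lit 4300101) (BT.node (nat_lit 4300099) (BT.node (nat_lit 4300098) (BT.leaf (nat_lit 617172)) (BT.leaf (nat_lit 645788))) (BT.node (nat_lit 4300100) (BT.leaf (nat_lit 645788)) (BT.leaf (nat_lit 645788)))) (BT.node (nat_lit 4300295) (BT.node (nat_lit 4300168) (BT.leaf (nat_lit 645788)) (BT.leaf (nat_lit 699424))) (BT.node (nat_lit 4300355) (BT.leaf (nat_lit 617236)) (BT.leaf (nat_lit 689944)))))) (BT.node (nat_lit 4300551) (BT.node (nat_lit 4300423) (BT.node (nat_lit 4300417) (BT.node (nat_lit 4300360) (BT.leaf (nat_lit 689944)) (BT.leaf (nat_lit 689944))) (BT.node (nat_lit 4300422) (BT.leaf (nat_lit 636244)) (BT.leaf (nat_lit 636244)))) (BT.node (nat_lit 4300547) (BT.node (nat_lit 4300424) (BT.leaf (nat_lit 636244)) (BT.leaf (nat_lit 636244))) (BT.node (nat_lit 4300550) (BT.leaf (nat_lit 605948)) (BT.leaf (nat_lit 605948))))) (BT.node (nat_lit 4300612) (BT.node (nat_lit 4300609) (BT.node (nat_lit 4300552) (BT.leaf (nat_lit 605948)) (BT.leaf (nat_lit 605948))) (BT.node (nat_lit 4300611) (BT.leaf (nat_lit 636208)) (BT.leaf (nat_lit 636208)))) (BT.node (nat_lit 4300616) (BT.node (nat_lit 4300613) (BT.leaf (nat_lit 636208)) (BT.leaf (nat_lit 636208))) (BT.node (nat_lit 4300739) (BT.leaf (nat_lit 636208)) (BT.leaf (nat_lit 613696))))))) (BT.node (nat_lit 4301315) (BT.node (nat_lit 4300996) (BT.node (nat_lit 4300868) (BT.node (nat_lit 4300744) (BT.node (nat_lit 4300743) (BT.leaf (nat_lit 613696)) (BT.leaf (nat_lit 613696))) (BT.node (nat_lit 4300804) (BT.leaf (nat_lit 613696)) (BT.leaf (nat_lit 768200)))) (BT.node (nat_lit 4300932) (BT.node (nat_lit 4300929) (BT.leaf (nat_lit 692280)) (BT.leaf (nat_lit 617740))) (BT.node (nat_lit 4300936) (BT.leaf (nat_lit 617740)) (BT.leaf (nat_lit 617740))))) (BT.node (nat_lit 4301252) (BT.node (nat_lit 4301188) (BT.node (nat_lit 4301187) (BT.leaf (nat_lit 605940)) (BT.leaf (nat_lit 701136))) (BT.node (nat_lit 4301192) (BT.leaf (nat_lit 701136)) (BT.leaf (nat_lit 701136)))) (BT.node (nat_lit 4301313) (BT.node (nat_lit 4301256) (BT.leaf (nat_lit 763860)) (BT.leaf (nat_lit 763860))) (BT.node (nat_lit 4301314) (BT.leaf (nat_lit 603460)) (BT.leaf (nat_lit 603460)))))) (BT.node (nat_lit 4301446) (BT.node (nat_lit 4301384) (BT.node (nat_lit 4301380) (BT.node (nat_lit 4301316) (BT.leaf (nat_lit 603460)) (BT.leaf (nat_lit 603460))) (BT.node (nat_lit 4301381) (BT.leaf (nat_lit 704760)) (BT.leaf (nat_lit 625848)))) (BT.node (nat_lit 4301443) (BT.node (nat_lit 4301441) (BT.leaf (nat_lit 625848)) (BT.leaf (nat_lit 611168))) (BT.node (nat_lit 4301444) (BT.leaf (nat_lit 611168)) (BT.leaf (nat_lit 611168))))) (BT.node (nat_lit 4301572) (BT.node (nat_lit 4301505) (BT.node (nat_lit 4301448) (BT.leaf (nat_lit 611168)) (BT.leaf (nat_lit 611168))) (BT.node (nat_lit 4301512) (BT.leaf (nat_lit 664432)) (BT.leaf (nat_lit 664432)))) (BT.node (nat_lit 4301576) (BT.node (nat_lit 4301573) (BT.leaf (nat_lit 708456)) (BT.leaf (nat_lit 675812))) (BT.node (nat_lit 4301633) (BT.leaf (nat_lit 806924)) (BT.leaf (nat_lit 639364)))))))) (BT.node (nat_lit 4302529) (BT.node (nat_lit 4302019) (BT.node (nat_lit 4301827) (BT.node (nat_lit 4301700) (BT.node (nat_lit 4301637) (BT.node (nat_lit 4301636) (BT.leaf (nat_lit 639364)) (BT.leaf (nat_lit 639368))) (BT.node (nat_lit 4301699) (BT.leaf (nat_lit 675796)) (BT.leaf (nat_lit 639380)))) (BT.node (nat_lit 4301763) (BT.node (nat_lit 4301701) (BT.leaf (nat_lit 675736)) (BT.leaf (nat_lit 675736))) (BT.node (nat_lit 4301768) (BT.leaf (nat_lit 700728)) (BT.leaf (nat_lit 700728))))) (BT.node (nat_lit 4301892) (BT.node (nat_lit 4301832) (BT.node (nat_lit 4301828) (BT.leaf (nat_lit 660432)) (BT.leaf (nat_lit 674740))) (BT.node (nat_lit 4301889) (BT.leaf (nat_lit 660432)) (BT.leaf (nat_lit 713644)))) (BT.node (nat_lit 4301894) (BT.node (nat_lit 4301893) (BT.leaf (nat_lit 713644)) (BT.leaf (nat_lit 713644))) (BT.node (nat_lit 4302018) (BT.leaf (nat_lit 673644)) (BT.leaf (nat_lit 673636)))))) (BT.node (nat_lit 4302274) (BT.node (nat_lit 4302147) (BT.node (nat_lit 4302021) (BT.node (nat_lit 4302020) (BT.leaf (nat_lit 673636)) (BT.leaf (nat_lit 768476))) (BT.node (nat_lit 4302146) (BT.leaf (nat_lit 625996)) (BT.leaf (nat_lit 626012)))) (BT.node (nat_lit 4302210) (BT.node (nat_lit 4302151) (BT.leaf (nat_lit 626012)) (BT.leaf (nat_lit 626012))) (BT.node (nat_lit 4302211) (BT.leaf (nat_lit 607876)) (BT.leaf (nat_lit 607876))))) (BT.node (nat_lit 4302406) (BT.node (nat_lit 4302340) (BT.node (nat_lit 4302275) (BT.leaf (nat_lit 660392)) (BT.leaf (nat_lit 660392))) (BT.node (nat_lit 4302341) (BT.leaf (nat_lit 722180)) (BT.leaf (nat_lit 722180)))) (BT.node (nat_lit 4302466) (BT.node (nat_lit 4302407) (BT.leaf (nat_lit 681620)) (BT.leaf (nat_lit 681620))) (BT.node (nat_lit 4302467) (BT.leaf (nat_lit 722172)) (BT.leaf (nat_lit 722172))))))) (BT.node (nat_lit 4303112) (BT.node (nat_lit 4302978) (BT.node (nat_lit 4302594) (BT.node (nat_lit 4302531) (BT.node (nat_lit 4302530) (BT.leaf (nat_lit 663032)) (BT.leaf (nat_lit 663032))) (BT.node (nat_lit 4302532) (BT.leaf (nat_lit 663032)) (BT.leaf (nat_lit 663032)))) (BT.node (nat_lit 4302722) (BT.node (nat_lit 4302596) (BT.leaf (nat_lit 659044)) (BT.leaf (nat_lit 659044))) (BT.node (nat_lit 4302853) (BT.leaf (nat_lit 617876)) (BT.leaf (nat_lit 667032))))) (BT.node (nat_lit 4303047) (BT.node (nat_lit 4303045) (BT.node (nat_lit 4302981) (BT.leaf (nat_lit 685444)) (BT.leaf (nat_lit 685444))) (BT.node (nat_lit 4303046) (BT.leaf (nat_lit 714416)) (BT.leaf (nat_lit 714416)))) (BT.node (nat_lit 4303107) (BT.node (nat_lit 4303105) (BT.leaf (nat_lit 714416)) (BT.leaf (nat_lit 704828))) (BT.node (nat_lit 4303111) (BT.leaf (nat_lit 753644)) (BT.leaf (nat_lit 701444)))))) (BT.node (nat_lit 4303302) (BT.node (nat_lit 4303297) (BT.node (nat_lit 4303237) (BT.node (nat_lit 4303176) (BT.leaf (nat_lit 753644)) (BT.leaf (nat_lit 768376))) (BT.node (nat_lit 4303240) (BT.leaf (nat_lit 697828)) (BT.leaf (nat_lit 804552)))) (BT.node (nat_lit 4303299) (BT.node (nat_lit 4303298) (BT.leaf (nat_lit 611388)) (BT.leaf (nat_lit 611388))) (BT.node (nat_lit 4303301) (BT.leaf (nat_lit 611388)) (BT.leaf (nat_lit 611388))))) (BT.node (nat_lit 4303362) (BT.node (nat_lit 4303304) (BT.node (nat_lit 4303303) (BT.leaf (nat_lit 611388)) (BT.leaf (nat_lit 611388))) (BT.node (nat_lit 4303361) (BT.leaf (nat_lit 611388)) (BT.leaf (nat_lit 633952)))) (BT.node (nat_lit 4303364) (BT.node (nat_lit 4303363) (BT.leaf (nat_lit 633952)) (BT.leaf (nat_lit 633952))) (BT.node (nat_lit 4303366) (BT.leaf (nat_lit 633952)) (BT.leaf (nat_lit 633952)))))))))))))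
noncomputable def big0_e2048 : BT Nat := (BT.node (nat_lit 4338562) (BT.node (nat_lit 4319298) (BT.node (nat_lit 4312065) (BT.node (nat_lit 4308484) (BT.node (nat_lit 4306435) (BT.node (nat_lit 4304516) (BT.node (nat_lit 4303812) (BT.node (nat_lit 4303492) (BT.node (nat_lit 4303428) (BT.node (nat_lit 4303426) (BT.node (nat_lit 4303368) (BT.leaf (nat_lit 633952)) (BT.leaf (nat_lit 633952))) (BT.node (nat_lit 4303427) (BT.leaf (nat_lit 657260)) (BT.leaf (nat_lit 629560)))) (BT.node (nat_lit 4303432) (BT.node (nat_lit 4303431) (BT.leaf (nat_lit 629560)) (BT.leaf (nat_lit 657260))) (BT.node (nat_lit 4303491) (BT.leaf (nat_lit 657260)) (BT.leaf (nat_lit 601948))))) (BT.node (nat_lit 4303558) (BT.node (nat_lit 4303555) (BT.node (nat_lit 4303493) (BT.leaf (nat_lit 601948)) (BT.leaf (nat_lit 601948))) (BT.node (nat_lit 4303557) (BT.leaf (nat_lit 601916)) (BT.leaf (nat_lit 601916)))) (BT.node (nat_lit 4303620) (BT.node (nat_lit 4303560) (BT.leaf (nat_lit 601916)) (BT.leaf (nat_lit 601916))) (BT.node (nat_lit 4303624) (BT.leaf (nat_lit 772608)) (BT.leaf (nat_lit 772608)))))) (BT.node (nat_lit 4304194) (BT.node (nat_lit 4304130) (BT.node (nat_lit 4303944) (BT.node (nat_lit 4303940) (BT.leaf (nat_lit 610572)) (BT.leaf (nat_lit 662412))) (BT.node (nat_lit 4304007) (BT.leaf (nat_lit 776180)) (BT.leaf (nat_lit 793640)))) (BT.node (nat_lit 4304134) (BT.node (nat_lit 4304131) (BT.leaf (nat_lit 739760)) (BT.leaf (nat_lit 694884))) (BT.node (nat_lit 4304135) (BT.leaf (nat_lit 694884)) (BT.leaf (nat_lit 694884))))) (BT.node (nat_lit 4304257) (BT.node (nat_lit 4304198) (BT.node (nat_lit 4304195) (BT.leaf (nat_lit 637900)) (BT.leaf (nat_lit 637900))) (BT.node (nat_lit 4304199) (BT.leaf (nat_lit 637900)) (BT.leaf (nat_lit 637900)))) (BT.node (nat_lit 4304451) (BT.node (nat_lit 4304261) (BT.leaf (nat_lit 805800)) (BT.leaf (nat_lit 695164))) (BT.node (nat_lit 4304455) (BT.leaf (nat_lit 701532)) (BT.leaf (nat_lit 701532))))))) (BT.node (nat_lit 4305220) (BT.node (nat_lit 4305090) (BT.node (nat_lit 4304708) (BT.node (nat_lit 4304582) (BT.node (nat_lit 4304581) (BT.leaf (nat_lit 628752)) (BT.leaf (nat_lit 608024))) (BT.node (nat_lit 4304583) (BT.leaf (nat_lit 620624)) (BT.leaf (nat_lit 620624)))) (BT.node (nat_lit 4304774) (BT.node (nat_lit 4304771) (BT.leaf (nat_lit 620968)) (BT.leaf (nat_lit 601120))) (BT.node (nat_lit 4304775) (BT.leaf (nat_lit 601120)) (BT.leaf (nat_lit 601120))))) (BT.node (nat_lit 4305095) (BT.node (nat_lit 4305092) (BT.node (nat_lit 4305091) (BT.leaf (nat_lit 628616)) (BT.leaf (nat_lit 628616))) (BT.node (nat_lit 4305094) (BT.leaf (nat_lit 628616)) (BT.leaf (nat_lit 628616)))) (BT.node (nat_lit 4305157) (BT.node (nat_lit 4305154) (BT.leaf (nat_lit 628616)) (BT.leaf (nat_lit 718248))) (BT.node (nat_lit 4305218) (BT.leaf (nat_lit 718248)) (BT.leaf (nat_lit 649028)))))) (BT.node (nat_lit 4306180) (BT.node (nat_lit 4305734) (BT.node (nat_lit 4305412) (BT.node (nat_lit 4305284) (BT.leaf (nat_lit 649028)) (BT.leaf (nat_lit 640964))) (BT.node (nat_lit 4305671) (BT.leaf (nat_lit 655184)) (BT.leaf (nat_lit 603296)))) (BT.node (nat_lit 4306052) (BT.node (nat_lit 4305735) (BT.leaf (nat_lit 753460)) (BT.leaf (nat_lit 753460))) (BT.node (nat_lit 4306053) (BT.leaf (nat_lit 691880)) (BT.leaf (nat_lit 691880))))) (BT.node (nat_lit 4306374) (BT.node (nat_lit 4306247) (BT.node (nat_lit 4306246) (BT.leaf (nat_lit 720512)) (BT.leaf (nat_lit 676632))) (BT.node (nat_lit 4306372) (BT.leaf (nat_lit 676632)) (BT.leaf (nat_lit 604128)))) (BT.node (nat_lit 4306376) (BT.node (nat_lit 4306375) (BT.leaf (nat_lit 708756)) (BT.leaf (nat_lit 708756))) (BT.node (nat_lit 4306434) (BT.leaf (nat_lit 604128)) (BT.leaf (nat_lit 625172)))))))) (BT.node (nat_lit 4307206) (BT.node (nat_lit 4306820) (BT.node (nat_lit 4306632) (BT.node (nat_lit 4306566) (BT.node (nat_lit 4306438) (BT.node (nat_lit 4306437) (BT.leaf (nat_lit 625172)) (BT.leaf (nat_lit 625172))) (BT.node (nat_lit 4306439) (BT.leaf (nat_lit 625172)) (BT.leaf (nat_lit 625172)))) (BT.node (nat_lit 4306630) (BT.node (nat_lit 4306628) (BT.leaf (nat_lit 775988)) (BT.leaf (nat_lit 680652))) (BT.node (nat_lit 4306631) (BT.leaf (nat_lit 708736)) (BT.leaf (nat_lit 708736))))) (BT.node (nat_lit 4306758) (BT.node (nat_lit 4306695) (BT.node (nat_lit 4306694) (BT.leaf (nat_lit 680652)) (BT.leaf (nat_lit 697308))) (BT.node (nat_lit 4306757) (BT.leaf (nat_lit 697308)) (BT.leaf (nat_lit 654496)))) (BT.node (nat_lit 4306817) (BT.node (nat_lit 4306759) (BT.leaf (nat_lit 697120)) (BT.leaf (nat_lit 697120))) (BT.node (nat_lit 4306819) (BT.leaf (nat_lit 676020)) (BT.leaf (nat_lit 676020)))))) (BT.node (nat_lit 4307015) (BT.node (nat_lit 4306952) (BT.node (nat_lit 4306946) (BT.node (nat_lit 4306821) (BT.leaf (nat_lit 701588)) (BT.leaf (nat_lit 763120))) (BT.node (nat_lit 4306949) (BT.leaf (nat_lit 713988)) (BT.leaf (nat_lit 713988)))) (BT.node (nat_lit 4307011) (BT.node (nat_lit 4307010) (BT.leaf (nat_lit 701832)) (BT.leaf (nat_lit 714016))) (BT.node (nat_lit 4307014) (BT.leaf (nat_lit 714016)) (BT.leaf (nat_lit 714016))))) (BT.node (nat_lit 4307079) (BT.node (nat_lit 4307077) (BT.node (nat_lit 4307075) (BT.leaf (nat_lit 695536)) (BT.leaf (nat_lit 709448))) (BT.node (nat_lit 4307078) (BT.leaf (nat_lit 709448)) (BT.leaf (nat_lit 709448)))) (BT.node (nat_lit 4307140) (BT.node (nat_lit 4307138) (BT.leaf (nat_lit 709448)) (BT.leaf (nat_lit 601520))) (BT.node (nat_lit 4307141) (BT.leaf (nat_lit 698224)) (BT.leaf (nat_lit 601520))))))) (BT.node (nat_lit 4307782) (BT.node (nat_lit 4307397) (BT.node (nat_lit 4307332) (BT.node (nat_lit 4307265) (BT.node (nat_lit 4307207) (BT.leaf (nat_lit 710580)) (BT.leaf (nat_lit 710580))) (BT.node (nat_lit 4307330) (BT.leaf (nat_lit 729520)) (BT.leaf (nat_lit 717152)))) (BT.node (nat_lit 4307394) (BT.node (nat_lit 4307333) (BT.leaf (nat_lit 717156)) (BT.leaf (nat_lit 717152))) (BT.node (nat_lit 4307395) (BT.leaf (nat_lit 709244)) (BT.leaf (nat_lit 709244))))) (BT.node (nat_lit 4307528) (BT.node (nat_lit 4307524) (BT.node (nat_lit 4307522) (BT.leaf (nat_lit 709244)) (BT.leaf (nat_lit 697376))) (BT.node (nat_lit 4307527) (BT.leaf (nat_lit 673196)) (BT.leaf (nat_lit 697376)))) (BT.node (nat_lit 4307591) (BT.node (nat_lit 4307590) (BT.leaf (nat_lit 632112)) (BT.leaf (nat_lit 620856))) (BT.node (nat_lit 4307716) (BT.leaf (nat_lit 678332)) (BT.leaf (nat_lit 656556)))))) (BT.node (nat_lit 4308100) (BT.node (nat_lit 4307909) (BT.node (nat_lit 4307844) (BT.node (nat_lit 4307783) (BT.leaf (nat_lit 672664)) (BT.leaf (nat_lit 672664))) (BT.node (nat_lit 4307908) (BT.leaf (nat_lit 610980)) (BT.leaf (nat_lit 721520)))) (BT.node (nat_lit 4308033) (BT.node (nat_lit 4307974) (BT.leaf (nat_lit 719212)) (BT.leaf (nat_lit 651544))) (BT.node (nat_lit 4308037) (BT.leaf (nat_lit 603516)) (BT.leaf (nat_lit 603516))))) (BT.node (nat_lit 4308231) (BT.node (nat_lit 4308166) (BT.node (nat_lit 4308101) (BT.leaf (nat_lit 655044)) (BT.leaf (nat_lit 655044))) (BT.node (nat_lit 4308167) (BT.leaf (nat_lit 656464)) (BT.leaf (nat_lit 656464)))) (BT.node (nat_lit 4308291) (BT.node (nat_lit 4308290) (BT.leaf (nat_lit 602484)) (BT.leaf (nat_lit 683524))) (BT.node (nat_lit 4308292) (BT.leaf (nat_lit 602860)) (BT.leaf (nat_lit 683524))))))))) (BT.node (nat_lit 4310338) (BT.node (nat_lit 4309698) (BT.node (nat_lit 4309127) (BT.node (nat_lit 4308931) (BT.node (nat_lit 4308551) (BT.node (nat_lit 4308547) (BT.node (nat_lit 4308545) (BT.leaf (nat_lit 651400)) (BT.leaf (nat_lit 602408))) (BT.node (nat_lit 4308550) (BT.leaf (nat_lit 602408)) (BT.leaf (nat_lit 602408)))) (BT.node (nat_lit 4308609) (BT.node (nat_lit 4308552) (BT.leaf (nat_lit 602408)) (BT.leaf (nat_lit 602408))) (BT.node (nat_lit 4308930) (BT.leaf (nat_lit 603960)) (BT.leaf (nat_lit 618748))))) (BT.node (nat_lit 4309121) (BT.node (nat_lit 4308935) (BT.node (nat_lit 4308934) (BT.leaf (nat_lit 618748)) (BT.leaf (nat_lit 618748))) (BT.node (nat_lit 4308996) (BT.leaf (nat_lit 618748)) (BT.leaf (nat_lit 618744)))) (BT.node (nat_lit 4309125) (BT.node (nat_lit 4309124) (BT.leaf (nat_lit 602412)) (BT.leaf (nat_lit 602412))) (BT.node (nat_lit 4309126) (BT.leaf (nat_lit 602412)) (BT.leaf (nat_lit 602412)))))) (BT.node (nat_lit 4309314) (BT.node (nat_lit 4309249) (BT.node (nat_lit 4309188) (BT.node (nat_lit 4309185) (BT.leaf (nat_lit 602412)) (BT.leaf (nat_lit 683024))) (BT.node (nat_lit 4309190) (BT.leaf (nat_lit 683024)) (BT.leaf (nat_lit 683024)))) (BT.node (nat_lit 4309252) (BT.node (nat_lit 4309250) (BT.leaf (nat_lit 715844)) (BT.leaf (nat_lit 715844))) (BT.node (nat_lit 4309253) (BT.leaf (nat_lit 715844)) (BT.leaf (nat_lit 715844))))) (BT.node (nat_lit 4309574) (BT.node (nat_lit 4309318) (BT.node (nat_lit 4309315) (BT.leaf (nat_lit 603432)) (BT.leaf (nat_lit 603432))) (BT.node (nat_lit 4309444) (BT.leaf (nat_lit 603432)) (BT.leaf (nat_lit 685976)))) (BT.node (nat_lit 4309638) (BT.node (nat_lit 4309575) (BT.leaf (nat_lit 772156)) (BT.leaf (nat_lit 772156))) (BT.node (nat_lit 4309639) (BT.leaf (nat_lit 648932)) (BT.leaf (nat_lit 648932))))))) (BT.node (nat_lit 4310022) (BT.node (nat_lit 4309893) (BT.node (nat_lit 4309828) (BT.node (nat_lit 4309700) (BT.node (nat_lit 4309699) (BT.leaf (nat_lit 705056)) (BT.leaf (nat_lit 670208))) (BT.node (nat_lit 4309768) (BT.leaf (nat_lit 670208)) (BT.leaf (nat_lit 689652)))) (BT.node (nat_lit 4309832) (BT.node (nat_lit 4309829) (BT.leaf (nat_lit 665300)) (BT.leaf (nat_lit 665300))) (BT.node (nat_lit 4309892) (BT.leaf (nat_lit 665300)) (BT.leaf (nat_lit 649044))))) (BT.node (nat_lit 4309957) (BT.node (nat_lit 4309954) (BT.node (nat_lit 4309896) (BT.leaf (nat_lit 649052)) (BT.leaf (nat_lit 649044))) (BT.node (nat_lit 4309956) (BT.leaf (nat_lit 702724)) (BT.leaf (nat_lit 702724)))) (BT.node (nat_lit 4310017) (BT.node (nat_lit 4309960) (BT.leaf (nat_lit 598392)) (BT.leaf (nat_lit 649040))) (BT.node (nat_lit 4310021) (BT.leaf (nat_lit 610972)) (BT.leaf (nat_lit 771992)))))) (BT.node (nat_lit 4310152) (BT.node (nat_lit 4310145) (BT.node (nat_lit 4310024) (BT.node (nat_lit 4310023) (BT.leaf (nat_lit 771992)) (BT.leaf (nat_lit 771992))) (BT.node (nat_lit 4310085) (BT.leaf (nat_lit 771992)) (BT.leaf (nat_lit 708148)))) (BT.node (nat_lit 4310150) (BT.node (nat_lit 4310149) (BT.leaf (nat_lit 714716)) (BT.leaf (nat_lit 796560))) (BT.node (nat_lit 4310151) (BT.leaf (nat_lit 796560)) (BT.leaf (nat_lit 796560))))) (BT.node (nat_lit 4310275) (BT.node (nat_lit 4310215) (BT.node (nat_lit 4310209) (BT.leaf (nat_lit 714716)) (BT.leaf (nat_lit 676888))) (BT.node (nat_lit 4310274) (BT.leaf (nat_lit 676888)) (BT.leaf (nat_lit 651244)))) (BT.node (nat_lit 4310279) (BT.node (nat_lit 4310278) (BT.leaf (nat_lit 651244)) (BT.leaf (nat_lit 651244))) (BT.node (nat_lit 4310280) (BT.leaf (nat_lit 651244)) (BT.leaf (nat_lit 651244)))))))) (BT.node (nat_lit 4311303) (BT.node (nat_lit 4310914) (BT.node (nat_lit 4310470) (BT.node (nat_lit 4310404) (BT.node (nat_lit 4310341) (BT.node (nat_lit 4310339) (BT.leaf (nat_lit 683716)) (BT.leaf (nat_lit 683716))) (BT.node (nat_lit 4310344) (BT.leaf (nat_lit 683716)) (BT.leaf (nat_lit 683716)))) (BT.node (nat_lit 4310467) (BT.node (nat_lit 4310466) (BT.leaf (nat_lit 611216)) (BT.leaf (nat_lit 760180))) (BT.node (nat_lit 4310468) (BT.leaf (nat_lit 760180)) (BT.leaf (nat_lit 651236))))) (BT.node (nat_lit 4310725) (BT.node (nat_lit 4310663) (BT.node (nat_lit 4310662) (BT.leaf (nat_lit 760180)) (BT.leaf (nat_lit 791056))) (BT.node (nat_lit 4310724) (BT.leaf (nat_lit 624952)) (BT.leaf (nat_lit 707212)))) (BT.node (nat_lit 4310852) (BT.node (nat_lit 4310788) (BT.leaf (nat_lit 707212)) (BT.leaf (nat_lit 685068))) (BT.node (nat_lit 4310854) (BT.leaf (nat_lit 670660)) (BT.leaf (nat_lit 692548)))))) (BT.node (nat_lit 4311174) (BT.node (nat_lit 4311047) (BT.node (nat_lit 4310978) (BT.node (nat_lit 4310915) (BT.leaf (nat_lit 696472)) (BT.leaf (nat_lit 696472))) (BT.node (nat_lit 4310984) (BT.leaf (nat_lit 696164)) (BT.leaf (nat_lit 696164)))) (BT.node (nat_lit 4311171) (BT.node (nat_lit 4311170) (BT.leaf (nat_lit 784376)) (BT.leaf (nat_lit 671864))) (BT.node (nat_lit 4311173) (BT.leaf (nat_lit 671864)) (BT.leaf (nat_lit 671864))))) (BT.node (nat_lit 4311298) (BT.node (nat_lit 4311176) (BT.node (nat_lit 4311175) (BT.leaf (nat_lit 671864)) (BT.leaf (nat_lit 671864))) (BT.node (nat_lit 4311236) (BT.leaf (nat_lit 671864)) (BT.leaf (nat_lit 684688)))) (BT.node (nat_lit 4311301) (BT.node (nat_lit 4311299) (BT.leaf (nat_lit 607752)) (BT.leaf (nat_lit 607752))) (BT.node (nat_lit 4311302) (BT.leaf (nat_lit 607752)) (BT.leaf (nat_lit 607752))))))) (BT.node (nat_lit 4311810) (BT.node (nat_lit 4311557) (BT.node (nat_lit 4311367) (BT.node (nat_lit 4311365) (BT.node (nat_lit 4311304) (BT.leaf (nat_lit 607752)) (BT.leaf (nat_lit 607752))) (BT.node (nat_lit 4311366) (BT.leaf (nat_lit 630912)) (BT.leaf (nat_lit 630912)))) (BT.node (nat_lit 4311426) (BT.node (nat_lit 4311425) (BT.leaf (nat_lit 630912)) (BT.leaf (nat_lit 630560))) (BT.node (nat_lit 4311496) (BT.leaf (nat_lit 630560)) (BT.leaf (nat_lit 804024))))) (BT.node (nat_lit 4311682) (BT.node (nat_lit 4311620) (BT.node (nat_lit 4311560) (BT.leaf (nat_lit 637108)) (BT.leaf (nat_lit 637108))) (BT.node (nat_lit 4311621) (BT.leaf (nat_lit 693196)) (BT.leaf (nat_lit 634708)))) (BT.node (nat_lit 4311746) (BT.node (nat_lit 4311685) (BT.leaf (nat_lit 675772)) (BT.leaf (nat_lit 675772))) (BT.node (nat_lit 4311749) (BT.leaf (nat_lit 664736)) (BT.leaf (nat_lit 664736)))))) (BT.node (nat_lit 4311938) (BT.node (nat_lit 4311874) (BT.node (nat_lit 4311813) (BT.node (nat_lit 4311811) (BT.leaf (nat_lit 630940)) (BT.leaf (nat_lit 804512))) (BT.node (nat_lit 4311873) (BT.leaf (nat_lit 630940)) (BT.leaf (nat_lit 736992)))) (BT.node (nat_lit 4311876) (BT.node (nat_lit 4311875) (BT.leaf (nat_lit 736992)) (BT.leaf (nat_lit 804516))) (BT.node (nat_lit 4311937) (BT.leaf (nat_lit 704720)) (BT.leaf (nat_lit 630568))))) (BT.node (nat_lit 4312003) (BT.node (nat_lit 4311940) (BT.node (nat_lit 4311939) (BT.leaf (nat_lit 630568)) (BT.leaf (nat_lit 630568))) (BT.node (nat_lit 4312002) (BT.leaf (nat_lit 680804)) (BT.leaf (nat_lit 642216)))) (BT.node (nat_lit 4312006) (BT.node (nat_lit 4312004) (BT.leaf (nat_lit 642216)) (BT.leaf (nat_lit 642216))) (BT.node (nat_lit 4312008) (BT.leaf (nat_lit 642216)) (BT.leaf (nat_lit 642216)))))))))) (BT.node (nat_lit 4315078) (BT.node (nat_lit 4313735) (BT.node (nat_lit 4313090) (BT.node (nat_lit 4312583) (BT.node (nat_lit 4312324) (BT.node (nat_lit 4312070) (BT.node (nat_lit 4312067) (BT.node (nat_lit 4312066) (BT.leaf (nat_lit 613060)) (BT.leaf (nat_lit 613060))) (BT.node (nat_lit 4312069) (BT.leaf (nat_lit 613060)) (BT.leaf (nat_lit 613060)))) (BT.node (nat_lit 4312072) (BT.node (nat_lit 4312071) (BT.leaf (nat_lit 613060)) (BT.leaf (nat_lit 613060))) (BT.node (nat_lit 4312321) (BT.leaf (nat_lit 613060)) (BT.leaf (nat_lit 687680))))) (BT.node (nat_lit 4312514) (BT.node (nat_lit 4312391) (BT.node (nat_lit 4312390) (BT.leaf (nat_lit 694272)) (BT.leaf (nat_lit 686860))) (BT.node (nat_lit 4312453) (BT.leaf (nat_lit 686860)) (BT.leaf (nat_lit 646972)))) (BT.node (nat_lit 4312581) (BT.node (nat_lit 4312517) (BT.leaf (nat_lit 680920)) (BT.leaf (nat_lit 680920))) (BT.node (nat_lit 4312582) (BT.leaf (nat_lit 712464)) (BT.leaf (nat_lit 712464)))))) (BT.node (nat_lit 4312770) (BT.node (nat_lit 4312647) (BT.node (nat_lit 4312642) (BT.node (nat_lit 4312641) (BT.leaf (nat_lit 712464)) (BT.leaf (nat_lit 624864))) (BT.node (nat_lit 4312646) (BT.leaf (nat_lit 624864)) (BT.leaf (nat_lit 624864)))) (BT.node (nat_lit 4312709) (BT.node (nat_lit 4312708) (BT.leaf (nat_lit 624864)) (BT.leaf (nat_lit 722616))) (BT.node (nat_lit 4312712) (BT.leaf (nat_lit 722616)) (BT.leaf (nat_lit 684516))))) (BT.node (nat_lit 4312900) (BT.node (nat_lit 4312898) (BT.node (nat_lit 4312773) (BT.leaf (nat_lit 692020)) (BT.leaf (nat_lit 692020))) (BT.node (nat_lit 4312899) (BT.leaf (nat_lit 624860)) (BT.leaf (nat_lit 624860)))) (BT.node (nat_lit 4313027) (BT.node (nat_lit 4313026) (BT.leaf (nat_lit 674580)) (BT.leaf (nat_lit 685428))) (BT.node (nat_lit 4313029) (BT.leaf (nat_lit 685428)) (BT.leaf (nat_lit 685428))))))) (BT.node (nat_lit 4313350) (BT.node (nat_lit 4313219) (BT.node (nat_lit 4313156) (BT.node (nat_lit 4313095) (BT.node (nat_lit 4313094) (BT.leaf (nat_lit 618804)) (BT.leaf (nat_lit 618804))) (BT.node (nat_lit 4313153) (BT.leaf (nat_lit 618804)) (BT.leaf (nat_lit 690124)))) (BT.node (nat_lit 4313217) (BT.node (nat_lit 4313160) (BT.leaf (nat_lit 712984)) (BT.leaf (nat_lit 690124))) (BT.node (nat_lit 4313218) (BT.leaf (nat_lit 677428)) (BT.leaf (nat_lit 677428))))) (BT.node (nat_lit 4313283) (BT.node (nat_lit 4313224) (BT.node (nat_lit 4313220) (BT.leaf (nat_lit 677428)) (BT.leaf (nat_lit 677428))) (BT.node (nat_lit 4313282) (BT.leaf (nat_lit 677428)) (BT.leaf (nat_lit 691328)))) (BT.node (nat_lit 4313285) (BT.node (nat_lit 4313284) (BT.leaf (nat_lit 691328)) (BT.leaf (nat_lit 697040))) (BT.node (nat_lit 4313346) (BT.leaf (nat_lit 697040)) (BT.leaf (nat_lit 773460)))))) (BT.node (nat_lit 4313608) (BT.node (nat_lit 4313475) (BT.node (nat_lit 4313352) (BT.node (nat_lit 4313351) (BT.leaf (nat_lit 773460)) (BT.leaf (nat_lit 773460))) (BT.node (nat_lit 4313474) (BT.leaf (nat_lit 773460)) (BT.leaf (nat_lit 633376)))) (BT.node (nat_lit 4313479) (BT.node (nat_lit 4313478) (BT.leaf (nat_lit 633376)) (BT.leaf (nat_lit 677116))) (BT.node (nat_lit 4313541) (BT.leaf (nat_lit 677116)) (BT.leaf (nat_lit 750976))))) (BT.node (nat_lit 4313729) (BT.node (nat_lit 4313668) (BT.node (nat_lit 4313665) (BT.leaf (nat_lit 678368)) (BT.leaf (nat_lit 677664))) (BT.node (nat_lit 4313672) (BT.leaf (nat_lit 723136)) (BT.leaf (nat_lit 677664)))) (BT.node (nat_lit 4313731) (BT.node (nat_lit 4313730) (BT.leaf (nat_lit 601660)) (BT.leaf (nat_lit 601660))) (BT.node (nat_lit 4313734) (BT.leaf (nat_lit 645700)) (BT.leaf (nat_lit 645700)))))))) (BT.node (nat_lit 4314497) (BT.node (nat_lit 4314242) (BT.node (nat_lit 4313925) (BT.node (nat_lit 4313861) (BT.node (nat_lit 4313858) (BT.node (nat_lit 4313857) (BT.leaf (nat_lit 601660)) (BT.leaf (nat_lit 607848))) (BT.node (nat_lit 4313859) (BT.leaf (nat_lit 675672)) (BT.leaf (nat_lit 607848)))) (BT.node (nat_lit 4313863) (BT.node (nat_lit 4313862) (BT.leaf (nat_lit 607848)) (BT.leaf (nat_lit 675672))) (BT.node (nat_lit 4313921) (BT.leaf (nat_lit 675672)) (BT.leaf (nat_lit 690604))))) (BT.node (nat_lit 4314119) (BT.node (nat_lit 4314113) (BT.node (nat_lit 4313988) (BT.leaf (nat_lit 690604)) (BT.leaf (nat_lit 705312))) (BT.node (nat_lit 4314118) (BT.leaf (nat_lit 680944)) (BT.leaf (nat_lit 680944)))) (BT.node (nat_lit 4314180) (BT.node (nat_lit 4314120) (BT.leaf (nat_lit 680944)) (BT.leaf (nat_lit 680944))) (BT.node (nat_lit 4314241) (BT.leaf (nat_lit 674424)) (BT.leaf (nat_lit 798832)))))) (BT.node (nat_lit 4314309) (BT.node (nat_lit 4314305) (BT.node (nat_lit 4314245) (BT.node (nat_lit 4314243) (BT.leaf (nat_lit 798832)) (BT.leaf (nat_lit 660344))) (BT.node (nat_lit 4314248) (BT.leaf (nat_lit 660344)) (BT.leaf (nat_lit 798832)))) (BT.node (nat_lit 4314307) (BT.node (nat_lit 4314306) (BT.leaf (nat_lit 777220)) (BT.leaf (nat_lit 777220))) (BT.node (nat_lit 4314308) (BT.leaf (nat_lit 611200)) (BT.leaf (nat_lit 611200))))) (BT.node (nat_lit 4314376) (BT.node (nat_lit 4314369) (BT.node (nat_lit 4314312) (BT.leaf (nat_lit 611200)) (BT.leaf (nat_lit 777220))) (BT.node (nat_lit 4314373) (BT.leaf (nat_lit 647912)) (BT.leaf (nat_lit 647912)))) (BT.node (nat_lit 4314436) (BT.node (nat_lit 4314433) (BT.leaf (nat_lit 647912)) (BT.leaf (nat_lit 647920))) (BT.node (nat_lit 4314440) (BT.leaf (nat_lit 647920)) (BT.leaf (nat_lit 647920))))))) (BT.node (nat_lit 4314753) (BT.node (nat_lit 4314631) (BT.node (nat_lit 4314503) (BT.node (nat_lit 4314501) (BT.node (nat_lit 4314499) (BT.leaf (nat_lit 794928)) (BT.leaf (nat_lit 794928))) (BT.node (nat_lit 4314502) (BT.leaf (nat_lit 794928)) (BT.leaf (nat_lit 794928)))) (BT.node (nat_lit 4314568) (BT.node (nat_lit 4314561) (BT.leaf (nat_lit 794928)) (BT.leaf (nat_lit 767748))) (BT.node (nat_lit 4314626) (BT.leaf (nat_lit 767748)) (BT.leaf (nat_lit 710180))))) (BT.node (nat_lit 4314691) (BT.node (nat_lit 4314689) (BT.node (nat_lit 4314632) (BT.leaf (nat_lit 755544)) (BT.leaf (nat_lit 710180))) (BT.node (nat_lit 4314690) (BT.leaf (nat_lit 641020)) (BT.leaf (nat_lit 626360)))) (BT.node (nat_lit 4314694) (BT.node (nat_lit 4314693) (BT.leaf (nat_lit 626360)) (BT.leaf (nat_lit 641020))) (BT.node (nat_lit 4314695) (BT.leaf (nat_lit 626360)) (BT.leaf (nat_lit 626360)))))) (BT.node (nat_lit 4314952) (BT.node (nat_lit 4314882) (BT.node (nat_lit 4314820) (BT.node (nat_lit 4314817) (BT.leaf (nat_lit 751332)) (BT.leaf (nat_lit 647232))) (BT.node (nat_lit 4314881) (BT.leaf (nat_lit 754340)) (BT.leaf (nat_lit 612872)))) (BT.node (nat_lit 4314949) (BT.node (nat_lit 4314948) (BT.leaf (nat_lit 612872)) (BT.leaf (nat_lit 603108))) (BT.node (nat_lit 4314950) (BT.leaf (nat_lit 603108)) (BT.leaf (nat_lit 603108))))) (BT.node (nat_lit 4315073) (BT.node (nat_lit 4315010) (BT.node (nat_lit 4315009) (BT.leaf (nat_lit 603108)) (BT.leaf (nat_lit 657456))) (BT.node (nat_lit 4315016) (BT.leaf (nat_lit 657456)) (BT.leaf (nat_lit 657456)))) (BT.node (nat_lit 4315075) (BT.node (nat_lit 4315074) (BT.leaf (nat_lit 668940)) (BT.leaf (nat_lit 650832))) (BT.node (nat_lit 4315077) (BT.leaf (nat_lit 668940)) (BT.leaf (nat_lit 668940))))))))) (BT.node (nat_lit 4317189) (BT.node (nat_lit 4315718) (BT.node (nat_lit 4315398) (BT.node (nat_lit 4315205) (BT.node (nat_lit 4315139) (BT.node (nat_lit 4315080) (BT.node (nat_lit 4315079) (BT.leaf (nat_lit 650832)) (BT.leaf (nat_lit 650832))) (BT.node (nat_lit 4315138) (BT.leaf (nat_lit 668940)) (BT.leaf (nat_lit 627480)))) (BT.node (nat_lit 4315143) (BT.node (nat_lit 4315142) (BT.leaf (nat_lit 627480)) (BT.leaf (nat_lit 627480))) (BT.node (nat_lit 4315201) (BT.leaf (nat_lit 627480)) (BT.leaf (nat_lit 700292))))) (BT.node (nat_lit 4315330) (BT.node (nat_lit 4315272) (BT.node (nat_lit 4315265) (BT.leaf (nat_lit 672032)) (BT.leaf (nat_lit 748068))) (BT.node (nat_lit 4315329) (BT.leaf (nat_lit 748068)) (BT.leaf (nat_lit 661656)))) (BT.node (nat_lit 4315394) (BT.node (nat_lit 4315336) (BT.leaf (nat_lit 661656)) (BT.leaf (nat_lit 661656))) (BT.node (nat_lit 4315395) (BT.leaf (nat_lit 629124)) (BT.leaf (nat_lit 629124)))))) (BT.node (nat_lit 4315527) (BT.node (nat_lit 4315521) (BT.node (nat_lit 4315400) (BT.node (nat_lit 4315399) (BT.leaf (nat_lit 629124)) (BT.leaf (nat_lit 629124))) (BT.node (nat_lit 4315461) (BT.leaf (nat_lit 808668)) (BT.leaf (nat_lit 663948)))) (BT.node (nat_lit 4315523) (BT.node (nat_lit 4315522) (BT.leaf (nat_lit 672916)) (BT.leaf (nat_lit 672916))) (BT.node (nat_lit 4315526) (BT.leaf (nat_lit 672916)) (BT.leaf (nat_lit 672916))))) (BT.node (nat_lit 4315589) (BT.node (nat_lit 4315585) (BT.node (nat_lit 4315528) (BT.leaf (nat_lit 672916)) (BT.leaf (nat_lit 672916))) (BT.node (nat_lit 4315588) (BT.leaf (nat_lit 641164)) (BT.leaf (nat_lit 624320)))) (BT.node (nat_lit 4315714) (BT.node (nat_lit 4315653) (BT.leaf (nat_lit 641164)) (BT.leaf (nat_lit 600156))) (BT.node (nat_lit 4315715) (BT.leaf (nat_lit 688548)) (BT.leaf (nat_lit 688548))))))) (BT.node (nat_lit 4316229) (BT.node (nat_lit 4315909) (BT.node (nat_lit 4315842) (BT.node (nat_lit 4315784) (BT.node (nat_lit 4315719) (BT.leaf (nat_lit 688548)) (BT.leaf (nat_lit 688548))) (BT.node (nat_lit 4315841) (BT.leaf (nat_lit 619436)) (BT.leaf (nat_lit 644372)))) (BT.node (nat_lit 4315846) (BT.node (nat_lit 4315843) (BT.leaf (nat_lit 644372)) (BT.leaf (nat_lit 644372))) (BT.node (nat_lit 4315847) (BT.leaf (nat_lit 644372)) (BT.leaf (nat_lit 644372))))) (BT.node (nat_lit 4316161) (BT.node (nat_lit 4316036) (BT.node (nat_lit 4316033) (BT.leaf (nat_lit 655952)) (BT.leaf (nat_lit 644408))) (BT.node (nat_lit 4316037) (BT.leaf (nat_lit 600276)) (BT.leaf (nat_lit 644408)))) (BT.node (nat_lit 4316166) (BT.node (nat_lit 4316163) (BT.leaf (nat_lit 645828)) (BT.leaf (nat_lit 645828))) (BT.node (nat_lit 4316167) (BT.leaf (nat_lit 645828)) (BT.leaf (nat_lit 645828)))))) (BT.node (nat_lit 4316677) (BT.node (nat_lit 4316548) (BT.node (nat_lit 4316420) (BT.node (nat_lit 4316293) (BT.leaf (nat_lit 645844)) (BT.leaf (nat_lit 672372))) (BT.node (nat_lit 4316421) (BT.leaf (nat_lit 659700)) (BT.leaf (nat_lit 659700)))) (BT.node (nat_lit 4316612) (BT.node (nat_lit 4316552) (BT.leaf (nat_lit 645932)) (BT.leaf (nat_lit 645932))) (BT.node (nat_lit 4316616) (BT.leaf (nat_lit 677176)) (BT.leaf (nat_lit 610340))))) (BT.node (nat_lit 4316930) (BT.node (nat_lit 4316737) (BT.node (nat_lit 4316678) (BT.leaf (nat_lit 670912)) (BT.leaf (nat_lit 670912))) (BT.node (nat_lit 4316741) (BT.leaf (nat_lit 645912)) (BT.leaf (nat_lit 645912)))) (BT.node (nat_lit 4317061) (BT.node (nat_lit 4316999) (BT.leaf (nat_lit 767868)) (BT.leaf (nat_lit 653804))) (BT.node (nat_lit 4317185) (BT.leaf (nat_lit 682164)) (BT.leaf (nat_lit 606628)))))))) (BT.node (nat_lit 4317895) (BT.node (nat_lit 4317442) (BT.node (nat_lit 4317317) (BT.node (nat_lit 4317253) (BT.node (nat_lit 4317191) (BT.node (nat_lit 4317190) (BT.leaf (nat_lit 606628)) (BT.leaf (nat_lit 606628))) (BT.node (nat_lit 4317250) (BT.leaf (nat_lit 606628)) (BT.leaf (nat_lit 607788)))) (BT.node (nat_lit 4317314) (BT.node (nat_lit 4317313) (BT.leaf (nat_lit 607788)) (BT.leaf (nat_lit 659128))) (BT.node (nat_lit 4317315) (BT.leaf (nat_lit 659128)) (BT.leaf (nat_lit 659128))))) (BT.node (nat_lit 4317379) (BT.node (nat_lit 4317377) (BT.node (nat_lit 4317320) (BT.leaf (nat_lit 659128)) (BT.leaf (nat_lit 659128))) (BT.node (nat_lit 4317378) (BT.leaf (nat_lit 637572)) (BT.leaf (nat_lit 637572)))) (BT.node (nat_lit 4317384) (BT.node (nat_lit 4317381) (BT.leaf (nat_lit 637572)) (BT.leaf (nat_lit 637572))) (BT.node (nat_lit 4317441) (BT.leaf (nat_lit 637572)) (BT.leaf (nat_lit 742708)))))) (BT.node (nat_lit 4317636) (BT.node (nat_lit 4317447) (BT.node (nat_lit 4317444) (BT.node (nat_lit 4317443) (BT.leaf (nat_lit 707740)) (BT.leaf (nat_lit 742708))) (BT.node (nat_lit 4317446) (BT.leaf (nat_lit 616844)) (BT.leaf (nat_lit 742708)))) (BT.node (nat_lit 4317574) (BT.node (nat_lit 4317448) (BT.leaf (nat_lit 707740)) (BT.leaf (nat_lit 796248))) (BT.node (nat_lit 4317575) (BT.leaf (nat_lit 723496)) (BT.leaf (nat_lit 723496))))) (BT.node (nat_lit 4317831) (BT.node (nat_lit 4317829) (BT.node (nat_lit 4317701) (BT.leaf (nat_lit 637200)) (BT.leaf (nat_lit 672800))) (BT.node (nat_lit 4317830) (BT.leaf (nat_lit 706880)) (BT.leaf (nat_lit 706880)))) (BT.node (nat_lit 4317891) (BT.node (nat_lit 4317889) (BT.leaf (nat_lit 706880)) (BT.leaf (nat_lit 695872))) (BT.node (nat_lit 4317894) (BT.leaf (nat_lit 695872)) (BT.leaf (nat_lit 695872))))))) (BT.node (nat_lit 4318341) (BT.node (nat_lit 4318273) (BT.node (nat_lit 4317960) (BT.node (nat_lit 4317953) (BT.node (nat_lit 4317896) (BT.leaf (nat_lit 695872)) (BT.leaf (nat_lit 695872))) (BT.node (nat_lit 4317956) (BT.leaf (nat_lit 609344)) (BT.leaf (nat_lit 609344)))) (BT.node (nat_lit 4318087) (BT.node (nat_lit 4318086) (BT.leaf (nat_lit 609344)) (BT.leaf (nat_lit 698472))) (BT.node (nat_lit 4318215) (BT.leaf (nat_lit 698472)) (BT.leaf (nat_lit 599948))))) (BT.node (nat_lit 4318277) (BT.node (nat_lit 4318275) (BT.node (nat_lit 4318274) (BT.leaf (nat_lit 671568)) (BT.leaf (nat_lit 671568))) (BT.node (nat_lit 4318276) (BT.leaf (nat_lit 671568)) (BT.leaf (nat_lit 671568)))) (BT.node (nat_lit 4318337) (BT.node (nat_lit 4318280) (BT.leaf (nat_lit 671568)) (BT.leaf (nat_lit 671568))) (BT.node (nat_lit 4318340) (BT.leaf (nat_lit 722204)) (BT.leaf (nat_lit 624332)))))) (BT.node (nat_lit 4318788) (BT.node (nat_lit 4318598) (BT.node (nat_lit 4318405) (BT.node (nat_lit 4318404) (BT.leaf (nat_lit 722204)) (BT.leaf (nat_lit 689096))) (BT.node (nat_lit 4318408) (BT.leaf (nat_lit 689096)) (BT.leaf (nat_lit 689096)))) (BT.node (nat_lit 4318721) (BT.node (nat_lit 4318599) (BT.leaf (nat_lit 607212)) (BT.leaf (nat_lit 607212))) (BT.node (nat_lit 4318722) (BT.leaf (nat_lit 650704)) (BT.leaf (nat_lit 650704))))) (BT.node (nat_lit 4319237) (BT.node (nat_lit 4318984) (BT.node (nat_lit 4318981) (BT.leaf (nat_lit 647436)) (BT.leaf (nat_lit 704280))) (BT.node (nat_lit 4319044) (BT.leaf (nat_lit 704280)) (BT.leaf (nat_lit 689932)))) (BT.node (nat_lit 4319239) (BT.node (nat_lit 4319238) (BT.leaf (nat_lit 689936)) (BT.leaf (nat_lit 699360))) (BT.node (nat_lit 4319297) (BT.leaf (nat_lit 699360)) (BT.leaf (nat_lit 762676))))))))))) (BT.node (nat_lit 4327298) (BT.node (nat_lit 4322369) (BT.node (nat_lit 4320833) (BT.node (nat_lit 4319880) (BT.node (nat_lit 4319623) (BT.node (nat_lit 4319553) (BT.node (nat_lit 4319366) (BT.node (nat_lit 4319303) (BT.node (nat_lit 4319302) (BT.leaf (nat_lit 762676)) (BT.leaf (nat_lit 652488))) (BT.node (nat_lit 4319362) (BT.leaf (nat_lit 652488)) (BT.leaf (nat_lit 774728)))) (BT.node (nat_lit 4319492) (BT.node (nat_lit 4319490) (BT.leaf (nat_lit 774728)) (BT.leaf (nat_lit 623752))) (BT.node (nat_lit 4319493) (BT.leaf (nat_lit 623752)) (BT.leaf (nat_lit 623752))))) (BT.node (nat_lit 4319617) (BT.node (nat_lit 4319558) (BT.node (nat_lit 4319557) (BT.leaf (nat_lit 729248)) (BT.leaf (nat_lit 609604))) (BT.node (nat_lit 4319559) (BT.leaf (nat_lit 609604)) (BT.leaf (nat_lit 609604)))) (BT.node (nat_lit 4319621) (BT.node (nat_lit 4319618) (BT.leaf (nat_lit 635992)) (BT.leaf (nat_lit 727096))) (BT.node (nat_lit 4319622) (BT.leaf (nat_lit 635992)) (BT.leaf (nat_lit 635992)))))) (BT.node (nat_lit 4319750) (BT.node (nat_lit 4319685) (BT.node (nat_lit 4319683) (BT.node (nat_lit 4319682) (BT.leaf (nat_lit 635992)) (BT.leaf (nat_lit 689068))) (BT.node (nat_lit 4319684) (BT.leaf (nat_lit 689068)) (BT.leaf (nat_lit 690300)))) (BT.node (nat_lit 4319746) (BT.node (nat_lit 4319745) (BT.leaf (nat_lit 689068)) (BT.leaf (nat_lit 661752))) (BT.node (nat_lit 4319747) (BT.leaf (nat_lit 661752)) (BT.leaf (nat_lit 661752))))) (BT.node (nat_lit 4319813) (BT.node (nat_lit 4319752) (BT.node (nat_lit 4319751) (BT.leaf (nat_lit 661752)) (BT.leaf (nat_lit 661752))) (BT.node (nat_lit 4319810) (BT.leaf (nat_lit 661752)) (BT.leaf (nat_lit 746836)))) (BT.node (nat_lit 4319876) (BT.node (nat_lit 4319874) (BT.leaf (nat_lit 672316)) (BT.leaf (nat_lit 623756))) (BT.node (nat_lit 4319877) (BT.leaf (nat_lit 623756)) (BT.leaf (nat_lit 623756))))))) (BT.node (nat_lit 4320456) (BT.node (nat_lit 4320070) (BT.node (nat_lit 4319941) (BT.node (nat_lit 4319938) (BT.node (nat_lit 4319937) (BT.leaf (nat_lit 623756)) (BT.leaf (nat_lit 693868))) (BT.node (nat_lit 4319939) (BT.leaf (nat_lit 693868)) (BT.leaf (nat_lit 693868)))) (BT.node (nat_lit 4319943) (BT.node (nat_lit 4319942) (BT.leaf (nat_lit 693868)) (BT.leaf (nat_lit 693868))) (BT.node (nat_lit 4320069) (BT.leaf (nat_lit 693868)) (BT.leaf (nat_lit 645964))))) (BT.node (nat_lit 4320195) (BT.node (nat_lit 4320133) (BT.node (nat_lit 4320071) (BT.leaf (nat_lit 645964)) (BT.leaf (nat_lit 645964))) (BT.node (nat_lit 4320135) (BT.leaf (nat_lit 670976)) (BT.leaf (nat_lit 670976)))) (BT.node (nat_lit 4320261) (BT.node (nat_lit 4320197) (BT.leaf (nat_lit 645988)) (BT.leaf (nat_lit 645988))) (BT.node (nat_lit 4320449) (BT.leaf (nat_lit 634932)) (BT.leaf (nat_lit 672416)))))) (BT.node (nat_lit 4320706) (BT.node (nat_lit 4320520) (BT.node (nat_lit 4320516) (BT.node (nat_lit 4320513) (BT.leaf (nat_lit 672416)) (BT.leaf (nat_lit 629868))) (BT.node (nat_lit 4320517) (BT.leaf (nat_lit 629868)) (BT.leaf (nat_lit 629868)))) (BT.node (nat_lit 4320579) (BT.node (nat_lit 4320578) (BT.leaf (nat_lit 629868)) (BT.leaf (nat_lit 718544))) (BT.node (nat_lit 4320581) (BT.leaf (nat_lit 718544)) (BT.leaf (nat_lit 718544))))) (BT.node (nat_lit 4320712) (BT.node (nat_lit 4320709) (BT.node (nat_lit 4320707) (BT.leaf (nat_lit 647372)) (BT.leaf (nat_lit 647372))) (BT.node (nat_lit 4320710) (BT.leaf (nat_lit 690016)) (BT.leaf (nat_lit 690016)))) (BT.node (nat_lit 4320771) (BT.node (nat_lit 4320770) (BT.leaf (nat_lit 647372)) (BT.leaf (nat_lit 717904))) (BT.node (nat_lit 4320773) (BT.leaf (nat_lit 717904)) (BT.leaf (nat_lit 717904)))))))) (BT.node (nat_lit 4321733) (BT.node (nat_lit 4321350) (BT.node (nat_lit 4321028) (BT.node (nat_lit 4320840) (BT.node (nat_lit 4320835) (BT.node (nat_lit 4320834) (BT.leaf (nat_lit 717900)) (BT.leaf (nat_lit 717900))) (BT.node (nat_lit 4320839) (BT.leaf (nat_lit 717900)) (BT.leaf (nat_lit 717900)))) (BT.node (nat_lit 4320903) (BT.node (nat_lit 4320902) (BT.leaf (nat_lit 717900)) (BT.leaf (nat_lit 716100))) (BT.node (nat_lit 4320904) (BT.leaf (nat_lit 716100)) (BT.leaf (nat_lit 716100))))) (BT.node (nat_lit 4321221) (BT.node (nat_lit 4321156) (BT.node (nat_lit 4321029) (BT.leaf (nat_lit 644276)) (BT.leaf (nat_lit 644276))) (BT.node (nat_lit 4321159) (BT.leaf (nat_lit 674680)) (BT.leaf (nat_lit 718144)))) (BT.node (nat_lit 4321287) (BT.node (nat_lit 4321286) (BT.leaf (nat_lit 674684)) (BT.leaf (nat_lit 715124))) (BT.node (nat_lit 4321346) (BT.leaf (nat_lit 715124)) (BT.leaf (nat_lit 611956)))))) (BT.node (nat_lit 4321479) (BT.node (nat_lit 4321473) (BT.node (nat_lit 4321412) (BT.node (nat_lit 4321351) (BT.leaf (nat_lit 611956)) (BT.leaf (nat_lit 611956))) (BT.node (nat_lit 4321413) (BT.leaf (nat_lit 715076)) (BT.leaf (nat_lit 715076)))) (BT.node (nat_lit 4321475) (BT.node (nat_lit 4321474) (BT.leaf (nat_lit 715080)) (BT.leaf (nat_lit 715080))) (BT.node (nat_lit 4321478) (BT.leaf (nat_lit 715080)) (BT.leaf (nat_lit 715080))))) (BT.node (nat_lit 4321539) (BT.node (nat_lit 4321537) (BT.node (nat_lit 4321480) (BT.leaf (nat_lit 715080)) (BT.leaf (nat_lit 715080))) (BT.node (nat_lit 4321538) (BT.leaf (nat_lit 716092)) (BT.leaf (nat_lit 716092)))) (BT.node (nat_lit 4321544) (BT.node (nat_lit 4321540) (BT.leaf (nat_lit 716092)) (BT.leaf (nat_lit 716092))) (BT.node (nat_lit 4321732) (BT.leaf (nat_lit 716092)) (BT.leaf (nat_lit 676332))))))) (BT.node (nat_lit 4322053) (BT.node (nat_lit 4321921) (BT.node (nat_lit 4321799) (BT.node (nat_lit 4321797) (BT.node (nat_lit 4321795) (BT.leaf (nat_lit 670068)) (BT.leaf (nat_lit 608864))) (BT.node (nat_lit 4321798) (BT.leaf (nat_lit 670084)) (BT.leaf (nat_lit 608864)))) (BT.node (nat_lit 4321862) (BT.node (nat_lit 4321860) (BT.leaf (nat_lit 608864)) (BT.leaf (nat_lit 703180))) (BT.node (nat_lit 4321863) (BT.leaf (nat_lit 703180)) (BT.leaf (nat_lit 703180))))) (BT.node (nat_lit 4321987) (BT.node (nat_lit 4321928) (BT.node (nat_lit 4321925) (BT.leaf (nat_lit 676556)) (BT.leaf (nat_lit 609068))) (BT.node (nat_lit 4321985) (BT.leaf (nat_lit 676556)) (BT.leaf (nat_lit 625780)))) (BT.node (nat_lit 4321992) (BT.node (nat_lit 4321989) (BT.leaf (nat_lit 811724)) (BT.leaf (nat_lit 625780))) (BT.node (nat_lit 4322050) (BT.leaf (nat_lit 811724)) (BT.leaf (nat_lit 639624)))))) (BT.node (nat_lit 4322182) (BT.node (nat_lit 4322117) (BT.node (nat_lit 4322055) (BT.node (nat_lit 4322054) (BT.leaf (nat_lit 639624)) (BT.leaf (nat_lit 689140))) (BT.node (nat_lit 4322056) (BT.leaf (nat_lit 689140)) (BT.leaf (nat_lit 639624)))) (BT.node (nat_lit 4322119) (BT.node (nat_lit 4322118) (BT.leaf (nat_lit 770572)) (BT.leaf (nat_lit 770572))) (BT.node (nat_lit 4322181) (BT.leaf (nat_lit 692080)) (BT.leaf (nat_lit 688916))))) (BT.node (nat_lit 4322246) (BT.node (nat_lit 4322241) (BT.node (nat_lit 4322183) (BT.leaf (nat_lit 688916)) (BT.leaf (nat_lit 688916))) (BT.node (nat_lit 4322245) (BT.leaf (nat_lit 601144)) (BT.leaf (nat_lit 601144)))) (BT.node (nat_lit 4322308) (BT.node (nat_lit 4322247) (BT.leaf (nat_lit 770928)) (BT.leaf (nat_lit 770928))) (BT.node (nat_lit 4322312) (BT.leaf (nat_lit 715784)) (BT.leaf (nat_lit 707200))))))))) (BT.node (nat_lit 4325057) (BT.node (nat_lit 4324101) (BT.node (nat_lit 4323527) (BT.node (nat_lit 4323203) (BT.node (nat_lit 4323009) (BT.node (nat_lit 4322822) (BT.node (nat_lit 4322501) (BT.leaf (nat_lit 769512)) (BT.leaf (nat_lit 696584))) (BT.node (nat_lit 4322823) (BT.leaf (nat_lit 651740)) (BT.leaf (nat_lit 651740)))) (BT.node (nat_lit 4323076) (BT.node (nat_lit 4323013) (BT.leaf (nat_lit 818424)) (BT.leaf (nat_lit 629052))) (BT.node (nat_lit 4323077) (BT.leaf (nat_lit 685756)) (BT.leaf (nat_lit 685756))))) (BT.node (nat_lit 4323462) (BT.node (nat_lit 4323268) (BT.node (nat_lit 4323265) (BT.leaf (nat_lit 784356)) (BT.leaf (nat_lit 717688))) (BT.node (nat_lit 4323461) (BT.leaf (nat_lit 717688)) (BT.leaf (nat_lit 603216)))) (BT.node (nat_lit 4323525) (BT.node (nat_lit 4323463) (BT.leaf (nat_lit 603216)) (BT.leaf (nat_lit 603216))) (BT.node (nat_lit 4323526) (BT.leaf (nat_lit 770568)) (BT.leaf (nat_lit 620492)))))) (BT.node (nat_lit 4323716) (BT.node (nat_lit 4323650) (BT.node (nat_lit 4323588) (BT.node (nat_lit 4323587) (BT.leaf (nat_lit 770568)) (BT.leaf (nat_lit 770580))) (BT.node (nat_lit 4323589) (BT.leaf (nat_lit 692808)) (BT.leaf (nat_lit 692808)))) (BT.node (nat_lit 4323652) (BT.node (nat_lit 4323651) (BT.leaf (nat_lit 770584)) (BT.leaf (nat_lit 676088))) (BT.node (nat_lit 4323653) (BT.leaf (nat_lit 676088)) (BT.leaf (nat_lit 676088))))) (BT.node (nat_lit 4323783) (BT.node (nat_lit 4323718) (BT.node (nat_lit 4323717) (BT.leaf (nat_lit 666416)) (BT.leaf (nat_lit 609964))) (BT.node (nat_lit 4323720) (BT.leaf (nat_lit 609964)) (BT.leaf (nat_lit 666416)))) (BT.node (nat_lit 4323911) (BT.node (nat_lit 4323910) (BT.leaf (nat_lit 614376)) (BT.leaf (nat_lit 602552))) (BT.node (nat_lit 4323973) (BT.leaf (nat_lit 602552)) (BT.leaf (nat_lit 769928))))))) (BT.node (nat_lit 4324545) (BT.node (nat_lit 4324295) (BT.node (nat_lit 4324230) (BT.node (nat_lit 4324226) (BT.node (nat_lit 4324225) (BT.leaf (nat_lit 688972)) (BT.leaf (nat_lit 684248))) (BT.node (nat_lit 4324229) (BT.leaf (nat_lit 684248)) (BT.leaf (nat_lit 624364)))) (BT.node (nat_lit 4324290) (BT.node (nat_lit 4324289) (BT.leaf (nat_lit 684248)) (BT.leaf (nat_lit 624296))) (BT.node (nat_lit 4324294) (BT.leaf (nat_lit 624296)) (BT.leaf (nat_lit 643616))))) (BT.node (nat_lit 4324360) (BT.node (nat_lit 4324354) (BT.node (nat_lit 4324353) (BT.leaf (nat_lit 643616)) (BT.leaf (nat_lit 637060))) (BT.node (nat_lit 4324357) (BT.leaf (nat_lit 637060)) (BT.leaf (nat_lit 637060)))) (BT.node (nat_lit 4324486) (BT.node (nat_lit 4324485) (BT.leaf (nat_lit 637060)) (BT.leaf (nat_lit 695288))) (BT.node (nat_lit 4324487) (BT.leaf (nat_lit 695288)) (BT.leaf (nat_lit 695288)))))) (BT.node (nat_lit 4324613) (BT.node (nat_lit 4324551) (BT.node (nat_lit 4324547) (BT.node (nat_lit 4324546) (BT.leaf (nat_lit 601272)) (BT.leaf (nat_lit 601272))) (BT.node (nat_lit 4324550) (BT.leaf (nat_lit 601272)) (BT.leaf (nat_lit 601272)))) (BT.node (nat_lit 4324609) (BT.node (nat_lit 4324552) (BT.leaf (nat_lit 601272)) (BT.leaf (nat_lit 601272))) (BT.node (nat_lit 4324612) (BT.leaf (nat_lit 621048)) (BT.leaf (nat_lit 621048))))) (BT.node (nat_lit 4324870) (BT.node (nat_lit 4324801) (BT.node (nat_lit 4324616) (BT.leaf (nat_lit 621048)) (BT.leaf (nat_lit 621048))) (BT.node (nat_lit 4324804) (BT.leaf (nat_lit 639072)) (BT.leaf (nat_lit 639072)))) (BT.node (nat_lit 4324994) (BT.node (nat_lit 4324932) (BT.leaf (nat_lit 612328)) (BT.leaf (nat_lit 716304))) (BT.node (nat_lit 4324996) (BT.leaf (nat_lit 718524)) (BT.leaf (nat_lit 718524)))))))) (BT.node (nat_lit 4325825) (BT.node (nat_lit 4325445) (BT.node (nat_lit 4325314) (BT.node (nat_lit 4325187) (BT.node (nat_lit 4325128) (BT.node (nat_lit 4325064) (BT.leaf (nat_lit 759544)) (BT.leaf (nat_lit 759544))) (BT.node (nat_lit 4325186) (BT.leaf (nat_lit 759548)) (BT.leaf (nat_lit 618308)))) (BT.node (nat_lit 4325251) (BT.node (nat_lit 4325188) (BT.leaf (nat_lit 618308)) (BT.leaf (nat_lit 618308))) (BT.node (nat_lit 4325313) (BT.leaf (nat_lit 692404)) (BT.leaf (nat_lit 690684))))) (BT.node (nat_lit 4325379) (BT.node (nat_lit 4325316) (BT.node (nat_lit 4325315) (BT.leaf (nat_lit 733044)) (BT.leaf (nat_lit 733044))) (BT.node (nat_lit 4325317) (BT.leaf (nat_lit 690684)) (BT.leaf (nat_lit 690684)))) (BT.node (nat_lit 4325381) (BT.node (nat_lit 4325380) (BT.leaf (nat_lit 733048)) (BT.leaf (nat_lit 639084))) (BT.node (nat_lit 4325444) (BT.leaf (nat_lit 639084)) (BT.leaf (nat_lit 637812)))))) (BT.node (nat_lit 4325639) (BT.node (nat_lit 4325573) (BT.node (nat_lit 4325509) (BT.node (nat_lit 4325505) (BT.leaf (nat_lit 639092)) (BT.leaf (nat_lit 774576))) (BT.node (nat_lit 4325569) (BT.leaf (nat_lit 774576)) (BT.leaf (nat_lit 612612)))) (BT.node (nat_lit 4325633) (BT.node (nat_lit 4325576) (BT.leaf (nat_lit 612612)) (BT.leaf (nat_lit 612612))) (BT.node (nat_lit 4325638) (BT.leaf (nat_lit 629060)) (BT.leaf (nat_lit 629060))))) (BT.node (nat_lit 4325763) (BT.node (nat_lit 4325761) (BT.node (nat_lit 4325640) (BT.leaf (nat_lit 629060)) (BT.leaf (nat_lit 629060))) (BT.node (nat_lit 4325762) (BT.leaf (nat_lit 602544)) (BT.leaf (nat_lit 602544)))) (BT.node (nat_lit 4325765) (BT.node (nat_lit 4325764) (BT.leaf (nat_lit 602544)) (BT.leaf (nat_lit 602544))) (BT.node (nat_lit 4325768) (BT.leaf (nat_lit 602544)) (BT.leaf (nat_lit 602544))))))) (BT.node (nat_lit 4326599) (BT.node (nat_lit 4326150) (BT.node (nat_lit 4326023) (BT.node (nat_lit 4325827) (BT.node (nat_lit 4325826) (BT.leaf (nat_lit 665792)) (BT.leaf (nat_lit 665792))) (BT.node (nat_lit 4325832) (BT.leaf (nat_lit 665792)) (BT.leaf (nat_lit 665792)))) (BT.node (nat_lit 4326146) (BT.node (nat_lit 4326024) (BT.leaf (nat_lit 698436)) (BT.leaf (nat_lit 698436))) (BT.node (nat_lit 4326147) (BT.leaf (nat_lit 610960)) (BT.leaf (nat_lit 610960))))) (BT.node (nat_lit 4326279) (BT.node (nat_lit 4326213) (BT.node (nat_lit 4326151) (BT.leaf (nat_lit 610960)) (BT.leaf (nat_lit 610960))) (BT.node (nat_lit 4326214) (BT.leaf (nat_lit 620460)) (BT.leaf (nat_lit 621748)))) (BT.node (nat_lit 4326593) (BT.node (nat_lit 4326469) (BT.leaf (nat_lit 601264)) (BT.leaf (nat_lit 618300))) (BT.node (nat_lit 4326598) (BT.leaf (nat_lit 601568)) (BT.leaf (nat_lit 601568)))))) (BT.node (nat_lit 4327041) (BT.node (nat_lit 4326916) (BT.node (nat_lit 4326852) (BT.node (nat_lit 4326664) (BT.leaf (nat_lit 601568)) (BT.leaf (nat_lit 748056))) (BT.node (nat_lit 4326856) (BT.leaf (nat_lit 641108)) (BT.leaf (nat_lit 641108)))) (BT.node (nat_lit 4326980) (BT.node (nat_lit 4326920) (BT.leaf (nat_lit 622252)) (BT.leaf (nat_lit 753500))) (BT.node (nat_lit 4326981) (BT.leaf (nat_lit 641064)) (BT.leaf (nat_lit 641064))))) (BT.node (nat_lit 4327176) (BT.node (nat_lit 4327171) (BT.node (nat_lit 4327112) (BT.leaf (nat_lit 734568)) (BT.leaf (nat_lit 734572))) (BT.node (nat_lit 4327173) (BT.leaf (nat_lit 622204)) (BT.leaf (nat_lit 601324)))) (BT.node (nat_lit 4327236) (BT.node (nat_lit 4327235) (BT.leaf (nat_lit 622204)) (BT.leaf (nat_lit 622208))) (BT.node (nat_lit 4327240) (BT.leaf (nat_lit 651668)) (BT.leaf (nat_lit 622208)))))))))) (BT.node (nat_lit 4332740) (BT.node (nat_lit 4329606) (BT.node (nat_lit 4328194) (BT.node (nat_lit 4327686) (BT.node (nat_lit 4327431) (BT.node (nat_lit 4327426) (BT.node (nat_lit 4327301) (BT.node (nat_lit 4327299) (BT.leaf (nat_lit 690472)) (BT.leaf (nat_lit 690472))) (BT.node (nat_lit 4327304) (BT.leaf (nat_lit 690508)) (BT.leaf (nat_lit 690472)))) (BT.node (nat_lit 4327429) (BT.node (nat_lit 4327427) (BT.leaf (nat_lit 675152)) (BT.leaf (nat_lit 675152))) (BT.node (nat_lit 4327430) (BT.leaf (nat_lit 675152)) (BT.leaf (nat_lit 675152))))) (BT.node (nat_lit 4327556) (BT.node (nat_lit 4327554) (BT.node (nat_lit 4327553) (BT.leaf (nat_lit 675152)) (BT.leaf (nat_lit 601796))) (BT.node (nat_lit 4327555) (BT.leaf (nat_lit 601796)) (BT.leaf (nat_lit 601796)))) (BT.node (nat_lit 4327681) (BT.node (nat_lit 4327557) (BT.leaf (nat_lit 669456)) (BT.leaf (nat_lit 669456))) (BT.node (nat_lit 4327683) (BT.leaf (nat_lit 741012)) (BT.leaf (nat_lit 699156)))))) (BT.node (nat_lit 4327811) (BT.node (nat_lit 4327750) (BT.node (nat_lit 4327745) (BT.node (nat_lit 4327687) (BT.leaf (nat_lit 699156)) (BT.leaf (nat_lit 699156))) (BT.node (nat_lit 4327747) (BT.leaf (nat_lit 734588)) (BT.leaf (nat_lit 696128)))) (BT.node (nat_lit 4327809) (BT.node (nat_lit 4327752) (BT.leaf (nat_lit 696128)) (BT.leaf (nat_lit 696128))) (BT.node (nat_lit 4327810) (BT.leaf (nat_lit 699148)) (BT.leaf (nat_lit 699148))))) (BT.node (nat_lit 4327877) (BT.node (nat_lit 4327815) (BT.node (nat_lit 4327814) (BT.leaf (nat_lit 699148)) (BT.leaf (nat_lit 669524))) (BT.node (nat_lit 4327816) (BT.leaf (nat_lit 669524)) (BT.leaf (nat_lit 699148)))) (BT.node (nat_lit 4327879) (BT.node (nat_lit 4327878) (BT.leaf (nat_lit 816152)) (BT.leaf (nat_lit 601820))) (BT.node (nat_lit 4327944) (BT.leaf (nat_lit 601820)) (BT.leaf (nat_lit 816156))))))) (BT.node (nat_lit 4328647) (BT.node (nat_lit 4328389) (BT.node (nat_lit 4328385) (BT.node (nat_lit 4328200) (BT.node (nat_lit 4328196) (BT.leaf (nat_lit 716312)) (BT.leaf (nat_lit 716312))) (BT.node (nat_lit 4328324) (BT.leaf (nat_lit 644488)) (BT.leaf (nat_lit 698620)))) (BT.node (nat_lit 4328387) (BT.node (nat_lit 4328386) (BT.leaf (nat_lit 629044)) (BT.leaf (nat_lit 762652))) (BT.node (nat_lit 4328388) (BT.leaf (nat_lit 762652)) (BT.leaf (nat_lit 629044))))) (BT.node (nat_lit 4328641) (BT.node (nat_lit 4328450) (BT.node (nat_lit 4328449) (BT.leaf (nat_lit 629044)) (BT.leaf (nat_lit 762656))) (BT.node (nat_lit 4328451) (BT.leaf (nat_lit 762656)) (BT.leaf (nat_lit 762656)))) (BT.node (nat_lit 4328643) (BT.node (nat_lit 4328642) (BT.leaf (nat_lit 681008)) (BT.leaf (nat_lit 767080))) (BT.node (nat_lit 4328646) (BT.leaf (nat_lit 624620)) (BT.leaf (nat_lit 767080)))))) (BT.node (nat_lit 4329032) (BT.node (nat_lit 4329027) (BT.node (nat_lit 4328900) (BT.node (nat_lit 4328899) (BT.leaf (nat_lit 767080)) (BT.leaf (nat_lit 698616))) (BT.node (nat_lit 4329026) (BT.leaf (nat_lit 698616)) (BT.leaf (nat_lit 643748)))) (BT.node (nat_lit 4329030) (BT.node (nat_lit 4329028) (BT.leaf (nat_lit 604724)) (BT.leaf (nat_lit 643748))) (BT.node (nat_lit 4329031) (BT.leaf (nat_lit 604724)) (BT.leaf (nat_lit 604724))))) (BT.node (nat_lit 4329285) (BT.node (nat_lit 4329221) (BT.node (nat_lit 4329093) (BT.leaf (nat_lit 604724)) (BT.leaf (nat_lit 738828))) (BT.node (nat_lit 4329284) (BT.leaf (nat_lit 612340)) (BT.leaf (nat_lit 621908)))) (BT.node (nat_lit 4329476) (BT.node (nat_lit 4329349) (BT.leaf (nat_lit 621908)) (BT.leaf (nat_lit 734604))) (BT.node (nat_lit 4329477) (BT.leaf (nat_lit 688868)) (BT.leaf (nat_lit 688868)))))))) (BT.node (nat_lit 4331394) (BT.node (nat_lit 4330500) (BT.node (nat_lit 4330178) (BT.node (nat_lit 4330050) (BT.node (nat_lit 4329796) (BT.node (nat_lit 4329607) (BT.leaf (nat_lit 706536)) (BT.leaf (nat_lit 706536))) (BT.node (nat_lit 4329924) (BT.leaf (nat_lit 806592)) (BT.leaf (nat_lit 615184)))) (BT.node (nat_lit 4330053) (BT.node (nat_lit 4330052) (BT.leaf (nat_lit 738692)) (BT.leaf (nat_lit 670892))) (BT.node (nat_lit 4330114) (BT.leaf (nat_lit 670892)) (BT.leaf (nat_lit 738696))))) (BT.node (nat_lit 4330244) (BT.node (nat_lit 4330182) (BT.node (nat_lit 4330179) (BT.leaf (nat_lit 721400)) (BT.leaf (nat_lit 721400))) (BT.node (nat_lit 4330183) (BT.leaf (nat_lit 721400)) (BT.leaf (nat_lit 721400)))) (BT.node (nat_lit 4330435) (BT.node (nat_lit 4330308) (BT.leaf (nat_lit 719572)) (BT.leaf (nat_lit 685672))) (BT.node (nat_lit 4330438) (BT.leaf (nat_lit 801008)) (BT.leaf (nat_lit 801008)))))) (BT.node (nat_lit 4331075) (BT.node (nat_lit 4330628) (BT.node (nat_lit 4330568) (BT.node (nat_lit 4330504) (BT.leaf (nat_lit 625868)) (BT.leaf (nat_lit 625868))) (BT.node (nat_lit 4330625) (BT.leaf (nat_lit 611776)) (BT.leaf (nat_lit 602984)))) (BT.node (nat_lit 4330948) (BT.node (nat_lit 4330692) (BT.leaf (nat_lit 618380)) (BT.leaf (nat_lit 604496))) (BT.node (nat_lit 4331012) (BT.leaf (nat_lit 706876)) (BT.leaf (nat_lit 638008))))) (BT.node (nat_lit 4331205) (BT.node (nat_lit 4331140) (BT.node (nat_lit 4331080) (BT.leaf (nat_lit 643872)) (BT.leaf (nat_lit 686096))) (BT.node (nat_lit 4331204) (BT.leaf (nat_lit 652900)) (BT.leaf (nat_lit 707892)))) (BT.node (nat_lit 4331267) (BT.node (nat_lit 4331265) (BT.leaf (nat_lit 620468)) (BT.leaf (nat_lit 622104))) (BT.node (nat_lit 4331393) (BT.leaf (nat_lit 622104)) (BT.leaf (nat_lit 614276))))))) (BT.node (nat_lit 4332100) (BT.node (nat_lit 4331720) (BT.node (nat_lit 4331400) (BT.node (nat_lit 4331398) (BT.node (nat_lit 4331397) (BT.leaf (nat_lit 614276)) (BT.leaf (nat_lit 614276))) (BT.node (nat_lit 4331399) (BT.leaf (nat_lit 614276)) (BT.leaf (nat_lit 614276)))) (BT.node (nat_lit 4331713) (BT.node (nat_lit 4331525) (BT.leaf (nat_lit 614276)) (BT.leaf (nat_lit 691904))) (BT.node (nat_lit 4331717) (BT.leaf (nat_lit 669484)) (BT.leaf (nat_lit 669484))))) (BT.node (nat_lit 4331782) (BT.node (nat_lit 4331779) (BT.node (nat_lit 4331777) (BT.leaf (nat_lit 669484)) (BT.leaf (nat_lit 655592))) (BT.node (nat_lit 4331780) (BT.leaf (nat_lit 655592)) (BT.leaf (nat_lit 641376)))) (BT.node (nat_lit 4331906) (BT.node (nat_lit 4331842) (BT.leaf (nat_lit 655592)) (BT.leaf (nat_lit 784612))) (BT.node (nat_lit 4332036) (BT.leaf (nat_lit 784616)) (BT.leaf (nat_lit 650976)))))) (BT.node (nat_lit 4332421) (BT.node (nat_lit 4332231) (BT.node (nat_lit 4332168) (BT.node (nat_lit 4332164) (BT.leaf (nat_lit 645920)) (BT.leaf (nat_lit 723192))) (BT.node (nat_lit 4332230) (BT.leaf (nat_lit 723192)) (BT.leaf (nat_lit 618128)))) (BT.node (nat_lit 4332355) (BT.node (nat_lit 4332291) (BT.leaf (nat_lit 618128)) (BT.leaf (nat_lit 681456))) (BT.node (nat_lit 4332359) (BT.leaf (nat_lit 705696)) (BT.leaf (nat_lit 705696))))) (BT.node (nat_lit 4332551) (BT.node (nat_lit 4332549) (BT.node (nat_lit 4332482) (BT.leaf (nat_lit 680884)) (BT.leaf (nat_lit 641428))) (BT.node (nat_lit 4332550) (BT.leaf (nat_lit 732876)) (BT.leaf (nat_lit 625988)))) (BT.node (nat_lit 4332611) (BT.node (nat_lit 4332609) (BT.leaf (nat_lit 736784)) (BT.leaf (nat_lit 625888))) (BT.node (nat_lit 4332613) (BT.leaf (nat_lit 690984)) (BT.leaf (nat_lit 628636))))))))) (BT.node (nat_lit 4335617) (BT.node (nat_lit 4334663) (BT.node (nat_lit 4333894) (BT.node (nat_lit 4333509) (BT.node (nat_lit 4333060) (BT.node (nat_lit 4332932) (BT.node (nat_lit 4332804) (BT.leaf (nat_lit 609740)) (BT.leaf (nat_lit 657764))) (BT.node (nat_lit 4332996) (BT.leaf (nat_lit 618828)) (BT.leaf (nat_lit 609140)))) (BT.node (nat_lit 4333128) (BT.node (nat_lit 4333127) (BT.leaf (nat_lit 609092)) (BT.leaf (nat_lit 656376))) (BT.node (nat_lit 4333316) (BT.leaf (nat_lit 656376)) (BT.leaf (nat_lit 677412))))) (BT.node (nat_lit 4333828) (BT.node (nat_lit 4333700) (BT.node (nat_lit 4333636) (BT.leaf (nat_lit 601984)) (BT.leaf (nat_lit 671464))) (BT.node (nat_lit 4333764) (BT.leaf (nat_lit 660460)) (BT.leaf (nat_lit 698792)))) (BT.node (nat_lit 4333890) (BT.node (nat_lit 4333832) (BT.leaf (nat_lit 765384)) (BT.leaf (nat_lit 765384))) (BT.node (nat_lit 4333892) (BT.leaf (nat_lit 624248)) (BT.leaf (nat_lit 644848)))))) (BT.node (nat_lit 4334342) (BT.node (nat_lit 4334023) (BT.node (nat_lit 4334021) (BT.node (nat_lit 4333956) (BT.leaf (nat_lit 623256)) (BT.leaf (nat_lit 689968))) (BT.node (nat_lit 4334022) (BT.leaf (nat_lit 765056)) (BT.leaf (nat_lit 622216)))) (BT.node (nat_lit 4334150) (BT.node (nat_lit 4334085) (BT.leaf (nat_lit 622216)) (BT.leaf (nat_lit 696452))) (BT.node (nat_lit 4334151) (BT.leaf (nat_lit 602136)) (BT.leaf (nat_lit 602136))))) (BT.node (nat_lit 4334468) (BT.node (nat_lit 4334406) (BT.node (nat_lit 4334343) (BT.leaf (nat_lit 632332)) (BT.leaf (nat_lit 632332))) (BT.node (nat_lit 4334407) (BT.leaf (nat_lit 713520)) (BT.leaf (nat_lit 713520)))) (BT.node (nat_lit 4334661) (BT.node (nat_lit 4334599) (BT.leaf (nat_lit 648584)) (BT.leaf (nat_lit 604060))) (BT.node (nat_lit 4334662) (BT.leaf (nat_lit 657896)) (BT.leaf (nat_lit 661448))))))) (BT.node (nat_lit 4335042) (BT.node (nat_lit 4334789) (BT.node (nat_lit 4334724) (BT.node (nat_lit 4334722) (BT.node (nat_lit 4334721) (BT.leaf (nat_lit 661448)) (BT.leaf (nat_lit 664540))) (BT.node (nat_lit 4334723) (BT.leaf (nat_lit 674384)) (BT.leaf (nat_lit 674384)))) (BT.node (nat_lit 4334727) (BT.node (nat_lit 4334726) (BT.leaf (nat_lit 664540)) (BT.leaf (nat_lit 674384))) (BT.node (nat_lit 4334788) (BT.leaf (nat_lit 674384)) (BT.leaf (nat_lit 699932))))) (BT.node (nat_lit 4334981) (BT.node (nat_lit 4334919) (BT.node (nat_lit 4334918) (BT.leaf (nat_lit 691204)) (BT.leaf (nat_lit 715464))) (BT.node (nat_lit 4334920) (BT.leaf (nat_lit 715464)) (BT.leaf (nat_lit 715464)))) (BT.node (nat_lit 4334983) (BT.node (nat_lit 4334982) (BT.leaf (nat_lit 693120)) (BT.leaf (nat_lit 693120))) (BT.node (nat_lit 4335041) (BT.leaf (nat_lit 693120)) (BT.leaf (nat_lit 655256)))))) (BT.node (nat_lit 4335171) (BT.node (nat_lit 4335109) (BT.node (nat_lit 4335047) (BT.node (nat_lit 4335046) (BT.leaf (nat_lit 655256)) (BT.leaf (nat_lit 655256))) (BT.node (nat_lit 4335048) (BT.leaf (nat_lit 655256)) (BT.leaf (nat_lit 642820)))) (BT.node (nat_lit 4335169) (BT.node (nat_lit 4335112) (BT.leaf (nat_lit 648096)) (BT.leaf (nat_lit 660840))) (BT.node (nat_lit 4335170) (BT.leaf (nat_lit 663464)) (BT.leaf (nat_lit 663464))))) (BT.node (nat_lit 4335301) (BT.node (nat_lit 4335175) (BT.node (nat_lit 4335174) (BT.leaf (nat_lit 663464)) (BT.leaf (nat_lit 663464))) (BT.node (nat_lit 4335240) (BT.leaf (nat_lit 663464)) (BT.leaf (nat_lit 718216)))) (BT.node (nat_lit 4335430) (BT.node (nat_lit 4335302) (BT.leaf (nat_lit 609372)) (BT.leaf (nat_lit 609372))) (BT.node (nat_lit 4335431) (BT.leaf (nat_lit 702948)) (BT.leaf (nat_lit 702948)))))))) (BT.node (nat_lit 4336712) (BT.node (nat_lit 4336072) (BT.node (nat_lit 4335878) (BT.node (nat_lit 4335810) (BT.node (nat_lit 4335623) (BT.node (nat_lit 4335622) (BT.leaf (nat_lit 663108)) (BT.leaf (nat_lit 663108))) (BT.node (nat_lit 4335748) (BT.leaf (nat_lit 663108)) (BT.leaf (nat_lit 634076)))) (BT.node (nat_lit 4335814) (BT.node (nat_lit 4335811) (BT.leaf (nat_lit 700016)) (BT.leaf (nat_lit 700016))) (BT.node (nat_lit 4335815) (BT.leaf (nat_lit 700016)) (BT.leaf (nat_lit 700016))))) (BT.node (nat_lit 4336008) (BT.node (nat_lit 4335942) (BT.node (nat_lit 4335879) (BT.leaf (nat_lit 603916)) (BT.leaf (nat_lit 603916))) (BT.node (nat_lit 4335943) (BT.leaf (nat_lit 681732)) (BT.leaf (nat_lit 681732)))) (BT.node (nat_lit 4336070) (BT.node (nat_lit 4336066) (BT.leaf (nat_lit 634248)) (BT.leaf (nat_lit 619296))) (BT.node (nat_lit 4336071) (BT.leaf (nat_lit 634036)) (BT.leaf (nat_lit 634036)))))) (BT.node (nat_lit 4336456) (BT.node (nat_lit 4336323) (BT.node (nat_lit 4336193) (BT.node (nat_lit 4336131) (BT.leaf (nat_lit 619296)) (BT.leaf (nat_lit 740504))) (BT.node (nat_lit 4336322) (BT.leaf (nat_lit 721264)) (BT.leaf (nat_lit 691420)))) (BT.node (nat_lit 4336327) (BT.node (nat_lit 4336326) (BT.leaf (nat_lit 691420)) (BT.leaf (nat_lit 691420))) (BT.node (nat_lit 4336389) (BT.leaf (nat_lit 691420)) (BT.leaf (nat_lit 642872))))) (BT.node (nat_lit 4336644) (BT.node (nat_lit 4336582) (BT.node (nat_lit 4336581) (BT.leaf (nat_lit 712952)) (BT.leaf (nat_lit 662392))) (BT.node (nat_lit 4336583) (BT.leaf (nat_lit 662392)) (BT.leaf (nat_lit 662392)))) (BT.node (nat_lit 4336648) (BT.node (nat_lit 4336645) (BT.leaf (nat_lit 623056)) (BT.leaf (nat_lit 623056))) (BT.node (nat_lit 4336708) (BT.leaf (nat_lit 623056)) (BT.leaf (nat_lit 635664))))))) (BT.node (nat_lit 4337607) (BT.node (nat_lit 4337159) (BT.node (nat_lit 4336901) (BT.node (nat_lit 4336833) (BT.node (nat_lit 4336775) (BT.leaf (nat_lit 662396)) (BT.leaf (nat_lit 675304))) (BT.node (nat_lit 4336900) (BT.leaf (nat_lit 720312)) (BT.leaf (nat_lit 685036)))) (BT.node (nat_lit 4337029) (BT.node (nat_lit 4337025) (BT.leaf (nat_lit 685036)) (BT.leaf (nat_lit 668556))) (BT.node (nat_lit 4337158) (BT.leaf (nat_lit 668556)) (BT.leaf (nat_lit 681932))))) (BT.node (nat_lit 4337412) (BT.node (nat_lit 4337346) (BT.node (nat_lit 4337345) (BT.leaf (nat_lit 681932)) (BT.leaf (nat_lit 708932))) (BT.node (nat_lit 4337351) (BT.leaf (nat_lit 708932)) (BT.leaf (nat_lit 708932)))) (BT.node (nat_lit 4337605) (BT.node (nat_lit 4337540) (BT.leaf (nat_lit 619188)) (BT.leaf (nat_lit 708936))) (BT.node (nat_lit 4337606) (BT.leaf (nat_lit 708940)) (BT.leaf (nat_lit 720228)))))) (BT.node (nat_lit 4338053) (BT.node (nat_lit 4337860) (BT.node (nat_lit 4337672) (BT.node (nat_lit 4337668) (BT.leaf (nat_lit 720228)) (BT.leaf (nat_lit 667600))) (BT.node (nat_lit 4337735) (BT.leaf (nat_lit 683568)) (BT.leaf (nat_lit 722040)))) (BT.node (nat_lit 4338049) (BT.node (nat_lit 4337921) (BT.leaf (nat_lit 804052)) (BT.leaf (nat_lit 804056))) (BT.node (nat_lit 4338052) (BT.leaf (nat_lit 676852)) (BT.leaf (nat_lit 676856))))) (BT.node (nat_lit 4338437) (BT.node (nat_lit 4338310) (BT.node (nat_lit 4338183) (BT.leaf (nat_lit 676852)) (BT.leaf (nat_lit 617948))) (BT.node (nat_lit 4338311) (BT.leaf (nat_lit 647352)) (BT.leaf (nat_lit 647352)))) (BT.node (nat_lit 4338439) (BT.node (nat_lit 4338438) (BT.leaf (nat_lit 745136)) (BT.leaf (nat_lit 745136))) (BT.node (nat_lit 4338561) (BT.leaf (nat_lit 602848)) (BT.leaf (nat_lit 619992)))))))))))) (BT.node (nat_lit 4356998) (BT.node (nat_lit 4347779) (BT.node (nat_lit 4343175) (BT.node (nat_lit 4340549) (BT.node (nat_lit 4339656) (BT.node (nat_lit 4339141) (BT.node (nat_lit 4338695) (BT.node (nat_lit 4338630) (BT.node (nat_lit 4338564) (BT.node (nat_lit 4338563) (BT.leaf (nat_lit 619992)) (BT.leaf (nat_lit 619992))) (BT.node (nat_lit 4338565) (BT.leaf (nat_lit 619992)) (BT.leaf (nat_lit 619992)))) (BT.node (nat_lit 4338693) (BT.node (nat_lit 4338632) (BT.leaf (nat_lit 645708)) (BT.leaf (nat_lit 645708))) (BT.node (nat_lit 4338694) (BT.leaf (nat_lit 692284)) (BT.leaf (nat_lit 692284))))) (BT.node (nat_lit 4338948) (BT.node (nat_lit 4338820) (BT.node (nat_lit 4338819) (BT.leaf (nat_lit 692284)) (BT.leaf (nat_lit 694044))) (BT.node (nat_lit 4338821) (BT.leaf (nat_lit 685412)) (BT.leaf (nat_lit 694044)))) (BT.node (nat_lit 4339013) (BT.node (nat_lit 4338949) (BT.leaf (nat_lit 607176)) (BT.leaf (nat_lit 777580))) (BT.node (nat_lit 4339079) (BT.leaf (nat_lit 782032)) (BT.leaf (nat_lit 713660)))))) (BT.node (nat_lit 4339462) (BT.node (nat_lit 4339268) (BT.node (nat_lit 4339266) (BT.node (nat_lit 4339203) (BT.leaf (nat_lit 609972)) (BT.leaf (nat_lit 632328))) (BT.node (nat_lit 4339267) (BT.leaf (nat_lit 786696)) (BT.leaf (nat_lit 786696)))) (BT.node (nat_lit 4339335) (BT.node (nat_lit 4339334) (BT.leaf (nat_lit 617708)) (BT.leaf (nat_lit 678612))) (BT.node (nat_lit 4339461) (BT.leaf (nat_lit 678612)) (BT.leaf (nat_lit 645164))))) (BT.node (nat_lit 4339590) (BT.node (nat_lit 4339586) (BT.node (nat_lit 4339463) (BT.leaf (nat_lit 619932)) (BT.leaf (nat_lit 645164))) (BT.node (nat_lit 4339587) (BT.leaf (nat_lit 747128)) (BT.leaf (nat_lit 747128)))) (BT.node (nat_lit 4339654) (BT.node (nat_lit 4339591) (BT.leaf (nat_lit 747128)) (BT.leaf (nat_lit 747128))) (BT.node (nat_lit 4339655) (BT.leaf (nat_lit 705600)) (BT.leaf (nat_lit 705600))))))) (BT.node (nat_lit 4340163) (BT.node (nat_lit 4339973) (BT.node (nat_lit 4339907) (BT.node (nat_lit 4339719) (BT.node (nat_lit 4339718) (BT.leaf (nat_lit 705600)) (BT.leaf (nat_lit 721832))) (BT.node (nat_lit 4339843) (BT.leaf (nat_lit 721832)) (BT.leaf (nat_lit 659108)))) (BT.node (nat_lit 4339909) (BT.node (nat_lit 4339908) (BT.leaf (nat_lit 675204)) (BT.leaf (nat_lit 675204))) (BT.node (nat_lit 4339912) (BT.leaf (nat_lit 626100)) (BT.leaf (nat_lit 675204))))) (BT.node (nat_lit 4340037) (BT.node (nat_lit 4339975) (BT.node (nat_lit 4339974) (BT.leaf (nat_lit 620936)) (BT.leaf (nat_lit 620936))) (BT.node (nat_lit 4340033) (BT.leaf (nat_lit 620936)) (BT.leaf (nat_lit 646924)))) (BT.node (nat_lit 4340039) (BT.node (nat_lit 4340038) (BT.leaf (nat_lit 646924)) (BT.leaf (nat_lit 646924))) (BT.node (nat_lit 4340100) (BT.leaf (nat_lit 646924)) (BT.leaf (nat_lit 716244)))))) (BT.node (nat_lit 4340294) (BT.node (nat_lit 4340227) (BT.node (nat_lit 4340167) (BT.node (nat_lit 4340166) (BT.leaf (nat_lit 711128)) (BT.leaf (nat_lit 711128))) (BT.node (nat_lit 4340225) (BT.leaf (nat_lit 711128)) (BT.leaf (nat_lit 689408)))) (BT.node (nat_lit 4340290) (BT.node (nat_lit 4340228) (BT.leaf (nat_lit 689408)) (BT.leaf (nat_lit 689408))) (BT.node (nat_lit 4340291) (BT.leaf (nat_lit 665716)) (BT.leaf (nat_lit 736412))))) (BT.node (nat_lit 4340421) (BT.node (nat_lit 4340354) (BT.node (nat_lit 4340295) (BT.leaf (nat_lit 736412)) (BT.leaf (nat_lit 665716))) (BT.node (nat_lit 4340356) (BT.leaf (nat_lit 656252)) (BT.leaf (nat_lit 647128)))) (BT.node (nat_lit 4340423) (BT.node (nat_lit 4340422) (BT.leaf (nat_lit 640092)) (BT.leaf (nat_lit 640092))) (BT.node (nat_lit 4340487) (BT.leaf (nat_lit 640092)) (BT.leaf (nat_lit 686084)))))))) (BT.node (nat_lit 4341570) (BT.node (nat_lit 4341062) (BT.node (nat_lit 4340680) (BT.node (nat_lit 4340615) (BT.node (nat_lit 4340551) (BT.node (nat_lit 4340550) (BT.leaf (nat_lit 625264)) (BT.leaf (nat_lit 625264))) (BT.node (nat_lit 4340614) (BT.leaf (nat_lit 625264)) (BT.leaf (nat_lit 638028)))) (BT.node (nat_lit 4340675) (BT.node (nat_lit 4340673) (BT.leaf (nat_lit 638028)) (BT.leaf (nat_lit 672336))) (BT.node (nat_lit 4340677) (BT.leaf (nat_lit 625316)) (BT.leaf (nat_lit 625316))))) (BT.node (nat_lit 4340936) (BT.node (nat_lit 4340871) (BT.node (nat_lit 4340870) (BT.leaf (nat_lit 672336)) (BT.leaf (nat_lit 688096))) (BT.node (nat_lit 4340932) (BT.leaf (nat_lit 688096)) (BT.leaf (nat_lit 636936)))) (BT.node (nat_lit 4340997) (BT.node (nat_lit 4340996) (BT.leaf (nat_lit 636936)) (BT.leaf (nat_lit 710160))) (BT.node (nat_lit 4341000) (BT.leaf (nat_lit 710160)) (BT.leaf (nat_lit 619800)))))) (BT.node (nat_lit 4341192) (BT.node (nat_lit 4341186) (BT.node (nat_lit 4341125) (BT.node (nat_lit 4341063) (BT.leaf (nat_lit 659560)) (BT.leaf (nat_lit 659560))) (BT.node (nat_lit 4341127) (BT.leaf (nat_lit 728856)) (BT.leaf (nat_lit 728856)))) (BT.node (nat_lit 4341190) (BT.node (nat_lit 4341187) (BT.leaf (nat_lit 678624)) (BT.leaf (nat_lit 678624))) (BT.node (nat_lit 4341191) (BT.leaf (nat_lit 678624)) (BT.leaf (nat_lit 678624))))) (BT.node (nat_lit 4341379) (BT.node (nat_lit 4341317) (BT.node (nat_lit 4341316) (BT.leaf (nat_lit 678624)) (BT.leaf (nat_lit 700412))) (BT.node (nat_lit 4341378) (BT.leaf (nat_lit 700412)) (BT.leaf (nat_lit 605636)))) (BT.node (nat_lit 4341444) (BT.node (nat_lit 4341380) (BT.leaf (nat_lit 605636)) (BT.leaf (nat_lit 605636))) (BT.node (nat_lit 4341569) (BT.leaf (nat_lit 764732)) (BT.leaf (nat_lit 656628))))))) (BT.node (nat_lit 4342341) (BT.node (nat_lit 4341958) (BT.node (nat_lit 4341890) (BT.node (nat_lit 4341574) (BT.node (nat_lit 4341571) (BT.leaf (nat_lit 656628)) (BT.leaf (nat_lit 656628))) (BT.node (nat_lit 4341575) (BT.leaf (nat_lit 656628)) (BT.leaf (nat_lit 656628)))) (BT.node (nat_lit 4341895) (BT.node (nat_lit 4341894) (BT.leaf (nat_lit 643788)) (BT.leaf (nat_lit 643788))) (BT.node (nat_lit 4341896) (BT.leaf (nat_lit 643788)) (BT.leaf (nat_lit 643788))))) (BT.node (nat_lit 4342215) (BT.node (nat_lit 4342020) (BT.node (nat_lit 4341960) (BT.leaf (nat_lit 685020)) (BT.leaf (nat_lit 685020))) (BT.node (nat_lit 4342210) (BT.leaf (nat_lit 712568)) (BT.leaf (nat_lit 673800)))) (BT.node (nat_lit 4342279) (BT.node (nat_lit 4342278) (BT.leaf (nat_lit 673800)) (BT.leaf (nat_lit 702572))) (BT.node (nat_lit 4342340) (BT.leaf (nat_lit 702572)) (BT.leaf (nat_lit 611072)))))) (BT.node (nat_lit 4342980) (BT.node (nat_lit 4342536) (BT.node (nat_lit 4342531) (BT.node (nat_lit 4342529) (BT.leaf (nat_lit 611072)) (BT.leaf (nat_lit 789164))) (BT.node (nat_lit 4342535) (BT.leaf (nat_lit 633488)) (BT.leaf (nat_lit 633488)))) (BT.node (nat_lit 4342724) (BT.node (nat_lit 4342600) (BT.leaf (nat_lit 633488)) (BT.leaf (nat_lit 789172))) (BT.node (nat_lit 4342979) (BT.leaf (nat_lit 754872)) (BT.leaf (nat_lit 723128))))) (BT.node (nat_lit 4343109) (BT.node (nat_lit 4343045) (BT.node (nat_lit 4342984) (BT.leaf (nat_lit 677708)) (BT.leaf (nat_lit 723128))) (BT.node (nat_lit 4343107) (BT.leaf (nat_lit 668988)) (BT.leaf (nat_lit 696692)))) (BT.node (nat_lit 4343173) (BT.node (nat_lit 4343170) (BT.leaf (nat_lit 696692)) (BT.leaf (nat_lit 688160))) (BT.node (nat_lit 4343174) (BT.leaf (nat_lit 688160)) (BT.leaf (nat_lit 688160))))))))) (BT.node (nat_lit 4344963) (BT.node (nat_lit 4343941) (BT.node (nat_lit 4343560) (BT.node (nat_lit 4343364) (BT.node (nat_lit 4343240) (BT.node (nat_lit 4343235) (BT.node (nat_lit 4343176) (BT.leaf (nat_lit 688160)) (BT.leaf (nat_lit 688160))) (BT.node (nat_lit 4343239) (BT.leaf (nat_lit 633500)) (BT.leaf (nat_lit 633500)))) (BT.node (nat_lit 4343301) (BT.node (nat_lit 4343300) (BT.leaf (nat_lit 633500)) (BT.leaf (nat_lit 667276))) (BT.node (nat_lit 4343304) (BT.leaf (nat_lit 663496)) (BT.leaf (nat_lit 663496))))) (BT.node (nat_lit 4343431) (BT.node (nat_lit 4343368) (BT.node (nat_lit 4343365) (BT.leaf (nat_lit 634516)) (BT.leaf (nat_lit 747232))) (BT.node (nat_lit 4343430) (BT.leaf (nat_lit 747232)) (BT.leaf (nat_lit 616640)))) (BT.node (nat_lit 4343555) (BT.node (nat_lit 4343496) (BT.leaf (nat_lit 616640)) (BT.leaf (nat_lit 617272))) (BT.node (nat_lit 4343557) (BT.leaf (nat_lit 629612)) (BT.leaf (nat_lit 629612)))))) (BT.node (nat_lit 4343749) (BT.node (nat_lit 4343685) (BT.node (nat_lit 4343620) (BT.node (nat_lit 4343618) (BT.leaf (nat_lit 629612)) (BT.leaf (nat_lit 617824))) (BT.node (nat_lit 4343621) (BT.leaf (nat_lit 617824)) (BT.leaf (nat_lit 617824)))) (BT.node (nat_lit 4343687) (BT.node (nat_lit 4343686) (BT.leaf (nat_lit 754720)) (BT.leaf (nat_lit 754720))) (BT.node (nat_lit 4343747) (BT.leaf (nat_lit 754720)) (BT.leaf (nat_lit 753484))))) (BT.node (nat_lit 4343816) (BT.node (nat_lit 4343812) (BT.node (nat_lit 4343809) (BT.leaf (nat_lit 753484)) (BT.leaf (nat_lit 722056))) (BT.node (nat_lit 4343813) (BT.leaf (nat_lit 722056)) (BT.leaf (nat_lit 753480)))) (BT.node (nat_lit 4343877) (BT.node (nat_lit 4343873) (BT.leaf (nat_lit 753480)) (BT.leaf (nat_lit 660028))) (BT.node (nat_lit 4343880) (BT.leaf (nat_lit 660028)) (BT.leaf (nat_lit 660028))))))) (BT.node (nat_lit 4344519) (BT.node (nat_lit 4344264) (BT.node (nat_lit 4344066) (BT.node (nat_lit 4344005) (BT.node (nat_lit 4344004) (BT.leaf (nat_lit 717696)) (BT.leaf (nat_lit 717700))) (BT.node (nat_lit 4344006) (BT.leaf (nat_lit 673764)) (BT.leaf (nat_lit 715252)))) (BT.node (nat_lit 4344133) (BT.node (nat_lit 4344132) (BT.leaf (nat_lit 694360)) (BT.leaf (nat_lit 626120))) (BT.node (nat_lit 4344200) (BT.leaf (nat_lit 626120)) (BT.leaf (nat_lit 682460))))) (BT.node (nat_lit 4344454) (BT.node (nat_lit 4344328) (BT.node (nat_lit 4344324) (BT.leaf (nat_lit 768888)) (BT.leaf (nat_lit 690172))) (BT.node (nat_lit 4344391) (BT.leaf (nat_lit 690172)) (BT.leaf (nat_lit 663100)))) (BT.node (nat_lit 4344514) (BT.node (nat_lit 4344455) (BT.leaf (nat_lit 663780)) (BT.leaf (nat_lit 663780))) (BT.node (nat_lit 4344518) (BT.leaf (nat_lit 662416)) (BT.leaf (nat_lit 662416)))))) (BT.node (nat_lit 4344646) (BT.node (nat_lit 4344583) (BT.node (nat_lit 4344579) (BT.node (nat_lit 4344578) (BT.leaf (nat_lit 662416)) (BT.leaf (nat_lit 721544))) (BT.node (nat_lit 4344582) (BT.leaf (nat_lit 721544)) (BT.leaf (nat_lit 721544)))) (BT.node (nat_lit 4344642) (BT.node (nat_lit 4344641) (BT.leaf (nat_lit 721544)) (BT.leaf (nat_lit 785520))) (BT.node (nat_lit 4344643) (BT.leaf (nat_lit 643432)) (BT.leaf (nat_lit 643432))))) (BT.node (nat_lit 4344711) (BT.node (nat_lit 4344709) (BT.node (nat_lit 4344647) (BT.leaf (nat_lit 622652)) (BT.leaf (nat_lit 622652))) (BT.node (nat_lit 4344710) (BT.leaf (nat_lit 768328)) (BT.leaf (nat_lit 768328)))) (BT.node (nat_lit 4344837) (BT.node (nat_lit 4344836) (BT.leaf (nat_lit 768328)) (BT.leaf (nat_lit 722716))) (BT.node (nat_lit 4344962) (BT.leaf (nat_lit 622660)) (BT.leaf (nat_lit 603476)))))))) (BT.node (nat_lit 4346244) (BT.node (nat_lit 4345413) (BT.node (nat_lit 4345284) (BT.node (nat_lit 4345156) (BT.node (nat_lit 4345027) (BT.node (nat_lit 4345026) (BT.leaf (nat_lit 603476)) (BT.leaf (nat_lit 603480))) (BT.node (nat_lit 4345028) (BT.leaf (nat_lit 603480)) (BT.leaf (nat_lit 611608)))) (BT.node (nat_lit 4345220) (BT.node (nat_lit 4345218) (BT.leaf (nat_lit 604004)) (BT.leaf (nat_lit 603508))) (BT.node (nat_lit 4345282) (BT.leaf (nat_lit 603512)) (BT.leaf (nat_lit 617348))))) (BT.node (nat_lit 4345348) (BT.node (nat_lit 4345346) (BT.node (nat_lit 4345285) (BT.leaf (nat_lit 627624)) (BT.leaf (nat_lit 627624))) (BT.node (nat_lit 4345347) (BT.leaf (nat_lit 712940)) (BT.leaf (nat_lit 769848)))) (BT.node (nat_lit 4345410) (BT.node (nat_lit 4345349) (BT.leaf (nat_lit 716664)) (BT.leaf (nat_lit 712940))) (BT.node (nat_lit 4345411) (BT.leaf (nat_lit 655056)) (BT.leaf (nat_lit 769852)))))) (BT.node (nat_lit 4345922) (BT.node (nat_lit 4345543) (BT.node (nat_lit 4345479) (BT.node (nat_lit 4345478) (BT.leaf (nat_lit 655056)) (BT.leaf (nat_lit 796896))) (BT.node (nat_lit 4345541) (BT.leaf (nat_lit 674160)) (BT.leaf (nat_lit 659568)))) (BT.node (nat_lit 4345671) (BT.node (nat_lit 4345666) (BT.leaf (nat_lit 659568)) (BT.leaf (nat_lit 753608))) (BT.node (nat_lit 4345860) (BT.leaf (nat_lit 753608)) (BT.leaf (nat_lit 640968))))) (BT.node (nat_lit 4346051) (BT.node (nat_lit 4346049) (BT.node (nat_lit 4345992) (BT.leaf (nat_lit 659564)) (BT.leaf (nat_lit 608232))) (BT.node (nat_lit 4346050) (BT.leaf (nat_lit 718040)) (BT.leaf (nat_lit 718040)))) (BT.node (nat_lit 4346242) (BT.node (nat_lit 4346055) (BT.leaf (nat_lit 718040)) (BT.leaf (nat_lit 718040))) (BT.node (nat_lit 4346243) (BT.leaf (nat_lit 608228)) (BT.leaf (nat_lit 608228))))))) (BT.node (nat_lit 4346950) (BT.node (nat_lit 4346434) (BT.node (nat_lit 4346373) (BT.node (nat_lit 4346308) (BT.node (nat_lit 4346307) (BT.leaf (nat_lit 608228)) (BT.leaf (nat_lit 639344))) (BT.node (nat_lit 4346312) (BT.leaf (nat_lit 639344)) (BT.leaf (nat_lit 639344)))) (BT.node (nat_lit 4346375) (BT.node (nat_lit 4346374) (BT.leaf (nat_lit 629196)) (BT.leaf (nat_lit 629196))) (BT.node (nat_lit 4346433) (BT.leaf (nat_lit 629196)) (BT.leaf (nat_lit 625992))))) (BT.node (nat_lit 4346564) (BT.node (nat_lit 4346436) (BT.node (nat_lit 4346435) (BT.leaf (nat_lit 625992)) (BT.leaf (nat_lit 625992))) (BT.node (nat_lit 4346437) (BT.leaf (nat_lit 625992)) (BT.leaf (nat_lit 625992)))) (BT.node (nat_lit 4346692) (BT.node (nat_lit 4346565) (BT.leaf (nat_lit 698892)) (BT.leaf (nat_lit 698892))) (BT.node (nat_lit 4346693) (BT.leaf (nat_lit 713216)) (BT.leaf (nat_lit 713216)))))) (BT.node (nat_lit 4347335) (BT.node (nat_lit 4347329) (BT.node (nat_lit 4347074) (BT.node (nat_lit 4346951) (BT.leaf (nat_lit 685396)) (BT.leaf (nat_lit 685396))) (BT.node (nat_lit 4347139) (BT.leaf (nat_lit 790928)) (BT.leaf (nat_lit 790932)))) (BT.node (nat_lit 4347331) (BT.node (nat_lit 4347330) (BT.leaf (nat_lit 633372)) (BT.leaf (nat_lit 723512))) (BT.node (nat_lit 4347334) (BT.leaf (nat_lit 723512)) (BT.leaf (nat_lit 723512))))) (BT.node (nat_lit 4347652) (BT.node (nat_lit 4347524) (BT.node (nat_lit 4347336) (BT.leaf (nat_lit 723512)) (BT.leaf (nat_lit 633372))) (BT.node (nat_lit 4347651) (BT.leaf (nat_lit 633380)) (BT.leaf (nat_lit 648292)))) (BT.node (nat_lit 4347720) (BT.node (nat_lit 4347656) (BT.leaf (nat_lit 648292)) (BT.leaf (nat_lit 648292))) (BT.node (nat_lit 4347778) (BT.leaf (nat_lit 642528)) (BT.leaf (nat_lit 737856)))))))))) (BT.node (nat_lit 4352198) (BT.node (nat_lit 4349573) (BT.node (nat_lit 4348487) (BT.node (nat_lit 4348037) (BT.node (nat_lit 4347906) (BT.node (nat_lit 4347843) (BT.node (nat_lit 4347781) (BT.node (nat_lit 4347780) (BT.leaf (nat_lit 661676)) (BT.leaf (nat_lit 624012))) (BT.node (nat_lit 4347842) (BT.leaf (nat_lit 621052)) (BT.leaf (nat_lit 603992)))) (BT.node (nat_lit 4347846) (BT.node (nat_lit 4347845) (BT.leaf (nat_lit 603992)) (BT.leaf (nat_lit 603992))) (BT.node (nat_lit 4347847) (BT.leaf (nat_lit 603992)) (BT.leaf (nat_lit 603992))))) (BT.node (nat_lit 4347911) (BT.node (nat_lit 4347908) (BT.node (nat_lit 4347907) (BT.leaf (nat_lit 622220)) (BT.leaf (nat_lit 622220))) (BT.node (nat_lit 4347910) (BT.leaf (nat_lit 622220)) (BT.leaf (nat_lit 622220)))) (BT.node (nat_lit 4347973) (BT.node (nat_lit 4347972) (BT.leaf (nat_lit 622220)) (BT.leaf (nat_lit 676116))) (BT.node (nat_lit 4348036) (BT.leaf (nat_lit 641500)) (BT.leaf (nat_lit 637928)))))) (BT.node (nat_lit 4348290) (BT.node (nat_lit 4348103) (BT.node (nat_lit 4348101) (BT.node (nat_lit 4348099) (BT.leaf (nat_lit 662384)) (BT.leaf (nat_lit 633992))) (BT.node (nat_lit 4348102) (BT.leaf (nat_lit 633992)) (BT.leaf (nat_lit 634204)))) (BT.node (nat_lit 4348167) (BT.node (nat_lit 4348166) (BT.leaf (nat_lit 634204)) (BT.leaf (nat_lit 622336))) (BT.node (nat_lit 4348230) (BT.leaf (nat_lit 622336)) (BT.leaf (nat_lit 699432))))) (BT.node (nat_lit 4348418) (BT.node (nat_lit 4348293) (BT.node (nat_lit 4348292) (BT.leaf (nat_lit 667128)) (BT.leaf (nat_lit 667128))) (BT.node (nat_lit 4348358) (BT.leaf (nat_lit 675616)) (BT.leaf (nat_lit 663092)))) (BT.node (nat_lit 4348485) (BT.node (nat_lit 4348421) (BT.leaf (nat_lit 619448)) (BT.leaf (nat_lit 619448))) (BT.node (nat_lit 4348486) (BT.leaf (nat_lit 667136)) (BT.leaf (nat_lit 619168))))))) (BT.node (nat_lit 4348872) (BT.node (nat_lit 4348673) (BT.node (nat_lit 4348552) (BT.node (nat_lit 4348550) (BT.node (nat_lit 4348545) (BT.leaf (nat_lit 619168)) (BT.leaf (nat_lit 683772))) (BT.node (nat_lit 4348551) (BT.leaf (nat_lit 626764)) (BT.leaf (nat_lit 626764)))) (BT.node (nat_lit 4348612) (BT.node (nat_lit 4348609) (BT.leaf (nat_lit 683772)) (BT.leaf (nat_lit 650960))) (BT.node (nat_lit 4348616) (BT.leaf (nat_lit 633508)) (BT.leaf (nat_lit 650960))))) (BT.node (nat_lit 4348744) (BT.node (nat_lit 4348739) (BT.node (nat_lit 4348738) (BT.leaf (nat_lit 650972)) (BT.leaf (nat_lit 611524))) (BT.node (nat_lit 4348741) (BT.leaf (nat_lit 611524)) (BT.leaf (nat_lit 669132)))) (BT.node (nat_lit 4348806) (BT.node (nat_lit 4348805) (BT.leaf (nat_lit 611524)) (BT.leaf (nat_lit 680688))) (BT.node (nat_lit 4348869) (BT.leaf (nat_lit 680688)) (BT.leaf (nat_lit 659788)))))) (BT.node (nat_lit 4349128) (BT.node (nat_lit 4349123) (BT.node (nat_lit 4349121) (BT.node (nat_lit 4349063) (BT.leaf (nat_lit 659788)) (BT.leaf (nat_lit 685244))) (BT.node (nat_lit 4349122) (BT.leaf (nat_lit 681220)) (BT.leaf (nat_lit 681220)))) (BT.node (nat_lit 4349126) (BT.node (nat_lit 4349124) (BT.leaf (nat_lit 681220)) (BT.leaf (nat_lit 681220))) (BT.node (nat_lit 4349127) (BT.leaf (nat_lit 681220)) (BT.leaf (nat_lit 681220))))) (BT.node (nat_lit 4349506) (BT.node (nat_lit 4349443) (BT.node (nat_lit 4349442) (BT.leaf (nat_lit 681220)) (BT.leaf (nat_lit 611468))) (BT.node (nat_lit 4349444) (BT.leaf (nat_lit 611468)) (BT.leaf (nat_lit 704380)))) (BT.node (nat_lit 4349569) (BT.node (nat_lit 4349507) (BT.leaf (nat_lit 611472)) (BT.leaf (nat_lit 611472))) (BT.node (nat_lit 4349572) (BT.leaf (nat_lit 662780)) (BT.leaf (nat_lit 813108)))))))) (BT.node (nat_lit 4350663) (BT.node (nat_lit 4350088) (BT.node (nat_lit 4349955) (BT.node (nat_lit 4349893) (BT.node (nat_lit 4349700) (BT.node (nat_lit 4349699) (BT.leaf (nat_lit 662780)) (BT.leaf (nat_lit 625880))) (BT.node (nat_lit 4349828) (BT.leaf (nat_lit 625880)) (BT.leaf (nat_lit 649988)))) (BT.node (nat_lit 4349895) (BT.node (nat_lit 4349894) (BT.leaf (nat_lit 678880)) (BT.leaf (nat_lit 677148))) (BT.node (nat_lit 4349954) (BT.leaf (nat_lit 677148)) (BT.leaf (nat_lit 607136))))) (BT.node (nat_lit 4350024) (BT.node (nat_lit 4350018) (BT.node (nat_lit 4349957) (BT.leaf (nat_lit 607136)) (BT.leaf (nat_lit 607136))) (BT.node (nat_lit 4350021) (BT.leaf (nat_lit 613980)) (BT.leaf (nat_lit 613980)))) (BT.node (nat_lit 4350084) (BT.node (nat_lit 4350081) (BT.leaf (nat_lit 613980)) (BT.leaf (nat_lit 785256))) (BT.node (nat_lit 4350085) (BT.leaf (nat_lit 691368)) (BT.leaf (nat_lit 691368)))))) (BT.node (nat_lit 4350339) (BT.node (nat_lit 4350275) (BT.node (nat_lit 4350209) (BT.node (nat_lit 4350147) (BT.leaf (nat_lit 785256)) (BT.leaf (nat_lit 781576))) (BT.node (nat_lit 4350211) (BT.leaf (nat_lit 781580)) (BT.leaf (nat_lit 781580)))) (BT.node (nat_lit 4350280) (BT.node (nat_lit 4350278) (BT.leaf (nat_lit 661748)) (BT.leaf (nat_lit 661748))) (BT.node (nat_lit 4350338) (BT.leaf (nat_lit 661748)) (BT.leaf (nat_lit 689948))))) (BT.node (nat_lit 4350403) (BT.node (nat_lit 4350343) (BT.node (nat_lit 4350342) (BT.leaf (nat_lit 689948)) (BT.leaf (nat_lit 689948))) (BT.node (nat_lit 4350344) (BT.leaf (nat_lit 689948)) (BT.leaf (nat_lit 689948)))) (BT.node (nat_lit 4350405) (BT.node (nat_lit 4350404) (BT.leaf (nat_lit 716640)) (BT.leaf (nat_lit 719588))) (BT.node (nat_lit 4350662) (BT.leaf (nat_lit 716640)) (BT.leaf (nat_lit 713560))))))) (BT.node (nat_lit 4351493) (BT.node (nat_lit 4351044) (BT.node (nat_lit 4350978) (BT.node (nat_lit 4350787) (BT.node (nat_lit 4350786) (BT.leaf (nat_lit 713560)) (BT.leaf (nat_lit 668700))) (BT.node (nat_lit 4350788) (BT.leaf (nat_lit 668700)) (BT.leaf (nat_lit 668700)))) (BT.node (nat_lit 4350982) (BT.node (nat_lit 4350980) (BT.leaf (nat_lit 618416)) (BT.leaf (nat_lit 618416))) (BT.node (nat_lit 4350983) (BT.leaf (nat_lit 618416)) (BT.leaf (nat_lit 618416))))) (BT.node (nat_lit 4351172) (BT.node (nat_lit 4351107) (BT.node (nat_lit 4351106) (BT.leaf (nat_lit 612684)) (BT.leaf (nat_lit 676560))) (BT.node (nat_lit 4351108) (BT.leaf (nat_lit 676560)) (BT.leaf (nat_lit 676560)))) (BT.node (nat_lit 4351364) (BT.node (nat_lit 4351176) (BT.leaf (nat_lit 717988)) (BT.leaf (nat_lit 717988))) (BT.node (nat_lit 4351429) (BT.leaf (nat_lit 705332)) (BT.leaf (nat_lit 693620)))))) (BT.node (nat_lit 4351938) (BT.node (nat_lit 4351681) (BT.node (nat_lit 4351495) (BT.node (nat_lit 4351494) (BT.leaf (nat_lit 683248)) (BT.leaf (nat_lit 686076))) (BT.node (nat_lit 4351556) (BT.leaf (nat_lit 686076)) (BT.leaf (nat_lit 679908)))) (BT.node (nat_lit 4351751) (BT.node (nat_lit 4351750) (BT.leaf (nat_lit 690116)) (BT.leaf (nat_lit 692568))) (BT.node (nat_lit 4351752) (BT.leaf (nat_lit 692568)) (BT.leaf (nat_lit 692568))))) (BT.node (nat_lit 4352004) (BT.node (nat_lit 4351944) (BT.node (nat_lit 4351941) (BT.leaf (nat_lit 690132)) (BT.leaf (nat_lit 690132))) (BT.node (nat_lit 4352001) (BT.leaf (nat_lit 690132)) (BT.leaf (nat_lit 691636)))) (BT.node (nat_lit 4352194) (BT.node (nat_lit 4352193) (BT.leaf (nat_lit 691636)) (BT.leaf (nat_lit 644712))) (BT.node (nat_lit 4352195) (BT.leaf (nat_lit 644712)) (BT.leaf (nat_lit 644712))))))))) (BT.node (nat_lit 4354629) (BT.node (nat_lit 4352964) (BT.node (nat_lit 4352582) (BT.node (nat_lit 4352388) (BT.node (nat_lit 4352260) (BT.node (nat_lit 4352258) (BT.node (nat_lit 4352199) (BT.leaf (nat_lit 644712)) (BT.leaf (nat_lit 644712))) (BT.node (nat_lit 4352259) (BT.leaf (nat_lit 718284)) (BT.leaf (nat_lit 718284)))) (BT.node (nat_lit 4352326) (BT.node (nat_lit 4352263) (BT.leaf (nat_lit 688244)) (BT.leaf (nat_lit 718284))) (BT.node (nat_lit 4352327) (BT.leaf (nat_lit 649792)) (BT.leaf (nat_lit 649792))))) (BT.node (nat_lit 4352454) (BT.node (nat_lit 4352449) (BT.node (nat_lit 4352389) (BT.leaf (nat_lit 712240)) (BT.leaf (nat_lit 669032))) (BT.node (nat_lit 4352453) (BT.leaf (nat_lit 605252)) (BT.leaf (nat_lit 605252)))) (BT.node (nat_lit 4352578) (BT.node (nat_lit 4352455) (BT.leaf (nat_lit 605252)) (BT.leaf (nat_lit 605252))) (BT.node (nat_lit 4352579) (BT.leaf (nat_lit 611436)) (BT.leaf (nat_lit 611436)))))) (BT.node (nat_lit 4352769) (BT.node (nat_lit 4352643) (BT.node (nat_lit 4352641) (BT.node (nat_lit 4352583) (BT.leaf (nat_lit 611436)) (BT.leaf (nat_lit 611436))) (BT.node (nat_lit 4352642) (BT.leaf (nat_lit 605248)) (BT.leaf (nat_lit 605248)))) (BT.node (nat_lit 4352645) (BT.node (nat_lit 4352644) (BT.leaf (nat_lit 605248)) (BT.leaf (nat_lit 605248))) (BT.node (nat_lit 4352708) (BT.leaf (nat_lit 605248)) (BT.leaf (nat_lit 688564))))) (BT.node (nat_lit 4352775) (BT.node (nat_lit 4352773) (BT.node (nat_lit 4352770) (BT.leaf (nat_lit 760624)) (BT.leaf (nat_lit 760624))) (BT.node (nat_lit 4352774) (BT.leaf (nat_lit 760624)) (BT.leaf (nat_lit 628968)))) (BT.node (nat_lit 4352901) (BT.node (nat_lit 4352776) (BT.leaf (nat_lit 760624)) (BT.leaf (nat_lit 628968))) (BT.node (nat_lit 4352961) (BT.leaf (nat_lit 668632)) (BT.leaf (nat_lit 622688))))))) (BT.node (nat_lit 4354116) (BT.node (nat_lit 4353476) (BT.node (nat_lit 4353286) (BT.node (nat_lit 4353219) (BT.node (nat_lit 4353032) (BT.leaf (nat_lit 622688)) (BT.leaf (nat_lit 723200))) (BT.node (nat_lit 4353282) (BT.leaf (nat_lit 703996)) (BT.leaf (nat_lit 638512)))) (BT.node (nat_lit 4353348) (BT.node (nat_lit 4353287) (BT.leaf (nat_lit 638512)) (BT.leaf (nat_lit 638512))) (BT.node (nat_lit 4353352) (BT.leaf (nat_lit 634648)) (BT.leaf (nat_lit 634648))))) (BT.node (nat_lit 4353542) (BT.node (nat_lit 4353538) (BT.node (nat_lit 4353477) (BT.leaf (nat_lit 630312)) (BT.leaf (nat_lit 630312))) (BT.node (nat_lit 4353539) (BT.leaf (nat_lit 672704)) (BT.leaf (nat_lit 668948)))) (BT.node (nat_lit 4353864) (BT.node (nat_lit 4353543) (BT.leaf (nat_lit 672704)) (BT.leaf (nat_lit 672704))) (BT.node (nat_lit 4353988) (BT.leaf (nat_lit 620948)) (BT.leaf (nat_lit 719624)))))) (BT.node (nat_lit 4354245) (BT.node (nat_lit 4354182) (BT.node (nat_lit 4354177) (BT.node (nat_lit 4354117) (BT.leaf (nat_lit 619176)) (BT.leaf (nat_lit 619176))) (BT.node (nat_lit 4354181) (BT.leaf (nat_lit 640772)) (BT.leaf (nat_lit 640772)))) (BT.node (nat_lit 4354184) (BT.node (nat_lit 4354183) (BT.leaf (nat_lit 640772)) (BT.leaf (nat_lit 640772))) (BT.node (nat_lit 4354243) (BT.leaf (nat_lit 640772)) (BT.leaf (nat_lit 621924))))) (BT.node (nat_lit 4354370) (BT.node (nat_lit 4354247) (BT.node (nat_lit 4354246) (BT.leaf (nat_lit 629772)) (BT.leaf (nat_lit 629772))) (BT.node (nat_lit 4354311) (BT.leaf (nat_lit 629772)) (BT.leaf (nat_lit 770184)))) (BT.node (nat_lit 4354567) (BT.node (nat_lit 4354566) (BT.leaf (nat_lit 644664)) (BT.leaf (nat_lit 788752))) (BT.node (nat_lit 4354568) (BT.leaf (nat_lit 648124)) (BT.leaf (nat_lit 648124)))))))) (BT.node (nat_lit 4355521) (BT.node (nat_lit 4355013) (BT.node (nat_lit 4354759) (BT.node (nat_lit 4354753) (BT.node (nat_lit 4354695) (BT.node (nat_lit 4354694) (BT.leaf (nat_lit 636628)) (BT.leaf (nat_lit 617552))) (BT.node (nat_lit 4354696) (BT.leaf (nat_lit 617552)) (BT.leaf (nat_lit 617552)))) (BT.node (nat_lit 4354757) (BT.node (nat_lit 4354754) (BT.leaf (nat_lit 646096)) (BT.leaf (nat_lit 646096))) (BT.node (nat_lit 4354758) (BT.leaf (nat_lit 646096)) (BT.leaf (nat_lit 646096))))) (BT.node (nat_lit 4354822) (BT.node (nat_lit 4354818) (BT.node (nat_lit 4354760) (BT.leaf (nat_lit 646096)) (BT.leaf (nat_lit 646096))) (BT.node (nat_lit 4354819) (BT.leaf (nat_lit 662328)) (BT.leaf (nat_lit 662328)))) (BT.node (nat_lit 4354885) (BT.node (nat_lit 4354823) (BT.leaf (nat_lit 662328)) (BT.leaf (nat_lit 662328))) (BT.node (nat_lit 4354946) (BT.leaf (nat_lit 690304)) (BT.leaf (nat_lit 740256)))))) (BT.node (nat_lit 4355140) (BT.node (nat_lit 4355078) (BT.node (nat_lit 4355015) (BT.node (nat_lit 4355014) (BT.leaf (nat_lit 696924)) (BT.leaf (nat_lit 696924))) (BT.node (nat_lit 4355077) (BT.leaf (nat_lit 696924)) (BT.leaf (nat_lit 667676)))) (BT.node (nat_lit 4355138) (BT.node (nat_lit 4355079) (BT.leaf (nat_lit 667676)) (BT.leaf (nat_lit 667676))) (BT.node (nat_lit 4355139) (BT.leaf (nat_lit 714280)) (BT.leaf (nat_lit 714280))))) (BT.node (nat_lit 4355266) (BT.node (nat_lit 4355143) (BT.node (nat_lit 4355142) (BT.leaf (nat_lit 714280)) (BT.leaf (nat_lit 714280))) (BT.node (nat_lit 4355144) (BT.leaf (nat_lit 714280)) (BT.leaf (nat_lit 714280)))) (BT.node (nat_lit 4355329) (BT.node (nat_lit 4355267) (BT.leaf (nat_lit 612548)) (BT.leaf (nat_lit 612548))) (BT.node (nat_lit 4355332) (BT.leaf (nat_lit 817480)) (BT.leaf (nat_lit 640440))))))) (BT.node (nat_lit 4356360) (BT.node (nat_lit 4355844) (BT.node (nat_lit 4355713) (BT.node (nat_lit 4355654) (BT.node (nat_lit 4355653) (BT.leaf (nat_lit 817492)) (BT.leaf (nat_lit 612464))) (BT.node (nat_lit 4355655) (BT.leaf (nat_lit 719384)) (BT.leaf (nat_lit 719384)))) (BT.node (nat_lit 4355717) (BT.node (nat_lit 4355716) (BT.leaf (nat_lit 714304)) (BT.leaf (nat_lit 714304))) (BT.node (nat_lit 4355780) (BT.leaf (nat_lit 714304)) (BT.leaf (nat_lit 695836))))) (BT.node (nat_lit 4355976) (BT.node (nat_lit 4355912) (BT.node (nat_lit 4355848) (BT.leaf (nat_lit 631604)) (BT.leaf (nat_lit 631604))) (BT.node (nat_lit 4355972) (BT.leaf (nat_lit 616176)) (BT.leaf (nat_lit 747420)))) (BT.node (nat_lit 4356102) (BT.node (nat_lit 4356101) (BT.leaf (nat_lit 747420)) (BT.leaf (nat_lit 759512))) (BT.node (nat_lit 4356358) (BT.leaf (nat_lit 604756)) (BT.leaf (nat_lit 707256)))))) (BT.node (nat_lit 4356868) (BT.node (nat_lit 4356546) (BT.node (nat_lit 4356424) (BT.node (nat_lit 4356423) (BT.leaf (nat_lit 671456)) (BT.leaf (nat_lit 670232))) (BT.node (nat_lit 4356481) (BT.leaf (nat_lit 670232)) (BT.leaf (nat_lit 703952)))) (BT.node (nat_lit 4356674) (BT.node (nat_lit 4356548) (BT.leaf (nat_lit 669792)) (BT.leaf (nat_lit 669792))) (BT.node (nat_lit 4356677) (BT.leaf (nat_lit 707168)) (BT.leaf (nat_lit 703956))))) (BT.node (nat_lit 4356993) (BT.node (nat_lit 4356931) (BT.node (nat_lit 4356869) (BT.leaf (nat_lit 712820)) (BT.leaf (nat_lit 712820))) (BT.node (nat_lit 4356933) (BT.leaf (nat_lit 682916)) (BT.leaf (nat_lit 682916)))) (BT.node (nat_lit 4356995) (BT.node (nat_lit 4356994) (BT.leaf (nat_lit 668952)) (BT.leaf (nat_lit 668952))) (BT.node (nat_lit 4356997) (BT.leaf (nat_lit 668952)) (BT.leaf (nat_lit 668952))))))))))) (BT.node (nat_lit 4363528) (BT.node (nat_lit 4360515) (BT.node (nat_lit 4358466) (BT.node (nat_lit 4357634) (BT.node (nat_lit 4357251) (BT.node (nat_lit 4357125) (BT.node (nat_lit 4357064) (BT.node (nat_lit 4357059) (BT.node (nat_lit 4356999) (BT.leaf (nat_lit 770256)) (BT.leaf (nat_lit 770256))) (BT.node (nat_lit 4357062) (BT.leaf (nat_lit 664876)) (BT.leaf (nat_lit 643012)))) (BT.node (nat_lit 4357122) (BT.node (nat_lit 4357121) (BT.leaf (nat_lit 643012)) (BT.leaf (nat_lit 693636))) (BT.node (nat_lit 4357123) (BT.leaf (nat_lit 693636)) (BT.leaf (nat_lit 693636))))) (BT.node (nat_lit 4357190) (BT.node (nat_lit 4357127) (BT.node (nat_lit 4357126) (BT.leaf (nat_lit 695176)) (BT.leaf (nat_lit 695176))) (BT.node (nat_lit 4357189) (BT.leaf (nat_lit 695176)) (BT.leaf (nat_lit 719388)))) (BT.node (nat_lit 4357249) (BT.node (nat_lit 4357191) (BT.leaf (nat_lit 719388)) (BT.leaf (nat_lit 719388))) (BT.node (nat_lit 4357250) (BT.leaf (nat_lit 682948)) (BT.leaf (nat_lit 682252)))))) (BT.node (nat_lit 4357442) (BT.node (nat_lit 4357381) (BT.node (nat_lit 4357255) (BT.node (nat_lit 4357254) (BT.leaf (nat_lit 682252)) (BT.leaf (nat_lit 682948))) (BT.node (nat_lit 4357316) (BT.leaf (nat_lit 682948)) (BT.leaf (nat_lit 639752)))) (BT.node (nat_lit 4357383) (BT.node (nat_lit 4357382) (BT.leaf (nat_lit 631360)) (BT.leaf (nat_lit 631360))) (BT.node (nat_lit 4357441) (BT.leaf (nat_lit 631360)) (BT.leaf (nat_lit 681460))))) (BT.node (nat_lit 4357508) (BT.node (nat_lit 4357447) (BT.node (nat_lit 4357446) (BT.leaf (nat_lit 681460)) (BT.leaf (nat_lit 681460))) (BT.node (nat_lit 4357448) (BT.leaf (nat_lit 681460)) (BT.leaf (nat_lit 681460)))) (BT.node (nat_lit 4357572) (BT.node (nat_lit 4357509) (BT.leaf (nat_lit 608400)) (BT.leaf (nat_lit 608400))) (BT.node (nat_lit 4357633) (BT.leaf (nat_lit 748276)) (BT.leaf (nat_lit 662032))))))) (BT.node (nat_lit 4357959) (BT.node (nat_lit 4357767) (BT.node (nat_lit 4357698) (BT.node (nat_lit 4357640) (BT.node (nat_lit 4357635) (BT.leaf (nat_lit 662032)) (BT.leaf (nat_lit 662032))) (BT.node (nat_lit 4357697) (BT.leaf (nat_lit 662032)) (BT.leaf (nat_lit 662040)))) (BT.node (nat_lit 4357704) (BT.node (nat_lit 4357699) (BT.leaf (nat_lit 662040)) (BT.leaf (nat_lit 662040))) (BT.node (nat_lit 4357766) (BT.leaf (nat_lit 662040)) (BT.leaf (nat_lit 691244))))) (BT.node (nat_lit 4357892) (BT.node (nat_lit 4357828) (BT.node (nat_lit 4357825) (BT.leaf (nat_lit 691244)) (BT.leaf (nat_lit 609848))) (BT.node (nat_lit 4357829) (BT.leaf (nat_lit 628776)) (BT.leaf (nat_lit 609848)))) (BT.node (nat_lit 4357953) (BT.node (nat_lit 4357893) (BT.leaf (nat_lit 742976)) (BT.leaf (nat_lit 742976))) (BT.node (nat_lit 4357958) (BT.leaf (nat_lit 607300)) (BT.leaf (nat_lit 607300)))))) (BT.node (nat_lit 4358147) (BT.node (nat_lit 4358022) (BT.node (nat_lit 4358020) (BT.node (nat_lit 4358017) (BT.leaf (nat_lit 607300)) (BT.leaf (nat_lit 614104))) (BT.node (nat_lit 4358021) (BT.leaf (nat_lit 612404)) (BT.leaf (nat_lit 614104)))) (BT.node (nat_lit 4358088) (BT.node (nat_lit 4358023) (BT.leaf (nat_lit 614104)) (BT.leaf (nat_lit 614104))) (BT.node (nat_lit 4358146) (BT.leaf (nat_lit 768100)) (BT.leaf (nat_lit 608468))))) (BT.node (nat_lit 4358277) (BT.node (nat_lit 4358149) (BT.node (nat_lit 4358148) (BT.leaf (nat_lit 608468)) (BT.leaf (nat_lit 608468))) (BT.node (nat_lit 4358209) (BT.leaf (nat_lit 608468)) (BT.leaf (nat_lit 612596)))) (BT.node (nat_lit 4358404) (BT.node (nat_lit 4358342) (BT.leaf (nat_lit 612600)) (BT.leaf (nat_lit 612368))) (BT.node (nat_lit 4358405) (BT.leaf (nat_lit 695612)) (BT.leaf (nat_lit 695612)))))))) (BT.node (nat_lit 4359302) (BT.node (nat_lit 4358788) (BT.node (nat_lit 4358597) (BT.node (nat_lit 4358532) (BT.node (nat_lit 4358468) (BT.node (nat_lit 4358467) (BT.leaf (nat_lit 710044)) (BT.leaf (nat_lit 710044))) (BT.node (nat_lit 4358529) (BT.leaf (nat_lit 710044)) (BT.leaf (nat_lit 612336)))) (BT.node (nat_lit 4358593) (BT.node (nat_lit 4358536) (BT.leaf (nat_lit 612336)) (BT.leaf (nat_lit 612336))) (BT.node (nat_lit 4358596) (BT.leaf (nat_lit 663608)) (BT.leaf (nat_lit 663608))))) (BT.node (nat_lit 4358660) (BT.node (nat_lit 4358658) (BT.node (nat_lit 4358657) (BT.leaf (nat_lit 663608)) (BT.leaf (nat_lit 630492))) (BT.node (nat_lit 4358659) (BT.leaf (nat_lit 630492)) (BT.leaf (nat_lit 630492)))) (BT.node (nat_lit 4358786) (BT.node (nat_lit 4358664) (BT.leaf (nat_lit 630492)) (BT.leaf (nat_lit 630492))) (BT.node (nat_lit 4358787) (BT.leaf (nat_lit 645688)) (BT.leaf (nat_lit 645688)))))) (BT.node (nat_lit 4358915) (BT.node (nat_lit 4358853) (BT.node (nat_lit 4358791) (BT.node (nat_lit 4358790) (BT.leaf (nat_lit 731108)) (BT.leaf (nat_lit 645688))) (BT.node (nat_lit 4358792) (BT.leaf (nat_lit 645688)) (BT.leaf (nat_lit 645688)))) (BT.node (nat_lit 4358855) (BT.node (nat_lit 4358854) (BT.leaf (nat_lit 715344)) (BT.leaf (nat_lit 658900))) (BT.node (nat_lit 4358914) (BT.leaf (nat_lit 658900)) (BT.leaf (nat_lit 645632))))) (BT.node (nat_lit 4358984) (BT.node (nat_lit 4358918) (BT.node (nat_lit 4358916) (BT.leaf (nat_lit 645632)) (BT.leaf (nat_lit 645632))) (BT.node (nat_lit 4358919) (BT.leaf (nat_lit 645632)) (BT.leaf (nat_lit 645632)))) (BT.node (nat_lit 4359108) (BT.node (nat_lit 4359041) (BT.leaf (nat_lit 818020)) (BT.leaf (nat_lit 818028))) (BT.node (nat_lit 4359301) (BT.leaf (nat_lit 675640)) (BT.leaf (nat_lit 637072))))))) (BT.node (nat_lit 4359879) (BT.node (nat_lit 4359749) (BT.node (nat_lit 4359431) (BT.node (nat_lit 4359429) (BT.node (nat_lit 4359303) (BT.leaf (nat_lit 625000)) (BT.leaf (nat_lit 625000))) (BT.node (nat_lit 4359430) (BT.leaf (nat_lit 772588)) (BT.leaf (nat_lit 772588)))) (BT.node (nat_lit 4359745) (BT.node (nat_lit 4359688) (BT.leaf (nat_lit 761656)) (BT.leaf (nat_lit 687944))) (BT.node (nat_lit 4359746) (BT.leaf (nat_lit 641748)) (BT.leaf (nat_lit 641748))))) (BT.node (nat_lit 4359875) (BT.node (nat_lit 4359873) (BT.node (nat_lit 4359816) (BT.leaf (nat_lit 641748)) (BT.leaf (nat_lit 631640))) (BT.node (nat_lit 4359874) (BT.leaf (nat_lit 614004)) (BT.leaf (nat_lit 614004)))) (BT.node (nat_lit 4359877) (BT.node (nat_lit 4359876) (BT.leaf (nat_lit 614004)) (BT.leaf (nat_lit 614004))) (BT.node (nat_lit 4359878) (BT.leaf (nat_lit 614004)) (BT.leaf (nat_lit 616168)))))) (BT.node (nat_lit 4360195) (BT.node (nat_lit 4360068) (BT.node (nat_lit 4359944) (BT.node (nat_lit 4359940) (BT.leaf (nat_lit 614004)) (BT.leaf (nat_lit 609744))) (BT.node (nat_lit 4360001) (BT.leaf (nat_lit 647000)) (BT.leaf (nat_lit 696232)))) (BT.node (nat_lit 4360131) (BT.node (nat_lit 4360069) (BT.leaf (nat_lit 667348)) (BT.leaf (nat_lit 667348))) (BT.node (nat_lit 4360193) (BT.leaf (nat_lit 666656)) (BT.leaf (nat_lit 666660))))) (BT.node (nat_lit 4360264) (BT.node (nat_lit 4360259) (BT.node (nat_lit 4360258) (BT.leaf (nat_lit 666660)) (BT.leaf (nat_lit 696228))) (BT.node (nat_lit 4360262) (BT.leaf (nat_lit 696228)) (BT.leaf (nat_lit 696228)))) (BT.node (nat_lit 4360513) (BT.node (nat_lit 4360453) (BT.leaf (nat_lit 696228)) (BT.leaf (nat_lit 686888))) (BT.node (nat_lit 4360514) (BT.leaf (nat_lit 660760)) (BT.leaf (nat_lit 660760))))))))) (BT.node (nat_lit 4361859) (BT.node (nat_lit 4361154) (BT.node (nat_lit 4360709) (BT.node (nat_lit 4360583) (BT.node (nat_lit 4360520) (BT.node (nat_lit 4360518) (BT.node (nat_lit 4360517) (BT.leaf (nat_lit 660760)) (BT.leaf (nat_lit 660760))) (BT.node (nat_lit 4360519) (BT.leaf (nat_lit 660760)) (BT.leaf (nat_lit 660760)))) (BT.node (nat_lit 4360579) (BT.node (nat_lit 4360577) (BT.leaf (nat_lit 660760)) (BT.leaf (nat_lit 612332))) (BT.node (nat_lit 4360582) (BT.leaf (nat_lit 612332)) (BT.leaf (nat_lit 612332))))) (BT.node (nat_lit 4360645) (BT.node (nat_lit 4360641) (BT.node (nat_lit 4360584) (BT.leaf (nat_lit 612332)) (BT.leaf (nat_lit 612332))) (BT.node (nat_lit 4360643) (BT.leaf (nat_lit 622156)) (BT.leaf (nat_lit 691908)))) (BT.node (nat_lit 4360705) (BT.node (nat_lit 4360648) (BT.leaf (nat_lit 622156)) (BT.leaf (nat_lit 691908))) (BT.node (nat_lit 4360707) (BT.leaf (nat_lit 691900)) (BT.leaf (nat_lit 691900)))))) (BT.node (nat_lit 4360897) (BT.node (nat_lit 4360833) (BT.node (nat_lit 4360774) (BT.node (nat_lit 4360712) (BT.leaf (nat_lit 733040)) (BT.leaf (nat_lit 691900))) (BT.node (nat_lit 4360776) (BT.leaf (nat_lit 662004)) (BT.leaf (nat_lit 662004)))) (BT.node (nat_lit 4360835) (BT.node (nat_lit 4360834) (BT.leaf (nat_lit 662012)) (BT.leaf (nat_lit 662012))) (BT.node (nat_lit 4360840) (BT.leaf (nat_lit 662012)) (BT.leaf (nat_lit 662012))))) (BT.node (nat_lit 4360968) (BT.node (nat_lit 4360899) (BT.node (nat_lit 4360898) (BT.leaf (nat_lit 662020)) (BT.leaf (nat_lit 662020))) (BT.node (nat_lit 4360904) (BT.leaf (nat_lit 662020)) (BT.leaf (nat_lit 662020)))) (BT.node (nat_lit 4361032) (BT.node (nat_lit 4361028) (BT.leaf (nat_lit 723300)) (BT.leaf (nat_lit 794684))) (BT.node (nat_lit 4361096) (BT.leaf (nat_lit 640808)) (BT.leaf (nat_lit 794676))))))) (BT.node (nat_lit 4361543) (BT.node (nat_lit 4361288) (BT.node (nat_lit 4361222) (BT.node (nat_lit 4361158) (BT.node (nat_lit 4361155) (BT.leaf (nat_lit 614248)) (BT.leaf (nat_lit 612888))) (BT.node (nat_lit 4361159) (BT.leaf (nat_lit 614248)) (BT.leaf (nat_lit 612888)))) (BT.node (nat_lit 4361224) (BT.node (nat_lit 4361223) (BT.leaf (nat_lit 685584)) (BT.leaf (nat_lit 685584))) (BT.node (nat_lit 4361284) (BT.leaf (nat_lit 702180)) (BT.leaf (nat_lit 709520))))) (BT.node (nat_lit 4361350) (BT.node (nat_lit 4361347) (BT.node (nat_lit 4361346) (BT.leaf (nat_lit 634788)) (BT.leaf (nat_lit 688152))) (BT.node (nat_lit 4361349) (BT.leaf (nat_lit 688152)) (BT.leaf (nat_lit 688152)))) (BT.node (nat_lit 4361412) (BT.node (nat_lit 4361351) (BT.leaf (nat_lit 688152)) (BT.leaf (nat_lit 688152))) (BT.node (nat_lit 4361540) (BT.leaf (nat_lit 626176)) (BT.leaf (nat_lit 621800)))))) (BT.node (nat_lit 4361733) (BT.node (nat_lit 4361672) (BT.node (nat_lit 4361601) (BT.node (nat_lit 4361544) (BT.leaf (nat_lit 774384)) (BT.leaf (nat_lit 774384))) (BT.node (nat_lit 4361665) (BT.leaf (nat_lit 624648)) (BT.leaf (nat_lit 703696)))) (BT.node (nat_lit 4361730) (BT.node (nat_lit 4361729) (BT.leaf (nat_lit 703696)) (BT.leaf (nat_lit 807740))) (BT.node (nat_lit 4361731) (BT.leaf (nat_lit 807740)) (BT.leaf (nat_lit 646524))))) (BT.node (nat_lit 4361793) (BT.node (nat_lit 4361735) (BT.node (nat_lit 4361734) (BT.leaf (nat_lit 807740)) (BT.leaf (nat_lit 646524))) (BT.node (nat_lit 4361736) (BT.leaf (nat_lit 646524)) (BT.leaf (nat_lit 646524)))) (BT.node (nat_lit 4361800) (BT.node (nat_lit 4361794) (BT.leaf (nat_lit 721868)) (BT.leaf (nat_lit 721868))) (BT.node (nat_lit 4361858) (BT.leaf (nat_lit 721868)) (BT.leaf (nat_lit 716296)))))))) (BT.node (nat_lit 4362626) (BT.node (nat_lit 4362181) (BT.node (nat_lit 4361988) (BT.node (nat_lit 4361921) (BT.node (nat_lit 4361863) (BT.node (nat_lit 4361862) (BT.leaf (nat_lit 641660)) (BT.leaf (nat_lit 716296))) (BT.node (nat_lit 4361864) (BT.leaf (nat_lit 716296)) (BT.leaf (nat_lit 716296)))) (BT.node (nat_lit 4361928) (BT.node (nat_lit 4361924) (BT.leaf (nat_lit 617404)) (BT.leaf (nat_lit 617404))) (BT.node (nat_lit 4361987) (BT.leaf (nat_lit 617404)) (BT.leaf (nat_lit 609564))))) (BT.node (nat_lit 4362116) (BT.node (nat_lit 4362113) (BT.node (nat_lit 4361989) (BT.leaf (nat_lit 609564)) (BT.leaf (nat_lit 609564))) (BT.node (nat_lit 4362114) (BT.leaf (nat_lit 609720)) (BT.leaf (nat_lit 609720)))) (BT.node (nat_lit 4362120) (BT.node (nat_lit 4362117) (BT.leaf (nat_lit 609720)) (BT.leaf (nat_lit 609720))) (BT.node (nat_lit 4362177) (BT.leaf (nat_lit 609720)) (BT.leaf (nat_lit 691156)))))) (BT.node (nat_lit 4362376) (BT.node (nat_lit 4362308) (BT.node (nat_lit 4362241) (BT.node (nat_lit 4362184) (BT.leaf (nat_lit 691156)) (BT.leaf (nat_lit 691156))) (BT.node (nat_lit 4362248) (BT.leaf (nat_lit 658068)) (BT.leaf (nat_lit 658068)))) (BT.node (nat_lit 4362369) (BT.node (nat_lit 4362312) (BT.leaf (nat_lit 619896)) (BT.leaf (nat_lit 619896))) (BT.node (nat_lit 4362372) (BT.leaf (nat_lit 663724)) (BT.leaf (nat_lit 663724))))) (BT.node (nat_lit 4362501) (BT.node (nat_lit 4362436) (BT.node (nat_lit 4362434) (BT.leaf (nat_lit 663724)) (BT.leaf (nat_lit 624704))) (BT.node (nat_lit 4362438) (BT.leaf (nat_lit 624704)) (BT.leaf (nat_lit 624704)))) (BT.node (nat_lit 4362567) (BT.node (nat_lit 4362562) (BT.leaf (nat_lit 666840)) (BT.leaf (nat_lit 705916))) (BT.node (nat_lit 4362568) (BT.leaf (nat_lit 705916)) (BT.leaf (nat_lit 767704))))))) (BT.node (nat_lit 4363010) (BT.node (nat_lit 4362817) (BT.node (nat_lit 4362696) (BT.node (nat_lit 4362629) (BT.node (nat_lit 4362628) (BT.leaf (nat_lit 703252)) (BT.leaf (nat_lit 645064))) (BT.node (nat_lit 4362632) (BT.leaf (nat_lit 682528)) (BT.leaf (nat_lit 703252)))) (BT.node (nat_lit 4362755) (BT.node (nat_lit 4362753) (BT.leaf (nat_lit 703264)) (BT.leaf (nat_lit 768068))) (BT.node (nat_lit 4362760) (BT.leaf (nat_lit 768068)) (BT.leaf (nat_lit 768068))))) (BT.node (nat_lit 4362884) (BT.node (nat_lit 4362819) (BT.node (nat_lit 4362818) (BT.leaf (nat_lit 784632)) (BT.leaf (nat_lit 784632))) (BT.node (nat_lit 4362824) (BT.leaf (nat_lit 784632)) (BT.leaf (nat_lit 784632)))) (BT.node (nat_lit 4362945) (BT.node (nat_lit 4362885) (BT.leaf (nat_lit 665488)) (BT.leaf (nat_lit 665488))) (BT.node (nat_lit 4362949) (BT.leaf (nat_lit 639340)) (BT.leaf (nat_lit 639340)))))) (BT.node (nat_lit 4363202) (BT.node (nat_lit 4363141) (BT.node (nat_lit 4363077) (BT.node (nat_lit 4363014) (BT.leaf (nat_lit 638716)) (BT.leaf (nat_lit 638716))) (BT.node (nat_lit 4363080) (BT.leaf (nat_lit 657092)) (BT.leaf (nat_lit 646772)))) (BT.node (nat_lit 4363143) (BT.node (nat_lit 4363142) (BT.leaf (nat_lit 679232)) (BT.leaf (nat_lit 679232))) (BT.node (nat_lit 4363201) (BT.leaf (nat_lit 679232)) (BT.leaf (nat_lit 674696))))) (BT.node (nat_lit 4363329) (BT.node (nat_lit 4363208) (BT.node (nat_lit 4363206) (BT.leaf (nat_lit 674696)) (BT.leaf (nat_lit 674696))) (BT.node (nat_lit 4363269) (BT.leaf (nat_lit 674696)) (BT.leaf (nat_lit 606564)))) (BT.node (nat_lit 4363464) (BT.node (nat_lit 4363461) (BT.leaf (nat_lit 679076)) (BT.leaf (nat_lit 617016))) (BT.node (nat_lit 4363524) (BT.leaf (nat_lit 617016)) (BT.leaf (nat_lit 706504)))))))))) (BT.node (nat_lit 4368129) (BT.node (nat_lit 4366145) (BT.node (nat_lit 4364805) (BT.node (nat_lit 4364227) (BT.node (nat_lit 4363973) (BT.node (nat_lit 4363844) (BT.node (nat_lit 4363591) (BT.node (nat_lit 4363590) (BT.leaf (nat_lit 706504)) (BT.leaf (nat_lit 616916))) (BT.node (nat_lit 4363716) (BT.leaf (nat_lit 616916)) (BT.leaf (nat_lit 674676)))) (BT.node (nat_lit 4363909) (BT.node (nat_lit 4363845) (BT.leaf (nat_lit 682588)) (BT.leaf (nat_lit 646700))) (BT.node (nat_lit 4363911) (BT.leaf (nat_lit 701400)) (BT.leaf (nat_lit 701400))))) (BT.node (nat_lit 4364101) (BT.node (nat_lit 4364037) (BT.node (nat_lit 4364036) (BT.leaf (nat_lit 709248)) (BT.leaf (nat_lit 616884))) (BT.node (nat_lit 4364100) (BT.leaf (nat_lit 746820)) (BT.leaf (nat_lit 606640)))) (BT.node (nat_lit 4364167) (BT.node (nat_lit 4364166) (BT.leaf (nat_lit 616484)) (BT.leaf (nat_lit 628012))) (BT.node (nat_lit 4364226) (BT.leaf (nat_lit 628012)) (BT.leaf (nat_lit 645772)))))) (BT.node (nat_lit 4364549) (BT.node (nat_lit 4364293) (BT.node (nat_lit 4364231) (BT.node (nat_lit 4364230) (BT.leaf (nat_lit 645772)) (BT.leaf (nat_lit 645772))) (BT.node (nat_lit 4364292) (BT.leaf (nat_lit 645772)) (BT.leaf (nat_lit 699464)))) (BT.node (nat_lit 4364422) (BT.node (nat_lit 4364421) (BT.leaf (nat_lit 699464)) (BT.leaf (nat_lit 708556))) (BT.node (nat_lit 4364423) (BT.leaf (nat_lit 642908)) (BT.leaf (nat_lit 642908))))) (BT.node (nat_lit 4364613) (BT.node (nat_lit 4364610) (BT.node (nat_lit 4364551) (BT.leaf (nat_lit 645104)) (BT.leaf (nat_lit 645104))) (BT.node (nat_lit 4364612) (BT.leaf (nat_lit 678152)) (BT.leaf (nat_lit 678152)))) (BT.node (nat_lit 4364677) (BT.node (nat_lit 4364674) (BT.leaf (nat_lit 678152)) (BT.leaf (nat_lit 645012))) (BT.node (nat_lit 4364802) (BT.leaf (nat_lit 645012)) (BT.leaf (nat_lit 714812))))))) (BT.node (nat_lit 4365190) (BT.node (nat_lit 4364996) (BT.node (nat_lit 4364932) (BT.node (nat_lit 4364870) (BT.node (nat_lit 4364868) (BT.leaf (nat_lit 714812)) (BT.leaf (nat_lit 638672))) (BT.node (nat_lit 4364872) (BT.leaf (nat_lit 634384)) (BT.leaf (nat_lit 638672)))) (BT.node (nat_lit 4364936) (BT.node (nat_lit 4364935) (BT.leaf (nat_lit 645108)) (BT.leaf (nat_lit 606348))) (BT.node (nat_lit 4364995) (BT.leaf (nat_lit 645108)) (BT.leaf (nat_lit 616556))))) (BT.node (nat_lit 4365125) (BT.node (nat_lit 4365000) (BT.node (nat_lit 4364997) (BT.leaf (nat_lit 693040)) (BT.leaf (nat_lit 616556))) (BT.node (nat_lit 4365123) (BT.leaf (nat_lit 693040)) (BT.leaf (nat_lit 698744)))) (BT.node (nat_lit 4365187) (BT.node (nat_lit 4365186) (BT.leaf (nat_lit 698744)) (BT.leaf (nat_lit 645760))) (BT.node (nat_lit 4365188) (BT.leaf (nat_lit 645760)) (BT.leaf (nat_lit 690944)))))) (BT.node (nat_lit 4365761) (BT.node (nat_lit 4365381) (BT.node (nat_lit 4365317) (BT.node (nat_lit 4365191) (BT.leaf (nat_lit 645760)) (BT.leaf (nat_lit 645760))) (BT.node (nat_lit 4365380) (BT.leaf (nat_lit 690948)) (BT.leaf (nat_lit 616500)))) (BT.node (nat_lit 4365638) (BT.node (nat_lit 4365445) (BT.leaf (nat_lit 635040)) (BT.leaf (nat_lit 655940))) (BT.node (nat_lit 4365639) (BT.leaf (nat_lit 667528)) (BT.leaf (nat_lit 667528))))) (BT.node (nat_lit 4366022) (BT.node (nat_lit 4365768) (BT.node (nat_lit 4365764) (BT.leaf (nat_lit 667456)) (BT.leaf (nat_lit 667456))) (BT.node (nat_lit 4366019) (BT.leaf (nat_lit 667456)) (BT.leaf (nat_lit 648320)))) (BT.node (nat_lit 4366085) (BT.node (nat_lit 4366023) (BT.leaf (nat_lit 648320)) (BT.leaf (nat_lit 648320))) (BT.node (nat_lit 4366088) (BT.leaf (nat_lit 698536)) (BT.leaf (nat_lit 698536)))))))) (BT.node (nat_lit 4367493) (BT.node (nat_lit 4367172) (BT.node (nat_lit 4366915) (BT.node (nat_lit 4366340) (BT.node (nat_lit 4366148) (BT.node (nat_lit 4366147) (BT.leaf (nat_lit 616908)) (BT.leaf (nat_lit 616908))) (BT.node (nat_lit 4366152) (BT.leaf (nat_lit 616908)) (BT.leaf (nat_lit 616908)))) (BT.node (nat_lit 4366407) (BT.node (nat_lit 4366406) (BT.leaf (nat_lit 648308)) (BT.leaf (nat_lit 698876))) (BT.node (nat_lit 4366854) (BT.leaf (nat_lit 698876)) (BT.leaf (nat_lit 615428))))) (BT.node (nat_lit 4366977) (BT.node (nat_lit 4366917) (BT.node (nat_lit 4366916) (BT.leaf (nat_lit 651564)) (BT.leaf (nat_lit 651564))) (BT.node (nat_lit 4366920) (BT.leaf (nat_lit 606364)) (BT.leaf (nat_lit 651564)))) (BT.node (nat_lit 4367110) (BT.node (nat_lit 4366983) (BT.leaf (nat_lit 706364)) (BT.leaf (nat_lit 706364))) (BT.node (nat_lit 4367111) (BT.leaf (nat_lit 687452)) (BT.leaf (nat_lit 687452)))))) (BT.node (nat_lit 4367301) (BT.node (nat_lit 4367236) (BT.node (nat_lit 4367176) (BT.node (nat_lit 4367173) (BT.leaf (nat_lit 617012)) (BT.leaf (nat_lit 617012))) (BT.node (nat_lit 4367233) (BT.leaf (nat_lit 644856)) (BT.leaf (nat_lit 667848)))) (BT.node (nat_lit 4367297) (BT.node (nat_lit 4367237) (BT.leaf (nat_lit 667848)) (BT.leaf (nat_lit 667848))) (BT.node (nat_lit 4367300) (BT.leaf (nat_lit 690596)) (BT.leaf (nat_lit 690596))))) (BT.node (nat_lit 4367425) (BT.node (nat_lit 4367366) (BT.node (nat_lit 4367365) (BT.leaf (nat_lit 690596)) (BT.leaf (nat_lit 645332))) (BT.node (nat_lit 4367367) (BT.leaf (nat_lit 693268)) (BT.leaf (nat_lit 693268)))) (BT.node (nat_lit 4367427) (BT.node (nat_lit 4367426) (BT.leaf (nat_lit 644324)) (BT.leaf (nat_lit 693260))) (BT.node (nat_lit 4367429) (BT.leaf (nat_lit 693260)) (BT.leaf (nat_lit 644324))))))) (BT.node (nat_lit 4367810) (BT.node (nat_lit 4367683) (BT.node (nat_lit 4367558) (BT.node (nat_lit 4367554) (BT.node (nat_lit 4367553) (BT.leaf (nat_lit 608804)) (BT.leaf (nat_lit 617444))) (BT.node (nat_lit 4367557) (BT.leaf (nat_lit 617444)) (BT.leaf (nat_lit 617444)))) (BT.node (nat_lit 4367681) (BT.node (nat_lit 4367559) (BT.leaf (nat_lit 617444)) (BT.leaf (nat_lit 617444))) (BT.node (nat_lit 4367682) (BT.leaf (nat_lit 693708)) (BT.leaf (nat_lit 693708))))) (BT.node (nat_lit 4367749) (BT.node (nat_lit 4367686) (BT.node (nat_lit 4367685) (BT.leaf (nat_lit 693708)) (BT.leaf (nat_lit 693708))) (BT.node (nat_lit 4367687) (BT.leaf (nat_lit 693708)) (BT.leaf (nat_lit 693708)))) (BT.node (nat_lit 4367751) (BT.node (nat_lit 4367750) (BT.leaf (nat_lit 638684)) (BT.leaf (nat_lit 638684))) (BT.node (nat_lit 4367809) (BT.leaf (nat_lit 638684)) (BT.leaf (nat_lit 687456)))))) (BT.node (nat_lit 4367944) (BT.node (nat_lit 4367816) (BT.node (nat_lit 4367814) (BT.node (nat_lit 4367811) (BT.leaf (nat_lit 687456)) (BT.leaf (nat_lit 687456))) (BT.node (nat_lit 4367815) (BT.leaf (nat_lit 687456)) (BT.leaf (nat_lit 687456)))) (BT.node (nat_lit 4367880) (BT.node (nat_lit 4367873) (BT.leaf (nat_lit 687456)) (BT.leaf (nat_lit 646752))) (BT.node (nat_lit 4367941) (BT.leaf (nat_lit 646752)) (BT.leaf (nat_lit 670360))))) (BT.node (nat_lit 4368008) (BT.node (nat_lit 4368003) (BT.node (nat_lit 4368002) (BT.leaf (nat_lit 670360)) (BT.leaf (nat_lit 636836))) (BT.node (nat_lit 4368005) (BT.leaf (nat_lit 636836)) (BT.leaf (nat_lit 636836)))) (BT.node (nat_lit 4368069) (BT.node (nat_lit 4368066) (BT.leaf (nat_lit 636836)) (BT.leaf (nat_lit 678180))) (BT.node (nat_lit 4368072) (BT.leaf (nat_lit 678180)) (BT.leaf (nat_lit 678180))))))))) (BT.node (nat_lit 4369222) (BT.node (nat_lit 4368581) (BT.node (nat_lit 4368327) (BT.node (nat_lit 4368194) (BT.node (nat_lit 4368134) (BT.node (nat_lit 4368131) (BT.node (nat_lit 4368130) (BT.leaf (nat_lit 666160)) (BT.leaf (nat_lit 666160))) (BT.node (nat_lit 4368133) (BT.leaf (nat_lit 666160)) (BT.leaf (nat_lit 666160)))) (BT.node (nat_lit 4368136) (BT.node (nat_lit 4368135) (BT.leaf (nat_lit 666160)) (BT.leaf (nat_lit 666160))) (BT.node (nat_lit 4368193) (BT.leaf (nat_lit 666160)) (BT.leaf (nat_lit 670412))))) (BT.node (nat_lit 4368322) (BT.node (nat_lit 4368198) (BT.node (nat_lit 4368195) (BT.leaf (nat_lit 670412)) (BT.leaf (nat_lit 670412))) (BT.node (nat_lit 4368199) (BT.leaf (nat_lit 670412)) (BT.leaf (nat_lit 670412)))) (BT.node (nat_lit 4368324) (BT.node (nat_lit 4368323) (BT.leaf (nat_lit 636848)) (BT.leaf (nat_lit 636848))) (BT.node (nat_lit 4368326) (BT.leaf (nat_lit 636848)) (BT.leaf (nat_lit 636848)))))) (BT.node (nat_lit 4368453) (BT.node (nat_lit 4368390) (BT.node (nat_lit 4368385) (BT.node (nat_lit 4368328) (BT.leaf (nat_lit 636848)) (BT.leaf (nat_lit 636848))) (BT.node (nat_lit 4368389) (BT.leaf (nat_lit 667856)) (BT.leaf (nat_lit 697872)))) (BT.node (nat_lit 4368449) (BT.node (nat_lit 4368392) (BT.leaf (nat_lit 667856)) (BT.leaf (nat_lit 667856))) (BT.node (nat_lit 4368452) (BT.leaf (nat_lit 657240)) (BT.leaf (nat_lit 656508))))) (BT.node (nat_lit 4368520) (BT.node (nat_lit 4368455) (BT.node (nat_lit 4368454) (BT.leaf (nat_lit 656508)) (BT.leaf (nat_lit 656508))) (BT.node (nat_lit 4368516) (BT.leaf (nat_lit 656508)) (BT.leaf (nat_lit 686696)))) (BT.node (nat_lit 4368578) (BT.node (nat_lit 4368577) (BT.leaf (nat_lit 686696)) (BT.leaf (nat_lit 620084))) (BT.node (nat_lit 4368579) (BT.leaf (nat_lit 620084)) (BT.leaf (nat_lit 729108))))))) (BT.node (nat_lit 4368774) (BT.node (nat_lit 4368645) (BT.node (nat_lit 4368641) (BT.node (nat_lit 4368583) (BT.node (nat_lit 4368582) (BT.leaf (nat_lit 620084)) (BT.leaf (nat_lit 620084))) (BT.node (nat_lit 4368584) (BT.leaf (nat_lit 620084)) (BT.leaf (nat_lit 620084)))) (BT.node (nat_lit 4368643) (BT.node (nat_lit 4368642) (BT.leaf (nat_lit 606536)) (BT.leaf (nat_lit 729112))) (BT.node (nat_lit 4368644) (BT.leaf (nat_lit 606536)) (BT.leaf (nat_lit 606536))))) (BT.node (nat_lit 4368710) (BT.node (nat_lit 4368707) (BT.node (nat_lit 4368706) (BT.leaf (nat_lit 606536)) (BT.leaf (nat_lit 693324))) (BT.node (nat_lit 4368708) (BT.leaf (nat_lit 693324)) (BT.leaf (nat_lit 675428)))) (BT.node (nat_lit 4368771) (BT.node (nat_lit 4368711) (BT.leaf (nat_lit 675428)) (BT.leaf (nat_lit 675428))) (BT.node (nat_lit 4368772) (BT.leaf (nat_lit 633944)) (BT.leaf (nat_lit 719004)))))) (BT.node (nat_lit 4368967) (BT.node (nat_lit 4368840) (BT.node (nat_lit 4368838) (BT.node (nat_lit 4368776) (BT.leaf (nat_lit 633944)) (BT.leaf (nat_lit 633944))) (BT.node (nat_lit 4368839) (BT.leaf (nat_lit 719008)) (BT.leaf (nat_lit 719008)))) (BT.node (nat_lit 4368963) (BT.node (nat_lit 4368962) (BT.leaf (nat_lit 719008)) (BT.leaf (nat_lit 720644))) (BT.node (nat_lit 4368966) (BT.leaf (nat_lit 720644)) (BT.leaf (nat_lit 647380))))) (BT.node (nat_lit 4369030) (BT.node (nat_lit 4369027) (BT.node (nat_lit 4369026) (BT.leaf (nat_lit 647380)) (BT.leaf (nat_lit 629872))) (BT.node (nat_lit 4369028) (BT.leaf (nat_lit 629872)) (BT.leaf (nat_lit 704284)))) (BT.node (nat_lit 4369157) (BT.node (nat_lit 4369031) (BT.leaf (nat_lit 629872)) (BT.leaf (nat_lit 629872))) (BT.node (nat_lit 4369218) (BT.leaf (nat_lit 704288)) (BT.leaf (nat_lit 655724)))))))) (BT.node (nat_lit 4369861) (BT.node (nat_lit 4369543) (BT.node (nat_lit 4369350) (BT.node (nat_lit 4369345) (BT.node (nat_lit 4369281) (BT.node (nat_lit 4369223) (BT.leaf (nat_lit 655724)) (BT.leaf (nat_lit 655724))) (BT.node (nat_lit 4369286) (BT.leaf (nat_lit 607248)) (BT.leaf (nat_lit 607248)))) (BT.node (nat_lit 4369347) (BT.node (nat_lit 4369346) (BT.leaf (nat_lit 647368)) (BT.leaf (nat_lit 647368))) (BT.node (nat_lit 4369348) (BT.leaf (nat_lit 647368)) (BT.leaf (nat_lit 647368))))) (BT.node (nat_lit 4369538) (BT.node (nat_lit 4369352) (BT.node (nat_lit 4369351) (BT.leaf (nat_lit 647368)) (BT.leaf (nat_lit 647368))) (BT.node (nat_lit 4369537) (BT.leaf (nat_lit 647368)) (BT.leaf (nat_lit 691552)))) (BT.node (nat_lit 4369541) (BT.node (nat_lit 4369539) (BT.leaf (nat_lit 691552)) (BT.leaf (nat_lit 691552))) (BT.node (nat_lit 4369542) (BT.leaf (nat_lit 677960)) (BT.leaf (nat_lit 677960)))))) (BT.node (nat_lit 4369665) (BT.node (nat_lit 4369603) (BT.node (nat_lit 4369601) (BT.node (nat_lit 4369544) (BT.leaf (nat_lit 677960)) (BT.leaf (nat_lit 691552))) (BT.node (nat_lit 4369602) (BT.leaf (nat_lit 691364)) (BT.leaf (nat_lit 691364)))) (BT.node (nat_lit 4369606) (BT.node (nat_lit 4369605) (BT.leaf (nat_lit 691364)) (BT.leaf (nat_lit 711652))) (BT.node (nat_lit 4369607) (BT.leaf (nat_lit 711652)) (BT.leaf (nat_lit 711652))))) (BT.node (nat_lit 4369732) (BT.node (nat_lit 4369667) (BT.node (nat_lit 4369666) (BT.leaf (nat_lit 607920)) (BT.leaf (nat_lit 607920))) (BT.node (nat_lit 4369731) (BT.leaf (nat_lit 607920)) (BT.leaf (nat_lit 639284)))) (BT.node (nat_lit 4369797) (BT.node (nat_lit 4369733) (BT.leaf (nat_lit 684860)) (BT.leaf (nat_lit 639284))) (BT.node (nat_lit 4369857) (BT.leaf (nat_lit 641528)) (BT.leaf (nat_lit 644700))))))) (BT.node (nat_lit 4370117) (BT.node (nat_lit 4370049) (BT.node (nat_lit 4369925) (BT.node (nat_lit 4369923) (BT.node (nat_lit 4369864) (BT.leaf (nat_lit 644700)) (BT.leaf (nat_lit 644700))) (BT.node (nat_lit 4369924) (BT.leaf (nat_lit 662152)) (BT.leaf (nat_lit 666204)))) (BT.node (nat_lit 4369990) (BT.node (nat_lit 4369985) (BT.leaf (nat_lit 662152)) (BT.leaf (nat_lit 635612))) (BT.node (nat_lit 4369992) (BT.leaf (nat_lit 635612)) (BT.leaf (nat_lit 635612))))) (BT.node (nat_lit 4370054) (BT.node (nat_lit 4370051) (BT.node (nat_lit 4370050) (BT.leaf (nat_lit 655980)) (BT.leaf (nat_lit 655980))) (BT.node (nat_lit 4370053) (BT.leaf (nat_lit 655980)) (BT.leaf (nat_lit 655980)))) (BT.node (nat_lit 4370056) (BT.node (nat_lit 4370055) (BT.leaf (nat_lit 711576)) (BT.leaf (nat_lit 711576))) (BT.node (nat_lit 4370116) (BT.leaf (nat_lit 655980)) (BT.leaf (nat_lit 666332)))))) (BT.node (nat_lit 4370501) (BT.node (nat_lit 4370309) (BT.node (nat_lit 4370244) (BT.node (nat_lit 4370177) (BT.leaf (nat_lit 666332)) (BT.leaf (nat_lit 708616))) (BT.node (nat_lit 4370245) (BT.leaf (nat_lit 812540)) (BT.leaf (nat_lit 752336)))) (BT.node (nat_lit 4370499) (BT.node (nat_lit 4370435) (BT.leaf (nat_lit 671268)) (BT.leaf (nat_lit 715828))) (BT.node (nat_lit 4370500) (BT.leaf (nat_lit 794636)) (BT.leaf (nat_lit 702680))))) (BT.node (nat_lit 4370760) (BT.node (nat_lit 4370631) (BT.node (nat_lit 4370566) (BT.leaf (nat_lit 702680)) (BT.leaf (nat_lit 626800))) (BT.node (nat_lit 4370756) (BT.leaf (nat_lit 722496)) (BT.leaf (nat_lit 687420)))) (BT.node (nat_lit 4370883) (BT.node (nat_lit 4370824) (BT.leaf (nat_lit 687420)) (BT.leaf (nat_lit 720656))) (BT.node (nat_lit 4370888) (BT.leaf (nat_lit 644008)) (BT.leaf (nat_lit 644008)))))))))))))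
noncomputable def big0_e4096 : BT Nat := (BT.node (nat_lit 4405956) (BT.node (nat_lit 4389446) (BT.node (nat_lit 4380613) (BT.node (nat_lit 4376002) (BT.node (nat_lit 4373253) (BT.node (nat_lit 4372229) (BT.node (nat_lit 4371717) (BT.node (nat_lit 4371396) (BT.node (nat_lit 4371144) (BT.node (nat_lit 4371076) (BT.node (nat_lit 4371013) (BT.leaf (nat_lit 671272)) (BT.leaf (nat_lit 657644))) (BT.node (nat_lit 4371137) (BT.leaf (nat_lit 686604)) (BT.leaf (nat_lit 611780)))) (BT.node (nat_lit 4371204) (BT.node (nat_lit 4371201) (BT.leaf (nat_lit 611780)) (BT.leaf (nat_lit 689160))) (BT.node (nat_lit 4371332) (BT.leaf (nat_lit 689160)) (BT.leaf (nat_lit 777576))))) (BT.node (nat_lit 4371525) (BT.node (nat_lit 4371522) (BT.node (nat_lit 4371461) (BT.leaf (nat_lit 709208)) (BT.leaf (nat_lit 619468))) (BT.node (nat_lit 4371524) (BT.leaf (nat_lit 691384)) (BT.leaf (nat_lit 681820)))) (BT.node (nat_lit 4371655) (BT.node (nat_lit 4371590) (BT.leaf (nat_lit 691384)) (BT.leaf (nat_lit 722436))) (BT.node (nat_lit 4371716) (BT.leaf (nat_lit 627920)) (BT.leaf (nat_lit 707400)))))) (BT.node (nat_lit 4371911) (BT.node (nat_lit 4371848) (BT.node (nat_lit 4371844) (BT.node (nat_lit 4371842) (BT.leaf (nat_lit 707400)) (BT.leaf (nat_lit 707420))) (BT.node (nat_lit 4371847) (BT.leaf (nat_lit 672468)) (BT.leaf (nat_lit 707420)))) (BT.node (nat_lit 4371907) (BT.node (nat_lit 4371906) (BT.leaf (nat_lit 736164)) (BT.leaf (nat_lit 650484))) (BT.node (nat_lit 4371910) (BT.leaf (nat_lit 650484)) (BT.leaf (nat_lit 650484))))) (BT.node (nat_lit 4372038) (BT.node (nat_lit 4372034) (BT.node (nat_lit 4371972) (BT.leaf (nat_lit 650484)) (BT.leaf (nat_lit 620780))) (BT.node (nat_lit 4372035) (BT.leaf (nat_lit 646212)) (BT.leaf (nat_lit 646212)))) (BT.node (nat_lit 4372165) (BT.node (nat_lit 4372039) (BT.leaf (nat_lit 646212)) (BT.leaf (nat_lit 646212))) (BT.node (nat_lit 4372228) (BT.leaf (nat_lit 690008)) (BT.leaf (nat_lit 659456))))))) (BT.node (nat_lit 4372679) (BT.node (nat_lit 4372552) (BT.node (nat_lit 4372293) (BT.node (nat_lit 4372291) (BT.node (nat_lit 4372290) (BT.leaf (nat_lit 813028)) (BT.leaf (nat_lit 797884))) (BT.node (nat_lit 4372292) (BT.leaf (nat_lit 797884)) (BT.leaf (nat_lit 636772)))) (BT.node (nat_lit 4372355) (BT.node (nat_lit 4372354) (BT.leaf (nat_lit 636772)) (BT.leaf (nat_lit 797888))) (BT.node (nat_lit 4372549) (BT.leaf (nat_lit 797888)) (BT.leaf (nat_lit 609288))))) (BT.node (nat_lit 4372674) (BT.node (nat_lit 4372613) (BT.node (nat_lit 4372612) (BT.leaf (nat_lit 609288)) (BT.leaf (nat_lit 705876))) (BT.node (nat_lit 4372616) (BT.leaf (nat_lit 705876)) (BT.leaf (nat_lit 705876)))) (BT.node (nat_lit 4372676) (BT.node (nat_lit 4372675) (BT.leaf (nat_lit 614176)) (BT.leaf (nat_lit 614176))) (BT.node (nat_lit 4372678) (BT.leaf (nat_lit 614176)) (BT.leaf (nat_lit 614176)))))) (BT.node (nat_lit 4372806) (BT.node (nat_lit 4372743) (BT.node (nat_lit 4372741) (BT.node (nat_lit 4372739) (BT.leaf (nat_lit 614176)) (BT.leaf (nat_lit 682192))) (BT.node (nat_lit 4372742) (BT.leaf (nat_lit 814528)) (BT.leaf (nat_lit 682192)))) (BT.node (nat_lit 4372803) (BT.node (nat_lit 4372802) (BT.leaf (nat_lit 630288)) (BT.leaf (nat_lit 705880))) (BT.node (nat_lit 4372804) (BT.leaf (nat_lit 705880)) (BT.leaf (nat_lit 814532))))) (BT.node (nat_lit 4372933) (BT.node (nat_lit 4372808) (BT.node (nat_lit 4372807) (BT.leaf (nat_lit 705880)) (BT.leaf (nat_lit 705880))) (BT.node (nat_lit 4372932) (BT.leaf (nat_lit 814532)) (BT.leaf (nat_lit 695664)))) (BT.node (nat_lit 4373124) (BT.node (nat_lit 4372996) (BT.leaf (nat_lit 695664)) (BT.leaf (nat_lit 794732))) (BT.node (nat_lit 4373252) (BT.leaf (nat_lit 612132)) (BT.leaf (nat_lit 687608)))))))) (BT.node (nat_lit 4374725) (BT.node (nat_lit 4374020) (BT.node (nat_lit 4373698) (BT.node (nat_lit 4373383) (BT.node (nat_lit 4373379) (BT.node (nat_lit 4373378) (BT.leaf (nat_lit 693800)) (BT.leaf (nat_lit 685548))) (BT.node (nat_lit 4373382) (BT.leaf (nat_lit 685548)) (BT.leaf (nat_lit 685548)))) (BT.node (nat_lit 4373444) (BT.node (nat_lit 4373384) (BT.leaf (nat_lit 685548)) (BT.leaf (nat_lit 685548))) (BT.node (nat_lit 4373636) (BT.leaf (nat_lit 617620)) (BT.leaf (nat_lit 610856))))) (BT.node (nat_lit 4373825) (BT.node (nat_lit 4373702) (BT.node (nat_lit 4373700) (BT.leaf (nat_lit 686856)) (BT.leaf (nat_lit 631128))) (BT.node (nat_lit 4373704) (BT.leaf (nat_lit 686856)) (BT.leaf (nat_lit 686856)))) (BT.node (nat_lit 4374018) (BT.node (nat_lit 4373956) (BT.leaf (nat_lit 712840)) (BT.leaf (nat_lit 818916))) (BT.node (nat_lit 4374019) (BT.leaf (nat_lit 640792)) (BT.leaf (nat_lit 640792)))))) (BT.node (nat_lit 4374342) (BT.node (nat_lit 4374150) (BT.node (nat_lit 4374023) (BT.node (nat_lit 4374022) (BT.leaf (nat_lit 665492)) (BT.leaf (nat_lit 640792))) (BT.node (nat_lit 4374024) (BT.leaf (nat_lit 640792)) (BT.leaf (nat_lit 640792)))) (BT.node (nat_lit 4374213) (BT.node (nat_lit 4374151) (BT.leaf (nat_lit 669360)) (BT.leaf (nat_lit 669360))) (BT.node (nat_lit 4374341) (BT.leaf (nat_lit 729992)) (BT.leaf (nat_lit 677596))))) (BT.node (nat_lit 4374661) (BT.node (nat_lit 4374594) (BT.node (nat_lit 4374343) (BT.leaf (nat_lit 652348)) (BT.leaf (nat_lit 677596))) (BT.node (nat_lit 4374658) (BT.leaf (nat_lit 760820)) (BT.leaf (nat_lit 723436)))) (BT.node (nat_lit 4374723) (BT.node (nat_lit 4374664) (BT.leaf (nat_lit 657372)) (BT.leaf (nat_lit 723436))) (BT.node (nat_lit 4374724) (BT.leaf (nat_lit 723448)) (BT.leaf (nat_lit 680968))))))) (BT.node (nat_lit 4375430) (BT.node (nat_lit 4375171) (BT.node (nat_lit 4375047) (BT.node (nat_lit 4374915) (BT.node (nat_lit 4374728) (BT.leaf (nat_lit 680968)) (BT.leaf (nat_lit 723448))) (BT.node (nat_lit 4374980) (BT.leaf (nat_lit 659800)) (BT.leaf (nat_lit 789316)))) (BT.node (nat_lit 4375106) (BT.node (nat_lit 4375048) (BT.leaf (nat_lit 692184)) (BT.leaf (nat_lit 663904))) (BT.node (nat_lit 4375110) (BT.leaf (nat_lit 715620)) (BT.leaf (nat_lit 715620))))) (BT.node (nat_lit 4375298) (BT.node (nat_lit 4375173) (BT.node (nat_lit 4375172) (BT.leaf (nat_lit 694324)) (BT.leaf (nat_lit 626912))) (BT.node (nat_lit 4375176) (BT.leaf (nat_lit 694324)) (BT.leaf (nat_lit 767096)))) (BT.node (nat_lit 4375362) (BT.node (nat_lit 4375300) (BT.leaf (nat_lit 638680)) (BT.leaf (nat_lit 638680))) (BT.node (nat_lit 4375365) (BT.leaf (nat_lit 618860)) (BT.leaf (nat_lit 618860)))))) (BT.node (nat_lit 4375875) (BT.node (nat_lit 4375681) (BT.node (nat_lit 4375619) (BT.node (nat_lit 4375431) (BT.leaf (nat_lit 689168)) (BT.leaf (nat_lit 689168))) (BT.node (nat_lit 4375620) (BT.leaf (nat_lit 697980)) (BT.leaf (nat_lit 697980)))) (BT.node (nat_lit 4375752) (BT.node (nat_lit 4375750) (BT.leaf (nat_lit 607744)) (BT.leaf (nat_lit 682224))) (BT.node (nat_lit 4375812) (BT.leaf (nat_lit 682224)) (BT.leaf (nat_lit 695736))))) (BT.node (nat_lit 4375939) (BT.node (nat_lit 4375877) (BT.node (nat_lit 4375876) (BT.leaf (nat_lit 681156)) (BT.leaf (nat_lit 670224))) (BT.node (nat_lit 4375880) (BT.leaf (nat_lit 670224)) (BT.leaf (nat_lit 670224)))) (BT.node (nat_lit 4375942) (BT.node (nat_lit 4375940) (BT.leaf (nat_lit 645692)) (BT.leaf (nat_lit 707248))) (BT.node (nat_lit 4375944) (BT.leaf (nat_lit 645692)) (BT.leaf (nat_lit 645692))))))))) (BT.node (nat_lit 4378758) (BT.node (nat_lit 4377349) (BT.node (nat_lit 4376517) (BT.node (nat_lit 4376322) (BT.node (nat_lit 4376066) (BT.node (nat_lit 4376005) (BT.node (nat_lit 4376004) (BT.leaf (nat_lit 669660)) (BT.leaf (nat_lit 669660))) (BT.node (nat_lit 4376065) (BT.leaf (nat_lit 669660)) (BT.leaf (nat_lit 607776)))) (BT.node (nat_lit 4376070) (BT.node (nat_lit 4376067) (BT.leaf (nat_lit 607776)) (BT.leaf (nat_lit 607776))) (BT.node (nat_lit 4376321) (BT.leaf (nat_lit 607776)) (BT.leaf (nat_lit 814740))))) (BT.node (nat_lit 4376388) (BT.node (nat_lit 4376386) (BT.node (nat_lit 4376324) (BT.leaf (nat_lit 662864)) (BT.leaf (nat_lit 662864))) (BT.node (nat_lit 4376387) (BT.leaf (nat_lit 652272)) (BT.leaf (nat_lit 652272)))) (BT.node (nat_lit 4376392) (BT.node (nat_lit 4376390) (BT.leaf (nat_lit 682180)) (BT.leaf (nat_lit 652272))) (BT.node (nat_lit 4376453) (BT.leaf (nat_lit 682180)) (BT.leaf (nat_lit 652400)))))) (BT.node (nat_lit 4376902) (BT.node (nat_lit 4376645) (BT.node (nat_lit 4376582) (BT.node (nat_lit 4376581) (BT.leaf (nat_lit 609328)) (BT.leaf (nat_lit 685136))) (BT.node (nat_lit 4376583) (BT.leaf (nat_lit 685136)) (BT.leaf (nat_lit 685136)))) (BT.node (nat_lit 4376647) (BT.node (nat_lit 4376646) (BT.leaf (nat_lit 692952)) (BT.leaf (nat_lit 692952))) (BT.node (nat_lit 4376901) (BT.leaf (nat_lit 692952)) (BT.leaf (nat_lit 672436))))) (BT.node (nat_lit 4377159) (BT.node (nat_lit 4376961) (BT.node (nat_lit 4376903) (BT.leaf (nat_lit 672436)) (BT.leaf (nat_lit 672436))) (BT.node (nat_lit 4377158) (BT.leaf (nat_lit 804676)) (BT.leaf (nat_lit 630204)))) (BT.node (nat_lit 4377284) (BT.node (nat_lit 4377221) (BT.leaf (nat_lit 630204)) (BT.leaf (nat_lit 798068))) (BT.node (nat_lit 4377285) (BT.leaf (nat_lit 716480)) (BT.leaf (nat_lit 644016))))))) (BT.node (nat_lit 4378241) (BT.node (nat_lit 4377537) (BT.node (nat_lit 4377474) (BT.node (nat_lit 4377414) (BT.node (nat_lit 4377410) (BT.leaf (nat_lit 645900)) (BT.leaf (nat_lit 614216))) (BT.node (nat_lit 4377415) (BT.leaf (nat_lit 614216)) (BT.leaf (nat_lit 614216)))) (BT.node (nat_lit 4377477) (BT.node (nat_lit 4377476) (BT.leaf (nat_lit 643660)) (BT.leaf (nat_lit 643660))) (BT.node (nat_lit 4377480) (BT.leaf (nat_lit 643660)) (BT.leaf (nat_lit 643660))))) (BT.node (nat_lit 4377734) (BT.node (nat_lit 4377540) (BT.node (nat_lit 4377538) (BT.leaf (nat_lit 637624)) (BT.leaf (nat_lit 645264))) (BT.node (nat_lit 4377605) (BT.leaf (nat_lit 645264)) (BT.leaf (nat_lit 651788)))) (BT.node (nat_lit 4377795) (BT.node (nat_lit 4377735) (BT.leaf (nat_lit 616880)) (BT.leaf (nat_lit 616880))) (BT.node (nat_lit 4377797) (BT.leaf (nat_lit 623704)) (BT.leaf (nat_lit 623704)))))) (BT.node (nat_lit 4378504) (BT.node (nat_lit 4378376) (BT.node (nat_lit 4378370) (BT.node (nat_lit 4378244) (BT.leaf (nat_lit 716048)) (BT.leaf (nat_lit 716048))) (BT.node (nat_lit 4378373) (BT.leaf (nat_lit 722880)) (BT.leaf (nat_lit 708296)))) (BT.node (nat_lit 4378440) (BT.node (nat_lit 4378436) (BT.leaf (nat_lit 722880)) (BT.leaf (nat_lit 722892))) (BT.node (nat_lit 4378499) (BT.leaf (nat_lit 722892)) (BT.leaf (nat_lit 640444))))) (BT.node (nat_lit 4378692) (BT.node (nat_lit 4378563) (BT.node (nat_lit 4378562) (BT.leaf (nat_lit 640444)) (BT.leaf (nat_lit 686724))) (BT.node (nat_lit 4378564) (BT.leaf (nat_lit 657888)) (BT.leaf (nat_lit 778016)))) (BT.node (nat_lit 4378754) (BT.node (nat_lit 4378693) (BT.leaf (nat_lit 633700)) (BT.leaf (nat_lit 641956))) (BT.node (nat_lit 4378755) (BT.leaf (nat_lit 624340)) (BT.leaf (nat_lit 624340)))))))) (BT.node (nat_lit 4379716) (BT.node (nat_lit 4379458) (BT.node (nat_lit 4379204) (BT.node (nat_lit 4379014) (BT.node (nat_lit 4378820) (BT.node (nat_lit 4378759) (BT.leaf (nat_lit 648392)) (BT.leaf (nat_lit 648392))) (BT.node (nat_lit 4379010) (BT.leaf (nat_lit 696908)) (BT.leaf (nat_lit 760024)))) (BT.node (nat_lit 4379143) (BT.node (nat_lit 4379142) (BT.leaf (nat_lit 787948)) (BT.leaf (nat_lit 656740))) (BT.node (nat_lit 4379203) (BT.leaf (nat_lit 656740)) (BT.leaf (nat_lit 669592))))) (BT.node (nat_lit 4379336) (BT.node (nat_lit 4379269) (BT.node (nat_lit 4379268) (BT.leaf (nat_lit 669592)) (BT.leaf (nat_lit 627792))) (BT.node (nat_lit 4379334) (BT.leaf (nat_lit 627792)) (BT.leaf (nat_lit 701500)))) (BT.node (nat_lit 4379395) (BT.node (nat_lit 4379393) (BT.leaf (nat_lit 801508)) (BT.leaf (nat_lit 648220))) (BT.node (nat_lit 4379457) (BT.leaf (nat_lit 648220)) (BT.leaf (nat_lit 620616)))))) (BT.node (nat_lit 4379589) (BT.node (nat_lit 4379523) (BT.node (nat_lit 4379461) (BT.node (nat_lit 4379460) (BT.leaf (nat_lit 620616)) (BT.leaf (nat_lit 620616))) (BT.node (nat_lit 4379522) (BT.leaf (nat_lit 620616)) (BT.leaf (nat_lit 639588)))) (BT.node (nat_lit 4379525) (BT.node (nat_lit 4379524) (BT.leaf (nat_lit 714808)) (BT.leaf (nat_lit 714808))) (BT.node (nat_lit 4379587) (BT.leaf (nat_lit 639588)) (BT.leaf (nat_lit 639596))))) (BT.node (nat_lit 4379650) (BT.node (nat_lit 4379591) (BT.node (nat_lit 4379590) (BT.leaf (nat_lit 639596)) (BT.leaf (nat_lit 639596))) (BT.node (nat_lit 4379592) (BT.leaf (nat_lit 639596)) (BT.leaf (nat_lit 639596)))) (BT.node (nat_lit 4379655) (BT.node (nat_lit 4379652) (BT.leaf (nat_lit 722736)) (BT.leaf (nat_lit 619312))) (BT.node (nat_lit 4379656) (BT.leaf (nat_lit 722736)) (BT.leaf (nat_lit 722736))))))) (BT.node (nat_lit 4379976) (BT.node (nat_lit 4379843) (BT.node (nat_lit 4379783) (BT.node (nat_lit 4379719) (BT.node (nat_lit 4379718) (BT.leaf (nat_lit 656724)) (BT.leaf (nat_lit 710592))) (BT.node (nat_lit 4379720) (BT.leaf (nat_lit 710592)) (BT.leaf (nat_lit 627812)))) (BT.node (nat_lit 4379841) (BT.node (nat_lit 4379784) (BT.leaf (nat_lit 648084)) (BT.leaf (nat_lit 648084))) (BT.node (nat_lit 4379842) (BT.leaf (nat_lit 689760)) (BT.leaf (nat_lit 689760))))) (BT.node (nat_lit 4379907) (BT.node (nat_lit 4379847) (BT.node (nat_lit 4379846) (BT.leaf (nat_lit 689760)) (BT.leaf (nat_lit 689760))) (BT.node (nat_lit 4379906) (BT.leaf (nat_lit 689760)) (BT.leaf (nat_lit 679148)))) (BT.node (nat_lit 4379911) (BT.node (nat_lit 4379910) (BT.leaf (nat_lit 679148)) (BT.leaf (nat_lit 679148))) (BT.node (nat_lit 4379975) (BT.leaf (nat_lit 679148)) (BT.leaf (nat_lit 717096)))))) (BT.node (nat_lit 4380295) (BT.node (nat_lit 4380231) (BT.node (nat_lit 4380226) (BT.node (nat_lit 4380166) (BT.leaf (nat_lit 717096)) (BT.leaf (nat_lit 662976))) (BT.node (nat_lit 4380230) (BT.leaf (nat_lit 742828)) (BT.leaf (nat_lit 742828)))) (BT.node (nat_lit 4380293) (BT.node (nat_lit 4380232) (BT.leaf (nat_lit 742828)) (BT.leaf (nat_lit 742828))) (BT.node (nat_lit 4380294) (BT.leaf (nat_lit 709036)) (BT.leaf (nat_lit 709036))))) (BT.node (nat_lit 4380546) (BT.node (nat_lit 4380358) (BT.node (nat_lit 4380357) (BT.leaf (nat_lit 709036)) (BT.leaf (nat_lit 649656))) (BT.node (nat_lit 4380359) (BT.leaf (nat_lit 624528)) (BT.leaf (nat_lit 624528)))) (BT.node (nat_lit 4380549) (BT.node (nat_lit 4380548) (BT.leaf (nat_lit 696668)) (BT.leaf (nat_lit 696668))) (BT.node (nat_lit 4380610) (BT.leaf (nat_lit 696668)) (BT.leaf (nat_lit 704564)))))))))) (BT.node (nat_lit 4384709) (BT.node (nat_lit 4382407) (BT.node (nat_lit 4381510) (BT.node (nat_lit 4381059) (BT.node (nat_lit 4380934) (BT.node (nat_lit 4380744) (BT.node (nat_lit 4380679) (BT.node (nat_lit 4380675) (BT.leaf (nat_lit 704564)) (BT.leaf (nat_lit 622908))) (BT.node (nat_lit 4380738) (BT.leaf (nat_lit 622908)) (BT.leaf (nat_lit 720004)))) (BT.node (nat_lit 4380871) (BT.node (nat_lit 4380806) (BT.leaf (nat_lit 720004)) (BT.leaf (nat_lit 774364))) (BT.node (nat_lit 4380933) (BT.leaf (nat_lit 675228)) (BT.leaf (nat_lit 679872))))) (BT.node (nat_lit 4380996) (BT.node (nat_lit 4380994) (BT.node (nat_lit 4380935) (BT.leaf (nat_lit 639936)) (BT.leaf (nat_lit 639936))) (BT.node (nat_lit 4380995) (BT.leaf (nat_lit 630632)) (BT.leaf (nat_lit 630632)))) (BT.node (nat_lit 4380999) (BT.node (nat_lit 4380998) (BT.leaf (nat_lit 630632)) (BT.leaf (nat_lit 614984))) (BT.node (nat_lit 4381058) (BT.leaf (nat_lit 614984)) (BT.leaf (nat_lit 696456)))))) (BT.node (nat_lit 4381256) (BT.node (nat_lit 4381249) (BT.node (nat_lit 4381187) (BT.node (nat_lit 4381185) (BT.leaf (nat_lit 696456)) (BT.leaf (nat_lit 666796))) (BT.node (nat_lit 4381190) (BT.leaf (nat_lit 666796)) (BT.leaf (nat_lit 666796)))) (BT.node (nat_lit 4381251) (BT.node (nat_lit 4381250) (BT.leaf (nat_lit 723240)) (BT.leaf (nat_lit 723240))) (BT.node (nat_lit 4381252) (BT.leaf (nat_lit 723240)) (BT.leaf (nat_lit 723240))))) (BT.node (nat_lit 4381384) (BT.node (nat_lit 4381380) (BT.node (nat_lit 4381379) (BT.leaf (nat_lit 723240)) (BT.leaf (nat_lit 622628))) (BT.node (nat_lit 4381382) (BT.leaf (nat_lit 622628)) (BT.leaf (nat_lit 622628)))) (BT.node (nat_lit 4381447) (BT.node (nat_lit 4381446) (BT.leaf (nat_lit 622628)) (BT.leaf (nat_lit 703724))) (BT.node (nat_lit 4381509) (BT.leaf (nat_lit 703724)) (BT.leaf (nat_lit 624700))))))) (BT.node (nat_lit 4381957) (BT.node (nat_lit 4381699) (BT.node (nat_lit 4381572) (BT.node (nat_lit 4381570) (BT.node (nat_lit 4381511) (BT.leaf (nat_lit 624700)) (BT.leaf (nat_lit 624700))) (BT.node (nat_lit 4381571) (BT.leaf (nat_lit 694808)) (BT.leaf (nat_lit 694808)))) (BT.node (nat_lit 4381637) (BT.node (nat_lit 4381634) (BT.leaf (nat_lit 694808)) (BT.leaf (nat_lit 620420))) (BT.node (nat_lit 4381698) (BT.leaf (nat_lit 620420)) (BT.leaf (nat_lit 663152))))) (BT.node (nat_lit 4381825) (BT.node (nat_lit 4381703) (BT.node (nat_lit 4381702) (BT.leaf (nat_lit 663152)) (BT.leaf (nat_lit 663152))) (BT.node (nat_lit 4381765) (BT.leaf (nat_lit 663152)) (BT.leaf (nat_lit 663196)))) (BT.node (nat_lit 4381892) (BT.node (nat_lit 4381828) (BT.leaf (nat_lit 672560)) (BT.leaf (nat_lit 649008))) (BT.node (nat_lit 4381955) (BT.leaf (nat_lit 647580)) (BT.leaf (nat_lit 652760)))))) (BT.node (nat_lit 4382147) (BT.node (nat_lit 4382021) (BT.node (nat_lit 4382019) (BT.node (nat_lit 4382017) (BT.leaf (nat_lit 652760)) (BT.leaf (nat_lit 641796))) (BT.node (nat_lit 4382020) (BT.leaf (nat_lit 641796)) (BT.leaf (nat_lit 717816)))) (BT.node (nat_lit 4382086) (BT.node (nat_lit 4382085) (BT.leaf (nat_lit 641796)) (BT.leaf (nat_lit 641608))) (BT.node (nat_lit 4382087) (BT.leaf (nat_lit 702052)) (BT.leaf (nat_lit 702052))))) (BT.node (nat_lit 4382339) (BT.node (nat_lit 4382276) (BT.node (nat_lit 4382149) (BT.leaf (nat_lit 637692)) (BT.leaf (nat_lit 695492))) (BT.node (nat_lit 4382278) (BT.leaf (nat_lit 613132)) (BT.leaf (nat_lit 613132)))) (BT.node (nat_lit 4382405) (BT.node (nat_lit 4382402) (BT.leaf (nat_lit 620376)) (BT.leaf (nat_lit 646052))) (BT.node (nat_lit 4382406) (BT.leaf (nat_lit 646052)) (BT.leaf (nat_lit 646052)))))))) (BT.node (nat_lit 4383559) (BT.node (nat_lit 4383112) (BT.node (nat_lit 4382790) (BT.node (nat_lit 4382536) (BT.node (nat_lit 4382531) (BT.node (nat_lit 4382530) (BT.leaf (nat_lit 646052)) (BT.leaf (nat_lit 628704))) (BT.node (nat_lit 4382532) (BT.leaf (nat_lit 628704)) (BT.leaf (nat_lit 628704)))) (BT.node (nat_lit 4382597) (BT.node (nat_lit 4382596) (BT.leaf (nat_lit 628704)) (BT.leaf (nat_lit 686092))) (BT.node (nat_lit 4382727) (BT.leaf (nat_lit 686092)) (BT.leaf (nat_lit 657460))))) (BT.node (nat_lit 4382856) (BT.node (nat_lit 4382852) (BT.node (nat_lit 4382791) (BT.leaf (nat_lit 666924)) (BT.leaf (nat_lit 666924))) (BT.node (nat_lit 4382853) (BT.leaf (nat_lit 790612)) (BT.leaf (nat_lit 628688)))) (BT.node (nat_lit 4382920) (BT.node (nat_lit 4382916) (BT.leaf (nat_lit 790612)) (BT.leaf (nat_lit 674432))) (BT.node (nat_lit 4383105) (BT.leaf (nat_lit 674432)) (BT.leaf (nat_lit 766568)))))) (BT.node (nat_lit 4383301) (BT.node (nat_lit 4383236) (BT.node (nat_lit 4383174) (BT.node (nat_lit 4383173) (BT.leaf (nat_lit 766568)) (BT.leaf (nat_lit 608552))) (BT.node (nat_lit 4383175) (BT.leaf (nat_lit 608552)) (BT.leaf (nat_lit 608552)))) (BT.node (nat_lit 4383298) (BT.node (nat_lit 4383240) (BT.leaf (nat_lit 639100)) (BT.leaf (nat_lit 639100))) (BT.node (nat_lit 4383300) (BT.leaf (nat_lit 714028)) (BT.leaf (nat_lit 671900))))) (BT.node (nat_lit 4383428) (BT.node (nat_lit 4383426) (BT.node (nat_lit 4383304) (BT.leaf (nat_lit 714028)) (BT.leaf (nat_lit 671900))) (BT.node (nat_lit 4383427) (BT.leaf (nat_lit 692408)) (BT.leaf (nat_lit 692408)))) (BT.node (nat_lit 4383554) (BT.node (nat_lit 4383494) (BT.leaf (nat_lit 692408)) (BT.leaf (nat_lit 713984))) (BT.node (nat_lit 4383558) (BT.leaf (nat_lit 681368)) (BT.leaf (nat_lit 681368))))))) (BT.node (nat_lit 4384071) (BT.node (nat_lit 4383878) (BT.node (nat_lit 4383687) (BT.node (nat_lit 4383685) (BT.node (nat_lit 4383560) (BT.leaf (nat_lit 681368)) (BT.leaf (nat_lit 681368))) (BT.node (nat_lit 4383686) (BT.leaf (nat_lit 692412)) (BT.leaf (nat_lit 692412)))) (BT.node (nat_lit 4383748) (BT.node (nat_lit 4383747) (BT.leaf (nat_lit 692412)) (BT.leaf (nat_lit 653856))) (BT.node (nat_lit 4383877) (BT.leaf (nat_lit 653856)) (BT.leaf (nat_lit 634704))))) (BT.node (nat_lit 4384003) (BT.node (nat_lit 4383940) (BT.node (nat_lit 4383879) (BT.leaf (nat_lit 634704)) (BT.leaf (nat_lit 634704))) (BT.node (nat_lit 4383941) (BT.leaf (nat_lit 674904)) (BT.leaf (nat_lit 634564)))) (BT.node (nat_lit 4384008) (BT.node (nat_lit 4384007) (BT.leaf (nat_lit 634884)) (BT.leaf (nat_lit 634884))) (BT.node (nat_lit 4384068) (BT.leaf (nat_lit 634884)) (BT.leaf (nat_lit 764784)))))) (BT.node (nat_lit 4384198) (BT.node (nat_lit 4384135) (BT.node (nat_lit 4384133) (BT.node (nat_lit 4384130) (BT.leaf (nat_lit 710820)) (BT.leaf (nat_lit 631292))) (BT.node (nat_lit 4384134) (BT.leaf (nat_lit 631292)) (BT.leaf (nat_lit 631292)))) (BT.node (nat_lit 4384195) (BT.node (nat_lit 4384136) (BT.leaf (nat_lit 631292)) (BT.leaf (nat_lit 631292))) (BT.node (nat_lit 4384197) (BT.leaf (nat_lit 629400)) (BT.leaf (nat_lit 629400))))) (BT.node (nat_lit 4384386) (BT.node (nat_lit 4384264) (BT.node (nat_lit 4384199) (BT.leaf (nat_lit 629400)) (BT.leaf (nat_lit 629400))) (BT.node (nat_lit 4384321) (BT.leaf (nat_lit 813540)) (BT.leaf (nat_lit 813544)))) (BT.node (nat_lit 4384388) (BT.node (nat_lit 4384387) (BT.leaf (nat_lit 655644)) (BT.leaf (nat_lit 767292))) (BT.node (nat_lit 4384390) (BT.leaf (nat_lit 655644)) (BT.leaf (nat_lit 767292))))))))) (BT.node (nat_lit 4386949) (BT.node (nat_lit 4385667) (BT.node (nat_lit 4385095) (BT.node (nat_lit 4384902) (BT.node (nat_lit 4384775) (BT.node (nat_lit 4384711) (BT.node (nat_lit 4384710) (BT.leaf (nat_lit 669728)) (BT.leaf (nat_lit 669728))) (BT.node (nat_lit 4384774) (BT.leaf (nat_lit 669728)) (BT.leaf (nat_lit 618248)))) (BT.node (nat_lit 4384898) (BT.node (nat_lit 4384897) (BT.leaf (nat_lit 618248)) (BT.leaf (nat_lit 689840))) (BT.node (nat_lit 4384901) (BT.leaf (nat_lit 683104)) (BT.leaf (nat_lit 689840))))) (BT.node (nat_lit 4385031) (BT.node (nat_lit 4384965) (BT.node (nat_lit 4384903) (BT.leaf (nat_lit 683104)) (BT.leaf (nat_lit 683104))) (BT.node (nat_lit 4385030) (BT.leaf (nat_lit 775416)) (BT.leaf (nat_lit 706064)))) (BT.node (nat_lit 4385091) (BT.node (nat_lit 4385089) (BT.leaf (nat_lit 706064)) (BT.leaf (nat_lit 719748))) (BT.node (nat_lit 4385094) (BT.leaf (nat_lit 719748)) (BT.leaf (nat_lit 719748)))))) (BT.node (nat_lit 4385476) (BT.node (nat_lit 4385351) (BT.node (nat_lit 4385347) (BT.node (nat_lit 4385220) (BT.leaf (nat_lit 719748)) (BT.leaf (nat_lit 656800))) (BT.node (nat_lit 4385350) (BT.leaf (nat_lit 676104)) (BT.leaf (nat_lit 676104)))) (BT.node (nat_lit 4385474) (BT.node (nat_lit 4385352) (BT.leaf (nat_lit 676104)) (BT.leaf (nat_lit 676104))) (BT.node (nat_lit 4385475) (BT.leaf (nat_lit 682928)) (BT.leaf (nat_lit 644124))))) (BT.node (nat_lit 4385541) (BT.node (nat_lit 4385479) (BT.node (nat_lit 4385478) (BT.leaf (nat_lit 644124)) (BT.leaf (nat_lit 682928))) (BT.node (nat_lit 4385480) (BT.leaf (nat_lit 682928)) (BT.leaf (nat_lit 682928)))) (BT.node (nat_lit 4385543) (BT.node (nat_lit 4385542) (BT.leaf (nat_lit 674000)) (BT.leaf (nat_lit 657956))) (BT.node (nat_lit 4385666) (BT.leaf (nat_lit 657956)) (BT.leaf (nat_lit 685008))))))) (BT.node (nat_lit 4386182) (BT.node (nat_lit 4386054) (BT.node (nat_lit 4385735) (BT.node (nat_lit 4385671) (BT.node (nat_lit 4385670) (BT.leaf (nat_lit 685008)) (BT.leaf (nat_lit 685008))) (BT.node (nat_lit 4385734) (BT.leaf (nat_lit 685008)) (BT.leaf (nat_lit 669332)))) (BT.node (nat_lit 4386050) (BT.node (nat_lit 4385797) (BT.leaf (nat_lit 669332)) (BT.leaf (nat_lit 648556))) (BT.node (nat_lit 4386051) (BT.leaf (nat_lit 625200)) (BT.leaf (nat_lit 625200))))) (BT.node (nat_lit 4386118) (BT.node (nat_lit 4386114) (BT.node (nat_lit 4386055) (BT.leaf (nat_lit 702480)) (BT.leaf (nat_lit 702480))) (BT.node (nat_lit 4386115) (BT.leaf (nat_lit 645684)) (BT.leaf (nat_lit 645684)))) (BT.node (nat_lit 4386120) (BT.node (nat_lit 4386119) (BT.leaf (nat_lit 645684)) (BT.leaf (nat_lit 645684))) (BT.node (nat_lit 4386181) (BT.leaf (nat_lit 645684)) (BT.leaf (nat_lit 680260)))))) (BT.node (nat_lit 4386498) (BT.node (nat_lit 4386247) (BT.node (nat_lit 4386242) (BT.node (nat_lit 4386183) (BT.leaf (nat_lit 704456)) (BT.leaf (nat_lit 704456))) (BT.node (nat_lit 4386245) (BT.leaf (nat_lit 789500)) (BT.leaf (nat_lit 646696)))) (BT.node (nat_lit 4386307) (BT.node (nat_lit 4386306) (BT.leaf (nat_lit 646696)) (BT.leaf (nat_lit 715280))) (BT.node (nat_lit 4386436) (BT.leaf (nat_lit 715280)) (BT.leaf (nat_lit 698904))))) (BT.node (nat_lit 4386692) (BT.node (nat_lit 4386565) (BT.node (nat_lit 4386562) (BT.leaf (nat_lit 789496)) (BT.leaf (nat_lit 628720))) (BT.node (nat_lit 4386690) (BT.leaf (nat_lit 628720)) (BT.leaf (nat_lit 628496)))) (BT.node (nat_lit 4386757) (BT.node (nat_lit 4386693) (BT.leaf (nat_lit 628496)) (BT.leaf (nat_lit 628496))) (BT.node (nat_lit 4386821) (BT.leaf (nat_lit 633972)) (BT.leaf (nat_lit 697716)))))))) (BT.node (nat_lit 4388230) (BT.node (nat_lit 4387656) (BT.node (nat_lit 4387399) (BT.node (nat_lit 4387268) (BT.node (nat_lit 4386951) (BT.node (nat_lit 4386950) (BT.leaf (nat_lit 714784)) (BT.leaf (nat_lit 697212))) (BT.node (nat_lit 4387204) (BT.leaf (nat_lit 697212)) (BT.leaf (nat_lit 662192)))) (BT.node (nat_lit 4387397) (BT.node (nat_lit 4387332) (BT.leaf (nat_lit 723716)) (BT.leaf (nat_lit 639744))) (BT.node (nat_lit 4387398) (BT.leaf (nat_lit 671440)) (BT.leaf (nat_lit 671440))))) (BT.node (nat_lit 4387526) (BT.node (nat_lit 4387459) (BT.node (nat_lit 4387458) (BT.leaf (nat_lit 671440)) (BT.leaf (nat_lit 706776))) (BT.node (nat_lit 4387521) (BT.leaf (nat_lit 706776)) (BT.leaf (nat_lit 629264)))) (BT.node (nat_lit 4387588) (BT.node (nat_lit 4387527) (BT.leaf (nat_lit 629264)) (BT.leaf (nat_lit 629264))) (BT.node (nat_lit 4387650) (BT.leaf (nat_lit 629268)) (BT.leaf (nat_lit 689564)))))) (BT.node (nat_lit 4387971) (BT.node (nat_lit 4387778) (BT.node (nat_lit 4387716) (BT.node (nat_lit 4387715) (BT.leaf (nat_lit 691596)) (BT.leaf (nat_lit 634080))) (BT.node (nat_lit 4387720) (BT.leaf (nat_lit 634080)) (BT.leaf (nat_lit 634080)))) (BT.node (nat_lit 4387846) (BT.node (nat_lit 4387783) (BT.leaf (nat_lit 654912)) (BT.leaf (nat_lit 654912))) (BT.node (nat_lit 4387847) (BT.leaf (nat_lit 720904)) (BT.leaf (nat_lit 720904))))) (BT.node (nat_lit 4388104) (BT.node (nat_lit 4388100) (BT.node (nat_lit 4388099) (BT.leaf (nat_lit 709640)) (BT.leaf (nat_lit 742020))) (BT.node (nat_lit 4388102) (BT.leaf (nat_lit 742020)) (BT.leaf (nat_lit 621228)))) (BT.node (nat_lit 4388166) (BT.node (nat_lit 4388165) (BT.leaf (nat_lit 621228)) (BT.leaf (nat_lit 689260))) (BT.node (nat_lit 4388167) (BT.leaf (nat_lit 714220)) (BT.leaf (nat_lit 714220))))))) (BT.node (nat_lit 4388741) (BT.node (nat_lit 4388487) (BT.node (nat_lit 4388292) (BT.node (nat_lit 4388232) (BT.node (nat_lit 4388231) (BT.leaf (nat_lit 701712)) (BT.leaf (nat_lit 701712))) (BT.node (nat_lit 4388290) (BT.leaf (nat_lit 771404)) (BT.leaf (nat_lit 648768)))) (BT.node (nat_lit 4388357) (BT.node (nat_lit 4388296) (BT.leaf (nat_lit 648768)) (BT.leaf (nat_lit 648768))) (BT.node (nat_lit 4388486) (BT.leaf (nat_lit 710940)) (BT.leaf (nat_lit 654304))))) (BT.node (nat_lit 4388613) (BT.node (nat_lit 4388551) (BT.node (nat_lit 4388550) (BT.leaf (nat_lit 654304)) (BT.leaf (nat_lit 672728))) (BT.node (nat_lit 4388610) (BT.leaf (nat_lit 672728)) (BT.leaf (nat_lit 702720)))) (BT.node (nat_lit 4388678) (BT.node (nat_lit 4388677) (BT.leaf (nat_lit 615684)) (BT.leaf (nat_lit 719512))) (BT.node (nat_lit 4388679) (BT.leaf (nat_lit 698072)) (BT.leaf (nat_lit 698072)))))) (BT.node (nat_lit 4388931) (BT.node (nat_lit 4388802) (BT.node (nat_lit 4388743) (BT.node (nat_lit 4388742) (BT.leaf (nat_lit 625792)) (BT.leaf (nat_lit 692436))) (BT.node (nat_lit 4388744) (BT.leaf (nat_lit 692436)) (BT.leaf (nat_lit 625792)))) (BT.node (nat_lit 4388805) (BT.node (nat_lit 4388804) (BT.leaf (nat_lit 628620)) (BT.leaf (nat_lit 628620))) (BT.node (nat_lit 4388930) (BT.leaf (nat_lit 628620)) (BT.leaf (nat_lit 761492))))) (BT.node (nat_lit 4389254) (BT.node (nat_lit 4388934) (BT.node (nat_lit 4388932) (BT.leaf (nat_lit 697700)) (BT.leaf (nat_lit 761492))) (BT.node (nat_lit 4388935) (BT.leaf (nat_lit 715036)) (BT.leaf (nat_lit 761492)))) (BT.node (nat_lit 4389378) (BT.node (nat_lit 4389319) (BT.leaf (nat_lit 679744)) (BT.leaf (nat_lit 705908))) (BT.node (nat_lit 4389379) (BT.leaf (nat_lit 672720)) (BT.leaf (nat_lit 672720))))))))))) (BT.node (nat_lit 4398599) (BT.node (nat_lit 4394119) (BT.node (nat_lit 4391751) (BT.node (nat_lit 4390341) (BT.node (nat_lit 4390146) (BT.node (nat_lit 4389956) (BT.node (nat_lit 4389508) (BT.node (nat_lit 4389506) (BT.node (nat_lit 4389447) (BT.leaf (nat_lit 654308)) (BT.leaf (nat_lit 654308))) (BT.node (nat_lit 4389507) (BT.leaf (nat_lit 638480)) (BT.leaf (nat_lit 638480)))) (BT.node (nat_lit 4389830) (BT.node (nat_lit 4389509) (BT.leaf (nat_lit 717464)) (BT.leaf (nat_lit 638480))) (BT.node (nat_lit 4389831) (BT.leaf (nat_lit 694436)) (BT.leaf (nat_lit 694436))))) (BT.node (nat_lit 4390085) (BT.node (nat_lit 4390023) (BT.node (nat_lit 4390022) (BT.leaf (nat_lit 626852)) (BT.leaf (nat_lit 691044))) (BT.node (nat_lit 4390024) (BT.leaf (nat_lit 691044)) (BT.leaf (nat_lit 691044)))) (BT.node (nat_lit 4390087) (BT.node (nat_lit 4390086) (BT.leaf (nat_lit 624944)) (BT.leaf (nat_lit 659220))) (BT.node (nat_lit 4390088) (BT.leaf (nat_lit 659220)) (BT.leaf (nat_lit 659220)))))) (BT.node (nat_lit 4390214) (BT.node (nat_lit 4390151) (BT.node (nat_lit 4390148) (BT.node (nat_lit 4390147) (BT.leaf (nat_lit 624936)) (BT.leaf (nat_lit 624936))) (BT.node (nat_lit 4390150) (BT.leaf (nat_lit 624936)) (BT.leaf (nat_lit 624936)))) (BT.node (nat_lit 4390209) (BT.node (nat_lit 4390152) (BT.leaf (nat_lit 624936)) (BT.leaf (nat_lit 624936))) (BT.node (nat_lit 4390213) (BT.leaf (nat_lit 642816)) (BT.leaf (nat_lit 627776))))) (BT.node (nat_lit 4390275) (BT.node (nat_lit 4390273) (BT.node (nat_lit 4390216) (BT.leaf (nat_lit 627776)) (BT.leaf (nat_lit 642816))) (BT.node (nat_lit 4390274) (BT.leaf (nat_lit 615660)) (BT.leaf (nat_lit 615660)))) (BT.node (nat_lit 4390277) (BT.node (nat_lit 4390276) (BT.leaf (nat_lit 615660)) (BT.leaf (nat_lit 615660))) (BT.node (nat_lit 4390280) (BT.leaf (nat_lit 615660)) (BT.leaf (nat_lit 615660))))))) (BT.node (nat_lit 4391173) (BT.node (nat_lit 4390914) (BT.node (nat_lit 4390532) (BT.node (nat_lit 4390404) (BT.node (nat_lit 4390401) (BT.leaf (nat_lit 694128)) (BT.leaf (nat_lit 667204))) (BT.node (nat_lit 4390468) (BT.leaf (nat_lit 667204)) (BT.leaf (nat_lit 622524)))) (BT.node (nat_lit 4390597) (BT.node (nat_lit 4390533) (BT.leaf (nat_lit 643184)) (BT.leaf (nat_lit 752468))) (BT.node (nat_lit 4390727) (BT.leaf (nat_lit 760680)) (BT.leaf (nat_lit 648456))))) (BT.node (nat_lit 4391045) (BT.node (nat_lit 4390918) (BT.node (nat_lit 4390915) (BT.leaf (nat_lit 700020)) (BT.leaf (nat_lit 700020))) (BT.node (nat_lit 4390919) (BT.leaf (nat_lit 700020)) (BT.leaf (nat_lit 700020)))) (BT.node (nat_lit 4391169) (BT.node (nat_lit 4391107) (BT.leaf (nat_lit 624204)) (BT.leaf (nat_lit 638024))) (BT.node (nat_lit 4391171) (BT.leaf (nat_lit 753260)) (BT.leaf (nat_lit 753260)))))) (BT.node (nat_lit 4391304) (BT.node (nat_lit 4391298) (BT.node (nat_lit 4391237) (BT.node (nat_lit 4391176) (BT.leaf (nat_lit 624360)) (BT.leaf (nat_lit 753260))) (BT.node (nat_lit 4391297) (BT.leaf (nat_lit 704788)) (BT.leaf (nat_lit 625160)))) (BT.node (nat_lit 4391300) (BT.node (nat_lit 4391299) (BT.leaf (nat_lit 625160)) (BT.leaf (nat_lit 625160))) (BT.node (nat_lit 4391301) (BT.leaf (nat_lit 659960)) (BT.leaf (nat_lit 625160))))) (BT.node (nat_lit 4391685) (BT.node (nat_lit 4391367) (BT.node (nat_lit 4391366) (BT.leaf (nat_lit 625160)) (BT.leaf (nat_lit 701480))) (BT.node (nat_lit 4391429) (BT.leaf (nat_lit 701480)) (BT.leaf (nat_lit 634232)))) (BT.node (nat_lit 4391747) (BT.node (nat_lit 4391688) (BT.leaf (nat_lit 653436)) (BT.leaf (nat_lit 653436))) (BT.node (nat_lit 4391750) (BT.leaf (nat_lit 671304)) (BT.leaf (nat_lit 671304)))))))) (BT.node (nat_lit 4392902) (BT.node (nat_lit 4392455) (BT.node (nat_lit 4392070) (BT.node (nat_lit 4391880) (BT.node (nat_lit 4391876) (BT.node (nat_lit 4391874) (BT.leaf (nat_lit 671304)) (BT.leaf (nat_lit 614452))) (BT.node (nat_lit 4391877) (BT.leaf (nat_lit 614452)) (BT.leaf (nat_lit 614452)))) (BT.node (nat_lit 4392066) (BT.node (nat_lit 4392065) (BT.leaf (nat_lit 614452)) (BT.leaf (nat_lit 614464))) (BT.node (nat_lit 4392067) (BT.leaf (nat_lit 614464)) (BT.leaf (nat_lit 614464))))) (BT.node (nat_lit 4392199) (BT.node (nat_lit 4392133) (BT.node (nat_lit 4392071) (BT.leaf (nat_lit 614464)) (BT.leaf (nat_lit 614464))) (BT.node (nat_lit 4392198) (BT.leaf (nat_lit 655608)) (BT.leaf (nat_lit 711644)))) (BT.node (nat_lit 4392326) (BT.node (nat_lit 4392325) (BT.leaf (nat_lit 711644)) (BT.leaf (nat_lit 653956))) (BT.node (nat_lit 4392452) (BT.leaf (nat_lit 663872)) (BT.leaf (nat_lit 669512)))))) (BT.node (nat_lit 4392710) (BT.node (nat_lit 4392583) (BT.node (nat_lit 4392517) (BT.node (nat_lit 4392516) (BT.leaf (nat_lit 719524)) (BT.leaf (nat_lit 701852))) (BT.node (nat_lit 4392582) (BT.leaf (nat_lit 701852)) (BT.leaf (nat_lit 691248)))) (BT.node (nat_lit 4392706) (BT.node (nat_lit 4392584) (BT.leaf (nat_lit 691248)) (BT.leaf (nat_lit 691248))) (BT.node (nat_lit 4392707) (BT.leaf (nat_lit 692920)) (BT.leaf (nat_lit 692920))))) (BT.node (nat_lit 4392771) (BT.node (nat_lit 4392769) (BT.node (nat_lit 4392711) (BT.leaf (nat_lit 692920)) (BT.leaf (nat_lit 692920))) (BT.node (nat_lit 4392770) (BT.leaf (nat_lit 610820)) (BT.leaf (nat_lit 610820)))) (BT.node (nat_lit 4392775) (BT.node (nat_lit 4392774) (BT.leaf (nat_lit 610820)) (BT.leaf (nat_lit 678628))) (BT.node (nat_lit 4392901) (BT.leaf (nat_lit 678628)) (BT.leaf (nat_lit 694304))))))) (BT.node (nat_lit 4393602) (BT.node (nat_lit 4393284) (BT.node (nat_lit 4393155) (BT.node (nat_lit 4393090) (BT.node (nat_lit 4392903) (BT.leaf (nat_lit 694304)) (BT.leaf (nat_lit 694304))) (BT.node (nat_lit 4393091) (BT.leaf (nat_lit 666420)) (BT.leaf (nat_lit 666420)))) (BT.node (nat_lit 4393158) (BT.node (nat_lit 4393157) (BT.leaf (nat_lit 689108)) (BT.leaf (nat_lit 689108))) (BT.node (nat_lit 4393159) (BT.leaf (nat_lit 689108)) (BT.leaf (nat_lit 689108))))) (BT.node (nat_lit 4393539) (BT.node (nat_lit 4393478) (BT.node (nat_lit 4393409) (BT.leaf (nat_lit 682988)) (BT.leaf (nat_lit 809852))) (BT.node (nat_lit 4393479) (BT.leaf (nat_lit 621388)) (BT.leaf (nat_lit 621388)))) (BT.node (nat_lit 4393542) (BT.node (nat_lit 4393540) (BT.leaf (nat_lit 624876)) (BT.leaf (nat_lit 624876))) (BT.node (nat_lit 4393544) (BT.leaf (nat_lit 624876)) (BT.leaf (nat_lit 624876)))))) (BT.node (nat_lit 4393863) (BT.node (nat_lit 4393670) (BT.node (nat_lit 4393606) (BT.node (nat_lit 4393603) (BT.leaf (nat_lit 685708)) (BT.leaf (nat_lit 685708))) (BT.node (nat_lit 4393607) (BT.leaf (nat_lit 685708)) (BT.leaf (nat_lit 685708)))) (BT.node (nat_lit 4393857) (BT.node (nat_lit 4393671) (BT.leaf (nat_lit 682772)) (BT.leaf (nat_lit 682772))) (BT.node (nat_lit 4393862) (BT.leaf (nat_lit 660452)) (BT.leaf (nat_lit 660452))))) (BT.node (nat_lit 4393986) (BT.node (nat_lit 4393926) (BT.node (nat_lit 4393925) (BT.leaf (nat_lit 660452)) (BT.leaf (nat_lit 629584))) (BT.node (nat_lit 4393927) (BT.leaf (nat_lit 629584)) (BT.leaf (nat_lit 629584)))) (BT.node (nat_lit 4393991) (BT.node (nat_lit 4393990) (BT.leaf (nat_lit 760644)) (BT.leaf (nat_lit 629880))) (BT.node (nat_lit 4394115) (BT.leaf (nat_lit 760644)) (BT.leaf (nat_lit 656016))))))))) (BT.node (nat_lit 4396038) (BT.node (nat_lit 4395143) (BT.node (nat_lit 4394503) (BT.node (nat_lit 4394309) (BT.node (nat_lit 4394241) (BT.node (nat_lit 4394182) (BT.node (nat_lit 4394181) (BT.leaf (nat_lit 656016)) (BT.leaf (nat_lit 646948))) (BT.node (nat_lit 4394183) (BT.leaf (nat_lit 618948)) (BT.leaf (nat_lit 618948)))) (BT.node (nat_lit 4394248) (BT.node (nat_lit 4394245) (BT.leaf (nat_lit 707320)) (BT.leaf (nat_lit 707320))) (BT.node (nat_lit 4394308) (BT.leaf (nat_lit 707320)) (BT.leaf (nat_lit 647336))))) (BT.node (nat_lit 4394437) (BT.node (nat_lit 4394374) (BT.node (nat_lit 4394312) (BT.leaf (nat_lit 647336)) (BT.leaf (nat_lit 647336))) (BT.node (nat_lit 4394375) (BT.leaf (nat_lit 663636)) (BT.leaf (nat_lit 663636)))) (BT.node (nat_lit 4394499) (BT.node (nat_lit 4394498) (BT.leaf (nat_lit 712920)) (BT.leaf (nat_lit 655040))) (BT.node (nat_lit 4394502) (BT.leaf (nat_lit 655040)) (BT.leaf (nat_lit 655040)))))) (BT.node (nat_lit 4394760) (BT.node (nat_lit 4394629) (BT.node (nat_lit 4394565) (BT.node (nat_lit 4394561) (BT.leaf (nat_lit 655040)) (BT.leaf (nat_lit 635544))) (BT.node (nat_lit 4394568) (BT.leaf (nat_lit 635544)) (BT.leaf (nat_lit 635544)))) (BT.node (nat_lit 4394693) (BT.node (nat_lit 4394692) (BT.leaf (nat_lit 664048)) (BT.leaf (nat_lit 698316))) (BT.node (nat_lit 4394756) (BT.leaf (nat_lit 698316)) (BT.leaf (nat_lit 630624))))) (BT.node (nat_lit 4394887) (BT.node (nat_lit 4394884) (BT.node (nat_lit 4394883) (BT.leaf (nat_lit 630624)) (BT.leaf (nat_lit 776428))) (BT.node (nat_lit 4394886) (BT.leaf (nat_lit 684740)) (BT.leaf (nat_lit 776428)))) (BT.node (nat_lit 4395015) (BT.node (nat_lit 4395014) (BT.leaf (nat_lit 776428)) (BT.leaf (nat_lit 631772))) (BT.node (nat_lit 4395142) (BT.leaf (nat_lit 631772)) (BT.leaf (nat_lit 699476))))))) (BT.node (nat_lit 4395464) (BT.node (nat_lit 4395336) (BT.node (nat_lit 4395207) (BT.node (nat_lit 4395203) (BT.node (nat_lit 4395202) (BT.leaf (nat_lit 699476)) (BT.leaf (nat_lit 711784))) (BT.node (nat_lit 4395206) (BT.leaf (nat_lit 711784)) (BT.leaf (nat_lit 711784)))) (BT.node (nat_lit 4395271) (BT.node (nat_lit 4395270) (BT.leaf (nat_lit 711784)) (BT.leaf (nat_lit 674428))) (BT.node (nat_lit 4395272) (BT.leaf (nat_lit 674428)) (BT.leaf (nat_lit 674428))))) (BT.node (nat_lit 4395400) (BT.node (nat_lit 4395396) (BT.node (nat_lit 4395393) (BT.leaf (nat_lit 720272)) (BT.leaf (nat_lit 750560))) (BT.node (nat_lit 4395397) (BT.leaf (nat_lit 663452)) (BT.leaf (nat_lit 663452)))) (BT.node (nat_lit 4395460) (BT.node (nat_lit 4395457) (BT.leaf (nat_lit 750560)) (BT.leaf (nat_lit 807392))) (BT.node (nat_lit 4395461) (BT.leaf (nat_lit 611396)) (BT.leaf (nat_lit 611396)))))) (BT.node (nat_lit 4395716) (BT.node (nat_lit 4395587) (BT.node (nat_lit 4395528) (BT.node (nat_lit 4395521) (BT.leaf (nat_lit 807392)) (BT.leaf (nat_lit 667244))) (BT.node (nat_lit 4395586) (BT.leaf (nat_lit 667244)) (BT.leaf (nat_lit 693372)))) (BT.node (nat_lit 4395591) (BT.node (nat_lit 4395590) (BT.leaf (nat_lit 693372)) (BT.leaf (nat_lit 693372))) (BT.node (nat_lit 4395653) (BT.leaf (nat_lit 693372)) (BT.leaf (nat_lit 693392))))) (BT.node (nat_lit 4395972) (BT.node (nat_lit 4395844) (BT.node (nat_lit 4395784) (BT.leaf (nat_lit 698480)) (BT.leaf (nat_lit 696596))) (BT.node (nat_lit 4395848) (BT.leaf (nat_lit 761448)) (BT.leaf (nat_lit 768316)))) (BT.node (nat_lit 4396034) (BT.node (nat_lit 4395976) (BT.leaf (nat_lit 692604)) (BT.leaf (nat_lit 692604))) (BT.node (nat_lit 4396035) (BT.leaf (nat_lit 619240)) (BT.leaf (nat_lit 619240)))))))) (BT.node (nat_lit 4397893) (BT.node (nat_lit 4396933) (BT.node (nat_lit 4396677) (BT.node (nat_lit 4396165) (BT.node (nat_lit 4396161) (BT.node (nat_lit 4396039) (BT.leaf (nat_lit 619240)) (BT.leaf (nat_lit 619240))) (BT.node (nat_lit 4396164) (BT.leaf (nat_lit 624076)) (BT.leaf (nat_lit 624076)))) (BT.node (nat_lit 4396548) (BT.node (nat_lit 4396229) (BT.leaf (nat_lit 624076)) (BT.leaf (nat_lit 691196))) (BT.node (nat_lit 4396549) (BT.leaf (nat_lit 775548)) (BT.leaf (nat_lit 647596))))) (BT.node (nat_lit 4396743) (BT.node (nat_lit 4396679) (BT.node (nat_lit 4396678) (BT.leaf (nat_lit 712580)) (BT.leaf (nat_lit 712580))) (BT.node (nat_lit 4396741) (BT.leaf (nat_lit 712580)) (BT.leaf (nat_lit 647684)))) (BT.node (nat_lit 4396807) (BT.node (nat_lit 4396806) (BT.leaf (nat_lit 715248)) (BT.leaf (nat_lit 677240))) (BT.node (nat_lit 4396868) (BT.leaf (nat_lit 677240)) (BT.leaf (nat_lit 818440)))))) (BT.node (nat_lit 4397509) (BT.node (nat_lit 4397189) (BT.node (nat_lit 4397187) (BT.node (nat_lit 4397060) (BT.leaf (nat_lit 625972)) (BT.leaf (nat_lit 644728))) (BT.node (nat_lit 4397188) (BT.leaf (nat_lit 640120)) (BT.leaf (nat_lit 640120)))) (BT.node (nat_lit 4397316) (BT.node (nat_lit 4397255) (BT.leaf (nat_lit 640120)) (BT.leaf (nat_lit 641424))) (BT.node (nat_lit 4397378) (BT.leaf (nat_lit 653832)) (BT.leaf (nat_lit 723644))))) (BT.node (nat_lit 4397637) (BT.node (nat_lit 4397511) (BT.node (nat_lit 4397510) (BT.leaf (nat_lit 646324)) (BT.leaf (nat_lit 646324))) (BT.node (nat_lit 4397636) (BT.leaf (nat_lit 646324)) (BT.leaf (nat_lit 617120)))) (BT.node (nat_lit 4397827) (BT.node (nat_lit 4397826) (BT.leaf (nat_lit 617120)) (BT.leaf (nat_lit 681500))) (BT.node (nat_lit 4397828) (BT.leaf (nat_lit 681500)) (BT.leaf (nat_lit 630732))))))) (BT.node (nat_lit 4398276) (BT.node (nat_lit 4398145) (BT.node (nat_lit 4398022) (BT.node (nat_lit 4397959) (BT.node (nat_lit 4397958) (BT.leaf (nat_lit 622764)) (BT.leaf (nat_lit 707492))) (BT.node (nat_lit 4398017) (BT.leaf (nat_lit 707492)) (BT.leaf (nat_lit 694168)))) (BT.node (nat_lit 4398081) (BT.node (nat_lit 4398024) (BT.leaf (nat_lit 694168)) (BT.leaf (nat_lit 694168))) (BT.node (nat_lit 4398088) (BT.leaf (nat_lit 681556)) (BT.leaf (nat_lit 681556))))) (BT.node (nat_lit 4398151) (BT.node (nat_lit 4398147) (BT.node (nat_lit 4398146) (BT.leaf (nat_lit 694460)) (BT.leaf (nat_lit 630696))) (BT.node (nat_lit 4398150) (BT.leaf (nat_lit 630696)) (BT.leaf (nat_lit 630696)))) (BT.node (nat_lit 4398212) (BT.node (nat_lit 4398152) (BT.leaf (nat_lit 630696)) (BT.leaf (nat_lit 630696))) (BT.node (nat_lit 4398275) (BT.leaf (nat_lit 691532)) (BT.leaf (nat_lit 652020)))))) (BT.node (nat_lit 4398467) (BT.node (nat_lit 4398339) (BT.node (nat_lit 4398280) (BT.node (nat_lit 4398277) (BT.leaf (nat_lit 652020)) (BT.leaf (nat_lit 652020))) (BT.node (nat_lit 4398338) (BT.leaf (nat_lit 652020)) (BT.leaf (nat_lit 693872)))) (BT.node (nat_lit 4398342) (BT.node (nat_lit 4398340) (BT.leaf (nat_lit 693872)) (BT.leaf (nat_lit 694468))) (BT.node (nat_lit 4398343) (BT.leaf (nat_lit 693872)) (BT.leaf (nat_lit 693872))))) (BT.node (nat_lit 4398593) (BT.node (nat_lit 4398534) (BT.node (nat_lit 4398470) (BT.leaf (nat_lit 653964)) (BT.leaf (nat_lit 653964))) (BT.node (nat_lit 4398535) (BT.leaf (nat_lit 665360)) (BT.leaf (nat_lit 665360)))) (BT.node (nat_lit 4398595) (BT.node (nat_lit 4398594) (BT.leaf (nat_lit 631364)) (BT.leaf (nat_lit 631364))) (BT.node (nat_lit 4398598) (BT.leaf (nat_lit 631364)) (BT.leaf (nat_lit 631364)))))))))) (BT.node (nat_lit 4401477) (BT.node (nat_lit 4399878) (BT.node (nat_lit 4399236) (BT.node (nat_lit 4398913) (BT.node (nat_lit 4398727) (BT.node (nat_lit 4398664) (BT.node (nat_lit 4398660) (BT.node (nat_lit 4398659) (BT.leaf (nat_lit 631364)) (BT.leaf (nat_lit 680320))) (BT.node (nat_lit 4398661) (BT.leaf (nat_lit 680320)) (BT.leaf (nat_lit 680320)))) (BT.node (nat_lit 4398723) (BT.node (nat_lit 4398722) (BT.leaf (nat_lit 680320)) (BT.leaf (nat_lit 664028))) (BT.node (nat_lit 4398726) (BT.leaf (nat_lit 664028)) (BT.leaf (nat_lit 669328))))) (BT.node (nat_lit 4398791) (BT.node (nat_lit 4398789) (BT.node (nat_lit 4398786) (BT.leaf (nat_lit 664028)) (BT.leaf (nat_lit 662208))) (BT.node (nat_lit 4398790) (BT.leaf (nat_lit 662208)) (BT.leaf (nat_lit 662208)))) (BT.node (nat_lit 4398854) (BT.node (nat_lit 4398853) (BT.leaf (nat_lit 662208)) (BT.leaf (nat_lit 620668))) (BT.node (nat_lit 4398855) (BT.leaf (nat_lit 620668)) (BT.leaf (nat_lit 620668)))))) (BT.node (nat_lit 4399047) (BT.node (nat_lit 4398919) (BT.node (nat_lit 4398915) (BT.node (nat_lit 4398914) (BT.leaf (nat_lit 671376)) (BT.leaf (nat_lit 671376))) (BT.node (nat_lit 4398918) (BT.leaf (nat_lit 671376)) (BT.leaf (nat_lit 671376)))) (BT.node (nat_lit 4398984) (BT.node (nat_lit 4398981) (BT.leaf (nat_lit 671376)) (BT.leaf (nat_lit 671412))) (BT.node (nat_lit 4399046) (BT.leaf (nat_lit 671412)) (BT.leaf (nat_lit 685236))))) (BT.node (nat_lit 4399111) (BT.node (nat_lit 4399107) (BT.node (nat_lit 4399106) (BT.leaf (nat_lit 685236)) (BT.leaf (nat_lit 692628))) (BT.node (nat_lit 4399110) (BT.leaf (nat_lit 692628)) (BT.leaf (nat_lit 692628)))) (BT.node (nat_lit 4399174) (BT.node (nat_lit 4399173) (BT.leaf (nat_lit 692628)) (BT.leaf (nat_lit 711792))) (BT.node (nat_lit 4399175) (BT.leaf (nat_lit 711792)) (BT.leaf (nat_lit 711792))))))) (BT.node (nat_lit 4399491) (BT.node (nat_lit 4399362) (BT.node (nat_lit 4399298) (BT.node (nat_lit 4399239) (BT.node (nat_lit 4399238) (BT.leaf (nat_lit 639424)) (BT.leaf (nat_lit 639424))) (BT.node (nat_lit 4399240) (BT.leaf (nat_lit 639424)) (BT.leaf (nat_lit 639424)))) (BT.node (nat_lit 4399303) (BT.node (nat_lit 4399299) (BT.leaf (nat_lit 684328)) (BT.leaf (nat_lit 684328))) (BT.node (nat_lit 4399304) (BT.leaf (nat_lit 684328)) (BT.leaf (nat_lit 684328))))) (BT.node (nat_lit 4399367) (BT.node (nat_lit 4399365) (BT.node (nat_lit 4399363) (BT.leaf (nat_lit 626428)) (BT.leaf (nat_lit 626428))) (BT.node (nat_lit 4399366) (BT.leaf (nat_lit 626428)) (BT.leaf (nat_lit 626428)))) (BT.node (nat_lit 4399489) (BT.node (nat_lit 4399428) (BT.leaf (nat_lit 626428)) (BT.leaf (nat_lit 655668))) (BT.node (nat_lit 4399490) (BT.leaf (nat_lit 655664)) (BT.leaf (nat_lit 655664)))))) (BT.node (nat_lit 4399687) (BT.node (nat_lit 4399623) (BT.node (nat_lit 4399621) (BT.node (nat_lit 4399493) (BT.leaf (nat_lit 655664)) (BT.leaf (nat_lit 655664))) (BT.node (nat_lit 4399622) (BT.leaf (nat_lit 620804)) (BT.leaf (nat_lit 702804)))) (BT.node (nat_lit 4399685) (BT.node (nat_lit 4399624) (BT.leaf (nat_lit 702804)) (BT.leaf (nat_lit 620804))) (BT.node (nat_lit 4399686) (BT.leaf (nat_lit 666976)) (BT.leaf (nat_lit 642732))))) (BT.node (nat_lit 4399748) (BT.node (nat_lit 4399746) (BT.node (nat_lit 4399745) (BT.leaf (nat_lit 642732)) (BT.leaf (nat_lit 630024))) (BT.node (nat_lit 4399747) (BT.leaf (nat_lit 630024)) (BT.leaf (nat_lit 630024)))) (BT.node (nat_lit 4399873) (BT.node (nat_lit 4399752) (BT.leaf (nat_lit 630024)) (BT.leaf (nat_lit 630024))) (BT.node (nat_lit 4399877) (BT.leaf (nat_lit 754712)) (BT.leaf (nat_lit 712116)))))))) (BT.node (nat_lit 4400643) (BT.node (nat_lit 4400264) (BT.node (nat_lit 4400197) (BT.node (nat_lit 4400131) (BT.node (nat_lit 4400067) (BT.node (nat_lit 4399879) (BT.leaf (nat_lit 712116)) (BT.leaf (nat_lit 712116))) (BT.node (nat_lit 4400130) (BT.leaf (nat_lit 771988)) (BT.leaf (nat_lit 704656)))) (BT.node (nat_lit 4400193) (BT.node (nat_lit 4400133) (BT.leaf (nat_lit 704656)) (BT.leaf (nat_lit 704656))) (BT.node (nat_lit 4400195) (BT.leaf (nat_lit 675348)) (BT.leaf (nat_lit 675348))))) (BT.node (nat_lit 4400259) (BT.node (nat_lit 4400199) (BT.node (nat_lit 4400198) (BT.leaf (nat_lit 675348)) (BT.leaf (nat_lit 675348))) (BT.node (nat_lit 4400258) (BT.leaf (nat_lit 675348)) (BT.leaf (nat_lit 651552)))) (BT.node (nat_lit 4400262) (BT.node (nat_lit 4400260) (BT.leaf (nat_lit 651552)) (BT.leaf (nat_lit 707004))) (BT.node (nat_lit 4400263) (BT.leaf (nat_lit 651552)) (BT.leaf (nat_lit 651552)))))) (BT.node (nat_lit 4400453) (BT.node (nat_lit 4400388) (BT.node (nat_lit 4400325) (BT.node (nat_lit 4400324) (BT.leaf (nat_lit 651552)) (BT.leaf (nat_lit 717516))) (BT.node (nat_lit 4400385) (BT.leaf (nat_lit 634424)) (BT.leaf (nat_lit 635548)))) (BT.node (nat_lit 4400450) (BT.node (nat_lit 4400389) (BT.leaf (nat_lit 692224)) (BT.leaf (nat_lit 635548))) (BT.node (nat_lit 4400452) (BT.leaf (nat_lit 772152)) (BT.leaf (nat_lit 708016))))) (BT.node (nat_lit 4400582) (BT.node (nat_lit 4400516) (BT.node (nat_lit 4400514) (BT.leaf (nat_lit 772152)) (BT.leaf (nat_lit 722776))) (BT.node (nat_lit 4400517) (BT.leaf (nat_lit 626996)) (BT.leaf (nat_lit 722776)))) (BT.node (nat_lit 4400641) (BT.node (nat_lit 4400583) (BT.leaf (nat_lit 661296)) (BT.leaf (nat_lit 661296))) (BT.node (nat_lit 4400642) (BT.leaf (nat_lit 717716)) (BT.leaf (nat_lit 628416))))))) (BT.node (nat_lit 4400963) (BT.node (nat_lit 4400833) (BT.node (nat_lit 4400705) (BT.node (nat_lit 4400647) (BT.node (nat_lit 4400646) (BT.leaf (nat_lit 628416)) (BT.leaf (nat_lit 628416))) (BT.node (nat_lit 4400648) (BT.leaf (nat_lit 628416)) (BT.leaf (nat_lit 717716)))) (BT.node (nat_lit 4400771) (BT.node (nat_lit 4400708) (BT.leaf (nat_lit 777308)) (BT.leaf (nat_lit 658132))) (BT.node (nat_lit 4400773) (BT.leaf (nat_lit 693512)) (BT.leaf (nat_lit 693512))))) (BT.node (nat_lit 4400838) (BT.node (nat_lit 4400835) (BT.node (nat_lit 4400834) (BT.leaf (nat_lit 703548)) (BT.leaf (nat_lit 628408))) (BT.node (nat_lit 4400836) (BT.leaf (nat_lit 703548)) (BT.leaf (nat_lit 705704)))) (BT.node (nat_lit 4400902) (BT.node (nat_lit 4400840) (BT.leaf (nat_lit 703548)) (BT.leaf (nat_lit 703548))) (BT.node (nat_lit 4400903) (BT.leaf (nat_lit 718528)) (BT.leaf (nat_lit 718528)))))) (BT.node (nat_lit 4401096) (BT.node (nat_lit 4401027) (BT.node (nat_lit 4400967) (BT.node (nat_lit 4400966) (BT.leaf (nat_lit 647356)) (BT.leaf (nat_lit 647356))) (BT.node (nat_lit 4401026) (BT.leaf (nat_lit 647356)) (BT.leaf (nat_lit 718200)))) (BT.node (nat_lit 4401031) (BT.node (nat_lit 4401030) (BT.leaf (nat_lit 718200)) (BT.leaf (nat_lit 718200))) (BT.node (nat_lit 4401092) (BT.leaf (nat_lit 718200)) (BT.leaf (nat_lit 618688))))) (BT.node (nat_lit 4401283) (BT.node (nat_lit 4401224) (BT.node (nat_lit 4401219) (BT.leaf (nat_lit 618688)) (BT.leaf (nat_lit 691212))) (BT.node (nat_lit 4401282) (BT.leaf (nat_lit 691212)) (BT.leaf (nat_lit 612020)))) (BT.node (nat_lit 4401287) (BT.node (nat_lit 4401286) (BT.leaf (nat_lit 612020)) (BT.leaf (nat_lit 612020))) (BT.node (nat_lit 4401473) (BT.leaf (nat_lit 612020)) (BT.leaf (nat_lit 621348))))))))) (BT.node (nat_lit 4404103) (BT.node (nat_lit 4403010) (BT.node (nat_lit 4402243) (BT.node (nat_lit 4401731) (BT.node (nat_lit 4401601) (BT.node (nat_lit 4401479) (BT.node (nat_lit 4401478) (BT.leaf (nat_lit 621348)) (BT.leaf (nat_lit 689492))) (BT.node (nat_lit 4401541) (BT.leaf (nat_lit 689492)) (BT.leaf (nat_lit 708156)))) (BT.node (nat_lit 4401605) (BT.node (nat_lit 4401604) (BT.leaf (nat_lit 654880)) (BT.leaf (nat_lit 654880))) (BT.node (nat_lit 4401729) (BT.leaf (nat_lit 654880)) (BT.leaf (nat_lit 639372))))) (BT.node (nat_lit 4401795) (BT.node (nat_lit 4401733) (BT.node (nat_lit 4401732) (BT.leaf (nat_lit 675764)) (BT.leaf (nat_lit 651020))) (BT.node (nat_lit 4401794) (BT.leaf (nat_lit 675764)) (BT.leaf (nat_lit 708440)))) (BT.node (nat_lit 4402116) (BT.node (nat_lit 4401798) (BT.leaf (nat_lit 708440)) (BT.leaf (nat_lit 708440))) (BT.node (nat_lit 4402242) (BT.leaf (nat_lit 662132)) (BT.leaf (nat_lit 695272)))))) (BT.node (nat_lit 4402630) (BT.node (nat_lit 4402436) (BT.node (nat_lit 4402247) (BT.node (nat_lit 4402246) (BT.leaf (nat_lit 699616)) (BT.leaf (nat_lit 699616))) (BT.node (nat_lit 4402311) (BT.leaf (nat_lit 699616)) (BT.leaf (nat_lit 653380)))) (BT.node (nat_lit 4402625) (BT.node (nat_lit 4402504) (BT.leaf (nat_lit 707936)) (BT.leaf (nat_lit 656412))) (BT.node (nat_lit 4402629) (BT.leaf (nat_lit 686344)) (BT.leaf (nat_lit 686344))))) (BT.node (nat_lit 4402947) (BT.node (nat_lit 4402632) (BT.node (nat_lit 4402631) (BT.leaf (nat_lit 686344)) (BT.leaf (nat_lit 686344))) (BT.node (nat_lit 4402946) (BT.leaf (nat_lit 686344)) (BT.leaf (nat_lit 710220)))) (BT.node (nat_lit 4402950) (BT.node (nat_lit 4402948) (BT.leaf (nat_lit 641136)) (BT.leaf (nat_lit 710220))) (BT.node (nat_lit 4402951) (BT.leaf (nat_lit 641136)) (BT.leaf (nat_lit 641136))))))) (BT.node (nat_lit 4403655) (BT.node (nat_lit 4403208) (BT.node (nat_lit 4403080) (BT.node (nat_lit 4403014) (BT.node (nat_lit 4403011) (BT.leaf (nat_lit 703328)) (BT.leaf (nat_lit 703328))) (BT.node (nat_lit 4403015) (BT.leaf (nat_lit 703328)) (BT.leaf (nat_lit 703328)))) (BT.node (nat_lit 4403144) (BT.node (nat_lit 4403140) (BT.leaf (nat_lit 755644)) (BT.leaf (nat_lit 675936))) (BT.node (nat_lit 4403204) (BT.leaf (nat_lit 660860)) (BT.leaf (nat_lit 661432))))) (BT.node (nat_lit 4403526) (BT.node (nat_lit 4403460) (BT.node (nat_lit 4403459) (BT.leaf (nat_lit 661432)) (BT.leaf (nat_lit 616256))) (BT.node (nat_lit 4403521) (BT.leaf (nat_lit 616256)) (BT.leaf (nat_lit 622532)))) (BT.node (nat_lit 4403586) (BT.node (nat_lit 4403527) (BT.leaf (nat_lit 622532)) (BT.leaf (nat_lit 622532))) (BT.node (nat_lit 4403654) (BT.leaf (nat_lit 635172)) (BT.leaf (nat_lit 687752)))))) (BT.node (nat_lit 4403975) (BT.node (nat_lit 4403970) (BT.node (nat_lit 4403906) (BT.node (nat_lit 4403845) (BT.leaf (nat_lit 641360)) (BT.leaf (nat_lit 714472))) (BT.node (nat_lit 4403912) (BT.leaf (nat_lit 706684)) (BT.leaf (nat_lit 680896)))) (BT.node (nat_lit 4403972) (BT.node (nat_lit 4403971) (BT.leaf (nat_lit 629036)) (BT.leaf (nat_lit 629036))) (BT.node (nat_lit 4403974) (BT.leaf (nat_lit 629036)) (BT.leaf (nat_lit 719344))))) (BT.node (nat_lit 4404039) (BT.node (nat_lit 4404037) (BT.node (nat_lit 4404035) (BT.leaf (nat_lit 719344)) (BT.leaf (nat_lit 692692))) (BT.node (nat_lit 4404038) (BT.leaf (nat_lit 692692)) (BT.leaf (nat_lit 692692)))) (BT.node (nat_lit 4404099) (BT.node (nat_lit 4404098) (BT.leaf (nat_lit 692692)) (BT.leaf (nat_lit 662824))) (BT.node (nat_lit 4404102) (BT.leaf (nat_lit 662824)) (BT.leaf (nat_lit 662824)))))))) (BT.node (nat_lit 4404870) (BT.node (nat_lit 4404485) (BT.node (nat_lit 4404291) (BT.node (nat_lit 4404226) (BT.node (nat_lit 4404166) (BT.node (nat_lit 4404163) (BT.leaf (nat_lit 662824)) (BT.leaf (nat_lit 646072))) (BT.node (nat_lit 4404167) (BT.leaf (nat_lit 646072)) (BT.leaf (nat_lit 646072)))) (BT.node (nat_lit 4404232) (BT.node (nat_lit 4404228) (BT.leaf (nat_lit 624084)) (BT.leaf (nat_lit 624084))) (BT.node (nat_lit 4404290) (BT.leaf (nat_lit 624084)) (BT.leaf (nat_lit 642372))))) (BT.node (nat_lit 4404418) (BT.node (nat_lit 4404295) (BT.node (nat_lit 4404294) (BT.leaf (nat_lit 642372)) (BT.leaf (nat_lit 642372))) (BT.node (nat_lit 4404296) (BT.leaf (nat_lit 642372)) (BT.leaf (nat_lit 642372)))) (BT.node (nat_lit 4404424) (BT.node (nat_lit 4404423) (BT.leaf (nat_lit 692448)) (BT.leaf (nat_lit 692448))) (BT.node (nat_lit 4404484) (BT.leaf (nat_lit 692448)) (BT.leaf (nat_lit 668184)))))) (BT.node (nat_lit 4404738) (BT.node (nat_lit 4404613) (BT.node (nat_lit 4404551) (BT.node (nat_lit 4404550) (BT.leaf (nat_lit 668184)) (BT.leaf (nat_lit 704112))) (BT.node (nat_lit 4404610) (BT.leaf (nat_lit 704112)) (BT.leaf (nat_lit 754384)))) (BT.node (nat_lit 4404676) (BT.node (nat_lit 4404674) (BT.leaf (nat_lit 754384)) (BT.leaf (nat_lit 676424))) (BT.node (nat_lit 4404677) (BT.leaf (nat_lit 625924)) (BT.leaf (nat_lit 625924))))) (BT.node (nat_lit 4404804) (BT.node (nat_lit 4404741) (BT.node (nat_lit 4404740) (BT.leaf (nat_lit 635112)) (BT.leaf (nat_lit 635112))) (BT.node (nat_lit 4404744) (BT.leaf (nat_lit 635112)) (BT.leaf (nat_lit 635112)))) (BT.node (nat_lit 4404866) (BT.node (nat_lit 4404805) (BT.leaf (nat_lit 651576)) (BT.leaf (nat_lit 770948))) (BT.node (nat_lit 4404867) (BT.leaf (nat_lit 625712)) (BT.leaf (nat_lit 625712))))))) (BT.node (nat_lit 4405442) (BT.node (nat_lit 4404999) (BT.node (nat_lit 4404932) (BT.node (nat_lit 4404929) (BT.node (nat_lit 4404871) (BT.leaf (nat_lit 625712)) (BT.leaf (nat_lit 625712))) (BT.node (nat_lit 4404930) (BT.leaf (nat_lit 722280)) (BT.leaf (nat_lit 722280)))) (BT.node (nat_lit 4404993) (BT.node (nat_lit 4404933) (BT.leaf (nat_lit 722280)) (BT.leaf (nat_lit 746240))) (BT.node (nat_lit 4404998) (BT.leaf (nat_lit 759084)) (BT.leaf (nat_lit 643372))))) (BT.node (nat_lit 4405186) (BT.node (nat_lit 4405061) (BT.node (nat_lit 4405057) (BT.leaf (nat_lit 643372)) (BT.leaf (nat_lit 660332))) (BT.node (nat_lit 4405185) (BT.leaf (nat_lit 660332)) (BT.leaf (nat_lit 706712)))) (BT.node (nat_lit 4405252) (BT.node (nat_lit 4405189) (BT.leaf (nat_lit 664712)) (BT.leaf (nat_lit 706712))) (BT.node (nat_lit 4405256) (BT.leaf (nat_lit 612848)) (BT.leaf (nat_lit 612848)))))) (BT.node (nat_lit 4405703) (BT.node (nat_lit 4405569) (BT.node (nat_lit 4405507) (BT.node (nat_lit 4405506) (BT.leaf (nat_lit 667200)) (BT.leaf (nat_lit 712128))) (BT.node (nat_lit 4405512) (BT.leaf (nat_lit 712128)) (BT.leaf (nat_lit 750512)))) (BT.node (nat_lit 4405576) (BT.node (nat_lit 4405573) (BT.leaf (nat_lit 667212)) (BT.leaf (nat_lit 656056))) (BT.node (nat_lit 4405702) (BT.leaf (nat_lit 667212)) (BT.leaf (nat_lit 712140))))) (BT.node (nat_lit 4405768) (BT.node (nat_lit 4405764) (BT.node (nat_lit 4405761) (BT.leaf (nat_lit 712140)) (BT.leaf (nat_lit 797688))) (BT.node (nat_lit 4405765) (BT.leaf (nat_lit 702984)) (BT.leaf (nat_lit 702984)))) (BT.node (nat_lit 4405891) (BT.node (nat_lit 4405890) (BT.leaf (nat_lit 691356)) (BT.leaf (nat_lit 691160))) (BT.node (nat_lit 4405953) (BT.leaf (nat_lit 691160)) (BT.leaf (nat_lit 722652)))))))))))) (BT.node (nat_lit 4423175) (BT.node (nat_lit 4415368) (BT.node (nat_lit 4411204) (BT.node (nat_lit 4408068) (BT.node (nat_lit 4407173) (BT.node (nat_lit 4406404) (BT.node (nat_lit 4406209) (BT.node (nat_lit 4406145) (BT.node (nat_lit 4406020) (BT.node (nat_lit 4405960) (BT.leaf (nat_lit 722652)) (BT.leaf (nat_lit 722652))) (BT.node (nat_lit 4406024) (BT.leaf (nat_lit 620916)) (BT.leaf (nat_lit 620916)))) (BT.node (nat_lit 4406150) (BT.node (nat_lit 4406146) (BT.leaf (nat_lit 682644)) (BT.leaf (nat_lit 682644))) (BT.node (nat_lit 4406151) (BT.leaf (nat_lit 682644)) (BT.leaf (nat_lit 682644))))) (BT.node (nat_lit 4406279) (BT.node (nat_lit 4406275) (BT.node (nat_lit 4406212) (BT.leaf (nat_lit 623732)) (BT.leaf (nat_lit 623732))) (BT.node (nat_lit 4406278) (BT.leaf (nat_lit 696548)) (BT.leaf (nat_lit 696548)))) (BT.node (nat_lit 4406402) (BT.node (nat_lit 4406339) (BT.leaf (nat_lit 696548)) (BT.leaf (nat_lit 674172))) (BT.node (nat_lit 4406403) (BT.leaf (nat_lit 674124)) (BT.leaf (nat_lit 674124)))))) (BT.node (nat_lit 4406598) (BT.node (nat_lit 4406531) (BT.node (nat_lit 4406529) (BT.node (nat_lit 4406408) (BT.leaf (nat_lit 674124)) (BT.leaf (nat_lit 674124))) (BT.node (nat_lit 4406530) (BT.leaf (nat_lit 629412)) (BT.leaf (nat_lit 629412)))) (BT.node (nat_lit 4406536) (BT.node (nat_lit 4406532) (BT.leaf (nat_lit 629412)) (BT.leaf (nat_lit 629412))) (BT.node (nat_lit 4406594) (BT.leaf (nat_lit 629412)) (BT.leaf (nat_lit 721120))))) (BT.node (nat_lit 4406977) (BT.node (nat_lit 4406600) (BT.node (nat_lit 4406599) (BT.leaf (nat_lit 721120)) (BT.leaf (nat_lit 721120))) (BT.node (nat_lit 4406724) (BT.leaf (nat_lit 721120)) (BT.leaf (nat_lit 639012)))) (BT.node (nat_lit 4407106) (BT.node (nat_lit 4406980) (BT.leaf (nat_lit 621164)) (BT.leaf (nat_lit 621164))) (BT.node (nat_lit 4407108) (BT.leaf (nat_lit 621168)) (BT.leaf (nat_lit 621168))))))) (BT.node (nat_lit 4407556) (BT.node (nat_lit 4407363) (BT.node (nat_lit 4407300) (BT.node (nat_lit 4407236) (BT.node (nat_lit 4407175) (BT.leaf (nat_lit 694008)) (BT.leaf (nat_lit 694008))) (BT.node (nat_lit 4407240) (BT.leaf (nat_lit 666820)) (BT.leaf (nat_lit 721924)))) (BT.node (nat_lit 4407361) (BT.node (nat_lit 4407304) (BT.leaf (nat_lit 707968)) (BT.leaf (nat_lit 635824))) (BT.node (nat_lit 4407362) (BT.leaf (nat_lit 613088)) (BT.leaf (nat_lit 613088))))) (BT.node (nat_lit 4407492) (BT.node (nat_lit 4407367) (BT.node (nat_lit 4407366) (BT.leaf (nat_lit 613088)) (BT.leaf (nat_lit 613088))) (BT.node (nat_lit 4407428) (BT.leaf (nat_lit 613088)) (BT.leaf (nat_lit 635808)))) (BT.node (nat_lit 4407554) (BT.node (nat_lit 4407496) (BT.leaf (nat_lit 661188)) (BT.leaf (nat_lit 661188))) (BT.node (nat_lit 4407555) (BT.leaf (nat_lit 756048)) (BT.leaf (nat_lit 756048)))))) (BT.node (nat_lit 4407873) (BT.node (nat_lit 4407685) (BT.node (nat_lit 4407559) (BT.node (nat_lit 4407558) (BT.leaf (nat_lit 644804)) (BT.leaf (nat_lit 756048))) (BT.node (nat_lit 4407620) (BT.leaf (nat_lit 689596)) (BT.leaf (nat_lit 665564)))) (BT.node (nat_lit 4407687) (BT.node (nat_lit 4407686) (BT.leaf (nat_lit 648960)) (BT.leaf (nat_lit 648960))) (BT.node (nat_lit 4407748) (BT.leaf (nat_lit 648960)) (BT.leaf (nat_lit 692600))))) (BT.node (nat_lit 4407944) (BT.node (nat_lit 4407942) (BT.node (nat_lit 4407938) (BT.leaf (nat_lit 640960)) (BT.leaf (nat_lit 650664))) (BT.node (nat_lit 4407943) (BT.leaf (nat_lit 650664)) (BT.leaf (nat_lit 650664)))) (BT.node (nat_lit 4408002) (BT.node (nat_lit 4408001) (BT.leaf (nat_lit 650664)) (BT.leaf (nat_lit 677748))) (BT.node (nat_lit 4408005) (BT.leaf (nat_lit 677748)) (BT.leaf (nat_lit 677748)))))))) (BT.node (nat_lit 4409736) (BT.node (nat_lit 4408583) (BT.node (nat_lit 4408260) (BT.node (nat_lit 4408135) (BT.node (nat_lit 4408133) (BT.node (nat_lit 4408131) (BT.leaf (nat_lit 692712)) (BT.leaf (nat_lit 615564))) (BT.node (nat_lit 4408134) (BT.leaf (nat_lit 615564)) (BT.leaf (nat_lit 615564)))) (BT.node (nat_lit 4408198) (BT.node (nat_lit 4408136) (BT.leaf (nat_lit 615564)) (BT.leaf (nat_lit 615564))) (BT.node (nat_lit 4408199) (BT.leaf (nat_lit 690004)) (BT.leaf (nat_lit 690004))))) (BT.node (nat_lit 4408388) (BT.node (nat_lit 4408324) (BT.node (nat_lit 4408264) (BT.leaf (nat_lit 768312)) (BT.leaf (nat_lit 768312))) (BT.node (nat_lit 4408386) (BT.leaf (nat_lit 650728)) (BT.leaf (nat_lit 674636)))) (BT.node (nat_lit 4408581) (BT.node (nat_lit 4408392) (BT.leaf (nat_lit 674636)) (BT.leaf (nat_lit 674636))) (BT.node (nat_lit 4408582) (BT.leaf (nat_lit 646828)) (BT.leaf (nat_lit 646828)))))) (BT.node (nat_lit 4408961) (BT.node (nat_lit 4408834) (BT.node (nat_lit 4408772) (BT.node (nat_lit 4408771) (BT.leaf (nat_lit 646828)) (BT.leaf (nat_lit 645344))) (BT.node (nat_lit 4408773) (BT.leaf (nat_lit 645344)) (BT.leaf (nat_lit 645344)))) (BT.node (nat_lit 4408839) (BT.node (nat_lit 4408838) (BT.leaf (nat_lit 692316)) (BT.leaf (nat_lit 692316))) (BT.node (nat_lit 4408840) (BT.leaf (nat_lit 692316)) (BT.leaf (nat_lit 692316))))) (BT.node (nat_lit 4409413) (BT.node (nat_lit 4408965) (BT.node (nat_lit 4408964) (BT.leaf (nat_lit 646684)) (BT.leaf (nat_lit 646684))) (BT.node (nat_lit 4409409) (BT.leaf (nat_lit 646684)) (BT.leaf (nat_lit 643568)))) (BT.node (nat_lit 4409605) (BT.node (nat_lit 4409604) (BT.leaf (nat_lit 643568)) (BT.leaf (nat_lit 656104))) (BT.node (nat_lit 4409732) (BT.leaf (nat_lit 656104)) (BT.leaf (nat_lit 652008))))))) (BT.node (nat_lit 4410373) (BT.node (nat_lit 4409991) (BT.node (nat_lit 4409799) (BT.node (nat_lit 4409795) (BT.node (nat_lit 4409794) (BT.leaf (nat_lit 652008)) (BT.leaf (nat_lit 633408))) (BT.node (nat_lit 4409798) (BT.leaf (nat_lit 633408)) (BT.leaf (nat_lit 633408)))) (BT.node (nat_lit 4409928) (BT.node (nat_lit 4409924) (BT.leaf (nat_lit 633408)) (BT.leaf (nat_lit 711584))) (BT.node (nat_lit 4409990) (BT.leaf (nat_lit 628772)) (BT.leaf (nat_lit 706404))))) (BT.node (nat_lit 4410120) (BT.node (nat_lit 4410056) (BT.node (nat_lit 4410052) (BT.leaf (nat_lit 706404)) (BT.leaf (nat_lit 650632))) (BT.node (nat_lit 4410116) (BT.leaf (nat_lit 711592)) (BT.leaf (nat_lit 658268)))) (BT.node (nat_lit 4410370) (BT.node (nat_lit 4410308) (BT.leaf (nat_lit 705764)) (BT.leaf (nat_lit 661352))) (BT.node (nat_lit 4410372) (BT.leaf (nat_lit 675420)) (BT.leaf (nat_lit 685816)))))) (BT.node (nat_lit 4410632) (BT.node (nat_lit 4410500) (BT.node (nat_lit 4410437) (BT.node (nat_lit 4410436) (BT.leaf (nat_lit 712724)) (BT.leaf (nat_lit 632860))) (BT.node (nat_lit 4410440) (BT.leaf (nat_lit 721644)) (BT.leaf (nat_lit 739408)))) (BT.node (nat_lit 4410630) (BT.node (nat_lit 4410625) (BT.leaf (nat_lit 812236)) (BT.leaf (nat_lit 812240))) (BT.node (nat_lit 4410631) (BT.leaf (nat_lit 615028)) (BT.leaf (nat_lit 615028))))) (BT.node (nat_lit 4411079) (BT.node (nat_lit 4411077) (BT.node (nat_lit 4410756) (BT.leaf (nat_lit 812240)) (BT.leaf (nat_lit 696832))) (BT.node (nat_lit 4411078) (BT.leaf (nat_lit 691820)) (BT.leaf (nat_lit 671892)))) (BT.node (nat_lit 4411140) (BT.node (nat_lit 4411137) (BT.leaf (nat_lit 671892)) (BT.leaf (nat_lit 685116))) (BT.node (nat_lit 4411141) (BT.leaf (nat_lit 685116)) (BT.leaf (nat_lit 685116))))))))) (BT.node (nat_lit 4413635) (BT.node (nat_lit 4412677) (BT.node (nat_lit 4412225) (BT.node (nat_lit 4411777) (BT.node (nat_lit 4411464) (BT.node (nat_lit 4411336) (BT.node (nat_lit 4411272) (BT.leaf (nat_lit 623532)) (BT.leaf (nat_lit 620964))) (BT.node (nat_lit 4411460) (BT.leaf (nat_lit 648628)) (BT.leaf (nat_lit 686840)))) (BT.node (nat_lit 4411592) (BT.node (nat_lit 4411588) (BT.leaf (nat_lit 686840)) (BT.leaf (nat_lit 669644))) (BT.node (nat_lit 4411713) (BT.leaf (nat_lit 669644)) (BT.leaf (nat_lit 656396))))) (BT.node (nat_lit 4412101) (BT.node (nat_lit 4411907) (BT.node (nat_lit 4411905) (BT.leaf (nat_lit 710020)) (BT.leaf (nat_lit 733524))) (BT.node (nat_lit 4411969) (BT.leaf (nat_lit 733524)) (BT.leaf (nat_lit 656260)))) (BT.node (nat_lit 4412166) (BT.node (nat_lit 4412165) (BT.leaf (nat_lit 698632)) (BT.leaf (nat_lit 702772))) (BT.node (nat_lit 4412167) (BT.leaf (nat_lit 702772)) (BT.leaf (nat_lit 702772)))))) (BT.node (nat_lit 4412545) (BT.node (nat_lit 4412295) (BT.node (nat_lit 4412229) (BT.node (nat_lit 4412228) (BT.leaf (nat_lit 634656)) (BT.leaf (nat_lit 634656))) (BT.node (nat_lit 4412293) (BT.leaf (nat_lit 634656)) (BT.leaf (nat_lit 653904)))) (BT.node (nat_lit 4412482) (BT.node (nat_lit 4412481) (BT.leaf (nat_lit 653904)) (BT.leaf (nat_lit 818400))) (BT.node (nat_lit 4412488) (BT.leaf (nat_lit 818400)) (BT.leaf (nat_lit 818400))))) (BT.node (nat_lit 4412613) (BT.node (nat_lit 4412552) (BT.node (nat_lit 4412546) (BT.leaf (nat_lit 818404)) (BT.leaf (nat_lit 818404))) (BT.node (nat_lit 4412612) (BT.leaf (nat_lit 818404)) (BT.leaf (nat_lit 634724)))) (BT.node (nat_lit 4412675) (BT.node (nat_lit 4412674) (BT.leaf (nat_lit 634724)) (BT.leaf (nat_lit 703920))) (BT.node (nat_lit 4412676) (BT.leaf (nat_lit 703920)) (BT.leaf (nat_lit 657444))))))) (BT.node (nat_lit 4413064) (BT.node (nat_lit 4412806) (BT.node (nat_lit 4412744) (BT.node (nat_lit 4412742) (BT.node (nat_lit 4412737) (BT.leaf (nat_lit 768152)) (BT.leaf (nat_lit 636940))) (BT.node (nat_lit 4412743) (BT.leaf (nat_lit 636940)) (BT.leaf (nat_lit 636940)))) (BT.node (nat_lit 4412804) (BT.node (nat_lit 4412801) (BT.leaf (nat_lit 612544)) (BT.leaf (nat_lit 634668))) (BT.node (nat_lit 4412805) (BT.leaf (nat_lit 666732)) (BT.leaf (nat_lit 634668))))) (BT.node (nat_lit 4412872) (BT.node (nat_lit 4412808) (BT.node (nat_lit 4412807) (BT.leaf (nat_lit 634668)) (BT.leaf (nat_lit 612560))) (BT.node (nat_lit 4412865) (BT.leaf (nat_lit 612560)) (BT.leaf (nat_lit 612564)))) (BT.node (nat_lit 4413057) (BT.node (nat_lit 4412932) (BT.leaf (nat_lit 703964)) (BT.leaf (nat_lit 704708))) (BT.node (nat_lit 4413061) (BT.leaf (nat_lit 777336)) (BT.leaf (nat_lit 664024)))))) (BT.node (nat_lit 4413191) (BT.node (nat_lit 4413127) (BT.node (nat_lit 4413122) (BT.node (nat_lit 4413121) (BT.leaf (nat_lit 664024)) (BT.leaf (nat_lit 695632))) (BT.node (nat_lit 4413124) (BT.leaf (nat_lit 695632)) (BT.leaf (nat_lit 695632)))) (BT.node (nat_lit 4413186) (BT.node (nat_lit 4413128) (BT.leaf (nat_lit 777340)) (BT.leaf (nat_lit 695632))) (BT.node (nat_lit 4413188) (BT.leaf (nat_lit 698020)) (BT.leaf (nat_lit 698020))))) (BT.node (nat_lit 4413444) (BT.node (nat_lit 4413256) (BT.node (nat_lit 4413192) (BT.leaf (nat_lit 698020)) (BT.leaf (nat_lit 666672))) (BT.node (nat_lit 4413441) (BT.leaf (nat_lit 755032)) (BT.leaf (nat_lit 684408)))) (BT.node (nat_lit 4413633) (BT.node (nat_lit 4413505) (BT.leaf (nat_lit 684408)) (BT.leaf (nat_lit 757216))) (BT.node (nat_lit 4413634) (BT.leaf (nat_lit 651944)) (BT.leaf (nat_lit 651944)))))))) (BT.node (nat_lit 4414787) (BT.node (nat_lit 4414529) (BT.node (nat_lit 4413892) (BT.node (nat_lit 4413640) (BT.node (nat_lit 4413638) (BT.node (nat_lit 4413637) (BT.leaf (nat_lit 651944)) (BT.leaf (nat_lit 651944))) (BT.node (nat_lit 4413639) (BT.leaf (nat_lit 651944)) (BT.leaf (nat_lit 651944)))) (BT.node (nat_lit 4413826) (BT.node (nat_lit 4413825) (BT.leaf (nat_lit 651944)) (BT.leaf (nat_lit 818380))) (BT.node (nat_lit 4413827) (BT.leaf (nat_lit 612664)) (BT.leaf (nat_lit 612664))))) (BT.node (nat_lit 4414148) (BT.node (nat_lit 4414020) (BT.node (nat_lit 4414017) (BT.leaf (nat_lit 818384)) (BT.leaf (nat_lit 818392))) (BT.node (nat_lit 4414146) (BT.leaf (nat_lit 617380)) (BT.leaf (nat_lit 661280)))) (BT.node (nat_lit 4414404) (BT.node (nat_lit 4414340) (BT.leaf (nat_lit 661280)) (BT.leaf (nat_lit 615396))) (BT.node (nat_lit 4414465) (BT.leaf (nat_lit 661276)) (BT.leaf (nat_lit 818408)))))) (BT.node (nat_lit 4414660) (BT.node (nat_lit 4414593) (BT.node (nat_lit 4414535) (BT.node (nat_lit 4414534) (BT.leaf (nat_lit 673756)) (BT.leaf (nat_lit 673756))) (BT.node (nat_lit 4414536) (BT.leaf (nat_lit 673756)) (BT.leaf (nat_lit 673756)))) (BT.node (nat_lit 4414658) (BT.node (nat_lit 4414657) (BT.leaf (nat_lit 818412)) (BT.leaf (nat_lit 651904))) (BT.node (nat_lit 4414659) (BT.leaf (nat_lit 651904)) (BT.leaf (nat_lit 651904))))) (BT.node (nat_lit 4414727) (BT.node (nat_lit 4414664) (BT.node (nat_lit 4414661) (BT.leaf (nat_lit 651904)) (BT.leaf (nat_lit 612688))) (BT.node (nat_lit 4414726) (BT.leaf (nat_lit 651904)) (BT.leaf (nat_lit 641416)))) (BT.node (nat_lit 4414785) (BT.node (nat_lit 4414728) (BT.leaf (nat_lit 641416)) (BT.leaf (nat_lit 613968))) (BT.node (nat_lit 4414786) (BT.leaf (nat_lit 818428)) (BT.leaf (nat_lit 614328))))))) (BT.node (nat_lit 4414977) (BT.node (nat_lit 4414854) (BT.node (nat_lit 4414849) (BT.node (nat_lit 4414790) (BT.node (nat_lit 4414788) (BT.leaf (nat_lit 614328)) (BT.leaf (nat_lit 614328))) (BT.node (nat_lit 4414792) (BT.leaf (nat_lit 614328)) (BT.leaf (nat_lit 614328)))) (BT.node (nat_lit 4414851) (BT.node (nat_lit 4414850) (BT.leaf (nat_lit 631372)) (BT.leaf (nat_lit 631372))) (BT.node (nat_lit 4414852) (BT.leaf (nat_lit 631372)) (BT.leaf (nat_lit 631124))))) (BT.node (nat_lit 4414917) (BT.node (nat_lit 4414856) (BT.node (nat_lit 4414855) (BT.leaf (nat_lit 631372)) (BT.leaf (nat_lit 631372))) (BT.node (nat_lit 4414913) (BT.leaf (nat_lit 631372)) (BT.leaf (nat_lit 619652)))) (BT.node (nat_lit 4414919) (BT.node (nat_lit 4414918) (BT.leaf (nat_lit 755456)) (BT.leaf (nat_lit 755456))) (BT.node (nat_lit 4414920) (BT.leaf (nat_lit 755456)) (BT.leaf (nat_lit 619652)))))) (BT.node (nat_lit 4415236) (BT.node (nat_lit 4415105) (BT.node (nat_lit 4414981) (BT.node (nat_lit 4414978) (BT.leaf (nat_lit 683144)) (BT.leaf (nat_lit 683144))) (BT.node (nat_lit 4415045) (BT.leaf (nat_lit 683144)) (BT.leaf (nat_lit 663304)))) (BT.node (nat_lit 4415169) (BT.node (nat_lit 4415108) (BT.leaf (nat_lit 794700)) (BT.leaf (nat_lit 708224))) (BT.node (nat_lit 4415233) (BT.leaf (nat_lit 677704)) (BT.leaf (nat_lit 767784))))) (BT.node (nat_lit 4415303) (BT.node (nat_lit 4415299) (BT.node (nat_lit 4415240) (BT.leaf (nat_lit 767784)) (BT.leaf (nat_lit 707996))) (BT.node (nat_lit 4415302) (BT.leaf (nat_lit 685064)) (BT.leaf (nat_lit 628176)))) (BT.node (nat_lit 4415366) (BT.node (nat_lit 4415361) (BT.leaf (nat_lit 628176)) (BT.leaf (nat_lit 680952))) (BT.node (nat_lit 4415367) (BT.leaf (nat_lit 680952)) (BT.leaf (nat_lit 680952)))))))))) (BT.node (nat_lit 4418627) (BT.node (nat_lit 4416966) (BT.node (nat_lit 4416007) (BT.node (nat_lit 4415687) (BT.node (nat_lit 4415555) (BT.node (nat_lit 4415492) (BT.node (nat_lit 4415490) (BT.node (nat_lit 4415489) (BT.leaf (nat_lit 680952)) (BT.leaf (nat_lit 744404))) (BT.node (nat_lit 4415491) (BT.leaf (nat_lit 744404)) (BT.leaf (nat_lit 744404)))) (BT.node (nat_lit 4415495) (BT.node (nat_lit 4415494) (BT.leaf (nat_lit 744404)) (BT.leaf (nat_lit 618964))) (BT.node (nat_lit 4415496) (BT.leaf (nat_lit 618964)) (BT.leaf (nat_lit 744404))))) (BT.node (nat_lit 4415624) (BT.node (nat_lit 4415617) (BT.node (nat_lit 4415557) (BT.leaf (nat_lit 630928)) (BT.leaf (nat_lit 630928))) (BT.node (nat_lit 4415620) (BT.leaf (nat_lit 707972)) (BT.leaf (nat_lit 615440)))) (BT.node (nat_lit 4415683) (BT.node (nat_lit 4415682) (BT.leaf (nat_lit 707972)) (BT.leaf (nat_lit 628332))) (BT.node (nat_lit 4415686) (BT.leaf (nat_lit 670860)) (BT.leaf (nat_lit 628332)))))) (BT.node (nat_lit 4415937) (BT.node (nat_lit 4415816) (BT.node (nat_lit 4415812) (BT.node (nat_lit 4415809) (BT.leaf (nat_lit 670860)) (BT.leaf (nat_lit 654440))) (BT.node (nat_lit 4415813) (BT.leaf (nat_lit 783480)) (BT.leaf (nat_lit 657008)))) (BT.node (nat_lit 4415877) (BT.node (nat_lit 4415873) (BT.leaf (nat_lit 783480)) (BT.leaf (nat_lit 717596))) (BT.node (nat_lit 4415880) (BT.leaf (nat_lit 717596)) (BT.leaf (nat_lit 717596))))) (BT.node (nat_lit 4416002) (BT.node (nat_lit 4415944) (BT.node (nat_lit 4415940) (BT.leaf (nat_lit 636280)) (BT.leaf (nat_lit 636280))) (BT.node (nat_lit 4416001) (BT.leaf (nat_lit 636280)) (BT.leaf (nat_lit 688020)))) (BT.node (nat_lit 4416005) (BT.node (nat_lit 4416003) (BT.leaf (nat_lit 643800)) (BT.leaf (nat_lit 643800))) (BT.node (nat_lit 4416006) (BT.leaf (nat_lit 688020)) (BT.leaf (nat_lit 643800))))))) (BT.node (nat_lit 4416387) (BT.node (nat_lit 4416136) (BT.node (nat_lit 4416130) (BT.node (nat_lit 4416066) (BT.node (nat_lit 4416008) (BT.leaf (nat_lit 643800)) (BT.leaf (nat_lit 643800))) (BT.node (nat_lit 4416069) (BT.leaf (nat_lit 734176)) (BT.leaf (nat_lit 679772)))) (BT.node (nat_lit 4416132) (BT.node (nat_lit 4416131) (BT.leaf (nat_lit 614944)) (BT.leaf (nat_lit 786248))) (BT.node (nat_lit 4416133) (BT.leaf (nat_lit 614944)) (BT.leaf (nat_lit 614944))))) (BT.node (nat_lit 4416197) (BT.node (nat_lit 4416194) (BT.node (nat_lit 4416193) (BT.leaf (nat_lit 614944)) (BT.leaf (nat_lit 768256))) (BT.node (nat_lit 4416195) (BT.leaf (nat_lit 692588)) (BT.leaf (nat_lit 692588)))) (BT.node (nat_lit 4416385) (BT.node (nat_lit 4416321) (BT.leaf (nat_lit 692588)) (BT.leaf (nat_lit 638336))) (BT.node (nat_lit 4416386) (BT.leaf (nat_lit 794640)) (BT.leaf (nat_lit 794640)))))) (BT.node (nat_lit 4416643) (BT.node (nat_lit 4416451) (BT.node (nat_lit 4416449) (BT.node (nat_lit 4416392) (BT.leaf (nat_lit 794640)) (BT.leaf (nat_lit 794640))) (BT.node (nat_lit 4416450) (BT.leaf (nat_lit 716108)) (BT.leaf (nat_lit 716108)))) (BT.node (nat_lit 4416455) (BT.node (nat_lit 4416454) (BT.leaf (nat_lit 696688)) (BT.leaf (nat_lit 696688))) (BT.node (nat_lit 4416642) (BT.leaf (nat_lit 696688)) (BT.leaf (nat_lit 690088))))) (BT.node (nat_lit 4416709) (BT.node (nat_lit 4416646) (BT.node (nat_lit 4416644) (BT.leaf (nat_lit 690088)) (BT.leaf (nat_lit 690088))) (BT.node (nat_lit 4416647) (BT.leaf (nat_lit 634544)) (BT.leaf (nat_lit 634544)))) (BT.node (nat_lit 4416837) (BT.node (nat_lit 4416836) (BT.leaf (nat_lit 691396)) (BT.leaf (nat_lit 672748))) (BT.node (nat_lit 4416965) (BT.leaf (nat_lit 672748)) (BT.leaf (nat_lit 653248)))))))) (BT.node (nat_lit 4417928) (BT.node (nat_lit 4417731) (BT.node (nat_lit 4417350) (BT.node (nat_lit 4417220) (BT.node (nat_lit 4417153) (BT.node (nat_lit 4416967) (BT.leaf (nat_lit 653248)) (BT.leaf (nat_lit 653248))) (BT.node (nat_lit 4417157) (BT.leaf (nat_lit 678432)) (BT.leaf (nat_lit 678432)))) (BT.node (nat_lit 4417286) (BT.node (nat_lit 4417285) (BT.leaf (nat_lit 613484)) (BT.leaf (nat_lit 722768))) (BT.node (nat_lit 4417287) (BT.leaf (nat_lit 722768)) (BT.leaf (nat_lit 722768))))) (BT.node (nat_lit 4417602) (BT.node (nat_lit 4417416) (BT.node (nat_lit 4417351) (BT.leaf (nat_lit 646480)) (BT.leaf (nat_lit 646480))) (BT.node (nat_lit 4417541) (BT.leaf (nat_lit 672756)) (BT.leaf (nat_lit 678412)))) (BT.node (nat_lit 4417604) (BT.node (nat_lit 4417603) (BT.leaf (nat_lit 713084)) (BT.leaf (nat_lit 713084))) (BT.node (nat_lit 4417668) (BT.leaf (nat_lit 713084)) (BT.leaf (nat_lit 685456)))))) (BT.node (nat_lit 4417857) (BT.node (nat_lit 4417796) (BT.node (nat_lit 4417736) (BT.node (nat_lit 4417733) (BT.leaf (nat_lit 668880)) (BT.leaf (nat_lit 668880))) (BT.node (nat_lit 4417793) (BT.leaf (nat_lit 668880)) (BT.leaf (nat_lit 629860)))) (BT.node (nat_lit 4417799) (BT.node (nat_lit 4417798) (BT.leaf (nat_lit 629860)) (BT.leaf (nat_lit 685448))) (BT.node (nat_lit 4417800) (BT.leaf (nat_lit 685448)) (BT.leaf (nat_lit 629860))))) (BT.node (nat_lit 4417921) (BT.node (nat_lit 4417861) (BT.node (nat_lit 4417860) (BT.leaf (nat_lit 628920)) (BT.leaf (nat_lit 628920))) (BT.node (nat_lit 4417864) (BT.leaf (nat_lit 628920)) (BT.leaf (nat_lit 628920)))) (BT.node (nat_lit 4417923) (BT.node (nat_lit 4417922) (BT.leaf (nat_lit 707524)) (BT.leaf (nat_lit 707524))) (BT.node (nat_lit 4417924) (BT.leaf (nat_lit 707524)) (BT.leaf (nat_lit 707524))))))) (BT.node (nat_lit 4418183) (BT.node (nat_lit 4418052) (BT.node (nat_lit 4417989) (BT.node (nat_lit 4417987) (BT.node (nat_lit 4417986) (BT.leaf (nat_lit 707524)) (BT.leaf (nat_lit 666036))) (BT.node (nat_lit 4417988) (BT.leaf (nat_lit 666036)) (BT.leaf (nat_lit 666036)))) (BT.node (nat_lit 4418050) (BT.node (nat_lit 4417992) (BT.leaf (nat_lit 666036)) (BT.leaf (nat_lit 666036))) (BT.node (nat_lit 4418051) (BT.leaf (nat_lit 689856)) (BT.leaf (nat_lit 689856))))) (BT.node (nat_lit 4418178) (BT.node (nat_lit 4418055) (BT.node (nat_lit 4418054) (BT.leaf (nat_lit 689856)) (BT.leaf (nat_lit 685404))) (BT.node (nat_lit 4418177) (BT.leaf (nat_lit 685404)) (BT.leaf (nat_lit 666044)))) (BT.node (nat_lit 4418180) (BT.node (nat_lit 4418179) (BT.leaf (nat_lit 666044)) (BT.leaf (nat_lit 666044))) (BT.node (nat_lit 4418182) (BT.leaf (nat_lit 666044)) (BT.leaf (nat_lit 666044)))))) (BT.node (nat_lit 4418435) (BT.node (nat_lit 4418309) (BT.node (nat_lit 4418306) (BT.node (nat_lit 4418184) (BT.leaf (nat_lit 666044)) (BT.leaf (nat_lit 666044))) (BT.node (nat_lit 4418307) (BT.leaf (nat_lit 646472)) (BT.leaf (nat_lit 646472)))) (BT.node (nat_lit 4418374) (BT.node (nat_lit 4418369) (BT.leaf (nat_lit 716220)) (BT.leaf (nat_lit 671596))) (BT.node (nat_lit 4418375) (BT.leaf (nat_lit 671596)) (BT.leaf (nat_lit 671596))))) (BT.node (nat_lit 4418564) (BT.node (nat_lit 4418498) (BT.node (nat_lit 4418440) (BT.leaf (nat_lit 765436)) (BT.leaf (nat_lit 765436))) (BT.node (nat_lit 4418504) (BT.leaf (nat_lit 645124)) (BT.leaf (nat_lit 645124)))) (BT.node (nat_lit 4418625) (BT.node (nat_lit 4418565) (BT.leaf (nat_lit 646668)) (BT.leaf (nat_lit 646668))) (BT.node (nat_lit 4418626) (BT.leaf (nat_lit 646868)) (BT.leaf (nat_lit 646868))))))))) (BT.node (nat_lit 4420423) (BT.node (nat_lit 4419399) (BT.node (nat_lit 4419144) (BT.node (nat_lit 4418951) (BT.node (nat_lit 4418884) (BT.node (nat_lit 4418630) (BT.node (nat_lit 4418628) (BT.leaf (nat_lit 646868)) (BT.leaf (nat_lit 646868))) (BT.node (nat_lit 4418631) (BT.leaf (nat_lit 723492)) (BT.leaf (nat_lit 723492)))) (BT.node (nat_lit 4418949) (BT.node (nat_lit 4418888) (BT.leaf (nat_lit 613992)) (BT.leaf (nat_lit 613992))) (BT.node (nat_lit 4418950) (BT.leaf (nat_lit 679196)) (BT.leaf (nat_lit 658764))))) (BT.node (nat_lit 4419074) (BT.node (nat_lit 4419013) (BT.node (nat_lit 4419009) (BT.leaf (nat_lit 658764)) (BT.leaf (nat_lit 703440))) (BT.node (nat_lit 4419016) (BT.leaf (nat_lit 703440)) (BT.leaf (nat_lit 703440)))) (BT.node (nat_lit 4419139) (BT.node (nat_lit 4419078) (BT.leaf (nat_lit 740024)) (BT.leaf (nat_lit 740024))) (BT.node (nat_lit 4419140) (BT.leaf (nat_lit 717228)) (BT.leaf (nat_lit 709696)))))) (BT.node (nat_lit 4419334) (BT.node (nat_lit 4419272) (BT.node (nat_lit 4419205) (BT.node (nat_lit 4419204) (BT.leaf (nat_lit 717228)) (BT.leaf (nat_lit 622544))) (BT.node (nat_lit 4419267) (BT.leaf (nat_lit 622544)) (BT.leaf (nat_lit 654504)))) (BT.node (nat_lit 4419331) (BT.node (nat_lit 4419330) (BT.leaf (nat_lit 654504)) (BT.leaf (nat_lit 622540))) (BT.node (nat_lit 4419333) (BT.leaf (nat_lit 622540)) (BT.leaf (nat_lit 622540))))) (BT.node (nat_lit 4419394) (BT.node (nat_lit 4419336) (BT.node (nat_lit 4419335) (BT.leaf (nat_lit 622540)) (BT.leaf (nat_lit 622540))) (BT.node (nat_lit 4419393) (BT.leaf (nat_lit 622540)) (BT.leaf (nat_lit 629852)))) (BT.node (nat_lit 4419396) (BT.node (nat_lit 4419395) (BT.leaf (nat_lit 629852)) (BT.leaf (nat_lit 629852))) (BT.node (nat_lit 4419398) (BT.leaf (nat_lit 697220)) (BT.leaf (nat_lit 629852))))))) (BT.node (nat_lit 4419908) (BT.node (nat_lit 4419716) (BT.node (nat_lit 4419651) (BT.node (nat_lit 4419521) (BT.node (nat_lit 4419400) (BT.leaf (nat_lit 629852)) (BT.leaf (nat_lit 629852))) (BT.node (nat_lit 4419528) (BT.leaf (nat_lit 718100)) (BT.leaf (nat_lit 718100)))) (BT.node (nat_lit 4419714) (BT.node (nat_lit 4419713) (BT.leaf (nat_lit 794168)) (BT.leaf (nat_lit 716088))) (BT.node (nat_lit 4419715) (BT.leaf (nat_lit 716088)) (BT.leaf (nat_lit 716088))))) (BT.node (nat_lit 4419781) (BT.node (nat_lit 4419719) (BT.node (nat_lit 4419718) (BT.leaf (nat_lit 716088)) (BT.leaf (nat_lit 713140))) (BT.node (nat_lit 4419720) (BT.leaf (nat_lit 713140)) (BT.leaf (nat_lit 716088)))) (BT.node (nat_lit 4419906) (BT.node (nat_lit 4419905) (BT.leaf (nat_lit 644316)) (BT.leaf (nat_lit 644308))) (BT.node (nat_lit 4419907) (BT.leaf (nat_lit 644308)) (BT.leaf (nat_lit 644308)))))) (BT.node (nat_lit 4420104) (BT.node (nat_lit 4420037) (BT.node (nat_lit 4419911) (BT.node (nat_lit 4419910) (BT.leaf (nat_lit 644308)) (BT.leaf (nat_lit 644308))) (BT.node (nat_lit 4419912) (BT.leaf (nat_lit 644308)) (BT.leaf (nat_lit 644308)))) (BT.node (nat_lit 4420102) (BT.node (nat_lit 4420098) (BT.leaf (nat_lit 616912)) (BT.leaf (nat_lit 720636))) (BT.node (nat_lit 4420103) (BT.leaf (nat_lit 720636)) (BT.leaf (nat_lit 720636))))) (BT.node (nat_lit 4420417) (BT.node (nat_lit 4420359) (BT.node (nat_lit 4420358) (BT.leaf (nat_lit 720636)) (BT.leaf (nat_lit 689992))) (BT.node (nat_lit 4420360) (BT.leaf (nat_lit 689992)) (BT.leaf (nat_lit 689992)))) (BT.node (nat_lit 4420419) (BT.node (nat_lit 4420418) (BT.leaf (nat_lit 776684)) (BT.leaf (nat_lit 718860))) (BT.node (nat_lit 4420422) (BT.leaf (nat_lit 776684)) (BT.leaf (nat_lit 718860)))))))) (BT.node (nat_lit 4421635) (BT.node (nat_lit 4421126) (BT.node (nat_lit 4420805) (BT.node (nat_lit 4420744) (BT.node (nat_lit 4420740) (BT.node (nat_lit 4420424) (BT.leaf (nat_lit 718860)) (BT.leaf (nat_lit 718860))) (BT.node (nat_lit 4420741) (BT.leaf (nat_lit 707532)) (BT.leaf (nat_lit 707532)))) (BT.node (nat_lit 4420802) (BT.node (nat_lit 4420801) (BT.leaf (nat_lit 707532)) (BT.leaf (nat_lit 661876))) (BT.node (nat_lit 4420803) (BT.leaf (nat_lit 661876)) (BT.leaf (nat_lit 661876))))) (BT.node (nat_lit 4420868) (BT.node (nat_lit 4420866) (BT.node (nat_lit 4420808) (BT.leaf (nat_lit 661876)) (BT.leaf (nat_lit 661876))) (BT.node (nat_lit 4420867) (BT.leaf (nat_lit 681224)) (BT.leaf (nat_lit 681224)))) (BT.node (nat_lit 4420932) (BT.node (nat_lit 4420869) (BT.leaf (nat_lit 681224)) (BT.leaf (nat_lit 681224))) (BT.node (nat_lit 4421062) (BT.leaf (nat_lit 633604)) (BT.leaf (nat_lit 794320)))))) (BT.node (nat_lit 4421384) (BT.node (nat_lit 4421254) (BT.node (nat_lit 4421187) (BT.node (nat_lit 4421127) (BT.leaf (nat_lit 643456)) (BT.leaf (nat_lit 643456))) (BT.node (nat_lit 4421251) (BT.leaf (nat_lit 615924)) (BT.leaf (nat_lit 682768)))) (BT.node (nat_lit 4421317) (BT.node (nat_lit 4421314) (BT.leaf (nat_lit 682768)) (BT.leaf (nat_lit 695660))) (BT.node (nat_lit 4421380) (BT.leaf (nat_lit 718848)) (BT.leaf (nat_lit 624784))))) (BT.node (nat_lit 4421510) (BT.node (nat_lit 4421445) (BT.node (nat_lit 4421443) (BT.leaf (nat_lit 624784)) (BT.leaf (nat_lit 618796))) (BT.node (nat_lit 4421448) (BT.leaf (nat_lit 618796)) (BT.leaf (nat_lit 618796)))) (BT.node (nat_lit 4421570) (BT.node (nat_lit 4421511) (BT.leaf (nat_lit 715484)) (BT.leaf (nat_lit 715484))) (BT.node (nat_lit 4421571) (BT.leaf (nat_lit 698776)) (BT.leaf (nat_lit 698776))))))) (BT.node (nat_lit 4422533) (BT.node (nat_lit 4422274) (BT.node (nat_lit 4422021) (BT.node (nat_lit 4421637) (BT.node (nat_lit 4421636) (BT.leaf (nat_lit 705920)) (BT.leaf (nat_lit 705920))) (BT.node (nat_lit 4421829) (BT.leaf (nat_lit 705920)) (BT.leaf (nat_lit 682968)))) (BT.node (nat_lit 4422148) (BT.node (nat_lit 4422146) (BT.leaf (nat_lit 658096)) (BT.leaf (nat_lit 694136))) (BT.node (nat_lit 4422152) (BT.leaf (nat_lit 694136)) (BT.leaf (nat_lit 694136))))) (BT.node (nat_lit 4422340) (BT.node (nat_lit 4422278) (BT.node (nat_lit 4422275) (BT.leaf (nat_lit 644880)) (BT.leaf (nat_lit 644880))) (BT.node (nat_lit 4422279) (BT.leaf (nat_lit 644880)) (BT.leaf (nat_lit 644880)))) (BT.node (nat_lit 4422404) (BT.node (nat_lit 4422344) (BT.leaf (nat_lit 694068)) (BT.leaf (nat_lit 694068))) (BT.node (nat_lit 4422532) (BT.leaf (nat_lit 686440)) (BT.leaf (nat_lit 662400)))))) (BT.node (nat_lit 4422980) (BT.node (nat_lit 4422918) (BT.node (nat_lit 4422914) (BT.node (nat_lit 4422596) (BT.leaf (nat_lit 662400)) (BT.leaf (nat_lit 660584))) (BT.node (nat_lit 4422917) (BT.leaf (nat_lit 681700)) (BT.leaf (nat_lit 681700)))) (BT.node (nat_lit 4422978) (BT.node (nat_lit 4422919) (BT.leaf (nat_lit 681700)) (BT.leaf (nat_lit 681700))) (BT.node (nat_lit 4422979) (BT.leaf (nat_lit 681712)) (BT.leaf (nat_lit 681712))))) (BT.node (nat_lit 4423109) (BT.node (nat_lit 4423048) (BT.node (nat_lit 4422984) (BT.leaf (nat_lit 681712)) (BT.leaf (nat_lit 681712))) (BT.node (nat_lit 4423108) (BT.leaf (nat_lit 661200)) (BT.leaf (nat_lit 659832)))) (BT.node (nat_lit 4423173) (BT.node (nat_lit 4423169) (BT.leaf (nat_lit 659832)) (BT.leaf (nat_lit 614352))) (BT.node (nat_lit 4423174) (BT.leaf (nat_lit 622260)) (BT.leaf (nat_lit 614352))))))))))) (BT.node (nat_lit 4432836) (BT.node (nat_lit 4428163) (BT.node (nat_lit 4426371) (BT.node (nat_lit 4424836) (BT.node (nat_lit 4423940) (BT.node (nat_lit 4423684) (BT.node (nat_lit 4423428) (BT.node (nat_lit 4423361) (BT.node (nat_lit 4423301) (BT.leaf (nat_lit 614352)) (BT.leaf (nat_lit 723660))) (BT.node (nat_lit 4423365) (BT.leaf (nat_lit 669364)) (BT.leaf (nat_lit 669364)))) (BT.node (nat_lit 4423560) (BT.node (nat_lit 4423556) (BT.leaf (nat_lit 669380)) (BT.leaf (nat_lit 717664))) (BT.node (nat_lit 4423620) (BT.leaf (nat_lit 717520)) (BT.leaf (nat_lit 690424))))) (BT.node (nat_lit 4423874) (BT.node (nat_lit 4423814) (BT.node (nat_lit 4423813) (BT.leaf (nat_lit 707920)) (BT.leaf (nat_lit 637076))) (BT.node (nat_lit 4423815) (BT.leaf (nat_lit 637076)) (BT.leaf (nat_lit 637076)))) (BT.node (nat_lit 4423878) (BT.node (nat_lit 4423875) (BT.leaf (nat_lit 689032)) (BT.leaf (nat_lit 689032))) (BT.node (nat_lit 4423879) (BT.leaf (nat_lit 688824)) (BT.leaf (nat_lit 688824)))))) (BT.node (nat_lit 4424392) (BT.node (nat_lit 4424068) (BT.node (nat_lit 4423944) (BT.node (nat_lit 4423941) (BT.leaf (nat_lit 680324)) (BT.leaf (nat_lit 680324))) (BT.node (nat_lit 4424003) (BT.leaf (nat_lit 632336)) (BT.leaf (nat_lit 642968)))) (BT.node (nat_lit 4424197) (BT.node (nat_lit 4424196) (BT.leaf (nat_lit 685496)) (BT.leaf (nat_lit 687876))) (BT.node (nat_lit 4424324) (BT.leaf (nat_lit 687876)) (BT.leaf (nat_lit 630556))))) (BT.node (nat_lit 4424516) (BT.node (nat_lit 4424452) (BT.node (nat_lit 4424449) (BT.leaf (nat_lit 701028)) (BT.leaf (nat_lit 722116))) (BT.node (nat_lit 4424456) (BT.leaf (nat_lit 693936)) (BT.leaf (nat_lit 722116)))) (BT.node (nat_lit 4424705) (BT.node (nat_lit 4424577) (BT.leaf (nat_lit 661808)) (BT.leaf (nat_lit 627944))) (BT.node (nat_lit 4424711) (BT.leaf (nat_lit 700964)) (BT.leaf (nat_lit 700964))))))) (BT.node (nat_lit 4425603) (BT.node (nat_lit 4425286) (BT.node (nat_lit 4424903) (BT.node (nat_lit 4424840) (BT.node (nat_lit 4424837) (BT.leaf (nat_lit 631760)) (BT.leaf (nat_lit 631760))) (BT.node (nat_lit 4424902) (BT.leaf (nat_lit 631760)) (BT.leaf (nat_lit 674368)))) (BT.node (nat_lit 4425224) (BT.node (nat_lit 4425092) (BT.leaf (nat_lit 674368)) (BT.leaf (nat_lit 768620))) (BT.node (nat_lit 4425281) (BT.leaf (nat_lit 723592)) (BT.leaf (nat_lit 723588))))) (BT.node (nat_lit 4425414) (BT.node (nat_lit 4425351) (BT.node (nat_lit 4425350) (BT.leaf (nat_lit 723588)) (BT.leaf (nat_lit 679780))) (BT.node (nat_lit 4425411) (BT.leaf (nat_lit 679780)) (BT.leaf (nat_lit 641112)))) (BT.node (nat_lit 4425540) (BT.node (nat_lit 4425415) (BT.leaf (nat_lit 675576)) (BT.leaf (nat_lit 675576))) (BT.node (nat_lit 4425601) (BT.leaf (nat_lit 675768)) (BT.leaf (nat_lit 633492)))))) (BT.node (nat_lit 4425861) (BT.node (nat_lit 4425669) (BT.node (nat_lit 4425665) (BT.node (nat_lit 4425607) (BT.leaf (nat_lit 655252)) (BT.leaf (nat_lit 655252))) (BT.node (nat_lit 4425668) (BT.leaf (nat_lit 651052)) (BT.leaf (nat_lit 629640)))) (BT.node (nat_lit 4425800) (BT.node (nat_lit 4425796) (BT.leaf (nat_lit 627772)) (BT.leaf (nat_lit 619304))) (BT.node (nat_lit 4425860) (BT.leaf (nat_lit 619304)) (BT.leaf (nat_lit 687508))))) (BT.node (nat_lit 4426241) (BT.node (nat_lit 4426182) (BT.node (nat_lit 4426049) (BT.leaf (nat_lit 697880)) (BT.leaf (nat_lit 699468))) (BT.node (nat_lit 4426183) (BT.leaf (nat_lit 699976)) (BT.leaf (nat_lit 699976)))) (BT.node (nat_lit 4426247) (BT.node (nat_lit 4426246) (BT.leaf (nat_lit 660292)) (BT.leaf (nat_lit 660292))) (BT.node (nat_lit 4426370) (BT.leaf (nat_lit 660292)) (BT.leaf (nat_lit 674948)))))))) (BT.node (nat_lit 4427205) (BT.node (nat_lit 4426696) (BT.node (nat_lit 4426501) (BT.node (nat_lit 4426437) (BT.node (nat_lit 4426374) (BT.node (nat_lit 4426372) (BT.leaf (nat_lit 674948)) (BT.leaf (nat_lit 674948))) (BT.node (nat_lit 4426375) (BT.leaf (nat_lit 674948)) (BT.leaf (nat_lit 674948)))) (BT.node (nat_lit 4426439) (BT.node (nat_lit 4426438) (BT.leaf (nat_lit 669988)) (BT.leaf (nat_lit 669988))) (BT.node (nat_lit 4426500) (BT.leaf (nat_lit 669988)) (BT.leaf (nat_lit 717284))))) (BT.node (nat_lit 4426627) (BT.node (nat_lit 4426565) (BT.node (nat_lit 4426564) (BT.leaf (nat_lit 634292)) (BT.leaf (nat_lit 714104))) (BT.node (nat_lit 4426626) (BT.leaf (nat_lit 706340)) (BT.leaf (nat_lit 624884)))) (BT.node (nat_lit 4426692) (BT.node (nat_lit 4426628) (BT.leaf (nat_lit 624884)) (BT.leaf (nat_lit 624884))) (BT.node (nat_lit 4426693) (BT.leaf (nat_lit 637100)) (BT.leaf (nat_lit 637100)))))) (BT.node (nat_lit 4427012) (BT.node (nat_lit 4426819) (BT.node (nat_lit 4426817) (BT.node (nat_lit 4426756) (BT.leaf (nat_lit 637100)) (BT.leaf (nat_lit 691256))) (BT.node (nat_lit 4426818) (BT.leaf (nat_lit 631624)) (BT.leaf (nat_lit 631624)))) (BT.node (nat_lit 4426823) (BT.node (nat_lit 4426822) (BT.leaf (nat_lit 631624)) (BT.leaf (nat_lit 631624))) (BT.node (nat_lit 4427011) (BT.leaf (nat_lit 631624)) (BT.leaf (nat_lit 640040))))) (BT.node (nat_lit 4427140) (BT.node (nat_lit 4427138) (BT.node (nat_lit 4427016) (BT.leaf (nat_lit 640040)) (BT.leaf (nat_lit 640040))) (BT.node (nat_lit 4427139) (BT.leaf (nat_lit 681468)) (BT.leaf (nat_lit 681468)))) (BT.node (nat_lit 4427143) (BT.node (nat_lit 4427142) (BT.leaf (nat_lit 669368)) (BT.leaf (nat_lit 681468))) (BT.node (nat_lit 4427144) (BT.leaf (nat_lit 681468)) (BT.leaf (nat_lit 669368))))))) (BT.node (nat_lit 4427656) (BT.node (nat_lit 4427587) (BT.node (nat_lit 4427336) (BT.node (nat_lit 4427269) (BT.node (nat_lit 4427207) (BT.leaf (nat_lit 670300)) (BT.leaf (nat_lit 670300))) (BT.node (nat_lit 4427332) (BT.leaf (nat_lit 630200)) (BT.leaf (nat_lit 614612)))) (BT.node (nat_lit 4427397) (BT.node (nat_lit 4427396) (BT.leaf (nat_lit 614612)) (BT.leaf (nat_lit 642412))) (BT.node (nat_lit 4427400) (BT.leaf (nat_lit 642412)) (BT.leaf (nat_lit 642412))))) (BT.node (nat_lit 4427651) (BT.node (nat_lit 4427592) (BT.node (nat_lit 4427590) (BT.leaf (nat_lit 684880)) (BT.leaf (nat_lit 624580))) (BT.node (nat_lit 4427650) (BT.leaf (nat_lit 684880)) (BT.leaf (nat_lit 618548)))) (BT.node (nat_lit 4427654) (BT.node (nat_lit 4427652) (BT.leaf (nat_lit 618548)) (BT.leaf (nat_lit 618548))) (BT.node (nat_lit 4427655) (BT.leaf (nat_lit 618548)) (BT.leaf (nat_lit 618548)))))) (BT.node (nat_lit 4427844) (BT.node (nat_lit 4427780) (BT.node (nat_lit 4427718) (BT.node (nat_lit 4427717) (BT.leaf (nat_lit 618548)) (BT.leaf (nat_lit 663804))) (BT.node (nat_lit 4427719) (BT.leaf (nat_lit 696020)) (BT.leaf (nat_lit 696020)))) (BT.node (nat_lit 4427784) (BT.node (nat_lit 4427781) (BT.leaf (nat_lit 627140)) (BT.leaf (nat_lit 627140))) (BT.node (nat_lit 4427841) (BT.leaf (nat_lit 684912)) (BT.leaf (nat_lit 641072))))) (BT.node (nat_lit 4427911) (BT.node (nat_lit 4427848) (BT.node (nat_lit 4427845) (BT.leaf (nat_lit 641072)) (BT.leaf (nat_lit 641072))) (BT.node (nat_lit 4427909) (BT.leaf (nat_lit 641072)) (BT.leaf (nat_lit 638188)))) (BT.node (nat_lit 4428036) (BT.node (nat_lit 4428035) (BT.leaf (nat_lit 638188)) (BT.leaf (nat_lit 635836))) (BT.node (nat_lit 4428103) (BT.leaf (nat_lit 635836)) (BT.leaf (nat_lit 664848))))))))) (BT.node (nat_lit 4429699) (BT.node (nat_lit 4428996) (BT.node (nat_lit 4428423) (BT.node (nat_lit 4428295) (BT.node (nat_lit 4428227) (BT.node (nat_lit 4428167) (BT.node (nat_lit 4428165) (BT.leaf (nat_lit 665140)) (BT.leaf (nat_lit 681920))) (BT.node (nat_lit 4428226) (BT.leaf (nat_lit 665140)) (BT.leaf (nat_lit 664856)))) (BT.node (nat_lit 4428291) (BT.node (nat_lit 4428290) (BT.leaf (nat_lit 664856)) (BT.leaf (nat_lit 660376))) (BT.node (nat_lit 4428294) (BT.leaf (nat_lit 660376)) (BT.leaf (nat_lit 660376))))) (BT.node (nat_lit 4428417) (BT.node (nat_lit 4428358) (BT.node (nat_lit 4428357) (BT.leaf (nat_lit 660376)) (BT.leaf (nat_lit 653500))) (BT.node (nat_lit 4428359) (BT.leaf (nat_lit 653500)) (BT.leaf (nat_lit 653500)))) (BT.node (nat_lit 4428419) (BT.node (nat_lit 4428418) (BT.leaf (nat_lit 740452)) (BT.leaf (nat_lit 700436))) (BT.node (nat_lit 4428422) (BT.leaf (nat_lit 700436)) (BT.leaf (nat_lit 711956)))))) (BT.node (nat_lit 4428614) (BT.node (nat_lit 4428545) (BT.node (nat_lit 4428483) (BT.node (nat_lit 4428482) (BT.leaf (nat_lit 700436)) (BT.leaf (nat_lit 790500))) (BT.node (nat_lit 4428488) (BT.leaf (nat_lit 790500)) (BT.leaf (nat_lit 790500)))) (BT.node (nat_lit 4428610) (BT.node (nat_lit 4428609) (BT.leaf (nat_lit 685504)) (BT.leaf (nat_lit 672628))) (BT.node (nat_lit 4428611) (BT.leaf (nat_lit 672628)) (BT.leaf (nat_lit 672628))))) (BT.node (nat_lit 4428931) (BT.node (nat_lit 4428616) (BT.node (nat_lit 4428615) (BT.leaf (nat_lit 672628)) (BT.leaf (nat_lit 672628))) (BT.node (nat_lit 4428868) (BT.leaf (nat_lit 672628)) (BT.leaf (nat_lit 675556)))) (BT.node (nat_lit 4428934) (BT.node (nat_lit 4428932) (BT.leaf (nat_lit 654452)) (BT.leaf (nat_lit 654452))) (BT.node (nat_lit 4428935) (BT.leaf (nat_lit 654452)) (BT.leaf (nat_lit 654452))))))) (BT.node (nat_lit 4429191) (BT.node (nat_lit 4429122) (BT.node (nat_lit 4429059) (BT.node (nat_lit 4428999) (BT.node (nat_lit 4428997) (BT.leaf (nat_lit 661764)) (BT.leaf (nat_lit 661764))) (BT.node (nat_lit 4429057) (BT.leaf (nat_lit 661764)) (BT.leaf (nat_lit 672012)))) (BT.node (nat_lit 4429061) (BT.node (nat_lit 4429060) (BT.leaf (nat_lit 672012)) (BT.leaf (nat_lit 672012))) (BT.node (nat_lit 4429121) (BT.leaf (nat_lit 672012)) (BT.leaf (nat_lit 659632))))) (BT.node (nat_lit 4429127) (BT.node (nat_lit 4429125) (BT.node (nat_lit 4429123) (BT.leaf (nat_lit 659632)) (BT.leaf (nat_lit 659632))) (BT.node (nat_lit 4429126) (BT.leaf (nat_lit 659632)) (BT.leaf (nat_lit 659632)))) (BT.node (nat_lit 4429187) (BT.node (nat_lit 4429186) (BT.leaf (nat_lit 659632)) (BT.leaf (nat_lit 689116))) (BT.node (nat_lit 4429190) (BT.leaf (nat_lit 689116)) (BT.leaf (nat_lit 689116)))))) (BT.node (nat_lit 4429441) (BT.node (nat_lit 4429317) (BT.node (nat_lit 4429252) (BT.node (nat_lit 4429192) (BT.leaf (nat_lit 689116)) (BT.leaf (nat_lit 689116))) (BT.node (nat_lit 4429313) (BT.leaf (nat_lit 717744)) (BT.leaf (nat_lit 661796)))) (BT.node (nat_lit 4429380) (BT.node (nat_lit 4429377) (BT.leaf (nat_lit 661796)) (BT.leaf (nat_lit 654400))) (BT.node (nat_lit 4429382) (BT.leaf (nat_lit 760848)) (BT.leaf (nat_lit 688156))))) (BT.node (nat_lit 4429573) (BT.node (nat_lit 4429447) (BT.node (nat_lit 4429446) (BT.leaf (nat_lit 619752)) (BT.leaf (nat_lit 619752))) (BT.node (nat_lit 4429508) (BT.leaf (nat_lit 619752)) (BT.leaf (nat_lit 696700)))) (BT.node (nat_lit 4429640) (BT.node (nat_lit 4429633) (BT.leaf (nat_lit 760176)) (BT.leaf (nat_lit 639312))) (BT.node (nat_lit 4429698) (BT.leaf (nat_lit 639312)) (BT.leaf (nat_lit 654512)))))))) (BT.node (nat_lit 4431238) (BT.node (nat_lit 4430594) (BT.node (nat_lit 4429892) (BT.node (nat_lit 4429704) (BT.node (nat_lit 4429702) (BT.node (nat_lit 4429700) (BT.leaf (nat_lit 654512)) (BT.leaf (nat_lit 654512))) (BT.node (nat_lit 4429703) (BT.leaf (nat_lit 654512)) (BT.leaf (nat_lit 654512)))) (BT.node (nat_lit 4429768) (BT.node (nat_lit 4429766) (BT.leaf (nat_lit 654512)) (BT.leaf (nat_lit 697584))) (BT.node (nat_lit 4429891) (BT.leaf (nat_lit 697584)) (BT.leaf (nat_lit 686088))))) (BT.node (nat_lit 4430213) (BT.node (nat_lit 4429894) (BT.node (nat_lit 4429893) (BT.leaf (nat_lit 686088)) (BT.leaf (nat_lit 686088))) (BT.node (nat_lit 4430087) (BT.leaf (nat_lit 686088)) (BT.leaf (nat_lit 769960)))) (BT.node (nat_lit 4430276) (BT.node (nat_lit 4430215) (BT.leaf (nat_lit 621068)) (BT.leaf (nat_lit 638932))) (BT.node (nat_lit 4430532) (BT.leaf (nat_lit 663128)) (BT.leaf (nat_lit 718812)))))) (BT.node (nat_lit 4430790) (BT.node (nat_lit 4430599) (BT.node (nat_lit 4430597) (BT.node (nat_lit 4430595) (BT.leaf (nat_lit 620496)) (BT.leaf (nat_lit 620496))) (BT.node (nat_lit 4430598) (BT.leaf (nat_lit 620496)) (BT.leaf (nat_lit 620496)))) (BT.node (nat_lit 4430786) (BT.node (nat_lit 4430600) (BT.leaf (nat_lit 620496)) (BT.leaf (nat_lit 620496))) (BT.node (nat_lit 4430787) (BT.leaf (nat_lit 699172)) (BT.leaf (nat_lit 699172))))) (BT.node (nat_lit 4430914) (BT.node (nat_lit 4430854) (BT.node (nat_lit 4430791) (BT.leaf (nat_lit 699172)) (BT.leaf (nat_lit 699172))) (BT.node (nat_lit 4430855) (BT.leaf (nat_lit 620756)) (BT.leaf (nat_lit 620756)))) (BT.node (nat_lit 4430919) (BT.node (nat_lit 4430918) (BT.leaf (nat_lit 717088)) (BT.leaf (nat_lit 684128))) (BT.node (nat_lit 4431235) (BT.leaf (nat_lit 684128)) (BT.leaf (nat_lit 684816))))))) (BT.node (nat_lit 4432385) (BT.node (nat_lit 4431751) (BT.node (nat_lit 4431556) (BT.node (nat_lit 4431365) (BT.node (nat_lit 4431239) (BT.leaf (nat_lit 684816)) (BT.leaf (nat_lit 684816))) (BT.node (nat_lit 4431496) (BT.leaf (nat_lit 618356)) (BT.leaf (nat_lit 740352)))) (BT.node (nat_lit 4431624) (BT.node (nat_lit 4431560) (BT.leaf (nat_lit 682464)) (BT.leaf (nat_lit 740356))) (BT.node (nat_lit 4431746) (BT.leaf (nat_lit 696120)) (BT.leaf (nat_lit 683272))))) (BT.node (nat_lit 4432195) (BT.node (nat_lit 4431940) (BT.node (nat_lit 4431813) (BT.leaf (nat_lit 653620)) (BT.leaf (nat_lit 701328))) (BT.node (nat_lit 4432194) (BT.leaf (nat_lit 659364)) (BT.leaf (nat_lit 692900)))) (BT.node (nat_lit 4432198) (BT.node (nat_lit 4432196) (BT.leaf (nat_lit 692900)) (BT.leaf (nat_lit 641840))) (BT.node (nat_lit 4432200) (BT.leaf (nat_lit 692900)) (BT.leaf (nat_lit 692900)))))) (BT.node (nat_lit 4432456) (BT.node (nat_lit 4432391) (BT.node (nat_lit 4432387) (BT.node (nat_lit 4432386) (BT.leaf (nat_lit 641456)) (BT.leaf (nat_lit 641456))) (BT.node (nat_lit 4432390) (BT.leaf (nat_lit 641456)) (BT.leaf (nat_lit 641456)))) (BT.node (nat_lit 4432450) (BT.node (nat_lit 4432392) (BT.leaf (nat_lit 641456)) (BT.leaf (nat_lit 641456))) (BT.node (nat_lit 4432452) (BT.leaf (nat_lit 687872)) (BT.leaf (nat_lit 777076))))) (BT.node (nat_lit 4432647) (BT.node (nat_lit 4432645) (BT.node (nat_lit 4432643) (BT.leaf (nat_lit 777076)) (BT.leaf (nat_lit 692260))) (BT.node (nat_lit 4432646) (BT.leaf (nat_lit 692260)) (BT.leaf (nat_lit 692260)))) (BT.node (nat_lit 4432775) (BT.node (nat_lit 4432774) (BT.leaf (nat_lit 692260)) (BT.leaf (nat_lit 661736))) (BT.node (nat_lit 4432835) (BT.leaf (nat_lit 661736)) (BT.leaf (nat_lit 680604)))))))))) (BT.node (nat_lit 4437763) (BT.node (nat_lit 4435015) (BT.node (nat_lit 4433670) (BT.node (nat_lit 4433222) (BT.node (nat_lit 4433091) (BT.node (nat_lit 4432966) (BT.node (nat_lit 4432962) (BT.node (nat_lit 4432839) (BT.leaf (nat_lit 679240)) (BT.leaf (nat_lit 680604))) (BT.node (nat_lit 4432963) (BT.leaf (nat_lit 617048)) (BT.leaf (nat_lit 617048)))) (BT.node (nat_lit 4433029) (BT.node (nat_lit 4432968) (BT.leaf (nat_lit 617048)) (BT.leaf (nat_lit 617048))) (BT.node (nat_lit 4433090) (BT.leaf (nat_lit 634260)) (BT.leaf (nat_lit 634272))))) (BT.node (nat_lit 4433155) (BT.node (nat_lit 4433096) (BT.node (nat_lit 4433093) (BT.leaf (nat_lit 634272)) (BT.leaf (nat_lit 685128))) (BT.node (nat_lit 4433154) (BT.leaf (nat_lit 685128)) (BT.leaf (nat_lit 634284)))) (BT.node (nat_lit 4433157) (BT.node (nat_lit 4433156) (BT.leaf (nat_lit 634284)) (BT.leaf (nat_lit 687192))) (BT.node (nat_lit 4433160) (BT.leaf (nat_lit 687192)) (BT.leaf (nat_lit 687192)))))) (BT.node (nat_lit 4433540) (BT.node (nat_lit 4433476) (BT.node (nat_lit 4433287) (BT.node (nat_lit 4433223) (BT.leaf (nat_lit 675216)) (BT.leaf (nat_lit 675216))) (BT.node (nat_lit 4433346) (BT.leaf (nat_lit 658924)) (BT.leaf (nat_lit 675208)))) (BT.node (nat_lit 4433538) (BT.node (nat_lit 4433480) (BT.leaf (nat_lit 661012)) (BT.leaf (nat_lit 661012))) (BT.node (nat_lit 4433539) (BT.leaf (nat_lit 668664)) (BT.leaf (nat_lit 668664))))) (BT.node (nat_lit 4433602) (BT.node (nat_lit 4433544) (BT.node (nat_lit 4433541) (BT.leaf (nat_lit 668664)) (BT.leaf (nat_lit 668664))) (BT.node (nat_lit 4433601) (BT.leaf (nat_lit 668664)) (BT.leaf (nat_lit 638864)))) (BT.node (nat_lit 4433606) (BT.node (nat_lit 4433603) (BT.leaf (nat_lit 638864)) (BT.leaf (nat_lit 638864))) (BT.node (nat_lit 4433607) (BT.leaf (nat_lit 638864)) (BT.leaf (nat_lit 638864))))))) (BT.node (nat_lit 4434564) (BT.node (nat_lit 4434055) (BT.node (nat_lit 4433921) (BT.node (nat_lit 4433860) (BT.node (nat_lit 4433733) (BT.leaf (nat_lit 659572)) (BT.leaf (nat_lit 710932))) (BT.node (nat_lit 4433864) (BT.leaf (nat_lit 630336)) (BT.leaf (nat_lit 630336)))) (BT.node (nat_lit 4433991) (BT.node (nat_lit 4433989) (BT.leaf (nat_lit 653440)) (BT.leaf (nat_lit 705584))) (BT.node (nat_lit 4434054) (BT.leaf (nat_lit 705584)) (BT.leaf (nat_lit 691344))))) (BT.node (nat_lit 4434497) (BT.node (nat_lit 4434372) (BT.node (nat_lit 4434184) (BT.leaf (nat_lit 691344)) (BT.leaf (nat_lit 684052))) (BT.node (nat_lit 4434376) (BT.leaf (nat_lit 675892)) (BT.leaf (nat_lit 669052)))) (BT.node (nat_lit 4434500) (BT.node (nat_lit 4434498) (BT.leaf (nat_lit 623128)) (BT.leaf (nat_lit 669044))) (BT.node (nat_lit 4434501) (BT.leaf (nat_lit 623128)) (BT.leaf (nat_lit 669044)))))) (BT.node (nat_lit 4434817) (BT.node (nat_lit 4434628) (BT.node (nat_lit 4434626) (BT.node (nat_lit 4434625) (BT.leaf (nat_lit 704780)) (BT.leaf (nat_lit 775844))) (BT.node (nat_lit 4434627) (BT.leaf (nat_lit 668644)) (BT.leaf (nat_lit 775844)))) (BT.node (nat_lit 4434758) (BT.node (nat_lit 4434755) (BT.leaf (nat_lit 775844)) (BT.leaf (nat_lit 661664))) (BT.node (nat_lit 4434759) (BT.leaf (nat_lit 661664)) (BT.leaf (nat_lit 661664))))) (BT.node (nat_lit 4434949) (BT.node (nat_lit 4434884) (BT.node (nat_lit 4434820) (BT.leaf (nat_lit 685952)) (BT.leaf (nat_lit 685952))) (BT.node (nat_lit 4434945) (BT.leaf (nat_lit 700092)) (BT.leaf (nat_lit 660092)))) (BT.node (nat_lit 4434951) (BT.node (nat_lit 4434950) (BT.leaf (nat_lit 651104)) (BT.leaf (nat_lit 651104))) (BT.node (nat_lit 4435014) (BT.leaf (nat_lit 651104)) (BT.leaf (nat_lit 701224)))))))) (BT.node (nat_lit 4435720) (BT.node (nat_lit 4435522) (BT.node (nat_lit 4435330) (BT.node (nat_lit 4435077) (BT.node (nat_lit 4435074) (BT.node (nat_lit 4435016) (BT.leaf (nat_lit 701224)) (BT.leaf (nat_lit 701224))) (BT.node (nat_lit 4435075) (BT.leaf (nat_lit 785268)) (BT.leaf (nat_lit 785268)))) (BT.node (nat_lit 4435139) (BT.node (nat_lit 4435138) (BT.leaf (nat_lit 785268)) (BT.leaf (nat_lit 651156))) (BT.node (nat_lit 4435329) (BT.leaf (nat_lit 651156)) (BT.leaf (nat_lit 704508))))) (BT.node (nat_lit 4435400) (BT.node (nat_lit 4435393) (BT.node (nat_lit 4435334) (BT.leaf (nat_lit 743984)) (BT.leaf (nat_lit 743984))) (BT.node (nat_lit 4435396) (BT.leaf (nat_lit 623856)) (BT.leaf (nat_lit 651192)))) (BT.node (nat_lit 4435463) (BT.node (nat_lit 4435458) (BT.leaf (nat_lit 623856)) (BT.leaf (nat_lit 634420))) (BT.node (nat_lit 4435464) (BT.leaf (nat_lit 673796)) (BT.leaf (nat_lit 634420)))))) (BT.node (nat_lit 4435589) (BT.node (nat_lit 4435585) (BT.node (nat_lit 4435524) (BT.node (nat_lit 4435523) (BT.leaf (nat_lit 781748)) (BT.leaf (nat_lit 781748))) (BT.node (nat_lit 4435525) (BT.leaf (nat_lit 651056)) (BT.leaf (nat_lit 629636)))) (BT.node (nat_lit 4435587) (BT.node (nat_lit 4435586) (BT.leaf (nat_lit 707820)) (BT.leaf (nat_lit 707820))) (BT.node (nat_lit 4435588) (BT.leaf (nat_lit 707820)) (BT.leaf (nat_lit 689976))))) (BT.node (nat_lit 4435653) (BT.node (nat_lit 4435650) (BT.node (nat_lit 4435649) (BT.leaf (nat_lit 628900)) (BT.leaf (nat_lit 642784))) (BT.node (nat_lit 4435651) (BT.leaf (nat_lit 642784)) (BT.leaf (nat_lit 642784)))) (BT.node (nat_lit 4435655) (BT.node (nat_lit 4435654) (BT.leaf (nat_lit 642784)) (BT.leaf (nat_lit 642784))) (BT.node (nat_lit 4435716) (BT.leaf (nat_lit 642784)) (BT.leaf (nat_lit 628624))))))) (BT.node (nat_lit 4436424) (BT.node (nat_lit 4436228) (BT.node (nat_lit 4435976) (BT.node (nat_lit 4435908) (BT.node (nat_lit 4435780) (BT.leaf (nat_lit 627544)) (BT.leaf (nat_lit 636500))) (BT.node (nat_lit 4435912) (BT.leaf (nat_lit 681504)) (BT.leaf (nat_lit 630408)))) (BT.node (nat_lit 4436101) (BT.node (nat_lit 4436100) (BT.leaf (nat_lit 772176)) (BT.leaf (nat_lit 618148))) (BT.node (nat_lit 4436164) (BT.leaf (nat_lit 618148)) (BT.leaf (nat_lit 664888))))) (BT.node (nat_lit 4436419) (BT.node (nat_lit 4436293) (BT.node (nat_lit 4436229) (BT.leaf (nat_lit 624832)) (BT.leaf (nat_lit 624832))) (BT.node (nat_lit 4436357) (BT.leaf (nat_lit 622616)) (BT.leaf (nat_lit 668228)))) (BT.node (nat_lit 4436422) (BT.node (nat_lit 4436421) (BT.leaf (nat_lit 616488)) (BT.leaf (nat_lit 616488))) (BT.node (nat_lit 4436423) (BT.leaf (nat_lit 616488)) (BT.leaf (nat_lit 616488)))))) (BT.node (nat_lit 4437060) (BT.node (nat_lit 4436742) (BT.node (nat_lit 4436616) (BT.node (nat_lit 4436552) (BT.leaf (nat_lit 616488)) (BT.leaf (nat_lit 759584))) (BT.node (nat_lit 4436741) (BT.leaf (nat_lit 759588)) (BT.leaf (nat_lit 761324)))) (BT.node (nat_lit 4436744) (BT.node (nat_lit 4436743) (BT.leaf (nat_lit 702064)) (BT.leaf (nat_lit 702064))) (BT.node (nat_lit 4436805) (BT.leaf (nat_lit 690408)) (BT.leaf (nat_lit 684704))))) (BT.node (nat_lit 4437317) (BT.node (nat_lit 4437064) (BT.node (nat_lit 4437061) (BT.leaf (nat_lit 669648)) (BT.leaf (nat_lit 669648))) (BT.node (nat_lit 4437125) (BT.leaf (nat_lit 669648)) (BT.leaf (nat_lit 759508)))) (BT.node (nat_lit 4437511) (BT.node (nat_lit 4437510) (BT.leaf (nat_lit 616064)) (BT.leaf (nat_lit 708476))) (BT.node (nat_lit 4437761) (BT.leaf (nat_lit 708476)) (BT.leaf (nat_lit 690688))))))))) (BT.node (nat_lit 4439682) (BT.node (nat_lit 4438792) (BT.node (nat_lit 4438406) (BT.node (nat_lit 4438088) (BT.node (nat_lit 4437768) (BT.node (nat_lit 4437766) (BT.node (nat_lit 4437765) (BT.leaf (nat_lit 690688)) (BT.leaf (nat_lit 690688))) (BT.node (nat_lit 4437767) (BT.leaf (nat_lit 690688)) (BT.leaf (nat_lit 690688)))) (BT.node (nat_lit 4437828) (BT.node (nat_lit 4437827) (BT.leaf (nat_lit 690688)) (BT.leaf (nat_lit 720220))) (BT.node (nat_lit 4438084) (BT.leaf (nat_lit 720220)) (BT.leaf (nat_lit 654036))))) (BT.node (nat_lit 4438401) (BT.node (nat_lit 4438150) (BT.node (nat_lit 4438149) (BT.leaf (nat_lit 624956)) (BT.leaf (nat_lit 618120))) (BT.node (nat_lit 4438277) (BT.leaf (nat_lit 618120)) (BT.leaf (nat_lit 686964)))) (BT.node (nat_lit 4438403) (BT.node (nat_lit 4438402) (BT.leaf (nat_lit 673484)) (BT.leaf (nat_lit 673484))) (BT.node (nat_lit 4438405) (BT.leaf (nat_lit 673484)) (BT.leaf (nat_lit 673484)))))) (BT.node (nat_lit 4438597) (BT.node (nat_lit 4438536) (BT.node (nat_lit 4438472) (BT.node (nat_lit 4438407) (BT.leaf (nat_lit 718912)) (BT.leaf (nat_lit 718912))) (BT.node (nat_lit 4438532) (BT.leaf (nat_lit 666372)) (BT.leaf (nat_lit 715312)))) (BT.node (nat_lit 4438595) (BT.node (nat_lit 4438594) (BT.leaf (nat_lit 715312)) (BT.leaf (nat_lit 688120))) (BT.node (nat_lit 4438596) (BT.leaf (nat_lit 688120)) (BT.leaf (nat_lit 688120))))) (BT.node (nat_lit 4438722) (BT.node (nat_lit 4438599) (BT.node (nat_lit 4438598) (BT.leaf (nat_lit 688120)) (BT.leaf (nat_lit 656380))) (BT.node (nat_lit 4438664) (BT.leaf (nat_lit 688120)) (BT.leaf (nat_lit 795412)))) (BT.node (nat_lit 4438728) (BT.node (nat_lit 4438723) (BT.leaf (nat_lit 669740)) (BT.leaf (nat_lit 669740))) (BT.node (nat_lit 4438788) (BT.leaf (nat_lit 669740)) (BT.leaf (nat_lit 626384))))))) (BT.node (nat_lit 4439365) (BT.node (nat_lit 4439176) (BT.node (nat_lit 4439110) (BT.node (nat_lit 4439107) (BT.node (nat_lit 4439105) (BT.leaf (nat_lit 626384)) (BT.leaf (nat_lit 618440))) (BT.node (nat_lit 4439109) (BT.leaf (nat_lit 618440)) (BT.leaf (nat_lit 618440)))) (BT.node (nat_lit 4439174) (BT.node (nat_lit 4439111) (BT.leaf (nat_lit 618440)) (BT.leaf (nat_lit 618440))) (BT.node (nat_lit 4439175) (BT.leaf (nat_lit 686920)) (BT.leaf (nat_lit 686920))))) (BT.node (nat_lit 4439303) (BT.node (nat_lit 4439299) (BT.node (nat_lit 4439298) (BT.leaf (nat_lit 686920)) (BT.leaf (nat_lit 698644))) (BT.node (nat_lit 4439302) (BT.leaf (nat_lit 698644)) (BT.leaf (nat_lit 689012)))) (BT.node (nat_lit 4439361) (BT.node (nat_lit 4439304) (BT.leaf (nat_lit 689012)) (BT.leaf (nat_lit 698644))) (BT.node (nat_lit 4439364) (BT.leaf (nat_lit 718492)) (BT.leaf (nat_lit 718520)))))) (BT.node (nat_lit 4439617) (BT.node (nat_lit 4439492) (BT.node (nat_lit 4439489) (BT.node (nat_lit 4439368) (BT.leaf (nat_lit 718492)) (BT.leaf (nat_lit 718492))) (BT.node (nat_lit 4439490) (BT.leaf (nat_lit 715300)) (BT.leaf (nat_lit 715300)))) (BT.node (nat_lit 4439556) (BT.node (nat_lit 4439493) (BT.leaf (nat_lit 715300)) (BT.leaf (nat_lit 715300))) (BT.node (nat_lit 4439557) (BT.leaf (nat_lit 618092)) (BT.leaf (nat_lit 618092))))) (BT.node (nat_lit 4439622) (BT.node (nat_lit 4439619) (BT.node (nat_lit 4439618) (BT.leaf (nat_lit 618104)) (BT.leaf (nat_lit 618104))) (BT.node (nat_lit 4439621) (BT.leaf (nat_lit 618104)) (BT.leaf (nat_lit 618104)))) (BT.node (nat_lit 4439624) (BT.node (nat_lit 4439623) (BT.leaf (nat_lit 618104)) (BT.leaf (nat_lit 618104))) (BT.node (nat_lit 4439681) (BT.leaf (nat_lit 618104)) (BT.leaf (nat_lit 618124)))))))) (BT.node (nat_lit 4440323) (BT.node (nat_lit 4439815) (BT.node (nat_lit 4439747) (BT.node (nat_lit 4439687) (BT.node (nat_lit 4439684) (BT.node (nat_lit 4439683) (BT.leaf (nat_lit 618124)) (BT.leaf (nat_lit 618124))) (BT.node (nat_lit 4439686) (BT.leaf (nat_lit 618124)) (BT.leaf (nat_lit 618124)))) (BT.node (nat_lit 4439745) (BT.node (nat_lit 4439688) (BT.leaf (nat_lit 618124)) (BT.leaf (nat_lit 618124))) (BT.node (nat_lit 4439746) (BT.leaf (nat_lit 631348)) (BT.leaf (nat_lit 631348))))) (BT.node (nat_lit 4439752) (BT.node (nat_lit 4439750) (BT.node (nat_lit 4439749) (BT.leaf (nat_lit 631348)) (BT.leaf (nat_lit 631348))) (BT.node (nat_lit 4439751) (BT.leaf (nat_lit 631348)) (BT.leaf (nat_lit 631348)))) (BT.node (nat_lit 4439811) (BT.node (nat_lit 4439810) (BT.leaf (nat_lit 631348)) (BT.leaf (nat_lit 733264))) (BT.node (nat_lit 4439814) (BT.leaf (nat_lit 733264)) (BT.leaf (nat_lit 733264)))))) (BT.node (nat_lit 4440132) (BT.node (nat_lit 4440072) (BT.node (nat_lit 4440008) (BT.node (nat_lit 4439944) (BT.leaf (nat_lit 733264)) (BT.leaf (nat_lit 809920))) (BT.node (nat_lit 4440065) (BT.leaf (nat_lit 809924)) (BT.leaf (nat_lit 809928)))) (BT.node (nat_lit 4440130) (BT.node (nat_lit 4440129) (BT.leaf (nat_lit 809928)) (BT.leaf (nat_lit 618764))) (BT.node (nat_lit 4440131) (BT.leaf (nat_lit 618764)) (BT.leaf (nat_lit 618764))))) (BT.node (nat_lit 4440196) (BT.node (nat_lit 4440136) (BT.node (nat_lit 4440133) (BT.leaf (nat_lit 618772)) (BT.leaf (nat_lit 618764))) (BT.node (nat_lit 4440193) (BT.leaf (nat_lit 618772)) (BT.leaf (nat_lit 816468)))) (BT.node (nat_lit 4440257) (BT.node (nat_lit 4440199) (BT.leaf (nat_lit 676972)) (BT.leaf (nat_lit 816468))) (BT.node (nat_lit 4440322) (BT.leaf (nat_lit 816472)) (BT.leaf (nat_lit 737472))))))) (BT.node (nat_lit 4440646) (BT.node (nat_lit 4440515) (BT.node (nat_lit 4440449) (BT.node (nat_lit 4440327) (BT.node (nat_lit 4440326) (BT.leaf (nat_lit 737472)) (BT.leaf (nat_lit 737472))) (BT.node (nat_lit 4440328) (BT.leaf (nat_lit 737472)) (BT.leaf (nat_lit 816476)))) (BT.node (nat_lit 4440513) (BT.node (nat_lit 4440450) (BT.leaf (nat_lit 816480)) (BT.leaf (nat_lit 816480))) (BT.node (nat_lit 4440514) (BT.leaf (nat_lit 691956)) (BT.leaf (nat_lit 691956))))) (BT.node (nat_lit 4440577) (BT.node (nat_lit 4440519) (BT.node (nat_lit 4440518) (BT.leaf (nat_lit 691956)) (BT.leaf (nat_lit 691956))) (BT.node (nat_lit 4440520) (BT.leaf (nat_lit 691956)) (BT.leaf (nat_lit 691956)))) (BT.node (nat_lit 4440643) (BT.node (nat_lit 4440642) (BT.leaf (nat_lit 816488)) (BT.leaf (nat_lit 648432))) (BT.node (nat_lit 4440644) (BT.leaf (nat_lit 648432)) (BT.leaf (nat_lit 648432)))))) (BT.node (nat_lit 4441026) (BT.node (nat_lit 4440709) (BT.node (nat_lit 4440648) (BT.node (nat_lit 4440647) (BT.leaf (nat_lit 648432)) (BT.leaf (nat_lit 648432))) (BT.node (nat_lit 4440708) (BT.leaf (nat_lit 815928)) (BT.leaf (nat_lit 631392)))) (BT.node (nat_lit 4440902) (BT.node (nat_lit 4440772) (BT.leaf (nat_lit 631392)) (BT.leaf (nat_lit 664096))) (BT.node (nat_lit 4440903) (BT.leaf (nat_lit 653796)) (BT.leaf (nat_lit 653796))))) (BT.node (nat_lit 4441096) (BT.node (nat_lit 4441089) (BT.node (nat_lit 4441028) (BT.leaf (nat_lit 655896)) (BT.leaf (nat_lit 655896))) (BT.node (nat_lit 4441093) (BT.leaf (nat_lit 687760)) (BT.leaf (nat_lit 687760)))) (BT.node (nat_lit 4441219) (BT.node (nat_lit 4441218) (BT.leaf (nat_lit 687760)) (BT.leaf (nat_lit 719172))) (BT.node (nat_lit 4441222) (BT.leaf (nat_lit 719172)) (BT.leaf (nat_lit 719172)))))))))))))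
noncomputable def big0_e6144 : BT Nat := (BT.node (nat_lit 4476934) (BT.node (nat_lit 4460296) (BT.node (nat_lit 4449222) (BT.node (nat_lit 4444487) (BT.node (nat_lit 4442888) (BT.node (nat_lit 4441992) (BT.node (nat_lit 4441798) (BT.node (nat_lit 4441479) (BT.node (nat_lit 4441475) (BT.node (nat_lit 4441413) (BT.node (nat_lit 4441409) (BT.leaf (nat_lit 719172)) (BT.leaf (nat_lit 636844))) (BT.node (nat_lit 4441474) (BT.leaf (nat_lit 636844)) (BT.leaf (nat_lit 620108)))) (BT.node (nat_lit 4441477) (BT.node (nat_lit 4441476) (BT.leaf (nat_lit 620108)) (BT.leaf (nat_lit 620108))) (BT.node (nat_lit 4441478) (BT.leaf (nat_lit 620108)) (BT.leaf (nat_lit 677816))))) (BT.node (nat_lit 4441605) (BT.node (nat_lit 4441542) (BT.node (nat_lit 4441541) (BT.leaf (nat_lit 677816)) (BT.leaf (nat_lit 689952))) (BT.node (nat_lit 4441543) (BT.leaf (nat_lit 704820)) (BT.leaf (nat_lit 704820)))) (BT.node (nat_lit 4441669) (BT.node (nat_lit 4441668) (BT.leaf (nat_lit 698884)) (BT.leaf (nat_lit 645304))) (BT.node (nat_lit 4441732) (BT.leaf (nat_lit 645304)) (BT.leaf (nat_lit 665048)))))) (BT.node (nat_lit 4441922) (BT.node (nat_lit 4441862) (BT.node (nat_lit 4441858) (BT.node (nat_lit 4441857) (BT.leaf (nat_lit 760856)) (BT.leaf (nat_lit 790640))) (BT.node (nat_lit 4441859) (BT.leaf (nat_lit 790640)) (BT.leaf (nat_lit 790640)))) (BT.node (nat_lit 4441864) (BT.node (nat_lit 4441863) (BT.leaf (nat_lit 647384)) (BT.leaf (nat_lit 647384))) (BT.node (nat_lit 4441921) (BT.leaf (nat_lit 790640)) (BT.leaf (nat_lit 655964))))) (BT.node (nat_lit 4441985) (BT.node (nat_lit 4441925) (BT.node (nat_lit 4441923) (BT.leaf (nat_lit 655964)) (BT.leaf (nat_lit 655964))) (BT.node (nat_lit 4441927) (BT.leaf (nat_lit 720516)) (BT.leaf (nat_lit 720516)))) (BT.node (nat_lit 4441990) (BT.node (nat_lit 4441989) (BT.leaf (nat_lit 633032)) (BT.leaf (nat_lit 633032))) (BT.node (nat_lit 4441991) (BT.leaf (nat_lit 633032)) (BT.leaf (nat_lit 633032))))))) (BT.node (nat_lit 4442437) (BT.node (nat_lit 4442120) (BT.node (nat_lit 4442056) (BT.node (nat_lit 4442051) (BT.node (nat_lit 4442050) (BT.leaf (nat_lit 633032)) (BT.leaf (nat_lit 637504))) (BT.node (nat_lit 4442053) (BT.leaf (nat_lit 637504)) (BT.leaf (nat_lit 637504)))) (BT.node (nat_lit 4442118) (BT.node (nat_lit 4442115) (BT.leaf (nat_lit 637504)) (BT.leaf (nat_lit 648568))) (BT.node (nat_lit 4442119) (BT.leaf (nat_lit 648568)) (BT.leaf (nat_lit 648568))))) (BT.node (nat_lit 4442184) (BT.node (nat_lit 4442178) (BT.node (nat_lit 4442177) (BT.leaf (nat_lit 620628)) (BT.leaf (nat_lit 620636))) (BT.node (nat_lit 4442179) (BT.leaf (nat_lit 620636)) (BT.leaf (nat_lit 620636)))) (BT.node (nat_lit 4442245) (BT.node (nat_lit 4442241) (BT.leaf (nat_lit 620636)) (BT.leaf (nat_lit 633012))) (BT.node (nat_lit 4442373) (BT.leaf (nat_lit 633012)) (BT.leaf (nat_lit 638208)))))) (BT.node (nat_lit 4442759) (BT.node (nat_lit 4442502) (BT.node (nat_lit 4442439) (BT.node (nat_lit 4442438) (BT.leaf (nat_lit 699344)) (BT.leaf (nat_lit 722304))) (BT.node (nat_lit 4442501) (BT.leaf (nat_lit 722304)) (BT.leaf (nat_lit 657168)))) (BT.node (nat_lit 4442504) (BT.node (nat_lit 4442503) (BT.leaf (nat_lit 723168)) (BT.leaf (nat_lit 723168))) (BT.node (nat_lit 4442754) (BT.leaf (nat_lit 657168)) (BT.leaf (nat_lit 698548))))) (BT.node (nat_lit 4442881) (BT.node (nat_lit 4442819) (BT.node (nat_lit 4442818) (BT.leaf (nat_lit 698548)) (BT.leaf (nat_lit 689788))) (BT.node (nat_lit 4442820) (BT.leaf (nat_lit 689788)) (BT.leaf (nat_lit 689788)))) (BT.node (nat_lit 4442884) (BT.node (nat_lit 4442882) (BT.leaf (nat_lit 635728)) (BT.leaf (nat_lit 635728))) (BT.node (nat_lit 4442885) (BT.leaf (nat_lit 635728)) (BT.leaf (nat_lit 635728)))))))) (BT.node (nat_lit 4443974) (BT.node (nat_lit 4443458) (BT.node (nat_lit 4443140) (BT.node (nat_lit 4442949) (BT.node (nat_lit 4442946) (BT.node (nat_lit 4442945) (BT.leaf (nat_lit 635728)) (BT.leaf (nat_lit 679840))) (BT.node (nat_lit 4442947) (BT.leaf (nat_lit 679840)) (BT.leaf (nat_lit 718832)))) (BT.node (nat_lit 4443075) (BT.node (nat_lit 4442952) (BT.leaf (nat_lit 718832)) (BT.leaf (nat_lit 679840))) (BT.node (nat_lit 4443076) (BT.leaf (nat_lit 679804)) (BT.leaf (nat_lit 679804))))) (BT.node (nat_lit 4443267) (BT.node (nat_lit 4443204) (BT.node (nat_lit 4443201) (BT.leaf (nat_lit 636832)) (BT.leaf (nat_lit 638712))) (BT.node (nat_lit 4443266) (BT.leaf (nat_lit 638712)) (BT.leaf (nat_lit 636824)))) (BT.node (nat_lit 4443271) (BT.node (nat_lit 4443270) (BT.leaf (nat_lit 636824)) (BT.leaf (nat_lit 636824))) (BT.node (nat_lit 4443457) (BT.leaf (nat_lit 636824)) (BT.leaf (nat_lit 657192)))))) (BT.node (nat_lit 4443777) (BT.node (nat_lit 4443589) (BT.node (nat_lit 4443462) (BT.node (nat_lit 4443459) (BT.leaf (nat_lit 667056)) (BT.leaf (nat_lit 667056))) (BT.node (nat_lit 4443463) (BT.leaf (nat_lit 667056)) (BT.leaf (nat_lit 667056)))) (BT.node (nat_lit 4443652) (BT.node (nat_lit 4443649) (BT.leaf (nat_lit 676252)) (BT.leaf (nat_lit 716744))) (BT.node (nat_lit 4443656) (BT.leaf (nat_lit 716744)) (BT.leaf (nat_lit 716744))))) (BT.node (nat_lit 4443969) (BT.node (nat_lit 4443781) (BT.node (nat_lit 4443780) (BT.leaf (nat_lit 638532)) (BT.leaf (nat_lit 706800))) (BT.node (nat_lit 4443845) (BT.leaf (nat_lit 638532)) (BT.leaf (nat_lit 644864)))) (BT.node (nat_lit 4443971) (BT.node (nat_lit 4443970) (BT.leaf (nat_lit 665884)) (BT.leaf (nat_lit 665884))) (BT.node (nat_lit 4443973) (BT.leaf (nat_lit 665884)) (BT.leaf (nat_lit 665884))))))) (BT.node (nat_lit 4444225) (BT.node (nat_lit 4444039) (BT.node (nat_lit 4444034) (BT.node (nat_lit 4443976) (BT.node (nat_lit 4443975) (BT.leaf (nat_lit 665884)) (BT.leaf (nat_lit 665884))) (BT.node (nat_lit 4444033) (BT.leaf (nat_lit 665884)) (BT.leaf (nat_lit 670408)))) (BT.node (nat_lit 4444037) (BT.node (nat_lit 4444035) (BT.leaf (nat_lit 670408)) (BT.leaf (nat_lit 670408))) (BT.node (nat_lit 4444038) (BT.leaf (nat_lit 670408)) (BT.leaf (nat_lit 670408))))) (BT.node (nat_lit 4444102) (BT.node (nat_lit 4444099) (BT.node (nat_lit 4444098) (BT.leaf (nat_lit 670408)) (BT.leaf (nat_lit 636760))) (BT.node (nat_lit 4444100) (BT.leaf (nat_lit 636760)) (BT.leaf (nat_lit 636760)))) (BT.node (nat_lit 4444104) (BT.node (nat_lit 4444103) (BT.leaf (nat_lit 636760)) (BT.leaf (nat_lit 636760))) (BT.node (nat_lit 4444163) (BT.leaf (nat_lit 636760)) (BT.leaf (nat_lit 628716)))))) (BT.node (nat_lit 4444353) (BT.node (nat_lit 4444290) (BT.node (nat_lit 4444230) (BT.node (nat_lit 4444229) (BT.leaf (nat_lit 656476)) (BT.leaf (nat_lit 656476))) (BT.node (nat_lit 4444231) (BT.leaf (nat_lit 630916)) (BT.leaf (nat_lit 656476)))) (BT.node (nat_lit 4444294) (BT.node (nat_lit 4444291) (BT.leaf (nat_lit 701336)) (BT.leaf (nat_lit 701336))) (BT.node (nat_lit 4444295) (BT.leaf (nat_lit 701336)) (BT.leaf (nat_lit 701336))))) (BT.node (nat_lit 4444357) (BT.node (nat_lit 4444355) (BT.node (nat_lit 4444354) (BT.leaf (nat_lit 700640)) (BT.leaf (nat_lit 630908))) (BT.node (nat_lit 4444356) (BT.leaf (nat_lit 630908)) (BT.leaf (nat_lit 630908)))) (BT.node (nat_lit 4444419) (BT.node (nat_lit 4444418) (BT.leaf (nat_lit 682908)) (BT.leaf (nat_lit 668056))) (BT.node (nat_lit 4444486) (BT.leaf (nat_lit 668056)) (BT.leaf (nat_lit 704116))))))))) (BT.node (nat_lit 4447046) (BT.node (nat_lit 4445570) (BT.node (nat_lit 4445250) (BT.node (nat_lit 4444678) (BT.node (nat_lit 4444550) (BT.node (nat_lit 4444546) (BT.node (nat_lit 4444545) (BT.leaf (nat_lit 704116)) (BT.leaf (nat_lit 682912))) (BT.node (nat_lit 4444547) (BT.leaf (nat_lit 682912)) (BT.leaf (nat_lit 682912)))) (BT.node (nat_lit 4444614) (BT.node (nat_lit 4444551) (BT.leaf (nat_lit 682912)) (BT.leaf (nat_lit 682912))) (BT.node (nat_lit 4444615) (BT.leaf (nat_lit 659904)) (BT.leaf (nat_lit 659904))))) (BT.node (nat_lit 4444866) (BT.node (nat_lit 4444802) (BT.node (nat_lit 4444679) (BT.leaf (nat_lit 654544)) (BT.leaf (nat_lit 654544))) (BT.node (nat_lit 4444803) (BT.leaf (nat_lit 759876)) (BT.leaf (nat_lit 759876)))) (BT.node (nat_lit 4445185) (BT.node (nat_lit 4444867) (BT.leaf (nat_lit 663240)) (BT.leaf (nat_lit 663240))) (BT.node (nat_lit 4445187) (BT.leaf (nat_lit 759880)) (BT.leaf (nat_lit 759880)))))) (BT.node (nat_lit 4445382) (BT.node (nat_lit 4445315) (BT.node (nat_lit 4445256) (BT.node (nat_lit 4445255) (BT.leaf (nat_lit 759884)) (BT.leaf (nat_lit 759884))) (BT.node (nat_lit 4445314) (BT.leaf (nat_lit 759884)) (BT.leaf (nat_lit 712932)))) (BT.node (nat_lit 4445380) (BT.node (nat_lit 4445316) (BT.leaf (nat_lit 712932)) (BT.leaf (nat_lit 706816))) (BT.node (nat_lit 4445381) (BT.leaf (nat_lit 655048)) (BT.leaf (nat_lit 655048))))) (BT.node (nat_lit 4445443) (BT.node (nat_lit 4445441) (BT.node (nat_lit 4445383) (BT.leaf (nat_lit 655048)) (BT.leaf (nat_lit 655048))) (BT.node (nat_lit 4445442) (BT.leaf (nat_lit 655036)) (BT.leaf (nat_lit 655036)))) (BT.node (nat_lit 4445506) (BT.node (nat_lit 4445445) (BT.leaf (nat_lit 655036)) (BT.leaf (nat_lit 655036))) (BT.node (nat_lit 4445508) (BT.leaf (nat_lit 655720)) (BT.leaf (nat_lit 655720))))))) (BT.node (nat_lit 4445960) (BT.node (nat_lit 4445826) (BT.node (nat_lit 4445636) (BT.node (nat_lit 4445574) (BT.node (nat_lit 4445571) (BT.leaf (nat_lit 712948)) (BT.leaf (nat_lit 712948))) (BT.node (nat_lit 4445575) (BT.leaf (nat_lit 712948)) (BT.leaf (nat_lit 712948)))) (BT.node (nat_lit 4445639) (BT.node (nat_lit 4445638) (BT.leaf (nat_lit 784332)) (BT.leaf (nat_lit 662120))) (BT.node (nat_lit 4445698) (BT.leaf (nat_lit 662120)) (BT.leaf (nat_lit 660136))))) (BT.node (nat_lit 4445890) (BT.node (nat_lit 4445828) (BT.node (nat_lit 4445827) (BT.leaf (nat_lit 686360)) (BT.leaf (nat_lit 686360))) (BT.node (nat_lit 4445832) (BT.leaf (nat_lit 686360)) (BT.leaf (nat_lit 686360)))) (BT.node (nat_lit 4445895) (BT.node (nat_lit 4445892) (BT.leaf (nat_lit 653284)) (BT.leaf (nat_lit 662052))) (BT.node (nat_lit 4445896) (BT.leaf (nat_lit 653284)) (BT.leaf (nat_lit 653284)))))) (BT.node (nat_lit 4446407) (BT.node (nat_lit 4446276) (BT.node (nat_lit 4446149) (BT.node (nat_lit 4446148) (BT.leaf (nat_lit 633356)) (BT.leaf (nat_lit 671280))) (BT.node (nat_lit 4446213) (BT.leaf (nat_lit 660796)) (BT.leaf (nat_lit 617388)))) (BT.node (nat_lit 4446403) (BT.node (nat_lit 4446280) (BT.leaf (nat_lit 660792)) (BT.leaf (nat_lit 660784))) (BT.node (nat_lit 4446406) (BT.leaf (nat_lit 756544)) (BT.leaf (nat_lit 756544))))) (BT.node (nat_lit 4446534) (BT.node (nat_lit 4446469) (BT.node (nat_lit 4446468) (BT.leaf (nat_lit 689636)) (BT.leaf (nat_lit 708596))) (BT.node (nat_lit 4446530) (BT.leaf (nat_lit 770716)) (BT.leaf (nat_lit 703240)))) (BT.node (nat_lit 4446978) (BT.node (nat_lit 4446535) (BT.leaf (nat_lit 703240)) (BT.leaf (nat_lit 703240))) (BT.node (nat_lit 4447045) (BT.leaf (nat_lit 645496)) (BT.leaf (nat_lit 620224)))))))) (BT.node (nat_lit 4448197) (BT.node (nat_lit 4447683) (BT.node (nat_lit 4447176) (BT.node (nat_lit 4447169) (BT.node (nat_lit 4447108) (BT.node (nat_lit 4447047) (BT.leaf (nat_lit 620224)) (BT.leaf (nat_lit 620224))) (BT.node (nat_lit 4447112) (BT.leaf (nat_lit 667672)) (BT.leaf (nat_lit 667672)))) (BT.node (nat_lit 4447174) (BT.node (nat_lit 4447171) (BT.leaf (nat_lit 628664)) (BT.leaf (nat_lit 628664))) (BT.node (nat_lit 4447175) (BT.leaf (nat_lit 628664)) (BT.leaf (nat_lit 628664))))) (BT.node (nat_lit 4447365) (BT.node (nat_lit 4447237) (BT.node (nat_lit 4447236) (BT.leaf (nat_lit 628664)) (BT.leaf (nat_lit 806632))) (BT.node (nat_lit 4447364) (BT.leaf (nat_lit 664100)) (BT.leaf (nat_lit 742088)))) (BT.node (nat_lit 4447620) (BT.node (nat_lit 4447560) (BT.leaf (nat_lit 742088)) (BT.leaf (nat_lit 686148))) (BT.node (nat_lit 4447624) (BT.leaf (nat_lit 704324)) (BT.leaf (nat_lit 686136)))))) (BT.node (nat_lit 4447812) (BT.node (nat_lit 4447747) (BT.node (nat_lit 4447686) (BT.node (nat_lit 4447684) (BT.leaf (nat_lit 748676)) (BT.leaf (nat_lit 645068))) (BT.node (nat_lit 4447746) (BT.leaf (nat_lit 645068)) (BT.leaf (nat_lit 699216)))) (BT.node (nat_lit 4447750) (BT.node (nat_lit 4447748) (BT.leaf (nat_lit 699216)) (BT.leaf (nat_lit 669376))) (BT.node (nat_lit 4447751) (BT.leaf (nat_lit 699216)) (BT.leaf (nat_lit 699216))))) (BT.node (nat_lit 4447943) (BT.node (nat_lit 4447879) (BT.node (nat_lit 4447878) (BT.leaf (nat_lit 626888)) (BT.leaf (nat_lit 688088))) (BT.node (nat_lit 4447938) (BT.leaf (nat_lit 688088)) (BT.leaf (nat_lit 741376)))) (BT.node (nat_lit 4448070) (BT.node (nat_lit 4448001) (BT.leaf (nat_lit 741376)) (BT.leaf (nat_lit 708516))) (BT.node (nat_lit 4448071) (BT.leaf (nat_lit 630252)) (BT.leaf (nat_lit 630252))))))) (BT.node (nat_lit 4448583) (BT.node (nat_lit 4448391) (BT.node (nat_lit 4448263) (BT.node (nat_lit 4448257) (BT.node (nat_lit 4448199) (BT.leaf (nat_lit 702404)) (BT.leaf (nat_lit 736776))) (BT.node (nat_lit 4448259) (BT.leaf (nat_lit 702400)) (BT.leaf (nat_lit 653060)))) (BT.node (nat_lit 4448387) (BT.node (nat_lit 4448325) (BT.leaf (nat_lit 736780)) (BT.leaf (nat_lit 679784))) (BT.node (nat_lit 4448390) (BT.leaf (nat_lit 742256)) (BT.leaf (nat_lit 742256))))) (BT.node (nat_lit 4448517) (BT.node (nat_lit 4448454) (BT.node (nat_lit 4448453) (BT.leaf (nat_lit 620640)) (BT.leaf (nat_lit 678336))) (BT.node (nat_lit 4448455) (BT.leaf (nat_lit 722344)) (BT.leaf (nat_lit 678336)))) (BT.node (nat_lit 4448579) (BT.node (nat_lit 4448578) (BT.leaf (nat_lit 640948)) (BT.leaf (nat_lit 694392))) (BT.node (nat_lit 4448582) (BT.leaf (nat_lit 694392)) (BT.leaf (nat_lit 694392)))))) (BT.node (nat_lit 4449027) (BT.node (nat_lit 4448901) (BT.node (nat_lit 4448645) (BT.node (nat_lit 4448584) (BT.leaf (nat_lit 694392)) (BT.leaf (nat_lit 694392))) (BT.node (nat_lit 4448709) (BT.leaf (nat_lit 769704)) (BT.leaf (nat_lit 721864)))) (BT.node (nat_lit 4448965) (BT.node (nat_lit 4448964) (BT.leaf (nat_lit 640412)) (BT.leaf (nat_lit 624148))) (BT.node (nat_lit 4449026) (BT.leaf (nat_lit 624148)) (BT.leaf (nat_lit 720352))))) (BT.node (nat_lit 4449095) (BT.node (nat_lit 4449031) (BT.node (nat_lit 4449028) (BT.leaf (nat_lit 720352)) (BT.leaf (nat_lit 720352))) (BT.node (nat_lit 4449094) (BT.leaf (nat_lit 700584)) (BT.leaf (nat_lit 678660)))) (BT.node (nat_lit 4449219) (BT.node (nat_lit 4449218) (BT.leaf (nat_lit 678660)) (BT.leaf (nat_lit 673744))) (BT.node (nat_lit 4449220) (BT.leaf (nat_lit 673744)) (BT.leaf (nat_lit 717864)))))))))) (BT.node (nat_lit 4454788) (BT.node (nat_lit 4451842) (BT.node (nat_lit 4450500) (BT.node (nat_lit 4450117) (BT.node (nat_lit 4449670) (BT.node (nat_lit 4449604) (BT.node (nat_lit 4449602) (BT.node (nat_lit 4449223) (BT.leaf (nat_lit 673744)) (BT.leaf (nat_lit 673744))) (BT.node (nat_lit 4449603) (BT.leaf (nat_lit 669520)) (BT.leaf (nat_lit 669520)))) (BT.node (nat_lit 4449667) (BT.node (nat_lit 4449666) (BT.leaf (nat_lit 669520)) (BT.leaf (nat_lit 646444))) (BT.node (nat_lit 4449668) (BT.leaf (nat_lit 646444)) (BT.leaf (nat_lit 637548))))) (BT.node (nat_lit 4449864) (BT.node (nat_lit 4449733) (BT.node (nat_lit 4449671) (BT.leaf (nat_lit 646444)) (BT.leaf (nat_lit 646444))) (BT.node (nat_lit 4449860) (BT.leaf (nat_lit 658072)) (BT.leaf (nat_lit 637628)))) (BT.node (nat_lit 4450055) (BT.node (nat_lit 4450053) (BT.leaf (nat_lit 645268)) (BT.leaf (nat_lit 762968))) (BT.node (nat_lit 4450116) (BT.leaf (nat_lit 646640)) (BT.leaf (nat_lit 641704)))))) (BT.node (nat_lit 4450369) (BT.node (nat_lit 4450306) (BT.node (nat_lit 4450244) (BT.node (nat_lit 4450181) (BT.leaf (nat_lit 763716)) (BT.leaf (nat_lit 695740))) (BT.node (nat_lit 4450305) (BT.leaf (nat_lit 715744)) (BT.leaf (nat_lit 630448)))) (BT.node (nat_lit 4450310) (BT.node (nat_lit 4450307) (BT.leaf (nat_lit 630448)) (BT.leaf (nat_lit 630448))) (BT.node (nat_lit 4450311) (BT.leaf (nat_lit 630448)) (BT.leaf (nat_lit 630448))))) (BT.node (nat_lit 4450438) (BT.node (nat_lit 4450433) (BT.node (nat_lit 4450376) (BT.leaf (nat_lit 692872)) (BT.leaf (nat_lit 692872))) (BT.node (nat_lit 4450437) (BT.leaf (nat_lit 654656)) (BT.leaf (nat_lit 654656)))) (BT.node (nat_lit 4450440) (BT.node (nat_lit 4450439) (BT.leaf (nat_lit 714380)) (BT.leaf (nat_lit 714380))) (BT.node (nat_lit 4450497) (BT.leaf (nat_lit 654656)) (BT.leaf (nat_lit 722260))))))) (BT.node (nat_lit 4451014) (BT.node (nat_lit 4450753) (BT.node (nat_lit 4450567) (BT.node (nat_lit 4450563) (BT.node (nat_lit 4450562) (BT.leaf (nat_lit 719132)) (BT.leaf (nat_lit 709792))) (BT.node (nat_lit 4450566) (BT.leaf (nat_lit 709792)) (BT.leaf (nat_lit 709792)))) (BT.node (nat_lit 4450625) (BT.node (nat_lit 4450568) (BT.leaf (nat_lit 709792)) (BT.leaf (nat_lit 709792))) (BT.node (nat_lit 4450628) (BT.leaf (nat_lit 621360)) (BT.leaf (nat_lit 621360))))) (BT.node (nat_lit 4450888) (BT.node (nat_lit 4450821) (BT.node (nat_lit 4450760) (BT.leaf (nat_lit 754808)) (BT.leaf (nat_lit 621364))) (BT.node (nat_lit 4450881) (BT.leaf (nat_lit 709800)) (BT.leaf (nat_lit 678824)))) (BT.node (nat_lit 4450952) (BT.node (nat_lit 4450945) (BT.leaf (nat_lit 678824)) (BT.leaf (nat_lit 676092))) (BT.node (nat_lit 4451011) (BT.leaf (nat_lit 676092)) (BT.leaf (nat_lit 662548)))))) (BT.node (nat_lit 4451399) (BT.node (nat_lit 4451204) (BT.node (nat_lit 4451202) (BT.node (nat_lit 4451015) (BT.leaf (nat_lit 662548)) (BT.leaf (nat_lit 662548))) (BT.node (nat_lit 4451203) (BT.leaf (nat_lit 620644)) (BT.leaf (nat_lit 620644)))) (BT.node (nat_lit 4451397) (BT.node (nat_lit 4451332) (BT.leaf (nat_lit 620644)) (BT.leaf (nat_lit 700772))) (BT.node (nat_lit 4451398) (BT.leaf (nat_lit 700776)) (BT.leaf (nat_lit 700776))))) (BT.node (nat_lit 4451720) (BT.node (nat_lit 4451713) (BT.node (nat_lit 4451524) (BT.leaf (nat_lit 700776)) (BT.leaf (nat_lit 667552))) (BT.node (nat_lit 4451716) (BT.leaf (nat_lit 775804)) (BT.leaf (nat_lit 659432)))) (BT.node (nat_lit 4451780) (BT.node (nat_lit 4451777) (BT.leaf (nat_lit 775804)) (BT.leaf (nat_lit 718596))) (BT.node (nat_lit 4451784) (BT.leaf (nat_lit 718596)) (BT.leaf (nat_lit 718596)))))))) (BT.node (nat_lit 4453316) (BT.node (nat_lit 4452744) (BT.node (nat_lit 4451973) (BT.node (nat_lit 4451847) (BT.node (nat_lit 4451844) (BT.node (nat_lit 4451843) (BT.leaf (nat_lit 653656)) (BT.leaf (nat_lit 653656))) (BT.node (nat_lit 4451846) (BT.leaf (nat_lit 653656)) (BT.leaf (nat_lit 653656)))) (BT.node (nat_lit 4451910) (BT.node (nat_lit 4451909) (BT.leaf (nat_lit 653656)) (BT.leaf (nat_lit 704880))) (BT.node (nat_lit 4451969) (BT.leaf (nat_lit 704880)) (BT.leaf (nat_lit 700568))))) (BT.node (nat_lit 4452424) (BT.node (nat_lit 4452036) (BT.node (nat_lit 4451976) (BT.leaf (nat_lit 700568)) (BT.leaf (nat_lit 700568))) (BT.node (nat_lit 4452164) (BT.leaf (nat_lit 700588)) (BT.leaf (nat_lit 667616)))) (BT.node (nat_lit 4452488) (BT.node (nat_lit 4452481) (BT.leaf (nat_lit 665808)) (BT.leaf (nat_lit 756992))) (BT.node (nat_lit 4452546) (BT.leaf (nat_lit 756992)) (BT.leaf (nat_lit 697688)))))) (BT.node (nat_lit 4452935) (BT.node (nat_lit 4452870) (BT.node (nat_lit 4452865) (BT.node (nat_lit 4452808) (BT.leaf (nat_lit 641576)) (BT.leaf (nat_lit 648112))) (BT.node (nat_lit 4452866) (BT.leaf (nat_lit 682864)) (BT.leaf (nat_lit 682864)))) (BT.node (nat_lit 4452933) (BT.node (nat_lit 4452871) (BT.leaf (nat_lit 650348)) (BT.leaf (nat_lit 650348))) (BT.node (nat_lit 4452934) (BT.leaf (nat_lit 672432)) (BT.leaf (nat_lit 672432))))) (BT.node (nat_lit 4453062) (BT.node (nat_lit 4452993) (BT.node (nat_lit 4452936) (BT.leaf (nat_lit 672432)) (BT.leaf (nat_lit 672432))) (BT.node (nat_lit 4453061) (BT.leaf (nat_lit 719956)) (BT.leaf (nat_lit 705544)))) (BT.node (nat_lit 4453128) (BT.node (nat_lit 4453063) (BT.leaf (nat_lit 705544)) (BT.leaf (nat_lit 705544))) (BT.node (nat_lit 4453188) (BT.leaf (nat_lit 709860)) (BT.leaf (nat_lit 627596))))))) (BT.node (nat_lit 4453892) (BT.node (nat_lit 4453444) (BT.node (nat_lit 4453382) (BT.node (nat_lit 4453318) (BT.node (nat_lit 4453317) (BT.leaf (nat_lit 668320)) (BT.leaf (nat_lit 618352))) (BT.node (nat_lit 4453381) (BT.leaf (nat_lit 618352)) (BT.leaf (nat_lit 660448)))) (BT.node (nat_lit 4453384) (BT.node (nat_lit 4453383) (BT.leaf (nat_lit 660448)) (BT.leaf (nat_lit 660448))) (BT.node (nat_lit 4453441) (BT.leaf (nat_lit 660448)) (BT.leaf (nat_lit 636944))))) (BT.node (nat_lit 4453768) (BT.node (nat_lit 4453701) (BT.node (nat_lit 4453448) (BT.leaf (nat_lit 677424)) (BT.leaf (nat_lit 636944))) (BT.node (nat_lit 4453764) (BT.leaf (nat_lit 757804)) (BT.leaf (nat_lit 681832)))) (BT.node (nat_lit 4453890) (BT.node (nat_lit 4453832) (BT.leaf (nat_lit 681832)) (BT.leaf (nat_lit 652972))) (BT.node (nat_lit 4453891) (BT.leaf (nat_lit 628824)) (BT.leaf (nat_lit 700460)))))) (BT.node (nat_lit 4454212) (BT.node (nat_lit 4454024) (BT.node (nat_lit 4453895) (BT.node (nat_lit 4453894) (BT.leaf (nat_lit 700460)) (BT.leaf (nat_lit 628824))) (BT.node (nat_lit 4454017) (BT.leaf (nat_lit 628824)) (BT.leaf (nat_lit 679660)))) (BT.node (nat_lit 4454152) (BT.node (nat_lit 4454145) (BT.leaf (nat_lit 679660)) (BT.leaf (nat_lit 707068))) (BT.node (nat_lit 4454209) (BT.leaf (nat_lit 707068)) (BT.leaf (nat_lit 769416))))) (BT.node (nat_lit 4454529) (BT.node (nat_lit 4454216) (BT.node (nat_lit 4454213) (BT.leaf (nat_lit 676344)) (BT.leaf (nat_lit 676344))) (BT.node (nat_lit 4454280) (BT.leaf (nat_lit 769416)) (BT.leaf (nat_lit 701052)))) (BT.node (nat_lit 4454533) (BT.node (nat_lit 4454532) (BT.leaf (nat_lit 659352)) (BT.leaf (nat_lit 659352))) (BT.node (nat_lit 4454664) (BT.leaf (nat_lit 659352)) (BT.leaf (nat_lit 619012))))))))) (BT.node (nat_lit 4457350) (BT.node (nat_lit 4456198) (BT.node (nat_lit 4455493) (BT.node (nat_lit 4455172) (BT.node (nat_lit 4454920) (BT.node (nat_lit 4454913) (BT.node (nat_lit 4454849) (BT.leaf (nat_lit 690512)) (BT.leaf (nat_lit 667016))) (BT.node (nat_lit 4454916) (BT.leaf (nat_lit 631284)) (BT.leaf (nat_lit 667020)))) (BT.node (nat_lit 4454980) (BT.node (nat_lit 4454977) (BT.leaf (nat_lit 631284)) (BT.leaf (nat_lit 662988))) (BT.node (nat_lit 4454981) (BT.leaf (nat_lit 662988)) (BT.leaf (nat_lit 662988))))) (BT.node (nat_lit 4455239) (BT.node (nat_lit 4455237) (BT.node (nat_lit 4455176) (BT.leaf (nat_lit 644136)) (BT.leaf (nat_lit 693924))) (BT.node (nat_lit 4455238) (BT.leaf (nat_lit 692104)) (BT.leaf (nat_lit 692104)))) (BT.node (nat_lit 4455361) (BT.node (nat_lit 4455240) (BT.leaf (nat_lit 692104)) (BT.leaf (nat_lit 749896))) (BT.node (nat_lit 4455368) (BT.leaf (nat_lit 683600)) (BT.leaf (nat_lit 683600)))))) (BT.node (nat_lit 4455873) (BT.node (nat_lit 4455748) (BT.node (nat_lit 4455560) (BT.node (nat_lit 4455556) (BT.leaf (nat_lit 774544)) (BT.leaf (nat_lit 706680))) (BT.node (nat_lit 4455624) (BT.leaf (nat_lit 691468)) (BT.leaf (nat_lit 722308)))) (BT.node (nat_lit 4455752) (BT.node (nat_lit 4455749) (BT.leaf (nat_lit 652292)) (BT.leaf (nat_lit 652292))) (BT.node (nat_lit 4455809) (BT.leaf (nat_lit 770040)) (BT.leaf (nat_lit 708880))))) (BT.node (nat_lit 4456134) (BT.node (nat_lit 4455880) (BT.node (nat_lit 4455876) (BT.leaf (nat_lit 650576)) (BT.leaf (nat_lit 680004))) (BT.node (nat_lit 4455940) (BT.leaf (nat_lit 680004)) (BT.leaf (nat_lit 642520)))) (BT.node (nat_lit 4456194) (BT.node (nat_lit 4456135) (BT.leaf (nat_lit 722036)) (BT.leaf (nat_lit 722036))) (BT.node (nat_lit 4456195) (BT.leaf (nat_lit 711712)) (BT.leaf (nat_lit 711712))))))) (BT.node (nat_lit 4456708) (BT.node (nat_lit 4456456) (BT.node (nat_lit 4456325) (BT.node (nat_lit 4456200) (BT.node (nat_lit 4456199) (BT.leaf (nat_lit 711712)) (BT.leaf (nat_lit 711712))) (BT.node (nat_lit 4456321) (BT.leaf (nat_lit 711712)) (BT.leaf (nat_lit 674608)))) (BT.node (nat_lit 4456452) (BT.node (nat_lit 4456328) (BT.leaf (nat_lit 674608)) (BT.leaf (nat_lit 674608))) (BT.node (nat_lit 4456453) (BT.leaf (nat_lit 681152)) (BT.leaf (nat_lit 681152))))) (BT.node (nat_lit 4456583) (BT.node (nat_lit 4456520) (BT.node (nat_lit 4456516) (BT.leaf (nat_lit 681152)) (BT.leaf (nat_lit 673548))) (BT.node (nat_lit 4456582) (BT.leaf (nat_lit 673548)) (BT.leaf (nat_lit 635504)))) (BT.node (nat_lit 4456645) (BT.node (nat_lit 4456584) (BT.leaf (nat_lit 635504)) (BT.leaf (nat_lit 635504))) (BT.node (nat_lit 4456647) (BT.leaf (nat_lit 705324)) (BT.leaf (nat_lit 705324)))))) (BT.node (nat_lit 4457160) (BT.node (nat_lit 4456902) (BT.node (nat_lit 4456775) (BT.node (nat_lit 4456709) (BT.leaf (nat_lit 628188)) (BT.leaf (nat_lit 628188))) (BT.node (nat_lit 4456901) (BT.leaf (nat_lit 644468)) (BT.leaf (nat_lit 677904)))) (BT.node (nat_lit 4457025) (BT.node (nat_lit 4456903) (BT.leaf (nat_lit 677904)) (BT.leaf (nat_lit 677904))) (BT.node (nat_lit 4457153) (BT.leaf (nat_lit 680452)) (BT.leaf (nat_lit 723212))))) (BT.node (nat_lit 4457287) (BT.node (nat_lit 4457220) (BT.node (nat_lit 4457217) (BT.leaf (nat_lit 723212)) (BT.leaf (nat_lit 777016))) (BT.node (nat_lit 4457286) (BT.leaf (nat_lit 700760)) (BT.leaf (nat_lit 677572)))) (BT.node (nat_lit 4457347) (BT.node (nat_lit 4457346) (BT.leaf (nat_lit 677572)) (BT.leaf (nat_lit 667396))) (BT.node (nat_lit 4457348) (BT.leaf (nat_lit 667396)) (BT.leaf (nat_lit 667396)))))))) (BT.node (nat_lit 4458310) (BT.node (nat_lit 4457736) (BT.node (nat_lit 4457665) (BT.node (nat_lit 4457415) (BT.node (nat_lit 4457413) (BT.node (nat_lit 4457351) (BT.leaf (nat_lit 667396)) (BT.leaf (nat_lit 667396))) (BT.node (nat_lit 4457414) (BT.leaf (nat_lit 667400)) (BT.leaf (nat_lit 667400)))) (BT.node (nat_lit 4457604) (BT.node (nat_lit 4457601) (BT.leaf (nat_lit 667400)) (BT.leaf (nat_lit 793880))) (BT.node (nat_lit 4457608) (BT.leaf (nat_lit 722240)) (BT.leaf (nat_lit 793880))))) (BT.node (nat_lit 4457730) (BT.node (nat_lit 4457672) (BT.node (nat_lit 4457668) (BT.leaf (nat_lit 664560)) (BT.leaf (nat_lit 664560))) (BT.node (nat_lit 4457729) (BT.leaf (nat_lit 664560)) (BT.leaf (nat_lit 750096)))) (BT.node (nat_lit 4457734) (BT.node (nat_lit 4457731) (BT.leaf (nat_lit 750096)) (BT.leaf (nat_lit 628612))) (BT.node (nat_lit 4457735) (BT.leaf (nat_lit 628612)) (BT.leaf (nat_lit 628612)))))) (BT.node (nat_lit 4457992) (BT.node (nat_lit 4457924) (BT.node (nat_lit 4457860) (BT.node (nat_lit 4457857) (BT.leaf (nat_lit 628612)) (BT.leaf (nat_lit 720152))) (BT.node (nat_lit 4457921) (BT.leaf (nat_lit 720152)) (BT.leaf (nat_lit 648264)))) (BT.node (nat_lit 4457928) (BT.node (nat_lit 4457925) (BT.leaf (nat_lit 716804)) (BT.leaf (nat_lit 648264))) (BT.node (nat_lit 4457985) (BT.leaf (nat_lit 648264)) (BT.leaf (nat_lit 777584))))) (BT.node (nat_lit 4458242) (BT.node (nat_lit 4458119) (BT.node (nat_lit 4458118) (BT.leaf (nat_lit 777584)) (BT.leaf (nat_lit 690656))) (BT.node (nat_lit 4458120) (BT.leaf (nat_lit 690656)) (BT.leaf (nat_lit 621280)))) (BT.node (nat_lit 4458246) (BT.node (nat_lit 4458243) (BT.leaf (nat_lit 720324)) (BT.leaf (nat_lit 720324))) (BT.node (nat_lit 4458309) (BT.leaf (nat_lit 720324)) (BT.leaf (nat_lit 659408))))))) (BT.node (nat_lit 4458885) (BT.node (nat_lit 4458689) (BT.node (nat_lit 4458436) (BT.node (nat_lit 4458374) (BT.node (nat_lit 4458311) (BT.leaf (nat_lit 644112)) (BT.leaf (nat_lit 644112))) (BT.node (nat_lit 4458375) (BT.leaf (nat_lit 675944)) (BT.leaf (nat_lit 675944)))) (BT.node (nat_lit 4458563) (BT.node (nat_lit 4458562) (BT.leaf (nat_lit 643612)) (BT.leaf (nat_lit 643608))) (BT.node (nat_lit 4458567) (BT.leaf (nat_lit 643608)) (BT.leaf (nat_lit 805720))))) (BT.node (nat_lit 4458820) (BT.node (nat_lit 4458757) (BT.node (nat_lit 4458696) (BT.leaf (nat_lit 790696)) (BT.leaf (nat_lit 790696))) (BT.node (nat_lit 4458817) (BT.leaf (nat_lit 704860)) (BT.leaf (nat_lit 644108)))) (BT.node (nat_lit 4458824) (BT.node (nat_lit 4458821) (BT.leaf (nat_lit 644108)) (BT.leaf (nat_lit 644108))) (BT.node (nat_lit 4458881) (BT.leaf (nat_lit 644108)) (BT.leaf (nat_lit 648064)))))) (BT.node (nat_lit 4459654) (BT.node (nat_lit 4459144) (BT.node (nat_lit 4458888) (BT.node (nat_lit 4458886) (BT.leaf (nat_lit 648064)) (BT.leaf (nat_lit 648064))) (BT.node (nat_lit 4459074) (BT.leaf (nat_lit 648064)) (BT.leaf (nat_lit 661140)))) (BT.node (nat_lit 4459203) (BT.node (nat_lit 4459202) (BT.leaf (nat_lit 621932)) (BT.leaf (nat_lit 644492))) (BT.node (nat_lit 4459462) (BT.leaf (nat_lit 644492)) (BT.leaf (nat_lit 686952))))) (BT.node (nat_lit 4460225) (BT.node (nat_lit 4459716) (BT.node (nat_lit 4459655) (BT.leaf (nat_lit 710868)) (BT.leaf (nat_lit 710868))) (BT.node (nat_lit 4459973) (BT.leaf (nat_lit 669532)) (BT.leaf (nat_lit 655068)))) (BT.node (nat_lit 4460294) (BT.node (nat_lit 4460293) (BT.leaf (nat_lit 689272)) (BT.leaf (nat_lit 624304))) (BT.node (nat_lit 4460295) (BT.leaf (nat_lit 624304)) (BT.leaf (nat_lit 624304))))))))))) (BT.node (nat_lit 4468295) (BT.node (nat_lit 4464706) (BT.node (nat_lit 4462216) (BT.node (nat_lit 4461441) (BT.node (nat_lit 4460744) (BT.node (nat_lit 4460551) (BT.node (nat_lit 4460481) (BT.node (nat_lit 4460356) (BT.node (nat_lit 4460353) (BT.leaf (nat_lit 624304)) (BT.leaf (nat_lit 625744))) (BT.node (nat_lit 4460360) (BT.leaf (nat_lit 625744)) (BT.leaf (nat_lit 625744)))) (BT.node (nat_lit 4460488) (BT.node (nat_lit 4460484) (BT.leaf (nat_lit 655312)) (BT.leaf (nat_lit 655312))) (BT.node (nat_lit 4460549) (BT.leaf (nat_lit 717328)) (BT.leaf (nat_lit 653912))))) (BT.node (nat_lit 4460738) (BT.node (nat_lit 4460615) (BT.node (nat_lit 4460614) (BT.leaf (nat_lit 653912)) (BT.leaf (nat_lit 766252))) (BT.node (nat_lit 4460616) (BT.leaf (nat_lit 766252)) (BT.leaf (nat_lit 766252)))) (BT.node (nat_lit 4460742) (BT.node (nat_lit 4460739) (BT.leaf (nat_lit 633276)) (BT.leaf (nat_lit 633276))) (BT.node (nat_lit 4460743) (BT.leaf (nat_lit 633276)) (BT.leaf (nat_lit 633276)))))) (BT.node (nat_lit 4461256) (BT.node (nat_lit 4461060) (BT.node (nat_lit 4460996) (BT.node (nat_lit 4460805) (BT.leaf (nat_lit 633276)) (BT.leaf (nat_lit 665636))) (BT.node (nat_lit 4460997) (BT.leaf (nat_lit 668020)) (BT.leaf (nat_lit 668020)))) (BT.node (nat_lit 4461185) (BT.node (nat_lit 4461125) (BT.leaf (nat_lit 719992)) (BT.leaf (nat_lit 754044))) (BT.node (nat_lit 4461249) (BT.leaf (nat_lit 628708)) (BT.leaf (nat_lit 640052))))) (BT.node (nat_lit 4461319) (BT.node (nat_lit 4461315) (BT.node (nat_lit 4461313) (BT.leaf (nat_lit 640052)) (BT.leaf (nat_lit 737792))) (BT.node (nat_lit 4461318) (BT.leaf (nat_lit 629548)) (BT.leaf (nat_lit 629548)))) (BT.node (nat_lit 4461380) (BT.node (nat_lit 4461320) (BT.leaf (nat_lit 629548)) (BT.leaf (nat_lit 629548))) (BT.node (nat_lit 4461384) (BT.leaf (nat_lit 621636)) (BT.leaf (nat_lit 621636))))))) (BT.node (nat_lit 4461957) (BT.node (nat_lit 4461636) (BT.node (nat_lit 4461448) (BT.node (nat_lit 4461446) (BT.node (nat_lit 4461445) (BT.leaf (nat_lit 709304)) (BT.leaf (nat_lit 709304))) (BT.node (nat_lit 4461447) (BT.leaf (nat_lit 709304)) (BT.leaf (nat_lit 709304)))) (BT.node (nat_lit 4461573) (BT.node (nat_lit 4461569) (BT.leaf (nat_lit 668836)) (BT.leaf (nat_lit 672924))) (BT.node (nat_lit 4461576) (BT.leaf (nat_lit 672924)) (BT.leaf (nat_lit 672924))))) (BT.node (nat_lit 4461828) (BT.node (nat_lit 4461704) (BT.node (nat_lit 4461697) (BT.leaf (nat_lit 700028)) (BT.leaf (nat_lit 628856))) (BT.node (nat_lit 4461768) (BT.leaf (nat_lit 628856)) (BT.leaf (nat_lit 629536)))) (BT.node (nat_lit 4461896) (BT.node (nat_lit 4461892) (BT.leaf (nat_lit 678496)) (BT.leaf (nat_lit 678468))) (BT.node (nat_lit 4461956) (BT.leaf (nat_lit 678468)) (BT.leaf (nat_lit 633920)))))) (BT.node (nat_lit 4462088) (BT.node (nat_lit 4462082) (BT.node (nat_lit 4462020) (BT.node (nat_lit 4462017) (BT.leaf (nat_lit 633920)) (BT.leaf (nat_lit 633936))) (BT.node (nat_lit 4462024) (BT.leaf (nat_lit 633936)) (BT.leaf (nat_lit 633936)))) (BT.node (nat_lit 4462086) (BT.node (nat_lit 4462083) (BT.leaf (nat_lit 702912)) (BT.leaf (nat_lit 702912))) (BT.node (nat_lit 4462087) (BT.leaf (nat_lit 702912)) (BT.leaf (nat_lit 702912))))) (BT.node (nat_lit 4462151) (BT.node (nat_lit 4462147) (BT.node (nat_lit 4462146) (BT.leaf (nat_lit 702912)) (BT.leaf (nat_lit 716924))) (BT.node (nat_lit 4462150) (BT.leaf (nat_lit 716924)) (BT.leaf (nat_lit 716924)))) (BT.node (nat_lit 4462214) (BT.node (nat_lit 4462213) (BT.leaf (nat_lit 716924)) (BT.leaf (nat_lit 681748))) (BT.node (nat_lit 4462215) (BT.leaf (nat_lit 681748)) (BT.leaf (nat_lit 681748)))))))) (BT.node (nat_lit 4464003) (BT.node (nat_lit 4463299) (BT.node (nat_lit 4462916) (BT.node (nat_lit 4462469) (BT.node (nat_lit 4462277) (BT.node (nat_lit 4462273) (BT.leaf (nat_lit 681748)) (BT.leaf (nat_lit 681892))) (BT.node (nat_lit 4462468) (BT.leaf (nat_lit 681892)) (BT.leaf (nat_lit 706868)))) (BT.node (nat_lit 4462791) (BT.node (nat_lit 4462661) (BT.leaf (nat_lit 706868)) (BT.leaf (nat_lit 647432))) (BT.node (nat_lit 4462853) (BT.leaf (nat_lit 793024)) (BT.leaf (nat_lit 638928))))) (BT.node (nat_lit 4463045) (BT.node (nat_lit 4462978) (BT.node (nat_lit 4462917) (BT.leaf (nat_lit 628796)) (BT.leaf (nat_lit 628796))) (BT.node (nat_lit 4463044) (BT.leaf (nat_lit 749684)) (BT.leaf (nat_lit 643820)))) (BT.node (nat_lit 4463236) (BT.node (nat_lit 4463108) (BT.leaf (nat_lit 643820)) (BT.leaf (nat_lit 720972))) (BT.node (nat_lit 4463298) (BT.leaf (nat_lit 689928)) (BT.leaf (nat_lit 689860)))))) (BT.node (nat_lit 4463686) (BT.node (nat_lit 4463620) (BT.node (nat_lit 4463303) (BT.node (nat_lit 4463302) (BT.leaf (nat_lit 689860)) (BT.leaf (nat_lit 672384))) (BT.node (nat_lit 4463560) (BT.leaf (nat_lit 689860)) (BT.leaf (nat_lit 801868)))) (BT.node (nat_lit 4463681) (BT.node (nat_lit 4463624) (BT.leaf (nat_lit 801872)) (BT.leaf (nat_lit 801872))) (BT.node (nat_lit 4463682) (BT.leaf (nat_lit 703872)) (BT.leaf (nat_lit 638484))))) (BT.node (nat_lit 4463938) (BT.node (nat_lit 4463752) (BT.node (nat_lit 4463687) (BT.leaf (nat_lit 703872)) (BT.leaf (nat_lit 703872))) (BT.node (nat_lit 4463816) (BT.leaf (nat_lit 801876)) (BT.leaf (nat_lit 801880)))) (BT.node (nat_lit 4463941) (BT.node (nat_lit 4463940) (BT.leaf (nat_lit 636868)) (BT.leaf (nat_lit 636868))) (BT.node (nat_lit 4464002) (BT.leaf (nat_lit 636868)) (BT.leaf (nat_lit 705480))))))) (BT.node (nat_lit 4464387) (BT.node (nat_lit 4464196) (BT.node (nat_lit 4464072) (BT.node (nat_lit 4464068) (BT.node (nat_lit 4464007) (BT.leaf (nat_lit 705480)) (BT.leaf (nat_lit 705480))) (BT.node (nat_lit 4464069) (BT.leaf (nat_lit 771040)) (BT.leaf (nat_lit 630504)))) (BT.node (nat_lit 4464193) (BT.node (nat_lit 4464133) (BT.leaf (nat_lit 653156)) (BT.leaf (nat_lit 685072))) (BT.node (nat_lit 4464195) (BT.leaf (nat_lit 685060)) (BT.leaf (nat_lit 628044))))) (BT.node (nat_lit 4464262) (BT.node (nat_lit 4464260) (BT.node (nat_lit 4464199) (BT.leaf (nat_lit 628044)) (BT.leaf (nat_lit 628044))) (BT.node (nat_lit 4464261) (BT.leaf (nat_lit 678204)) (BT.leaf (nat_lit 678204)))) (BT.node (nat_lit 4464326) (BT.node (nat_lit 4464324) (BT.leaf (nat_lit 719060)) (BT.leaf (nat_lit 678200))) (BT.node (nat_lit 4464386) (BT.leaf (nat_lit 678200)) (BT.leaf (nat_lit 719048)))))) (BT.node (nat_lit 4464518) (BT.node (nat_lit 4464454) (BT.node (nat_lit 4464450) (BT.node (nat_lit 4464389) (BT.leaf (nat_lit 719048)) (BT.leaf (nat_lit 755452))) (BT.node (nat_lit 4464453) (BT.leaf (nat_lit 630308)) (BT.leaf (nat_lit 630308)))) (BT.node (nat_lit 4464514) (BT.node (nat_lit 4464455) (BT.leaf (nat_lit 630308)) (BT.leaf (nat_lit 630308))) (BT.node (nat_lit 4464515) (BT.leaf (nat_lit 804112)) (BT.leaf (nat_lit 804112))))) (BT.node (nat_lit 4464580) (BT.node (nat_lit 4464520) (BT.node (nat_lit 4464519) (BT.leaf (nat_lit 804112)) (BT.leaf (nat_lit 804112))) (BT.node (nat_lit 4464579) (BT.leaf (nat_lit 804112)) (BT.leaf (nat_lit 786920)))) (BT.node (nat_lit 4464643) (BT.node (nat_lit 4464581) (BT.leaf (nat_lit 654576)) (BT.leaf (nat_lit 643996))) (BT.node (nat_lit 4464645) (BT.leaf (nat_lit 786924)) (BT.leaf (nat_lit 676644))))))))) (BT.node (nat_lit 4466370) (BT.node (nat_lit 4465603) (BT.node (nat_lit 4465155) (BT.node (nat_lit 4464901) (BT.node (nat_lit 4464770) (BT.node (nat_lit 4464710) (BT.node (nat_lit 4464709) (BT.leaf (nat_lit 704504)) (BT.leaf (nat_lit 651240))) (BT.node (nat_lit 4464711) (BT.leaf (nat_lit 651240)) (BT.leaf (nat_lit 651240)))) (BT.node (nat_lit 4464834) (BT.node (nat_lit 4464773) (BT.leaf (nat_lit 704648)) (BT.leaf (nat_lit 704648))) (BT.node (nat_lit 4464837) (BT.leaf (nat_lit 692596)) (BT.leaf (nat_lit 692596))))) (BT.node (nat_lit 4464967) (BT.node (nat_lit 4464903) (BT.node (nat_lit 4464902) (BT.leaf (nat_lit 709516)) (BT.leaf (nat_lit 709516))) (BT.node (nat_lit 4464966) (BT.leaf (nat_lit 709516)) (BT.leaf (nat_lit 657484)))) (BT.node (nat_lit 4465093) (BT.node (nat_lit 4465029) (BT.leaf (nat_lit 721820)) (BT.leaf (nat_lit 659592))) (BT.node (nat_lit 4465154) (BT.leaf (nat_lit 746160)) (BT.leaf (nat_lit 642224)))))) (BT.node (nat_lit 4465411) (BT.node (nat_lit 4465284) (BT.node (nat_lit 4465220) (BT.node (nat_lit 4465156) (BT.leaf (nat_lit 746168)) (BT.leaf (nat_lit 642224))) (BT.node (nat_lit 4465281) (BT.leaf (nat_lit 658016)) (BT.leaf (nat_lit 642332)))) (BT.node (nat_lit 4465348) (BT.node (nat_lit 4465288) (BT.leaf (nat_lit 642332)) (BT.leaf (nat_lit 636904))) (BT.node (nat_lit 4465410) (BT.leaf (nat_lit 647836)) (BT.leaf (nat_lit 797376))))) (BT.node (nat_lit 4465478) (BT.node (nat_lit 4465475) (BT.node (nat_lit 4465474) (BT.leaf (nat_lit 703796)) (BT.leaf (nat_lit 635600))) (BT.node (nat_lit 4465476) (BT.leaf (nat_lit 635600)) (BT.leaf (nat_lit 691272)))) (BT.node (nat_lit 4465541) (BT.node (nat_lit 4465479) (BT.leaf (nat_lit 691272)) (BT.leaf (nat_lit 679472))) (BT.node (nat_lit 4465601) (BT.leaf (nat_lit 738812)) (BT.leaf (nat_lit 718480))))))) (BT.node (nat_lit 4465924) (BT.node (nat_lit 4465672) (BT.node (nat_lit 4465666) (BT.node (nat_lit 4465606) (BT.node (nat_lit 4465604) (BT.leaf (nat_lit 718480)) (BT.leaf (nat_lit 637384))) (BT.node (nat_lit 4465608) (BT.leaf (nat_lit 718480)) (BT.leaf (nat_lit 718480)))) (BT.node (nat_lit 4465670) (BT.node (nat_lit 4465667) (BT.leaf (nat_lit 705848)) (BT.leaf (nat_lit 682720))) (BT.node (nat_lit 4465671) (BT.leaf (nat_lit 682720)) (BT.leaf (nat_lit 682720))))) (BT.node (nat_lit 4465795) (BT.node (nat_lit 4465736) (BT.node (nat_lit 4465733) (BT.leaf (nat_lit 705848)) (BT.leaf (nat_lit 682736))) (BT.node (nat_lit 4465794) (BT.leaf (nat_lit 650032)) (BT.leaf (nat_lit 687216)))) (BT.node (nat_lit 4465922) (BT.node (nat_lit 4465798) (BT.leaf (nat_lit 739968)) (BT.leaf (nat_lit 739968))) (BT.node (nat_lit 4465923) (BT.leaf (nat_lit 676276)) (BT.leaf (nat_lit 739184)))))) (BT.node (nat_lit 4466178) (BT.node (nat_lit 4465990) (BT.node (nat_lit 4465986) (BT.node (nat_lit 4465926) (BT.leaf (nat_lit 676276)) (BT.leaf (nat_lit 739184))) (BT.node (nat_lit 4465989) (BT.leaf (nat_lit 644376)) (BT.leaf (nat_lit 644376)))) (BT.node (nat_lit 4466115) (BT.node (nat_lit 4465991) (BT.leaf (nat_lit 644376)) (BT.leaf (nat_lit 644376))) (BT.node (nat_lit 4466116) (BT.leaf (nat_lit 657204)) (BT.leaf (nat_lit 657204))))) (BT.node (nat_lit 4466305) (BT.node (nat_lit 4466183) (BT.node (nat_lit 4466182) (BT.leaf (nat_lit 681768)) (BT.leaf (nat_lit 626648))) (BT.node (nat_lit 4466245) (BT.leaf (nat_lit 626648)) (BT.leaf (nat_lit 774960)))) (BT.node (nat_lit 4466307) (BT.node (nat_lit 4466306) (BT.leaf (nat_lit 682712)) (BT.leaf (nat_lit 682712))) (BT.node (nat_lit 4466311) (BT.leaf (nat_lit 682712)) (BT.leaf (nat_lit 682712)))))))) (BT.node (nat_lit 4467394) (BT.node (nat_lit 4466632) (BT.node (nat_lit 4466498) (BT.node (nat_lit 4466433) (BT.node (nat_lit 4466373) (BT.node (nat_lit 4466371) (BT.leaf (nat_lit 638416)) (BT.leaf (nat_lit 638416))) (BT.node (nat_lit 4466376) (BT.leaf (nat_lit 638416)) (BT.leaf (nat_lit 638416)))) (BT.node (nat_lit 4466435) (BT.node (nat_lit 4466434) (BT.leaf (nat_lit 687248)) (BT.leaf (nat_lit 687248))) (BT.node (nat_lit 4466440) (BT.leaf (nat_lit 687248)) (BT.leaf (nat_lit 687248))))) (BT.node (nat_lit 4466625) (BT.node (nat_lit 4466502) (BT.node (nat_lit 4466499) (BT.leaf (nat_lit 645776)) (BT.leaf (nat_lit 645776))) (BT.node (nat_lit 4466503) (BT.leaf (nat_lit 645776)) (BT.leaf (nat_lit 645776)))) (BT.node (nat_lit 4466627) (BT.node (nat_lit 4466626) (BT.leaf (nat_lit 675508)) (BT.leaf (nat_lit 675508))) (BT.node (nat_lit 4466630) (BT.leaf (nat_lit 675508)) (BT.leaf (nat_lit 675508)))))) (BT.node (nat_lit 4466822) (BT.node (nat_lit 4466693) (BT.node (nat_lit 4466691) (BT.node (nat_lit 4466690) (BT.leaf (nat_lit 675508)) (BT.leaf (nat_lit 795404))) (BT.node (nat_lit 4466692) (BT.leaf (nat_lit 806604)) (BT.leaf (nat_lit 622320)))) (BT.node (nat_lit 4466817) (BT.node (nat_lit 4466757) (BT.leaf (nat_lit 698276)) (BT.leaf (nat_lit 795628))) (BT.node (nat_lit 4466818) (BT.leaf (nat_lit 656204)) (BT.leaf (nat_lit 656204))))) (BT.node (nat_lit 4466885) (BT.node (nat_lit 4466883) (BT.node (nat_lit 4466882) (BT.leaf (nat_lit 644640)) (BT.leaf (nat_lit 712584))) (BT.node (nat_lit 4466884) (BT.leaf (nat_lit 712584)) (BT.leaf (nat_lit 713896)))) (BT.node (nat_lit 4467269) (BT.node (nat_lit 4467077) (BT.leaf (nat_lit 712584)) (BT.leaf (nat_lit 621752))) (BT.node (nat_lit 4467333) (BT.leaf (nat_lit 669280)) (BT.leaf (nat_lit 622592))))))) (BT.node (nat_lit 4467970) (BT.node (nat_lit 4467527) (BT.node (nat_lit 4467399) (BT.node (nat_lit 4467396) (BT.node (nat_lit 4467395) (BT.leaf (nat_lit 699180)) (BT.leaf (nat_lit 699180))) (BT.node (nat_lit 4467398) (BT.leaf (nat_lit 622160)) (BT.leaf (nat_lit 699180)))) (BT.node (nat_lit 4467525) (BT.node (nat_lit 4467400) (BT.leaf (nat_lit 699180)) (BT.leaf (nat_lit 699180))) (BT.node (nat_lit 4467526) (BT.leaf (nat_lit 658044)) (BT.leaf (nat_lit 658044))))) (BT.node (nat_lit 4467842) (BT.node (nat_lit 4467782) (BT.node (nat_lit 4467714) (BT.leaf (nat_lit 658044)) (BT.leaf (nat_lit 707792))) (BT.node (nat_lit 4467783) (BT.leaf (nat_lit 701040)) (BT.leaf (nat_lit 701040)))) (BT.node (nat_lit 4467846) (BT.node (nat_lit 4467845) (BT.leaf (nat_lit 668808)) (BT.leaf (nat_lit 668808))) (BT.node (nat_lit 4467847) (BT.leaf (nat_lit 668808)) (BT.leaf (nat_lit 668808)))))) (BT.node (nat_lit 4468166) (BT.node (nat_lit 4468040) (BT.node (nat_lit 4468035) (BT.node (nat_lit 4467972) (BT.leaf (nat_lit 701032)) (BT.leaf (nat_lit 701032))) (BT.node (nat_lit 4468038) (BT.leaf (nat_lit 670848)) (BT.leaf (nat_lit 670848)))) (BT.node (nat_lit 4468162) (BT.node (nat_lit 4468161) (BT.leaf (nat_lit 670848)) (BT.leaf (nat_lit 646148))) (BT.node (nat_lit 4468163) (BT.leaf (nat_lit 646148)) (BT.leaf (nat_lit 646148))))) (BT.node (nat_lit 4468231) (BT.node (nat_lit 4468227) (BT.node (nat_lit 4468167) (BT.leaf (nat_lit 646148)) (BT.leaf (nat_lit 646148))) (BT.node (nat_lit 4468230) (BT.leaf (nat_lit 624260)) (BT.leaf (nat_lit 624260)))) (BT.node (nat_lit 4468293) (BT.node (nat_lit 4468232) (BT.leaf (nat_lit 624260)) (BT.leaf (nat_lit 624260))) (BT.node (nat_lit 4468294) (BT.leaf (nat_lit 653224)) (BT.leaf (nat_lit 699960)))))))))) (BT.node (nat_lit 4471879) (BT.node (nat_lit 4469891) (BT.node (nat_lit 4469125) (BT.node (nat_lit 4468739) (BT.node (nat_lit 4468488) (BT.node (nat_lit 4468421) (BT.node (nat_lit 4468418) (BT.node (nat_lit 4468355) (BT.leaf (nat_lit 699960)) (BT.leaf (nat_lit 699948))) (BT.node (nat_lit 4468420) (BT.leaf (nat_lit 678540)) (BT.leaf (nat_lit 652868)))) (BT.node (nat_lit 4468484) (BT.node (nat_lit 4468482) (BT.leaf (nat_lit 652868)) (BT.leaf (nat_lit 689040))) (BT.node (nat_lit 4468485) (BT.leaf (nat_lit 689040)) (BT.leaf (nat_lit 689040))))) (BT.node (nat_lit 4468611) (BT.node (nat_lit 4468550) (BT.node (nat_lit 4468549) (BT.leaf (nat_lit 689040)) (BT.leaf (nat_lit 722760))) (BT.node (nat_lit 4468551) (BT.leaf (nat_lit 722760)) (BT.leaf (nat_lit 722760)))) (BT.node (nat_lit 4468616) (BT.node (nat_lit 4468615) (BT.leaf (nat_lit 624744)) (BT.leaf (nat_lit 624744))) (BT.node (nat_lit 4468738) (BT.leaf (nat_lit 624744)) (BT.leaf (nat_lit 684020)))))) (BT.node (nat_lit 4468872) (BT.node (nat_lit 4468804) (BT.node (nat_lit 4468743) (BT.node (nat_lit 4468742) (BT.leaf (nat_lit 684020)) (BT.leaf (nat_lit 684020))) (BT.node (nat_lit 4468803) (BT.leaf (nat_lit 684020)) (BT.leaf (nat_lit 647608)))) (BT.node (nat_lit 4468807) (BT.node (nat_lit 4468806) (BT.leaf (nat_lit 632120)) (BT.leaf (nat_lit 647608))) (BT.node (nat_lit 4468866) (BT.leaf (nat_lit 647608)) (BT.leaf (nat_lit 627056))))) (BT.node (nat_lit 4468999) (BT.node (nat_lit 4468935) (BT.node (nat_lit 4468934) (BT.leaf (nat_lit 627056)) (BT.leaf (nat_lit 683956))) (BT.node (nat_lit 4468995) (BT.leaf (nat_lit 683956)) (BT.leaf (nat_lit 651744)))) (BT.node (nat_lit 4469060) (BT.node (nat_lit 4469000) (BT.leaf (nat_lit 651744)) (BT.leaf (nat_lit 651744))) (BT.node (nat_lit 4469064) (BT.leaf (nat_lit 709052)) (BT.leaf (nat_lit 709052))))))) (BT.node (nat_lit 4469636) (BT.node (nat_lit 4469383) (BT.node (nat_lit 4469192) (BT.node (nat_lit 4469186) (BT.node (nat_lit 4469128) (BT.leaf (nat_lit 662276)) (BT.leaf (nat_lit 662276))) (BT.node (nat_lit 4469188) (BT.leaf (nat_lit 636148)) (BT.leaf (nat_lit 719656)))) (BT.node (nat_lit 4469381) (BT.node (nat_lit 4469316) (BT.leaf (nat_lit 636148)) (BT.leaf (nat_lit 625684))) (BT.node (nat_lit 4469382) (BT.leaf (nat_lit 621084)) (BT.leaf (nat_lit 621084))))) (BT.node (nat_lit 4469511) (BT.node (nat_lit 4469507) (BT.node (nat_lit 4469506) (BT.leaf (nat_lit 621084)) (BT.leaf (nat_lit 648228))) (BT.node (nat_lit 4469510) (BT.leaf (nat_lit 648228)) (BT.leaf (nat_lit 643560)))) (BT.node (nat_lit 4469571) (BT.node (nat_lit 4469570) (BT.leaf (nat_lit 643560)) (BT.leaf (nat_lit 643576))) (BT.node (nat_lit 4469573) (BT.leaf (nat_lit 643576)) (BT.leaf (nat_lit 643576)))))) (BT.node (nat_lit 4469762) (BT.node (nat_lit 4469697) (BT.node (nat_lit 4469639) (BT.node (nat_lit 4469638) (BT.leaf (nat_lit 757992)) (BT.leaf (nat_lit 650480))) (BT.node (nat_lit 4469640) (BT.leaf (nat_lit 650480)) (BT.leaf (nat_lit 628668)))) (BT.node (nat_lit 4469699) (BT.node (nat_lit 4469698) (BT.leaf (nat_lit 679448)) (BT.leaf (nat_lit 679448))) (BT.node (nat_lit 4469704) (BT.leaf (nat_lit 653232)) (BT.leaf (nat_lit 679448))))) (BT.node (nat_lit 4469830) (BT.node (nat_lit 4469768) (BT.node (nat_lit 4469767) (BT.leaf (nat_lit 766148)) (BT.leaf (nat_lit 766148))) (BT.node (nat_lit 4469829) (BT.leaf (nat_lit 766148)) (BT.leaf (nat_lit 623712)))) (BT.node (nat_lit 4469832) (BT.node (nat_lit 4469831) (BT.leaf (nat_lit 756096)) (BT.leaf (nat_lit 623712))) (BT.node (nat_lit 4469890) (BT.leaf (nat_lit 756096)) (BT.leaf (nat_lit 624068)))))))) (BT.node (nat_lit 4470721) (BT.node (nat_lit 4470342) (BT.node (nat_lit 4470021) (BT.node (nat_lit 4469958) (BT.node (nat_lit 4469954) (BT.node (nat_lit 4469893) (BT.leaf (nat_lit 624068)) (BT.leaf (nat_lit 624068))) (BT.node (nat_lit 4469955) (BT.leaf (nat_lit 683776)) (BT.leaf (nat_lit 683776)))) (BT.node (nat_lit 4470017) (BT.node (nat_lit 4469959) (BT.leaf (nat_lit 683776)) (BT.leaf (nat_lit 683776))) (BT.node (nat_lit 4470018) (BT.leaf (nat_lit 758920)) (BT.leaf (nat_lit 652584))))) (BT.node (nat_lit 4470150) (BT.node (nat_lit 4470086) (BT.node (nat_lit 4470085) (BT.leaf (nat_lit 640704)) (BT.leaf (nat_lit 674984))) (BT.node (nat_lit 4470087) (BT.leaf (nat_lit 674984)) (BT.leaf (nat_lit 674984)))) (BT.node (nat_lit 4470278) (BT.node (nat_lit 4470213) (BT.leaf (nat_lit 687660)) (BT.leaf (nat_lit 708956))) (BT.node (nat_lit 4470279) (BT.leaf (nat_lit 685788)) (BT.leaf (nat_lit 685788)))))) (BT.node (nat_lit 4470533) (BT.node (nat_lit 4470469) (BT.node (nat_lit 4470405) (BT.node (nat_lit 4470343) (BT.leaf (nat_lit 659240)) (BT.leaf (nat_lit 659240))) (BT.node (nat_lit 4470407) (BT.leaf (nat_lit 652648)) (BT.leaf (nat_lit 680180)))) (BT.node (nat_lit 4470471) (BT.node (nat_lit 4470470) (BT.leaf (nat_lit 768180)) (BT.leaf (nat_lit 682296))) (BT.node (nat_lit 4470472) (BT.leaf (nat_lit 682296)) (BT.leaf (nat_lit 682296))))) (BT.node (nat_lit 4470599) (BT.node (nat_lit 4470593) (BT.node (nat_lit 4470536) (BT.leaf (nat_lit 689552)) (BT.leaf (nat_lit 678108))) (BT.node (nat_lit 4470598) (BT.leaf (nat_lit 665812)) (BT.leaf (nat_lit 665812)))) (BT.node (nat_lit 4470659) (BT.node (nat_lit 4470658) (BT.leaf (nat_lit 665812)) (BT.leaf (nat_lit 682268))) (BT.node (nat_lit 4470664) (BT.leaf (nat_lit 682268)) (BT.leaf (nat_lit 682268))))))) (BT.node (nat_lit 4471108) (BT.node (nat_lit 4470914) (BT.node (nat_lit 4470790) (BT.node (nat_lit 4470725) (BT.node (nat_lit 4470724) (BT.leaf (nat_lit 680936)) (BT.leaf (nat_lit 680936))) (BT.node (nat_lit 4470789) (BT.leaf (nat_lit 680936)) (BT.leaf (nat_lit 705752)))) (BT.node (nat_lit 4470853) (BT.node (nat_lit 4470791) (BT.leaf (nat_lit 705752)) (BT.leaf (nat_lit 705752))) (BT.node (nat_lit 4470913) (BT.leaf (nat_lit 648420)) (BT.leaf (nat_lit 656112))))) (BT.node (nat_lit 4470978) (BT.node (nat_lit 4470917) (BT.node (nat_lit 4470915) (BT.leaf (nat_lit 656112)) (BT.leaf (nat_lit 656112))) (BT.node (nat_lit 4470977) (BT.leaf (nat_lit 656112)) (BT.leaf (nat_lit 705784)))) (BT.node (nat_lit 4470981) (BT.node (nat_lit 4470979) (BT.leaf (nat_lit 705784)) (BT.leaf (nat_lit 705784))) (BT.node (nat_lit 4471045) (BT.leaf (nat_lit 705784)) (BT.leaf (nat_lit 640868)))))) (BT.node (nat_lit 4471688) (BT.node (nat_lit 4471429) (BT.node (nat_lit 4471239) (BT.node (nat_lit 4471175) (BT.leaf (nat_lit 680512)) (BT.leaf (nat_lit 625268))) (BT.node (nat_lit 4471297) (BT.leaf (nat_lit 690428)) (BT.leaf (nat_lit 655596)))) (BT.node (nat_lit 4471558) (BT.node (nat_lit 4471557) (BT.leaf (nat_lit 638056)) (BT.leaf (nat_lit 632968))) (BT.node (nat_lit 4471559) (BT.leaf (nat_lit 643276)) (BT.leaf (nat_lit 643276))))) (BT.node (nat_lit 4471815) (BT.node (nat_lit 4471747) (BT.node (nat_lit 4471746) (BT.leaf (nat_lit 682652)) (BT.leaf (nat_lit 630904))) (BT.node (nat_lit 4471814) (BT.leaf (nat_lit 630904)) (BT.leaf (nat_lit 631216)))) (BT.node (nat_lit 4471875) (BT.node (nat_lit 4471874) (BT.leaf (nat_lit 631216)) (BT.leaf (nat_lit 673008))) (BT.node (nat_lit 4471878) (BT.leaf (nat_lit 673008)) (BT.leaf (nat_lit 673008))))))))) (BT.node (nat_lit 4473988) (BT.node (nat_lit 4472838) (BT.node (nat_lit 4472388) (BT.node (nat_lit 4472129) (BT.node (nat_lit 4471944) (BT.node (nat_lit 4471940) (BT.node (nat_lit 4471938) (BT.leaf (nat_lit 673008)) (BT.leaf (nat_lit 631420))) (BT.node (nat_lit 4471941) (BT.leaf (nat_lit 631420)) (BT.leaf (nat_lit 631420)))) (BT.node (nat_lit 4472069) (BT.node (nat_lit 4472066) (BT.leaf (nat_lit 631420)) (BT.leaf (nat_lit 774568))) (BT.node (nat_lit 4472072) (BT.leaf (nat_lit 624092)) (BT.leaf (nat_lit 774568))))) (BT.node (nat_lit 4472326) (BT.node (nat_lit 4472136) (BT.node (nat_lit 4472131) (BT.leaf (nat_lit 774572)) (BT.leaf (nat_lit 774572))) (BT.node (nat_lit 4472263) (BT.leaf (nat_lit 774572)) (BT.leaf (nat_lit 630960)))) (BT.node (nat_lit 4472328) (BT.node (nat_lit 4472327) (BT.leaf (nat_lit 630932)) (BT.leaf (nat_lit 630932))) (BT.node (nat_lit 4472385) (BT.leaf (nat_lit 630932)) (BT.leaf (nat_lit 629396)))))) (BT.node (nat_lit 4472646) (BT.node (nat_lit 4472514) (BT.node (nat_lit 4472392) (BT.node (nat_lit 4472391) (BT.leaf (nat_lit 629396)) (BT.leaf (nat_lit 721892))) (BT.node (nat_lit 4472453) (BT.leaf (nat_lit 629396)) (BT.leaf (nat_lit 675808)))) (BT.node (nat_lit 4472516) (BT.node (nat_lit 4472515) (BT.leaf (nat_lit 764668)) (BT.leaf (nat_lit 764668))) (BT.node (nat_lit 4472518) (BT.leaf (nat_lit 764668)) (BT.leaf (nat_lit 686784))))) (BT.node (nat_lit 4472770) (BT.node (nat_lit 4472710) (BT.node (nat_lit 4472647) (BT.leaf (nat_lit 670108)) (BT.leaf (nat_lit 670108))) (BT.node (nat_lit 4472711) (BT.leaf (nat_lit 719676)) (BT.leaf (nat_lit 719676)))) (BT.node (nat_lit 4472774) (BT.node (nat_lit 4472771) (BT.leaf (nat_lit 709784)) (BT.leaf (nat_lit 709784))) (BT.node (nat_lit 4472775) (BT.leaf (nat_lit 709784)) (BT.leaf (nat_lit 709784))))))) (BT.node (nat_lit 4473476) (BT.node (nat_lit 4473288) (BT.node (nat_lit 4472965) (BT.node (nat_lit 4472901) (BT.node (nat_lit 4472839) (BT.leaf (nat_lit 701932)) (BT.leaf (nat_lit 701932))) (BT.node (nat_lit 4472962) (BT.leaf (nat_lit 695812)) (BT.leaf (nat_lit 695756)))) (BT.node (nat_lit 4473286) (BT.node (nat_lit 4473220) (BT.leaf (nat_lit 695756)) (BT.leaf (nat_lit 718224))) (BT.node (nat_lit 4473287) (BT.leaf (nat_lit 681324)) (BT.leaf (nat_lit 681324))))) (BT.node (nat_lit 4473411) (BT.node (nat_lit 4473409) (BT.node (nat_lit 4473349) (BT.leaf (nat_lit 681324)) (BT.leaf (nat_lit 710804))) (BT.node (nat_lit 4473410) (BT.leaf (nat_lit 672840)) (BT.leaf (nat_lit 672840)))) (BT.node (nat_lit 4473415) (BT.node (nat_lit 4473414) (BT.leaf (nat_lit 672840)) (BT.leaf (nat_lit 672840))) (BT.node (nat_lit 4473473) (BT.leaf (nat_lit 672840)) (BT.leaf (nat_lit 710228)))))) (BT.node (nat_lit 4473607) (BT.node (nat_lit 4473543) (BT.node (nat_lit 4473480) (BT.node (nat_lit 4473477) (BT.leaf (nat_lit 710228)) (BT.leaf (nat_lit 710228))) (BT.node (nat_lit 4473542) (BT.leaf (nat_lit 710228)) (BT.leaf (nat_lit 648428)))) (BT.node (nat_lit 4473603) (BT.node (nat_lit 4473602) (BT.leaf (nat_lit 648428)) (BT.leaf (nat_lit 683048))) (BT.node (nat_lit 4473606) (BT.leaf (nat_lit 683048)) (BT.leaf (nat_lit 683048))))) (BT.node (nat_lit 4473925) (BT.node (nat_lit 4473736) (BT.node (nat_lit 4473608) (BT.leaf (nat_lit 683048)) (BT.leaf (nat_lit 683048))) (BT.node (nat_lit 4473921) (BT.leaf (nat_lit 627072)) (BT.leaf (nat_lit 653256)))) (BT.node (nat_lit 4473986) (BT.node (nat_lit 4473928) (BT.leaf (nat_lit 653256)) (BT.leaf (nat_lit 653256))) (BT.node (nat_lit 4473987) (BT.leaf (nat_lit 758448)) (BT.leaf (nat_lit 758448)))))))) (BT.node (nat_lit 4475591) (BT.node (nat_lit 4475012) (BT.node (nat_lit 4474184) (BT.node (nat_lit 4474052) (BT.node (nat_lit 4473991) (BT.node (nat_lit 4473990) (BT.leaf (nat_lit 711572)) (BT.leaf (nat_lit 758448))) (BT.node (nat_lit 4473992) (BT.leaf (nat_lit 758448)) (BT.leaf (nat_lit 630412)))) (BT.node (nat_lit 4474116) (BT.node (nat_lit 4474053) (BT.leaf (nat_lit 714020)) (BT.leaf (nat_lit 714020))) (BT.node (nat_lit 4474120) (BT.leaf (nat_lit 660120)) (BT.leaf (nat_lit 660120))))) (BT.node (nat_lit 4474632) (BT.node (nat_lit 4474376) (BT.node (nat_lit 4474372) (BT.leaf (nat_lit 720780)) (BT.leaf (nat_lit 625296))) (BT.node (nat_lit 4474565) (BT.leaf (nat_lit 769968)) (BT.leaf (nat_lit 709336)))) (BT.node (nat_lit 4474882) (BT.node (nat_lit 4474692) (BT.leaf (nat_lit 696536)) (BT.leaf (nat_lit 665012))) (BT.node (nat_lit 4474883) (BT.leaf (nat_lit 709060)) (BT.leaf (nat_lit 709060)))))) (BT.node (nat_lit 4475458) (BT.node (nat_lit 4475144) (BT.node (nat_lit 4475076) (BT.node (nat_lit 4475016) (BT.leaf (nat_lit 623268)) (BT.leaf (nat_lit 623268))) (BT.node (nat_lit 4475080) (BT.leaf (nat_lit 668180)) (BT.leaf (nat_lit 668180)))) (BT.node (nat_lit 4475207) (BT.node (nat_lit 4475203) (BT.leaf (nat_lit 697216)) (BT.leaf (nat_lit 656916))) (BT.node (nat_lit 4475332) (BT.leaf (nat_lit 656916)) (BT.leaf (nat_lit 677476))))) (BT.node (nat_lit 4475463) (BT.node (nat_lit 4475460) (BT.node (nat_lit 4475459) (BT.leaf (nat_lit 695436)) (BT.leaf (nat_lit 633420))) (BT.node (nat_lit 4475462) (BT.leaf (nat_lit 695436)) (BT.leaf (nat_lit 633420)))) (BT.node (nat_lit 4475589) (BT.node (nat_lit 4475524) (BT.leaf (nat_lit 633420)) (BT.leaf (nat_lit 710420))) (BT.node (nat_lit 4475590) (BT.leaf (nat_lit 793604)) (BT.leaf (nat_lit 793604))))))) (BT.node (nat_lit 4476420) (BT.node (nat_lit 4475910) (BT.node (nat_lit 4475847) (BT.node (nat_lit 4475845) (BT.node (nat_lit 4475779) (BT.leaf (nat_lit 793604)) (BT.leaf (nat_lit 662892))) (BT.node (nat_lit 4475846) (BT.leaf (nat_lit 655620)) (BT.leaf (nat_lit 655620)))) (BT.node (nat_lit 4475907) (BT.node (nat_lit 4475906) (BT.leaf (nat_lit 655620)) (BT.leaf (nat_lit 632432))) (BT.node (nat_lit 4475908) (BT.leaf (nat_lit 634008)) (BT.leaf (nat_lit 632432))))) (BT.node (nat_lit 4476039) (BT.node (nat_lit 4475912) (BT.node (nat_lit 4475911) (BT.leaf (nat_lit 634008)) (BT.leaf (nat_lit 634008))) (BT.node (nat_lit 4476037) (BT.leaf (nat_lit 634008)) (BT.leaf (nat_lit 774360)))) (BT.node (nat_lit 4476166) (BT.node (nat_lit 4476161) (BT.leaf (nat_lit 763744)) (BT.leaf (nat_lit 621876))) (BT.node (nat_lit 4476167) (BT.leaf (nat_lit 674560)) (BT.leaf (nat_lit 674560)))))) (BT.node (nat_lit 4476739) (BT.node (nat_lit 4476616) (BT.node (nat_lit 4476552) (BT.node (nat_lit 4476548) (BT.leaf (nat_lit 719368)) (BT.leaf (nat_lit 699688))) (BT.node (nat_lit 4476612) (BT.leaf (nat_lit 622032)) (BT.leaf (nat_lit 662224)))) (BT.node (nat_lit 4476677) (BT.node (nat_lit 4476676) (BT.leaf (nat_lit 761412)) (BT.leaf (nat_lit 637068))) (BT.node (nat_lit 4476738) (BT.leaf (nat_lit 666580)) (BT.leaf (nat_lit 644672))))) (BT.node (nat_lit 4476865) (BT.node (nat_lit 4476801) (BT.node (nat_lit 4476741) (BT.leaf (nat_lit 644672)) (BT.leaf (nat_lit 644672))) (BT.node (nat_lit 4476808) (BT.leaf (nat_lit 812740)) (BT.leaf (nat_lit 812740)))) (BT.node (nat_lit 4476929) (BT.node (nat_lit 4476870) (BT.leaf (nat_lit 812752)) (BT.leaf (nat_lit 812752))) (BT.node (nat_lit 4476932) (BT.leaf (nat_lit 812756)) (BT.leaf (nat_lit 705676)))))))))))) (BT.node (nat_lit 4493318) (BT.node (nat_lit 4485506) (BT.node (nat_lit 4481217) (BT.node (nat_lit 4478405) (BT.node (nat_lit 4477574) (BT.node (nat_lit 4477249) (BT.node (nat_lit 4477126) (BT.node (nat_lit 4477121) (BT.node (nat_lit 4476993) (BT.node (nat_lit 4476935) (BT.leaf (nat_lit 701188)) (BT.leaf (nat_lit 701188))) (BT.node (nat_lit 4477060) (BT.leaf (nat_lit 812760)) (BT.leaf (nat_lit 812764)))) (BT.node (nat_lit 4477123) (BT.node (nat_lit 4477122) (BT.leaf (nat_lit 681632)) (BT.leaf (nat_lit 681632))) (BT.node (nat_lit 4477125) (BT.leaf (nat_lit 688384)) (BT.leaf (nat_lit 681632))))) (BT.node (nat_lit 4477188) (BT.node (nat_lit 4477186) (BT.node (nat_lit 4477127) (BT.leaf (nat_lit 688384)) (BT.leaf (nat_lit 688384))) (BT.node (nat_lit 4477187) (BT.leaf (nat_lit 634148)) (BT.leaf (nat_lit 634148)))) (BT.node (nat_lit 4477191) (BT.node (nat_lit 4477190) (BT.leaf (nat_lit 702916)) (BT.leaf (nat_lit 634148))) (BT.node (nat_lit 4477192) (BT.leaf (nat_lit 634148)) (BT.leaf (nat_lit 634148)))))) (BT.node (nat_lit 4477442) (BT.node (nat_lit 4477254) (BT.node (nat_lit 4477251) (BT.node (nat_lit 4477250) (BT.leaf (nat_lit 655404)) (BT.leaf (nat_lit 655404))) (BT.node (nat_lit 4477253) (BT.leaf (nat_lit 655404)) (BT.leaf (nat_lit 702920)))) (BT.node (nat_lit 4477256) (BT.node (nat_lit 4477255) (BT.leaf (nat_lit 720892)) (BT.leaf (nat_lit 720892))) (BT.node (nat_lit 4477313) (BT.leaf (nat_lit 655404)) (BT.leaf (nat_lit 744836))))) (BT.node (nat_lit 4477505) (BT.node (nat_lit 4477447) (BT.node (nat_lit 4477443) (BT.leaf (nat_lit 653864)) (BT.leaf (nat_lit 653864))) (BT.node (nat_lit 4477448) (BT.leaf (nat_lit 699692)) (BT.leaf (nat_lit 699692)))) (BT.node (nat_lit 4477507) (BT.node (nat_lit 4477506) (BT.leaf (nat_lit 653876)) (BT.leaf (nat_lit 653876))) (BT.node (nat_lit 4477511) (BT.leaf (nat_lit 653876)) (BT.leaf (nat_lit 653876))))))) (BT.node (nat_lit 4478084) (BT.node (nat_lit 4477766) (BT.node (nat_lit 4477704) (BT.node (nat_lit 4477640) (BT.node (nat_lit 4477575) (BT.leaf (nat_lit 704184)) (BT.leaf (nat_lit 704184))) (BT.node (nat_lit 4477700) (BT.leaf (nat_lit 632396)) (BT.leaf (nat_lit 652776)))) (BT.node (nat_lit 4477763) (BT.node (nat_lit 4477762) (BT.leaf (nat_lit 652776)) (BT.leaf (nat_lit 676216))) (BT.node (nat_lit 4477764) (BT.leaf (nat_lit 676216)) (BT.leaf (nat_lit 702080))))) (BT.node (nat_lit 4477896) (BT.node (nat_lit 4477829) (BT.node (nat_lit 4477767) (BT.leaf (nat_lit 676216)) (BT.leaf (nat_lit 676216))) (BT.node (nat_lit 4477889) (BT.leaf (nat_lit 637872)) (BT.leaf (nat_lit 661964)))) (BT.node (nat_lit 4478017) (BT.node (nat_lit 4477956) (BT.leaf (nat_lit 661964)) (BT.leaf (nat_lit 680264))) (BT.node (nat_lit 4478024) (BT.leaf (nat_lit 692072)) (BT.leaf (nat_lit 660128)))))) (BT.node (nat_lit 4478151) (BT.node (nat_lit 4478147) (BT.node (nat_lit 4478145) (BT.node (nat_lit 4478088) (BT.leaf (nat_lit 700284)) (BT.leaf (nat_lit 661996))) (BT.node (nat_lit 4478146) (BT.leaf (nat_lit 691696)) (BT.leaf (nat_lit 691696)))) (BT.node (nat_lit 4478149) (BT.node (nat_lit 4478148) (BT.leaf (nat_lit 691696)) (BT.leaf (nat_lit 655640))) (BT.node (nat_lit 4478150) (BT.leaf (nat_lit 655640)) (BT.leaf (nat_lit 691696))))) (BT.node (nat_lit 4478212) (BT.node (nat_lit 4478210) (BT.node (nat_lit 4478209) (BT.leaf (nat_lit 691696)) (BT.leaf (nat_lit 628844))) (BT.node (nat_lit 4478211) (BT.leaf (nat_lit 628844)) (BT.leaf (nat_lit 628844)))) (BT.node (nat_lit 4478279) (BT.node (nat_lit 4478278) (BT.leaf (nat_lit 628844)) (BT.leaf (nat_lit 718900))) (BT.node (nat_lit 4478401) (BT.leaf (nat_lit 718900)) (BT.leaf (nat_lit 663312)))))))) (BT.node (nat_lit 4479879) (BT.node (nat_lit 4479170) (BT.node (nat_lit 4478728) (BT.node (nat_lit 4478723) (BT.node (nat_lit 4478470) (BT.node (nat_lit 4478466) (BT.leaf (nat_lit 663312)) (BT.leaf (nat_lit 690500))) (BT.node (nat_lit 4478722) (BT.leaf (nat_lit 690500)) (BT.leaf (nat_lit 626240)))) (BT.node (nat_lit 4478726) (BT.node (nat_lit 4478725) (BT.leaf (nat_lit 626240)) (BT.leaf (nat_lit 626240))) (BT.node (nat_lit 4478727) (BT.leaf (nat_lit 626240)) (BT.leaf (nat_lit 626240))))) (BT.node (nat_lit 4478980) (BT.node (nat_lit 4478855) (BT.node (nat_lit 4478854) (BT.leaf (nat_lit 626240)) (BT.leaf (nat_lit 653280))) (BT.node (nat_lit 4478977) (BT.leaf (nat_lit 653280)) (BT.leaf (nat_lit 655112)))) (BT.node (nat_lit 4478984) (BT.node (nat_lit 4478981) (BT.leaf (nat_lit 690432)) (BT.leaf (nat_lit 690432))) (BT.node (nat_lit 4479041) (BT.leaf (nat_lit 655112)) (BT.leaf (nat_lit 641836)))))) (BT.node (nat_lit 4479303) (BT.node (nat_lit 4479298) (BT.node (nat_lit 4479172) (BT.node (nat_lit 4479171) (BT.leaf (nat_lit 628400)) (BT.leaf (nat_lit 628400))) (BT.node (nat_lit 4479237) (BT.leaf (nat_lit 628400)) (BT.leaf (nat_lit 766928)))) (BT.node (nat_lit 4479300) (BT.node (nat_lit 4479299) (BT.leaf (nat_lit 715444)) (BT.leaf (nat_lit 715444))) (BT.node (nat_lit 4479302) (BT.leaf (nat_lit 715444)) (BT.leaf (nat_lit 715444))))) (BT.node (nat_lit 4479752) (BT.node (nat_lit 4479556) (BT.node (nat_lit 4479365) (BT.leaf (nat_lit 715444)) (BT.leaf (nat_lit 638620))) (BT.node (nat_lit 4479745) (BT.leaf (nat_lit 651980)) (BT.leaf (nat_lit 637552)))) (BT.node (nat_lit 4479877) (BT.node (nat_lit 4479809) (BT.leaf (nat_lit 637552)) (BT.leaf (nat_lit 704776))) (BT.node (nat_lit 4479878) (BT.leaf (nat_lit 647656)) (BT.leaf (nat_lit 647656))))))) (BT.node (nat_lit 4480385) (BT.node (nat_lit 4480003) (BT.node (nat_lit 4479942) (BT.node (nat_lit 4479939) (BT.node (nat_lit 4479938) (BT.leaf (nat_lit 647656)) (BT.leaf (nat_lit 705612))) (BT.node (nat_lit 4479940) (BT.leaf (nat_lit 705612)) (BT.leaf (nat_lit 705612)))) (BT.node (nat_lit 4479944) (BT.node (nat_lit 4479943) (BT.leaf (nat_lit 705612)) (BT.leaf (nat_lit 705612))) (BT.node (nat_lit 4480002) (BT.leaf (nat_lit 705612)) (BT.leaf (nat_lit 624244))))) (BT.node (nat_lit 4480008) (BT.node (nat_lit 4480006) (BT.node (nat_lit 4480004) (BT.leaf (nat_lit 624244)) (BT.leaf (nat_lit 624244))) (BT.node (nat_lit 4480007) (BT.leaf (nat_lit 624244)) (BT.leaf (nat_lit 624244)))) (BT.node (nat_lit 4480197) (BT.node (nat_lit 4480132) (BT.leaf (nat_lit 624244)) (BT.leaf (nat_lit 655280))) (BT.node (nat_lit 4480326) (BT.leaf (nat_lit 625832)) (BT.leaf (nat_lit 796524)))))) (BT.node (nat_lit 4480837) (BT.node (nat_lit 4480578) (BT.node (nat_lit 4480389) (BT.node (nat_lit 4480388) (BT.leaf (nat_lit 668764)) (BT.leaf (nat_lit 668764))) (BT.node (nat_lit 4480577) (BT.leaf (nat_lit 668692)) (BT.leaf (nat_lit 718336)))) (BT.node (nat_lit 4480583) (BT.node (nat_lit 4480579) (BT.leaf (nat_lit 718336)) (BT.leaf (nat_lit 718336))) (BT.node (nat_lit 4480644) (BT.leaf (nat_lit 718336)) (BT.leaf (nat_lit 705840))))) (BT.node (nat_lit 4481155) (BT.node (nat_lit 4481029) (BT.node (nat_lit 4481028) (BT.leaf (nat_lit 623660)) (BT.leaf (nat_lit 697236))) (BT.node (nat_lit 4481154) (BT.leaf (nat_lit 697236)) (BT.leaf (nat_lit 691612)))) (BT.node (nat_lit 4481158) (BT.node (nat_lit 4481156) (BT.leaf (nat_lit 691612)) (BT.leaf (nat_lit 692620))) (BT.node (nat_lit 4481159) (BT.leaf (nat_lit 691612)) (BT.leaf (nat_lit 691612))))))))) (BT.node (nat_lit 4483396) (BT.node (nat_lit 4481989) (BT.node (nat_lit 4481602) (BT.node (nat_lit 4481474) (BT.node (nat_lit 4481410) (BT.node (nat_lit 4481221) (BT.node (nat_lit 4481220) (BT.leaf (nat_lit 722068)) (BT.leaf (nat_lit 722068))) (BT.node (nat_lit 4481224) (BT.leaf (nat_lit 722068)) (BT.leaf (nat_lit 722068)))) (BT.node (nat_lit 4481413) (BT.node (nat_lit 4481412) (BT.leaf (nat_lit 680432)) (BT.leaf (nat_lit 680432))) (BT.node (nat_lit 4481416) (BT.leaf (nat_lit 680432)) (BT.leaf (nat_lit 680432))))) (BT.node (nat_lit 4481537) (BT.node (nat_lit 4481477) (BT.node (nat_lit 4481476) (BT.leaf (nat_lit 697340)) (BT.leaf (nat_lit 684356))) (BT.node (nat_lit 4481480) (BT.leaf (nat_lit 697340)) (BT.leaf (nat_lit 684356)))) (BT.node (nat_lit 4481542) (BT.node (nat_lit 4481540) (BT.leaf (nat_lit 639200)) (BT.leaf (nat_lit 708820))) (BT.node (nat_lit 4481544) (BT.leaf (nat_lit 639200)) (BT.leaf (nat_lit 639200)))))) (BT.node (nat_lit 4481793) (BT.node (nat_lit 4481668) (BT.node (nat_lit 4481608) (BT.node (nat_lit 4481604) (BT.leaf (nat_lit 668060)) (BT.leaf (nat_lit 668060))) (BT.node (nat_lit 4481666) (BT.leaf (nat_lit 633280)) (BT.leaf (nat_lit 633136)))) (BT.node (nat_lit 4481671) (BT.node (nat_lit 4481670) (BT.leaf (nat_lit 684088)) (BT.leaf (nat_lit 633136))) (BT.node (nat_lit 4481733) (BT.leaf (nat_lit 633136)) (BT.leaf (nat_lit 682340))))) (BT.node (nat_lit 4481923) (BT.node (nat_lit 4481799) (BT.node (nat_lit 4481794) (BT.leaf (nat_lit 632324)) (BT.leaf (nat_lit 632324))) (BT.node (nat_lit 4481922) (BT.leaf (nat_lit 632324)) (BT.leaf (nat_lit 655976)))) (BT.node (nat_lit 4481926) (BT.node (nat_lit 4481924) (BT.leaf (nat_lit 655976)) (BT.leaf (nat_lit 696900))) (BT.node (nat_lit 4481927) (BT.leaf (nat_lit 655976)) (BT.leaf (nat_lit 655976))))))) (BT.node (nat_lit 4482947) (BT.node (nat_lit 4482310) (BT.node (nat_lit 4482055) (BT.node (nat_lit 4482051) (BT.node (nat_lit 4482050) (BT.leaf (nat_lit 655988)) (BT.leaf (nat_lit 671392))) (BT.node (nat_lit 4482052) (BT.leaf (nat_lit 671392)) (BT.leaf (nat_lit 768292)))) (BT.node (nat_lit 4482182) (BT.node (nat_lit 4482116) (BT.leaf (nat_lit 671392)) (BT.leaf (nat_lit 640512))) (BT.node (nat_lit 4482183) (BT.leaf (nat_lit 698104)) (BT.leaf (nat_lit 698104))))) (BT.node (nat_lit 4482567) (BT.node (nat_lit 4482563) (BT.node (nat_lit 4482311) (BT.leaf (nat_lit 674844)) (BT.leaf (nat_lit 674844))) (BT.node (nat_lit 4482566) (BT.leaf (nat_lit 693380)) (BT.leaf (nat_lit 693380)))) (BT.node (nat_lit 4482822) (BT.node (nat_lit 4482821) (BT.leaf (nat_lit 693380)) (BT.leaf (nat_lit 661320))) (BT.node (nat_lit 4482823) (BT.leaf (nat_lit 767220)) (BT.leaf (nat_lit 767220)))))) (BT.node (nat_lit 4483079) (BT.node (nat_lit 4483074) (BT.node (nat_lit 4482950) (BT.node (nat_lit 4482949) (BT.leaf (nat_lit 677448)) (BT.leaf (nat_lit 677448))) (BT.node (nat_lit 4482951) (BT.leaf (nat_lit 677448)) (BT.leaf (nat_lit 677448)))) (BT.node (nat_lit 4483076) (BT.node (nat_lit 4483075) (BT.leaf (nat_lit 632940)) (BT.leaf (nat_lit 632940))) (BT.node (nat_lit 4483078) (BT.leaf (nat_lit 632940)) (BT.leaf (nat_lit 632940))))) (BT.node (nat_lit 4483268) (BT.node (nat_lit 4483139) (BT.node (nat_lit 4483080) (BT.leaf (nat_lit 632940)) (BT.leaf (nat_lit 632940))) (BT.node (nat_lit 4483208) (BT.leaf (nat_lit 737864)) (BT.leaf (nat_lit 807444)))) (BT.node (nat_lit 4483336) (BT.node (nat_lit 4483272) (BT.leaf (nat_lit 699076)) (BT.leaf (nat_lit 699076))) (BT.node (nat_lit 4483394) (BT.leaf (nat_lit 681956)) (BT.leaf (nat_lit 699592)))))))) (BT.node (nat_lit 4484358) (BT.node (nat_lit 4483716) (BT.node (nat_lit 4483585) (BT.node (nat_lit 4483521) (BT.node (nat_lit 4483457) (BT.node (nat_lit 4483397) (BT.leaf (nat_lit 699592)) (BT.leaf (nat_lit 699592))) (BT.node (nat_lit 4483458) (BT.leaf (nat_lit 745624)) (BT.leaf (nat_lit 745624)))) (BT.node (nat_lit 4483527) (BT.node (nat_lit 4483526) (BT.leaf (nat_lit 736244)) (BT.leaf (nat_lit 736244))) (BT.node (nat_lit 4483528) (BT.leaf (nat_lit 662668)) (BT.leaf (nat_lit 736244))))) (BT.node (nat_lit 4483589) (BT.node (nat_lit 4483587) (BT.node (nat_lit 4483586) (BT.leaf (nat_lit 660184)) (BT.leaf (nat_lit 660184))) (BT.node (nat_lit 4483588) (BT.leaf (nat_lit 660184)) (BT.leaf (nat_lit 658252)))) (BT.node (nat_lit 4483714) (BT.node (nat_lit 4483592) (BT.leaf (nat_lit 658252)) (BT.leaf (nat_lit 660184))) (BT.node (nat_lit 4483715) (BT.leaf (nat_lit 658296)) (BT.leaf (nat_lit 658296)))))) (BT.node (nat_lit 4484034) (BT.node (nat_lit 4483783) (BT.node (nat_lit 4483719) (BT.node (nat_lit 4483718) (BT.leaf (nat_lit 658296)) (BT.leaf (nat_lit 658296))) (BT.node (nat_lit 4483720) (BT.leaf (nat_lit 658296)) (BT.leaf (nat_lit 658296)))) (BT.node (nat_lit 4483974) (BT.node (nat_lit 4483972) (BT.leaf (nat_lit 793128)) (BT.leaf (nat_lit 693168))) (BT.node (nat_lit 4483976) (BT.leaf (nat_lit 676636)) (BT.leaf (nat_lit 676636))))) (BT.node (nat_lit 4484164) (BT.node (nat_lit 4484040) (BT.node (nat_lit 4484037) (BT.leaf (nat_lit 683288)) (BT.leaf (nat_lit 674268))) (BT.node (nat_lit 4484163) (BT.leaf (nat_lit 674268)) (BT.leaf (nat_lit 702928)))) (BT.node (nat_lit 4484289) (BT.node (nat_lit 4484165) (BT.leaf (nat_lit 711460)) (BT.leaf (nat_lit 702928))) (BT.node (nat_lit 4484355) (BT.leaf (nat_lit 740480)) (BT.leaf (nat_lit 738068))))))) (BT.node (nat_lit 4484934) (BT.node (nat_lit 4484744) (BT.node (nat_lit 4484677) (BT.node (nat_lit 4484674) (BT.node (nat_lit 4484360) (BT.leaf (nat_lit 738068)) (BT.leaf (nat_lit 632900))) (BT.node (nat_lit 4484676) (BT.leaf (nat_lit 635812)) (BT.leaf (nat_lit 660036)))) (BT.node (nat_lit 4484737) (BT.node (nat_lit 4484680) (BT.leaf (nat_lit 635812)) (BT.leaf (nat_lit 635812))) (BT.node (nat_lit 4484740) (BT.leaf (nat_lit 692420)) (BT.leaf (nat_lit 692420))))) (BT.node (nat_lit 4484865) (BT.node (nat_lit 4484807) (BT.node (nat_lit 4484802) (BT.leaf (nat_lit 692420)) (BT.leaf (nat_lit 661704))) (BT.node (nat_lit 4484808) (BT.leaf (nat_lit 709092)) (BT.leaf (nat_lit 661704)))) (BT.node (nat_lit 4484872) (BT.node (nat_lit 4484868) (BT.leaf (nat_lit 797560)) (BT.leaf (nat_lit 644760))) (BT.node (nat_lit 4484933) (BT.leaf (nat_lit 797560)) (BT.leaf (nat_lit 694512)))))) (BT.node (nat_lit 4485126) (BT.node (nat_lit 4485063) (BT.node (nat_lit 4485061) (BT.node (nat_lit 4484935) (BT.leaf (nat_lit 717436)) (BT.leaf (nat_lit 717436))) (BT.node (nat_lit 4485062) (BT.leaf (nat_lit 722536)) (BT.leaf (nat_lit 664728)))) (BT.node (nat_lit 4485122) (BT.node (nat_lit 4485121) (BT.leaf (nat_lit 664728)) (BT.leaf (nat_lit 664952))) (BT.node (nat_lit 4485123) (BT.leaf (nat_lit 664952)) (BT.leaf (nat_lit 664952))))) (BT.node (nat_lit 4485255) (BT.node (nat_lit 4485251) (BT.node (nat_lit 4485127) (BT.leaf (nat_lit 664952)) (BT.leaf (nat_lit 664952))) (BT.node (nat_lit 4485254) (BT.leaf (nat_lit 793904)) (BT.leaf (nat_lit 793904)))) (BT.node (nat_lit 4485446) (BT.node (nat_lit 4485317) (BT.leaf (nat_lit 793904)) (BT.leaf (nat_lit 646552))) (BT.node (nat_lit 4485447) (BT.leaf (nat_lit 697836)) (BT.leaf (nat_lit 697836)))))))))) (BT.node (nat_lit 4489671) (BT.node (nat_lit 4487685) (BT.node (nat_lit 4486467) (BT.node (nat_lit 4486020) (BT.node (nat_lit 4485764) (BT.node (nat_lit 4485511) (BT.node (nat_lit 4485508) (BT.node (nat_lit 4485507) (BT.leaf (nat_lit 650864)) (BT.leaf (nat_lit 650864))) (BT.node (nat_lit 4485510) (BT.leaf (nat_lit 635560)) (BT.leaf (nat_lit 713776)))) (BT.node (nat_lit 4485702) (BT.node (nat_lit 4485573) (BT.leaf (nat_lit 713776)) (BT.leaf (nat_lit 664572))) (BT.node (nat_lit 4485703) (BT.leaf (nat_lit 630048)) (BT.leaf (nat_lit 630048))))) (BT.node (nat_lit 4485895) (BT.node (nat_lit 4485832) (BT.node (nat_lit 4485829) (BT.leaf (nat_lit 716812)) (BT.leaf (nat_lit 626376))) (BT.node (nat_lit 4485894) (BT.leaf (nat_lit 626376)) (BT.leaf (nat_lit 705288)))) (BT.node (nat_lit 4485959) (BT.node (nat_lit 4485958) (BT.leaf (nat_lit 705288)) (BT.leaf (nat_lit 765988))) (BT.node (nat_lit 4486018) (BT.leaf (nat_lit 765988)) (BT.leaf (nat_lit 623248)))))) (BT.node (nat_lit 4486210) (BT.node (nat_lit 4486146) (BT.node (nat_lit 4486024) (BT.node (nat_lit 4486021) (BT.leaf (nat_lit 623248)) (BT.leaf (nat_lit 623248))) (BT.node (nat_lit 4486083) (BT.leaf (nat_lit 623248)) (BT.leaf (nat_lit 775088)))) (BT.node (nat_lit 4486148) (BT.node (nat_lit 4486147) (BT.leaf (nat_lit 684752)) (BT.leaf (nat_lit 684752))) (BT.node (nat_lit 4486152) (BT.leaf (nat_lit 684752)) (BT.leaf (nat_lit 684752))))) (BT.node (nat_lit 4486340) (BT.node (nat_lit 4486212) (BT.node (nat_lit 4486211) (BT.leaf (nat_lit 644116)) (BT.leaf (nat_lit 644116))) (BT.node (nat_lit 4486337) (BT.leaf (nat_lit 644116)) (BT.leaf (nat_lit 637132)))) (BT.node (nat_lit 4486403) (BT.node (nat_lit 4486341) (BT.leaf (nat_lit 637132)) (BT.leaf (nat_lit 637132))) (BT.node (nat_lit 4486405) (BT.leaf (nat_lit 701228)) (BT.leaf (nat_lit 701228))))))) (BT.node (nat_lit 4486981) (BT.node (nat_lit 4486726) (BT.node (nat_lit 4486594) (BT.node (nat_lit 4486531) (BT.node (nat_lit 4486469) (BT.leaf (nat_lit 694248)) (BT.leaf (nat_lit 694248))) (BT.node (nat_lit 4486536) (BT.leaf (nat_lit 642548)) (BT.leaf (nat_lit 642548)))) (BT.node (nat_lit 4486599) (BT.node (nat_lit 4486598) (BT.leaf (nat_lit 682484)) (BT.leaf (nat_lit 682484))) (BT.node (nat_lit 4486722) (BT.leaf (nat_lit 682484)) (BT.leaf (nat_lit 636120))))) (BT.node (nat_lit 4486918) (BT.node (nat_lit 4486728) (BT.node (nat_lit 4486727) (BT.leaf (nat_lit 636120)) (BT.leaf (nat_lit 636120))) (BT.node (nat_lit 4486914) (BT.leaf (nat_lit 677068)) (BT.leaf (nat_lit 649016)))) (BT.node (nat_lit 4486920) (BT.node (nat_lit 4486919) (BT.leaf (nat_lit 649016)) (BT.leaf (nat_lit 649016))) (BT.node (nat_lit 4486978) (BT.leaf (nat_lit 640228)) (BT.leaf (nat_lit 666100)))))) (BT.node (nat_lit 4487364) (BT.node (nat_lit 4487174) (BT.node (nat_lit 4487109) (BT.node (nat_lit 4487042) (BT.leaf (nat_lit 666100)) (BT.leaf (nat_lit 777464))) (BT.node (nat_lit 4487173) (BT.leaf (nat_lit 685516)) (BT.leaf (nat_lit 639876)))) (BT.node (nat_lit 4487300) (BT.node (nat_lit 4487175) (BT.leaf (nat_lit 639876)) (BT.leaf (nat_lit 639876))) (BT.node (nat_lit 4487301) (BT.leaf (nat_lit 700488)) (BT.leaf (nat_lit 700488))))) (BT.node (nat_lit 4487432) (BT.node (nat_lit 4487427) (BT.node (nat_lit 4487426) (BT.leaf (nat_lit 664672)) (BT.leaf (nat_lit 706396))) (BT.node (nat_lit 4487428) (BT.leaf (nat_lit 706396)) (BT.leaf (nat_lit 706396)))) (BT.node (nat_lit 4487557) (BT.node (nat_lit 4487555) (BT.leaf (nat_lit 706396)) (BT.leaf (nat_lit 695624))) (BT.node (nat_lit 4487683) (BT.leaf (nat_lit 695624)) (BT.leaf (nat_lit 628396)))))))) (BT.node (nat_lit 4488836) (BT.node (nat_lit 4488067) (BT.node (nat_lit 4487878) (BT.node (nat_lit 4487813) (BT.node (nat_lit 4487687) (BT.node (nat_lit 4487686) (BT.leaf (nat_lit 628396)) (BT.leaf (nat_lit 628396))) (BT.node (nat_lit 4487751) (BT.leaf (nat_lit 628396)) (BT.leaf (nat_lit 695616)))) (BT.node (nat_lit 4487815) (BT.node (nat_lit 4487814) (BT.leaf (nat_lit 682680)) (BT.leaf (nat_lit 682680))) (BT.node (nat_lit 4487877) (BT.leaf (nat_lit 682680)) (BT.leaf (nat_lit 703904))))) (BT.node (nat_lit 4488002) (BT.node (nat_lit 4487938) (BT.node (nat_lit 4487879) (BT.leaf (nat_lit 703904)) (BT.leaf (nat_lit 703904))) (BT.node (nat_lit 4487941) (BT.leaf (nat_lit 692040)) (BT.leaf (nat_lit 692040)))) (BT.node (nat_lit 4488008) (BT.node (nat_lit 4488004) (BT.leaf (nat_lit 666108)) (BT.leaf (nat_lit 718464))) (BT.node (nat_lit 4488066) (BT.leaf (nat_lit 666108)) (BT.leaf (nat_lit 749408)))))) (BT.node (nat_lit 4488449) (BT.node (nat_lit 4488385) (BT.node (nat_lit 4488072) (BT.node (nat_lit 4488069) (BT.leaf (nat_lit 749408)) (BT.leaf (nat_lit 749408))) (BT.node (nat_lit 4488136) (BT.leaf (nat_lit 749408)) (BT.leaf (nat_lit 744388)))) (BT.node (nat_lit 4488391) (BT.node (nat_lit 4488390) (BT.leaf (nat_lit 740324)) (BT.leaf (nat_lit 632376))) (BT.node (nat_lit 4488392) (BT.leaf (nat_lit 632376)) (BT.leaf (nat_lit 740324))))) (BT.node (nat_lit 4488584) (BT.node (nat_lit 4488577) (BT.node (nat_lit 4488452) (BT.leaf (nat_lit 715188)) (BT.leaf (nat_lit 661988))) (BT.node (nat_lit 4488580) (BT.leaf (nat_lit 667596)) (BT.leaf (nat_lit 667596)))) (BT.node (nat_lit 4488707) (BT.node (nat_lit 4488706) (BT.leaf (nat_lit 667596)) (BT.leaf (nat_lit 683780))) (BT.node (nat_lit 4488833) (BT.leaf (nat_lit 683780)) (BT.leaf (nat_lit 688976))))))) (BT.node (nat_lit 4489352) (BT.node (nat_lit 4489092) (BT.node (nat_lit 4489025) (BT.node (nat_lit 4488961) (BT.node (nat_lit 4488840) (BT.leaf (nat_lit 688976)) (BT.leaf (nat_lit 688976))) (BT.node (nat_lit 4488968) (BT.leaf (nat_lit 700572)) (BT.leaf (nat_lit 700572)))) (BT.node (nat_lit 4489029) (BT.node (nat_lit 4489028) (BT.leaf (nat_lit 659424)) (BT.leaf (nat_lit 659424))) (BT.node (nat_lit 4489032) (BT.leaf (nat_lit 659428)) (BT.leaf (nat_lit 659424))))) (BT.node (nat_lit 4489222) (BT.node (nat_lit 4489217) (BT.node (nat_lit 4489157) (BT.leaf (nat_lit 674180)) (BT.leaf (nat_lit 678572))) (BT.node (nat_lit 4489221) (BT.leaf (nat_lit 674176)) (BT.leaf (nat_lit 674176)))) (BT.node (nat_lit 4489288) (BT.node (nat_lit 4489223) (BT.leaf (nat_lit 674176)) (BT.leaf (nat_lit 674176))) (BT.node (nat_lit 4489348) (BT.leaf (nat_lit 721004)) (BT.leaf (nat_lit 707656)))))) (BT.node (nat_lit 4489602) (BT.node (nat_lit 4489415) (BT.node (nat_lit 4489411) (BT.node (nat_lit 4489410) (BT.leaf (nat_lit 718304)) (BT.leaf (nat_lit 647604))) (BT.node (nat_lit 4489414) (BT.leaf (nat_lit 647604)) (BT.leaf (nat_lit 647604)))) (BT.node (nat_lit 4489477) (BT.node (nat_lit 4489476) (BT.leaf (nat_lit 647604)) (BT.leaf (nat_lit 667884))) (BT.node (nat_lit 4489541) (BT.leaf (nat_lit 674408)) (BT.leaf (nat_lit 660788))))) (BT.node (nat_lit 4489607) (BT.node (nat_lit 4489604) (BT.node (nat_lit 4489603) (BT.leaf (nat_lit 682200)) (BT.leaf (nat_lit 682200))) (BT.node (nat_lit 4489606) (BT.leaf (nat_lit 682200)) (BT.leaf (nat_lit 702524)))) (BT.node (nat_lit 4489667) (BT.node (nat_lit 4489666) (BT.leaf (nat_lit 702524)) (BT.leaf (nat_lit 651084))) (BT.node (nat_lit 4489668) (BT.leaf (nat_lit 651084)) (BT.leaf (nat_lit 651084))))))))) (BT.node (nat_lit 4491202) (BT.node (nat_lit 4490374) (BT.node (nat_lit 4490118) (BT.node (nat_lit 4490050) (BT.node (nat_lit 4489796) (BT.node (nat_lit 4489733) (BT.node (nat_lit 4489672) (BT.leaf (nat_lit 635564)) (BT.leaf (nat_lit 635564))) (BT.node (nat_lit 4489734) (BT.leaf (nat_lit 651932)) (BT.leaf (nat_lit 651932)))) (BT.node (nat_lit 4489989) (BT.node (nat_lit 4489985) (BT.leaf (nat_lit 651936)) (BT.leaf (nat_lit 692520))) (BT.node (nat_lit 4489992) (BT.leaf (nat_lit 692520)) (BT.leaf (nat_lit 692520))))) (BT.node (nat_lit 4490113) (BT.node (nat_lit 4490052) (BT.node (nat_lit 4490051) (BT.leaf (nat_lit 695308)) (BT.leaf (nat_lit 695308))) (BT.node (nat_lit 4490054) (BT.leaf (nat_lit 695308)) (BT.leaf (nat_lit 695308)))) (BT.node (nat_lit 4490115) (BT.node (nat_lit 4490114) (BT.leaf (nat_lit 660148)) (BT.leaf (nat_lit 660148))) (BT.node (nat_lit 4490117) (BT.leaf (nat_lit 660148)) (BT.leaf (nat_lit 660148)))))) (BT.node (nat_lit 4490248) (BT.node (nat_lit 4490184) (BT.node (nat_lit 4490120) (BT.node (nat_lit 4490119) (BT.leaf (nat_lit 660148)) (BT.leaf (nat_lit 660148))) (BT.node (nat_lit 4490177) (BT.leaf (nat_lit 660148)) (BT.leaf (nat_lit 647348)))) (BT.node (nat_lit 4490244) (BT.node (nat_lit 4490242) (BT.leaf (nat_lit 647348)) (BT.leaf (nat_lit 752364))) (BT.node (nat_lit 4490245) (BT.leaf (nat_lit 629684)) (BT.leaf (nat_lit 752364))))) (BT.node (nat_lit 4490309) (BT.node (nat_lit 4490307) (BT.node (nat_lit 4490306) (BT.leaf (nat_lit 752364)) (BT.leaf (nat_lit 752368))) (BT.node (nat_lit 4490308) (BT.leaf (nat_lit 635244)) (BT.leaf (nat_lit 714560)))) (BT.node (nat_lit 4490370) (BT.node (nat_lit 4490312) (BT.leaf (nat_lit 714560)) (BT.leaf (nat_lit 625320))) (BT.node (nat_lit 4490371) (BT.leaf (nat_lit 672332)) (BT.leaf (nat_lit 672332))))))) (BT.node (nat_lit 4490760) (BT.node (nat_lit 4490501) (BT.node (nat_lit 4490440) (BT.node (nat_lit 4490434) (BT.node (nat_lit 4490375) (BT.leaf (nat_lit 625224)) (BT.leaf (nat_lit 672332))) (BT.node (nat_lit 4490439) (BT.leaf (nat_lit 636132)) (BT.leaf (nat_lit 636132)))) (BT.node (nat_lit 4490498) (BT.node (nat_lit 4490497) (BT.leaf (nat_lit 636132)) (BT.leaf (nat_lit 754820))) (BT.node (nat_lit 4490499) (BT.leaf (nat_lit 669100)) (BT.leaf (nat_lit 669100))))) (BT.node (nat_lit 4490629) (BT.node (nat_lit 4490503) (BT.node (nat_lit 4490502) (BT.leaf (nat_lit 640324)) (BT.leaf (nat_lit 669100))) (BT.node (nat_lit 4490504) (BT.leaf (nat_lit 669100)) (BT.leaf (nat_lit 754820)))) (BT.node (nat_lit 4490757) (BT.node (nat_lit 4490754) (BT.leaf (nat_lit 629432)) (BT.leaf (nat_lit 624200))) (BT.node (nat_lit 4490758) (BT.leaf (nat_lit 624200)) (BT.leaf (nat_lit 639640)))))) (BT.node (nat_lit 4490951) (BT.node (nat_lit 4490946) (BT.node (nat_lit 4490820) (BT.node (nat_lit 4490818) (BT.leaf (nat_lit 639640)) (BT.leaf (nat_lit 662016))) (BT.node (nat_lit 4490881) (BT.leaf (nat_lit 662016)) (BT.leaf (nat_lit 691168)))) (BT.node (nat_lit 4490948) (BT.node (nat_lit 4490947) (BT.leaf (nat_lit 693444)) (BT.leaf (nat_lit 693444))) (BT.node (nat_lit 4490950) (BT.leaf (nat_lit 693444)) (BT.leaf (nat_lit 624196))))) (BT.node (nat_lit 4491016) (BT.node (nat_lit 4491009) (BT.node (nat_lit 4490952) (BT.leaf (nat_lit 624196)) (BT.leaf (nat_lit 693444))) (BT.node (nat_lit 4491012) (BT.leaf (nat_lit 648348)) (BT.leaf (nat_lit 648348)))) (BT.node (nat_lit 4491078) (BT.node (nat_lit 4491075) (BT.leaf (nat_lit 648348)) (BT.leaf (nat_lit 683948))) (BT.node (nat_lit 4491141) (BT.leaf (nat_lit 683948)) (BT.leaf (nat_lit 701340)))))))) (BT.node (nat_lit 4492292) (BT.node (nat_lit 4491784) (BT.node (nat_lit 4491522) (BT.node (nat_lit 4491207) (BT.node (nat_lit 4491204) (BT.node (nat_lit 4491203) (BT.leaf (nat_lit 716760)) (BT.leaf (nat_lit 716760))) (BT.node (nat_lit 4491206) (BT.leaf (nat_lit 638036)) (BT.leaf (nat_lit 716760)))) (BT.node (nat_lit 4491333) (BT.node (nat_lit 4491332) (BT.leaf (nat_lit 716760)) (BT.leaf (nat_lit 699620))) (BT.node (nat_lit 4491399) (BT.leaf (nat_lit 659716)) (BT.leaf (nat_lit 687692))))) (BT.node (nat_lit 4491654) (BT.node (nat_lit 4491527) (BT.node (nat_lit 4491526) (BT.leaf (nat_lit 634184)) (BT.leaf (nat_lit 634184))) (BT.node (nat_lit 4491653) (BT.leaf (nat_lit 634184)) (BT.leaf (nat_lit 692240)))) (BT.node (nat_lit 4491780) (BT.node (nat_lit 4491655) (BT.leaf (nat_lit 692240)) (BT.leaf (nat_lit 692240))) (BT.node (nat_lit 4491781) (BT.leaf (nat_lit 721100)) (BT.leaf (nat_lit 721100)))))) (BT.node (nat_lit 4492103) (BT.node (nat_lit 4491972) (BT.node (nat_lit 4491846) (BT.node (nat_lit 4491841) (BT.leaf (nat_lit 721100)) (BT.leaf (nat_lit 722508))) (BT.node (nat_lit 4491847) (BT.leaf (nat_lit 722508)) (BT.leaf (nat_lit 722508)))) (BT.node (nat_lit 4492037) (BT.node (nat_lit 4492035) (BT.leaf (nat_lit 722512)) (BT.leaf (nat_lit 768364))) (BT.node (nat_lit 4492039) (BT.leaf (nat_lit 629452)) (BT.leaf (nat_lit 768364))))) (BT.node (nat_lit 4492231) (BT.node (nat_lit 4492167) (BT.node (nat_lit 4492165) (BT.leaf (nat_lit 722472)) (BT.leaf (nat_lit 722516))) (BT.node (nat_lit 4492228) (BT.leaf (nat_lit 627212)) (BT.leaf (nat_lit 665588)))) (BT.node (nat_lit 4492290) (BT.node (nat_lit 4492232) (BT.leaf (nat_lit 667688)) (BT.leaf (nat_lit 665588))) (BT.node (nat_lit 4492291) (BT.leaf (nat_lit 699428)) (BT.leaf (nat_lit 774868))))))) (BT.node (nat_lit 4492739) (BT.node (nat_lit 4492552) (BT.node (nat_lit 4492487) (BT.node (nat_lit 4492421) (BT.node (nat_lit 4492296) (BT.leaf (nat_lit 699428)) (BT.leaf (nat_lit 774824))) (BT.node (nat_lit 4492486) (BT.leaf (nat_lit 723104)) (BT.leaf (nat_lit 672020)))) (BT.node (nat_lit 4492548) (BT.node (nat_lit 4492545) (BT.leaf (nat_lit 672020)) (BT.leaf (nat_lit 639852))) (BT.node (nat_lit 4492549) (BT.leaf (nat_lit 639852)) (BT.leaf (nat_lit 639852))))) (BT.node (nat_lit 4492678) (BT.node (nat_lit 4492673) (BT.node (nat_lit 4492613) (BT.leaf (nat_lit 639852)) (BT.leaf (nat_lit 684084))) (BT.node (nat_lit 4492674) (BT.leaf (nat_lit 637160)) (BT.leaf (nat_lit 637160)))) (BT.node (nat_lit 4492737) (BT.node (nat_lit 4492679) (BT.leaf (nat_lit 637160)) (BT.leaf (nat_lit 637160))) (BT.node (nat_lit 4492738) (BT.leaf (nat_lit 667880)) (BT.leaf (nat_lit 667880)))))) (BT.node (nat_lit 4492872) (BT.node (nat_lit 4492802) (BT.node (nat_lit 4492742) (BT.node (nat_lit 4492741) (BT.leaf (nat_lit 667880)) (BT.leaf (nat_lit 667880))) (BT.node (nat_lit 4492743) (BT.leaf (nat_lit 667880)) (BT.leaf (nat_lit 667880)))) (BT.node (nat_lit 4492804) (BT.node (nat_lit 4492803) (BT.leaf (nat_lit 704108)) (BT.leaf (nat_lit 704108))) (BT.node (nat_lit 4492805) (BT.leaf (nat_lit 704108)) (BT.leaf (nat_lit 704108))))) (BT.node (nat_lit 4493000) (BT.node (nat_lit 4492996) (BT.node (nat_lit 4492993) (BT.leaf (nat_lit 700576)) (BT.leaf (nat_lit 660692))) (BT.node (nat_lit 4492997) (BT.leaf (nat_lit 660692)) (BT.leaf (nat_lit 660692)))) (BT.node (nat_lit 4493315) (BT.node (nat_lit 4493314) (BT.leaf (nat_lit 660692)) (BT.leaf (nat_lit 653768))) (BT.node (nat_lit 4493317) (BT.leaf (nat_lit 653768)) (BT.leaf (nat_lit 653768))))))))))) (BT.node (nat_lit 4500102) (BT.node (nat_lit 4496193) (BT.node (nat_lit 4494466) (BT.node (nat_lit 4493955) (BT.node (nat_lit 4493700) (BT.node (nat_lit 4493573) (BT.node (nat_lit 4493384) (BT.node (nat_lit 4493380) (BT.node (nat_lit 4493379) (BT.leaf (nat_lit 653768)) (BT.leaf (nat_lit 661204))) (BT.node (nat_lit 4493383) (BT.leaf (nat_lit 661204)) (BT.leaf (nat_lit 661204)))) (BT.node (nat_lit 4493569) (BT.node (nat_lit 4493510) (BT.leaf (nat_lit 661204)) (BT.leaf (nat_lit 716948))) (BT.node (nat_lit 4493572) (BT.leaf (nat_lit 686052)) (BT.leaf (nat_lit 686052))))) (BT.node (nat_lit 4493639) (BT.node (nat_lit 4493635) (BT.node (nat_lit 4493634) (BT.leaf (nat_lit 686052)) (BT.leaf (nat_lit 711660))) (BT.node (nat_lit 4493638) (BT.leaf (nat_lit 711660)) (BT.leaf (nat_lit 711660)))) (BT.node (nat_lit 4493698) (BT.node (nat_lit 4493640) (BT.leaf (nat_lit 711660)) (BT.leaf (nat_lit 777552))) (BT.node (nat_lit 4493699) (BT.leaf (nat_lit 662264)) (BT.leaf (nat_lit 662264)))))) (BT.node (nat_lit 4493825) (BT.node (nat_lit 4493762) (BT.node (nat_lit 4493704) (BT.node (nat_lit 4493701) (BT.leaf (nat_lit 662264)) (BT.leaf (nat_lit 711832))) (BT.node (nat_lit 4493761) (BT.leaf (nat_lit 704436)) (BT.leaf (nat_lit 628484)))) (BT.node (nat_lit 4493764) (BT.node (nat_lit 4493763) (BT.leaf (nat_lit 628484)) (BT.leaf (nat_lit 628484))) (BT.node (nat_lit 4493765) (BT.leaf (nat_lit 628484)) (BT.leaf (nat_lit 651224))))) (BT.node (nat_lit 4493832) (BT.node (nat_lit 4493830) (BT.node (nat_lit 4493829) (BT.leaf (nat_lit 706120)) (BT.leaf (nat_lit 706120))) (BT.node (nat_lit 4493831) (BT.leaf (nat_lit 706120)) (BT.leaf (nat_lit 706120)))) (BT.node (nat_lit 4493893) (BT.node (nat_lit 4493889) (BT.leaf (nat_lit 706120)) (BT.leaf (nat_lit 706692))) (BT.node (nat_lit 4493954) (BT.leaf (nat_lit 706692)) (BT.leaf (nat_lit 696896))))))) (BT.node (nat_lit 4494211) (BT.node (nat_lit 4494081) (BT.node (nat_lit 4494020) (BT.node (nat_lit 4493959) (BT.node (nat_lit 4493958) (BT.leaf (nat_lit 696896)) (BT.leaf (nat_lit 696896))) (BT.node (nat_lit 4494019) (BT.leaf (nat_lit 696896)) (BT.leaf (nat_lit 711824)))) (BT.node (nat_lit 4494023) (BT.node (nat_lit 4494022) (BT.leaf (nat_lit 649684)) (BT.leaf (nat_lit 711824))) (BT.node (nat_lit 4494024) (BT.leaf (nat_lit 711824)) (BT.leaf (nat_lit 649684))))) (BT.node (nat_lit 4494147) (BT.node (nat_lit 4494088) (BT.node (nat_lit 4494084) (BT.leaf (nat_lit 640664)) (BT.leaf (nat_lit 689672))) (BT.node (nat_lit 4494146) (BT.leaf (nat_lit 640664)) (BT.leaf (nat_lit 696856)))) (BT.node (nat_lit 4494209) (BT.node (nat_lit 4494149) (BT.leaf (nat_lit 696856)) (BT.leaf (nat_lit 696856))) (BT.node (nat_lit 4494210) (BT.leaf (nat_lit 694176)) (BT.leaf (nat_lit 694176)))))) (BT.node (nat_lit 4494337) (BT.node (nat_lit 4494274) (BT.node (nat_lit 4494214) (BT.node (nat_lit 4494213) (BT.leaf (nat_lit 694176)) (BT.leaf (nat_lit 694176))) (BT.node (nat_lit 4494215) (BT.leaf (nat_lit 694176)) (BT.leaf (nat_lit 694176)))) (BT.node (nat_lit 4494277) (BT.node (nat_lit 4494275) (BT.leaf (nat_lit 635804)) (BT.leaf (nat_lit 635804))) (BT.node (nat_lit 4494280) (BT.leaf (nat_lit 635804)) (BT.leaf (nat_lit 635804))))) (BT.node (nat_lit 4494342) (BT.node (nat_lit 4494339) (BT.node (nat_lit 4494338) (BT.leaf (nat_lit 669040)) (BT.leaf (nat_lit 669040))) (BT.node (nat_lit 4494341) (BT.leaf (nat_lit 669040)) (BT.leaf (nat_lit 669040)))) (BT.node (nat_lit 4494344) (BT.node (nat_lit 4494343) (BT.leaf (nat_lit 669040)) (BT.leaf (nat_lit 669040))) (BT.node (nat_lit 4494465) (BT.leaf (nat_lit 669040)) (BT.leaf (nat_lit 669556)))))))) (BT.node (nat_lit 4495367) (BT.node (nat_lit 4495107) (BT.node (nat_lit 4494724) (BT.node (nat_lit 4494597) (BT.node (nat_lit 4494471) (BT.node (nat_lit 4494470) (BT.leaf (nat_lit 669556)) (BT.leaf (nat_lit 669556))) (BT.node (nat_lit 4494532) (BT.leaf (nat_lit 669556)) (BT.leaf (nat_lit 669564)))) (BT.node (nat_lit 4494599) (BT.node (nat_lit 4494598) (BT.leaf (nat_lit 624492)) (BT.leaf (nat_lit 668616))) (BT.node (nat_lit 4494721) (BT.leaf (nat_lit 668616)) (BT.leaf (nat_lit 649652))))) (BT.node (nat_lit 4494979) (BT.node (nat_lit 4494915) (BT.node (nat_lit 4494728) (BT.leaf (nat_lit 649652)) (BT.leaf (nat_lit 649652))) (BT.node (nat_lit 4494917) (BT.leaf (nat_lit 695996)) (BT.leaf (nat_lit 673360)))) (BT.node (nat_lit 4495045) (BT.node (nat_lit 4494981) (BT.leaf (nat_lit 705032)) (BT.leaf (nat_lit 705032))) (BT.node (nat_lit 4495105) (BT.leaf (nat_lit 624768)) (BT.leaf (nat_lit 680456)))))) (BT.node (nat_lit 4495237) (BT.node (nat_lit 4495174) (BT.node (nat_lit 4495112) (BT.node (nat_lit 4495109) (BT.leaf (nat_lit 753388)) (BT.leaf (nat_lit 680456))) (BT.node (nat_lit 4495173) (BT.leaf (nat_lit 680456)) (BT.leaf (nat_lit 649796)))) (BT.node (nat_lit 4495234) (BT.node (nat_lit 4495175) (BT.leaf (nat_lit 649796)) (BT.leaf (nat_lit 649796))) (BT.node (nat_lit 4495236) (BT.leaf (nat_lit 662700)) (BT.leaf (nat_lit 662700))))) (BT.node (nat_lit 4495303) (BT.node (nat_lit 4495299) (BT.node (nat_lit 4495240) (BT.leaf (nat_lit 662700)) (BT.leaf (nat_lit 662700))) (BT.node (nat_lit 4495302) (BT.leaf (nat_lit 662800)) (BT.leaf (nat_lit 662800)))) (BT.node (nat_lit 4495365) (BT.node (nat_lit 4495363) (BT.leaf (nat_lit 695484)) (BT.leaf (nat_lit 703700))) (BT.node (nat_lit 4495366) (BT.leaf (nat_lit 714660)) (BT.leaf (nat_lit 776412))))))) (BT.node (nat_lit 4495687) (BT.node (nat_lit 4495560) (BT.node (nat_lit 4495490) (BT.node (nat_lit 4495430) (BT.node (nat_lit 4495428) (BT.leaf (nat_lit 776412)) (BT.leaf (nat_lit 662948))) (BT.node (nat_lit 4495431) (BT.leaf (nat_lit 662948)) (BT.leaf (nat_lit 662948)))) (BT.node (nat_lit 4495496) (BT.node (nat_lit 4495492) (BT.leaf (nat_lit 629104)) (BT.leaf (nat_lit 629104))) (BT.node (nat_lit 4495556) (BT.leaf (nat_lit 807980)) (BT.leaf (nat_lit 650128))))) (BT.node (nat_lit 4495623) (BT.node (nat_lit 4495621) (BT.node (nat_lit 4495619) (BT.leaf (nat_lit 651464)) (BT.leaf (nat_lit 695032))) (BT.node (nat_lit 4495622) (BT.leaf (nat_lit 702276)) (BT.leaf (nat_lit 715660)))) (BT.node (nat_lit 4495683) (BT.node (nat_lit 4495682) (BT.leaf (nat_lit 695032)) (BT.leaf (nat_lit 694852))) (BT.node (nat_lit 4495686) (BT.leaf (nat_lit 694852)) (BT.leaf (nat_lit 694852)))))) (BT.node (nat_lit 4495813) (BT.node (nat_lit 4495747) (BT.node (nat_lit 4495745) (BT.node (nat_lit 4495688) (BT.leaf (nat_lit 694852)) (BT.leaf (nat_lit 698456))) (BT.node (nat_lit 4495746) (BT.leaf (nat_lit 701996)) (BT.leaf (nat_lit 701996)))) (BT.node (nat_lit 4495809) (BT.node (nat_lit 4495752) (BT.leaf (nat_lit 701996)) (BT.leaf (nat_lit 701996))) (BT.node (nat_lit 4495811) (BT.leaf (nat_lit 651928)) (BT.leaf (nat_lit 651748))))) (BT.node (nat_lit 4496066) (BT.node (nat_lit 4495879) (BT.node (nat_lit 4495878) (BT.leaf (nat_lit 651748)) (BT.leaf (nat_lit 684820))) (BT.node (nat_lit 4496007) (BT.leaf (nat_lit 684820)) (BT.leaf (nat_lit 716592)))) (BT.node (nat_lit 4496129) (BT.node (nat_lit 4496067) (BT.leaf (nat_lit 673412)) (BT.leaf (nat_lit 673412))) (BT.node (nat_lit 4496133) (BT.leaf (nat_lit 691036)) (BT.leaf (nat_lit 691036))))))))) (BT.node (nat_lit 4498115) (BT.node (nat_lit 4497154) (BT.node (nat_lit 4496643) (BT.node (nat_lit 4496451) (BT.node (nat_lit 4496325) (BT.node (nat_lit 4496197) (BT.node (nat_lit 4496196) (BT.leaf (nat_lit 659880)) (BT.leaf (nat_lit 659880))) (BT.node (nat_lit 4496261) (BT.leaf (nat_lit 659880)) (BT.leaf (nat_lit 684456)))) (BT.node (nat_lit 4496391) (BT.node (nat_lit 4496389) (BT.leaf (nat_lit 652432)) (BT.leaf (nat_lit 664908))) (BT.node (nat_lit 4496450) (BT.leaf (nat_lit 664908)) (BT.leaf (nat_lit 684808))))) (BT.node (nat_lit 4496581) (BT.node (nat_lit 4496453) (BT.node (nat_lit 4496452) (BT.leaf (nat_lit 684808)) (BT.leaf (nat_lit 686572))) (BT.node (nat_lit 4496577) (BT.leaf (nat_lit 684808)) (BT.leaf (nat_lit 681164)))) (BT.node (nat_lit 4496641) (BT.node (nat_lit 4496584) (BT.leaf (nat_lit 681164)) (BT.leaf (nat_lit 681164))) (BT.node (nat_lit 4496642) (BT.leaf (nat_lit 632408)) (BT.leaf (nat_lit 632408)))))) (BT.node (nat_lit 4496775) (BT.node (nat_lit 4496770) (BT.node (nat_lit 4496647) (BT.node (nat_lit 4496646) (BT.leaf (nat_lit 632408)) (BT.leaf (nat_lit 632408))) (BT.node (nat_lit 4496648) (BT.leaf (nat_lit 632408)) (BT.leaf (nat_lit 632408)))) (BT.node (nat_lit 4496772) (BT.node (nat_lit 4496771) (BT.leaf (nat_lit 684484)) (BT.leaf (nat_lit 681148))) (BT.node (nat_lit 4496774) (BT.leaf (nat_lit 632412)) (BT.leaf (nat_lit 681148))))) (BT.node (nat_lit 4497028) (BT.node (nat_lit 4496903) (BT.node (nat_lit 4496901) (BT.leaf (nat_lit 684484)) (BT.leaf (nat_lit 632416))) (BT.node (nat_lit 4497027) (BT.leaf (nat_lit 632372)) (BT.leaf (nat_lit 674516)))) (BT.node (nat_lit 4497090) (BT.node (nat_lit 4497029) (BT.leaf (nat_lit 674516)) (BT.leaf (nat_lit 674516))) (BT.node (nat_lit 4497093) (BT.leaf (nat_lit 665984)) (BT.leaf (nat_lit 665984))))))) (BT.node (nat_lit 4497537) (BT.node (nat_lit 4497288) (BT.node (nat_lit 4497222) (BT.node (nat_lit 4497218) (BT.node (nat_lit 4497157) (BT.leaf (nat_lit 681572)) (BT.leaf (nat_lit 681572))) (BT.node (nat_lit 4497219) (BT.leaf (nat_lit 771912)) (BT.leaf (nat_lit 771912)))) (BT.node (nat_lit 4497224) (BT.node (nat_lit 4497223) (BT.leaf (nat_lit 705956)) (BT.leaf (nat_lit 771912))) (BT.node (nat_lit 4497285) (BT.leaf (nat_lit 705956)) (BT.leaf (nat_lit 681584))))) (BT.node (nat_lit 4497476) (BT.node (nat_lit 4497474) (BT.node (nat_lit 4497349) (BT.leaf (nat_lit 776540)) (BT.leaf (nat_lit 706004))) (BT.node (nat_lit 4497475) (BT.leaf (nat_lit 660256)) (BT.leaf (nat_lit 660256)))) (BT.node (nat_lit 4497478) (BT.node (nat_lit 4497477) (BT.leaf (nat_lit 653812)) (BT.leaf (nat_lit 660256))) (BT.node (nat_lit 4497480) (BT.leaf (nat_lit 660256)) (BT.leaf (nat_lit 653812)))))) (BT.node (nat_lit 4497795) (BT.node (nat_lit 4497670) (BT.node (nat_lit 4497666) (BT.node (nat_lit 4497541) (BT.leaf (nat_lit 716016)) (BT.leaf (nat_lit 716016))) (BT.node (nat_lit 4497667) (BT.leaf (nat_lit 673480)) (BT.leaf (nat_lit 673480)))) (BT.node (nat_lit 4497672) (BT.node (nat_lit 4497671) (BT.leaf (nat_lit 714040)) (BT.leaf (nat_lit 673480))) (BT.node (nat_lit 4497794) (BT.leaf (nat_lit 714040)) (BT.leaf (nat_lit 686908))))) (BT.node (nat_lit 4497861) (BT.node (nat_lit 4497798) (BT.node (nat_lit 4497796) (BT.leaf (nat_lit 686908)) (BT.leaf (nat_lit 714036))) (BT.node (nat_lit 4497799) (BT.leaf (nat_lit 686908)) (BT.leaf (nat_lit 686908)))) (BT.node (nat_lit 4497989) (BT.node (nat_lit 4497988) (BT.leaf (nat_lit 701840)) (BT.leaf (nat_lit 641672))) (BT.node (nat_lit 4498114) (BT.leaf (nat_lit 663856)) (BT.leaf (nat_lit 641048)))))))) (BT.node (nat_lit 4498945) (BT.node (nat_lit 4498437) (BT.node (nat_lit 4498247) (BT.node (nat_lit 4498179) (BT.node (nat_lit 4498119) (BT.node (nat_lit 4498118) (BT.leaf (nat_lit 641048)) (BT.leaf (nat_lit 641048))) (BT.node (nat_lit 4498120) (BT.leaf (nat_lit 641048)) (BT.leaf (nat_lit 641048)))) (BT.node (nat_lit 4498241) (BT.node (nat_lit 4498183) (BT.leaf (nat_lit 705800)) (BT.leaf (nat_lit 705800))) (BT.node (nat_lit 4498246) (BT.leaf (nat_lit 635892)) (BT.leaf (nat_lit 635892))))) (BT.node (nat_lit 4498374) (BT.node (nat_lit 4498310) (BT.node (nat_lit 4498309) (BT.leaf (nat_lit 635892)) (BT.leaf (nat_lit 721212))) (BT.node (nat_lit 4498312) (BT.leaf (nat_lit 640852)) (BT.leaf (nat_lit 721212)))) (BT.node (nat_lit 4498433) (BT.node (nat_lit 4498375) (BT.leaf (nat_lit 675668)) (BT.leaf (nat_lit 675668))) (BT.node (nat_lit 4498435) (BT.leaf (nat_lit 777984)) (BT.leaf (nat_lit 687584)))))) (BT.node (nat_lit 4498628) (BT.node (nat_lit 4498561) (BT.node (nat_lit 4498439) (BT.node (nat_lit 4498438) (BT.leaf (nat_lit 722848)) (BT.leaf (nat_lit 687584))) (BT.node (nat_lit 4498501) (BT.leaf (nat_lit 687584)) (BT.leaf (nat_lit 663136)))) (BT.node (nat_lit 4498565) (BT.node (nat_lit 4498563) (BT.leaf (nat_lit 651860)) (BT.leaf (nat_lit 651860))) (BT.node (nat_lit 4498625) (BT.leaf (nat_lit 651860)) (BT.leaf (nat_lit 676664))))) (BT.node (nat_lit 4498820) (BT.node (nat_lit 4498757) (BT.node (nat_lit 4498756) (BT.leaf (nat_lit 676664)) (BT.leaf (nat_lit 716416))) (BT.node (nat_lit 4498817) (BT.leaf (nat_lit 716416)) (BT.leaf (nat_lit 651492)))) (BT.node (nat_lit 4498881) (BT.node (nat_lit 4498824) (BT.leaf (nat_lit 651492)) (BT.leaf (nat_lit 651492))) (BT.node (nat_lit 4498888) (BT.leaf (nat_lit 807268)) (BT.leaf (nat_lit 807268))))))) (BT.node (nat_lit 4499208) (BT.node (nat_lit 4499080) (BT.node (nat_lit 4499016) (BT.node (nat_lit 4499009) (BT.node (nat_lit 4498952) (BT.leaf (nat_lit 662564)) (BT.leaf (nat_lit 662564))) (BT.node (nat_lit 4499013) (BT.leaf (nat_lit 714556)) (BT.leaf (nat_lit 714556)))) (BT.node (nat_lit 4499076) (BT.node (nat_lit 4499073) (BT.leaf (nat_lit 714556)) (BT.leaf (nat_lit 628144))) (BT.node (nat_lit 4499077) (BT.leaf (nat_lit 651352)) (BT.leaf (nat_lit 628144))))) (BT.node (nat_lit 4499203) (BT.node (nat_lit 4499144) (BT.node (nat_lit 4499139) (BT.leaf (nat_lit 628144)) (BT.leaf (nat_lit 633132))) (BT.node (nat_lit 4499201) (BT.leaf (nat_lit 633132)) (BT.leaf (nat_lit 762960)))) (BT.node (nat_lit 4499206) (BT.node (nat_lit 4499205) (BT.leaf (nat_lit 762960)) (BT.leaf (nat_lit 694024))) (BT.node (nat_lit 4499207) (BT.leaf (nat_lit 694024)) (BT.leaf (nat_lit 694024)))))) (BT.node (nat_lit 4499589) (BT.node (nat_lit 4499462) (BT.node (nat_lit 4499334) (BT.node (nat_lit 4499269) (BT.leaf (nat_lit 762960)) (BT.leaf (nat_lit 700736))) (BT.node (nat_lit 4499335) (BT.leaf (nat_lit 638920)) (BT.leaf (nat_lit 638920)))) (BT.node (nat_lit 4499525) (BT.node (nat_lit 4499463) (BT.leaf (nat_lit 630668)) (BT.leaf (nat_lit 630668))) (BT.node (nat_lit 4499585) (BT.leaf (nat_lit 673660)) (BT.leaf (nat_lit 630672))))) (BT.node (nat_lit 4499969) (BT.node (nat_lit 4499910) (BT.node (nat_lit 4499592) (BT.leaf (nat_lit 630672)) (BT.leaf (nat_lit 630672))) (BT.node (nat_lit 4499911) (BT.leaf (nat_lit 651856)) (BT.leaf (nat_lit 651856)))) (BT.node (nat_lit 4499973) (BT.node (nat_lit 4499972) (BT.leaf (nat_lit 627964)) (BT.leaf (nat_lit 627964))) (BT.node (nat_lit 4500033) (BT.leaf (nat_lit 627964)) (BT.leaf (nat_lit 722552)))))))))) (BT.node (nat_lit 4505414) (BT.node (nat_lit 4502727) (BT.node (nat_lit 4501830) (BT.node (nat_lit 4500739) (BT.node (nat_lit 4500481) (BT.node (nat_lit 4500292) (BT.node (nat_lit 4500228) (BT.node (nat_lit 4500103) (BT.leaf (nat_lit 706552)) (BT.leaf (nat_lit 706552))) (BT.node (nat_lit 4500289) (BT.leaf (nat_lit 702556)) (BT.leaf (nat_lit 675908)))) (BT.node (nat_lit 4500420) (BT.node (nat_lit 4500293) (BT.leaf (nat_lit 675908)) (BT.leaf (nat_lit 675908))) (BT.node (nat_lit 4500421) (BT.leaf (nat_lit 795580)) (BT.leaf (nat_lit 651508))))) (BT.node (nat_lit 4500551) (BT.node (nat_lit 4500547) (BT.node (nat_lit 4500546) (BT.leaf (nat_lit 723152)) (BT.leaf (nat_lit 648948))) (BT.node (nat_lit 4500550) (BT.leaf (nat_lit 648948)) (BT.leaf (nat_lit 648948)))) (BT.node (nat_lit 4500613) (BT.node (nat_lit 4500611) (BT.leaf (nat_lit 648948)) (BT.leaf (nat_lit 674020))) (BT.node (nat_lit 4500738) (BT.leaf (nat_lit 674020)) (BT.leaf (nat_lit 629272)))))) (BT.node (nat_lit 4501570) (BT.node (nat_lit 4500804) (BT.node (nat_lit 4500743) (BT.node (nat_lit 4500742) (BT.leaf (nat_lit 629272)) (BT.leaf (nat_lit 629272))) (BT.node (nat_lit 4500802) (BT.leaf (nat_lit 629272)) (BT.leaf (nat_lit 632980)))) (BT.node (nat_lit 4500994) (BT.node (nat_lit 4500934) (BT.leaf (nat_lit 632980)) (BT.leaf (nat_lit 665948))) (BT.node (nat_lit 4501060) (BT.leaf (nat_lit 716192)) (BT.leaf (nat_lit 626036))))) (BT.node (nat_lit 4501638) (BT.node (nat_lit 4501634) (BT.node (nat_lit 4501576) (BT.leaf (nat_lit 740276)) (BT.leaf (nat_lit 633472))) (BT.node (nat_lit 4501635) (BT.leaf (nat_lit 644816)) (BT.leaf (nat_lit 644816)))) (BT.node (nat_lit 4501828) (BT.node (nat_lit 4501825) (BT.leaf (nat_lit 644816)) (BT.leaf (nat_lit 670828))) (BT.node (nat_lit 4501829) (BT.leaf (nat_lit 670828)) (BT.leaf (nat_lit 670828))))))) (BT.node (nat_lit 4502085) (BT.node (nat_lit 4501953) (BT.node (nat_lit 4501891) (BT.node (nat_lit 4501832) (BT.node (nat_lit 4501831) (BT.leaf (nat_lit 670828)) (BT.leaf (nat_lit 670828))) (BT.node (nat_lit 4501890) (BT.leaf (nat_lit 670828)) (BT.leaf (nat_lit 756460)))) (BT.node (nat_lit 4501894) (BT.node (nat_lit 4501892) (BT.leaf (nat_lit 756460)) (BT.leaf (nat_lit 648924))) (BT.node (nat_lit 4501895) (BT.leaf (nat_lit 756460)) (BT.leaf (nat_lit 756460))))) (BT.node (nat_lit 4502021) (BT.node (nat_lit 4501958) (BT.node (nat_lit 4501955) (BT.leaf (nat_lit 674144)) (BT.leaf (nat_lit 674144))) (BT.node (nat_lit 4501959) (BT.leaf (nat_lit 674144)) (BT.leaf (nat_lit 674144)))) (BT.node (nat_lit 4502023) (BT.node (nat_lit 4502022) (BT.leaf (nat_lit 675048)) (BT.leaf (nat_lit 675048))) (BT.node (nat_lit 4502081) (BT.leaf (nat_lit 675048)) (BT.leaf (nat_lit 685760)))))) (BT.node (nat_lit 4502468) (BT.node (nat_lit 4502279) (BT.node (nat_lit 4502212) (BT.node (nat_lit 4502088) (BT.leaf (nat_lit 685760)) (BT.leaf (nat_lit 685760))) (BT.node (nat_lit 4502278) (BT.leaf (nat_lit 711944)) (BT.leaf (nat_lit 696816)))) (BT.node (nat_lit 4502404) (BT.node (nat_lit 4502402) (BT.leaf (nat_lit 696816)) (BT.leaf (nat_lit 696828))) (BT.node (nat_lit 4502466) (BT.leaf (nat_lit 682240)) (BT.leaf (nat_lit 632924))))) (BT.node (nat_lit 4502593) (BT.node (nat_lit 4502535) (BT.node (nat_lit 4502530) (BT.leaf (nat_lit 632924)) (BT.leaf (nat_lit 696800))) (BT.node (nat_lit 4502536) (BT.leaf (nat_lit 696800)) (BT.leaf (nat_lit 696800)))) (BT.node (nat_lit 4502597) (BT.node (nat_lit 4502596) (BT.leaf (nat_lit 723472)) (BT.leaf (nat_lit 723472))) (BT.node (nat_lit 4502726) (BT.leaf (nat_lit 723472)) (BT.leaf (nat_lit 691388)))))))) (BT.node (nat_lit 4504065) (BT.node (nat_lit 4503364) (BT.node (nat_lit 4502978) (BT.node (nat_lit 4502789) (BT.node (nat_lit 4502787) (BT.node (nat_lit 4502785) (BT.leaf (nat_lit 691388)) (BT.leaf (nat_lit 748684))) (BT.node (nat_lit 4502788) (BT.leaf (nat_lit 748684)) (BT.leaf (nat_lit 633008)))) (BT.node (nat_lit 4502916) (BT.node (nat_lit 4502792) (BT.leaf (nat_lit 633008)) (BT.leaf (nat_lit 748684))) (BT.node (nat_lit 4502977) (BT.leaf (nat_lit 696236)) (BT.leaf (nat_lit 692908))))) (BT.node (nat_lit 4503041) (BT.node (nat_lit 4502982) (BT.node (nat_lit 4502979) (BT.leaf (nat_lit 692908)) (BT.leaf (nat_lit 692908))) (BT.node (nat_lit 4502983) (BT.leaf (nat_lit 692908)) (BT.leaf (nat_lit 692908)))) (BT.node (nat_lit 4503045) (BT.node (nat_lit 4503042) (BT.leaf (nat_lit 633332)) (BT.leaf (nat_lit 633332))) (BT.node (nat_lit 4503047) (BT.leaf (nat_lit 633332)) (BT.leaf (nat_lit 633332)))))) (BT.node (nat_lit 4503812) (BT.node (nat_lit 4503622) (BT.node (nat_lit 4503429) (BT.node (nat_lit 4503365) (BT.leaf (nat_lit 688768)) (BT.leaf (nat_lit 688768))) (BT.node (nat_lit 4503553) (BT.leaf (nat_lit 685256)) (BT.leaf (nat_lit 679672)))) (BT.node (nat_lit 4503810) (BT.node (nat_lit 4503623) (BT.leaf (nat_lit 687572)) (BT.leaf (nat_lit 687572))) (BT.node (nat_lit 4503811) (BT.leaf (nat_lit 682096)) (BT.leaf (nat_lit 682096))))) (BT.node (nat_lit 4504002) (BT.node (nat_lit 4503939) (BT.node (nat_lit 4503875) (BT.leaf (nat_lit 760664)) (BT.leaf (nat_lit 791844))) (BT.node (nat_lit 4503940) (BT.leaf (nat_lit 760824)) (BT.leaf (nat_lit 760824)))) (BT.node (nat_lit 4504004) (BT.node (nat_lit 4504003) (BT.leaf (nat_lit 689328)) (BT.leaf (nat_lit 689328))) (BT.node (nat_lit 4504005) (BT.leaf (nat_lit 710564)) (BT.leaf (nat_lit 710564))))))) (BT.node (nat_lit 4504452) (BT.node (nat_lit 4504135) (BT.node (nat_lit 4504071) (BT.node (nat_lit 4504067) (BT.node (nat_lit 4504066) (BT.leaf (nat_lit 760812)) (BT.leaf (nat_lit 671504))) (BT.node (nat_lit 4504070) (BT.leaf (nat_lit 671504)) (BT.leaf (nat_lit 671504)))) (BT.node (nat_lit 4504133) (BT.node (nat_lit 4504130) (BT.leaf (nat_lit 671504)) (BT.leaf (nat_lit 675336))) (BT.node (nat_lit 4504134) (BT.leaf (nat_lit 651604)) (BT.leaf (nat_lit 675336))))) (BT.node (nat_lit 4504325) (BT.node (nat_lit 4504197) (BT.node (nat_lit 4504196) (BT.leaf (nat_lit 640388)) (BT.leaf (nat_lit 655188))) (BT.node (nat_lit 4504261) (BT.leaf (nat_lit 773360)) (BT.leaf (nat_lit 720024)))) (BT.node (nat_lit 4504450) (BT.node (nat_lit 4504326) (BT.leaf (nat_lit 744408)) (BT.leaf (nat_lit 720052))) (BT.node (nat_lit 4504451) (BT.leaf (nat_lit 678708)) (BT.leaf (nat_lit 678708)))))) (BT.node (nat_lit 4505093) (BT.node (nat_lit 4504711) (BT.node (nat_lit 4504705) (BT.node (nat_lit 4504453) (BT.leaf (nat_lit 656292)) (BT.leaf (nat_lit 678708))) (BT.node (nat_lit 4504710) (BT.leaf (nat_lit 737292)) (BT.leaf (nat_lit 697928)))) (BT.node (nat_lit 4504963) (BT.node (nat_lit 4504962) (BT.leaf (nat_lit 697928)) (BT.leaf (nat_lit 693604))) (BT.node (nat_lit 4504967) (BT.leaf (nat_lit 693604)) (BT.leaf (nat_lit 693604))))) (BT.node (nat_lit 4505350) (BT.node (nat_lit 4505218) (BT.node (nat_lit 4505156) (BT.leaf (nat_lit 737128)) (BT.leaf (nat_lit 684608))) (BT.node (nat_lit 4505220) (BT.leaf (nat_lit 712304)) (BT.leaf (nat_lit 712304)))) (BT.node (nat_lit 4505410) (BT.node (nat_lit 4505351) (BT.leaf (nat_lit 657752)) (BT.leaf (nat_lit 657752))) (BT.node (nat_lit 4505411) (BT.leaf (nat_lit 630664)) (BT.leaf (nat_lit 630664))))))))) (BT.node (nat_lit 4506817) (BT.node (nat_lit 4506309) (BT.node (nat_lit 4505986) (BT.node (nat_lit 4505670) (BT.node (nat_lit 4505606) (BT.node (nat_lit 4505541) (BT.node (nat_lit 4505415) (BT.leaf (nat_lit 643296)) (BT.leaf (nat_lit 643296))) (BT.node (nat_lit 4505605) (BT.leaf (nat_lit 673916)) (BT.leaf (nat_lit 630444)))) (BT.node (nat_lit 4505665) (BT.node (nat_lit 4505607) (BT.leaf (nat_lit 659372)) (BT.leaf (nat_lit 659372))) (BT.node (nat_lit 4505669) (BT.leaf (nat_lit 628060)) (BT.leaf (nat_lit 628060))))) (BT.node (nat_lit 4505921) (BT.node (nat_lit 4505797) (BT.node (nat_lit 4505794) (BT.leaf (nat_lit 628060)) (BT.leaf (nat_lit 716736))) (BT.node (nat_lit 4505857) (BT.leaf (nat_lit 650224)) (BT.leaf (nat_lit 707064)))) (BT.node (nat_lit 4505928) (BT.node (nat_lit 4505924) (BT.leaf (nat_lit 657744)) (BT.leaf (nat_lit 657744))) (BT.node (nat_lit 4505985) (BT.leaf (nat_lit 657744)) (BT.leaf (nat_lit 757264)))))) (BT.node (nat_lit 4506241) (BT.node (nat_lit 4506113) (BT.node (nat_lit 4505990) (BT.node (nat_lit 4505987) (BT.leaf (nat_lit 649336)) (BT.leaf (nat_lit 649336))) (BT.node (nat_lit 4505991) (BT.leaf (nat_lit 649336)) (BT.leaf (nat_lit 673148)))) (BT.node (nat_lit 4506177) (BT.node (nat_lit 4506117) (BT.leaf (nat_lit 685080)) (BT.leaf (nat_lit 685080))) (BT.node (nat_lit 4506184) (BT.leaf (nat_lit 651424)) (BT.leaf (nat_lit 651424))))) (BT.node (nat_lit 4506247) (BT.node (nat_lit 4506245) (BT.node (nat_lit 4506244) (BT.leaf (nat_lit 682808)) (BT.leaf (nat_lit 638412))) (BT.node (nat_lit 4506246) (BT.leaf (nat_lit 682808)) (BT.leaf (nat_lit 651356)))) (BT.node (nat_lit 4506306) (BT.node (nat_lit 4506305) (BT.leaf (nat_lit 651356)) (BT.leaf (nat_lit 686072))) (BT.node (nat_lit 4506307) (BT.leaf (nat_lit 686072)) (BT.leaf (nat_lit 686072))))))) (BT.node (nat_lit 4506566) (BT.node (nat_lit 4506435) (BT.node (nat_lit 4506369) (BT.node (nat_lit 4506311) (BT.node (nat_lit 4506310) (BT.leaf (nat_lit 686072)) (BT.leaf (nat_lit 686072))) (BT.node (nat_lit 4506312) (BT.leaf (nat_lit 686072)) (BT.leaf (nat_lit 777832)))) (BT.node (nat_lit 4506371) (BT.node (nat_lit 4506370) (BT.leaf (nat_lit 696680)) (BT.leaf (nat_lit 696680))) (BT.node (nat_lit 4506434) (BT.leaf (nat_lit 696680)) (BT.leaf (nat_lit 792556))))) (BT.node (nat_lit 4506497) (BT.node (nat_lit 4506439) (BT.node (nat_lit 4506438) (BT.leaf (nat_lit 792556)) (BT.leaf (nat_lit 792556))) (BT.node (nat_lit 4506440) (BT.leaf (nat_lit 792556)) (BT.leaf (nat_lit 667612)))) (BT.node (nat_lit 4506562) (BT.node (nat_lit 4506561) (BT.leaf (nat_lit 649384)) (BT.leaf (nat_lit 690504))) (BT.node (nat_lit 4506563) (BT.leaf (nat_lit 690504)) (BT.leaf (nat_lit 690504)))))) (BT.node (nat_lit 4506690) (BT.node (nat_lit 4506626) (BT.node (nat_lit 4506568) (BT.node (nat_lit 4506567) (BT.leaf (nat_lit 690504)) (BT.leaf (nat_lit 690504))) (BT.node (nat_lit 4506625) (BT.leaf (nat_lit 690504)) (BT.leaf (nat_lit 710920)))) (BT.node (nat_lit 4506630) (BT.node (nat_lit 4506627) (BT.leaf (nat_lit 710920)) (BT.leaf (nat_lit 710920))) (BT.node (nat_lit 4506631) (BT.leaf (nat_lit 710920)) (BT.leaf (nat_lit 710920))))) (BT.node (nat_lit 4506695) (BT.node (nat_lit 4506693) (BT.node (nat_lit 4506691) (BT.leaf (nat_lit 706104)) (BT.leaf (nat_lit 706104))) (BT.node (nat_lit 4506694) (BT.leaf (nat_lit 720252)) (BT.leaf (nat_lit 706104)))) (BT.node (nat_lit 4506755) (BT.node (nat_lit 4506754) (BT.leaf (nat_lit 706104)) (BT.leaf (nat_lit 710896))) (BT.node (nat_lit 4506760) (BT.leaf (nat_lit 710896)) (BT.leaf (nat_lit 710896)))))))) (BT.node (nat_lit 4507846) (BT.node (nat_lit 4507396) (BT.node (nat_lit 4507078) (BT.node (nat_lit 4506949) (BT.node (nat_lit 4506881) (BT.node (nat_lit 4506820) (BT.leaf (nat_lit 709864)) (BT.leaf (nat_lit 709864))) (BT.node (nat_lit 4506884) (BT.leaf (nat_lit 714772)) (BT.leaf (nat_lit 714772)))) (BT.node (nat_lit 4507016) (BT.node (nat_lit 4507012) (BT.leaf (nat_lit 627756)) (BT.leaf (nat_lit 627768))) (BT.node (nat_lit 4507077) (BT.leaf (nat_lit 627768)) (BT.leaf (nat_lit 692244))))) (BT.node (nat_lit 4507208) (BT.node (nat_lit 4507080) (BT.node (nat_lit 4507079) (BT.leaf (nat_lit 692244)) (BT.leaf (nat_lit 692244))) (BT.node (nat_lit 4507137) (BT.leaf (nat_lit 692244)) (BT.leaf (nat_lit 719968)))) (BT.node (nat_lit 4507334) (BT.node (nat_lit 4507330) (BT.leaf (nat_lit 790368)) (BT.leaf (nat_lit 630160))) (BT.node (nat_lit 4507335) (BT.leaf (nat_lit 630160)) (BT.leaf (nat_lit 630160)))))) (BT.node (nat_lit 4507650) (BT.node (nat_lit 4507585) (BT.node (nat_lit 4507524) (BT.node (nat_lit 4507460) (BT.leaf (nat_lit 710448)) (BT.leaf (nat_lit 643236))) (BT.node (nat_lit 4507526) (BT.leaf (nat_lit 691336)) (BT.leaf (nat_lit 643188)))) (BT.node (nat_lit 4507592) (BT.node (nat_lit 4507589) (BT.leaf (nat_lit 795496)) (BT.leaf (nat_lit 650980))) (BT.node (nat_lit 4507649) (BT.leaf (nat_lit 795496)) (BT.leaf (nat_lit 682748))))) (BT.node (nat_lit 4507655) (BT.node (nat_lit 4507652) (BT.node (nat_lit 4507651) (BT.leaf (nat_lit 682748)) (BT.leaf (nat_lit 682748))) (BT.node (nat_lit 4507654) (BT.leaf (nat_lit 682748)) (BT.leaf (nat_lit 682748)))) (BT.node (nat_lit 4507843) (BT.node (nat_lit 4507656) (BT.leaf (nat_lit 682748)) (BT.leaf (nat_lit 682748))) (BT.node (nat_lit 4507845) (BT.leaf (nat_lit 711648)) (BT.leaf (nat_lit 680204))))))) (BT.node (nat_lit 4508292) (BT.node (nat_lit 4508038) (BT.node (nat_lit 4507971) (BT.node (nat_lit 4507969) (BT.node (nat_lit 4507847) (BT.leaf (nat_lit 711648)) (BT.leaf (nat_lit 711648))) (BT.node (nat_lit 4507970) (BT.leaf (nat_lit 678596)) (BT.leaf (nat_lit 678596)))) (BT.node (nat_lit 4507975) (BT.node (nat_lit 4507974) (BT.leaf (nat_lit 695776)) (BT.leaf (nat_lit 678596))) (BT.node (nat_lit 4508037) (BT.leaf (nat_lit 678596)) (BT.leaf (nat_lit 711564))))) (BT.node (nat_lit 4508166) (BT.node (nat_lit 4508098) (BT.node (nat_lit 4508039) (BT.leaf (nat_lit 706744)) (BT.leaf (nat_lit 706744))) (BT.node (nat_lit 4508101) (BT.leaf (nat_lit 678604)) (BT.leaf (nat_lit 678604)))) (BT.node (nat_lit 4508228) (BT.node (nat_lit 4508167) (BT.leaf (nat_lit 667176)) (BT.leaf (nat_lit 667176))) (BT.node (nat_lit 4508232) (BT.leaf (nat_lit 694344)) (BT.leaf (nat_lit 694344)))))) (BT.node (nat_lit 4508419) (BT.node (nat_lit 4508356) (BT.node (nat_lit 4508296) (BT.node (nat_lit 4508293) (BT.leaf (nat_lit 657028)) (BT.leaf (nat_lit 657028))) (BT.node (nat_lit 4508354) (BT.leaf (nat_lit 708916)) (BT.leaf (nat_lit 661428)))) (BT.node (nat_lit 4508360) (BT.node (nat_lit 4508359) (BT.leaf (nat_lit 661428)) (BT.leaf (nat_lit 657980))) (BT.node (nat_lit 4508418) (BT.leaf (nat_lit 661428)) (BT.leaf (nat_lit 710688))))) (BT.node (nat_lit 4508738) (BT.node (nat_lit 4508674) (BT.node (nat_lit 4508420) (BT.leaf (nat_lit 710688)) (BT.leaf (nat_lit 671624))) (BT.node (nat_lit 4508680) (BT.leaf (nat_lit 787344)) (BT.leaf (nat_lit 812132)))) (BT.node (nat_lit 4508742) (BT.node (nat_lit 4508739) (BT.leaf (nat_lit 642720)) (BT.leaf (nat_lit 642720))) (BT.node (nat_lit 4508743) (BT.leaf (nat_lit 642720)) (BT.leaf (nat_lit 642720)))))))))))))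
noncomputable def big0_e8192 : BT Nat := (BT.node (nat_lit 4539265) (BT.node (nat_lit 4526146) (BT.node (nat_lit 4517253) (BT.node (nat_lit 4512327) (BT.node (nat_lit 4510469) (BT.node (nat_lit 4509441) (BT.node (nat_lit 4508999) (BT.node (nat_lit 4508933) (BT.node (nat_lit 4508807) (BT.node (nat_lit 4508804) (BT.node (nat_lit 4508802) (BT.leaf (nat_lit 665100)) (BT.leaf (nat_lit 716604))) (BT.node (nat_lit 4508806) (BT.leaf (nat_lit 716604)) (BT.leaf (nat_lit 716604)))) (BT.node (nat_lit 4508865) (BT.node (nat_lit 4508808) (BT.leaf (nat_lit 716604)) (BT.leaf (nat_lit 716604))) (BT.node (nat_lit 4508868) (BT.leaf (nat_lit 673428)) (BT.leaf (nat_lit 673428))))) (BT.node (nat_lit 4508994) (BT.node (nat_lit 4508935) (BT.node (nat_lit 4508934) (BT.leaf (nat_lit 628892)) (BT.leaf (nat_lit 628892))) (BT.node (nat_lit 4508993) (BT.leaf (nat_lit 628892)) (BT.leaf (nat_lit 666128)))) (BT.node (nat_lit 4508996) (BT.node (nat_lit 4508995) (BT.leaf (nat_lit 666128)) (BT.leaf (nat_lit 666128))) (BT.node (nat_lit 4508998) (BT.leaf (nat_lit 666008)) (BT.leaf (nat_lit 666128)))))) (BT.node (nat_lit 4509125) (BT.node (nat_lit 4509062) (BT.node (nat_lit 4509058) (BT.node (nat_lit 4509000) (BT.leaf (nat_lit 666128)) (BT.leaf (nat_lit 693768))) (BT.node (nat_lit 4509059) (BT.leaf (nat_lit 661908)) (BT.leaf (nat_lit 661908)))) (BT.node (nat_lit 4509121) (BT.node (nat_lit 4509063) (BT.leaf (nat_lit 661908)) (BT.leaf (nat_lit 661908))) (BT.node (nat_lit 4509124) (BT.leaf (nat_lit 653236)) (BT.leaf (nat_lit 653236))))) (BT.node (nat_lit 4509318) (BT.node (nat_lit 4509314) (BT.node (nat_lit 4509253) (BT.leaf (nat_lit 653236)) (BT.leaf (nat_lit 695768))) (BT.node (nat_lit 4509315) (BT.leaf (nat_lit 691424)) (BT.leaf (nat_lit 691424)))) (BT.node (nat_lit 4509380) (BT.node (nat_lit 4509319) (BT.leaf (nat_lit 691424)) (BT.leaf (nat_lit 691424))) (BT.node (nat_lit 4509381) (BT.leaf (nat_lit 691460)) (BT.leaf (nat_lit 706672))))))) (BT.node (nat_lit 4510081) (BT.node (nat_lit 4509827) (BT.node (nat_lit 4509701) (BT.node (nat_lit 4509698) (BT.node (nat_lit 4509448) (BT.leaf (nat_lit 628988)) (BT.leaf (nat_lit 628988))) (BT.node (nat_lit 4509699) (BT.leaf (nat_lit 655344)) (BT.leaf (nat_lit 655344)))) (BT.node (nat_lit 4509825) (BT.node (nat_lit 4509704) (BT.leaf (nat_lit 662644)) (BT.leaf (nat_lit 655344))) (BT.node (nat_lit 4509826) (BT.leaf (nat_lit 694488)) (BT.leaf (nat_lit 694488))))) (BT.node (nat_lit 4509891) (BT.node (nat_lit 4509829) (BT.node (nat_lit 4509828) (BT.leaf (nat_lit 694488)) (BT.leaf (nat_lit 694488))) (BT.node (nat_lit 4509890) (BT.leaf (nat_lit 694488)) (BT.leaf (nat_lit 694288)))) (BT.node (nat_lit 4510017) (BT.node (nat_lit 4509893) (BT.leaf (nat_lit 694288)) (BT.leaf (nat_lit 694288))) (BT.node (nat_lit 4510024) (BT.leaf (nat_lit 667108)) (BT.leaf (nat_lit 667108)))))) (BT.node (nat_lit 4510279) (BT.node (nat_lit 4510213) (BT.node (nat_lit 4510148) (BT.node (nat_lit 4510085) (BT.leaf (nat_lit 777468)) (BT.leaf (nat_lit 777468))) (BT.node (nat_lit 4510209) (BT.leaf (nat_lit 627268)) (BT.leaf (nat_lit 777472)))) (BT.node (nat_lit 4510274) (BT.node (nat_lit 4510214) (BT.leaf (nat_lit 648876)) (BT.leaf (nat_lit 777472))) (BT.node (nat_lit 4510278) (BT.leaf (nat_lit 696032)) (BT.leaf (nat_lit 696032))))) (BT.node (nat_lit 4510344) (BT.node (nat_lit 4510338) (BT.node (nat_lit 4510280) (BT.leaf (nat_lit 696032)) (BT.leaf (nat_lit 777476))) (BT.node (nat_lit 4510341) (BT.leaf (nat_lit 722924)) (BT.leaf (nat_lit 653012)))) (BT.node (nat_lit 4510466) (BT.node (nat_lit 4510465) (BT.leaf (nat_lit 711524)) (BT.leaf (nat_lit 777480))) (BT.node (nat_lit 4510467) (BT.leaf (nat_lit 655156)) (BT.leaf (nat_lit 777480)))))))) (BT.node (nat_lit 4511365) (BT.node (nat_lit 4510917) (BT.node (nat_lit 4510658) (BT.node (nat_lit 4510536) (BT.node (nat_lit 4510530) (BT.node (nat_lit 4510529) (BT.leaf (nat_lit 692748)) (BT.leaf (nat_lit 640580))) (BT.node (nat_lit 4510532) (BT.leaf (nat_lit 640580)) (BT.leaf (nat_lit 640580)))) (BT.node (nat_lit 4510594) (BT.node (nat_lit 4510593) (BT.leaf (nat_lit 798660)) (BT.leaf (nat_lit 673416))) (BT.node (nat_lit 4510657) (BT.leaf (nat_lit 673416)) (BT.leaf (nat_lit 678600))))) (BT.node (nat_lit 4510724) (BT.node (nat_lit 4510664) (BT.node (nat_lit 4510659) (BT.leaf (nat_lit 695764)) (BT.leaf (nat_lit 695764))) (BT.node (nat_lit 4510721) (BT.leaf (nat_lit 678600)) (BT.leaf (nat_lit 627416)))) (BT.node (nat_lit 4510913) (BT.node (nat_lit 4510725) (BT.leaf (nat_lit 627416)) (BT.leaf (nat_lit 695788))) (BT.node (nat_lit 4510914) (BT.leaf (nat_lit 701780)) (BT.leaf (nat_lit 701780)))))) (BT.node (nat_lit 4511169) (BT.node (nat_lit 4511108) (BT.node (nat_lit 4511045) (BT.node (nat_lit 4510983) (BT.leaf (nat_lit 701780)) (BT.leaf (nat_lit 653960))) (BT.node (nat_lit 4511105) (BT.leaf (nat_lit 701984)) (BT.leaf (nat_lit 813136)))) (BT.node (nat_lit 4511110) (BT.node (nat_lit 4511109) (BT.leaf (nat_lit 718068)) (BT.leaf (nat_lit 813136))) (BT.node (nat_lit 4511111) (BT.leaf (nat_lit 813136)) (BT.leaf (nat_lit 813136))))) (BT.node (nat_lit 4511235) (BT.node (nat_lit 4511171) (BT.node (nat_lit 4511170) (BT.leaf (nat_lit 723224)) (BT.leaf (nat_lit 723224))) (BT.node (nat_lit 4511173) (BT.leaf (nat_lit 723224)) (BT.leaf (nat_lit 723224)))) (BT.node (nat_lit 4511301) (BT.node (nat_lit 4511237) (BT.leaf (nat_lit 815552)) (BT.leaf (nat_lit 636524))) (BT.node (nat_lit 4511302) (BT.leaf (nat_lit 666180)) (BT.leaf (nat_lit 700308))))))) (BT.node (nat_lit 4511938) (BT.node (nat_lit 4511624) (BT.node (nat_lit 4511495) (BT.node (nat_lit 4511429) (BT.node (nat_lit 4511428) (BT.leaf (nat_lit 771468)) (BT.leaf (nat_lit 644280))) (BT.node (nat_lit 4511493) (BT.leaf (nat_lit 644280)) (BT.leaf (nat_lit 692392)))) (BT.node (nat_lit 4511619) (BT.node (nat_lit 4511618) (BT.leaf (nat_lit 692392)) (BT.leaf (nat_lit 639764))) (BT.node (nat_lit 4511623) (BT.leaf (nat_lit 639764)) (BT.leaf (nat_lit 639764))))) (BT.node (nat_lit 4511809) (BT.node (nat_lit 4511684) (BT.node (nat_lit 4511681) (BT.leaf (nat_lit 749420)) (BT.leaf (nat_lit 686028))) (BT.node (nat_lit 4511685) (BT.leaf (nat_lit 656164)) (BT.leaf (nat_lit 686028)))) (BT.node (nat_lit 4511815) (BT.node (nat_lit 4511814) (BT.leaf (nat_lit 649468)) (BT.leaf (nat_lit 714600))) (BT.node (nat_lit 4511875) (BT.leaf (nat_lit 714600)) (BT.leaf (nat_lit 649472)))))) (BT.node (nat_lit 4512198) (BT.node (nat_lit 4511943) (BT.node (nat_lit 4511940) (BT.node (nat_lit 4511939) (BT.leaf (nat_lit 679700)) (BT.leaf (nat_lit 679700))) (BT.node (nat_lit 4511942) (BT.leaf (nat_lit 679700)) (BT.leaf (nat_lit 716808)))) (BT.node (nat_lit 4512004) (BT.node (nat_lit 4512003) (BT.leaf (nat_lit 716808)) (BT.leaf (nat_lit 714588))) (BT.node (nat_lit 4512135) (BT.leaf (nat_lit 686540)) (BT.leaf (nat_lit 702960))))) (BT.node (nat_lit 4512263) (BT.node (nat_lit 4512261) (BT.node (nat_lit 4512199) (BT.leaf (nat_lit 712880)) (BT.leaf (nat_lit 712880))) (BT.node (nat_lit 4512262) (BT.leaf (nat_lit 661868)) (BT.leaf (nat_lit 714788)))) (BT.node (nat_lit 4512324) (BT.node (nat_lit 4512323) (BT.leaf (nat_lit 714788)) (BT.leaf (nat_lit 721248))) (BT.node (nat_lit 4512326) (BT.leaf (nat_lit 721252)) (BT.leaf (nat_lit 721248))))))))) (BT.node (nat_lit 4514948) (BT.node (nat_lit 4513476) (BT.node (nat_lit 4512964) (BT.node (nat_lit 4512708) (BT.node (nat_lit 4512581) (BT.node (nat_lit 4512391) (BT.node (nat_lit 4512389) (BT.leaf (nat_lit 721248)) (BT.leaf (nat_lit 697632))) (BT.node (nat_lit 4512577) (BT.leaf (nat_lit 697632)) (BT.leaf (nat_lit 796400)))) (BT.node (nat_lit 4512706) (BT.node (nat_lit 4512705) (BT.leaf (nat_lit 718872)) (BT.leaf (nat_lit 630208))) (BT.node (nat_lit 4512707) (BT.leaf (nat_lit 630208)) (BT.leaf (nat_lit 630208))))) (BT.node (nat_lit 4512901) (BT.node (nat_lit 4512711) (BT.node (nat_lit 4512710) (BT.leaf (nat_lit 630208)) (BT.leaf (nat_lit 630208))) (BT.node (nat_lit 4512837) (BT.leaf (nat_lit 630208)) (BT.leaf (nat_lit 655100)))) (BT.node (nat_lit 4512961) (BT.node (nat_lit 4512903) (BT.leaf (nat_lit 645948)) (BT.leaf (nat_lit 645948))) (BT.node (nat_lit 4512962) (BT.leaf (nat_lit 672452)) (BT.leaf (nat_lit 672452)))))) (BT.node (nat_lit 4513095) (BT.node (nat_lit 4513029) (BT.node (nat_lit 4512967) (BT.node (nat_lit 4512966) (BT.leaf (nat_lit 645960)) (BT.leaf (nat_lit 672452))) (BT.node (nat_lit 4513026) (BT.leaf (nat_lit 672452)) (BT.leaf (nat_lit 677980)))) (BT.node (nat_lit 4513091) (BT.node (nat_lit 4513090) (BT.leaf (nat_lit 677980)) (BT.leaf (nat_lit 688752))) (BT.node (nat_lit 4513094) (BT.leaf (nat_lit 688752)) (BT.leaf (nat_lit 635540))))) (BT.node (nat_lit 4513412) (BT.node (nat_lit 4513285) (BT.node (nat_lit 4513284) (BT.leaf (nat_lit 635996)) (BT.leaf (nat_lit 673240))) (BT.node (nat_lit 4513411) (BT.leaf (nat_lit 673240)) (BT.leaf (nat_lit 643152)))) (BT.node (nat_lit 4513474) (BT.node (nat_lit 4513413) (BT.leaf (nat_lit 643152)) (BT.leaf (nat_lit 643152))) (BT.node (nat_lit 4513475) (BT.leaf (nat_lit 678776)) (BT.leaf (nat_lit 678776))))))) (BT.node (nat_lit 4514440) (BT.node (nat_lit 4513797) (BT.node (nat_lit 4513602) (BT.node (nat_lit 4513479) (BT.node (nat_lit 4513478) (BT.leaf (nat_lit 672784)) (BT.leaf (nat_lit 678776))) (BT.node (nat_lit 4513480) (BT.leaf (nat_lit 672784)) (BT.leaf (nat_lit 704920)))) (BT.node (nat_lit 4513606) (BT.node (nat_lit 4513603) (BT.leaf (nat_lit 655612)) (BT.leaf (nat_lit 655612))) (BT.node (nat_lit 4513607) (BT.leaf (nat_lit 655612)) (BT.leaf (nat_lit 655612))))) (BT.node (nat_lit 4514374) (BT.node (nat_lit 4514181) (BT.node (nat_lit 4514114) (BT.leaf (nat_lit 654460)) (BT.leaf (nat_lit 707044))) (BT.node (nat_lit 4514183) (BT.leaf (nat_lit 682480)) (BT.leaf (nat_lit 655572)))) (BT.node (nat_lit 4514437) (BT.node (nat_lit 4514375) (BT.leaf (nat_lit 697096)) (BT.leaf (nat_lit 697096))) (BT.node (nat_lit 4514439) (BT.leaf (nat_lit 665708)) (BT.leaf (nat_lit 711080)))))) (BT.node (nat_lit 4514689) (BT.node (nat_lit 4514627) (BT.node (nat_lit 4514504) (BT.node (nat_lit 4514498) (BT.leaf (nat_lit 665708)) (BT.leaf (nat_lit 710964))) (BT.node (nat_lit 4514625) (BT.leaf (nat_lit 710964)) (BT.leaf (nat_lit 701016)))) (BT.node (nat_lit 4514630) (BT.node (nat_lit 4514629) (BT.leaf (nat_lit 701016)) (BT.leaf (nat_lit 701016))) (BT.node (nat_lit 4514631) (BT.leaf (nat_lit 701016)) (BT.leaf (nat_lit 701016))))) (BT.node (nat_lit 4514821) (BT.node (nat_lit 4514758) (BT.node (nat_lit 4514757) (BT.leaf (nat_lit 765932)) (BT.leaf (nat_lit 683260))) (BT.node (nat_lit 4514759) (BT.leaf (nat_lit 712788)) (BT.leaf (nat_lit 712788)))) (BT.node (nat_lit 4514823) (BT.node (nat_lit 4514822) (BT.leaf (nat_lit 632916)) (BT.leaf (nat_lit 632916))) (BT.node (nat_lit 4514885) (BT.leaf (nat_lit 632916)) (BT.leaf (nat_lit 630676)))))))) (BT.node (nat_lit 4516098) (BT.node (nat_lit 4515588) (BT.node (nat_lit 4515140) (BT.node (nat_lit 4515015) (BT.node (nat_lit 4515013) (BT.node (nat_lit 4515010) (BT.leaf (nat_lit 665600)) (BT.leaf (nat_lit 653204))) (BT.node (nat_lit 4515014) (BT.leaf (nat_lit 675272)) (BT.leaf (nat_lit 653204)))) (BT.node (nat_lit 4515138) (BT.node (nat_lit 4515076) (BT.leaf (nat_lit 653204)) (BT.leaf (nat_lit 675276))) (BT.node (nat_lit 4515139) (BT.leaf (nat_lit 714320)) (BT.leaf (nat_lit 714320))))) (BT.node (nat_lit 4515397) (BT.node (nat_lit 4515205) (BT.node (nat_lit 4515204) (BT.leaf (nat_lit 704012)) (BT.leaf (nat_lit 667036))) (BT.node (nat_lit 4515396) (BT.leaf (nat_lit 667036)) (BT.leaf (nat_lit 673160)))) (BT.node (nat_lit 4515528) (BT.node (nat_lit 4515463) (BT.leaf (nat_lit 670228)) (BT.leaf (nat_lit 705216))) (BT.node (nat_lit 4515587) (BT.leaf (nat_lit 685892)) (BT.leaf (nat_lit 699060)))))) (BT.node (nat_lit 4515841) (BT.node (nat_lit 4515714) (BT.node (nat_lit 4515591) (BT.node (nat_lit 4515590) (BT.leaf (nat_lit 699060)) (BT.leaf (nat_lit 693156))) (BT.node (nat_lit 4515652) (BT.leaf (nat_lit 693156)) (BT.leaf (nat_lit 775004)))) (BT.node (nat_lit 4515718) (BT.node (nat_lit 4515715) (BT.leaf (nat_lit 709044)) (BT.leaf (nat_lit 709044))) (BT.node (nat_lit 4515720) (BT.leaf (nat_lit 709044)) (BT.leaf (nat_lit 709044))))) (BT.node (nat_lit 4515976) (BT.node (nat_lit 4515973) (BT.node (nat_lit 4515842) (BT.leaf (nat_lit 697176)) (BT.leaf (nat_lit 697176))) (BT.node (nat_lit 4515975) (BT.leaf (nat_lit 640032)) (BT.leaf (nat_lit 769920)))) (BT.node (nat_lit 4516035) (BT.node (nat_lit 4516034) (BT.leaf (nat_lit 640032)) (BT.leaf (nat_lit 662048))) (BT.node (nat_lit 4516040) (BT.leaf (nat_lit 662048)) (BT.leaf (nat_lit 662048))))))) (BT.node (nat_lit 4516482) (BT.node (nat_lit 4516227) (BT.node (nat_lit 4516161) (BT.node (nat_lit 4516102) (BT.node (nat_lit 4516099) (BT.leaf (nat_lit 660176)) (BT.leaf (nat_lit 660176))) (BT.node (nat_lit 4516103) (BT.leaf (nat_lit 660176)) (BT.leaf (nat_lit 660176)))) (BT.node (nat_lit 4516167) (BT.node (nat_lit 4516166) (BT.leaf (nat_lit 776872)) (BT.leaf (nat_lit 771064))) (BT.node (nat_lit 4516226) (BT.leaf (nat_lit 771064)) (BT.leaf (nat_lit 643628))))) (BT.node (nat_lit 4516293) (BT.node (nat_lit 4516231) (BT.node (nat_lit 4516230) (BT.leaf (nat_lit 643628)) (BT.leaf (nat_lit 643628))) (BT.node (nat_lit 4516232) (BT.leaf (nat_lit 643628)) (BT.leaf (nat_lit 643628)))) (BT.node (nat_lit 4516358) (BT.node (nat_lit 4516357) (BT.leaf (nat_lit 711828)) (BT.leaf (nat_lit 640312))) (BT.node (nat_lit 4516359) (BT.leaf (nat_lit 775980)) (BT.leaf (nat_lit 775980)))))) (BT.node (nat_lit 4516801) (BT.node (nat_lit 4516678) (BT.node (nat_lit 4516613) (BT.node (nat_lit 4516484) (BT.leaf (nat_lit 658616)) (BT.leaf (nat_lit 658616))) (BT.node (nat_lit 4516675) (BT.leaf (nat_lit 643356)) (BT.leaf (nat_lit 712996)))) (BT.node (nat_lit 4516738) (BT.node (nat_lit 4516679) (BT.leaf (nat_lit 712996)) (BT.leaf (nat_lit 712996))) (BT.node (nat_lit 4516740) (BT.leaf (nat_lit 637980)) (BT.leaf (nat_lit 753264))))) (BT.node (nat_lit 4517121) (BT.node (nat_lit 4516995) (BT.node (nat_lit 4516870) (BT.leaf (nat_lit 789116)) (BT.leaf (nat_lit 657616))) (BT.node (nat_lit 4516996) (BT.leaf (nat_lit 658984)) (BT.leaf (nat_lit 658984)))) (BT.node (nat_lit 4517123) (BT.node (nat_lit 4517122) (BT.leaf (nat_lit 629348)) (BT.leaf (nat_lit 629348))) (BT.node (nat_lit 4517250) (BT.leaf (nat_lit 629348)) (BT.leaf (nat_lit 649428)))))))))) (BT.node (nat_lit 4522180) (BT.node (nat_lit 4519873) (BT.node (nat_lit 4518468) (BT.node (nat_lit 4517763) (BT.node (nat_lit 4517446) (BT.node (nat_lit 4517319) (BT.node (nat_lit 4517314) (BT.node (nat_lit 4517256) (BT.leaf (nat_lit 649428)) (BT.leaf (nat_lit 649428))) (BT.node (nat_lit 4517318) (BT.leaf (nat_lit 785104)) (BT.leaf (nat_lit 785104)))) (BT.node (nat_lit 4517382) (BT.node (nat_lit 4517381) (BT.leaf (nat_lit 785104)) (BT.leaf (nat_lit 667628))) (BT.node (nat_lit 4517383) (BT.leaf (nat_lit 667628)) (BT.leaf (nat_lit 667628))))) (BT.node (nat_lit 4517702) (BT.node (nat_lit 4517638) (BT.node (nat_lit 4517448) (BT.leaf (nat_lit 718632)) (BT.leaf (nat_lit 718632))) (BT.node (nat_lit 4517701) (BT.leaf (nat_lit 764696)) (BT.leaf (nat_lit 713932)))) (BT.node (nat_lit 4517761) (BT.node (nat_lit 4517703) (BT.leaf (nat_lit 713932)) (BT.leaf (nat_lit 713932))) (BT.node (nat_lit 4517762) (BT.leaf (nat_lit 704128)) (BT.leaf (nat_lit 704128)))))) (BT.node (nat_lit 4518019) (BT.node (nat_lit 4517953) (BT.node (nat_lit 4517765) (BT.node (nat_lit 4517764) (BT.leaf (nat_lit 704128)) (BT.leaf (nat_lit 704128))) (BT.node (nat_lit 4517889) (BT.leaf (nat_lit 704128)) (BT.leaf (nat_lit 764640)))) (BT.node (nat_lit 4517956) (BT.node (nat_lit 4517955) (BT.leaf (nat_lit 685772)) (BT.leaf (nat_lit 685772))) (BT.node (nat_lit 4518018) (BT.leaf (nat_lit 662996)) (BT.leaf (nat_lit 663384))))) (BT.node (nat_lit 4518214) (BT.node (nat_lit 4518210) (BT.node (nat_lit 4518149) (BT.leaf (nat_lit 663384)) (BT.leaf (nat_lit 651996))) (BT.node (nat_lit 4518211) (BT.leaf (nat_lit 759032)) (BT.leaf (nat_lit 759032)))) (BT.node (nat_lit 4518406) (BT.node (nat_lit 4518215) (BT.leaf (nat_lit 680664)) (BT.leaf (nat_lit 680664))) (BT.node (nat_lit 4518407) (BT.leaf (nat_lit 644900)) (BT.leaf (nat_lit 644900))))))) (BT.node (nat_lit 4519173) (BT.node (nat_lit 4518664) (BT.node (nat_lit 4518595) (BT.node (nat_lit 4518593) (BT.node (nat_lit 4518472) (BT.leaf (nat_lit 721132)) (BT.leaf (nat_lit 687416))) (BT.node (nat_lit 4518594) (BT.leaf (nat_lit 688060)) (BT.leaf (nat_lit 721128)))) (BT.node (nat_lit 4518599) (BT.node (nat_lit 4518598) (BT.leaf (nat_lit 721128)) (BT.leaf (nat_lit 721128))) (BT.node (nat_lit 4518660) (BT.leaf (nat_lit 688060)) (BT.leaf (nat_lit 660848))))) (BT.node (nat_lit 4518789) (BT.node (nat_lit 4518724) (BT.node (nat_lit 4518722) (BT.leaf (nat_lit 660848)) (BT.leaf (nat_lit 720712))) (BT.node (nat_lit 4518727) (BT.leaf (nat_lit 691184)) (BT.leaf (nat_lit 720712)))) (BT.node (nat_lit 4519045) (BT.node (nat_lit 4519041) (BT.leaf (nat_lit 691188)) (BT.leaf (nat_lit 689028))) (BT.node (nat_lit 4519109) (BT.leaf (nat_lit 689028)) (BT.leaf (nat_lit 647420)))))) (BT.node (nat_lit 4519619) (BT.node (nat_lit 4519428) (BT.node (nat_lit 4519304) (BT.node (nat_lit 4519174) (BT.leaf (nat_lit 670708)) (BT.leaf (nat_lit 670708))) (BT.node (nat_lit 4519367) (BT.leaf (nat_lit 700220)) (BT.leaf (nat_lit 662632)))) (BT.node (nat_lit 4519493) (BT.node (nat_lit 4519492) (BT.leaf (nat_lit 697208)) (BT.leaf (nat_lit 713700))) (BT.node (nat_lit 4519556) (BT.leaf (nat_lit 713700)) (BT.leaf (nat_lit 761560))))) (BT.node (nat_lit 4519809) (BT.node (nat_lit 4519683) (BT.node (nat_lit 4519620) (BT.leaf (nat_lit 708888)) (BT.leaf (nat_lit 708888))) (BT.node (nat_lit 4519684) (BT.leaf (nat_lit 713472)) (BT.leaf (nat_lit 713472)))) (BT.node (nat_lit 4519814) (BT.node (nat_lit 4519813) (BT.leaf (nat_lit 723516)) (BT.leaf (nat_lit 723516))) (BT.node (nat_lit 4519815) (BT.leaf (nat_lit 723516)) (BT.leaf (nat_lit 723516)))))))) (BT.node (nat_lit 4521281) (BT.node (nat_lit 4520260) (BT.node (nat_lit 4520003) (BT.node (nat_lit 4519880) (BT.node (nat_lit 4519878) (BT.node (nat_lit 4519877) (BT.leaf (nat_lit 646568)) (BT.leaf (nat_lit 646568))) (BT.node (nat_lit 4519879) (BT.leaf (nat_lit 646568)) (BT.leaf (nat_lit 646568)))) (BT.node (nat_lit 4520001) (BT.node (nat_lit 4519941) (BT.leaf (nat_lit 646568)) (BT.leaf (nat_lit 696744))) (BT.node (nat_lit 4520002) (BT.leaf (nat_lit 651852)) (BT.leaf (nat_lit 651852))))) (BT.node (nat_lit 4520129) (BT.node (nat_lit 4520007) (BT.node (nat_lit 4520006) (BT.leaf (nat_lit 651852)) (BT.leaf (nat_lit 643376))) (BT.node (nat_lit 4520069) (BT.leaf (nat_lit 643376)) (BT.leaf (nat_lit 675604)))) (BT.node (nat_lit 4520194) (BT.node (nat_lit 4520132) (BT.leaf (nat_lit 711668)) (BT.leaf (nat_lit 700296))) (BT.node (nat_lit 4520257) (BT.leaf (nat_lit 748892)) (BT.leaf (nat_lit 630544)))))) (BT.node (nat_lit 4520963) (BT.node (nat_lit 4520706) (BT.node (nat_lit 4520451) (BT.node (nat_lit 4520261) (BT.leaf (nat_lit 630544)) (BT.leaf (nat_lit 630544))) (BT.node (nat_lit 4520705) (BT.leaf (nat_lit 722144)) (BT.leaf (nat_lit 679952)))) (BT.node (nat_lit 4520708) (BT.node (nat_lit 4520707) (BT.leaf (nat_lit 679952)) (BT.leaf (nat_lit 679952))) (BT.node (nat_lit 4520772) (BT.leaf (nat_lit 679952)) (BT.leaf (nat_lit 681604))))) (BT.node (nat_lit 4521157) (BT.node (nat_lit 4521155) (BT.node (nat_lit 4520964) (BT.leaf (nat_lit 669128)) (BT.leaf (nat_lit 669128))) (BT.node (nat_lit 4521156) (BT.leaf (nat_lit 700288)) (BT.leaf (nat_lit 700288)))) (BT.node (nat_lit 4521222) (BT.node (nat_lit 4521221) (BT.leaf (nat_lit 700288)) (BT.leaf (nat_lit 679500))) (BT.node (nat_lit 4521223) (BT.leaf (nat_lit 679500)) (BT.leaf (nat_lit 679500))))))) (BT.node (nat_lit 4521670) (BT.node (nat_lit 4521474) (BT.node (nat_lit 4521287) (BT.node (nat_lit 4521283) (BT.node (nat_lit 4521282) (BT.leaf (nat_lit 641912)) (BT.leaf (nat_lit 641912))) (BT.node (nat_lit 4521286) (BT.leaf (nat_lit 641912)) (BT.leaf (nat_lit 641912)))) (BT.node (nat_lit 4521348) (BT.node (nat_lit 4521288) (BT.leaf (nat_lit 641912)) (BT.leaf (nat_lit 641912))) (BT.node (nat_lit 4521413) (BT.leaf (nat_lit 701064)) (BT.leaf (nat_lit 721160))))) (BT.node (nat_lit 4521537) (BT.node (nat_lit 4521478) (BT.node (nat_lit 4521475) (BT.leaf (nat_lit 667664)) (BT.leaf (nat_lit 667664))) (BT.node (nat_lit 4521479) (BT.leaf (nat_lit 667664)) (BT.leaf (nat_lit 667664)))) (BT.node (nat_lit 4521541) (BT.node (nat_lit 4521539) (BT.leaf (nat_lit 678936)) (BT.leaf (nat_lit 679532))) (BT.node (nat_lit 4521665) (BT.leaf (nat_lit 679532)) (BT.leaf (nat_lit 665576)))))) (BT.node (nat_lit 4521986) (BT.node (nat_lit 4521857) (BT.node (nat_lit 4521795) (BT.node (nat_lit 4521671) (BT.leaf (nat_lit 675300)) (BT.leaf (nat_lit 675300))) (BT.node (nat_lit 4521796) (BT.leaf (nat_lit 675288)) (BT.leaf (nat_lit 675288)))) (BT.node (nat_lit 4521922) (BT.node (nat_lit 4521861) (BT.leaf (nat_lit 678492)) (BT.leaf (nat_lit 678492))) (BT.node (nat_lit 4521985) (BT.leaf (nat_lit 749304)) (BT.leaf (nat_lit 678476))))) (BT.node (nat_lit 4521992) (BT.node (nat_lit 4521990) (BT.node (nat_lit 4521987) (BT.leaf (nat_lit 678476)) (BT.leaf (nat_lit 678476))) (BT.node (nat_lit 4521991) (BT.leaf (nat_lit 678476)) (BT.leaf (nat_lit 678476)))) (BT.node (nat_lit 4522053) (BT.node (nat_lit 4522049) (BT.leaf (nat_lit 678476)) (BT.leaf (nat_lit 635648))) (BT.node (nat_lit 4522114) (BT.leaf (nat_lit 635648)) (BT.leaf (nat_lit 679416))))))))) (BT.node (nat_lit 4523912) (BT.node (nat_lit 4523075) (BT.node (nat_lit 4522630) (BT.node (nat_lit 4522434) (BT.node (nat_lit 4522371) (BT.node (nat_lit 4522245) (BT.node (nat_lit 4522181) (BT.leaf (nat_lit 647664)) (BT.leaf (nat_lit 776400))) (BT.node (nat_lit 4522370) (BT.leaf (nat_lit 776404)) (BT.leaf (nat_lit 691180)))) (BT.node (nat_lit 4522373) (BT.node (nat_lit 4522372) (BT.leaf (nat_lit 691180)) (BT.leaf (nat_lit 691180))) (BT.node (nat_lit 4522433) (BT.leaf (nat_lit 691180)) (BT.leaf (nat_lit 721144))))) (BT.node (nat_lit 4522500) (BT.node (nat_lit 4522498) (BT.node (nat_lit 4522435) (BT.leaf (nat_lit 721144)) (BT.leaf (nat_lit 721144))) (BT.node (nat_lit 4522499) (BT.leaf (nat_lit 721152)) (BT.leaf (nat_lit 721152)))) (BT.node (nat_lit 4522627) (BT.node (nat_lit 4522626) (BT.leaf (nat_lit 707132)) (BT.leaf (nat_lit 662200))) (BT.node (nat_lit 4522628) (BT.leaf (nat_lit 662200)) (BT.leaf (nat_lit 662200)))))) (BT.node (nat_lit 4522755) (BT.node (nat_lit 4522694) (BT.node (nat_lit 4522690) (BT.node (nat_lit 4522632) (BT.leaf (nat_lit 662200)) (BT.leaf (nat_lit 662200))) (BT.node (nat_lit 4522691) (BT.leaf (nat_lit 776976)) (BT.leaf (nat_lit 634216)))) (BT.node (nat_lit 4522696) (BT.node (nat_lit 4522695) (BT.leaf (nat_lit 634216)) (BT.leaf (nat_lit 634216))) (BT.node (nat_lit 4522754) (BT.leaf (nat_lit 776976)) (BT.leaf (nat_lit 634224))))) (BT.node (nat_lit 4522824) (BT.node (nat_lit 4522759) (BT.node (nat_lit 4522758) (BT.leaf (nat_lit 634224)) (BT.leaf (nat_lit 634224))) (BT.node (nat_lit 4522820) (BT.leaf (nat_lit 634224)) (BT.leaf (nat_lit 718972)))) (BT.node (nat_lit 4523016) (BT.node (nat_lit 4523012) (BT.leaf (nat_lit 721452)) (BT.leaf (nat_lit 720716))) (BT.node (nat_lit 4523073) (BT.leaf (nat_lit 720716)) (BT.leaf (nat_lit 670492))))))) (BT.node (nat_lit 4523333) (BT.node (nat_lit 4523206) (BT.node (nat_lit 4523201) (BT.node (nat_lit 4523140) (BT.node (nat_lit 4523139) (BT.leaf (nat_lit 670492)) (BT.leaf (nat_lit 707540))) (BT.node (nat_lit 4523143) (BT.leaf (nat_lit 722800)) (BT.leaf (nat_lit 707540)))) (BT.node (nat_lit 4523203) (BT.node (nat_lit 4523202) (BT.leaf (nat_lit 682316)) (BT.leaf (nat_lit 682316))) (BT.node (nat_lit 4523204) (BT.leaf (nat_lit 682316)) (BT.leaf (nat_lit 682316))))) (BT.node (nat_lit 4523270) (BT.node (nat_lit 4523266) (BT.node (nat_lit 4523207) (BT.leaf (nat_lit 689960)) (BT.leaf (nat_lit 689960))) (BT.node (nat_lit 4523267) (BT.leaf (nat_lit 722576)) (BT.leaf (nat_lit 722576)))) (BT.node (nat_lit 4523329) (BT.node (nat_lit 4523271) (BT.leaf (nat_lit 702976)) (BT.leaf (nat_lit 702976))) (BT.node (nat_lit 4523332) (BT.leaf (nat_lit 655468)) (BT.leaf (nat_lit 655468)))))) (BT.node (nat_lit 4523656) (BT.node (nat_lit 4523395) (BT.node (nat_lit 4523393) (BT.node (nat_lit 4523334) (BT.leaf (nat_lit 704460)) (BT.leaf (nat_lit 704460))) (BT.node (nat_lit 4523394) (BT.leaf (nat_lit 702496)) (BT.leaf (nat_lit 702496)))) (BT.node (nat_lit 4523457) (BT.node (nat_lit 4523396) (BT.leaf (nat_lit 704444)) (BT.leaf (nat_lit 704444))) (BT.node (nat_lit 4523463) (BT.leaf (nat_lit 711844)) (BT.leaf (nat_lit 711844))))) (BT.node (nat_lit 4523906) (BT.node (nat_lit 4523715) (BT.node (nat_lit 4523714) (BT.leaf (nat_lit 682216)) (BT.leaf (nat_lit 702716))) (BT.node (nat_lit 4523716) (BT.leaf (nat_lit 702716)) (BT.leaf (nat_lit 702716)))) (BT.node (nat_lit 4523910) (BT.node (nat_lit 4523907) (BT.leaf (nat_lit 698420)) (BT.leaf (nat_lit 698420))) (BT.node (nat_lit 4523911) (BT.leaf (nat_lit 698420)) (BT.leaf (nat_lit 698420)))))))) (BT.node (nat_lit 4524866) (BT.node (nat_lit 4524420) (BT.node (nat_lit 4524104) (BT.node (nat_lit 4524098) (BT.node (nat_lit 4524038) (BT.node (nat_lit 4524034) (BT.leaf (nat_lit 738152)) (BT.leaf (nat_lit 643836))) (BT.node (nat_lit 4524097) (BT.leaf (nat_lit 643836)) (BT.leaf (nat_lit 629904)))) (BT.node (nat_lit 4524102) (BT.node (nat_lit 4524099) (BT.leaf (nat_lit 629904)) (BT.leaf (nat_lit 629904))) (BT.node (nat_lit 4524103) (BT.leaf (nat_lit 629904)) (BT.leaf (nat_lit 629904))))) (BT.node (nat_lit 4524293) (BT.node (nat_lit 4524165) (BT.node (nat_lit 4524161) (BT.leaf (nat_lit 629904)) (BT.leaf (nat_lit 760628))) (BT.node (nat_lit 4524229) (BT.leaf (nat_lit 760628)) (BT.leaf (nat_lit 677944)))) (BT.node (nat_lit 4524356) (BT.node (nat_lit 4524295) (BT.leaf (nat_lit 645768)) (BT.leaf (nat_lit 645768))) (BT.node (nat_lit 4524357) (BT.leaf (nat_lit 690552)) (BT.leaf (nat_lit 690552)))))) (BT.node (nat_lit 4524678) (BT.node (nat_lit 4524615) (BT.node (nat_lit 4524609) (BT.node (nat_lit 4524547) (BT.leaf (nat_lit 655888)) (BT.leaf (nat_lit 645732))) (BT.node (nat_lit 4524614) (BT.leaf (nat_lit 676780)) (BT.leaf (nat_lit 676780)))) (BT.node (nat_lit 4524673) (BT.node (nat_lit 4524616) (BT.leaf (nat_lit 676780)) (BT.leaf (nat_lit 676780))) (BT.node (nat_lit 4524677) (BT.leaf (nat_lit 677952)) (BT.leaf (nat_lit 677952))))) (BT.node (nat_lit 4524804) (BT.node (nat_lit 4524802) (BT.node (nat_lit 4524801) (BT.leaf (nat_lit 677952)) (BT.leaf (nat_lit 676772))) (BT.node (nat_lit 4524803) (BT.leaf (nat_lit 676772)) (BT.leaf (nat_lit 676772)))) (BT.node (nat_lit 4524808) (BT.node (nat_lit 4524805) (BT.leaf (nat_lit 676772)) (BT.leaf (nat_lit 676772))) (BT.node (nat_lit 4524865) (BT.leaf (nat_lit 676772)) (BT.leaf (nat_lit 645744))))))) (BT.node (nat_lit 4525384) (BT.node (nat_lit 4525188) (BT.node (nat_lit 4524997) (BT.node (nat_lit 4524934) (BT.node (nat_lit 4524871) (BT.leaf (nat_lit 645744)) (BT.leaf (nat_lit 645744))) (BT.node (nat_lit 4524935) (BT.leaf (nat_lit 672400)) (BT.leaf (nat_lit 672400)))) (BT.node (nat_lit 4524999) (BT.node (nat_lit 4524998) (BT.leaf (nat_lit 702800)) (BT.leaf (nat_lit 661904))) (BT.node (nat_lit 4525060) (BT.leaf (nat_lit 661904)) (BT.leaf (nat_lit 743920))))) (BT.node (nat_lit 4525253) (BT.node (nat_lit 4525251) (BT.node (nat_lit 4525189) (BT.leaf (nat_lit 692212)) (BT.leaf (nat_lit 692212))) (BT.node (nat_lit 4525252) (BT.leaf (nat_lit 650700)) (BT.leaf (nat_lit 650700)))) (BT.node (nat_lit 4525377) (BT.node (nat_lit 4525316) (BT.leaf (nat_lit 650700)) (BT.leaf (nat_lit 643172))) (BT.node (nat_lit 4525380) (BT.leaf (nat_lit 703104)) (BT.leaf (nat_lit 703104)))))) (BT.node (nat_lit 4525767) (BT.node (nat_lit 4525762) (BT.node (nat_lit 4525573) (BT.node (nat_lit 4525572) (BT.leaf (nat_lit 703104)) (BT.leaf (nat_lit 695896))) (BT.node (nat_lit 4525761) (BT.leaf (nat_lit 695896)) (BT.leaf (nat_lit 652956)))) (BT.node (nat_lit 4525765) (BT.node (nat_lit 4525763) (BT.leaf (nat_lit 652956)) (BT.leaf (nat_lit 652956))) (BT.node (nat_lit 4525766) (BT.leaf (nat_lit 652956)) (BT.leaf (nat_lit 652956))))) (BT.node (nat_lit 4526019) (BT.node (nat_lit 4525958) (BT.node (nat_lit 4525768) (BT.leaf (nat_lit 652956)) (BT.leaf (nat_lit 652956))) (BT.node (nat_lit 4525959) (BT.leaf (nat_lit 689056)) (BT.leaf (nat_lit 689056)))) (BT.node (nat_lit 4526083) (BT.node (nat_lit 4526021) (BT.leaf (nat_lit 642780)) (BT.leaf (nat_lit 662652))) (BT.node (nat_lit 4526086) (BT.leaf (nat_lit 642724)) (BT.leaf (nat_lit 657984))))))))))) (BT.node (nat_lit 4533442) (BT.node (nat_lit 4530117) (BT.node (nat_lit 4528325) (BT.node (nat_lit 4526855) (BT.node (nat_lit 4526404) (BT.node (nat_lit 4526274) (BT.node (nat_lit 4526151) (BT.node (nat_lit 4526149) (BT.node (nat_lit 4526147) (BT.leaf (nat_lit 642932)) (BT.leaf (nat_lit 642932))) (BT.node (nat_lit 4526150) (BT.leaf (nat_lit 642932)) (BT.leaf (nat_lit 642932)))) (BT.node (nat_lit 4526215) (BT.node (nat_lit 4526214) (BT.leaf (nat_lit 642932)) (BT.leaf (nat_lit 646648))) (BT.node (nat_lit 4526273) (BT.leaf (nat_lit 646648)) (BT.leaf (nat_lit 656584))))) (BT.node (nat_lit 4526280) (BT.node (nat_lit 4526276) (BT.node (nat_lit 4526275) (BT.leaf (nat_lit 656584)) (BT.leaf (nat_lit 656584))) (BT.node (nat_lit 4526277) (BT.leaf (nat_lit 656584)) (BT.leaf (nat_lit 656584)))) (BT.node (nat_lit 4526341) (BT.node (nat_lit 4526340) (BT.leaf (nat_lit 656584)) (BT.leaf (nat_lit 637976))) (BT.node (nat_lit 4526403) (BT.leaf (nat_lit 637976)) (BT.leaf (nat_lit 630172)))))) (BT.node (nat_lit 4526529) (BT.node (nat_lit 4526465) (BT.node (nat_lit 4526407) (BT.node (nat_lit 4526406) (BT.leaf (nat_lit 630172)) (BT.leaf (nat_lit 674096))) (BT.node (nat_lit 4526408) (BT.leaf (nat_lit 674096)) (BT.leaf (nat_lit 674096)))) (BT.node (nat_lit 4526468) (BT.node (nat_lit 4526467) (BT.leaf (nat_lit 682788)) (BT.leaf (nat_lit 682788))) (BT.node (nat_lit 4526472) (BT.leaf (nat_lit 682788)) (BT.leaf (nat_lit 682788))))) (BT.node (nat_lit 4526595) (BT.node (nat_lit 4526535) (BT.node (nat_lit 4526534) (BT.leaf (nat_lit 636128)) (BT.leaf (nat_lit 636128))) (BT.node (nat_lit 4526594) (BT.leaf (nat_lit 636128)) (BT.leaf (nat_lit 636136)))) (BT.node (nat_lit 4526853) (BT.node (nat_lit 4526600) (BT.leaf (nat_lit 636136)) (BT.leaf (nat_lit 636136))) (BT.node (nat_lit 4526854) (BT.leaf (nat_lit 721964)) (BT.leaf (nat_lit 721964))))))) (BT.node (nat_lit 4527559) (BT.node (nat_lit 4527301) (BT.node (nat_lit 4526982) (BT.node (nat_lit 4526979) (BT.node (nat_lit 4526978) (BT.leaf (nat_lit 721964)) (BT.leaf (nat_lit 655104))) (BT.node (nat_lit 4526980) (BT.leaf (nat_lit 655104)) (BT.leaf (nat_lit 655104)))) (BT.node (nat_lit 4526984) (BT.node (nat_lit 4526983) (BT.leaf (nat_lit 655104)) (BT.leaf (nat_lit 655104))) (BT.node (nat_lit 4527238) (BT.leaf (nat_lit 655104)) (BT.leaf (nat_lit 679692))))) (BT.node (nat_lit 4527554) (BT.node (nat_lit 4527492) (BT.node (nat_lit 4527304) (BT.leaf (nat_lit 671064)) (BT.leaf (nat_lit 671064))) (BT.node (nat_lit 4527493) (BT.leaf (nat_lit 704232)) (BT.leaf (nat_lit 704232)))) (BT.node (nat_lit 4527556) (BT.node (nat_lit 4527555) (BT.leaf (nat_lit 673336)) (BT.leaf (nat_lit 673336))) (BT.node (nat_lit 4527558) (BT.leaf (nat_lit 673336)) (BT.leaf (nat_lit 673336)))))) (BT.node (nat_lit 4527752) (BT.node (nat_lit 4527746) (BT.node (nat_lit 4527681) (BT.node (nat_lit 4527560) (BT.leaf (nat_lit 673336)) (BT.leaf (nat_lit 673336))) (BT.node (nat_lit 4527745) (BT.leaf (nat_lit 681184)) (BT.leaf (nat_lit 769348)))) (BT.node (nat_lit 4527750) (BT.node (nat_lit 4527747) (BT.leaf (nat_lit 769348)) (BT.leaf (nat_lit 769348))) (BT.node (nat_lit 4527751) (BT.leaf (nat_lit 769348)) (BT.leaf (nat_lit 769348))))) (BT.node (nat_lit 4528135) (BT.node (nat_lit 4528071) (BT.node (nat_lit 4528066) (BT.leaf (nat_lit 675096)) (BT.leaf (nat_lit 739212))) (BT.node (nat_lit 4528134) (BT.leaf (nat_lit 739212)) (BT.leaf (nat_lit 679696)))) (BT.node (nat_lit 4528195) (BT.node (nat_lit 4528194) (BT.leaf (nat_lit 679696)) (BT.leaf (nat_lit 695984))) (BT.node (nat_lit 4528196) (BT.leaf (nat_lit 695984)) (BT.leaf (nat_lit 695984)))))))) (BT.node (nat_lit 4529478) (BT.node (nat_lit 4528963) (BT.node (nat_lit 4528581) (BT.node (nat_lit 4528516) (BT.node (nat_lit 4528327) (BT.node (nat_lit 4528326) (BT.leaf (nat_lit 772180)) (BT.leaf (nat_lit 695988))) (BT.node (nat_lit 4528513) (BT.leaf (nat_lit 695988)) (BT.leaf (nat_lit 707584)))) (BT.node (nat_lit 4528577) (BT.node (nat_lit 4528517) (BT.leaf (nat_lit 707584)) (BT.leaf (nat_lit 722248))) (BT.node (nat_lit 4528580) (BT.leaf (nat_lit 648260)) (BT.leaf (nat_lit 711148))))) (BT.node (nat_lit 4528838) (BT.node (nat_lit 4528709) (BT.node (nat_lit 4528644) (BT.leaf (nat_lit 648260)) (BT.leaf (nat_lit 684884))) (BT.node (nat_lit 4528835) (BT.leaf (nat_lit 762972)) (BT.leaf (nat_lit 632236)))) (BT.node (nat_lit 4528901) (BT.node (nat_lit 4528839) (BT.leaf (nat_lit 632236)) (BT.leaf (nat_lit 632236))) (BT.node (nat_lit 4528962) (BT.leaf (nat_lit 716236)) (BT.leaf (nat_lit 652360)))))) (BT.node (nat_lit 4529220) (BT.node (nat_lit 4529028) (BT.node (nat_lit 4528967) (BT.node (nat_lit 4528966) (BT.leaf (nat_lit 652360)) (BT.leaf (nat_lit 652360))) (BT.node (nat_lit 4528968) (BT.leaf (nat_lit 652360)) (BT.leaf (nat_lit 652360)))) (BT.node (nat_lit 4529032) (BT.node (nat_lit 4529029) (BT.leaf (nat_lit 684416)) (BT.leaf (nat_lit 703980))) (BT.node (nat_lit 4529093) (BT.leaf (nat_lit 668736)) (BT.leaf (nat_lit 647012))))) (BT.node (nat_lit 4529283) (BT.node (nat_lit 4529281) (BT.node (nat_lit 4529224) (BT.leaf (nat_lit 681856)) (BT.leaf (nat_lit 681856))) (BT.node (nat_lit 4529282) (BT.leaf (nat_lit 681848)) (BT.leaf (nat_lit 681848)))) (BT.node (nat_lit 4529287) (BT.node (nat_lit 4529286) (BT.leaf (nat_lit 681848)) (BT.leaf (nat_lit 681848))) (BT.node (nat_lit 4529473) (BT.leaf (nat_lit 681848)) (BT.leaf (nat_lit 653704))))))) (BT.node (nat_lit 4529794) (BT.node (nat_lit 4529605) (BT.node (nat_lit 4529539) (BT.node (nat_lit 4529480) (BT.node (nat_lit 4529479) (BT.leaf (nat_lit 653704)) (BT.leaf (nat_lit 653704))) (BT.node (nat_lit 4529538) (BT.leaf (nat_lit 653704)) (BT.leaf (nat_lit 711008)))) (BT.node (nat_lit 4529543) (BT.node (nat_lit 4529542) (BT.leaf (nat_lit 711008)) (BT.leaf (nat_lit 711008))) (BT.node (nat_lit 4529544) (BT.leaf (nat_lit 711008)) (BT.leaf (nat_lit 687032))))) (BT.node (nat_lit 4529672) (BT.node (nat_lit 4529668) (BT.node (nat_lit 4529607) (BT.leaf (nat_lit 656544)) (BT.leaf (nat_lit 662788))) (BT.node (nat_lit 4529669) (BT.leaf (nat_lit 656504)) (BT.leaf (nat_lit 660456)))) (BT.node (nat_lit 4529733) (BT.node (nat_lit 4529729) (BT.leaf (nat_lit 660456)) (BT.leaf (nat_lit 715440))) (BT.node (nat_lit 4529736) (BT.leaf (nat_lit 715440)) (BT.leaf (nat_lit 715440)))))) (BT.node (nat_lit 4529923) (BT.node (nat_lit 4529858) (BT.node (nat_lit 4529798) (BT.node (nat_lit 4529795) (BT.leaf (nat_lit 642408)) (BT.leaf (nat_lit 642408))) (BT.node (nat_lit 4529799) (BT.leaf (nat_lit 678524)) (BT.leaf (nat_lit 678524)))) (BT.node (nat_lit 4529860) (BT.node (nat_lit 4529859) (BT.leaf (nat_lit 673604)) (BT.leaf (nat_lit 673604))) (BT.node (nat_lit 4529921) (BT.leaf (nat_lit 673604)) (BT.leaf (nat_lit 678536))))) (BT.node (nat_lit 4529990) (BT.node (nat_lit 4529988) (BT.node (nat_lit 4529925) (BT.leaf (nat_lit 678536)) (BT.leaf (nat_lit 678536))) (BT.node (nat_lit 4529989) (BT.leaf (nat_lit 689084)) (BT.leaf (nat_lit 689084)))) (BT.node (nat_lit 4529992) (BT.node (nat_lit 4529991) (BT.leaf (nat_lit 689084)) (BT.leaf (nat_lit 689084))) (BT.node (nat_lit 4530116) (BT.leaf (nat_lit 689084)) (BT.leaf (nat_lit 687592))))))))) (BT.node (nat_lit 4531784) (BT.node (nat_lit 4530760) (BT.node (nat_lit 4530436) (BT.node (nat_lit 4530371) (BT.node (nat_lit 4530310) (BT.node (nat_lit 4530306) (BT.node (nat_lit 4530120) (BT.leaf (nat_lit 687592)) (BT.leaf (nat_lit 687592))) (BT.node (nat_lit 4530307) (BT.leaf (nat_lit 680776)) (BT.leaf (nat_lit 680776)))) (BT.node (nat_lit 4530312) (BT.node (nat_lit 4530311) (BT.leaf (nat_lit 680776)) (BT.leaf (nat_lit 680776))) (BT.node (nat_lit 4530370) (BT.leaf (nat_lit 680776)) (BT.leaf (nat_lit 652828))))) (BT.node (nat_lit 4530376) (BT.node (nat_lit 4530374) (BT.node (nat_lit 4530372) (BT.leaf (nat_lit 652828)) (BT.leaf (nat_lit 652828))) (BT.node (nat_lit 4530375) (BT.leaf (nat_lit 652828)) (BT.leaf (nat_lit 652828)))) (BT.node (nat_lit 4530434) (BT.node (nat_lit 4530433) (BT.leaf (nat_lit 652828)) (BT.leaf (nat_lit 683328))) (BT.node (nat_lit 4530435) (BT.leaf (nat_lit 683328)) (BT.leaf (nat_lit 683328)))))) (BT.node (nat_lit 4530626) (BT.node (nat_lit 4530502) (BT.node (nat_lit 4530440) (BT.node (nat_lit 4530437) (BT.leaf (nat_lit 687056)) (BT.leaf (nat_lit 760836))) (BT.node (nat_lit 4530499) (BT.leaf (nat_lit 687056)) (BT.leaf (nat_lit 740104)))) (BT.node (nat_lit 4530566) (BT.node (nat_lit 4530565) (BT.leaf (nat_lit 740104)) (BT.leaf (nat_lit 702424))) (BT.node (nat_lit 4530567) (BT.leaf (nat_lit 702424)) (BT.leaf (nat_lit 702424))))) (BT.node (nat_lit 4530691) (BT.node (nat_lit 4530629) (BT.node (nat_lit 4530628) (BT.leaf (nat_lit 684772)) (BT.leaf (nat_lit 684772))) (BT.node (nat_lit 4530690) (BT.leaf (nat_lit 684772)) (BT.leaf (nat_lit 663896)))) (BT.node (nat_lit 4530756) (BT.node (nat_lit 4530692) (BT.leaf (nat_lit 663896)) (BT.leaf (nat_lit 663896))) (BT.node (nat_lit 4530758) (BT.leaf (nat_lit 646776)) (BT.leaf (nat_lit 704036))))))) (BT.node (nat_lit 4531398) (BT.node (nat_lit 4530888) (BT.node (nat_lit 4530882) (BT.node (nat_lit 4530821) (BT.node (nat_lit 4530820) (BT.leaf (nat_lit 704036)) (BT.leaf (nat_lit 679252))) (BT.node (nat_lit 4530824) (BT.leaf (nat_lit 723692)) (BT.leaf (nat_lit 723692)))) (BT.node (nat_lit 4530886) (BT.node (nat_lit 4530883) (BT.leaf (nat_lit 657256)) (BT.leaf (nat_lit 657256))) (BT.node (nat_lit 4530887) (BT.leaf (nat_lit 657256)) (BT.leaf (nat_lit 657256))))) (BT.node (nat_lit 4531079) (BT.node (nat_lit 4531077) (BT.node (nat_lit 4530949) (BT.leaf (nat_lit 657256)) (BT.leaf (nat_lit 704896))) (BT.node (nat_lit 4531078) (BT.leaf (nat_lit 704832)) (BT.leaf (nat_lit 657144)))) (BT.node (nat_lit 4531206) (BT.node (nat_lit 4531143) (BT.leaf (nat_lit 657144)) (BT.leaf (nat_lit 633948))) (BT.node (nat_lit 4531207) (BT.leaf (nat_lit 685640)) (BT.leaf (nat_lit 685640)))))) (BT.node (nat_lit 4531592) (BT.node (nat_lit 4531525) (BT.node (nat_lit 4531522) (BT.node (nat_lit 4531399) (BT.leaf (nat_lit 684212)) (BT.leaf (nat_lit 684212))) (BT.node (nat_lit 4531523) (BT.leaf (nat_lit 711568)) (BT.leaf (nat_lit 711568)))) (BT.node (nat_lit 4531527) (BT.node (nat_lit 4531526) (BT.leaf (nat_lit 711568)) (BT.leaf (nat_lit 711568))) (BT.node (nat_lit 4531528) (BT.leaf (nat_lit 711568)) (BT.leaf (nat_lit 758452))))) (BT.node (nat_lit 4531654) (BT.node (nat_lit 4531651) (BT.node (nat_lit 4531650) (BT.leaf (nat_lit 648272)) (BT.leaf (nat_lit 652416))) (BT.node (nat_lit 4531652) (BT.leaf (nat_lit 652416)) (BT.leaf (nat_lit 652416)))) (BT.node (nat_lit 4531716) (BT.node (nat_lit 4531656) (BT.leaf (nat_lit 652416)) (BT.leaf (nat_lit 652416))) (BT.node (nat_lit 4531720) (BT.leaf (nat_lit 645464)) (BT.leaf (nat_lit 793876)))))))) (BT.node (nat_lit 4532678) (BT.node (nat_lit 4532359) (BT.node (nat_lit 4532099) (BT.node (nat_lit 4532038) (BT.node (nat_lit 4532034) (BT.node (nat_lit 4531972) (BT.leaf (nat_lit 652836)) (BT.leaf (nat_lit 701408))) (BT.node (nat_lit 4532035) (BT.leaf (nat_lit 701388)) (BT.leaf (nat_lit 701388)))) (BT.node (nat_lit 4532097) (BT.node (nat_lit 4532039) (BT.leaf (nat_lit 701388)) (BT.leaf (nat_lit 701388))) (BT.node (nat_lit 4532098) (BT.leaf (nat_lit 700628)) (BT.leaf (nat_lit 700628))))) (BT.node (nat_lit 4532228) (BT.node (nat_lit 4532101) (BT.node (nat_lit 4532100) (BT.leaf (nat_lit 700628)) (BT.leaf (nat_lit 700628))) (BT.node (nat_lit 4532104) (BT.leaf (nat_lit 700628)) (BT.leaf (nat_lit 700628)))) (BT.node (nat_lit 4532354) (BT.node (nat_lit 4532229) (BT.leaf (nat_lit 690640)) (BT.leaf (nat_lit 690640))) (BT.node (nat_lit 4532357) (BT.leaf (nat_lit 682244)) (BT.leaf (nat_lit 682244)))))) (BT.node (nat_lit 4532488) (BT.node (nat_lit 4532422) (BT.node (nat_lit 4532418) (BT.node (nat_lit 4532360) (BT.leaf (nat_lit 682244)) (BT.leaf (nat_lit 682244))) (BT.node (nat_lit 4532419) (BT.leaf (nat_lit 693828)) (BT.leaf (nat_lit 693828)))) (BT.node (nat_lit 4532481) (BT.node (nat_lit 4532423) (BT.leaf (nat_lit 693828)) (BT.leaf (nat_lit 693828))) (BT.node (nat_lit 4532484) (BT.leaf (nat_lit 652852)) (BT.leaf (nat_lit 652852))))) (BT.node (nat_lit 4532548) (BT.node (nat_lit 4532546) (BT.node (nat_lit 4532545) (BT.leaf (nat_lit 652852)) (BT.leaf (nat_lit 674804))) (BT.node (nat_lit 4532547) (BT.leaf (nat_lit 678372)) (BT.leaf (nat_lit 678372)))) (BT.node (nat_lit 4532551) (BT.node (nat_lit 4532550) (BT.leaf (nat_lit 678372)) (BT.leaf (nat_lit 674804))) (BT.node (nat_lit 4532675) (BT.leaf (nat_lit 674804)) (BT.leaf (nat_lit 652340))))))) (BT.node (nat_lit 4532935) (BT.node (nat_lit 4532804) (BT.node (nat_lit 4532740) (BT.node (nat_lit 4532680) (BT.node (nat_lit 4532679) (BT.leaf (nat_lit 652340)) (BT.leaf (nat_lit 652340))) (BT.node (nat_lit 4532737) (BT.leaf (nat_lit 652340)) (BT.leaf (nat_lit 664716)))) (BT.node (nat_lit 4532801) (BT.node (nat_lit 4532744) (BT.leaf (nat_lit 664716)) (BT.leaf (nat_lit 664716))) (BT.node (nat_lit 4532802) (BT.leaf (nat_lit 708416)) (BT.leaf (nat_lit 684760))))) (BT.node (nat_lit 4532871) (BT.node (nat_lit 4532869) (BT.node (nat_lit 4532806) (BT.leaf (nat_lit 684760)) (BT.leaf (nat_lit 708416))) (BT.node (nat_lit 4532870) (BT.leaf (nat_lit 682776)) (BT.leaf (nat_lit 710388)))) (BT.node (nat_lit 4532933) (BT.node (nat_lit 4532872) (BT.leaf (nat_lit 710388)) (BT.leaf (nat_lit 682776))) (BT.node (nat_lit 4532934) (BT.leaf (nat_lit 656488)) (BT.leaf (nat_lit 674420)))))) (BT.node (nat_lit 4533123) (BT.node (nat_lit 4532999) (BT.node (nat_lit 4532997) (BT.node (nat_lit 4532936) (BT.leaf (nat_lit 674420)) (BT.leaf (nat_lit 656488))) (BT.node (nat_lit 4532998) (BT.leaf (nat_lit 697832)) (BT.leaf (nat_lit 640980)))) (BT.node (nat_lit 4533121) (BT.node (nat_lit 4533057) (BT.leaf (nat_lit 640980)) (BT.leaf (nat_lit 705528))) (BT.node (nat_lit 4533122) (BT.leaf (nat_lit 790832)) (BT.leaf (nat_lit 790832))))) (BT.node (nat_lit 4533317) (BT.node (nat_lit 4533315) (BT.node (nat_lit 4533128) (BT.leaf (nat_lit 790832)) (BT.leaf (nat_lit 790832))) (BT.node (nat_lit 4533316) (BT.leaf (nat_lit 662704)) (BT.leaf (nat_lit 662704)))) (BT.node (nat_lit 4533379) (BT.node (nat_lit 4533378) (BT.leaf (nat_lit 662704)) (BT.leaf (nat_lit 631352))) (BT.node (nat_lit 4533380) (BT.leaf (nat_lit 631352)) (BT.leaf (nat_lit 631352)))))))))) (BT.node (nat_lit 4536200) (BT.node (nat_lit 4534660) (BT.node (nat_lit 4534087) (BT.node (nat_lit 4533889) (BT.node (nat_lit 4533575) (BT.node (nat_lit 4533509) (BT.node (nat_lit 4533444) (BT.node (nat_lit 4533443) (BT.leaf (nat_lit 644448)) (BT.leaf (nat_lit 644448))) (BT.node (nat_lit 4533445) (BT.leaf (nat_lit 644448)) (BT.leaf (nat_lit 644448)))) (BT.node (nat_lit 4533573) (BT.node (nat_lit 4533570) (BT.leaf (nat_lit 709484)) (BT.leaf (nat_lit 714384))) (BT.node (nat_lit 4533574) (BT.leaf (nat_lit 714384)) (BT.leaf (nat_lit 654664))))) (BT.node (nat_lit 4533768) (BT.node (nat_lit 4533766) (BT.node (nat_lit 4533764) (BT.leaf (nat_lit 654664)) (BT.leaf (nat_lit 648772))) (BT.node (nat_lit 4533767) (BT.leaf (nat_lit 708480)) (BT.leaf (nat_lit 708480)))) (BT.node (nat_lit 4533829) (BT.node (nat_lit 4533828) (BT.leaf (nat_lit 648772)) (BT.leaf (nat_lit 636548))) (BT.node (nat_lit 4533832) (BT.leaf (nat_lit 636548)) (BT.leaf (nat_lit 636548)))))) (BT.node (nat_lit 4533955) (BT.node (nat_lit 4533893) (BT.node (nat_lit 4533891) (BT.node (nat_lit 4533890) (BT.leaf (nat_lit 650352)) (BT.leaf (nat_lit 650352))) (BT.node (nat_lit 4533892) (BT.leaf (nat_lit 650352)) (BT.leaf (nat_lit 650352)))) (BT.node (nat_lit 4533953) (BT.node (nat_lit 4533896) (BT.leaf (nat_lit 650352)) (BT.leaf (nat_lit 650352))) (BT.node (nat_lit 4533954) (BT.leaf (nat_lit 693812)) (BT.leaf (nat_lit 693812))))) (BT.node (nat_lit 4534019) (BT.node (nat_lit 4533960) (BT.node (nat_lit 4533957) (BT.leaf (nat_lit 693812)) (BT.leaf (nat_lit 693812))) (BT.node (nat_lit 4534018) (BT.leaf (nat_lit 693812)) (BT.leaf (nat_lit 649664)))) (BT.node (nat_lit 4534023) (BT.node (nat_lit 4534020) (BT.leaf (nat_lit 649664)) (BT.leaf (nat_lit 649664))) (BT.node (nat_lit 4534086) (BT.leaf (nat_lit 649664)) (BT.leaf (nat_lit 654648))))))) (BT.node (nat_lit 4534280) (BT.node (nat_lit 4534211) (BT.node (nat_lit 4534150) (BT.node (nat_lit 4534147) (BT.node (nat_lit 4534146) (BT.leaf (nat_lit 654648)) (BT.leaf (nat_lit 659292))) (BT.node (nat_lit 4534148) (BT.leaf (nat_lit 659292)) (BT.leaf (nat_lit 659292)))) (BT.node (nat_lit 4534209) (BT.node (nat_lit 4534152) (BT.leaf (nat_lit 675056)) (BT.leaf (nat_lit 659292))) (BT.node (nat_lit 4534210) (BT.leaf (nat_lit 650444)) (BT.leaf (nat_lit 650444))))) (BT.node (nat_lit 4534216) (BT.node (nat_lit 4534214) (BT.node (nat_lit 4534212) (BT.leaf (nat_lit 650444)) (BT.leaf (nat_lit 693684))) (BT.node (nat_lit 4534215) (BT.leaf (nat_lit 650444)) (BT.leaf (nat_lit 650444)))) (BT.node (nat_lit 4534274) (BT.node (nat_lit 4534273) (BT.leaf (nat_lit 650444)) (BT.leaf (nat_lit 717640))) (BT.node (nat_lit 4534277) (BT.leaf (nat_lit 653696)) (BT.leaf (nat_lit 717640)))))) (BT.node (nat_lit 4534469) (BT.node (nat_lit 4534341) (BT.node (nat_lit 4534338) (BT.node (nat_lit 4534337) (BT.leaf (nat_lit 653696)) (BT.leaf (nat_lit 654444))) (BT.node (nat_lit 4534340) (BT.leaf (nat_lit 633456)) (BT.leaf (nat_lit 654444)))) (BT.node (nat_lit 4534401) (BT.node (nat_lit 4534344) (BT.leaf (nat_lit 654444)) (BT.leaf (nat_lit 654444))) (BT.node (nat_lit 4534466) (BT.leaf (nat_lit 766832)) (BT.leaf (nat_lit 693688))))) (BT.node (nat_lit 4534597) (BT.node (nat_lit 4534471) (BT.node (nat_lit 4534470) (BT.leaf (nat_lit 693688)) (BT.leaf (nat_lit 693688))) (BT.node (nat_lit 4534472) (BT.leaf (nat_lit 693688)) (BT.leaf (nat_lit 693688)))) (BT.node (nat_lit 4534600) (BT.node (nat_lit 4534598) (BT.leaf (nat_lit 706236)) (BT.leaf (nat_lit 646628))) (BT.node (nat_lit 4534659) (BT.leaf (nat_lit 646628)) (BT.leaf (nat_lit 636992)))))))) (BT.node (nat_lit 4535364) (BT.node (nat_lit 4534914) (BT.node (nat_lit 4534786) (BT.node (nat_lit 4534724) (BT.node (nat_lit 4534722) (BT.node (nat_lit 4534664) (BT.leaf (nat_lit 668572)) (BT.leaf (nat_lit 636992))) (BT.node (nat_lit 4534723) (BT.leaf (nat_lit 690576)) (BT.leaf (nat_lit 690576)))) (BT.node (nat_lit 4534728) (BT.node (nat_lit 4534725) (BT.leaf (nat_lit 698076)) (BT.leaf (nat_lit 690576))) (BT.node (nat_lit 4534785) (BT.leaf (nat_lit 690576)) (BT.leaf (nat_lit 637488))))) (BT.node (nat_lit 4534852) (BT.node (nat_lit 4534789) (BT.node (nat_lit 4534788) (BT.leaf (nat_lit 637488)) (BT.leaf (nat_lit 710204))) (BT.node (nat_lit 4534851) (BT.leaf (nat_lit 710204)) (BT.leaf (nat_lit 636688)))) (BT.node (nat_lit 4534855) (BT.node (nat_lit 4534853) (BT.leaf (nat_lit 690844)) (BT.leaf (nat_lit 636688))) (BT.node (nat_lit 4534856) (BT.leaf (nat_lit 636688)) (BT.leaf (nat_lit 636688)))))) (BT.node (nat_lit 4535041) (BT.node (nat_lit 4534919) (BT.node (nat_lit 4534916) (BT.node (nat_lit 4534915) (BT.leaf (nat_lit 719504)) (BT.leaf (nat_lit 719504))) (BT.node (nat_lit 4534918) (BT.leaf (nat_lit 758716)) (BT.leaf (nat_lit 637136)))) (BT.node (nat_lit 4534977) (BT.node (nat_lit 4534920) (BT.leaf (nat_lit 637136)) (BT.leaf (nat_lit 637136))) (BT.node (nat_lit 4534980) (BT.leaf (nat_lit 680924)) (BT.leaf (nat_lit 793528))))) (BT.node (nat_lit 4535239) (BT.node (nat_lit 4535048) (BT.node (nat_lit 4535044) (BT.leaf (nat_lit 648352)) (BT.leaf (nat_lit 648352))) (BT.node (nat_lit 4535238) (BT.leaf (nat_lit 648352)) (BT.leaf (nat_lit 674616)))) (BT.node (nat_lit 4535362) (BT.node (nat_lit 4535240) (BT.leaf (nat_lit 674616)) (BT.leaf (nat_lit 674616))) (BT.node (nat_lit 4535363) (BT.leaf (nat_lit 656948)) (BT.leaf (nat_lit 656948))))))) (BT.node (nat_lit 4535813) (BT.node (nat_lit 4535681) (BT.node (nat_lit 4535556) (BT.node (nat_lit 4535492) (BT.node (nat_lit 4535428) (BT.leaf (nat_lit 656948)) (BT.leaf (nat_lit 682820))) (BT.node (nat_lit 4535555) (BT.leaf (nat_lit 670292)) (BT.leaf (nat_lit 637140)))) (BT.node (nat_lit 4535620) (BT.node (nat_lit 4535557) (BT.leaf (nat_lit 720300)) (BT.leaf (nat_lit 637140))) (BT.node (nat_lit 4535621) (BT.leaf (nat_lit 710560)) (BT.leaf (nat_lit 710560))))) (BT.node (nat_lit 4535750) (BT.node (nat_lit 4535746) (BT.node (nat_lit 4535688) (BT.leaf (nat_lit 684972)) (BT.leaf (nat_lit 684972))) (BT.node (nat_lit 4535747) (BT.leaf (nat_lit 641892)) (BT.leaf (nat_lit 681000)))) (BT.node (nat_lit 4535809) (BT.node (nat_lit 4535751) (BT.leaf (nat_lit 681000)) (BT.leaf (nat_lit 681000))) (BT.node (nat_lit 4535810) (BT.leaf (nat_lit 747548)) (BT.leaf (nat_lit 747548)))))) (BT.node (nat_lit 4536069) (BT.node (nat_lit 4535874) (BT.node (nat_lit 4535815) (BT.node (nat_lit 4535814) (BT.leaf (nat_lit 664328)) (BT.leaf (nat_lit 747548))) (BT.node (nat_lit 4535816) (BT.leaf (nat_lit 747548)) (BT.leaf (nat_lit 747548)))) (BT.node (nat_lit 4535877) (BT.node (nat_lit 4535875) (BT.leaf (nat_lit 696304)) (BT.leaf (nat_lit 696304))) (BT.node (nat_lit 4535940) (BT.leaf (nat_lit 696304)) (BT.leaf (nat_lit 684292))))) (BT.node (nat_lit 4536133) (BT.node (nat_lit 4536131) (BT.node (nat_lit 4536130) (BT.leaf (nat_lit 639244)) (BT.leaf (nat_lit 641884))) (BT.node (nat_lit 4536132) (BT.leaf (nat_lit 641884)) (BT.leaf (nat_lit 641884)))) (BT.node (nat_lit 4536194) (BT.node (nat_lit 4536136) (BT.leaf (nat_lit 641884)) (BT.leaf (nat_lit 641884))) (BT.node (nat_lit 4536195) (BT.leaf (nat_lit 700756)) (BT.leaf (nat_lit 700756))))))))) (BT.node (nat_lit 4537542) (BT.node (nat_lit 4537026) (BT.node (nat_lit 4536520) (BT.node (nat_lit 4536452) (BT.node (nat_lit 4536264) (BT.node (nat_lit 4536262) (BT.node (nat_lit 4536259) (BT.leaf (nat_lit 700756)) (BT.leaf (nat_lit 715424))) (BT.node (nat_lit 4536263) (BT.leaf (nat_lit 715424)) (BT.leaf (nat_lit 715424)))) (BT.node (nat_lit 4536328) (BT.node (nat_lit 4536321) (BT.leaf (nat_lit 715424)) (BT.leaf (nat_lit 687964))) (BT.node (nat_lit 4536449) (BT.leaf (nat_lit 637012)) (BT.leaf (nat_lit 637000))))) (BT.node (nat_lit 4536515) (BT.node (nat_lit 4536513) (BT.node (nat_lit 4536456) (BT.leaf (nat_lit 637000)) (BT.leaf (nat_lit 637000))) (BT.node (nat_lit 4536514) (BT.leaf (nat_lit 639248)) (BT.leaf (nat_lit 639248)))) (BT.node (nat_lit 4536518) (BT.node (nat_lit 4536516) (BT.leaf (nat_lit 639248)) (BT.leaf (nat_lit 639248))) (BT.node (nat_lit 4536519) (BT.leaf (nat_lit 639248)) (BT.leaf (nat_lit 639248)))))) (BT.node (nat_lit 4536705) (BT.node (nat_lit 4536583) (BT.node (nat_lit 4536580) (BT.node (nat_lit 4536579) (BT.leaf (nat_lit 639248)) (BT.leaf (nat_lit 677576))) (BT.node (nat_lit 4536582) (BT.leaf (nat_lit 750052)) (BT.leaf (nat_lit 677576)))) (BT.node (nat_lit 4536641) (BT.node (nat_lit 4536584) (BT.leaf (nat_lit 677576)) (BT.leaf (nat_lit 677576))) (BT.node (nat_lit 4536648) (BT.leaf (nat_lit 646464)) (BT.leaf (nat_lit 646464))))) (BT.node (nat_lit 4536839) (BT.node (nat_lit 4536772) (BT.node (nat_lit 4536708) (BT.leaf (nat_lit 649768)) (BT.leaf (nat_lit 649768))) (BT.node (nat_lit 4536838) (BT.leaf (nat_lit 685624)) (BT.leaf (nat_lit 683624)))) (BT.node (nat_lit 4536898) (BT.node (nat_lit 4536840) (BT.leaf (nat_lit 683624)) (BT.leaf (nat_lit 683624))) (BT.node (nat_lit 4537025) (BT.leaf (nat_lit 706956)) (BT.leaf (nat_lit 709084))))))) (BT.node (nat_lit 4537285) (BT.node (nat_lit 4537157) (BT.node (nat_lit 4537032) (BT.node (nat_lit 4537030) (BT.node (nat_lit 4537029) (BT.leaf (nat_lit 709084)) (BT.leaf (nat_lit 635864))) (BT.node (nat_lit 4537031) (BT.leaf (nat_lit 635864)) (BT.leaf (nat_lit 635864)))) (BT.node (nat_lit 4537096) (BT.node (nat_lit 4537093) (BT.leaf (nat_lit 709084)) (BT.leaf (nat_lit 669340))) (BT.node (nat_lit 4537153) (BT.leaf (nat_lit 669340)) (BT.leaf (nat_lit 647576))))) (BT.node (nat_lit 4537217) (BT.node (nat_lit 4537159) (BT.node (nat_lit 4537158) (BT.leaf (nat_lit 638844)) (BT.leaf (nat_lit 647576))) (BT.node (nat_lit 4537160) (BT.leaf (nat_lit 647576)) (BT.leaf (nat_lit 638844)))) (BT.node (nat_lit 4537222) (BT.node (nat_lit 4537221) (BT.leaf (nat_lit 647824)) (BT.leaf (nat_lit 647824))) (BT.node (nat_lit 4537224) (BT.leaf (nat_lit 647824)) (BT.leaf (nat_lit 789008)))))) (BT.node (nat_lit 4537473) (BT.node (nat_lit 4537347) (BT.node (nat_lit 4537287) (BT.node (nat_lit 4537286) (BT.leaf (nat_lit 699672)) (BT.leaf (nat_lit 699672))) (BT.node (nat_lit 4537346) (BT.leaf (nat_lit 699672)) (BT.leaf (nat_lit 644104)))) (BT.node (nat_lit 4537412) (BT.node (nat_lit 4537349) (BT.leaf (nat_lit 644104)) (BT.leaf (nat_lit 644104))) (BT.node (nat_lit 4537414) (BT.leaf (nat_lit 702668)) (BT.leaf (nat_lit 637796))))) (BT.node (nat_lit 4537480) (BT.node (nat_lit 4537477) (BT.node (nat_lit 4537475) (BT.leaf (nat_lit 702672)) (BT.leaf (nat_lit 702672))) (BT.node (nat_lit 4537479) (BT.leaf (nat_lit 702672)) (BT.leaf (nat_lit 702672)))) (BT.node (nat_lit 4537538) (BT.node (nat_lit 4537537) (BT.leaf (nat_lit 702672)) (BT.leaf (nat_lit 672584))) (BT.node (nat_lit 4537541) (BT.leaf (nat_lit 672584)) (BT.leaf (nat_lit 700044)))))))) (BT.node (nat_lit 4538308) (BT.node (nat_lit 4537800) (BT.node (nat_lit 4537672) (BT.node (nat_lit 4537608) (BT.node (nat_lit 4537603) (BT.node (nat_lit 4537543) (BT.leaf (nat_lit 700044)) (BT.leaf (nat_lit 700044))) (BT.node (nat_lit 4537606) (BT.leaf (nat_lit 753136)) (BT.leaf (nat_lit 753136)))) (BT.node (nat_lit 4537666) (BT.node (nat_lit 4537665) (BT.leaf (nat_lit 753136)) (BT.leaf (nat_lit 775120))) (BT.node (nat_lit 4537669) (BT.leaf (nat_lit 672604)) (BT.leaf (nat_lit 708192))))) (BT.node (nat_lit 4537793) (BT.node (nat_lit 4537734) (BT.node (nat_lit 4537729) (BT.leaf (nat_lit 672604)) (BT.leaf (nat_lit 656244))) (BT.node (nat_lit 4537735) (BT.leaf (nat_lit 754956)) (BT.leaf (nat_lit 656244)))) (BT.node (nat_lit 4537796) (BT.node (nat_lit 4537794) (BT.leaf (nat_lit 700040)) (BT.leaf (nat_lit 700040))) (BT.node (nat_lit 4537797) (BT.leaf (nat_lit 700040)) (BT.leaf (nat_lit 649960)))))) (BT.node (nat_lit 4537991) (BT.node (nat_lit 4537862) (BT.node (nat_lit 4537858) (BT.node (nat_lit 4537857) (BT.leaf (nat_lit 700040)) (BT.leaf (nat_lit 665508))) (BT.node (nat_lit 4537861) (BT.leaf (nat_lit 665508)) (BT.leaf (nat_lit 665508)))) (BT.node (nat_lit 4537864) (BT.node (nat_lit 4537863) (BT.leaf (nat_lit 665508)) (BT.leaf (nat_lit 665508))) (BT.node (nat_lit 4537990) (BT.leaf (nat_lit 665508)) (BT.leaf (nat_lit 712612))))) (BT.node (nat_lit 4538179) (BT.node (nat_lit 4538055) (BT.node (nat_lit 4538054) (BT.leaf (nat_lit 712612)) (BT.leaf (nat_lit 674392))) (BT.node (nat_lit 4538178) (BT.leaf (nat_lit 674392)) (BT.leaf (nat_lit 680408)))) (BT.node (nat_lit 4538183) (BT.node (nat_lit 4538182) (BT.leaf (nat_lit 680408)) (BT.leaf (nat_lit 793400))) (BT.node (nat_lit 4538248) (BT.leaf (nat_lit 793400)) (BT.leaf (nat_lit 674540))))))) (BT.node (nat_lit 4538819) (BT.node (nat_lit 4538563) (BT.node (nat_lit 4538438) (BT.node (nat_lit 4538435) (BT.node (nat_lit 4538312) (BT.leaf (nat_lit 673804)) (BT.leaf (nat_lit 673804))) (BT.node (nat_lit 4538436) (BT.leaf (nat_lit 635500)) (BT.leaf (nat_lit 635500)))) (BT.node (nat_lit 4538500) (BT.node (nat_lit 4538440) (BT.leaf (nat_lit 635500)) (BT.leaf (nat_lit 635500))) (BT.node (nat_lit 4538561) (BT.leaf (nat_lit 695540)) (BT.leaf (nat_lit 717084))))) (BT.node (nat_lit 4538759) (BT.node (nat_lit 4538757) (BT.node (nat_lit 4538756) (BT.leaf (nat_lit 717084)) (BT.leaf (nat_lit 648576))) (BT.node (nat_lit 4538758) (BT.leaf (nat_lit 648576)) (BT.leaf (nat_lit 648576)))) (BT.node (nat_lit 4538817) (BT.node (nat_lit 4538760) (BT.leaf (nat_lit 648576)) (BT.leaf (nat_lit 648576))) (BT.node (nat_lit 4538818) (BT.leaf (nat_lit 648572)) (BT.leaf (nat_lit 648572)))))) (BT.node (nat_lit 4539076) (BT.node (nat_lit 4539014) (BT.node (nat_lit 4538949) (BT.node (nat_lit 4538822) (BT.leaf (nat_lit 648572)) (BT.leaf (nat_lit 648572))) (BT.node (nat_lit 4539013) (BT.leaf (nat_lit 699664)) (BT.leaf (nat_lit 669304)))) (BT.node (nat_lit 4539073) (BT.node (nat_lit 4539015) (BT.leaf (nat_lit 669304)) (BT.leaf (nat_lit 669304))) (BT.node (nat_lit 4539075) (BT.leaf (nat_lit 663792)) (BT.leaf (nat_lit 663792))))) (BT.node (nat_lit 4539144) (BT.node (nat_lit 4539142) (BT.node (nat_lit 4539137) (BT.leaf (nat_lit 663792)) (BT.leaf (nat_lit 681180))) (BT.node (nat_lit 4539143) (BT.leaf (nat_lit 681180)) (BT.leaf (nat_lit 681180)))) (BT.node (nat_lit 4539204) (BT.node (nat_lit 4539201) (BT.leaf (nat_lit 681180)) (BT.leaf (nat_lit 690488))) (BT.node (nat_lit 4539208) (BT.leaf (nat_lit 676204)) (BT.leaf (nat_lit 690488)))))))))))) (BT.node (nat_lit 4554566) (BT.node (nat_lit 4546306) (BT.node (nat_lit 4542723) (BT.node (nat_lit 4540548) (BT.node (nat_lit 4539906) (BT.node (nat_lit 4539459) (BT.node (nat_lit 4539336) (BT.node (nat_lit 4539272) (BT.node (nat_lit 4539270) (BT.node (nat_lit 4539269) (BT.leaf (nat_lit 632404)) (BT.leaf (nat_lit 632404))) (BT.node (nat_lit 4539271) (BT.leaf (nat_lit 707232)) (BT.leaf (nat_lit 707232)))) (BT.node (nat_lit 4539334) (BT.node (nat_lit 4539331) (BT.leaf (nat_lit 707232)) (BT.leaf (nat_lit 712524))) (BT.node (nat_lit 4539335) (BT.leaf (nat_lit 712524)) (BT.leaf (nat_lit 712524))))) (BT.node (nat_lit 4539396) (BT.node (nat_lit 4539394) (BT.node (nat_lit 4539393) (BT.leaf (nat_lit 712524)) (BT.leaf (nat_lit 712528))) (BT.node (nat_lit 4539395) (BT.leaf (nat_lit 712528)) (BT.leaf (nat_lit 712528)))) (BT.node (nat_lit 4539457) (BT.node (nat_lit 4539400) (BT.leaf (nat_lit 669320)) (BT.leaf (nat_lit 712528))) (BT.node (nat_lit 4539458) (BT.leaf (nat_lit 687540)) (BT.leaf (nat_lit 687540)))))) (BT.node (nat_lit 4539841) (BT.node (nat_lit 4539464) (BT.node (nat_lit 4539462) (BT.node (nat_lit 4539461) (BT.leaf (nat_lit 687540)) (BT.leaf (nat_lit 687540))) (BT.node (nat_lit 4539463) (BT.leaf (nat_lit 687540)) (BT.leaf (nat_lit 687540)))) (BT.node (nat_lit 4539652) (BT.node (nat_lit 4539588) (BT.leaf (nat_lit 687540)) (BT.leaf (nat_lit 664032))) (BT.node (nat_lit 4539653) (BT.leaf (nat_lit 712432)) (BT.leaf (nat_lit 712432))))) (BT.node (nat_lit 4539846) (BT.node (nat_lit 4539843) (BT.node (nat_lit 4539842) (BT.leaf (nat_lit 656432)) (BT.leaf (nat_lit 656432))) (BT.node (nat_lit 4539845) (BT.leaf (nat_lit 656432)) (BT.leaf (nat_lit 656432)))) (BT.node (nat_lit 4539848) (BT.node (nat_lit 4539847) (BT.leaf (nat_lit 656432)) (BT.leaf (nat_lit 656432))) (BT.node (nat_lit 4539905) (BT.leaf (nat_lit 656432)) (BT.leaf (nat_lit 674436))))))) (BT.node (nat_lit 4540226) (BT.node (nat_lit 4540098) (BT.node (nat_lit 4539970) (BT.node (nat_lit 4539908) (BT.node (nat_lit 4539907) (BT.leaf (nat_lit 674436)) (BT.leaf (nat_lit 674436))) (BT.node (nat_lit 4539909) (BT.leaf (nat_lit 689332)) (BT.leaf (nat_lit 674436)))) (BT.node (nat_lit 4539973) (BT.node (nat_lit 4539971) (BT.leaf (nat_lit 748340)) (BT.leaf (nat_lit 748340))) (BT.node (nat_lit 4540037) (BT.leaf (nat_lit 748340)) (BT.leaf (nat_lit 702580))))) (BT.node (nat_lit 4540104) (BT.node (nat_lit 4540102) (BT.node (nat_lit 4540099) (BT.leaf (nat_lit 751356)) (BT.leaf (nat_lit 751356))) (BT.node (nat_lit 4540103) (BT.leaf (nat_lit 633988)) (BT.leaf (nat_lit 633988)))) (BT.node (nat_lit 4540165) (BT.node (nat_lit 4540161) (BT.leaf (nat_lit 633988)) (BT.leaf (nat_lit 692612))) (BT.node (nat_lit 4540168) (BT.leaf (nat_lit 692612)) (BT.leaf (nat_lit 674452)))))) (BT.node (nat_lit 4540419) (BT.node (nat_lit 4540291) (BT.node (nat_lit 4540289) (BT.node (nat_lit 4540228) (BT.leaf (nat_lit 700036)) (BT.leaf (nat_lit 700036))) (BT.node (nat_lit 4540290) (BT.leaf (nat_lit 684952)) (BT.leaf (nat_lit 684952)))) (BT.node (nat_lit 4540417) (BT.node (nat_lit 4540292) (BT.leaf (nat_lit 684952)) (BT.leaf (nat_lit 684952))) (BT.node (nat_lit 4540418) (BT.leaf (nat_lit 697144)) (BT.leaf (nat_lit 697144))))) (BT.node (nat_lit 4540483) (BT.node (nat_lit 4540423) (BT.node (nat_lit 4540422) (BT.leaf (nat_lit 697144)) (BT.leaf (nat_lit 697144))) (BT.node (nat_lit 4540482) (BT.leaf (nat_lit 697144)) (BT.leaf (nat_lit 684120)))) (BT.node (nat_lit 4540485) (BT.node (nat_lit 4540484) (BT.leaf (nat_lit 684120)) (BT.leaf (nat_lit 687856))) (BT.node (nat_lit 4540487) (BT.leaf (nat_lit 684120)) (BT.leaf (nat_lit 684120)))))))) (BT.node (nat_lit 4541124) (BT.node (nat_lit 4540804) (BT.node (nat_lit 4540737) (BT.node (nat_lit 4540616) (BT.node (nat_lit 4540609) (BT.node (nat_lit 4540552) (BT.leaf (nat_lit 703088)) (BT.leaf (nat_lit 691496))) (BT.node (nat_lit 4540612) (BT.leaf (nat_lit 760656)) (BT.leaf (nat_lit 636108)))) (BT.node (nat_lit 4540676) (BT.node (nat_lit 4540673) (BT.leaf (nat_lit 760656)) (BT.leaf (nat_lit 792160))) (BT.node (nat_lit 4540680) (BT.leaf (nat_lit 672312)) (BT.leaf (nat_lit 792160))))) (BT.node (nat_lit 4540741) (BT.node (nat_lit 4540739) (BT.node (nat_lit 4540738) (BT.leaf (nat_lit 807276)) (BT.leaf (nat_lit 807276))) (BT.node (nat_lit 4540740) (BT.leaf (nat_lit 807276)) (BT.leaf (nat_lit 635944)))) (BT.node (nat_lit 4540743) (BT.node (nat_lit 4540742) (BT.leaf (nat_lit 635944)) (BT.leaf (nat_lit 807276))) (BT.node (nat_lit 4540801) (BT.leaf (nat_lit 807276)) (BT.leaf (nat_lit 635524)))))) (BT.node (nat_lit 4540934) (BT.node (nat_lit 4540872) (BT.node (nat_lit 4540866) (BT.node (nat_lit 4540865) (BT.leaf (nat_lit 635524)) (BT.leaf (nat_lit 806940))) (BT.node (nat_lit 4540867) (BT.leaf (nat_lit 806940)) (BT.leaf (nat_lit 747044)))) (BT.node (nat_lit 4540931) (BT.node (nat_lit 4540929) (BT.leaf (nat_lit 747044)) (BT.leaf (nat_lit 666048))) (BT.node (nat_lit 4540933) (BT.leaf (nat_lit 666048)) (BT.leaf (nat_lit 694900))))) (BT.node (nat_lit 4541061) (BT.node (nat_lit 4540998) (BT.node (nat_lit 4540936) (BT.leaf (nat_lit 694900)) (BT.leaf (nat_lit 666048))) (BT.node (nat_lit 4540999) (BT.leaf (nat_lit 719000)) (BT.leaf (nat_lit 719000)))) (BT.node (nat_lit 4541063) (BT.node (nat_lit 4541062) (BT.leaf (nat_lit 694936)) (BT.leaf (nat_lit 694936))) (BT.node (nat_lit 4541064) (BT.leaf (nat_lit 694936)) (BT.leaf (nat_lit 694936))))))) (BT.node (nat_lit 4542084) (BT.node (nat_lit 4541634) (BT.node (nat_lit 4541317) (BT.node (nat_lit 4541313) (BT.node (nat_lit 4541192) (BT.leaf (nat_lit 655292)) (BT.leaf (nat_lit 655564))) (BT.node (nat_lit 4541316) (BT.leaf (nat_lit 648660)) (BT.leaf (nat_lit 648660)))) (BT.node (nat_lit 4541572) (BT.node (nat_lit 4541505) (BT.leaf (nat_lit 682496)) (BT.leaf (nat_lit 651736))) (BT.node (nat_lit 4541576) (BT.leaf (nat_lit 702344)) (BT.leaf (nat_lit 702344))))) (BT.node (nat_lit 4541825) (BT.node (nat_lit 4541700) (BT.node (nat_lit 4541697) (BT.leaf (nat_lit 708872)) (BT.leaf (nat_lit 673664))) (BT.node (nat_lit 4541704) (BT.leaf (nat_lit 673664)) (BT.leaf (nat_lit 673664)))) (BT.node (nat_lit 4541893) (BT.node (nat_lit 4541832) (BT.leaf (nat_lit 655516)) (BT.leaf (nat_lit 711084))) (BT.node (nat_lit 4541958) (BT.leaf (nat_lit 642100)) (BT.leaf (nat_lit 698528)))))) (BT.node (nat_lit 4542535) (BT.node (nat_lit 4542530) (BT.node (nat_lit 4542277) (BT.node (nat_lit 4542273) (BT.leaf (nat_lit 635872)) (BT.leaf (nat_lit 706140))) (BT.node (nat_lit 4542529) (BT.leaf (nat_lit 706140)) (BT.leaf (nat_lit 637152)))) (BT.node (nat_lit 4542532) (BT.node (nat_lit 4542531) (BT.leaf (nat_lit 637152)) (BT.leaf (nat_lit 668576))) (BT.node (nat_lit 4542534) (BT.leaf (nat_lit 637152)) (BT.leaf (nat_lit 668576))))) (BT.node (nat_lit 4542660) (BT.node (nat_lit 4542658) (BT.node (nat_lit 4542536) (BT.leaf (nat_lit 668576)) (BT.leaf (nat_lit 668576))) (BT.node (nat_lit 4542659) (BT.leaf (nat_lit 640176)) (BT.leaf (nat_lit 640176)))) (BT.node (nat_lit 4542721) (BT.node (nat_lit 4542664) (BT.leaf (nat_lit 640176)) (BT.leaf (nat_lit 640176))) (BT.node (nat_lit 4542722) (BT.leaf (nat_lit 755788)) (BT.leaf (nat_lit 755788))))))))) (BT.node (nat_lit 4544709) (BT.node (nat_lit 4543560) (BT.node (nat_lit 4543042) (BT.node (nat_lit 4542855) (BT.node (nat_lit 4542791) (BT.node (nat_lit 4542728) (BT.node (nat_lit 4542725) (BT.leaf (nat_lit 755788)) (BT.leaf (nat_lit 755788))) (BT.node (nat_lit 4542790) (BT.leaf (nat_lit 755788)) (BT.leaf (nat_lit 641440)))) (BT.node (nat_lit 4542851) (BT.node (nat_lit 4542850) (BT.leaf (nat_lit 641440)) (BT.leaf (nat_lit 634016))) (BT.node (nat_lit 4542854) (BT.leaf (nat_lit 634016)) (BT.leaf (nat_lit 634016))))) (BT.node (nat_lit 4542977) (BT.node (nat_lit 4542916) (BT.node (nat_lit 4542913) (BT.leaf (nat_lit 634016)) (BT.leaf (nat_lit 634024))) (BT.node (nat_lit 4542917) (BT.leaf (nat_lit 668072)) (BT.leaf (nat_lit 634024)))) (BT.node (nat_lit 4542979) (BT.node (nat_lit 4542978) (BT.leaf (nat_lit 657152)) (BT.leaf (nat_lit 657152))) (BT.node (nat_lit 4542980) (BT.leaf (nat_lit 657152)) (BT.leaf (nat_lit 657152)))))) (BT.node (nat_lit 4543111) (BT.node (nat_lit 4543106) (BT.node (nat_lit 4543048) (BT.node (nat_lit 4543043) (BT.leaf (nat_lit 668068)) (BT.leaf (nat_lit 668068))) (BT.node (nat_lit 4543105) (BT.leaf (nat_lit 668068)) (BT.leaf (nat_lit 666268)))) (BT.node (nat_lit 4543108) (BT.node (nat_lit 4543107) (BT.leaf (nat_lit 634144)) (BT.leaf (nat_lit 634144))) (BT.node (nat_lit 4543110) (BT.leaf (nat_lit 666268)) (BT.leaf (nat_lit 634144))))) (BT.node (nat_lit 4543493) (BT.node (nat_lit 4543368) (BT.node (nat_lit 4543112) (BT.leaf (nat_lit 634144)) (BT.leaf (nat_lit 666268))) (BT.node (nat_lit 4543489) (BT.leaf (nat_lit 689276)) (BT.leaf (nat_lit 660696)))) (BT.node (nat_lit 4543495) (BT.node (nat_lit 4543494) (BT.leaf (nat_lit 660696)) (BT.leaf (nat_lit 660696))) (BT.node (nat_lit 4543556) (BT.leaf (nat_lit 660696)) (BT.leaf (nat_lit 646492))))))) (BT.node (nat_lit 4544262) (BT.node (nat_lit 4544069) (BT.node (nat_lit 4543750) (BT.node (nat_lit 4543746) (BT.node (nat_lit 4543745) (BT.leaf (nat_lit 646492)) (BT.leaf (nat_lit 709528))) (BT.node (nat_lit 4543747) (BT.leaf (nat_lit 709528)) (BT.leaf (nat_lit 709528)))) (BT.node (nat_lit 4543813) (BT.node (nat_lit 4543751) (BT.leaf (nat_lit 709528)) (BT.leaf (nat_lit 709528))) (BT.node (nat_lit 4544068) (BT.leaf (nat_lit 650136)) (BT.leaf (nat_lit 678240))))) (BT.node (nat_lit 4544196) (BT.node (nat_lit 4544131) (BT.node (nat_lit 4544130) (BT.leaf (nat_lit 678240)) (BT.leaf (nat_lit 719696))) (BT.node (nat_lit 4544195) (BT.leaf (nat_lit 719696)) (BT.leaf (nat_lit 719688)))) (BT.node (nat_lit 4544257) (BT.node (nat_lit 4544197) (BT.leaf (nat_lit 807904)) (BT.leaf (nat_lit 675588))) (BT.node (nat_lit 4544261) (BT.leaf (nat_lit 639952)) (BT.leaf (nat_lit 673668)))))) (BT.node (nat_lit 4544386) (BT.node (nat_lit 4544323) (BT.node (nat_lit 4544321) (BT.node (nat_lit 4544263) (BT.leaf (nat_lit 639952)) (BT.leaf (nat_lit 639952))) (BT.node (nat_lit 4544322) (BT.leaf (nat_lit 639940)) (BT.leaf (nat_lit 639940)))) (BT.node (nat_lit 4544325) (BT.node (nat_lit 4544324) (BT.leaf (nat_lit 639940)) (BT.leaf (nat_lit 639940))) (BT.node (nat_lit 4544385) (BT.leaf (nat_lit 639940)) (BT.leaf (nat_lit 659980))))) (BT.node (nat_lit 4544391) (BT.node (nat_lit 4544389) (BT.node (nat_lit 4544387) (BT.leaf (nat_lit 659980)) (BT.leaf (nat_lit 659980))) (BT.node (nat_lit 4544390) (BT.leaf (nat_lit 659980)) (BT.leaf (nat_lit 659980)))) (BT.node (nat_lit 4544584) (BT.node (nat_lit 4544392) (BT.leaf (nat_lit 659980)) (BT.leaf (nat_lit 659980))) (BT.node (nat_lit 4544642) (BT.leaf (nat_lit 723600)) (BT.leaf (nat_lit 740572)))))))) (BT.node (nat_lit 4545798) (BT.node (nat_lit 4545095) (BT.node (nat_lit 4544901) (BT.node (nat_lit 4544837) (BT.node (nat_lit 4544834) (BT.node (nat_lit 4544769) (BT.leaf (nat_lit 701352)) (BT.leaf (nat_lit 745432))) (BT.node (nat_lit 4544835) (BT.leaf (nat_lit 650440)) (BT.leaf (nat_lit 650440)))) (BT.node (nat_lit 4544897) (BT.node (nat_lit 4544840) (BT.leaf (nat_lit 711088)) (BT.leaf (nat_lit 711088))) (BT.node (nat_lit 4544898) (BT.leaf (nat_lit 689940)) (BT.leaf (nat_lit 689940))))) (BT.node (nat_lit 4545025) (BT.node (nat_lit 4544903) (BT.node (nat_lit 4544902) (BT.leaf (nat_lit 689940)) (BT.leaf (nat_lit 689940))) (BT.node (nat_lit 4544904) (BT.leaf (nat_lit 689940)) (BT.leaf (nat_lit 689940)))) (BT.node (nat_lit 4545093) (BT.node (nat_lit 4545089) (BT.leaf (nat_lit 743320)) (BT.leaf (nat_lit 693660))) (BT.node (nat_lit 4545094) (BT.leaf (nat_lit 693660)) (BT.leaf (nat_lit 693660)))))) (BT.node (nat_lit 4545350) (BT.node (nat_lit 4545282) (BT.node (nat_lit 4545160) (BT.node (nat_lit 4545156) (BT.leaf (nat_lit 693660)) (BT.leaf (nat_lit 697856))) (BT.node (nat_lit 4545220) (BT.leaf (nat_lit 697856)) (BT.leaf (nat_lit 710672)))) (BT.node (nat_lit 4545284) (BT.node (nat_lit 4545283) (BT.leaf (nat_lit 648904)) (BT.leaf (nat_lit 648904))) (BT.node (nat_lit 4545347) (BT.leaf (nat_lit 648904)) (BT.leaf (nat_lit 673700))))) (BT.node (nat_lit 4545668) (BT.node (nat_lit 4545409) (BT.node (nat_lit 4545351) (BT.leaf (nat_lit 673700)) (BT.leaf (nat_lit 673700))) (BT.node (nat_lit 4545416) (BT.leaf (nat_lit 655512)) (BT.leaf (nat_lit 655512)))) (BT.node (nat_lit 4545733) (BT.node (nat_lit 4545732) (BT.leaf (nat_lit 655260)) (BT.leaf (nat_lit 683932))) (BT.node (nat_lit 4545797) (BT.leaf (nat_lit 704688)) (BT.leaf (nat_lit 683936))))))) (BT.node (nat_lit 4546114) (BT.node (nat_lit 4545927) (BT.node (nat_lit 4545864) (BT.node (nat_lit 4545800) (BT.node (nat_lit 4545799) (BT.leaf (nat_lit 683936)) (BT.leaf (nat_lit 683936))) (BT.node (nat_lit 4545857) (BT.leaf (nat_lit 683936)) (BT.leaf (nat_lit 646012)))) (BT.node (nat_lit 4545923) (BT.node (nat_lit 4545922) (BT.leaf (nat_lit 646012)) (BT.leaf (nat_lit 796816))) (BT.node (nat_lit 4545926) (BT.leaf (nat_lit 776648)) (BT.leaf (nat_lit 776648))))) (BT.node (nat_lit 4545989) (BT.node (nat_lit 4545987) (BT.node (nat_lit 4545928) (BT.leaf (nat_lit 796816)) (BT.leaf (nat_lit 796816))) (BT.node (nat_lit 4545988) (BT.leaf (nat_lit 660832)) (BT.leaf (nat_lit 676284)))) (BT.node (nat_lit 4546050) (BT.node (nat_lit 4545992) (BT.leaf (nat_lit 660832)) (BT.leaf (nat_lit 660832))) (BT.node (nat_lit 4546113) (BT.leaf (nat_lit 713188)) (BT.leaf (nat_lit 672404)))))) (BT.node (nat_lit 4546181) (BT.node (nat_lit 4546119) (BT.node (nat_lit 4546116) (BT.node (nat_lit 4546115) (BT.leaf (nat_lit 672404)) (BT.leaf (nat_lit 672404))) (BT.node (nat_lit 4546118) (BT.leaf (nat_lit 772748)) (BT.leaf (nat_lit 672404)))) (BT.node (nat_lit 4546177) (BT.node (nat_lit 4546120) (BT.leaf (nat_lit 672404)) (BT.leaf (nat_lit 672404))) (BT.node (nat_lit 4546178) (BT.leaf (nat_lit 645916)) (BT.leaf (nat_lit 772752))))) (BT.node (nat_lit 4546244) (BT.node (nat_lit 4546241) (BT.node (nat_lit 4546184) (BT.leaf (nat_lit 645916)) (BT.leaf (nat_lit 772752))) (BT.node (nat_lit 4546242) (BT.leaf (nat_lit 713212)) (BT.leaf (nat_lit 713212)))) (BT.node (nat_lit 4546248) (BT.node (nat_lit 4546245) (BT.leaf (nat_lit 659328)) (BT.leaf (nat_lit 655928))) (BT.node (nat_lit 4546305) (BT.leaf (nat_lit 713212)) (BT.leaf (nat_lit 772704)))))))))) (BT.node (nat_lit 4550020) (BT.node (nat_lit 4548355) (BT.node (nat_lit 4547719) (BT.node (nat_lit 4547141) (BT.node (nat_lit 4546631) (BT.node (nat_lit 4546567) (BT.node (nat_lit 4546312) (BT.node (nat_lit 4546307) (BT.leaf (nat_lit 772704)) (BT.leaf (nat_lit 772704))) (BT.node (nat_lit 4546376) (BT.leaf (nat_lit 772704)) (BT.leaf (nat_lit 761552)))) (BT.node (nat_lit 4546627) (BT.node (nat_lit 4546626) (BT.leaf (nat_lit 657148)) (BT.leaf (nat_lit 718964))) (BT.node (nat_lit 4546630) (BT.leaf (nat_lit 718964)) (BT.leaf (nat_lit 718964))))) (BT.node (nat_lit 4546758) (BT.node (nat_lit 4546755) (BT.node (nat_lit 4546754) (BT.leaf (nat_lit 718964)) (BT.leaf (nat_lit 717832))) (BT.node (nat_lit 4546756) (BT.leaf (nat_lit 717832)) (BT.leaf (nat_lit 678396)))) (BT.node (nat_lit 4546948) (BT.node (nat_lit 4546821) (BT.leaf (nat_lit 717832)) (BT.leaf (nat_lit 641448))) (BT.node (nat_lit 4546949) (BT.leaf (nat_lit 683596)) (BT.leaf (nat_lit 683596)))))) (BT.node (nat_lit 4547651) (BT.node (nat_lit 4547333) (BT.node (nat_lit 4547204) (BT.node (nat_lit 4547201) (BT.leaf (nat_lit 708796)) (BT.leaf (nat_lit 717824))) (BT.node (nat_lit 4547268) (BT.leaf (nat_lit 717824)) (BT.leaf (nat_lit 693920)))) (BT.node (nat_lit 4547335) (BT.node (nat_lit 4547334) (BT.leaf (nat_lit 716956)) (BT.leaf (nat_lit 716956))) (BT.node (nat_lit 4547650) (BT.leaf (nat_lit 716956)) (BT.leaf (nat_lit 717836))))) (BT.node (nat_lit 4547714) (BT.node (nat_lit 4547654) (BT.node (nat_lit 4547652) (BT.leaf (nat_lit 717836)) (BT.leaf (nat_lit 711272))) (BT.node (nat_lit 4547655) (BT.leaf (nat_lit 717836)) (BT.leaf (nat_lit 717836)))) (BT.node (nat_lit 4547717) (BT.node (nat_lit 4547715) (BT.leaf (nat_lit 668828)) (BT.leaf (nat_lit 668828))) (BT.node (nat_lit 4547718) (BT.leaf (nat_lit 668828)) (BT.leaf (nat_lit 668828))))))) (BT.node (nat_lit 4548162) (BT.node (nat_lit 4547974) (BT.node (nat_lit 4547846) (BT.node (nat_lit 4547783) (BT.node (nat_lit 4547782) (BT.leaf (nat_lit 668828)) (BT.leaf (nat_lit 714792))) (BT.node (nat_lit 4547784) (BT.leaf (nat_lit 714792)) (BT.leaf (nat_lit 714792)))) (BT.node (nat_lit 4547848) (BT.node (nat_lit 4547847) (BT.leaf (nat_lit 668048)) (BT.leaf (nat_lit 668048))) (BT.node (nat_lit 4547908) (BT.leaf (nat_lit 668048)) (BT.leaf (nat_lit 680416))))) (BT.node (nat_lit 4548035) (BT.node (nat_lit 4548033) (BT.node (nat_lit 4547975) (BT.leaf (nat_lit 719932)) (BT.leaf (nat_lit 719932))) (BT.node (nat_lit 4548034) (BT.leaf (nat_lit 685436)) (BT.leaf (nat_lit 685436)))) (BT.node (nat_lit 4548101) (BT.node (nat_lit 4548036) (BT.leaf (nat_lit 685436)) (BT.leaf (nat_lit 685436))) (BT.node (nat_lit 4548102) (BT.leaf (nat_lit 675896)) (BT.leaf (nat_lit 675896)))))) (BT.node (nat_lit 4548289) (BT.node (nat_lit 4548227) (BT.node (nat_lit 4548166) (BT.node (nat_lit 4548163) (BT.leaf (nat_lit 721412)) (BT.leaf (nat_lit 721412))) (BT.node (nat_lit 4548167) (BT.leaf (nat_lit 721412)) (BT.leaf (nat_lit 721412)))) (BT.node (nat_lit 4548230) (BT.node (nat_lit 4548228) (BT.leaf (nat_lit 702536)) (BT.leaf (nat_lit 658800))) (BT.node (nat_lit 4548232) (BT.leaf (nat_lit 702536)) (BT.leaf (nat_lit 658800))))) (BT.node (nat_lit 4548294) (BT.node (nat_lit 4548291) (BT.node (nat_lit 4548290) (BT.leaf (nat_lit 658796)) (BT.leaf (nat_lit 658796))) (BT.node (nat_lit 4548293) (BT.leaf (nat_lit 658796)) (BT.leaf (nat_lit 658796)))) (BT.node (nat_lit 4548296) (BT.node (nat_lit 4548295) (BT.leaf (nat_lit 658796)) (BT.leaf (nat_lit 658796))) (BT.node (nat_lit 4548354) (BT.leaf (nat_lit 658796)) (BT.leaf (nat_lit 711440)))))))) (BT.node (nat_lit 4549124) (BT.node (nat_lit 4548804) (BT.node (nat_lit 4548678) (BT.node (nat_lit 4548488) (BT.node (nat_lit 4548423) (BT.node (nat_lit 4548357) (BT.leaf (nat_lit 711440)) (BT.leaf (nat_lit 711440))) (BT.node (nat_lit 4548481) (BT.leaf (nat_lit 687212)) (BT.leaf (nat_lit 698376)))) (BT.node (nat_lit 4548612) (BT.node (nat_lit 4548609) (BT.leaf (nat_lit 698376)) (BT.leaf (nat_lit 640072))) (BT.node (nat_lit 4548616) (BT.leaf (nat_lit 640072)) (BT.leaf (nat_lit 640072))))) (BT.node (nat_lit 4548744) (BT.node (nat_lit 4548738) (BT.node (nat_lit 4548679) (BT.leaf (nat_lit 641832)) (BT.leaf (nat_lit 641832))) (BT.node (nat_lit 4548742) (BT.leaf (nat_lit 648128)) (BT.leaf (nat_lit 648128)))) (BT.node (nat_lit 4548802) (BT.node (nat_lit 4548801) (BT.leaf (nat_lit 648128)) (BT.leaf (nat_lit 641524))) (BT.node (nat_lit 4548803) (BT.leaf (nat_lit 641524)) (BT.leaf (nat_lit 641524)))))) (BT.node (nat_lit 4548998) (BT.node (nat_lit 4548993) (BT.node (nat_lit 4548870) (BT.node (nat_lit 4548805) (BT.leaf (nat_lit 641524)) (BT.leaf (nat_lit 641524))) (BT.node (nat_lit 4548871) (BT.leaf (nat_lit 701316)) (BT.leaf (nat_lit 701316)))) (BT.node (nat_lit 4548995) (BT.node (nat_lit 4548994) (BT.leaf (nat_lit 650492)) (BT.leaf (nat_lit 650492))) (BT.node (nat_lit 4548997) (BT.leaf (nat_lit 650492)) (BT.leaf (nat_lit 650492))))) (BT.node (nat_lit 4549059) (BT.node (nat_lit 4549000) (BT.node (nat_lit 4548999) (BT.leaf (nat_lit 650492)) (BT.leaf (nat_lit 650492))) (BT.node (nat_lit 4549057) (BT.leaf (nat_lit 650492)) (BT.leaf (nat_lit 696632)))) (BT.node (nat_lit 4549061) (BT.node (nat_lit 4549060) (BT.leaf (nat_lit 696632)) (BT.leaf (nat_lit 696632))) (BT.node (nat_lit 4549121) (BT.leaf (nat_lit 696632)) (BT.leaf (nat_lit 687204))))))) (BT.node (nat_lit 4549505) (BT.node (nat_lit 4549192) (BT.node (nat_lit 4549186) (BT.node (nat_lit 4549128) (BT.node (nat_lit 4549125) (BT.leaf (nat_lit 658004)) (BT.leaf (nat_lit 658004))) (BT.node (nat_lit 4549185) (BT.leaf (nat_lit 687204)) (BT.leaf (nat_lit 683140)))) (BT.node (nat_lit 4549188) (BT.node (nat_lit 4549187) (BT.leaf (nat_lit 683140)) (BT.leaf (nat_lit 683140))) (BT.node (nat_lit 4549189) (BT.leaf (nat_lit 683140)) (BT.leaf (nat_lit 673044))))) (BT.node (nat_lit 4549317) (BT.node (nat_lit 4549251) (BT.node (nat_lit 4549250) (BT.leaf (nat_lit 683140)) (BT.leaf (nat_lit 655768))) (BT.node (nat_lit 4549252) (BT.leaf (nat_lit 655768)) (BT.leaf (nat_lit 655768)))) (BT.node (nat_lit 4549382) (BT.node (nat_lit 4549378) (BT.leaf (nat_lit 680056)) (BT.leaf (nat_lit 723292))) (BT.node (nat_lit 4549448) (BT.leaf (nat_lit 635592)) (BT.leaf (nat_lit 671096)))))) (BT.node (nat_lit 4549764) (BT.node (nat_lit 4549633) (BT.node (nat_lit 4549511) (BT.node (nat_lit 4549506) (BT.leaf (nat_lit 722312)) (BT.leaf (nat_lit 722312))) (BT.node (nat_lit 4549576) (BT.leaf (nat_lit 722312)) (BT.leaf (nat_lit 693744)))) (BT.node (nat_lit 4549697) (BT.node (nat_lit 4549636) (BT.leaf (nat_lit 689176)) (BT.leaf (nat_lit 652988))) (BT.node (nat_lit 4549701) (BT.leaf (nat_lit 699936)) (BT.leaf (nat_lit 687568))))) (BT.node (nat_lit 4549831) (BT.node (nat_lit 4549826) (BT.node (nat_lit 4549765) (BT.leaf (nat_lit 635304)) (BT.leaf (nat_lit 635304))) (BT.node (nat_lit 4549830) (BT.leaf (nat_lit 712876)) (BT.leaf (nat_lit 712876)))) (BT.node (nat_lit 4549956) (BT.node (nat_lit 4549892) (BT.leaf (nat_lit 712876)) (BT.leaf (nat_lit 692672))) (BT.node (nat_lit 4549957) (BT.leaf (nat_lit 653604)) (BT.leaf (nat_lit 653604))))))))) (BT.node (nat_lit 4552705) (BT.node (nat_lit 4551684) (BT.node (nat_lit 4551112) (BT.node (nat_lit 4550724) (BT.node (nat_lit 4550086) (BT.node (nat_lit 4550081) (BT.node (nat_lit 4550021) (BT.leaf (nat_lit 655016)) (BT.leaf (nat_lit 655016))) (BT.node (nat_lit 4550082) (BT.leaf (nat_lit 777324)) (BT.leaf (nat_lit 777324)))) (BT.node (nat_lit 4550148) (BT.node (nat_lit 4550087) (BT.leaf (nat_lit 769924)) (BT.leaf (nat_lit 769924))) (BT.node (nat_lit 4550152) (BT.leaf (nat_lit 719088)) (BT.leaf (nat_lit 777772))))) (BT.node (nat_lit 4550916) (BT.node (nat_lit 4550789) (BT.node (nat_lit 4550725) (BT.leaf (nat_lit 636092)) (BT.leaf (nat_lit 708532))) (BT.node (nat_lit 4550852) (BT.leaf (nat_lit 745284)) (BT.leaf (nat_lit 702820)))) (BT.node (nat_lit 4551048) (BT.node (nat_lit 4550917) (BT.leaf (nat_lit 721760)) (BT.leaf (nat_lit 636012))) (BT.node (nat_lit 4551105) (BT.leaf (nat_lit 698320)) (BT.leaf (nat_lit 767108)))))) (BT.node (nat_lit 4551364) (BT.node (nat_lit 4551238) (BT.node (nat_lit 4551173) (BT.node (nat_lit 4551172) (BT.leaf (nat_lit 767108)) (BT.leaf (nat_lit 693336))) (BT.node (nat_lit 4551234) (BT.leaf (nat_lit 755104)) (BT.leaf (nat_lit 682304)))) (BT.node (nat_lit 4551300) (BT.node (nat_lit 4551239) (BT.leaf (nat_lit 682304)) (BT.leaf (nat_lit 682304))) (BT.node (nat_lit 4551301) (BT.leaf (nat_lit 634608)) (BT.leaf (nat_lit 690592))))) (BT.node (nat_lit 4551492) (BT.node (nat_lit 4551428) (BT.node (nat_lit 4551368) (BT.leaf (nat_lit 706224)) (BT.leaf (nat_lit 706224))) (BT.node (nat_lit 4551429) (BT.leaf (nat_lit 692032)) (BT.leaf (nat_lit 685168)))) (BT.node (nat_lit 4551619) (BT.node (nat_lit 4551617) (BT.leaf (nat_lit 671928)) (BT.leaf (nat_lit 777612))) (BT.node (nat_lit 4551622) (BT.leaf (nat_lit 777612)) (BT.leaf (nat_lit 777612))))))) (BT.node (nat_lit 4552386) (BT.node (nat_lit 4552197) (BT.node (nat_lit 4551942) (BT.node (nat_lit 4551877) (BT.node (nat_lit 4551809) (BT.leaf (nat_lit 639708)) (BT.leaf (nat_lit 747716))) (BT.node (nat_lit 4551939) (BT.leaf (nat_lit 714300)) (BT.leaf (nat_lit 696192)))) (BT.node (nat_lit 4552007) (BT.node (nat_lit 4551943) (BT.leaf (nat_lit 696192)) (BT.leaf (nat_lit 696192))) (BT.node (nat_lit 4552193) (BT.leaf (nat_lit 777232)) (BT.leaf (nat_lit 650256))))) (BT.node (nat_lit 4552323) (BT.node (nat_lit 4552264) (BT.node (nat_lit 4552199) (BT.leaf (nat_lit 650256)) (BT.leaf (nat_lit 650256))) (BT.node (nat_lit 4552322) (BT.leaf (nat_lit 652540)) (BT.leaf (nat_lit 638460)))) (BT.node (nat_lit 4552327) (BT.node (nat_lit 4552326) (BT.leaf (nat_lit 638460)) (BT.leaf (nat_lit 647860))) (BT.node (nat_lit 4552328) (BT.leaf (nat_lit 647860)) (BT.leaf (nat_lit 647860)))))) (BT.node (nat_lit 4552579) (BT.node (nat_lit 4552453) (BT.node (nat_lit 4552449) (BT.node (nat_lit 4552388) (BT.leaf (nat_lit 676648)) (BT.leaf (nat_lit 676648))) (BT.node (nat_lit 4552450) (BT.leaf (nat_lit 636008)) (BT.leaf (nat_lit 636008)))) (BT.node (nat_lit 4552455) (BT.node (nat_lit 4552454) (BT.leaf (nat_lit 708544)) (BT.leaf (nat_lit 636008))) (BT.node (nat_lit 4552578) (BT.leaf (nat_lit 636008)) (BT.leaf (nat_lit 715864))))) (BT.node (nat_lit 4552643) (BT.node (nat_lit 4552641) (BT.node (nat_lit 4552580) (BT.leaf (nat_lit 715864)) (BT.leaf (nat_lit 715864))) (BT.node (nat_lit 4552642) (BT.leaf (nat_lit 761840)) (BT.leaf (nat_lit 761840)))) (BT.node (nat_lit 4552645) (BT.node (nat_lit 4552644) (BT.leaf (nat_lit 761840)) (BT.leaf (nat_lit 691564))) (BT.node (nat_lit 4552648) (BT.leaf (nat_lit 676824)) (BT.leaf (nat_lit 761840)))))))) (BT.node (nat_lit 4553414) (BT.node (nat_lit 4553156) (BT.node (nat_lit 4552776) (BT.node (nat_lit 4552712) (BT.node (nat_lit 4552710) (BT.node (nat_lit 4552708) (BT.leaf (nat_lit 683820)) (BT.leaf (nat_lit 681812))) (BT.node (nat_lit 4552711) (BT.leaf (nat_lit 683820)) (BT.leaf (nat_lit 683820)))) (BT.node (nat_lit 4552770) (BT.node (nat_lit 4552769) (BT.leaf (nat_lit 681812)) (BT.leaf (nat_lit 716468))) (BT.node (nat_lit 4552771) (BT.leaf (nat_lit 716468)) (BT.leaf (nat_lit 716468))))) (BT.node (nat_lit 4552840) (BT.node (nat_lit 4552838) (BT.node (nat_lit 4552834) (BT.leaf (nat_lit 716468)) (BT.leaf (nat_lit 722388))) (BT.node (nat_lit 4552839) (BT.leaf (nat_lit 722388)) (BT.leaf (nat_lit 722388)))) (BT.node (nat_lit 4553154) (BT.node (nat_lit 4553089) (BT.leaf (nat_lit 722388)) (BT.leaf (nat_lit 662280))) (BT.node (nat_lit 4553155) (BT.leaf (nat_lit 640900)) (BT.leaf (nat_lit 722580)))))) (BT.node (nat_lit 4553288) (BT.node (nat_lit 4553222) (BT.node (nat_lit 4553159) (BT.node (nat_lit 4553158) (BT.leaf (nat_lit 722580)) (BT.leaf (nat_lit 640900))) (BT.node (nat_lit 4553160) (BT.leaf (nat_lit 640900)) (BT.leaf (nat_lit 722580)))) (BT.node (nat_lit 4553281) (BT.node (nat_lit 4553223) (BT.leaf (nat_lit 670056)) (BT.leaf (nat_lit 648728))) (BT.node (nat_lit 4553285) (BT.leaf (nat_lit 705208)) (BT.leaf (nat_lit 705208))))) (BT.node (nat_lit 4553352) (BT.node (nat_lit 4553347) (BT.node (nat_lit 4553346) (BT.leaf (nat_lit 705208)) (BT.leaf (nat_lit 710116))) (BT.node (nat_lit 4553351) (BT.leaf (nat_lit 710116)) (BT.leaf (nat_lit 775044)))) (BT.node (nat_lit 4553410) (BT.node (nat_lit 4553409) (BT.leaf (nat_lit 710116)) (BT.leaf (nat_lit 720576))) (BT.node (nat_lit 4553411) (BT.leaf (nat_lit 720576)) (BT.leaf (nat_lit 720576))))))) (BT.node (nat_lit 4554117) (BT.node (nat_lit 4553859) (BT.node (nat_lit 4553539) (BT.node (nat_lit 4553474) (BT.node (nat_lit 4553415) (BT.leaf (nat_lit 681312)) (BT.leaf (nat_lit 681312))) (BT.node (nat_lit 4553538) (BT.leaf (nat_lit 793836)) (BT.leaf (nat_lit 793840)))) (BT.node (nat_lit 4553541) (BT.node (nat_lit 4553540) (BT.leaf (nat_lit 793840)) (BT.leaf (nat_lit 670696))) (BT.node (nat_lit 4553858) (BT.leaf (nat_lit 670696)) (BT.leaf (nat_lit 768788))))) (BT.node (nat_lit 4553924) (BT.node (nat_lit 4553862) (BT.node (nat_lit 4553860) (BT.leaf (nat_lit 768788)) (BT.leaf (nat_lit 699544))) (BT.node (nat_lit 4553923) (BT.leaf (nat_lit 768788)) (BT.leaf (nat_lit 643620)))) (BT.node (nat_lit 4554053) (BT.node (nat_lit 4553928) (BT.leaf (nat_lit 643620)) (BT.leaf (nat_lit 643620))) (BT.node (nat_lit 4554116) (BT.leaf (nat_lit 708580)) (BT.leaf (nat_lit 721752)))))) (BT.node (nat_lit 4554246) (BT.node (nat_lit 4554181) (BT.node (nat_lit 4554178) (BT.node (nat_lit 4554177) (BT.leaf (nat_lit 721752)) (BT.leaf (nat_lit 637896))) (BT.node (nat_lit 4554179) (BT.leaf (nat_lit 637896)) (BT.leaf (nat_lit 637896)))) (BT.node (nat_lit 4554183) (BT.node (nat_lit 4554182) (BT.leaf (nat_lit 637896)) (BT.leaf (nat_lit 637896))) (BT.node (nat_lit 4554243) (BT.leaf (nat_lit 637896)) (BT.leaf (nat_lit 679420))))) (BT.node (nat_lit 4554434) (BT.node (nat_lit 4554370) (BT.node (nat_lit 4554248) (BT.leaf (nat_lit 650500)) (BT.leaf (nat_lit 650500))) (BT.node (nat_lit 4554372) (BT.leaf (nat_lit 784772)) (BT.leaf (nat_lit 635748)))) (BT.node (nat_lit 4554437) (BT.node (nat_lit 4554436) (BT.leaf (nat_lit 676776)) (BT.leaf (nat_lit 676776))) (BT.node (nat_lit 4554501) (BT.leaf (nat_lit 676776)) (BT.leaf (nat_lit 655432))))))))))) (BT.node (nat_lit 4564932) (BT.node (nat_lit 4559941) (BT.node (nat_lit 4556867) (BT.node (nat_lit 4555588) (BT.node (nat_lit 4554948) (BT.node (nat_lit 4554691) (BT.node (nat_lit 4554627) (BT.node (nat_lit 4554568) (BT.node (nat_lit 4554567) (BT.leaf (nat_lit 712892)) (BT.leaf (nat_lit 712892))) (BT.node (nat_lit 4554626) (BT.leaf (nat_lit 712892)) (BT.leaf (nat_lit 655408)))) (BT.node (nat_lit 4554629) (BT.node (nat_lit 4554628) (BT.leaf (nat_lit 655408)) (BT.leaf (nat_lit 655408))) (BT.node (nat_lit 4554690) (BT.leaf (nat_lit 655408)) (BT.leaf (nat_lit 771980))))) (BT.node (nat_lit 4554755) (BT.node (nat_lit 4554695) (BT.node (nat_lit 4554694) (BT.leaf (nat_lit 771980)) (BT.leaf (nat_lit 771980))) (BT.node (nat_lit 4554754) (BT.leaf (nat_lit 771980)) (BT.leaf (nat_lit 637860)))) (BT.node (nat_lit 4554759) (BT.node (nat_lit 4554758) (BT.leaf (nat_lit 637860)) (BT.leaf (nat_lit 637860))) (BT.node (nat_lit 4554945) (BT.leaf (nat_lit 637860)) (BT.leaf (nat_lit 644360)))))) (BT.node (nat_lit 4555272) (BT.node (nat_lit 4555075) (BT.node (nat_lit 4555009) (BT.node (nat_lit 4554951) (BT.leaf (nat_lit 647548)) (BT.leaf (nat_lit 644360))) (BT.node (nat_lit 4555014) (BT.leaf (nat_lit 644364)) (BT.leaf (nat_lit 644364)))) (BT.node (nat_lit 4555204) (BT.node (nat_lit 4555076) (BT.leaf (nat_lit 644392)) (BT.leaf (nat_lit 647540))) (BT.node (nat_lit 4555208) (BT.leaf (nat_lit 717908)) (BT.leaf (nat_lit 741692))))) (BT.node (nat_lit 4555336) (BT.node (nat_lit 4555334) (BT.node (nat_lit 4555329) (BT.leaf (nat_lit 741696)) (BT.leaf (nat_lit 804976))) (BT.node (nat_lit 4555335) (BT.leaf (nat_lit 804976)) (BT.leaf (nat_lit 804976)))) (BT.node (nat_lit 4555521) (BT.node (nat_lit 4555399) (BT.leaf (nat_lit 721928)) (BT.leaf (nat_lit 707728))) (BT.node (nat_lit 4555587) (BT.leaf (nat_lit 753316)) (BT.leaf (nat_lit 639688))))))) (BT.node (nat_lit 4556230) (BT.node (nat_lit 4555974) (BT.node (nat_lit 4555777) (BT.node (nat_lit 4555592) (BT.node (nat_lit 4555590) (BT.leaf (nat_lit 639688)) (BT.leaf (nat_lit 701648))) (BT.node (nat_lit 4555652) (BT.leaf (nat_lit 701648)) (BT.leaf (nat_lit 681288)))) (BT.node (nat_lit 4555781) (BT.node (nat_lit 4555780) (BT.leaf (nat_lit 662440)) (BT.leaf (nat_lit 662440))) (BT.node (nat_lit 4555841) (BT.leaf (nat_lit 662440)) (BT.leaf (nat_lit 757888))))) (BT.node (nat_lit 4556104) (BT.node (nat_lit 4556037) (BT.node (nat_lit 4555975) (BT.leaf (nat_lit 712144)) (BT.leaf (nat_lit 712144))) (BT.node (nat_lit 4556097) (BT.leaf (nat_lit 723664)) (BT.leaf (nat_lit 770616)))) (BT.node (nat_lit 4556226) (BT.node (nat_lit 4556225) (BT.leaf (nat_lit 770616)) (BT.leaf (nat_lit 699176))) (BT.node (nat_lit 4556229) (BT.leaf (nat_lit 699176)) (BT.leaf (nat_lit 699176)))))) (BT.node (nat_lit 4556545) (BT.node (nat_lit 4556356) (BT.node (nat_lit 4556232) (BT.node (nat_lit 4556231) (BT.leaf (nat_lit 699176)) (BT.leaf (nat_lit 699176))) (BT.node (nat_lit 4556293) (BT.leaf (nat_lit 699176)) (BT.leaf (nat_lit 669544)))) (BT.node (nat_lit 4556420) (BT.node (nat_lit 4556357) (BT.leaf (nat_lit 655692)) (BT.leaf (nat_lit 655692))) (BT.node (nat_lit 4556421) (BT.leaf (nat_lit 708540)) (BT.leaf (nat_lit 766308))))) (BT.node (nat_lit 4556802) (BT.node (nat_lit 4556679) (BT.node (nat_lit 4556677) (BT.leaf (nat_lit 640260)) (BT.leaf (nat_lit 666080))) (BT.node (nat_lit 4556801) (BT.leaf (nat_lit 666080)) (BT.leaf (nat_lit 643080)))) (BT.node (nat_lit 4556805) (BT.node (nat_lit 4556804) (BT.leaf (nat_lit 643080)) (BT.leaf (nat_lit 643080))) (BT.node (nat_lit 4556808) (BT.leaf (nat_lit 643080)) (BT.leaf (nat_lit 643080)))))))) (BT.node (nat_lit 4557826) (BT.node (nat_lit 4557186) (BT.node (nat_lit 4557059) (BT.node (nat_lit 4556935) (BT.node (nat_lit 4556931) (BT.node (nat_lit 4556930) (BT.leaf (nat_lit 682036)) (BT.leaf (nat_lit 659636))) (BT.node (nat_lit 4556934) (BT.leaf (nat_lit 659636)) (BT.leaf (nat_lit 659636)))) (BT.node (nat_lit 4556995) (BT.node (nat_lit 4556936) (BT.leaf (nat_lit 659636)) (BT.leaf (nat_lit 659636))) (BT.node (nat_lit 4557058) (BT.leaf (nat_lit 740328)) (BT.leaf (nat_lit 704636))))) (BT.node (nat_lit 4557122) (BT.node (nat_lit 4557063) (BT.node (nat_lit 4557062) (BT.leaf (nat_lit 704636)) (BT.leaf (nat_lit 704636))) (BT.node (nat_lit 4557121) (BT.leaf (nat_lit 704636)) (BT.leaf (nat_lit 696704)))) (BT.node (nat_lit 4557125) (BT.node (nat_lit 4557123) (BT.leaf (nat_lit 696704)) (BT.leaf (nat_lit 696704))) (BT.node (nat_lit 4557185) (BT.leaf (nat_lit 696704)) (BT.leaf (nat_lit 684552)))))) (BT.node (nat_lit 4557256) (BT.node (nat_lit 4557191) (BT.node (nat_lit 4557188) (BT.node (nat_lit 4557187) (BT.leaf (nat_lit 680912)) (BT.leaf (nat_lit 680912))) (BT.node (nat_lit 4557190) (BT.leaf (nat_lit 650368)) (BT.leaf (nat_lit 680912)))) (BT.node (nat_lit 4557249) (BT.node (nat_lit 4557192) (BT.leaf (nat_lit 680912)) (BT.leaf (nat_lit 684552))) (BT.node (nat_lit 4557253) (BT.leaf (nat_lit 673992)) (BT.leaf (nat_lit 685964))))) (BT.node (nat_lit 4557319) (BT.node (nat_lit 4557316) (BT.node (nat_lit 4557315) (BT.leaf (nat_lit 673992)) (BT.leaf (nat_lit 654724))) (BT.node (nat_lit 4557318) (BT.leaf (nat_lit 699012)) (BT.leaf (nat_lit 654724)))) (BT.node (nat_lit 4557510) (BT.node (nat_lit 4557505) (BT.leaf (nat_lit 654724)) (BT.leaf (nat_lit 687524))) (BT.node (nat_lit 4557511) (BT.leaf (nat_lit 687524)) (BT.leaf (nat_lit 687524))))))) (BT.node (nat_lit 4558407) (BT.node (nat_lit 4557896) (BT.node (nat_lit 4557831) (BT.node (nat_lit 4557828) (BT.node (nat_lit 4557827) (BT.leaf (nat_lit 756984)) (BT.leaf (nat_lit 756984))) (BT.node (nat_lit 4557830) (BT.leaf (nat_lit 813664)) (BT.leaf (nat_lit 756984)))) (BT.node (nat_lit 4557891) (BT.node (nat_lit 4557889) (BT.leaf (nat_lit 756984)) (BT.leaf (nat_lit 657476))) (BT.node (nat_lit 4557892) (BT.leaf (nat_lit 657476)) (BT.leaf (nat_lit 657476))))) (BT.node (nat_lit 4558276) (BT.node (nat_lit 4558148) (BT.node (nat_lit 4558088) (BT.leaf (nat_lit 657476)) (BT.leaf (nat_lit 719296))) (BT.node (nat_lit 4558210) (BT.leaf (nat_lit 660868)) (BT.leaf (nat_lit 777204)))) (BT.node (nat_lit 4558404) (BT.node (nat_lit 4558277) (BT.leaf (nat_lit 715428)) (BT.leaf (nat_lit 671976))) (BT.node (nat_lit 4558406) (BT.leaf (nat_lit 671424)) (BT.leaf (nat_lit 671424)))))) (BT.node (nat_lit 4558852) (BT.node (nat_lit 4558725) (BT.node (nat_lit 4558598) (BT.node (nat_lit 4558594) (BT.leaf (nat_lit 671424)) (BT.leaf (nat_lit 636828))) (BT.node (nat_lit 4558599) (BT.leaf (nat_lit 636828)) (BT.leaf (nat_lit 636828)))) (BT.node (nat_lit 4558786) (BT.node (nat_lit 4558726) (BT.leaf (nat_lit 698764)) (BT.leaf (nat_lit 698764))) (BT.node (nat_lit 4558789) (BT.leaf (nat_lit 636872)) (BT.leaf (nat_lit 636872))))) (BT.node (nat_lit 4559300) (BT.node (nat_lit 4559107) (BT.node (nat_lit 4558853) (BT.leaf (nat_lit 715616)) (BT.leaf (nat_lit 715616))) (BT.node (nat_lit 4559108) (BT.leaf (nat_lit 677272)) (BT.leaf (nat_lit 677272)))) (BT.node (nat_lit 4559809) (BT.node (nat_lit 4559302) (BT.leaf (nat_lit 687744)) (BT.leaf (nat_lit 656680))) (BT.node (nat_lit 4559810) (BT.leaf (nat_lit 636840)) (BT.leaf (nat_lit 636840))))))))) (BT.node (nat_lit 4562503) (BT.node (nat_lit 4561473) (BT.node (nat_lit 4561025) (BT.node (nat_lit 4560262) (BT.node (nat_lit 4560193) (BT.node (nat_lit 4560008) (BT.node (nat_lit 4560001) (BT.leaf (nat_lit 699760)) (BT.leaf (nat_lit 636864))) (BT.node (nat_lit 4560065) (BT.leaf (nat_lit 636864)) (BT.leaf (nat_lit 815368)))) (BT.node (nat_lit 4560258) (BT.node (nat_lit 4560196) (BT.leaf (nat_lit 748992)) (BT.leaf (nat_lit 748992))) (BT.node (nat_lit 4560261) (BT.leaf (nat_lit 710128)) (BT.leaf (nat_lit 710128))))) (BT.node (nat_lit 4560772) (BT.node (nat_lit 4560453) (BT.node (nat_lit 4560388) (BT.leaf (nat_lit 677884)) (BT.leaf (nat_lit 687288))) (BT.node (nat_lit 4560517) (BT.leaf (nat_lit 671468)) (BT.leaf (nat_lit 691324)))) (BT.node (nat_lit 4560776) (BT.node (nat_lit 4560773) (BT.leaf (nat_lit 669756)) (BT.leaf (nat_lit 696484))) (BT.node (nat_lit 4560836) (BT.leaf (nat_lit 696484)) (BT.leaf (nat_lit 666588)))))) (BT.node (nat_lit 4561160) (BT.node (nat_lit 4561030) (BT.node (nat_lit 4561027) (BT.node (nat_lit 4561026) (BT.leaf (nat_lit 684476)) (BT.leaf (nat_lit 684476))) (BT.node (nat_lit 4561029) (BT.leaf (nat_lit 684476)) (BT.leaf (nat_lit 683004)))) (BT.node (nat_lit 4561089) (BT.node (nat_lit 4561031) (BT.leaf (nat_lit 684476)) (BT.leaf (nat_lit 684476))) (BT.node (nat_lit 4561156) (BT.leaf (nat_lit 665460)) (BT.leaf (nat_lit 709076))))) (BT.node (nat_lit 4561223) (BT.node (nat_lit 4561221) (BT.node (nat_lit 4561217) (BT.leaf (nat_lit 719516)) (BT.leaf (nat_lit 692844))) (BT.node (nat_lit 4561222) (BT.leaf (nat_lit 692844)) (BT.leaf (nat_lit 692844)))) (BT.node (nat_lit 4561349) (BT.node (nat_lit 4561345) (BT.leaf (nat_lit 692844)) (BT.leaf (nat_lit 659392))) (BT.node (nat_lit 4561350) (BT.leaf (nat_lit 659392)) (BT.leaf (nat_lit 720296))))))) (BT.node (nat_lit 4561990) (BT.node (nat_lit 4561799) (BT.node (nat_lit 4561668) (BT.node (nat_lit 4561601) (BT.node (nat_lit 4561541) (BT.leaf (nat_lit 768684)) (BT.leaf (nat_lit 700592))) (BT.node (nat_lit 4561608) (BT.leaf (nat_lit 688984)) (BT.leaf (nat_lit 688984)))) (BT.node (nat_lit 4561797) (BT.node (nat_lit 4561669) (BT.leaf (nat_lit 675464)) (BT.leaf (nat_lit 675416))) (BT.node (nat_lit 4561798) (BT.leaf (nat_lit 652924)) (BT.leaf (nat_lit 652924))))) (BT.node (nat_lit 4561923) (BT.node (nat_lit 4561921) (BT.node (nat_lit 4561860) (BT.leaf (nat_lit 652924)) (BT.leaf (nat_lit 670356))) (BT.node (nat_lit 4561922) (BT.leaf (nat_lit 670268)) (BT.leaf (nat_lit 670268)))) (BT.node (nat_lit 4561926) (BT.node (nat_lit 4561925) (BT.leaf (nat_lit 670268)) (BT.leaf (nat_lit 670268))) (BT.node (nat_lit 4561927) (BT.leaf (nat_lit 670268)) (BT.leaf (nat_lit 670268)))))) (BT.node (nat_lit 4562241) (BT.node (nat_lit 4562177) (BT.node (nat_lit 4562054) (BT.node (nat_lit 4561992) (BT.leaf (nat_lit 769604)) (BT.leaf (nat_lit 769604))) (BT.node (nat_lit 4562055) (BT.leaf (nat_lit 796224)) (BT.leaf (nat_lit 796224)))) (BT.node (nat_lit 4562180) (BT.node (nat_lit 4562179) (BT.leaf (nat_lit 664692)) (BT.leaf (nat_lit 664692))) (BT.node (nat_lit 4562184) (BT.leaf (nat_lit 664692)) (BT.leaf (nat_lit 664692))))) (BT.node (nat_lit 4562498) (BT.node (nat_lit 4562309) (BT.node (nat_lit 4562244) (BT.leaf (nat_lit 658956)) (BT.leaf (nat_lit 658956))) (BT.node (nat_lit 4562438) (BT.leaf (nat_lit 670856)) (BT.leaf (nat_lit 662740)))) (BT.node (nat_lit 4562500) (BT.node (nat_lit 4562499) (BT.leaf (nat_lit 676620)) (BT.leaf (nat_lit 676620))) (BT.node (nat_lit 4562502) (BT.leaf (nat_lit 676620)) (BT.leaf (nat_lit 721064)))))))) (BT.node (nat_lit 4563459) (BT.node (nat_lit 4562887) (BT.node (nat_lit 4562694) (BT.node (nat_lit 4562626) (BT.node (nat_lit 4562564) (BT.node (nat_lit 4562562) (BT.leaf (nat_lit 676620)) (BT.leaf (nat_lit 806908))) (BT.node (nat_lit 4562565) (BT.leaf (nat_lit 713100)) (BT.leaf (nat_lit 644000)))) (BT.node (nat_lit 4562689) (BT.node (nat_lit 4562629) (BT.leaf (nat_lit 806912)) (BT.leaf (nat_lit 721072))) (BT.node (nat_lit 4562693) (BT.leaf (nat_lit 670548)) (BT.leaf (nat_lit 661328))))) (BT.node (nat_lit 4562756) (BT.node (nat_lit 4562754) (BT.node (nat_lit 4562695) (BT.leaf (nat_lit 670548)) (BT.leaf (nat_lit 670548))) (BT.node (nat_lit 4562755) (BT.leaf (nat_lit 682600)) (BT.leaf (nat_lit 723068)))) (BT.node (nat_lit 4562821) (BT.node (nat_lit 4562757) (BT.leaf (nat_lit 642164)) (BT.leaf (nat_lit 682600))) (BT.node (nat_lit 4562822) (BT.leaf (nat_lit 662792)) (BT.leaf (nat_lit 662792)))))) (BT.node (nat_lit 4563139) (BT.node (nat_lit 4563014) (BT.node (nat_lit 4563010) (BT.node (nat_lit 4563009) (BT.leaf (nat_lit 642140)) (BT.leaf (nat_lit 662832))) (BT.node (nat_lit 4563011) (BT.leaf (nat_lit 705864)) (BT.leaf (nat_lit 705864)))) (BT.node (nat_lit 4563073) (BT.node (nat_lit 4563015) (BT.leaf (nat_lit 705864)) (BT.leaf (nat_lit 705864))) (BT.node (nat_lit 4563077) (BT.leaf (nat_lit 664704)) (BT.leaf (nat_lit 664704))))) (BT.node (nat_lit 4563330) (BT.node (nat_lit 4563269) (BT.node (nat_lit 4563142) (BT.leaf (nat_lit 686364)) (BT.leaf (nat_lit 686364))) (BT.node (nat_lit 4563329) (BT.leaf (nat_lit 685620)) (BT.leaf (nat_lit 691092)))) (BT.node (nat_lit 4563333) (BT.node (nat_lit 4563331) (BT.leaf (nat_lit 745796)) (BT.leaf (nat_lit 691092))) (BT.node (nat_lit 4563396) (BT.leaf (nat_lit 691092)) (BT.leaf (nat_lit 754704))))))) (BT.node (nat_lit 4564102) (BT.node (nat_lit 4563971) (BT.node (nat_lit 4563782) (BT.node (nat_lit 4563652) (BT.node (nat_lit 4563523) (BT.leaf (nat_lit 698780)) (BT.leaf (nat_lit 698768))) (BT.node (nat_lit 4563716) (BT.leaf (nat_lit 674732)) (BT.leaf (nat_lit 658032)))) (BT.node (nat_lit 4563908) (BT.node (nat_lit 4563783) (BT.leaf (nat_lit 653652)) (BT.leaf (nat_lit 653652))) (BT.node (nat_lit 4563970) (BT.leaf (nat_lit 682336)) (BT.leaf (nat_lit 653636))))) (BT.node (nat_lit 4564036) (BT.node (nat_lit 4564034) (BT.node (nat_lit 4563972) (BT.leaf (nat_lit 653636)) (BT.leaf (nat_lit 653636))) (BT.node (nat_lit 4564035) (BT.leaf (nat_lit 708688)) (BT.leaf (nat_lit 708688)))) (BT.node (nat_lit 4564040) (BT.node (nat_lit 4564038) (BT.leaf (nat_lit 708688)) (BT.leaf (nat_lit 708688))) (BT.node (nat_lit 4564099) (BT.leaf (nat_lit 708688)) (BT.leaf (nat_lit 653584)))))) (BT.node (nat_lit 4564487) (BT.node (nat_lit 4564293) (BT.node (nat_lit 4564227) (BT.node (nat_lit 4564103) (BT.leaf (nat_lit 653584)) (BT.leaf (nat_lit 653584))) (BT.node (nat_lit 4564228) (BT.leaf (nat_lit 672232)) (BT.leaf (nat_lit 703504)))) (BT.node (nat_lit 4564355) (BT.node (nat_lit 4564294) (BT.leaf (nat_lit 761348)) (BT.leaf (nat_lit 761348))) (BT.node (nat_lit 4564357) (BT.leaf (nat_lit 683688)) (BT.leaf (nat_lit 690032))))) (BT.node (nat_lit 4564679) (BT.node (nat_lit 4564547) (BT.node (nat_lit 4564546) (BT.leaf (nat_lit 650496)) (BT.leaf (nat_lit 650488))) (BT.node (nat_lit 4564549) (BT.leaf (nat_lit 650488)) (BT.leaf (nat_lit 650488)))) (BT.node (nat_lit 4564866) (BT.node (nat_lit 4564865) (BT.leaf (nat_lit 723584)) (BT.leaf (nat_lit 723580))) (BT.node (nat_lit 4564869) (BT.leaf (nat_lit 723580)) (BT.leaf (nat_lit 723580)))))))))) (BT.node (nat_lit 4569158) (BT.node (nat_lit 4566853) (BT.node (nat_lit 4565703) (BT.node (nat_lit 4565252) (BT.node (nat_lit 4565125) (BT.node (nat_lit 4565000) (BT.node (nat_lit 4564995) (BT.node (nat_lit 4564933) (BT.leaf (nat_lit 667384)) (BT.leaf (nat_lit 667384))) (BT.node (nat_lit 4564997) (BT.leaf (nat_lit 681592)) (BT.leaf (nat_lit 683552)))) (BT.node (nat_lit 4565061) (BT.node (nat_lit 4565057) (BT.leaf (nat_lit 683552)) (BT.leaf (nat_lit 679984))) (BT.node (nat_lit 4565064) (BT.leaf (nat_lit 679984)) (BT.leaf (nat_lit 679984))))) (BT.node (nat_lit 4565188) (BT.node (nat_lit 4565186) (BT.node (nat_lit 4565185) (BT.leaf (nat_lit 754008)) (BT.leaf (nat_lit 663048))) (BT.node (nat_lit 4565187) (BT.leaf (nat_lit 663048)) (BT.leaf (nat_lit 663048)))) (BT.node (nat_lit 4565191) (BT.node (nat_lit 4565190) (BT.leaf (nat_lit 663048)) (BT.leaf (nat_lit 663048))) (BT.node (nat_lit 4565192) (BT.leaf (nat_lit 663048)) (BT.leaf (nat_lit 663048)))))) (BT.node (nat_lit 4565448) (BT.node (nat_lit 4565442) (BT.node (nat_lit 4565317) (BT.node (nat_lit 4565253) (BT.leaf (nat_lit 722836)) (BT.leaf (nat_lit 722836))) (BT.node (nat_lit 4565441) (BT.leaf (nat_lit 663040)) (BT.leaf (nat_lit 651772)))) (BT.node (nat_lit 4565444) (BT.node (nat_lit 4565443) (BT.leaf (nat_lit 651772)) (BT.leaf (nat_lit 651772))) (BT.node (nat_lit 4565445) (BT.leaf (nat_lit 651772)) (BT.leaf (nat_lit 651772))))) (BT.node (nat_lit 4565576) (BT.node (nat_lit 4565570) (BT.node (nat_lit 4565569) (BT.leaf (nat_lit 651772)) (BT.leaf (nat_lit 647340))) (BT.node (nat_lit 4565573) (BT.leaf (nat_lit 647340)) (BT.leaf (nat_lit 647340)))) (BT.node (nat_lit 4565636) (BT.node (nat_lit 4565634) (BT.leaf (nat_lit 647340)) (BT.leaf (nat_lit 653648))) (BT.node (nat_lit 4565698) (BT.leaf (nat_lit 709184)) (BT.leaf (nat_lit 712888))))))) (BT.node (nat_lit 4566467) (BT.node (nat_lit 4565956) (BT.node (nat_lit 4565832) (BT.node (nat_lit 4565768) (BT.node (nat_lit 4565704) (BT.leaf (nat_lit 712888)) (BT.leaf (nat_lit 712888))) (BT.node (nat_lit 4565830) (BT.leaf (nat_lit 647424)) (BT.leaf (nat_lit 689908)))) (BT.node (nat_lit 4565953) (BT.node (nat_lit 4565896) (BT.leaf (nat_lit 647408)) (BT.leaf (nat_lit 742800))) (BT.node (nat_lit 4565955) (BT.leaf (nat_lit 655948)) (BT.leaf (nat_lit 655948))))) (BT.node (nat_lit 4566404) (BT.node (nat_lit 4566023) (BT.node (nat_lit 4565960) (BT.leaf (nat_lit 655948)) (BT.leaf (nat_lit 742804))) (BT.node (nat_lit 4566341) (BT.leaf (nat_lit 684112)) (BT.leaf (nat_lit 708992)))) (BT.node (nat_lit 4566465) (BT.node (nat_lit 4566408) (BT.leaf (nat_lit 671760)) (BT.leaf (nat_lit 814084))) (BT.node (nat_lit 4566466) (BT.leaf (nat_lit 642636)) (BT.leaf (nat_lit 642636)))))) (BT.node (nat_lit 4566594) (BT.node (nat_lit 4566529) (BT.node (nat_lit 4566470) (BT.node (nat_lit 4566469) (BT.leaf (nat_lit 642636)) (BT.leaf (nat_lit 642636))) (BT.node (nat_lit 4566471) (BT.leaf (nat_lit 642636)) (BT.leaf (nat_lit 642636)))) (BT.node (nat_lit 4566531) (BT.node (nat_lit 4566530) (BT.leaf (nat_lit 681316)) (BT.leaf (nat_lit 681316))) (BT.node (nat_lit 4566536) (BT.leaf (nat_lit 681316)) (BT.leaf (nat_lit 681316))))) (BT.node (nat_lit 4566791) (BT.node (nat_lit 4566725) (BT.node (nat_lit 4566724) (BT.leaf (nat_lit 687172)) (BT.leaf (nat_lit 678016))) (BT.node (nat_lit 4566789) (BT.leaf (nat_lit 678016)) (BT.leaf (nat_lit 711424)))) (BT.node (nat_lit 4566851) (BT.node (nat_lit 4566850) (BT.leaf (nat_lit 711424)) (BT.leaf (nat_lit 706204))) (BT.node (nat_lit 4566852) (BT.leaf (nat_lit 706204)) (BT.leaf (nat_lit 706204)))))))) (BT.node (nat_lit 4568200) (BT.node (nat_lit 4567620) (BT.node (nat_lit 4567234) (BT.node (nat_lit 4567107) (BT.node (nat_lit 4567045) (BT.node (nat_lit 4567044) (BT.leaf (nat_lit 668752)) (BT.leaf (nat_lit 644088))) (BT.node (nat_lit 4567106) (BT.leaf (nat_lit 644088)) (BT.leaf (nat_lit 720292)))) (BT.node (nat_lit 4567110) (BT.node (nat_lit 4567109) (BT.leaf (nat_lit 720292)) (BT.leaf (nat_lit 697992))) (BT.node (nat_lit 4567111) (BT.leaf (nat_lit 720292)) (BT.leaf (nat_lit 720292))))) (BT.node (nat_lit 4567364) (BT.node (nat_lit 4567362) (BT.node (nat_lit 4567361) (BT.leaf (nat_lit 777244)) (BT.leaf (nat_lit 646632))) (BT.node (nat_lit 4567363) (BT.leaf (nat_lit 646632)) (BT.leaf (nat_lit 646632)))) (BT.node (nat_lit 4567495) (BT.node (nat_lit 4567365) (BT.leaf (nat_lit 646632)) (BT.leaf (nat_lit 646632))) (BT.node (nat_lit 4567619) (BT.leaf (nat_lit 676292)) (BT.leaf (nat_lit 676248)))))) (BT.node (nat_lit 4568129) (BT.node (nat_lit 4567938) (BT.node (nat_lit 4567816) (BT.node (nat_lit 4567814) (BT.leaf (nat_lit 676248)) (BT.leaf (nat_lit 658700))) (BT.node (nat_lit 4567880) (BT.leaf (nat_lit 775684)) (BT.leaf (nat_lit 775688)))) (BT.node (nat_lit 4568071) (BT.node (nat_lit 4568008) (BT.leaf (nat_lit 655776)) (BT.leaf (nat_lit 762712))) (BT.node (nat_lit 4568072) (BT.leaf (nat_lit 657096)) (BT.leaf (nat_lit 657096))))) (BT.node (nat_lit 4568136) (BT.node (nat_lit 4568134) (BT.node (nat_lit 4568131) (BT.leaf (nat_lit 710376)) (BT.leaf (nat_lit 710376))) (BT.node (nat_lit 4568135) (BT.leaf (nat_lit 710376)) (BT.leaf (nat_lit 710376)))) (BT.node (nat_lit 4568196) (BT.node (nat_lit 4568193) (BT.leaf (nat_lit 710376)) (BT.leaf (nat_lit 672580))) (BT.node (nat_lit 4568197) (BT.leaf (nat_lit 672580)) (BT.leaf (nat_lit 647568))))))) (BT.node (nat_lit 4568837) (BT.node (nat_lit 4568579) (BT.node (nat_lit 4568321) (BT.node (nat_lit 4568259) (BT.node (nat_lit 4568257) (BT.leaf (nat_lit 672580)) (BT.leaf (nat_lit 697860))) (BT.node (nat_lit 4568261) (BT.leaf (nat_lit 697860)) (BT.leaf (nat_lit 697860)))) (BT.node (nat_lit 4568517) (BT.node (nat_lit 4568325) (BT.leaf (nat_lit 665940)) (BT.leaf (nat_lit 665940))) (BT.node (nat_lit 4568578) (BT.leaf (nat_lit 667460)) (BT.leaf (nat_lit 647296))))) (BT.node (nat_lit 4568708) (BT.node (nat_lit 4568706) (BT.node (nat_lit 4568581) (BT.leaf (nat_lit 647296)) (BT.leaf (nat_lit 647296))) (BT.node (nat_lit 4568707) (BT.leaf (nat_lit 702708)) (BT.leaf (nat_lit 702708)))) (BT.node (nat_lit 4568712) (BT.node (nat_lit 4568709) (BT.leaf (nat_lit 702708)) (BT.leaf (nat_lit 720748))) (BT.node (nat_lit 4568776) (BT.leaf (nat_lit 720748)) (BT.leaf (nat_lit 702048)))))) (BT.node (nat_lit 4569030) (BT.node (nat_lit 4568902) (BT.node (nat_lit 4568839) (BT.node (nat_lit 4568838) (BT.leaf (nat_lit 660428)) (BT.leaf (nat_lit 660428))) (BT.node (nat_lit 4568899) (BT.leaf (nat_lit 660428)) (BT.leaf (nat_lit 693960)))) (BT.node (nat_lit 4569026) (BT.node (nat_lit 4568903) (BT.leaf (nat_lit 675072)) (BT.leaf (nat_lit 693960))) (BT.node (nat_lit 4569027) (BT.leaf (nat_lit 650912)) (BT.leaf (nat_lit 650912))))) (BT.node (nat_lit 4569093) (BT.node (nat_lit 4569090) (BT.node (nat_lit 4569031) (BT.leaf (nat_lit 650912)) (BT.leaf (nat_lit 650912))) (BT.node (nat_lit 4569091) (BT.leaf (nat_lit 704268)) (BT.leaf (nat_lit 704268)))) (BT.node (nat_lit 4569154) (BT.node (nat_lit 4569153) (BT.leaf (nat_lit 721276)) (BT.leaf (nat_lit 741552))) (BT.node (nat_lit 4569155) (BT.leaf (nat_lit 741552)) (BT.leaf (nat_lit 741552))))))))) (BT.node (nat_lit 4571847) (BT.node (nat_lit 4570695) (BT.node (nat_lit 4569923) (BT.node (nat_lit 4569351) (BT.node (nat_lit 4569220) (BT.node (nat_lit 4569218) (BT.node (nat_lit 4569159) (BT.leaf (nat_lit 741552)) (BT.leaf (nat_lit 741552))) (BT.node (nat_lit 4569219) (BT.leaf (nat_lit 696576)) (BT.leaf (nat_lit 696576)))) (BT.node (nat_lit 4569347) (BT.node (nat_lit 4569224) (BT.leaf (nat_lit 696576)) (BT.leaf (nat_lit 696576))) (BT.node (nat_lit 4569350) (BT.leaf (nat_lit 643988)) (BT.leaf (nat_lit 643988))))) (BT.node (nat_lit 4569858) (BT.node (nat_lit 4569606) (BT.node (nat_lit 4569352) (BT.leaf (nat_lit 643988)) (BT.leaf (nat_lit 643988))) (BT.node (nat_lit 4569607) (BT.leaf (nat_lit 652992)) (BT.leaf (nat_lit 652992)))) (BT.node (nat_lit 4569861) (BT.node (nat_lit 4569859) (BT.leaf (nat_lit 646440)) (BT.leaf (nat_lit 646440))) (BT.node (nat_lit 4569922) (BT.leaf (nat_lit 646440)) (BT.leaf (nat_lit 714408)))))) (BT.node (nat_lit 4570179) (BT.node (nat_lit 4569987) (BT.node (nat_lit 4569925) (BT.node (nat_lit 4569924) (BT.leaf (nat_lit 714408)) (BT.leaf (nat_lit 714408))) (BT.node (nat_lit 4569986) (BT.leaf (nat_lit 714408)) (BT.leaf (nat_lit 654868)))) (BT.node (nat_lit 4570117) (BT.node (nat_lit 4569989) (BT.leaf (nat_lit 714752)) (BT.leaf (nat_lit 714752))) (BT.node (nat_lit 4570178) (BT.leaf (nat_lit 686808)) (BT.leaf (nat_lit 722572))))) (BT.node (nat_lit 4570244) (BT.node (nat_lit 4570183) (BT.node (nat_lit 4570182) (BT.leaf (nat_lit 722572)) (BT.leaf (nat_lit 722572))) (BT.node (nat_lit 4570243) (BT.leaf (nat_lit 722572)) (BT.leaf (nat_lit 699580)))) (BT.node (nat_lit 4570248) (BT.node (nat_lit 4570245) (BT.leaf (nat_lit 699580)) (BT.leaf (nat_lit 699580))) (BT.node (nat_lit 4570694) (BT.leaf (nat_lit 699580)) (BT.leaf (nat_lit 712032))))))) (BT.node (nat_lit 4571140) (BT.node (nat_lit 4571014) (BT.node (nat_lit 4570947) (BT.node (nat_lit 4570883) (BT.node (nat_lit 4570882) (BT.leaf (nat_lit 712032)) (BT.leaf (nat_lit 685084))) (BT.node (nat_lit 4570946) (BT.leaf (nat_lit 685084)) (BT.leaf (nat_lit 653476)))) (BT.node (nat_lit 4570951) (BT.node (nat_lit 4570950) (BT.leaf (nat_lit 653476)) (BT.leaf (nat_lit 653476))) (BT.node (nat_lit 4571011) (BT.leaf (nat_lit 653476)) (BT.leaf (nat_lit 682640))))) (BT.node (nat_lit 4571080) (BT.node (nat_lit 4571074) (BT.node (nat_lit 4571016) (BT.leaf (nat_lit 682640)) (BT.leaf (nat_lit 682640))) (BT.node (nat_lit 4571076) (BT.leaf (nat_lit 674924)) (BT.leaf (nat_lit 674924)))) (BT.node (nat_lit 4571138) (BT.node (nat_lit 4571137) (BT.leaf (nat_lit 674924)) (BT.leaf (nat_lit 655028))) (BT.node (nat_lit 4571139) (BT.leaf (nat_lit 655028)) (BT.leaf (nat_lit 655028)))))) (BT.node (nat_lit 4571524) (BT.node (nat_lit 4571333) (BT.node (nat_lit 4571144) (BT.node (nat_lit 4571141) (BT.leaf (nat_lit 655028)) (BT.leaf (nat_lit 655028))) (BT.node (nat_lit 4571332) (BT.leaf (nat_lit 655028)) (BT.leaf (nat_lit 648968)))) (BT.node (nat_lit 4571400) (BT.node (nat_lit 4571393) (BT.leaf (nat_lit 690880)) (BT.leaf (nat_lit 770480))) (BT.node (nat_lit 4571462) (BT.leaf (nat_lit 770480)) (BT.leaf (nat_lit 720124))))) (BT.node (nat_lit 4571783) (BT.node (nat_lit 4571779) (BT.node (nat_lit 4571525) (BT.leaf (nat_lit 655480)) (BT.leaf (nat_lit 655480))) (BT.node (nat_lit 4571782) (BT.leaf (nat_lit 722252)) (BT.leaf (nat_lit 722252)))) (BT.node (nat_lit 4571843) (BT.node (nat_lit 4571842) (BT.leaf (nat_lit 722252)) (BT.leaf (nat_lit 661800))) (BT.node (nat_lit 4571846) (BT.leaf (nat_lit 661800)) (BT.leaf (nat_lit 661800)))))))) (BT.node (nat_lit 4572867) (BT.node (nat_lit 4572293) (BT.node (nat_lit 4572163) (BT.node (nat_lit 4571969) (BT.node (nat_lit 4571910) (BT.node (nat_lit 4571906) (BT.leaf (nat_lit 661800)) (BT.leaf (nat_lit 640436))) (BT.node (nat_lit 4571911) (BT.leaf (nat_lit 640436)) (BT.leaf (nat_lit 640436)))) (BT.node (nat_lit 4571975) (BT.node (nat_lit 4571974) (BT.leaf (nat_lit 679644)) (BT.leaf (nat_lit 679644))) (BT.node (nat_lit 4572162) (BT.leaf (nat_lit 679644)) (BT.leaf (nat_lit 662288))))) (BT.node (nat_lit 4572230) (BT.node (nat_lit 4572165) (BT.node (nat_lit 4572164) (BT.leaf (nat_lit 662288)) (BT.leaf (nat_lit 662288))) (BT.node (nat_lit 4572226) (BT.leaf (nat_lit 662288)) (BT.leaf (nat_lit 722740)))) (BT.node (nat_lit 4572232) (BT.node (nat_lit 4572231) (BT.leaf (nat_lit 722740)) (BT.leaf (nat_lit 722740))) (BT.node (nat_lit 4572291) (BT.leaf (nat_lit 722740)) (BT.leaf (nat_lit 661008)))))) (BT.node (nat_lit 4572482) (BT.node (nat_lit 4572357) (BT.node (nat_lit 4572295) (BT.node (nat_lit 4572294) (BT.leaf (nat_lit 661008)) (BT.leaf (nat_lit 661008))) (BT.node (nat_lit 4572355) (BT.leaf (nat_lit 661008)) (BT.leaf (nat_lit 680140)))) (BT.node (nat_lit 4572420) (BT.node (nat_lit 4572419) (BT.leaf (nat_lit 680140)) (BT.leaf (nat_lit 701036))) (BT.node (nat_lit 4572421) (BT.leaf (nat_lit 701036)) (BT.leaf (nat_lit 684312))))) (BT.node (nat_lit 4572611) (BT.node (nat_lit 4572547) (BT.node (nat_lit 4572483) (BT.leaf (nat_lit 648216)) (BT.leaf (nat_lit 648216))) (BT.node (nat_lit 4572548) (BT.leaf (nat_lit 650600)) (BT.leaf (nat_lit 707812)))) (BT.node (nat_lit 4572801) (BT.node (nat_lit 4572676) (BT.leaf (nat_lit 804644)) (BT.leaf (nat_lit 700876))) (BT.node (nat_lit 4572803) (BT.leaf (nat_lit 707580)) (BT.leaf (nat_lit 707580))))))) (BT.node (nat_lit 4573380) (BT.node (nat_lit 4572997) (BT.node (nat_lit 4572931) (BT.node (nat_lit 4572869) (BT.node (nat_lit 4572868) (BT.leaf (nat_lit 707592)) (BT.leaf (nat_lit 685212))) (BT.node (nat_lit 4572930) (BT.leaf (nat_lit 685212)) (BT.leaf (nat_lit 662380)))) (BT.node (nat_lit 4572933) (BT.node (nat_lit 4572932) (BT.leaf (nat_lit 662380)) (BT.leaf (nat_lit 667864))) (BT.node (nat_lit 4572994) (BT.leaf (nat_lit 667864)) (BT.leaf (nat_lit 753988))))) (BT.node (nat_lit 4573251) (BT.node (nat_lit 4573188) (BT.node (nat_lit 4573187) (BT.leaf (nat_lit 753988)) (BT.leaf (nat_lit 774372))) (BT.node (nat_lit 4573189) (BT.leaf (nat_lit 656368)) (BT.leaf (nat_lit 656368)))) (BT.node (nat_lit 4573254) (BT.node (nat_lit 4573253) (BT.leaf (nat_lit 639704)) (BT.leaf (nat_lit 639704))) (BT.node (nat_lit 4573255) (BT.leaf (nat_lit 639704)) (BT.leaf (nat_lit 639704)))))) (BT.node (nat_lit 4573507) (BT.node (nat_lit 4573443) (BT.node (nat_lit 4573441) (BT.node (nat_lit 4573384) (BT.leaf (nat_lit 666752)) (BT.leaf (nat_lit 666752))) (BT.node (nat_lit 4573442) (BT.leaf (nat_lit 666740)) (BT.leaf (nat_lit 666740)))) (BT.node (nat_lit 4573447) (BT.node (nat_lit 4573446) (BT.leaf (nat_lit 666740)) (BT.leaf (nat_lit 666740))) (BT.node (nat_lit 4573506) (BT.leaf (nat_lit 666740)) (BT.leaf (nat_lit 673552))))) (BT.node (nat_lit 4573572) (BT.node (nat_lit 4573509) (BT.node (nat_lit 4573508) (BT.leaf (nat_lit 669504)) (BT.leaf (nat_lit 669504))) (BT.node (nat_lit 4573571) (BT.leaf (nat_lit 673552)) (BT.leaf (nat_lit 688932)))) (BT.node (nat_lit 4573698) (BT.node (nat_lit 4573576) (BT.leaf (nat_lit 688932)) (BT.leaf (nat_lit 688932))) (BT.node (nat_lit 4573701) (BT.leaf (nat_lit 669316)) (BT.leaf (nat_lit 669316)))))))))))))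
noncomputable def big0_e10240 : BT Nat := (BT.node (nat_lit 4607110) (BT.node (nat_lit 4588358) (BT.node (nat_lit 4580997) (BT.node (nat_lit 4577859) (BT.node (nat_lit 4576264) (BT.node (nat_lit 4574786) (BT.node (nat_lit 4574337) (BT.node (nat_lit 4574020) (BT.node (nat_lit 4573832) (BT.node (nat_lit 4573766) (BT.node (nat_lit 4573703) (BT.leaf (nat_lit 669316)) (BT.leaf (nat_lit 669316))) (BT.node (nat_lit 4573828) (BT.leaf (nat_lit 673536)) (BT.leaf (nat_lit 639768)))) (BT.node (nat_lit 4573893) (BT.node (nat_lit 4573892) (BT.leaf (nat_lit 639768)) (BT.leaf (nat_lit 642552))) (BT.node (nat_lit 4574019) (BT.leaf (nat_lit 642552)) (BT.leaf (nat_lit 666120))))) (BT.node (nat_lit 4574213) (BT.node (nat_lit 4574086) (BT.node (nat_lit 4574083) (BT.leaf (nat_lit 655324)) (BT.leaf (nat_lit 640200))) (BT.node (nat_lit 4574087) (BT.leaf (nat_lit 640200)) (BT.leaf (nat_lit 640200)))) (BT.node (nat_lit 4574215) (BT.node (nat_lit 4574214) (BT.leaf (nat_lit 717580)) (BT.leaf (nat_lit 717580))) (BT.node (nat_lit 4574277) (BT.leaf (nat_lit 717580)) (BT.leaf (nat_lit 683800)))))) (BT.node (nat_lit 4574534) (BT.node (nat_lit 4574469) (BT.node (nat_lit 4574339) (BT.node (nat_lit 4574338) (BT.leaf (nat_lit 653052)) (BT.leaf (nat_lit 653052))) (BT.node (nat_lit 4574340) (BT.leaf (nat_lit 653052)) (BT.leaf (nat_lit 653052)))) (BT.node (nat_lit 4574531) (BT.node (nat_lit 4574530) (BT.leaf (nat_lit 719264)) (BT.leaf (nat_lit 705760))) (BT.node (nat_lit 4574532) (BT.leaf (nat_lit 705760)) (BT.leaf (nat_lit 703256))))) (BT.node (nat_lit 4574658) (BT.node (nat_lit 4574597) (BT.node (nat_lit 4574535) (BT.leaf (nat_lit 705760)) (BT.leaf (nat_lit 705760))) (BT.node (nat_lit 4574657) (BT.leaf (nat_lit 703260)) (BT.leaf (nat_lit 712800)))) (BT.node (nat_lit 4574662) (BT.node (nat_lit 4574659) (BT.leaf (nat_lit 712800)) (BT.leaf (nat_lit 712800))) (BT.node (nat_lit 4574663) (BT.leaf (nat_lit 712800)) (BT.leaf (nat_lit 712800))))))) (BT.node (nat_lit 4575496) (BT.node (nat_lit 4575302) (BT.node (nat_lit 4574915) (BT.node (nat_lit 4574789) (BT.node (nat_lit 4574788) (BT.leaf (nat_lit 716272)) (BT.leaf (nat_lit 716272))) (BT.node (nat_lit 4574914) (BT.leaf (nat_lit 695556)) (BT.leaf (nat_lit 680280)))) (BT.node (nat_lit 4574919) (BT.node (nat_lit 4574918) (BT.leaf (nat_lit 680280)) (BT.leaf (nat_lit 696640))) (BT.node (nat_lit 4575237) (BT.leaf (nat_lit 696640)) (BT.leaf (nat_lit 701116))))) (BT.node (nat_lit 4575429) (BT.node (nat_lit 4575364) (BT.node (nat_lit 4575303) (BT.leaf (nat_lit 646108)) (BT.leaf (nat_lit 646108))) (BT.node (nat_lit 4575427) (BT.leaf (nat_lit 671684)) (BT.leaf (nat_lit 647124)))) (BT.node (nat_lit 4575491) (BT.node (nat_lit 4575490) (BT.leaf (nat_lit 674008)) (BT.leaf (nat_lit 646456))) (BT.node (nat_lit 4575492) (BT.leaf (nat_lit 646456)) (BT.leaf (nat_lit 797880)))))) (BT.node (nat_lit 4576001) (BT.node (nat_lit 4575877) (BT.node (nat_lit 4575622) (BT.node (nat_lit 4575617) (BT.leaf (nat_lit 646456)) (BT.leaf (nat_lit 651892))) (BT.node (nat_lit 4575623) (BT.leaf (nat_lit 651892)) (BT.leaf (nat_lit 651892)))) (BT.node (nat_lit 4575942) (BT.node (nat_lit 4575879) (BT.leaf (nat_lit 666824)) (BT.leaf (nat_lit 666824))) (BT.node (nat_lit 4575943) (BT.leaf (nat_lit 644788)) (BT.leaf (nat_lit 644788))))) (BT.node (nat_lit 4576070) (BT.node (nat_lit 4576008) (BT.node (nat_lit 4576003) (BT.leaf (nat_lit 666760)) (BT.leaf (nat_lit 666760))) (BT.node (nat_lit 4576066) (BT.leaf (nat_lit 661364)) (BT.leaf (nat_lit 660660)))) (BT.node (nat_lit 4576259) (BT.node (nat_lit 4576258) (BT.leaf (nat_lit 660660)) (BT.leaf (nat_lit 711156))) (BT.node (nat_lit 4576261) (BT.leaf (nat_lit 753244)) (BT.leaf (nat_lit 711156)))))))) (BT.node (nat_lit 4577282) (BT.node (nat_lit 4576835) (BT.node (nat_lit 4576518) (BT.node (nat_lit 4576328) (BT.node (nat_lit 4576323) (BT.node (nat_lit 4576322) (BT.leaf (nat_lit 753244)) (BT.leaf (nat_lit 710980))) (BT.node (nat_lit 4576325) (BT.leaf (nat_lit 753248)) (BT.leaf (nat_lit 710980)))) (BT.node (nat_lit 4576515) (BT.node (nat_lit 4576514) (BT.leaf (nat_lit 753248)) (BT.leaf (nat_lit 713792))) (BT.node (nat_lit 4576516) (BT.leaf (nat_lit 713792)) (BT.leaf (nat_lit 709796))))) (BT.node (nat_lit 4576770) (BT.node (nat_lit 4576520) (BT.node (nat_lit 4576519) (BT.leaf (nat_lit 722292)) (BT.leaf (nat_lit 722292))) (BT.node (nat_lit 4576769) (BT.leaf (nat_lit 709796)) (BT.leaf (nat_lit 774856)))) (BT.node (nat_lit 4576833) (BT.node (nat_lit 4576771) (BT.leaf (nat_lit 774856)) (BT.leaf (nat_lit 774856))) (BT.node (nat_lit 4576834) (BT.leaf (nat_lit 701012)) (BT.leaf (nat_lit 701012)))))) (BT.node (nat_lit 4577027) (BT.node (nat_lit 4576902) (BT.node (nat_lit 4576898) (BT.node (nat_lit 4576836) (BT.leaf (nat_lit 701012)) (BT.leaf (nat_lit 701012))) (BT.node (nat_lit 4576899) (BT.leaf (nat_lit 702540)) (BT.leaf (nat_lit 702540)))) (BT.node (nat_lit 4576966) (BT.node (nat_lit 4576903) (BT.leaf (nat_lit 702540)) (BT.leaf (nat_lit 702540))) (BT.node (nat_lit 4576967) (BT.leaf (nat_lit 681736)) (BT.leaf (nat_lit 681736))))) (BT.node (nat_lit 4577156) (BT.node (nat_lit 4577031) (BT.node (nat_lit 4577029) (BT.leaf (nat_lit 684244)) (BT.leaf (nat_lit 684244))) (BT.node (nat_lit 4577095) (BT.leaf (nat_lit 684244)) (BT.leaf (nat_lit 686420)))) (BT.node (nat_lit 4577218) (BT.node (nat_lit 4577157) (BT.leaf (nat_lit 652576)) (BT.leaf (nat_lit 652576))) (BT.node (nat_lit 4577219) (BT.leaf (nat_lit 720440)) (BT.leaf (nat_lit 720440))))))) (BT.node (nat_lit 4577543) (BT.node (nat_lit 4577473) (BT.node (nat_lit 4577409) (BT.node (nat_lit 4577285) (BT.node (nat_lit 4577284) (BT.leaf (nat_lit 703684)) (BT.leaf (nat_lit 721688))) (BT.node (nat_lit 4577346) (BT.leaf (nat_lit 703684)) (BT.leaf (nat_lit 703704)))) (BT.node (nat_lit 4577412) (BT.node (nat_lit 4577410) (BT.leaf (nat_lit 748456)) (BT.leaf (nat_lit 651712))) (BT.node (nat_lit 4577413) (BT.leaf (nat_lit 748456)) (BT.leaf (nat_lit 651712))))) (BT.node (nat_lit 4577478) (BT.node (nat_lit 4577475) (BT.node (nat_lit 4577474) (BT.leaf (nat_lit 713724)) (BT.leaf (nat_lit 767552))) (BT.node (nat_lit 4577477) (BT.leaf (nat_lit 713724)) (BT.leaf (nat_lit 767552)))) (BT.node (nat_lit 4577538) (BT.node (nat_lit 4577479) (BT.leaf (nat_lit 713724)) (BT.leaf (nat_lit 767552))) (BT.node (nat_lit 4577542) (BT.leaf (nat_lit 686416)) (BT.leaf (nat_lit 686416)))))) (BT.node (nat_lit 4577735) (BT.node (nat_lit 4577672) (BT.node (nat_lit 4577608) (BT.node (nat_lit 4577603) (BT.leaf (nat_lit 686416)) (BT.leaf (nat_lit 772648))) (BT.node (nat_lit 4577670) (BT.leaf (nat_lit 772648)) (BT.leaf (nat_lit 721104)))) (BT.node (nat_lit 4577731) (BT.node (nat_lit 4577729) (BT.leaf (nat_lit 721104)) (BT.leaf (nat_lit 721124))) (BT.node (nat_lit 4577732) (BT.leaf (nat_lit 691148)) (BT.leaf (nat_lit 691148))))) (BT.node (nat_lit 4577799) (BT.node (nat_lit 4577795) (BT.node (nat_lit 4577794) (BT.leaf (nat_lit 721124)) (BT.leaf (nat_lit 679916))) (BT.node (nat_lit 4577798) (BT.leaf (nat_lit 679916)) (BT.leaf (nat_lit 679916)))) (BT.node (nat_lit 4577857) (BT.node (nat_lit 4577800) (BT.leaf (nat_lit 679916)) (BT.leaf (nat_lit 679916))) (BT.node (nat_lit 4577858) (BT.leaf (nat_lit 720340)) (BT.leaf (nat_lit 720340))))))))) (BT.node (nat_lit 4579267) (BT.node (nat_lit 4578629) (BT.node (nat_lit 4578113) (BT.node (nat_lit 4577926) (BT.node (nat_lit 4577921) (BT.node (nat_lit 4577862) (BT.node (nat_lit 4577861) (BT.leaf (nat_lit 720340)) (BT.leaf (nat_lit 720340))) (BT.node (nat_lit 4577863) (BT.leaf (nat_lit 720340)) (BT.leaf (nat_lit 720340)))) (BT.node (nat_lit 4577923) (BT.node (nat_lit 4577922) (BT.leaf (nat_lit 679880)) (BT.leaf (nat_lit 679880))) (BT.node (nat_lit 4577924) (BT.leaf (nat_lit 720344)) (BT.leaf (nat_lit 720344))))) (BT.node (nat_lit 4578049) (BT.node (nat_lit 4577990) (BT.node (nat_lit 4577927) (BT.leaf (nat_lit 679880)) (BT.leaf (nat_lit 679880))) (BT.node (nat_lit 4577991) (BT.leaf (nat_lit 668980)) (BT.leaf (nat_lit 668980)))) (BT.node (nat_lit 4578054) (BT.node (nat_lit 4578053) (BT.leaf (nat_lit 683264)) (BT.leaf (nat_lit 683264))) (BT.node (nat_lit 4578055) (BT.leaf (nat_lit 683264)) (BT.leaf (nat_lit 683264)))))) (BT.node (nat_lit 4578309) (BT.node (nat_lit 4578247) (BT.node (nat_lit 4578115) (BT.node (nat_lit 4578114) (BT.leaf (nat_lit 707300)) (BT.leaf (nat_lit 707300))) (BT.node (nat_lit 4578180) (BT.leaf (nat_lit 707300)) (BT.leaf (nat_lit 653532)))) (BT.node (nat_lit 4578307) (BT.node (nat_lit 4578306) (BT.leaf (nat_lit 680948)) (BT.leaf (nat_lit 688216))) (BT.node (nat_lit 4578308) (BT.leaf (nat_lit 649708)) (BT.leaf (nat_lit 688216))))) (BT.node (nat_lit 4578437) (BT.node (nat_lit 4578374) (BT.node (nat_lit 4578370) (BT.leaf (nat_lit 688216)) (BT.leaf (nat_lit 721256))) (BT.node (nat_lit 4578375) (BT.leaf (nat_lit 721256)) (BT.leaf (nat_lit 721256)))) (BT.node (nat_lit 4578439) (BT.node (nat_lit 4578438) (BT.leaf (nat_lit 661916)) (BT.leaf (nat_lit 661916))) (BT.node (nat_lit 4578628) (BT.leaf (nat_lit 753936)) (BT.leaf (nat_lit 717976))))))) (BT.node (nat_lit 4578881) (BT.node (nat_lit 4578756) (BT.node (nat_lit 4578694) (BT.node (nat_lit 4578691) (BT.node (nat_lit 4578690) (BT.leaf (nat_lit 717976)) (BT.leaf (nat_lit 665924))) (BT.node (nat_lit 4578693) (BT.leaf (nat_lit 665924)) (BT.leaf (nat_lit 665924)))) (BT.node (nat_lit 4578753) (BT.node (nat_lit 4578695) (BT.leaf (nat_lit 665924)) (BT.leaf (nat_lit 665924))) (BT.node (nat_lit 4578754) (BT.leaf (nat_lit 784336)) (BT.leaf (nat_lit 784336))))) (BT.node (nat_lit 4578821) (BT.node (nat_lit 4578758) (BT.node (nat_lit 4578757) (BT.leaf (nat_lit 691892)) (BT.leaf (nat_lit 784336))) (BT.node (nat_lit 4578759) (BT.leaf (nat_lit 784336)) (BT.leaf (nat_lit 784336)))) (BT.node (nat_lit 4578823) (BT.node (nat_lit 4578822) (BT.leaf (nat_lit 689424)) (BT.leaf (nat_lit 689424))) (BT.node (nat_lit 4578824) (BT.leaf (nat_lit 689424)) (BT.leaf (nat_lit 689424)))))) (BT.node (nat_lit 4579138) (BT.node (nat_lit 4578950) (BT.node (nat_lit 4578946) (BT.node (nat_lit 4578885) (BT.leaf (nat_lit 712292)) (BT.leaf (nat_lit 712292))) (BT.node (nat_lit 4578947) (BT.leaf (nat_lit 650692)) (BT.leaf (nat_lit 650692)))) (BT.node (nat_lit 4579013) (BT.node (nat_lit 4578951) (BT.leaf (nat_lit 660116)) (BT.leaf (nat_lit 660116))) (BT.node (nat_lit 4579137) (BT.leaf (nat_lit 699828)) (BT.leaf (nat_lit 673860))))) (BT.node (nat_lit 4579205) (BT.node (nat_lit 4579202) (BT.node (nat_lit 4579144) (BT.leaf (nat_lit 673860)) (BT.leaf (nat_lit 673860))) (BT.node (nat_lit 4579203) (BT.leaf (nat_lit 644892)) (BT.leaf (nat_lit 644892)))) (BT.node (nat_lit 4579265) (BT.node (nat_lit 4579208) (BT.leaf (nat_lit 644892)) (BT.leaf (nat_lit 644892))) (BT.node (nat_lit 4579266) (BT.leaf (nat_lit 712300)) (BT.leaf (nat_lit 712300)))))))) (BT.node (nat_lit 4580357) (BT.node (nat_lit 4579717) (BT.node (nat_lit 4579394) (BT.node (nat_lit 4579272) (BT.node (nat_lit 4579270) (BT.node (nat_lit 4579268) (BT.leaf (nat_lit 712300)) (BT.leaf (nat_lit 712300))) (BT.node (nat_lit 4579271) (BT.leaf (nat_lit 712300)) (BT.leaf (nat_lit 712300)))) (BT.node (nat_lit 4579332) (BT.node (nat_lit 4579330) (BT.leaf (nat_lit 712300)) (BT.leaf (nat_lit 721540))) (BT.node (nat_lit 4579393) (BT.leaf (nat_lit 721540)) (BT.leaf (nat_lit 699252))))) (BT.node (nat_lit 4579522) (BT.node (nat_lit 4579462) (BT.node (nat_lit 4579395) (BT.leaf (nat_lit 699252)) (BT.leaf (nat_lit 699252))) (BT.node (nat_lit 4579521) (BT.leaf (nat_lit 774104)) (BT.leaf (nat_lit 716284)))) (BT.node (nat_lit 4579525) (BT.node (nat_lit 4579524) (BT.leaf (nat_lit 716284)) (BT.leaf (nat_lit 716284))) (BT.node (nat_lit 4579716) (BT.leaf (nat_lit 716292)) (BT.leaf (nat_lit 667972)))))) (BT.node (nat_lit 4580164) (BT.node (nat_lit 4579906) (BT.node (nat_lit 4579844) (BT.node (nat_lit 4579720) (BT.leaf (nat_lit 667972)) (BT.leaf (nat_lit 667972))) (BT.node (nat_lit 4579845) (BT.leaf (nat_lit 656828)) (BT.leaf (nat_lit 656828)))) (BT.node (nat_lit 4579910) (BT.node (nat_lit 4579907) (BT.leaf (nat_lit 775724)) (BT.leaf (nat_lit 775724))) (BT.node (nat_lit 4580162) (BT.leaf (nat_lit 775724)) (BT.leaf (nat_lit 663860))))) (BT.node (nat_lit 4580292) (BT.node (nat_lit 4580290) (BT.node (nat_lit 4580232) (BT.leaf (nat_lit 663860)) (BT.leaf (nat_lit 712856))) (BT.node (nat_lit 4580291) (BT.leaf (nat_lit 681756)) (BT.leaf (nat_lit 681756)))) (BT.node (nat_lit 4580355) (BT.node (nat_lit 4580354) (BT.leaf (nat_lit 681756)) (BT.leaf (nat_lit 653860))) (BT.node (nat_lit 4580356) (BT.leaf (nat_lit 653860)) (BT.leaf (nat_lit 653860))))))) (BT.node (nat_lit 4580615) (BT.node (nat_lit 4580486) (BT.node (nat_lit 4580422) (BT.node (nat_lit 4580417) (BT.node (nat_lit 4580360) (BT.leaf (nat_lit 653860)) (BT.leaf (nat_lit 653860))) (BT.node (nat_lit 4580420) (BT.leaf (nat_lit 704176)) (BT.leaf (nat_lit 704176)))) (BT.node (nat_lit 4580481) (BT.node (nat_lit 4580423) (BT.leaf (nat_lit 690436)) (BT.leaf (nat_lit 690436))) (BT.node (nat_lit 4580484) (BT.leaf (nat_lit 656564)) (BT.leaf (nat_lit 656564))))) (BT.node (nat_lit 4580550) (BT.node (nat_lit 4580546) (BT.node (nat_lit 4580545) (BT.leaf (nat_lit 690416)) (BT.leaf (nat_lit 765624))) (BT.node (nat_lit 4580547) (BT.leaf (nat_lit 765624)) (BT.leaf (nat_lit 669448)))) (BT.node (nat_lit 4580609) (BT.node (nat_lit 4580551) (BT.leaf (nat_lit 669448)) (BT.leaf (nat_lit 699280))) (BT.node (nat_lit 4580614) (BT.leaf (nat_lit 715776)) (BT.leaf (nat_lit 715776)))))) (BT.node (nat_lit 4580865) (BT.node (nat_lit 4580802) (BT.node (nat_lit 4580676) (BT.node (nat_lit 4580674) (BT.leaf (nat_lit 715776)) (BT.leaf (nat_lit 718508))) (BT.node (nat_lit 4580801) (BT.leaf (nat_lit 718508)) (BT.leaf (nat_lit 666876)))) (BT.node (nat_lit 4580804) (BT.node (nat_lit 4580803) (BT.leaf (nat_lit 666876)) (BT.leaf (nat_lit 666876))) (BT.node (nat_lit 4580808) (BT.leaf (nat_lit 691124)) (BT.leaf (nat_lit 691124))))) (BT.node (nat_lit 4580929) (BT.node (nat_lit 4580868) (BT.node (nat_lit 4580867) (BT.leaf (nat_lit 676208)) (BT.leaf (nat_lit 676208))) (BT.node (nat_lit 4580869) (BT.leaf (nat_lit 676208)) (BT.leaf (nat_lit 676208)))) (BT.node (nat_lit 4580994) (BT.node (nat_lit 4580936) (BT.leaf (nat_lit 797856)) (BT.leaf (nat_lit 797856))) (BT.node (nat_lit 4580995) (BT.leaf (nat_lit 695544)) (BT.leaf (nat_lit 695544)))))))))) (BT.node (nat_lit 4584833) (BT.node (nat_lit 4582850) (BT.node (nat_lit 4581638) (BT.node (nat_lit 4581255) (BT.node (nat_lit 4581126) (BT.node (nat_lit 4581064) (BT.node (nat_lit 4581060) (BT.node (nat_lit 4581058) (BT.leaf (nat_lit 695544)) (BT.leaf (nat_lit 718412))) (BT.node (nat_lit 4581062) (BT.leaf (nat_lit 718412)) (BT.leaf (nat_lit 718412)))) (BT.node (nat_lit 4581122) (BT.node (nat_lit 4581121) (BT.leaf (nat_lit 718412)) (BT.leaf (nat_lit 663784))) (BT.node (nat_lit 4581123) (BT.leaf (nat_lit 663784)) (BT.leaf (nat_lit 663784))))) (BT.node (nat_lit 4581191) (BT.node (nat_lit 4581128) (BT.node (nat_lit 4581127) (BT.leaf (nat_lit 663784)) (BT.leaf (nat_lit 663784))) (BT.node (nat_lit 4581190) (BT.leaf (nat_lit 663784)) (BT.leaf (nat_lit 701312)))) (BT.node (nat_lit 4581251) (BT.node (nat_lit 4581192) (BT.leaf (nat_lit 701312)) (BT.leaf (nat_lit 748708))) (BT.node (nat_lit 4581254) (BT.leaf (nat_lit 705228)) (BT.leaf (nat_lit 705228)))))) (BT.node (nat_lit 4581509) (BT.node (nat_lit 4581381) (BT.node (nat_lit 4581378) (BT.node (nat_lit 4581256) (BT.leaf (nat_lit 705228)) (BT.leaf (nat_lit 705228))) (BT.node (nat_lit 4581379) (BT.leaf (nat_lit 701488)) (BT.leaf (nat_lit 701488)))) (BT.node (nat_lit 4581445) (BT.node (nat_lit 4581444) (BT.leaf (nat_lit 662436)) (BT.leaf (nat_lit 723440))) (BT.node (nat_lit 4581507) (BT.leaf (nat_lit 658684)) (BT.leaf (nat_lit 694020))))) (BT.node (nat_lit 4581571) (BT.node (nat_lit 4581511) (BT.node (nat_lit 4581510) (BT.leaf (nat_lit 694020)) (BT.leaf (nat_lit 694020))) (BT.node (nat_lit 4581570) (BT.leaf (nat_lit 694020)) (BT.leaf (nat_lit 665580)))) (BT.node (nat_lit 4581575) (BT.node (nat_lit 4581574) (BT.leaf (nat_lit 665580)) (BT.leaf (nat_lit 665580))) (BT.node (nat_lit 4581576) (BT.leaf (nat_lit 665580)) (BT.leaf (nat_lit 665580))))))) (BT.node (nat_lit 4582018) (BT.node (nat_lit 4581825) (BT.node (nat_lit 4581700) (BT.node (nat_lit 4581697) (BT.node (nat_lit 4581639) (BT.leaf (nat_lit 678472)) (BT.leaf (nat_lit 678472))) (BT.node (nat_lit 4581698) (BT.leaf (nat_lit 678488)) (BT.leaf (nat_lit 791800)))) (BT.node (nat_lit 4581765) (BT.node (nat_lit 4581761) (BT.leaf (nat_lit 678488)) (BT.leaf (nat_lit 682924))) (BT.node (nat_lit 4581767) (BT.leaf (nat_lit 682924)) (BT.leaf (nat_lit 682924))))) (BT.node (nat_lit 4581892) (BT.node (nat_lit 4581827) (BT.node (nat_lit 4581826) (BT.leaf (nat_lit 684208)) (BT.leaf (nat_lit 684208))) (BT.node (nat_lit 4581829) (BT.leaf (nat_lit 684208)) (BT.leaf (nat_lit 684208)))) (BT.node (nat_lit 4581960) (BT.node (nat_lit 4581953) (BT.leaf (nat_lit 709828)) (BT.leaf (nat_lit 663732))) (BT.node (nat_lit 4582017) (BT.leaf (nat_lit 663732)) (BT.leaf (nat_lit 646036)))))) (BT.node (nat_lit 4582340) (BT.node (nat_lit 4582086) (BT.node (nat_lit 4582021) (BT.node (nat_lit 4582019) (BT.leaf (nat_lit 646036)) (BT.leaf (nat_lit 646036))) (BT.node (nat_lit 4582081) (BT.leaf (nat_lit 646036)) (BT.leaf (nat_lit 655752)))) (BT.node (nat_lit 4582213) (BT.node (nat_lit 4582087) (BT.leaf (nat_lit 699044)) (BT.leaf (nat_lit 699044))) (BT.node (nat_lit 4582337) (BT.leaf (nat_lit 665356)) (BT.leaf (nat_lit 647968))))) (BT.node (nat_lit 4582468) (BT.node (nat_lit 4582466) (BT.node (nat_lit 4582344) (BT.leaf (nat_lit 647968)) (BT.leaf (nat_lit 647968))) (BT.node (nat_lit 4582467) (BT.leaf (nat_lit 643108)) (BT.leaf (nat_lit 643108)))) (BT.node (nat_lit 4582788) (BT.node (nat_lit 4582472) (BT.leaf (nat_lit 759112)) (BT.leaf (nat_lit 643108))) (BT.node (nat_lit 4582789) (BT.leaf (nat_lit 713312)) (BT.leaf (nat_lit 713312)))))))) (BT.node (nat_lit 4583747) (BT.node (nat_lit 4583362) (BT.node (nat_lit 4583173) (BT.node (nat_lit 4583045) (BT.node (nat_lit 4582852) (BT.node (nat_lit 4582851) (BT.leaf (nat_lit 797368)) (BT.leaf (nat_lit 797368))) (BT.node (nat_lit 4582980) (BT.leaf (nat_lit 776836)) (BT.leaf (nat_lit 692208)))) (BT.node (nat_lit 4583170) (BT.node (nat_lit 4583047) (BT.leaf (nat_lit 709840)) (BT.leaf (nat_lit 709840))) (BT.node (nat_lit 4583171) (BT.leaf (nat_lit 714632)) (BT.leaf (nat_lit 714632))))) (BT.node (nat_lit 4583239) (BT.node (nat_lit 4583237) (BT.node (nat_lit 4583235) (BT.leaf (nat_lit 714632)) (BT.leaf (nat_lit 688776))) (BT.node (nat_lit 4583238) (BT.leaf (nat_lit 688776)) (BT.leaf (nat_lit 688776)))) (BT.node (nat_lit 4583303) (BT.node (nat_lit 4583302) (BT.leaf (nat_lit 688776)) (BT.leaf (nat_lit 663164))) (BT.node (nat_lit 4583304) (BT.leaf (nat_lit 663164)) (BT.leaf (nat_lit 663164)))))) (BT.node (nat_lit 4583558) (BT.node (nat_lit 4583491) (BT.node (nat_lit 4583365) (BT.node (nat_lit 4583363) (BT.leaf (nat_lit 660104)) (BT.leaf (nat_lit 660104))) (BT.node (nat_lit 4583368) (BT.leaf (nat_lit 660104)) (BT.leaf (nat_lit 660104)))) (BT.node (nat_lit 4583495) (BT.node (nat_lit 4583494) (BT.leaf (nat_lit 690352)) (BT.leaf (nat_lit 690352))) (BT.node (nat_lit 4583554) (BT.leaf (nat_lit 690352)) (BT.leaf (nat_lit 677900))))) (BT.node (nat_lit 4583622) (BT.node (nat_lit 4583560) (BT.node (nat_lit 4583559) (BT.leaf (nat_lit 677900)) (BT.leaf (nat_lit 677900))) (BT.node (nat_lit 4583621) (BT.leaf (nat_lit 677900)) (BT.leaf (nat_lit 645060)))) (BT.node (nat_lit 4583684) (BT.node (nat_lit 4583623) (BT.leaf (nat_lit 709804)) (BT.leaf (nat_lit 709804))) (BT.node (nat_lit 4583746) (BT.leaf (nat_lit 715060)) (BT.leaf (nat_lit 719040))))))) (BT.node (nat_lit 4584193) (BT.node (nat_lit 4583880) (BT.node (nat_lit 4583815) (BT.node (nat_lit 4583812) (BT.node (nat_lit 4583809) (BT.leaf (nat_lit 719040)) (BT.leaf (nat_lit 688772))) (BT.node (nat_lit 4583814) (BT.leaf (nat_lit 652668)) (BT.leaf (nat_lit 688772)))) (BT.node (nat_lit 4583878) (BT.node (nat_lit 4583816) (BT.leaf (nat_lit 688772)) (BT.leaf (nat_lit 652668))) (BT.node (nat_lit 4583879) (BT.leaf (nat_lit 706644)) (BT.leaf (nat_lit 706644))))) (BT.node (nat_lit 4584003) (BT.node (nat_lit 4583941) (BT.node (nat_lit 4583938) (BT.leaf (nat_lit 706644)) (BT.leaf (nat_lit 708512))) (BT.node (nat_lit 4584002) (BT.leaf (nat_lit 683708)) (BT.leaf (nat_lit 684224)))) (BT.node (nat_lit 4584006) (BT.node (nat_lit 4584005) (BT.leaf (nat_lit 684224)) (BT.leaf (nat_lit 684224))) (BT.node (nat_lit 4584007) (BT.leaf (nat_lit 684224)) (BT.leaf (nat_lit 684224)))))) (BT.node (nat_lit 4584706) (BT.node (nat_lit 4584453) (BT.node (nat_lit 4584385) (BT.node (nat_lit 4584197) (BT.leaf (nat_lit 713772)) (BT.leaf (nat_lit 713772))) (BT.node (nat_lit 4584386) (BT.leaf (nat_lit 673348)) (BT.leaf (nat_lit 673348)))) (BT.node (nat_lit 4584513) (BT.node (nat_lit 4584456) (BT.leaf (nat_lit 720832)) (BT.leaf (nat_lit 720832))) (BT.node (nat_lit 4584517) (BT.leaf (nat_lit 720852)) (BT.leaf (nat_lit 720852))))) (BT.node (nat_lit 4584771) (BT.node (nat_lit 4584769) (BT.node (nat_lit 4584707) (BT.leaf (nat_lit 723344)) (BT.leaf (nat_lit 723344))) (BT.node (nat_lit 4584770) (BT.leaf (nat_lit 684220)) (BT.leaf (nat_lit 684220)))) (BT.node (nat_lit 4584775) (BT.node (nat_lit 4584774) (BT.leaf (nat_lit 684220)) (BT.leaf (nat_lit 684220))) (BT.node (nat_lit 4584776) (BT.leaf (nat_lit 684220)) (BT.leaf (nat_lit 684220))))))))) (BT.node (nat_lit 4586179) (BT.node (nat_lit 4585606) (BT.node (nat_lit 4585096) (BT.node (nat_lit 4584900) (BT.node (nat_lit 4584840) (BT.node (nat_lit 4584836) (BT.node (nat_lit 4584835) (BT.leaf (nat_lit 694444)) (BT.leaf (nat_lit 694444))) (BT.node (nat_lit 4584837) (BT.leaf (nat_lit 694444)) (BT.leaf (nat_lit 694444)))) (BT.node (nat_lit 4584898) (BT.node (nat_lit 4584897) (BT.leaf (nat_lit 694444)) (BT.leaf (nat_lit 678832))) (BT.node (nat_lit 4584899) (BT.leaf (nat_lit 678832)) (BT.leaf (nat_lit 678832))))) (BT.node (nat_lit 4584968) (BT.node (nat_lit 4584904) (BT.node (nat_lit 4584901) (BT.leaf (nat_lit 678832)) (BT.leaf (nat_lit 678832))) (BT.node (nat_lit 4584961) (BT.leaf (nat_lit 678832)) (BT.leaf (nat_lit 679680)))) (BT.node (nat_lit 4585094) (BT.node (nat_lit 4585025) (BT.leaf (nat_lit 679680)) (BT.leaf (nat_lit 776808))) (BT.node (nat_lit 4585095) (BT.leaf (nat_lit 661444)) (BT.leaf (nat_lit 661444)))))) (BT.node (nat_lit 4585350) (BT.node (nat_lit 4585220) (BT.node (nat_lit 4585156) (BT.node (nat_lit 4585155) (BT.leaf (nat_lit 661444)) (BT.leaf (nat_lit 661412))) (BT.node (nat_lit 4585160) (BT.leaf (nat_lit 661412)) (BT.leaf (nat_lit 661412)))) (BT.node (nat_lit 4585288) (BT.node (nat_lit 4585283) (BT.leaf (nat_lit 642876)) (BT.leaf (nat_lit 708896))) (BT.node (nat_lit 4585347) (BT.leaf (nat_lit 708896)) (BT.leaf (nat_lit 763736))))) (BT.node (nat_lit 4585478) (BT.node (nat_lit 4585412) (BT.node (nat_lit 4585351) (BT.leaf (nat_lit 763736)) (BT.leaf (nat_lit 763736))) (BT.node (nat_lit 4585475) (BT.leaf (nat_lit 719604)) (BT.leaf (nat_lit 655308)))) (BT.node (nat_lit 4585541) (BT.node (nat_lit 4585480) (BT.leaf (nat_lit 655308)) (BT.leaf (nat_lit 655308))) (BT.node (nat_lit 4585543) (BT.leaf (nat_lit 768372)) (BT.leaf (nat_lit 712960))))))) (BT.node (nat_lit 4585923) (BT.node (nat_lit 4585795) (BT.node (nat_lit 4585731) (BT.node (nat_lit 4585670) (BT.node (nat_lit 4585667) (BT.leaf (nat_lit 695784)) (BT.leaf (nat_lit 749072))) (BT.node (nat_lit 4585729) (BT.leaf (nat_lit 749072)) (BT.leaf (nat_lit 663900)))) (BT.node (nat_lit 4585733) (BT.node (nat_lit 4585732) (BT.leaf (nat_lit 663900)) (BT.leaf (nat_lit 663156))) (BT.node (nat_lit 4585794) (BT.leaf (nat_lit 663900)) (BT.leaf (nat_lit 691372))))) (BT.node (nat_lit 4585800) (BT.node (nat_lit 4585798) (BT.node (nat_lit 4585796) (BT.leaf (nat_lit 691372)) (BT.leaf (nat_lit 691372))) (BT.node (nat_lit 4585799) (BT.leaf (nat_lit 691372)) (BT.leaf (nat_lit 691372)))) (BT.node (nat_lit 4585921) (BT.node (nat_lit 4585861) (BT.leaf (nat_lit 691372)) (BT.leaf (nat_lit 707276))) (BT.node (nat_lit 4585922) (BT.leaf (nat_lit 651044)) (BT.leaf (nat_lit 651044)))))) (BT.node (nat_lit 4586051) (BT.node (nat_lit 4585986) (BT.node (nat_lit 4585928) (BT.node (nat_lit 4585925) (BT.leaf (nat_lit 651044)) (BT.leaf (nat_lit 651044))) (BT.node (nat_lit 4585985) (BT.leaf (nat_lit 651044)) (BT.leaf (nat_lit 721296)))) (BT.node (nat_lit 4585989) (BT.node (nat_lit 4585987) (BT.leaf (nat_lit 689880)) (BT.leaf (nat_lit 721296))) (BT.node (nat_lit 4586050) (BT.leaf (nat_lit 721296)) (BT.leaf (nat_lit 713356))))) (BT.node (nat_lit 4586115) (BT.node (nat_lit 4586054) (BT.node (nat_lit 4586052) (BT.leaf (nat_lit 713356)) (BT.leaf (nat_lit 700536))) (BT.node (nat_lit 4586055) (BT.leaf (nat_lit 673108)) (BT.leaf (nat_lit 673108)))) (BT.node (nat_lit 4586120) (BT.node (nat_lit 4586118) (BT.leaf (nat_lit 722920)) (BT.leaf (nat_lit 807832))) (BT.node (nat_lit 4586177) (BT.leaf (nat_lit 807832)) (BT.leaf (nat_lit 702284)))))))) (BT.node (nat_lit 4587138) (BT.node (nat_lit 4586757) (BT.node (nat_lit 4586626) (BT.node (nat_lit 4586242) (BT.node (nat_lit 4586181) (BT.node (nat_lit 4586180) (BT.leaf (nat_lit 655148)) (BT.leaf (nat_lit 702284))) (BT.node (nat_lit 4586241) (BT.leaf (nat_lit 702284)) (BT.leaf (nat_lit 688056)))) (BT.node (nat_lit 4586246) (BT.node (nat_lit 4586243) (BT.leaf (nat_lit 688056)) (BT.leaf (nat_lit 688056))) (BT.node (nat_lit 4586247) (BT.leaf (nat_lit 688056)) (BT.leaf (nat_lit 688056))))) (BT.node (nat_lit 4586690) (BT.node (nat_lit 4586632) (BT.node (nat_lit 4586628) (BT.leaf (nat_lit 705424)) (BT.leaf (nat_lit 705424))) (BT.node (nat_lit 4586689) (BT.leaf (nat_lit 705424)) (BT.leaf (nat_lit 692720)))) (BT.node (nat_lit 4586693) (BT.node (nat_lit 4586692) (BT.leaf (nat_lit 692720)) (BT.leaf (nat_lit 692720))) (BT.node (nat_lit 4586696) (BT.leaf (nat_lit 692720)) (BT.leaf (nat_lit 692720)))))) (BT.node (nat_lit 4586884) (BT.node (nat_lit 4586819) (BT.node (nat_lit 4586759) (BT.node (nat_lit 4586758) (BT.leaf (nat_lit 712192)) (BT.leaf (nat_lit 711300))) (BT.node (nat_lit 4586817) (BT.leaf (nat_lit 711300)) (BT.leaf (nat_lit 687620)))) (BT.node (nat_lit 4586821) (BT.node (nat_lit 4586820) (BT.leaf (nat_lit 687620)) (BT.leaf (nat_lit 643364))) (BT.node (nat_lit 4586883) (BT.leaf (nat_lit 643364)) (BT.leaf (nat_lit 645356))))) (BT.node (nat_lit 4587011) (BT.node (nat_lit 4587009) (BT.node (nat_lit 4586885) (BT.leaf (nat_lit 645356)) (BT.leaf (nat_lit 645356))) (BT.node (nat_lit 4587010) (BT.leaf (nat_lit 645984)) (BT.leaf (nat_lit 645984)))) (BT.node (nat_lit 4587014) (BT.node (nat_lit 4587012) (BT.leaf (nat_lit 645984)) (BT.leaf (nat_lit 645984))) (BT.node (nat_lit 4587016) (BT.leaf (nat_lit 645984)) (BT.leaf (nat_lit 645984))))))) (BT.node (nat_lit 4587399) (BT.node (nat_lit 4587203) (BT.node (nat_lit 4587143) (BT.node (nat_lit 4587140) (BT.node (nat_lit 4587139) (BT.leaf (nat_lit 678036)) (BT.leaf (nat_lit 678036))) (BT.node (nat_lit 4587142) (BT.leaf (nat_lit 678036)) (BT.leaf (nat_lit 678036)))) (BT.node (nat_lit 4587201) (BT.node (nat_lit 4587144) (BT.leaf (nat_lit 678036)) (BT.leaf (nat_lit 678036))) (BT.node (nat_lit 4587202) (BT.leaf (nat_lit 655436)) (BT.leaf (nat_lit 655436))))) (BT.node (nat_lit 4587333) (BT.node (nat_lit 4587207) (BT.node (nat_lit 4587206) (BT.leaf (nat_lit 655436)) (BT.leaf (nat_lit 704220))) (BT.node (nat_lit 4587208) (BT.leaf (nat_lit 704220)) (BT.leaf (nat_lit 655436)))) (BT.node (nat_lit 4587397) (BT.node (nat_lit 4587395) (BT.leaf (nat_lit 654524)) (BT.leaf (nat_lit 709292))) (BT.node (nat_lit 4587398) (BT.leaf (nat_lit 709292)) (BT.leaf (nat_lit 709292)))))) (BT.node (nat_lit 4587971) (BT.node (nat_lit 4587906) (BT.node (nat_lit 4587783) (BT.node (nat_lit 4587781) (BT.leaf (nat_lit 709292)) (BT.leaf (nat_lit 705428))) (BT.node (nat_lit 4587905) (BT.leaf (nat_lit 705428)) (BT.leaf (nat_lit 673652)))) (BT.node (nat_lit 4587912) (BT.node (nat_lit 4587907) (BT.leaf (nat_lit 673652)) (BT.leaf (nat_lit 673652))) (BT.node (nat_lit 4587970) (BT.leaf (nat_lit 673652)) (BT.leaf (nat_lit 664428))))) (BT.node (nat_lit 4588040) (BT.node (nat_lit 4588034) (BT.node (nat_lit 4587973) (BT.leaf (nat_lit 664428)) (BT.leaf (nat_lit 664428))) (BT.node (nat_lit 4588038) (BT.leaf (nat_lit 705432)) (BT.leaf (nat_lit 715032)))) (BT.node (nat_lit 4588231) (BT.node (nat_lit 4588225) (BT.leaf (nat_lit 705432)) (BT.leaf (nat_lit 665468))) (BT.node (nat_lit 4588294) (BT.leaf (nat_lit 665468)) (BT.leaf (nat_lit 696804))))))))))) (BT.node (nat_lit 4596673) (BT.node (nat_lit 4592260) (BT.node (nat_lit 4589893) (BT.node (nat_lit 4589252) (BT.node (nat_lit 4588931) (BT.node (nat_lit 4588807) (BT.node (nat_lit 4588483) (BT.node (nat_lit 4588419) (BT.node (nat_lit 4588359) (BT.leaf (nat_lit 660580)) (BT.leaf (nat_lit 660580))) (BT.node (nat_lit 4588422) (BT.leaf (nat_lit 748476)) (BT.leaf (nat_lit 748476)))) (BT.node (nat_lit 4588741) (BT.node (nat_lit 4588739) (BT.leaf (nat_lit 696792)) (BT.leaf (nat_lit 652740))) (BT.node (nat_lit 4588805) (BT.leaf (nat_lit 767276)) (BT.leaf (nat_lit 709880))))) (BT.node (nat_lit 4588867) (BT.node (nat_lit 4588865) (BT.node (nat_lit 4588808) (BT.leaf (nat_lit 709880)) (BT.leaf (nat_lit 656892))) (BT.node (nat_lit 4588866) (BT.leaf (nat_lit 651568)) (BT.leaf (nat_lit 651568)))) (BT.node (nat_lit 4588871) (BT.node (nat_lit 4588870) (BT.leaf (nat_lit 651568)) (BT.leaf (nat_lit 651568))) (BT.node (nat_lit 4588930) (BT.leaf (nat_lit 651568)) (BT.leaf (nat_lit 714768)))))) (BT.node (nat_lit 4589126) (BT.node (nat_lit 4588995) (BT.node (nat_lit 4588936) (BT.node (nat_lit 4588933) (BT.leaf (nat_lit 714768)) (BT.leaf (nat_lit 714768))) (BT.node (nat_lit 4588994) (BT.leaf (nat_lit 655220)) (BT.leaf (nat_lit 684332)))) (BT.node (nat_lit 4589122) (BT.node (nat_lit 4588996) (BT.leaf (nat_lit 684332)) (BT.leaf (nat_lit 704568))) (BT.node (nat_lit 4589125) (BT.leaf (nat_lit 692272)) (BT.leaf (nat_lit 704572))))) (BT.node (nat_lit 4589189) (BT.node (nat_lit 4589186) (BT.node (nat_lit 4589127) (BT.leaf (nat_lit 704572)) (BT.leaf (nat_lit 704572))) (BT.node (nat_lit 4589187) (BT.leaf (nat_lit 651580)) (BT.leaf (nat_lit 651580)))) (BT.node (nat_lit 4589250) (BT.node (nat_lit 4589249) (BT.leaf (nat_lit 651580)) (BT.leaf (nat_lit 706972))) (BT.node (nat_lit 4589251) (BT.leaf (nat_lit 706972)) (BT.leaf (nat_lit 706972))))))) (BT.node (nat_lit 4589576) (BT.node (nat_lit 4589443) (BT.node (nat_lit 4589379) (BT.node (nat_lit 4589317) (BT.node (nat_lit 4589253) (BT.leaf (nat_lit 661564)) (BT.leaf (nat_lit 706972))) (BT.node (nat_lit 4589320) (BT.leaf (nat_lit 683160)) (BT.leaf (nat_lit 764000)))) (BT.node (nat_lit 4589441) (BT.node (nat_lit 4589384) (BT.leaf (nat_lit 660304)) (BT.leaf (nat_lit 660304))) (BT.node (nat_lit 4589442) (BT.leaf (nat_lit 650644)) (BT.leaf (nat_lit 650644))))) (BT.node (nat_lit 4589506) (BT.node (nat_lit 4589448) (BT.node (nat_lit 4589444) (BT.leaf (nat_lit 650644)) (BT.leaf (nat_lit 650644))) (BT.node (nat_lit 4589505) (BT.leaf (nat_lit 650644)) (BT.leaf (nat_lit 660336)))) (BT.node (nat_lit 4589569) (BT.node (nat_lit 4589512) (BT.leaf (nat_lit 660336)) (BT.leaf (nat_lit 660336))) (BT.node (nat_lit 4589570) (BT.leaf (nat_lit 660328)) (BT.leaf (nat_lit 660328)))))) (BT.node (nat_lit 4589763) (BT.node (nat_lit 4589697) (BT.node (nat_lit 4589634) (BT.node (nat_lit 4589633) (BT.leaf (nat_lit 660328)) (BT.leaf (nat_lit 665944))) (BT.node (nat_lit 4589636) (BT.leaf (nat_lit 665944)) (BT.leaf (nat_lit 648596)))) (BT.node (nat_lit 4589761) (BT.node (nat_lit 4589698) (BT.leaf (nat_lit 660340)) (BT.leaf (nat_lit 660340))) (BT.node (nat_lit 4589762) (BT.leaf (nat_lit 665952)) (BT.leaf (nat_lit 665952))))) (BT.node (nat_lit 4589830) (BT.node (nat_lit 4589766) (BT.node (nat_lit 4589765) (BT.leaf (nat_lit 665952)) (BT.leaf (nat_lit 711124))) (BT.node (nat_lit 4589767) (BT.leaf (nat_lit 711124)) (BT.leaf (nat_lit 711124)))) (BT.node (nat_lit 4589832) (BT.node (nat_lit 4589831) (BT.leaf (nat_lit 648236)) (BT.leaf (nat_lit 648236))) (BT.node (nat_lit 4589892) (BT.leaf (nat_lit 709724)) (BT.leaf (nat_lit 722372)))))))) (BT.node (nat_lit 4591235) (BT.node (nat_lit 4590534) (BT.node (nat_lit 4590338) (BT.node (nat_lit 4590150) (BT.node (nat_lit 4590147) (BT.node (nat_lit 4589896) (BT.leaf (nat_lit 722372)) (BT.leaf (nat_lit 673324))) (BT.node (nat_lit 4590149) (BT.leaf (nat_lit 766620)) (BT.leaf (nat_lit 766620)))) (BT.node (nat_lit 4590210) (BT.node (nat_lit 4590151) (BT.leaf (nat_lit 766620)) (BT.leaf (nat_lit 766620))) (BT.node (nat_lit 4590274) (BT.leaf (nat_lit 790744)) (BT.leaf (nat_lit 790748))))) (BT.node (nat_lit 4590405) (BT.node (nat_lit 4590340) (BT.node (nat_lit 4590339) (BT.leaf (nat_lit 790740)) (BT.leaf (nat_lit 790740))) (BT.node (nat_lit 4590344) (BT.leaf (nat_lit 686960)) (BT.leaf (nat_lit 790740)))) (BT.node (nat_lit 4590531) (BT.node (nat_lit 4590469) (BT.leaf (nat_lit 805724)) (BT.leaf (nat_lit 649368))) (BT.node (nat_lit 4590533) (BT.leaf (nat_lit 805736)) (BT.leaf (nat_lit 674864)))))) (BT.node (nat_lit 4590977) (BT.node (nat_lit 4590599) (BT.node (nat_lit 4590594) (BT.node (nat_lit 4590535) (BT.leaf (nat_lit 674864)) (BT.leaf (nat_lit 674864))) (BT.node (nat_lit 4590598) (BT.leaf (nat_lit 805740)) (BT.leaf (nat_lit 649356)))) (BT.node (nat_lit 4590661) (BT.node (nat_lit 4590600) (BT.leaf (nat_lit 805740)) (BT.leaf (nat_lit 649356))) (BT.node (nat_lit 4590789) (BT.leaf (nat_lit 649420)) (BT.leaf (nat_lit 660992))))) (BT.node (nat_lit 4591172) (BT.node (nat_lit 4591169) (BT.node (nat_lit 4590981) (BT.leaf (nat_lit 673096)) (BT.leaf (nat_lit 673096))) (BT.node (nat_lit 4591171) (BT.leaf (nat_lit 651572)) (BT.leaf (nat_lit 651572)))) (BT.node (nat_lit 4591176) (BT.node (nat_lit 4591173) (BT.leaf (nat_lit 651572)) (BT.leaf (nat_lit 651572))) (BT.node (nat_lit 4591234) (BT.leaf (nat_lit 651572)) (BT.leaf (nat_lit 679388))))))) (BT.node (nat_lit 4591811) (BT.node (nat_lit 4591618) (BT.node (nat_lit 4591301) (BT.node (nat_lit 4591240) (BT.node (nat_lit 4591237) (BT.leaf (nat_lit 679388)) (BT.leaf (nat_lit 712024))) (BT.node (nat_lit 4591297) (BT.leaf (nat_lit 712024)) (BT.leaf (nat_lit 717116)))) (BT.node (nat_lit 4591559) (BT.node (nat_lit 4591425) (BT.leaf (nat_lit 717116)) (BT.leaf (nat_lit 719980))) (BT.node (nat_lit 4591617) (BT.leaf (nat_lit 723020)) (BT.leaf (nat_lit 692232))))) (BT.node (nat_lit 4591624) (BT.node (nat_lit 4591620) (BT.node (nat_lit 4591619) (BT.leaf (nat_lit 692232)) (BT.leaf (nat_lit 692232))) (BT.node (nat_lit 4591621) (BT.leaf (nat_lit 692232)) (BT.leaf (nat_lit 692232)))) (BT.node (nat_lit 4591809) (BT.node (nat_lit 4591749) (BT.leaf (nat_lit 692232)) (BT.leaf (nat_lit 700808))) (BT.node (nat_lit 4591810) (BT.leaf (nat_lit 652996)) (BT.leaf (nat_lit 652996)))))) (BT.node (nat_lit 4592195) (BT.node (nat_lit 4592068) (BT.node (nat_lit 4591815) (BT.node (nat_lit 4591814) (BT.leaf (nat_lit 652996)) (BT.leaf (nat_lit 652996))) (BT.node (nat_lit 4591937) (BT.leaf (nat_lit 652996)) (BT.leaf (nat_lit 707016)))) (BT.node (nat_lit 4592072) (BT.node (nat_lit 4592069) (BT.leaf (nat_lit 714420)) (BT.leaf (nat_lit 714420))) (BT.node (nat_lit 4592193) (BT.leaf (nat_lit 714420)) (BT.leaf (nat_lit 721532))))) (BT.node (nat_lit 4592200) (BT.node (nat_lit 4592198) (BT.node (nat_lit 4592197) (BT.leaf (nat_lit 721532)) (BT.leaf (nat_lit 721532))) (BT.node (nat_lit 4592199) (BT.leaf (nat_lit 721532)) (BT.leaf (nat_lit 721532)))) (BT.node (nat_lit 4592258) (BT.node (nat_lit 4592257) (BT.leaf (nat_lit 721532)) (BT.leaf (nat_lit 674620))) (BT.node (nat_lit 4592259) (BT.leaf (nat_lit 674620)) (BT.leaf (nat_lit 674620))))))))) (BT.node (nat_lit 4594375) (BT.node (nat_lit 4593219) (BT.node (nat_lit 4592705) (BT.node (nat_lit 4592517) (BT.node (nat_lit 4592323) (BT.node (nat_lit 4592263) (BT.node (nat_lit 4592262) (BT.leaf (nat_lit 674620)) (BT.leaf (nat_lit 674620))) (BT.node (nat_lit 4592264) (BT.leaf (nat_lit 674620)) (BT.leaf (nat_lit 674620)))) (BT.node (nat_lit 4592514) (BT.node (nat_lit 4592326) (BT.leaf (nat_lit 710484)) (BT.leaf (nat_lit 710484))) (BT.node (nat_lit 4592515) (BT.leaf (nat_lit 697596)) (BT.leaf (nat_lit 697596))))) (BT.node (nat_lit 4592579) (BT.node (nat_lit 4592577) (BT.node (nat_lit 4592520) (BT.leaf (nat_lit 692188)) (BT.leaf (nat_lit 697596))) (BT.node (nat_lit 4592578) (BT.leaf (nat_lit 684792)) (BT.leaf (nat_lit 684792)))) (BT.node (nat_lit 4592581) (BT.node (nat_lit 4592580) (BT.leaf (nat_lit 684792)) (BT.leaf (nat_lit 684792))) (BT.node (nat_lit 4592584) (BT.leaf (nat_lit 684792)) (BT.leaf (nat_lit 684792)))))) (BT.node (nat_lit 4592839) (BT.node (nat_lit 4592775) (BT.node (nat_lit 4592709) (BT.node (nat_lit 4592708) (BT.leaf (nat_lit 673984)) (BT.leaf (nat_lit 673984))) (BT.node (nat_lit 4592712) (BT.leaf (nat_lit 673984)) (BT.leaf (nat_lit 673984)))) (BT.node (nat_lit 4592837) (BT.node (nat_lit 4592833) (BT.leaf (nat_lit 695920)) (BT.leaf (nat_lit 650648))) (BT.node (nat_lit 4592838) (BT.leaf (nat_lit 650648)) (BT.leaf (nat_lit 650648))))) (BT.node (nat_lit 4592904) (BT.node (nat_lit 4592897) (BT.node (nat_lit 4592840) (BT.leaf (nat_lit 650648)) (BT.leaf (nat_lit 650648))) (BT.node (nat_lit 4592900) (BT.leaf (nat_lit 650656)) (BT.leaf (nat_lit 650656)))) (BT.node (nat_lit 4593157) (BT.node (nat_lit 4592966) (BT.leaf (nat_lit 650656)) (BT.leaf (nat_lit 714148))) (BT.node (nat_lit 4593218) (BT.leaf (nat_lit 660980)) (BT.leaf (nat_lit 662756))))))) (BT.node (nat_lit 4593922) (BT.node (nat_lit 4593670) (BT.node (nat_lit 4593605) (BT.node (nat_lit 4593476) (BT.node (nat_lit 4593416) (BT.leaf (nat_lit 791280)) (BT.leaf (nat_lit 673592))) (BT.node (nat_lit 4593537) (BT.leaf (nat_lit 688892)) (BT.leaf (nat_lit 678528)))) (BT.node (nat_lit 4593666) (BT.node (nat_lit 4593665) (BT.leaf (nat_lit 678544)) (BT.leaf (nat_lit 710684))) (BT.node (nat_lit 4593667) (BT.leaf (nat_lit 805808)) (BT.leaf (nat_lit 710684))))) (BT.node (nat_lit 4593793) (BT.node (nat_lit 4593672) (BT.node (nat_lit 4593671) (BT.leaf (nat_lit 710684)) (BT.leaf (nat_lit 805808))) (BT.node (nat_lit 4593731) (BT.leaf (nat_lit 710684)) (BT.leaf (nat_lit 805812)))) (BT.node (nat_lit 4593800) (BT.node (nat_lit 4593798) (BT.leaf (nat_lit 680420)) (BT.leaf (nat_lit 680420))) (BT.node (nat_lit 4593921) (BT.leaf (nat_lit 680420)) (BT.leaf (nat_lit 714912)))))) (BT.node (nat_lit 4594056) (BT.node (nat_lit 4593987) (BT.node (nat_lit 4593925) (BT.node (nat_lit 4593924) (BT.leaf (nat_lit 680412)) (BT.leaf (nat_lit 714912))) (BT.node (nat_lit 4593928) (BT.leaf (nat_lit 714912)) (BT.leaf (nat_lit 680412)))) (BT.node (nat_lit 4594049) (BT.node (nat_lit 4593988) (BT.leaf (nat_lit 719996)) (BT.leaf (nat_lit 719996))) (BT.node (nat_lit 4594051) (BT.leaf (nat_lit 719828)) (BT.leaf (nat_lit 719828))))) (BT.node (nat_lit 4594242) (BT.node (nat_lit 4594182) (BT.node (nat_lit 4594177) (BT.leaf (nat_lit 719828)) (BT.leaf (nat_lit 649360))) (BT.node (nat_lit 4594183) (BT.leaf (nat_lit 649360)) (BT.leaf (nat_lit 649360)))) (BT.node (nat_lit 4594248) (BT.node (nat_lit 4594244) (BT.leaf (nat_lit 676624)) (BT.leaf (nat_lit 644784))) (BT.node (nat_lit 4594308) (BT.leaf (nat_lit 676624)) (BT.leaf (nat_lit 720940)))))))) (BT.node (nat_lit 4595586) (BT.node (nat_lit 4595010) (BT.node (nat_lit 4594627) (BT.node (nat_lit 4594504) (BT.node (nat_lit 4594498) (BT.node (nat_lit 4594376) (BT.leaf (nat_lit 714100)) (BT.leaf (nat_lit 714100))) (BT.node (nat_lit 4594500) (BT.leaf (nat_lit 714084)) (BT.leaf (nat_lit 698200)))) (BT.node (nat_lit 4594568) (BT.node (nat_lit 4594563) (BT.leaf (nat_lit 714084)) (BT.leaf (nat_lit 719028))) (BT.node (nat_lit 4594626) (BT.leaf (nat_lit 719028)) (BT.leaf (nat_lit 714080))))) (BT.node (nat_lit 4594694) (BT.node (nat_lit 4594631) (BT.node (nat_lit 4594630) (BT.leaf (nat_lit 714080)) (BT.leaf (nat_lit 714080))) (BT.node (nat_lit 4594691) (BT.leaf (nat_lit 714080)) (BT.leaf (nat_lit 702944)))) (BT.node (nat_lit 4594759) (BT.node (nat_lit 4594754) (BT.leaf (nat_lit 702944)) (BT.leaf (nat_lit 650336))) (BT.node (nat_lit 4594760) (BT.leaf (nat_lit 650336)) (BT.leaf (nat_lit 650336)))))) (BT.node (nat_lit 4595398) (BT.node (nat_lit 4595329) (BT.node (nat_lit 4595201) (BT.node (nat_lit 4595011) (BT.leaf (nat_lit 661712)) (BT.leaf (nat_lit 661712))) (BT.node (nat_lit 4595204) (BT.leaf (nat_lit 695088)) (BT.leaf (nat_lit 695088)))) (BT.node (nat_lit 4595394) (BT.node (nat_lit 4595335) (BT.leaf (nat_lit 669400)) (BT.leaf (nat_lit 669400))) (BT.node (nat_lit 4595395) (BT.leaf (nat_lit 695084)) (BT.leaf (nat_lit 695084))))) (BT.node (nat_lit 4595523) (BT.node (nat_lit 4595400) (BT.node (nat_lit 4595399) (BT.leaf (nat_lit 695084)) (BT.leaf (nat_lit 695084))) (BT.node (nat_lit 4595522) (BT.leaf (nat_lit 695084)) (BT.leaf (nat_lit 648396)))) (BT.node (nat_lit 4595525) (BT.node (nat_lit 4595524) (BT.leaf (nat_lit 648396)) (BT.leaf (nat_lit 648396))) (BT.node (nat_lit 4595528) (BT.leaf (nat_lit 648396)) (BT.leaf (nat_lit 648396))))))) (BT.node (nat_lit 4596166) (BT.node (nat_lit 4595910) (BT.node (nat_lit 4595652) (BT.node (nat_lit 4595588) (BT.node (nat_lit 4595587) (BT.leaf (nat_lit 698216)) (BT.leaf (nat_lit 698216))) (BT.node (nat_lit 4595649) (BT.leaf (nat_lit 698216)) (BT.leaf (nat_lit 680308)))) (BT.node (nat_lit 4595717) (BT.node (nat_lit 4595653) (BT.leaf (nat_lit 693400)) (BT.leaf (nat_lit 680308))) (BT.node (nat_lit 4595906) (BT.leaf (nat_lit 692428)) (BT.leaf (nat_lit 709064))))) (BT.node (nat_lit 4596099) (BT.node (nat_lit 4595972) (BT.node (nat_lit 4595911) (BT.leaf (nat_lit 709064)) (BT.leaf (nat_lit 709064))) (BT.node (nat_lit 4596098) (BT.leaf (nat_lit 670796)) (BT.leaf (nat_lit 815468)))) (BT.node (nat_lit 4596162) (BT.node (nat_lit 4596102) (BT.leaf (nat_lit 716216)) (BT.leaf (nat_lit 691404))) (BT.node (nat_lit 4596163) (BT.leaf (nat_lit 716188)) (BT.leaf (nat_lit 815472)))))) (BT.node (nat_lit 4596423) (BT.node (nat_lit 4596356) (BT.node (nat_lit 4596230) (BT.node (nat_lit 4596167) (BT.leaf (nat_lit 815472)) (BT.leaf (nat_lit 815472))) (BT.node (nat_lit 4596289) (BT.leaf (nat_lit 698912)) (BT.leaf (nat_lit 715288)))) (BT.node (nat_lit 4596419) (BT.node (nat_lit 4596418) (BT.leaf (nat_lit 644312)) (BT.leaf (nat_lit 680460))) (BT.node (nat_lit 4596422) (BT.leaf (nat_lit 696064)) (BT.leaf (nat_lit 680460))))) (BT.node (nat_lit 4596549) (BT.node (nat_lit 4596485) (BT.node (nat_lit 4596484) (BT.leaf (nat_lit 680460)) (BT.leaf (nat_lit 688700))) (BT.node (nat_lit 4596545) (BT.leaf (nat_lit 698932)) (BT.leaf (nat_lit 644944)))) (BT.node (nat_lit 4596551) (BT.node (nat_lit 4596550) (BT.leaf (nat_lit 644944)) (BT.leaf (nat_lit 644944))) (BT.node (nat_lit 4596612) (BT.leaf (nat_lit 644944)) (BT.leaf (nat_lit 698988)))))))))) (BT.node (nat_lit 4601283) (BT.node (nat_lit 4599298) (BT.node (nat_lit 4598211) (BT.node (nat_lit 4597508) (BT.node (nat_lit 4597252) (BT.node (nat_lit 4596741) (BT.node (nat_lit 4596678) (BT.node (nat_lit 4596677) (BT.leaf (nat_lit 715120)) (BT.leaf (nat_lit 715120))) (BT.node (nat_lit 4596679) (BT.leaf (nat_lit 715120)) (BT.leaf (nat_lit 715120)))) (BT.node (nat_lit 4597185) (BT.node (nat_lit 4596935) (BT.leaf (nat_lit 699764)) (BT.leaf (nat_lit 723572))) (BT.node (nat_lit 4597249) (BT.leaf (nat_lit 716376)) (BT.leaf (nat_lit 705592))))) (BT.node (nat_lit 4597446) (BT.node (nat_lit 4597313) (BT.node (nat_lit 4597256) (BT.leaf (nat_lit 719016)) (BT.leaf (nat_lit 716352))) (BT.node (nat_lit 4597441) (BT.leaf (nat_lit 742824)) (BT.leaf (nat_lit 647524)))) (BT.node (nat_lit 4597448) (BT.node (nat_lit 4597447) (BT.leaf (nat_lit 647524)) (BT.leaf (nat_lit 647524))) (BT.node (nat_lit 4597505) (BT.leaf (nat_lit 815236)) (BT.leaf (nat_lit 815240)))))) (BT.node (nat_lit 4597827) (BT.node (nat_lit 4597697) (BT.node (nat_lit 4597574) (BT.node (nat_lit 4597509) (BT.leaf (nat_lit 698568)) (BT.leaf (nat_lit 698568))) (BT.node (nat_lit 4597637) (BT.leaf (nat_lit 698572)) (BT.leaf (nat_lit 688560)))) (BT.node (nat_lit 4597768) (BT.node (nat_lit 4597704) (BT.leaf (nat_lit 688368)) (BT.leaf (nat_lit 688368))) (BT.node (nat_lit 4597826) (BT.leaf (nat_lit 715984)) (BT.leaf (nat_lit 671704))))) (BT.node (nat_lit 4598149) (BT.node (nat_lit 4597957) (BT.node (nat_lit 4597890) (BT.leaf (nat_lit 671704)) (BT.leaf (nat_lit 765320))) (BT.node (nat_lit 4597958) (BT.leaf (nat_lit 684600)) (BT.leaf (nat_lit 666320)))) (BT.node (nat_lit 4598151) (BT.node (nat_lit 4598150) (BT.leaf (nat_lit 670296)) (BT.leaf (nat_lit 670296))) (BT.node (nat_lit 4598210) (BT.leaf (nat_lit 670296)) (BT.leaf (nat_lit 644520))))))) (BT.node (nat_lit 4598852) (BT.node (nat_lit 4598405) (BT.node (nat_lit 4598339) (BT.node (nat_lit 4598337) (BT.node (nat_lit 4598212) (BT.leaf (nat_lit 644520)) (BT.leaf (nat_lit 644520))) (BT.node (nat_lit 4598338) (BT.leaf (nat_lit 716316)) (BT.leaf (nat_lit 716316)))) (BT.node (nat_lit 4598343) (BT.node (nat_lit 4598342) (BT.leaf (nat_lit 716316)) (BT.leaf (nat_lit 716316))) (BT.node (nat_lit 4598344) (BT.leaf (nat_lit 716316)) (BT.leaf (nat_lit 716316))))) (BT.node (nat_lit 4598664) (BT.node (nat_lit 4598532) (BT.node (nat_lit 4598530) (BT.leaf (nat_lit 644504)) (BT.leaf (nat_lit 689548))) (BT.node (nat_lit 4598533) (BT.leaf (nat_lit 689548)) (BT.leaf (nat_lit 647024)))) (BT.node (nat_lit 4598850) (BT.node (nat_lit 4598722) (BT.leaf (nat_lit 758248)) (BT.leaf (nat_lit 815512))) (BT.node (nat_lit 4598851) (BT.leaf (nat_lit 771308)) (BT.leaf (nat_lit 815516)))))) (BT.node (nat_lit 4599169) (BT.node (nat_lit 4599048) (BT.node (nat_lit 4598978) (BT.node (nat_lit 4598915) (BT.leaf (nat_lit 771308)) (BT.leaf (nat_lit 815520))) (BT.node (nat_lit 4598979) (BT.leaf (nat_lit 815524)) (BT.leaf (nat_lit 771304)))) (BT.node (nat_lit 4599106) (BT.node (nat_lit 4599105) (BT.leaf (nat_lit 682212)) (BT.leaf (nat_lit 773984))) (BT.node (nat_lit 4599110) (BT.leaf (nat_lit 773984)) (BT.leaf (nat_lit 773984))))) (BT.node (nat_lit 4599234) (BT.node (nat_lit 4599175) (BT.node (nat_lit 4599171) (BT.leaf (nat_lit 784560)) (BT.leaf (nat_lit 688724))) (BT.node (nat_lit 4599233) (BT.leaf (nat_lit 688724)) (BT.leaf (nat_lit 646308)))) (BT.node (nat_lit 4599239) (BT.node (nat_lit 4599238) (BT.leaf (nat_lit 646308)) (BT.leaf (nat_lit 646308))) (BT.node (nat_lit 4599297) (BT.leaf (nat_lit 646308)) (BT.leaf (nat_lit 793820)))))))) (BT.node (nat_lit 4600135) (BT.node (nat_lit 4599620) (BT.node (nat_lit 4599490) (BT.node (nat_lit 4599364) (BT.node (nat_lit 4599302) (BT.node (nat_lit 4599299) (BT.leaf (nat_lit 686656)) (BT.leaf (nat_lit 686656))) (BT.node (nat_lit 4599303) (BT.leaf (nat_lit 686656)) (BT.leaf (nat_lit 686656)))) (BT.node (nat_lit 4599429) (BT.node (nat_lit 4599428) (BT.leaf (nat_lit 689648)) (BT.leaf (nat_lit 662880))) (BT.node (nat_lit 4599489) (BT.leaf (nat_lit 662880)) (BT.leaf (nat_lit 652068))))) (BT.node (nat_lit 4599554) (BT.node (nat_lit 4599492) (BT.node (nat_lit 4599491) (BT.leaf (nat_lit 670200)) (BT.leaf (nat_lit 670200))) (BT.node (nat_lit 4599493) (BT.leaf (nat_lit 690192)) (BT.leaf (nat_lit 670200)))) (BT.node (nat_lit 4599556) (BT.node (nat_lit 4599555) (BT.leaf (nat_lit 671076)) (BT.leaf (nat_lit 671076))) (BT.node (nat_lit 4599557) (BT.leaf (nat_lit 676704)) (BT.leaf (nat_lit 671076)))))) (BT.node (nat_lit 4599748) (BT.node (nat_lit 4599683) (BT.node (nat_lit 4599623) (BT.node (nat_lit 4599622) (BT.leaf (nat_lit 662956)) (BT.leaf (nat_lit 662956))) (BT.node (nat_lit 4599681) (BT.leaf (nat_lit 662956)) (BT.leaf (nat_lit 671432)))) (BT.node (nat_lit 4599685) (BT.node (nat_lit 4599684) (BT.leaf (nat_lit 671432)) (BT.leaf (nat_lit 665864))) (BT.node (nat_lit 4599747) (BT.leaf (nat_lit 665864)) (BT.leaf (nat_lit 760724))))) (BT.node (nat_lit 4600065) (BT.node (nat_lit 4600005) (BT.node (nat_lit 4600004) (BT.leaf (nat_lit 760724)) (BT.leaf (nat_lit 774288))) (BT.node (nat_lit 4600007) (BT.leaf (nat_lit 774288)) (BT.leaf (nat_lit 774288)))) (BT.node (nat_lit 4600132) (BT.node (nat_lit 4600071) (BT.leaf (nat_lit 815456)) (BT.leaf (nat_lit 697640))) (BT.node (nat_lit 4600134) (BT.leaf (nat_lit 815460)) (BT.leaf (nat_lit 815460))))))) (BT.node (nat_lit 4600387) (BT.node (nat_lit 4600322) (BT.node (nat_lit 4600199) (BT.node (nat_lit 4600195) (BT.node (nat_lit 4600194) (BT.leaf (nat_lit 815460)) (BT.leaf (nat_lit 697628))) (BT.node (nat_lit 4600198) (BT.leaf (nat_lit 697628)) (BT.leaf (nat_lit 697628)))) (BT.node (nat_lit 4600259) (BT.node (nat_lit 4600258) (BT.leaf (nat_lit 697628)) (BT.leaf (nat_lit 815440))) (BT.node (nat_lit 4600261) (BT.leaf (nat_lit 815440)) (BT.leaf (nat_lit 698976))))) (BT.node (nat_lit 4600327) (BT.node (nat_lit 4600325) (BT.node (nat_lit 4600323) (BT.leaf (nat_lit 659792)) (BT.leaf (nat_lit 659792))) (BT.node (nat_lit 4600326) (BT.leaf (nat_lit 691012)) (BT.leaf (nat_lit 659792)))) (BT.node (nat_lit 4600385) (BT.node (nat_lit 4600328) (BT.leaf (nat_lit 659792)) (BT.leaf (nat_lit 659792))) (BT.node (nat_lit 4600386) (BT.leaf (nat_lit 815292)) (BT.leaf (nat_lit 815292)))))) (BT.node (nat_lit 4600647) (BT.node (nat_lit 4600583) (BT.node (nat_lit 4600391) (BT.node (nat_lit 4600388) (BT.leaf (nat_lit 691020)) (BT.leaf (nat_lit 691020))) (BT.node (nat_lit 4600392) (BT.leaf (nat_lit 815292)) (BT.leaf (nat_lit 691020)))) (BT.node (nat_lit 4600643) (BT.node (nat_lit 4600584) (BT.leaf (nat_lit 687356)) (BT.leaf (nat_lit 687356))) (BT.node (nat_lit 4600644) (BT.leaf (nat_lit 645444)) (BT.leaf (nat_lit 645444))))) (BT.node (nat_lit 4601153) (BT.node (nat_lit 4600775) (BT.node (nat_lit 4600710) (BT.leaf (nat_lit 762876)) (BT.leaf (nat_lit 687372))) (BT.node (nat_lit 4600900) (BT.leaf (nat_lit 706260)) (BT.leaf (nat_lit 692288)))) (BT.node (nat_lit 4601157) (BT.node (nat_lit 4601156) (BT.leaf (nat_lit 709788)) (BT.leaf (nat_lit 709788))) (BT.node (nat_lit 4601281) (BT.leaf (nat_lit 709788)) (BT.leaf (nat_lit 719044))))))))) (BT.node (nat_lit 4604037) (BT.node (nat_lit 4602821) (BT.node (nat_lit 4602180) (BT.node (nat_lit 4601991) (BT.node (nat_lit 4601864) (BT.node (nat_lit 4601668) (BT.node (nat_lit 4601607) (BT.leaf (nat_lit 719044)) (BT.leaf (nat_lit 762736))) (BT.node (nat_lit 4601736) (BT.leaf (nat_lit 716124)) (BT.leaf (nat_lit 757088)))) (BT.node (nat_lit 4601924) (BT.node (nat_lit 4601921) (BT.leaf (nat_lit 715552)) (BT.leaf (nat_lit 709224))) (BT.node (nat_lit 4601990) (BT.leaf (nat_lit 709224)) (BT.leaf (nat_lit 715544))))) (BT.node (nat_lit 4602114) (BT.node (nat_lit 4602049) (BT.node (nat_lit 4601992) (BT.leaf (nat_lit 715544)) (BT.leaf (nat_lit 715544))) (BT.node (nat_lit 4602113) (BT.leaf (nat_lit 687360)) (BT.leaf (nat_lit 645424)))) (BT.node (nat_lit 4602177) (BT.node (nat_lit 4602120) (BT.leaf (nat_lit 645424)) (BT.leaf (nat_lit 645424))) (BT.node (nat_lit 4602178) (BT.leaf (nat_lit 773936)) (BT.leaf (nat_lit 773936)))))) (BT.node (nat_lit 4602440) (BT.node (nat_lit 4602312) (BT.node (nat_lit 4602244) (BT.node (nat_lit 4602184) (BT.leaf (nat_lit 700732)) (BT.leaf (nat_lit 773936))) (BT.node (nat_lit 4602310) (BT.leaf (nat_lit 678236)) (BT.leaf (nat_lit 676296)))) (BT.node (nat_lit 4602433) (BT.node (nat_lit 4602369) (BT.leaf (nat_lit 676296)) (BT.leaf (nat_lit 676324))) (BT.node (nat_lit 4602437) (BT.leaf (nat_lit 690108)) (BT.leaf (nat_lit 690108))))) (BT.node (nat_lit 4602695) (BT.node (nat_lit 4602690) (BT.node (nat_lit 4602628) (BT.leaf (nat_lit 690108)) (BT.leaf (nat_lit 709288))) (BT.node (nat_lit 4602692) (BT.leaf (nat_lit 658420)) (BT.leaf (nat_lit 658424)))) (BT.node (nat_lit 4602756) (BT.node (nat_lit 4602753) (BT.leaf (nat_lit 658420)) (BT.leaf (nat_lit 663700))) (BT.node (nat_lit 4602760) (BT.leaf (nat_lit 717028)) (BT.leaf (nat_lit 717028))))))) (BT.node (nat_lit 4603528) (BT.node (nat_lit 4603203) (BT.node (nat_lit 4602948) (BT.node (nat_lit 4602823) (BT.node (nat_lit 4602822) (BT.leaf (nat_lit 645420)) (BT.leaf (nat_lit 645420))) (BT.node (nat_lit 4602884) (BT.leaf (nat_lit 645420)) (BT.leaf (nat_lit 698856)))) (BT.node (nat_lit 4603012) (BT.node (nat_lit 4602949) (BT.leaf (nat_lit 655120)) (BT.leaf (nat_lit 699840))) (BT.node (nat_lit 4603140) (BT.leaf (nat_lit 687376)) (BT.leaf (nat_lit 657952))))) (BT.node (nat_lit 4603461) (BT.node (nat_lit 4603334) (BT.node (nat_lit 4603204) (BT.leaf (nat_lit 674816)) (BT.leaf (nat_lit 674816))) (BT.node (nat_lit 4603398) (BT.leaf (nat_lit 766020)) (BT.leaf (nat_lit 766024)))) (BT.node (nat_lit 4603524) (BT.node (nat_lit 4603462) (BT.leaf (nat_lit 704948)) (BT.leaf (nat_lit 704948))) (BT.node (nat_lit 4603525) (BT.leaf (nat_lit 720532)) (BT.leaf (nat_lit 696004)))))) (BT.node (nat_lit 4603782) (BT.node (nat_lit 4603714) (BT.node (nat_lit 4603589) (BT.node (nat_lit 4603588) (BT.leaf (nat_lit 696004)) (BT.leaf (nat_lit 684916))) (BT.node (nat_lit 4603592) (BT.leaf (nat_lit 684916)) (BT.leaf (nat_lit 684916)))) (BT.node (nat_lit 4603719) (BT.node (nat_lit 4603718) (BT.leaf (nat_lit 699772)) (BT.leaf (nat_lit 695480))) (BT.node (nat_lit 4603781) (BT.leaf (nat_lit 695480)) (BT.leaf (nat_lit 698468))))) (BT.node (nat_lit 4603908) (BT.node (nat_lit 4603906) (BT.node (nat_lit 4603783) (BT.leaf (nat_lit 698468)) (BT.leaf (nat_lit 698468))) (BT.node (nat_lit 4603907) (BT.leaf (nat_lit 766016)) (BT.leaf (nat_lit 766016)))) (BT.node (nat_lit 4604034) (BT.node (nat_lit 4603972) (BT.leaf (nat_lit 766016)) (BT.leaf (nat_lit 646852))) (BT.node (nat_lit 4604036) (BT.leaf (nat_lit 715664)) (BT.leaf (nat_lit 715664)))))))) (BT.node (nat_lit 4605448) (BT.node (nat_lit 4604740) (BT.node (nat_lit 4604424) (BT.node (nat_lit 4604162) (BT.node (nat_lit 4604103) (BT.node (nat_lit 4604099) (BT.leaf (nat_lit 715664)) (BT.leaf (nat_lit 806080))) (BT.node (nat_lit 4604161) (BT.leaf (nat_lit 806080)) (BT.leaf (nat_lit 762984)))) (BT.node (nat_lit 4604295) (BT.node (nat_lit 4604163) (BT.leaf (nat_lit 659816)) (BT.leaf (nat_lit 659816))) (BT.node (nat_lit 4604420) (BT.leaf (nat_lit 706608)) (BT.leaf (nat_lit 686456))))) (BT.node (nat_lit 4604550) (BT.node (nat_lit 4604547) (BT.node (nat_lit 4604546) (BT.leaf (nat_lit 686456)) (BT.leaf (nat_lit 718276))) (BT.node (nat_lit 4604548) (BT.leaf (nat_lit 718276)) (BT.leaf (nat_lit 718276)))) (BT.node (nat_lit 4604677) (BT.node (nat_lit 4604551) (BT.leaf (nat_lit 720640)) (BT.leaf (nat_lit 720640))) (BT.node (nat_lit 4604738) (BT.leaf (nat_lit 756816)) (BT.leaf (nat_lit 718572)))))) (BT.node (nat_lit 4604868) (BT.node (nat_lit 4604805) (BT.node (nat_lit 4604801) (BT.node (nat_lit 4604741) (BT.leaf (nat_lit 647400)) (BT.leaf (nat_lit 647400))) (BT.node (nat_lit 4604804) (BT.leaf (nat_lit 718264)) (BT.leaf (nat_lit 718264)))) (BT.node (nat_lit 4604807) (BT.node (nat_lit 4604806) (BT.leaf (nat_lit 718264)) (BT.leaf (nat_lit 718264))) (BT.node (nat_lit 4604865) (BT.leaf (nat_lit 718264)) (BT.leaf (nat_lit 718260))))) (BT.node (nat_lit 4605185) (BT.node (nat_lit 4604870) (BT.node (nat_lit 4604869) (BT.leaf (nat_lit 718260)) (BT.leaf (nat_lit 718260))) (BT.node (nat_lit 4604871) (BT.leaf (nat_lit 718260)) (BT.leaf (nat_lit 718260)))) (BT.node (nat_lit 4605442) (BT.node (nat_lit 4605380) (BT.leaf (nat_lit 655428)) (BT.leaf (nat_lit 670996))) (BT.node (nat_lit 4605447) (BT.leaf (nat_lit 745544)) (BT.leaf (nat_lit 702808))))))) (BT.node (nat_lit 4606404) (BT.node (nat_lit 4605832) (BT.node (nat_lit 4605827) (BT.node (nat_lit 4605700) (BT.node (nat_lit 4605697) (BT.leaf (nat_lit 702808)) (BT.leaf (nat_lit 777432))) (BT.node (nat_lit 4605825) (BT.leaf (nat_lit 777432)) (BT.leaf (nat_lit 672472)))) (BT.node (nat_lit 4605830) (BT.node (nat_lit 4605829) (BT.leaf (nat_lit 672472)) (BT.leaf (nat_lit 672472))) (BT.node (nat_lit 4605831) (BT.leaf (nat_lit 672472)) (BT.leaf (nat_lit 672472))))) (BT.node (nat_lit 4606020) (BT.node (nat_lit 4605956) (BT.node (nat_lit 4605893) (BT.leaf (nat_lit 672472)) (BT.leaf (nat_lit 754888))) (BT.node (nat_lit 4606017) (BT.leaf (nat_lit 676168)) (BT.leaf (nat_lit 660824)))) (BT.node (nat_lit 4606145) (BT.node (nat_lit 4606088) (BT.leaf (nat_lit 660824)) (BT.leaf (nat_lit 807440))) (BT.node (nat_lit 4606276) (BT.leaf (nat_lit 807452)) (BT.leaf (nat_lit 690012)))))) (BT.node (nat_lit 4606785) (BT.node (nat_lit 4606595) (BT.node (nat_lit 4606533) (BT.node (nat_lit 4606532) (BT.leaf (nat_lit 773352)) (BT.leaf (nat_lit 710224))) (BT.node (nat_lit 4606593) (BT.leaf (nat_lit 710224)) (BT.leaf (nat_lit 714396)))) (BT.node (nat_lit 4606660) (BT.node (nat_lit 4606596) (BT.leaf (nat_lit 714396)) (BT.leaf (nat_lit 714396))) (BT.node (nat_lit 4606661) (BT.leaf (nat_lit 665572)) (BT.leaf (nat_lit 665572))))) (BT.node (nat_lit 4606916) (BT.node (nat_lit 4606852) (BT.node (nat_lit 4606788) (BT.leaf (nat_lit 646132)) (BT.leaf (nat_lit 646132))) (BT.node (nat_lit 4606853) (BT.leaf (nat_lit 765796)) (BT.leaf (nat_lit 765796)))) (BT.node (nat_lit 4607046) (BT.node (nat_lit 4606977) (BT.leaf (nat_lit 665484)) (BT.leaf (nat_lit 665784))) (BT.node (nat_lit 4607109) (BT.leaf (nat_lit 718308)) (BT.leaf (nat_lit 647564)))))))))))) (BT.node (nat_lit 4622786) (BT.node (nat_lit 4614978) (BT.node (nat_lit 4611267) (BT.node (nat_lit 4609729) (BT.node (nat_lit 4608515) (BT.node (nat_lit 4607749) (BT.node (nat_lit 4607681) (BT.node (nat_lit 4607236) (BT.node (nat_lit 4607170) (BT.node (nat_lit 4607111) (BT.leaf (nat_lit 647564)) (BT.leaf (nat_lit 647564))) (BT.node (nat_lit 4607234) (BT.leaf (nat_lit 802468)) (BT.leaf (nat_lit 802476)))) (BT.node (nat_lit 4607496) (BT.node (nat_lit 4607237) (BT.leaf (nat_lit 707684)) (BT.leaf (nat_lit 707684))) (BT.node (nat_lit 4607553) (BT.leaf (nat_lit 716340)) (BT.leaf (nat_lit 716372))))) (BT.node (nat_lit 4607686) (BT.node (nat_lit 4607683) (BT.node (nat_lit 4607682) (BT.leaf (nat_lit 689996)) (BT.leaf (nat_lit 689996))) (BT.node (nat_lit 4607684) (BT.leaf (nat_lit 689996)) (BT.leaf (nat_lit 689996)))) (BT.node (nat_lit 4607688) (BT.node (nat_lit 4607687) (BT.leaf (nat_lit 689996)) (BT.leaf (nat_lit 689996))) (BT.node (nat_lit 4607745) (BT.leaf (nat_lit 689996)) (BT.leaf (nat_lit 647528)))))) (BT.node (nat_lit 4608003) (BT.node (nat_lit 4607809) (BT.node (nat_lit 4607751) (BT.node (nat_lit 4607750) (BT.leaf (nat_lit 647528)) (BT.leaf (nat_lit 647528))) (BT.node (nat_lit 4607752) (BT.leaf (nat_lit 647528)) (BT.leaf (nat_lit 647528)))) (BT.node (nat_lit 4607939) (BT.node (nat_lit 4607812) (BT.leaf (nat_lit 647536)) (BT.leaf (nat_lit 647536))) (BT.node (nat_lit 4607940) (BT.leaf (nat_lit 789776)) (BT.leaf (nat_lit 712904))))) (BT.node (nat_lit 4608198) (BT.node (nat_lit 4608068) (BT.node (nat_lit 4608065) (BT.leaf (nat_lit 789780)) (BT.leaf (nat_lit 647544))) (BT.node (nat_lit 4608195) (BT.leaf (nat_lit 698556)) (BT.leaf (nat_lit 700780)))) (BT.node (nat_lit 4608200) (BT.node (nat_lit 4608199) (BT.leaf (nat_lit 700780)) (BT.leaf (nat_lit 700780))) (BT.node (nat_lit 4608261) (BT.leaf (nat_lit 700780)) (BT.leaf (nat_lit 690400))))))) (BT.node (nat_lit 4609154) (BT.node (nat_lit 4608773) (BT.node (nat_lit 4608644) (BT.node (nat_lit 4608580) (BT.node (nat_lit 4608516) (BT.leaf (nat_lit 696592)) (BT.leaf (nat_lit 696592))) (BT.node (nat_lit 4608584) (BT.leaf (nat_lit 696912)) (BT.leaf (nat_lit 696912)))) (BT.node (nat_lit 4608707) (BT.node (nat_lit 4608706) (BT.leaf (nat_lit 673924)) (BT.leaf (nat_lit 698888))) (BT.node (nat_lit 4608771) (BT.leaf (nat_lit 698888)) (BT.leaf (nat_lit 672808))))) (BT.node (nat_lit 4609031) (BT.node (nat_lit 4608962) (BT.node (nat_lit 4608961) (BT.leaf (nat_lit 710348)) (BT.leaf (nat_lit 668340))) (BT.node (nat_lit 4608964) (BT.leaf (nat_lit 668340)) (BT.leaf (nat_lit 668340)))) (BT.node (nat_lit 4609094) (BT.node (nat_lit 4609090) (BT.leaf (nat_lit 695028)) (BT.leaf (nat_lit 807736))) (BT.node (nat_lit 4609095) (BT.leaf (nat_lit 807736)) (BT.leaf (nat_lit 807736)))))) (BT.node (nat_lit 4609601) (BT.node (nat_lit 4609348) (BT.node (nat_lit 4609217) (BT.node (nat_lit 4609155) (BT.leaf (nat_lit 765992)) (BT.leaf (nat_lit 672036))) (BT.node (nat_lit 4609347) (BT.leaf (nat_lit 815384)) (BT.leaf (nat_lit 687028)))) (BT.node (nat_lit 4609475) (BT.node (nat_lit 4609349) (BT.leaf (nat_lit 687028)) (BT.leaf (nat_lit 687028))) (BT.node (nat_lit 4609541) (BT.leaf (nat_lit 697916)) (BT.leaf (nat_lit 693600))))) (BT.node (nat_lit 4609607) (BT.node (nat_lit 4609605) (BT.node (nat_lit 4609604) (BT.leaf (nat_lit 698860)) (BT.leaf (nat_lit 698860))) (BT.node (nat_lit 4609606) (BT.leaf (nat_lit 698860)) (BT.leaf (nat_lit 698860)))) (BT.node (nat_lit 4609667) (BT.node (nat_lit 4609666) (BT.leaf (nat_lit 698860)) (BT.leaf (nat_lit 765944))) (BT.node (nat_lit 4609669) (BT.leaf (nat_lit 765944)) (BT.leaf (nat_lit 765944)))))))) (BT.node (nat_lit 4610374) (BT.node (nat_lit 4609925) (BT.node (nat_lit 4609798) (BT.node (nat_lit 4609734) (BT.node (nat_lit 4609731) (BT.node (nat_lit 4609730) (BT.leaf (nat_lit 685840)) (BT.leaf (nat_lit 765444))) (BT.node (nat_lit 4609732) (BT.leaf (nat_lit 765444)) (BT.leaf (nat_lit 685840)))) (BT.node (nat_lit 4609736) (BT.node (nat_lit 4609735) (BT.leaf (nat_lit 765444)) (BT.leaf (nat_lit 765444))) (BT.node (nat_lit 4609797) (BT.leaf (nat_lit 685840)) (BT.leaf (nat_lit 688704))))) (BT.node (nat_lit 4609860) (BT.node (nat_lit 4609858) (BT.node (nat_lit 4609799) (BT.leaf (nat_lit 710380)) (BT.leaf (nat_lit 710380))) (BT.node (nat_lit 4609859) (BT.leaf (nat_lit 709412)) (BT.leaf (nat_lit 709412)))) (BT.node (nat_lit 4609921) (BT.node (nat_lit 4609861) (BT.leaf (nat_lit 698796)) (BT.leaf (nat_lit 657116))) (BT.node (nat_lit 4609923) (BT.leaf (nat_lit 721508)) (BT.leaf (nat_lit 721508)))))) (BT.node (nat_lit 4610054) (BT.node (nat_lit 4610049) (BT.node (nat_lit 4609927) (BT.node (nat_lit 4609926) (BT.leaf (nat_lit 696104)) (BT.leaf (nat_lit 721508))) (BT.node (nat_lit 4609985) (BT.leaf (nat_lit 721508)) (BT.leaf (nat_lit 693272)))) (BT.node (nat_lit 4610051) (BT.node (nat_lit 4610050) (BT.leaf (nat_lit 698900)) (BT.leaf (nat_lit 685820))) (BT.node (nat_lit 4610052) (BT.leaf (nat_lit 685820)) (BT.leaf (nat_lit 685820))))) (BT.node (nat_lit 4610310) (BT.node (nat_lit 4610056) (BT.node (nat_lit 4610055) (BT.leaf (nat_lit 685820)) (BT.leaf (nat_lit 685820))) (BT.node (nat_lit 4610306) (BT.leaf (nat_lit 685820)) (BT.leaf (nat_lit 670260)))) (BT.node (nat_lit 4610370) (BT.node (nat_lit 4610311) (BT.leaf (nat_lit 670260)) (BT.leaf (nat_lit 670260))) (BT.node (nat_lit 4610371) (BT.leaf (nat_lit 671552)) (BT.leaf (nat_lit 671552))))))) (BT.node (nat_lit 4610883) (BT.node (nat_lit 4610567) (BT.node (nat_lit 4610502) (BT.node (nat_lit 4610497) (BT.node (nat_lit 4610376) (BT.leaf (nat_lit 671552)) (BT.leaf (nat_lit 804892))) (BT.node (nat_lit 4610498) (BT.leaf (nat_lit 774332)) (BT.leaf (nat_lit 774332)))) (BT.node (nat_lit 4610563) (BT.node (nat_lit 4610503) (BT.leaf (nat_lit 774332)) (BT.leaf (nat_lit 774332))) (BT.node (nat_lit 4610564) (BT.leaf (nat_lit 656212)) (BT.leaf (nat_lit 656212))))) (BT.node (nat_lit 4610694) (BT.node (nat_lit 4610631) (BT.node (nat_lit 4610627) (BT.leaf (nat_lit 656212)) (BT.leaf (nat_lit 806160))) (BT.node (nat_lit 4610689) (BT.leaf (nat_lit 806160)) (BT.leaf (nat_lit 665712)))) (BT.node (nat_lit 4610820) (BT.node (nat_lit 4610695) (BT.leaf (nat_lit 665712)) (BT.leaf (nat_lit 665712))) (BT.node (nat_lit 4610881) (BT.leaf (nat_lit 702236)) (BT.leaf (nat_lit 723696)))))) (BT.node (nat_lit 4611137) (BT.node (nat_lit 4611073) (BT.node (nat_lit 4610948) (BT.node (nat_lit 4610888) (BT.leaf (nat_lit 723696)) (BT.leaf (nat_lit 723696))) (BT.node (nat_lit 4611011) (BT.leaf (nat_lit 687480)) (BT.leaf (nat_lit 798392)))) (BT.node (nat_lit 4611076) (BT.node (nat_lit 4611075) (BT.leaf (nat_lit 657948)) (BT.leaf (nat_lit 657948))) (BT.node (nat_lit 4611078) (BT.leaf (nat_lit 716684)) (BT.leaf (nat_lit 657948))))) (BT.node (nat_lit 4611143) (BT.node (nat_lit 4611141) (BT.node (nat_lit 4611138) (BT.leaf (nat_lit 649500)) (BT.leaf (nat_lit 696888))) (BT.node (nat_lit 4611142) (BT.leaf (nat_lit 649500)) (BT.leaf (nat_lit 696888)))) (BT.node (nat_lit 4611203) (BT.node (nat_lit 4611144) (BT.leaf (nat_lit 696888)) (BT.leaf (nat_lit 649500))) (BT.node (nat_lit 4611205) (BT.leaf (nat_lit 658404)) (BT.leaf (nat_lit 658404))))))))) (BT.node (nat_lit 4613128) (BT.node (nat_lit 4612360) (BT.node (nat_lit 4611846) (BT.node (nat_lit 4611523) (BT.node (nat_lit 4611334) (BT.node (nat_lit 4611270) (BT.node (nat_lit 4611268) (BT.leaf (nat_lit 665832)) (BT.leaf (nat_lit 688440))) (BT.node (nat_lit 4611272) (BT.leaf (nat_lit 703160)) (BT.leaf (nat_lit 703160)))) (BT.node (nat_lit 4611397) (BT.node (nat_lit 4611335) (BT.leaf (nat_lit 712784)) (BT.leaf (nat_lit 712784))) (BT.node (nat_lit 4611521) (BT.leaf (nat_lit 708636)) (BT.leaf (nat_lit 665512))))) (BT.node (nat_lit 4611654) (BT.node (nat_lit 4611650) (BT.node (nat_lit 4611589) (BT.leaf (nat_lit 665512)) (BT.leaf (nat_lit 689784))) (BT.node (nat_lit 4611651) (BT.leaf (nat_lit 689864)) (BT.leaf (nat_lit 689864)))) (BT.node (nat_lit 4611779) (BT.node (nat_lit 4611778) (BT.leaf (nat_lit 689864)) (BT.leaf (nat_lit 699412))) (BT.node (nat_lit 4611843) (BT.leaf (nat_lit 699412)) (BT.leaf (nat_lit 765780)))))) (BT.node (nat_lit 4612162) (BT.node (nat_lit 4611972) (BT.node (nat_lit 4611969) (BT.node (nat_lit 4611847) (BT.leaf (nat_lit 765780)) (BT.leaf (nat_lit 765780))) (BT.node (nat_lit 4611970) (BT.leaf (nat_lit 706756)) (BT.leaf (nat_lit 706756)))) (BT.node (nat_lit 4612035) (BT.node (nat_lit 4611976) (BT.leaf (nat_lit 706756)) (BT.leaf (nat_lit 706756))) (BT.node (nat_lit 4612100) (BT.leaf (nat_lit 679792)) (BT.leaf (nat_lit 668640))))) (BT.node (nat_lit 4612167) (BT.node (nat_lit 4612164) (BT.node (nat_lit 4612163) (BT.leaf (nat_lit 723700)) (BT.leaf (nat_lit 723700))) (BT.node (nat_lit 4612166) (BT.leaf (nat_lit 723700)) (BT.leaf (nat_lit 814296)))) (BT.node (nat_lit 4612358) (BT.node (nat_lit 4612168) (BT.leaf (nat_lit 814296)) (BT.leaf (nat_lit 814296))) (BT.node (nat_lit 4612359) (BT.leaf (nat_lit 676756)) (BT.leaf (nat_lit 676756))))))) (BT.node (nat_lit 4612802) (BT.node (nat_lit 4612612) (BT.node (nat_lit 4612483) (BT.node (nat_lit 4612481) (BT.node (nat_lit 4612421) (BT.leaf (nat_lit 676756)) (BT.leaf (nat_lit 723048))) (BT.node (nat_lit 4612482) (BT.leaf (nat_lit 699952)) (BT.leaf (nat_lit 699952)))) (BT.node (nat_lit 4612488) (BT.node (nat_lit 4612486) (BT.leaf (nat_lit 699952)) (BT.leaf (nat_lit 723036))) (BT.node (nat_lit 4612610) (BT.leaf (nat_lit 699952)) (BT.leaf (nat_lit 700148))))) (BT.node (nat_lit 4612738) (BT.node (nat_lit 4612678) (BT.node (nat_lit 4612676) (BT.leaf (nat_lit 700148)) (BT.leaf (nat_lit 710620))) (BT.node (nat_lit 4612680) (BT.leaf (nat_lit 700180)) (BT.leaf (nat_lit 710620)))) (BT.node (nat_lit 4612743) (BT.node (nat_lit 4612742) (BT.leaf (nat_lit 667332)) (BT.leaf (nat_lit 667332))) (BT.node (nat_lit 4612744) (BT.leaf (nat_lit 667332)) (BT.leaf (nat_lit 667332)))))) (BT.node (nat_lit 4612994) (BT.node (nat_lit 4612871) (BT.node (nat_lit 4612807) (BT.node (nat_lit 4612806) (BT.leaf (nat_lit 714756)) (BT.leaf (nat_lit 719460))) (BT.node (nat_lit 4612870) (BT.leaf (nat_lit 714756)) (BT.leaf (nat_lit 692348)))) (BT.node (nat_lit 4612934) (BT.node (nat_lit 4612930) (BT.leaf (nat_lit 692348)) (BT.leaf (nat_lit 650948))) (BT.node (nat_lit 4612935) (BT.leaf (nat_lit 650948)) (BT.leaf (nat_lit 650948))))) (BT.node (nat_lit 4613123) (BT.node (nat_lit 4613062) (BT.node (nat_lit 4612995) (BT.leaf (nat_lit 702440)) (BT.leaf (nat_lit 702440))) (BT.node (nat_lit 4613063) (BT.leaf (nat_lit 680268)) (BT.leaf (nat_lit 680268)))) (BT.node (nat_lit 4613126) (BT.node (nat_lit 4613125) (BT.leaf (nat_lit 672668)) (BT.leaf (nat_lit 672668))) (BT.node (nat_lit 4613127) (BT.leaf (nat_lit 672668)) (BT.leaf (nat_lit 672668)))))))) (BT.node (nat_lit 4614022) (BT.node (nat_lit 4613635) (BT.node (nat_lit 4613315) (BT.node (nat_lit 4613192) (BT.node (nat_lit 4613189) (BT.node (nat_lit 4613186) (BT.leaf (nat_lit 672668)) (BT.leaf (nat_lit 707264))) (BT.node (nat_lit 4613191) (BT.leaf (nat_lit 707264)) (BT.leaf (nat_lit 707264)))) (BT.node (nat_lit 4613255) (BT.node (nat_lit 4613253) (BT.leaf (nat_lit 707264)) (BT.leaf (nat_lit 758828))) (BT.node (nat_lit 4613313) (BT.leaf (nat_lit 758828)) (BT.leaf (nat_lit 649628))))) (BT.node (nat_lit 4613510) (BT.node (nat_lit 4613444) (BT.node (nat_lit 4613317) (BT.leaf (nat_lit 649628)) (BT.leaf (nat_lit 649628))) (BT.node (nat_lit 4613448) (BT.leaf (nat_lit 650088)) (BT.leaf (nat_lit 649000)))) (BT.node (nat_lit 4613575) (BT.node (nat_lit 4613574) (BT.leaf (nat_lit 715324)) (BT.leaf (nat_lit 674332))) (BT.node (nat_lit 4613634) (BT.leaf (nat_lit 674332)) (BT.leaf (nat_lit 667380)))))) (BT.node (nat_lit 4613894) (BT.node (nat_lit 4613701) (BT.node (nat_lit 4613639) (BT.node (nat_lit 4613638) (BT.leaf (nat_lit 667380)) (BT.leaf (nat_lit 667380))) (BT.node (nat_lit 4613699) (BT.leaf (nat_lit 667380)) (BT.leaf (nat_lit 679724)))) (BT.node (nat_lit 4613891) (BT.node (nat_lit 4613762) (BT.leaf (nat_lit 679724)) (BT.leaf (nat_lit 714388))) (BT.node (nat_lit 4613893) (BT.leaf (nat_lit 660568)) (BT.leaf (nat_lit 660568))))) (BT.node (nat_lit 4613958) (BT.node (nat_lit 4613954) (BT.node (nat_lit 4613895) (BT.leaf (nat_lit 660568)) (BT.leaf (nat_lit 660568))) (BT.node (nat_lit 4613955) (BT.leaf (nat_lit 684132)) (BT.leaf (nat_lit 684132)))) (BT.node (nat_lit 4614018) (BT.node (nat_lit 4613959) (BT.leaf (nat_lit 684132)) (BT.leaf (nat_lit 684132))) (BT.node (nat_lit 4614019) (BT.leaf (nat_lit 684116)) (BT.leaf (nat_lit 684116))))))) (BT.node (nat_lit 4614470) (BT.node (nat_lit 4614275) (BT.node (nat_lit 4614146) (BT.node (nat_lit 4614086) (BT.node (nat_lit 4614081) (BT.leaf (nat_lit 684116)) (BT.leaf (nat_lit 679188))) (BT.node (nat_lit 4614087) (BT.leaf (nat_lit 648636)) (BT.leaf (nat_lit 648636)))) (BT.node (nat_lit 4614148) (BT.node (nat_lit 4614147) (BT.leaf (nat_lit 697708)) (BT.leaf (nat_lit 697708))) (BT.node (nat_lit 4614274) (BT.leaf (nat_lit 697708)) (BT.leaf (nat_lit 655728))))) (BT.node (nat_lit 4614342) (BT.node (nat_lit 4614277) (BT.node (nat_lit 4614276) (BT.leaf (nat_lit 655728)) (BT.leaf (nat_lit 655728))) (BT.node (nat_lit 4614341) (BT.leaf (nat_lit 655728)) (BT.leaf (nat_lit 695876)))) (BT.node (nat_lit 4614466) (BT.node (nat_lit 4614344) (BT.leaf (nat_lit 695876)) (BT.leaf (nat_lit 713596))) (BT.node (nat_lit 4614469) (BT.leaf (nat_lit 686812)) (BT.leaf (nat_lit 686812)))))) (BT.node (nat_lit 4614599) (BT.node (nat_lit 4614536) (BT.node (nat_lit 4614531) (BT.node (nat_lit 4614471) (BT.leaf (nat_lit 686812)) (BT.leaf (nat_lit 686812))) (BT.node (nat_lit 4614534) (BT.leaf (nat_lit 678340)) (BT.leaf (nat_lit 678340)))) (BT.node (nat_lit 4614595) (BT.node (nat_lit 4614594) (BT.leaf (nat_lit 678340)) (BT.leaf (nat_lit 711144))) (BT.node (nat_lit 4614598) (BT.leaf (nat_lit 711144)) (BT.leaf (nat_lit 711144))))) (BT.node (nat_lit 4614791) (BT.node (nat_lit 4614725) (BT.node (nat_lit 4614723) (BT.leaf (nat_lit 711144)) (BT.leaf (nat_lit 710988))) (BT.node (nat_lit 4614789) (BT.leaf (nat_lit 710988)) (BT.leaf (nat_lit 649412)))) (BT.node (nat_lit 4614917) (BT.node (nat_lit 4614914) (BT.leaf (nat_lit 649412)) (BT.leaf (nat_lit 649436))) (BT.node (nat_lit 4614977) (BT.leaf (nat_lit 649436)) (BT.leaf (nat_lit 686320)))))))))) (BT.node (nat_lit 4619016) (BT.node (nat_lit 4617154) (BT.node (nat_lit 4616197) (BT.node (nat_lit 4615816) (BT.node (nat_lit 4615556) (BT.node (nat_lit 4615110) (BT.node (nat_lit 4614982) (BT.node (nat_lit 4614979) (BT.leaf (nat_lit 686320)) (BT.leaf (nat_lit 686320))) (BT.node (nat_lit 4614983) (BT.leaf (nat_lit 686320)) (BT.leaf (nat_lit 686320)))) (BT.node (nat_lit 4615300) (BT.node (nat_lit 4615234) (BT.leaf (nat_lit 671300)) (BT.leaf (nat_lit 672324))) (BT.node (nat_lit 4615494) (BT.leaf (nat_lit 652484)) (BT.leaf (nat_lit 658444))))) (BT.node (nat_lit 4615686) (BT.node (nat_lit 4615621) (BT.node (nat_lit 4615619) (BT.leaf (nat_lit 652604)) (BT.leaf (nat_lit 656064))) (BT.node (nat_lit 4615684) (BT.leaf (nat_lit 656064)) (BT.leaf (nat_lit 648548)))) (BT.node (nat_lit 4615812) (BT.node (nat_lit 4615688) (BT.leaf (nat_lit 685920)) (BT.leaf (nat_lit 648548))) (BT.node (nat_lit 4615813) (BT.leaf (nat_lit 674972)) (BT.leaf (nat_lit 674972)))))) (BT.node (nat_lit 4616068) (BT.node (nat_lit 4615880) (BT.node (nat_lit 4615876) (BT.node (nat_lit 4615873) (BT.leaf (nat_lit 674972)) (BT.leaf (nat_lit 665652))) (BT.node (nat_lit 4615877) (BT.leaf (nat_lit 665652)) (BT.leaf (nat_lit 665652)))) (BT.node (nat_lit 4616066) (BT.node (nat_lit 4616065) (BT.leaf (nat_lit 665652)) (BT.leaf (nat_lit 703948))) (BT.node (nat_lit 4616067) (BT.leaf (nat_lit 703948)) (BT.leaf (nat_lit 703948))))) (BT.node (nat_lit 4616131) (BT.node (nat_lit 4616072) (BT.node (nat_lit 4616069) (BT.leaf (nat_lit 703948)) (BT.leaf (nat_lit 703948))) (BT.node (nat_lit 4616130) (BT.leaf (nat_lit 703948)) (BT.leaf (nat_lit 719400)))) (BT.node (nat_lit 4616135) (BT.node (nat_lit 4616134) (BT.leaf (nat_lit 719400)) (BT.leaf (nat_lit 719400))) (BT.node (nat_lit 4616195) (BT.leaf (nat_lit 719400)) (BT.leaf (nat_lit 674548))))))) (BT.node (nat_lit 4616515) (BT.node (nat_lit 4616385) (BT.node (nat_lit 4616258) (BT.node (nat_lit 4616199) (BT.node (nat_lit 4616198) (BT.leaf (nat_lit 674548)) (BT.leaf (nat_lit 674548))) (BT.node (nat_lit 4616257) (BT.leaf (nat_lit 674548)) (BT.leaf (nat_lit 682176)))) (BT.node (nat_lit 4616263) (BT.node (nat_lit 4616260) (BT.leaf (nat_lit 699668)) (BT.leaf (nat_lit 682176))) (BT.node (nat_lit 4616264) (BT.leaf (nat_lit 699668)) (BT.leaf (nat_lit 682176))))) (BT.node (nat_lit 4616450) (BT.node (nat_lit 4616390) (BT.node (nat_lit 4616389) (BT.leaf (nat_lit 682952)) (BT.leaf (nat_lit 682952))) (BT.node (nat_lit 4616391) (BT.leaf (nat_lit 676304)) (BT.leaf (nat_lit 676304)))) (BT.node (nat_lit 4616513) (BT.node (nat_lit 4616453) (BT.leaf (nat_lit 707032)) (BT.leaf (nat_lit 707032))) (BT.node (nat_lit 4616514) (BT.leaf (nat_lit 666312)) (BT.leaf (nat_lit 666312)))))) (BT.node (nat_lit 4616771) (BT.node (nat_lit 4616708) (BT.node (nat_lit 4616579) (BT.node (nat_lit 4616516) (BT.leaf (nat_lit 666312)) (BT.leaf (nat_lit 666312))) (BT.node (nat_lit 4616706) (BT.leaf (nat_lit 708760)) (BT.leaf (nat_lit 691068)))) (BT.node (nat_lit 4616769) (BT.node (nat_lit 4616712) (BT.leaf (nat_lit 691068)) (BT.leaf (nat_lit 691068))) (BT.node (nat_lit 4616770) (BT.leaf (nat_lit 700384)) (BT.leaf (nat_lit 707308))))) (BT.node (nat_lit 4616901) (BT.node (nat_lit 4616773) (BT.node (nat_lit 4616772) (BT.leaf (nat_lit 707308)) (BT.leaf (nat_lit 707308))) (BT.node (nat_lit 4616897) (BT.leaf (nat_lit 683084)) (BT.leaf (nat_lit 722568)))) (BT.node (nat_lit 4616903) (BT.node (nat_lit 4616902) (BT.leaf (nat_lit 722568)) (BT.leaf (nat_lit 722568))) (BT.node (nat_lit 4617153) (BT.leaf (nat_lit 722568)) (BT.leaf (nat_lit 662796)))))))) (BT.node (nat_lit 4618115) (BT.node (nat_lit 4617793) (BT.node (nat_lit 4617415) (BT.node (nat_lit 4617349) (BT.node (nat_lit 4617218) (BT.node (nat_lit 4617156) (BT.leaf (nat_lit 662796)) (BT.leaf (nat_lit 662796))) (BT.node (nat_lit 4617220) (BT.leaf (nat_lit 657292)) (BT.leaf (nat_lit 657292)))) (BT.node (nat_lit 4617411) (BT.node (nat_lit 4617351) (BT.leaf (nat_lit 722332)) (BT.leaf (nat_lit 668812))) (BT.node (nat_lit 4617414) (BT.leaf (nat_lit 690716)) (BT.leaf (nat_lit 690716))))) (BT.node (nat_lit 4617668) (BT.node (nat_lit 4617478) (BT.node (nat_lit 4617474) (BT.leaf (nat_lit 690716)) (BT.leaf (nat_lit 706828))) (BT.node (nat_lit 4617479) (BT.leaf (nat_lit 706828)) (BT.leaf (nat_lit 706828)))) (BT.node (nat_lit 4617730) (BT.node (nat_lit 4617669) (BT.leaf (nat_lit 667028)) (BT.leaf (nat_lit 797912))) (BT.node (nat_lit 4617733) (BT.leaf (nat_lit 808052)) (BT.leaf (nat_lit 760696)))))) (BT.node (nat_lit 4617986) (BT.node (nat_lit 4617863) (BT.node (nat_lit 4617796) (BT.node (nat_lit 4617795) (BT.leaf (nat_lit 713488)) (BT.leaf (nat_lit 713488))) (BT.node (nat_lit 4617861) (BT.leaf (nat_lit 713488)) (BT.leaf (nat_lit 654456)))) (BT.node (nat_lit 4617923) (BT.node (nat_lit 4617922) (BT.leaf (nat_lit 654456)) (BT.leaf (nat_lit 693948))) (BT.node (nat_lit 4617926) (BT.leaf (nat_lit 693948)) (BT.leaf (nat_lit 693948))))) (BT.node (nat_lit 4618053) (BT.node (nat_lit 4617988) (BT.node (nat_lit 4617987) (BT.leaf (nat_lit 664120)) (BT.leaf (nat_lit 664120))) (BT.node (nat_lit 4617989) (BT.leaf (nat_lit 756412)) (BT.leaf (nat_lit 664120)))) (BT.node (nat_lit 4618055) (BT.node (nat_lit 4618054) (BT.leaf (nat_lit 713676)) (BT.leaf (nat_lit 713676))) (BT.node (nat_lit 4618113) (BT.leaf (nat_lit 713676)) (BT.leaf (nat_lit 655172))))))) (BT.node (nat_lit 4618564) (BT.node (nat_lit 4618184) (BT.node (nat_lit 4618178) (BT.node (nat_lit 4618120) (BT.node (nat_lit 4618118) (BT.leaf (nat_lit 655172)) (BT.leaf (nat_lit 655172))) (BT.node (nat_lit 4618177) (BT.leaf (nat_lit 655172)) (BT.leaf (nat_lit 746188)))) (BT.node (nat_lit 4618182) (BT.node (nat_lit 4618179) (BT.leaf (nat_lit 746188)) (BT.leaf (nat_lit 746188))) (BT.node (nat_lit 4618183) (BT.leaf (nat_lit 675352)) (BT.leaf (nat_lit 675352))))) (BT.node (nat_lit 4618440) (BT.node (nat_lit 4618371) (BT.node (nat_lit 4618370) (BT.leaf (nat_lit 746188)) (BT.leaf (nat_lit 682048))) (BT.node (nat_lit 4618434) (BT.leaf (nat_lit 682048)) (BT.leaf (nat_lit 654860)))) (BT.node (nat_lit 4618562) (BT.node (nat_lit 4618504) (BT.leaf (nat_lit 755636)) (BT.leaf (nat_lit 755640))) (BT.node (nat_lit 4618563) (BT.leaf (nat_lit 667588)) (BT.leaf (nat_lit 667588)))))) (BT.node (nat_lit 4618818) (BT.node (nat_lit 4618632) (BT.node (nat_lit 4618567) (BT.node (nat_lit 4618566) (BT.leaf (nat_lit 667588)) (BT.leaf (nat_lit 667588))) (BT.node (nat_lit 4618568) (BT.leaf (nat_lit 667588)) (BT.leaf (nat_lit 667588)))) (BT.node (nat_lit 4618756) (BT.node (nat_lit 4618753) (BT.leaf (nat_lit 694000)) (BT.leaf (nat_lit 757260))) (BT.node (nat_lit 4618757) (BT.leaf (nat_lit 692684)) (BT.leaf (nat_lit 673152))))) (BT.node (nat_lit 4618823) (BT.node (nat_lit 4618820) (BT.node (nat_lit 4618819) (BT.leaf (nat_lit 674896)) (BT.leaf (nat_lit 674896))) (BT.node (nat_lit 4618822) (BT.leaf (nat_lit 671512)) (BT.leaf (nat_lit 662992)))) (BT.node (nat_lit 4618885) (BT.node (nat_lit 4618884) (BT.leaf (nat_lit 662992)) (BT.leaf (nat_lit 703452))) (BT.node (nat_lit 4619009) (BT.leaf (nat_lit 703452)) (BT.leaf (nat_lit 790692))))))))) (BT.node (nat_lit 4620998) (BT.node (nat_lit 4620230) (BT.node (nat_lit 4619778) (BT.node (nat_lit 4619330) (BT.node (nat_lit 4619266) (BT.node (nat_lit 4619205) (BT.node (nat_lit 4619201) (BT.leaf (nat_lit 790692)) (BT.leaf (nat_lit 664300))) (BT.node (nat_lit 4619265) (BT.leaf (nat_lit 664300)) (BT.leaf (nat_lit 683580)))) (BT.node (nat_lit 4619269) (BT.node (nat_lit 4619267) (BT.leaf (nat_lit 683580)) (BT.leaf (nat_lit 683580))) (BT.node (nat_lit 4619272) (BT.leaf (nat_lit 683580)) (BT.leaf (nat_lit 683580))))) (BT.node (nat_lit 4619590) (BT.node (nat_lit 4619335) (BT.node (nat_lit 4619331) (BT.leaf (nat_lit 696740)) (BT.leaf (nat_lit 696740))) (BT.node (nat_lit 4619589) (BT.leaf (nat_lit 696740)) (BT.leaf (nat_lit 692716)))) (BT.node (nat_lit 4619714) (BT.node (nat_lit 4619591) (BT.leaf (nat_lit 692716)) (BT.leaf (nat_lit 692716))) (BT.node (nat_lit 4619777) (BT.leaf (nat_lit 696344)) (BT.leaf (nat_lit 710016)))))) (BT.node (nat_lit 4620034) (BT.node (nat_lit 4619847) (BT.node (nat_lit 4619781) (BT.node (nat_lit 4619780) (BT.leaf (nat_lit 664088)) (BT.leaf (nat_lit 710016))) (BT.node (nat_lit 4619843) (BT.leaf (nat_lit 710016)) (BT.leaf (nat_lit 689536)))) (BT.node (nat_lit 4619909) (BT.node (nat_lit 4619848) (BT.leaf (nat_lit 689536)) (BT.leaf (nat_lit 689536))) (BT.node (nat_lit 4619911) (BT.leaf (nat_lit 683968)) (BT.leaf (nat_lit 683968))))) (BT.node (nat_lit 4620162) (BT.node (nat_lit 4620036) (BT.node (nat_lit 4620035) (BT.leaf (nat_lit 705320)) (BT.leaf (nat_lit 705320))) (BT.node (nat_lit 4620037) (BT.leaf (nat_lit 712460)) (BT.leaf (nat_lit 685056)))) (BT.node (nat_lit 4620167) (BT.node (nat_lit 4620166) (BT.leaf (nat_lit 764228)) (BT.leaf (nat_lit 709744))) (BT.node (nat_lit 4620229) (BT.leaf (nat_lit 709744)) (BT.leaf (nat_lit 690560))))))) (BT.node (nat_lit 4620679) (BT.node (nat_lit 4620549) (BT.node (nat_lit 4620357) (BT.node (nat_lit 4620353) (BT.node (nat_lit 4620231) (BT.leaf (nat_lit 690560)) (BT.leaf (nat_lit 690560))) (BT.node (nat_lit 4620356) (BT.leaf (nat_lit 698272)) (BT.leaf (nat_lit 698272)))) (BT.node (nat_lit 4620547) (BT.node (nat_lit 4620546) (BT.leaf (nat_lit 698272)) (BT.leaf (nat_lit 680996))) (BT.node (nat_lit 4620548) (BT.leaf (nat_lit 680996)) (BT.leaf (nat_lit 686984))))) (BT.node (nat_lit 4620611) (BT.node (nat_lit 4620551) (BT.node (nat_lit 4620550) (BT.leaf (nat_lit 680996)) (BT.leaf (nat_lit 680996))) (BT.node (nat_lit 4620610) (BT.leaf (nat_lit 680996)) (BT.leaf (nat_lit 685644)))) (BT.node (nat_lit 4620613) (BT.node (nat_lit 4620612) (BT.leaf (nat_lit 685644)) (BT.leaf (nat_lit 685644))) (BT.node (nat_lit 4620677) (BT.leaf (nat_lit 685644)) (BT.leaf (nat_lit 757776)))))) (BT.node (nat_lit 4620804) (BT.node (nat_lit 4620744) (BT.node (nat_lit 4620739) (BT.node (nat_lit 4620738) (BT.leaf (nat_lit 757776)) (BT.leaf (nat_lit 713504))) (BT.node (nat_lit 4620741) (BT.leaf (nat_lit 713504)) (BT.leaf (nat_lit 713504)))) (BT.node (nat_lit 4620802) (BT.node (nat_lit 4620801) (BT.leaf (nat_lit 670932)) (BT.leaf (nat_lit 656920))) (BT.node (nat_lit 4620803) (BT.leaf (nat_lit 656920)) (BT.leaf (nat_lit 656920))))) (BT.node (nat_lit 4620932) (BT.node (nat_lit 4620930) (BT.node (nat_lit 4620808) (BT.leaf (nat_lit 656920)) (BT.leaf (nat_lit 656920))) (BT.node (nat_lit 4620931) (BT.leaf (nat_lit 666308)) (BT.leaf (nat_lit 666308)))) (BT.node (nat_lit 4620994) (BT.node (nat_lit 4620993) (BT.leaf (nat_lit 666308)) (BT.leaf (nat_lit 681860))) (BT.node (nat_lit 4620995) (BT.leaf (nat_lit 681860)) (BT.leaf (nat_lit 681860)))))))) (BT.node (nat_lit 4621704) (BT.node (nat_lit 4621441) (BT.node (nat_lit 4621189) (BT.node (nat_lit 4621063) (BT.node (nat_lit 4621000) (BT.node (nat_lit 4620999) (BT.leaf (nat_lit 681860)) (BT.leaf (nat_lit 681860))) (BT.node (nat_lit 4621060) (BT.leaf (nat_lit 747332)) (BT.leaf (nat_lit 713624)))) (BT.node (nat_lit 4621185) (BT.node (nat_lit 4621064) (BT.leaf (nat_lit 695428)) (BT.leaf (nat_lit 713624))) (BT.node (nat_lit 4621187) (BT.leaf (nat_lit 668920)) (BT.leaf (nat_lit 668920))))) (BT.node (nat_lit 4621251) (BT.node (nat_lit 4621191) (BT.node (nat_lit 4621190) (BT.leaf (nat_lit 668920)) (BT.leaf (nat_lit 700064))) (BT.node (nat_lit 4621249) (BT.leaf (nat_lit 700064)) (BT.leaf (nat_lit 775116)))) (BT.node (nat_lit 4621313) (BT.node (nat_lit 4621256) (BT.leaf (nat_lit 672600)) (BT.leaf (nat_lit 672600))) (BT.node (nat_lit 4621317) (BT.leaf (nat_lit 675708)) (BT.leaf (nat_lit 675708)))))) (BT.node (nat_lit 4621509) (BT.node (nat_lit 4621447) (BT.node (nat_lit 4621445) (BT.node (nat_lit 4621443) (BT.leaf (nat_lit 673624)) (BT.leaf (nat_lit 754676))) (BT.node (nat_lit 4621446) (BT.leaf (nat_lit 673624)) (BT.leaf (nat_lit 673624)))) (BT.node (nat_lit 4621505) (BT.node (nat_lit 4621448) (BT.leaf (nat_lit 673624)) (BT.leaf (nat_lit 754676))) (BT.node (nat_lit 4621506) (BT.leaf (nat_lit 656296)) (BT.leaf (nat_lit 656296))))) (BT.node (nat_lit 4621640) (BT.node (nat_lit 4621634) (BT.node (nat_lit 4621510) (BT.leaf (nat_lit 656296)) (BT.leaf (nat_lit 656296))) (BT.node (nat_lit 4621637) (BT.leaf (nat_lit 703456)) (BT.leaf (nat_lit 703456)))) (BT.node (nat_lit 4621698) (BT.node (nat_lit 4621697) (BT.leaf (nat_lit 703456)) (BT.leaf (nat_lit 766828))) (BT.node (nat_lit 4621699) (BT.leaf (nat_lit 766828)) (BT.leaf (nat_lit 766828))))))) (BT.node (nat_lit 4622212) (BT.node (nat_lit 4621893) (BT.node (nat_lit 4621827) (BT.node (nat_lit 4621764) (BT.node (nat_lit 4621761) (BT.leaf (nat_lit 766828)) (BT.leaf (nat_lit 678688))) (BT.node (nat_lit 4621825) (BT.leaf (nat_lit 678688)) (BT.leaf (nat_lit 653692)))) (BT.node (nat_lit 4621829) (BT.node (nat_lit 4621828) (BT.leaf (nat_lit 653692)) (BT.leaf (nat_lit 653692))) (BT.node (nat_lit 4621832) (BT.leaf (nat_lit 653692)) (BT.leaf (nat_lit 653692))))) (BT.node (nat_lit 4622018) (BT.node (nat_lit 4621959) (BT.node (nat_lit 4621958) (BT.leaf (nat_lit 706220)) (BT.leaf (nat_lit 685528))) (BT.node (nat_lit 4621960) (BT.leaf (nat_lit 685528)) (BT.leaf (nat_lit 685528)))) (BT.node (nat_lit 4622023) (BT.node (nat_lit 4622022) (BT.leaf (nat_lit 669284)) (BT.leaf (nat_lit 669284))) (BT.node (nat_lit 4622149) (BT.leaf (nat_lit 669284)) (BT.leaf (nat_lit 706860)))))) (BT.node (nat_lit 4622659) (BT.node (nat_lit 4622470) (BT.node (nat_lit 4622280) (BT.node (nat_lit 4622276) (BT.leaf (nat_lit 661840)) (BT.leaf (nat_lit 705028))) (BT.node (nat_lit 4622341) (BT.leaf (nat_lit 709664)) (BT.leaf (nat_lit 722360)))) (BT.node (nat_lit 4622531) (BT.node (nat_lit 4622471) (BT.leaf (nat_lit 660268)) (BT.leaf (nat_lit 660268))) (BT.node (nat_lit 4622658) (BT.leaf (nat_lit 695748)) (BT.leaf (nat_lit 763584))))) (BT.node (nat_lit 4622664) (BT.node (nat_lit 4622662) (BT.node (nat_lit 4622660) (BT.leaf (nat_lit 763584)) (BT.leaf (nat_lit 763584))) (BT.node (nat_lit 4622663) (BT.leaf (nat_lit 763584)) (BT.leaf (nat_lit 763584)))) (BT.node (nat_lit 4622726) (BT.node (nat_lit 4622721) (BT.leaf (nat_lit 748888)) (BT.leaf (nat_lit 661700))) (BT.node (nat_lit 4622727) (BT.leaf (nat_lit 663348)) (BT.leaf (nat_lit 661700))))))))))) (BT.node (nat_lit 4632321) (BT.node (nat_lit 4627843) (BT.node (nat_lit 4625410) (BT.node (nat_lit 4624391) (BT.node (nat_lit 4623235) (BT.node (nat_lit 4622918) (BT.node (nat_lit 4622913) (BT.node (nat_lit 4622788) (BT.node (nat_lit 4622787) (BT.leaf (nat_lit 681616)) (BT.leaf (nat_lit 681616))) (BT.node (nat_lit 4622792) (BT.leaf (nat_lit 681616)) (BT.leaf (nat_lit 794208)))) (BT.node (nat_lit 4622915) (BT.node (nat_lit 4622914) (BT.leaf (nat_lit 673696)) (BT.leaf (nat_lit 673696))) (BT.node (nat_lit 4622916) (BT.leaf (nat_lit 673696)) (BT.leaf (nat_lit 673696))))) (BT.node (nat_lit 4623108) (BT.node (nat_lit 4622920) (BT.node (nat_lit 4622919) (BT.leaf (nat_lit 673696)) (BT.leaf (nat_lit 673696))) (BT.node (nat_lit 4623105) (BT.leaf (nat_lit 673696)) (BT.leaf (nat_lit 667668)))) (BT.node (nat_lit 4623233) (BT.node (nat_lit 4623169) (BT.leaf (nat_lit 667668)) (BT.leaf (nat_lit 658836))) (BT.node (nat_lit 4623234) (BT.leaf (nat_lit 678484)) (BT.leaf (nat_lit 678484)))))) (BT.node (nat_lit 4623553) (BT.node (nat_lit 4623301) (BT.node (nat_lit 4623297) (BT.node (nat_lit 4623240) (BT.leaf (nat_lit 678484)) (BT.leaf (nat_lit 678484))) (BT.node (nat_lit 4623298) (BT.leaf (nat_lit 658672)) (BT.leaf (nat_lit 747560)))) (BT.node (nat_lit 4623492) (BT.node (nat_lit 4623304) (BT.leaf (nat_lit 747560)) (BT.leaf (nat_lit 658672))) (BT.node (nat_lit 4623496) (BT.leaf (nat_lit 711616)) (BT.leaf (nat_lit 659664))))) (BT.node (nat_lit 4624131) (BT.node (nat_lit 4623623) (BT.node (nat_lit 4623554) (BT.leaf (nat_lit 662672)) (BT.leaf (nat_lit 662672))) (BT.node (nat_lit 4623877) (BT.leaf (nat_lit 698460)) (BT.leaf (nat_lit 670144)))) (BT.node (nat_lit 4624135) (BT.node (nat_lit 4624134) (BT.leaf (nat_lit 687712)) (BT.leaf (nat_lit 687712))) (BT.node (nat_lit 4624390) (BT.leaf (nat_lit 687712)) (BT.leaf (nat_lit 650996))))))) (BT.node (nat_lit 4624902) (BT.node (nat_lit 4624771) (BT.node (nat_lit 4624707) (BT.node (nat_lit 4624451) (BT.node (nat_lit 4624450) (BT.leaf (nat_lit 650996)) (BT.leaf (nat_lit 663144))) (BT.node (nat_lit 4624705) (BT.leaf (nat_lit 663144)) (BT.leaf (nat_lit 698452)))) (BT.node (nat_lit 4624712) (BT.node (nat_lit 4624708) (BT.leaf (nat_lit 698452)) (BT.leaf (nat_lit 698452))) (BT.node (nat_lit 4624770) (BT.leaf (nat_lit 698452)) (BT.leaf (nat_lit 793016))))) (BT.node (nat_lit 4624838) (BT.node (nat_lit 4624835) (BT.node (nat_lit 4624834) (BT.leaf (nat_lit 746224)) (BT.leaf (nat_lit 668620))) (BT.node (nat_lit 4624837) (BT.leaf (nat_lit 668620)) (BT.leaf (nat_lit 668620)))) (BT.node (nat_lit 4624898) (BT.node (nat_lit 4624839) (BT.leaf (nat_lit 668620)) (BT.leaf (nat_lit 668620))) (BT.node (nat_lit 4624899) (BT.leaf (nat_lit 668944)) (BT.leaf (nat_lit 668944)))))) (BT.node (nat_lit 4625096) (BT.node (nat_lit 4624963) (BT.node (nat_lit 4624904) (BT.node (nat_lit 4624903) (BT.leaf (nat_lit 668944)) (BT.leaf (nat_lit 668944))) (BT.node (nat_lit 4624962) (BT.leaf (nat_lit 668944)) (BT.leaf (nat_lit 661128)))) (BT.node (nat_lit 4625090) (BT.node (nat_lit 4624968) (BT.leaf (nat_lit 661128)) (BT.leaf (nat_lit 661128))) (BT.node (nat_lit 4625091) (BT.leaf (nat_lit 691016)) (BT.leaf (nat_lit 691016))))) (BT.node (nat_lit 4625223) (BT.node (nat_lit 4625219) (BT.node (nat_lit 4625218) (BT.leaf (nat_lit 691016)) (BT.leaf (nat_lit 659796))) (BT.node (nat_lit 4625222) (BT.leaf (nat_lit 659796)) (BT.leaf (nat_lit 659796)))) (BT.node (nat_lit 4625348) (BT.node (nat_lit 4625224) (BT.leaf (nat_lit 659796)) (BT.leaf (nat_lit 659796))) (BT.node (nat_lit 4625409) (BT.leaf (nat_lit 664392)) (BT.leaf (nat_lit 791284)))))))) (BT.node (nat_lit 4626243) (BT.node (nat_lit 4625735) (BT.node (nat_lit 4625606) (BT.node (nat_lit 4625539) (BT.node (nat_lit 4625537) (BT.node (nat_lit 4625475) (BT.leaf (nat_lit 748564)) (BT.leaf (nat_lit 804648))) (BT.node (nat_lit 4625538) (BT.leaf (nat_lit 701212)) (BT.leaf (nat_lit 701212)))) (BT.node (nat_lit 4625543) (BT.node (nat_lit 4625540) (BT.leaf (nat_lit 701212)) (BT.leaf (nat_lit 701212))) (BT.node (nat_lit 4625544) (BT.leaf (nat_lit 804652)) (BT.leaf (nat_lit 701212))))) (BT.node (nat_lit 4625729) (BT.node (nat_lit 4625671) (BT.node (nat_lit 4625665) (BT.leaf (nat_lit 804656)) (BT.leaf (nat_lit 756392))) (BT.node (nat_lit 4625672) (BT.leaf (nat_lit 804612)) (BT.leaf (nat_lit 804612)))) (BT.node (nat_lit 4625731) (BT.node (nat_lit 4625730) (BT.leaf (nat_lit 758096)) (BT.leaf (nat_lit 758096))) (BT.node (nat_lit 4625734) (BT.leaf (nat_lit 652000)) (BT.leaf (nat_lit 652000)))))) (BT.node (nat_lit 4626115) (BT.node (nat_lit 4626051) (BT.node (nat_lit 4626049) (BT.node (nat_lit 4625736) (BT.leaf (nat_lit 652000)) (BT.leaf (nat_lit 652000))) (BT.node (nat_lit 4626050) (BT.leaf (nat_lit 663176)) (BT.leaf (nat_lit 663176)))) (BT.node (nat_lit 4626055) (BT.node (nat_lit 4626054) (BT.leaf (nat_lit 663176)) (BT.leaf (nat_lit 666060))) (BT.node (nat_lit 4626056) (BT.leaf (nat_lit 666060)) (BT.leaf (nat_lit 666060))))) (BT.node (nat_lit 4626182) (BT.node (nat_lit 4626178) (BT.node (nat_lit 4626116) (BT.leaf (nat_lit 702552)) (BT.leaf (nat_lit 702552))) (BT.node (nat_lit 4626181) (BT.leaf (nat_lit 721960)) (BT.leaf (nat_lit 721960)))) (BT.node (nat_lit 4626241) (BT.node (nat_lit 4626183) (BT.leaf (nat_lit 721960)) (BT.leaf (nat_lit 721960))) (BT.node (nat_lit 4626242) (BT.leaf (nat_lit 651432)) (BT.leaf (nat_lit 786260))))))) (BT.node (nat_lit 4626823) (BT.node (nat_lit 4626438) (BT.node (nat_lit 4626248) (BT.node (nat_lit 4626246) (BT.node (nat_lit 4626245) (BT.leaf (nat_lit 651432)) (BT.leaf (nat_lit 651432))) (BT.node (nat_lit 4626247) (BT.leaf (nat_lit 651432)) (BT.leaf (nat_lit 651432)))) (BT.node (nat_lit 4626307) (BT.node (nat_lit 4626306) (BT.leaf (nat_lit 651432)) (BT.leaf (nat_lit 796640))) (BT.node (nat_lit 4626433) (BT.leaf (nat_lit 746212)) (BT.leaf (nat_lit 688064))))) (BT.node (nat_lit 4626695) (BT.node (nat_lit 4626501) (BT.node (nat_lit 4626498) (BT.leaf (nat_lit 688064)) (BT.leaf (nat_lit 703628))) (BT.node (nat_lit 4626694) (BT.leaf (nat_lit 693440)) (BT.leaf (nat_lit 705352)))) (BT.node (nat_lit 4626819) (BT.node (nat_lit 4626818) (BT.leaf (nat_lit 705352)) (BT.leaf (nat_lit 717496))) (BT.node (nat_lit 4626822) (BT.leaf (nat_lit 717496)) (BT.leaf (nat_lit 717496)))))) (BT.node (nat_lit 4627204) (BT.node (nat_lit 4627012) (BT.node (nat_lit 4626887) (BT.node (nat_lit 4626824) (BT.leaf (nat_lit 717496)) (BT.leaf (nat_lit 717496))) (BT.node (nat_lit 4626952) (BT.leaf (nat_lit 664364)) (BT.leaf (nat_lit 675316)))) (BT.node (nat_lit 4627016) (BT.node (nat_lit 4627013) (BT.leaf (nat_lit 715292)) (BT.leaf (nat_lit 715292))) (BT.node (nat_lit 4627202) (BT.leaf (nat_lit 715292)) (BT.leaf (nat_lit 651724))))) (BT.node (nat_lit 4627719) (BT.node (nat_lit 4627330) (BT.node (nat_lit 4627208) (BT.leaf (nat_lit 651724)) (BT.leaf (nat_lit 651724))) (BT.node (nat_lit 4627718) (BT.leaf (nat_lit 716996)) (BT.leaf (nat_lit 664388)))) (BT.node (nat_lit 4627783) (BT.node (nat_lit 4627782) (BT.leaf (nat_lit 664388)) (BT.leaf (nat_lit 706108))) (BT.node (nat_lit 4627841) (BT.leaf (nat_lit 706108)) (BT.leaf (nat_lit 693608))))))))) (BT.node (nat_lit 4630662) (BT.node (nat_lit 4629063) (BT.node (nat_lit 4628357) (BT.node (nat_lit 4628098) (BT.node (nat_lit 4627974) (BT.node (nat_lit 4627970) (BT.node (nat_lit 4627969) (BT.leaf (nat_lit 693608)) (BT.leaf (nat_lit 756032))) (BT.node (nat_lit 4627971) (BT.leaf (nat_lit 756032)) (BT.leaf (nat_lit 756032)))) (BT.node (nat_lit 4627976) (BT.node (nat_lit 4627975) (BT.leaf (nat_lit 756032)) (BT.leaf (nat_lit 756032))) (BT.node (nat_lit 4628097) (BT.leaf (nat_lit 756032)) (BT.leaf (nat_lit 675312))))) (BT.node (nat_lit 4628289) (BT.node (nat_lit 4628166) (BT.node (nat_lit 4628102) (BT.leaf (nat_lit 675312)) (BT.leaf (nat_lit 675312))) (BT.node (nat_lit 4628167) (BT.leaf (nat_lit 717004)) (BT.leaf (nat_lit 717004)))) (BT.node (nat_lit 4628355) (BT.node (nat_lit 4628354) (BT.leaf (nat_lit 692264)) (BT.leaf (nat_lit 654476))) (BT.node (nat_lit 4628356) (BT.leaf (nat_lit 654476)) (BT.leaf (nat_lit 654476)))))) (BT.node (nat_lit 4628549) (BT.node (nat_lit 4628485) (BT.node (nat_lit 4628483) (BT.node (nat_lit 4628482) (BT.leaf (nat_lit 654476)) (BT.leaf (nat_lit 652708))) (BT.node (nat_lit 4628484) (BT.leaf (nat_lit 652708)) (BT.leaf (nat_lit 652708)))) (BT.node (nat_lit 4628545) (BT.node (nat_lit 4628488) (BT.leaf (nat_lit 652708)) (BT.leaf (nat_lit 652708))) (BT.node (nat_lit 4628547) (BT.leaf (nat_lit 707888)) (BT.leaf (nat_lit 707888))))) (BT.node (nat_lit 4629000) (BT.node (nat_lit 4628996) (BT.node (nat_lit 4628550) (BT.leaf (nat_lit 707888)) (BT.leaf (nat_lit 707888))) (BT.node (nat_lit 4628999) (BT.leaf (nat_lit 666076)) (BT.leaf (nat_lit 654652)))) (BT.node (nat_lit 4629059) (BT.node (nat_lit 4629058) (BT.leaf (nat_lit 654652)) (BT.leaf (nat_lit 666056))) (BT.node (nat_lit 4629062) (BT.leaf (nat_lit 666056)) (BT.leaf (nat_lit 666056))))))) (BT.node (nat_lit 4630277) (BT.node (nat_lit 4629633) (BT.node (nat_lit 4629314) (BT.node (nat_lit 4629192) (BT.node (nat_lit 4629191) (BT.leaf (nat_lit 666056)) (BT.leaf (nat_lit 655492))) (BT.node (nat_lit 4629250) (BT.leaf (nat_lit 655492)) (BT.leaf (nat_lit 777720)))) (BT.node (nat_lit 4629319) (BT.node (nat_lit 4629318) (BT.leaf (nat_lit 712284)) (BT.leaf (nat_lit 712284))) (BT.node (nat_lit 4629576) (BT.leaf (nat_lit 712284)) (BT.leaf (nat_lit 653688))))) (BT.node (nat_lit 4629896) (BT.node (nat_lit 4629892) (BT.node (nat_lit 4629890) (BT.leaf (nat_lit 785736)) (BT.leaf (nat_lit 795684))) (BT.node (nat_lit 4629895) (BT.leaf (nat_lit 795684)) (BT.leaf (nat_lit 795684)))) (BT.node (nat_lit 4630151) (BT.node (nat_lit 4630148) (BT.leaf (nat_lit 795684)) (BT.leaf (nat_lit 712000))) (BT.node (nat_lit 4630152) (BT.leaf (nat_lit 712000)) (BT.leaf (nat_lit 712000)))))) (BT.node (nat_lit 4630405) (BT.node (nat_lit 4630343) (BT.node (nat_lit 4630280) (BT.node (nat_lit 4630279) (BT.leaf (nat_lit 708292)) (BT.leaf (nat_lit 708292))) (BT.node (nat_lit 4630342) (BT.leaf (nat_lit 722864)) (BT.leaf (nat_lit 659104)))) (BT.node (nat_lit 4630403) (BT.node (nat_lit 4630402) (BT.leaf (nat_lit 659104)) (BT.leaf (nat_lit 654596))) (BT.node (nat_lit 4630404) (BT.leaf (nat_lit 654596)) (BT.leaf (nat_lit 654596))))) (BT.node (nat_lit 4630471) (BT.node (nat_lit 4630467) (BT.node (nat_lit 4630466) (BT.leaf (nat_lit 654596)) (BT.leaf (nat_lit 687588))) (BT.node (nat_lit 4630470) (BT.leaf (nat_lit 687588)) (BT.leaf (nat_lit 687588)))) (BT.node (nat_lit 4630533) (BT.node (nat_lit 4630531) (BT.leaf (nat_lit 687588)) (BT.leaf (nat_lit 659112))) (BT.node (nat_lit 4630597) (BT.leaf (nat_lit 659112)) (BT.leaf (nat_lit 669096)))))))) (BT.node (nat_lit 4631688) (BT.node (nat_lit 4631046) (BT.node (nat_lit 4630792) (BT.node (nat_lit 4630727) (BT.node (nat_lit 4630723) (BT.node (nat_lit 4630722) (BT.leaf (nat_lit 653200)) (BT.leaf (nat_lit 706808))) (BT.node (nat_lit 4630726) (BT.leaf (nat_lit 706808)) (BT.leaf (nat_lit 706808)))) (BT.node (nat_lit 4630786) (BT.node (nat_lit 4630785) (BT.leaf (nat_lit 706808)) (BT.leaf (nat_lit 682472))) (BT.node (nat_lit 4630787) (BT.leaf (nat_lit 682472)) (BT.leaf (nat_lit 682472))))) (BT.node (nat_lit 4630978) (BT.node (nat_lit 4630853) (BT.node (nat_lit 4630850) (BT.leaf (nat_lit 682472)) (BT.leaf (nat_lit 653700))) (BT.node (nat_lit 4630977) (BT.leaf (nat_lit 695148)) (BT.leaf (nat_lit 690876)))) (BT.node (nat_lit 4630981) (BT.node (nat_lit 4630979) (BT.leaf (nat_lit 690876)) (BT.leaf (nat_lit 690876))) (BT.node (nat_lit 4631041) (BT.leaf (nat_lit 690876)) (BT.leaf (nat_lit 674356)))))) (BT.node (nat_lit 4631236) (BT.node (nat_lit 4631172) (BT.node (nat_lit 4631105) (BT.node (nat_lit 4631047) (BT.leaf (nat_lit 674356)) (BT.leaf (nat_lit 674356))) (BT.node (nat_lit 4631169) (BT.leaf (nat_lit 655484)) (BT.leaf (nat_lit 685232)))) (BT.node (nat_lit 4631176) (BT.node (nat_lit 4631173) (BT.leaf (nat_lit 685232)) (BT.leaf (nat_lit 685232))) (BT.node (nat_lit 4631234) (BT.leaf (nat_lit 685232)) (BT.leaf (nat_lit 661132))))) (BT.node (nat_lit 4631620) (BT.node (nat_lit 4631618) (BT.node (nat_lit 4631493) (BT.leaf (nat_lit 661132)) (BT.leaf (nat_lit 718880))) (BT.node (nat_lit 4631619) (BT.leaf (nat_lit 712844)) (BT.leaf (nat_lit 712844)))) (BT.node (nat_lit 4631684) (BT.node (nat_lit 4631621) (BT.leaf (nat_lit 712844)) (BT.leaf (nat_lit 712844))) (BT.node (nat_lit 4631685) (BT.leaf (nat_lit 672288)) (BT.leaf (nat_lit 672288))))))) (BT.node (nat_lit 4632067) (BT.node (nat_lit 4631879) (BT.node (nat_lit 4631814) (BT.node (nat_lit 4631810) (BT.node (nat_lit 4631748) (BT.leaf (nat_lit 672288)) (BT.leaf (nat_lit 720408))) (BT.node (nat_lit 4631811) (BT.leaf (nat_lit 712848)) (BT.leaf (nat_lit 712848)))) (BT.node (nat_lit 4631816) (BT.node (nat_lit 4631815) (BT.leaf (nat_lit 712848)) (BT.leaf (nat_lit 712848))) (BT.node (nat_lit 4631878) (BT.leaf (nat_lit 712848)) (BT.leaf (nat_lit 704032))))) (BT.node (nat_lit 4632003) (BT.node (nat_lit 4631942) (BT.node (nat_lit 4631941) (BT.leaf (nat_lit 704032)) (BT.leaf (nat_lit 749476))) (BT.node (nat_lit 4631943) (BT.leaf (nat_lit 749476)) (BT.leaf (nat_lit 749476)))) (BT.node (nat_lit 4632008) (BT.node (nat_lit 4632005) (BT.leaf (nat_lit 664984)) (BT.leaf (nat_lit 664984))) (BT.node (nat_lit 4632066) (BT.leaf (nat_lit 664984)) (BT.leaf (nat_lit 685088)))))) (BT.node (nat_lit 4632196) (BT.node (nat_lit 4632133) (BT.node (nat_lit 4632071) (BT.node (nat_lit 4632070) (BT.leaf (nat_lit 685088)) (BT.leaf (nat_lit 675916))) (BT.node (nat_lit 4632131) (BT.leaf (nat_lit 675916)) (BT.leaf (nat_lit 694452)))) (BT.node (nat_lit 4632194) (BT.node (nat_lit 4632136) (BT.leaf (nat_lit 694452)) (BT.leaf (nat_lit 694452))) (BT.node (nat_lit 4632195) (BT.leaf (nat_lit 655304)) (BT.leaf (nat_lit 655304))))) (BT.node (nat_lit 4632258) (BT.node (nat_lit 4632199) (BT.node (nat_lit 4632198) (BT.leaf (nat_lit 708908)) (BT.leaf (nat_lit 655304))) (BT.node (nat_lit 4632200) (BT.leaf (nat_lit 655304)) (BT.leaf (nat_lit 655304)))) (BT.node (nat_lit 4632262) (BT.node (nat_lit 4632259) (BT.leaf (nat_lit 679940)) (BT.leaf (nat_lit 679940))) (BT.node (nat_lit 4632263) (BT.leaf (nat_lit 679940)) (BT.leaf (nat_lit 679940)))))))))) (BT.node (nat_lit 4638209) (BT.node (nat_lit 4635526) (BT.node (nat_lit 4633732) (BT.node (nat_lit 4632583) (BT.node (nat_lit 4632452) (BT.node (nat_lit 4632387) (BT.node (nat_lit 4632385) (BT.node (nat_lit 4632325) (BT.leaf (nat_lit 679944)) (BT.leaf (nat_lit 679944))) (BT.node (nat_lit 4632386) (BT.leaf (nat_lit 687596)) (BT.leaf (nat_lit 687596)))) (BT.node (nat_lit 4632450) (BT.node (nat_lit 4632388) (BT.leaf (nat_lit 687596)) (BT.leaf (nat_lit 687596))) (BT.node (nat_lit 4632451) (BT.leaf (nat_lit 660240)) (BT.leaf (nat_lit 660240))))) (BT.node (nat_lit 4632577) (BT.node (nat_lit 4632516) (BT.node (nat_lit 4632513) (BT.leaf (nat_lit 695212)) (BT.leaf (nat_lit 790224))) (BT.node (nat_lit 4632520) (BT.leaf (nat_lit 672732)) (BT.leaf (nat_lit 790224)))) (BT.node (nat_lit 4632579) (BT.node (nat_lit 4632578) (BT.leaf (nat_lit 679932)) (BT.leaf (nat_lit 679932))) (BT.node (nat_lit 4632582) (BT.leaf (nat_lit 679932)) (BT.leaf (nat_lit 679932)))))) (BT.node (nat_lit 4633348) (BT.node (nat_lit 4632839) (BT.node (nat_lit 4632836) (BT.node (nat_lit 4632834) (BT.leaf (nat_lit 679932)) (BT.leaf (nat_lit 690040))) (BT.node (nat_lit 4632838) (BT.leaf (nat_lit 665136)) (BT.leaf (nat_lit 690040)))) (BT.node (nat_lit 4633281) (BT.node (nat_lit 4632964) (BT.leaf (nat_lit 690040)) (BT.leaf (nat_lit 680200))) (BT.node (nat_lit 4633345) (BT.leaf (nat_lit 769572)) (BT.leaf (nat_lit 812280))))) (BT.node (nat_lit 4633539) (BT.node (nat_lit 4633537) (BT.node (nat_lit 4633352) (BT.leaf (nat_lit 812280)) (BT.leaf (nat_lit 703300))) (BT.node (nat_lit 4633538) (BT.leaf (nat_lit 682040)) (BT.leaf (nat_lit 767280)))) (BT.node (nat_lit 4633541) (BT.node (nat_lit 4633540) (BT.leaf (nat_lit 682040)) (BT.leaf (nat_lit 682040))) (BT.node (nat_lit 4633544) (BT.leaf (nat_lit 767280)) (BT.leaf (nat_lit 682040))))))) (BT.node (nat_lit 4634821) (BT.node (nat_lit 4634436) (BT.node (nat_lit 4633799) (BT.node (nat_lit 4633795) (BT.node (nat_lit 4633736) (BT.leaf (nat_lit 714828)) (BT.leaf (nat_lit 704144))) (BT.node (nat_lit 4633798) (BT.leaf (nat_lit 700652)) (BT.leaf (nat_lit 691100)))) (BT.node (nat_lit 4634120) (BT.node (nat_lit 4633864) (BT.leaf (nat_lit 691100)) (BT.leaf (nat_lit 708800))) (BT.node (nat_lit 4634184) (BT.leaf (nat_lit 693132)) (BT.leaf (nat_lit 752528))))) (BT.node (nat_lit 4634696) (BT.node (nat_lit 4634628) (BT.node (nat_lit 4634440) (BT.leaf (nat_lit 713184)) (BT.leaf (nat_lit 713184))) (BT.node (nat_lit 4634692) (BT.leaf (nat_lit 677044)) (BT.leaf (nat_lit 655804)))) (BT.node (nat_lit 4634758) (BT.node (nat_lit 4634757) (BT.leaf (nat_lit 670280)) (BT.leaf (nat_lit 656144))) (BT.node (nat_lit 4634759) (BT.leaf (nat_lit 656144)) (BT.leaf (nat_lit 656144)))))) (BT.node (nat_lit 4635207) (BT.node (nat_lit 4635080) (BT.node (nat_lit 4634884) (BT.node (nat_lit 4634822) (BT.leaf (nat_lit 687500)) (BT.leaf (nat_lit 687500))) (BT.node (nat_lit 4634888) (BT.leaf (nat_lit 671972)) (BT.leaf (nat_lit 670276)))) (BT.node (nat_lit 4635205) (BT.node (nat_lit 4635144) (BT.leaf (nat_lit 685692)) (BT.leaf (nat_lit 709672))) (BT.node (nat_lit 4635206) (BT.leaf (nat_lit 767912)) (BT.leaf (nat_lit 767912))))) (BT.node (nat_lit 4635396) (BT.node (nat_lit 4635268) (BT.node (nat_lit 4635265) (BT.leaf (nat_lit 767912)) (BT.leaf (nat_lit 702676))) (BT.node (nat_lit 4635269) (BT.leaf (nat_lit 702676)) (BT.leaf (nat_lit 702676)))) (BT.node (nat_lit 4635457) (BT.node (nat_lit 4635400) (BT.leaf (nat_lit 713476)) (BT.leaf (nat_lit 713476))) (BT.node (nat_lit 4635460) (BT.leaf (nat_lit 693836)) (BT.leaf (nat_lit 693836)))))))) (BT.node (nat_lit 4636805) (BT.node (nat_lit 4636099) (BT.node (nat_lit 4635842) (BT.node (nat_lit 4635649) (BT.node (nat_lit 4635589) (BT.node (nat_lit 4635527) (BT.leaf (nat_lit 687484)) (BT.leaf (nat_lit 687484))) (BT.node (nat_lit 4635590) (BT.leaf (nat_lit 707140)) (BT.leaf (nat_lit 684604)))) (BT.node (nat_lit 4635716) (BT.node (nat_lit 4635652) (BT.leaf (nat_lit 681828)) (BT.leaf (nat_lit 681828))) (BT.node (nat_lit 4635717) (BT.leaf (nat_lit 714580)) (BT.leaf (nat_lit 714580))))) (BT.node (nat_lit 4635907) (BT.node (nat_lit 4635846) (BT.node (nat_lit 4635843) (BT.leaf (nat_lit 682260)) (BT.leaf (nat_lit 682260))) (BT.node (nat_lit 4635906) (BT.leaf (nat_lit 682260)) (BT.leaf (nat_lit 668560)))) (BT.node (nat_lit 4636040) (BT.node (nat_lit 4635969) (BT.leaf (nat_lit 668560)) (BT.leaf (nat_lit 789336))) (BT.node (nat_lit 4636098) (BT.leaf (nat_lit 789340)) (BT.leaf (nat_lit 681852)))))) (BT.node (nat_lit 4636738) (BT.node (nat_lit 4636232) (BT.node (nat_lit 4636103) (BT.node (nat_lit 4636102) (BT.leaf (nat_lit 681852)) (BT.leaf (nat_lit 681852))) (BT.node (nat_lit 4636228) (BT.leaf (nat_lit 681852)) (BT.leaf (nat_lit 708768)))) (BT.node (nat_lit 4636485) (BT.node (nat_lit 4636484) (BT.leaf (nat_lit 708768)) (BT.leaf (nat_lit 686064))) (BT.node (nat_lit 4636737) (BT.leaf (nat_lit 686064)) (BT.leaf (nat_lit 707072))))) (BT.node (nat_lit 4636743) (BT.node (nat_lit 4636740) (BT.node (nat_lit 4636739) (BT.leaf (nat_lit 707072)) (BT.leaf (nat_lit 707072))) (BT.node (nat_lit 4636742) (BT.leaf (nat_lit 707072)) (BT.leaf (nat_lit 707072)))) (BT.node (nat_lit 4636801) (BT.node (nat_lit 4636744) (BT.leaf (nat_lit 707072)) (BT.leaf (nat_lit 707072))) (BT.node (nat_lit 4636803) (BT.leaf (nat_lit 700256)) (BT.leaf (nat_lit 669540))))))) (BT.node (nat_lit 4637827) (BT.node (nat_lit 4637192) (BT.node (nat_lit 4637187) (BT.node (nat_lit 4637062) (BT.node (nat_lit 4637061) (BT.leaf (nat_lit 700256)) (BT.leaf (nat_lit 701260))) (BT.node (nat_lit 4637063) (BT.leaf (nat_lit 701260)) (BT.leaf (nat_lit 701260)))) (BT.node (nat_lit 4637190) (BT.node (nat_lit 4637189) (BT.leaf (nat_lit 662296)) (BT.leaf (nat_lit 662296))) (BT.node (nat_lit 4637191) (BT.leaf (nat_lit 662296)) (BT.leaf (nat_lit 662296))))) (BT.node (nat_lit 4637640) (BT.node (nat_lit 4637573) (BT.node (nat_lit 4637570) (BT.leaf (nat_lit 662296)) (BT.leaf (nat_lit 683372))) (BT.node (nat_lit 4637636) (BT.leaf (nat_lit 683372)) (BT.leaf (nat_lit 698304)))) (BT.node (nat_lit 4637825) (BT.node (nat_lit 4637761) (BT.leaf (nat_lit 698304)) (BT.leaf (nat_lit 712988))) (BT.node (nat_lit 4637826) (BT.leaf (nat_lit 710600)) (BT.leaf (nat_lit 710600)))))) (BT.node (nat_lit 4637960) (BT.node (nat_lit 4637832) (BT.node (nat_lit 4637830) (BT.node (nat_lit 4637829) (BT.leaf (nat_lit 710600)) (BT.leaf (nat_lit 710600))) (BT.node (nat_lit 4637831) (BT.leaf (nat_lit 710600)) (BT.leaf (nat_lit 710600)))) (BT.node (nat_lit 4637956) (BT.node (nat_lit 4637955) (BT.leaf (nat_lit 710600)) (BT.leaf (nat_lit 672420))) (BT.node (nat_lit 4637957) (BT.leaf (nat_lit 672420)) (BT.leaf (nat_lit 672420))))) (BT.node (nat_lit 4638087) (BT.node (nat_lit 4638083) (BT.node (nat_lit 4638082) (BT.leaf (nat_lit 672420)) (BT.leaf (nat_lit 692452))) (BT.node (nat_lit 4638086) (BT.leaf (nat_lit 692452)) (BT.leaf (nat_lit 692452)))) (BT.node (nat_lit 4638145) (BT.node (nat_lit 4638088) (BT.leaf (nat_lit 692452)) (BT.leaf (nat_lit 692452))) (BT.node (nat_lit 4638149) (BT.leaf (nat_lit 694896)) (BT.leaf (nat_lit 694896))))))))) (BT.node (nat_lit 4640194) (BT.node (nat_lit 4639174) (BT.node (nat_lit 4638790) (BT.node (nat_lit 4638404) (BT.node (nat_lit 4638344) (BT.node (nat_lit 4638212) (BT.node (nat_lit 4638211) (BT.leaf (nat_lit 711060)) (BT.leaf (nat_lit 711060))) (BT.node (nat_lit 4638274) (BT.leaf (nat_lit 711060)) (BT.leaf (nat_lit 704768)))) (BT.node (nat_lit 4638402) (BT.node (nat_lit 4638401) (BT.leaf (nat_lit 745852)) (BT.leaf (nat_lit 789300))) (BT.node (nat_lit 4638403) (BT.leaf (nat_lit 789300)) (BT.leaf (nat_lit 789300))))) (BT.node (nat_lit 4638595) (BT.node (nat_lit 4638469) (BT.node (nat_lit 4638405) (BT.leaf (nat_lit 664800)) (BT.leaf (nat_lit 664800))) (BT.node (nat_lit 4638594) (BT.leaf (nat_lit 683672)) (BT.leaf (nat_lit 664844)))) (BT.node (nat_lit 4638599) (BT.node (nat_lit 4638598) (BT.leaf (nat_lit 664844)) (BT.leaf (nat_lit 664844))) (BT.node (nat_lit 4638600) (BT.leaf (nat_lit 664844)) (BT.leaf (nat_lit 771440)))))) (BT.node (nat_lit 4638979) (BT.node (nat_lit 4638856) (BT.node (nat_lit 4638849) (BT.node (nat_lit 4638791) (BT.leaf (nat_lit 692532)) (BT.leaf (nat_lit 692532))) (BT.node (nat_lit 4638855) (BT.leaf (nat_lit 696124)) (BT.leaf (nat_lit 696124)))) (BT.node (nat_lit 4638919) (BT.node (nat_lit 4638918) (BT.leaf (nat_lit 696124)) (BT.leaf (nat_lit 698356))) (BT.node (nat_lit 4638977) (BT.leaf (nat_lit 698356)) (BT.leaf (nat_lit 748268))))) (BT.node (nat_lit 4639048) (BT.node (nat_lit 4639041) (BT.node (nat_lit 4638984) (BT.leaf (nat_lit 748268)) (BT.leaf (nat_lit 748268))) (BT.node (nat_lit 4639043) (BT.leaf (nat_lit 748272)) (BT.leaf (nat_lit 748272)))) (BT.node (nat_lit 4639171) (BT.node (nat_lit 4639170) (BT.leaf (nat_lit 748272)) (BT.leaf (nat_lit 721492))) (BT.node (nat_lit 4639173) (BT.leaf (nat_lit 721492)) (BT.leaf (nat_lit 721492))))))) (BT.node (nat_lit 4639618) (BT.node (nat_lit 4639490) (BT.node (nat_lit 4639426) (BT.node (nat_lit 4639176) (BT.node (nat_lit 4639175) (BT.leaf (nat_lit 721492)) (BT.leaf (nat_lit 721492))) (BT.node (nat_lit 4639425) (BT.leaf (nat_lit 721492)) (BT.leaf (nat_lit 703844)))) (BT.node (nat_lit 4639431) (BT.node (nat_lit 4639430) (BT.leaf (nat_lit 703844)) (BT.leaf (nat_lit 776200))) (BT.node (nat_lit 4639432) (BT.leaf (nat_lit 776200)) (BT.leaf (nat_lit 703844))))) (BT.node (nat_lit 4639553) (BT.node (nat_lit 4639493) (BT.node (nat_lit 4639492) (BT.leaf (nat_lit 787040)) (BT.leaf (nat_lit 689372))) (BT.node (nat_lit 4639496) (BT.leaf (nat_lit 677716)) (BT.leaf (nat_lit 787040)))) (BT.node (nat_lit 4639556) (BT.node (nat_lit 4639554) (BT.leaf (nat_lit 718052)) (BT.leaf (nat_lit 718052))) (BT.node (nat_lit 4639557) (BT.leaf (nat_lit 694912)) (BT.leaf (nat_lit 694912)))))) (BT.node (nat_lit 4640005) (BT.node (nat_lit 4639747) (BT.node (nat_lit 4639621) (BT.node (nat_lit 4639619) (BT.leaf (nat_lit 718044)) (BT.leaf (nat_lit 718044))) (BT.node (nat_lit 4639746) (BT.leaf (nat_lit 718044)) (BT.leaf (nat_lit 667080)))) (BT.node (nat_lit 4639751) (BT.node (nat_lit 4639750) (BT.leaf (nat_lit 769984)) (BT.leaf (nat_lit 769984))) (BT.node (nat_lit 4639812) (BT.leaf (nat_lit 769984)) (BT.leaf (nat_lit 708784))))) (BT.node (nat_lit 4640070) (BT.node (nat_lit 4640067) (BT.node (nat_lit 4640066) (BT.leaf (nat_lit 681608)) (BT.leaf (nat_lit 674596))) (BT.node (nat_lit 4640068) (BT.leaf (nat_lit 674596)) (BT.leaf (nat_lit 756196)))) (BT.node (nat_lit 4640130) (BT.node (nat_lit 4640071) (BT.leaf (nat_lit 672644)) (BT.leaf (nat_lit 697408))) (BT.node (nat_lit 4640193) (BT.leaf (nat_lit 756204)) (BT.leaf (nat_lit 661784)))))))) (BT.node (nat_lit 4641665) (BT.node (nat_lit 4641026) (BT.node (nat_lit 4640515) (BT.node (nat_lit 4640259) (BT.node (nat_lit 4640196) (BT.node (nat_lit 4640195) (BT.leaf (nat_lit 661784)) (BT.leaf (nat_lit 661784))) (BT.node (nat_lit 4640258) (BT.leaf (nat_lit 661784)) (BT.leaf (nat_lit 723392)))) (BT.node (nat_lit 4640262) (BT.node (nat_lit 4640260) (BT.leaf (nat_lit 723392)) (BT.leaf (nat_lit 723392))) (BT.node (nat_lit 4640514) (BT.leaf (nat_lit 690376)) (BT.leaf (nat_lit 693676))))) (BT.node (nat_lit 4640962) (BT.node (nat_lit 4640517) (BT.node (nat_lit 4640516) (BT.leaf (nat_lit 675620)) (BT.leaf (nat_lit 675620))) (BT.node (nat_lit 4640708) (BT.leaf (nat_lit 693676)) (BT.leaf (nat_lit 654904)))) (BT.node (nat_lit 4640966) (BT.node (nat_lit 4640963) (BT.leaf (nat_lit 692852)) (BT.leaf (nat_lit 692852))) (BT.node (nat_lit 4640967) (BT.leaf (nat_lit 692852)) (BT.leaf (nat_lit 692852)))))) (BT.node (nat_lit 4641288) (BT.node (nat_lit 4641091) (BT.node (nat_lit 4641028) (BT.node (nat_lit 4641027) (BT.leaf (nat_lit 697644)) (BT.leaf (nat_lit 708308))) (BT.node (nat_lit 4641029) (BT.leaf (nat_lit 697644)) (BT.leaf (nat_lit 697644)))) (BT.node (nat_lit 4641095) (BT.node (nat_lit 4641094) (BT.leaf (nat_lit 680624)) (BT.leaf (nat_lit 692728))) (BT.node (nat_lit 4641282) (BT.leaf (nat_lit 692728)) (BT.leaf (nat_lit 722872))))) (BT.node (nat_lit 4641351) (BT.node (nat_lit 4641349) (BT.node (nat_lit 4641347) (BT.leaf (nat_lit 722872)) (BT.leaf (nat_lit 696880))) (BT.node (nat_lit 4641350) (BT.leaf (nat_lit 696880)) (BT.leaf (nat_lit 696880)))) (BT.node (nat_lit 4641541) (BT.node (nat_lit 4641538) (BT.leaf (nat_lit 696880)) (BT.leaf (nat_lit 686508))) (BT.node (nat_lit 4641544) (BT.leaf (nat_lit 686508)) (BT.leaf (nat_lit 686508))))))) (BT.node (nat_lit 4642180) (BT.node (nat_lit 4641863) (BT.node (nat_lit 4641731) (BT.node (nat_lit 4641671) (BT.node (nat_lit 4641670) (BT.leaf (nat_lit 666072)) (BT.leaf (nat_lit 666072))) (BT.node (nat_lit 4641672) (BT.leaf (nat_lit 666072)) (BT.leaf (nat_lit 666072)))) (BT.node (nat_lit 4641796) (BT.node (nat_lit 4641793) (BT.leaf (nat_lit 667120)) (BT.leaf (nat_lit 666944))) (BT.node (nat_lit 4641799) (BT.leaf (nat_lit 666944)) (BT.leaf (nat_lit 666944))))) (BT.node (nat_lit 4642114) (BT.node (nat_lit 4641927) (BT.node (nat_lit 4641921) (BT.leaf (nat_lit 698984)) (BT.leaf (nat_lit 722136))) (BT.node (nat_lit 4642113) (BT.leaf (nat_lit 722136)) (BT.leaf (nat_lit 699704)))) (BT.node (nat_lit 4642116) (BT.node (nat_lit 4642115) (BT.leaf (nat_lit 699704)) (BT.leaf (nat_lit 699704))) (BT.node (nat_lit 4642120) (BT.leaf (nat_lit 687240)) (BT.leaf (nat_lit 699704)))))) (BT.node (nat_lit 4642371) (BT.node (nat_lit 4642310) (BT.node (nat_lit 4642306) (BT.node (nat_lit 4642305) (BT.leaf (nat_lit 709120)) (BT.leaf (nat_lit 685360))) (BT.node (nat_lit 4642307) (BT.leaf (nat_lit 685360)) (BT.leaf (nat_lit 685360)))) (BT.node (nat_lit 4642369) (BT.node (nat_lit 4642312) (BT.leaf (nat_lit 685360)) (BT.leaf (nat_lit 685360))) (BT.node (nat_lit 4642370) (BT.leaf (nat_lit 714252)) (BT.leaf (nat_lit 714252))))) (BT.node (nat_lit 4642435) (BT.node (nat_lit 4642376) (BT.node (nat_lit 4642373) (BT.leaf (nat_lit 714252)) (BT.leaf (nat_lit 714252))) (BT.node (nat_lit 4642434) (BT.leaf (nat_lit 714252)) (BT.leaf (nat_lit 661612)))) (BT.node (nat_lit 4642438) (BT.node (nat_lit 4642436) (BT.leaf (nat_lit 661612)) (BT.leaf (nat_lit 674852))) (BT.node (nat_lit 4642439) (BT.leaf (nat_lit 796792)) (BT.leaf (nat_lit 796792)))))))))))))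
noncomputable def big0_e12288 : BT Nat := (BT.node (nat_lit 4680900) (BT.node (nat_lit 4658504) (BT.node (nat_lit 4650884) (BT.node (nat_lit 4647236) (BT.node (nat_lit 4645061) (BT.node (nat_lit 4643655) (BT.node (nat_lit 4642759) (BT.node (nat_lit 4642691) (BT.node (nat_lit 4642567) (BT.node (nat_lit 4642502) (BT.node (nat_lit 4642501) (BT.leaf (nat_lit 660368)) (BT.leaf (nat_lit 660368))) (BT.node (nat_lit 4642503) (BT.leaf (nat_lit 660368)) (BT.leaf (nat_lit 660368)))) (BT.node (nat_lit 4642689) (BT.node (nat_lit 4642568) (BT.leaf (nat_lit 673640)) (BT.leaf (nat_lit 673640))) (BT.node (nat_lit 4642690) (BT.leaf (nat_lit 679884)) (BT.leaf (nat_lit 679884))))) (BT.node (nat_lit 4642696) (BT.node (nat_lit 4642694) (BT.node (nat_lit 4642692) (BT.leaf (nat_lit 679884)) (BT.leaf (nat_lit 679884))) (BT.node (nat_lit 4642695) (BT.leaf (nat_lit 679884)) (BT.leaf (nat_lit 679884)))) (BT.node (nat_lit 4642755) (BT.node (nat_lit 4642753) (BT.leaf (nat_lit 679884)) (BT.leaf (nat_lit 667592))) (BT.node (nat_lit 4642758) (BT.leaf (nat_lit 667592)) (BT.leaf (nat_lit 667592)))))) (BT.node (nat_lit 4643207) (BT.node (nat_lit 4643014) (BT.node (nat_lit 4643010) (BT.node (nat_lit 4642884) (BT.leaf (nat_lit 667592)) (BT.leaf (nat_lit 693352))) (BT.node (nat_lit 4643011) (BT.leaf (nat_lit 713592)) (BT.leaf (nat_lit 713592)))) (BT.node (nat_lit 4643077) (BT.node (nat_lit 4643015) (BT.leaf (nat_lit 713592)) (BT.leaf (nat_lit 713592))) (BT.node (nat_lit 4643206) (BT.leaf (nat_lit 655020)) (BT.leaf (nat_lit 699200))))) (BT.node (nat_lit 4643591) (BT.node (nat_lit 4643463) (BT.node (nat_lit 4643208) (BT.leaf (nat_lit 699200)) (BT.leaf (nat_lit 699200))) (BT.node (nat_lit 4643590) (BT.leaf (nat_lit 745408)) (BT.leaf (nat_lit 722028)))) (BT.node (nat_lit 4643651) (BT.node (nat_lit 4643650) (BT.leaf (nat_lit 722028)) (BT.leaf (nat_lit 699980))) (BT.node (nat_lit 4643654) (BT.leaf (nat_lit 699980)) (BT.leaf (nat_lit 699980))))))) (BT.node (nat_lit 4644680) (BT.node (nat_lit 4644484) (BT.node (nat_lit 4644163) (BT.node (nat_lit 4643912) (BT.node (nat_lit 4643656) (BT.leaf (nat_lit 699980)) (BT.leaf (nat_lit 699980))) (BT.node (nat_lit 4644162) (BT.leaf (nat_lit 696944)) (BT.leaf (nat_lit 720012)))) (BT.node (nat_lit 4644227) (BT.node (nat_lit 4644226) (BT.leaf (nat_lit 720012)) (BT.leaf (nat_lit 682880))) (BT.node (nat_lit 4644229) (BT.leaf (nat_lit 682880)) (BT.leaf (nat_lit 682880))))) (BT.node (nat_lit 4644675) (BT.node (nat_lit 4644673) (BT.node (nat_lit 4644485) (BT.leaf (nat_lit 661900)) (BT.leaf (nat_lit 661900))) (BT.node (nat_lit 4644674) (BT.leaf (nat_lit 676796)) (BT.leaf (nat_lit 676796)))) (BT.node (nat_lit 4644678) (BT.node (nat_lit 4644677) (BT.leaf (nat_lit 676796)) (BT.leaf (nat_lit 676796))) (BT.node (nat_lit 4644679) (BT.leaf (nat_lit 676796)) (BT.leaf (nat_lit 676796)))))) (BT.node (nat_lit 4644930) (BT.node (nat_lit 4644865) (BT.node (nat_lit 4644742) (BT.node (nat_lit 4644741) (BT.leaf (nat_lit 676796)) (BT.leaf (nat_lit 690752))) (BT.node (nat_lit 4644743) (BT.leaf (nat_lit 690752)) (BT.leaf (nat_lit 690752)))) (BT.node (nat_lit 4644868) (BT.node (nat_lit 4644866) (BT.leaf (nat_lit 661156)) (BT.leaf (nat_lit 661156))) (BT.node (nat_lit 4644869) (BT.leaf (nat_lit 661156)) (BT.leaf (nat_lit 661156))))) (BT.node (nat_lit 4644998) (BT.node (nat_lit 4644936) (BT.node (nat_lit 4644932) (BT.leaf (nat_lit 658408)) (BT.leaf (nat_lit 658408))) (BT.node (nat_lit 4644994) (BT.leaf (nat_lit 658408)) (BT.leaf (nat_lit 677100)))) (BT.node (nat_lit 4645058) (BT.node (nat_lit 4644999) (BT.leaf (nat_lit 677100)) (BT.leaf (nat_lit 677100))) (BT.node (nat_lit 4645060) (BT.leaf (nat_lit 704440)) (BT.leaf (nat_lit 704440)))))))) (BT.node (nat_lit 4646342) (BT.node (nat_lit 4646081) (BT.node (nat_lit 4645317) (BT.node (nat_lit 4645125) (BT.node (nat_lit 4645122) (BT.node (nat_lit 4645064) (BT.leaf (nat_lit 704440)) (BT.leaf (nat_lit 661588))) (BT.node (nat_lit 4645124) (BT.leaf (nat_lit 701252)) (BT.leaf (nat_lit 701252)))) (BT.node (nat_lit 4645313) (BT.node (nat_lit 4645253) (BT.leaf (nat_lit 776384)) (BT.leaf (nat_lit 660572))) (BT.node (nat_lit 4645315) (BT.leaf (nat_lit 720172)) (BT.leaf (nat_lit 720172))))) (BT.node (nat_lit 4645507) (BT.node (nat_lit 4645448) (BT.node (nat_lit 4645445) (BT.leaf (nat_lit 720172)) (BT.leaf (nat_lit 720184))) (BT.node (nat_lit 4645505) (BT.leaf (nat_lit 720184)) (BT.leaf (nat_lit 700468)))) (BT.node (nat_lit 4646018) (BT.node (nat_lit 4645512) (BT.leaf (nat_lit 700468)) (BT.leaf (nat_lit 700468))) (BT.node (nat_lit 4646021) (BT.leaf (nat_lit 702076)) (BT.leaf (nat_lit 702076)))))) (BT.node (nat_lit 4646147) (BT.node (nat_lit 4646085) (BT.node (nat_lit 4646083) (BT.node (nat_lit 4646082) (BT.leaf (nat_lit 699604)) (BT.leaf (nat_lit 699604))) (BT.node (nat_lit 4646084) (BT.leaf (nat_lit 717828)) (BT.leaf (nat_lit 717828)))) (BT.node (nat_lit 4646145) (BT.node (nat_lit 4646088) (BT.leaf (nat_lit 699604)) (BT.leaf (nat_lit 699604))) (BT.node (nat_lit 4646146) (BT.leaf (nat_lit 763548)) (BT.leaf (nat_lit 763548))))) (BT.node (nat_lit 4646212) (BT.node (nat_lit 4646149) (BT.node (nat_lit 4646148) (BT.leaf (nat_lit 763548)) (BT.leaf (nat_lit 691688))) (BT.node (nat_lit 4646152) (BT.leaf (nat_lit 763548)) (BT.leaf (nat_lit 763548)))) (BT.node (nat_lit 4646274) (BT.node (nat_lit 4646216) (BT.leaf (nat_lit 723668)) (BT.leaf (nat_lit 723668))) (BT.node (nat_lit 4646337) (BT.leaf (nat_lit 656072)) (BT.leaf (nat_lit 713360))))))) (BT.node (nat_lit 4646919) (BT.node (nat_lit 4646599) (BT.node (nat_lit 4646594) (BT.node (nat_lit 4646344) (BT.node (nat_lit 4646343) (BT.leaf (nat_lit 713360)) (BT.leaf (nat_lit 713360))) (BT.node (nat_lit 4646593) (BT.leaf (nat_lit 713360)) (BT.leaf (nat_lit 713416)))) (BT.node (nat_lit 4646597) (BT.node (nat_lit 4646595) (BT.leaf (nat_lit 713416)) (BT.leaf (nat_lit 713416))) (BT.node (nat_lit 4646598) (BT.leaf (nat_lit 713416)) (BT.leaf (nat_lit 713416))))) (BT.node (nat_lit 4646853) (BT.node (nat_lit 4646660) (BT.node (nat_lit 4646600) (BT.leaf (nat_lit 713416)) (BT.leaf (nat_lit 713416))) (BT.node (nat_lit 4646788) (BT.leaf (nat_lit 721764)) (BT.leaf (nat_lit 699504)))) (BT.node (nat_lit 4646855) (BT.node (nat_lit 4646854) (BT.leaf (nat_lit 699144)) (BT.leaf (nat_lit 720648))) (BT.node (nat_lit 4646918) (BT.leaf (nat_lit 720648)) (BT.leaf (nat_lit 692364)))))) (BT.node (nat_lit 4647046) (BT.node (nat_lit 4646982) (BT.node (nat_lit 4646979) (BT.node (nat_lit 4646978) (BT.leaf (nat_lit 692364)) (BT.leaf (nat_lit 663248))) (BT.node (nat_lit 4646980) (BT.leaf (nat_lit 663248)) (BT.leaf (nat_lit 663248)))) (BT.node (nat_lit 4646984) (BT.node (nat_lit 4646983) (BT.leaf (nat_lit 663248)) (BT.leaf (nat_lit 663248))) (BT.node (nat_lit 4647045) (BT.leaf (nat_lit 663248)) (BT.leaf (nat_lit 775444))))) (BT.node (nat_lit 4647173) (BT.node (nat_lit 4647110) (BT.node (nat_lit 4647047) (BT.leaf (nat_lit 686500)) (BT.leaf (nat_lit 686500))) (BT.node (nat_lit 4647170) (BT.leaf (nat_lit 717188)) (BT.leaf (nat_lit 679256)))) (BT.node (nat_lit 4647234) (BT.node (nat_lit 4647176) (BT.leaf (nat_lit 676368)) (BT.leaf (nat_lit 679256))) (BT.node (nat_lit 4647235) (BT.leaf (nat_lit 708808)) (BT.leaf (nat_lit 708808))))))))) (BT.node (nat_lit 4648837) (BT.node (nat_lit 4648130) (BT.node (nat_lit 4647809) (BT.node (nat_lit 4647559) (BT.node (nat_lit 4647429) (BT.node (nat_lit 4647426) (BT.node (nat_lit 4647240) (BT.leaf (nat_lit 708808)) (BT.leaf (nat_lit 708808))) (BT.node (nat_lit 4647427) (BT.leaf (nat_lit 715136)) (BT.leaf (nat_lit 715136)))) (BT.node (nat_lit 4647557) (BT.node (nat_lit 4647432) (BT.leaf (nat_lit 715136)) (BT.leaf (nat_lit 715136))) (BT.node (nat_lit 4647558) (BT.leaf (nat_lit 721728)) (BT.leaf (nat_lit 699336))))) (BT.node (nat_lit 4647681) (BT.node (nat_lit 4647622) (BT.node (nat_lit 4647621) (BT.leaf (nat_lit 699336)) (BT.leaf (nat_lit 659332))) (BT.node (nat_lit 4647623) (BT.leaf (nat_lit 659332)) (BT.leaf (nat_lit 659332)))) (BT.node (nat_lit 4647683) (BT.node (nat_lit 4647682) (BT.leaf (nat_lit 702792)) (BT.leaf (nat_lit 702792))) (BT.node (nat_lit 4647684) (BT.leaf (nat_lit 702792)) (BT.leaf (nat_lit 702792)))))) (BT.node (nat_lit 4647878) (BT.node (nat_lit 4647813) (BT.node (nat_lit 4647811) (BT.node (nat_lit 4647810) (BT.leaf (nat_lit 659296)) (BT.leaf (nat_lit 659296))) (BT.node (nat_lit 4647812) (BT.leaf (nat_lit 659296)) (BT.leaf (nat_lit 659296)))) (BT.node (nat_lit 4647874) (BT.node (nat_lit 4647816) (BT.leaf (nat_lit 659296)) (BT.leaf (nat_lit 659296))) (BT.node (nat_lit 4647875) (BT.leaf (nat_lit 720508)) (BT.leaf (nat_lit 720508))))) (BT.node (nat_lit 4648068) (BT.node (nat_lit 4648003) (BT.node (nat_lit 4647879) (BT.leaf (nat_lit 720508)) (BT.leaf (nat_lit 720508))) (BT.node (nat_lit 4648065) (BT.leaf (nat_lit 720460)) (BT.leaf (nat_lit 711580)))) (BT.node (nat_lit 4648072) (BT.node (nat_lit 4648069) (BT.leaf (nat_lit 711580)) (BT.leaf (nat_lit 711580))) (BT.node (nat_lit 4648129) (BT.leaf (nat_lit 711580)) (BT.leaf (nat_lit 659940))))))) (BT.node (nat_lit 4648642) (BT.node (nat_lit 4648199) (BT.node (nat_lit 4648135) (BT.node (nat_lit 4648132) (BT.node (nat_lit 4648131) (BT.leaf (nat_lit 659940)) (BT.leaf (nat_lit 659940))) (BT.node (nat_lit 4648134) (BT.leaf (nat_lit 659940)) (BT.leaf (nat_lit 713412)))) (BT.node (nat_lit 4648193) (BT.node (nat_lit 4648136) (BT.leaf (nat_lit 713412)) (BT.leaf (nat_lit 659940))) (BT.node (nat_lit 4648198) (BT.leaf (nat_lit 670944)) (BT.leaf (nat_lit 670944))))) (BT.node (nat_lit 4648389) (BT.node (nat_lit 4648386) (BT.node (nat_lit 4648385) (BT.leaf (nat_lit 670944)) (BT.leaf (nat_lit 670936))) (BT.node (nat_lit 4648387) (BT.leaf (nat_lit 670936)) (BT.leaf (nat_lit 670936)))) (BT.node (nat_lit 4648456) (BT.node (nat_lit 4648450) (BT.leaf (nat_lit 670936)) (BT.leaf (nat_lit 672084))) (BT.node (nat_lit 4648641) (BT.leaf (nat_lit 672084)) (BT.leaf (nat_lit 770016)))))) (BT.node (nat_lit 4648770) (BT.node (nat_lit 4648705) (BT.node (nat_lit 4648646) (BT.node (nat_lit 4648643) (BT.leaf (nat_lit 679936)) (BT.leaf (nat_lit 679936))) (BT.node (nat_lit 4648647) (BT.leaf (nat_lit 679936)) (BT.leaf (nat_lit 679936)))) (BT.node (nat_lit 4648712) (BT.node (nat_lit 4648708) (BT.leaf (nat_lit 714500)) (BT.leaf (nat_lit 714500))) (BT.node (nat_lit 4648769) (BT.leaf (nat_lit 714500)) (BT.leaf (nat_lit 708000))))) (BT.node (nat_lit 4648833) (BT.node (nat_lit 4648772) (BT.node (nat_lit 4648771) (BT.leaf (nat_lit 708000)) (BT.leaf (nat_lit 708000))) (BT.node (nat_lit 4648773) (BT.leaf (nat_lit 679948)) (BT.leaf (nat_lit 679948)))) (BT.node (nat_lit 4648835) (BT.node (nat_lit 4648834) (BT.leaf (nat_lit 770020)) (BT.leaf (nat_lit 770020))) (BT.node (nat_lit 4648836) (BT.leaf (nat_lit 770020)) (BT.leaf (nat_lit 665860)))))))) (BT.node (nat_lit 4649863) (BT.node (nat_lit 4649667) (BT.node (nat_lit 4649095) (BT.node (nat_lit 4649032) (BT.node (nat_lit 4648904) (BT.node (nat_lit 4648900) (BT.leaf (nat_lit 665860)) (BT.leaf (nat_lit 708444))) (BT.node (nat_lit 4649026) (BT.leaf (nat_lit 708444)) (BT.leaf (nat_lit 673848)))) (BT.node (nat_lit 4649091) (BT.node (nat_lit 4649090) (BT.leaf (nat_lit 673848)) (BT.leaf (nat_lit 684236))) (BT.node (nat_lit 4649094) (BT.leaf (nat_lit 684236)) (BT.leaf (nat_lit 684236))))) (BT.node (nat_lit 4649350) (BT.node (nat_lit 4649346) (BT.node (nat_lit 4649096) (BT.leaf (nat_lit 684236)) (BT.leaf (nat_lit 684236))) (BT.node (nat_lit 4649347) (BT.leaf (nat_lit 688920)) (BT.leaf (nat_lit 688920)))) (BT.node (nat_lit 4649352) (BT.node (nat_lit 4649351) (BT.leaf (nat_lit 688920)) (BT.leaf (nat_lit 688920))) (BT.node (nat_lit 4649666) (BT.leaf (nat_lit 688920)) (BT.leaf (nat_lit 812252)))))) (BT.node (nat_lit 4649797) (BT.node (nat_lit 4649731) (BT.node (nat_lit 4649729) (BT.node (nat_lit 4649672) (BT.leaf (nat_lit 812252)) (BT.leaf (nat_lit 812252))) (BT.node (nat_lit 4649730) (BT.leaf (nat_lit 812256)) (BT.leaf (nat_lit 812256)))) (BT.node (nat_lit 4649794) (BT.node (nat_lit 4649736) (BT.leaf (nat_lit 812256)) (BT.leaf (nat_lit 812256))) (BT.node (nat_lit 4649795) (BT.leaf (nat_lit 688024)) (BT.leaf (nat_lit 688024))))) (BT.node (nat_lit 4649857) (BT.node (nat_lit 4649799) (BT.node (nat_lit 4649798) (BT.leaf (nat_lit 686376)) (BT.leaf (nat_lit 707768))) (BT.node (nat_lit 4649800) (BT.leaf (nat_lit 707768)) (BT.leaf (nat_lit 688024)))) (BT.node (nat_lit 4649859) (BT.node (nat_lit 4649858) (BT.leaf (nat_lit 722032)) (BT.leaf (nat_lit 754984))) (BT.node (nat_lit 4649862) (BT.leaf (nat_lit 722032)) (BT.leaf (nat_lit 722032))))))) (BT.node (nat_lit 4650178) (BT.node (nat_lit 4650049) (BT.node (nat_lit 4649927) (BT.node (nat_lit 4649925) (BT.node (nat_lit 4649921) (BT.leaf (nat_lit 722032)) (BT.leaf (nat_lit 682248))) (BT.node (nat_lit 4649926) (BT.leaf (nat_lit 684708)) (BT.leaf (nat_lit 684708)))) (BT.node (nat_lit 4649989) (BT.node (nat_lit 4649985) (BT.leaf (nat_lit 682248)) (BT.leaf (nat_lit 682264))) (BT.node (nat_lit 4649990) (BT.leaf (nat_lit 682264)) (BT.leaf (nat_lit 682264))))) (BT.node (nat_lit 4650056) (BT.node (nat_lit 4650052) (BT.node (nat_lit 4650051) (BT.leaf (nat_lit 716288)) (BT.leaf (nat_lit 716288))) (BT.node (nat_lit 4650053) (BT.leaf (nat_lit 691224)) (BT.leaf (nat_lit 716288)))) (BT.node (nat_lit 4650120) (BT.node (nat_lit 4650114) (BT.leaf (nat_lit 804316)) (BT.leaf (nat_lit 684728))) (BT.node (nat_lit 4650177) (BT.leaf (nat_lit 684728)) (BT.leaf (nat_lit 684724)))))) (BT.node (nat_lit 4650564) (BT.node (nat_lit 4650246) (BT.node (nat_lit 4650241) (BT.node (nat_lit 4650184) (BT.leaf (nat_lit 684724)) (BT.leaf (nat_lit 684724))) (BT.node (nat_lit 4650245) (BT.leaf (nat_lit 692036)) (BT.leaf (nat_lit 692036)))) (BT.node (nat_lit 4650436) (BT.node (nat_lit 4650247) (BT.leaf (nat_lit 692036)) (BT.leaf (nat_lit 692036))) (BT.node (nat_lit 4650437) (BT.leaf (nat_lit 716412)) (BT.leaf (nat_lit 716412))))) (BT.node (nat_lit 4650629) (BT.node (nat_lit 4650567) (BT.node (nat_lit 4650566) (BT.leaf (nat_lit 679392)) (BT.leaf (nat_lit 691084))) (BT.node (nat_lit 4650568) (BT.leaf (nat_lit 691084)) (BT.leaf (nat_lit 679392)))) (BT.node (nat_lit 4650882) (BT.node (nat_lit 4650881) (BT.leaf (nat_lit 693632)) (BT.leaf (nat_lit 712776))) (BT.node (nat_lit 4650883) (BT.leaf (nat_lit 712776)) (BT.leaf (nat_lit 712776)))))))))) (BT.node (nat_lit 4654529) (BT.node (nat_lit 4653186) (BT.node (nat_lit 4652034) (BT.node (nat_lit 4651592) (BT.node (nat_lit 4651459) (BT.node (nat_lit 4651202) (BT.node (nat_lit 4650888) (BT.node (nat_lit 4650885) (BT.leaf (nat_lit 712776)) (BT.leaf (nat_lit 693692))) (BT.node (nat_lit 4651201) (BT.leaf (nat_lit 712776)) (BT.leaf (nat_lit 694280)))) (BT.node (nat_lit 4651208) (BT.node (nat_lit 4651203) (BT.leaf (nat_lit 694280)) (BT.leaf (nat_lit 694280))) (BT.node (nat_lit 4651458) (BT.leaf (nat_lit 694280)) (BT.leaf (nat_lit 660080))))) (BT.node (nat_lit 4651585) (BT.node (nat_lit 4651462) (BT.node (nat_lit 4651460) (BT.leaf (nat_lit 660080)) (BT.leaf (nat_lit 660080))) (BT.node (nat_lit 4651463) (BT.leaf (nat_lit 660080)) (BT.leaf (nat_lit 660080)))) (BT.node (nat_lit 4651590) (BT.node (nat_lit 4651588) (BT.leaf (nat_lit 667392)) (BT.leaf (nat_lit 667392))) (BT.node (nat_lit 4651591) (BT.leaf (nat_lit 694400)) (BT.leaf (nat_lit 694400)))))) (BT.node (nat_lit 4651905) (BT.node (nat_lit 4651720) (BT.node (nat_lit 4651718) (BT.node (nat_lit 4651715) (BT.leaf (nat_lit 667392)) (BT.leaf (nat_lit 678956))) (BT.node (nat_lit 4651719) (BT.leaf (nat_lit 678956)) (BT.leaf (nat_lit 678956)))) (BT.node (nat_lit 4651783) (BT.node (nat_lit 4651781) (BT.leaf (nat_lit 678956)) (BT.leaf (nat_lit 699032))) (BT.node (nat_lit 4651848) (BT.leaf (nat_lit 699032)) (BT.leaf (nat_lit 682440))))) (BT.node (nat_lit 4651910) (BT.node (nat_lit 4651907) (BT.node (nat_lit 4651906) (BT.leaf (nat_lit 667908)) (BT.leaf (nat_lit 667908))) (BT.node (nat_lit 4651909) (BT.leaf (nat_lit 667908)) (BT.leaf (nat_lit 667908)))) (BT.node (nat_lit 4651971) (BT.node (nat_lit 4651911) (BT.leaf (nat_lit 667908)) (BT.leaf (nat_lit 667908))) (BT.node (nat_lit 4651973) (BT.leaf (nat_lit 684784)) (BT.leaf (nat_lit 684784))))))) (BT.node (nat_lit 4652295) (BT.node (nat_lit 4652163) (BT.node (nat_lit 4652040) (BT.node (nat_lit 4652038) (BT.node (nat_lit 4652035) (BT.leaf (nat_lit 772576)) (BT.leaf (nat_lit 772576))) (BT.node (nat_lit 4652039) (BT.leaf (nat_lit 772576)) (BT.leaf (nat_lit 772576)))) (BT.node (nat_lit 4652103) (BT.node (nat_lit 4652102) (BT.leaf (nat_lit 772576)) (BT.leaf (nat_lit 699748))) (BT.node (nat_lit 4652162) (BT.leaf (nat_lit 699748)) (BT.leaf (nat_lit 677460))))) (BT.node (nat_lit 4652230) (BT.node (nat_lit 4652167) (BT.node (nat_lit 4652166) (BT.leaf (nat_lit 771608)) (BT.leaf (nat_lit 771608))) (BT.node (nat_lit 4652229) (BT.leaf (nat_lit 771608)) (BT.leaf (nat_lit 677588)))) (BT.node (nat_lit 4652291) (BT.node (nat_lit 4652290) (BT.leaf (nat_lit 677588)) (BT.leaf (nat_lit 704560))) (BT.node (nat_lit 4652294) (BT.leaf (nat_lit 704560)) (BT.leaf (nat_lit 704560)))))) (BT.node (nat_lit 4652865) (BT.node (nat_lit 4652675) (BT.node (nat_lit 4652673) (BT.node (nat_lit 4652421) (BT.leaf (nat_lit 704560)) (BT.leaf (nat_lit 704620))) (BT.node (nat_lit 4652674) (BT.leaf (nat_lit 687440)) (BT.leaf (nat_lit 687440)))) (BT.node (nat_lit 4652742) (BT.node (nat_lit 4652741) (BT.leaf (nat_lit 687440)) (BT.leaf (nat_lit 678196))) (BT.node (nat_lit 4652744) (BT.leaf (nat_lit 678196)) (BT.leaf (nat_lit 678196))))) (BT.node (nat_lit 4652871) (BT.node (nat_lit 4652868) (BT.node (nat_lit 4652867) (BT.leaf (nat_lit 679048)) (BT.leaf (nat_lit 679048))) (BT.node (nat_lit 4652870) (BT.leaf (nat_lit 679048)) (BT.leaf (nat_lit 690600)))) (BT.node (nat_lit 4652930) (BT.node (nat_lit 4652929) (BT.leaf (nat_lit 690600)) (BT.leaf (nat_lit 657196))) (BT.node (nat_lit 4652932) (BT.leaf (nat_lit 723164)) (BT.leaf (nat_lit 723164)))))))) (BT.node (nat_lit 4653960) (BT.node (nat_lit 4653765) (BT.node (nat_lit 4653446) (BT.node (nat_lit 4653320) (BT.node (nat_lit 4653313) (BT.node (nat_lit 4653189) (BT.leaf (nat_lit 667876)) (BT.leaf (nat_lit 667876))) (BT.node (nat_lit 4653317) (BT.leaf (nat_lit 665304)) (BT.leaf (nat_lit 665304)))) (BT.node (nat_lit 4653442) (BT.node (nat_lit 4653378) (BT.leaf (nat_lit 691284)) (BT.leaf (nat_lit 700332))) (BT.node (nat_lit 4653443) (BT.leaf (nat_lit 673516)) (BT.leaf (nat_lit 673516))))) (BT.node (nat_lit 4653697) (BT.node (nat_lit 4653638) (BT.node (nat_lit 4653637) (BT.leaf (nat_lit 673516)) (BT.leaf (nat_lit 688132))) (BT.node (nat_lit 4653639) (BT.leaf (nat_lit 688132)) (BT.leaf (nat_lit 688132)))) (BT.node (nat_lit 4653699) (BT.node (nat_lit 4653698) (BT.leaf (nat_lit 689560)) (BT.leaf (nat_lit 689560))) (BT.node (nat_lit 4653701) (BT.leaf (nat_lit 689560)) (BT.leaf (nat_lit 689560)))))) (BT.node (nat_lit 4653891) (BT.node (nat_lit 4653827) (BT.node (nat_lit 4653767) (BT.node (nat_lit 4653766) (BT.leaf (nat_lit 696920)) (BT.leaf (nat_lit 696920))) (BT.node (nat_lit 4653826) (BT.leaf (nat_lit 696920)) (BT.leaf (nat_lit 704696)))) (BT.node (nat_lit 4653830) (BT.node (nat_lit 4653828) (BT.leaf (nat_lit 704696)) (BT.leaf (nat_lit 704696))) (BT.node (nat_lit 4653831) (BT.leaf (nat_lit 704696)) (BT.leaf (nat_lit 704696))))) (BT.node (nat_lit 4653954) (BT.node (nat_lit 4653895) (BT.node (nat_lit 4653894) (BT.leaf (nat_lit 776812)) (BT.leaf (nat_lit 689336))) (BT.node (nat_lit 4653896) (BT.leaf (nat_lit 689336)) (BT.leaf (nat_lit 776812)))) (BT.node (nat_lit 4653958) (BT.node (nat_lit 4653955) (BT.leaf (nat_lit 721748)) (BT.leaf (nat_lit 721748))) (BT.node (nat_lit 4653959) (BT.leaf (nat_lit 721748)) (BT.leaf (nat_lit 721748))))))) (BT.node (nat_lit 4654210) (BT.node (nat_lit 4654087) (BT.node (nat_lit 4654082) (BT.node (nat_lit 4654022) (BT.node (nat_lit 4654018) (BT.leaf (nat_lit 718756)) (BT.leaf (nat_lit 667432))) (BT.node (nat_lit 4654023) (BT.leaf (nat_lit 667432)) (BT.leaf (nat_lit 667432)))) (BT.node (nat_lit 4654084) (BT.node (nat_lit 4654083) (BT.leaf (nat_lit 700000)) (BT.leaf (nat_lit 700000))) (BT.node (nat_lit 4654086) (BT.leaf (nat_lit 700000)) (BT.leaf (nat_lit 700000))))) (BT.node (nat_lit 4654149) (BT.node (nat_lit 4654146) (BT.node (nat_lit 4654088) (BT.leaf (nat_lit 700000)) (BT.leaf (nat_lit 700000))) (BT.node (nat_lit 4654147) (BT.leaf (nat_lit 720696)) (BT.leaf (nat_lit 720696)))) (BT.node (nat_lit 4654151) (BT.node (nat_lit 4654150) (BT.leaf (nat_lit 720696)) (BT.leaf (nat_lit 721300))) (BT.node (nat_lit 4654209) (BT.leaf (nat_lit 721300)) (BT.leaf (nat_lit 721360)))))) (BT.node (nat_lit 4654339) (BT.node (nat_lit 4654277) (BT.node (nat_lit 4654274) (BT.node (nat_lit 4654216) (BT.leaf (nat_lit 721360)) (BT.leaf (nat_lit 721360))) (BT.node (nat_lit 4654275) (BT.leaf (nat_lit 687496)) (BT.leaf (nat_lit 687496)))) (BT.node (nat_lit 4654279) (BT.node (nat_lit 4654278) (BT.leaf (nat_lit 687496)) (BT.leaf (nat_lit 687496))) (BT.node (nat_lit 4654338) (BT.leaf (nat_lit 687496)) (BT.leaf (nat_lit 664444))))) (BT.node (nat_lit 4654406) (BT.node (nat_lit 4654343) (BT.node (nat_lit 4654342) (BT.leaf (nat_lit 664444)) (BT.leaf (nat_lit 664444))) (BT.node (nat_lit 4654403) (BT.leaf (nat_lit 664444)) (BT.leaf (nat_lit 668884)))) (BT.node (nat_lit 4654408) (BT.node (nat_lit 4654407) (BT.leaf (nat_lit 668884)) (BT.leaf (nat_lit 668884))) (BT.node (nat_lit 4654468) (BT.leaf (nat_lit 668884)) (BT.leaf (nat_lit 698392))))))))) (BT.node (nat_lit 4656260) (BT.node (nat_lit 4655428) (BT.node (nat_lit 4654853) (BT.node (nat_lit 4654599) (BT.node (nat_lit 4654593) (BT.node (nat_lit 4654535) (BT.node (nat_lit 4654530) (BT.leaf (nat_lit 770336)) (BT.leaf (nat_lit 693052))) (BT.node (nat_lit 4654536) (BT.leaf (nat_lit 693052)) (BT.leaf (nat_lit 770336)))) (BT.node (nat_lit 4654595) (BT.node (nat_lit 4654594) (BT.leaf (nat_lit 706124)) (BT.leaf (nat_lit 720248))) (BT.node (nat_lit 4654598) (BT.leaf (nat_lit 720248)) (BT.leaf (nat_lit 706124))))) (BT.node (nat_lit 4654724) (BT.node (nat_lit 4654658) (BT.node (nat_lit 4654600) (BT.leaf (nat_lit 706124)) (BT.leaf (nat_lit 720248))) (BT.node (nat_lit 4654661) (BT.leaf (nat_lit 694052)) (BT.leaf (nat_lit 694052)))) (BT.node (nat_lit 4654788) (BT.node (nat_lit 4654786) (BT.leaf (nat_lit 695368)) (BT.leaf (nat_lit 662896))) (BT.node (nat_lit 4654789) (BT.leaf (nat_lit 662896)) (BT.leaf (nat_lit 662896)))))) (BT.node (nat_lit 4654984) (BT.node (nat_lit 4654977) (BT.node (nat_lit 4654918) (BT.node (nat_lit 4654854) (BT.leaf (nat_lit 699568)) (BT.leaf (nat_lit 699568))) (BT.node (nat_lit 4654919) (BT.leaf (nat_lit 713364)) (BT.leaf (nat_lit 713364)))) (BT.node (nat_lit 4654979) (BT.node (nat_lit 4654978) (BT.leaf (nat_lit 700008)) (BT.leaf (nat_lit 700008))) (BT.node (nat_lit 4654981) (BT.leaf (nat_lit 700008)) (BT.leaf (nat_lit 700008))))) (BT.node (nat_lit 4655173) (BT.node (nat_lit 4655170) (BT.node (nat_lit 4655105) (BT.leaf (nat_lit 700008)) (BT.leaf (nat_lit 675776))) (BT.node (nat_lit 4655172) (BT.leaf (nat_lit 683100)) (BT.leaf (nat_lit 683100)))) (BT.node (nat_lit 4655367) (BT.node (nat_lit 4655366) (BT.leaf (nat_lit 706908)) (BT.leaf (nat_lit 681744))) (BT.node (nat_lit 4655425) (BT.leaf (nat_lit 681744)) (BT.leaf (nat_lit 690720))))))) (BT.node (nat_lit 4655873) (BT.node (nat_lit 4655688) (BT.node (nat_lit 4655682) (BT.node (nat_lit 4655619) (BT.node (nat_lit 4655429) (BT.leaf (nat_lit 690720)) (BT.leaf (nat_lit 690720))) (BT.node (nat_lit 4655624) (BT.leaf (nat_lit 658772)) (BT.leaf (nat_lit 658772)))) (BT.node (nat_lit 4655686) (BT.node (nat_lit 4655683) (BT.leaf (nat_lit 678592)) (BT.leaf (nat_lit 678592))) (BT.node (nat_lit 4655687) (BT.leaf (nat_lit 678592)) (BT.leaf (nat_lit 678592))))) (BT.node (nat_lit 4655809) (BT.node (nat_lit 4655749) (BT.node (nat_lit 4655748) (BT.leaf (nat_lit 678592)) (BT.leaf (nat_lit 678608))) (BT.node (nat_lit 4655752) (BT.leaf (nat_lit 678608)) (BT.leaf (nat_lit 678608)))) (BT.node (nat_lit 4655815) (BT.node (nat_lit 4655814) (BT.leaf (nat_lit 706740)) (BT.leaf (nat_lit 706740))) (BT.node (nat_lit 4655816) (BT.leaf (nat_lit 706740)) (BT.leaf (nat_lit 665056)))))) (BT.node (nat_lit 4656067) (BT.node (nat_lit 4655940) (BT.node (nat_lit 4655938) (BT.node (nat_lit 4655876) (BT.leaf (nat_lit 673524)) (BT.leaf (nat_lit 673524))) (BT.node (nat_lit 4655939) (BT.leaf (nat_lit 688820)) (BT.leaf (nat_lit 688820)))) (BT.node (nat_lit 4655943) (BT.node (nat_lit 4655942) (BT.leaf (nat_lit 751308)) (BT.leaf (nat_lit 688820))) (BT.node (nat_lit 4655944) (BT.leaf (nat_lit 688820)) (BT.leaf (nat_lit 688820))))) (BT.node (nat_lit 4656131) (BT.node (nat_lit 4656129) (BT.node (nat_lit 4656072) (BT.leaf (nat_lit 685572)) (BT.leaf (nat_lit 685572))) (BT.node (nat_lit 4656130) (BT.leaf (nat_lit 690676)) (BT.leaf (nat_lit 690676)))) (BT.node (nat_lit 4656258) (BT.node (nat_lit 4656133) (BT.leaf (nat_lit 690676)) (BT.leaf (nat_lit 690676))) (BT.node (nat_lit 4656259) (BT.leaf (nat_lit 702544)) (BT.leaf (nat_lit 702544)))))))) (BT.node (nat_lit 4657539) (BT.node (nat_lit 4657160) (BT.node (nat_lit 4656583) (BT.node (nat_lit 4656520) (BT.node (nat_lit 4656515) (BT.node (nat_lit 4656263) (BT.leaf (nat_lit 768396)) (BT.leaf (nat_lit 703984))) (BT.node (nat_lit 4656518) (BT.leaf (nat_lit 722444)) (BT.leaf (nat_lit 722444)))) (BT.node (nat_lit 4656581) (BT.node (nat_lit 4656578) (BT.leaf (nat_lit 722444)) (BT.leaf (nat_lit 693932))) (BT.node (nat_lit 4656582) (BT.leaf (nat_lit 693932)) (BT.leaf (nat_lit 693932))))) (BT.node (nat_lit 4657091) (BT.node (nat_lit 4656840) (BT.node (nat_lit 4656837) (BT.leaf (nat_lit 693932)) (BT.leaf (nat_lit 664304))) (BT.node (nat_lit 4656897) (BT.leaf (nat_lit 664304)) (BT.leaf (nat_lit 693928)))) (BT.node (nat_lit 4657158) (BT.node (nat_lit 4657157) (BT.leaf (nat_lit 693832)) (BT.leaf (nat_lit 682728))) (BT.node (nat_lit 4657159) (BT.leaf (nat_lit 667712)) (BT.leaf (nat_lit 667712)))))) (BT.node (nat_lit 4657348) (BT.node (nat_lit 4657282) (BT.node (nat_lit 4657222) (BT.node (nat_lit 4657221) (BT.leaf (nat_lit 667712)) (BT.leaf (nat_lit 679204))) (BT.node (nat_lit 4657223) (BT.leaf (nat_lit 679204)) (BT.leaf (nat_lit 679204)))) (BT.node (nat_lit 4657346) (BT.node (nat_lit 4657286) (BT.leaf (nat_lit 749260)) (BT.leaf (nat_lit 749260))) (BT.node (nat_lit 4657347) (BT.leaf (nat_lit 667704)) (BT.leaf (nat_lit 667704))))) (BT.node (nat_lit 4657416) (BT.node (nat_lit 4657352) (BT.node (nat_lit 4657349) (BT.leaf (nat_lit 667704)) (BT.leaf (nat_lit 667704))) (BT.node (nat_lit 4657412) (BT.leaf (nat_lit 667704)) (BT.leaf (nat_lit 706048)))) (BT.node (nat_lit 4657475) (BT.node (nat_lit 4657474) (BT.leaf (nat_lit 706048)) (BT.leaf (nat_lit 682716))) (BT.node (nat_lit 4657478) (BT.leaf (nat_lit 682716)) (BT.leaf (nat_lit 682716))))))) (BT.node (nat_lit 4658055) (BT.node (nat_lit 4657864) (BT.node (nat_lit 4657605) (BT.node (nat_lit 4657541) (BT.node (nat_lit 4657540) (BT.leaf (nat_lit 687848)) (BT.leaf (nat_lit 684124))) (BT.node (nat_lit 4657604) (BT.leaf (nat_lit 687848)) (BT.leaf (nat_lit 664132)))) (BT.node (nat_lit 4657862) (BT.node (nat_lit 4657859) (BT.leaf (nat_lit 664132)) (BT.leaf (nat_lit 773084))) (BT.node (nat_lit 4657863) (BT.leaf (nat_lit 720308)) (BT.leaf (nat_lit 720308))))) (BT.node (nat_lit 4657988) (BT.node (nat_lit 4657986) (BT.node (nat_lit 4657985) (BT.leaf (nat_lit 720308)) (BT.leaf (nat_lit 706208))) (BT.node (nat_lit 4657987) (BT.leaf (nat_lit 706208)) (BT.leaf (nat_lit 706208)))) (BT.node (nat_lit 4658052) (BT.node (nat_lit 4658049) (BT.leaf (nat_lit 706208)) (BT.leaf (nat_lit 660812))) (BT.node (nat_lit 4658054) (BT.leaf (nat_lit 660812)) (BT.leaf (nat_lit 660812)))))) (BT.node (nat_lit 4658241) (BT.node (nat_lit 4658119) (BT.node (nat_lit 4658116) (BT.node (nat_lit 4658113) (BT.leaf (nat_lit 660812)) (BT.leaf (nat_lit 667660))) (BT.node (nat_lit 4658117) (BT.leaf (nat_lit 682872)) (BT.leaf (nat_lit 682872)))) (BT.node (nat_lit 4658181) (BT.node (nat_lit 4658179) (BT.leaf (nat_lit 667660)) (BT.leaf (nat_lit 709608))) (BT.node (nat_lit 4658182) (BT.leaf (nat_lit 709608)) (BT.leaf (nat_lit 709608))))) (BT.node (nat_lit 4658434) (BT.node (nat_lit 4658310) (BT.node (nat_lit 4658247) (BT.leaf (nat_lit 679396)) (BT.leaf (nat_lit 679396))) (BT.node (nat_lit 4658311) (BT.leaf (nat_lit 679764)) (BT.leaf (nat_lit 679764)))) (BT.node (nat_lit 4658498) (BT.node (nat_lit 4658439) (BT.leaf (nat_lit 775188)) (BT.leaf (nat_lit 775188))) (BT.node (nat_lit 4658499) (BT.leaf (nat_lit 667164)) (BT.leaf (nat_lit 667164))))))))))) (BT.node (nat_lit 4670790) (BT.node (nat_lit 4664775) (BT.node (nat_lit 4662017) (BT.node (nat_lit 4660615) (BT.node (nat_lit 4660226) (BT.node (nat_lit 4659971) (BT.node (nat_lit 4659649) (BT.node (nat_lit 4658693) (BT.node (nat_lit 4658689) (BT.leaf (nat_lit 667164)) (BT.leaf (nat_lit 661096))) (BT.node (nat_lit 4659458) (BT.leaf (nat_lit 661096)) (BT.leaf (nat_lit 715024)))) (BT.node (nat_lit 4659651) (BT.node (nat_lit 4659650) (BT.leaf (nat_lit 692760)) (BT.leaf (nat_lit 692760))) (BT.node (nat_lit 4659652) (BT.leaf (nat_lit 692760)) (BT.leaf (nat_lit 692760))))) (BT.node (nat_lit 4660101) (BT.node (nat_lit 4659974) (BT.node (nat_lit 4659973) (BT.leaf (nat_lit 704428)) (BT.leaf (nat_lit 704428))) (BT.node (nat_lit 4659975) (BT.leaf (nat_lit 704428)) (BT.leaf (nat_lit 704428)))) (BT.node (nat_lit 4660163) (BT.node (nat_lit 4660162) (BT.leaf (nat_lit 701060)) (BT.leaf (nat_lit 683152))) (BT.node (nat_lit 4660225) (BT.leaf (nat_lit 683152)) (BT.leaf (nat_lit 707652)))))) (BT.node (nat_lit 4660295) (BT.node (nat_lit 4660290) (BT.node (nat_lit 4660229) (BT.node (nat_lit 4660227) (BT.leaf (nat_lit 707652)) (BT.leaf (nat_lit 707652))) (BT.node (nat_lit 4660232) (BT.leaf (nat_lit 707652)) (BT.leaf (nat_lit 707652)))) (BT.node (nat_lit 4660292) (BT.node (nat_lit 4660291) (BT.leaf (nat_lit 679136)) (BT.leaf (nat_lit 679136))) (BT.node (nat_lit 4660294) (BT.leaf (nat_lit 679136)) (BT.leaf (nat_lit 679136))))) (BT.node (nat_lit 4660549) (BT.node (nat_lit 4660483) (BT.node (nat_lit 4660296) (BT.leaf (nat_lit 679136)) (BT.leaf (nat_lit 679136))) (BT.node (nat_lit 4660484) (BT.leaf (nat_lit 676044)) (BT.leaf (nat_lit 676044)))) (BT.node (nat_lit 4660613) (BT.node (nat_lit 4660610) (BT.leaf (nat_lit 707588)) (BT.leaf (nat_lit 706648))) (BT.node (nat_lit 4660614) (BT.leaf (nat_lit 706648)) (BT.leaf (nat_lit 706648))))))) (BT.node (nat_lit 4661381) (BT.node (nat_lit 4661060) (BT.node (nat_lit 4660870) (BT.node (nat_lit 4660680) (BT.node (nat_lit 4660616) (BT.leaf (nat_lit 706648)) (BT.leaf (nat_lit 706648))) (BT.node (nat_lit 4660737) (BT.leaf (nat_lit 675320)) (BT.leaf (nat_lit 791660)))) (BT.node (nat_lit 4660872) (BT.node (nat_lit 4660871) (BT.leaf (nat_lit 683952)) (BT.leaf (nat_lit 683952))) (BT.node (nat_lit 4661059) (BT.leaf (nat_lit 683952)) (BT.leaf (nat_lit 659760))))) (BT.node (nat_lit 4661125) (BT.node (nat_lit 4661123) (BT.node (nat_lit 4661121) (BT.leaf (nat_lit 659760)) (BT.leaf (nat_lit 711976))) (BT.node (nat_lit 4661124) (BT.leaf (nat_lit 711976)) (BT.leaf (nat_lit 711976)))) (BT.node (nat_lit 4661379) (BT.node (nat_lit 4661377) (BT.leaf (nat_lit 711976)) (BT.leaf (nat_lit 678148))) (BT.node (nat_lit 4661380) (BT.leaf (nat_lit 678148)) (BT.leaf (nat_lit 678148)))))) (BT.node (nat_lit 4661829) (BT.node (nat_lit 4661574) (BT.node (nat_lit 4661511) (BT.node (nat_lit 4661510) (BT.leaf (nat_lit 678148)) (BT.leaf (nat_lit 686380))) (BT.node (nat_lit 4661570) (BT.leaf (nat_lit 686380)) (BT.leaf (nat_lit 768296)))) (BT.node (nat_lit 4661765) (BT.node (nat_lit 4661575) (BT.leaf (nat_lit 768296)) (BT.leaf (nat_lit 768296))) (BT.node (nat_lit 4661828) (BT.leaf (nat_lit 675948)) (BT.leaf (nat_lit 719508))))) (BT.node (nat_lit 4661956) (BT.node (nat_lit 4661893) (BT.node (nat_lit 4661891) (BT.leaf (nat_lit 719508)) (BT.leaf (nat_lit 765836))) (BT.node (nat_lit 4661895) (BT.leaf (nat_lit 765836)) (BT.leaf (nat_lit 765836)))) (BT.node (nat_lit 4661959) (BT.node (nat_lit 4661958) (BT.leaf (nat_lit 699552)) (BT.leaf (nat_lit 668568))) (BT.node (nat_lit 4661960) (BT.leaf (nat_lit 668568)) (BT.leaf (nat_lit 699552)))))))) (BT.node (nat_lit 4662855) (BT.node (nat_lit 4662406) (BT.node (nat_lit 4662216) (BT.node (nat_lit 4662149) (BT.node (nat_lit 4662021) (BT.node (nat_lit 4662019) (BT.leaf (nat_lit 660996)) (BT.leaf (nat_lit 660996))) (BT.node (nat_lit 4662024) (BT.leaf (nat_lit 660996)) (BT.leaf (nat_lit 660996)))) (BT.node (nat_lit 4662151) (BT.node (nat_lit 4662150) (BT.leaf (nat_lit 700024)) (BT.leaf (nat_lit 700024))) (BT.node (nat_lit 4662212) (BT.leaf (nat_lit 700024)) (BT.leaf (nat_lit 686512))))) (BT.node (nat_lit 4662278) (BT.node (nat_lit 4662275) (BT.node (nat_lit 4662274) (BT.leaf (nat_lit 686512)) (BT.leaf (nat_lit 679956))) (BT.node (nat_lit 4662276) (BT.leaf (nat_lit 679956)) (BT.leaf (nat_lit 690896)))) (BT.node (nat_lit 4662401) (BT.node (nat_lit 4662279) (BT.leaf (nat_lit 679956)) (BT.leaf (nat_lit 679956))) (BT.node (nat_lit 4662402) (BT.leaf (nat_lit 694404)) (BT.leaf (nat_lit 694404)))))) (BT.node (nat_lit 4662726) (BT.node (nat_lit 4662470) (BT.node (nat_lit 4662408) (BT.node (nat_lit 4662407) (BT.leaf (nat_lit 694404)) (BT.leaf (nat_lit 694404))) (BT.node (nat_lit 4662469) (BT.leaf (nat_lit 694404)) (BT.leaf (nat_lit 690900)))) (BT.node (nat_lit 4662722) (BT.node (nat_lit 4662471) (BT.leaf (nat_lit 690900)) (BT.leaf (nat_lit 690900))) (BT.node (nat_lit 4662723) (BT.leaf (nat_lit 712608)) (BT.leaf (nat_lit 712608))))) (BT.node (nat_lit 4662849) (BT.node (nat_lit 4662787) (BT.node (nat_lit 4662727) (BT.leaf (nat_lit 712608)) (BT.leaf (nat_lit 712608))) (BT.node (nat_lit 4662789) (BT.leaf (nat_lit 707868)) (BT.leaf (nat_lit 707868)))) (BT.node (nat_lit 4662851) (BT.node (nat_lit 4662850) (BT.leaf (nat_lit 699204)) (BT.leaf (nat_lit 699204))) (BT.node (nat_lit 4662854) (BT.leaf (nat_lit 699204)) (BT.leaf (nat_lit 714652))))))) (BT.node (nat_lit 4663622) (BT.node (nat_lit 4663237) (BT.node (nat_lit 4663105) (BT.node (nat_lit 4662917) (BT.node (nat_lit 4662913) (BT.leaf (nat_lit 699204)) (BT.leaf (nat_lit 671196))) (BT.node (nat_lit 4662920) (BT.leaf (nat_lit 671196)) (BT.leaf (nat_lit 671196)))) (BT.node (nat_lit 4663172) (BT.node (nat_lit 4663112) (BT.leaf (nat_lit 665960)) (BT.leaf (nat_lit 665960))) (BT.node (nat_lit 4663173) (BT.leaf (nat_lit 718896)) (BT.leaf (nat_lit 718896))))) (BT.node (nat_lit 4663300) (BT.node (nat_lit 4663240) (BT.node (nat_lit 4663239) (BT.leaf (nat_lit 669432)) (BT.leaf (nat_lit 718924))) (BT.node (nat_lit 4663297) (BT.leaf (nat_lit 718924)) (BT.leaf (nat_lit 669440)))) (BT.node (nat_lit 4663618) (BT.node (nat_lit 4663617) (BT.leaf (nat_lit 669440)) (BT.leaf (nat_lit 660984))) (BT.node (nat_lit 4663619) (BT.leaf (nat_lit 660984)) (BT.leaf (nat_lit 660984)))))) (BT.node (nat_lit 4664261) (BT.node (nat_lit 4664195) (BT.node (nat_lit 4664133) (BT.node (nat_lit 4663623) (BT.leaf (nat_lit 660984)) (BT.leaf (nat_lit 660984))) (BT.node (nat_lit 4664193) (BT.leaf (nat_lit 715196)) (BT.leaf (nat_lit 703100)))) (BT.node (nat_lit 4664200) (BT.node (nat_lit 4664196) (BT.leaf (nat_lit 703100)) (BT.leaf (nat_lit 703100))) (BT.node (nat_lit 4664260) (BT.leaf (nat_lit 703100)) (BT.leaf (nat_lit 687756))))) (BT.node (nat_lit 4664584) (BT.node (nat_lit 4664389) (BT.node (nat_lit 4664388) (BT.leaf (nat_lit 687756)) (BT.leaf (nat_lit 660872))) (BT.node (nat_lit 4664392) (BT.leaf (nat_lit 798324)) (BT.leaf (nat_lit 660872)))) (BT.node (nat_lit 4664648) (BT.node (nat_lit 4664647) (BT.leaf (nat_lit 694108)) (BT.leaf (nat_lit 695216))) (BT.node (nat_lit 4664774) (BT.leaf (nat_lit 695216)) (BT.leaf (nat_lit 674328))))))))) (BT.node (nat_lit 4668353) (BT.node (nat_lit 4666631) (BT.node (nat_lit 4665729) (BT.node (nat_lit 4665480) (BT.node (nat_lit 4664966) (BT.node (nat_lit 4664961) (BT.node (nat_lit 4664840) (BT.leaf (nat_lit 674328)) (BT.leaf (nat_lit 673436))) (BT.node (nat_lit 4664965) (BT.leaf (nat_lit 674028)) (BT.leaf (nat_lit 674028)))) (BT.node (nat_lit 4665473) (BT.node (nat_lit 4664967) (BT.leaf (nat_lit 674028)) (BT.leaf (nat_lit 674028))) (BT.node (nat_lit 4665476) (BT.leaf (nat_lit 674284)) (BT.leaf (nat_lit 674284))))) (BT.node (nat_lit 4665601) (BT.node (nat_lit 4665540) (BT.node (nat_lit 4665537) (BT.leaf (nat_lit 674284)) (BT.leaf (nat_lit 704600))) (BT.node (nat_lit 4665544) (BT.leaf (nat_lit 704600)) (BT.leaf (nat_lit 704600)))) (BT.node (nat_lit 4665665) (BT.node (nat_lit 4665605) (BT.leaf (nat_lit 704580)) (BT.leaf (nat_lit 704580))) (BT.node (nat_lit 4665668) (BT.leaf (nat_lit 700992)) (BT.leaf (nat_lit 664200)))))) (BT.node (nat_lit 4666118) (BT.node (nat_lit 4665985) (BT.node (nat_lit 4665793) (BT.node (nat_lit 4665732) (BT.leaf (nat_lit 700996)) (BT.leaf (nat_lit 700996))) (BT.node (nat_lit 4665796) (BT.leaf (nat_lit 701008)) (BT.leaf (nat_lit 749392)))) (BT.node (nat_lit 4666055) (BT.node (nat_lit 4666054) (BT.leaf (nat_lit 762668)) (BT.leaf (nat_lit 685560))) (BT.node (nat_lit 4666117) (BT.leaf (nat_lit 685560)) (BT.leaf (nat_lit 679180))))) (BT.node (nat_lit 4666500) (BT.node (nat_lit 4666373) (BT.node (nat_lit 4666119) (BT.leaf (nat_lit 679180)) (BT.leaf (nat_lit 679180))) (BT.node (nat_lit 4666437) (BT.leaf (nat_lit 711816)) (BT.leaf (nat_lit 685784)))) (BT.node (nat_lit 4666627) (BT.node (nat_lit 4666565) (BT.leaf (nat_lit 688908)) (BT.leaf (nat_lit 688912))) (BT.node (nat_lit 4666630) (BT.leaf (nat_lit 679904)) (BT.leaf (nat_lit 679904))))))) (BT.node (nat_lit 4667333) (BT.node (nat_lit 4667015) (BT.node (nat_lit 4666824) (BT.node (nat_lit 4666753) (BT.node (nat_lit 4666692) (BT.leaf (nat_lit 679904)) (BT.leaf (nat_lit 663772))) (BT.node (nat_lit 4666817) (BT.leaf (nat_lit 716308)) (BT.leaf (nat_lit 803836)))) (BT.node (nat_lit 4666888) (BT.node (nat_lit 4666884) (BT.leaf (nat_lit 803836)) (BT.leaf (nat_lit 711632))) (BT.node (nat_lit 4666952) (BT.leaf (nat_lit 711632)) (BT.leaf (nat_lit 770368))))) (BT.node (nat_lit 4667080) (BT.node (nat_lit 4667073) (BT.node (nat_lit 4667016) (BT.leaf (nat_lit 718440)) (BT.leaf (nat_lit 718440))) (BT.node (nat_lit 4667076) (BT.leaf (nat_lit 684796)) (BT.leaf (nat_lit 684796)))) (BT.node (nat_lit 4667142) (BT.node (nat_lit 4667141) (BT.leaf (nat_lit 684796)) (BT.leaf (nat_lit 660724))) (BT.node (nat_lit 4667143) (BT.leaf (nat_lit 660724)) (BT.leaf (nat_lit 660724)))))) (BT.node (nat_lit 4667591) (BT.node (nat_lit 4667460) (BT.node (nat_lit 4667335) (BT.node (nat_lit 4667334) (BT.leaf (nat_lit 701140)) (BT.leaf (nat_lit 713000))) (BT.node (nat_lit 4667336) (BT.leaf (nat_lit 713000)) (BT.leaf (nat_lit 713000)))) (BT.node (nat_lit 4667589) (BT.node (nat_lit 4667461) (BT.leaf (nat_lit 710300)) (BT.leaf (nat_lit 660804))) (BT.node (nat_lit 4667590) (BT.leaf (nat_lit 715272)) (BT.leaf (nat_lit 715272))))) (BT.node (nat_lit 4668033) (BT.node (nat_lit 4667841) (BT.node (nat_lit 4667592) (BT.leaf (nat_lit 715272)) (BT.leaf (nat_lit 715272))) (BT.node (nat_lit 4667969) (BT.leaf (nat_lit 723384)) (BT.leaf (nat_lit 661792)))) (BT.node (nat_lit 4668038) (BT.node (nat_lit 4668037) (BT.leaf (nat_lit 694924)) (BT.leaf (nat_lit 694924))) (BT.node (nat_lit 4668167) (BT.leaf (nat_lit 694924)) (BT.leaf (nat_lit 776580)))))))) (BT.node (nat_lit 4669700) (BT.node (nat_lit 4669000) (BT.node (nat_lit 4668551) (BT.node (nat_lit 4668420) (BT.node (nat_lit 4668360) (BT.node (nat_lit 4668356) (BT.leaf (nat_lit 709364)) (BT.leaf (nat_lit 709364))) (BT.node (nat_lit 4668417) (BT.leaf (nat_lit 709364)) (BT.leaf (nat_lit 668584)))) (BT.node (nat_lit 4668549) (BT.node (nat_lit 4668424) (BT.leaf (nat_lit 668584)) (BT.leaf (nat_lit 668584))) (BT.node (nat_lit 4668550) (BT.leaf (nat_lit 751144)) (BT.leaf (nat_lit 751144))))) (BT.node (nat_lit 4668932) (BT.node (nat_lit 4668804) (BT.node (nat_lit 4668552) (BT.leaf (nat_lit 751144)) (BT.leaf (nat_lit 751144))) (BT.node (nat_lit 4668808) (BT.leaf (nat_lit 662760)) (BT.leaf (nat_lit 662760)))) (BT.node (nat_lit 4668993) (BT.node (nat_lit 4668933) (BT.leaf (nat_lit 694492)) (BT.leaf (nat_lit 697480))) (BT.node (nat_lit 4668997) (BT.leaf (nat_lit 697660)) (BT.leaf (nat_lit 697660)))))) (BT.node (nat_lit 4669570) (BT.node (nat_lit 4669443) (BT.node (nat_lit 4669313) (BT.node (nat_lit 4669121) (BT.leaf (nat_lit 697660)) (BT.leaf (nat_lit 819068))) (BT.node (nat_lit 4669442) (BT.leaf (nat_lit 819080)) (BT.leaf (nat_lit 671896)))) (BT.node (nat_lit 4669508) (BT.node (nat_lit 4669445) (BT.leaf (nat_lit 671896)) (BT.leaf (nat_lit 671896))) (BT.node (nat_lit 4669569) (BT.leaf (nat_lit 687492)) (BT.leaf (nat_lit 757332))))) (BT.node (nat_lit 4669635) (BT.node (nat_lit 4669573) (BT.node (nat_lit 4669571) (BT.leaf (nat_lit 757332)) (BT.leaf (nat_lit 757332))) (BT.node (nat_lit 4669634) (BT.leaf (nat_lit 683148)) (BT.leaf (nat_lit 757336)))) (BT.node (nat_lit 4669698) (BT.node (nat_lit 4669636) (BT.leaf (nat_lit 757336)) (BT.leaf (nat_lit 679228))) (BT.node (nat_lit 4669699) (BT.leaf (nat_lit 691916)) (BT.leaf (nat_lit 691916))))))) (BT.node (nat_lit 4670467) (BT.node (nat_lit 4669895) (BT.node (nat_lit 4669832) (BT.node (nat_lit 4669768) (BT.node (nat_lit 4669704) (BT.leaf (nat_lit 674568)) (BT.leaf (nat_lit 674568))) (BT.node (nat_lit 4669825) (BT.leaf (nat_lit 813760)) (BT.leaf (nat_lit 813764)))) (BT.node (nat_lit 4669891) (BT.node (nat_lit 4669890) (BT.leaf (nat_lit 813764)) (BT.leaf (nat_lit 702528))) (BT.node (nat_lit 4669894) (BT.leaf (nat_lit 762944)) (BT.leaf (nat_lit 762944))))) (BT.node (nat_lit 4670280) (BT.node (nat_lit 4670276) (BT.node (nat_lit 4670085) (BT.leaf (nat_lit 702528)) (BT.leaf (nat_lit 691856))) (BT.node (nat_lit 4670277) (BT.leaf (nat_lit 691952)) (BT.leaf (nat_lit 691952)))) (BT.node (nat_lit 4670405) (BT.node (nat_lit 4670401) (BT.leaf (nat_lit 691952)) (BT.leaf (nat_lit 691964))) (BT.node (nat_lit 4670466) (BT.leaf (nat_lit 691964)) (BT.leaf (nat_lit 713556)))))) (BT.node (nat_lit 4670596) (BT.node (nat_lit 4670535) (BT.node (nat_lit 4670530) (BT.node (nat_lit 4670470) (BT.leaf (nat_lit 713556)) (BT.leaf (nat_lit 713556))) (BT.node (nat_lit 4670534) (BT.leaf (nat_lit 691920)) (BT.leaf (nat_lit 691920)))) (BT.node (nat_lit 4670594) (BT.node (nat_lit 4670536) (BT.leaf (nat_lit 691920)) (BT.leaf (nat_lit 691920))) (BT.node (nat_lit 4670595) (BT.leaf (nat_lit 761976)) (BT.leaf (nat_lit 761976))))) (BT.node (nat_lit 4670660) (BT.node (nat_lit 4670600) (BT.node (nat_lit 4670597) (BT.leaf (nat_lit 693516)) (BT.leaf (nat_lit 693508))) (BT.node (nat_lit 4670659) (BT.leaf (nat_lit 761976)) (BT.leaf (nat_lit 675500)))) (BT.node (nat_lit 4670664) (BT.node (nat_lit 4670662) (BT.leaf (nat_lit 706316)) (BT.leaf (nat_lit 675500))) (BT.node (nat_lit 4670789) (BT.leaf (nat_lit 675500)) (BT.leaf (nat_lit 702856)))))))))) (BT.node (nat_lit 4676037) (BT.node (nat_lit 4673346) (BT.node (nat_lit 4672007) (BT.node (nat_lit 4671234) (BT.node (nat_lit 4670915) (BT.node (nat_lit 4670852) (BT.node (nat_lit 4670850) (BT.node (nat_lit 4670791) (BT.leaf (nat_lit 702856)) (BT.leaf (nat_lit 702856))) (BT.node (nat_lit 4670851) (BT.leaf (nat_lit 699308)) (BT.leaf (nat_lit 699308)))) (BT.node (nat_lit 4670856) (BT.node (nat_lit 4670853) (BT.leaf (nat_lit 699308)) (BT.leaf (nat_lit 699308))) (BT.node (nat_lit 4670914) (BT.leaf (nat_lit 699308)) (BT.leaf (nat_lit 699392))))) (BT.node (nat_lit 4671043) (BT.node (nat_lit 4670981) (BT.node (nat_lit 4670917) (BT.leaf (nat_lit 699392)) (BT.leaf (nat_lit 699392))) (BT.node (nat_lit 4671042) (BT.leaf (nat_lit 699416)) (BT.leaf (nat_lit 699376)))) (BT.node (nat_lit 4671046) (BT.node (nat_lit 4671044) (BT.leaf (nat_lit 699376)) (BT.leaf (nat_lit 711484))) (BT.node (nat_lit 4671047) (BT.leaf (nat_lit 699376)) (BT.leaf (nat_lit 699376)))))) (BT.node (nat_lit 4671365) (BT.node (nat_lit 4671239) (BT.node (nat_lit 4671237) (BT.node (nat_lit 4671235) (BT.leaf (nat_lit 689368)) (BT.leaf (nat_lit 707544))) (BT.node (nat_lit 4671238) (BT.leaf (nat_lit 707544)) (BT.leaf (nat_lit 689368)))) (BT.node (nat_lit 4671297) (BT.node (nat_lit 4671240) (BT.leaf (nat_lit 689368)) (BT.leaf (nat_lit 707544))) (BT.node (nat_lit 4671300) (BT.leaf (nat_lit 702468)) (BT.leaf (nat_lit 702468))))) (BT.node (nat_lit 4671560) (BT.node (nat_lit 4671491) (BT.node (nat_lit 4671490) (BT.leaf (nat_lit 705820)) (BT.leaf (nat_lit 674848))) (BT.node (nat_lit 4671493) (BT.leaf (nat_lit 674848)) (BT.leaf (nat_lit 690380)))) (BT.node (nat_lit 4671942) (BT.node (nat_lit 4671875) (BT.leaf (nat_lit 682136)) (BT.leaf (nat_lit 788868))) (BT.node (nat_lit 4671943) (BT.leaf (nat_lit 720416)) (BT.leaf (nat_lit 720416))))))) (BT.node (nat_lit 4672648) (BT.node (nat_lit 4672327) (BT.node (nat_lit 4672135) (BT.node (nat_lit 4672131) (BT.node (nat_lit 4672130) (BT.leaf (nat_lit 701644)) (BT.leaf (nat_lit 707796))) (BT.node (nat_lit 4672134) (BT.leaf (nat_lit 707796)) (BT.leaf (nat_lit 707796)))) (BT.node (nat_lit 4672199) (BT.node (nat_lit 4672198) (BT.leaf (nat_lit 707796)) (BT.leaf (nat_lit 665904))) (BT.node (nat_lit 4672325) (BT.leaf (nat_lit 665904)) (BT.leaf (nat_lit 709544))))) (BT.node (nat_lit 4672453) (BT.node (nat_lit 4672392) (BT.node (nat_lit 4672389) (BT.leaf (nat_lit 709544)) (BT.leaf (nat_lit 709532))) (BT.node (nat_lit 4672451) (BT.leaf (nat_lit 709532)) (BT.leaf (nat_lit 717392)))) (BT.node (nat_lit 4672518) (BT.node (nat_lit 4672456) (BT.leaf (nat_lit 717392)) (BT.leaf (nat_lit 717392))) (BT.node (nat_lit 4672519) (BT.leaf (nat_lit 797732)) (BT.leaf (nat_lit 797732)))))) (BT.node (nat_lit 4673089) (BT.node (nat_lit 4672900) (BT.node (nat_lit 4672835) (BT.node (nat_lit 4672712) (BT.leaf (nat_lit 667868)) (BT.leaf (nat_lit 714116))) (BT.node (nat_lit 4672836) (BT.leaf (nat_lit 707020)) (BT.leaf (nat_lit 707020)))) (BT.node (nat_lit 4673026) (BT.node (nat_lit 4672901) (BT.leaf (nat_lit 710464)) (BT.leaf (nat_lit 710464))) (BT.node (nat_lit 4673027) (BT.leaf (nat_lit 690320)) (BT.leaf (nat_lit 690320))))) (BT.node (nat_lit 4673285) (BT.node (nat_lit 4673091) (BT.node (nat_lit 4673090) (BT.leaf (nat_lit 719652)) (BT.leaf (nat_lit 719652))) (BT.node (nat_lit 4673156) (BT.leaf (nat_lit 719652)) (BT.leaf (nat_lit 682580)))) (BT.node (nat_lit 4673287) (BT.node (nat_lit 4673286) (BT.leaf (nat_lit 794240)) (BT.leaf (nat_lit 684016))) (BT.node (nat_lit 4673345) (BT.leaf (nat_lit 684016)) (BT.leaf (nat_lit 694100)))))))) (BT.node (nat_lit 4675016) (BT.node (nat_lit 4673796) (BT.node (nat_lit 4673475) (BT.node (nat_lit 4673351) (BT.node (nat_lit 4673348) (BT.node (nat_lit 4673347) (BT.leaf (nat_lit 694100)) (BT.leaf (nat_lit 694100))) (BT.node (nat_lit 4673350) (BT.leaf (nat_lit 694100)) (BT.leaf (nat_lit 694100)))) (BT.node (nat_lit 4673413) (BT.node (nat_lit 4673352) (BT.leaf (nat_lit 694100)) (BT.leaf (nat_lit 694100))) (BT.node (nat_lit 4673416) (BT.leaf (nat_lit 682100)) (BT.leaf (nat_lit 682100))))) (BT.node (nat_lit 4673544) (BT.node (nat_lit 4673479) (BT.node (nat_lit 4673478) (BT.leaf (nat_lit 673724)) (BT.leaf (nat_lit 673724))) (BT.node (nat_lit 4673480) (BT.leaf (nat_lit 673724)) (BT.leaf (nat_lit 673724)))) (BT.node (nat_lit 4673794) (BT.node (nat_lit 4673793) (BT.leaf (nat_lit 797284)) (BT.leaf (nat_lit 710628))) (BT.node (nat_lit 4673795) (BT.leaf (nat_lit 710628)) (BT.leaf (nat_lit 710628)))))) (BT.node (nat_lit 4674881) (BT.node (nat_lit 4674695) (BT.node (nat_lit 4674689) (BT.node (nat_lit 4673800) (BT.leaf (nat_lit 710628)) (BT.leaf (nat_lit 710628))) (BT.node (nat_lit 4674694) (BT.leaf (nat_lit 722664)) (BT.leaf (nat_lit 722664)))) (BT.node (nat_lit 4674756) (BT.node (nat_lit 4674696) (BT.leaf (nat_lit 722664)) (BT.leaf (nat_lit 722664))) (BT.node (nat_lit 4674760) (BT.leaf (nat_lit 703512)) (BT.leaf (nat_lit 702116))))) (BT.node (nat_lit 4674887) (BT.node (nat_lit 4674883) (BT.node (nat_lit 4674882) (BT.leaf (nat_lit 676136)) (BT.leaf (nat_lit 676136))) (BT.node (nat_lit 4674886) (BT.leaf (nat_lit 676136)) (BT.leaf (nat_lit 676136)))) (BT.node (nat_lit 4675012) (BT.node (nat_lit 4675011) (BT.leaf (nat_lit 676136)) (BT.leaf (nat_lit 688884))) (BT.node (nat_lit 4675013) (BT.leaf (nat_lit 699072)) (BT.leaf (nat_lit 699072))))))) (BT.node (nat_lit 4675270) (BT.node (nat_lit 4675202) (BT.node (nat_lit 4675139) (BT.node (nat_lit 4675075) (BT.node (nat_lit 4675073) (BT.leaf (nat_lit 699072)) (BT.leaf (nat_lit 688900))) (BT.node (nat_lit 4675077) (BT.leaf (nat_lit 688900)) (BT.leaf (nat_lit 699968)))) (BT.node (nat_lit 4675141) (BT.node (nat_lit 4675140) (BT.leaf (nat_lit 691884)) (BT.leaf (nat_lit 699588))) (BT.node (nat_lit 4675142) (BT.leaf (nat_lit 699588)) (BT.leaf (nat_lit 691884))))) (BT.node (nat_lit 4675208) (BT.node (nat_lit 4675206) (BT.node (nat_lit 4675205) (BT.leaf (nat_lit 666212)) (BT.leaf (nat_lit 666212))) (BT.node (nat_lit 4675207) (BT.leaf (nat_lit 666212)) (BT.leaf (nat_lit 666212)))) (BT.node (nat_lit 4675266) (BT.node (nat_lit 4675265) (BT.leaf (nat_lit 666212)) (BT.leaf (nat_lit 664640))) (BT.node (nat_lit 4675267) (BT.leaf (nat_lit 664640)) (BT.leaf (nat_lit 664640)))))) (BT.node (nat_lit 4675588) (BT.node (nat_lit 4675398) (BT.node (nat_lit 4675272) (BT.node (nat_lit 4675271) (BT.leaf (nat_lit 664640)) (BT.leaf (nat_lit 664640))) (BT.node (nat_lit 4675397) (BT.leaf (nat_lit 664640)) (BT.leaf (nat_lit 703896)))) (BT.node (nat_lit 4675586) (BT.node (nat_lit 4675585) (BT.leaf (nat_lit 703896)) (BT.leaf (nat_lit 715256))) (BT.node (nat_lit 4675587) (BT.leaf (nat_lit 715256)) (BT.leaf (nat_lit 715256))))) (BT.node (nat_lit 4675907) (BT.node (nat_lit 4675651) (BT.node (nat_lit 4675650) (BT.leaf (nat_lit 715256)) (BT.leaf (nat_lit 683096))) (BT.node (nat_lit 4675720) (BT.leaf (nat_lit 683096)) (BT.leaf (nat_lit 717244)))) (BT.node (nat_lit 4675910) (BT.node (nat_lit 4675908) (BT.leaf (nat_lit 706376)) (BT.leaf (nat_lit 682832))) (BT.node (nat_lit 4675911) (BT.leaf (nat_lit 706376)) (BT.leaf (nat_lit 706376))))))))) (BT.node (nat_lit 4678598) (BT.node (nat_lit 4677573) (BT.node (nat_lit 4677000) (BT.node (nat_lit 4676483) (BT.node (nat_lit 4676292) (BT.node (nat_lit 4676103) (BT.node (nat_lit 4676101) (BT.leaf (nat_lit 710476)) (BT.leaf (nat_lit 682836))) (BT.node (nat_lit 4676290) (BT.leaf (nat_lit 716872)) (BT.leaf (nat_lit 696684)))) (BT.node (nat_lit 4676358) (BT.node (nat_lit 4676355) (BT.leaf (nat_lit 696684)) (BT.leaf (nat_lit 682568))) (BT.node (nat_lit 4676359) (BT.leaf (nat_lit 682568)) (BT.leaf (nat_lit 682568))))) (BT.node (nat_lit 4676865) (BT.node (nat_lit 4676486) (BT.node (nat_lit 4676485) (BT.leaf (nat_lit 697464)) (BT.leaf (nat_lit 697464))) (BT.node (nat_lit 4676487) (BT.leaf (nat_lit 697464)) (BT.leaf (nat_lit 697464)))) (BT.node (nat_lit 4676929) (BT.node (nat_lit 4676869) (BT.leaf (nat_lit 814484)) (BT.leaf (nat_lit 814484))) (BT.node (nat_lit 4676934) (BT.leaf (nat_lit 814488)) (BT.leaf (nat_lit 814488)))))) (BT.node (nat_lit 4677187) (BT.node (nat_lit 4677123) (BT.node (nat_lit 4677059) (BT.node (nat_lit 4677057) (BT.leaf (nat_lit 814492)) (BT.leaf (nat_lit 814496))) (BT.node (nat_lit 4677122) (BT.leaf (nat_lit 814496)) (BT.leaf (nat_lit 707460)))) (BT.node (nat_lit 4677185) (BT.node (nat_lit 4677125) (BT.leaf (nat_lit 707460)) (BT.leaf (nat_lit 707460))) (BT.node (nat_lit 4677186) (BT.leaf (nat_lit 814500)) (BT.leaf (nat_lit 689504))))) (BT.node (nat_lit 4677192) (BT.node (nat_lit 4677190) (BT.node (nat_lit 4677188) (BT.leaf (nat_lit 707468)) (BT.leaf (nat_lit 689504))) (BT.node (nat_lit 4677191) (BT.leaf (nat_lit 707468)) (BT.leaf (nat_lit 707468)))) (BT.node (nat_lit 4677508) (BT.node (nat_lit 4677505) (BT.leaf (nat_lit 707468)) (BT.leaf (nat_lit 766028))) (BT.node (nat_lit 4677511) (BT.leaf (nat_lit 710676)) (BT.leaf (nat_lit 766028))))))) (BT.node (nat_lit 4678146) (BT.node (nat_lit 4677892) (BT.node (nat_lit 4677703) (BT.node (nat_lit 4677701) (BT.node (nat_lit 4677639) (BT.leaf (nat_lit 710680)) (BT.leaf (nat_lit 695464))) (BT.node (nat_lit 4677702) (BT.leaf (nat_lit 681880)) (BT.leaf (nat_lit 681880)))) (BT.node (nat_lit 4677765) (BT.node (nat_lit 4677761) (BT.leaf (nat_lit 681880)) (BT.leaf (nat_lit 685764))) (BT.node (nat_lit 4677891) (BT.leaf (nat_lit 685764)) (BT.leaf (nat_lit 699756))))) (BT.node (nat_lit 4678081) (BT.node (nat_lit 4678022) (BT.node (nat_lit 4677956) (BT.leaf (nat_lit 699756)) (BT.leaf (nat_lit 665768))) (BT.node (nat_lit 4678023) (BT.leaf (nat_lit 692700)) (BT.leaf (nat_lit 692700)))) (BT.node (nat_lit 4678085) (BT.node (nat_lit 4678084) (BT.leaf (nat_lit 680888)) (BT.leaf (nat_lit 680888))) (BT.node (nat_lit 4678088) (BT.leaf (nat_lit 680888)) (BT.leaf (nat_lit 680888)))))) (BT.node (nat_lit 4678343) (BT.node (nat_lit 4678216) (BT.node (nat_lit 4678211) (BT.node (nat_lit 4678148) (BT.leaf (nat_lit 723708)) (BT.leaf (nat_lit 723708))) (BT.node (nat_lit 4678212) (BT.leaf (nat_lit 706588)) (BT.leaf (nat_lit 706588)))) (BT.node (nat_lit 4678339) (BT.node (nat_lit 4678338) (BT.leaf (nat_lit 706588)) (BT.leaf (nat_lit 717160))) (BT.node (nat_lit 4678342) (BT.leaf (nat_lit 717160)) (BT.leaf (nat_lit 717160))))) (BT.node (nat_lit 4678471) (BT.node (nat_lit 4678469) (BT.node (nat_lit 4678344) (BT.leaf (nat_lit 717160)) (BT.leaf (nat_lit 717160))) (BT.node (nat_lit 4678470) (BT.leaf (nat_lit 675912)) (BT.leaf (nat_lit 675912)))) (BT.node (nat_lit 4678595) (BT.node (nat_lit 4678536) (BT.leaf (nat_lit 675912)) (BT.leaf (nat_lit 750496))) (BT.node (nat_lit 4678597) (BT.leaf (nat_lit 682488)) (BT.leaf (nat_lit 680660)))))))) (BT.node (nat_lit 4679815) (BT.node (nat_lit 4679044) (BT.node (nat_lit 4678915) (BT.node (nat_lit 4678724) (BT.node (nat_lit 4678664) (BT.node (nat_lit 4678660) (BT.leaf (nat_lit 763496)) (BT.leaf (nat_lit 695192))) (BT.node (nat_lit 4678722) (BT.leaf (nat_lit 695192)) (BT.leaf (nat_lit 665980)))) (BT.node (nat_lit 4678855) (BT.node (nat_lit 4678854) (BT.leaf (nat_lit 665980)) (BT.leaf (nat_lit 704272))) (BT.node (nat_lit 4678914) (BT.leaf (nat_lit 704272)) (BT.leaf (nat_lit 669108))))) (BT.node (nat_lit 4678979) (BT.node (nat_lit 4678919) (BT.node (nat_lit 4678918) (BT.leaf (nat_lit 669108)) (BT.leaf (nat_lit 669108))) (BT.node (nat_lit 4678977) (BT.leaf (nat_lit 669108)) (BT.leaf (nat_lit 756384)))) (BT.node (nat_lit 4679042) (BT.node (nat_lit 4678984) (BT.leaf (nat_lit 756384)) (BT.leaf (nat_lit 756384))) (BT.node (nat_lit 4679043) (BT.leaf (nat_lit 685996)) (BT.leaf (nat_lit 685996)))))) (BT.node (nat_lit 4679491) (BT.node (nat_lit 4679429) (BT.node (nat_lit 4679297) (BT.node (nat_lit 4679237) (BT.leaf (nat_lit 685996)) (BT.leaf (nat_lit 699096))) (BT.node (nat_lit 4679299) (BT.leaf (nat_lit 692068)) (BT.leaf (nat_lit 692068)))) (BT.node (nat_lit 4679431) (BT.node (nat_lit 4679430) (BT.leaf (nat_lit 723608)) (BT.leaf (nat_lit 716780))) (BT.node (nat_lit 4679489) (BT.leaf (nat_lit 716780)) (BT.leaf (nat_lit 716796))))) (BT.node (nat_lit 4679617) (BT.node (nat_lit 4679493) (BT.node (nat_lit 4679492) (BT.leaf (nat_lit 716796)) (BT.leaf (nat_lit 716796))) (BT.node (nat_lit 4679496) (BT.leaf (nat_lit 716796)) (BT.leaf (nat_lit 716796)))) (BT.node (nat_lit 4679621) (BT.node (nat_lit 4679620) (BT.leaf (nat_lit 680900)) (BT.leaf (nat_lit 711420))) (BT.node (nat_lit 4679814) (BT.leaf (nat_lit 680900)) (BT.leaf (nat_lit 715752))))))) (BT.node (nat_lit 4680322) (BT.node (nat_lit 4680066) (BT.node (nat_lit 4679879) (BT.node (nat_lit 4679874) (BT.node (nat_lit 4679816) (BT.leaf (nat_lit 715752)) (BT.leaf (nat_lit 715752))) (BT.node (nat_lit 4679878) (BT.leaf (nat_lit 721816)) (BT.leaf (nat_lit 721816)))) (BT.node (nat_lit 4679941) (BT.node (nat_lit 4679937) (BT.leaf (nat_lit 721816)) (BT.leaf (nat_lit 687468))) (BT.node (nat_lit 4679944) (BT.leaf (nat_lit 687468)) (BT.leaf (nat_lit 687468))))) (BT.node (nat_lit 4680136) (BT.node (nat_lit 4680072) (BT.node (nat_lit 4680069) (BT.leaf (nat_lit 696000)) (BT.leaf (nat_lit 696000))) (BT.node (nat_lit 4680131) (BT.leaf (nat_lit 777604)) (BT.leaf (nat_lit 777608)))) (BT.node (nat_lit 4680195) (BT.node (nat_lit 4680194) (BT.leaf (nat_lit 777608)) (BT.leaf (nat_lit 715044))) (BT.node (nat_lit 4680196) (BT.leaf (nat_lit 715044)) (BT.leaf (nat_lit 715044)))))) (BT.node (nat_lit 4680451) (BT.node (nat_lit 4680386) (BT.node (nat_lit 4680326) (BT.node (nat_lit 4680325) (BT.leaf (nat_lit 684532)) (BT.leaf (nat_lit 684532))) (BT.node (nat_lit 4680327) (BT.leaf (nat_lit 684532)) (BT.leaf (nat_lit 684532)))) (BT.node (nat_lit 4680389) (BT.node (nat_lit 4680387) (BT.leaf (nat_lit 681448)) (BT.leaf (nat_lit 681448))) (BT.node (nat_lit 4680450) (BT.leaf (nat_lit 681448)) (BT.leaf (nat_lit 666904))))) (BT.node (nat_lit 4680648) (BT.node (nat_lit 4680453) (BT.node (nat_lit 4680452) (BT.leaf (nat_lit 666904)) (BT.leaf (nat_lit 666904))) (BT.node (nat_lit 4680642) (BT.leaf (nat_lit 666904)) (BT.leaf (nat_lit 684888)))) (BT.node (nat_lit 4680897) (BT.node (nat_lit 4680712) (BT.leaf (nat_lit 684888)) (BT.leaf (nat_lit 680344))) (BT.node (nat_lit 4680899) (BT.leaf (nat_lit 678100)) (BT.leaf (nat_lit 678100)))))))))))) (BT.node (nat_lit 4698818) (BT.node (nat_lit 4689729) (BT.node (nat_lit 4685062) (BT.node (nat_lit 4682628) (BT.node (nat_lit 4681672) (BT.node (nat_lit 4681217) (BT.node (nat_lit 4681090) (BT.node (nat_lit 4680964) (BT.node (nat_lit 4680904) (BT.node (nat_lit 4680901) (BT.leaf (nat_lit 678100)) (BT.leaf (nat_lit 678100))) (BT.node (nat_lit 4680961) (BT.leaf (nat_lit 678100)) (BT.leaf (nat_lit 680356)))) (BT.node (nat_lit 4681028) (BT.node (nat_lit 4680968) (BT.leaf (nat_lit 698416)) (BT.leaf (nat_lit 680356))) (BT.node (nat_lit 4681029) (BT.leaf (nat_lit 665796)) (BT.leaf (nat_lit 665796))))) (BT.node (nat_lit 4681155) (BT.node (nat_lit 4681096) (BT.node (nat_lit 4681091) (BT.leaf (nat_lit 680908)) (BT.leaf (nat_lit 680908))) (BT.node (nat_lit 4681154) (BT.leaf (nat_lit 680908)) (BT.leaf (nat_lit 715448)))) (BT.node (nat_lit 4681158) (BT.node (nat_lit 4681157) (BT.leaf (nat_lit 715448)) (BT.leaf (nat_lit 715448))) (BT.node (nat_lit 4681160) (BT.leaf (nat_lit 715448)) (BT.leaf (nat_lit 715448)))))) (BT.node (nat_lit 4681352) (BT.node (nat_lit 4681224) (BT.node (nat_lit 4681219) (BT.node (nat_lit 4681218) (BT.leaf (nat_lit 685284)) (BT.leaf (nat_lit 685284))) (BT.node (nat_lit 4681220) (BT.leaf (nat_lit 685284)) (BT.leaf (nat_lit 685284)))) (BT.node (nat_lit 4681346) (BT.node (nat_lit 4681345) (BT.leaf (nat_lit 685284)) (BT.leaf (nat_lit 710012))) (BT.node (nat_lit 4681347) (BT.leaf (nat_lit 710012)) (BT.leaf (nat_lit 710012))))) (BT.node (nat_lit 4681540) (BT.node (nat_lit 4681410) (BT.node (nat_lit 4681409) (BT.leaf (nat_lit 710012)) (BT.leaf (nat_lit 692480))) (BT.node (nat_lit 4681416) (BT.leaf (nat_lit 692480)) (BT.leaf (nat_lit 692480)))) (BT.node (nat_lit 4681665) (BT.node (nat_lit 4681608) (BT.leaf (nat_lit 669824)) (BT.leaf (nat_lit 771684))) (BT.node (nat_lit 4681669) (BT.leaf (nat_lit 715812)) (BT.leaf (nat_lit 715812))))))) (BT.node (nat_lit 4682055) (BT.node (nat_lit 4681928) (BT.node (nat_lit 4681858) (BT.node (nat_lit 4681733) (BT.node (nat_lit 4681732) (BT.leaf (nat_lit 715812)) (BT.leaf (nat_lit 705100))) (BT.node (nat_lit 4681797) (BT.leaf (nat_lit 760060)) (BT.leaf (nat_lit 711916)))) (BT.node (nat_lit 4681861) (BT.node (nat_lit 4681859) (BT.leaf (nat_lit 683892)) (BT.leaf (nat_lit 683892))) (BT.node (nat_lit 4681864) (BT.leaf (nat_lit 683892)) (BT.leaf (nat_lit 683892))))) (BT.node (nat_lit 4681992) (BT.node (nat_lit 4681990) (BT.node (nat_lit 4681989) (BT.leaf (nat_lit 704612)) (BT.leaf (nat_lit 719936))) (BT.node (nat_lit 4681991) (BT.leaf (nat_lit 719936)) (BT.leaf (nat_lit 719936)))) (BT.node (nat_lit 4682050) (BT.node (nat_lit 4682049) (BT.leaf (nat_lit 719936)) (BT.leaf (nat_lit 665648))) (BT.node (nat_lit 4682051) (BT.leaf (nat_lit 665648)) (BT.leaf (nat_lit 665648)))))) (BT.node (nat_lit 4682307) (BT.node (nat_lit 4682243) (BT.node (nat_lit 4682116) (BT.node (nat_lit 4682056) (BT.leaf (nat_lit 665648)) (BT.leaf (nat_lit 665648))) (BT.node (nat_lit 4682242) (BT.leaf (nat_lit 692876)) (BT.leaf (nat_lit 717780)))) (BT.node (nat_lit 4682247) (BT.node (nat_lit 4682246) (BT.leaf (nat_lit 717780)) (BT.leaf (nat_lit 717780))) (BT.node (nat_lit 4682248) (BT.leaf (nat_lit 717780)) (BT.leaf (nat_lit 717780))))) (BT.node (nat_lit 4682497) (BT.node (nat_lit 4682370) (BT.node (nat_lit 4682312) (BT.leaf (nat_lit 701176)) (BT.leaf (nat_lit 701176))) (BT.node (nat_lit 4682374) (BT.leaf (nat_lit 700856)) (BT.leaf (nat_lit 700856)))) (BT.node (nat_lit 4682625) (BT.node (nat_lit 4682561) (BT.leaf (nat_lit 667516)) (BT.leaf (nat_lit 685612))) (BT.node (nat_lit 4682626) (BT.leaf (nat_lit 767264)) (BT.leaf (nat_lit 767264)))))))) (BT.node (nat_lit 4683717) (BT.node (nat_lit 4683207) (BT.node (nat_lit 4682886) (BT.node (nat_lit 4682693) (BT.node (nat_lit 4682690) (BT.node (nat_lit 4682689) (BT.leaf (nat_lit 704404)) (BT.leaf (nat_lit 683620))) (BT.node (nat_lit 4682692) (BT.leaf (nat_lit 683620)) (BT.leaf (nat_lit 683620)))) (BT.node (nat_lit 4682824) (BT.node (nat_lit 4682817) (BT.leaf (nat_lit 683620)) (BT.leaf (nat_lit 667520))) (BT.node (nat_lit 4682883) (BT.leaf (nat_lit 667520)) (BT.leaf (nat_lit 709152))))) (BT.node (nat_lit 4683140) (BT.node (nat_lit 4682888) (BT.node (nat_lit 4682887) (BT.leaf (nat_lit 709152)) (BT.leaf (nat_lit 709152))) (BT.node (nat_lit 4683137) (BT.leaf (nat_lit 709152)) (BT.leaf (nat_lit 697740)))) (BT.node (nat_lit 4683203) (BT.node (nat_lit 4683202) (BT.leaf (nat_lit 710520)) (BT.leaf (nat_lit 710516))) (BT.node (nat_lit 4683206) (BT.leaf (nat_lit 710516)) (BT.leaf (nat_lit 710516)))))) (BT.node (nat_lit 4683523) (BT.node (nat_lit 4683458) (BT.node (nat_lit 4683265) (BT.node (nat_lit 4683208) (BT.leaf (nat_lit 710516)) (BT.leaf (nat_lit 791096))) (BT.node (nat_lit 4683268) (BT.leaf (nat_lit 676736)) (BT.leaf (nat_lit 676736)))) (BT.node (nat_lit 4683462) (BT.node (nat_lit 4683459) (BT.leaf (nat_lit 685004)) (BT.leaf (nat_lit 685004))) (BT.node (nat_lit 4683463) (BT.leaf (nat_lit 685004)) (BT.leaf (nat_lit 685004))))) (BT.node (nat_lit 4683651) (BT.node (nat_lit 4683527) (BT.node (nat_lit 4683526) (BT.leaf (nat_lit 703244)) (BT.leaf (nat_lit 703244))) (BT.node (nat_lit 4683587) (BT.leaf (nat_lit 703244)) (BT.leaf (nat_lit 703272)))) (BT.node (nat_lit 4683714) (BT.node (nat_lit 4683713) (BT.leaf (nat_lit 704020)) (BT.leaf (nat_lit 675140))) (BT.node (nat_lit 4683715) (BT.leaf (nat_lit 675140)) (BT.leaf (nat_lit 675140))))))) (BT.node (nat_lit 4684423) (BT.node (nat_lit 4683846) (BT.node (nat_lit 4683784) (BT.node (nat_lit 4683719) (BT.node (nat_lit 4683718) (BT.leaf (nat_lit 675140)) (BT.leaf (nat_lit 675140))) (BT.node (nat_lit 4683781) (BT.leaf (nat_lit 675140)) (BT.leaf (nat_lit 669224)))) (BT.node (nat_lit 4683843) (BT.node (nat_lit 4683842) (BT.leaf (nat_lit 669224)) (BT.leaf (nat_lit 666200))) (BT.node (nat_lit 4683845) (BT.leaf (nat_lit 666200)) (BT.leaf (nat_lit 666200))))) (BT.node (nat_lit 4684097) (BT.node (nat_lit 4683848) (BT.node (nat_lit 4683847) (BT.leaf (nat_lit 666200)) (BT.leaf (nat_lit 666200))) (BT.node (nat_lit 4683909) (BT.leaf (nat_lit 666200)) (BT.leaf (nat_lit 675192)))) (BT.node (nat_lit 4684421) (BT.node (nat_lit 4684418) (BT.leaf (nat_lit 667340)) (BT.leaf (nat_lit 680772))) (BT.node (nat_lit 4684422) (BT.leaf (nat_lit 680772)) (BT.leaf (nat_lit 680772)))))) (BT.node (nat_lit 4684737) (BT.node (nat_lit 4684676) (BT.node (nat_lit 4684674) (BT.node (nat_lit 4684673) (BT.leaf (nat_lit 680772)) (BT.leaf (nat_lit 696040))) (BT.node (nat_lit 4684675) (BT.leaf (nat_lit 696040)) (BT.leaf (nat_lit 696040)))) (BT.node (nat_lit 4684679) (BT.node (nat_lit 4684678) (BT.leaf (nat_lit 776508)) (BT.leaf (nat_lit 696040))) (BT.node (nat_lit 4684680) (BT.leaf (nat_lit 696040)) (BT.leaf (nat_lit 692204))))) (BT.node (nat_lit 4684804) (BT.node (nat_lit 4684743) (BT.node (nat_lit 4684738) (BT.leaf (nat_lit 813624)) (BT.leaf (nat_lit 813624))) (BT.node (nat_lit 4684801) (BT.leaf (nat_lit 813624)) (BT.leaf (nat_lit 665124)))) (BT.node (nat_lit 4684808) (BT.node (nat_lit 4684806) (BT.leaf (nat_lit 673340)) (BT.leaf (nat_lit 665124))) (BT.node (nat_lit 4684996) (BT.leaf (nat_lit 673340)) (BT.leaf (nat_lit 696776))))))))) (BT.node (nat_lit 4686721) (BT.node (nat_lit 4686087) (BT.node (nat_lit 4685832) (BT.node (nat_lit 4685512) (BT.node (nat_lit 4685380) (BT.node (nat_lit 4685064) (BT.node (nat_lit 4685063) (BT.leaf (nat_lit 717364)) (BT.leaf (nat_lit 717364))) (BT.node (nat_lit 4685124) (BT.leaf (nat_lit 717364)) (BT.leaf (nat_lit 711640)))) (BT.node (nat_lit 4685508) (BT.node (nat_lit 4685507) (BT.leaf (nat_lit 673408)) (BT.leaf (nat_lit 693864))) (BT.node (nat_lit 4685510) (BT.leaf (nat_lit 693864)) (BT.leaf (nat_lit 681496))))) (BT.node (nat_lit 4685576) (BT.node (nat_lit 4685572) (BT.node (nat_lit 4685570) (BT.leaf (nat_lit 693864)) (BT.leaf (nat_lit 719640))) (BT.node (nat_lit 4685575) (BT.leaf (nat_lit 771896)) (BT.leaf (nat_lit 719640)))) (BT.node (nat_lit 4685768) (BT.node (nat_lit 4685767) (BT.leaf (nat_lit 719640)) (BT.leaf (nat_lit 704800))) (BT.node (nat_lit 4685825) (BT.leaf (nat_lit 704800)) (BT.leaf (nat_lit 674320)))))) (BT.node (nat_lit 4686018) (BT.node (nat_lit 4685893) (BT.node (nat_lit 4685890) (BT.node (nat_lit 4685889) (BT.leaf (nat_lit 674320)) (BT.leaf (nat_lit 679968))) (BT.node (nat_lit 4685891) (BT.leaf (nat_lit 695208)) (BT.leaf (nat_lit 695208)))) (BT.node (nat_lit 4685895) (BT.node (nat_lit 4685894) (BT.leaf (nat_lit 679968)) (BT.leaf (nat_lit 695208))) (BT.node (nat_lit 4686017) (BT.leaf (nat_lit 695208)) (BT.leaf (nat_lit 672052))))) (BT.node (nat_lit 4686024) (BT.node (nat_lit 4686020) (BT.node (nat_lit 4686019) (BT.leaf (nat_lit 672052)) (BT.leaf (nat_lit 672052))) (BT.node (nat_lit 4686021) (BT.leaf (nat_lit 672052)) (BT.leaf (nat_lit 672052)))) (BT.node (nat_lit 4686085) (BT.node (nat_lit 4686081) (BT.leaf (nat_lit 672052)) (BT.leaf (nat_lit 693124))) (BT.node (nat_lit 4686086) (BT.leaf (nat_lit 690084)) (BT.leaf (nat_lit 693124))))))) (BT.node (nat_lit 4686405) (BT.node (nat_lit 4686275) (BT.node (nat_lit 4686212) (BT.node (nat_lit 4686145) (BT.node (nat_lit 4686088) (BT.leaf (nat_lit 693124)) (BT.leaf (nat_lit 693124))) (BT.node (nat_lit 4686148) (BT.leaf (nat_lit 669116)) (BT.leaf (nat_lit 669116)))) (BT.node (nat_lit 4686273) (BT.node (nat_lit 4686216) (BT.leaf (nat_lit 697684)) (BT.leaf (nat_lit 680540))) (BT.node (nat_lit 4686274) (BT.leaf (nat_lit 692856)) (BT.leaf (nat_lit 692856))))) (BT.node (nat_lit 4686280) (BT.node (nat_lit 4686278) (BT.node (nat_lit 4686277) (BT.leaf (nat_lit 692856)) (BT.leaf (nat_lit 692856))) (BT.node (nat_lit 4686279) (BT.leaf (nat_lit 692856)) (BT.leaf (nat_lit 692856)))) (BT.node (nat_lit 4686339) (BT.node (nat_lit 4686338) (BT.leaf (nat_lit 692856)) (BT.leaf (nat_lit 674324))) (BT.node (nat_lit 4686401) (BT.leaf (nat_lit 674324)) (BT.leaf (nat_lit 673352)))))) (BT.node (nat_lit 4686593) (BT.node (nat_lit 4686531) (BT.node (nat_lit 4686469) (BT.node (nat_lit 4686408) (BT.leaf (nat_lit 673352)) (BT.leaf (nat_lit 673352))) (BT.node (nat_lit 4686530) (BT.leaf (nat_lit 693116)) (BT.leaf (nat_lit 722648)))) (BT.node (nat_lit 4686534) (BT.node (nat_lit 4686533) (BT.leaf (nat_lit 722648)) (BT.leaf (nat_lit 689876))) (BT.node (nat_lit 4686535) (BT.leaf (nat_lit 722648)) (BT.leaf (nat_lit 722648))))) (BT.node (nat_lit 4686598) (BT.node (nat_lit 4686595) (BT.node (nat_lit 4686594) (BT.leaf (nat_lit 703120)) (BT.leaf (nat_lit 703120))) (BT.node (nat_lit 4686596) (BT.leaf (nat_lit 703120)) (BT.leaf (nat_lit 703120)))) (BT.node (nat_lit 4686600) (BT.node (nat_lit 4686599) (BT.leaf (nat_lit 703120)) (BT.leaf (nat_lit 703120))) (BT.node (nat_lit 4686659) (BT.leaf (nat_lit 703120)) (BT.leaf (nat_lit 687348)))))))) (BT.node (nat_lit 4688197) (BT.node (nat_lit 4687044) (BT.node (nat_lit 4686789) (BT.node (nat_lit 4686727) (BT.node (nat_lit 4686724) (BT.node (nat_lit 4686723) (BT.leaf (nat_lit 678160)) (BT.leaf (nat_lit 678160))) (BT.node (nat_lit 4686726) (BT.leaf (nat_lit 759772)) (BT.leaf (nat_lit 678160)))) (BT.node (nat_lit 4686785) (BT.node (nat_lit 4686728) (BT.leaf (nat_lit 678160)) (BT.leaf (nat_lit 678160))) (BT.node (nat_lit 4686787) (BT.leaf (nat_lit 678176)) (BT.leaf (nat_lit 687364))))) (BT.node (nat_lit 4686853) (BT.node (nat_lit 4686849) (BT.node (nat_lit 4686792) (BT.leaf (nat_lit 678176)) (BT.leaf (nat_lit 687364))) (BT.node (nat_lit 4686851) (BT.leaf (nat_lit 689984)) (BT.leaf (nat_lit 689984)))) (BT.node (nat_lit 4686856) (BT.node (nat_lit 4686855) (BT.leaf (nat_lit 718568)) (BT.leaf (nat_lit 718568))) (BT.node (nat_lit 4686981) (BT.leaf (nat_lit 689984)) (BT.leaf (nat_lit 700884)))))) (BT.node (nat_lit 4687491) (BT.node (nat_lit 4687363) (BT.node (nat_lit 4687234) (BT.node (nat_lit 4687172) (BT.leaf (nat_lit 674100)) (BT.leaf (nat_lit 672868))) (BT.node (nat_lit 4687236) (BT.leaf (nat_lit 681308)) (BT.leaf (nat_lit 710808)))) (BT.node (nat_lit 4687430) (BT.node (nat_lit 4687365) (BT.leaf (nat_lit 683136)) (BT.leaf (nat_lit 683136))) (BT.node (nat_lit 4687490) (BT.leaf (nat_lit 682996)) (BT.leaf (nat_lit 711992))))) (BT.node (nat_lit 4687749) (BT.node (nat_lit 4687495) (BT.node (nat_lit 4687494) (BT.leaf (nat_lit 711992)) (BT.leaf (nat_lit 679920))) (BT.node (nat_lit 4687685) (BT.leaf (nat_lit 679920)) (BT.leaf (nat_lit 690908)))) (BT.node (nat_lit 4687878) (BT.node (nat_lit 4687875) (BT.leaf (nat_lit 717772)) (BT.leaf (nat_lit 690092))) (BT.node (nat_lit 4688067) (BT.leaf (nat_lit 690092)) (BT.leaf (nat_lit 691580))))))) (BT.node (nat_lit 4688769) (BT.node (nat_lit 4688520) (BT.node (nat_lit 4688514) (BT.node (nat_lit 4688261) (BT.node (nat_lit 4688259) (BT.leaf (nat_lit 675364)) (BT.leaf (nat_lit 756888))) (BT.node (nat_lit 4688262) (BT.leaf (nat_lit 713836)) (BT.leaf (nat_lit 756888)))) (BT.node (nat_lit 4688516) (BT.node (nat_lit 4688515) (BT.leaf (nat_lit 684968)) (BT.leaf (nat_lit 684968))) (BT.node (nat_lit 4688517) (BT.leaf (nat_lit 684968)) (BT.leaf (nat_lit 684968))))) (BT.node (nat_lit 4688584) (BT.node (nat_lit 4688580) (BT.node (nat_lit 4688577) (BT.leaf (nat_lit 684968)) (BT.leaf (nat_lit 668956))) (BT.node (nat_lit 4688581) (BT.leaf (nat_lit 668956)) (BT.leaf (nat_lit 668956)))) (BT.node (nat_lit 4688643) (BT.node (nat_lit 4688642) (BT.leaf (nat_lit 668956)) (BT.leaf (nat_lit 709428))) (BT.node (nat_lit 4688645) (BT.leaf (nat_lit 709428)) (BT.leaf (nat_lit 670416)))))) (BT.node (nat_lit 4688968) (BT.node (nat_lit 4688902) (BT.node (nat_lit 4688898) (BT.node (nat_lit 4688770) (BT.leaf (nat_lit 704888)) (BT.leaf (nat_lit 704888))) (BT.node (nat_lit 4688900) (BT.leaf (nat_lit 677360)) (BT.leaf (nat_lit 677360)))) (BT.node (nat_lit 4688965) (BT.node (nat_lit 4688903) (BT.leaf (nat_lit 677360)) (BT.leaf (nat_lit 694932))) (BT.node (nat_lit 4688966) (BT.leaf (nat_lit 716904)) (BT.leaf (nat_lit 716904))))) (BT.node (nat_lit 4689221) (BT.node (nat_lit 4689160) (BT.node (nat_lit 4689156) (BT.leaf (nat_lit 716904)) (BT.leaf (nat_lit 702896))) (BT.node (nat_lit 4689220) (BT.leaf (nat_lit 761668)) (BT.leaf (nat_lit 709944)))) (BT.node (nat_lit 4689540) (BT.node (nat_lit 4689412) (BT.leaf (nat_lit 709944)) (BT.leaf (nat_lit 695120))) (BT.node (nat_lit 4689544) (BT.leaf (nat_lit 672548)) (BT.leaf (nat_lit 672548)))))))))) (BT.node (nat_lit 4693639) (BT.node (nat_lit 4691586) (BT.node (nat_lit 4690689) (BT.node (nat_lit 4690178) (BT.node (nat_lit 4689928) (BT.node (nat_lit 4689860) (BT.node (nat_lit 4689733) (BT.node (nat_lit 4689730) (BT.leaf (nat_lit 696240)) (BT.leaf (nat_lit 696240))) (BT.node (nat_lit 4689734) (BT.leaf (nat_lit 696240)) (BT.leaf (nat_lit 696240)))) (BT.node (nat_lit 4689924) (BT.node (nat_lit 4689923) (BT.leaf (nat_lit 692196)) (BT.leaf (nat_lit 681540))) (BT.node (nat_lit 4689925) (BT.leaf (nat_lit 711620)) (BT.leaf (nat_lit 681540))))) (BT.node (nat_lit 4690056) (BT.node (nat_lit 4689987) (BT.node (nat_lit 4689986) (BT.leaf (nat_lit 711620)) (BT.leaf (nat_lit 681560))) (BT.node (nat_lit 4690049) (BT.leaf (nat_lit 681560)) (BT.leaf (nat_lit 763280)))) (BT.node (nat_lit 4690114) (BT.node (nat_lit 4690113) (BT.leaf (nat_lit 763280)) (BT.leaf (nat_lit 679996))) (BT.node (nat_lit 4690120) (BT.leaf (nat_lit 679996)) (BT.leaf (nat_lit 679996)))))) (BT.node (nat_lit 4690373) (BT.node (nat_lit 4690245) (BT.node (nat_lit 4690243) (BT.node (nat_lit 4690241) (BT.leaf (nat_lit 683028)) (BT.leaf (nat_lit 694500))) (BT.node (nat_lit 4690244) (BT.leaf (nat_lit 694500)) (BT.leaf (nat_lit 709560)))) (BT.node (nat_lit 4690371) (BT.node (nat_lit 4690307) (BT.leaf (nat_lit 709560)) (BT.leaf (nat_lit 694508))) (BT.node (nat_lit 4690372) (BT.leaf (nat_lit 692456)) (BT.leaf (nat_lit 695204))))) (BT.node (nat_lit 4690502) (BT.node (nat_lit 4690498) (BT.node (nat_lit 4690376) (BT.leaf (nat_lit 692456)) (BT.leaf (nat_lit 692456))) (BT.node (nat_lit 4690499) (BT.leaf (nat_lit 694416)) (BT.leaf (nat_lit 694416)))) (BT.node (nat_lit 4690504) (BT.node (nat_lit 4690503) (BT.leaf (nat_lit 694416)) (BT.leaf (nat_lit 694416))) (BT.node (nat_lit 4690628) (BT.leaf (nat_lit 694416)) (BT.leaf (nat_lit 718084))))))) (BT.node (nat_lit 4691073) (BT.node (nat_lit 4690754) (BT.node (nat_lit 4690694) (BT.node (nat_lit 4690691) (BT.node (nat_lit 4690690) (BT.leaf (nat_lit 697312)) (BT.leaf (nat_lit 697312))) (BT.node (nat_lit 4690692) (BT.leaf (nat_lit 697312)) (BT.leaf (nat_lit 697312)))) (BT.node (nat_lit 4690696) (BT.node (nat_lit 4690695) (BT.leaf (nat_lit 697312)) (BT.leaf (nat_lit 697312))) (BT.node (nat_lit 4690753) (BT.leaf (nat_lit 697312)) (BT.leaf (nat_lit 701392))))) (BT.node (nat_lit 4690759) (BT.node (nat_lit 4690756) (BT.node (nat_lit 4690755) (BT.leaf (nat_lit 701392)) (BT.leaf (nat_lit 701392))) (BT.node (nat_lit 4690758) (BT.leaf (nat_lit 701392)) (BT.leaf (nat_lit 701392)))) (BT.node (nat_lit 4690949) (BT.node (nat_lit 4690760) (BT.leaf (nat_lit 701392)) (BT.leaf (nat_lit 701392))) (BT.node (nat_lit 4691013) (BT.leaf (nat_lit 758260)) (BT.leaf (nat_lit 758264)))))) (BT.node (nat_lit 4691396) (BT.node (nat_lit 4691269) (BT.node (nat_lit 4691204) (BT.node (nat_lit 4691077) (BT.leaf (nat_lit 722628)) (BT.leaf (nat_lit 722628))) (BT.node (nat_lit 4691268) (BT.leaf (nat_lit 675012)) (BT.leaf (nat_lit 683400)))) (BT.node (nat_lit 4691332) (BT.node (nat_lit 4691329) (BT.leaf (nat_lit 688336)) (BT.leaf (nat_lit 676900))) (BT.node (nat_lit 4691333) (BT.leaf (nat_lit 676900)) (BT.leaf (nat_lit 708140))))) (BT.node (nat_lit 4691522) (BT.node (nat_lit 4691464) (BT.node (nat_lit 4691458) (BT.leaf (nat_lit 760580)) (BT.leaf (nat_lit 688904))) (BT.node (nat_lit 4691521) (BT.leaf (nat_lit 699080)) (BT.leaf (nat_lit 707916)))) (BT.node (nat_lit 4691525) (BT.node (nat_lit 4691523) (BT.leaf (nat_lit 707916)) (BT.leaf (nat_lit 707916))) (BT.node (nat_lit 4691585) (BT.leaf (nat_lit 707916)) (BT.leaf (nat_lit 692352)))))))) (BT.node (nat_lit 4692487) (BT.node (nat_lit 4691912) (BT.node (nat_lit 4691654) (BT.node (nat_lit 4691592) (BT.node (nat_lit 4691588) (BT.node (nat_lit 4691587) (BT.leaf (nat_lit 688956)) (BT.leaf (nat_lit 688956))) (BT.node (nat_lit 4691589) (BT.leaf (nat_lit 692352)) (BT.leaf (nat_lit 688956)))) (BT.node (nat_lit 4691650) (BT.node (nat_lit 4691649) (BT.leaf (nat_lit 692352)) (BT.leaf (nat_lit 688924))) (BT.node (nat_lit 4691651) (BT.leaf (nat_lit 688924)) (BT.leaf (nat_lit 688924))))) (BT.node (nat_lit 4691714) (BT.node (nat_lit 4691656) (BT.node (nat_lit 4691655) (BT.leaf (nat_lit 688924)) (BT.leaf (nat_lit 688924))) (BT.node (nat_lit 4691713) (BT.leaf (nat_lit 692360)) (BT.leaf (nat_lit 803840)))) (BT.node (nat_lit 4691777) (BT.node (nat_lit 4691715) (BT.leaf (nat_lit 803840)) (BT.leaf (nat_lit 803840))) (BT.node (nat_lit 4691905) (BT.leaf (nat_lit 682236)) (BT.leaf (nat_lit 771088)))))) (BT.node (nat_lit 4692293) (BT.node (nat_lit 4692098) (BT.node (nat_lit 4692036) (BT.node (nat_lit 4692035) (BT.leaf (nat_lit 771088)) (BT.leaf (nat_lit 673656))) (BT.node (nat_lit 4692037) (BT.leaf (nat_lit 673656)) (BT.leaf (nat_lit 673656)))) (BT.node (nat_lit 4692290) (BT.node (nat_lit 4692099) (BT.leaf (nat_lit 696208)) (BT.leaf (nat_lit 696208))) (BT.node (nat_lit 4692291) (BT.leaf (nat_lit 675680)) (BT.leaf (nat_lit 675680))))) (BT.node (nat_lit 4692424) (BT.node (nat_lit 4692295) (BT.node (nat_lit 4692294) (BT.leaf (nat_lit 675680)) (BT.leaf (nat_lit 675680))) (BT.node (nat_lit 4692417) (BT.leaf (nat_lit 675680)) (BT.leaf (nat_lit 678080)))) (BT.node (nat_lit 4692485) (BT.node (nat_lit 4692481) (BT.leaf (nat_lit 712428)) (BT.leaf (nat_lit 707152))) (BT.node (nat_lit 4692486) (BT.leaf (nat_lit 712420)) (BT.leaf (nat_lit 712420))))))) (BT.node (nat_lit 4692867) (BT.node (nat_lit 4692674) (BT.node (nat_lit 4692609) (BT.node (nat_lit 4692551) (BT.node (nat_lit 4692550) (BT.leaf (nat_lit 712420)) (BT.leaf (nat_lit 685124))) (BT.node (nat_lit 4692552) (BT.leaf (nat_lit 685124)) (BT.leaf (nat_lit 685124)))) (BT.node (nat_lit 4692616) (BT.node (nat_lit 4692613) (BT.leaf (nat_lit 681364)) (BT.leaf (nat_lit 681364))) (BT.node (nat_lit 4692673) (BT.leaf (nat_lit 681364)) (BT.leaf (nat_lit 709496))))) (BT.node (nat_lit 4692742) (BT.node (nat_lit 4692677) (BT.node (nat_lit 4692675) (BT.leaf (nat_lit 709496)) (BT.leaf (nat_lit 709496))) (BT.node (nat_lit 4692741) (BT.leaf (nat_lit 709496)) (BT.leaf (nat_lit 702788)))) (BT.node (nat_lit 4692865) (BT.node (nat_lit 4692743) (BT.leaf (nat_lit 702788)) (BT.leaf (nat_lit 702788))) (BT.node (nat_lit 4692866) (BT.leaf (nat_lit 720412)) (BT.leaf (nat_lit 720412)))))) (BT.node (nat_lit 4693185) (BT.node (nat_lit 4692929) (BT.node (nat_lit 4692870) (BT.node (nat_lit 4692868) (BT.leaf (nat_lit 720412)) (BT.leaf (nat_lit 720412))) (BT.node (nat_lit 4692871) (BT.leaf (nat_lit 720412)) (BT.leaf (nat_lit 720412)))) (BT.node (nat_lit 4692933) (BT.node (nat_lit 4692932) (BT.leaf (nat_lit 688536)) (BT.leaf (nat_lit 712184))) (BT.node (nat_lit 4693121) (BT.leaf (nat_lit 688536)) (BT.leaf (nat_lit 683740))))) (BT.node (nat_lit 4693377) (BT.node (nat_lit 4693255) (BT.node (nat_lit 4693254) (BT.leaf (nat_lit 683680)) (BT.leaf (nat_lit 776216))) (BT.node (nat_lit 4693256) (BT.leaf (nat_lit 776216)) (BT.leaf (nat_lit 696820)))) (BT.node (nat_lit 4693637) (BT.node (nat_lit 4693382) (BT.leaf (nat_lit 706368)) (BT.leaf (nat_lit 706368))) (BT.node (nat_lit 4693638) (BT.leaf (nat_lit 687700)) (BT.leaf (nat_lit 687700))))))))) (BT.node (nat_lit 4696132) (BT.node (nat_lit 4694403) (BT.node (nat_lit 4694024) (BT.node (nat_lit 4693895) (BT.node (nat_lit 4693765) (BT.node (nat_lit 4693763) (BT.node (nat_lit 4693762) (BT.leaf (nat_lit 687700)) (BT.leaf (nat_lit 687668))) (BT.node (nat_lit 4693764) (BT.leaf (nat_lit 687668)) (BT.leaf (nat_lit 687668)))) (BT.node (nat_lit 4693891) (BT.node (nat_lit 4693890) (BT.leaf (nat_lit 687668)) (BT.leaf (nat_lit 687672))) (BT.node (nat_lit 4693894) (BT.leaf (nat_lit 687672)) (BT.leaf (nat_lit 687672))))) (BT.node (nat_lit 4693959) (BT.node (nat_lit 4693955) (BT.node (nat_lit 4693896) (BT.leaf (nat_lit 687672)) (BT.leaf (nat_lit 687672))) (BT.node (nat_lit 4693958) (BT.leaf (nat_lit 702376)) (BT.leaf (nat_lit 702376)))) (BT.node (nat_lit 4694019) (BT.node (nat_lit 4694018) (BT.leaf (nat_lit 702376)) (BT.leaf (nat_lit 720932))) (BT.node (nat_lit 4694020) (BT.leaf (nat_lit 720932)) (BT.leaf (nat_lit 720932)))))) (BT.node (nat_lit 4694149) (BT.node (nat_lit 4694084) (BT.node (nat_lit 4694082) (BT.node (nat_lit 4694081) (BT.leaf (nat_lit 720932)) (BT.leaf (nat_lit 672848))) (BT.node (nat_lit 4694083) (BT.leaf (nat_lit 672848)) (BT.leaf (nat_lit 672848)))) (BT.node (nat_lit 4694147) (BT.node (nat_lit 4694146) (BT.leaf (nat_lit 672848)) (BT.leaf (nat_lit 709204))) (BT.node (nat_lit 4694148) (BT.leaf (nat_lit 709200)) (BT.leaf (nat_lit 709200))))) (BT.node (nat_lit 4694279) (BT.node (nat_lit 4694274) (BT.node (nat_lit 4694211) (BT.leaf (nat_lit 709204)) (BT.leaf (nat_lit 775252))) (BT.node (nat_lit 4694278) (BT.leaf (nat_lit 775256)) (BT.leaf (nat_lit 775256)))) (BT.node (nat_lit 4694401) (BT.node (nat_lit 4694280) (BT.leaf (nat_lit 775256)) (BT.leaf (nat_lit 775256))) (BT.node (nat_lit 4694402) (BT.leaf (nat_lit 694268)) (BT.leaf (nat_lit 694268))))))) (BT.node (nat_lit 4695170) (BT.node (nat_lit 4694728) (BT.node (nat_lit 4694595) (BT.node (nat_lit 4694593) (BT.node (nat_lit 4694405) (BT.leaf (nat_lit 694268)) (BT.leaf (nat_lit 694268))) (BT.node (nat_lit 4694594) (BT.leaf (nat_lit 796072)) (BT.leaf (nat_lit 796072)))) (BT.node (nat_lit 4694597) (BT.node (nat_lit 4694596) (BT.leaf (nat_lit 796072)) (BT.leaf (nat_lit 699212))) (BT.node (nat_lit 4694721) (BT.leaf (nat_lit 699212)) (BT.leaf (nat_lit 705008))))) (BT.node (nat_lit 4694918) (BT.node (nat_lit 4694914) (BT.node (nat_lit 4694790) (BT.leaf (nat_lit 705008)) (BT.leaf (nat_lit 675844))) (BT.node (nat_lit 4694915) (BT.leaf (nat_lit 710916)) (BT.leaf (nat_lit 710916)))) (BT.node (nat_lit 4695046) (BT.node (nat_lit 4694919) (BT.leaf (nat_lit 710916)) (BT.leaf (nat_lit 710916))) (BT.node (nat_lit 4695107) (BT.leaf (nat_lit 681088)) (BT.leaf (nat_lit 756540)))))) (BT.node (nat_lit 4695749) (BT.node (nat_lit 4695364) (BT.node (nat_lit 4695174) (BT.node (nat_lit 4695171) (BT.leaf (nat_lit 693968)) (BT.leaf (nat_lit 693968))) (BT.node (nat_lit 4695175) (BT.leaf (nat_lit 693968)) (BT.leaf (nat_lit 693968)))) (BT.node (nat_lit 4695622) (BT.node (nat_lit 4695557) (BT.leaf (nat_lit 714424)) (BT.leaf (nat_lit 777272))) (BT.node (nat_lit 4695747) (BT.leaf (nat_lit 722184)) (BT.leaf (nat_lit 722176))))) (BT.node (nat_lit 4695879) (BT.node (nat_lit 4695877) (BT.node (nat_lit 4695875) (BT.leaf (nat_lit 719452)) (BT.leaf (nat_lit 684372))) (BT.node (nat_lit 4695878) (BT.leaf (nat_lit 684372)) (BT.leaf (nat_lit 684372)))) (BT.node (nat_lit 4695944) (BT.node (nat_lit 4695880) (BT.leaf (nat_lit 684372)) (BT.leaf (nat_lit 684372))) (BT.node (nat_lit 4696005) (BT.leaf (nat_lit 675284)) (BT.leaf (nat_lit 721984)))))))) (BT.node (nat_lit 4697159) (BT.node (nat_lit 4696833) (BT.node (nat_lit 4696513) (BT.node (nat_lit 4696453) (BT.node (nat_lit 4696264) (BT.node (nat_lit 4696260) (BT.leaf (nat_lit 679528)) (BT.leaf (nat_lit 700960))) (BT.node (nat_lit 4696449) (BT.leaf (nat_lit 700960)) (BT.leaf (nat_lit 722196)))) (BT.node (nat_lit 4696455) (BT.node (nat_lit 4696454) (BT.leaf (nat_lit 722196)) (BT.leaf (nat_lit 722196))) (BT.node (nat_lit 4696456) (BT.leaf (nat_lit 722196)) (BT.leaf (nat_lit 722196))))) (BT.node (nat_lit 4696581) (BT.node (nat_lit 4696579) (BT.node (nat_lit 4696520) (BT.leaf (nat_lit 700980)) (BT.leaf (nat_lit 700980))) (BT.node (nat_lit 4696580) (BT.leaf (nat_lit 699448)) (BT.leaf (nat_lit 699448)))) (BT.node (nat_lit 4696708) (BT.node (nat_lit 4696705) (BT.leaf (nat_lit 699448)) (BT.leaf (nat_lit 667912))) (BT.node (nat_lit 4696712) (BT.leaf (nat_lit 667912)) (BT.leaf (nat_lit 667912)))))) (BT.node (nat_lit 4697029) (BT.node (nat_lit 4696962) (BT.node (nat_lit 4696900) (BT.node (nat_lit 4696897) (BT.leaf (nat_lit 787960)) (BT.leaf (nat_lit 682324))) (BT.node (nat_lit 4696904) (BT.leaf (nat_lit 682324)) (BT.leaf (nat_lit 682324)))) (BT.node (nat_lit 4696964) (BT.node (nat_lit 4696963) (BT.leaf (nat_lit 697420)) (BT.leaf (nat_lit 697420))) (BT.node (nat_lit 4697025) (BT.leaf (nat_lit 697420)) (BT.leaf (nat_lit 707720))))) (BT.node (nat_lit 4697095) (BT.node (nat_lit 4697093) (BT.node (nat_lit 4697031) (BT.leaf (nat_lit 707720)) (BT.leaf (nat_lit 707720))) (BT.node (nat_lit 4697094) (BT.leaf (nat_lit 698864)) (BT.leaf (nat_lit 698864)))) (BT.node (nat_lit 4697156) (BT.node (nat_lit 4697155) (BT.leaf (nat_lit 698864)) (BT.leaf (nat_lit 672972))) (BT.node (nat_lit 4697158) (BT.leaf (nat_lit 672972)) (BT.leaf (nat_lit 672972))))))) (BT.node (nat_lit 4698180) (BT.node (nat_lit 4697800) (BT.node (nat_lit 4697352) (BT.node (nat_lit 4697345) (BT.node (nat_lit 4697160) (BT.leaf (nat_lit 672972)) (BT.leaf (nat_lit 672972))) (BT.node (nat_lit 4697348) (BT.leaf (nat_lit 796308)) (BT.leaf (nat_lit 796308)))) (BT.node (nat_lit 4697796) (BT.node (nat_lit 4697544) (BT.leaf (nat_lit 711448)) (BT.leaf (nat_lit 716976))) (BT.node (nat_lit 4697797) (BT.leaf (nat_lit 695968)) (BT.leaf (nat_lit 695968))))) (BT.node (nat_lit 4697989) (BT.node (nat_lit 4697925) (BT.node (nat_lit 4697921) (BT.leaf (nat_lit 695968)) (BT.leaf (nat_lit 723148))) (BT.node (nat_lit 4697985) (BT.leaf (nat_lit 723148)) (BT.leaf (nat_lit 702172)))) (BT.node (nat_lit 4698120) (BT.node (nat_lit 4698115) (BT.leaf (nat_lit 702172)) (BT.leaf (nat_lit 771800))) (BT.node (nat_lit 4698179) (BT.leaf (nat_lit 771800)) (BT.leaf (nat_lit 692664)))))) (BT.node (nat_lit 4698438) (BT.node (nat_lit 4698309) (BT.node (nat_lit 4698246) (BT.node (nat_lit 4698242) (BT.leaf (nat_lit 692664)) (BT.leaf (nat_lit 751148))) (BT.node (nat_lit 4698247) (BT.leaf (nat_lit 751148)) (BT.leaf (nat_lit 751148)))) (BT.node (nat_lit 4698436) (BT.node (nat_lit 4698433) (BT.leaf (nat_lit 683184)) (BT.leaf (nat_lit 715496))) (BT.node (nat_lit 4698437) (BT.leaf (nat_lit 711340)) (BT.leaf (nat_lit 714204))))) (BT.node (nat_lit 4698568) (BT.node (nat_lit 4698561) (BT.node (nat_lit 4698439) (BT.leaf (nat_lit 714204)) (BT.leaf (nat_lit 715496))) (BT.node (nat_lit 4698564) (BT.leaf (nat_lit 701092)) (BT.leaf (nat_lit 691788)))) (BT.node (nat_lit 4698632) (BT.node (nat_lit 4698625) (BT.leaf (nat_lit 701092)) (BT.leaf (nat_lit 796312))) (BT.node (nat_lit 4698817) (BT.leaf (nat_lit 708384)) (BT.leaf (nat_lit 708376))))))))))) (BT.node (nat_lit 4710918) (BT.node (nat_lit 4703941) (BT.node (nat_lit 4701316) (BT.node (nat_lit 4699974) (BT.node (nat_lit 4699397) (BT.node (nat_lit 4699013) (BT.node (nat_lit 4698884) (BT.node (nat_lit 4698882) (BT.node (nat_lit 4698819) (BT.leaf (nat_lit 708376)) (BT.leaf (nat_lit 708376))) (BT.node (nat_lit 4698883) (BT.leaf (nat_lit 684104)) (BT.leaf (nat_lit 684104)))) (BT.node (nat_lit 4698888) (BT.node (nat_lit 4698887) (BT.leaf (nat_lit 684104)) (BT.leaf (nat_lit 684104))) (BT.node (nat_lit 4698949) (BT.leaf (nat_lit 684104)) (BT.leaf (nat_lit 715268))))) (BT.node (nat_lit 4699271) (BT.node (nat_lit 4699144) (BT.node (nat_lit 4699077) (BT.leaf (nat_lit 710616)) (BT.leaf (nat_lit 668976))) (BT.node (nat_lit 4699270) (BT.leaf (nat_lit 721136)) (BT.leaf (nat_lit 693340)))) (BT.node (nat_lit 4699333) (BT.node (nat_lit 4699329) (BT.leaf (nat_lit 693340)) (BT.leaf (nat_lit 697484))) (BT.node (nat_lit 4699336) (BT.leaf (nat_lit 697484)) (BT.leaf (nat_lit 697484)))))) (BT.node (nat_lit 4699649) (BT.node (nat_lit 4699526) (BT.node (nat_lit 4699522) (BT.node (nat_lit 4699521) (BT.leaf (nat_lit 688084)) (BT.leaf (nat_lit 690608))) (BT.node (nat_lit 4699523) (BT.leaf (nat_lit 690608)) (BT.leaf (nat_lit 690608)))) (BT.node (nat_lit 4699589) (BT.node (nat_lit 4699527) (BT.leaf (nat_lit 690608)) (BT.leaf (nat_lit 690608))) (BT.node (nat_lit 4699592) (BT.leaf (nat_lit 722984)) (BT.leaf (nat_lit 722984))))) (BT.node (nat_lit 4699848) (BT.node (nat_lit 4699713) (BT.node (nat_lit 4699652) (BT.leaf (nat_lit 718644)) (BT.leaf (nat_lit 718644))) (BT.node (nat_lit 4699720) (BT.leaf (nat_lit 718256)) (BT.leaf (nat_lit 718256)))) (BT.node (nat_lit 4699971) (BT.node (nat_lit 4699970) (BT.leaf (nat_lit 720136)) (BT.leaf (nat_lit 717460))) (BT.node (nat_lit 4699973) (BT.leaf (nat_lit 717460)) (BT.leaf (nat_lit 717460))))))) (BT.node (nat_lit 4700868) (BT.node (nat_lit 4700166) (BT.node (nat_lit 4700038) (BT.node (nat_lit 4700033) (BT.node (nat_lit 4699976) (BT.leaf (nat_lit 717460)) (BT.leaf (nat_lit 691668))) (BT.node (nat_lit 4700037) (BT.leaf (nat_lit 671032)) (BT.leaf (nat_lit 671032)))) (BT.node (nat_lit 4700040) (BT.node (nat_lit 4700039) (BT.leaf (nat_lit 671032)) (BT.leaf (nat_lit 671032))) (BT.node (nat_lit 4700165) (BT.leaf (nat_lit 671032)) (BT.leaf (nat_lit 699160))))) (BT.node (nat_lit 4700802) (BT.node (nat_lit 4700289) (BT.node (nat_lit 4700167) (BT.leaf (nat_lit 699160)) (BT.leaf (nat_lit 699160))) (BT.node (nat_lit 4700293) (BT.leaf (nat_lit 674504)) (BT.leaf (nat_lit 674504)))) (BT.node (nat_lit 4700805) (BT.node (nat_lit 4700803) (BT.leaf (nat_lit 699208)) (BT.leaf (nat_lit 699208))) (BT.node (nat_lit 4700865) (BT.leaf (nat_lit 699208)) (BT.leaf (nat_lit 698300)))))) (BT.node (nat_lit 4701058) (BT.node (nat_lit 4700933) (BT.node (nat_lit 4700931) (BT.node (nat_lit 4700872) (BT.leaf (nat_lit 698300)) (BT.leaf (nat_lit 698300))) (BT.node (nat_lit 4700932) (BT.leaf (nat_lit 696656)) (BT.leaf (nat_lit 701580)))) (BT.node (nat_lit 4700995) (BT.node (nat_lit 4700936) (BT.leaf (nat_lit 696656)) (BT.leaf (nat_lit 696656))) (BT.node (nat_lit 4700997) (BT.leaf (nat_lit 714008)) (BT.leaf (nat_lit 714008))))) (BT.node (nat_lit 4701186) (BT.node (nat_lit 4701062) (BT.node (nat_lit 4701061) (BT.leaf (nat_lit 701880)) (BT.leaf (nat_lit 701880))) (BT.node (nat_lit 4701063) (BT.leaf (nat_lit 701880)) (BT.leaf (nat_lit 701880)))) (BT.node (nat_lit 4701252) (BT.node (nat_lit 4701187) (BT.leaf (nat_lit 717676)) (BT.leaf (nat_lit 717676))) (BT.node (nat_lit 4701313) (BT.leaf (nat_lit 669472)) (BT.leaf (nat_lit 705504)))))))) (BT.node (nat_lit 4702534) (BT.node (nat_lit 4701956) (BT.node (nat_lit 4701572) (BT.node (nat_lit 4701382) (BT.node (nat_lit 4701377) (BT.node (nat_lit 4701320) (BT.leaf (nat_lit 705504)) (BT.leaf (nat_lit 705504))) (BT.node (nat_lit 4701380) (BT.leaf (nat_lit 699988)) (BT.leaf (nat_lit 699988)))) (BT.node (nat_lit 4701569) (BT.node (nat_lit 4701383) (BT.leaf (nat_lit 718852)) (BT.leaf (nat_lit 718852))) (BT.node (nat_lit 4701571) (BT.leaf (nat_lit 684524)) (BT.leaf (nat_lit 684524))))) (BT.node (nat_lit 4701768) (BT.node (nat_lit 4701638) (BT.node (nat_lit 4701573) (BT.leaf (nat_lit 684524)) (BT.leaf (nat_lit 684524))) (BT.node (nat_lit 4701639) (BT.leaf (nat_lit 695684)) (BT.leaf (nat_lit 695684)))) (BT.node (nat_lit 4701954) (BT.node (nat_lit 4701825) (BT.leaf (nat_lit 673564)) (BT.leaf (nat_lit 674512))) (BT.node (nat_lit 4701955) (BT.leaf (nat_lit 673732)) (BT.leaf (nat_lit 673732)))))) (BT.node (nat_lit 4702401) (BT.node (nat_lit 4702209) (BT.node (nat_lit 4701958) (BT.node (nat_lit 4701957) (BT.leaf (nat_lit 673732)) (BT.leaf (nat_lit 673732))) (BT.node (nat_lit 4701960) (BT.leaf (nat_lit 673732)) (BT.leaf (nat_lit 673732)))) (BT.node (nat_lit 4702213) (BT.node (nat_lit 4702211) (BT.leaf (nat_lit 707660)) (BT.leaf (nat_lit 707660))) (BT.node (nat_lit 4702344) (BT.leaf (nat_lit 707660)) (BT.leaf (nat_lit 766864))))) (BT.node (nat_lit 4702470) (BT.node (nat_lit 4702466) (BT.node (nat_lit 4702465) (BT.leaf (nat_lit 700376)) (BT.leaf (nat_lit 671920))) (BT.node (nat_lit 4702467) (BT.leaf (nat_lit 671920)) (BT.leaf (nat_lit 671920)))) (BT.node (nat_lit 4702529) (BT.node (nat_lit 4702471) (BT.leaf (nat_lit 671920)) (BT.leaf (nat_lit 671920))) (BT.node (nat_lit 4702532) (BT.leaf (nat_lit 760084)) (BT.leaf (nat_lit 703800))))))) (BT.node (nat_lit 4702981) (BT.node (nat_lit 4702721) (BT.node (nat_lit 4702597) (BT.node (nat_lit 4702593) (BT.node (nat_lit 4702536) (BT.leaf (nat_lit 760084)) (BT.leaf (nat_lit 760084))) (BT.node (nat_lit 4702594) (BT.leaf (nat_lit 673496)) (BT.leaf (nat_lit 673496)))) (BT.node (nat_lit 4702599) (BT.node (nat_lit 4702598) (BT.leaf (nat_lit 673496)) (BT.leaf (nat_lit 673496))) (BT.node (nat_lit 4702600) (BT.leaf (nat_lit 673496)) (BT.leaf (nat_lit 673496))))) (BT.node (nat_lit 4702852) (BT.node (nat_lit 4702788) (BT.node (nat_lit 4702724) (BT.leaf (nat_lit 762120)) (BT.leaf (nat_lit 762120))) (BT.node (nat_lit 4702789) (BT.leaf (nat_lit 695716)) (BT.leaf (nat_lit 695716)))) (BT.node (nat_lit 4702978) (BT.node (nat_lit 4702853) (BT.leaf (nat_lit 685676)) (BT.leaf (nat_lit 687880))) (BT.node (nat_lit 4702979) (BT.leaf (nat_lit 694928)) (BT.leaf (nat_lit 694928)))))) (BT.node (nat_lit 4703112) (BT.node (nat_lit 4703106) (BT.node (nat_lit 4702983) (BT.node (nat_lit 4702982) (BT.leaf (nat_lit 694928)) (BT.leaf (nat_lit 694928))) (BT.node (nat_lit 4703105) (BT.leaf (nat_lit 694928)) (BT.leaf (nat_lit 718328)))) (BT.node (nat_lit 4703110) (BT.node (nat_lit 4703108) (BT.leaf (nat_lit 718328)) (BT.leaf (nat_lit 718328))) (BT.node (nat_lit 4703111) (BT.leaf (nat_lit 718328)) (BT.leaf (nat_lit 718328))))) (BT.node (nat_lit 4703364) (BT.node (nat_lit 4703238) (BT.node (nat_lit 4703235) (BT.leaf (nat_lit 718328)) (BT.leaf (nat_lit 765376))) (BT.node (nat_lit 4703361) (BT.leaf (nat_lit 765376)) (BT.leaf (nat_lit 775084)))) (BT.node (nat_lit 4703620) (BT.node (nat_lit 4703617) (BT.leaf (nat_lit 703408)) (BT.leaf (nat_lit 710692))) (BT.node (nat_lit 4703745) (BT.leaf (nat_lit 710692)) (BT.leaf (nat_lit 717800))))))))) (BT.node (nat_lit 4707782) (BT.node (nat_lit 4705796) (BT.node (nat_lit 4704454) (BT.node (nat_lit 4704195) (BT.node (nat_lit 4704071) (BT.node (nat_lit 4704007) (BT.node (nat_lit 4704006) (BT.leaf (nat_lit 684048)) (BT.leaf (nat_lit 678216))) (BT.node (nat_lit 4704069) (BT.leaf (nat_lit 678216)) (BT.leaf (nat_lit 676328)))) (BT.node (nat_lit 4704135) (BT.node (nat_lit 4704134) (BT.leaf (nat_lit 676328)) (BT.leaf (nat_lit 700564))) (BT.node (nat_lit 4704194) (BT.leaf (nat_lit 700564)) (BT.leaf (nat_lit 678208))))) (BT.node (nat_lit 4704385) (BT.node (nat_lit 4704324) (BT.node (nat_lit 4704323) (BT.leaf (nat_lit 678208)) (BT.leaf (nat_lit 680492))) (BT.node (nat_lit 4704325) (BT.leaf (nat_lit 680492)) (BT.leaf (nat_lit 680492)))) (BT.node (nat_lit 4704388) (BT.node (nat_lit 4704387) (BT.leaf (nat_lit 764004)) (BT.leaf (nat_lit 679172))) (BT.node (nat_lit 4704389) (BT.leaf (nat_lit 679172)) (BT.leaf (nat_lit 679172)))))) (BT.node (nat_lit 4705218) (BT.node (nat_lit 4704709) (BT.node (nat_lit 4704642) (BT.node (nat_lit 4704455) (BT.leaf (nat_lit 715396)) (BT.leaf (nat_lit 715396))) (BT.node (nat_lit 4704708) (BT.leaf (nat_lit 702328)) (BT.leaf (nat_lit 703968)))) (BT.node (nat_lit 4704772) (BT.node (nat_lit 4704771) (BT.leaf (nat_lit 703968)) (BT.leaf (nat_lit 711236))) (BT.node (nat_lit 4704773) (BT.leaf (nat_lit 672632)) (BT.leaf (nat_lit 672632))))) (BT.node (nat_lit 4705284) (BT.node (nat_lit 4705222) (BT.node (nat_lit 4705219) (BT.leaf (nat_lit 708948)) (BT.leaf (nat_lit 708948))) (BT.node (nat_lit 4705223) (BT.leaf (nat_lit 708948)) (BT.leaf (nat_lit 708948)))) (BT.node (nat_lit 4705351) (BT.node (nat_lit 4705350) (BT.leaf (nat_lit 699644)) (BT.leaf (nat_lit 710240))) (BT.node (nat_lit 4705352) (BT.leaf (nat_lit 710240)) (BT.leaf (nat_lit 710240))))))) (BT.node (nat_lit 4707074) (BT.node (nat_lit 4706819) (BT.node (nat_lit 4706182) (BT.node (nat_lit 4705987) (BT.node (nat_lit 4705798) (BT.leaf (nat_lit 674664)) (BT.leaf (nat_lit 674664))) (BT.node (nat_lit 4705992) (BT.leaf (nat_lit 713196)) (BT.leaf (nat_lit 713196)))) (BT.node (nat_lit 4706499) (BT.node (nat_lit 4706183) (BT.leaf (nat_lit 775552)) (BT.leaf (nat_lit 775552))) (BT.node (nat_lit 4706689) (BT.leaf (nat_lit 676812)) (BT.leaf (nat_lit 670964))))) (BT.node (nat_lit 4707014) (BT.node (nat_lit 4706952) (BT.node (nat_lit 4706945) (BT.leaf (nat_lit 676820)) (BT.leaf (nat_lit 670992))) (BT.node (nat_lit 4707009) (BT.leaf (nat_lit 670992)) (BT.leaf (nat_lit 694956)))) (BT.node (nat_lit 4707016) (BT.node (nat_lit 4707015) (BT.leaf (nat_lit 694956)) (BT.leaf (nat_lit 694956))) (BT.node (nat_lit 4707073) (BT.leaf (nat_lit 694956)) (BT.leaf (nat_lit 706844)))))) (BT.node (nat_lit 4707333) (BT.node (nat_lit 4707142) (BT.node (nat_lit 4707137) (BT.node (nat_lit 4707076) (BT.leaf (nat_lit 706844)) (BT.leaf (nat_lit 706844))) (BT.node (nat_lit 4707141) (BT.leaf (nat_lit 796576)) (BT.leaf (nat_lit 721084)))) (BT.node (nat_lit 4707144) (BT.node (nat_lit 4707143) (BT.leaf (nat_lit 711764)) (BT.leaf (nat_lit 711764))) (BT.node (nat_lit 4707204) (BT.leaf (nat_lit 796576)) (BT.leaf (nat_lit 705436))))) (BT.node (nat_lit 4707462) (BT.node (nat_lit 4707397) (BT.node (nat_lit 4707396) (BT.leaf (nat_lit 760348)) (BT.leaf (nat_lit 671252))) (BT.node (nat_lit 4707458) (BT.leaf (nat_lit 769100)) (BT.leaf (nat_lit 722548)))) (BT.node (nat_lit 4707778) (BT.node (nat_lit 4707777) (BT.leaf (nat_lit 722548)) (BT.leaf (nat_lit 676144))) (BT.node (nat_lit 4707779) (BT.leaf (nat_lit 676144)) (BT.leaf (nat_lit 676144)))))))) (BT.node (nat_lit 4709635) (BT.node (nat_lit 4708545) (BT.node (nat_lit 4708162) (BT.node (nat_lit 4707973) (BT.node (nat_lit 4707909) (BT.node (nat_lit 4707783) (BT.leaf (nat_lit 676144)) (BT.leaf (nat_lit 676144))) (BT.node (nat_lit 4707972) (BT.leaf (nat_lit 685388)) (BT.leaf (nat_lit 685364)))) (BT.node (nat_lit 4708038) (BT.node (nat_lit 4708035) (BT.leaf (nat_lit 685364)) (BT.leaf (nat_lit 692112))) (BT.node (nat_lit 4708040) (BT.leaf (nat_lit 692112)) (BT.leaf (nat_lit 798852))))) (BT.node (nat_lit 4708232) (BT.node (nat_lit 4708168) (BT.node (nat_lit 4708164) (BT.leaf (nat_lit 680488)) (BT.leaf (nat_lit 680488))) (BT.node (nat_lit 4708225) (BT.leaf (nat_lit 680488)) (BT.leaf (nat_lit 804896)))) (BT.node (nat_lit 4708420) (BT.node (nat_lit 4708417) (BT.leaf (nat_lit 804896)) (BT.leaf (nat_lit 711176))) (BT.node (nat_lit 4708424) (BT.leaf (nat_lit 711176)) (BT.leaf (nat_lit 671628)))))) (BT.node (nat_lit 4708676) (BT.node (nat_lit 4708612) (BT.node (nat_lit 4708609) (BT.node (nat_lit 4708552) (BT.leaf (nat_lit 672792)) (BT.leaf (nat_lit 672792))) (BT.node (nat_lit 4708611) (BT.leaf (nat_lit 678772)) (BT.leaf (nat_lit 678772)))) (BT.node (nat_lit 4708616) (BT.node (nat_lit 4708613) (BT.leaf (nat_lit 678780)) (BT.leaf (nat_lit 678780))) (BT.node (nat_lit 4708673) (BT.leaf (nat_lit 678780)) (BT.leaf (nat_lit 710716))))) (BT.node (nat_lit 4709125) (BT.node (nat_lit 4708808) (BT.node (nat_lit 4708801) (BT.leaf (nat_lit 710716)) (BT.leaf (nat_lit 692340))) (BT.node (nat_lit 4708996) (BT.leaf (nat_lit 692340)) (BT.leaf (nat_lit 686036)))) (BT.node (nat_lit 4709512) (BT.node (nat_lit 4709447) (BT.leaf (nat_lit 701104)) (BT.leaf (nat_lit 702852))) (BT.node (nat_lit 4709634) (BT.leaf (nat_lit 762544)) (BT.leaf (nat_lit 710176))))))) (BT.node (nat_lit 4710406) (BT.node (nat_lit 4709832) (BT.node (nat_lit 4709826) (BT.node (nat_lit 4709639) (BT.node (nat_lit 4709636) (BT.leaf (nat_lit 710176)) (BT.leaf (nat_lit 686080))) (BT.node (nat_lit 4709825) (BT.leaf (nat_lit 710176)) (BT.leaf (nat_lit 681372)))) (BT.node (nat_lit 4709830) (BT.node (nat_lit 4709827) (BT.leaf (nat_lit 681372)) (BT.leaf (nat_lit 681372))) (BT.node (nat_lit 4709831) (BT.leaf (nat_lit 681372)) (BT.leaf (nat_lit 681372))))) (BT.node (nat_lit 4710083) (BT.node (nat_lit 4709953) (BT.node (nat_lit 4709889) (BT.leaf (nat_lit 681372)) (BT.leaf (nat_lit 761356))) (BT.node (nat_lit 4710021) (BT.leaf (nat_lit 761360)) (BT.leaf (nat_lit 788876)))) (BT.node (nat_lit 4710152) (BT.node (nat_lit 4710151) (BT.leaf (nat_lit 763856)) (BT.leaf (nat_lit 709888))) (BT.node (nat_lit 4710211) (BT.leaf (nat_lit 709888)) (BT.leaf (nat_lit 713224)))))) (BT.node (nat_lit 4710849) (BT.node (nat_lit 4710658) (BT.node (nat_lit 4710536) (BT.node (nat_lit 4710530) (BT.leaf (nat_lit 702812)) (BT.leaf (nat_lit 713200))) (BT.node (nat_lit 4710598) (BT.leaf (nat_lit 713200)) (BT.leaf (nat_lit 722500)))) (BT.node (nat_lit 4710663) (BT.node (nat_lit 4710662) (BT.leaf (nat_lit 806584)) (BT.leaf (nat_lit 806584))) (BT.node (nat_lit 4710664) (BT.leaf (nat_lit 806584)) (BT.leaf (nat_lit 806584))))) (BT.node (nat_lit 4710855) (BT.node (nat_lit 4710853) (BT.node (nat_lit 4710850) (BT.leaf (nat_lit 703636)) (BT.leaf (nat_lit 703636))) (BT.node (nat_lit 4710854) (BT.leaf (nat_lit 675856)) (BT.leaf (nat_lit 675856)))) (BT.node (nat_lit 4710913) (BT.node (nat_lit 4710856) (BT.leaf (nat_lit 675856)) (BT.leaf (nat_lit 703636))) (BT.node (nat_lit 4710915) (BT.leaf (nat_lit 703640)) (BT.leaf (nat_lit 703640)))))))))) (BT.node (nat_lit 4716357) (BT.node (nat_lit 4713032) (BT.node (nat_lit 4712263) (BT.node (nat_lit 4711557) (BT.node (nat_lit 4711171) (BT.node (nat_lit 4711043) (BT.node (nat_lit 4710979) (BT.node (nat_lit 4710978) (BT.leaf (nat_lit 703640)) (BT.leaf (nat_lit 681144))) (BT.node (nat_lit 4710983) (BT.leaf (nat_lit 681144)) (BT.leaf (nat_lit 681144)))) (BT.node (nat_lit 4711107) (BT.node (nat_lit 4711044) (BT.leaf (nat_lit 706768)) (BT.leaf (nat_lit 707596))) (BT.node (nat_lit 4711170) (BT.leaf (nat_lit 706780)) (BT.leaf (nat_lit 714860))))) (BT.node (nat_lit 4711425) (BT.node (nat_lit 4711302) (BT.node (nat_lit 4711172) (BT.leaf (nat_lit 714860)) (BT.leaf (nat_lit 714860))) (BT.node (nat_lit 4711366) (BT.leaf (nat_lit 791884)) (BT.leaf (nat_lit 689124)))) (BT.node (nat_lit 4711427) (BT.node (nat_lit 4711426) (BT.leaf (nat_lit 689112)) (BT.leaf (nat_lit 689112))) (BT.node (nat_lit 4711493) (BT.leaf (nat_lit 689112)) (BT.leaf (nat_lit 756216)))))) (BT.node (nat_lit 4712007) (BT.node (nat_lit 4711682) (BT.node (nat_lit 4711619) (BT.node (nat_lit 4711618) (BT.leaf (nat_lit 682636)) (BT.leaf (nat_lit 693996))) (BT.node (nat_lit 4711621) (BT.leaf (nat_lit 693996)) (BT.leaf (nat_lit 693996)))) (BT.node (nat_lit 4711685) (BT.node (nat_lit 4711683) (BT.leaf (nat_lit 697904)) (BT.leaf (nat_lit 697904))) (BT.node (nat_lit 4712006) (BT.leaf (nat_lit 697904)) (BT.leaf (nat_lit 705904))))) (BT.node (nat_lit 4712258) (BT.node (nat_lit 4712068) (BT.node (nat_lit 4712067) (BT.leaf (nat_lit 705904)) (BT.leaf (nat_lit 705892))) (BT.node (nat_lit 4712257) (BT.leaf (nat_lit 709836)) (BT.leaf (nat_lit 716496)))) (BT.node (nat_lit 4712260) (BT.node (nat_lit 4712259) (BT.leaf (nat_lit 716496)) (BT.leaf (nat_lit 716496))) (BT.node (nat_lit 4712262) (BT.leaf (nat_lit 716496)) (BT.leaf (nat_lit 716496))))))) (BT.node (nat_lit 4712583) (BT.node (nat_lit 4712328) (BT.node (nat_lit 4712323) (BT.node (nat_lit 4712321) (BT.node (nat_lit 4712264) (BT.leaf (nat_lit 716496)) (BT.leaf (nat_lit 716496))) (BT.node (nat_lit 4712322) (BT.leaf (nat_lit 711168)) (BT.leaf (nat_lit 711168)))) (BT.node (nat_lit 4712326) (BT.node (nat_lit 4712325) (BT.leaf (nat_lit 711168)) (BT.leaf (nat_lit 711168))) (BT.node (nat_lit 4712327) (BT.leaf (nat_lit 711168)) (BT.leaf (nat_lit 711168))))) (BT.node (nat_lit 4712516) (BT.node (nat_lit 4712452) (BT.node (nat_lit 4712450) (BT.leaf (nat_lit 711168)) (BT.leaf (nat_lit 688756))) (BT.node (nat_lit 4712453) (BT.leaf (nat_lit 688756)) (BT.leaf (nat_lit 688756)))) (BT.node (nat_lit 4712578) (BT.node (nat_lit 4712577) (BT.leaf (nat_lit 710656)) (BT.leaf (nat_lit 681320))) (BT.node (nat_lit 4712582) (BT.leaf (nat_lit 681320)) (BT.leaf (nat_lit 681320)))))) (BT.node (nat_lit 4712839) (BT.node (nat_lit 4712710) (BT.node (nat_lit 4712706) (BT.node (nat_lit 4712645) (BT.leaf (nat_lit 681320)) (BT.leaf (nat_lit 710704))) (BT.node (nat_lit 4712707) (BT.leaf (nat_lit 706432)) (BT.leaf (nat_lit 678868)))) (BT.node (nat_lit 4712835) (BT.node (nat_lit 4712711) (BT.leaf (nat_lit 706432)) (BT.leaf (nat_lit 706432))) (BT.node (nat_lit 4712838) (BT.leaf (nat_lit 710696)) (BT.leaf (nat_lit 710696))))) (BT.node (nat_lit 4712966) (BT.node (nat_lit 4712901) (BT.node (nat_lit 4712840) (BT.leaf (nat_lit 710696)) (BT.leaf (nat_lit 710696))) (BT.node (nat_lit 4712902) (BT.leaf (nat_lit 717408)) (BT.leaf (nat_lit 717408)))) (BT.node (nat_lit 4713027) (BT.node (nat_lit 4712967) (BT.leaf (nat_lit 711940)) (BT.leaf (nat_lit 711940))) (BT.node (nat_lit 4713029) (BT.leaf (nat_lit 717424)) (BT.leaf (nat_lit 717424)))))))) (BT.node (nat_lit 4714369) (BT.node (nat_lit 4713665) (BT.node (nat_lit 4713221) (BT.node (nat_lit 4713158) (BT.node (nat_lit 4713154) (BT.node (nat_lit 4713094) (BT.leaf (nat_lit 695348)) (BT.leaf (nat_lit 712652))) (BT.node (nat_lit 4713155) (BT.leaf (nat_lit 682072)) (BT.leaf (nat_lit 682072)))) (BT.node (nat_lit 4713160) (BT.node (nat_lit 4713159) (BT.leaf (nat_lit 682072)) (BT.leaf (nat_lit 682072))) (BT.node (nat_lit 4713220) (BT.leaf (nat_lit 682072)) (BT.leaf (nat_lit 707776))))) (BT.node (nat_lit 4713477) (BT.node (nat_lit 4713282) (BT.node (nat_lit 4713224) (BT.leaf (nat_lit 707776)) (BT.leaf (nat_lit 707776))) (BT.node (nat_lit 4713474) (BT.leaf (nat_lit 711948)) (BT.leaf (nat_lit 710596)))) (BT.node (nat_lit 4713540) (BT.node (nat_lit 4713538) (BT.leaf (nat_lit 710596)) (BT.leaf (nat_lit 717236))) (BT.node (nat_lit 4713541) (BT.leaf (nat_lit 710336)) (BT.leaf (nat_lit 717236)))))) (BT.node (nat_lit 4713731) (BT.node (nat_lit 4713670) (BT.node (nat_lit 4713667) (BT.node (nat_lit 4713666) (BT.leaf (nat_lit 714112)) (BT.leaf (nat_lit 714112))) (BT.node (nat_lit 4713669) (BT.leaf (nat_lit 714112)) (BT.leaf (nat_lit 714112)))) (BT.node (nat_lit 4713672) (BT.node (nat_lit 4713671) (BT.leaf (nat_lit 714112)) (BT.leaf (nat_lit 714112))) (BT.node (nat_lit 4713729) (BT.leaf (nat_lit 714112)) (BT.leaf (nat_lit 706332))))) (BT.node (nat_lit 4713990) (BT.node (nat_lit 4713925) (BT.node (nat_lit 4713735) (BT.leaf (nat_lit 706332)) (BT.leaf (nat_lit 706332))) (BT.node (nat_lit 4713989) (BT.leaf (nat_lit 721020)) (BT.leaf (nat_lit 692696)))) (BT.node (nat_lit 4714054) (BT.node (nat_lit 4713991) (BT.leaf (nat_lit 692696)) (BT.leaf (nat_lit 692696))) (BT.node (nat_lit 4714055) (BT.leaf (nat_lit 694496)) (BT.leaf (nat_lit 694496))))))) (BT.node (nat_lit 4715140) (BT.node (nat_lit 4714568) (BT.node (nat_lit 4714562) (BT.node (nat_lit 4714373) (BT.node (nat_lit 4714372) (BT.leaf (nat_lit 683804)) (BT.leaf (nat_lit 683804))) (BT.node (nat_lit 4714561) (BT.leaf (nat_lit 683804)) (BT.leaf (nat_lit 675904)))) (BT.node (nat_lit 4714564) (BT.node (nat_lit 4714563) (BT.leaf (nat_lit 675904)) (BT.leaf (nat_lit 675904))) (BT.node (nat_lit 4714565) (BT.leaf (nat_lit 675904)) (BT.leaf (nat_lit 675904))))) (BT.node (nat_lit 4715009) (BT.node (nat_lit 4714693) (BT.node (nat_lit 4714692) (BT.leaf (nat_lit 675904)) (BT.leaf (nat_lit 681464))) (BT.node (nat_lit 4714757) (BT.leaf (nat_lit 681464)) (BT.leaf (nat_lit 681476)))) (BT.node (nat_lit 4715016) (BT.node (nat_lit 4715013) (BT.leaf (nat_lit 713440)) (BT.leaf (nat_lit 713440))) (BT.node (nat_lit 4715137) (BT.leaf (nat_lit 713440)) (BT.leaf (nat_lit 720400)))))) (BT.node (nat_lit 4715777) (BT.node (nat_lit 4715714) (BT.node (nat_lit 4715267) (BT.node (nat_lit 4715141) (BT.leaf (nat_lit 720400)) (BT.leaf (nat_lit 720400))) (BT.node (nat_lit 4715713) (BT.leaf (nat_lit 673772)) (BT.leaf (nat_lit 682288)))) (BT.node (nat_lit 4715717) (BT.node (nat_lit 4715716) (BT.leaf (nat_lit 682288)) (BT.leaf (nat_lit 682288))) (BT.node (nat_lit 4715720) (BT.leaf (nat_lit 682288)) (BT.leaf (nat_lit 682288))))) (BT.node (nat_lit 4716035) (BT.node (nat_lit 4715906) (BT.node (nat_lit 4715780) (BT.leaf (nat_lit 715768)) (BT.leaf (nat_lit 706232))) (BT.node (nat_lit 4715907) (BT.leaf (nat_lit 723416)) (BT.leaf (nat_lit 723416)))) (BT.node (nat_lit 4716168) (BT.node (nat_lit 4716166) (BT.leaf (nat_lit 777200)) (BT.leaf (nat_lit 692396))) (BT.node (nat_lit 4716356) (BT.leaf (nat_lit 692396)) (BT.leaf (nat_lit 711724))))))))) (BT.node (nat_lit 4718151) (BT.node (nat_lit 4717060) (BT.node (nat_lit 4716743) (BT.node (nat_lit 4716673) (BT.node (nat_lit 4716551) (BT.node (nat_lit 4716359) (BT.node (nat_lit 4716358) (BT.leaf (nat_lit 711724)) (BT.leaf (nat_lit 714056))) (BT.node (nat_lit 4716483) (BT.leaf (nat_lit 714056)) (BT.leaf (nat_lit 711856)))) (BT.node (nat_lit 4716614) (BT.node (nat_lit 4716610) (BT.leaf (nat_lit 690964)) (BT.leaf (nat_lit 754920))) (BT.node (nat_lit 4716615) (BT.leaf (nat_lit 754920)) (BT.leaf (nat_lit 754920))))) (BT.node (nat_lit 4716738) (BT.node (nat_lit 4716677) (BT.node (nat_lit 4716675) (BT.leaf (nat_lit 805136)) (BT.leaf (nat_lit 805136))) (BT.node (nat_lit 4716737) (BT.leaf (nat_lit 805136)) (BT.leaf (nat_lit 696916)))) (BT.node (nat_lit 4716741) (BT.node (nat_lit 4716739) (BT.leaf (nat_lit 754996)) (BT.leaf (nat_lit 696916))) (BT.node (nat_lit 4716742) (BT.leaf (nat_lit 696916)) (BT.leaf (nat_lit 696916)))))) (BT.node (nat_lit 4716993) (BT.node (nat_lit 4716869) (BT.node (nat_lit 4716865) (BT.node (nat_lit 4716744) (BT.leaf (nat_lit 696916)) (BT.leaf (nat_lit 771780))) (BT.node (nat_lit 4716868) (BT.leaf (nat_lit 686396)) (BT.leaf (nat_lit 705588)))) (BT.node (nat_lit 4716931) (BT.node (nat_lit 4716930) (BT.leaf (nat_lit 721148)) (BT.leaf (nat_lit 712660))) (BT.node (nat_lit 4716933) (BT.leaf (nat_lit 712660)) (BT.leaf (nat_lit 712660))))) (BT.node (nat_lit 4716998) (BT.node (nat_lit 4716995) (BT.node (nat_lit 4716994) (BT.leaf (nat_lit 676132)) (BT.leaf (nat_lit 676132))) (BT.node (nat_lit 4716997) (BT.leaf (nat_lit 676132)) (BT.leaf (nat_lit 676132)))) (BT.node (nat_lit 4717000) (BT.node (nat_lit 4716999) (BT.leaf (nat_lit 676132)) (BT.leaf (nat_lit 676132))) (BT.node (nat_lit 4717058) (BT.leaf (nat_lit 676132)) (BT.leaf (nat_lit 710936))))))) (BT.node (nat_lit 4717703) (BT.node (nat_lit 4717382) (BT.node (nat_lit 4717255) (BT.node (nat_lit 4717253) (BT.node (nat_lit 4717251) (BT.leaf (nat_lit 710936)) (BT.leaf (nat_lit 812284))) (BT.node (nat_lit 4717254) (BT.leaf (nat_lit 812284)) (BT.leaf (nat_lit 812284)))) (BT.node (nat_lit 4717380) (BT.node (nat_lit 4717317) (BT.leaf (nat_lit 719056)) (BT.leaf (nat_lit 680764))) (BT.node (nat_lit 4717381) (BT.leaf (nat_lit 674256)) (BT.leaf (nat_lit 674256))))) (BT.node (nat_lit 4717509) (BT.node (nat_lit 4717506) (BT.node (nat_lit 4717383) (BT.leaf (nat_lit 674256)) (BT.leaf (nat_lit 674256))) (BT.node (nat_lit 4717508) (BT.leaf (nat_lit 701468)) (BT.leaf (nat_lit 679508)))) (BT.node (nat_lit 4717697) (BT.node (nat_lit 4717573) (BT.leaf (nat_lit 679508)) (BT.leaf (nat_lit 674944))) (BT.node (nat_lit 4717700) (BT.leaf (nat_lit 712372)) (BT.leaf (nat_lit 699736)))))) (BT.node (nat_lit 4717830) (BT.node (nat_lit 4717767) (BT.node (nat_lit 4717763) (BT.node (nat_lit 4717762) (BT.leaf (nat_lit 712372)) (BT.leaf (nat_lit 699016))) (BT.node (nat_lit 4717766) (BT.leaf (nat_lit 699016)) (BT.leaf (nat_lit 699016)))) (BT.node (nat_lit 4717826) (BT.node (nat_lit 4717825) (BT.leaf (nat_lit 699016)) (BT.leaf (nat_lit 720580))) (BT.node (nat_lit 4717827) (BT.leaf (nat_lit 720580)) (BT.leaf (nat_lit 758176))))) (BT.node (nat_lit 4718084) (BT.node (nat_lit 4718018) (BT.node (nat_lit 4717831) (BT.leaf (nat_lit 758176)) (BT.leaf (nat_lit 720580))) (BT.node (nat_lit 4718081) (BT.leaf (nat_lit 776588)) (BT.leaf (nat_lit 710428)))) (BT.node (nat_lit 4718148) (BT.node (nat_lit 4718145) (BT.leaf (nat_lit 710428)) (BT.leaf (nat_lit 704104))) (BT.node (nat_lit 4718150) (BT.leaf (nat_lit 721444)) (BT.leaf (nat_lit 704104)))))))) (BT.node (nat_lit 4719426) (BT.node (nat_lit 4718534) (BT.node (nat_lit 4718407) (BT.node (nat_lit 4718215) (BT.node (nat_lit 4718211) (BT.node (nat_lit 4718210) (BT.leaf (nat_lit 696648)) (BT.leaf (nat_lit 721416))) (BT.node (nat_lit 4718214) (BT.leaf (nat_lit 721416)) (BT.leaf (nat_lit 721416)))) (BT.node (nat_lit 4718403) (BT.node (nat_lit 4718402) (BT.leaf (nat_lit 721416)) (BT.leaf (nat_lit 709452))) (BT.node (nat_lit 4718406) (BT.leaf (nat_lit 709452)) (BT.leaf (nat_lit 709452))))) (BT.node (nat_lit 4718529) (BT.node (nat_lit 4718466) (BT.node (nat_lit 4718465) (BT.leaf (nat_lit 709452)) (BT.leaf (nat_lit 693536))) (BT.node (nat_lit 4718469) (BT.leaf (nat_lit 693536)) (BT.leaf (nat_lit 693536)))) (BT.node (nat_lit 4718531) (BT.node (nat_lit 4718530) (BT.leaf (nat_lit 687536)) (BT.leaf (nat_lit 687536))) (BT.node (nat_lit 4718533) (BT.leaf (nat_lit 687536)) (BT.leaf (nat_lit 687536)))))) (BT.node (nat_lit 4718789) (BT.node (nat_lit 4718724) (BT.node (nat_lit 4718660) (BT.node (nat_lit 4718535) (BT.leaf (nat_lit 687536)) (BT.leaf (nat_lit 687536))) (BT.node (nat_lit 4718664) (BT.leaf (nat_lit 712416)) (BT.leaf (nat_lit 712416)))) (BT.node (nat_lit 4718786) (BT.node (nat_lit 4718785) (BT.leaf (nat_lit 705400)) (BT.leaf (nat_lit 697160))) (BT.node (nat_lit 4718788) (BT.leaf (nat_lit 697160)) (BT.leaf (nat_lit 697160))))) (BT.node (nat_lit 4719108) (BT.node (nat_lit 4718983) (BT.node (nat_lit 4718978) (BT.leaf (nat_lit 697160)) (BT.leaf (nat_lit 701088))) (BT.node (nat_lit 4718984) (BT.leaf (nat_lit 701088)) (BT.leaf (nat_lit 701088)))) (BT.node (nat_lit 4719172) (BT.node (nat_lit 4719109) (BT.leaf (nat_lit 718148)) (BT.leaf (nat_lit 718148))) (BT.node (nat_lit 4719173) (BT.leaf (nat_lit 687220)) (BT.leaf (nat_lit 687220))))))) (BT.node (nat_lit 4719816) (BT.node (nat_lit 4719496) (BT.node (nat_lit 4719431) (BT.node (nat_lit 4719428) (BT.node (nat_lit 4719427) (BT.leaf (nat_lit 714984)) (BT.leaf (nat_lit 714984))) (BT.node (nat_lit 4719430) (BT.leaf (nat_lit 714984)) (BT.leaf (nat_lit 697736)))) (BT.node (nat_lit 4719490) (BT.node (nat_lit 4719432) (BT.leaf (nat_lit 697736)) (BT.leaf (nat_lit 764756))) (BT.node (nat_lit 4719492) (BT.leaf (nat_lit 719692)) (BT.leaf (nat_lit 719692))))) (BT.node (nat_lit 4719687) (BT.node (nat_lit 4719685) (BT.node (nat_lit 4719624) (BT.leaf (nat_lit 719692)) (BT.leaf (nat_lit 719976))) (BT.node (nat_lit 4719686) (BT.leaf (nat_lit 692580)) (BT.leaf (nat_lit 692580)))) (BT.node (nat_lit 4719814) (BT.node (nat_lit 4719812) (BT.leaf (nat_lit 692580)) (BT.leaf (nat_lit 689480))) (BT.node (nat_lit 4719815) (BT.leaf (nat_lit 706896)) (BT.leaf (nat_lit 706896)))))) (BT.node (nat_lit 4720900) (BT.node (nat_lit 4720769) (BT.node (nat_lit 4719876) (BT.node (nat_lit 4719874) (BT.leaf (nat_lit 689480)) (BT.leaf (nat_lit 777208))) (BT.node (nat_lit 4720005) (BT.leaf (nat_lit 675676)) (BT.leaf (nat_lit 711240)))) (BT.node (nat_lit 4720771) (BT.node (nat_lit 4720770) (BT.leaf (nat_lit 684316)) (BT.leaf (nat_lit 684316))) (BT.node (nat_lit 4720774) (BT.leaf (nat_lit 684316)) (BT.leaf (nat_lit 684316))))) (BT.node (nat_lit 4721091) (BT.node (nat_lit 4721089) (BT.node (nat_lit 4720968) (BT.leaf (nat_lit 686884)) (BT.leaf (nat_lit 701988))) (BT.node (nat_lit 4721090) (BT.leaf (nat_lit 777868)) (BT.leaf (nat_lit 717604)))) (BT.node (nat_lit 4721155) (BT.node (nat_lit 4721154) (BT.leaf (nat_lit 777868)) (BT.leaf (nat_lit 713652))) (BT.node (nat_lit 4721156) (BT.leaf (nat_lit 713652)) (BT.leaf (nat_lit 713652)))))))))))))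
noncomputable def big0_e14336 : BT Nat := (BT.node (nat_lit 4772547) (BT.node (nat_lit 4743749) (BT.node (nat_lit 4733634) (BT.node (nat_lit 4727363) (BT.node (nat_lit 4724164) (BT.node (nat_lit 4721986) (BT.node (nat_lit 4721410) (BT.node (nat_lit 4721224) (BT.node (nat_lit 4721219) (BT.node (nat_lit 4721160) (BT.node (nat_lit 4721159) (BT.leaf (nat_lit 713652)) (BT.leaf (nat_lit 713652))) (BT.node (nat_lit 4721218) (BT.leaf (nat_lit 713652)) (BT.leaf (nat_lit 689488)))) (BT.node (nat_lit 4721222) (BT.node (nat_lit 4721220) (BT.leaf (nat_lit 689488)) (BT.leaf (nat_lit 689488))) (BT.node (nat_lit 4721223) (BT.leaf (nat_lit 689488)) (BT.leaf (nat_lit 689488))))) (BT.node (nat_lit 4721349) (BT.node (nat_lit 4721346) (BT.node (nat_lit 4721345) (BT.leaf (nat_lit 689488)) (BT.leaf (nat_lit 696752))) (BT.node (nat_lit 4721347) (BT.leaf (nat_lit 696752)) (BT.leaf (nat_lit 696752)))) (BT.node (nat_lit 4721351) (BT.node (nat_lit 4721350) (BT.leaf (nat_lit 696752)) (BT.leaf (nat_lit 696752))) (BT.node (nat_lit 4721352) (BT.leaf (nat_lit 696752)) (BT.leaf (nat_lit 696752)))))) (BT.node (nat_lit 4721794) (BT.node (nat_lit 4721603) (BT.node (nat_lit 4721542) (BT.node (nat_lit 4721540) (BT.leaf (nat_lit 693940)) (BT.leaf (nat_lit 701752))) (BT.node (nat_lit 4721602) (BT.leaf (nat_lit 710908)) (BT.leaf (nat_lit 696612)))) (BT.node (nat_lit 4721607) (BT.node (nat_lit 4721606) (BT.leaf (nat_lit 696612)) (BT.leaf (nat_lit 696612))) (BT.node (nat_lit 4721793) (BT.leaf (nat_lit 696612)) (BT.leaf (nat_lit 692424))))) (BT.node (nat_lit 4721800) (BT.node (nat_lit 4721796) (BT.node (nat_lit 4721795) (BT.leaf (nat_lit 695092)) (BT.leaf (nat_lit 695092))) (BT.node (nat_lit 4721797) (BT.leaf (nat_lit 692424)) (BT.leaf (nat_lit 695092)))) (BT.node (nat_lit 4721926) (BT.node (nat_lit 4721921) (BT.leaf (nat_lit 695092)) (BT.leaf (nat_lit 685540))) (BT.node (nat_lit 4721928) (BT.leaf (nat_lit 685540)) (BT.leaf (nat_lit 685540))))))) (BT.node (nat_lit 4723016) (BT.node (nat_lit 4722307) (BT.node (nat_lit 4722056) (BT.node (nat_lit 4721988) (BT.node (nat_lit 4721987) (BT.leaf (nat_lit 711768)) (BT.leaf (nat_lit 711768))) (BT.node (nat_lit 4722050) (BT.leaf (nat_lit 711768)) (BT.leaf (nat_lit 758104)))) (BT.node (nat_lit 4722242) (BT.node (nat_lit 4722120) (BT.leaf (nat_lit 758104)) (BT.leaf (nat_lit 758108))) (BT.node (nat_lit 4722305) (BT.leaf (nat_lit 701180)) (BT.leaf (nat_lit 694208))))) (BT.node (nat_lit 4722440) (BT.node (nat_lit 4722438) (BT.node (nat_lit 4722309) (BT.leaf (nat_lit 762268)) (BT.leaf (nat_lit 762268))) (BT.node (nat_lit 4722439) (BT.leaf (nat_lit 701756)) (BT.leaf (nat_lit 701756)))) (BT.node (nat_lit 4723009) (BT.node (nat_lit 4722821) (BT.leaf (nat_lit 701756)) (BT.leaf (nat_lit 685680))) (BT.node (nat_lit 4723012) (BT.leaf (nat_lit 722540)) (BT.leaf (nat_lit 691448)))))) (BT.node (nat_lit 4723714) (BT.node (nat_lit 4723079) (BT.node (nat_lit 4723075) (BT.node (nat_lit 4723073) (BT.leaf (nat_lit 722540)) (BT.leaf (nat_lit 691440))) (BT.node (nat_lit 4723078) (BT.leaf (nat_lit 691440)) (BT.leaf (nat_lit 691440)))) (BT.node (nat_lit 4723588) (BT.node (nat_lit 4723202) (BT.leaf (nat_lit 691440)) (BT.leaf (nat_lit 696520))) (BT.node (nat_lit 4723589) (BT.leaf (nat_lit 679668)) (BT.leaf (nat_lit 679668))))) (BT.node (nat_lit 4723779) (BT.node (nat_lit 4723718) (BT.node (nat_lit 4723717) (BT.leaf (nat_lit 708208)) (BT.leaf (nat_lit 708208))) (BT.node (nat_lit 4723719) (BT.leaf (nat_lit 708208)) (BT.leaf (nat_lit 708208)))) (BT.node (nat_lit 4723784) (BT.node (nat_lit 4723783) (BT.leaf (nat_lit 679688)) (BT.leaf (nat_lit 679688))) (BT.node (nat_lit 4723912) (BT.leaf (nat_lit 679688)) (BT.leaf (nat_lit 686116)))))))) (BT.node (nat_lit 4726018) (BT.node (nat_lit 4725057) (BT.node (nat_lit 4724421) (BT.node (nat_lit 4724417) (BT.node (nat_lit 4724227) (BT.node (nat_lit 4724168) (BT.leaf (nat_lit 685392)) (BT.leaf (nat_lit 685392))) (BT.node (nat_lit 4724231) (BT.leaf (nat_lit 708448)) (BT.leaf (nat_lit 708448)))) (BT.node (nat_lit 4724419) (BT.node (nat_lit 4724418) (BT.leaf (nat_lit 709820)) (BT.leaf (nat_lit 709820))) (BT.node (nat_lit 4724420) (BT.leaf (nat_lit 709820)) (BT.leaf (nat_lit 709820))))) (BT.node (nat_lit 4724545) (BT.node (nat_lit 4724486) (BT.node (nat_lit 4724424) (BT.leaf (nat_lit 709820)) (BT.leaf (nat_lit 709820))) (BT.node (nat_lit 4724487) (BT.leaf (nat_lit 683092)) (BT.leaf (nat_lit 683092)))) (BT.node (nat_lit 4724934) (BT.node (nat_lit 4724929) (BT.leaf (nat_lit 688032)) (BT.leaf (nat_lit 714096))) (BT.node (nat_lit 4724935) (BT.leaf (nat_lit 714096)) (BT.leaf (nat_lit 714096)))))) (BT.node (nat_lit 4725511) (BT.node (nat_lit 4725252) (BT.node (nat_lit 4725062) (BT.node (nat_lit 4725058) (BT.leaf (nat_lit 682668)) (BT.leaf (nat_lit 682668))) (BT.node (nat_lit 4725063) (BT.leaf (nat_lit 682668)) (BT.leaf (nat_lit 682668)))) (BT.node (nat_lit 4725447) (BT.node (nat_lit 4725317) (BT.leaf (nat_lit 758740)) (BT.leaf (nat_lit 690344))) (BT.node (nat_lit 4725510) (BT.leaf (nat_lit 716520)) (BT.leaf (nat_lit 704180))))) (BT.node (nat_lit 4725828) (BT.node (nat_lit 4725826) (BT.node (nat_lit 4725825) (BT.leaf (nat_lit 704180)) (BT.leaf (nat_lit 687164))) (BT.node (nat_lit 4725827) (BT.leaf (nat_lit 687164)) (BT.leaf (nat_lit 687164)))) (BT.node (nat_lit 4725831) (BT.node (nat_lit 4725830) (BT.leaf (nat_lit 687164)) (BT.leaf (nat_lit 687164))) (BT.node (nat_lit 4726017) (BT.leaf (nat_lit 687164)) (BT.leaf (nat_lit 676516))))))) (BT.node (nat_lit 4726788) (BT.node (nat_lit 4726087) (BT.node (nat_lit 4726024) (BT.node (nat_lit 4726020) (BT.node (nat_lit 4726019) (BT.leaf (nat_lit 676516)) (BT.leaf (nat_lit 715724))) (BT.node (nat_lit 4726021) (BT.leaf (nat_lit 715724)) (BT.leaf (nat_lit 676516)))) (BT.node (nat_lit 4726083) (BT.node (nat_lit 4726082) (BT.leaf (nat_lit 676516)) (BT.leaf (nat_lit 677584))) (BT.node (nat_lit 4726084) (BT.leaf (nat_lit 677584)) (BT.leaf (nat_lit 711344))))) (BT.node (nat_lit 4726215) (BT.node (nat_lit 4726152) (BT.node (nat_lit 4726150) (BT.leaf (nat_lit 677584)) (BT.leaf (nat_lit 716680))) (BT.node (nat_lit 4726214) (BT.leaf (nat_lit 716680)) (BT.leaf (nat_lit 688092)))) (BT.node (nat_lit 4726593) (BT.node (nat_lit 4726530) (BT.leaf (nat_lit 688092)) (BT.leaf (nat_lit 676848))) (BT.node (nat_lit 4726600) (BT.leaf (nat_lit 755756)) (BT.leaf (nat_lit 755756)))))) (BT.node (nat_lit 4727048) (BT.node (nat_lit 4726982) (BT.node (nat_lit 4726916) (BT.node (nat_lit 4726913) (BT.leaf (nat_lit 699492)) (BT.leaf (nat_lit 677992))) (BT.node (nat_lit 4726920) (BT.leaf (nat_lit 761804)) (BT.leaf (nat_lit 677992)))) (BT.node (nat_lit 4727041) (BT.node (nat_lit 4726983) (BT.leaf (nat_lit 700140)) (BT.leaf (nat_lit 700140))) (BT.node (nat_lit 4727044) (BT.leaf (nat_lit 691436)) (BT.leaf (nat_lit 691436))))) (BT.node (nat_lit 4727299) (BT.node (nat_lit 4727174) (BT.node (nat_lit 4727170) (BT.leaf (nat_lit 715868)) (BT.leaf (nat_lit 691432))) (BT.node (nat_lit 4727176) (BT.leaf (nat_lit 691432)) (BT.leaf (nat_lit 691432)))) (BT.node (nat_lit 4727304) (BT.node (nat_lit 4727300) (BT.leaf (nat_lit 797796)) (BT.leaf (nat_lit 685616))) (BT.node (nat_lit 4727361) (BT.leaf (nat_lit 797796)) (BT.leaf (nat_lit 683608))))))))) (BT.node (nat_lit 4730054) (BT.node (nat_lit 4728518) (BT.node (nat_lit 4727880) (BT.node (nat_lit 4727558) (BT.node (nat_lit 4727491) (BT.node (nat_lit 4727368) (BT.node (nat_lit 4727365) (BT.leaf (nat_lit 797800)) (BT.leaf (nat_lit 683608))) (BT.node (nat_lit 4727489) (BT.leaf (nat_lit 797800)) (BT.leaf (nat_lit 693540)))) (BT.node (nat_lit 4727496) (BT.node (nat_lit 4727492) (BT.leaf (nat_lit 693540)) (BT.leaf (nat_lit 693540))) (BT.node (nat_lit 4727555) (BT.leaf (nat_lit 693540)) (BT.leaf (nat_lit 693548))))) (BT.node (nat_lit 4727814) (BT.node (nat_lit 4727748) (BT.node (nat_lit 4727747) (BT.leaf (nat_lit 693548)) (BT.leaf (nat_lit 719216))) (BT.node (nat_lit 4727752) (BT.leaf (nat_lit 694244)) (BT.leaf (nat_lit 719216)))) (BT.node (nat_lit 4727876) (BT.node (nat_lit 4727816) (BT.leaf (nat_lit 677244)) (BT.leaf (nat_lit 677244))) (BT.node (nat_lit 4727879) (BT.leaf (nat_lit 677248)) (BT.leaf (nat_lit 677248)))))) (BT.node (nat_lit 4728130) (BT.node (nat_lit 4728005) (BT.node (nat_lit 4727944) (BT.node (nat_lit 4727938) (BT.leaf (nat_lit 677248)) (BT.leaf (nat_lit 677276))) (BT.node (nat_lit 4728003) (BT.leaf (nat_lit 677276)) (BT.leaf (nat_lit 677268)))) (BT.node (nat_lit 4728066) (BT.node (nat_lit 4728008) (BT.leaf (nat_lit 687368)) (BT.leaf (nat_lit 677268))) (BT.node (nat_lit 4728069) (BT.leaf (nat_lit 703860)) (BT.leaf (nat_lit 703860))))) (BT.node (nat_lit 4728391) (BT.node (nat_lit 4728198) (BT.node (nat_lit 4728133) (BT.leaf (nat_lit 703880)) (BT.leaf (nat_lit 703880))) (BT.node (nat_lit 4728385) (BT.leaf (nat_lit 694916)) (BT.leaf (nat_lit 689196)))) (BT.node (nat_lit 4728515) (BT.node (nat_lit 4728513) (BT.leaf (nat_lit 689196)) (BT.leaf (nat_lit 689180))) (BT.node (nat_lit 4728517) (BT.leaf (nat_lit 689180)) (BT.leaf (nat_lit 689180))))))) (BT.node (nat_lit 4728968) (BT.node (nat_lit 4728769) (BT.node (nat_lit 4728645) (BT.node (nat_lit 4728641) (BT.node (nat_lit 4728519) (BT.leaf (nat_lit 689180)) (BT.leaf (nat_lit 689180))) (BT.node (nat_lit 4728643) (BT.leaf (nat_lit 773960)) (BT.leaf (nat_lit 773960)))) (BT.node (nat_lit 4728647) (BT.node (nat_lit 4728646) (BT.leaf (nat_lit 699800)) (BT.leaf (nat_lit 773960))) (BT.node (nat_lit 4728648) (BT.leaf (nat_lit 773960)) (BT.leaf (nat_lit 773960))))) (BT.node (nat_lit 4728835) (BT.node (nat_lit 4728774) (BT.node (nat_lit 4728773) (BT.leaf (nat_lit 717200)) (BT.leaf (nat_lit 717200))) (BT.node (nat_lit 4728775) (BT.leaf (nat_lit 717200)) (BT.leaf (nat_lit 717200)))) (BT.node (nat_lit 4728961) (BT.node (nat_lit 4728837) (BT.leaf (nat_lit 717204)) (BT.leaf (nat_lit 717204))) (BT.node (nat_lit 4728965) (BT.leaf (nat_lit 711216)) (BT.leaf (nat_lit 711216)))))) (BT.node (nat_lit 4729667) (BT.node (nat_lit 4729285) (BT.node (nat_lit 4729028) (BT.node (nat_lit 4729025) (BT.leaf (nat_lit 711216)) (BT.leaf (nat_lit 693192))) (BT.node (nat_lit 4729156) (BT.leaf (nat_lit 693192)) (BT.leaf (nat_lit 723044)))) (BT.node (nat_lit 4729538) (BT.node (nat_lit 4729537) (BT.leaf (nat_lit 722492)) (BT.leaf (nat_lit 700408))) (BT.node (nat_lit 4729540) (BT.leaf (nat_lit 700408)) (BT.leaf (nat_lit 700408))))) (BT.node (nat_lit 4729860) (BT.node (nat_lit 4729672) (BT.node (nat_lit 4729669) (BT.leaf (nat_lit 691428)) (BT.leaf (nat_lit 691428))) (BT.node (nat_lit 4729729) (BT.leaf (nat_lit 691428)) (BT.leaf (nat_lit 772108)))) (BT.node (nat_lit 4729987) (BT.node (nat_lit 4729861) (BT.leaf (nat_lit 690968)) (BT.leaf (nat_lit 690968))) (BT.node (nat_lit 4730051) (BT.leaf (nat_lit 766632)) (BT.leaf (nat_lit 806636)))))))) (BT.node (nat_lit 4732229) (BT.node (nat_lit 4731268) (BT.node (nat_lit 4730499) (BT.node (nat_lit 4730248) (BT.node (nat_lit 4730241) (BT.node (nat_lit 4730056) (BT.leaf (nat_lit 806636)) (BT.leaf (nat_lit 806636))) (BT.node (nat_lit 4730245) (BT.leaf (nat_lit 709212)) (BT.leaf (nat_lit 709212)))) (BT.node (nat_lit 4730497) (BT.node (nat_lit 4730433) (BT.leaf (nat_lit 709212)) (BT.leaf (nat_lit 713116))) (BT.node (nat_lit 4730498) (BT.leaf (nat_lit 709740)) (BT.leaf (nat_lit 709740))))) (BT.node (nat_lit 4730629) (BT.node (nat_lit 4730626) (BT.node (nat_lit 4730625) (BT.leaf (nat_lit 709740)) (BT.leaf (nat_lit 689164))) (BT.node (nat_lit 4730628) (BT.leaf (nat_lit 689164)) (BT.leaf (nat_lit 689164)))) (BT.node (nat_lit 4730949) (BT.node (nat_lit 4730946) (BT.leaf (nat_lit 689164)) (BT.leaf (nat_lit 721268))) (BT.node (nat_lit 4731010) (BT.leaf (nat_lit 710992)) (BT.leaf (nat_lit 721284)))))) (BT.node (nat_lit 4731843) (BT.node (nat_lit 4731653) (BT.node (nat_lit 4731400) (BT.node (nat_lit 4731398) (BT.leaf (nat_lit 692236)) (BT.leaf (nat_lit 695772))) (BT.node (nat_lit 4731651) (BT.leaf (nat_lit 695772)) (BT.leaf (nat_lit 697988)))) (BT.node (nat_lit 4731781) (BT.node (nat_lit 4731780) (BT.leaf (nat_lit 683192)) (BT.leaf (nat_lit 708176))) (BT.node (nat_lit 4731842) (BT.leaf (nat_lit 708176)) (BT.leaf (nat_lit 773312))))) (BT.node (nat_lit 4731975) (BT.node (nat_lit 4731847) (BT.node (nat_lit 4731846) (BT.leaf (nat_lit 773312)) (BT.leaf (nat_lit 773312))) (BT.node (nat_lit 4731974) (BT.leaf (nat_lit 773312)) (BT.leaf (nat_lit 690892)))) (BT.node (nat_lit 4732035) (BT.node (nat_lit 4731976) (BT.leaf (nat_lit 690892)) (BT.leaf (nat_lit 690892))) (BT.node (nat_lit 4732225) (BT.leaf (nat_lit 683256)) (BT.leaf (nat_lit 718204))))))) (BT.node (nat_lit 4733250) (BT.node (nat_lit 4732737) (BT.node (nat_lit 4732420) (BT.node (nat_lit 4732355) (BT.node (nat_lit 4732354) (BT.leaf (nat_lit 718208)) (BT.leaf (nat_lit 700272))) (BT.node (nat_lit 4732356) (BT.leaf (nat_lit 700272)) (BT.leaf (nat_lit 700272)))) (BT.node (nat_lit 4732612) (BT.node (nat_lit 4732421) (BT.leaf (nat_lit 713288)) (BT.leaf (nat_lit 713288))) (BT.node (nat_lit 4732613) (BT.leaf (nat_lit 686728)) (BT.leaf (nat_lit 686728))))) (BT.node (nat_lit 4732743) (BT.node (nat_lit 4732739) (BT.node (nat_lit 4732738) (BT.leaf (nat_lit 762696)) (BT.leaf (nat_lit 762696))) (BT.node (nat_lit 4732742) (BT.leaf (nat_lit 762696)) (BT.leaf (nat_lit 762696)))) (BT.node (nat_lit 4732869) (BT.node (nat_lit 4732868) (BT.leaf (nat_lit 762696)) (BT.leaf (nat_lit 699052))) (BT.node (nat_lit 4733249) (BT.leaf (nat_lit 699052)) (BT.leaf (nat_lit 680992)))))) (BT.node (nat_lit 4733507) (BT.node (nat_lit 4733314) (BT.node (nat_lit 4733252) (BT.node (nat_lit 4733251) (BT.leaf (nat_lit 680992)) (BT.leaf (nat_lit 758852))) (BT.node (nat_lit 4733253) (BT.leaf (nat_lit 680992)) (BT.leaf (nat_lit 680992)))) (BT.node (nat_lit 4733505) (BT.node (nat_lit 4733315) (BT.leaf (nat_lit 684988)) (BT.leaf (nat_lit 758856))) (BT.node (nat_lit 4733506) (BT.leaf (nat_lit 682008)) (BT.leaf (nat_lit 682008))))) (BT.node (nat_lit 4733512) (BT.node (nat_lit 4733510) (BT.node (nat_lit 4733508) (BT.leaf (nat_lit 682008)) (BT.leaf (nat_lit 682008))) (BT.node (nat_lit 4733511) (BT.leaf (nat_lit 682008)) (BT.leaf (nat_lit 682008)))) (BT.node (nat_lit 4733575) (BT.node (nat_lit 4733572) (BT.leaf (nat_lit 682008)) (BT.leaf (nat_lit 679208))) (BT.node (nat_lit 4733576) (BT.leaf (nat_lit 693344)) (BT.leaf (nat_lit 693344)))))))))) (BT.node (nat_lit 4738632) (BT.node (nat_lit 4735554) (BT.node (nat_lit 4734723) (BT.node (nat_lit 4734022) (BT.node (nat_lit 4733826) (BT.node (nat_lit 4733639) (BT.node (nat_lit 4733637) (BT.node (nat_lit 4733635) (BT.leaf (nat_lit 680708)) (BT.leaf (nat_lit 680708))) (BT.node (nat_lit 4733638) (BT.leaf (nat_lit 680708)) (BT.leaf (nat_lit 680708)))) (BT.node (nat_lit 4733698) (BT.node (nat_lit 4733697) (BT.leaf (nat_lit 680708)) (BT.leaf (nat_lit 776472))) (BT.node (nat_lit 4733699) (BT.leaf (nat_lit 776472)) (BT.leaf (nat_lit 776472))))) (BT.node (nat_lit 4733831) (BT.node (nat_lit 4733829) (BT.node (nat_lit 4733827) (BT.leaf (nat_lit 679504)) (BT.leaf (nat_lit 679504))) (BT.node (nat_lit 4733830) (BT.leaf (nat_lit 679504)) (BT.leaf (nat_lit 679504)))) (BT.node (nat_lit 4734020) (BT.node (nat_lit 4734017) (BT.leaf (nat_lit 679504)) (BT.leaf (nat_lit 690384))) (BT.node (nat_lit 4734021) (BT.leaf (nat_lit 701472)) (BT.leaf (nat_lit 701472)))))) (BT.node (nat_lit 4734211) (BT.node (nat_lit 4734149) (BT.node (nat_lit 4734146) (BT.node (nat_lit 4734023) (BT.leaf (nat_lit 690384)) (BT.leaf (nat_lit 690384))) (BT.node (nat_lit 4734147) (BT.leaf (nat_lit 692896)) (BT.leaf (nat_lit 692896)))) (BT.node (nat_lit 4734152) (BT.node (nat_lit 4734151) (BT.leaf (nat_lit 708380)) (BT.leaf (nat_lit 692896))) (BT.node (nat_lit 4734210) (BT.leaf (nat_lit 692896)) (BT.leaf (nat_lit 714764))))) (BT.node (nat_lit 4734277) (BT.node (nat_lit 4734274) (BT.node (nat_lit 4734212) (BT.leaf (nat_lit 721680)) (BT.leaf (nat_lit 714764))) (BT.node (nat_lit 4734275) (BT.leaf (nat_lit 705224)) (BT.leaf (nat_lit 705224)))) (BT.node (nat_lit 4734279) (BT.node (nat_lit 4734278) (BT.leaf (nat_lit 705224)) (BT.leaf (nat_lit 705224))) (BT.node (nat_lit 4734657) (BT.leaf (nat_lit 705224)) (BT.leaf (nat_lit 713008))))))) (BT.node (nat_lit 4735110) (BT.node (nat_lit 4734918) (BT.node (nat_lit 4734853) (BT.node (nat_lit 4734789) (BT.node (nat_lit 4734728) (BT.leaf (nat_lit 713004)) (BT.leaf (nat_lit 713004))) (BT.node (nat_lit 4734850) (BT.leaf (nat_lit 694144)) (BT.leaf (nat_lit 692868)))) (BT.node (nat_lit 4734855) (BT.node (nat_lit 4734854) (BT.leaf (nat_lit 692868)) (BT.leaf (nat_lit 692868))) (BT.node (nat_lit 4734914) (BT.leaf (nat_lit 692868)) (BT.leaf (nat_lit 719660))))) (BT.node (nat_lit 4735045) (BT.node (nat_lit 4734920) (BT.node (nat_lit 4734919) (BT.leaf (nat_lit 719660)) (BT.leaf (nat_lit 719660))) (BT.node (nat_lit 4735042) (BT.leaf (nat_lit 719660)) (BT.leaf (nat_lit 704484)))) (BT.node (nat_lit 4735047) (BT.node (nat_lit 4735046) (BT.leaf (nat_lit 704484)) (BT.leaf (nat_lit 704484))) (BT.node (nat_lit 4735105) (BT.leaf (nat_lit 704484)) (BT.leaf (nat_lit 711152)))))) (BT.node (nat_lit 4735426) (BT.node (nat_lit 4735175) (BT.node (nat_lit 4735112) (BT.node (nat_lit 4735111) (BT.leaf (nat_lit 711152)) (BT.leaf (nat_lit 711152))) (BT.node (nat_lit 4735174) (BT.leaf (nat_lit 711152)) (BT.leaf (nat_lit 697460)))) (BT.node (nat_lit 4735239) (BT.node (nat_lit 4735238) (BT.leaf (nat_lit 697460)) (BT.leaf (nat_lit 692864))) (BT.node (nat_lit 4735364) (BT.leaf (nat_lit 692864)) (BT.leaf (nat_lit 716752))))) (BT.node (nat_lit 4735432) (BT.node (nat_lit 4735428) (BT.node (nat_lit 4735427) (BT.leaf (nat_lit 713796)) (BT.leaf (nat_lit 713796))) (BT.node (nat_lit 4735430) (BT.leaf (nat_lit 713796)) (BT.leaf (nat_lit 707780)))) (BT.node (nat_lit 4735492) (BT.node (nat_lit 4735489) (BT.leaf (nat_lit 713796)) (BT.leaf (nat_lit 704992))) (BT.node (nat_lit 4735496) (BT.leaf (nat_lit 704992)) (BT.leaf (nat_lit 704992)))))))) (BT.node (nat_lit 4737601) (BT.node (nat_lit 4736903) (BT.node (nat_lit 4736327) (BT.node (nat_lit 4736131) (BT.node (nat_lit 4735877) (BT.node (nat_lit 4735555) (BT.leaf (nat_lit 697616)) (BT.leaf (nat_lit 697616))) (BT.node (nat_lit 4736130) (BT.leaf (nat_lit 683644)) (BT.leaf (nat_lit 692740)))) (BT.node (nat_lit 4736134) (BT.node (nat_lit 4736132) (BT.leaf (nat_lit 692740)) (BT.leaf (nat_lit 684744))) (BT.node (nat_lit 4736136) (BT.leaf (nat_lit 692740)) (BT.leaf (nat_lit 684744))))) (BT.node (nat_lit 4736580) (BT.node (nat_lit 4736452) (BT.node (nat_lit 4736392) (BT.leaf (nat_lit 714596)) (BT.leaf (nat_lit 683616))) (BT.node (nat_lit 4736455) (BT.leaf (nat_lit 721948)) (BT.leaf (nat_lit 721948)))) (BT.node (nat_lit 4736897) (BT.node (nat_lit 4736773) (BT.leaf (nat_lit 684260)) (BT.leaf (nat_lit 692892))) (BT.node (nat_lit 4736902) (BT.leaf (nat_lit 716928)) (BT.leaf (nat_lit 716928)))))) (BT.node (nat_lit 4737224) (BT.node (nat_lit 4737031) (BT.node (nat_lit 4737027) (BT.node (nat_lit 4736904) (BT.leaf (nat_lit 716928)) (BT.leaf (nat_lit 716928))) (BT.node (nat_lit 4737030) (BT.leaf (nat_lit 721328)) (BT.leaf (nat_lit 721328)))) (BT.node (nat_lit 4737220) (BT.node (nat_lit 4737218) (BT.leaf (nat_lit 721328)) (BT.leaf (nat_lit 694892))) (BT.node (nat_lit 4737221) (BT.leaf (nat_lit 694892)) (BT.leaf (nat_lit 692464))))) (BT.node (nat_lit 4737346) (BT.node (nat_lit 4737282) (BT.node (nat_lit 4737281) (BT.leaf (nat_lit 694892)) (BT.leaf (nat_lit 805552))) (BT.node (nat_lit 4737283) (BT.leaf (nat_lit 805552)) (BT.leaf (nat_lit 777632)))) (BT.node (nat_lit 4737415) (BT.node (nat_lit 4737414) (BT.leaf (nat_lit 681528)) (BT.leaf (nat_lit 681600))) (BT.node (nat_lit 4737478) (BT.leaf (nat_lit 681600)) (BT.leaf (nat_lit 704804))))))) (BT.node (nat_lit 4738180) (BT.node (nat_lit 4738113) (BT.node (nat_lit 4737608) (BT.node (nat_lit 4737604) (BT.node (nat_lit 4737602) (BT.leaf (nat_lit 682308)) (BT.leaf (nat_lit 682308))) (BT.node (nat_lit 4737605) (BT.leaf (nat_lit 682308)) (BT.leaf (nat_lit 682308)))) (BT.node (nat_lit 4737668) (BT.node (nat_lit 4737667) (BT.leaf (nat_lit 682308)) (BT.leaf (nat_lit 704060))) (BT.node (nat_lit 4737989) (BT.leaf (nat_lit 704060)) (BT.leaf (nat_lit 720720))))) (BT.node (nat_lit 4738118) (BT.node (nat_lit 4738115) (BT.node (nat_lit 4738114) (BT.leaf (nat_lit 695760)) (BT.leaf (nat_lit 695760))) (BT.node (nat_lit 4738117) (BT.leaf (nat_lit 695760)) (BT.leaf (nat_lit 695760)))) (BT.node (nat_lit 4738178) (BT.node (nat_lit 4738119) (BT.leaf (nat_lit 695760)) (BT.leaf (nat_lit 695760))) (BT.node (nat_lit 4738179) (BT.leaf (nat_lit 720404)) (BT.leaf (nat_lit 720404)))))) (BT.node (nat_lit 4738248) (BT.node (nat_lit 4738242) (BT.node (nat_lit 4738183) (BT.node (nat_lit 4738182) (BT.leaf (nat_lit 720404)) (BT.leaf (nat_lit 720404))) (BT.node (nat_lit 4738184) (BT.leaf (nat_lit 720404)) (BT.leaf (nat_lit 720404)))) (BT.node (nat_lit 4738244) (BT.node (nat_lit 4738243) (BT.leaf (nat_lit 692388)) (BT.leaf (nat_lit 692388))) (BT.node (nat_lit 4738245) (BT.leaf (nat_lit 692388)) (BT.leaf (nat_lit 692388))))) (BT.node (nat_lit 4738567) (BT.node (nat_lit 4738565) (BT.node (nat_lit 4738563) (BT.leaf (nat_lit 692388)) (BT.leaf (nat_lit 712804))) (BT.node (nat_lit 4738566) (BT.leaf (nat_lit 712804)) (BT.leaf (nat_lit 712804)))) (BT.node (nat_lit 4738628) (BT.node (nat_lit 4738626) (BT.leaf (nat_lit 712804)) (BT.leaf (nat_lit 699248))) (BT.node (nat_lit 4738631) (BT.leaf (nat_lit 705500)) (BT.leaf (nat_lit 699248))))))))) (BT.node (nat_lit 4740737) (BT.node (nat_lit 4739715) (BT.node (nat_lit 4739141) (BT.node (nat_lit 4738950) (BT.node (nat_lit 4738756) (BT.node (nat_lit 4738691) (BT.node (nat_lit 4738690) (BT.leaf (nat_lit 705500)) (BT.leaf (nat_lit 696504))) (BT.node (nat_lit 4738696) (BT.leaf (nat_lit 696504)) (BT.leaf (nat_lit 696504)))) (BT.node (nat_lit 4738947) (BT.node (nat_lit 4738760) (BT.leaf (nat_lit 701640)) (BT.leaf (nat_lit 701640))) (BT.node (nat_lit 4738949) (BT.leaf (nat_lit 696468)) (BT.leaf (nat_lit 696468))))) (BT.node (nat_lit 4739073) (BT.node (nat_lit 4739010) (BT.node (nat_lit 4738951) (BT.leaf (nat_lit 696468)) (BT.leaf (nat_lit 696468))) (BT.node (nat_lit 4739012) (BT.leaf (nat_lit 695576)) (BT.leaf (nat_lit 695576)))) (BT.node (nat_lit 4739079) (BT.node (nat_lit 4739077) (BT.leaf (nat_lit 697068)) (BT.leaf (nat_lit 697068))) (BT.node (nat_lit 4739137) (BT.leaf (nat_lit 697068)) (BT.leaf (nat_lit 685932)))))) (BT.node (nat_lit 4739267) (BT.node (nat_lit 4739202) (BT.node (nat_lit 4739143) (BT.node (nat_lit 4739142) (BT.leaf (nat_lit 685932)) (BT.leaf (nat_lit 685932))) (BT.node (nat_lit 4739144) (BT.leaf (nat_lit 685932)) (BT.leaf (nat_lit 685932)))) (BT.node (nat_lit 4739205) (BT.node (nat_lit 4739203) (BT.leaf (nat_lit 697268)) (BT.leaf (nat_lit 697268))) (BT.node (nat_lit 4739266) (BT.leaf (nat_lit 697268)) (BT.leaf (nat_lit 697132))))) (BT.node (nat_lit 4739651) (BT.node (nat_lit 4739527) (BT.node (nat_lit 4739526) (BT.leaf (nat_lit 697132)) (BT.leaf (nat_lit 711980))) (BT.node (nat_lit 4739650) (BT.leaf (nat_lit 711980)) (BT.leaf (nat_lit 680516)))) (BT.node (nat_lit 4739654) (BT.node (nat_lit 4739653) (BT.leaf (nat_lit 680516)) (BT.leaf (nat_lit 680516))) (BT.node (nat_lit 4739655) (BT.leaf (nat_lit 680516)) (BT.leaf (nat_lit 680516))))))) (BT.node (nat_lit 4740040) (BT.node (nat_lit 4739848) (BT.node (nat_lit 4739782) (BT.node (nat_lit 4739778) (BT.node (nat_lit 4739718) (BT.leaf (nat_lit 771932)) (BT.leaf (nat_lit 771932))) (BT.node (nat_lit 4739779) (BT.leaf (nat_lit 697680)) (BT.leaf (nat_lit 697680)))) (BT.node (nat_lit 4739841) (BT.node (nat_lit 4739783) (BT.leaf (nat_lit 697680)) (BT.leaf (nat_lit 697680))) (BT.node (nat_lit 4739845) (BT.leaf (nat_lit 697492)) (BT.leaf (nat_lit 697492))))) (BT.node (nat_lit 4740033) (BT.node (nat_lit 4739910) (BT.node (nat_lit 4739909) (BT.leaf (nat_lit 697492)) (BT.leaf (nat_lit 685184))) (BT.node (nat_lit 4739911) (BT.leaf (nat_lit 687160)) (BT.leaf (nat_lit 687160)))) (BT.node (nat_lit 4740035) (BT.node (nat_lit 4740034) (BT.leaf (nat_lit 707316)) (BT.leaf (nat_lit 707316))) (BT.node (nat_lit 4740036) (BT.leaf (nat_lit 770264)) (BT.leaf (nat_lit 707316)))))) (BT.node (nat_lit 4740291) (BT.node (nat_lit 4740168) (BT.node (nat_lit 4740100) (BT.node (nat_lit 4740099) (BT.leaf (nat_lit 707316)) (BT.leaf (nat_lit 762904))) (BT.node (nat_lit 4740163) (BT.leaf (nat_lit 762904)) (BT.leaf (nat_lit 757872)))) (BT.node (nat_lit 4740289) (BT.node (nat_lit 4740225) (BT.leaf (nat_lit 757872)) (BT.leaf (nat_lit 757876))) (BT.node (nat_lit 4740290) (BT.leaf (nat_lit 683584)) (BT.leaf (nat_lit 683584))))) (BT.node (nat_lit 4740488) (BT.node (nat_lit 4740424) (BT.node (nat_lit 4740417) (BT.leaf (nat_lit 683584)) (BT.leaf (nat_lit 694880))) (BT.node (nat_lit 4740481) (BT.leaf (nat_lit 694880)) (BT.leaf (nat_lit 692444)))) (BT.node (nat_lit 4740675) (BT.node (nat_lit 4740674) (BT.leaf (nat_lit 692444)) (BT.leaf (nat_lit 683180))) (BT.node (nat_lit 4740680) (BT.leaf (nat_lit 683180)) (BT.leaf (nat_lit 683180)))))))) (BT.node (nat_lit 4741636) (BT.node (nat_lit 4741190) (BT.node (nat_lit 4740994) (BT.node (nat_lit 4740802) (BT.node (nat_lit 4740739) (BT.node (nat_lit 4740738) (BT.leaf (nat_lit 683188)) (BT.leaf (nat_lit 683188))) (BT.node (nat_lit 4740744) (BT.leaf (nat_lit 683188)) (BT.leaf (nat_lit 683188)))) (BT.node (nat_lit 4740808) (BT.node (nat_lit 4740803) (BT.leaf (nat_lit 683088)) (BT.leaf (nat_lit 683088))) (BT.node (nat_lit 4740865) (BT.leaf (nat_lit 683088)) (BT.leaf (nat_lit 706916))))) (BT.node (nat_lit 4741060) (BT.node (nat_lit 4740997) (BT.node (nat_lit 4740996) (BT.leaf (nat_lit 706212)) (BT.leaf (nat_lit 706212))) (BT.node (nat_lit 4740998) (BT.leaf (nat_lit 706212)) (BT.leaf (nat_lit 684368)))) (BT.node (nat_lit 4741186) (BT.node (nat_lit 4741061) (BT.leaf (nat_lit 686872)) (BT.leaf (nat_lit 686872))) (BT.node (nat_lit 4741188) (BT.leaf (nat_lit 760020)) (BT.leaf (nat_lit 760020)))))) (BT.node (nat_lit 4741443) (BT.node (nat_lit 4741382) (BT.node (nat_lit 4741319) (BT.node (nat_lit 4741318) (BT.leaf (nat_lit 760020)) (BT.leaf (nat_lit 717840))) (BT.node (nat_lit 4741381) (BT.leaf (nat_lit 717840)) (BT.leaf (nat_lit 701768)))) (BT.node (nat_lit 4741441) (BT.node (nat_lit 4741384) (BT.leaf (nat_lit 701768)) (BT.leaf (nat_lit 701768))) (BT.node (nat_lit 4741442) (BT.leaf (nat_lit 710796)) (BT.leaf (nat_lit 710796))))) (BT.node (nat_lit 4741571) (BT.node (nat_lit 4741447) (BT.node (nat_lit 4741446) (BT.leaf (nat_lit 710796)) (BT.leaf (nat_lit 710796))) (BT.node (nat_lit 4741570) (BT.leaf (nat_lit 710796)) (BT.leaf (nat_lit 701760)))) (BT.node (nat_lit 4741634) (BT.node (nat_lit 4741575) (BT.leaf (nat_lit 701760)) (BT.leaf (nat_lit 701760))) (BT.node (nat_lit 4741635) (BT.leaf (nat_lit 683676)) (BT.leaf (nat_lit 683676))))))) (BT.node (nat_lit 4742785) (BT.node (nat_lit 4742018) (BT.node (nat_lit 4741761) (BT.node (nat_lit 4741639) (BT.node (nat_lit 4741638) (BT.leaf (nat_lit 683676)) (BT.leaf (nat_lit 683676))) (BT.node (nat_lit 4741640) (BT.leaf (nat_lit 683676)) (BT.leaf (nat_lit 683676)))) (BT.node (nat_lit 4741891) (BT.node (nat_lit 4741765) (BT.leaf (nat_lit 699268)) (BT.leaf (nat_lit 699276))) (BT.node (nat_lit 4741892) (BT.leaf (nat_lit 700204)) (BT.leaf (nat_lit 700204))))) (BT.node (nat_lit 4742024) (BT.node (nat_lit 4742022) (BT.node (nat_lit 4742019) (BT.leaf (nat_lit 773872)) (BT.leaf (nat_lit 773872))) (BT.node (nat_lit 4742023) (BT.leaf (nat_lit 773872)) (BT.leaf (nat_lit 695560)))) (BT.node (nat_lit 4742149) (BT.node (nat_lit 4742148) (BT.leaf (nat_lit 773872)) (BT.leaf (nat_lit 703544))) (BT.node (nat_lit 4742152) (BT.leaf (nat_lit 702088)) (BT.leaf (nat_lit 703544)))))) (BT.node (nat_lit 4743364) (BT.node (nat_lit 4743169) (BT.node (nat_lit 4742855) (BT.node (nat_lit 4742853) (BT.leaf (nat_lit 762644)) (BT.leaf (nat_lit 767940))) (BT.node (nat_lit 4742980) (BT.leaf (nat_lit 682708)) (BT.leaf (nat_lit 685296)))) (BT.node (nat_lit 4743173) (BT.node (nat_lit 4743172) (BT.leaf (nat_lit 711912)) (BT.leaf (nat_lit 711912))) (BT.node (nat_lit 4743237) (BT.leaf (nat_lit 711036)) (BT.leaf (nat_lit 709356))))) (BT.node (nat_lit 4743682) (BT.node (nat_lit 4743430) (BT.node (nat_lit 4743427) (BT.leaf (nat_lit 716576)) (BT.leaf (nat_lit 686460))) (BT.node (nat_lit 4743431) (BT.leaf (nat_lit 686460)) (BT.leaf (nat_lit 686460)))) (BT.node (nat_lit 4743686) (BT.node (nat_lit 4743683) (BT.leaf (nat_lit 682124)) (BT.leaf (nat_lit 682124))) (BT.node (nat_lit 4743687) (BT.leaf (nat_lit 682124)) (BT.leaf (nat_lit 682124))))))))))) (BT.node (nat_lit 4757128) (BT.node (nat_lit 4750149) (BT.node (nat_lit 4747329) (BT.node (nat_lit 4745671) (BT.node (nat_lit 4745096) (BT.node (nat_lit 4744515) (BT.node (nat_lit 4744006) (BT.node (nat_lit 4743877) (BT.node (nat_lit 4743812) (BT.leaf (nat_lit 686404)) (BT.leaf (nat_lit 688008))) (BT.node (nat_lit 4743940) (BT.leaf (nat_lit 717404)) (BT.leaf (nat_lit 684152)))) (BT.node (nat_lit 4744008) (BT.node (nat_lit 4744007) (BT.leaf (nat_lit 699712)) (BT.leaf (nat_lit 699712))) (BT.node (nat_lit 4744133) (BT.leaf (nat_lit 700940)) (BT.leaf (nat_lit 691340))))) (BT.node (nat_lit 4745091) (BT.node (nat_lit 4745089) (BT.node (nat_lit 4744516) (BT.leaf (nat_lit 709192)) (BT.leaf (nat_lit 709192))) (BT.node (nat_lit 4745090) (BT.leaf (nat_lit 722644)) (BT.leaf (nat_lit 722644)))) (BT.node (nat_lit 4745094) (BT.node (nat_lit 4745093) (BT.leaf (nat_lit 722644)) (BT.leaf (nat_lit 722644))) (BT.node (nat_lit 4745095) (BT.leaf (nat_lit 722644)) (BT.leaf (nat_lit 722644)))))) (BT.node (nat_lit 4745412) (BT.node (nat_lit 4745345) (BT.node (nat_lit 4745282) (BT.node (nat_lit 4745281) (BT.leaf (nat_lit 722644)) (BT.leaf (nat_lit 704024))) (BT.node (nat_lit 4745285) (BT.leaf (nat_lit 704024)) (BT.leaf (nat_lit 704024)))) (BT.node (nat_lit 4745347) (BT.node (nat_lit 4745346) (BT.leaf (nat_lit 703216)) (BT.leaf (nat_lit 703216))) (BT.node (nat_lit 4745348) (BT.leaf (nat_lit 703216)) (BT.leaf (nat_lit 703216))))) (BT.node (nat_lit 4745540) (BT.node (nat_lit 4745478) (BT.node (nat_lit 4745477) (BT.leaf (nat_lit 698708)) (BT.leaf (nat_lit 712496))) (BT.node (nat_lit 4745479) (BT.leaf (nat_lit 712496)) (BT.leaf (nat_lit 712496)))) (BT.node (nat_lit 4745605) (BT.node (nat_lit 4745603) (BT.leaf (nat_lit 708624)) (BT.leaf (nat_lit 719408))) (BT.node (nat_lit 4745670) (BT.leaf (nat_lit 719408)) (BT.leaf (nat_lit 685376))))))) (BT.node (nat_lit 4746562) (BT.node (nat_lit 4746497) (BT.node (nat_lit 4746241) (BT.node (nat_lit 4745925) (BT.node (nat_lit 4745857) (BT.leaf (nat_lit 685376)) (BT.leaf (nat_lit 721380))) (BT.node (nat_lit 4746180) (BT.leaf (nat_lit 693404)) (BT.leaf (nat_lit 714232)))) (BT.node (nat_lit 4746434) (BT.node (nat_lit 4746245) (BT.leaf (nat_lit 701056)) (BT.leaf (nat_lit 701056))) (BT.node (nat_lit 4746440) (BT.leaf (nat_lit 701068)) (BT.leaf (nat_lit 701068))))) (BT.node (nat_lit 4746502) (BT.node (nat_lit 4746499) (BT.node (nat_lit 4746498) (BT.leaf (nat_lit 702432)) (BT.leaf (nat_lit 702432))) (BT.node (nat_lit 4746501) (BT.leaf (nat_lit 702432)) (BT.leaf (nat_lit 702432)))) (BT.node (nat_lit 4746504) (BT.node (nat_lit 4746503) (BT.leaf (nat_lit 702432)) (BT.leaf (nat_lit 702432))) (BT.node (nat_lit 4746561) (BT.leaf (nat_lit 702432)) (BT.leaf (nat_lit 704532)))))) (BT.node (nat_lit 4746755) (BT.node (nat_lit 4746689) (BT.node (nat_lit 4746567) (BT.node (nat_lit 4746566) (BT.leaf (nat_lit 704532)) (BT.leaf (nat_lit 704532))) (BT.node (nat_lit 4746568) (BT.leaf (nat_lit 704532)) (BT.leaf (nat_lit 704532)))) (BT.node (nat_lit 4746753) (BT.node (nat_lit 4746690) (BT.leaf (nat_lit 712016)) (BT.leaf (nat_lit 712016))) (BT.node (nat_lit 4746754) (BT.leaf (nat_lit 763896)) (BT.leaf (nat_lit 763896))))) (BT.node (nat_lit 4747016) (BT.node (nat_lit 4746945) (BT.node (nat_lit 4746757) (BT.leaf (nat_lit 763896)) (BT.leaf (nat_lit 763896))) (BT.node (nat_lit 4746949) (BT.leaf (nat_lit 700648)) (BT.leaf (nat_lit 700648)))) (BT.node (nat_lit 4747269) (BT.node (nat_lit 4747267) (BT.leaf (nat_lit 695584)) (BT.leaf (nat_lit 704136))) (BT.node (nat_lit 4747270) (BT.leaf (nat_lit 704136)) (BT.leaf (nat_lit 704136)))))))) (BT.node (nat_lit 4748679) (BT.node (nat_lit 4747720) (BT.node (nat_lit 4747394) (BT.node (nat_lit 4747334) (BT.node (nat_lit 4747331) (BT.node (nat_lit 4747330) (BT.leaf (nat_lit 706548)) (BT.leaf (nat_lit 722076))) (BT.node (nat_lit 4747333) (BT.leaf (nat_lit 722076)) (BT.leaf (nat_lit 706548)))) (BT.node (nat_lit 4747336) (BT.node (nat_lit 4747335) (BT.leaf (nat_lit 722076)) (BT.leaf (nat_lit 722076))) (BT.node (nat_lit 4747393) (BT.leaf (nat_lit 722076)) (BT.leaf (nat_lit 719648))))) (BT.node (nat_lit 4747585) (BT.node (nat_lit 4747397) (BT.node (nat_lit 4747395) (BT.leaf (nat_lit 773028)) (BT.leaf (nat_lit 773028))) (BT.node (nat_lit 4747400) (BT.leaf (nat_lit 773028)) (BT.leaf (nat_lit 684472)))) (BT.node (nat_lit 4747591) (BT.node (nat_lit 4747590) (BT.leaf (nat_lit 690348)) (BT.leaf (nat_lit 690348))) (BT.node (nat_lit 4747653) (BT.leaf (nat_lit 690348)) (BT.leaf (nat_lit 721368)))))) (BT.node (nat_lit 4748614) (BT.node (nat_lit 4748609) (BT.node (nat_lit 4747784) (BT.node (nat_lit 4747780) (BT.leaf (nat_lit 719916)) (BT.leaf (nat_lit 711268))) (BT.node (nat_lit 4747912) (BT.leaf (nat_lit 711268)) (BT.leaf (nat_lit 707304)))) (BT.node (nat_lit 4748611) (BT.node (nat_lit 4748610) (BT.leaf (nat_lit 692216)) (BT.leaf (nat_lit 692216))) (BT.node (nat_lit 4748613) (BT.leaf (nat_lit 692216)) (BT.leaf (nat_lit 692216))))) (BT.node (nat_lit 4748674) (BT.node (nat_lit 4748616) (BT.node (nat_lit 4748615) (BT.leaf (nat_lit 692216)) (BT.leaf (nat_lit 692216))) (BT.node (nat_lit 4748673) (BT.leaf (nat_lit 692216)) (BT.leaf (nat_lit 694256)))) (BT.node (nat_lit 4748677) (BT.node (nat_lit 4748675) (BT.leaf (nat_lit 694256)) (BT.leaf (nat_lit 694256))) (BT.node (nat_lit 4748678) (BT.leaf (nat_lit 694256)) (BT.leaf (nat_lit 694256))))))) (BT.node (nat_lit 4749317) (BT.node (nat_lit 4748806) (BT.node (nat_lit 4748744) (BT.node (nat_lit 4748739) (BT.node (nat_lit 4748738) (BT.leaf (nat_lit 694256)) (BT.leaf (nat_lit 702736))) (BT.node (nat_lit 4748742) (BT.leaf (nat_lit 702736)) (BT.leaf (nat_lit 702736)))) (BT.node (nat_lit 4748802) (BT.node (nat_lit 4748801) (BT.leaf (nat_lit 702736)) (BT.leaf (nat_lit 702732))) (BT.node (nat_lit 4748804) (BT.leaf (nat_lit 702732)) (BT.leaf (nat_lit 702732))))) (BT.node (nat_lit 4749313) (BT.node (nat_lit 4748808) (BT.node (nat_lit 4748807) (BT.leaf (nat_lit 702732)) (BT.leaf (nat_lit 702732))) (BT.node (nat_lit 4748995) (BT.leaf (nat_lit 702732)) (BT.leaf (nat_lit 697188)))) (BT.node (nat_lit 4749315) (BT.node (nat_lit 4749314) (BT.leaf (nat_lit 704276)) (BT.leaf (nat_lit 704276))) (BT.node (nat_lit 4749316) (BT.leaf (nat_lit 704276)) (BT.leaf (nat_lit 704276)))))) (BT.node (nat_lit 4749762) (BT.node (nat_lit 4749698) (BT.node (nat_lit 4749379) (BT.node (nat_lit 4749320) (BT.leaf (nat_lit 704276)) (BT.leaf (nat_lit 704276))) (BT.node (nat_lit 4749576) (BT.leaf (nat_lit 719628)) (BT.leaf (nat_lit 774584)))) (BT.node (nat_lit 4749704) (BT.node (nat_lit 4749699) (BT.leaf (nat_lit 716464)) (BT.leaf (nat_lit 716464))) (BT.node (nat_lit 4749761) (BT.leaf (nat_lit 716464)) (BT.leaf (nat_lit 693952))))) (BT.node (nat_lit 4749894) (BT.node (nat_lit 4749766) (BT.node (nat_lit 4749765) (BT.leaf (nat_lit 693952)) (BT.leaf (nat_lit 693952))) (BT.node (nat_lit 4749767) (BT.leaf (nat_lit 693952)) (BT.leaf (nat_lit 693952)))) (BT.node (nat_lit 4749955) (BT.node (nat_lit 4749895) (BT.leaf (nat_lit 699528)) (BT.leaf (nat_lit 699528))) (BT.node (nat_lit 4749959) (BT.leaf (nat_lit 694016)) (BT.leaf (nat_lit 694016))))))))) (BT.node (nat_lit 4752835) (BT.node (nat_lit 4751494) (BT.node (nat_lit 4750661) (BT.node (nat_lit 4750338) (BT.node (nat_lit 4750274) (BT.node (nat_lit 4750151) (BT.node (nat_lit 4750150) (BT.leaf (nat_lit 709628)) (BT.leaf (nat_lit 709628))) (BT.node (nat_lit 4750152) (BT.leaf (nat_lit 709628)) (BT.leaf (nat_lit 709628)))) (BT.node (nat_lit 4750277) (BT.node (nat_lit 4750275) (BT.leaf (nat_lit 712092)) (BT.leaf (nat_lit 712092))) (BT.node (nat_lit 4750337) (BT.leaf (nat_lit 712092)) (BT.leaf (nat_lit 711796))))) (BT.node (nat_lit 4750344) (BT.node (nat_lit 4750342) (BT.node (nat_lit 4750339) (BT.leaf (nat_lit 711796)) (BT.leaf (nat_lit 711796))) (BT.node (nat_lit 4750343) (BT.leaf (nat_lit 711796)) (BT.leaf (nat_lit 711796)))) (BT.node (nat_lit 4750468) (BT.node (nat_lit 4750466) (BT.leaf (nat_lit 711796)) (BT.leaf (nat_lit 709732))) (BT.node (nat_lit 4750469) (BT.leaf (nat_lit 709732)) (BT.leaf (nat_lit 712040)))))) (BT.node (nat_lit 4750853) (BT.node (nat_lit 4750726) (BT.node (nat_lit 4750663) (BT.node (nat_lit 4750662) (BT.leaf (nat_lit 696664)) (BT.leaf (nat_lit 701376))) (BT.node (nat_lit 4750724) (BT.leaf (nat_lit 701376)) (BT.leaf (nat_lit 708400)))) (BT.node (nat_lit 4750788) (BT.node (nat_lit 4750728) (BT.leaf (nat_lit 717100)) (BT.leaf (nat_lit 717100))) (BT.node (nat_lit 4750792) (BT.leaf (nat_lit 719964)) (BT.leaf (nat_lit 719964))))) (BT.node (nat_lit 4751428) (BT.node (nat_lit 4751425) (BT.node (nat_lit 4750980) (BT.leaf (nat_lit 706428)) (BT.leaf (nat_lit 714628))) (BT.node (nat_lit 4751426) (BT.leaf (nat_lit 686056)) (BT.leaf (nat_lit 686056)))) (BT.node (nat_lit 4751432) (BT.node (nat_lit 4751431) (BT.leaf (nat_lit 713500)) (BT.leaf (nat_lit 686056))) (BT.node (nat_lit 4751493) (BT.leaf (nat_lit 713500)) (BT.leaf (nat_lit 711120))))))) (BT.node (nat_lit 4752449) (BT.node (nat_lit 4751751) (BT.node (nat_lit 4751624) (BT.node (nat_lit 4751618) (BT.node (nat_lit 4751495) (BT.leaf (nat_lit 711120)) (BT.leaf (nat_lit 711120))) (BT.node (nat_lit 4751620) (BT.leaf (nat_lit 694816)) (BT.leaf (nat_lit 694816)))) (BT.node (nat_lit 4751747) (BT.node (nat_lit 4751746) (BT.leaf (nat_lit 694816)) (BT.leaf (nat_lit 704556))) (BT.node (nat_lit 4751750) (BT.leaf (nat_lit 704556)) (BT.leaf (nat_lit 704556))))) (BT.node (nat_lit 4752068) (BT.node (nat_lit 4751941) (BT.node (nat_lit 4751939) (BT.leaf (nat_lit 704556)) (BT.leaf (nat_lit 696672))) (BT.node (nat_lit 4751944) (BT.leaf (nat_lit 696672)) (BT.leaf (nat_lit 696672)))) (BT.node (nat_lit 4752072) (BT.node (nat_lit 4752069) (BT.leaf (nat_lit 704892)) (BT.leaf (nat_lit 704892))) (BT.node (nat_lit 4752129) (BT.leaf (nat_lit 806848)) (BT.leaf (nat_lit 806852)))))) (BT.node (nat_lit 4752641) (BT.node (nat_lit 4752519) (BT.node (nat_lit 4752513) (BT.node (nat_lit 4752453) (BT.leaf (nat_lit 698588)) (BT.leaf (nat_lit 698588))) (BT.node (nat_lit 4752518) (BT.leaf (nat_lit 712444)) (BT.leaf (nat_lit 719528)))) (BT.node (nat_lit 4752579) (BT.node (nat_lit 4752578) (BT.leaf (nat_lit 712444)) (BT.leaf (nat_lit 714192))) (BT.node (nat_lit 4752580) (BT.leaf (nat_lit 714192)) (BT.leaf (nat_lit 714192))))) (BT.node (nat_lit 4752711) (BT.node (nat_lit 4752706) (BT.node (nat_lit 4752645) (BT.leaf (nat_lit 705496)) (BT.leaf (nat_lit 705496))) (BT.node (nat_lit 4752710) (BT.leaf (nat_lit 715308)) (BT.leaf (nat_lit 715308)))) (BT.node (nat_lit 4752770) (BT.node (nat_lit 4752769) (BT.leaf (nat_lit 715308)) (BT.leaf (nat_lit 758296))) (BT.node (nat_lit 4752771) (BT.leaf (nat_lit 758296)) (BT.leaf (nat_lit 758296)))))))) (BT.node (nat_lit 4755141) (BT.node (nat_lit 4754756) (BT.node (nat_lit 4753349) (BT.node (nat_lit 4753157) (BT.node (nat_lit 4753154) (BT.node (nat_lit 4753153) (BT.leaf (nat_lit 758300)) (BT.leaf (nat_lit 710644))) (BT.node (nat_lit 4753155) (BT.leaf (nat_lit 710644)) (BT.leaf (nat_lit 710644)))) (BT.node (nat_lit 4753347) (BT.node (nat_lit 4753345) (BT.leaf (nat_lit 691232)) (BT.leaf (nat_lit 698584))) (BT.node (nat_lit 4753348) (BT.leaf (nat_lit 698584)) (BT.leaf (nat_lit 698584))))) (BT.node (nat_lit 4753736) (BT.node (nat_lit 4753668) (BT.node (nat_lit 4753352) (BT.leaf (nat_lit 698584)) (BT.leaf (nat_lit 698584))) (BT.node (nat_lit 4753732) (BT.leaf (nat_lit 690080)) (BT.leaf (nat_lit 689236)))) (BT.node (nat_lit 4754244) (BT.node (nat_lit 4753797) (BT.leaf (nat_lit 689236)) (BT.leaf (nat_lit 722232))) (BT.node (nat_lit 4754248) (BT.leaf (nat_lit 693740)) (BT.leaf (nat_lit 693740)))))) (BT.node (nat_lit 4755011) (BT.node (nat_lit 4754947) (BT.node (nat_lit 4754883) (BT.node (nat_lit 4754757) (BT.leaf (nat_lit 687152)) (BT.leaf (nat_lit 687152))) (BT.node (nat_lit 4754885) (BT.leaf (nat_lit 703932)) (BT.leaf (nat_lit 703932)))) (BT.node (nat_lit 4755009) (BT.node (nat_lit 4754949) (BT.leaf (nat_lit 710608)) (BT.leaf (nat_lit 710608))) (BT.node (nat_lit 4755010) (BT.leaf (nat_lit 710572)) (BT.leaf (nat_lit 710572))))) (BT.node (nat_lit 4755075) (BT.node (nat_lit 4755014) (BT.node (nat_lit 4755013) (BT.leaf (nat_lit 710572)) (BT.leaf (nat_lit 710572))) (BT.node (nat_lit 4755015) (BT.leaf (nat_lit 710572)) (BT.leaf (nat_lit 710572)))) (BT.node (nat_lit 4755078) (BT.node (nat_lit 4755076) (BT.leaf (nat_lit 706284)) (BT.leaf (nat_lit 706284))) (BT.node (nat_lit 4755080) (BT.leaf (nat_lit 706284)) (BT.leaf (nat_lit 706284))))))) (BT.node (nat_lit 4756867) (BT.node (nat_lit 4755720) (BT.node (nat_lit 4755270) (BT.node (nat_lit 4755265) (BT.node (nat_lit 4755144) (BT.leaf (nat_lit 689240)) (BT.leaf (nat_lit 720836))) (BT.node (nat_lit 4755269) (BT.leaf (nat_lit 689232)) (BT.leaf (nat_lit 707600)))) (BT.node (nat_lit 4755521) (BT.node (nat_lit 4755393) (BT.leaf (nat_lit 707600)) (BT.leaf (nat_lit 720128))) (BT.node (nat_lit 4755525) (BT.leaf (nat_lit 706804)) (BT.leaf (nat_lit 706804))))) (BT.node (nat_lit 4755969) (BT.node (nat_lit 4755846) (BT.node (nat_lit 4755845) (BT.leaf (nat_lit 707440)) (BT.leaf (nat_lit 702396))) (BT.node (nat_lit 4755847) (BT.leaf (nat_lit 702396)) (BT.leaf (nat_lit 702396)))) (BT.node (nat_lit 4756865) (BT.node (nat_lit 4756805) (BT.leaf (nat_lit 709220)) (BT.leaf (nat_lit 717860))) (BT.node (nat_lit 4756866) (BT.leaf (nat_lit 710536)) (BT.leaf (nat_lit 710536)))))) (BT.node (nat_lit 4757059) (BT.node (nat_lit 4756930) (BT.node (nat_lit 4756869) (BT.node (nat_lit 4756868) (BT.leaf (nat_lit 710536)) (BT.leaf (nat_lit 710536))) (BT.node (nat_lit 4756872) (BT.leaf (nat_lit 710536)) (BT.leaf (nat_lit 710536)))) (BT.node (nat_lit 4756935) (BT.node (nat_lit 4756931) (BT.leaf (nat_lit 700956)) (BT.leaf (nat_lit 700956))) (BT.node (nat_lit 4757057) (BT.leaf (nat_lit 700956)) (BT.leaf (nat_lit 699352))))) (BT.node (nat_lit 4757123) (BT.node (nat_lit 4757121) (BT.node (nat_lit 4757064) (BT.leaf (nat_lit 699352)) (BT.leaf (nat_lit 699352))) (BT.node (nat_lit 4757122) (BT.leaf (nat_lit 696540)) (BT.leaf (nat_lit 696540)))) (BT.node (nat_lit 4757126) (BT.node (nat_lit 4757125) (BT.leaf (nat_lit 696540)) (BT.leaf (nat_lit 696540))) (BT.node (nat_lit 4757127) (BT.leaf (nat_lit 696540)) (BT.leaf (nat_lit 696540)))))))))) (BT.node (nat_lit 4763971) (BT.node (nat_lit 4760391) (BT.node (nat_lit 4758920) (BT.node (nat_lit 4757635) (BT.node (nat_lit 4757448) (BT.node (nat_lit 4757317) (BT.node (nat_lit 4757187) (BT.node (nat_lit 4757185) (BT.leaf (nat_lit 696540)) (BT.leaf (nat_lit 723576))) (BT.node (nat_lit 4757316) (BT.leaf (nat_lit 723576)) (BT.leaf (nat_lit 689280)))) (BT.node (nat_lit 4757443) (BT.node (nat_lit 4757320) (BT.leaf (nat_lit 689280)) (BT.leaf (nat_lit 689280))) (BT.node (nat_lit 4757444) (BT.leaf (nat_lit 759980)) (BT.leaf (nat_lit 686796))))) (BT.node (nat_lit 4757511) (BT.node (nat_lit 4757509) (BT.node (nat_lit 4757506) (BT.leaf (nat_lit 686796)) (BT.leaf (nat_lit 700784))) (BT.node (nat_lit 4757510) (BT.leaf (nat_lit 700784)) (BT.leaf (nat_lit 700784)))) (BT.node (nat_lit 4757633) (BT.node (nat_lit 4757512) (BT.leaf (nat_lit 700784)) (BT.leaf (nat_lit 700784))) (BT.node (nat_lit 4757634) (BT.leaf (nat_lit 709660)) (BT.leaf (nat_lit 709660)))))) (BT.node (nat_lit 4758660) (BT.node (nat_lit 4758337) (BT.node (nat_lit 4758020) (BT.node (nat_lit 4757637) (BT.leaf (nat_lit 709660)) (BT.leaf (nat_lit 709660))) (BT.node (nat_lit 4758148) (BT.leaf (nat_lit 688812)) (BT.leaf (nat_lit 715140)))) (BT.node (nat_lit 4758598) (BT.node (nat_lit 4758340) (BT.leaf (nat_lit 687644)) (BT.leaf (nat_lit 687644))) (BT.node (nat_lit 4758599) (BT.leaf (nat_lit 696864)) (BT.leaf (nat_lit 696864))))) (BT.node (nat_lit 4758914) (BT.node (nat_lit 4758728) (BT.node (nat_lit 4758661) (BT.leaf (nat_lit 709648)) (BT.leaf (nat_lit 688080))) (BT.node (nat_lit 4758913) (BT.leaf (nat_lit 714492)) (BT.leaf (nat_lit 690972)))) (BT.node (nat_lit 4758918) (BT.node (nat_lit 4758915) (BT.leaf (nat_lit 690972)) (BT.leaf (nat_lit 690972))) (BT.node (nat_lit 4758919) (BT.leaf (nat_lit 690972)) (BT.leaf (nat_lit 690972))))))) (BT.node (nat_lit 4759622) (BT.node (nat_lit 4759048) (BT.node (nat_lit 4758983) (BT.node (nat_lit 4758979) (BT.node (nat_lit 4758978) (BT.leaf (nat_lit 690972)) (BT.leaf (nat_lit 690636))) (BT.node (nat_lit 4758982) (BT.leaf (nat_lit 690636)) (BT.leaf (nat_lit 690636)))) (BT.node (nat_lit 4759041) (BT.node (nat_lit 4758984) (BT.leaf (nat_lit 690636)) (BT.leaf (nat_lit 708276))) (BT.node (nat_lit 4759045) (BT.leaf (nat_lit 708204)) (BT.leaf (nat_lit 708204))))) (BT.node (nat_lit 4759172) (BT.node (nat_lit 4759112) (BT.node (nat_lit 4759105) (BT.leaf (nat_lit 708204)) (BT.leaf (nat_lit 688316))) (BT.node (nat_lit 4759171) (BT.leaf (nat_lit 688316)) (BT.leaf (nat_lit 702324)))) (BT.node (nat_lit 4759617) (BT.node (nat_lit 4759173) (BT.leaf (nat_lit 702324)) (BT.leaf (nat_lit 702324))) (BT.node (nat_lit 4759618) (BT.leaf (nat_lit 711332)) (BT.leaf (nat_lit 711332)))))) (BT.node (nat_lit 4760323) (BT.node (nat_lit 4760258) (BT.node (nat_lit 4760004) (BT.node (nat_lit 4759944) (BT.leaf (nat_lit 711332)) (BT.leaf (nat_lit 716156))) (BT.node (nat_lit 4760005) (BT.leaf (nat_lit 688688)) (BT.leaf (nat_lit 688688)))) (BT.node (nat_lit 4760261) (BT.node (nat_lit 4760259) (BT.leaf (nat_lit 797164)) (BT.leaf (nat_lit 797164))) (BT.node (nat_lit 4760322) (BT.leaf (nat_lit 797164)) (BT.leaf (nat_lit 714568))))) (BT.node (nat_lit 4760386) (BT.node (nat_lit 4760326) (BT.node (nat_lit 4760324) (BT.leaf (nat_lit 714568)) (BT.leaf (nat_lit 714568))) (BT.node (nat_lit 4760328) (BT.leaf (nat_lit 714568)) (BT.leaf (nat_lit 714568)))) (BT.node (nat_lit 4760388) (BT.node (nat_lit 4760387) (BT.leaf (nat_lit 714536)) (BT.leaf (nat_lit 714536))) (BT.node (nat_lit 4760390) (BT.leaf (nat_lit 714540)) (BT.leaf (nat_lit 714536)))))))) (BT.node (nat_lit 4762311) (BT.node (nat_lit 4761349) (BT.node (nat_lit 4760518) (BT.node (nat_lit 4760455) (BT.node (nat_lit 4760451) (BT.node (nat_lit 4760450) (BT.leaf (nat_lit 714536)) (BT.leaf (nat_lit 703124))) (BT.node (nat_lit 4760454) (BT.leaf (nat_lit 703124)) (BT.leaf (nat_lit 703124)))) (BT.node (nat_lit 4760516) (BT.node (nat_lit 4760515) (BT.leaf (nat_lit 703124)) (BT.leaf (nat_lit 720756))) (BT.node (nat_lit 4760517) (BT.leaf (nat_lit 699152)) (BT.leaf (nat_lit 699152))))) (BT.node (nat_lit 4761025) (BT.node (nat_lit 4760772) (BT.node (nat_lit 4760769) (BT.leaf (nat_lit 713044)) (BT.leaf (nat_lit 715412))) (BT.node (nat_lit 4760773) (BT.leaf (nat_lit 715412)) (BT.leaf (nat_lit 715412)))) (BT.node (nat_lit 4761029) (BT.node (nat_lit 4761028) (BT.leaf (nat_lit 692916)) (BT.leaf (nat_lit 692916))) (BT.node (nat_lit 4761347) (BT.leaf (nat_lit 692916)) (BT.leaf (nat_lit 686880)))))) (BT.node (nat_lit 4761924) (BT.node (nat_lit 4761857) (BT.node (nat_lit 4761351) (BT.node (nat_lit 4761350) (BT.leaf (nat_lit 686880)) (BT.leaf (nat_lit 686880))) (BT.node (nat_lit 4761352) (BT.leaf (nat_lit 686880)) (BT.leaf (nat_lit 686880)))) (BT.node (nat_lit 4761922) (BT.node (nat_lit 4761861) (BT.leaf (nat_lit 696316)) (BT.leaf (nat_lit 696316))) (BT.node (nat_lit 4761923) (BT.leaf (nat_lit 707364)) (BT.leaf (nat_lit 707364))))) (BT.node (nat_lit 4761989) (BT.node (nat_lit 4761985) (BT.node (nat_lit 4761928) (BT.leaf (nat_lit 707364)) (BT.leaf (nat_lit 707364))) (BT.node (nat_lit 4761988) (BT.leaf (nat_lit 689432)) (BT.leaf (nat_lit 689432)))) (BT.node (nat_lit 4762307) (BT.node (nat_lit 4762306) (BT.leaf (nat_lit 689432)) (BT.leaf (nat_lit 698544))) (BT.node (nat_lit 4762310) (BT.leaf (nat_lit 698544)) (BT.leaf (nat_lit 698544))))))) (BT.node (nat_lit 4762886) (BT.node (nat_lit 4762757) (BT.node (nat_lit 4762568) (BT.node (nat_lit 4762566) (BT.node (nat_lit 4762561) (BT.leaf (nat_lit 698544)) (BT.leaf (nat_lit 687352))) (BT.node (nat_lit 4762567) (BT.leaf (nat_lit 687352)) (BT.leaf (nat_lit 687352)))) (BT.node (nat_lit 4762693) (BT.node (nat_lit 4762692) (BT.leaf (nat_lit 687352)) (BT.leaf (nat_lit 693988))) (BT.node (nat_lit 4762753) (BT.leaf (nat_lit 693988)) (BT.leaf (nat_lit 761436))))) (BT.node (nat_lit 4762823) (BT.node (nat_lit 4762818) (BT.node (nat_lit 4762758) (BT.leaf (nat_lit 761436)) (BT.leaf (nat_lit 761436))) (BT.node (nat_lit 4762822) (BT.leaf (nat_lit 701404)) (BT.leaf (nat_lit 701404)))) (BT.node (nat_lit 4762882) (BT.node (nat_lit 4762824) (BT.leaf (nat_lit 701404)) (BT.leaf (nat_lit 701404))) (BT.node (nat_lit 4762883) (BT.leaf (nat_lit 693752)) (BT.leaf (nat_lit 693752)))))) (BT.node (nat_lit 4763333) (BT.node (nat_lit 4763012) (BT.node (nat_lit 4763010) (BT.node (nat_lit 4762887) (BT.leaf (nat_lit 693752)) (BT.leaf (nat_lit 693752))) (BT.node (nat_lit 4763011) (BT.leaf (nat_lit 690932)) (BT.leaf (nat_lit 690932)))) (BT.node (nat_lit 4763015) (BT.node (nat_lit 4763014) (BT.leaf (nat_lit 718564)) (BT.leaf (nat_lit 690932))) (BT.node (nat_lit 4763329) (BT.leaf (nat_lit 690932)) (BT.leaf (nat_lit 690940))))) (BT.node (nat_lit 4763780) (BT.node (nat_lit 4763656) (BT.node (nat_lit 4763653) (BT.leaf (nat_lit 690940)) (BT.leaf (nat_lit 706040))) (BT.node (nat_lit 4763715) (BT.leaf (nat_lit 693308)) (BT.leaf (nat_lit 794648)))) (BT.node (nat_lit 4763908) (BT.node (nat_lit 4763905) (BT.leaf (nat_lit 702964)) (BT.leaf (nat_lit 687632))) (BT.node (nat_lit 4763970) (BT.leaf (nat_lit 687632)) (BT.leaf (nat_lit 777376))))))))) (BT.node (nat_lit 4766792) (BT.node (nat_lit 4765894) (BT.node (nat_lit 4764993) (BT.node (nat_lit 4764417) (BT.node (nat_lit 4764227) (BT.node (nat_lit 4764168) (BT.node (nat_lit 4763973) (BT.leaf (nat_lit 777376)) (BT.leaf (nat_lit 777376))) (BT.node (nat_lit 4764226) (BT.leaf (nat_lit 690648)) (BT.leaf (nat_lit 690644)))) (BT.node (nat_lit 4764230) (BT.node (nat_lit 4764229) (BT.leaf (nat_lit 690644)) (BT.leaf (nat_lit 690644))) (BT.node (nat_lit 4764231) (BT.leaf (nat_lit 690644)) (BT.leaf (nat_lit 690644))))) (BT.node (nat_lit 4764484) (BT.node (nat_lit 4764421) (BT.node (nat_lit 4764420) (BT.leaf (nat_lit 716328)) (BT.leaf (nat_lit 716328))) (BT.node (nat_lit 4764483) (BT.leaf (nat_lit 716328)) (BT.leaf (nat_lit 714576)))) (BT.node (nat_lit 4764676) (BT.node (nat_lit 4764485) (BT.leaf (nat_lit 710024)) (BT.leaf (nat_lit 714576))) (BT.node (nat_lit 4764872) (BT.leaf (nat_lit 690748)) (BT.leaf (nat_lit 701616)))))) (BT.node (nat_lit 4765511) (BT.node (nat_lit 4765121) (BT.node (nat_lit 4764997) (BT.node (nat_lit 4764996) (BT.leaf (nat_lit 711280)) (BT.leaf (nat_lit 691620))) (BT.node (nat_lit 4765000) (BT.leaf (nat_lit 691620)) (BT.leaf (nat_lit 711280)))) (BT.node (nat_lit 4765446) (BT.node (nat_lit 4765192) (BT.leaf (nat_lit 714840)) (BT.leaf (nat_lit 694992))) (BT.node (nat_lit 4765510) (BT.leaf (nat_lit 719744)) (BT.leaf (nat_lit 723428))))) (BT.node (nat_lit 4765699) (BT.node (nat_lit 4765633) (BT.node (nat_lit 4765572) (BT.leaf (nat_lit 723428)) (BT.leaf (nat_lit 698608))) (BT.node (nat_lit 4765698) (BT.leaf (nat_lit 708116)) (BT.leaf (nat_lit 694276)))) (BT.node (nat_lit 4765703) (BT.node (nat_lit 4765702) (BT.leaf (nat_lit 694276)) (BT.leaf (nat_lit 694276))) (BT.node (nat_lit 4765891) (BT.leaf (nat_lit 694276)) (BT.leaf (nat_lit 711528))))))) (BT.node (nat_lit 4766530) (BT.node (nat_lit 4766215) (BT.node (nat_lit 4766149) (BT.node (nat_lit 4765959) (BT.node (nat_lit 4765895) (BT.leaf (nat_lit 711528)) (BT.leaf (nat_lit 711528))) (BT.node (nat_lit 4766020) (BT.leaf (nat_lit 691400)) (BT.leaf (nat_lit 701952)))) (BT.node (nat_lit 4766210) (BT.node (nat_lit 4766209) (BT.leaf (nat_lit 691588)) (BT.leaf (nat_lit 720500))) (BT.node (nat_lit 4766214) (BT.leaf (nat_lit 720500)) (BT.leaf (nat_lit 720500))))) (BT.node (nat_lit 4766403) (BT.node (nat_lit 4766401) (BT.node (nat_lit 4766216) (BT.leaf (nat_lit 720500)) (BT.leaf (nat_lit 720500))) (BT.node (nat_lit 4766402) (BT.leaf (nat_lit 711512)) (BT.leaf (nat_lit 711512)))) (BT.node (nat_lit 4766407) (BT.node (nat_lit 4766406) (BT.leaf (nat_lit 711512)) (BT.leaf (nat_lit 711512))) (BT.node (nat_lit 4766408) (BT.leaf (nat_lit 711512)) (BT.leaf (nat_lit 711512)))))) (BT.node (nat_lit 4766726) (BT.node (nat_lit 4766662) (BT.node (nat_lit 4766657) (BT.node (nat_lit 4766533) (BT.leaf (nat_lit 794980)) (BT.leaf (nat_lit 717912))) (BT.node (nat_lit 4766658) (BT.leaf (nat_lit 695900)) (BT.leaf (nat_lit 695900)))) (BT.node (nat_lit 4766664) (BT.node (nat_lit 4766663) (BT.leaf (nat_lit 695900)) (BT.leaf (nat_lit 695900))) (BT.node (nat_lit 4766721) (BT.leaf (nat_lit 695900)) (BT.leaf (nat_lit 711504))))) (BT.node (nat_lit 4766787) (BT.node (nat_lit 4766785) (BT.node (nat_lit 4766727) (BT.leaf (nat_lit 711504)) (BT.leaf (nat_lit 711504))) (BT.node (nat_lit 4766786) (BT.leaf (nat_lit 711516)) (BT.leaf (nat_lit 711516)))) (BT.node (nat_lit 4766790) (BT.node (nat_lit 4766788) (BT.leaf (nat_lit 711516)) (BT.leaf (nat_lit 711516))) (BT.node (nat_lit 4766791) (BT.leaf (nat_lit 711516)) (BT.leaf (nat_lit 711516)))))))) (BT.node (nat_lit 4770693) (BT.node (nat_lit 4769666) (BT.node (nat_lit 4769284) (BT.node (nat_lit 4768006) (BT.node (nat_lit 4767621) (BT.node (nat_lit 4766853) (BT.leaf (nat_lit 711516)) (BT.leaf (nat_lit 692564))) (BT.node (nat_lit 4768001) (BT.leaf (nat_lit 688808)) (BT.leaf (nat_lit 709048)))) (BT.node (nat_lit 4768968) (BT.node (nat_lit 4768007) (BT.leaf (nat_lit 709048)) (BT.leaf (nat_lit 709048))) (BT.node (nat_lit 4769093) (BT.leaf (nat_lit 689128)) (BT.leaf (nat_lit 700476))))) (BT.node (nat_lit 4769602) (BT.node (nat_lit 4769414) (BT.node (nat_lit 4769349) (BT.leaf (nat_lit 701024)) (BT.leaf (nat_lit 716212))) (BT.node (nat_lit 4769415) (BT.leaf (nat_lit 722208)) (BT.leaf (nat_lit 722208)))) (BT.node (nat_lit 4769604) (BT.node (nat_lit 4769603) (BT.leaf (nat_lit 717196)) (BT.leaf (nat_lit 717196))) (BT.node (nat_lit 4769665) (BT.leaf (nat_lit 717196)) (BT.leaf (nat_lit 707548)))))) (BT.node (nat_lit 4770244) (BT.node (nat_lit 4770050) (BT.node (nat_lit 4769671) (BT.node (nat_lit 4769670) (BT.leaf (nat_lit 707548)) (BT.leaf (nat_lit 707548))) (BT.node (nat_lit 4769672) (BT.leaf (nat_lit 707548)) (BT.leaf (nat_lit 707548)))) (BT.node (nat_lit 4770180) (BT.node (nat_lit 4770052) (BT.leaf (nat_lit 692008)) (BT.leaf (nat_lit 692008))) (BT.node (nat_lit 4770243) (BT.leaf (nat_lit 700852)) (BT.leaf (nat_lit 703276))))) (BT.node (nat_lit 4770625) (BT.node (nat_lit 4770373) (BT.node (nat_lit 4770245) (BT.leaf (nat_lit 703276)) (BT.leaf (nat_lit 703276))) (BT.node (nat_lit 4770376) (BT.leaf (nat_lit 692168)) (BT.leaf (nat_lit 692168)))) (BT.node (nat_lit 4770629) (BT.node (nat_lit 4770626) (BT.leaf (nat_lit 708464)) (BT.leaf (nat_lit 706888))) (BT.node (nat_lit 4770690) (BT.leaf (nat_lit 708464)) (BT.leaf (nat_lit 700824))))))) (BT.node (nat_lit 4771911) (BT.node (nat_lit 4771587) (BT.node (nat_lit 4771395) (BT.node (nat_lit 4770948) (BT.node (nat_lit 4770694) (BT.leaf (nat_lit 700824)) (BT.leaf (nat_lit 700824))) (BT.node (nat_lit 4771394) (BT.leaf (nat_lit 710112)) (BT.leaf (nat_lit 698476)))) (BT.node (nat_lit 4771399) (BT.node (nat_lit 4771398) (BT.leaf (nat_lit 698476)) (BT.leaf (nat_lit 698476))) (BT.node (nat_lit 4771586) (BT.leaf (nat_lit 698476)) (BT.leaf (nat_lit 714708))))) (BT.node (nat_lit 4771905) (BT.node (nat_lit 4771846) (BT.node (nat_lit 4771841) (BT.leaf (nat_lit 714708)) (BT.leaf (nat_lit 698576))) (BT.node (nat_lit 4771847) (BT.leaf (nat_lit 698576)) (BT.leaf (nat_lit 698576)))) (BT.node (nat_lit 4771907) (BT.node (nat_lit 4771906) (BT.leaf (nat_lit 718668)) (BT.leaf (nat_lit 718668))) (BT.node (nat_lit 4771908) (BT.leaf (nat_lit 718668)) (BT.leaf (nat_lit 718668)))))) (BT.node (nat_lit 4772228) (BT.node (nat_lit 4772040) (BT.node (nat_lit 4772034) (BT.node (nat_lit 4771912) (BT.leaf (nat_lit 718668)) (BT.leaf (nat_lit 718668))) (BT.node (nat_lit 4772036) (BT.leaf (nat_lit 707392)) (BT.leaf (nat_lit 707392)))) (BT.node (nat_lit 4772100) (BT.node (nat_lit 4772098) (BT.leaf (nat_lit 707392)) (BT.leaf (nat_lit 707080))) (BT.node (nat_lit 4772164) (BT.leaf (nat_lit 707080)) (BT.leaf (nat_lit 693128))))) (BT.node (nat_lit 4772483) (BT.node (nat_lit 4772423) (BT.node (nat_lit 4772422) (BT.leaf (nat_lit 723268)) (BT.leaf (nat_lit 714496))) (BT.node (nat_lit 4772482) (BT.leaf (nat_lit 714496)) (BT.leaf (nat_lit 794748)))) (BT.node (nat_lit 4772488) (BT.node (nat_lit 4772485) (BT.leaf (nat_lit 714484)) (BT.leaf (nat_lit 794748))) (BT.node (nat_lit 4772546) (BT.leaf (nat_lit 714484)) (BT.leaf (nat_lit 690144)))))))))))) (BT.node (nat_lit 4807175) (BT.node (nat_lit 4791239) (BT.node (nat_lit 4782341) (BT.node (nat_lit 4777286) (BT.node (nat_lit 4775749) (BT.node (nat_lit 4774278) (BT.node (nat_lit 4772998) (BT.node (nat_lit 4772867) (BT.node (nat_lit 4772675) (BT.node (nat_lit 4772674) (BT.leaf (nat_lit 690144)) (BT.leaf (nat_lit 698816))) (BT.node (nat_lit 4772676) (BT.leaf (nat_lit 698816)) (BT.leaf (nat_lit 698816)))) (BT.node (nat_lit 4772993) (BT.node (nat_lit 4772869) (BT.leaf (nat_lit 690160)) (BT.leaf (nat_lit 690160))) (BT.node (nat_lit 4772997) (BT.leaf (nat_lit 706304)) (BT.leaf (nat_lit 706304))))) (BT.node (nat_lit 4773381) (BT.node (nat_lit 4773000) (BT.node (nat_lit 4772999) (BT.leaf (nat_lit 719720)) (BT.leaf (nat_lit 719720))) (BT.node (nat_lit 4773380) (BT.leaf (nat_lit 706304)) (BT.leaf (nat_lit 712628)))) (BT.node (nat_lit 4773703) (BT.node (nat_lit 4773698) (BT.leaf (nat_lit 712852)) (BT.leaf (nat_lit 691912))) (BT.node (nat_lit 4773889) (BT.leaf (nat_lit 691912)) (BT.leaf (nat_lit 769408)))))) (BT.node (nat_lit 4774851) (BT.node (nat_lit 4774724) (BT.node (nat_lit 4774338) (BT.node (nat_lit 4774279) (BT.leaf (nat_lit 703480)) (BT.leaf (nat_lit 703480))) (BT.node (nat_lit 4774404) (BT.leaf (nat_lit 719912)) (BT.leaf (nat_lit 705200)))) (BT.node (nat_lit 4774728) (BT.node (nat_lit 4774725) (BT.leaf (nat_lit 697748)) (BT.leaf (nat_lit 697748))) (BT.node (nat_lit 4774850) (BT.leaf (nat_lit 697748)) (BT.leaf (nat_lit 714460))))) (BT.node (nat_lit 4775299) (BT.node (nat_lit 4775297) (BT.node (nat_lit 4774852) (BT.leaf (nat_lit 714460)) (BT.leaf (nat_lit 714460))) (BT.node (nat_lit 4775298) (BT.leaf (nat_lit 719280)) (BT.leaf (nat_lit 719280)))) (BT.node (nat_lit 4775685) (BT.node (nat_lit 4775684) (BT.leaf (nat_lit 719280)) (BT.leaf (nat_lit 691080))) (BT.node (nat_lit 4775688) (BT.leaf (nat_lit 691080)) (BT.leaf (nat_lit 691080))))))) (BT.node (nat_lit 4776199) (BT.node (nat_lit 4776004) (BT.node (nat_lit 4775939) (BT.node (nat_lit 4775751) (BT.node (nat_lit 4775750) (BT.leaf (nat_lit 713952)) (BT.leaf (nat_lit 697360))) (BT.node (nat_lit 4775938) (BT.leaf (nat_lit 697360)) (BT.leaf (nat_lit 704172)))) (BT.node (nat_lit 4776002) (BT.node (nat_lit 4775941) (BT.leaf (nat_lit 704172)) (BT.leaf (nat_lit 704172))) (BT.node (nat_lit 4776003) (BT.leaf (nat_lit 695300)) (BT.leaf (nat_lit 695300))))) (BT.node (nat_lit 4776133) (BT.node (nat_lit 4776070) (BT.node (nat_lit 4776066) (BT.leaf (nat_lit 695300)) (BT.leaf (nat_lit 704160))) (BT.node (nat_lit 4776071) (BT.leaf (nat_lit 704160)) (BT.leaf (nat_lit 704160)))) (BT.node (nat_lit 4776135) (BT.node (nat_lit 4776134) (BT.leaf (nat_lit 695304)) (BT.leaf (nat_lit 695304))) (BT.node (nat_lit 4776198) (BT.leaf (nat_lit 695304)) (BT.leaf (nat_lit 697948)))))) (BT.node (nat_lit 4776775) (BT.node (nat_lit 4776577) (BT.node (nat_lit 4776259) (BT.node (nat_lit 4776257) (BT.leaf (nat_lit 697948)) (BT.leaf (nat_lit 716060))) (BT.node (nat_lit 4776264) (BT.leaf (nat_lit 716060)) (BT.leaf (nat_lit 716060)))) (BT.node (nat_lit 4776709) (BT.node (nat_lit 4776584) (BT.leaf (nat_lit 712200)) (BT.leaf (nat_lit 712200))) (BT.node (nat_lit 4776774) (BT.leaf (nat_lit 691536)) (BT.leaf (nat_lit 698908))))) (BT.node (nat_lit 4777156) (BT.node (nat_lit 4777153) (BT.node (nat_lit 4776776) (BT.leaf (nat_lit 698908)) (BT.leaf (nat_lit 698908))) (BT.node (nat_lit 4777154) (BT.leaf (nat_lit 692972)) (BT.leaf (nat_lit 692972)))) (BT.node (nat_lit 4777282) (BT.node (nat_lit 4777157) (BT.leaf (nat_lit 692972)) (BT.leaf (nat_lit 692972))) (BT.node (nat_lit 4777283) (BT.leaf (nat_lit 697124)) (BT.leaf (nat_lit 697124)))))))) (BT.node (nat_lit 4779523) (BT.node (nat_lit 4778754) (BT.node (nat_lit 4778178) (BT.node (nat_lit 4777923) (BT.node (nat_lit 4777348) (BT.node (nat_lit 4777287) (BT.leaf (nat_lit 697124)) (BT.leaf (nat_lit 697124))) (BT.node (nat_lit 4777922) (BT.leaf (nat_lit 714924)) (BT.leaf (nat_lit 699680)))) (BT.node (nat_lit 4777927) (BT.node (nat_lit 4777926) (BT.leaf (nat_lit 699680)) (BT.leaf (nat_lit 699680))) (BT.node (nat_lit 4778177) (BT.leaf (nat_lit 699680)) (BT.leaf (nat_lit 703420))))) (BT.node (nat_lit 4778502) (BT.node (nat_lit 4778181) (BT.node (nat_lit 4778179) (BT.leaf (nat_lit 703420)) (BT.leaf (nat_lit 703420))) (BT.node (nat_lit 4778498) (BT.leaf (nat_lit 703420)) (BT.leaf (nat_lit 702576)))) (BT.node (nat_lit 4778628) (BT.node (nat_lit 4778503) (BT.leaf (nat_lit 702576)) (BT.leaf (nat_lit 702576))) (BT.node (nat_lit 4778753) (BT.leaf (nat_lit 704596)) (BT.leaf (nat_lit 713516)))))) (BT.node (nat_lit 4779010) (BT.node (nat_lit 4778759) (BT.node (nat_lit 4778757) (BT.node (nat_lit 4778755) (BT.leaf (nat_lit 713516)) (BT.leaf (nat_lit 713516))) (BT.node (nat_lit 4778758) (BT.leaf (nat_lit 713516)) (BT.leaf (nat_lit 713516)))) (BT.node (nat_lit 4778949) (BT.node (nat_lit 4778885) (BT.leaf (nat_lit 713516)) (BT.leaf (nat_lit 699624))) (BT.node (nat_lit 4779009) (BT.leaf (nat_lit 718744)) (BT.leaf (nat_lit 723648))))) (BT.node (nat_lit 4779015) (BT.node (nat_lit 4779013) (BT.node (nat_lit 4779011) (BT.leaf (nat_lit 723648)) (BT.leaf (nat_lit 723648))) (BT.node (nat_lit 4779014) (BT.leaf (nat_lit 723648)) (BT.leaf (nat_lit 723648)))) (BT.node (nat_lit 4779461) (BT.node (nat_lit 4779074) (BT.leaf (nat_lit 723648)) (BT.leaf (nat_lit 762688))) (BT.node (nat_lit 4779522) (BT.leaf (nat_lit 717992)) (BT.leaf (nat_lit 707764))))))) (BT.node (nat_lit 4780294) (BT.node (nat_lit 4779716) (BT.node (nat_lit 4779528) (BT.node (nat_lit 4779526) (BT.node (nat_lit 4779525) (BT.leaf (nat_lit 707764)) (BT.leaf (nat_lit 707764))) (BT.node (nat_lit 4779527) (BT.leaf (nat_lit 707764)) (BT.leaf (nat_lit 707764)))) (BT.node (nat_lit 4779651) (BT.node (nat_lit 4779650) (BT.leaf (nat_lit 707764)) (BT.leaf (nat_lit 702784))) (BT.node (nat_lit 4779652) (BT.leaf (nat_lit 702784)) (BT.leaf (nat_lit 702784))))) (BT.node (nat_lit 4780098) (BT.node (nat_lit 4779784) (BT.node (nat_lit 4779720) (BT.leaf (nat_lit 707176)) (BT.leaf (nat_lit 707176))) (BT.node (nat_lit 4779907) (BT.leaf (nat_lit 707180)) (BT.leaf (nat_lit 710032)))) (BT.node (nat_lit 4780102) (BT.node (nat_lit 4780099) (BT.leaf (nat_lit 772212)) (BT.leaf (nat_lit 772212))) (BT.node (nat_lit 4780103) (BT.leaf (nat_lit 772212)) (BT.leaf (nat_lit 772212)))))) (BT.node (nat_lit 4780871) (BT.node (nat_lit 4780804) (BT.node (nat_lit 4780296) (BT.node (nat_lit 4780295) (BT.leaf (nat_lit 703960)) (BT.leaf (nat_lit 703960))) (BT.node (nat_lit 4780614) (BT.leaf (nat_lit 703960)) (BT.leaf (nat_lit 718952)))) (BT.node (nat_lit 4780867) (BT.node (nat_lit 4780866) (BT.leaf (nat_lit 696652)) (BT.leaf (nat_lit 696636))) (BT.node (nat_lit 4780870) (BT.leaf (nat_lit 696636)) (BT.leaf (nat_lit 696636))))) (BT.node (nat_lit 4780936) (BT.node (nat_lit 4780929) (BT.node (nat_lit 4780872) (BT.leaf (nat_lit 696636)) (BT.leaf (nat_lit 766908))) (BT.node (nat_lit 4780932) (BT.leaf (nat_lit 697508)) (BT.leaf (nat_lit 697508)))) (BT.node (nat_lit 4781893) (BT.node (nat_lit 4781000) (BT.leaf (nat_lit 697508)) (BT.leaf (nat_lit 705472))) (BT.node (nat_lit 4782276) (BT.leaf (nat_lit 698492)) (BT.leaf (nat_lit 710912))))))))) (BT.node (nat_lit 4786369) (BT.node (nat_lit 4784645) (BT.node (nat_lit 4783553) (BT.node (nat_lit 4782600) (BT.node (nat_lit 4782531) (BT.node (nat_lit 4782472) (BT.node (nat_lit 4782343) (BT.leaf (nat_lit 763492)) (BT.leaf (nat_lit 763492))) (BT.node (nat_lit 4782530) (BT.leaf (nat_lit 711100)) (BT.leaf (nat_lit 715204)))) (BT.node (nat_lit 4782536) (BT.node (nat_lit 4782532) (BT.leaf (nat_lit 715204)) (BT.leaf (nat_lit 715204))) (BT.node (nat_lit 4782596) (BT.leaf (nat_lit 773700)) (BT.leaf (nat_lit 715216))))) (BT.node (nat_lit 4782852) (BT.node (nat_lit 4782664) (BT.node (nat_lit 4782657) (BT.leaf (nat_lit 715216)) (BT.leaf (nat_lit 715228))) (BT.node (nat_lit 4782792) (BT.leaf (nat_lit 715228)) (BT.leaf (nat_lit 718472)))) (BT.node (nat_lit 4783429) (BT.node (nat_lit 4782853) (BT.leaf (nat_lit 772316)) (BT.leaf (nat_lit 772316))) (BT.node (nat_lit 4783492) (BT.leaf (nat_lit 704416)) (BT.leaf (nat_lit 720008)))))) (BT.node (nat_lit 4784008) (BT.node (nat_lit 4783559) (BT.node (nat_lit 4783555) (BT.node (nat_lit 4783554) (BT.leaf (nat_lit 701636)) (BT.leaf (nat_lit 701636))) (BT.node (nat_lit 4783558) (BT.leaf (nat_lit 701636)) (BT.leaf (nat_lit 709088)))) (BT.node (nat_lit 4784001) (BT.node (nat_lit 4783617) (BT.leaf (nat_lit 709088)) (BT.leaf (nat_lit 704772))) (BT.node (nat_lit 4784004) (BT.leaf (nat_lit 697604)) (BT.leaf (nat_lit 697604))))) (BT.node (nat_lit 4784449) (BT.node (nat_lit 4784132) (BT.node (nat_lit 4784129) (BT.leaf (nat_lit 697604)) (BT.leaf (nat_lit 716536))) (BT.node (nat_lit 4784264) (BT.leaf (nat_lit 716536)) (BT.leaf (nat_lit 701248)))) (BT.node (nat_lit 4784455) (BT.node (nat_lit 4784454) (BT.leaf (nat_lit 704464)) (BT.leaf (nat_lit 704464))) (BT.node (nat_lit 4784580) (BT.leaf (nat_lit 704464)) (BT.leaf (nat_lit 704468))))))) (BT.node (nat_lit 4785351) (BT.node (nat_lit 4785155) (BT.node (nat_lit 4784771) (BT.node (nat_lit 4784647) (BT.node (nat_lit 4784646) (BT.leaf (nat_lit 704472)) (BT.leaf (nat_lit 704472))) (BT.node (nat_lit 4784712) (BT.leaf (nat_lit 704472)) (BT.leaf (nat_lit 697572)))) (BT.node (nat_lit 4785029) (BT.node (nat_lit 4785028) (BT.leaf (nat_lit 715756)) (BT.leaf (nat_lit 703596))) (BT.node (nat_lit 4785030) (BT.leaf (nat_lit 703596)) (BT.leaf (nat_lit 707424))))) (BT.node (nat_lit 4785283) (BT.node (nat_lit 4785159) (BT.node (nat_lit 4785158) (BT.leaf (nat_lit 697200)) (BT.leaf (nat_lit 697200))) (BT.node (nat_lit 4785282) (BT.leaf (nat_lit 697200)) (BT.leaf (nat_lit 707060)))) (BT.node (nat_lit 4785347) (BT.node (nat_lit 4785345) (BT.leaf (nat_lit 707060)) (BT.leaf (nat_lit 713108))) (BT.node (nat_lit 4785350) (BT.leaf (nat_lit 713108)) (BT.leaf (nat_lit 713108)))))) (BT.node (nat_lit 4785607) (BT.node (nat_lit 4785543) (BT.node (nat_lit 4785539) (BT.node (nat_lit 4785538) (BT.leaf (nat_lit 713108)) (BT.leaf (nat_lit 698812))) (BT.node (nat_lit 4785542) (BT.leaf (nat_lit 698812)) (BT.leaf (nat_lit 698812)))) (BT.node (nat_lit 4785603) (BT.node (nat_lit 4785602) (BT.leaf (nat_lit 698812)) (BT.leaf (nat_lit 698848))) (BT.node (nat_lit 4785606) (BT.leaf (nat_lit 698848)) (BT.leaf (nat_lit 698848))))) (BT.node (nat_lit 4785928) (BT.node (nat_lit 4785666) (BT.node (nat_lit 4785608) (BT.leaf (nat_lit 698848)) (BT.leaf (nat_lit 698848))) (BT.node (nat_lit 4785672) (BT.leaf (nat_lit 762928)) (BT.leaf (nat_lit 762928)))) (BT.node (nat_lit 4786305) (BT.node (nat_lit 4786244) (BT.leaf (nat_lit 693576)) (BT.leaf (nat_lit 715212))) (BT.node (nat_lit 4786308) (BT.leaf (nat_lit 715224)) (BT.leaf (nat_lit 711408)))))))) (BT.node (nat_lit 4789318) (BT.node (nat_lit 4787523) (BT.node (nat_lit 4786630) (BT.node (nat_lit 4786435) (BT.node (nat_lit 4786373) (BT.node (nat_lit 4786372) (BT.leaf (nat_lit 712400)) (BT.leaf (nat_lit 712400))) (BT.node (nat_lit 4786433) (BT.leaf (nat_lit 712400)) (BT.leaf (nat_lit 723112)))) (BT.node (nat_lit 4786626) (BT.node (nat_lit 4786437) (BT.leaf (nat_lit 723112)) (BT.leaf (nat_lit 723112))) (BT.node (nat_lit 4786627) (BT.leaf (nat_lit 720328)) (BT.leaf (nat_lit 720328))))) (BT.node (nat_lit 4787394) (BT.node (nat_lit 4787204) (BT.node (nat_lit 4786631) (BT.leaf (nat_lit 720328)) (BT.leaf (nat_lit 720328))) (BT.node (nat_lit 4787205) (BT.leaf (nat_lit 695152)) (BT.leaf (nat_lit 695152)))) (BT.node (nat_lit 4787397) (BT.node (nat_lit 4787396) (BT.leaf (nat_lit 694856)) (BT.leaf (nat_lit 694856))) (BT.node (nat_lit 4787522) (BT.leaf (nat_lit 694856)) (BT.leaf (nat_lit 712764)))))) (BT.node (nat_lit 4788225) (BT.node (nat_lit 4787716) (BT.node (nat_lit 4787526) (BT.node (nat_lit 4787525) (BT.leaf (nat_lit 712764)) (BT.leaf (nat_lit 712764))) (BT.node (nat_lit 4787527) (BT.leaf (nat_lit 712764)) (BT.leaf (nat_lit 712764)))) (BT.node (nat_lit 4787848) (BT.node (nat_lit 4787777) (BT.leaf (nat_lit 710760)) (BT.leaf (nat_lit 819316))) (BT.node (nat_lit 4787912) (BT.leaf (nat_lit 819320)) (BT.leaf (nat_lit 819324))))) (BT.node (nat_lit 4788998) (BT.node (nat_lit 4788484) (BT.node (nat_lit 4788228) (BT.leaf (nat_lit 722884)) (BT.leaf (nat_lit 722884))) (BT.node (nat_lit 4788486) (BT.leaf (nat_lit 722120)) (BT.leaf (nat_lit 703476)))) (BT.node (nat_lit 4789314) (BT.node (nat_lit 4789000) (BT.leaf (nat_lit 700504)) (BT.leaf (nat_lit 700504))) (BT.node (nat_lit 4789315) (BT.leaf (nat_lit 714760)) (BT.leaf (nat_lit 714760))))))) (BT.node (nat_lit 4790406) (BT.node (nat_lit 4790024) (BT.node (nat_lit 4789768) (BT.node (nat_lit 4789320) (BT.node (nat_lit 4789319) (BT.leaf (nat_lit 714760)) (BT.leaf (nat_lit 714760))) (BT.node (nat_lit 4789764) (BT.leaf (nat_lit 714760)) (BT.leaf (nat_lit 719256)))) (BT.node (nat_lit 4790017) (BT.node (nat_lit 4789832) (BT.leaf (nat_lit 719256)) (BT.leaf (nat_lit 713028))) (BT.node (nat_lit 4790019) (BT.leaf (nat_lit 776208)) (BT.leaf (nat_lit 776208))))) (BT.node (nat_lit 4790343) (BT.node (nat_lit 4790340) (BT.node (nat_lit 4790148) (BT.leaf (nat_lit 776208)) (BT.leaf (nat_lit 722484))) (BT.node (nat_lit 4790342) (BT.leaf (nat_lit 712368)) (BT.leaf (nat_lit 712368)))) (BT.node (nat_lit 4790402) (BT.node (nat_lit 4790344) (BT.leaf (nat_lit 712368)) (BT.leaf (nat_lit 712368))) (BT.node (nat_lit 4790403) (BT.leaf (nat_lit 700840)) (BT.leaf (nat_lit 700840)))))) (BT.node (nat_lit 4791041) (BT.node (nat_lit 4790918) (BT.node (nat_lit 4790913) (BT.node (nat_lit 4790407) (BT.leaf (nat_lit 700840)) (BT.leaf (nat_lit 700840))) (BT.node (nat_lit 4790917) (BT.leaf (nat_lit 721292)) (BT.leaf (nat_lit 721292)))) (BT.node (nat_lit 4790920) (BT.node (nat_lit 4790919) (BT.leaf (nat_lit 721292)) (BT.leaf (nat_lit 721292))) (BT.node (nat_lit 4790977) (BT.leaf (nat_lit 721292)) (BT.leaf (nat_lit 764604))))) (BT.node (nat_lit 4791176) (BT.node (nat_lit 4791047) (BT.node (nat_lit 4791045) (BT.leaf (nat_lit 708924)) (BT.leaf (nat_lit 708924))) (BT.node (nat_lit 4791172) (BT.leaf (nat_lit 708924)) (BT.leaf (nat_lit 711996)))) (BT.node (nat_lit 4791235) (BT.node (nat_lit 4791234) (BT.leaf (nat_lit 711996)) (BT.leaf (nat_lit 707280))) (BT.node (nat_lit 4791238) (BT.leaf (nat_lit 707280)) (BT.leaf (nat_lit 707280)))))))))) (BT.node (nat_lit 4798338) (BT.node (nat_lit 4793992) (BT.node (nat_lit 4792264) (BT.node (nat_lit 4791618) (BT.node (nat_lit 4791430) (BT.node (nat_lit 4791364) (BT.node (nat_lit 4791301) (BT.node (nat_lit 4791240) (BT.leaf (nat_lit 707280)) (BT.leaf (nat_lit 707280))) (BT.node (nat_lit 4791361) (BT.leaf (nat_lit 723484)) (BT.leaf (nat_lit 709408)))) (BT.node (nat_lit 4791368) (BT.node (nat_lit 4791365) (BT.leaf (nat_lit 709408)) (BT.leaf (nat_lit 709408))) (BT.node (nat_lit 4791427) (BT.leaf (nat_lit 709408)) (BT.leaf (nat_lit 774340))))) (BT.node (nat_lit 4791491) (BT.node (nat_lit 4791432) (BT.node (nat_lit 4791431) (BT.leaf (nat_lit 774340)) (BT.leaf (nat_lit 774340))) (BT.node (nat_lit 4791490) (BT.leaf (nat_lit 774340)) (BT.leaf (nat_lit 700424)))) (BT.node (nat_lit 4791553) (BT.node (nat_lit 4791496) (BT.leaf (nat_lit 700424)) (BT.leaf (nat_lit 700424))) (BT.node (nat_lit 4791560) (BT.leaf (nat_lit 707480)) (BT.leaf (nat_lit 707480)))))) (BT.node (nat_lit 4792008) (BT.node (nat_lit 4791684) (BT.node (nat_lit 4791622) (BT.node (nat_lit 4791619) (BT.leaf (nat_lit 707472)) (BT.leaf (nat_lit 707472))) (BT.node (nat_lit 4791623) (BT.leaf (nat_lit 707472)) (BT.leaf (nat_lit 707472)))) (BT.node (nat_lit 4791880) (BT.node (nat_lit 4791877) (BT.leaf (nat_lit 717660)) (BT.leaf (nat_lit 696872))) (BT.node (nat_lit 4792004) (BT.leaf (nat_lit 696872)) (BT.leaf (nat_lit 698448))))) (BT.node (nat_lit 4792071) (BT.node (nat_lit 4792069) (BT.node (nat_lit 4792066) (BT.leaf (nat_lit 698448)) (BT.leaf (nat_lit 707476))) (BT.node (nat_lit 4792070) (BT.leaf (nat_lit 707476)) (BT.leaf (nat_lit 707476)))) (BT.node (nat_lit 4792262) (BT.node (nat_lit 4792261) (BT.leaf (nat_lit 707476)) (BT.leaf (nat_lit 767052))) (BT.node (nat_lit 4792263) (BT.leaf (nat_lit 767052)) (BT.leaf (nat_lit 767052))))))) (BT.node (nat_lit 4793412) (BT.node (nat_lit 4792902) (BT.node (nat_lit 4792769) (BT.node (nat_lit 4792708) (BT.node (nat_lit 4792321) (BT.leaf (nat_lit 767052)) (BT.leaf (nat_lit 696608))) (BT.node (nat_lit 4792709) (BT.leaf (nat_lit 704156)) (BT.leaf (nat_lit 704156)))) (BT.node (nat_lit 4792775) (BT.node (nat_lit 4792774) (BT.leaf (nat_lit 717960)) (BT.leaf (nat_lit 717960))) (BT.node (nat_lit 4792897) (BT.leaf (nat_lit 717960)) (BT.leaf (nat_lit 699780))))) (BT.node (nat_lit 4793282) (BT.node (nat_lit 4792904) (BT.node (nat_lit 4792903) (BT.leaf (nat_lit 699780)) (BT.leaf (nat_lit 699780))) (BT.node (nat_lit 4793220) (BT.leaf (nat_lit 703676)) (BT.leaf (nat_lit 713784)))) (BT.node (nat_lit 4793410) (BT.node (nat_lit 4793288) (BT.leaf (nat_lit 707508)) (BT.leaf (nat_lit 707508))) (BT.node (nat_lit 4793411) (BT.leaf (nat_lit 712332)) (BT.leaf (nat_lit 712332)))))) (BT.node (nat_lit 4793668) (BT.node (nat_lit 4793601) (BT.node (nat_lit 4793415) (BT.node (nat_lit 4793414) (BT.leaf (nat_lit 712332)) (BT.leaf (nat_lit 712332))) (BT.node (nat_lit 4793416) (BT.leaf (nat_lit 712332)) (BT.leaf (nat_lit 712332)))) (BT.node (nat_lit 4793605) (BT.node (nat_lit 4793604) (BT.leaf (nat_lit 718488)) (BT.leaf (nat_lit 718488))) (BT.node (nat_lit 4793607) (BT.leaf (nat_lit 718504)) (BT.leaf (nat_lit 718488))))) (BT.node (nat_lit 4793987) (BT.node (nat_lit 4793985) (BT.node (nat_lit 4793800) (BT.leaf (nat_lit 695688)) (BT.leaf (nat_lit 718944))) (BT.node (nat_lit 4793986) (BT.leaf (nat_lit 713780)) (BT.leaf (nat_lit 713780)))) (BT.node (nat_lit 4793990) (BT.node (nat_lit 4793989) (BT.leaf (nat_lit 713780)) (BT.leaf (nat_lit 713780))) (BT.node (nat_lit 4793991) (BT.leaf (nat_lit 713780)) (BT.leaf (nat_lit 713780)))))))) (BT.node (nat_lit 4796229) (BT.node (nat_lit 4795457) (BT.node (nat_lit 4795076) (BT.node (nat_lit 4794183) (BT.node (nat_lit 4794178) (BT.node (nat_lit 4794052) (BT.leaf (nat_lit 719144)) (BT.leaf (nat_lit 721272))) (BT.node (nat_lit 4794182) (BT.leaf (nat_lit 699964)) (BT.leaf (nat_lit 699964)))) (BT.node (nat_lit 4794376) (BT.node (nat_lit 4794374) (BT.leaf (nat_lit 699964)) (BT.leaf (nat_lit 720208))) (BT.node (nat_lit 4794568) (BT.leaf (nat_lit 720208)) (BT.leaf (nat_lit 709460))))) (BT.node (nat_lit 4795395) (BT.node (nat_lit 4795393) (BT.node (nat_lit 4795077) (BT.leaf (nat_lit 702004)) (BT.leaf (nat_lit 702004))) (BT.node (nat_lit 4795394) (BT.leaf (nat_lit 715764)) (BT.leaf (nat_lit 715764)))) (BT.node (nat_lit 4795399) (BT.node (nat_lit 4795398) (BT.leaf (nat_lit 715764)) (BT.leaf (nat_lit 715764))) (BT.node (nat_lit 4795400) (BT.leaf (nat_lit 715764)) (BT.leaf (nat_lit 715764)))))) (BT.node (nat_lit 4795718) (BT.node (nat_lit 4795462) (BT.node (nat_lit 4795459) (BT.node (nat_lit 4795458) (BT.leaf (nat_lit 697456)) (BT.leaf (nat_lit 697456))) (BT.node (nat_lit 4795461) (BT.leaf (nat_lit 697456)) (BT.leaf (nat_lit 697456)))) (BT.node (nat_lit 4795464) (BT.node (nat_lit 4795463) (BT.leaf (nat_lit 696936)) (BT.leaf (nat_lit 696936))) (BT.node (nat_lit 4795525) (BT.leaf (nat_lit 697456)) (BT.leaf (nat_lit 718408))))) (BT.node (nat_lit 4796033) (BT.node (nat_lit 4795848) (BT.node (nat_lit 4795777) (BT.leaf (nat_lit 697116)) (BT.leaf (nat_lit 708284))) (BT.node (nat_lit 4795972) (BT.leaf (nat_lit 712124)) (BT.leaf (nat_lit 706128)))) (BT.node (nat_lit 4796226) (BT.node (nat_lit 4796104) (BT.leaf (nat_lit 767548)) (BT.leaf (nat_lit 775268))) (BT.node (nat_lit 4796227) (BT.leaf (nat_lit 714108)) (BT.leaf (nat_lit 714108))))))) (BT.node (nat_lit 4797697) (BT.node (nat_lit 4797064) (BT.node (nat_lit 4797058) (BT.node (nat_lit 4796993) (BT.node (nat_lit 4796230) (BT.leaf (nat_lit 714108)) (BT.leaf (nat_lit 714108))) (BT.node (nat_lit 4797000) (BT.leaf (nat_lit 701144)) (BT.leaf (nat_lit 701144)))) (BT.node (nat_lit 4797062) (BT.node (nat_lit 4797059) (BT.leaf (nat_lit 717428)) (BT.leaf (nat_lit 717428))) (BT.node (nat_lit 4797063) (BT.leaf (nat_lit 717428)) (BT.leaf (nat_lit 717428))))) (BT.node (nat_lit 4797126) (BT.node (nat_lit 4797122) (BT.node (nat_lit 4797121) (BT.leaf (nat_lit 717428)) (BT.leaf (nat_lit 721888))) (BT.node (nat_lit 4797123) (BT.leaf (nat_lit 721888)) (BT.leaf (nat_lit 721888)))) (BT.node (nat_lit 4797128) (BT.node (nat_lit 4797127) (BT.leaf (nat_lit 721888)) (BT.leaf (nat_lit 721888))) (BT.node (nat_lit 4797251) (BT.leaf (nat_lit 721888)) (BT.leaf (nat_lit 776220)))))) (BT.node (nat_lit 4798211) (BT.node (nat_lit 4797960) (BT.node (nat_lit 4797825) (BT.node (nat_lit 4797704) (BT.leaf (nat_lit 776748)) (BT.leaf (nat_lit 776748))) (BT.node (nat_lit 4797832) (BT.leaf (nat_lit 702420)) (BT.leaf (nat_lit 702420)))) (BT.node (nat_lit 4798149) (BT.node (nat_lit 4798146) (BT.leaf (nat_lit 716504)) (BT.leaf (nat_lit 718608))) (BT.node (nat_lit 4798209) (BT.leaf (nat_lit 718608)) (BT.leaf (nat_lit 697296))))) (BT.node (nat_lit 4798216) (BT.node (nat_lit 4798214) (BT.node (nat_lit 4798212) (BT.leaf (nat_lit 697296)) (BT.leaf (nat_lit 719840))) (BT.node (nat_lit 4798215) (BT.leaf (nat_lit 697296)) (BT.leaf (nat_lit 719840)))) (BT.node (nat_lit 4798280) (BT.node (nat_lit 4798273) (BT.leaf (nat_lit 719840)) (BT.leaf (nat_lit 697332))) (BT.node (nat_lit 4798337) (BT.leaf (nat_lit 697332)) (BT.leaf (nat_lit 703992))))))))) (BT.node (nat_lit 4803400) (BT.node (nat_lit 4799365) (BT.node (nat_lit 4798663) (BT.node (nat_lit 4798594) (BT.node (nat_lit 4798343) (BT.node (nat_lit 4798341) (BT.node (nat_lit 4798339) (BT.leaf (nat_lit 813868)) (BT.leaf (nat_lit 813868))) (BT.node (nat_lit 4798342) (BT.leaf (nat_lit 703992)) (BT.leaf (nat_lit 703992)))) (BT.node (nat_lit 4798407) (BT.node (nat_lit 4798344) (BT.leaf (nat_lit 703992)) (BT.leaf (nat_lit 813868))) (BT.node (nat_lit 4798593) (BT.leaf (nat_lit 717212)) (BT.leaf (nat_lit 709632))))) (BT.node (nat_lit 4798599) (BT.node (nat_lit 4798597) (BT.node (nat_lit 4798595) (BT.leaf (nat_lit 709632)) (BT.leaf (nat_lit 709632))) (BT.node (nat_lit 4798598) (BT.leaf (nat_lit 709632)) (BT.leaf (nat_lit 709632)))) (BT.node (nat_lit 4798658) (BT.node (nat_lit 4798600) (BT.leaf (nat_lit 709632)) (BT.leaf (nat_lit 709632))) (BT.node (nat_lit 4798662) (BT.leaf (nat_lit 703448)) (BT.leaf (nat_lit 703448)))))) (BT.node (nat_lit 4798728) (BT.node (nat_lit 4798723) (BT.node (nat_lit 4798721) (BT.node (nat_lit 4798664) (BT.leaf (nat_lit 703448)) (BT.leaf (nat_lit 703448))) (BT.node (nat_lit 4798722) (BT.leaf (nat_lit 702596)) (BT.leaf (nat_lit 702596)))) (BT.node (nat_lit 4798726) (BT.node (nat_lit 4798725) (BT.leaf (nat_lit 702596)) (BT.leaf (nat_lit 702596))) (BT.node (nat_lit 4798727) (BT.leaf (nat_lit 702596)) (BT.leaf (nat_lit 702596))))) (BT.node (nat_lit 4798915) (BT.node (nat_lit 4798787) (BT.node (nat_lit 4798786) (BT.leaf (nat_lit 702596)) (BT.leaf (nat_lit 770700))) (BT.node (nat_lit 4798789) (BT.leaf (nat_lit 770700)) (BT.leaf (nat_lit 770700)))) (BT.node (nat_lit 4798978) (BT.node (nat_lit 4798920) (BT.leaf (nat_lit 705484)) (BT.leaf (nat_lit 712472))) (BT.node (nat_lit 4799363) (BT.leaf (nat_lit 697744)) (BT.leaf (nat_lit 710340))))))) (BT.node (nat_lit 4800964) (BT.node (nat_lit 4800070) (BT.node (nat_lit 4799495) (BT.node (nat_lit 4799490) (BT.node (nat_lit 4799367) (BT.leaf (nat_lit 709264)) (BT.leaf (nat_lit 710340))) (BT.node (nat_lit 4799494) (BT.leaf (nat_lit 722384)) (BT.leaf (nat_lit 722384)))) (BT.node (nat_lit 4800066) (BT.node (nat_lit 4799496) (BT.leaf (nat_lit 722384)) (BT.leaf (nat_lit 722384))) (BT.node (nat_lit 4800067) (BT.leaf (nat_lit 712424)) (BT.leaf (nat_lit 712424))))) (BT.node (nat_lit 4800390) (BT.node (nat_lit 4800387) (BT.node (nat_lit 4800071) (BT.leaf (nat_lit 712424)) (BT.leaf (nat_lit 712424))) (BT.node (nat_lit 4800389) (BT.leaf (nat_lit 701456)) (BT.leaf (nat_lit 701456)))) (BT.node (nat_lit 4800833) (BT.node (nat_lit 4800392) (BT.leaf (nat_lit 701456)) (BT.leaf (nat_lit 769184))) (BT.node (nat_lit 4800900) (BT.leaf (nat_lit 718676)) (BT.leaf (nat_lit 718640)))))) (BT.node (nat_lit 4802561) (BT.node (nat_lit 4801540) (BT.node (nat_lit 4801288) (BT.node (nat_lit 4801224) (BT.leaf (nat_lit 718696)) (BT.leaf (nat_lit 814816))) (BT.node (nat_lit 4801538) (BT.leaf (nat_lit 814820)) (BT.leaf (nat_lit 701244)))) (BT.node (nat_lit 4801859) (BT.node (nat_lit 4801798) (BT.leaf (nat_lit 701244)) (BT.leaf (nat_lit 709436))) (BT.node (nat_lit 4802241) (BT.leaf (nat_lit 710332)) (BT.leaf (nat_lit 776640))))) (BT.node (nat_lit 4802888) (BT.node (nat_lit 4802881) (BT.node (nat_lit 4802568) (BT.leaf (nat_lit 708312)) (BT.leaf (nat_lit 708312))) (BT.node (nat_lit 4802885) (BT.leaf (nat_lit 709148)) (BT.leaf (nat_lit 709148)))) (BT.node (nat_lit 4803268) (BT.node (nat_lit 4803265) (BT.leaf (nat_lit 709148)) (BT.leaf (nat_lit 699372))) (BT.node (nat_lit 4803336) (BT.leaf (nat_lit 699372)) (BT.leaf (nat_lit 798008)))))))) (BT.node (nat_lit 4805826) (BT.node (nat_lit 4805128) (BT.node (nat_lit 4804481) (BT.node (nat_lit 4803715) (BT.node (nat_lit 4803656) (BT.node (nat_lit 4803652) (BT.leaf (nat_lit 798012)) (BT.leaf (nat_lit 718688))) (BT.node (nat_lit 4803714) (BT.leaf (nat_lit 699408)) (BT.leaf (nat_lit 710256)))) (BT.node (nat_lit 4803720) (BT.node (nat_lit 4803716) (BT.leaf (nat_lit 710256)) (BT.leaf (nat_lit 710256))) (BT.node (nat_lit 4803908) (BT.leaf (nat_lit 710256)) (BT.leaf (nat_lit 699488))))) (BT.node (nat_lit 4805060) (BT.node (nat_lit 4804551) (BT.node (nat_lit 4804550) (BT.leaf (nat_lit 720864)) (BT.leaf (nat_lit 718212))) (BT.node (nat_lit 4805057) (BT.leaf (nat_lit 718212)) (BT.leaf (nat_lit 712380)))) (BT.node (nat_lit 4805123) (BT.node (nat_lit 4805121) (BT.leaf (nat_lit 712380)) (BT.leaf (nat_lit 716072))) (BT.node (nat_lit 4805125) (BT.leaf (nat_lit 716072)) (BT.leaf (nat_lit 723424)))))) (BT.node (nat_lit 4805635) (BT.node (nat_lit 4805256) (BT.node (nat_lit 4805252) (BT.node (nat_lit 4805250) (BT.leaf (nat_lit 716072)) (BT.leaf (nat_lit 709920))) (BT.node (nat_lit 4805253) (BT.leaf (nat_lit 709920)) (BT.leaf (nat_lit 709920)))) (BT.node (nat_lit 4805575) (BT.node (nat_lit 4805574) (BT.leaf (nat_lit 710732)) (BT.leaf (nat_lit 705604))) (BT.node (nat_lit 4805634) (BT.leaf (nat_lit 705604)) (BT.leaf (nat_lit 711780))))) (BT.node (nat_lit 4805763) (BT.node (nat_lit 4805761) (BT.node (nat_lit 4805637) (BT.leaf (nat_lit 711780)) (BT.leaf (nat_lit 711780))) (BT.node (nat_lit 4805762) (BT.leaf (nat_lit 702700)) (BT.leaf (nat_lit 702700)))) (BT.node (nat_lit 4805767) (BT.node (nat_lit 4805766) (BT.leaf (nat_lit 702700)) (BT.leaf (nat_lit 702700))) (BT.node (nat_lit 4805768) (BT.leaf (nat_lit 702700)) (BT.leaf (nat_lit 702700))))))) (BT.node (nat_lit 4806407) (BT.node (nat_lit 4806341) (BT.node (nat_lit 4806020) (BT.node (nat_lit 4805831) (BT.node (nat_lit 4805829) (BT.leaf (nat_lit 718324)) (BT.leaf (nat_lit 718324))) (BT.node (nat_lit 4805959) (BT.leaf (nat_lit 718324)) (BT.leaf (nat_lit 808232)))) (BT.node (nat_lit 4806337) (BT.node (nat_lit 4806216) (BT.leaf (nat_lit 701044)) (BT.leaf (nat_lit 705512))) (BT.node (nat_lit 4806339) (BT.leaf (nat_lit 713528)) (BT.leaf (nat_lit 713528))))) (BT.node (nat_lit 4806401) (BT.node (nat_lit 4806343) (BT.node (nat_lit 4806342) (BT.leaf (nat_lit 708964)) (BT.leaf (nat_lit 713528))) (BT.node (nat_lit 4806344) (BT.leaf (nat_lit 713528)) (BT.leaf (nat_lit 708964)))) (BT.node (nat_lit 4806404) (BT.node (nat_lit 4806403) (BT.leaf (nat_lit 715320)) (BT.leaf (nat_lit 715320))) (BT.node (nat_lit 4806406) (BT.leaf (nat_lit 715320)) (BT.leaf (nat_lit 715320)))))) (BT.node (nat_lit 4806916) (BT.node (nat_lit 4806536) (BT.node (nat_lit 4806530) (BT.node (nat_lit 4806408) (BT.leaf (nat_lit 715320)) (BT.leaf (nat_lit 715320))) (BT.node (nat_lit 4806532) (BT.leaf (nat_lit 718740)) (BT.leaf (nat_lit 718740)))) (BT.node (nat_lit 4806914) (BT.node (nat_lit 4806913) (BT.leaf (nat_lit 718740)) (BT.leaf (nat_lit 720116))) (BT.node (nat_lit 4806915) (BT.leaf (nat_lit 720116)) (BT.leaf (nat_lit 720116))))) (BT.node (nat_lit 4807048) (BT.node (nat_lit 4806920) (BT.node (nat_lit 4806917) (BT.leaf (nat_lit 720116)) (BT.leaf (nat_lit 720116))) (BT.node (nat_lit 4807047) (BT.leaf (nat_lit 720116)) (BT.leaf (nat_lit 720204)))) (BT.node (nat_lit 4807171) (BT.node (nat_lit 4807170) (BT.leaf (nat_lit 720204)) (BT.leaf (nat_lit 710756))) (BT.node (nat_lit 4807174) (BT.leaf (nat_lit 710756)) (BT.leaf (nat_lit 710756))))))))))) (BT.node (nat_lit 4827266) (BT.node (nat_lit 4814721) (BT.node (nat_lit 4811782) (BT.node (nat_lit 4809285) (BT.node (nat_lit 4807686) (BT.node (nat_lit 4807367) (BT.node (nat_lit 4807237) (BT.node (nat_lit 4807235) (BT.node (nat_lit 4807233) (BT.leaf (nat_lit 710756)) (BT.leaf (nat_lit 719188))) (BT.node (nat_lit 4807236) (BT.leaf (nat_lit 709420)) (BT.leaf (nat_lit 709420)))) (BT.node (nat_lit 4807363) (BT.node (nat_lit 4807362) (BT.leaf (nat_lit 709420)) (BT.leaf (nat_lit 714264))) (BT.node (nat_lit 4807366) (BT.leaf (nat_lit 714264)) (BT.leaf (nat_lit 714264))))) (BT.node (nat_lit 4807496) (BT.node (nat_lit 4807494) (BT.node (nat_lit 4807492) (BT.leaf (nat_lit 714264)) (BT.leaf (nat_lit 713376))) (BT.node (nat_lit 4807495) (BT.leaf (nat_lit 707536)) (BT.leaf (nat_lit 707536)))) (BT.node (nat_lit 4807682) (BT.node (nat_lit 4807681) (BT.leaf (nat_lit 713376)) (BT.leaf (nat_lit 720348))) (BT.node (nat_lit 4807683) (BT.leaf (nat_lit 720348)) (BT.leaf (nat_lit 720348)))))) (BT.node (nat_lit 4808835) (BT.node (nat_lit 4808069) (BT.node (nat_lit 4808066) (BT.node (nat_lit 4807749) (BT.leaf (nat_lit 720348)) (BT.leaf (nat_lit 721876))) (BT.node (nat_lit 4808068) (BT.leaf (nat_lit 706276)) (BT.leaf (nat_lit 706276)))) (BT.node (nat_lit 4808327) (BT.node (nat_lit 4808326) (BT.leaf (nat_lit 706276)) (BT.leaf (nat_lit 706068))) (BT.node (nat_lit 4808834) (BT.leaf (nat_lit 706068)) (BT.leaf (nat_lit 722192))))) (BT.node (nat_lit 4808840) (BT.node (nat_lit 4808838) (BT.node (nat_lit 4808836) (BT.leaf (nat_lit 722192)) (BT.leaf (nat_lit 722192))) (BT.node (nat_lit 4808839) (BT.leaf (nat_lit 722192)) (BT.leaf (nat_lit 722192)))) (BT.node (nat_lit 4809282) (BT.node (nat_lit 4809281) (BT.leaf (nat_lit 722192)) (BT.leaf (nat_lit 722852))) (BT.node (nat_lit 4809283) (BT.leaf (nat_lit 722852)) (BT.leaf (nat_lit 722852))))))) (BT.node (nat_lit 4810440) (BT.node (nat_lit 4810241) (BT.node (nat_lit 4809474) (BT.node (nat_lit 4809287) (BT.node (nat_lit 4809286) (BT.leaf (nat_lit 722852)) (BT.leaf (nat_lit 722852))) (BT.node (nat_lit 4809288) (BT.leaf (nat_lit 722852)) (BT.leaf (nat_lit 722852)))) (BT.node (nat_lit 4809478) (BT.node (nat_lit 4809475) (BT.leaf (nat_lit 723052)) (BT.leaf (nat_lit 723052))) (BT.node (nat_lit 4809479) (BT.leaf (nat_lit 723052)) (BT.leaf (nat_lit 723052))))) (BT.node (nat_lit 4810434) (BT.node (nat_lit 4810248) (BT.node (nat_lit 4810244) (BT.leaf (nat_lit 709100)) (BT.leaf (nat_lit 709100))) (BT.node (nat_lit 4810433) (BT.leaf (nat_lit 709100)) (BT.leaf (nat_lit 720104)))) (BT.node (nat_lit 4810436) (BT.node (nat_lit 4810435) (BT.leaf (nat_lit 720104)) (BT.leaf (nat_lit 720104))) (BT.node (nat_lit 4810437) (BT.leaf (nat_lit 720104)) (BT.leaf (nat_lit 720104)))))) (BT.node (nat_lit 4810758) (BT.node (nat_lit 4810568) (BT.node (nat_lit 4810565) (BT.node (nat_lit 4810564) (BT.leaf (nat_lit 720104)) (BT.leaf (nat_lit 720120))) (BT.node (nat_lit 4810567) (BT.leaf (nat_lit 720120)) (BT.leaf (nat_lit 720120)))) (BT.node (nat_lit 4810755) (BT.node (nat_lit 4810754) (BT.leaf (nat_lit 720120)) (BT.leaf (nat_lit 708200))) (BT.node (nat_lit 4810757) (BT.leaf (nat_lit 708200)) (BT.leaf (nat_lit 708200))))) (BT.node (nat_lit 4811526) (BT.node (nat_lit 4811522) (BT.node (nat_lit 4810759) (BT.leaf (nat_lit 708200)) (BT.leaf (nat_lit 708200))) (BT.node (nat_lit 4811523) (BT.leaf (nat_lit 710584)) (BT.leaf (nat_lit 710584)))) (BT.node (nat_lit 4811778) (BT.node (nat_lit 4811527) (BT.leaf (nat_lit 710584)) (BT.leaf (nat_lit 710584))) (BT.node (nat_lit 4811779) (BT.leaf (nat_lit 706044)) (BT.leaf (nat_lit 706044)))))))) (BT.node (nat_lit 4812993) (BT.node (nat_lit 4812612) (BT.node (nat_lit 4812230) (BT.node (nat_lit 4811970) (BT.node (nat_lit 4811784) (BT.node (nat_lit 4811783) (BT.leaf (nat_lit 706044)) (BT.leaf (nat_lit 706044))) (BT.node (nat_lit 4811969) (BT.leaf (nat_lit 706044)) (BT.leaf (nat_lit 710636)))) (BT.node (nat_lit 4811973) (BT.node (nat_lit 4811972) (BT.leaf (nat_lit 710636)) (BT.leaf (nat_lit 710636))) (BT.node (nat_lit 4812226) (BT.leaf (nat_lit 710636)) (BT.leaf (nat_lit 704084))))) (BT.node (nat_lit 4812419) (BT.node (nat_lit 4812232) (BT.node (nat_lit 4812231) (BT.leaf (nat_lit 704084)) (BT.leaf (nat_lit 704084))) (BT.node (nat_lit 4812418) (BT.leaf (nat_lit 704084)) (BT.leaf (nat_lit 767056)))) (BT.node (nat_lit 4812422) (BT.node (nat_lit 4812421) (BT.leaf (nat_lit 767056)) (BT.leaf (nat_lit 713572))) (BT.node (nat_lit 4812423) (BT.leaf (nat_lit 767056)) (BT.leaf (nat_lit 767056)))))) (BT.node (nat_lit 4812866) (BT.node (nat_lit 4812805) (BT.node (nat_lit 4812616) (BT.node (nat_lit 4812613) (BT.leaf (nat_lit 720572)) (BT.leaf (nat_lit 720572))) (BT.node (nat_lit 4812803) (BT.leaf (nat_lit 720572)) (BT.leaf (nat_lit 702768)))) (BT.node (nat_lit 4812807) (BT.node (nat_lit 4812806) (BT.leaf (nat_lit 702768)) (BT.leaf (nat_lit 702768))) (BT.node (nat_lit 4812865) (BT.leaf (nat_lit 702768)) (BT.leaf (nat_lit 713924))))) (BT.node (nat_lit 4812872) (BT.node (nat_lit 4812870) (BT.node (nat_lit 4812869) (BT.leaf (nat_lit 713924)) (BT.leaf (nat_lit 713924))) (BT.node (nat_lit 4812871) (BT.leaf (nat_lit 713924)) (BT.leaf (nat_lit 713924)))) (BT.node (nat_lit 4812932) (BT.node (nat_lit 4812931) (BT.leaf (nat_lit 713924)) (BT.leaf (nat_lit 713976))) (BT.node (nat_lit 4812933) (BT.leaf (nat_lit 713976)) (BT.leaf (nat_lit 713976))))))) (BT.node (nat_lit 4813443) (BT.node (nat_lit 4813185) (BT.node (nat_lit 4813058) (BT.node (nat_lit 4812996) (BT.node (nat_lit 4812995) (BT.leaf (nat_lit 705872)) (BT.leaf (nat_lit 705872))) (BT.node (nat_lit 4812999) (BT.leaf (nat_lit 705872)) (BT.leaf (nat_lit 705872)))) (BT.node (nat_lit 4813062) (BT.node (nat_lit 4813059) (BT.leaf (nat_lit 713648)) (BT.leaf (nat_lit 713648))) (BT.node (nat_lit 4813063) (BT.leaf (nat_lit 713648)) (BT.leaf (nat_lit 713648))))) (BT.node (nat_lit 4813314) (BT.node (nat_lit 4813189) (BT.node (nat_lit 4813187) (BT.leaf (nat_lit 708428)) (BT.leaf (nat_lit 708428))) (BT.node (nat_lit 4813313) (BT.leaf (nat_lit 708428)) (BT.leaf (nat_lit 717352)))) (BT.node (nat_lit 4813318) (BT.node (nat_lit 4813315) (BT.leaf (nat_lit 717352)) (BT.leaf (nat_lit 717352))) (BT.node (nat_lit 4813442) (BT.leaf (nat_lit 717352)) (BT.leaf (nat_lit 704148)))))) (BT.node (nat_lit 4813955) (BT.node (nat_lit 4813512) (BT.node (nat_lit 4813447) (BT.node (nat_lit 4813445) (BT.leaf (nat_lit 704148)) (BT.leaf (nat_lit 704148))) (BT.node (nat_lit 4813505) (BT.leaf (nat_lit 704148)) (BT.leaf (nat_lit 723140)))) (BT.node (nat_lit 4813575) (BT.node (nat_lit 4813571) (BT.leaf (nat_lit 723140)) (BT.leaf (nat_lit 715656))) (BT.node (nat_lit 4813954) (BT.leaf (nat_lit 715656)) (BT.leaf (nat_lit 704448))))) (BT.node (nat_lit 4814531) (BT.node (nat_lit 4814211) (BT.node (nat_lit 4813960) (BT.leaf (nat_lit 704448)) (BT.leaf (nat_lit 704448))) (BT.node (nat_lit 4814530) (BT.leaf (nat_lit 776956)) (BT.leaf (nat_lit 715596)))) (BT.node (nat_lit 4814600) (BT.node (nat_lit 4814535) (BT.leaf (nat_lit 715596)) (BT.leaf (nat_lit 715596))) (BT.node (nat_lit 4814657) (BT.leaf (nat_lit 777732)) (BT.leaf (nat_lit 777736))))))))) (BT.node (nat_lit 4821638) (BT.node (nat_lit 4818819) (BT.node (nat_lit 4816833) (BT.node (nat_lit 4815751) (BT.node (nat_lit 4815745) (BT.node (nat_lit 4815238) (BT.node (nat_lit 4815233) (BT.leaf (nat_lit 776828)) (BT.leaf (nat_lit 719268))) (BT.node (nat_lit 4815240) (BT.leaf (nat_lit 719268)) (BT.leaf (nat_lit 719268)))) (BT.node (nat_lit 4815747) (BT.node (nat_lit 4815746) (BT.leaf (nat_lit 713620)) (BT.leaf (nat_lit 713620))) (BT.node (nat_lit 4815750) (BT.leaf (nat_lit 713620)) (BT.leaf (nat_lit 713620))))) (BT.node (nat_lit 4816513) (BT.node (nat_lit 4815940) (BT.node (nat_lit 4815938) (BT.leaf (nat_lit 713620)) (BT.leaf (nat_lit 721916))) (BT.node (nat_lit 4815944) (BT.leaf (nat_lit 721916)) (BT.leaf (nat_lit 721916)))) (BT.node (nat_lit 4816769) (BT.node (nat_lit 4816517) (BT.leaf (nat_lit 719068)) (BT.leaf (nat_lit 719068))) (BT.node (nat_lit 4816772) (BT.leaf (nat_lit 712448)) (BT.leaf (nat_lit 712448)))))) (BT.node (nat_lit 4818371) (BT.node (nat_lit 4817474) (BT.node (nat_lit 4817090) (BT.node (nat_lit 4816835) (BT.leaf (nat_lit 717208)) (BT.leaf (nat_lit 717208))) (BT.node (nat_lit 4817473) (BT.leaf (nat_lit 708852)) (BT.leaf (nat_lit 709596)))) (BT.node (nat_lit 4817476) (BT.node (nat_lit 4817475) (BT.leaf (nat_lit 709596)) (BT.leaf (nat_lit 709596))) (BT.node (nat_lit 4818053) (BT.leaf (nat_lit 709596)) (BT.leaf (nat_lit 713380))))) (BT.node (nat_lit 4818753) (BT.node (nat_lit 4818373) (BT.node (nat_lit 4818372) (BT.leaf (nat_lit 716508)) (BT.leaf (nat_lit 716508))) (BT.node (nat_lit 4818435) (BT.leaf (nat_lit 716508)) (BT.leaf (nat_lit 718804)))) (BT.node (nat_lit 4818817) (BT.node (nat_lit 4818760) (BT.leaf (nat_lit 776752)) (BT.leaf (nat_lit 776752))) (BT.node (nat_lit 4818818) (BT.leaf (nat_lit 707876)) (BT.leaf (nat_lit 707876))))))) (BT.node (nat_lit 4821250) (BT.node (nat_lit 4820099) (BT.node (nat_lit 4818824) (BT.node (nat_lit 4818822) (BT.node (nat_lit 4818821) (BT.leaf (nat_lit 707876)) (BT.leaf (nat_lit 707876))) (BT.node (nat_lit 4818823) (BT.leaf (nat_lit 707876)) (BT.leaf (nat_lit 707876)))) (BT.node (nat_lit 4819784) (BT.node (nat_lit 4819720) (BT.leaf (nat_lit 707876)) (BT.leaf (nat_lit 774648))) (BT.node (nat_lit 4820097) (BT.leaf (nat_lit 716492)) (BT.leaf (nat_lit 716860))))) (BT.node (nat_lit 4820162) (BT.node (nat_lit 4820101) (BT.node (nat_lit 4820100) (BT.leaf (nat_lit 716860)) (BT.leaf (nat_lit 716860))) (BT.node (nat_lit 4820104) (BT.leaf (nat_lit 716860)) (BT.leaf (nat_lit 716860)))) (BT.node (nat_lit 4820168) (BT.node (nat_lit 4820166) (BT.leaf (nat_lit 716876)) (BT.leaf (nat_lit 716876))) (BT.node (nat_lit 4821249) (BT.leaf (nat_lit 716876)) (BT.leaf (nat_lit 709140)))))) (BT.node (nat_lit 4821378) (BT.node (nat_lit 4821256) (BT.node (nat_lit 4821252) (BT.node (nat_lit 4821251) (BT.leaf (nat_lit 709140)) (BT.leaf (nat_lit 709140))) (BT.node (nat_lit 4821253) (BT.leaf (nat_lit 709140)) (BT.leaf (nat_lit 709140)))) (BT.node (nat_lit 4821319) (BT.node (nat_lit 4821318) (BT.leaf (nat_lit 709140)) (BT.leaf (nat_lit 709352))) (BT.node (nat_lit 4821377) (BT.leaf (nat_lit 709352)) (BT.leaf (nat_lit 716540))))) (BT.node (nat_lit 4821633) (BT.node (nat_lit 4821381) (BT.node (nat_lit 4821379) (BT.leaf (nat_lit 711180)) (BT.leaf (nat_lit 711180))) (BT.node (nat_lit 4821384) (BT.leaf (nat_lit 711180)) (BT.leaf (nat_lit 711180)))) (BT.node (nat_lit 4821635) (BT.node (nat_lit 4821634) (BT.leaf (nat_lit 706100)) (BT.leaf (nat_lit 706100))) (BT.node (nat_lit 4821637) (BT.leaf (nat_lit 706100)) (BT.leaf (nat_lit 706100)))))))) (BT.node (nat_lit 4822979) (BT.node (nat_lit 4822147) (BT.node (nat_lit 4821953) (BT.node (nat_lit 4821701) (BT.node (nat_lit 4821640) (BT.node (nat_lit 4821639) (BT.leaf (nat_lit 706100)) (BT.leaf (nat_lit 706100))) (BT.node (nat_lit 4821697) (BT.leaf (nat_lit 706100)) (BT.leaf (nat_lit 722640)))) (BT.node (nat_lit 4821766) (BT.node (nat_lit 4821765) (BT.leaf (nat_lit 722640)) (BT.leaf (nat_lit 706628))) (BT.node (nat_lit 4821767) (BT.leaf (nat_lit 706628)) (BT.leaf (nat_lit 706628))))) (BT.node (nat_lit 4821960) (BT.node (nat_lit 4821955) (BT.node (nat_lit 4821954) (BT.leaf (nat_lit 718864)) (BT.leaf (nat_lit 718864))) (BT.node (nat_lit 4821956) (BT.leaf (nat_lit 718864)) (BT.leaf (nat_lit 718864)))) (BT.node (nat_lit 4822024) (BT.node (nat_lit 4822019) (BT.leaf (nat_lit 718864)) (BT.leaf (nat_lit 709552))) (BT.node (nat_lit 4822146) (BT.leaf (nat_lit 709552)) (BT.leaf (nat_lit 795680)))))) (BT.node (nat_lit 4822664) (BT.node (nat_lit 4822337) (BT.node (nat_lit 4822209) (BT.node (nat_lit 4822152) (BT.leaf (nat_lit 795680)) (BT.leaf (nat_lit 795680))) (BT.node (nat_lit 4822212) (BT.leaf (nat_lit 713884)) (BT.leaf (nat_lit 713884)))) (BT.node (nat_lit 4822662) (BT.node (nat_lit 4822658) (BT.leaf (nat_lit 706912)) (BT.leaf (nat_lit 721108))) (BT.node (nat_lit 4822663) (BT.leaf (nat_lit 721108)) (BT.leaf (nat_lit 721108))))) (BT.node (nat_lit 4822792) (BT.node (nat_lit 4822790) (BT.node (nat_lit 4822787) (BT.leaf (nat_lit 721108)) (BT.leaf (nat_lit 719020))) (BT.node (nat_lit 4822791) (BT.leaf (nat_lit 719020)) (BT.leaf (nat_lit 719020)))) (BT.node (nat_lit 4822977) (BT.node (nat_lit 4822852) (BT.leaf (nat_lit 719020)) (BT.leaf (nat_lit 718960))) (BT.node (nat_lit 4822978) (BT.leaf (nat_lit 707488)) (BT.leaf (nat_lit 707488))))))) (BT.node (nat_lit 4823937) (BT.node (nat_lit 4823368) (BT.node (nat_lit 4823043) (BT.node (nat_lit 4822981) (BT.node (nat_lit 4822980) (BT.leaf (nat_lit 707488)) (BT.leaf (nat_lit 707488))) (BT.node (nat_lit 4822984) (BT.leaf (nat_lit 707488)) (BT.leaf (nat_lit 707488)))) (BT.node (nat_lit 4823105) (BT.node (nat_lit 4823048) (BT.leaf (nat_lit 715384)) (BT.leaf (nat_lit 715384))) (BT.node (nat_lit 4823362) (BT.leaf (nat_lit 720736)) (BT.leaf (nat_lit 774696))))) (BT.node (nat_lit 4823745) (BT.node (nat_lit 4823428) (BT.node (nat_lit 4823425) (BT.leaf (nat_lit 774696)) (BT.leaf (nat_lit 771904))) (BT.node (nat_lit 4823555) (BT.leaf (nat_lit 771904)) (BT.leaf (nat_lit 707040)))) (BT.node (nat_lit 4823747) (BT.node (nat_lit 4823746) (BT.leaf (nat_lit 711336)) (BT.leaf (nat_lit 711336))) (BT.node (nat_lit 4823876) (BT.leaf (nat_lit 711336)) (BT.leaf (nat_lit 716920)))))) (BT.node (nat_lit 4825155) (BT.node (nat_lit 4824200) (BT.node (nat_lit 4823943) (BT.node (nat_lit 4823942) (BT.leaf (nat_lit 711372)) (BT.leaf (nat_lit 711372))) (BT.node (nat_lit 4823944) (BT.leaf (nat_lit 711372)) (BT.leaf (nat_lit 711372)))) (BT.node (nat_lit 4824772) (BT.node (nat_lit 4824770) (BT.leaf (nat_lit 771472)) (BT.leaf (nat_lit 716652))) (BT.node (nat_lit 4825154) (BT.leaf (nat_lit 712944)) (BT.leaf (nat_lit 720856))))) (BT.node (nat_lit 4827201) (BT.node (nat_lit 4827078) (BT.node (nat_lit 4825160) (BT.leaf (nat_lit 720856)) (BT.leaf (nat_lit 720856))) (BT.node (nat_lit 4827079) (BT.leaf (nat_lit 718552)) (BT.leaf (nat_lit 718552)))) (BT.node (nat_lit 4827206) (BT.node (nat_lit 4827205) (BT.leaf (nat_lit 715876)) (BT.leaf (nat_lit 715876))) (BT.node (nat_lit 4827207) (BT.leaf (nat_lit 715876)) (BT.leaf (nat_lit 715876)))))))))) (BT.node (nat_lit 4840196) (BT.node (nat_lit 4832514) (BT.node (nat_lit 4829000) (BT.node (nat_lit 4828099) (BT.node (nat_lit 4827909) (BT.node (nat_lit 4827521) (BT.node (nat_lit 4827268) (BT.node (nat_lit 4827267) (BT.leaf (nat_lit 714412)) (BT.leaf (nat_lit 714412))) (BT.node (nat_lit 4827269) (BT.leaf (nat_lit 714412)) (BT.leaf (nat_lit 714412)))) (BT.node (nat_lit 4827846) (BT.node (nat_lit 4827522) (BT.leaf (nat_lit 711016)) (BT.leaf (nat_lit 711016))) (BT.node (nat_lit 4827847) (BT.leaf (nat_lit 717016)) (BT.leaf (nat_lit 717016))))) (BT.node (nat_lit 4827970) (BT.node (nat_lit 4827911) (BT.node (nat_lit 4827910) (BT.leaf (nat_lit 713928)) (BT.leaf (nat_lit 713928))) (BT.node (nat_lit 4827969) (BT.leaf (nat_lit 713928)) (BT.leaf (nat_lit 721280)))) (BT.node (nat_lit 4828034) (BT.node (nat_lit 4827976) (BT.leaf (nat_lit 721280)) (BT.leaf (nat_lit 721280))) (BT.node (nat_lit 4828098) (BT.leaf (nat_lit 722708)) (BT.leaf (nat_lit 718240)))))) (BT.node (nat_lit 4828357) (BT.node (nat_lit 4828289) (BT.node (nat_lit 4828102) (BT.node (nat_lit 4828101) (BT.leaf (nat_lit 718240)) (BT.leaf (nat_lit 718240))) (BT.node (nat_lit 4828103) (BT.leaf (nat_lit 718240)) (BT.leaf (nat_lit 718240)))) (BT.node (nat_lit 4828293) (BT.node (nat_lit 4828292) (BT.leaf (nat_lit 709540)) (BT.leaf (nat_lit 709540))) (BT.node (nat_lit 4828353) (BT.leaf (nat_lit 709540)) (BT.leaf (nat_lit 717372))))) (BT.node (nat_lit 4828487) (BT.node (nat_lit 4828483) (BT.node (nat_lit 4828482) (BT.leaf (nat_lit 717372)) (BT.leaf (nat_lit 717368))) (BT.node (nat_lit 4828486) (BT.leaf (nat_lit 717368)) (BT.leaf (nat_lit 717368)))) (BT.node (nat_lit 4828549) (BT.node (nat_lit 4828488) (BT.leaf (nat_lit 717368)) (BT.leaf (nat_lit 717368))) (BT.node (nat_lit 4828993) (BT.leaf (nat_lit 717380)) (BT.leaf (nat_lit 707880))))))) (BT.node (nat_lit 4831430) (BT.node (nat_lit 4830086) (BT.node (nat_lit 4830018) (BT.node (nat_lit 4829703) (BT.node (nat_lit 4829702) (BT.leaf (nat_lit 707880)) (BT.leaf (nat_lit 713012))) (BT.node (nat_lit 4830017) (BT.leaf (nat_lit 713012)) (BT.leaf (nat_lit 715996)))) (BT.node (nat_lit 4830024) (BT.node (nat_lit 4830019) (BT.leaf (nat_lit 715996)) (BT.leaf (nat_lit 715996))) (BT.node (nat_lit 4830084) (BT.leaf (nat_lit 715996)) (BT.leaf (nat_lit 722336))))) (BT.node (nat_lit 4830849) (BT.node (nat_lit 4830209) (BT.node (nat_lit 4830087) (BT.leaf (nat_lit 722336)) (BT.leaf (nat_lit 722336))) (BT.node (nat_lit 4830216) (BT.leaf (nat_lit 709068)) (BT.leaf (nat_lit 709068)))) (BT.node (nat_lit 4830853) (BT.node (nat_lit 4830850) (BT.leaf (nat_lit 721024)) (BT.leaf (nat_lit 721024))) (BT.node (nat_lit 4830856) (BT.leaf (nat_lit 721024)) (BT.leaf (nat_lit 721024)))))) (BT.node (nat_lit 4831809) (BT.node (nat_lit 4831621) (BT.node (nat_lit 4831618) (BT.node (nat_lit 4831431) (BT.leaf (nat_lit 719360)) (BT.leaf (nat_lit 719360))) (BT.node (nat_lit 4831620) (BT.leaf (nat_lit 714696)) (BT.leaf (nat_lit 714696)))) (BT.node (nat_lit 4831681) (BT.node (nat_lit 4831624) (BT.leaf (nat_lit 714696)) (BT.leaf (nat_lit 714696))) (BT.node (nat_lit 4831685) (BT.leaf (nat_lit 719372)) (BT.leaf (nat_lit 719372))))) (BT.node (nat_lit 4831815) (BT.node (nat_lit 4831811) (BT.node (nat_lit 4831810) (BT.leaf (nat_lit 719340)) (BT.leaf (nat_lit 719340))) (BT.node (nat_lit 4831814) (BT.leaf (nat_lit 719340)) (BT.leaf (nat_lit 719340)))) (BT.node (nat_lit 4832261) (BT.node (nat_lit 4831816) (BT.leaf (nat_lit 719340)) (BT.leaf (nat_lit 719340))) (BT.node (nat_lit 4832513) (BT.leaf (nat_lit 719092)) (BT.leaf (nat_lit 719136)))))))) (BT.node (nat_lit 4836292) (BT.node (nat_lit 4834436) (BT.node (nat_lit 4832774) (BT.node (nat_lit 4832709) (BT.node (nat_lit 4832519) (BT.node (nat_lit 4832518) (BT.leaf (nat_lit 719136)) (BT.leaf (nat_lit 719136))) (BT.node (nat_lit 4832520) (BT.leaf (nat_lit 719136)) (BT.leaf (nat_lit 719136)))) (BT.node (nat_lit 4832711) (BT.node (nat_lit 4832710) (BT.leaf (nat_lit 709296)) (BT.leaf (nat_lit 709296))) (BT.node (nat_lit 4832773) (BT.leaf (nat_lit 709296)) (BT.leaf (nat_lit 709344))))) (BT.node (nat_lit 4832901) (BT.node (nat_lit 4832776) (BT.node (nat_lit 4832775) (BT.leaf (nat_lit 709344)) (BT.leaf (nat_lit 709344))) (BT.node (nat_lit 4832836) (BT.leaf (nat_lit 709344)) (BT.leaf (nat_lit 711364)))) (BT.node (nat_lit 4833160) (BT.node (nat_lit 4833092) (BT.leaf (nat_lit 709952)) (BT.leaf (nat_lit 709472))) (BT.node (nat_lit 4833221) (BT.leaf (nat_lit 712320)) (BT.leaf (nat_lit 712452)))))) (BT.node (nat_lit 4834946) (BT.node (nat_lit 4834692) (BT.node (nat_lit 4834502) (BT.node (nat_lit 4834499) (BT.leaf (nat_lit 721504)) (BT.leaf (nat_lit 712896))) (BT.node (nat_lit 4834503) (BT.leaf (nat_lit 712896)) (BT.leaf (nat_lit 712896)))) (BT.node (nat_lit 4834884) (BT.node (nat_lit 4834693) (BT.leaf (nat_lit 711096)) (BT.leaf (nat_lit 711096))) (BT.node (nat_lit 4834888) (BT.leaf (nat_lit 717240)) (BT.leaf (nat_lit 717240))))) (BT.node (nat_lit 4835078) (BT.node (nat_lit 4835074) (BT.node (nat_lit 4834947) (BT.leaf (nat_lit 710008)) (BT.leaf (nat_lit 710008))) (BT.node (nat_lit 4835075) (BT.leaf (nat_lit 721836)) (BT.leaf (nat_lit 721836)))) (BT.node (nat_lit 4835205) (BT.node (nat_lit 4835079) (BT.leaf (nat_lit 721836)) (BT.leaf (nat_lit 721836))) (BT.node (nat_lit 4835525) (BT.leaf (nat_lit 710028)) (BT.leaf (nat_lit 718724))))))) (BT.node (nat_lit 4837956) (BT.node (nat_lit 4837443) (BT.node (nat_lit 4837060) (BT.node (nat_lit 4836740) (BT.node (nat_lit 4836293) (BT.leaf (nat_lit 719152)) (BT.leaf (nat_lit 719152))) (BT.node (nat_lit 4837058) (BT.leaf (nat_lit 713588)) (BT.leaf (nat_lit 717584)))) (BT.node (nat_lit 4837384) (BT.node (nat_lit 4837061) (BT.leaf (nat_lit 717584)) (BT.leaf (nat_lit 717584))) (BT.node (nat_lit 4837442) (BT.leaf (nat_lit 714824)) (BT.leaf (nat_lit 711264))))) (BT.node (nat_lit 4837447) (BT.node (nat_lit 4837445) (BT.node (nat_lit 4837444) (BT.leaf (nat_lit 711264)) (BT.leaf (nat_lit 711264))) (BT.node (nat_lit 4837446) (BT.leaf (nat_lit 711264)) (BT.leaf (nat_lit 711264)))) (BT.node (nat_lit 4837768) (BT.node (nat_lit 4837761) (BT.leaf (nat_lit 711264)) (BT.leaf (nat_lit 721016))) (BT.node (nat_lit 4837953) (BT.leaf (nat_lit 721016)) (BT.leaf (nat_lit 713264)))))) (BT.node (nat_lit 4839681) (BT.node (nat_lit 4838344) (BT.node (nat_lit 4838337) (BT.node (nat_lit 4838085) (BT.leaf (nat_lit 716696)) (BT.leaf (nat_lit 722124))) (BT.node (nat_lit 4838340) (BT.leaf (nat_lit 717616)) (BT.leaf (nat_lit 717616)))) (BT.node (nat_lit 4839112) (BT.node (nat_lit 4839105) (BT.leaf (nat_lit 717616)) (BT.leaf (nat_lit 721388))) (BT.node (nat_lit 4839364) (BT.leaf (nat_lit 721388)) (BT.leaf (nat_lit 715500))))) (BT.node (nat_lit 4839812) (BT.node (nat_lit 4839745) (BT.node (nat_lit 4839688) (BT.leaf (nat_lit 777556)) (BT.leaf (nat_lit 777556))) (BT.node (nat_lit 4839752) (BT.leaf (nat_lit 723612)) (BT.leaf (nat_lit 723612)))) (BT.node (nat_lit 4840002) (BT.node (nat_lit 4840001) (BT.leaf (nat_lit 720556)) (BT.leaf (nat_lit 711988))) (BT.node (nat_lit 4840003) (BT.leaf (nat_lit 711988)) (BT.leaf (nat_lit 711988))))))))) (BT.node (nat_lit 5023552) (BT.node (nat_lit 4850311) (BT.node (nat_lit 4844805) (BT.node (nat_lit 4843912) (BT.node (nat_lit 4843905) (BT.node (nat_lit 4841224) (BT.node (nat_lit 4841217) (BT.leaf (nat_lit 714524)) (BT.leaf (nat_lit 716332))) (BT.node (nat_lit 4843653) (BT.leaf (nat_lit 716332)) (BT.leaf (nat_lit 716700)))) (BT.node (nat_lit 4843910) (BT.node (nat_lit 4843909) (BT.leaf (nat_lit 777144)) (BT.leaf (nat_lit 722988))) (BT.node (nat_lit 4843911) (BT.leaf (nat_lit 722988)) (BT.leaf (nat_lit 722988))))) (BT.node (nat_lit 4844484) (BT.node (nat_lit 4844356) (BT.node (nat_lit 4844353) (BT.leaf (nat_lit 777144)) (BT.leaf (nat_lit 714352))) (BT.node (nat_lit 4844481) (BT.leaf (nat_lit 714352)) (BT.leaf (nat_lit 714400)))) (BT.node (nat_lit 4844677) (BT.node (nat_lit 4844488) (BT.leaf (nat_lit 714400)) (BT.leaf (nat_lit 714400))) (BT.node (nat_lit 4844801) (BT.leaf (nat_lit 776456)) (BT.leaf (nat_lit 775984)))))) (BT.node (nat_lit 4847876) (BT.node (nat_lit 4844996) (BT.node (nat_lit 4844807) (BT.node (nat_lit 4844806) (BT.leaf (nat_lit 775984)) (BT.leaf (nat_lit 775984))) (BT.node (nat_lit 4844993) (BT.leaf (nat_lit 775984)) (BT.leaf (nat_lit 717684)))) (BT.node (nat_lit 4845505) (BT.node (nat_lit 4844997) (BT.leaf (nat_lit 715208)) (BT.leaf (nat_lit 715208))) (BT.node (nat_lit 4845508) (BT.leaf (nat_lit 716356)) (BT.leaf (nat_lit 716356))))) (BT.node (nat_lit 4850306) (BT.node (nat_lit 4848261) (BT.node (nat_lit 4847941) (BT.leaf (nat_lit 714844)) (BT.leaf (nat_lit 722752))) (BT.node (nat_lit 4850305) (BT.leaf (nat_lit 715236)) (BT.leaf (nat_lit 719824)))) (BT.node (nat_lit 4850309) (BT.node (nat_lit 4850307) (BT.leaf (nat_lit 719824)) (BT.leaf (nat_lit 719824))) (BT.node (nat_lit 4850310) (BT.leaf (nat_lit 719824)) (BT.leaf (nat_lit 723684))))))) (BT.node (nat_lit 4856065) (BT.node (nat_lit 4851525) (BT.node (nat_lit 4850758) (BT.node (nat_lit 4850753) (BT.node (nat_lit 4850370) (BT.leaf (nat_lit 723684)) (BT.leaf (nat_lit 720704))) (BT.node (nat_lit 4850757) (BT.leaf (nat_lit 722244)) (BT.leaf (nat_lit 722244)))) (BT.node (nat_lit 4850886) (BT.node (nat_lit 4850759) (BT.leaf (nat_lit 722244)) (BT.leaf (nat_lit 722244))) (BT.node (nat_lit 4850887) (BT.leaf (nat_lit 717644)) (BT.leaf (nat_lit 717644))))) (BT.node (nat_lit 4851911) (BT.node (nat_lit 4851909) (BT.node (nat_lit 4851905) (BT.leaf (nat_lit 721672)) (BT.leaf (nat_lit 717980))) (BT.node (nat_lit 4851910) (BT.leaf (nat_lit 717980)) (BT.leaf (nat_lit 717980)))) (BT.node (nat_lit 4855236) (BT.node (nat_lit 4851912) (BT.leaf (nat_lit 717980)) (BT.leaf (nat_lit 717980))) (BT.node (nat_lit 4855240) (BT.leaf (nat_lit 722264)) (BT.leaf (nat_lit 722264)))))) (BT.node (nat_lit 4858625) (BT.node (nat_lit 4857921) (BT.node (nat_lit 4856068) (BT.node (nat_lit 4856067) (BT.leaf (nat_lit 722004)) (BT.leaf (nat_lit 722004))) (BT.node (nat_lit 4856069) (BT.leaf (nat_lit 722004)) (BT.leaf (nat_lit 722004)))) (BT.node (nat_lit 4857923) (BT.node (nat_lit 4857922) (BT.leaf (nat_lit 720672)) (BT.leaf (nat_lit 720672))) (BT.node (nat_lit 4857928) (BT.leaf (nat_lit 720672)) (BT.leaf (nat_lit 720672))))) (BT.node (nat_lit 4860552) (BT.node (nat_lit 4858631) (BT.node (nat_lit 4858630) (BT.leaf (nat_lit 722932)) (BT.leaf (nat_lit 722932))) (BT.node (nat_lit 4860547) (BT.leaf (nat_lit 722932)) (BT.leaf (nat_lit 722804)))) (BT.node (nat_lit 5023424) (BT.node (nat_lit 5023360) (BT.leaf (nat_lit 722804)) (BT.leaf (nat_lit 20172309))) (BT.node (nat_lit 5023488) (BT.leaf (nat_lit 20172821)) (BT.leaf (nat_lit 20110609)))))))) (BT.node (nat_lit 5025600) (BT.node (nat_lit 5024576) (BT.node (nat_lit 5024064) (BT.node (nat_lit 5023808) (BT.node (nat_lit 5023680) (BT.node (nat_lit 5023616) (BT.leaf (nat_lit 20173329)) (BT.leaf (nat_lit 20174361))) (BT.node (nat_lit 5023744) (BT.leaf (nat_lit 20175129)) (BT.leaf (nat_lit 20114461)))) (BT.node (nat_lit 5023936) (BT.node (nat_lit 5023872) (BT.leaf (nat_lit 20095517)) (BT.leaf (nat_lit 20176401))) (BT.node (nat_lit 5024000) (BT.leaf (nat_lit 20176913)) (BT.leaf (nat_lit 20177425))))) (BT.node (nat_lit 5024320) (BT.node (nat_lit 5024192) (BT.node (nat_lit 5024128) (BT.leaf (nat_lit 20112413)) (BT.leaf (nat_lit 20111633))) (BT.node (nat_lit 5024256) (BT.leaf (nat_lit 20155909)) (BT.leaf (nat_lit 20199189)))) (BT.node (nat_lit 5024448) (BT.node (nat_lit 5024384) (BT.leaf (nat_lit 20154129)) (BT.leaf (nat_lit 20522501))) (BT.node (nat_lit 5024512) (BT.leaf (nat_lit 20120089)) (BT.leaf (nat_lit 20523545)))))) (BT.node (nat_lit 5025088) (BT.node (nat_lit 5024832) (BT.node (nat_lit 5024704) (BT.node (nat_lit 5024640) (BT.leaf (nat_lit 37187873)) (BT.leaf (nat_lit 20222485))) (BT.node (nat_lit 5024768) (BT.leaf (nat_lit 20525081)) (BT.leaf (nat_lit 20227353)))) (BT.node (nat_lit 5024960) (BT.node (nat_lit 5024896) (BT.leaf (nat_lit 20232469)) (BT.leaf (nat_lit 20526105))) (BT.node (nat_lit 5025024) (BT.leaf (nat_lit 20526361)) (BT.leaf (nat_lit 20100381))))) (BT.node (nat_lit 5025344) (BT.node (nat_lit 5025216) (BT.node (nat_lit 5025152) (BT.leaf (nat_lit 20526865)) (BT.leaf (nat_lit 20182301))) (BT.node (nat_lit 5025280) (BT.leaf (nat_lit 20186889)) (BT.leaf (nat_lit 37230369)))) (BT.node (nat_lit 5025472) (BT.node (nat_lit 5025408) (BT.leaf (nat_lit 20201745)) (BT.leaf (nat_lit 37448209))) (BT.node (nat_lit 5025536) (BT.leaf (nat_lit 51891737)) (BT.leaf (nat_lit 20529949))))))) (BT.node (nat_lit 5026624) (BT.node (nat_lit 5026112) (BT.node (nat_lit 5025856) (BT.node (nat_lit 5025728) (BT.node (nat_lit 5025664) (BT.leaf (nat_lit 20216601)) (BT.leaf (nat_lit 20530449))) (BT.node (nat_lit 5025792) (BT.leaf (nat_lit 20229649)) (BT.leaf (nat_lit 20136197)))) (BT.node (nat_lit 5025984) (BT.node (nat_lit 5025920) (BT.leaf (nat_lit 20097565)) (BT.leaf (nat_lit 20135965))) (BT.node (nat_lit 5026048) (BT.leaf (nat_lit 20234017)) (BT.leaf (nat_lit 20522525))))) (BT.node (nat_lit 5026368) (BT.node (nat_lit 5026240) (BT.node (nat_lit 5026176) (BT.leaf (nat_lit 20533265)) (BT.leaf (nat_lit 20533529))) (BT.node (nat_lit 5026304) (BT.leaf (nat_lit 20534289)) (BT.leaf (nat_lit 20534545)))) (BT.node (nat_lit 5026496) (BT.node (nat_lit 5026432) (BT.leaf (nat_lit 20535833)) (BT.leaf (nat_lit 20196637))) (BT.node (nat_lit 5026560) (BT.leaf (nat_lit 20162333)) (BT.leaf (nat_lit 20536849)))))) (BT.node (nat_lit 5027136) (BT.node (nat_lit 5026880) (BT.node (nat_lit 5026752) (BT.node (nat_lit 5026688) (BT.leaf (nat_lit 20537105)) (BT.leaf (nat_lit 20127001))) (BT.node (nat_lit 5026816) (BT.leaf (nat_lit 37668129)) (BT.leaf (nat_lit 20166937)))) (BT.node (nat_lit 5027008) (BT.node (nat_lit 5026944) (BT.leaf (nat_lit 20094737)) (BT.leaf (nat_lit 27230469))) (BT.node (nat_lit 5027072) (BT.leaf (nat_lit 20137505)) (BT.leaf (nat_lit 20267013))))) (BT.node (nat_lit 5027392) (BT.node (nat_lit 5027264) (BT.node (nat_lit 5027200) (BT.leaf (nat_lit 20541209)) (BT.leaf (nat_lit 20224273))) (BT.node (nat_lit 5027328) (BT.leaf (nat_lit 37318161)) (BT.leaf (nat_lit 20541969)))) (BT.node (nat_lit 5027520) (BT.node (nat_lit 5027456) (BT.leaf (nat_lit 20095773)) (BT.leaf (nat_lit 20160029))) (BT.node (nat_lit 5027584) (BT.leaf (nat_lit 20542993)) (BT.leaf (nat_lit 20543505)))))))))))))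
noncomputable def big0_e16384 : BT Nat := (BT.node (nat_lit 5093440) (BT.node (nat_lit 5060672) (BT.node (nat_lit 5044096) (BT.node (nat_lit 5035840) (BT.node (nat_lit 5031744) (BT.node (nat_lit 5029696) (BT.node (nat_lit 5028672) (BT.node (nat_lit 5028160) (BT.node (nat_lit 5027904) (BT.node (nat_lit 5027776) (BT.node (nat_lit 5027712) (BT.leaf (nat_lit 20544029)) (BT.leaf (nat_lit 20165401))) (BT.node (nat_lit 5027840) (BT.leaf (nat_lit 20094481)) (BT.leaf (nat_lit 26880017)))) (BT.node (nat_lit 5028032) (BT.node (nat_lit 5027968) (BT.leaf (nat_lit 26879769)) (BT.leaf (nat_lit 20546841))) (BT.node (nat_lit 5028096) (BT.leaf (nat_lit 20547089)) (BT.leaf (nat_lit 20547857))))) (BT.node (nat_lit 5028416) (BT.node (nat_lit 5028288) (BT.node (nat_lit 5028224) (BT.leaf (nat_lit 20548357)) (BT.leaf (nat_lit 20144645))) (BT.node (nat_lit 5028352) (BT.leaf (nat_lit 20278801)) (BT.leaf (nat_lit 37318937)))) (BT.node (nat_lit 5028544) (BT.node (nat_lit 5028480) (BT.leaf (nat_lit 20550929)) (BT.leaf (nat_lit 20551705))) (BT.node (nat_lit 5028608) (BT.leaf (nat_lit 20551953)) (BT.leaf (nat_lit 20552721)))))) (BT.node (nat_lit 5029184) (BT.node (nat_lit 5028928) (BT.node (nat_lit 5028800) (BT.node (nat_lit 5028736) (BT.leaf (nat_lit 20440069)) (BT.leaf (nat_lit 20145669))) (BT.node (nat_lit 5028864) (BT.leaf (nat_lit 35596057)) (BT.leaf (nat_lit 20555025)))) (BT.node (nat_lit 5029056) (BT.node (nat_lit 5028992) (BT.leaf (nat_lit 20104453)) (BT.leaf (nat_lit 20249861))) (BT.node (nat_lit 5029120) (BT.leaf (nat_lit 20556053)) (BT.leaf (nat_lit 20230161))))) (BT.node (nat_lit 5029440) (BT.node (nat_lit 5029312) (BT.node (nat_lit 5029248) (BT.leaf (nat_lit 20557585)) (BT.leaf (nat_lit 20320529))) (BT.node (nat_lit 5029376) (BT.leaf (nat_lit 20332817)) (BT.leaf (nat_lit 20093973)))) (BT.node (nat_lit 5029568) (BT.node (nat_lit 5029504) (BT.leaf (nat_lit 20558613)) (BT.leaf (nat_lit 20559377))) (BT.node (nat_lit 5029632) (BT.leaf (nat_lit 27001361)) (BT.leaf (nat_lit 20560405))))))) (BT.node (nat_lit 5030720) (BT.node (nat_lit 5030208) (BT.node (nat_lit 5029952) (BT.node (nat_lit 5029824) (BT.node (nat_lit 5029760) (BT.leaf (nat_lit 20205329)) (BT.leaf (nat_lit 20205593))) (BT.node (nat_lit 5029888) (BT.leaf (nat_lit 20558105)) (BT.leaf (nat_lit 20311317)))) (BT.node (nat_lit 5030080) (BT.node (nat_lit 5030016) (BT.leaf (nat_lit 20120093)) (BT.leaf (nat_lit 20563473))) (BT.node (nat_lit 5030144) (BT.leaf (nat_lit 20563741)) (BT.leaf (nat_lit 20342301))))) (BT.node (nat_lit 5030464) (BT.node (nat_lit 5030336) (BT.node (nat_lit 5030272) (BT.leaf (nat_lit 20564241)) (BT.leaf (nat_lit 20220189))) (BT.node (nat_lit 5030400) (BT.leaf (nat_lit 20217625)) (BT.leaf (nat_lit 20194053)))) (BT.node (nat_lit 5030592) (BT.node (nat_lit 5030528) (BT.leaf (nat_lit 20306713)) (BT.leaf (nat_lit 20566037))) (BT.node (nat_lit 5030656) (BT.leaf (nat_lit 20566561)) (BT.leaf (nat_lit 20566813)))))) (BT.node (nat_lit 5031232) (BT.node (nat_lit 5030976) (BT.node (nat_lit 5030848) (BT.node (nat_lit 5030784) (BT.leaf (nat_lit 20558365)) (BT.leaf (nat_lit 20567057))) (BT.node (nat_lit 5030912) (BT.leaf (nat_lit 20567313)) (BT.leaf (nat_lit 20125973)))) (BT.node (nat_lit 5031104) (BT.node (nat_lit 5031040) (BT.leaf (nat_lit 20218117)) (BT.leaf (nat_lit 20569361))) (BT.node (nat_lit 5031168) (BT.leaf (nat_lit 20307733)) (BT.leaf (nat_lit 20181537))))) (BT.node (nat_lit 5031488) (BT.node (nat_lit 5031360) (BT.node (nat_lit 5031296) (BT.leaf (nat_lit 20248601)) (BT.leaf (nat_lit 20194077))) (BT.node (nat_lit 5031424) (BT.leaf (nat_lit 20194837)) (BT.leaf (nat_lit 20572193)))) (BT.node (nat_lit 5031616) (BT.node (nat_lit 5031552) (BT.leaf (nat_lit 37247497)) (BT.leaf (nat_lit 20229401))) (BT.node (nat_lit 5031680) (BT.leaf (nat_lit 20258593)) (BT.leaf (nat_lit 20127005)))))))) (BT.node (nat_lit 5033792) (BT.node (nat_lit 5032768) (BT.node (nat_lit 5032256) (BT.node (nat_lit 5032000) (BT.node (nat_lit 5031872) (BT.node (nat_lit 5031808) (BT.leaf (nat_lit 20573713)) (BT.leaf (nat_lit 20573973))) (BT.node (nat_lit 5031936) (BT.leaf (nat_lit 20381205)) (BT.leaf (nat_lit 20574993)))) (BT.node (nat_lit 5032128) (BT.node (nat_lit 5032064) (BT.leaf (nat_lit 20575261)) (BT.leaf (nat_lit 20183821))) (BT.node (nat_lit 5032192) (BT.leaf (nat_lit 20577301)) (BT.leaf (nat_lit 20298777))))) (BT.node (nat_lit 5032512) (BT.node (nat_lit 5032384) (BT.node (nat_lit 5032320) (BT.leaf (nat_lit 20119045)) (BT.leaf (nat_lit 20578841))) (BT.node (nat_lit 5032448) (BT.leaf (nat_lit 20210717)) (BT.leaf (nat_lit 20579613)))) (BT.node (nat_lit 5032640) (BT.node (nat_lit 5032576) (BT.leaf (nat_lit 20203297)) (BT.leaf (nat_lit 20362777))) (BT.node (nat_lit 5032704) (BT.leaf (nat_lit 20333857)) (BT.leaf (nat_lit 20580881)))))) (BT.node (nat_lit 5033280) (BT.node (nat_lit 5033024) (BT.node (nat_lit 5032896) (BT.node (nat_lit 5032832) (BT.leaf (nat_lit 20123161)) (BT.leaf (nat_lit 20123165))) (BT.node (nat_lit 5032960) (BT.leaf (nat_lit 20559645)) (BT.leaf (nat_lit 20582173)))) (BT.node (nat_lit 5033152) (BT.node (nat_lit 5033088) (BT.leaf (nat_lit 26589729)) (BT.leaf (nat_lit 20342809))) (BT.node (nat_lit 5033216) (BT.leaf (nat_lit 20300297)) (BT.leaf (nat_lit 20584473))))) (BT.node (nat_lit 5033536) (BT.node (nat_lit 5033408) (BT.node (nat_lit 5033344) (BT.leaf (nat_lit 20133405)) (BT.leaf (nat_lit 20585237))) (BT.node (nat_lit 5033472) (BT.leaf (nat_lit 20405009)) (BT.leaf (nat_lit 20585245)))) (BT.node (nat_lit 5033664) (BT.node (nat_lit 5033600) (BT.leaf (nat_lit 20235793)) (BT.leaf (nat_lit 20239369))) (BT.node (nat_lit 5033728) (BT.leaf (nat_lit 20266521)) (BT.leaf (nat_lit 36535305))))))) (BT.node (nat_lit 5034816) (BT.node (nat_lit 5034304) (BT.node (nat_lit 5034048) (BT.node (nat_lit 5033920) (BT.node (nat_lit 5033856) (BT.leaf (nat_lit 20588573)) (BT.leaf (nat_lit 20589085))) (BT.node (nat_lit 5033984) (BT.leaf (nat_lit 20589341)) (BT.leaf (nat_lit 20589585)))) (BT.node (nat_lit 5034176) (BT.node (nat_lit 5034112) (BT.leaf (nat_lit 20135961)) (BT.leaf (nat_lit 20304393))) (BT.node (nat_lit 5034240) (BT.leaf (nat_lit 20150809)) (BT.leaf (nat_lit 20591133))))) (BT.node (nat_lit 5034560) (BT.node (nat_lit 5034432) (BT.node (nat_lit 5034368) (BT.leaf (nat_lit 36534033)) (BT.leaf (nat_lit 20181517))) (BT.node (nat_lit 5034496) (BT.leaf (nat_lit 20592401)) (BT.leaf (nat_lit 20426769)))) (BT.node (nat_lit 5034688) (BT.node (nat_lit 5034624) (BT.leaf (nat_lit 20378901)) (BT.leaf (nat_lit 20368417))) (BT.node (nat_lit 5034752) (BT.leaf (nat_lit 20279073)) (BT.leaf (nat_lit 20593681)))))) (BT.node (nat_lit 5035328) (BT.node (nat_lit 5035072) (BT.node (nat_lit 5034944) (BT.node (nat_lit 5034880) (BT.leaf (nat_lit 20323605)) (BT.leaf (nat_lit 50149409))) (BT.node (nat_lit 5035008) (BT.leaf (nat_lit 37247509)) (BT.leaf (nat_lit 51336201)))) (BT.node (nat_lit 5035200) (BT.node (nat_lit 5035136) (BT.leaf (nat_lit 20276497)) (BT.leaf (nat_lit 20215585))) (BT.node (nat_lit 5035264) (BT.leaf (nat_lit 20560657)) (BT.leaf (nat_lit 20565509))))) (BT.node (nat_lit 5035584) (BT.node (nat_lit 5035456) (BT.node (nat_lit 5035392) (BT.leaf (nat_lit 20185877)) (BT.leaf (nat_lit 20315169))) (BT.node (nat_lit 5035520) (BT.leaf (nat_lit 20599061)) (BT.leaf (nat_lit 20247061)))) (BT.node (nat_lit 5035712) (BT.node (nat_lit 5035648) (BT.leaf (nat_lit 20349201)) (BT.leaf (nat_lit 20348961))) (BT.node (nat_lit 5035776) (BT.leaf (nat_lit 27230989)) (BT.leaf (nat_lit 20096005))))))))) (BT.node (nat_lit 5039936) (BT.node (nat_lit 5037888) (BT.node (nat_lit 5036864) (BT.node (nat_lit 5036352) (BT.node (nat_lit 5036096) (BT.node (nat_lit 5035968) (BT.node (nat_lit 5035904) (BT.leaf (nat_lit 37318941)) (BT.leaf (nat_lit 20111889))) (BT.node (nat_lit 5036032) (BT.leaf (nat_lit 20433697)) (BT.leaf (nat_lit 20110361)))) (BT.node (nat_lit 5036224) (BT.node (nat_lit 5036160) (BT.leaf (nat_lit 20603677)) (BT.leaf (nat_lit 20433681))) (BT.node (nat_lit 5036288) (BT.leaf (nat_lit 20604433)) (BT.leaf (nat_lit 20096025))))) (BT.node (nat_lit 5036608) (BT.node (nat_lit 5036480) (BT.node (nat_lit 5036416) (BT.leaf (nat_lit 20096029)) (BT.leaf (nat_lit 20215569))) (BT.node (nat_lit 5036544) (BT.leaf (nat_lit 20606737)) (BT.leaf (nat_lit 20155929)))) (BT.node (nat_lit 5036736) (BT.node (nat_lit 5036672) (BT.leaf (nat_lit 20155933)) (BT.leaf (nat_lit 20122389))) (BT.node (nat_lit 5036800) (BT.leaf (nat_lit 20609809)) (BT.leaf (nat_lit 51888905)))))) (BT.node (nat_lit 5037376) (BT.node (nat_lit 5037120) (BT.node (nat_lit 5036992) (BT.node (nat_lit 5036928) (BT.leaf (nat_lit 20450581)) (BT.leaf (nat_lit 20309269))) (BT.node (nat_lit 5037056) (BT.leaf (nat_lit 20611609)) (BT.leaf (nat_lit 20612633)))) (BT.node (nat_lit 5037248) (BT.node (nat_lit 5037184) (BT.leaf (nat_lit 20276241)) (BT.leaf (nat_lit 20105241))) (BT.node (nat_lit 5037312) (BT.leaf (nat_lit 20105245)) (BT.leaf (nat_lit 20614421))))) (BT.node (nat_lit 5037632) (BT.node (nat_lit 5037504) (BT.node (nat_lit 5037440) (BT.leaf (nat_lit 25206277)) (BT.leaf (nat_lit 20431377))) (BT.node (nat_lit 5037568) (BT.leaf (nat_lit 20532249)) (BT.leaf (nat_lit 20616217)))) (BT.node (nat_lit 5037760) (BT.node (nat_lit 5037696) (BT.leaf (nat_lit 20150813)) (BT.leaf (nat_lit 20616721))) (BT.node (nat_lit 5037824) (BT.leaf (nat_lit 20531977)) (BT.leaf (nat_lit 20119301))))))) (BT.node (nat_lit 5038912) (BT.node (nat_lit 5038400) (BT.node (nat_lit 5038144) (BT.node (nat_lit 5038016) (BT.node (nat_lit 5037952) (BT.leaf (nat_lit 20559641)) (BT.leaf (nat_lit 20152093))) (BT.node (nat_lit 5038080) (BT.leaf (nat_lit 20618001)) (BT.leaf (nat_lit 20618261)))) (BT.node (nat_lit 5038272) (BT.node (nat_lit 5038208) (BT.leaf (nat_lit 20116997)) (BT.leaf (nat_lit 37448717))) (BT.node (nat_lit 5038336) (BT.leaf (nat_lit 20153373)) (BT.leaf (nat_lit 20620561))))) (BT.node (nat_lit 5038656) (BT.node (nat_lit 5038528) (BT.node (nat_lit 5038464) (BT.leaf (nat_lit 20621073)) (BT.leaf (nat_lit 20383761))) (BT.node (nat_lit 5038592) (BT.leaf (nat_lit 20621589)) (BT.leaf (nat_lit 20622609)))) (BT.node (nat_lit 5038784) (BT.node (nat_lit 5038720) (BT.leaf (nat_lit 20622869)) (BT.leaf (nat_lit 26111505))) (BT.node (nat_lit 5038848) (BT.leaf (nat_lit 20155421)) (BT.leaf (nat_lit 20624401)))))) (BT.node (nat_lit 5039424) (BT.node (nat_lit 5039168) (BT.node (nat_lit 5039040) (BT.node (nat_lit 5038976) (BT.leaf (nat_lit 20624661)) (BT.leaf (nat_lit 20624913))) (BT.node (nat_lit 5039104) (BT.leaf (nat_lit 20277533)) (BT.leaf (nat_lit 20625425)))) (BT.node (nat_lit 5039296) (BT.node (nat_lit 5039232) (BT.leaf (nat_lit 20625685)) (BT.leaf (nat_lit 20626449))) (BT.node (nat_lit 5039360) (BT.leaf (nat_lit 20626957)) (BT.leaf (nat_lit 20628501))))) (BT.node (nat_lit 5039680) (BT.node (nat_lit 5039552) (BT.node (nat_lit 5039488) (BT.leaf (nat_lit 20335649)) (BT.leaf (nat_lit 34323745))) (BT.node (nat_lit 5039616) (BT.leaf (nat_lit 37667857)) (BT.leaf (nat_lit 37667613)))) (BT.node (nat_lit 5039808) (BT.node (nat_lit 5039744) (BT.leaf (nat_lit 20630289)) (BT.leaf (nat_lit 27170329))) (BT.node (nat_lit 5039872) (BT.leaf (nat_lit 20631321)) (BT.leaf (nat_lit 20144389)))))))) (BT.node (nat_lit 5041984) (BT.node (nat_lit 5040960) (BT.node (nat_lit 5040448) (BT.node (nat_lit 5040192) (BT.node (nat_lit 5040064) (BT.node (nat_lit 5040000) (BT.leaf (nat_lit 20632601)) (BT.leaf (nat_lit 20632849))) (BT.node (nat_lit 5040128) (BT.leaf (nat_lit 20160025)) (BT.leaf (nat_lit 20633861)))) (BT.node (nat_lit 5040320) (BT.node (nat_lit 5040256) (BT.leaf (nat_lit 20143129)) (BT.leaf (nat_lit 20143133))) (BT.node (nat_lit 5040384) (BT.leaf (nat_lit 20161565)) (BT.leaf (nat_lit 20636433))))) (BT.node (nat_lit 5040704) (BT.node (nat_lit 5040576) (BT.node (nat_lit 5040512) (BT.leaf (nat_lit 20502041)) (BT.leaf (nat_lit 20637469))) (BT.node (nat_lit 5040640) (BT.leaf (nat_lit 20637969)) (BT.leaf (nat_lit 20638481)))) (BT.node (nat_lit 5040832) (BT.node (nat_lit 5040768) (BT.leaf (nat_lit 20639249)) (BT.leaf (nat_lit 20096793))) (BT.node (nat_lit 5040896) (BT.leaf (nat_lit 20096797)) (BT.leaf (nat_lit 20163869)))))) (BT.node (nat_lit 5041472) (BT.node (nat_lit 5041216) (BT.node (nat_lit 5041088) (BT.node (nat_lit 5041024) (BT.leaf (nat_lit 20641553)) (BT.leaf (nat_lit 20642329))) (BT.node (nat_lit 5041152) (BT.leaf (nat_lit 26879245)) (BT.leaf (nat_lit 20173085)))) (BT.node (nat_lit 5041344) (BT.node (nat_lit 5041280) (BT.leaf (nat_lit 20633881)) (BT.leaf (nat_lit 20165405))) (BT.node (nat_lit 5041408) (BT.leaf (nat_lit 20644113)) (BT.leaf (nat_lit 20644625))))) (BT.node (nat_lit 5041728) (BT.node (nat_lit 5041600) (BT.node (nat_lit 5041536) (BT.leaf (nat_lit 20160541)) (BT.leaf (nat_lit 20158993))) (BT.node (nat_lit 5041664) (BT.leaf (nat_lit 20645905)) (BT.leaf (nat_lit 20440593)))) (BT.node (nat_lit 5041856) (BT.node (nat_lit 5041792) (BT.leaf (nat_lit 20646673)) (BT.leaf (nat_lit 20647185))) (BT.node (nat_lit 5041920) (BT.leaf (nat_lit 20162845)) (BT.leaf (nat_lit 20156689))))))) (BT.node (nat_lit 5043008) (BT.node (nat_lit 5042496) (BT.node (nat_lit 5042240) (BT.node (nat_lit 5042112) (BT.node (nat_lit 5042048) (BT.leaf (nat_lit 20648465)) (BT.leaf (nat_lit 20107033))) (BT.node (nat_lit 5042176) (BT.leaf (nat_lit 37318429)) (BT.leaf (nat_lit 20650001)))) (BT.node (nat_lit 5042368) (BT.node (nat_lit 5042304) (BT.leaf (nat_lit 20650261)) (BT.leaf (nat_lit 20651025))) (BT.node (nat_lit 5042432) (BT.leaf (nat_lit 20169241)) (BT.leaf (nat_lit 20652049))))) (BT.node (nat_lit 5042752) (BT.node (nat_lit 5042624) (BT.node (nat_lit 5042560) (BT.leaf (nat_lit 20479765)) (BT.leaf (nat_lit 20653077))) (BT.node (nat_lit 5042688) (BT.leaf (nat_lit 20364305)) (BT.leaf (nat_lit 20200481)))) (BT.node (nat_lit 5042880) (BT.node (nat_lit 5042816) (BT.leaf (nat_lit 20520725)) (BT.leaf (nat_lit 20654865))) (BT.node (nat_lit 5042944) (BT.leaf (nat_lit 20655133)) (BT.leaf (nat_lit 20531469)))))) (BT.node (nat_lit 5043584) (BT.node (nat_lit 5043328) (BT.node (nat_lit 5043200) (BT.node (nat_lit 5043072) (BT.leaf (nat_lit 20656405)) (BT.leaf (nat_lit 20657425))) (BT.node (nat_lit 5043264) (BT.leaf (nat_lit 20658193)) (BT.leaf (nat_lit 20658449)))) (BT.node (nat_lit 5043456) (BT.node (nat_lit 5043392) (BT.leaf (nat_lit 20659229)) (BT.leaf (nat_lit 20094229))) (BT.node (nat_lit 5043520) (BT.leaf (nat_lit 20094485)) (BT.leaf (nat_lit 20174365))))) (BT.node (nat_lit 5043840) (BT.node (nat_lit 5043712) (BT.node (nat_lit 5043648) (BT.leaf (nat_lit 20661777)) (BT.leaf (nat_lit 20094741))) (BT.node (nat_lit 5043776) (BT.leaf (nat_lit 20663313)) (BT.leaf (nat_lit 20663825)))) (BT.node (nat_lit 5043968) (BT.node (nat_lit 5043904) (BT.leaf (nat_lit 20664605)) (BT.leaf (nat_lit 20094997))) (BT.node (nat_lit 5044032) (BT.leaf (nat_lit 20095249)) (BT.leaf (nat_lit 20095253)))))))))) (BT.node (nat_lit 5052480) (BT.node (nat_lit 5048384) (BT.node (nat_lit 5046336) (BT.node (nat_lit 5045312) (BT.node (nat_lit 5044800) (BT.node (nat_lit 5044352) (BT.node (nat_lit 5044224) (BT.node (nat_lit 5044160) (BT.leaf (nat_lit 20666909)) (BT.leaf (nat_lit 20095509))) (BT.node (nat_lit 5044288) (BT.leaf (nat_lit 20668185)) (BT.leaf (nat_lit 20095765)))) (BT.node (nat_lit 5044544) (BT.node (nat_lit 5044416) (BT.leaf (nat_lit 27231261)) (BT.leaf (nat_lit 20096021))) (BT.node (nat_lit 5044608) (BT.leaf (nat_lit 20096277)) (BT.leaf (nat_lit 26881541))))) (BT.node (nat_lit 5045056) (BT.node (nat_lit 5044928) (BT.node (nat_lit 5044864) (BT.leaf (nat_lit 21525269)) (BT.leaf (nat_lit 20172293))) (BT.node (nat_lit 5044992) (BT.leaf (nat_lit 20501013)) (BT.leaf (nat_lit 20715549)))) (BT.node (nat_lit 5045184) (BT.node (nat_lit 5045120) (BT.leaf (nat_lit 21526289)) (BT.leaf (nat_lit 20205597))) (BT.node (nat_lit 5045248) (BT.leaf (nat_lit 20204561)) (BT.leaf (nat_lit 20206869)))))) (BT.node (nat_lit 5045824) (BT.node (nat_lit 5045568) (BT.node (nat_lit 5045440) (BT.node (nat_lit 5045376) (BT.leaf (nat_lit 20181017)) (BT.leaf (nat_lit 21526805))) (BT.node (nat_lit 5045504) (BT.leaf (nat_lit 20657181)) (BT.leaf (nat_lit 20172317)))) (BT.node (nat_lit 5045696) (BT.node (nat_lit 5045632) (BT.leaf (nat_lit 21527313)) (BT.leaf (nat_lit 20182297))) (BT.node (nat_lit 5045760) (BT.leaf (nat_lit 20172045)) (BT.leaf (nat_lit 21528593))))) (BT.node (nat_lit 5046080) (BT.node (nat_lit 5045952) (BT.node (nat_lit 5045888) (BT.leaf (nat_lit 21528853)) (BT.leaf (nat_lit 20251681))) (BT.node (nat_lit 5046016) (BT.leaf (nat_lit 21529365)) (BT.leaf (nat_lit 21529617)))) (BT.node (nat_lit 5046208) (BT.node (nat_lit 5046144) (BT.leaf (nat_lit 21530389)) (BT.leaf (nat_lit 20427541))) (BT.node (nat_lit 5046272) (BT.leaf (nat_lit 20271393)) (BT.leaf (nat_lit 20326149))))))) (BT.node (nat_lit 5047360) (BT.node (nat_lit 5046848) (BT.node (nat_lit 5046592) (BT.node (nat_lit 5046464) (BT.node (nat_lit 5046400) (BT.leaf (nat_lit 20426517)) (BT.leaf (nat_lit 20117769))) (BT.node (nat_lit 5046528) (BT.leaf (nat_lit 20194821)) (BT.leaf (nat_lit 20352273)))) (BT.node (nat_lit 5046720) (BT.node (nat_lit 5046656) (BT.leaf (nat_lit 20120857)) (BT.leaf (nat_lit 20120861))) (BT.node (nat_lit 5046784) (BT.leaf (nat_lit 37028373)) (BT.leaf (nat_lit 25233173))))) (BT.node (nat_lit 5047104) (BT.node (nat_lit 5046976) (BT.node (nat_lit 5046912) (BT.leaf (nat_lit 20446225)) (BT.leaf (nat_lit 51325445))) (BT.node (nat_lit 5047040) (BT.leaf (nat_lit 20188189)) (BT.leaf (nat_lit 21533969)))) (BT.node (nat_lit 5047232) (BT.node (nat_lit 5047168) (BT.leaf (nat_lit 20153093)) (BT.leaf (nat_lit 21534481))) (BT.node (nat_lit 5047296) (BT.leaf (nat_lit 20169753)) (BT.leaf (nat_lit 21535253)))))) (BT.node (nat_lit 5047872) (BT.node (nat_lit 5047616) (BT.node (nat_lit 5047488) (BT.node (nat_lit 5047424) (BT.leaf (nat_lit 20169749)) (BT.leaf (nat_lit 21535505))) (BT.node (nat_lit 5047552) (BT.leaf (nat_lit 21535761)) (BT.leaf (nat_lit 20162065)))) (BT.node (nat_lit 5047744) (BT.node (nat_lit 5047680) (BT.leaf (nat_lit 21537053)) (BT.leaf (nat_lit 20306717))) (BT.node (nat_lit 5047808) (BT.leaf (nat_lit 20179485)) (BT.leaf (nat_lit 21537553))))) (BT.node (nat_lit 5048128) (BT.node (nat_lit 5048000) (BT.node (nat_lit 5047936) (BT.leaf (nat_lit 20179213)) (BT.leaf (nat_lit 21538321))) (BT.node (nat_lit 5048064) (BT.leaf (nat_lit 20180253)) (BT.leaf (nat_lit 50653449)))) (BT.node (nat_lit 5048256) (BT.node (nat_lit 5048192) (BT.leaf (nat_lit 20674065)) (BT.leaf (nat_lit 20439837))) (BT.node (nat_lit 5048320) (BT.leaf (nat_lit 20485149)) (BT.leaf (nat_lit 20268817)))))))) (BT.node (nat_lit 5050432) (BT.node (nat_lit 5049408) (BT.node (nat_lit 5048896) (BT.node (nat_lit 5048640) (BT.node (nat_lit 5048512) (BT.node (nat_lit 5048448) (BT.leaf (nat_lit 21051925)) (BT.leaf (nat_lit 20243229))) (BT.node (nat_lit 5048576) (BT.leaf (nat_lit 21540625)) (BT.leaf (nat_lit 20242709)))) (BT.node (nat_lit 5048768) (BT.node (nat_lit 5048704) (BT.leaf (nat_lit 20172041)) (BT.leaf (nat_lit 20657177))) (BT.node (nat_lit 5048832) (BT.leaf (nat_lit 20450577)) (BT.leaf (nat_lit 20147985))))) (BT.node (nat_lit 5049152) (BT.node (nat_lit 5049024) (BT.node (nat_lit 5048960) (BT.leaf (nat_lit 21543189)) (BT.leaf (nat_lit 21543445))) (BT.node (nat_lit 5049088) (BT.leaf (nat_lit 37511433)) (BT.leaf (nat_lit 21543965)))) (BT.node (nat_lit 5049280) (BT.node (nat_lit 5049216) (BT.leaf (nat_lit 21544465)) (BT.leaf (nat_lit 20196633))) (BT.node (nat_lit 5049344) (BT.leaf (nat_lit 20721669)) (BT.leaf (nat_lit 21544989)))))) (BT.node (nat_lit 5049920) (BT.node (nat_lit 5049664) (BT.node (nat_lit 5049536) (BT.node (nat_lit 5049472) (BT.leaf (nat_lit 51437081)) (BT.leaf (nat_lit 51437085))) (BT.node (nat_lit 5049600) (BT.leaf (nat_lit 20590625)) (BT.leaf (nat_lit 20590369)))) (BT.node (nat_lit 5049792) (BT.node (nat_lit 5049728) (BT.leaf (nat_lit 21546001)) (BT.leaf (nat_lit 20727569))) (BT.node (nat_lit 5049856) (BT.leaf (nat_lit 20520993)) (BT.leaf (nat_lit 20731169))))) (BT.node (nat_lit 5050176) (BT.node (nat_lit 5050048) (BT.node (nat_lit 5049984) (BT.leaf (nat_lit 20200473)) (BT.leaf (nat_lit 21547273))) (BT.node (nat_lit 5050112) (BT.leaf (nat_lit 20239893)) (BT.leaf (nat_lit 20237589)))) (BT.node (nat_lit 5050304) (BT.node (nat_lit 5050240) (BT.leaf (nat_lit 20177185)) (BT.leaf (nat_lit 26110241))) (BT.node (nat_lit 5050368) (BT.leaf (nat_lit 20675861)) (BT.leaf (nat_lit 27102481))))))) (BT.node (nat_lit 5051456) (BT.node (nat_lit 5050944) (BT.node (nat_lit 5050688) (BT.node (nat_lit 5050560) (BT.node (nat_lit 5050496) (BT.leaf (nat_lit 21549081)) (BT.leaf (nat_lit 20720405))) (BT.node (nat_lit 5050624) (BT.leaf (nat_lit 37675281)) (BT.leaf (nat_lit 35608081)))) (BT.node (nat_lit 5050816) (BT.node (nat_lit 5050752) (BT.leaf (nat_lit 35608341)) (BT.leaf (nat_lit 35608345))) (BT.node (nat_lit 5050880) (BT.leaf (nat_lit 20735513)) (BT.leaf (nat_lit 21552401))))) (BT.node (nat_lit 5051200) (BT.node (nat_lit 5051072) (BT.node (nat_lit 5051008) (BT.leaf (nat_lit 21552925)) (BT.leaf (nat_lit 21552657))) (BT.node (nat_lit 5051136) (BT.leaf (nat_lit 21553693)) (BT.leaf (nat_lit 20320521)))) (BT.node (nat_lit 5051328) (BT.node (nat_lit 5051264) (BT.leaf (nat_lit 21554193)) (BT.leaf (nat_lit 21554449))) (BT.node (nat_lit 5051392) (BT.leaf (nat_lit 21554709)) (BT.leaf (nat_lit 21555473)))))) (BT.node (nat_lit 5051968) (BT.node (nat_lit 5051712) (BT.node (nat_lit 5051584) (BT.node (nat_lit 5051520) (BT.leaf (nat_lit 20473889)) (BT.leaf (nat_lit 21529881))) (BT.node (nat_lit 5051648) (BT.leaf (nat_lit 20332833)) (BT.leaf (nat_lit 21557793)))) (BT.node (nat_lit 5051840) (BT.node (nat_lit 5051776) (BT.leaf (nat_lit 20620833)) (BT.leaf (nat_lit 20749829))) (BT.node (nat_lit 5051904) (BT.leaf (nat_lit 20523033)) (BT.leaf (nat_lit 20154397))))) (BT.node (nat_lit 5052224) (BT.node (nat_lit 5052096) (BT.node (nat_lit 5052032) (BT.leaf (nat_lit 21559069)) (BT.leaf (nat_lit 21559053))) (BT.node (nat_lit 5052160) (BT.leaf (nat_lit 21559833)) (BT.leaf (nat_lit 20682253)))) (BT.node (nat_lit 5052352) (BT.node (nat_lit 5052288) (BT.leaf (nat_lit 21559817)) (BT.leaf (nat_lit 36711697))) (BT.node (nat_lit 5052416) (BT.leaf (nat_lit 52187425)) (BT.leaf (nat_lit 33669645))))))))) (BT.node (nat_lit 5056576) (BT.node (nat_lit 5054528) (BT.node (nat_lit 5053504) (BT.node (nat_lit 5052992) (BT.node (nat_lit 5052736) (BT.node (nat_lit 5052608) (BT.node (nat_lit 5052544) (BT.leaf (nat_lit 20259345)) (BT.leaf (nat_lit 21561621))) (BT.node (nat_lit 5052672) (BT.leaf (nat_lit 21562633)) (BT.leaf (nat_lit 21563669)))) (BT.node (nat_lit 5052864) (BT.node (nat_lit 5052800) (BT.leaf (nat_lit 20210713)) (BT.leaf (nat_lit 21529885))) (BT.node (nat_lit 5052928) (BT.leaf (nat_lit 20180741)) (BT.leaf (nat_lit 20746773))))) (BT.node (nat_lit 5053248) (BT.node (nat_lit 5053120) (BT.node (nat_lit 5053056) (BT.leaf (nat_lit 20131077)) (BT.leaf (nat_lit 20656657))) (BT.node (nat_lit 5053184) (BT.leaf (nat_lit 20559133)) (BT.leaf (nat_lit 20118045)))) (BT.node (nat_lit 5053376) (BT.node (nat_lit 5053312) (BT.leaf (nat_lit 20314645)) (BT.leaf (nat_lit 20182533))) (BT.node (nat_lit 5053440) (BT.leaf (nat_lit 20493853)) (BT.leaf (nat_lit 20218133)))))) (BT.node (nat_lit 5054016) (BT.node (nat_lit 5053760) (BT.node (nat_lit 5053632) (BT.node (nat_lit 5053568) (BT.leaf (nat_lit 20102681)) (BT.leaf (nat_lit 20155397))) (BT.node (nat_lit 5053696) (BT.leaf (nat_lit 51815445)) (BT.leaf (nat_lit 21567249)))) (BT.node (nat_lit 5053888) (BT.node (nat_lit 5053824) (BT.leaf (nat_lit 20149013)) (BT.leaf (nat_lit 20164113))) (BT.node (nat_lit 5053952) (BT.leaf (nat_lit 21569049)) (BT.leaf (nat_lit 20184089))))) (BT.node (nat_lit 5054272) (BT.node (nat_lit 5054144) (BT.node (nat_lit 5054080) (BT.leaf (nat_lit 20183573)) (BT.leaf (nat_lit 20216605))) (BT.node (nat_lit 5054208) (BT.leaf (nat_lit 20380693)) (BT.leaf (nat_lit 21569813)))) (BT.node (nat_lit 5054400) (BT.node (nat_lit 5054336) (BT.leaf (nat_lit 21570321)) (BT.leaf (nat_lit 20598041))) (BT.node (nat_lit 5054464) (BT.leaf (nat_lit 21570577)) (BT.leaf (nat_lit 20410913))))))) (BT.node (nat_lit 5055552) (BT.node (nat_lit 5055040) (BT.node (nat_lit 5054784) (BT.node (nat_lit 5054656) (BT.node (nat_lit 5054592) (BT.leaf (nat_lit 20592665)) (BT.leaf (nat_lit 20367125))) (BT.node (nat_lit 5054720) (BT.leaf (nat_lit 20526085)) (BT.leaf (nat_lit 21572125)))) (BT.node (nat_lit 5054912) (BT.node (nat_lit 5054848) (BT.leaf (nat_lit 20428049)) (BT.leaf (nat_lit 20723205))) (BT.node (nat_lit 5054976) (BT.leaf (nat_lit 20411425)) (BT.leaf (nat_lit 21572893))))) (BT.node (nat_lit 5055296) (BT.node (nat_lit 5055168) (BT.node (nat_lit 5055104) (BT.leaf (nat_lit 21572109)) (BT.leaf (nat_lit 20996885))) (BT.node (nat_lit 5055232) (BT.leaf (nat_lit 21573905)) (BT.leaf (nat_lit 20703777)))) (BT.node (nat_lit 5055424) (BT.node (nat_lit 5055360) (BT.leaf (nat_lit 20704033)) (BT.leaf (nat_lit 20191257))) (BT.node (nat_lit 5055488) (BT.leaf (nat_lit 20316449)) (BT.leaf (nat_lit 20212757)))))) (BT.node (nat_lit 5056064) (BT.node (nat_lit 5055808) (BT.node (nat_lit 5055680) (BT.node (nat_lit 5055616) (BT.leaf (nat_lit 20944417)) (BT.leaf (nat_lit 20279841))) (BT.node (nat_lit 5055744) (BT.leaf (nat_lit 20306953)) (BT.leaf (nat_lit 20784657)))) (BT.node (nat_lit 5055936) (BT.node (nat_lit 5055872) (BT.leaf (nat_lit 52196897)) (BT.leaf (nat_lit 20348945))) (BT.node (nat_lit 5056000) (BT.leaf (nat_lit 20341253)) (BT.leaf (nat_lit 20341277))))) (BT.node (nat_lit 5056320) (BT.node (nat_lit 5056192) (BT.node (nat_lit 5056128) (BT.leaf (nat_lit 51959065)) (BT.leaf (nat_lit 21575953))) (BT.node (nat_lit 5056256) (BT.leaf (nat_lit 52225037)) (BT.leaf (nat_lit 20208929)))) (BT.node (nat_lit 5056448) (BT.node (nat_lit 5056384) (BT.leaf (nat_lit 20264737)) (BT.leaf (nat_lit 21578781))) (BT.node (nat_lit 5056512) (BT.leaf (nat_lit 36670481)) (BT.leaf (nat_lit 36678425)))))))) (BT.node (nat_lit 5058624) (BT.node (nat_lit 5057600) (BT.node (nat_lit 5057088) (BT.node (nat_lit 5056832) (BT.node (nat_lit 5056704) (BT.node (nat_lit 5056640) (BT.leaf (nat_lit 20456729)) (BT.leaf (nat_lit 20752921))) (BT.node (nat_lit 5056768) (BT.leaf (nat_lit 26111241)) (BT.leaf (nat_lit 21027865)))) (BT.node (nat_lit 5056960) (BT.node (nat_lit 5056896) (BT.leaf (nat_lit 20753429)) (BT.leaf (nat_lit 36533257))) (BT.node (nat_lit 5057024) (BT.leaf (nat_lit 20675601)) (BT.leaf (nat_lit 27102749))))) (BT.node (nat_lit 5057344) (BT.node (nat_lit 5057216) (BT.node (nat_lit 5057152) (BT.leaf (nat_lit 20229397)) (BT.leaf (nat_lit 20229405))) (BT.node (nat_lit 5057280) (BT.leaf (nat_lit 21582353)) (BT.leaf (nat_lit 20126997)))) (BT.node (nat_lit 5057472) (BT.node (nat_lit 5057408) (BT.leaf (nat_lit 21582609)) (BT.leaf (nat_lit 21583133))) (BT.node (nat_lit 5057536) (BT.leaf (nat_lit 21582865)) (BT.leaf (nat_lit 21583641)))))) (BT.node (nat_lit 5058112) (BT.node (nat_lit 5057856) (BT.node (nat_lit 5057728) (BT.node (nat_lit 5057664) (BT.leaf (nat_lit 21583897)) (BT.leaf (nat_lit 20699921))) (BT.node (nat_lit 5057792) (BT.leaf (nat_lit 35938585)) (BT.leaf (nat_lit 35938589)))) (BT.node (nat_lit 5057984) (BT.node (nat_lit 5057920) (BT.leaf (nat_lit 20798989)) (BT.leaf (nat_lit 20723717))) (BT.node (nat_lit 5058048) (BT.leaf (nat_lit 21585169)) (BT.leaf (nat_lit 20191261))))) (BT.node (nat_lit 5058368) (BT.node (nat_lit 5058240) (BT.node (nat_lit 5058176) (BT.leaf (nat_lit 20487201)) (BT.leaf (nat_lit 20422689))) (BT.node (nat_lit 5058304) (BT.leaf (nat_lit 20486433)) (BT.leaf (nat_lit 20422945)))) (BT.node (nat_lit 5058496) (BT.node (nat_lit 5058432) (BT.leaf (nat_lit 21585937)) (BT.leaf (nat_lit 20173601))) (BT.node (nat_lit 5058560) (BT.leaf (nat_lit 20486921)) (BT.leaf (nat_lit 21586453))))))) (BT.node (nat_lit 5059648) (BT.node (nat_lit 5059136) (BT.node (nat_lit 5058880) (BT.node (nat_lit 5058752) (BT.node (nat_lit 5058688) (BT.leaf (nat_lit 20233237)) (BT.leaf (nat_lit 20194313))) (BT.node (nat_lit 5058816) (BT.leaf (nat_lit 20265989)) (BT.leaf (nat_lit 20266001)))) (BT.node (nat_lit 5059008) (BT.node (nat_lit 5058944) (BT.leaf (nat_lit 52163361)) (BT.leaf (nat_lit 37100317))) (BT.node (nat_lit 5059072) (BT.leaf (nat_lit 21587729)) (BT.leaf (nat_lit 21588757))))) (BT.node (nat_lit 5059392) (BT.node (nat_lit 5059264) (BT.node (nat_lit 5059200) (BT.leaf (nat_lit 21589785)) (BT.leaf (nat_lit 20501777))) (BT.node (nat_lit 5059328) (BT.leaf (nat_lit 20273693)) (BT.leaf (nat_lit 20468513)))) (BT.node (nat_lit 5059520) (BT.node (nat_lit 5059456) (BT.leaf (nat_lit 20468769)) (BT.leaf (nat_lit 20469281))) (BT.node (nat_lit 5059584) (BT.leaf (nat_lit 20469025)) (BT.leaf (nat_lit 21550353)))))) (BT.node (nat_lit 5060160) (BT.node (nat_lit 5059904) (BT.node (nat_lit 5059776) (BT.node (nat_lit 5059712) (BT.leaf (nat_lit 20655889)) (BT.leaf (nat_lit 20797457))) (BT.node (nat_lit 5059840) (BT.leaf (nat_lit 26815509)) (BT.leaf (nat_lit 20829205)))) (BT.node (nat_lit 5060032) (BT.node (nat_lit 5059968) (BT.leaf (nat_lit 20304929)) (BT.leaf (nat_lit 20480545))) (BT.node (nat_lit 5060096) (BT.leaf (nat_lit 20278561)) (BT.leaf (nat_lit 20480289))))) (BT.node (nat_lit 5060416) (BT.node (nat_lit 5060288) (BT.node (nat_lit 5060224) (BT.leaf (nat_lit 26112025)) (BT.leaf (nat_lit 26112029))) (BT.node (nat_lit 5060352) (BT.leaf (nat_lit 21593365)) (BT.leaf (nat_lit 20476433)))) (BT.node (nat_lit 5060544) (BT.node (nat_lit 5060480) (BT.leaf (nat_lit 20803853)) (BT.leaf (nat_lit 35724313))) (BT.node (nat_lit 5060608) (BT.leaf (nat_lit 20415001)) (BT.leaf (nat_lit 20486689))))))))))) (BT.node (nat_lit 5077056) (BT.node (nat_lit 5068864) (BT.node (nat_lit 5064768) (BT.node (nat_lit 5062720) (BT.node (nat_lit 5061696) (BT.node (nat_lit 5061184) (BT.node (nat_lit 5060928) (BT.node (nat_lit 5060800) (BT.node (nat_lit 5060736) (BT.leaf (nat_lit 20486945)) (BT.leaf (nat_lit 20487685))) (BT.node (nat_lit 5060864) (BT.leaf (nat_lit 21595921)) (BT.leaf (nat_lit 20182549)))) (BT.node (nat_lit 5061056) (BT.node (nat_lit 5060992) (BT.leaf (nat_lit 20234785)) (BT.leaf (nat_lit 21596689))) (BT.node (nat_lit 5061120) (BT.leaf (nat_lit 21596693)) (BT.leaf (nat_lit 27102741))))) (BT.node (nat_lit 5061440) (BT.node (nat_lit 5061312) (BT.node (nat_lit 5061248) (BT.leaf (nat_lit 20249349)) (BT.leaf (nat_lit 21598753))) (BT.node (nat_lit 5061376) (BT.leaf (nat_lit 21544985)) (BT.leaf (nat_lit 20707093)))) (BT.node (nat_lit 5061568) (BT.node (nat_lit 5061504) (BT.leaf (nat_lit 20693013)) (BT.leaf (nat_lit 20220193))) (BT.node (nat_lit 5061632) (BT.leaf (nat_lit 49974281)) (BT.leaf (nat_lit 20487457)))))) (BT.node (nat_lit 5062208) (BT.node (nat_lit 5061952) (BT.node (nat_lit 5061824) (BT.node (nat_lit 5061760) (BT.leaf (nat_lit 20456721)) (BT.leaf (nat_lit 21601041))) (BT.node (nat_lit 5061888) (BT.leaf (nat_lit 20247065)) (BT.leaf (nat_lit 20764181)))) (BT.node (nat_lit 5062080) (BT.node (nat_lit 5062016) (BT.leaf (nat_lit 20619289)) (BT.leaf (nat_lit 21525785))) (BT.node (nat_lit 5062144) (BT.leaf (nat_lit 20248605)) (BT.leaf (nat_lit 20120069))))) (BT.node (nat_lit 5062464) (BT.node (nat_lit 5062336) (BT.node (nat_lit 5062272) (BT.leaf (nat_lit 21601809)) (BT.leaf (nat_lit 20135445))) (BT.node (nat_lit 5062400) (BT.leaf (nat_lit 21602065)) (BT.leaf (nat_lit 20414985)))) (BT.node (nat_lit 5062592) (BT.node (nat_lit 5062528) (BT.leaf (nat_lit 20589337)) (BT.leaf (nat_lit 20530205))) (BT.node (nat_lit 5062656) (BT.leaf (nat_lit 20237845)) (BT.leaf (nat_lit 20533013))))))) (BT.node (nat_lit 5063744) (BT.node (nat_lit 5063232) (BT.node (nat_lit 5062976) (BT.node (nat_lit 5062848) (BT.node (nat_lit 5062784) (BT.leaf (nat_lit 20619013)) (BT.leaf (nat_lit 20847377))) (BT.node (nat_lit 5062912) (BT.leaf (nat_lit 20176673)) (BT.leaf (nat_lit 20176649)))) (BT.node (nat_lit 5063104) (BT.node (nat_lit 5063040) (BT.leaf (nat_lit 21604881)) (BT.leaf (nat_lit 20104985))) (BT.node (nat_lit 5063168) (BT.leaf (nat_lit 21605137)) (BT.leaf (nat_lit 21605905))))) (BT.node (nat_lit 5063488) (BT.node (nat_lit 5063360) (BT.node (nat_lit 5063296) (BT.leaf (nat_lit 25572117)) (BT.leaf (nat_lit 20273673))) (BT.node (nat_lit 5063424) (BT.leaf (nat_lit 21607697)) (BT.leaf (nat_lit 20725021)))) (BT.node (nat_lit 5063616) (BT.node (nat_lit 5063552) (BT.leaf (nat_lit 20363537)) (BT.leaf (nat_lit 20686877))) (BT.node (nat_lit 5063680) (BT.leaf (nat_lit 20531997)) (BT.leaf (nat_lit 20560145)))))) (BT.node (nat_lit 5064256) (BT.node (nat_lit 5064000) (BT.node (nat_lit 5063872) (BT.node (nat_lit 5063808) (BT.leaf (nat_lit 37448725)) (BT.leaf (nat_lit 21609749))) (BT.node (nat_lit 5063936) (BT.leaf (nat_lit 21610261)) (BT.leaf (nat_lit 20214809)))) (BT.node (nat_lit 5064128) (BT.node (nat_lit 5064064) (BT.leaf (nat_lit 20129569)) (BT.leaf (nat_lit 20131857))) (BT.node (nat_lit 5064192) (BT.leaf (nat_lit 21611793)) (BT.leaf (nat_lit 35644425))))) (BT.node (nat_lit 5064512) (BT.node (nat_lit 5064384) (BT.node (nat_lit 5064320) (BT.leaf (nat_lit 26383889)) (BT.leaf (nat_lit 20940577))) (BT.node (nat_lit 5064448) (BT.leaf (nat_lit 20727317)) (BT.leaf (nat_lit 21613585)))) (BT.node (nat_lit 5064640) (BT.node (nat_lit 5064576) (BT.leaf (nat_lit 20257817)) (BT.leaf (nat_lit 20508437))) (BT.node (nat_lit 5064704) (BT.leaf (nat_lit 21615125)) (BT.leaf (nat_lit 20763937)))))))) (BT.node (nat_lit 5066816) (BT.node (nat_lit 5065792) (BT.node (nat_lit 5065280) (BT.node (nat_lit 5065024) (BT.node (nat_lit 5064896) (BT.node (nat_lit 5064832) (BT.leaf (nat_lit 21608977)) (BT.leaf (nat_lit 52203033))) (BT.node (nat_lit 5064960) (BT.leaf (nat_lit 20447769)) (BT.leaf (nat_lit 21591825)))) (BT.node (nat_lit 5065152) (BT.node (nat_lit 5065088) (BT.leaf (nat_lit 20187165)) (BT.leaf (nat_lit 20693269))) (BT.node (nat_lit 5065216) (BT.leaf (nat_lit 20296213)) (BT.leaf (nat_lit 20229133))))) (BT.node (nat_lit 5065536) (BT.node (nat_lit 5065408) (BT.node (nat_lit 5065344) (BT.leaf (nat_lit 20229145)) (BT.leaf (nat_lit 20229149))) (BT.node (nat_lit 5065472) (BT.leaf (nat_lit 20650005)) (BT.leaf (nat_lit 20102941)))) (BT.node (nat_lit 5065664) (BT.node (nat_lit 5065600) (BT.leaf (nat_lit 21621025)) (BT.leaf (nat_lit 21621785))) (BT.node (nat_lit 5065728) (BT.leaf (nat_lit 20113937)) (BT.leaf (nat_lit 37667845)))))) (BT.node (nat_lit 5066304) (BT.node (nat_lit 5066048) (BT.node (nat_lit 5065920) (BT.node (nat_lit 5065856) (BT.leaf (nat_lit 20107285)) (BT.leaf (nat_lit 20301077))) (BT.node (nat_lit 5065984) (BT.leaf (nat_lit 20836373)) (BT.leaf (nat_lit 21623569)))) (BT.node (nat_lit 5066176) (BT.node (nat_lit 5066112) (BT.leaf (nat_lit 20622365)) (BT.leaf (nat_lit 20154125))) (BT.node (nat_lit 5066240) (BT.leaf (nat_lit 20754453)) (BT.leaf (nat_lit 21624861))))) (BT.node (nat_lit 5066560) (BT.node (nat_lit 5066432) (BT.node (nat_lit 5066368) (BT.leaf (nat_lit 20237333)) (BT.leaf (nat_lit 21625625))) (BT.node (nat_lit 5066496) (BT.leaf (nat_lit 20336657)) (BT.leaf (nat_lit 21626141)))) (BT.node (nat_lit 5066688) (BT.node (nat_lit 5066624) (BT.leaf (nat_lit 20266525)) (BT.leaf (nat_lit 21415441))) (BT.node (nat_lit 5066752) (BT.leaf (nat_lit 20134677)) (BT.leaf (nat_lit 20181521))))))) (BT.node (nat_lit 5067840) (BT.node (nat_lit 5067328) (BT.node (nat_lit 5067072) (BT.node (nat_lit 5066944) (BT.node (nat_lit 5066880) (BT.leaf (nat_lit 26399237)) (BT.leaf (nat_lit 51965709))) (BT.node (nat_lit 5067008) (BT.leaf (nat_lit 20355617)) (BT.leaf (nat_lit 20897557)))) (BT.node (nat_lit 5067200) (BT.node (nat_lit 5067136) (BT.leaf (nat_lit 20899873)) (BT.leaf (nat_lit 20305425))) (BT.node (nat_lit 5067264) (BT.leaf (nat_lit 21631261)) (BT.leaf (nat_lit 20260113))))) (BT.node (nat_lit 5067584) (BT.node (nat_lit 5067456) (BT.node (nat_lit 5067392) (BT.leaf (nat_lit 21633041)) (BT.leaf (nat_lit 20108565))) (BT.node (nat_lit 5067520) (BT.leaf (nat_lit 20516113)) (BT.leaf (nat_lit 51795221)))) (BT.node (nat_lit 5067712) (BT.node (nat_lit 5067648) (BT.leaf (nat_lit 25558557)) (BT.leaf (nat_lit 20270861))) (BT.node (nat_lit 5067776) (BT.leaf (nat_lit 21743109)) (BT.leaf (nat_lit 20357921)))))) (BT.node (nat_lit 5068352) (BT.node (nat_lit 5068096) (BT.node (nat_lit 5067968) (BT.node (nat_lit 5067904) (BT.leaf (nat_lit 20472597)) (BT.leaf (nat_lit 21637921))) (BT.node (nat_lit 5068032) (BT.leaf (nat_lit 20674833)) (BT.leaf (nat_lit 20208401)))) (BT.node (nat_lit 5068224) (BT.node (nat_lit 5068160) (BT.leaf (nat_lit 21639705)) (BT.leaf (nat_lit 20210961))) (BT.node (nat_lit 5068288) (BT.leaf (nat_lit 21337365)) (BT.leaf (nat_lit 20257549))))) (BT.node (nat_lit 5068608) (BT.node (nat_lit 5068480) (BT.node (nat_lit 5068416) (BT.leaf (nat_lit 21639953)) (BT.leaf (nat_lit 21640213))) (BT.node (nat_lit 5068544) (BT.leaf (nat_lit 21640465)) (BT.leaf (nat_lit 21640733)))) (BT.node (nat_lit 5068736) (BT.node (nat_lit 5068672) (BT.leaf (nat_lit 21641493)) (BT.leaf (nat_lit 20411153))) (BT.node (nat_lit 5068800) (BT.leaf (nat_lit 20821529)) (BT.leaf (nat_lit 20534813))))))))) (BT.node (nat_lit 5072960) (BT.node (nat_lit 5070912) (BT.node (nat_lit 5069888) (BT.node (nat_lit 5069376) (BT.node (nat_lit 5069120) (BT.node (nat_lit 5068992) (BT.node (nat_lit 5068928) (BT.leaf (nat_lit 20534793)) (BT.leaf (nat_lit 20821517))) (BT.node (nat_lit 5069056) (BT.leaf (nat_lit 20122145)) (BT.leaf (nat_lit 20137245)))) (BT.node (nat_lit 5069248) (BT.node (nat_lit 5069184) (BT.leaf (nat_lit 21644825)) (BT.leaf (nat_lit 20842257))) (BT.node (nat_lit 5069312) (BT.leaf (nat_lit 21645329)) (BT.leaf (nat_lit 20156181))))) (BT.node (nat_lit 5069632) (BT.node (nat_lit 5069504) (BT.node (nat_lit 5069440) (BT.leaf (nat_lit 21646609)) (BT.leaf (nat_lit 21631493))) (BT.node (nat_lit 5069568) (BT.leaf (nat_lit 51739169)) (BT.leaf (nat_lit 21647633)))) (BT.node (nat_lit 5069760) (BT.node (nat_lit 5069696) (BT.leaf (nat_lit 20177181)) (BT.leaf (nat_lit 37617177))) (BT.node (nat_lit 5069824) (BT.leaf (nat_lit 20279833)) (BT.leaf (nat_lit 20106261)))))) (BT.node (nat_lit 5070400) (BT.node (nat_lit 5070144) (BT.node (nat_lit 5070016) (BT.node (nat_lit 5069952) (BT.leaf (nat_lit 20695569)) (BT.leaf (nat_lit 20110357))) (BT.node (nat_lit 5070080) (BT.leaf (nat_lit 20117521)) (BT.leaf (nat_lit 20117537)))) (BT.node (nat_lit 5070272) (BT.node (nat_lit 5070208) (BT.leaf (nat_lit 21651217)) (BT.leaf (nat_lit 20109585))) (BT.node (nat_lit 5070336) (BT.leaf (nat_lit 20109589)) (BT.leaf (nat_lit 20107029))))) (BT.node (nat_lit 5070656) (BT.node (nat_lit 5070528) (BT.node (nat_lit 5070464) (BT.leaf (nat_lit 20110869)) (BT.leaf (nat_lit 37318933))) (BT.node (nat_lit 5070592) (BT.leaf (nat_lit 21651985)) (BT.leaf (nat_lit 20601873)))) (BT.node (nat_lit 5070784) (BT.node (nat_lit 5070720) (BT.leaf (nat_lit 21652753)) (BT.leaf (nat_lit 20112157))) (BT.node (nat_lit 5070848) (BT.leaf (nat_lit 20633885)) (BT.leaf (nat_lit 20552989))))))) (BT.node (nat_lit 5071936) (BT.node (nat_lit 5071424) (BT.node (nat_lit 5071168) (BT.node (nat_lit 5071040) (BT.node (nat_lit 5070976) (BT.leaf (nat_lit 20552969)) (BT.leaf (nat_lit 21654549))) (BT.node (nat_lit 5071104) (BT.leaf (nat_lit 20720921)) (BT.leaf (nat_lit 20720925)))) (BT.node (nat_lit 5071296) (BT.node (nat_lit 5071232) (BT.leaf (nat_lit 20602641)) (BT.leaf (nat_lit 20285213))) (BT.node (nat_lit 5071360) (BT.leaf (nat_lit 21656849)) (BT.leaf (nat_lit 20273433))))) (BT.node (nat_lit 5071680) (BT.node (nat_lit 5071552) (BT.node (nat_lit 5071488) (BT.leaf (nat_lit 20273437)) (BT.leaf (nat_lit 26881549))) (BT.node (nat_lit 5071616) (BT.leaf (nat_lit 26881561)) (BT.leaf (nat_lit 20143365)))) (BT.node (nat_lit 5071808) (BT.node (nat_lit 5071744) (BT.leaf (nat_lit 51336205)) (BT.leaf (nat_lit 21660441))) (BT.node (nat_lit 5071872) (BT.leaf (nat_lit 20145157)) (BT.leaf (nat_lit 22119173)))))) (BT.node (nat_lit 5072448) (BT.node (nat_lit 5072192) (BT.node (nat_lit 5072064) (BT.node (nat_lit 5072000) (BT.leaf (nat_lit 20587025)) (BT.leaf (nat_lit 21661969))) (BT.node (nat_lit 5072128) (BT.leaf (nat_lit 21662481)) (BT.leaf (nat_lit 20288281)))) (BT.node (nat_lit 5072320) (BT.node (nat_lit 5072256) (BT.leaf (nat_lit 20639005)) (BT.leaf (nat_lit 20548889))) (BT.node (nat_lit 5072384) (BT.leaf (nat_lit 20969737)) (BT.leaf (nat_lit 20289821))))) (BT.node (nat_lit 5072704) (BT.node (nat_lit 5072576) (BT.node (nat_lit 5072512) (BT.leaf (nat_lit 21663761)) (BT.leaf (nat_lit 20146181))) (BT.node (nat_lit 5072640) (BT.leaf (nat_lit 20156445)) (BT.leaf (nat_lit 20285973)))) (BT.node (nat_lit 5072832) (BT.node (nat_lit 5072768) (BT.leaf (nat_lit 25092109)) (BT.leaf (nat_lit 25092121))) (BT.node (nat_lit 5072896) (BT.leaf (nat_lit 20314389)) (BT.leaf (nat_lit 51251205)))))))) (BT.node (nat_lit 5075008) (BT.node (nat_lit 5073984) (BT.node (nat_lit 5073472) (BT.node (nat_lit 5073216) (BT.node (nat_lit 5073088) (BT.node (nat_lit 5073024) (BT.leaf (nat_lit 21667353)) (BT.leaf (nat_lit 20927005))) (BT.node (nat_lit 5073152) (BT.leaf (nat_lit 21668889)) (BT.leaf (nat_lit 20816141)))) (BT.node (nat_lit 5073344) (BT.node (nat_lit 5073280) (BT.leaf (nat_lit 20386073)) (BT.leaf (nat_lit 20260377))) (BT.node (nat_lit 5073408) (BT.leaf (nat_lit 20260365)) (BT.leaf (nat_lit 52206113))))) (BT.node (nat_lit 5073728) (BT.node (nat_lit 5073600) (BT.node (nat_lit 5073536) (BT.leaf (nat_lit 20586513)) (BT.leaf (nat_lit 25234973))) (BT.node (nat_lit 5073664) (BT.leaf (nat_lit 20759825)) (BT.leaf (nat_lit 25496841)))) (BT.node (nat_lit 5073856) (BT.node (nat_lit 5073792) (BT.leaf (nat_lit 21671441)) (BT.leaf (nat_lit 20988449))) (BT.node (nat_lit 5073920) (BT.leaf (nat_lit 20251925)) (BT.leaf (nat_lit 21673493)))))) (BT.node (nat_lit 5074496) (BT.node (nat_lit 5074240) (BT.node (nat_lit 5074112) (BT.node (nat_lit 5074048) (BT.leaf (nat_lit 20990497)) (BT.leaf (nat_lit 20990753))) (BT.node (nat_lit 5074176) (BT.leaf (nat_lit 20991265)) (BT.leaf (nat_lit 20991009)))) (BT.node (nat_lit 5074368) (BT.node (nat_lit 5074304) (BT.leaf (nat_lit 20102937)) (BT.leaf (nat_lit 20529933))) (BT.node (nat_lit 5074432) (BT.leaf (nat_lit 20126229)) (BT.leaf (nat_lit 21674521))))) (BT.node (nat_lit 5074752) (BT.node (nat_lit 5074624) (BT.node (nat_lit 5074560) (BT.leaf (nat_lit 20585497)) (BT.leaf (nat_lit 20585241))) (BT.node (nat_lit 5074688) (BT.leaf (nat_lit 20298781)) (BT.leaf (nat_lit 21676817)))) (BT.node (nat_lit 5074880) (BT.node (nat_lit 5074816) (BT.leaf (nat_lit 20331285)) (BT.leaf (nat_lit 27102745))) (BT.node (nat_lit 5074944) (BT.leaf (nat_lit 51325189)) (BT.leaf (nat_lit 20254745))))))) (BT.node (nat_lit 5076032) (BT.node (nat_lit 5075520) (BT.node (nat_lit 5075264) (BT.node (nat_lit 5075136) (BT.node (nat_lit 5075072) (BT.leaf (nat_lit 20254749)) (BT.leaf (nat_lit 21678101))) (BT.node (nat_lit 5075200) (BT.leaf (nat_lit 33669637)) (BT.leaf (nat_lit 20559889)))) (BT.node (nat_lit 5075392) (BT.node (nat_lit 5075328) (BT.leaf (nat_lit 20154393)) (BT.leaf (nat_lit 20736785))) (BT.node (nat_lit 5075456) (BT.leaf (nat_lit 20301853)) (BT.leaf (nat_lit 21679633))))) (BT.node (nat_lit 5075776) (BT.node (nat_lit 5075648) (BT.node (nat_lit 5075584) (BT.leaf (nat_lit 20154121)) (BT.leaf (nat_lit 20196373))) (BT.node (nat_lit 5075712) (BT.leaf (nat_lit 20419857)) (BT.leaf (nat_lit 20214813)))) (BT.node (nat_lit 5075904) (BT.node (nat_lit 5075840) (BT.leaf (nat_lit 51798813)) (BT.leaf (nat_lit 50149137))) (BT.node (nat_lit 5075968) (BT.leaf (nat_lit 20338705)) (BT.leaf (nat_lit 37161221)))))) (BT.node (nat_lit 5076544) (BT.node (nat_lit 5076288) (BT.node (nat_lit 5076160) (BT.node (nat_lit 5076096) (BT.leaf (nat_lit 25092125)) (BT.leaf (nat_lit 20819989))) (BT.node (nat_lit 5076224) (BT.leaf (nat_lit 20321029)) (BT.leaf (nat_lit 20177161)))) (BT.node (nat_lit 5076416) (BT.node (nat_lit 5076352) (BT.leaf (nat_lit 21683477)) (BT.leaf (nat_lit 21574941))) (BT.node (nat_lit 5076480) (BT.leaf (nat_lit 37657353)) (BT.leaf (nat_lit 21685009))))) (BT.node (nat_lit 5076800) (BT.node (nat_lit 5076672) (BT.node (nat_lit 5076608) (BT.leaf (nat_lit 50653465)) (BT.leaf (nat_lit 21540641))) (BT.node (nat_lit 5076736) (BT.leaf (nat_lit 20657157)) (BT.leaf (nat_lit 20592917)))) (BT.node (nat_lit 5076928) (BT.node (nat_lit 5076864) (BT.leaf (nat_lit 20497185)) (BT.leaf (nat_lit 21016069))) (BT.node (nat_lit 5076992) (BT.leaf (nat_lit 20657945)) (BT.leaf (nat_lit 20179481)))))))))) (BT.node (nat_lit 5085248) (BT.node (nat_lit 5081152) (BT.node (nat_lit 5079104) (BT.node (nat_lit 5078080) (BT.node (nat_lit 5077568) (BT.node (nat_lit 5077312) (BT.node (nat_lit 5077184) (BT.node (nat_lit 5077120) (BT.leaf (nat_lit 20619293)) (BT.leaf (nat_lit 20685857))) (BT.node (nat_lit 5077248) (BT.leaf (nat_lit 20729621)) (BT.leaf (nat_lit 21688341)))) (BT.node (nat_lit 5077440) (BT.node (nat_lit 5077376) (BT.leaf (nat_lit 20478241)) (BT.leaf (nat_lit 21559049))) (BT.node (nat_lit 5077504) (BT.leaf (nat_lit 20227341)) (BT.leaf (nat_lit 21012513))))) (BT.node (nat_lit 5077824) (BT.node (nat_lit 5077696) (BT.node (nat_lit 5077632) (BT.leaf (nat_lit 20304417)) (BT.leaf (nat_lit 20747809))) (BT.node (nat_lit 5077760) (BT.leaf (nat_lit 36001553)) (BT.leaf (nat_lit 20474145)))) (BT.node (nat_lit 5077952) (BT.node (nat_lit 5077888) (BT.leaf (nat_lit 20416033)) (BT.leaf (nat_lit 20666145))) (BT.node (nat_lit 5078016) (BT.leaf (nat_lit 20473633)) (BT.leaf (nat_lit 20333853)))))) (BT.node (nat_lit 5078592) (BT.node (nat_lit 5078336) (BT.node (nat_lit 5078208) (BT.node (nat_lit 5078144) (BT.leaf (nat_lit 20407573)) (BT.leaf (nat_lit 20586769))) (BT.node (nat_lit 5078272) (BT.leaf (nat_lit 36619021)) (BT.leaf (nat_lit 21060885)))) (BT.node (nat_lit 5078464) (BT.node (nat_lit 5078400) (BT.leaf (nat_lit 21693981)) (BT.leaf (nat_lit 20469793))) (BT.node (nat_lit 5078528) (BT.leaf (nat_lit 20470049)) (BT.leaf (nat_lit 20971797))))) (BT.node (nat_lit 5078848) (BT.node (nat_lit 5078720) (BT.node (nat_lit 5078656) (BT.leaf (nat_lit 36535313)) (BT.leaf (nat_lit 21565985))) (BT.node (nat_lit 5078784) (BT.leaf (nat_lit 21565977)) (BT.leaf (nat_lit 20117517)))) (BT.node (nat_lit 5078976) (BT.node (nat_lit 5078912) (BT.leaf (nat_lit 21694981)) (BT.leaf (nat_lit 20418325))) (BT.node (nat_lit 5079040) (BT.leaf (nat_lit 21565965)) (BT.leaf (nat_lit 20118041))))))) (BT.node (nat_lit 5080128) (BT.node (nat_lit 5079616) (BT.node (nat_lit 5079360) (BT.node (nat_lit 5079232) (BT.node (nat_lit 5079168) (BT.leaf (nat_lit 20117529)) (BT.leaf (nat_lit 20523285))) (BT.node (nat_lit 5079296) (BT.leaf (nat_lit 22106657)) (BT.leaf (nat_lit 20718865)))) (BT.node (nat_lit 5079488) (BT.node (nat_lit 5079424) (BT.leaf (nat_lit 51395337)) (BT.leaf (nat_lit 21697297))) (BT.node (nat_lit 5079552) (BT.leaf (nat_lit 21697557)) (BT.leaf (nat_lit 20239373))))) (BT.node (nat_lit 5079872) (BT.node (nat_lit 5079744) (BT.node (nat_lit 5079680) (BT.leaf (nat_lit 20320525)) (BT.leaf (nat_lit 20473377))) (BT.node (nat_lit 5079808) (BT.leaf (nat_lit 20234273)) (BT.leaf (nat_lit 20119569)))) (BT.node (nat_lit 5080000) (BT.node (nat_lit 5079936) (BT.leaf (nat_lit 20119313)) (BT.leaf (nat_lit 20119057))) (BT.node (nat_lit 5080064) (BT.leaf (nat_lit 20176161)) (BT.leaf (nat_lit 20593953)))))) (BT.node (nat_lit 5080640) (BT.node (nat_lit 5080384) (BT.node (nat_lit 5080256) (BT.node (nat_lit 5080192) (BT.leaf (nat_lit 21699861)) (BT.leaf (nat_lit 21700621))) (BT.node (nat_lit 5080320) (BT.leaf (nat_lit 20204569)) (BT.leaf (nat_lit 21702933)))) (BT.node (nat_lit 5080512) (BT.node (nat_lit 5080448) (BT.leaf (nat_lit 20381985)) (BT.leaf (nat_lit 20239385))) (BT.node (nat_lit 5080576) (BT.leaf (nat_lit 24378389)) (BT.leaf (nat_lit 20139785))))) (BT.node (nat_lit 5080896) (BT.node (nat_lit 5080768) (BT.node (nat_lit 5080704) (BT.leaf (nat_lit 20139789)) (BT.leaf (nat_lit 20139801))) (BT.node (nat_lit 5080832) (BT.leaf (nat_lit 20139805)) (BT.leaf (nat_lit 21705749)))) (BT.node (nat_lit 5081024) (BT.node (nat_lit 5080960) (BT.leaf (nat_lit 52373793)) (BT.leaf (nat_lit 20996357))) (BT.node (nat_lit 5081088) (BT.leaf (nat_lit 20346397)) (BT.leaf (nat_lit 20951573)))))))) (BT.node (nat_lit 5083200) (BT.node (nat_lit 5082176) (BT.node (nat_lit 5081664) (BT.node (nat_lit 5081408) (BT.node (nat_lit 5081280) (BT.node (nat_lit 5081216) (BT.leaf (nat_lit 20452641)) (BT.leaf (nat_lit 20256517))) (BT.node (nat_lit 5081344) (BT.leaf (nat_lit 21691657)) (BT.leaf (nat_lit 20842273)))) (BT.node (nat_lit 5081536) (BT.node (nat_lit 5081472) (BT.leaf (nat_lit 20562453)) (BT.leaf (nat_lit 20221205))) (BT.node (nat_lit 5081600) (BT.leaf (nat_lit 21708817)) (BT.leaf (nat_lit 20692765))))) (BT.node (nat_lit 5081920) (BT.node (nat_lit 5081792) (BT.node (nat_lit 5081728) (BT.leaf (nat_lit 21709601)) (BT.leaf (nat_lit 21710881))) (BT.node (nat_lit 5081856) (BT.leaf (nat_lit 20327453)) (BT.leaf (nat_lit 21711381)))) (BT.node (nat_lit 5082048) (BT.node (nat_lit 5081984) (BT.leaf (nat_lit 20622097)) (BT.leaf (nat_lit 20882957))) (BT.node (nat_lit 5082112) (BT.leaf (nat_lit 21712657)) (BT.leaf (nat_lit 20928545)))))) (BT.node (nat_lit 5082688) (BT.node (nat_lit 5082432) (BT.node (nat_lit 5082304) (BT.node (nat_lit 5082240) (BT.leaf (nat_lit 36619013)) (BT.leaf (nat_lit 20342305))) (BT.node (nat_lit 5082368) (BT.leaf (nat_lit 20130845)) (BT.leaf (nat_lit 20566809)))) (BT.node (nat_lit 5082560) (BT.node (nat_lit 5082496) (BT.leaf (nat_lit 20863497)) (BT.leaf (nat_lit 20613141))) (BT.node (nat_lit 5082624) (BT.leaf (nat_lit 20215049)) (BT.leaf (nat_lit 20328713))))) (BT.node (nat_lit 5082944) (BT.node (nat_lit 5082816) (BT.node (nat_lit 5082752) (BT.leaf (nat_lit 21713681)) (BT.leaf (nat_lit 20382225))) (BT.node (nat_lit 5082880) (BT.leaf (nat_lit 20381969)) (BT.leaf (nat_lit 20386325)))) (BT.node (nat_lit 5083072) (BT.node (nat_lit 5083008) (BT.leaf (nat_lit 20133661)) (BT.leaf (nat_lit 20298005))) (BT.node (nat_lit 5083136) (BT.leaf (nat_lit 20382241)) (BT.leaf (nat_lit 20558361))))))) (BT.node (nat_lit 5084224) (BT.node (nat_lit 5083712) (BT.node (nat_lit 5083456) (BT.node (nat_lit 5083328) (BT.node (nat_lit 5083264) (BT.leaf (nat_lit 21715477)) (BT.leaf (nat_lit 21716245))) (BT.node (nat_lit 5083392) (BT.leaf (nat_lit 20392469)) (BT.leaf (nat_lit 21554441)))) (BT.node (nat_lit 5083584) (BT.node (nat_lit 5083520) (BT.leaf (nat_lit 20311829)) (BT.leaf (nat_lit 20206853))) (BT.node (nat_lit 5083648) (BT.leaf (nat_lit 35767825)) (BT.leaf (nat_lit 20178209))))) (BT.node (nat_lit 5083968) (BT.node (nat_lit 5083840) (BT.node (nat_lit 5083776) (BT.leaf (nat_lit 35608349)) (BT.leaf (nat_lit 20503829))) (BT.node (nat_lit 5083904) (BT.leaf (nat_lit 21718289)) (BT.leaf (nat_lit 21718805)))) (BT.node (nat_lit 5084096) (BT.node (nat_lit 5084032) (BT.leaf (nat_lit 21592069)) (BT.leaf (nat_lit 21719569))) (BT.node (nat_lit 5084160) (BT.leaf (nat_lit 21718801)) (BT.leaf (nat_lit 20183837)))))) (BT.node (nat_lit 5084736) (BT.node (nat_lit 5084480) (BT.node (nat_lit 5084352) (BT.node (nat_lit 5084288) (BT.leaf (nat_lit 20918801)) (BT.leaf (nat_lit 21038093))) (BT.node (nat_lit 5084416) (BT.leaf (nat_lit 33669641)) (BT.leaf (nat_lit 21721361)))) (BT.node (nat_lit 5084608) (BT.node (nat_lit 5084544) (BT.leaf (nat_lit 20748065)) (BT.leaf (nat_lit 20681993))) (BT.node (nat_lit 5084672) (BT.leaf (nat_lit 20751389)) (BT.leaf (nat_lit 20314393))))) (BT.node (nat_lit 5084992) (BT.node (nat_lit 5084864) (BT.node (nat_lit 5084800) (BT.leaf (nat_lit 20872965)) (BT.leaf (nat_lit 50282761))) (BT.node (nat_lit 5084928) (BT.leaf (nat_lit 50828577)) (BT.leaf (nat_lit 50828321)))) (BT.node (nat_lit 5085120) (BT.node (nat_lit 5085056) (BT.leaf (nat_lit 20414225)) (BT.leaf (nat_lit 20249369))) (BT.node (nat_lit 5085184) (BT.leaf (nat_lit 21724945)) (BT.leaf (nat_lit 20616221))))))))) (BT.node (nat_lit 5089344) (BT.node (nat_lit 5087296) (BT.node (nat_lit 5086272) (BT.node (nat_lit 5085760) (BT.node (nat_lit 5085504) (BT.node (nat_lit 5085376) (BT.node (nat_lit 5085312) (BT.leaf (nat_lit 20135697)) (BT.leaf (nat_lit 21725713))) (BT.node (nat_lit 5085440) (BT.leaf (nat_lit 21725729)) (BT.leaf (nat_lit 21144861)))) (BT.node (nat_lit 5085632) (BT.node (nat_lit 5085568) (BT.leaf (nat_lit 20119317)) (BT.leaf (nat_lit 20311061))) (BT.node (nat_lit 5085696) (BT.leaf (nat_lit 20342813)) (BT.leaf (nat_lit 21727761))))) (BT.node (nat_lit 5086016) (BT.node (nat_lit 5085888) (BT.node (nat_lit 5085824) (BT.leaf (nat_lit 20253461)) (BT.leaf (nat_lit 20253469))) (BT.node (nat_lit 5085952) (BT.leaf (nat_lit 20642565)) (BT.leaf (nat_lit 27236629)))) (BT.node (nat_lit 5086144) (BT.node (nat_lit 5086080) (BT.leaf (nat_lit 21008145)) (BT.leaf (nat_lit 21110037))) (BT.node (nat_lit 5086208) (BT.leaf (nat_lit 21731349)) (BT.leaf (nat_lit 21111061)))))) (BT.node (nat_lit 5086784) (BT.node (nat_lit 5086528) (BT.node (nat_lit 5086400) (BT.node (nat_lit 5086336) (BT.leaf (nat_lit 21731873)) (BT.leaf (nat_lit 21731617))) (BT.node (nat_lit 5086464) (BT.leaf (nat_lit 20707333)) (BT.leaf (nat_lit 20880401)))) (BT.node (nat_lit 5086656) (BT.node (nat_lit 5086592) (BT.leaf (nat_lit 21735201)) (BT.leaf (nat_lit 21010705))) (BT.node (nat_lit 5086720) (BT.leaf (nat_lit 36802837)) (BT.leaf (nat_lit 36804625))))) (BT.node (nat_lit 5087040) (BT.node (nat_lit 5086912) (BT.node (nat_lit 5086848) (BT.leaf (nat_lit 20998165)) (BT.leaf (nat_lit 26179605))) (BT.node (nat_lit 5086976) (BT.leaf (nat_lit 23343125)) (BT.leaf (nat_lit 20480785)))) (BT.node (nat_lit 5087168) (BT.node (nat_lit 5087104) (BT.leaf (nat_lit 33183761)) (BT.leaf (nat_lit 21739545))) (BT.node (nat_lit 5087232) (BT.leaf (nat_lit 21740305)) (BT.leaf (nat_lit 21740825))))))) (BT.node (nat_lit 5088320) (BT.node (nat_lit 5087808) (BT.node (nat_lit 5087552) (BT.node (nat_lit 5087424) (BT.node (nat_lit 5087360) (BT.leaf (nat_lit 21741341)) (BT.leaf (nat_lit 21741073))) (BT.node (nat_lit 5087488) (BT.leaf (nat_lit 20423185)) (BT.leaf (nat_lit 21742617)))) (BT.node (nat_lit 5087680) (BT.node (nat_lit 5087616) (BT.leaf (nat_lit 21740833)) (BT.leaf (nat_lit 21743381))) (BT.node (nat_lit 5087744) (BT.leaf (nat_lit 20206597)) (BT.leaf (nat_lit 20569357))))) (BT.node (nat_lit 5088064) (BT.node (nat_lit 5087936) (BT.node (nat_lit 5087872) (BT.leaf (nat_lit 20993029)) (BT.leaf (nat_lit 21743637))) (BT.node (nat_lit 5088000) (BT.leaf (nat_lit 21076501)) (BT.leaf (nat_lit 20583185)))) (BT.node (nat_lit 5088192) (BT.node (nat_lit 5088128) (BT.leaf (nat_lit 20209181)) (BT.leaf (nat_lit 20186133))) (BT.node (nat_lit 5088256) (BT.leaf (nat_lit 20374037)) (BT.leaf (nat_lit 20123665)))))) (BT.node (nat_lit 5088832) (BT.node (nat_lit 5088576) (BT.node (nat_lit 5088448) (BT.node (nat_lit 5088384) (BT.leaf (nat_lit 20218897)) (BT.leaf (nat_lit 21154069))) (BT.node (nat_lit 5088512) (BT.leaf (nat_lit 20387097)) (BT.leaf (nat_lit 33892373)))) (BT.node (nat_lit 5088704) (BT.node (nat_lit 5088640) (BT.leaf (nat_lit 52316701)) (BT.leaf (nat_lit 21748241))) (BT.node (nat_lit 5088768) (BT.leaf (nat_lit 20430613)) (BT.leaf (nat_lit 20430865))))) (BT.node (nat_lit 5089088) (BT.node (nat_lit 5088960) (BT.node (nat_lit 5088896) (BT.leaf (nat_lit 36812301)) (BT.leaf (nat_lit 20158229))) (BT.node (nat_lit 5089024) (BT.leaf (nat_lit 21751061)) (BT.leaf (nat_lit 21051409)))) (BT.node (nat_lit 5089216) (BT.node (nat_lit 5089152) (BT.leaf (nat_lit 51953173)) (BT.leaf (nat_lit 20158233))) (BT.node (nat_lit 5089280) (BT.leaf (nat_lit 20158237)) (BT.leaf (nat_lit 21645073)))))))) (BT.node (nat_lit 5091392) (BT.node (nat_lit 5090368) (BT.node (nat_lit 5089856) (BT.node (nat_lit 5089600) (BT.node (nat_lit 5089472) (BT.node (nat_lit 5089408) (BT.leaf (nat_lit 21645585)) (BT.leaf (nat_lit 20677137))) (BT.node (nat_lit 5089536) (BT.leaf (nat_lit 21733397)) (BT.leaf (nat_lit 21030165)))) (BT.node (nat_lit 5089728) (BT.node (nat_lit 5089664) (BT.leaf (nat_lit 36798737)) (BT.leaf (nat_lit 21756941))) (BT.node (nat_lit 5089792) (BT.leaf (nat_lit 21085713)) (BT.leaf (nat_lit 21085729))))) (BT.node (nat_lit 5090112) (BT.node (nat_lit 5089984) (BT.node (nat_lit 5089920) (BT.leaf (nat_lit 21758225)) (BT.leaf (nat_lit 21758745))) (BT.node (nat_lit 5090048) (BT.leaf (nat_lit 20712465)) (BT.leaf (nat_lit 20324365)))) (BT.node (nat_lit 5090240) (BT.node (nat_lit 5090176) (BT.leaf (nat_lit 21594389)) (BT.leaf (nat_lit 21760793))) (BT.node (nat_lit 5090304) (BT.leaf (nat_lit 21761301)) (BT.leaf (nat_lit 25234713)))))) (BT.node (nat_lit 5090880) (BT.node (nat_lit 5090624) (BT.node (nat_lit 5090496) (BT.node (nat_lit 5090432) (BT.leaf (nat_lit 20148501)) (BT.leaf (nat_lit 20505617))) (BT.node (nat_lit 5090560) (BT.leaf (nat_lit 20399125)) (BT.leaf (nat_lit 50176545)))) (BT.node (nat_lit 5090752) (BT.node (nat_lit 5090688) (BT.leaf (nat_lit 21175841)) (BT.leaf (nat_lit 21762325))) (BT.node (nat_lit 5090816) (BT.leaf (nat_lit 21762577)) (BT.leaf (nat_lit 20506117))))) (BT.node (nat_lit 5091136) (BT.node (nat_lit 5091008) (BT.node (nat_lit 5090944) (BT.leaf (nat_lit 21763605)) (BT.leaf (nat_lit 35725317))) (BT.node (nat_lit 5091072) (BT.leaf (nat_lit 20863517)) (BT.leaf (nat_lit 20226841)))) (BT.node (nat_lit 5091264) (BT.node (nat_lit 5091200) (BT.leaf (nat_lit 20170517)) (BT.leaf (nat_lit 20735765))) (BT.node (nat_lit 5091328) (BT.leaf (nat_lit 20483605)) (BT.leaf (nat_lit 21020181))))))) (BT.node (nat_lit 5092416) (BT.node (nat_lit 5091904) (BT.node (nat_lit 5091648) (BT.node (nat_lit 5091520) (BT.node (nat_lit 5091456) (BT.leaf (nat_lit 20830497)) (BT.leaf (nat_lit 21765909))) (BT.node (nat_lit 5091584) (BT.leaf (nat_lit 20857365)) (BT.leaf (nat_lit 20759309)))) (BT.node (nat_lit 5091776) (BT.node (nat_lit 5091712) (BT.leaf (nat_lit 36001541)) (BT.leaf (nat_lit 21074953))) (BT.node (nat_lit 5091840) (BT.leaf (nat_lit 20941089)) (BT.leaf (nat_lit 20194337))))) (BT.node (nat_lit 5092160) (BT.node (nat_lit 5092032) (BT.node (nat_lit 5091968) (BT.leaf (nat_lit 20121873)) (BT.leaf (nat_lit 20697621))) (BT.node (nat_lit 5092096) (BT.leaf (nat_lit 21769749)) (BT.leaf (nat_lit 20279821)))) (BT.node (nat_lit 5092288) (BT.node (nat_lit 5092224) (BT.leaf (nat_lit 20122129)) (BT.leaf (nat_lit 21770769))) (BT.node (nat_lit 5092352) (BT.leaf (nat_lit 20759841)) (BT.leaf (nat_lit 21772569)))))) (BT.node (nat_lit 5092928) (BT.node (nat_lit 5092672) (BT.node (nat_lit 5092544) (BT.node (nat_lit 5092480) (BT.leaf (nat_lit 50524677)) (BT.leaf (nat_lit 50282781))) (BT.node (nat_lit 5092608) (BT.leaf (nat_lit 20678149)) (BT.leaf (nat_lit 20858905)))) (BT.node (nat_lit 5092800) (BT.node (nat_lit 5092736) (BT.leaf (nat_lit 20913421)) (BT.leaf (nat_lit 21774597))) (BT.node (nat_lit 5092864) (BT.leaf (nat_lit 21775889)) (BT.leaf (nat_lit 51871765))))) (BT.node (nat_lit 5093184) (BT.node (nat_lit 5093056) (BT.node (nat_lit 5092992) (BT.leaf (nat_lit 26399253)) (BT.leaf (nat_lit 21528081))) (BT.node (nat_lit 5093120) (BT.leaf (nat_lit 21777949)) (BT.leaf (nat_lit 20261893)))) (BT.node (nat_lit 5093312) (BT.node (nat_lit 5093248) (BT.leaf (nat_lit 21778973)) (BT.leaf (nat_lit 20843553))) (BT.node (nat_lit 5093376) (BT.leaf (nat_lit 20243205)) (BT.leaf (nat_lit 20183045)))))))))))) (BT.node (nat_lit 5126144) (BT.node (nat_lit 5109824) (BT.node (nat_lit 5101632) (BT.node (nat_lit 5097536) (BT.node (nat_lit 5095488) (BT.node (nat_lit 5094464) (BT.node (nat_lit 5093952) (BT.node (nat_lit 5093696) (BT.node (nat_lit 5093568) (BT.node (nat_lit 5093504) (BT.leaf (nat_lit 21779733)) (BT.leaf (nat_lit 36619017))) (BT.node (nat_lit 5093632) (BT.leaf (nat_lit 36619029)) (BT.leaf (nat_lit 21780753)))) (BT.node (nat_lit 5093824) (BT.node (nat_lit 5093760) (BT.leaf (nat_lit 21781789)) (BT.leaf (nat_lit 21082641))) (BT.node (nat_lit 5093888) (BT.leaf (nat_lit 25523721)) (BT.leaf (nat_lit 21149981))))) (BT.node (nat_lit 5094208) (BT.node (nat_lit 5094080) (BT.node (nat_lit 5094016) (BT.leaf (nat_lit 21783301)) (BT.leaf (nat_lit 25496857))) (BT.node (nat_lit 5094144) (BT.leaf (nat_lit 25496861)) (BT.leaf (nat_lit 20507937)))) (BT.node (nat_lit 5094336) (BT.node (nat_lit 5094272) (BT.leaf (nat_lit 20513569)) (BT.leaf (nat_lit 33184545))) (BT.node (nat_lit 5094400) (BT.leaf (nat_lit 21103109)) (BT.leaf (nat_lit 21587985)))))) (BT.node (nat_lit 5094976) (BT.node (nat_lit 5094720) (BT.node (nat_lit 5094592) (BT.node (nat_lit 5094528) (BT.leaf (nat_lit 20425493)) (BT.leaf (nat_lit 52162585))) (BT.node (nat_lit 5094656) (BT.leaf (nat_lit 26180129)) (BT.leaf (nat_lit 20515361)))) (BT.node (nat_lit 5094848) (BT.node (nat_lit 5094784) (BT.leaf (nat_lit 20971781)) (BT.leaf (nat_lit 20693261))) (BT.node (nat_lit 5094912) (BT.leaf (nat_lit 20293913)) (BT.leaf (nat_lit 20293917))))) (BT.node (nat_lit 5095232) (BT.node (nat_lit 5095104) (BT.node (nat_lit 5095040) (BT.leaf (nat_lit 21079585)) (BT.leaf (nat_lit 21175073))) (BT.node (nat_lit 5095168) (BT.leaf (nat_lit 20250393)) (BT.leaf (nat_lit 20434465)))) (BT.node (nat_lit 5095360) (BT.node (nat_lit 5095296) (BT.leaf (nat_lit 21210885)) (BT.leaf (nat_lit 20624161))) (BT.node (nat_lit 5095424) (BT.leaf (nat_lit 20674565)) (BT.leaf (nat_lit 21014297))))))) (BT.node (nat_lit 5096512) (BT.node (nat_lit 5096000) (BT.node (nat_lit 5095744) (BT.node (nat_lit 5095616) (BT.node (nat_lit 5095552) (BT.leaf (nat_lit 20405001)) (BT.leaf (nat_lit 20405005))) (BT.node (nat_lit 5095680) (BT.leaf (nat_lit 20767521)) (BT.leaf (nat_lit 20506133)))) (BT.node (nat_lit 5095872) (BT.node (nat_lit 5095808) (BT.leaf (nat_lit 21002773)) (BT.leaf (nat_lit 20372245))) (BT.node (nat_lit 5095936) (BT.leaf (nat_lit 21793041)) (BT.leaf (nat_lit 21793817))))) (BT.node (nat_lit 5096256) (BT.node (nat_lit 5096128) (BT.node (nat_lit 5096064) (BT.leaf (nat_lit 21793297)) (BT.leaf (nat_lit 20402965))) (BT.node (nat_lit 5096192) (BT.leaf (nat_lit 20498465)) (BT.leaf (nat_lit 26757661)))) (BT.node (nat_lit 5096384) (BT.node (nat_lit 5096320) (BT.leaf (nat_lit 20768289)) (BT.leaf (nat_lit 20768801))) (BT.node (nat_lit 5096448) (BT.leaf (nat_lit 21795093)) (BT.leaf (nat_lit 21795597)))))) (BT.node (nat_lit 5097024) (BT.node (nat_lit 5096768) (BT.node (nat_lit 5096640) (BT.node (nat_lit 5096576) (BT.leaf (nat_lit 21797397)) (BT.leaf (nat_lit 21534241))) (BT.node (nat_lit 5096704) (BT.leaf (nat_lit 21797893)) (BT.leaf (nat_lit 21534217)))) (BT.node (nat_lit 5096896) (BT.node (nat_lit 5096832) (BT.leaf (nat_lit 21798673)) (BT.leaf (nat_lit 20264977))) (BT.node (nat_lit 5096960) (BT.leaf (nat_lit 20400133)) (BT.leaf (nat_lit 20735521))))) (BT.node (nat_lit 5097280) (BT.node (nat_lit 5097152) (BT.node (nat_lit 5097088) (BT.leaf (nat_lit 26111501)) (BT.leaf (nat_lit 20614153))) (BT.node (nat_lit 5097216) (BT.leaf (nat_lit 21065233)) (BT.leaf (nat_lit 26691093)))) (BT.node (nat_lit 5097408) (BT.node (nat_lit 5097344) (BT.leaf (nat_lit 26691097)) (BT.leaf (nat_lit 26691101))) (BT.node (nat_lit 5097472) (BT.leaf (nat_lit 20332809)) (BT.leaf (nat_lit 20332813)))))))) (BT.node (nat_lit 5099584) (BT.node (nat_lit 5098560) (BT.node (nat_lit 5098048) (BT.node (nat_lit 5097792) (BT.node (nat_lit 5097664) (BT.node (nat_lit 5097600) (BT.leaf (nat_lit 21229589)) (BT.leaf (nat_lit 20710929))) (BT.node (nat_lit 5097728) (BT.leaf (nat_lit 20203793)) (BT.leaf (nat_lit 21803541)))) (BT.node (nat_lit 5097920) (BT.node (nat_lit 5097856) (BT.leaf (nat_lit 21804053)) (BT.leaf (nat_lit 51795997))) (BT.node (nat_lit 5097984) (BT.leaf (nat_lit 52103457)) (BT.leaf (nat_lit 51891745))))) (BT.node (nat_lit 5098304) (BT.node (nat_lit 5098176) (BT.node (nat_lit 5098112) (BT.leaf (nat_lit 20202017)) (BT.leaf (nat_lit 20311045))) (BT.node (nat_lit 5098240) (BT.leaf (nat_lit 20393229)) (BT.leaf (nat_lit 20403485)))) (BT.node (nat_lit 5098432) (BT.node (nat_lit 5098368) (BT.leaf (nat_lit 20131093)) (BT.leaf (nat_lit 20281121))) (BT.node (nat_lit 5098496) (BT.leaf (nat_lit 20924961)) (BT.leaf (nat_lit 36258841)))))) (BT.node (nat_lit 5099072) (BT.node (nat_lit 5098816) (BT.node (nat_lit 5098688) (BT.node (nat_lit 5098624) (BT.leaf (nat_lit 36258845)) (BT.leaf (nat_lit 20311301))) (BT.node (nat_lit 5098752) (BT.leaf (nat_lit 20334105)) (BT.leaf (nat_lit 20871457)))) (BT.node (nat_lit 5098944) (BT.node (nat_lit 5098880) (BT.leaf (nat_lit 21525789)) (BT.leaf (nat_lit 20131089))) (BT.node (nat_lit 5099008) (BT.leaf (nat_lit 20405025)) (BT.leaf (nat_lit 20413701))))) (BT.node (nat_lit 5099328) (BT.node (nat_lit 5099200) (BT.node (nat_lit 5099136) (BT.leaf (nat_lit 20405793)) (BT.leaf (nat_lit 20405537))) (BT.node (nat_lit 5099264) (BT.leaf (nat_lit 20651297)) (BT.leaf (nat_lit 21241605)))) (BT.node (nat_lit 5099456) (BT.node (nat_lit 5099392) (BT.leaf (nat_lit 20868113)) (BT.leaf (nat_lit 20398613))) (BT.node (nat_lit 5099520) (BT.leaf (nat_lit 37448969)) (BT.leaf (nat_lit 20298001))))))) (BT.node (nat_lit 5100608) (BT.node (nat_lit 5100096) (BT.node (nat_lit 5099840) (BT.node (nat_lit 5099712) (BT.node (nat_lit 5099648) (BT.leaf (nat_lit 52238345)) (BT.leaf (nat_lit 37448713))) (BT.node (nat_lit 5099776) (BT.leaf (nat_lit 20152849)) (BT.leaf (nat_lit 20363801)))) (BT.node (nat_lit 5099968) (BT.node (nat_lit 5099904) (BT.leaf (nat_lit 20386077)) (BT.leaf (nat_lit 21049369))) (BT.node (nat_lit 5100032) (BT.leaf (nat_lit 21031449)) (BT.leaf (nat_lit 20903457))))) (BT.node (nat_lit 5100352) (BT.node (nat_lit 5100224) (BT.node (nat_lit 5100160) (BT.leaf (nat_lit 21027857)) (BT.leaf (nat_lit 25407253))) (BT.node (nat_lit 5100288) (BT.leaf (nat_lit 27001609)) (BT.leaf (nat_lit 37553933)))) (BT.node (nat_lit 5100480) (BT.node (nat_lit 5100416) (BT.leaf (nat_lit 20136977)) (BT.leaf (nat_lit 21817113))) (BT.node (nat_lit 5100544) (BT.leaf (nat_lit 20132373)) (BT.leaf (nat_lit 20247829)))))) (BT.node (nat_lit 5101120) (BT.node (nat_lit 5100864) (BT.node (nat_lit 5100736) (BT.node (nat_lit 5100672) (BT.leaf (nat_lit 20331797)) (BT.leaf (nat_lit 20404501))) (BT.node (nat_lit 5100800) (BT.leaf (nat_lit 20769057)) (BT.leaf (nat_lit 20298517)))) (BT.node (nat_lit 5100992) (BT.node (nat_lit 5100928) (BT.leaf (nat_lit 21818129)) (BT.leaf (nat_lit 20987653))) (BT.node (nat_lit 5101056) (BT.leaf (nat_lit 20386849)) (BT.leaf (nat_lit 21073697))))) (BT.node (nat_lit 5101376) (BT.node (nat_lit 5101248) (BT.node (nat_lit 5101184) (BT.leaf (nat_lit 20768545)) (BT.leaf (nat_lit 20943649))) (BT.node (nat_lit 5101312) (BT.leaf (nat_lit 21819669)) (BT.leaf (nat_lit 21820681)))) (BT.node (nat_lit 5101504) (BT.node (nat_lit 5101440) (BT.leaf (nat_lit 21821717)) (BT.leaf (nat_lit 20382237))) (BT.node (nat_lit 5101568) (BT.leaf (nat_lit 20530721)) (BT.leaf (nat_lit 20943877))))))))) (BT.node (nat_lit 5105728) (BT.node (nat_lit 5103680) (BT.node (nat_lit 5102656) (BT.node (nat_lit 5102144) (BT.node (nat_lit 5101888) (BT.node (nat_lit 5101760) (BT.node (nat_lit 5101696) (BT.leaf (nat_lit 20407061)) (BT.leaf (nat_lit 51815689))) (BT.node (nat_lit 5101824) (BT.leaf (nat_lit 52238853)) (BT.leaf (nat_lit 20187665)))) (BT.node (nat_lit 5102016) (BT.node (nat_lit 5101952) (BT.leaf (nat_lit 37247501)) (BT.leaf (nat_lit 21824785))) (BT.node (nat_lit 5102080) (BT.leaf (nat_lit 21825053)) (BT.leaf (nat_lit 20849689))))) (BT.node (nat_lit 5102400) (BT.node (nat_lit 5102272) (BT.node (nat_lit 5102208) (BT.leaf (nat_lit 20189717)) (BT.leaf (nat_lit 20822297))) (BT.node (nat_lit 5102336) (BT.leaf (nat_lit 21142041)) (BT.leaf (nat_lit 20582929)))) (BT.node (nat_lit 5102528) (BT.node (nat_lit 5102464) (BT.leaf (nat_lit 37585953)) (BT.leaf (nat_lit 21827093))) (BT.node (nat_lit 5102592) (BT.leaf (nat_lit 51600133)) (BT.leaf (nat_lit 21690141)))))) (BT.node (nat_lit 5103168) (BT.node (nat_lit 5102912) (BT.node (nat_lit 5102784) (BT.node (nat_lit 5102720) (BT.leaf (nat_lit 20135173)) (BT.leaf (nat_lit 34323725))) (BT.node (nat_lit 5102848) (BT.leaf (nat_lit 21829405)) (BT.leaf (nat_lit 34323737)))) (BT.node (nat_lit 5103040) (BT.node (nat_lit 5102976) (BT.leaf (nat_lit 34323741)) (BT.leaf (nat_lit 50302741))) (BT.node (nat_lit 5103104) (BT.leaf (nat_lit 36261401)) (BT.leaf (nat_lit 20237573))))) (BT.node (nat_lit 5103424) (BT.node (nat_lit 5103296) (BT.node (nat_lit 5103232) (BT.leaf (nat_lit 20237317)) (BT.leaf (nat_lit 20461593))) (BT.node (nat_lit 5103360) (BT.leaf (nat_lit 20696609)) (BT.leaf (nat_lit 20727585)))) (BT.node (nat_lit 5103552) (BT.node (nat_lit 5103488) (BT.leaf (nat_lit 21831697)) (BT.leaf (nat_lit 21832721))) (BT.node (nat_lit 5103616) (BT.leaf (nat_lit 21602057)) (BT.leaf (nat_lit 20136213))))))) (BT.node (nat_lit 5104704) (BT.node (nat_lit 5104192) (BT.node (nat_lit 5103936) (BT.node (nat_lit 5103808) (BT.node (nat_lit 5103744) (BT.leaf (nat_lit 20412437)) (BT.leaf (nat_lit 20135957))) (BT.node (nat_lit 5103872) (BT.leaf (nat_lit 20362261)) (BT.leaf (nat_lit 33719073)))) (BT.node (nat_lit 5104064) (BT.node (nat_lit 5104000) (BT.leaf (nat_lit 20415513)) (BT.leaf (nat_lit 20620809))) (BT.node (nat_lit 5104128) (BT.leaf (nat_lit 21549073)) (BT.leaf (nat_lit 20427797))))) (BT.node (nat_lit 5104448) (BT.node (nat_lit 5104320) (BT.node (nat_lit 5104256) (BT.leaf (nat_lit 21733401)) (BT.leaf (nat_lit 21565457))) (BT.node (nat_lit 5104384) (BT.leaf (nat_lit 21837601)) (BT.leaf (nat_lit 20273945)))) (BT.node (nat_lit 5104576) (BT.node (nat_lit 5104512) (BT.leaf (nat_lit 20141833)) (BT.leaf (nat_lit 21838617))) (BT.node (nat_lit 5104640) (BT.leaf (nat_lit 20315937)) (BT.leaf (nat_lit 20688929)))))) (BT.node (nat_lit 5105216) (BT.node (nat_lit 5104960) (BT.node (nat_lit 5104832) (BT.node (nat_lit 5104768) (BT.leaf (nat_lit 20767009)) (BT.leaf (nat_lit 20314913))) (BT.node (nat_lit 5104896) (BT.leaf (nat_lit 20759305)) (BT.leaf (nat_lit 20213269)))) (BT.node (nat_lit 5105088) (BT.node (nat_lit 5105024) (BT.leaf (nat_lit 33669657)) (BT.leaf (nat_lit 33669661))) (BT.node (nat_lit 5105152) (BT.leaf (nat_lit 21840401)) (BT.leaf (nat_lit 21840405))))) (BT.node (nat_lit 5105472) (BT.node (nat_lit 5105344) (BT.node (nat_lit 5105280) (BT.leaf (nat_lit 20941345)) (BT.leaf (nat_lit 21186821))) (BT.node (nat_lit 5105408) (BT.leaf (nat_lit 20941857)) (BT.leaf (nat_lit 20942085)))) (BT.node (nat_lit 5105600) (BT.node (nat_lit 5105536) (BT.leaf (nat_lit 50031369)) (BT.leaf (nat_lit 20563221))) (BT.node (nat_lit 5105664) (BT.leaf (nat_lit 20991257)) (BT.leaf (nat_lit 20486669)))))))) (BT.node (nat_lit 5107776) (BT.node (nat_lit 5106752) (BT.node (nat_lit 5106240) (BT.node (nat_lit 5105984) (BT.node (nat_lit 5105856) (BT.node (nat_lit 5105792) (BT.leaf (nat_lit 20486681)) (BT.leaf (nat_lit 21842973))) (BT.node (nat_lit 5105920) (BT.leaf (nat_lit 20328725)) (BT.leaf (nat_lit 20139793)))) (BT.node (nat_lit 5106112) (BT.node (nat_lit 5106048) (BT.leaf (nat_lit 20139281)) (BT.leaf (nat_lit 20179225))) (BT.node (nat_lit 5106176) (BT.leaf (nat_lit 51363333)) (BT.leaf (nat_lit 21152017))))) (BT.node (nat_lit 5106496) (BT.node (nat_lit 5106368) (BT.node (nat_lit 5106304) (BT.leaf (nat_lit 20738053)) (BT.leaf (nat_lit 21295905))) (BT.node (nat_lit 5106432) (BT.leaf (nat_lit 21848097)) (BT.leaf (nat_lit 21298965)))) (BT.node (nat_lit 5106624) (BT.node (nat_lit 5106560) (BT.leaf (nat_lit 21849113)) (BT.leaf (nat_lit 20419093))) (BT.node (nat_lit 5106688) (BT.leaf (nat_lit 21040417)) (BT.leaf (nat_lit 21849621)))))) (BT.node (nat_lit 5107264) (BT.node (nat_lit 5107008) (BT.node (nat_lit 5106880) (BT.node (nat_lit 5106816) (BT.leaf (nat_lit 21850389)) (BT.leaf (nat_lit 21733405))) (BT.node (nat_lit 5106944) (BT.leaf (nat_lit 20269601)) (BT.leaf (nat_lit 20269317)))) (BT.node (nat_lit 5107136) (BT.node (nat_lit 5107072) (BT.leaf (nat_lit 20117789)) (BT.leaf (nat_lit 21851677))) (BT.node (nat_lit 5107200) (BT.leaf (nat_lit 21852449)) (BT.leaf (nat_lit 21852949))))) (BT.node (nat_lit 5107520) (BT.node (nat_lit 5107392) (BT.node (nat_lit 5107328) (BT.leaf (nat_lit 21853461)) (BT.leaf (nat_lit 21601045))) (BT.node (nat_lit 5107456) (BT.leaf (nat_lit 20873733)) (BT.leaf (nat_lit 20142097)))) (BT.node (nat_lit 5107648) (BT.node (nat_lit 5107584) (BT.leaf (nat_lit 21855249)) (BT.leaf (nat_lit 21855509))) (BT.node (nat_lit 5107712) (BT.leaf (nat_lit 21856785)) (BT.leaf (nat_lit 51865877))))))) (BT.node (nat_lit 5108800) (BT.node (nat_lit 5108288) (BT.node (nat_lit 5108032) (BT.node (nat_lit 5107904) (BT.node (nat_lit 5107840) (BT.leaf (nat_lit 21312013)) (BT.leaf (nat_lit 20154905))) (BT.node (nat_lit 5107968) (BT.leaf (nat_lit 21858577)) (BT.leaf (nat_lit 50828829)))) (BT.node (nat_lit 5108160) (BT.node (nat_lit 5108096) (BT.leaf (nat_lit 21860113)) (BT.leaf (nat_lit 20220701))) (BT.node (nat_lit 5108224) (BT.leaf (nat_lit 21861149)) (BT.leaf (nat_lit 50278921))))) (BT.node (nat_lit 5108544) (BT.node (nat_lit 5108416) (BT.node (nat_lit 5108352) (BT.leaf (nat_lit 20736537)) (BT.leaf (nat_lit 21861649))) (BT.node (nat_lit 5108480) (BT.leaf (nat_lit 21861917)) (BT.leaf (nat_lit 20144401)))) (BT.node (nat_lit 5108672) (BT.node (nat_lit 5108608) (BT.leaf (nat_lit 20143381)) (BT.leaf (nat_lit 20137749))) (BT.node (nat_lit 5108736) (BT.leaf (nat_lit 20468753)) (BT.leaf (nat_lit 20543261)))))) (BT.node (nat_lit 5109312) (BT.node (nat_lit 5109056) (BT.node (nat_lit 5108928) (BT.node (nat_lit 5108864) (BT.leaf (nat_lit 20144145)) (BT.leaf (nat_lit 21863953))) (BT.node (nat_lit 5108992) (BT.leaf (nat_lit 20144149)) (BT.leaf (nat_lit 21283089)))) (BT.node (nat_lit 5109184) (BT.node (nat_lit 5109120) (BT.leaf (nat_lit 21787413)) (BT.leaf (nat_lit 20824073))) (BT.node (nat_lit 5109248) (BT.leaf (nat_lit 21866769)) (BT.leaf (nat_lit 21660445))))) (BT.node (nat_lit 5109568) (BT.node (nat_lit 5109440) (BT.node (nat_lit 5109376) (BT.leaf (nat_lit 20173841)) (BT.leaf (nat_lit 36200981))) (BT.node (nat_lit 5109504) (BT.leaf (nat_lit 20833821)) (BT.leaf (nat_lit 20438301)))) (BT.node (nat_lit 5109696) (BT.node (nat_lit 5109632) (BT.leaf (nat_lit 21870097)) (BT.leaf (nat_lit 21870609))) (BT.node (nat_lit 5109760) (BT.leaf (nat_lit 20438553)) (BT.leaf (nat_lit 20177673)))))))))) (BT.node (nat_lit 5118016) (BT.node (nat_lit 5113920) (BT.node (nat_lit 5111872) (BT.node (nat_lit 5110848) (BT.node (nat_lit 5110336) (BT.node (nat_lit 5110080) (BT.node (nat_lit 5109952) (BT.node (nat_lit 5109888) (BT.leaf (nat_lit 20177677)) (BT.leaf (nat_lit 20177689))) (BT.node (nat_lit 5110016) (BT.leaf (nat_lit 21872657)) (BT.leaf (nat_lit 20439833)))) (BT.node (nat_lit 5110208) (BT.node (nat_lit 5110144) (BT.leaf (nat_lit 21873681)) (BT.leaf (nat_lit 21874205))) (BT.node (nat_lit 5110272) (BT.leaf (nat_lit 20174609)) (BT.leaf (nat_lit 20824093))))) (BT.node (nat_lit 5110592) (BT.node (nat_lit 5110464) (BT.node (nat_lit 5110400) (BT.leaf (nat_lit 20441629)) (BT.leaf (nat_lit 21876497))) (BT.node (nat_lit 5110528) (BT.leaf (nat_lit 21877009)) (BT.leaf (nat_lit 20441881)))) (BT.node (nat_lit 5110720) (BT.node (nat_lit 5110656) (BT.leaf (nat_lit 21333777)) (BT.leaf (nat_lit 21333521))) (BT.node (nat_lit 5110784) (BT.leaf (nat_lit 20482585)) (BT.leaf (nat_lit 20482589)))))) (BT.node (nat_lit 5111360) (BT.node (nat_lit 5111104) (BT.node (nat_lit 5110976) (BT.node (nat_lit 5110912) (BT.leaf (nat_lit 21000985)) (BT.leaf (nat_lit 20326421))) (BT.node (nat_lit 5111040) (BT.leaf (nat_lit 21048601)) (BT.leaf (nat_lit 21880601)))) (BT.node (nat_lit 5111232) (BT.node (nat_lit 5111168) (BT.leaf (nat_lit 20200985)) (BT.leaf (nat_lit 21881121))) (BT.node (nat_lit 5111296) (BT.leaf (nat_lit 20330517)) (BT.leaf (nat_lit 20330773))))) (BT.node (nat_lit 5111616) (BT.node (nat_lit 5111488) (BT.node (nat_lit 5111424) (BT.leaf (nat_lit 21293077)) (BT.leaf (nat_lit 21883669))) (BT.node (nat_lit 5111552) (BT.leaf (nat_lit 21883921)) (BT.leaf (nat_lit 20529945)))) (BT.node (nat_lit 5111744) (BT.node (nat_lit 5111680) (BT.leaf (nat_lit 21884705)) (BT.leaf (nat_lit 20224785))) (BT.node (nat_lit 5111808) (BT.leaf (nat_lit 20789781)) (BT.leaf (nat_lit 20259605))))))) (BT.node (nat_lit 5112896) (BT.node (nat_lit 5112384) (BT.node (nat_lit 5112128) (BT.node (nat_lit 5112000) (BT.node (nat_lit 5111936) (BT.leaf (nat_lit 20447773)) (BT.leaf (nat_lit 21887249))) (BT.node (nat_lit 5112064) (BT.leaf (nat_lit 21887761)) (BT.leaf (nat_lit 21888273)))) (BT.node (nat_lit 5112256) (BT.node (nat_lit 5112192) (BT.leaf (nat_lit 25559073)) (BT.leaf (nat_lit 21148961))) (BT.node (nat_lit 5112320) (BT.leaf (nat_lit 20343585)) (BT.leaf (nat_lit 20852497))))) (BT.node (nat_lit 5112640) (BT.node (nat_lit 5112512) (BT.node (nat_lit 5112448) (BT.leaf (nat_lit 21343001)) (BT.leaf (nat_lit 20897313))) (BT.node (nat_lit 5112576) (BT.leaf (nat_lit 21892625)) (BT.leaf (nat_lit 21893137)))) (BT.node (nat_lit 5112768) (BT.node (nat_lit 5112704) (BT.leaf (nat_lit 21894169)) (BT.leaf (nat_lit 20902661))) (BT.node (nat_lit 5112832) (BT.leaf (nat_lit 21089041)) (BT.leaf (nat_lit 20751649)))))) (BT.node (nat_lit 5113408) (BT.node (nat_lit 5113152) (BT.node (nat_lit 5113024) (BT.node (nat_lit 5112960) (BT.leaf (nat_lit 36532501)) (BT.leaf (nat_lit 36533265))) (BT.node (nat_lit 5113088) (BT.leaf (nat_lit 51308553)) (BT.leaf (nat_lit 51308561)))) (BT.node (nat_lit 5113280) (BT.node (nat_lit 5113216) (BT.leaf (nat_lit 26775585)) (BT.leaf (nat_lit 20514577))) (BT.node (nat_lit 5113344) (BT.leaf (nat_lit 51888901)) (BT.leaf (nat_lit 21899013))))) (BT.node (nat_lit 5113664) (BT.node (nat_lit 5113536) (BT.node (nat_lit 5113472) (BT.leaf (nat_lit 20224541)) (BT.leaf (nat_lit 21900305))) (BT.node (nat_lit 5113600) (BT.leaf (nat_lit 21900817)) (BT.leaf (nat_lit 21900813)))) (BT.node (nat_lit 5113792) (BT.node (nat_lit 5113728) (BT.leaf (nat_lit 21901329)) (BT.leaf (nat_lit 21124613))) (BT.node (nat_lit 5113856) (BT.leaf (nat_lit 21902873)) (BT.leaf (nat_lit 21207057)))))))) (BT.node (nat_lit 5115968) (BT.node (nat_lit 5114944) (BT.node (nat_lit 5114432) (BT.node (nat_lit 5114176) (BT.node (nat_lit 5114048) (BT.node (nat_lit 5113984) (BT.leaf (nat_lit 20294405)) (BT.leaf (nat_lit 21904401))) (BT.node (nat_lit 5114112) (BT.leaf (nat_lit 21398297)) (BT.leaf (nat_lit 21905185)))) (BT.node (nat_lit 5114304) (BT.node (nat_lit 5114240) (BT.leaf (nat_lit 21905429)) (BT.leaf (nat_lit 21905697))) (BT.node (nat_lit 5114368) (BT.leaf (nat_lit 21047313)) (BT.leaf (nat_lit 20148241))))) (BT.node (nat_lit 5114688) (BT.node (nat_lit 5114560) (BT.node (nat_lit 5114496) (BT.leaf (nat_lit 20426761)) (BT.leaf (nat_lit 20766749))) (BT.node (nat_lit 5114624) (BT.leaf (nat_lit 20202521)) (BT.leaf (nat_lit 20366357)))) (BT.node (nat_lit 5114816) (BT.node (nat_lit 5114752) (BT.leaf (nat_lit 21908497)) (BT.leaf (nat_lit 21002529))) (BT.node (nat_lit 5114880) (BT.leaf (nat_lit 21003013)) (BT.leaf (nat_lit 21563409)))))) (BT.node (nat_lit 5115456) (BT.node (nat_lit 5115200) (BT.node (nat_lit 5115072) (BT.node (nat_lit 5115008) (BT.leaf (nat_lit 20732177)) (BT.leaf (nat_lit 21910037))) (BT.node (nat_lit 5115136) (BT.leaf (nat_lit 20272669)) (BT.leaf (nat_lit 20148757)))) (BT.node (nat_lit 5115328) (BT.node (nat_lit 5115264) (BT.leaf (nat_lit 20736801)) (BT.leaf (nat_lit 20737057))) (BT.node (nat_lit 5115392) (BT.leaf (nat_lit 21290017)) (BT.leaf (nat_lit 20380677))))) (BT.node (nat_lit 5115712) (BT.node (nat_lit 5115584) (BT.node (nat_lit 5115520) (BT.leaf (nat_lit 21570337)) (BT.leaf (nat_lit 20150549))) (BT.node (nat_lit 5115648) (BT.leaf (nat_lit 20566549)) (BT.leaf (nat_lit 51407649)))) (BT.node (nat_lit 5115840) (BT.node (nat_lit 5115776) (BT.leaf (nat_lit 20928541)) (BT.leaf (nat_lit 20443425))) (BT.node (nat_lit 5115904) (BT.leaf (nat_lit 21135129)) (BT.leaf (nat_lit 21914897))))))) (BT.node (nat_lit 5116992) (BT.node (nat_lit 5116480) (BT.node (nat_lit 5116224) (BT.node (nat_lit 5116096) (BT.node (nat_lit 5116032) (BT.leaf (nat_lit 20992289)) (BT.leaf (nat_lit 20992033))) (BT.node (nat_lit 5116160) (BT.leaf (nat_lit 20395029)) (BT.leaf (nat_lit 20580877)))) (BT.node (nat_lit 5116352) (BT.node (nat_lit 5116288) (BT.leaf (nat_lit 21917717)) (BT.leaf (nat_lit 21116689))) (BT.node (nat_lit 5116416) (BT.leaf (nat_lit 21804305)) (BT.leaf (nat_lit 49876753))))) (BT.node (nat_lit 5116736) (BT.node (nat_lit 5116608) (BT.node (nat_lit 5116544) (BT.leaf (nat_lit 22383381)) (BT.leaf (nat_lit 34779165))) (BT.node (nat_lit 5116672) (BT.leaf (nat_lit 20678945)) (BT.leaf (nat_lit 20747297)))) (BT.node (nat_lit 5116864) (BT.node (nat_lit 5116800) (BT.leaf (nat_lit 20761633)) (BT.leaf (nat_lit 20311813))) (BT.node (nat_lit 5116928) (BT.leaf (nat_lit 50653445)) (BT.leaf (nat_lit 21245201)))))) (BT.node (nat_lit 5117504) (BT.node (nat_lit 5117248) (BT.node (nat_lit 5117120) (BT.node (nat_lit 5117056) (BT.leaf (nat_lit 21922589)) (BT.leaf (nat_lit 20241941))) (BT.node (nat_lit 5117184) (BT.leaf (nat_lit 20434445)) (BT.leaf (nat_lit 20434441)))) (BT.node (nat_lit 5117376) (BT.node (nat_lit 5117312) (BT.leaf (nat_lit 20434457)) (BT.leaf (nat_lit 20434461))) (BT.node (nat_lit 5117440) (BT.leaf (nat_lit 20525073)) (BT.leaf (nat_lit 20651277))))) (BT.node (nat_lit 5117760) (BT.node (nat_lit 5117632) (BT.node (nat_lit 5117568) (BT.leaf (nat_lit 20651289)) (BT.leaf (nat_lit 21216017))) (BT.node (nat_lit 5117696) (BT.leaf (nat_lit 25929493)) (BT.leaf (nat_lit 20470553)))) (BT.node (nat_lit 5117888) (BT.node (nat_lit 5117824) (BT.leaf (nat_lit 20785941)) (BT.leaf (nat_lit 20244257))) (BT.node (nat_lit 5117952) (BT.leaf (nat_lit 20279329)) (BT.leaf (nat_lit 20279557))))))))) (BT.node (nat_lit 5122048) (BT.node (nat_lit 5120000) (BT.node (nat_lit 5118976) (BT.node (nat_lit 5118528) (BT.node (nat_lit 5118272) (BT.node (nat_lit 5118144) (BT.node (nat_lit 5118080) (BT.leaf (nat_lit 20726037)) (BT.leaf (nat_lit 20522261))) (BT.node (nat_lit 5118208) (BT.leaf (nat_lit 21020689)) (BT.leaf (nat_lit 20775685)))) (BT.node (nat_lit 5118400) (BT.node (nat_lit 5118336) (BT.leaf (nat_lit 21928221)) (BT.leaf (nat_lit 20416025))) (BT.node (nat_lit 5118464) (BT.leaf (nat_lit 20620825)) (BT.leaf (nat_lit 20474141))))) (BT.node (nat_lit 5118784) (BT.node (nat_lit 5118656) (BT.node (nat_lit 5118592) (BT.leaf (nat_lit 20620813)) (BT.leaf (nat_lit 20177693))) (BT.node (nat_lit 5118720) (BT.leaf (nat_lit 20969757)) (BT.leaf (nat_lit 20905733)))) (BT.node (nat_lit 5118848) (BT.node (nat_lit 5118791) (BT.leaf (nat_lit 20219921)) (BT.leaf (nat_lit 321232))) (BT.node (nat_lit 5118912) (BT.leaf (nat_lit 20494101)) (BT.leaf (nat_lit 21398793)))))) (BT.node (nat_lit 5119488) (BT.node (nat_lit 5119232) (BT.node (nat_lit 5119104) (BT.node (nat_lit 5119040) (BT.leaf (nat_lit 20495117)) (BT.leaf (nat_lit 21931285))) (BT.node (nat_lit 5119168) (BT.leaf (nat_lit 20300569)) (BT.leaf (nat_lit 20241429)))) (BT.node (nat_lit 5119360) (BT.node (nat_lit 5119296) (BT.leaf (nat_lit 20495129)) (BT.leaf (nat_lit 20155665))) (BT.node (nat_lit 5119424) (BT.leaf (nat_lit 21933593)) (BT.leaf (nat_lit 20161809))))) (BT.node (nat_lit 5119744) (BT.node (nat_lit 5119616) (BT.node (nat_lit 5119552) (BT.leaf (nat_lit 21069089)) (BT.leaf (nat_lit 20158741))) (BT.node (nat_lit 5119680) (BT.leaf (nat_lit 21935633)) (BT.leaf (nat_lit 21936145)))) (BT.node (nat_lit 5119872) (BT.node (nat_lit 5119808) (BT.leaf (nat_lit 21421581)) (BT.leaf (nat_lit 22693913))) (BT.node (nat_lit 5119936) (BT.leaf (nat_lit 20525069)) (BT.leaf (nat_lit 36166925))))))) (BT.node (nat_lit 5121024) (BT.node (nat_lit 5120512) (BT.node (nat_lit 5120256) (BT.node (nat_lit 5120128) (BT.node (nat_lit 5120064) (BT.leaf (nat_lit 52239109)) (BT.leaf (nat_lit 20940297))) (BT.node (nat_lit 5120192) (BT.leaf (nat_lit 20940317)) (BT.leaf (nat_lit 21939225)))) (BT.node (nat_lit 5120384) (BT.node (nat_lit 5120320) (BT.leaf (nat_lit 20685345)) (BT.leaf (nat_lit 21940249))) (BT.node (nat_lit 5120448) (BT.leaf (nat_lit 20190737)) (BT.leaf (nat_lit 25419809))))) (BT.node (nat_lit 5120768) (BT.node (nat_lit 5120640) (BT.node (nat_lit 5120576) (BT.leaf (nat_lit 21940497)) (BT.leaf (nat_lit 21941021))) (BT.node (nat_lit 5120704) (BT.leaf (nat_lit 25276689)) (BT.leaf (nat_lit 20951065)))) (BT.node (nat_lit 5120896) (BT.node (nat_lit 5120832) (BT.leaf (nat_lit 20548877)) (BT.leaf (nat_lit 20153885))) (BT.node (nat_lit 5120960) (BT.leaf (nat_lit 21942561)) (BT.leaf (nat_lit 21078561)))))) (BT.node (nat_lit 5121536) (BT.node (nat_lit 5121280) (BT.node (nat_lit 5121152) (BT.node (nat_lit 5121088) (BT.leaf (nat_lit 21078789)) (BT.leaf (nat_lit 21943561))) (BT.node (nat_lit 5121216) (BT.leaf (nat_lit 26897429)) (BT.leaf (nat_lit 20193045)))) (BT.node (nat_lit 5121408) (BT.node (nat_lit 5121344) (BT.leaf (nat_lit 21946129)) (BT.leaf (nat_lit 21946641))) (BT.node (nat_lit 5121472) (BT.leaf (nat_lit 21946897)) (BT.leaf (nat_lit 20486173))))) (BT.node (nat_lit 5121792) (BT.node (nat_lit 5121664) (BT.node (nat_lit 5121600) (BT.leaf (nat_lit 21947409)) (BT.leaf (nat_lit 20486685))) (BT.node (nat_lit 5121728) (BT.leaf (nat_lit 20155413)) (BT.leaf (nat_lit 20153109)))) (BT.node (nat_lit 5121920) (BT.node (nat_lit 5121856) (BT.leaf (nat_lit 20486665)) (BT.leaf (nat_lit 20176669))) (BT.node (nat_lit 5121984) (BT.leaf (nat_lit 20422673)) (BT.leaf (nat_lit 20436761)))))))) (BT.node (nat_lit 5124096) (BT.node (nat_lit 5123072) (BT.node (nat_lit 5122560) (BT.node (nat_lit 5122304) (BT.node (nat_lit 5122176) (BT.node (nat_lit 5122112) (BT.leaf (nat_lit 20638237)) (BT.leaf (nat_lit 20638217))) (BT.node (nat_lit 5122240) (BT.leaf (nat_lit 21950741)) (BT.leaf (nat_lit 21950993)))) (BT.node (nat_lit 5122432) (BT.node (nat_lit 5122368) (BT.leaf (nat_lit 20601353)) (BT.leaf (nat_lit 20178465))) (BT.node (nat_lit 5122496) (BT.leaf (nat_lit 20601369)) (BT.leaf (nat_lit 20601373))))) (BT.node (nat_lit 5122816) (BT.node (nat_lit 5122688) (BT.node (nat_lit 5122624) (BT.leaf (nat_lit 20430105)) (BT.leaf (nat_lit 51363085))) (BT.node (nat_lit 5122752) (BT.leaf (nat_lit 20641817)) (BT.leaf (nat_lit 20641805)))) (BT.node (nat_lit 5122944) (BT.node (nat_lit 5122880) (BT.leaf (nat_lit 21052705)) (BT.leaf (nat_lit 20288029))) (BT.node (nat_lit 5123008) (BT.leaf (nat_lit 21945365)) (BT.leaf (nat_lit 21458441)))))) (BT.node (nat_lit 5123584) (BT.node (nat_lit 5123328) (BT.node (nat_lit 5123200) (BT.node (nat_lit 5123136) (BT.leaf (nat_lit 21956625)) (BT.leaf (nat_lit 20442373))) (BT.node (nat_lit 5123264) (BT.leaf (nat_lit 20442629)) (BT.leaf (nat_lit 20521501)))) (BT.node (nat_lit 5123456) (BT.node (nat_lit 5123392) (BT.leaf (nat_lit 20494865)) (BT.leaf (nat_lit 20992541))) (BT.node (nat_lit 5123520) (BT.leaf (nat_lit 20432657)) (BT.leaf (nat_lit 21399065))))) (BT.node (nat_lit 5123840) (BT.node (nat_lit 5123712) (BT.node (nat_lit 5123648) (BT.leaf (nat_lit 21399053)) (BT.leaf (nat_lit 20709909))) (BT.node (nat_lit 5123776) (BT.leaf (nat_lit 20225817)) (BT.leaf (nat_lit 51325205)))) (BT.node (nat_lit 5123968) (BT.node (nat_lit 5123904) (BT.leaf (nat_lit 20925189)) (BT.leaf (nat_lit 20582177))) (BT.node (nat_lit 5124032) (BT.leaf (nat_lit 20925701)) (BT.leaf (nat_lit 21960465))))))) (BT.node (nat_lit 5125120) (BT.node (nat_lit 5124608) (BT.node (nat_lit 5124352) (BT.node (nat_lit 5124224) (BT.node (nat_lit 5124160) (BT.leaf (nat_lit 20485661)) (BT.leaf (nat_lit 20477457))) (BT.node (nat_lit 5124288) (BT.leaf (nat_lit 21961489)) (BT.leaf (nat_lit 20153621)))) (BT.node (nat_lit 5124480) (BT.node (nat_lit 5124416) (BT.leaf (nat_lit 20512017)) (BT.leaf (nat_lit 20497949))) (BT.node (nat_lit 5124544) (BT.leaf (nat_lit 21963537)) (BT.leaf (nat_lit 20164625))))) (BT.node (nat_lit 5124864) (BT.node (nat_lit 5124736) (BT.node (nat_lit 5124672) (BT.leaf (nat_lit 20164629)) (BT.leaf (nat_lit 21964313))) (BT.node (nat_lit 5124800) (BT.leaf (nat_lit 21965077)) (BT.leaf (nat_lit 21964301)))) (BT.node (nat_lit 5124992) (BT.node (nat_lit 5124928) (BT.leaf (nat_lit 20647453)) (BT.leaf (nat_lit 20647433))) (BT.node (nat_lit 5125056) (BT.leaf (nat_lit 20644377)) (BT.leaf (nat_lit 21967129)))))) (BT.node (nat_lit 5125632) (BT.node (nat_lit 5125376) (BT.node (nat_lit 5125248) (BT.node (nat_lit 5125184) (BT.leaf (nat_lit 20500765)) (BT.leaf (nat_lit 20644365))) (BT.node (nat_lit 5125312) (BT.leaf (nat_lit 20263201)) (BT.leaf (nat_lit 20551709)))) (BT.node (nat_lit 5125504) (BT.node (nat_lit 5125440) (BT.leaf (nat_lit 21969681)) (BT.leaf (nat_lit 21970461))) (BT.node (nat_lit 5125568) (BT.leaf (nat_lit 21969937)) (BT.leaf (nat_lit 33409033))))) (BT.node (nat_lit 5125888) (BT.node (nat_lit 5125760) (BT.node (nat_lit 5125696) (BT.leaf (nat_lit 20281357)) (BT.leaf (nat_lit 20281369))) (BT.node (nat_lit 5125824) (BT.leaf (nat_lit 33409053)) (BT.leaf (nat_lit 20281377)))) (BT.node (nat_lit 5126016) (BT.node (nat_lit 5125952) (BT.leaf (nat_lit 25283605)) (BT.leaf (nat_lit 21175329))) (BT.node (nat_lit 5126080) (BT.leaf (nat_lit 20228893)) (BT.leaf (nat_lit 21496865))))))))))) (BT.node (nat_lit 5148480) (BT.node (nat_lit 5136768) (BT.node (nat_lit 5130240) (BT.node (nat_lit 5128192) (BT.node (nat_lit 5127168) (BT.node (nat_lit 5126656) (BT.node (nat_lit 5126400) (BT.node (nat_lit 5126272) (BT.node (nat_lit 5126208) (BT.leaf (nat_lit 21497121)) (BT.leaf (nat_lit 21497633))) (BT.node (nat_lit 5126336) (BT.leaf (nat_lit 21497377)) (BT.leaf (nat_lit 20210705)))) (BT.node (nat_lit 5126528) (BT.node (nat_lit 5126464) (BT.leaf (nat_lit 20210701)) (BT.leaf (nat_lit 21173253))) (BT.node (nat_lit 5126592) (BT.leaf (nat_lit 21975833)) (BT.leaf (nat_lit 25929501))))) (BT.node (nat_lit 5126912) (BT.node (nat_lit 5126784) (BT.node (nat_lit 5126720) (BT.leaf (nat_lit 20455941)) (BT.leaf (nat_lit 26757657))) (BT.node (nat_lit 5126848) (BT.leaf (nat_lit 36006681)) (BT.leaf (nat_lit 20617221)))) (BT.node (nat_lit 5127040) (BT.node (nat_lit 5126976) (BT.leaf (nat_lit 21412369)) (BT.leaf (nat_lit 20979989))) (BT.node (nat_lit 5127104) (BT.leaf (nat_lit 21170197)) (BT.leaf (nat_lit 21981201)))))) (BT.node (nat_lit 5127680) (BT.node (nat_lit 5127424) (BT.node (nat_lit 5127296) (BT.node (nat_lit 5127232) (BT.leaf (nat_lit 20508441)) (BT.leaf (nat_lit 20321809))) (BT.node (nat_lit 5127360) (BT.leaf (nat_lit 21815057)) (BT.leaf (nat_lit 20193561)))) (BT.node (nat_lit 5127552) (BT.node (nat_lit 5127488) (BT.leaf (nat_lit 20193565)) (BT.leaf (nat_lit 21983509))) (BT.node (nat_lit 5127616) (BT.leaf (nat_lit 20228113)) (BT.leaf (nat_lit 33621789))))) (BT.node (nat_lit 5127936) (BT.node (nat_lit 5127808) (BT.node (nat_lit 5127744) (BT.leaf (nat_lit 25088525)) (BT.leaf (nat_lit 21202977))) (BT.node (nat_lit 5127872) (BT.leaf (nat_lit 33749517)) (BT.leaf (nat_lit 33601313)))) (BT.node (nat_lit 5128064) (BT.node (nat_lit 5128000) (BT.leaf (nat_lit 20805909)) (BT.leaf (nat_lit 20497165))) (BT.node (nat_lit 5128128) (BT.leaf (nat_lit 20497161)) (BT.leaf (nat_lit 20497177))))))) (BT.node (nat_lit 5129216) (BT.node (nat_lit 5128704) (BT.node (nat_lit 5128448) (BT.node (nat_lit 5128320) (BT.node (nat_lit 5128256) (BT.leaf (nat_lit 20497181)) (BT.leaf (nat_lit 21988385))) (BT.node (nat_lit 5128384) (BT.leaf (nat_lit 20935449)) (BT.leaf (nat_lit 20258569)))) (BT.node (nat_lit 5128576) (BT.node (nat_lit 5128512) (BT.leaf (nat_lit 21642001)) (BT.leaf (nat_lit 21288209))) (BT.node (nat_lit 5128640) (BT.leaf (nat_lit 21377309)) (BT.leaf (nat_lit 21706777))))) (BT.node (nat_lit 5128960) (BT.node (nat_lit 5128832) (BT.node (nat_lit 5128768) (BT.leaf (nat_lit 20251929)) (BT.leaf (nat_lit 21857557))) (BT.node (nat_lit 5128896) (BT.leaf (nat_lit 21991189)) (BT.leaf (nat_lit 20819213)))) (BT.node (nat_lit 5129088) (BT.node (nat_lit 5129024) (BT.leaf (nat_lit 21632781)) (BT.leaf (nat_lit 21992733))) (BT.node (nat_lit 5129152) (BT.leaf (nat_lit 21782277)) (BT.leaf (nat_lit 23201045)))))) (BT.node (nat_lit 5129728) (BT.node (nat_lit 5129472) (BT.node (nat_lit 5129344) (BT.node (nat_lit 5129280) (BT.leaf (nat_lit 47225877)) (BT.leaf (nat_lit 50524165))) (BT.node (nat_lit 5129408) (BT.leaf (nat_lit 21994001)) (BT.leaf (nat_lit 20576785)))) (BT.node (nat_lit 5129600) (BT.node (nat_lit 5129536) (BT.leaf (nat_lit 20513817)) (BT.leaf (nat_lit 20513821))) (BT.node (nat_lit 5129664) (BT.leaf (nat_lit 20370437)) (BT.leaf (nat_lit 21173025))))) (BT.node (nat_lit 5129984) (BT.node (nat_lit 5129856) (BT.node (nat_lit 5129792) (BT.leaf (nat_lit 21996573)) (BT.leaf (nat_lit 20228613))) (BT.node (nat_lit 5129920) (BT.leaf (nat_lit 20535573)) (BT.leaf (nat_lit 20250401)))) (BT.node (nat_lit 5130112) (BT.node (nat_lit 5130048) (BT.leaf (nat_lit 20730381)) (BT.leaf (nat_lit 20940321))) (BT.node (nat_lit 5130176) (BT.leaf (nat_lit 21998085)) (BT.leaf (nat_lit 20651809)))))))) (BT.node (nat_lit 5133568) (BT.node (nat_lit 5132288) (BT.node (nat_lit 5131008) (BT.node (nat_lit 5130624) (BT.node (nat_lit 5130496) (BT.node (nat_lit 5130368) (BT.leaf (nat_lit 20940301)) (BT.leaf (nat_lit 20482565))) (BT.node (nat_lit 5130560) (BT.leaf (nat_lit 20135941)) (BT.leaf (nat_lit 20522009)))) (BT.node (nat_lit 5130816) (BT.node (nat_lit 5130752) (BT.leaf (nat_lit 22001169)) (BT.leaf (nat_lit 22002193))) (BT.node (nat_lit 5130880) (BT.leaf (nat_lit 20523549)) (BT.leaf (nat_lit 22002705))))) (BT.node (nat_lit 5131712) (BT.node (nat_lit 5131520) (BT.node (nat_lit 5131264) (BT.leaf (nat_lit 21571593)) (BT.leaf (nat_lit 22006037))) (BT.node (nat_lit 5131584) (BT.leaf (nat_lit 22007057)) (BT.leaf (nat_lit 22007313)))) (BT.node (nat_lit 5131904) (BT.node (nat_lit 5131776) (BT.leaf (nat_lit 20589573)) (BT.leaf (nat_lit 37003541))) (BT.node (nat_lit 5131968) (BT.leaf (nat_lit 37029401)) (BT.leaf (nat_lit 20833817)))))) (BT.node (nat_lit 5132864) (BT.node (nat_lit 5132608) (BT.node (nat_lit 5132480) (BT.node (nat_lit 5132416) (BT.leaf (nat_lit 20101661)) (BT.leaf (nat_lit 22014217))) (BT.node (nat_lit 5132544) (BT.leaf (nat_lit 22014997)) (BT.leaf (nat_lit 22015249)))) (BT.node (nat_lit 5132736) (BT.node (nat_lit 5132672) (BT.leaf (nat_lit 22015773)) (BT.leaf (nat_lit 20102677))) (BT.node (nat_lit 5132800) (BT.leaf (nat_lit 20102933)) (BT.leaf (nat_lit 20103189))))) (BT.node (nat_lit 5133184) (BT.node (nat_lit 5133056) (BT.node (nat_lit 5132992) (BT.leaf (nat_lit 22017301)) (BT.leaf (nat_lit 22017813))) (BT.node (nat_lit 5133120) (BT.leaf (nat_lit 22018065)) (BT.leaf (nat_lit 20803077)))) (BT.node (nat_lit 5133312) (BT.node (nat_lit 5133248) (BT.leaf (nat_lit 20172313)) (BT.leaf (nat_lit 20522521))) (BT.node (nat_lit 5133376) (BT.leaf (nat_lit 22019349)) (BT.leaf (nat_lit 22020113))))))) (BT.node (nat_lit 5135488) (BT.node (nat_lit 5134464) (BT.node (nat_lit 5133952) (BT.node (nat_lit 5133696) (BT.node (nat_lit 5133632) (BT.leaf (nat_lit 22021661)) (BT.leaf (nat_lit 20154909))) (BT.node (nat_lit 5133888) (BT.leaf (nat_lit 20105237)) (BT.leaf (nat_lit 20535837)))) (BT.node (nat_lit 5134208) (BT.node (nat_lit 5134144) (BT.leaf (nat_lit 22023185)) (BT.leaf (nat_lit 20106005))) (BT.node (nat_lit 5134272) (BT.leaf (nat_lit 22024989)) (BT.leaf (nat_lit 20531481))))) (BT.node (nat_lit 5134784) (BT.node (nat_lit 5134592) (BT.node (nat_lit 5134528) (BT.leaf (nat_lit 22026513)) (BT.leaf (nat_lit 26850325))) (BT.node (nat_lit 5134656) (BT.leaf (nat_lit 20107281)) (BT.leaf (nat_lit 20107541)))) (BT.node (nat_lit 5135232) (BT.node (nat_lit 5134848) (BT.leaf (nat_lit 22030353)) (BT.leaf (nat_lit 27237145))) (BT.node (nat_lit 5135296) (BT.leaf (nat_lit 22034705)) (BT.leaf (nat_lit 22035217)))))) (BT.node (nat_lit 5136128) (BT.node (nat_lit 5135808) (BT.node (nat_lit 5135680) (BT.node (nat_lit 5135552) (BT.leaf (nat_lit 22036505)) (BT.leaf (nat_lit 20109333))) (BT.node (nat_lit 5135744) (BT.leaf (nat_lit 20109845)) (BT.leaf (nat_lit 22037789)))) (BT.node (nat_lit 5135936) (BT.node (nat_lit 5135872) (BT.leaf (nat_lit 20110101)) (BT.leaf (nat_lit 22039065))) (BT.node (nat_lit 5136000) (BT.leaf (nat_lit 20110613)) (BT.leaf (nat_lit 20666885))))) (BT.node (nat_lit 5136512) (BT.node (nat_lit 5136320) (BT.node (nat_lit 5136192) (BT.leaf (nat_lit 20110865)) (BT.leaf (nat_lit 20111125))) (BT.node (nat_lit 5136384) (BT.leaf (nat_lit 22043153)) (BT.leaf (nat_lit 36640793)))) (BT.node (nat_lit 5136640) (BT.node (nat_lit 5136576) (BT.leaf (nat_lit 37318665)) (BT.leaf (nat_lit 20111893))) (BT.node (nat_lit 5136704) (BT.leaf (nat_lit 20546845)) (BT.leaf (nat_lit 22046737))))))))) (BT.node (nat_lit 5142272) (BT.node (nat_lit 5139520) (BT.node (nat_lit 5138240) (BT.node (nat_lit 5137664) (BT.node (nat_lit 5137088) (BT.node (nat_lit 5136960) (BT.node (nat_lit 5136832) (BT.leaf (nat_lit 22047769)) (BT.leaf (nat_lit 20112149))) (BT.node (nat_lit 5137024) (BT.leaf (nat_lit 20661765)) (BT.leaf (nat_lit 20112405)))) (BT.node (nat_lit 5137216) (BT.node (nat_lit 5137152) (BT.leaf (nat_lit 20603673)) (BT.leaf (nat_lit 22050845))) (BT.node (nat_lit 5137408) (BT.leaf (nat_lit 20112661)) (BT.leaf (nat_lit 20113173))))) (BT.node (nat_lit 5137920) (BT.node (nat_lit 5137792) (BT.node (nat_lit 5137728) (BT.leaf (nat_lit 20113429)) (BT.leaf (nat_lit 20636421))) (BT.node (nat_lit 5137856) (BT.leaf (nat_lit 20113685)) (BT.leaf (nat_lit 20113941)))) (BT.node (nat_lit 5138048) (BT.node (nat_lit 5137984) (BT.leaf (nat_lit 22056977)) (BT.leaf (nat_lit 22058009))) (BT.node (nat_lit 5138176) (BT.leaf (nat_lit 20114197)) (BT.leaf (nat_lit 20663813)))))) (BT.node (nat_lit 5138816) (BT.node (nat_lit 5138560) (BT.node (nat_lit 5138368) (BT.node (nat_lit 5138304) (BT.leaf (nat_lit 20114453)) (BT.leaf (nat_lit 22060573))) (BT.node (nat_lit 5138496) (BT.leaf (nat_lit 20114709)) (BT.leaf (nat_lit 20168197)))) (BT.node (nat_lit 5138688) (BT.node (nat_lit 5138624) (BT.leaf (nat_lit 20145689)) (BT.leaf (nat_lit 22062877))) (BT.node (nat_lit 5138752) (BT.leaf (nat_lit 20115221)) (BT.leaf (nat_lit 20641541))))) (BT.node (nat_lit 5139264) (BT.node (nat_lit 5138944) (BT.node (nat_lit 5138880) (BT.leaf (nat_lit 20115477)) (BT.leaf (nat_lit 20533281))) (BT.node (nat_lit 5139008) (BT.leaf (nat_lit 50137889)) (BT.leaf (nat_lit 22067233)))) (BT.node (nat_lit 5139392) (BT.node (nat_lit 5139328) (BT.leaf (nat_lit 20445709)) (BT.leaf (nat_lit 22069525))) (BT.node (nat_lit 5139456) (BT.leaf (nat_lit 21533957)) (BT.leaf (nat_lit 20116757))))))) (BT.node (nat_lit 5140736) (BT.node (nat_lit 5140096) (BT.node (nat_lit 5139840) (BT.node (nat_lit 5139648) (BT.node (nat_lit 5139584) (BT.leaf (nat_lit 22070801)) (BT.leaf (nat_lit 22071057))) (BT.node (nat_lit 5139776) (BT.leaf (nat_lit 22071825)) (BT.leaf (nat_lit 20657925)))) (BT.node (nat_lit 5139968) (BT.node (nat_lit 5139904) (BT.leaf (nat_lit 22071829)) (BT.leaf (nat_lit 22073105))) (BT.node (nat_lit 5140032) (BT.leaf (nat_lit 20118297)) (BT.leaf (nat_lit 20118301))))) (BT.node (nat_lit 5140480) (BT.node (nat_lit 5140352) (BT.node (nat_lit 5140160) (BT.leaf (nat_lit 20551457)) (BT.leaf (nat_lit 21549069))) (BT.node (nat_lit 5140416) (BT.leaf (nat_lit 20562205)) (BT.leaf (nat_lit 20558109)))) (BT.node (nat_lit 5140608) (BT.node (nat_lit 5140544) (BT.leaf (nat_lit 20657949)) (BT.leaf (nat_lit 22076433))) (BT.node (nat_lit 5140672) (BT.leaf (nat_lit 20119585)) (BT.leaf (nat_lit 20119825)))))) (BT.node (nat_lit 5141504) (BT.node (nat_lit 5141056) (BT.node (nat_lit 5140864) (BT.node (nat_lit 5140800) (BT.leaf (nat_lit 20342297)) (BT.leaf (nat_lit 20563737))) (BT.node (nat_lit 5140928) (BT.leaf (nat_lit 22078745)) (BT.leaf (nat_lit 22077969)))) (BT.node (nat_lit 5141248) (BT.node (nat_lit 5141120) (BT.leaf (nat_lit 20239133)) (BT.leaf (nat_lit 20120853))) (BT.node (nat_lit 5141376) (BT.leaf (nat_lit 20777221)) (BT.leaf (nat_lit 22081041))))) (BT.node (nat_lit 5141824) (BT.node (nat_lit 5141696) (BT.node (nat_lit 5141632) (BT.leaf (nat_lit 51816225)) (BT.leaf (nat_lit 20928537))) (BT.node (nat_lit 5141760) (BT.leaf (nat_lit 22082577)) (BT.leaf (nat_lit 22083101)))) (BT.node (nat_lit 5141952) (BT.node (nat_lit 5141888) (BT.leaf (nat_lit 35621141)) (BT.leaf (nat_lit 22079773))) (BT.node (nat_lit 5142144) (BT.leaf (nat_lit 20564509)) (BT.leaf (nat_lit 22084633)))))))) (BT.node (nat_lit 5145728) (BT.node (nat_lit 5144192) (BT.node (nat_lit 5143424) (BT.node (nat_lit 5142976) (BT.node (nat_lit 5142656) (BT.node (nat_lit 5142336) (BT.leaf (nat_lit 22085649)) (BT.leaf (nat_lit 22085909))) (BT.node (nat_lit 5142784) (BT.leaf (nat_lit 20802565)) (BT.leaf (nat_lit 20306437)))) (BT.node (nat_lit 5143296) (BT.node (nat_lit 5143040) (BT.leaf (nat_lit 22091269)) (BT.leaf (nat_lit 20473621))) (BT.node (nat_lit 5143360) (BT.leaf (nat_lit 20126725)) (BT.leaf (nat_lit 20126737))))) (BT.node (nat_lit 5143808) (BT.node (nat_lit 5143680) (BT.node (nat_lit 5143488) (BT.leaf (nat_lit 22094109)) (BT.leaf (nat_lit 21622049))) (BT.node (nat_lit 5143744) (BT.leaf (nat_lit 22096149)) (BT.leaf (nat_lit 22097433)))) (BT.node (nat_lit 5144000) (BT.node (nat_lit 5143872) (BT.leaf (nat_lit 20216589)) (BT.leaf (nat_lit 20184093))) (BT.node (nat_lit 5144128) (BT.leaf (nat_lit 20332549)) (BT.leaf (nat_lit 22099989)))))) (BT.node (nat_lit 5145088) (BT.node (nat_lit 5144704) (BT.node (nat_lit 5144448) (BT.node (nat_lit 5144320) (BT.leaf (nat_lit 22100245)) (BT.leaf (nat_lit 22101265))) (BT.node (nat_lit 5144512) (BT.leaf (nat_lit 20385301)) (BT.leaf (nat_lit 20129041)))) (BT.node (nat_lit 5144960) (BT.node (nat_lit 5144896) (BT.leaf (nat_lit 22103573)) (BT.leaf (nat_lit 22105105))) (BT.node (nat_lit 5145024) (BT.leaf (nat_lit 20579609)) (BT.leaf (nat_lit 20826653))))) (BT.node (nat_lit 5145344) (BT.node (nat_lit 5145216) (BT.node (nat_lit 5145152) (BT.leaf (nat_lit 22106653)) (BT.leaf (nat_lit 21549089))) (BT.node (nat_lit 5145280) (BT.leaf (nat_lit 22072597)) (BT.leaf (nat_lit 20585477)))) (BT.node (nat_lit 5145472) (BT.node (nat_lit 5145408) (BT.leaf (nat_lit 20581149)) (BT.leaf (nat_lit 20131601))) (BT.node (nat_lit 5145536) (BT.leaf (nat_lit 22109193)) (BT.leaf (nat_lit 22110229))))))) (BT.node (nat_lit 5147200) (BT.node (nat_lit 5146496) (BT.node (nat_lit 5146176) (BT.node (nat_lit 5146048) (BT.node (nat_lit 5145792) (BT.leaf (nat_lit 20132121)) (BT.leaf (nat_lit 20132125))) (BT.node (nat_lit 5146112) (BT.leaf (nat_lit 20584477)) (BT.leaf (nat_lit 22114065)))) (BT.node (nat_lit 5146368) (BT.node (nat_lit 5146304) (BT.leaf (nat_lit 20133137)) (BT.leaf (nat_lit 22115857))) (BT.node (nat_lit 5146432) (BT.leaf (nat_lit 22116113)) (BT.leaf (nat_lit 20585501))))) (BT.node (nat_lit 5146816) (BT.node (nat_lit 5146688) (BT.node (nat_lit 5146624) (BT.leaf (nat_lit 20133905)) (BT.leaf (nat_lit 20134169))) (BT.node (nat_lit 5146752) (BT.leaf (nat_lit 20134173)) (BT.leaf (nat_lit 22118941)))) (BT.node (nat_lit 5146944) (BT.node (nat_lit 5146880) (BT.leaf (nat_lit 20587549)) (BT.leaf (nat_lit 22119957))) (BT.node (nat_lit 5147136) (BT.leaf (nat_lit 20134673)) (BT.leaf (nat_lit 22122005)))))) (BT.node (nat_lit 5147712) (BT.node (nat_lit 5147456) (BT.node (nat_lit 5147328) (BT.node (nat_lit 5147264) (BT.leaf (nat_lit 20588569)) (BT.leaf (nat_lit 22122769))) (BT.node (nat_lit 5147392) (BT.leaf (nat_lit 22123025)) (BT.leaf (nat_lit 22123801)))) (BT.node (nat_lit 5147584) (BT.node (nat_lit 5147520) (BT.leaf (nat_lit 20136209)) (BT.leaf (nat_lit 22125085))) (BT.node (nat_lit 5147648) (BT.leaf (nat_lit 21829389)) (BT.leaf (nat_lit 20687125))))) (BT.node (nat_lit 5148224) (BT.node (nat_lit 5148096) (BT.node (nat_lit 5147776) (BT.leaf (nat_lit 22126601)) (BT.leaf (nat_lit 22127637))) (BT.node (nat_lit 5148160) (BT.leaf (nat_lit 22130205)) (BT.leaf (nat_lit 22130449)))) (BT.node (nat_lit 5148352) (BT.node (nat_lit 5148288) (BT.leaf (nat_lit 20941601)) (BT.leaf (nat_lit 21443589))) (BT.node (nat_lit 5148416) (BT.leaf (nat_lit 20172825)) (BT.leaf (nat_lit 22132253)))))))))) (BT.node (nat_lit 5160128) (BT.node (nat_lit 5155008) (BT.node (nat_lit 5151808) (BT.node (nat_lit 5150144) (BT.node (nat_lit 5149120) (BT.node (nat_lit 5148736) (BT.node (nat_lit 5148608) (BT.node (nat_lit 5148544) (BT.leaf (nat_lit 20139029)) (BT.leaf (nat_lit 20139273))) (BT.node (nat_lit 5148672) (BT.leaf (nat_lit 21835549)) (BT.leaf (nat_lit 21835529)))) (BT.node (nat_lit 5148992) (BT.node (nat_lit 5148864) (BT.leaf (nat_lit 20323077)) (BT.leaf (nat_lit 20139541))) (BT.node (nat_lit 5149056) (BT.leaf (nat_lit 20140309)) (BT.leaf (nat_lit 22137105))))) (BT.node (nat_lit 5149760) (BT.node (nat_lit 5149376) (BT.node (nat_lit 5149184) (BT.leaf (nat_lit 22137617)) (BT.leaf (nat_lit 51876637))) (BT.node (nat_lit 5149504) (BT.leaf (nat_lit 22140177)) (BT.leaf (nat_lit 21583621)))) (BT.node (nat_lit 5149952) (BT.node (nat_lit 5149888) (BT.leaf (nat_lit 22143249)) (BT.leaf (nat_lit 20142361))) (BT.node (nat_lit 5150080) (BT.leaf (nat_lit 20142365)) (BT.leaf (nat_lit 20142869)))))) (BT.node (nat_lit 5150848) (BT.node (nat_lit 5150464) (BT.node (nat_lit 5150272) (BT.node (nat_lit 5150208) (BT.leaf (nat_lit 20142873)) (BT.leaf (nat_lit 20142877))) (BT.node (nat_lit 5150336) (BT.leaf (nat_lit 20177441)) (BT.leaf (nat_lit 20143125)))) (BT.node (nat_lit 5150592) (BT.node (nat_lit 5150528) (BT.leaf (nat_lit 20143637)) (BT.leaf (nat_lit 22149393))) (BT.node (nat_lit 5150656) (BT.leaf (nat_lit 20602137)) (BT.leaf (nat_lit 35644429))))) (BT.node (nat_lit 5151168) (BT.node (nat_lit 5150976) (BT.node (nat_lit 5150912) (BT.leaf (nat_lit 20144405)) (BT.leaf (nat_lit 22152721))) (BT.node (nat_lit 5151104) (BT.leaf (nat_lit 20144661)) (BT.leaf (nat_lit 22154781)))) (BT.node (nat_lit 5151680) (BT.node (nat_lit 5151616) (BT.leaf (nat_lit 20144917)) (BT.leaf (nat_lit 20168453))) (BT.node (nat_lit 5151744) (BT.leaf (nat_lit 22159133)) (BT.leaf (nat_lit 20145941))))))) (BT.node (nat_lit 5153536) (BT.node (nat_lit 5152512) (BT.node (nat_lit 5152064) (BT.node (nat_lit 5151936) (BT.node (nat_lit 5151872) (BT.leaf (nat_lit 20649477)) (BT.leaf (nat_lit 20146197))) (BT.node (nat_lit 5152000) (BT.leaf (nat_lit 20167709)) (BT.leaf (nat_lit 22162205)))) (BT.node (nat_lit 5152192) (BT.node (nat_lit 5152128) (BT.leaf (nat_lit 20146453)) (BT.leaf (nat_lit 21879045))) (BT.node (nat_lit 5152448) (BT.leaf (nat_lit 20595485)) (BT.leaf (nat_lit 22164765))))) (BT.node (nat_lit 5153152) (BT.node (nat_lit 5152960) (BT.node (nat_lit 5152896) (BT.leaf (nat_lit 21549573)) (BT.leaf (nat_lit 22168597))) (BT.node (nat_lit 5153024) (BT.leaf (nat_lit 20599065)) (BT.leaf (nat_lit 22143001)))) (BT.node (nat_lit 5153344) (BT.node (nat_lit 5153280) (BT.leaf (nat_lit 22169873)) (BT.leaf (nat_lit 20363789))) (BT.node (nat_lit 5153408) (BT.leaf (nat_lit 35725321)) (BT.leaf (nat_lit 20148753)))))) (BT.node (nat_lit 5154368) (BT.node (nat_lit 5154048) (BT.node (nat_lit 5153664) (BT.node (nat_lit 5153600) (BT.leaf (nat_lit 22172181)) (BT.leaf (nat_lit 51799833))) (BT.node (nat_lit 5153920) (BT.leaf (nat_lit 26111513)) (BT.leaf (nat_lit 24941069)))) (BT.node (nat_lit 5154176) (BT.node (nat_lit 5154112) (BT.leaf (nat_lit 22176273)) (BT.leaf (nat_lit 20150545))) (BT.node (nat_lit 5154304) (BT.leaf (nat_lit 22177565)) (BT.leaf (nat_lit 20617501))))) (BT.node (nat_lit 5154752) (BT.node (nat_lit 5154496) (BT.node (nat_lit 5154432) (BT.leaf (nat_lit 20304401)) (BT.leaf (nat_lit 20151825))) (BT.node (nat_lit 5154560) (BT.leaf (nat_lit 22180893)) (BT.leaf (nat_lit 22182177)))) (BT.node (nat_lit 5154880) (BT.node (nat_lit 5154816) (BT.leaf (nat_lit 20320545)) (BT.leaf (nat_lit 20558085))) (BT.node (nat_lit 5154944) (BT.leaf (nat_lit 22184985)) (BT.leaf (nat_lit 37448973)))))))) (BT.node (nat_lit 5157696) (BT.node (nat_lit 5156288) (BT.node (nat_lit 5155584) (BT.node (nat_lit 5155264) (BT.node (nat_lit 5155136) (BT.node (nat_lit 5155072) (BT.leaf (nat_lit 35724293)) (BT.leaf (nat_lit 20153105))) (BT.node (nat_lit 5155200) (BT.leaf (nat_lit 22187037)) (BT.leaf (nat_lit 20153365)))) (BT.node (nat_lit 5155392) (BT.node (nat_lit 5155328) (BT.leaf (nat_lit 22188313)) (BT.leaf (nat_lit 22188573))) (BT.node (nat_lit 5155520) (BT.leaf (nat_lit 22189585)) (BT.leaf (nat_lit 20154141))))) (BT.node (nat_lit 5156032) (BT.node (nat_lit 5155712) (BT.node (nat_lit 5155648) (BT.leaf (nat_lit 22190865)) (BT.leaf (nat_lit 22189589))) (BT.node (nat_lit 5155968) (BT.leaf (nat_lit 20174625)) (BT.leaf (nat_lit 20155153)))) (BT.node (nat_lit 5156160) (BT.node (nat_lit 5156096) (BT.leaf (nat_lit 20155157)) (BT.leaf (nat_lit 22195229))) (BT.node (nat_lit 5156224) (BT.leaf (nat_lit 51325449)) (BT.leaf (nat_lit 27236117)))))) (BT.node (nat_lit 5156992) (BT.node (nat_lit 5156672) (BT.node (nat_lit 5156416) (BT.node (nat_lit 5156352) (BT.leaf (nat_lit 22136861)) (BT.leaf (nat_lit 37616137))) (BT.node (nat_lit 5156608) (BT.leaf (nat_lit 37167385)) (BT.leaf (nat_lit 22199577)))) (BT.node (nat_lit 5156800) (BT.node (nat_lit 5156736) (BT.leaf (nat_lit 20156949)) (BT.leaf (nat_lit 20504597))) (BT.node (nat_lit 5156928) (BT.leaf (nat_lit 21978389)) (BT.leaf (nat_lit 21977621))))) (BT.node (nat_lit 5157376) (BT.node (nat_lit 5157248) (BT.node (nat_lit 5157120) (BT.leaf (nat_lit 22092821)) (BT.leaf (nat_lit 22201873))) (BT.node (nat_lit 5157312) (BT.leaf (nat_lit 22202913)) (BT.leaf (nat_lit 27231753)))) (BT.node (nat_lit 5157504) (BT.node (nat_lit 5157440) (BT.leaf (nat_lit 26850317)) (BT.leaf (nat_lit 27231241))) (BT.node (nat_lit 5157568) (BT.leaf (nat_lit 37667609)) (BT.leaf (nat_lit 21946393))))))) (BT.node (nat_lit 5159104) (BT.node (nat_lit 5158336) (BT.node (nat_lit 5158080) (BT.node (nat_lit 5157824) (BT.node (nat_lit 5157760) (BT.leaf (nat_lit 27231493)) (BT.leaf (nat_lit 20631325))) (BT.node (nat_lit 5157952) (BT.leaf (nat_lit 22206737)) (BT.leaf (nat_lit 22207761)))) (BT.node (nat_lit 5158208) (BT.node (nat_lit 5158144) (BT.leaf (nat_lit 22208529)) (BT.leaf (nat_lit 22209041))) (BT.node (nat_lit 5158272) (BT.leaf (nat_lit 22210073)) (BT.leaf (nat_lit 20160021))))) (BT.node (nat_lit 5158720) (BT.node (nat_lit 5158464) (BT.node (nat_lit 5158400) (BT.leaf (nat_lit 22211097)) (BT.leaf (nat_lit 20160277))) (BT.node (nat_lit 5158592) (BT.leaf (nat_lit 22211857)) (BT.leaf (nat_lit 20160533)))) (BT.node (nat_lit 5158976) (BT.node (nat_lit 5158784) (BT.leaf (nat_lit 22047773)) (BT.leaf (nat_lit 20160789))) (BT.node (nat_lit 5159040) (BT.leaf (nat_lit 22215965)) (BT.leaf (nat_lit 20161301)))))) (BT.node (nat_lit 5159616) (BT.node (nat_lit 5159360) (BT.node (nat_lit 5159232) (BT.node (nat_lit 5159168) (BT.leaf (nat_lit 22217497)) (BT.leaf (nat_lit 20161557))) (BT.node (nat_lit 5159296) (BT.leaf (nat_lit 20161813)) (BT.leaf (nat_lit 20162069)))) (BT.node (nat_lit 5159488) (BT.node (nat_lit 5159424) (BT.leaf (nat_lit 22219281)) (BT.leaf (nat_lit 22219793))) (BT.node (nat_lit 5159552) (BT.leaf (nat_lit 22220825)) (BT.leaf (nat_lit 20162325))))) (BT.node (nat_lit 5159872) (BT.node (nat_lit 5159744) (BT.node (nat_lit 5159680) (BT.leaf (nat_lit 22222105)) (BT.leaf (nat_lit 20162581))) (BT.node (nat_lit 5159808) (BT.leaf (nat_lit 22222865)) (BT.leaf (nat_lit 22223645)))) (BT.node (nat_lit 5160000) (BT.node (nat_lit 5159936) (BT.leaf (nat_lit 20162837)) (BT.leaf (nat_lit 20167705))) (BT.node (nat_lit 5160064) (BT.leaf (nat_lit 22225437)) (BT.leaf (nat_lit 20163093))))))))) (BT.node (nat_lit 5165312) (BT.node (nat_lit 5162304) (BT.node (nat_lit 5161280) (BT.node (nat_lit 5160768) (BT.node (nat_lit 5160448) (BT.node (nat_lit 5160320) (BT.node (nat_lit 5160256) (BT.leaf (nat_lit 22226969)) (BT.leaf (nat_lit 20163601))) (BT.node (nat_lit 5160384) (BT.leaf (nat_lit 20163605)) (BT.leaf (nat_lit 22229529)))) (BT.node (nat_lit 5160576) (BT.node (nat_lit 5160512) (BT.leaf (nat_lit 20163861)) (BT.leaf (nat_lit 20164117))) (BT.node (nat_lit 5160640) (BT.leaf (nat_lit 22231057)) (BT.leaf (nat_lit 20343825))))) (BT.node (nat_lit 5161024) (BT.node (nat_lit 5160896) (BT.node (nat_lit 5160832) (BT.leaf (nat_lit 20164381)) (BT.leaf (nat_lit 20164885))) (BT.node (nat_lit 5160960) (BT.leaf (nat_lit 22233373)) (BT.leaf (nat_lit 20165141)))) (BT.node (nat_lit 5161152) (BT.node (nat_lit 5161088) (BT.leaf (nat_lit 22234397)) (BT.leaf (nat_lit 20165397))) (BT.node (nat_lit 5161216) (BT.leaf (nat_lit 22235677)) (BT.leaf (nat_lit 20165653)))))) (BT.node (nat_lit 5161792) (BT.node (nat_lit 5161536) (BT.node (nat_lit 5161408) (BT.node (nat_lit 5161344) (BT.leaf (nat_lit 20165905)) (BT.leaf (nat_lit 20165909))) (BT.node (nat_lit 5161472) (BT.leaf (nat_lit 20166165)) (BT.leaf (nat_lit 22238233)))) (BT.node (nat_lit 5161664) (BT.node (nat_lit 5161600) (BT.leaf (nat_lit 20166421)) (BT.leaf (nat_lit 20166677))) (BT.node (nat_lit 5161728) (BT.leaf (nat_lit 22239773)) (BT.leaf (nat_lit 20166933))))) (BT.node (nat_lit 5162048) (BT.node (nat_lit 5161920) (BT.node (nat_lit 5161856) (BT.leaf (nat_lit 22241053)) (BT.leaf (nat_lit 20167189))) (BT.node (nat_lit 5161984) (BT.leaf (nat_lit 20167441)) (BT.leaf (nat_lit 20167445)))) (BT.node (nat_lit 5162176) (BT.node (nat_lit 5162112) (BT.leaf (nat_lit 21489681)) (BT.leaf (nat_lit 22243865))) (BT.node (nat_lit 5162240) (BT.leaf (nat_lit 20167957)) (BT.leaf (nat_lit 20168209))))))) (BT.node (nat_lit 5163712) (BT.node (nat_lit 5162944) (BT.node (nat_lit 5162560) (BT.node (nat_lit 5162432) (BT.node (nat_lit 5162368) (BT.leaf (nat_lit 20168213)) (BT.leaf (nat_lit 22246429))) (BT.node (nat_lit 5162496) (BT.leaf (nat_lit 20168469)) (BT.leaf (nat_lit 22247961)))) (BT.node (nat_lit 5162816) (BT.node (nat_lit 5162752) (BT.leaf (nat_lit 20538657)) (BT.leaf (nat_lit 22162201))) (BT.node (nat_lit 5162880) (BT.leaf (nat_lit 20169237)) (BT.leaf (nat_lit 20169489))))) (BT.node (nat_lit 5163264) (BT.node (nat_lit 5163072) (BT.node (nat_lit 5163008) (BT.leaf (nat_lit 20169493)) (BT.leaf (nat_lit 22251037))) (BT.node (nat_lit 5163136) (BT.leaf (nat_lit 51561737)) (BT.leaf (nat_lit 36966681)))) (BT.node (nat_lit 5163392) (BT.node (nat_lit 5163328) (BT.leaf (nat_lit 21536033)) (BT.leaf (nat_lit 20588553))) (BT.node (nat_lit 5163648) (BT.leaf (nat_lit 20653337)) (BT.leaf (nat_lit 22255381)))))) (BT.node (nat_lit 5164544) (BT.node (nat_lit 5164160) (BT.node (nat_lit 5163968) (BT.node (nat_lit 5163776) (BT.leaf (nat_lit 22256149)) (BT.leaf (nat_lit 22256913))) (BT.node (nat_lit 5164096) (BT.leaf (nat_lit 22258965)) (BT.leaf (nat_lit 22259985)))) (BT.node (nat_lit 5164352) (BT.node (nat_lit 5164288) (BT.leaf (nat_lit 20172057)) (BT.leaf (nat_lit 22261265))) (BT.node (nat_lit 5164480) (BT.leaf (nat_lit 22261261)) (BT.leaf (nat_lit 22263569))))) (BT.node (nat_lit 5164800) (BT.node (nat_lit 5164672) (BT.node (nat_lit 5164608) (BT.leaf (nat_lit 22263565)) (BT.leaf (nat_lit 22264857))) (BT.node (nat_lit 5164736) (BT.leaf (nat_lit 20173077)) (BT.leaf (nat_lit 20173333)))) (BT.node (nat_lit 5165120) (BT.node (nat_lit 5165056) (BT.leaf (nat_lit 22266641)) (BT.leaf (nat_lit 20173837))) (BT.node (nat_lit 5165248) (BT.leaf (nat_lit 22269205)) (BT.leaf (nat_lit 20173857)))))))) (BT.node (nat_lit 5167552) (BT.node (nat_lit 5166336) (BT.node (nat_lit 5165824) (BT.node (nat_lit 5165568) (BT.node (nat_lit 5165440) (BT.node (nat_lit 5165376) (BT.leaf (nat_lit 22270749)) (BT.leaf (nat_lit 20174101))) (BT.node (nat_lit 5165504) (BT.leaf (nat_lit 22272281)) (BT.leaf (nat_lit 20174357)))) (BT.node (nat_lit 5165696) (BT.node (nat_lit 5165632) (BT.leaf (nat_lit 20662041)) (BT.leaf (nat_lit 22272537))) (BT.node (nat_lit 5165760) (BT.leaf (nat_lit 20663069)) (BT.leaf (nat_lit 20662029))))) (BT.node (nat_lit 5166080) (BT.node (nat_lit 5165952) (BT.node (nat_lit 5165888) (BT.leaf (nat_lit 22274077)) (BT.leaf (nat_lit 20174869))) (BT.node (nat_lit 5166016) (BT.leaf (nat_lit 22275609)) (BT.leaf (nat_lit 20175125)))) (BT.node (nat_lit 5166208) (BT.node (nat_lit 5166144) (BT.leaf (nat_lit 20175381)) (BT.leaf (nat_lit 22277393))) (BT.node (nat_lit 5166272) (BT.leaf (nat_lit 22278161)) (BT.leaf (nat_lit 20175633)))))) (BT.node (nat_lit 5166912) (BT.node (nat_lit 5166592) (BT.node (nat_lit 5166464) (BT.node (nat_lit 5166400) (BT.leaf (nat_lit 20175893)) (BT.leaf (nat_lit 20175897))) (BT.node (nat_lit 5166528) (BT.leaf (nat_lit 20497925)) (BT.leaf (nat_lit 20620829)))) (BT.node (nat_lit 5166720) (BT.node (nat_lit 5166656) (BT.leaf (nat_lit 20176145)) (BT.leaf (nat_lit 20176405))) (BT.node (nat_lit 5166848) (BT.leaf (nat_lit 22283793)) (BT.leaf (nat_lit 20176657))))) (BT.node (nat_lit 5167232) (BT.node (nat_lit 5167104) (BT.node (nat_lit 5167040) (BT.leaf (nat_lit 20176917)) (BT.leaf (nat_lit 22287121))) (BT.node (nat_lit 5167168) (BT.leaf (nat_lit 20177169)) (BT.leaf (nat_lit 37669141)))) (BT.node (nat_lit 5167424) (BT.node (nat_lit 5167296) (BT.leaf (nat_lit 27231257)) (BT.leaf (nat_lit 26881553))) (BT.node (nat_lit 5167488) (BT.leaf (nat_lit 22289937)) (BT.leaf (nat_lit 20669721))))))) (BT.node (nat_lit 5168960) (BT.node (nat_lit 5168448) (BT.node (nat_lit 5168192) (BT.node (nat_lit 5167808) (BT.node (nat_lit 5167616) (BT.leaf (nat_lit 20281633)) (BT.leaf (nat_lit 25304069))) (BT.node (nat_lit 5168128) (BT.leaf (nat_lit 20178461)) (BT.leaf (nat_lit 26974993)))) (BT.node (nat_lit 5168320) (BT.node (nat_lit 5168256) (BT.leaf (nat_lit 20327185)) (BT.leaf (nat_lit 24897553))) (BT.node (nat_lit 5168384) (BT.leaf (nat_lit 24897557)) (BT.leaf (nat_lit 21093653))))) (BT.node (nat_lit 5168704) (BT.node (nat_lit 5168576) (BT.node (nat_lit 5168512) (BT.leaf (nat_lit 20497413)) (BT.leaf (nat_lit 20187161))) (BT.node (nat_lit 5168640) (BT.leaf (nat_lit 24900121)) (BT.leaf (nat_lit 21287709)))) (BT.node (nat_lit 5168832) (BT.node (nat_lit 5168768) (BT.leaf (nat_lit 51957785)) (BT.leaf (nat_lit 20359697))) (BT.node (nat_lit 5168896) (BT.leaf (nat_lit 20720909)) (BT.leaf (nat_lit 36826393)))))) (BT.node (nat_lit 5169472) (BT.node (nat_lit 5169216) (BT.node (nat_lit 5169088) (BT.node (nat_lit 5169024) (BT.leaf (nat_lit 52434717)) (BT.leaf (nat_lit 52434973))) (BT.node (nat_lit 5169152) (BT.leaf (nat_lit 51395357)) (BT.leaf (nat_lit 21153809)))) (BT.node (nat_lit 5169344) (BT.node (nat_lit 5169280) (BT.leaf (nat_lit 21132833)) (BT.leaf (nat_lit 24903193))) (BT.node (nat_lit 5169408) (BT.leaf (nat_lit 21783325)) (BT.leaf (nat_lit 24903697))))) (BT.node (nat_lit 5169728) (BT.node (nat_lit 5169600) (BT.node (nat_lit 5169536) (BT.leaf (nat_lit 35953433)) (BT.leaf (nat_lit 35953437))) (BT.node (nat_lit 5169664) (BT.leaf (nat_lit 24904209)) (BT.leaf (nat_lit 21534745)))) (BT.node (nat_lit 5169856) (BT.node (nat_lit 5169792) (BT.leaf (nat_lit 21534733)) (BT.leaf (nat_lit 20816137))) (BT.node (nat_lit 5169920) (BT.leaf (nat_lit 25496837)) (BT.leaf (nat_lit 24905761)))))))))))))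
noncomputable def big0_e18432 : BT Nat := (BT.node (nat_lit 5235520) (BT.node (nat_lit 5202752) (BT.node (nat_lit 5186368) (BT.node (nat_lit 5178176) (BT.node (nat_lit 5174080) (BT.node (nat_lit 5172032) (BT.node (nat_lit 5171008) (BT.node (nat_lit 5170496) (BT.node (nat_lit 5170240) (BT.node (nat_lit 5170112) (BT.node (nat_lit 5170048) (BT.leaf (nat_lit 20229913)) (BT.leaf (nat_lit 20229917))) (BT.node (nat_lit 5170176) (BT.leaf (nat_lit 20319509)) (BT.leaf (nat_lit 50986529)))) (BT.node (nat_lit 5170368) (BT.node (nat_lit 5170304) (BT.leaf (nat_lit 20333089)) (BT.leaf (nat_lit 20205321))) (BT.node (nat_lit 5170432) (BT.leaf (nat_lit 24909073)) (BT.leaf (nat_lit 24909077))))) (BT.node (nat_lit 5170752) (BT.node (nat_lit 5170624) (BT.node (nat_lit 5170560) (BT.leaf (nat_lit 25825813)) (BT.leaf (nat_lit 37039365))) (BT.node (nat_lit 5170688) (BT.leaf (nat_lit 20234249)) (BT.leaf (nat_lit 20181777)))) (BT.node (nat_lit 5170880) (BT.node (nat_lit 5170816) (BT.leaf (nat_lit 24911133)) (BT.leaf (nat_lit 20454677))) (BT.node (nat_lit 5170944) (BT.leaf (nat_lit 22318865)) (BT.leaf (nat_lit 20300573)))))) (BT.node (nat_lit 5171520) (BT.node (nat_lit 5171264) (BT.node (nat_lit 5171136) (BT.node (nat_lit 5171072) (BT.leaf (nat_lit 20847381)) (BT.leaf (nat_lit 20434693))) (BT.node (nat_lit 5171200) (BT.leaf (nat_lit 20734497)) (BT.leaf (nat_lit 20188945)))) (BT.node (nat_lit 5171392) (BT.node (nat_lit 5171328) (BT.leaf (nat_lit 24913425)) (BT.leaf (nat_lit 24913429))) (BT.node (nat_lit 5171456) (BT.leaf (nat_lit 24914969)) (BT.leaf (nat_lit 24915485))))) (BT.node (nat_lit 5171776) (BT.node (nat_lit 5171648) (BT.node (nat_lit 5171584) (BT.leaf (nat_lit 21231645)) (BT.leaf (nat_lit 20686621))) (BT.node (nat_lit 5171712) (BT.leaf (nat_lit 24916241)) (BT.leaf (nat_lit 24916485)))) (BT.node (nat_lit 5171904) (BT.node (nat_lit 5171840) (BT.leaf (nat_lit 20686873)) (BT.leaf (nat_lit 20917781))) (BT.node (nat_lit 5171968) (BT.leaf (nat_lit 21572105)) (BT.leaf (nat_lit 20687641))))))) (BT.node (nat_lit 5173056) (BT.node (nat_lit 5172544) (BT.node (nat_lit 5172288) (BT.node (nat_lit 5172160) (BT.node (nat_lit 5172096) (BT.leaf (nat_lit 21743113)) (BT.leaf (nat_lit 36812297))) (BT.node (nat_lit 5172224) (BT.leaf (nat_lit 24918293)) (BT.leaf (nat_lit 21565961)))) (BT.node (nat_lit 5172416) (BT.node (nat_lit 5172352) (BT.leaf (nat_lit 20711965)) (BT.leaf (nat_lit 20772385))) (BT.node (nat_lit 5172480) (BT.leaf (nat_lit 21824773)) (BT.leaf (nat_lit 24921113))))) (BT.node (nat_lit 5172800) (BT.node (nat_lit 5172672) (BT.node (nat_lit 5172608) (BT.leaf (nat_lit 21611289)) (BT.leaf (nat_lit 21098513))) (BT.node (nat_lit 5172736) (BT.leaf (nat_lit 21146141)) (BT.leaf (nat_lit 20691229)))) (BT.node (nat_lit 5172928) (BT.node (nat_lit 5172864) (BT.leaf (nat_lit 20346373)) (BT.leaf (nat_lit 21989149))) (BT.node (nat_lit 5172992) (BT.leaf (nat_lit 20798985)) (BT.leaf (nat_lit 22647061)))))) (BT.node (nat_lit 5173568) (BT.node (nat_lit 5173312) (BT.node (nat_lit 5173184) (BT.node (nat_lit 5173120) (BT.leaf (nat_lit 35724321)) (BT.leaf (nat_lit 20840737))) (BT.node (nat_lit 5173248) (BT.leaf (nat_lit 20209425)) (BT.leaf (nat_lit 20192541)))) (BT.node (nat_lit 5173440) (BT.node (nat_lit 5173376) (BT.leaf (nat_lit 24922389)) (BT.leaf (nat_lit 24922373))) (BT.node (nat_lit 5173504) (BT.leaf (nat_lit 20259865)) (BT.leaf (nat_lit 25088517))))) (BT.node (nat_lit 5173824) (BT.node (nat_lit 5173696) (BT.node (nat_lit 5173632) (BT.leaf (nat_lit 22041873)) (BT.leaf (nat_lit 20273681))) (BT.node (nat_lit 5173760) (BT.leaf (nat_lit 21259537)) (BT.leaf (nat_lit 21036317)))) (BT.node (nat_lit 5173952) (BT.node (nat_lit 5173888) (BT.leaf (nat_lit 20279309)) (BT.leaf (nat_lit 20279305))) (BT.node (nat_lit 5174016) (BT.leaf (nat_lit 20279321)) (BT.leaf (nat_lit 20279325)))))))) (BT.node (nat_lit 5176128) (BT.node (nat_lit 5175104) (BT.node (nat_lit 5174592) (BT.node (nat_lit 5174336) (BT.node (nat_lit 5174208) (BT.node (nat_lit 5174144) (BT.leaf (nat_lit 20543257)) (BT.leaf (nat_lit 20468997))) (BT.node (nat_lit 5174272) (BT.leaf (nat_lit 20543245)) (BT.leaf (nat_lit 51179037)))) (BT.node (nat_lit 5174464) (BT.node (nat_lit 5174400) (BT.leaf (nat_lit 24924945)) (BT.leaf (nat_lit 20561937))) (BT.node (nat_lit 5174528) (BT.leaf (nat_lit 36131105)) (BT.leaf (nat_lit 20812061))))) (BT.node (nat_lit 5174848) (BT.node (nat_lit 5174720) (BT.node (nat_lit 5174656) (BT.leaf (nat_lit 20516117)) (BT.leaf (nat_lit 25088533))) (BT.node (nat_lit 5174784) (BT.leaf (nat_lit 20816149)) (BT.leaf (nat_lit 26881545)))) (BT.node (nat_lit 5174976) (BT.node (nat_lit 5174912) (BT.leaf (nat_lit 24927249)) (BT.leaf (nat_lit 24927505))) (BT.node (nat_lit 5175040) (BT.leaf (nat_lit 20179229)) (BT.leaf (nat_lit 24928029)))))) (BT.node (nat_lit 5175616) (BT.node (nat_lit 5175360) (BT.node (nat_lit 5175232) (BT.node (nat_lit 5175168) (BT.leaf (nat_lit 24928801)) (BT.leaf (nat_lit 20700957))) (BT.node (nat_lit 5175296) (BT.leaf (nat_lit 24929813)) (BT.leaf (nat_lit 20652053)))) (BT.node (nat_lit 5175488) (BT.node (nat_lit 5175424) (BT.leaf (nat_lit 20189457)) (BT.leaf (nat_lit 20343841))) (BT.node (nat_lit 5175552) (BT.leaf (nat_lit 21175585)) (BT.leaf (nat_lit 20767265))))) (BT.node (nat_lit 5175872) (BT.node (nat_lit 5175744) (BT.node (nat_lit 5175680) (BT.leaf (nat_lit 24931353)) (BT.leaf (nat_lit 21582109))) (BT.node (nat_lit 5175808) (BT.leaf (nat_lit 20457761)) (BT.leaf (nat_lit 20473121)))) (BT.node (nat_lit 5176000) (BT.node (nat_lit 5175936) (BT.leaf (nat_lit 35861521)) (BT.leaf (nat_lit 20279837))) (BT.node (nat_lit 5176064) (BT.leaf (nat_lit 20279817)) (BT.leaf (nat_lit 24933913))))))) (BT.node (nat_lit 5177152) (BT.node (nat_lit 5176640) (BT.node (nat_lit 5176384) (BT.node (nat_lit 5176256) (BT.node (nat_lit 5176192) (BT.leaf (nat_lit 24933393)) (BT.leaf (nat_lit 20601357))) (BT.node (nat_lit 5176320) (BT.leaf (nat_lit 20192789)) (BT.leaf (nat_lit 21458461)))) (BT.node (nat_lit 5176512) (BT.node (nat_lit 5176448) (BT.leaf (nat_lit 20521497)) (BT.leaf (nat_lit 24934173))) (BT.node (nat_lit 5176576) (BT.leaf (nat_lit 21025309)) (BT.leaf (nat_lit 21025289))))) (BT.node (nat_lit 5176896) (BT.node (nat_lit 5176768) (BT.node (nat_lit 5176704) (BT.leaf (nat_lit 20706329)) (BT.leaf (nat_lit 24936213))) (BT.node (nat_lit 5176832) (BT.leaf (nat_lit 52238349)) (BT.leaf (nat_lit 20902417)))) (BT.node (nat_lit 5177024) (BT.node (nat_lit 5176960) (BT.leaf (nat_lit 20845065)) (BT.leaf (nat_lit 21132313))) (BT.node (nat_lit 5177088) (BT.leaf (nat_lit 22376993)) (BT.leaf (nat_lit 22377749)))))) (BT.node (nat_lit 5177664) (BT.node (nat_lit 5177408) (BT.node (nat_lit 5177280) (BT.node (nat_lit 5177216) (BT.leaf (nat_lit 20806149)) (BT.leaf (nat_lit 21947909))) (BT.node (nat_lit 5177344) (BT.leaf (nat_lit 21593877)) (BT.leaf (nat_lit 20494365)))) (BT.node (nat_lit 5177536) (BT.node (nat_lit 5177472) (BT.leaf (nat_lit 22322961)) (BT.leaf (nat_lit 20493341))) (BT.node (nat_lit 5177600) (BT.leaf (nat_lit 24939029)) (BT.leaf (nat_lit 24940305))))) (BT.node (nat_lit 5177920) (BT.node (nat_lit 5177792) (BT.node (nat_lit 5177728) (BT.leaf (nat_lit 21280797)) (BT.leaf (nat_lit 24941337))) (BT.node (nat_lit 5177856) (BT.leaf (nat_lit 22385941)) (BT.leaf (nat_lit 21259553)))) (BT.node (nat_lit 5178048) (BT.node (nat_lit 5177984) (BT.leaf (nat_lit 24942621)) (BT.leaf (nat_lit 24943637))) (BT.node (nat_lit 5178112) (BT.leaf (nat_lit 20711961)) (BT.leaf (nat_lit 24945177))))))))) (BT.node (nat_lit 5182272) (BT.node (nat_lit 5180224) (BT.node (nat_lit 5179200) (BT.node (nat_lit 5178688) (BT.node (nat_lit 5178432) (BT.node (nat_lit 5178304) (BT.node (nat_lit 5178240) (BT.leaf (nat_lit 20712989)) (BT.leaf (nat_lit 24946193))) (BT.node (nat_lit 5178368) (BT.leaf (nat_lit 20846357)) (BT.leaf (nat_lit 20277265)))) (BT.node (nat_lit 5178560) (BT.node (nat_lit 5178496) (BT.leaf (nat_lit 24898325)) (BT.leaf (nat_lit 24947729))) (BT.node (nat_lit 5178624) (BT.leaf (nat_lit 24947733)) (BT.leaf (nat_lit 20914949))))) (BT.node (nat_lit 5178944) (BT.node (nat_lit 5178816) (BT.node (nat_lit 5178752) (BT.leaf (nat_lit 21345033)) (BT.leaf (nat_lit 22597637))) (BT.node (nat_lit 5178880) (BT.leaf (nat_lit 22405125)) (BT.leaf (nat_lit 21354773)))) (BT.node (nat_lit 5179072) (BT.node (nat_lit 5179008) (BT.leaf (nat_lit 21355269)) (BT.leaf (nat_lit 20454933))) (BT.node (nat_lit 5179136) (BT.leaf (nat_lit 20454149)) (BT.leaf (nat_lit 20715533)))))) (BT.node (nat_lit 5179712) (BT.node (nat_lit 5179456) (BT.node (nat_lit 5179328) (BT.node (nat_lit 5179264) (BT.leaf (nat_lit 35447585)) (BT.leaf (nat_lit 21051169))) (BT.node (nat_lit 5179392) (BT.leaf (nat_lit 21233953)) (BT.leaf (nat_lit 22376213)))) (BT.node (nat_lit 5179584) (BT.node (nat_lit 5179520) (BT.leaf (nat_lit 24951573)) (BT.leaf (nat_lit 24951829))) (BT.node (nat_lit 5179648) (BT.leaf (nat_lit 24952085)) (BT.leaf (nat_lit 51890965))))) (BT.node (nat_lit 5179968) (BT.node (nat_lit 5179840) (BT.node (nat_lit 5179776) (BT.leaf (nat_lit 25407241)) (BT.leaf (nat_lit 37511453))) (BT.node (nat_lit 5179904) (BT.leaf (nat_lit 24953621)) (BT.leaf (nat_lit 24953877)))) (BT.node (nat_lit 5180096) (BT.node (nat_lit 5180032) (BT.leaf (nat_lit 51891989)) (BT.leaf (nat_lit 24954389))) (BT.node (nat_lit 5180160) (BT.leaf (nat_lit 35490073)) (BT.leaf (nat_lit 20840729))))))) (BT.node (nat_lit 5181248) (BT.node (nat_lit 5180736) (BT.node (nat_lit 5180480) (BT.node (nat_lit 5180352) (BT.node (nat_lit 5180288) (BT.leaf (nat_lit 20670229)) (BT.leaf (nat_lit 20714253))) (BT.node (nat_lit 5180416) (BT.leaf (nat_lit 24955165)) (BT.leaf (nat_lit 20988433)))) (BT.node (nat_lit 5180608) (BT.node (nat_lit 5180544) (BT.leaf (nat_lit 24956185)) (BT.leaf (nat_lit 21829665))) (BT.node (nat_lit 5180672) (BT.leaf (nat_lit 21829409)) (BT.leaf (nat_lit 20196881))))) (BT.node (nat_lit 5180992) (BT.node (nat_lit 5180864) (BT.node (nat_lit 5180800) (BT.leaf (nat_lit 33656865)) (BT.leaf (nat_lit 20327705))) (BT.node (nat_lit 5180928) (BT.leaf (nat_lit 20327709)) (BT.leaf (nat_lit 21573153)))) (BT.node (nat_lit 5181120) (BT.node (nat_lit 5181056) (BT.leaf (nat_lit 24956173)) (BT.leaf (nat_lit 24957457))) (BT.node (nat_lit 5181184) (BT.leaf (nat_lit 24957713)) (BT.leaf (nat_lit 37658377)))))) (BT.node (nat_lit 5181760) (BT.node (nat_lit 5181504) (BT.node (nat_lit 5181376) (BT.node (nat_lit 5181312) (BT.leaf (nat_lit 24958481)) (BT.leaf (nat_lit 20725017))) (BT.node (nat_lit 5181440) (BT.leaf (nat_lit 21829921)) (BT.leaf (nat_lit 24959769)))) (BT.node (nat_lit 5181632) (BT.node (nat_lit 5181568) (BT.leaf (nat_lit 20695585)) (BT.leaf (nat_lit 20695329))) (BT.node (nat_lit 5181696) (BT.leaf (nat_lit 20696097)) (BT.leaf (nat_lit 20695841))))) (BT.node (nat_lit 5182016) (BT.node (nat_lit 5181888) (BT.node (nat_lit 5181824) (BT.leaf (nat_lit 20301589)) (BT.leaf (nat_lit 24961041))) (BT.node (nat_lit 5181952) (BT.leaf (nat_lit 24961813)) (BT.leaf (nat_lit 24962313)))) (BT.node (nat_lit 5182144) (BT.node (nat_lit 5182080) (BT.leaf (nat_lit 24963093)) (BT.leaf (nat_lit 20726549))) (BT.node (nat_lit 5182208) (BT.leaf (nat_lit 24963857)) (BT.leaf (nat_lit 24964885)))))))) (BT.node (nat_lit 5184320) (BT.node (nat_lit 5183296) (BT.node (nat_lit 5182784) (BT.node (nat_lit 5182528) (BT.node (nat_lit 5182400) (BT.node (nat_lit 5182336) (BT.leaf (nat_lit 20713225)) (BT.leaf (nat_lit 24965397))) (BT.node (nat_lit 5182464) (BT.leaf (nat_lit 24965381)) (BT.leaf (nat_lit 24967457)))) (BT.node (nat_lit 5182656) (BT.node (nat_lit 5182592) (BT.leaf (nat_lit 21570317)) (BT.leaf (nat_lit 24968213))) (BT.node (nat_lit 5182720) (BT.leaf (nat_lit 24968473)) (BT.leaf (nat_lit 20533257))))) (BT.node (nat_lit 5183040) (BT.node (nat_lit 5182912) (BT.node (nat_lit 5182848) (BT.leaf (nat_lit 20658717)) (BT.leaf (nat_lit 51246865))) (BT.node (nat_lit 5182976) (BT.leaf (nat_lit 22230805)) (BT.leaf (nat_lit 24969497)))) (BT.node (nat_lit 5183168) (BT.node (nat_lit 5183104) (BT.leaf (nat_lit 24970005)) (BT.leaf (nat_lit 20210721))) (BT.node (nat_lit 5183232) (BT.leaf (nat_lit 25234965)) (BT.leaf (nat_lit 25233925)))))) (BT.node (nat_lit 5183808) (BT.node (nat_lit 5183552) (BT.node (nat_lit 5183424) (BT.node (nat_lit 5183360) (BT.leaf (nat_lit 52406801)) (BT.leaf (nat_lit 21200133))) (BT.node (nat_lit 5183488) (BT.leaf (nat_lit 21877537)) (BT.leaf (nat_lit 21146657)))) (BT.node (nat_lit 5183680) (BT.node (nat_lit 5183616) (BT.leaf (nat_lit 24973081)) (BT.leaf (nat_lit 22106629))) (BT.node (nat_lit 5183744) (BT.leaf (nat_lit 24974101)) (BT.leaf (nat_lit 24973593))))) (BT.node (nat_lit 5184064) (BT.node (nat_lit 5183936) (BT.node (nat_lit 5183872) (BT.leaf (nat_lit 24974109)) (BT.leaf (nat_lit 24975125))) (BT.node (nat_lit 5184000) (BT.leaf (nat_lit 21949985)) (BT.leaf (nat_lit 24976153)))) (BT.node (nat_lit 5184192) (BT.node (nat_lit 5184128) (BT.leaf (nat_lit 20736541)) (BT.leaf (nat_lit 22246673))) (BT.node (nat_lit 5184256) (BT.leaf (nat_lit 20727561)) (BT.leaf (nat_lit 20727565))))))) (BT.node (nat_lit 5185344) (BT.node (nat_lit 5184832) (BT.node (nat_lit 5184576) (BT.node (nat_lit 5184448) (BT.node (nat_lit 5184384) (BT.leaf (nat_lit 20318497)) (BT.leaf (nat_lit 21700101))) (BT.node (nat_lit 5184512) (BT.leaf (nat_lit 22449669)) (BT.leaf (nat_lit 20204577)))) (BT.node (nat_lit 5184704) (BT.node (nat_lit 5184640) (BT.leaf (nat_lit 21035553)) (BT.leaf (nat_lit 21778453))) (BT.node (nat_lit 5184768) (BT.leaf (nat_lit 50864645)) (BT.leaf (nat_lit 21030169))))) (BT.node (nat_lit 5185088) (BT.node (nat_lit 5184960) (BT.node (nat_lit 5184896) (BT.leaf (nat_lit 20737053)) (BT.leaf (nat_lit 24978449))) (BT.node (nat_lit 5185024) (BT.leaf (nat_lit 21007381)) (BT.leaf (nat_lit 22399509)))) (BT.node (nat_lit 5185216) (BT.node (nat_lit 5185152) (BT.leaf (nat_lit 20472865)) (BT.leaf (nat_lit 24980501))) (BT.node (nat_lit 5185280) (BT.leaf (nat_lit 21012757)) (BT.leaf (nat_lit 24981265)))))) (BT.node (nat_lit 5185856) (BT.node (nat_lit 5185600) (BT.node (nat_lit 5185472) (BT.node (nat_lit 5185408) (BT.leaf (nat_lit 20797473)) (BT.leaf (nat_lit 22466337))) (BT.node (nat_lit 5185536) (BT.leaf (nat_lit 20775713)) (BT.leaf (nat_lit 22467105)))) (BT.node (nat_lit 5185728) (BT.node (nat_lit 5185664) (BT.leaf (nat_lit 22466849)) (BT.leaf (nat_lit 20211989))) (BT.node (nat_lit 5185792) (BT.leaf (nat_lit 23303969)) (BT.leaf (nat_lit 24984337))))) (BT.node (nat_lit 5186112) (BT.node (nat_lit 5185984) (BT.node (nat_lit 5185920) (BT.leaf (nat_lit 20466453)) (BT.leaf (nat_lit 20205325))) (BT.node (nat_lit 5186048) (BT.leaf (nat_lit 24955925)) (BT.leaf (nat_lit 21252385)))) (BT.node (nat_lit 5186240) (BT.node (nat_lit 5186176) (BT.leaf (nat_lit 21336837)) (BT.leaf (nat_lit 23203865))) (BT.node (nat_lit 5186304) (BT.leaf (nat_lit 21425441)) (BT.leaf (nat_lit 21219333)))))))))) (BT.node (nat_lit 5194560) (BT.node (nat_lit 5190464) (BT.node (nat_lit 5188416) (BT.node (nat_lit 5187392) (BT.node (nat_lit 5186880) (BT.node (nat_lit 5186624) (BT.node (nat_lit 5186496) (BT.node (nat_lit 5186432) (BT.leaf (nat_lit 50038049)) (BT.leaf (nat_lit 21928965))) (BT.node (nat_lit 5186560) (BT.leaf (nat_lit 24987929)) (BT.leaf (nat_lit 20386081)))) (BT.node (nat_lit 5186752) (BT.node (nat_lit 5186688) (BT.leaf (nat_lit 34548769)) (BT.leaf (nat_lit 21534753))) (BT.node (nat_lit 5186816) (BT.leaf (nat_lit 24988933)) (BT.leaf (nat_lit 21534729))))) (BT.node (nat_lit 5187136) (BT.node (nat_lit 5187008) (BT.node (nat_lit 5186944) (BT.leaf (nat_lit 24989709)) (BT.leaf (nat_lit 20333069))) (BT.node (nat_lit 5187072) (BT.leaf (nat_lit 24991253)) (BT.leaf (nat_lit 20207137)))) (BT.node (nat_lit 5187264) (BT.node (nat_lit 5187200) (BT.leaf (nat_lit 21039393)) (BT.leaf (nat_lit 21076257))) (BT.node (nat_lit 5187328) (BT.leaf (nat_lit 20337941)) (BT.leaf (nat_lit 21715745)))))) (BT.node (nat_lit 5187904) (BT.node (nat_lit 5187648) (BT.node (nat_lit 5187520) (BT.node (nat_lit 5187456) (BT.leaf (nat_lit 24994077)) (BT.leaf (nat_lit 20416017))) (BT.node (nat_lit 5187584) (BT.leaf (nat_lit 20207633)) (BT.leaf (nat_lit 20181265)))) (BT.node (nat_lit 5187776) (BT.node (nat_lit 5187712) (BT.leaf (nat_lit 20207377)) (BT.leaf (nat_lit 20471073))) (BT.node (nat_lit 5187840) (BT.leaf (nat_lit 20786209)) (BT.leaf (nat_lit 21088277))))) (BT.node (nat_lit 5188160) (BT.node (nat_lit 5188032) (BT.node (nat_lit 5187968) (BT.leaf (nat_lit 25053973)) (BT.leaf (nat_lit 20716805))) (BT.node (nat_lit 5188096) (BT.leaf (nat_lit 20839201)) (BT.leaf (nat_lit 20349969)))) (BT.node (nat_lit 5188288) (BT.node (nat_lit 5188224) (BT.leaf (nat_lit 20752925)) (BT.leaf (nat_lit 24998421))) (BT.node (nat_lit 5188352) (BT.leaf (nat_lit 21559065)) (BT.leaf (nat_lit 24998945))))))) (BT.node (nat_lit 5189440) (BT.node (nat_lit 5188928) (BT.node (nat_lit 5188672) (BT.node (nat_lit 5188544) (BT.node (nat_lit 5188480) (BT.leaf (nat_lit 20682249)) (BT.leaf (nat_lit 36826117))) (BT.node (nat_lit 5188608) (BT.leaf (nat_lit 21559837)) (BT.leaf (nat_lit 52204317)))) (BT.node (nat_lit 5188800) (BT.node (nat_lit 5188736) (BT.leaf (nat_lit 20790305)) (BT.leaf (nat_lit 22509317))) (BT.node (nat_lit 5188864) (BT.leaf (nat_lit 25002013)) (BT.leaf (nat_lit 22506257))))) (BT.node (nat_lit 5189184) (BT.node (nat_lit 5189056) (BT.node (nat_lit 5188992) (BT.leaf (nat_lit 25003545)) (BT.leaf (nat_lit 20587529))) (BT.node (nat_lit 5189120) (BT.leaf (nat_lit 36597521)) (BT.leaf (nat_lit 21341977)))) (BT.node (nat_lit 5189312) (BT.node (nat_lit 5189248) (BT.leaf (nat_lit 20527877)) (BT.leaf (nat_lit 20527885))) (BT.node (nat_lit 5189376) (BT.leaf (nat_lit 20209685)) (BT.leaf (nat_lit 20527897)))))) (BT.node (nat_lit 5189952) (BT.node (nat_lit 5189696) (BT.node (nat_lit 5189568) (BT.node (nat_lit 5189504) (BT.leaf (nat_lit 20527901)) (BT.leaf (nat_lit 20527905))) (BT.node (nat_lit 5189632) (BT.leaf (nat_lit 20209693)) (BT.leaf (nat_lit 25206037)))) (BT.node (nat_lit 5189824) (BT.node (nat_lit 5189760) (BT.leaf (nat_lit 25206049)) (BT.leaf (nat_lit 25007889))) (BT.node (nat_lit 5189888) (BT.leaf (nat_lit 20210449)) (BT.leaf (nat_lit 25009681))))) (BT.node (nat_lit 5190208) (BT.node (nat_lit 5190080) (BT.node (nat_lit 5190016) (BT.leaf (nat_lit 25009685)) (BT.leaf (nat_lit 25011485))) (BT.node (nat_lit 5190144) (BT.leaf (nat_lit 20765461)) (BT.leaf (nat_lit 25013269)))) (BT.node (nat_lit 5190336) (BT.node (nat_lit 5190272) (BT.leaf (nat_lit 20680965)) (BT.leaf (nat_lit 21554185))) (BT.node (nat_lit 5190400) (BT.leaf (nat_lit 20467221)) (BT.leaf (nat_lit 20666117)))))))) (BT.node (nat_lit 5192512) (BT.node (nat_lit 5191488) (BT.node (nat_lit 5190976) (BT.node (nat_lit 5190720) (BT.node (nat_lit 5190592) (BT.node (nat_lit 5190528) (BT.leaf (nat_lit 26881569)) (BT.leaf (nat_lit 20875013))) (BT.node (nat_lit 5190656) (BT.leaf (nat_lit 25014801)) (BT.leaf (nat_lit 20875525)))) (BT.node (nat_lit 5190848) (BT.node (nat_lit 5190784) (BT.leaf (nat_lit 25015325)) (BT.leaf (nat_lit 25015841))) (BT.node (nat_lit 5190912) (BT.leaf (nat_lit 25016081)) (BT.leaf (nat_lit 25017121))))) (BT.node (nat_lit 5191232) (BT.node (nat_lit 5191104) (BT.node (nat_lit 5191040) (BT.leaf (nat_lit 21981205)) (BT.leaf (nat_lit 25017617))) (BT.node (nat_lit 5191168) (BT.leaf (nat_lit 21123601)) (BT.leaf (nat_lit 23343113)))) (BT.node (nat_lit 5191360) (BT.node (nat_lit 5191296) (BT.leaf (nat_lit 52284677)) (BT.leaf (nat_lit 20683297))) (BT.node (nat_lit 5191424) (BT.leaf (nat_lit 20247825)) (BT.leaf (nat_lit 20992789)))))) (BT.node (nat_lit 5192000) (BT.node (nat_lit 5191744) (BT.node (nat_lit 5191616) (BT.node (nat_lit 5191552) (BT.leaf (nat_lit 50304009)) (BT.leaf (nat_lit 25020177))) (BT.node (nat_lit 5191680) (BT.leaf (nat_lit 50828313)) (BT.leaf (nat_lit 20426765)))) (BT.node (nat_lit 5191872) (BT.node (nat_lit 5191808) (BT.leaf (nat_lit 21565981)) (BT.leaf (nat_lit 21175833))) (BT.node (nat_lit 5191936) (BT.leaf (nat_lit 21497625)) (BT.leaf (nat_lit 21072413))))) (BT.node (nat_lit 5192256) (BT.node (nat_lit 5192128) (BT.node (nat_lit 5192064) (BT.leaf (nat_lit 20235029)) (BT.leaf (nat_lit 20530701))) (BT.node (nat_lit 5192192) (BT.leaf (nat_lit 21534233)) (BT.leaf (nat_lit 20530713)))) (BT.node (nat_lit 5192384) (BT.node (nat_lit 5192320) (BT.leaf (nat_lit 21534221)) (BT.leaf (nat_lit 20281613))) (BT.node (nat_lit 5192448) (BT.leaf (nat_lit 20189973)) (BT.leaf (nat_lit 21533725))))))) (BT.node (nat_lit 5193536) (BT.node (nat_lit 5193024) (BT.node (nat_lit 5192768) (BT.node (nat_lit 5192640) (BT.node (nat_lit 5192576) (BT.leaf (nat_lit 20302869)) (BT.leaf (nat_lit 20215057))) (BT.node (nat_lit 5192704) (BT.leaf (nat_lit 20214545)) (BT.leaf (nat_lit 20254213)))) (BT.node (nat_lit 5192896) (BT.node (nat_lit 5192832) (BT.leaf (nat_lit 20183833)) (BT.leaf (nat_lit 20642065))) (BT.node (nat_lit 5192960) (BT.leaf (nat_lit 22553377)) (BT.leaf (nat_lit 21243413))))) (BT.node (nat_lit 5193280) (BT.node (nat_lit 5193152) (BT.node (nat_lit 5193088) (BT.leaf (nat_lit 20737285)) (BT.leaf (nat_lit 25025817))) (BT.node (nat_lit 5193216) (BT.leaf (nat_lit 21837589)) (BT.leaf (nat_lit 25026333)))) (BT.node (nat_lit 5193408) (BT.node (nat_lit 5193344) (BT.leaf (nat_lit 25026589)) (BT.leaf (nat_lit 20465437))) (BT.node (nat_lit 5193472) (BT.leaf (nat_lit 25027613)) (BT.leaf (nat_lit 25028629)))))) (BT.node (nat_lit 5194048) (BT.node (nat_lit 5193792) (BT.node (nat_lit 5193664) (BT.node (nat_lit 5193600) (BT.leaf (nat_lit 25028885)) (BT.leaf (nat_lit 25029149))) (BT.node (nat_lit 5193728) (BT.leaf (nat_lit 25029649)) (BT.leaf (nat_lit 25029905)))) (BT.node (nat_lit 5193920) (BT.node (nat_lit 5193856) (BT.leaf (nat_lit 25029641)) (BT.leaf (nat_lit 25030677))) (BT.node (nat_lit 5193984) (BT.leaf (nat_lit 25031453)) (BT.leaf (nat_lit 25032213))))) (BT.node (nat_lit 5194304) (BT.node (nat_lit 5194176) (BT.node (nat_lit 5194112) (BT.leaf (nat_lit 20775961)) (BT.leaf (nat_lit 20456209))) (BT.node (nat_lit 5194240) (BT.leaf (nat_lit 46566177)) (BT.leaf (nat_lit 22471701)))) (BT.node (nat_lit 5194432) (BT.node (nat_lit 5194368) (BT.leaf (nat_lit 25033245)) (BT.leaf (nat_lit 21060373))) (BT.node (nat_lit 5194496) (BT.leaf (nat_lit 20858389)) (BT.leaf (nat_lit 21062425))))))))) (BT.node (nat_lit 5198656) (BT.node (nat_lit 5196608) (BT.node (nat_lit 5195584) (BT.node (nat_lit 5195072) (BT.node (nat_lit 5194816) (BT.node (nat_lit 5194688) (BT.node (nat_lit 5194624) (BT.leaf (nat_lit 25034257)) (BT.leaf (nat_lit 20778265))) (BT.node (nat_lit 5194752) (BT.leaf (nat_lit 25035025)) (BT.leaf (nat_lit 25035281)))) (BT.node (nat_lit 5194944) (BT.node (nat_lit 5194880) (BT.leaf (nat_lit 50921989)) (BT.leaf (nat_lit 36433181))) (BT.node (nat_lit 5195008) (BT.leaf (nat_lit 25036305)) (BT.leaf (nat_lit 50277893))))) (BT.node (nat_lit 5195328) (BT.node (nat_lit 5195200) (BT.node (nat_lit 5195136) (BT.leaf (nat_lit 21830177)) (BT.leaf (nat_lit 20512801))) (BT.node (nat_lit 5195264) (BT.leaf (nat_lit 20221457)) (BT.leaf (nat_lit 20221461)))) (BT.node (nat_lit 5195456) (BT.node (nat_lit 5195392) (BT.leaf (nat_lit 25038097)) (BT.leaf (nat_lit 25038861))) (BT.node (nat_lit 5195520) (BT.leaf (nat_lit 20877089)) (BT.leaf (nat_lit 23087365)))))) (BT.node (nat_lit 5196096) (BT.node (nat_lit 5195840) (BT.node (nat_lit 5195712) (BT.node (nat_lit 5195648) (BT.leaf (nat_lit 21556485)) (BT.leaf (nat_lit 21556741))) (BT.node (nat_lit 5195776) (BT.leaf (nat_lit 21557025)) (BT.leaf (nat_lit 25041185)))) (BT.node (nat_lit 5195968) (BT.node (nat_lit 5195904) (BT.leaf (nat_lit 25041181)) (BT.leaf (nat_lit 25041697))) (BT.node (nat_lit 5196032) (BT.leaf (nat_lit 25041941)) (BT.leaf (nat_lit 25037597))))) (BT.node (nat_lit 5196352) (BT.node (nat_lit 5196224) (BT.node (nat_lit 5196160) (BT.leaf (nat_lit 20569353)) (BT.leaf (nat_lit 21708813))) (BT.node (nat_lit 5196288) (BT.leaf (nat_lit 25043733)) (BT.leaf (nat_lit 20784921)))) (BT.node (nat_lit 5196480) (BT.node (nat_lit 5196416) (BT.leaf (nat_lit 24936453)) (BT.leaf (nat_lit 22061089))) (BT.node (nat_lit 5196544) (BT.leaf (nat_lit 25046033)) (BT.leaf (nat_lit 25046037))))))) (BT.node (nat_lit 5197632) (BT.node (nat_lit 5197120) (BT.node (nat_lit 5196864) (BT.node (nat_lit 5196736) (BT.node (nat_lit 5196672) (BT.leaf (nat_lit 21124629)) (BT.leaf (nat_lit 21232673))) (BT.node (nat_lit 5196800) (BT.leaf (nat_lit 21159969)) (BT.leaf (nat_lit 50387745)))) (BT.node (nat_lit 5196992) (BT.node (nat_lit 5196928) (BT.leaf (nat_lit 27289865)) (BT.leaf (nat_lit 20223257))) (BT.node (nat_lit 5197056) (BT.leaf (nat_lit 50043169)) (BT.leaf (nat_lit 20223261))))) (BT.node (nat_lit 5197376) (BT.node (nat_lit 5197248) (BT.node (nat_lit 5197184) (BT.leaf (nat_lit 20899349)) (BT.leaf (nat_lit 21743117))) (BT.node (nat_lit 5197312) (BT.leaf (nat_lit 20900877)) (BT.leaf (nat_lit 20223513)))) (BT.node (nat_lit 5197504) (BT.node (nat_lit 5197440) (BT.leaf (nat_lit 20184345)) (BT.leaf (nat_lit 25050913))) (BT.node (nat_lit 5197568) (BT.leaf (nat_lit 25051153)) (BT.leaf (nat_lit 25051421)))))) (BT.node (nat_lit 5198144) (BT.node (nat_lit 5197888) (BT.node (nat_lit 5197760) (BT.node (nat_lit 5197696) (BT.leaf (nat_lit 25051677)) (BT.leaf (nat_lit 21421317))) (BT.node (nat_lit 5197824) (BT.leaf (nat_lit 22490645)) (BT.leaf (nat_lit 21578513)))) (BT.node (nat_lit 5198016) (BT.node (nat_lit 5197952) (BT.leaf (nat_lit 21104149)) (BT.leaf (nat_lit 26414601))) (BT.node (nat_lit 5198080) (BT.leaf (nat_lit 26414605)) (BT.leaf (nat_lit 26414617))))) (BT.node (nat_lit 5198400) (BT.node (nat_lit 5198272) (BT.node (nat_lit 5198208) (BT.leaf (nat_lit 26414621)) (BT.leaf (nat_lit 26414625))) (BT.node (nat_lit 5198336) (BT.leaf (nat_lit 25233941)) (BT.leaf (nat_lit 25233953)))) (BT.node (nat_lit 5198528) (BT.node (nat_lit 5198464) (BT.leaf (nat_lit 20773913)) (BT.leaf (nat_lit 20773917))) (BT.node (nat_lit 5198592) (BT.leaf (nat_lit 21528609)) (BT.leaf (nat_lit 33401877)))))))) (BT.node (nat_lit 5200704) (BT.node (nat_lit 5199680) (BT.node (nat_lit 5199168) (BT.node (nat_lit 5198912) (BT.node (nat_lit 5198784) (BT.node (nat_lit 5198720) (BT.leaf (nat_lit 20256537)) (BT.leaf (nat_lit 25059609))) (BT.node (nat_lit 5198848) (BT.leaf (nat_lit 25059857)) (BT.leaf (nat_lit 21080609)))) (BT.node (nat_lit 5199040) (BT.node (nat_lit 5198976) (BT.leaf (nat_lit 25060625)) (BT.leaf (nat_lit 20261905))) (BT.node (nat_lit 5199104) (BT.leaf (nat_lit 20229137)) (BT.leaf (nat_lit 22531617))))) (BT.node (nat_lit 5199424) (BT.node (nat_lit 5199296) (BT.node (nat_lit 5199232) (BT.leaf (nat_lit 25061649)) (BT.leaf (nat_lit 25062161))) (BT.node (nat_lit 5199360) (BT.leaf (nat_lit 25062673)) (BT.leaf (nat_lit 20229653)))) (BT.node (nat_lit 5199552) (BT.node (nat_lit 5199488) (BT.leaf (nat_lit 25063185)) (BT.leaf (nat_lit 20312849))) (BT.node (nat_lit 5199616) (BT.leaf (nat_lit 20557329)) (BT.leaf (nat_lit 33800473)))))) (BT.node (nat_lit 5200192) (BT.node (nat_lit 5199936) (BT.node (nat_lit 5199808) (BT.node (nat_lit 5199744) (BT.leaf (nat_lit 33800477)) (BT.leaf (nat_lit 22641941))) (BT.node (nat_lit 5199872) (BT.leaf (nat_lit 21572385)) (BT.leaf (nat_lit 21572129)))) (BT.node (nat_lit 5200064) (BT.node (nat_lit 5200000) (BT.leaf (nat_lit 22359833)) (BT.leaf (nat_lit 24164377))) (BT.node (nat_lit 5200128) (BT.leaf (nat_lit 34429201)) (BT.leaf (nat_lit 22650393))))) (BT.node (nat_lit 5200448) (BT.node (nat_lit 5200320) (BT.node (nat_lit 5200256) (BT.leaf (nat_lit 22536989)) (BT.leaf (nat_lit 25066001))) (BT.node (nat_lit 5200384) (BT.leaf (nat_lit 20779553)) (BT.leaf (nat_lit 25067033)))) (BT.node (nat_lit 5200576) (BT.node (nat_lit 5200512) (BT.leaf (nat_lit 20512289)) (BT.leaf (nat_lit 20512033))) (BT.node (nat_lit 5200640) (BT.leaf (nat_lit 20512545)) (BT.leaf (nat_lit 20426785))))))) (BT.node (nat_lit 5201728) (BT.node (nat_lit 5201216) (BT.node (nat_lit 5200960) (BT.node (nat_lit 5200832) (BT.node (nat_lit 5200768) (BT.leaf (nat_lit 25067789)) (BT.leaf (nat_lit 20234001))) (BT.node (nat_lit 5200896) (BT.leaf (nat_lit 21443333)) (BT.leaf (nat_lit 34648089)))) (BT.node (nat_lit 5201088) (BT.node (nat_lit 5201024) (BT.leaf (nat_lit 25068565)) (BT.leaf (nat_lit 20803849))) (BT.node (nat_lit 5201152) (BT.leaf (nat_lit 25070357)) (BT.leaf (nat_lit 25071125))))) (BT.node (nat_lit 5201472) (BT.node (nat_lit 5201344) (BT.node (nat_lit 5201280) (BT.leaf (nat_lit 21961989)) (BT.leaf (nat_lit 20234265))) (BT.node (nat_lit 5201408) (BT.leaf (nat_lit 25072161)) (BT.leaf (nat_lit 20234269)))) (BT.node (nat_lit 5201600) (BT.node (nat_lit 5201536) (BT.leaf (nat_lit 25073437)) (BT.leaf (nat_lit 21595937))) (BT.node (nat_lit 5201664) (BT.leaf (nat_lit 20794117)) (BT.leaf (nat_lit 20708633)))))) (BT.node (nat_lit 5202240) (BT.node (nat_lit 5201984) (BT.node (nat_lit 5201856) (BT.node (nat_lit 5201792) (BT.leaf (nat_lit 20784929)) (BT.leaf (nat_lit 20372753))) (BT.node (nat_lit 5201920) (BT.leaf (nat_lit 21401633)) (BT.leaf (nat_lit 20760081)))) (BT.node (nat_lit 5202112) (BT.node (nat_lit 5202048) (BT.leaf (nat_lit 22659589)) (BT.leaf (nat_lit 21250069))) (BT.node (nat_lit 5202176) (BT.leaf (nat_lit 21222433)) (BT.leaf (nat_lit 20341777))))) (BT.node (nat_lit 5202496) (BT.node (nat_lit 5202368) (BT.node (nat_lit 5202304) (BT.leaf (nat_lit 25078293)) (BT.leaf (nat_lit 50026261))) (BT.node (nat_lit 5202432) (BT.leaf (nat_lit 36167181)) (BT.leaf (nat_lit 22665761)))) (BT.node (nat_lit 5202624) (BT.node (nat_lit 5202560) (BT.leaf (nat_lit 37666849)) (BT.leaf (nat_lit 20903441))) (BT.node (nat_lit 5202688) (BT.leaf (nat_lit 36968713)) (BT.leaf (nat_lit 20416261))))))))))) (BT.node (nat_lit 5219136) (BT.node (nat_lit 5210944) (BT.node (nat_lit 5206848) (BT.node (nat_lit 5204800) (BT.node (nat_lit 5203776) (BT.node (nat_lit 5203264) (BT.node (nat_lit 5203008) (BT.node (nat_lit 5202880) (BT.node (nat_lit 5202816) (BT.leaf (nat_lit 20416281)) (BT.leaf (nat_lit 20416285))) (BT.node (nat_lit 5202944) (BT.leaf (nat_lit 22667277)) (BT.leaf (nat_lit 25082389)))) (BT.node (nat_lit 5203136) (BT.node (nat_lit 5203072) (BT.leaf (nat_lit 25088277)) (BT.leaf (nat_lit 22924041))) (BT.node (nat_lit 5203200) (BT.leaf (nat_lit 21224965)) (BT.leaf (nat_lit 20816157))))) (BT.node (nat_lit 5203520) (BT.node (nat_lit 5203392) (BT.node (nat_lit 5203328) (BT.leaf (nat_lit 25206033)) (BT.leaf (nat_lit 25761293))) (BT.node (nat_lit 5203456) (BT.leaf (nat_lit 25084949)) (BT.leaf (nat_lit 26179613)))) (BT.node (nat_lit 5203648) (BT.node (nat_lit 5203584) (BT.leaf (nat_lit 25085201)) (BT.leaf (nat_lit 25085721))) (BT.node (nat_lit 5203712) (BT.leaf (nat_lit 25086237)) (BT.leaf (nat_lit 52272913)))))) (BT.node (nat_lit 5204288) (BT.node (nat_lit 5204032) (BT.node (nat_lit 5203904) (BT.node (nat_lit 5203840) (BT.leaf (nat_lit 24979733)) (BT.leaf (nat_lit 20815645))) (BT.node (nat_lit 5203968) (BT.leaf (nat_lit 25087249)) (BT.leaf (nat_lit 20661013)))) (BT.node (nat_lit 5204160) (BT.node (nat_lit 5204096) (BT.leaf (nat_lit 20590865)) (BT.leaf (nat_lit 25088789))) (BT.node (nat_lit 5204224) (BT.leaf (nat_lit 20529681)) (BT.leaf (nat_lit 20735505))))) (BT.node (nat_lit 5204544) (BT.node (nat_lit 5204416) (BT.node (nat_lit 5204352) (BT.leaf (nat_lit 25090585)) (BT.leaf (nat_lit 52238601))) (BT.node (nat_lit 5204480) (BT.leaf (nat_lit 20687649)) (BT.leaf (nat_lit 20272905)))) (BT.node (nat_lit 5204672) (BT.node (nat_lit 5204608) (BT.leaf (nat_lit 25091357)) (BT.leaf (nat_lit 22065673))) (BT.node (nat_lit 5204736) (BT.leaf (nat_lit 22448161)) (BT.leaf (nat_lit 25091861))))))) (BT.node (nat_lit 5205824) (BT.node (nat_lit 5205312) (BT.node (nat_lit 5205056) (BT.node (nat_lit 5204928) (BT.node (nat_lit 5204864) (BT.leaf (nat_lit 20926997)) (BT.leaf (nat_lit 20927001))) (BT.node (nat_lit 5204992) (BT.leaf (nat_lit 20257565)) (BT.leaf (nat_lit 20858909)))) (BT.node (nat_lit 5205184) (BT.node (nat_lit 5205120) (BT.leaf (nat_lit 20275221)) (BT.leaf (nat_lit 20361501))) (BT.node (nat_lit 5205248) (BT.leaf (nat_lit 20361481)) (BT.leaf (nat_lit 20460557))))) (BT.node (nat_lit 5205568) (BT.node (nat_lit 5205440) (BT.node (nat_lit 5205376) (BT.leaf (nat_lit 20362017)) (BT.leaf (nat_lit 20363797))) (BT.node (nat_lit 5205504) (BT.leaf (nat_lit 33239065)) (BT.leaf (nat_lit 20822301)))) (BT.node (nat_lit 5205696) (BT.node (nat_lit 5205632) (BT.leaf (nat_lit 24566289)) (BT.leaf (nat_lit 25096985))) (BT.node (nat_lit 5205760) (BT.leaf (nat_lit 22708501)) (BT.leaf (nat_lit 20314897)))))) (BT.node (nat_lit 5206336) (BT.node (nat_lit 5206080) (BT.node (nat_lit 5205952) (BT.node (nat_lit 5205888) (BT.leaf (nat_lit 20293141)) (BT.leaf (nat_lit 21485089))) (BT.node (nat_lit 5206016) (BT.leaf (nat_lit 20885517)) (BT.leaf (nat_lit 25084181)))) (BT.node (nat_lit 5206208) (BT.node (nat_lit 5206144) (BT.leaf (nat_lit 21631749)) (BT.leaf (nat_lit 25099281))) (BT.node (nat_lit 5206272) (BT.leaf (nat_lit 22712865)) (BT.leaf (nat_lit 50711053))))) (BT.node (nat_lit 5206592) (BT.node (nat_lit 5206464) (BT.node (nat_lit 5206400) (BT.leaf (nat_lit 20238853)) (BT.leaf (nat_lit 21227025))) (BT.node (nat_lit 5206528) (BT.leaf (nat_lit 35837705)) (BT.leaf (nat_lit 20426001)))) (BT.node (nat_lit 5206720) (BT.node (nat_lit 5206656) (BT.leaf (nat_lit 25967121)) (BT.leaf (nat_lit 22211605))) (BT.node (nat_lit 5206784) (BT.leaf (nat_lit 20714005)) (BT.leaf (nat_lit 20673313)))))))) (BT.node (nat_lit 5208896) (BT.node (nat_lit 5207872) (BT.node (nat_lit 5207360) (BT.node (nat_lit 5207104) (BT.node (nat_lit 5206976) (BT.node (nat_lit 5206912) (BT.leaf (nat_lit 21938693)) (BT.leaf (nat_lit 22716945))) (BT.node (nat_lit 5207040) (BT.leaf (nat_lit 22716689)) (BT.leaf (nat_lit 20334361)))) (BT.node (nat_lit 5207232) (BT.node (nat_lit 5207168) (BT.leaf (nat_lit 20334365)) (BT.leaf (nat_lit 35991305))) (BT.node (nat_lit 5207296) (BT.leaf (nat_lit 24975889)) (BT.leaf (nat_lit 20705057))))) (BT.node (nat_lit 5207616) (BT.node (nat_lit 5207488) (BT.node (nat_lit 5207424) (BT.leaf (nat_lit 20491809)) (BT.leaf (nat_lit 20705313))) (BT.node (nat_lit 5207552) (BT.leaf (nat_lit 20873505)) (BT.leaf (nat_lit 20492065)))) (BT.node (nat_lit 5207744) (BT.node (nat_lit 5207680) (BT.leaf (nat_lit 20735501)) (BT.leaf (nat_lit 21419801))) (BT.node (nat_lit 5207808) (BT.leaf (nat_lit 20241681)) (BT.leaf (nat_lit 20682781)))))) (BT.node (nat_lit 5208384) (BT.node (nat_lit 5208128) (BT.node (nat_lit 5208000) (BT.node (nat_lit 5207936) (BT.leaf (nat_lit 20805397)) (BT.leaf (nat_lit 20373793))) (BT.node (nat_lit 5208064) (BT.leaf (nat_lit 25105681)) (BT.leaf (nat_lit 21593621)))) (BT.node (nat_lit 5208256) (BT.node (nat_lit 5208192) (BT.leaf (nat_lit 20684321)) (BT.leaf (nat_lit 22726665))) (BT.node (nat_lit 5208320) (BT.leaf (nat_lit 21185293)) (BT.leaf (nat_lit 25106965))))) (BT.node (nat_lit 5208640) (BT.node (nat_lit 5208512) (BT.node (nat_lit 5208448) (BT.leaf (nat_lit 20243473)) (BT.leaf (nat_lit 20544785))) (BT.node (nat_lit 5208576) (BT.leaf (nat_lit 21184017)) (BT.leaf (nat_lit 25107989)))) (BT.node (nat_lit 5208768) (BT.node (nat_lit 5208704) (BT.leaf (nat_lit 22506769)) (BT.leaf (nat_lit 20790545))) (BT.node (nat_lit 5208832) (BT.leaf (nat_lit 20790041)) (BT.leaf (nat_lit 20790045))))))) (BT.node (nat_lit 5209920) (BT.node (nat_lit 5209408) (BT.node (nat_lit 5209152) (BT.node (nat_lit 5209024) (BT.node (nat_lit 5208960) (BT.leaf (nat_lit 20882953)) (BT.leaf (nat_lit 21200145))) (BT.node (nat_lit 5209088) (BT.leaf (nat_lit 26414609)) (BT.leaf (nat_lit 21405729)))) (BT.node (nat_lit 5209280) (BT.node (nat_lit 5209216) (BT.leaf (nat_lit 25111309)) (BT.leaf (nat_lit 20992005))) (BT.node (nat_lit 5209344) (BT.leaf (nat_lit 25113109)) (BT.leaf (nat_lit 20443937))))) (BT.node (nat_lit 5209664) (BT.node (nat_lit 5209536) (BT.node (nat_lit 5209472) (BT.leaf (nat_lit 22387737)) (BT.leaf (nat_lit 25114141))) (BT.node (nat_lit 5209600) (BT.leaf (nat_lit 25114657)) (BT.leaf (nat_lit 25115169)))) (BT.node (nat_lit 5209792) (BT.node (nat_lit 5209728) (BT.leaf (nat_lit 25115669)) (BT.leaf (nat_lit 22742805))) (BT.node (nat_lit 5209856) (BT.leaf (nat_lit 25115145)) (BT.leaf (nat_lit 25116429)))))) (BT.node (nat_lit 5210432) (BT.node (nat_lit 5210176) (BT.node (nat_lit 5210048) (BT.node (nat_lit 5209984) (BT.leaf (nat_lit 37658381)) (BT.leaf (nat_lit 25117457))) (BT.node (nat_lit 5210112) (BT.leaf (nat_lit 20779801)) (BT.leaf (nat_lit 33927177)))) (BT.node (nat_lit 5210304) (BT.node (nat_lit 5210240) (BT.leaf (nat_lit 21169173)) (BT.leaf (nat_lit 50149397))) (BT.node (nat_lit 5210368) (BT.leaf (nat_lit 20245777)) (BT.leaf (nat_lit 20245521))))) (BT.node (nat_lit 5210688) (BT.node (nat_lit 5210560) (BT.node (nat_lit 5210496) (BT.leaf (nat_lit 34273545)) (BT.leaf (nat_lit 22276369))) (BT.node (nat_lit 5210624) (BT.leaf (nat_lit 25121309)) (BT.leaf (nat_lit 20505349)))) (BT.node (nat_lit 5210816) (BT.node (nat_lit 5210752) (BT.leaf (nat_lit 20248081)) (BT.leaf (nat_lit 20435745))) (BT.node (nat_lit 5210880) (BT.leaf (nat_lit 21026081)) (BT.leaf (nat_lit 21026073))))))))) (BT.node (nat_lit 5215040) (BT.node (nat_lit 5212992) (BT.node (nat_lit 5211968) (BT.node (nat_lit 5211456) (BT.node (nat_lit 5211200) (BT.node (nat_lit 5211072) (BT.node (nat_lit 5211008) (BT.leaf (nat_lit 25122321)) (BT.leaf (nat_lit 20321313))) (BT.node (nat_lit 5211136) (BT.leaf (nat_lit 20321057)) (BT.leaf (nat_lit 25124369)))) (BT.node (nat_lit 5211328) (BT.node (nat_lit 5211264) (BT.leaf (nat_lit 25125397)) (BT.leaf (nat_lit 25125653))) (BT.node (nat_lit 5211392) (BT.leaf (nat_lit 20250641)) (BT.leaf (nat_lit 25126165))))) (BT.node (nat_lit 5211712) (BT.node (nat_lit 5211584) (BT.node (nat_lit 5211520) (BT.leaf (nat_lit 24963609)) (BT.leaf (nat_lit 20737569))) (BT.node (nat_lit 5211648) (BT.leaf (nat_lit 25128221)) (BT.leaf (nat_lit 20251665)))) (BT.node (nat_lit 5211840) (BT.node (nat_lit 5211776) (BT.leaf (nat_lit 20667397)) (BT.leaf (nat_lit 21923845))) (BT.node (nat_lit 5211904) (BT.leaf (nat_lit 25132061)) (BT.leaf (nat_lit 25133077)))))) (BT.node (nat_lit 5212480) (BT.node (nat_lit 5212224) (BT.node (nat_lit 5212096) (BT.node (nat_lit 5212032) (BT.leaf (nat_lit 25131273)) (BT.leaf (nat_lit 48141345))) (BT.node (nat_lit 5212160) (BT.leaf (nat_lit 25134865)) (BT.leaf (nat_lit 20317721)))) (BT.node (nat_lit 5212352) (BT.node (nat_lit 5212288) (BT.leaf (nat_lit 25135889)) (BT.leaf (nat_lit 20408341))) (BT.node (nat_lit 5212416) (BT.leaf (nat_lit 20849693)) (BT.leaf (nat_lit 36847905))))) (BT.node (nat_lit 5212736) (BT.node (nat_lit 5212608) (BT.node (nat_lit 5212544) (BT.leaf (nat_lit 25728521)) (BT.leaf (nat_lit 20582153))) (BT.node (nat_lit 5212672) (BT.leaf (nat_lit 25138961)) (BT.leaf (nat_lit 25139745)))) (BT.node (nat_lit 5212864) (BT.node (nat_lit 5212800) (BT.leaf (nat_lit 25139985)) (BT.leaf (nat_lit 25140509))) (BT.node (nat_lit 5212928) (BT.leaf (nat_lit 22339605)) (BT.leaf (nat_lit 20273429))))))) (BT.node (nat_lit 5214016) (BT.node (nat_lit 5213504) (BT.node (nat_lit 5213248) (BT.node (nat_lit 5213120) (BT.node (nat_lit 5213056) (BT.leaf (nat_lit 20819209)) (BT.leaf (nat_lit 20253465))) (BT.node (nat_lit 5213184) (BT.leaf (nat_lit 25141529)) (BT.leaf (nat_lit 21113873)))) (BT.node (nat_lit 5213376) (BT.node (nat_lit 5213312) (BT.leaf (nat_lit 21113889)) (BT.leaf (nat_lit 25142533))) (BT.node (nat_lit 5213440) (BT.leaf (nat_lit 25143057)) (BT.leaf (nat_lit 22795281))))) (BT.node (nat_lit 5213760) (BT.node (nat_lit 5213632) (BT.node (nat_lit 5213568) (BT.leaf (nat_lit 20799009)) (BT.leaf (nat_lit 21722913))) (BT.node (nat_lit 5213696) (BT.leaf (nat_lit 25143313)) (BT.leaf (nat_lit 22796049)))) (BT.node (nat_lit 5213888) (BT.node (nat_lit 5213824) (BT.leaf (nat_lit 25143569)) (BT.leaf (nat_lit 34951957))) (BT.node (nat_lit 5213952) (BT.leaf (nat_lit 22354713)) (BT.leaf (nat_lit 21053469)))))) (BT.node (nat_lit 5214528) (BT.node (nat_lit 5214272) (BT.node (nat_lit 5214144) (BT.node (nat_lit 5214080) (BT.leaf (nat_lit 25144601)) (BT.leaf (nat_lit 36015137))) (BT.node (nat_lit 5214208) (BT.leaf (nat_lit 21177121)) (BT.leaf (nat_lit 20780065)))) (BT.node (nat_lit 5214400) (BT.node (nat_lit 5214336) (BT.leaf (nat_lit 20955157)) (BT.leaf (nat_lit 20536609))) (BT.node (nat_lit 5214464) (BT.leaf (nat_lit 20829717)) (BT.leaf (nat_lit 25146389))))) (BT.node (nat_lit 5214784) (BT.node (nat_lit 5214656) (BT.node (nat_lit 5214592) (BT.leaf (nat_lit 20582161)) (BT.leaf (nat_lit 20778269))) (BT.node (nat_lit 5214720) (BT.leaf (nat_lit 20930845)) (BT.leaf (nat_lit 21194769)))) (BT.node (nat_lit 5214912) (BT.node (nat_lit 5214848) (BT.leaf (nat_lit 20455453)) (BT.leaf (nat_lit 25147921))) (BT.node (nat_lit 5214976) (BT.leaf (nat_lit 35429401)) (BT.leaf (nat_lit 20930569)))))))) (BT.node (nat_lit 5217088) (BT.node (nat_lit 5216064) (BT.node (nat_lit 5215552) (BT.node (nat_lit 5215296) (BT.node (nat_lit 5215168) (BT.node (nat_lit 5215104) (BT.leaf (nat_lit 25148433)) (BT.leaf (nat_lit 21415941))) (BT.node (nat_lit 5215232) (BT.leaf (nat_lit 20590097)) (BT.leaf (nat_lit 26026781)))) (BT.node (nat_lit 5215424) (BT.node (nat_lit 5215360) (BT.leaf (nat_lit 20254985)) (BT.leaf (nat_lit 20254989))) (BT.node (nat_lit 5215488) (BT.leaf (nat_lit 20255001)) (BT.leaf (nat_lit 20255005))))) (BT.node (nat_lit 5215808) (BT.node (nat_lit 5215680) (BT.node (nat_lit 5215616) (BT.leaf (nat_lit 21677333)) (BT.leaf (nat_lit 37448981))) (BT.node (nat_lit 5215744) (BT.leaf (nat_lit 20254993)) (BT.leaf (nat_lit 20863501)))) (BT.node (nat_lit 5215936) (BT.node (nat_lit 5215872) (BT.leaf (nat_lit 25153301)) (BT.leaf (nat_lit 20238357))) (BT.node (nat_lit 5216000) (BT.leaf (nat_lit 24934661)) (BT.leaf (nat_lit 25153561)))))) (BT.node (nat_lit 5216576) (BT.node (nat_lit 5216320) (BT.node (nat_lit 5216192) (BT.node (nat_lit 5216128) (BT.leaf (nat_lit 20770581)) (BT.leaf (nat_lit 25152777))) (BT.node (nat_lit 5216256) (BT.leaf (nat_lit 20361485)) (BT.leaf (nat_lit 25153545)))) (BT.node (nat_lit 5216448) (BT.node (nat_lit 5216384) (BT.leaf (nat_lit 20361497)) (BT.leaf (nat_lit 20460577))) (BT.node (nat_lit 5216512) (BT.leaf (nat_lit 21395217)) (BT.leaf (nat_lit 21450773))))) (BT.node (nat_lit 5216832) (BT.node (nat_lit 5216704) (BT.node (nat_lit 5216640) (BT.leaf (nat_lit 50043413)) (BT.leaf (nat_lit 20672521))) (BT.node (nat_lit 5216768) (BT.leaf (nat_lit 50184461)) (BT.leaf (nat_lit 20826637)))) (BT.node (nat_lit 5216960) (BT.node (nat_lit 5216896) (BT.leaf (nat_lit 49876509)) (BT.leaf (nat_lit 21063941))) (BT.node (nat_lit 5217024) (BT.leaf (nat_lit 22819093)) (BT.leaf (nat_lit 25158685))))))) (BT.node (nat_lit 5218112) (BT.node (nat_lit 5217600) (BT.node (nat_lit 5217344) (BT.node (nat_lit 5217216) (BT.node (nat_lit 5217152) (BT.leaf (nat_lit 21828113)) (BT.leaf (nat_lit 22486789))) (BT.node (nat_lit 5217280) (BT.leaf (nat_lit 25025037)) (BT.leaf (nat_lit 26989069)))) (BT.node (nat_lit 5217472) (BT.node (nat_lit 5217408) (BT.leaf (nat_lit 33487637)) (BT.leaf (nat_lit 22626833))) (BT.node (nat_lit 5217536) (BT.leaf (nat_lit 25912085)) (BT.leaf (nat_lit 51224853))))) (BT.node (nat_lit 5217856) (BT.node (nat_lit 5217728) (BT.node (nat_lit 5217664) (BT.leaf (nat_lit 20381729)) (BT.leaf (nat_lit 20415761))) (BT.node (nat_lit 5217792) (BT.leaf (nat_lit 20651293)) (BT.leaf (nat_lit 20626697)))) (BT.node (nat_lit 5217984) (BT.node (nat_lit 5217920) (BT.leaf (nat_lit 20473605)) (BT.leaf (nat_lit 20626717))) (BT.node (nat_lit 5218048) (BT.leaf (nat_lit 20674337)) (BT.leaf (nat_lit 22544409)))))) (BT.node (nat_lit 5218624) (BT.node (nat_lit 5218368) (BT.node (nat_lit 5218240) (BT.node (nat_lit 5218176) (BT.leaf (nat_lit 22433301)) (BT.leaf (nat_lit 22837005))) (BT.node (nat_lit 5218304) (BT.leaf (nat_lit 25163793)) (BT.leaf (nat_lit 20542729)))) (BT.node (nat_lit 5218496) (BT.node (nat_lit 5218432) (BT.leaf (nat_lit 20633613)) (BT.leaf (nat_lit 25165089))) (BT.node (nat_lit 5218560) (BT.leaf (nat_lit 22530053)) (BT.leaf (nat_lit 20258321))))) (BT.node (nat_lit 5218880) (BT.node (nat_lit 5218752) (BT.node (nat_lit 5218688) (BT.leaf (nat_lit 25523725)) (BT.leaf (nat_lit 25523481))) (BT.node (nat_lit 5218816) (BT.leaf (nat_lit 25167889)) (BT.leaf (nat_lit 25192481)))) (BT.node (nat_lit 5219008) (BT.node (nat_lit 5218944) (BT.leaf (nat_lit 25192477)) (BT.leaf (nat_lit 20448773))) (BT.node (nat_lit 5219072) (BT.leaf (nat_lit 20768529)) (BT.leaf (nat_lit 20188433)))))))))) (BT.node (nat_lit 5227328) (BT.node (nat_lit 5223232) (BT.node (nat_lit 5221184) (BT.node (nat_lit 5220160) (BT.node (nat_lit 5219648) (BT.node (nat_lit 5219392) (BT.node (nat_lit 5219264) (BT.node (nat_lit 5219200) (BT.leaf (nat_lit 25170193)) (BT.leaf (nat_lit 20258065))) (BT.node (nat_lit 5219328) (BT.leaf (nat_lit 20258069)) (BT.leaf (nat_lit 51138593)))) (BT.node (nat_lit 5219520) (BT.node (nat_lit 5219456) (BT.leaf (nat_lit 20458777)) (BT.leaf (nat_lit 20458781))) (BT.node (nat_lit 5219584) (BT.leaf (nat_lit 50364957)) (BT.leaf (nat_lit 22857237))))) (BT.node (nat_lit 5219904) (BT.node (nat_lit 5219776) (BT.node (nat_lit 5219712) (BT.leaf (nat_lit 35837713)) (BT.leaf (nat_lit 20414241))) (BT.node (nat_lit 5219840) (BT.leaf (nat_lit 21184541)) (BT.leaf (nat_lit 21319177)))) (BT.node (nat_lit 5220032) (BT.node (nat_lit 5219968) (BT.leaf (nat_lit 20260381)) (BT.leaf (nat_lit 22710797))) (BT.node (nat_lit 5220096) (BT.leaf (nat_lit 20885513)) (BT.leaf (nat_lit 25173533)))))) (BT.node (nat_lit 5220672) (BT.node (nat_lit 5220416) (BT.node (nat_lit 5220288) (BT.node (nat_lit 5220224) (BT.leaf (nat_lit 22727957)) (BT.leaf (nat_lit 21215005))) (BT.node (nat_lit 5220352) (BT.leaf (nat_lit 21214737)) (BT.leaf (nat_lit 50024989)))) (BT.node (nat_lit 5220544) (BT.node (nat_lit 5220480) (BT.leaf (nat_lit 25174809)) (BT.leaf (nat_lit 21495069))) (BT.node (nat_lit 5220608) (BT.leaf (nat_lit 51703829)) (BT.leaf (nat_lit 20269585))))) (BT.node (nat_lit 5220928) (BT.node (nat_lit 5220800) (BT.node (nat_lit 5220736) (BT.leaf (nat_lit 20907025)) (BT.leaf (nat_lit 20269333))) (BT.node (nat_lit 5220864) (BT.leaf (nat_lit 20797189)) (BT.leaf (nat_lit 25175825)))) (BT.node (nat_lit 5221056) (BT.node (nat_lit 5220992) (BT.leaf (nat_lit 36258825)) (BT.leaf (nat_lit 23206433))) (BT.node (nat_lit 5221120) (BT.leaf (nat_lit 34779161)) (BT.leaf (nat_lit 20261649))))))) (BT.node (nat_lit 5222208) (BT.node (nat_lit 5221696) (BT.node (nat_lit 5221440) (BT.node (nat_lit 5221312) (BT.node (nat_lit 5221248) (BT.leaf (nat_lit 20260881)) (BT.leaf (nat_lit 22711829))) (BT.node (nat_lit 5221376) (BT.leaf (nat_lit 36403205)) (BT.leaf (nat_lit 20379157)))) (BT.node (nat_lit 5221568) (BT.node (nat_lit 5221504) (BT.leaf (nat_lit 20538641)) (BT.leaf (nat_lit 25083925))) (BT.node (nat_lit 5221632) (BT.leaf (nat_lit 26750477)) (BT.leaf (nat_lit 20263185))))) (BT.node (nat_lit 5221952) (BT.node (nat_lit 5221824) (BT.node (nat_lit 5221760) (BT.leaf (nat_lit 52272673)) (BT.leaf (nat_lit 20683041))) (BT.node (nat_lit 5221888) (BT.leaf (nat_lit 20943109)) (BT.leaf (nat_lit 51352589)))) (BT.node (nat_lit 5222080) (BT.node (nat_lit 5222016) (BT.leaf (nat_lit 21707289)) (BT.leaf (nat_lit 20264721))) (BT.node (nat_lit 5222144) (BT.leaf (nat_lit 21451297)) (BT.leaf (nat_lit 35342881)))))) (BT.node (nat_lit 5222720) (BT.node (nat_lit 5222464) (BT.node (nat_lit 5222336) (BT.node (nat_lit 5222272) (BT.leaf (nat_lit 22920737)) (BT.leaf (nat_lit 51965973))) (BT.node (nat_lit 5222400) (BT.leaf (nat_lit 20773649)) (BT.leaf (nat_lit 25182497)))) (BT.node (nat_lit 5222592) (BT.node (nat_lit 5222528) (BT.leaf (nat_lit 22923525)) (BT.leaf (nat_lit 22669073))) (BT.node (nat_lit 5222656) (BT.leaf (nat_lit 20945681)) (BT.leaf (nat_lit 25183501))))) (BT.node (nat_lit 5222976) (BT.node (nat_lit 5222848) (BT.node (nat_lit 5222784) (BT.leaf (nat_lit 20269337)) (BT.leaf (nat_lit 20408081))) (BT.node (nat_lit 5222912) (BT.leaf (nat_lit 50366217)) (BT.leaf (nat_lit 21191705)))) (BT.node (nat_lit 5223104) (BT.node (nat_lit 5223040) (BT.leaf (nat_lit 35973921)) (BT.leaf (nat_lit 25185553))) (BT.node (nat_lit 5223168) (BT.leaf (nat_lit 25186065)) (BT.leaf (nat_lit 25186845)))))))) (BT.node (nat_lit 5225280) (BT.node (nat_lit 5224256) (BT.node (nat_lit 5223744) (BT.node (nat_lit 5223488) (BT.node (nat_lit 5223360) (BT.node (nat_lit 5223296) (BT.leaf (nat_lit 37658397)) (BT.leaf (nat_lit 25187613))) (BT.node (nat_lit 5223424) (BT.leaf (nat_lit 25096473)) (BT.leaf (nat_lit 51552013)))) (BT.node (nat_lit 5223616) (BT.node (nat_lit 5223552) (BT.leaf (nat_lit 25189397)) (BT.leaf (nat_lit 25096461))) (BT.node (nat_lit 5223680) (BT.leaf (nat_lit 20587797)) (BT.leaf (nat_lit 20266769))))) (BT.node (nat_lit 5224000) (BT.node (nat_lit 5223872) (BT.node (nat_lit 5223808) (BT.leaf (nat_lit 26004233)) (BT.leaf (nat_lit 36403217))) (BT.node (nat_lit 5223936) (BT.leaf (nat_lit 25558537)) (BT.leaf (nat_lit 35769613)))) (BT.node (nat_lit 5224128) (BT.node (nat_lit 5224064) (BT.leaf (nat_lit 25192473)) (BT.leaf (nat_lit 36403209))) (BT.node (nat_lit 5224192) (BT.leaf (nat_lit 37674517)) (BT.leaf (nat_lit 22323985)))))) (BT.node (nat_lit 5224768) (BT.node (nat_lit 5224512) (BT.node (nat_lit 5224384) (BT.node (nat_lit 5224320) (BT.leaf (nat_lit 33409797)) (BT.leaf (nat_lit 25194005))) (BT.node (nat_lit 5224448) (BT.leaf (nat_lit 51799313)) (BT.leaf (nat_lit 51530769)))) (BT.node (nat_lit 5224640) (BT.node (nat_lit 5224576) (BT.leaf (nat_lit 20699417)) (BT.leaf (nat_lit 20699421))) (BT.node (nat_lit 5224704) (BT.leaf (nat_lit 25196321)) (BT.leaf (nat_lit 20787733))))) (BT.node (nat_lit 5225024) (BT.node (nat_lit 5224896) (BT.node (nat_lit 5224832) (BT.leaf (nat_lit 20268061)) (BT.leaf (nat_lit 25196833))) (BT.node (nat_lit 5224960) (BT.leaf (nat_lit 20268057)) (BT.leaf (nat_lit 23584277)))) (BT.node (nat_lit 5225152) (BT.node (nat_lit 5225088) (BT.leaf (nat_lit 51265049)) (BT.leaf (nat_lit 20686097))) (BT.node (nat_lit 5225216) (BT.leaf (nat_lit 21895709)) (BT.leaf (nat_lit 27289877))))))) (BT.node (nat_lit 5226304) (BT.node (nat_lit 5225792) (BT.node (nat_lit 5225536) (BT.node (nat_lit 5225408) (BT.node (nat_lit 5225344) (BT.leaf (nat_lit 20911881)) (BT.leaf (nat_lit 25198857))) (BT.node (nat_lit 5225472) (BT.leaf (nat_lit 21064209)) (BT.leaf (nat_lit 25199889)))) (BT.node (nat_lit 5225664) (BT.node (nat_lit 5225600) (BT.leaf (nat_lit 25200401)) (BT.leaf (nat_lit 20268821))) (BT.node (nat_lit 5225728) (BT.leaf (nat_lit 22204945)) (BT.leaf (nat_lit 21189137))))) (BT.node (nat_lit 5226048) (BT.node (nat_lit 5225920) (BT.node (nat_lit 5225856) (BT.leaf (nat_lit 22498081)) (BT.leaf (nat_lit 25202453))) (BT.node (nat_lit 5225984) (BT.leaf (nat_lit 22974469)) (BT.leaf (nat_lit 22974497)))) (BT.node (nat_lit 5226176) (BT.node (nat_lit 5226112) (BT.leaf (nat_lit 23597089)) (BT.leaf (nat_lit 21874969))) (BT.node (nat_lit 5226240) (BT.leaf (nat_lit 21735193)) (BT.leaf (nat_lit 25206301)))))) (BT.node (nat_lit 5226816) (BT.node (nat_lit 5226560) (BT.node (nat_lit 5226432) (BT.node (nat_lit 5226368) (BT.leaf (nat_lit 20527881)) (BT.leaf (nat_lit 25207317))) (BT.node (nat_lit 5226496) (BT.leaf (nat_lit 20859921)) (BT.leaf (nat_lit 22148625)))) (BT.node (nat_lit 5226688) (BT.node (nat_lit 5226624) (BT.leaf (nat_lit 21522449)) (BT.leaf (nat_lit 25209109))) (BT.node (nat_lit 5226752) (BT.leaf (nat_lit 21398537)) (BT.leaf (nat_lit 20662293))))) (BT.node (nat_lit 5227072) (BT.node (nat_lit 5226944) (BT.node (nat_lit 5226880) (BT.leaf (nat_lit 20269341)) (BT.leaf (nat_lit 21478417))) (BT.node (nat_lit 5227008) (BT.leaf (nat_lit 25210133)) (BT.leaf (nat_lit 51999265)))) (BT.node (nat_lit 5227200) (BT.node (nat_lit 5227136) (BT.leaf (nat_lit 51300357)) (BT.leaf (nat_lit 20374801))) (BT.node (nat_lit 5227264) (BT.leaf (nat_lit 25082629)) (BT.leaf (nat_lit 25212445))))))))) (BT.node (nat_lit 5231424) (BT.node (nat_lit 5229376) (BT.node (nat_lit 5228352) (BT.node (nat_lit 5227840) (BT.node (nat_lit 5227584) (BT.node (nat_lit 5227456) (BT.node (nat_lit 5227392) (BT.leaf (nat_lit 22946837)) (BT.leaf (nat_lit 25213213))) (BT.node (nat_lit 5227520) (BT.leaf (nat_lit 21427217)) (BT.leaf (nat_lit 20897289)))) (BT.node (nat_lit 5227712) (BT.node (nat_lit 5227648) (BT.leaf (nat_lit 22230037)) (BT.leaf (nat_lit 33294353))) (BT.node (nat_lit 5227776) (BT.leaf (nat_lit 25215765)) (BT.leaf (nat_lit 22357021))))) (BT.node (nat_lit 5228096) (BT.node (nat_lit 5227968) (BT.node (nat_lit 5227904) (BT.leaf (nat_lit 20271389)) (BT.leaf (nat_lit 22961429))) (BT.node (nat_lit 5228032) (BT.leaf (nat_lit 25217557)) (BT.leaf (nat_lit 25218081)))) (BT.node (nat_lit 5228224) (BT.node (nat_lit 5228160) (BT.leaf (nat_lit 25218581)) (BT.leaf (nat_lit 25219093))) (BT.node (nat_lit 5228288) (BT.leaf (nat_lit 20773393)) (BT.leaf (nat_lit 20787473)))))) (BT.node (nat_lit 5228864) (BT.node (nat_lit 5228608) (BT.node (nat_lit 5228480) (BT.node (nat_lit 5228416) (BT.leaf (nat_lit 20902165)) (BT.leaf (nat_lit 20913417))) (BT.node (nat_lit 5228544) (BT.leaf (nat_lit 25220617)) (BT.leaf (nat_lit 20370721)))) (BT.node (nat_lit 5228736) (BT.node (nat_lit 5228672) (BT.leaf (nat_lit 20704273)) (BT.leaf (nat_lit 20903437))) (BT.node (nat_lit 5228800) (BT.leaf (nat_lit 20901917)) (BT.leaf (nat_lit 20815885))))) (BT.node (nat_lit 5229120) (BT.node (nat_lit 5228992) (BT.node (nat_lit 5228928) (BT.leaf (nat_lit 20371225)) (BT.leaf (nat_lit 20371229))) (BT.node (nat_lit 5229056) (BT.leaf (nat_lit 25147153)) (BT.leaf (nat_lit 21128481)))) (BT.node (nat_lit 5229248) (BT.node (nat_lit 5229184) (BT.leaf (nat_lit 21128737)) (BT.leaf (nat_lit 22974217))) (BT.node (nat_lit 5229312) (BT.leaf (nat_lit 22397721)) (BT.leaf (nat_lit 21261585))))))) (BT.node (nat_lit 5230400) (BT.node (nat_lit 5229888) (BT.node (nat_lit 5229632) (BT.node (nat_lit 5229504) (BT.node (nat_lit 5229440) (BT.leaf (nat_lit 25226517)) (BT.leaf (nat_lit 21194525))) (BT.node (nat_lit 5229568) (BT.leaf (nat_lit 23017249)) (BT.leaf (nat_lit 21446933)))) (BT.node (nat_lit 5229760) (BT.node (nat_lit 5229696) (BT.leaf (nat_lit 21869593)) (BT.leaf (nat_lit 25228313))) (BT.node (nat_lit 5229824) (BT.leaf (nat_lit 51165957)) (BT.leaf (nat_lit 51553313))))) (BT.node (nat_lit 5230144) (BT.node (nat_lit 5230016) (BT.node (nat_lit 5229952) (BT.leaf (nat_lit 23004429)) (BT.leaf (nat_lit 20689681))) (BT.node (nat_lit 5230080) (BT.leaf (nat_lit 20407829)) (BT.leaf (nat_lit 20407833)))) (BT.node (nat_lit 5230272) (BT.node (nat_lit 5230208) (BT.leaf (nat_lit 20407837)) (BT.leaf (nat_lit 25232917))) (BT.node (nat_lit 5230336) (BT.leaf (nat_lit 21460001)) (BT.leaf (nat_lit 21757977)))))) (BT.node (nat_lit 5230912) (BT.node (nat_lit 5230656) (BT.node (nat_lit 5230528) (BT.node (nat_lit 5230464) (BT.leaf (nat_lit 21869321)) (BT.leaf (nat_lit 25235233))) (BT.node (nat_lit 5230592) (BT.leaf (nat_lit 25116437)) (BT.leaf (nat_lit 25116445)))) (BT.node (nat_lit 5230784) (BT.node (nat_lit 5230720) (BT.leaf (nat_lit 21878789)) (BT.leaf (nat_lit 20923165))) (BT.node (nat_lit 5230848) (BT.leaf (nat_lit 22685709)) (BT.leaf (nat_lit 20462369))))) (BT.node (nat_lit 5231168) (BT.node (nat_lit 5231040) (BT.node (nat_lit 5230976) (BT.leaf (nat_lit 25117725)) (BT.leaf (nat_lit 20209689))) (BT.node (nat_lit 5231104) (BT.leaf (nat_lit 20928533)) (BT.leaf (nat_lit 25239329)))) (BT.node (nat_lit 5231296) (BT.node (nat_lit 5231232) (BT.leaf (nat_lit 23037973)) (BT.leaf (nat_lit 21217813))) (BT.node (nat_lit 5231360) (BT.leaf (nat_lit 25240081)) (BT.leaf (nat_lit 25240345)))))))) (BT.node (nat_lit 5233472) (BT.node (nat_lit 5232448) (BT.node (nat_lit 5231936) (BT.node (nat_lit 5231680) (BT.node (nat_lit 5231552) (BT.node (nat_lit 5231488) (BT.leaf (nat_lit 25240865)) (BT.leaf (nat_lit 25241377))) (BT.node (nat_lit 5231616) (BT.leaf (nat_lit 30727201)) (BT.leaf (nat_lit 20257545)))) (BT.node (nat_lit 5231808) (BT.node (nat_lit 5231744) (BT.leaf (nat_lit 25242401)) (BT.leaf (nat_lit 25242641))) (BT.node (nat_lit 5231872) (BT.leaf (nat_lit 25242897)) (BT.leaf (nat_lit 25243669))))) (BT.node (nat_lit 5232192) (BT.node (nat_lit 5232064) (BT.node (nat_lit 5232000) (BT.leaf (nat_lit 25244437)) (BT.leaf (nat_lit 22743329))) (BT.node (nat_lit 5232128) (BT.leaf (nat_lit 22783513)) (BT.leaf (nat_lit 50149385)))) (BT.node (nat_lit 5232320) (BT.node (nat_lit 5232256) (BT.leaf (nat_lit 25245969)) (BT.leaf (nat_lit 20769809))) (BT.node (nat_lit 5232384) (BT.leaf (nat_lit 22685721)) (BT.leaf (nat_lit 25247249)))))) (BT.node (nat_lit 5232960) (BT.node (nat_lit 5232704) (BT.node (nat_lit 5232576) (BT.node (nat_lit 5232512) (BT.leaf (nat_lit 20274193)) (BT.leaf (nat_lit 20777745))) (BT.node (nat_lit 5232640) (BT.leaf (nat_lit 23069445)) (BT.leaf (nat_lit 23069973)))) (BT.node (nat_lit 5232832) (BT.node (nat_lit 5232768) (BT.leaf (nat_lit 22648849)) (BT.leaf (nat_lit 20929285))) (BT.node (nat_lit 5232896) (BT.leaf (nat_lit 20862493)) (BT.leaf (nat_lit 20862473))))) (BT.node (nat_lit 5233216) (BT.node (nat_lit 5233088) (BT.node (nat_lit 5233024) (BT.leaf (nat_lit 25250325)) (BT.leaf (nat_lit 25250589))) (BT.node (nat_lit 5233152) (BT.leaf (nat_lit 25250333)) (BT.leaf (nat_lit 20299541)))) (BT.node (nat_lit 5233344) (BT.node (nat_lit 5233280) (BT.leaf (nat_lit 21335841)) (BT.leaf (nat_lit 20275217))) (BT.node (nat_lit 5233408) (BT.leaf (nat_lit 20274961)) (BT.leaf (nat_lit 20361489))))))) (BT.node (nat_lit 5234496) (BT.node (nat_lit 5233984) (BT.node (nat_lit 5233728) (BT.node (nat_lit 5233600) (BT.node (nat_lit 5233536) (BT.leaf (nat_lit 25252885)) (BT.leaf (nat_lit 21067029))) (BT.node (nat_lit 5233664) (BT.leaf (nat_lit 20330017)) (BT.leaf (nat_lit 20679953)))) (BT.node (nat_lit 5233856) (BT.node (nat_lit 5233792) (BT.leaf (nat_lit 21605405)) (BT.leaf (nat_lit 20513297))) (BT.node (nat_lit 5233920) (BT.leaf (nat_lit 25255185)) (BT.leaf (nat_lit 20372497))))) (BT.node (nat_lit 5234240) (BT.node (nat_lit 5234112) (BT.node (nat_lit 5234048) (BT.leaf (nat_lit 20247313)) (BT.leaf (nat_lit 20252177))) (BT.node (nat_lit 5234176) (BT.leaf (nat_lit 21184281)) (BT.leaf (nat_lit 21184285)))) (BT.node (nat_lit 5234368) (BT.node (nat_lit 5234304) (BT.leaf (nat_lit 25258257)) (BT.leaf (nat_lit 20324361))) (BT.node (nat_lit 5234432) (BT.leaf (nat_lit 22160657)) (BT.leaf (nat_lit 20277021)))))) (BT.node (nat_lit 5235008) (BT.node (nat_lit 5234752) (BT.node (nat_lit 5234624) (BT.node (nat_lit 5234560) (BT.leaf (nat_lit 35644433)) (BT.leaf (nat_lit 20938525))) (BT.node (nat_lit 5234688) (BT.leaf (nat_lit 25259537)) (BT.leaf (nat_lit 21607429)))) (BT.node (nat_lit 5234880) (BT.node (nat_lit 5234816) (BT.leaf (nat_lit 20343057)) (BT.leaf (nat_lit 21607449))) (BT.node (nat_lit 5234944) (BT.leaf (nat_lit 21607453)) (BT.leaf (nat_lit 21464589))))) (BT.node (nat_lit 5235264) (BT.node (nat_lit 5235136) (BT.node (nat_lit 5235072) (BT.leaf (nat_lit 21464601)) (BT.leaf (nat_lit 20257813))) (BT.node (nat_lit 5235200) (BT.leaf (nat_lit 20940313)) (BT.leaf (nat_lit 20480273)))) (BT.node (nat_lit 5235392) (BT.node (nat_lit 5235328) (BT.leaf (nat_lit 20941341)) (BT.leaf (nat_lit 20180245))) (BT.node (nat_lit 5235456) (BT.leaf (nat_lit 20188437)) (BT.leaf (nat_lit 20941321)))))))))))) (BT.node (nat_lit 5268288) (BT.node (nat_lit 5251904) (BT.node (nat_lit 5243712) (BT.node (nat_lit 5239616) (BT.node (nat_lit 5237568) (BT.node (nat_lit 5236544) (BT.node (nat_lit 5236032) (BT.node (nat_lit 5235776) (BT.node (nat_lit 5235648) (BT.node (nat_lit 5235584) (BT.leaf (nat_lit 20703761)) (BT.leaf (nat_lit 25265169))) (BT.node (nat_lit 5235712) (BT.leaf (nat_lit 20942361)) (BT.leaf (nat_lit 20557837)))) (BT.node (nat_lit 5235904) (BT.node (nat_lit 5235840) (BT.leaf (nat_lit 20695313)) (BT.leaf (nat_lit 20696337))) (BT.node (nat_lit 5235968) (BT.leaf (nat_lit 21026061)) (BT.leaf (nat_lit 20768273))))) (BT.node (nat_lit 5236288) (BT.node (nat_lit 5236160) (BT.node (nat_lit 5236096) (BT.leaf (nat_lit 20278545)) (BT.leaf (nat_lit 20542233))) (BT.node (nat_lit 5236224) (BT.leaf (nat_lit 20315153)) (BT.leaf (nat_lit 20435485)))) (BT.node (nat_lit 5236416) (BT.node (nat_lit 5236352) (BT.leaf (nat_lit 23088913)) (BT.leaf (nat_lit 20281105))) (BT.node (nat_lit 5236480) (BT.leaf (nat_lit 21319181)) (BT.leaf (nat_lit 21632533)))))) (BT.node (nat_lit 5237056) (BT.node (nat_lit 5236800) (BT.node (nat_lit 5236672) (BT.node (nat_lit 5236608) (BT.leaf (nat_lit 37282837)) (BT.leaf (nat_lit 25139717))) (BT.node (nat_lit 5236736) (BT.leaf (nat_lit 21787925)) (BT.leaf (nat_lit 20334613)))) (BT.node (nat_lit 5236928) (BT.node (nat_lit 5236864) (BT.leaf (nat_lit 25271321)) (BT.leaf (nat_lit 25271569))) (BT.node (nat_lit 5236992) (BT.leaf (nat_lit 25767429)) (BT.leaf (nat_lit 23101701))))) (BT.node (nat_lit 5237312) (BT.node (nat_lit 5237184) (BT.node (nat_lit 5237120) (BT.leaf (nat_lit 20293653)) (BT.leaf (nat_lit 20547341))) (BT.node (nat_lit 5237248) (BT.leaf (nat_lit 20547353)) (BT.leaf (nat_lit 20277013)))) (BT.node (nat_lit 5237440) (BT.node (nat_lit 5237376) (BT.leaf (nat_lit 23138337)) (BT.leaf (nat_lit 20282897))) (BT.node (nat_lit 5237504) (BT.leaf (nat_lit 20283153)) (BT.leaf (nat_lit 25273873))))))) (BT.node (nat_lit 5238592) (BT.node (nat_lit 5238080) (BT.node (nat_lit 5237824) (BT.node (nat_lit 5237696) (BT.node (nat_lit 5237632) (BT.leaf (nat_lit 20283157)) (BT.leaf (nat_lit 20769313))) (BT.node (nat_lit 5237760) (BT.leaf (nat_lit 25275653)) (BT.leaf (nat_lit 20277781)))) (BT.node (nat_lit 5237952) (BT.node (nat_lit 5237888) (BT.leaf (nat_lit 25277189)) (BT.leaf (nat_lit 20546337))) (BT.node (nat_lit 5238016) (BT.leaf (nat_lit 20498721)) (BT.leaf (nat_lit 20499233))))) (BT.node (nat_lit 5238336) (BT.node (nat_lit 5238208) (BT.node (nat_lit 5238144) (BT.leaf (nat_lit 20498977)) (BT.leaf (nat_lit 20546321))) (BT.node (nat_lit 5238272) (BT.leaf (nat_lit 22060057)) (BT.leaf (nat_lit 20283937)))) (BT.node (nat_lit 5238464) (BT.node (nat_lit 5238400) (BT.leaf (nat_lit 25281797)) (BT.leaf (nat_lit 20324377))) (BT.node (nat_lit 5238528) (BT.leaf (nat_lit 20324381)) (BT.leaf (nat_lit 20482069)))))) (BT.node (nat_lit 5239104) (BT.node (nat_lit 5238848) (BT.node (nat_lit 5238720) (BT.node (nat_lit 5238656) (BT.leaf (nat_lit 25284377)) (BT.leaf (nat_lit 20925209))) (BT.node (nat_lit 5238784) (BT.leaf (nat_lit 20925213)) (BT.leaf (nat_lit 22150929)))) (BT.node (nat_lit 5238976) (BT.node (nat_lit 5238912) (BT.leaf (nat_lit 21664025)) (BT.leaf (nat_lit 21664013))) (BT.node (nat_lit 5239040) (BT.leaf (nat_lit 20927257)) (BT.leaf (nat_lit 20927261))))) (BT.node (nat_lit 5239360) (BT.node (nat_lit 5239232) (BT.node (nat_lit 5239168) (BT.leaf (nat_lit 20445977)) (BT.leaf (nat_lit 20445981))) (BT.node (nat_lit 5239296) (BT.leaf (nat_lit 20851721)) (BT.leaf (nat_lit 20851725)))) (BT.node (nat_lit 5239488) (BT.node (nat_lit 5239424) (BT.leaf (nat_lit 20851737)) (BT.leaf (nat_lit 20851741))) (BT.node (nat_lit 5239552) (BT.leaf (nat_lit 23122721)) (BT.leaf (nat_lit 22155541)))))))) (BT.node (nat_lit 5241664) (BT.node (nat_lit 5240640) (BT.node (nat_lit 5240128) (BT.node (nat_lit 5239872) (BT.node (nat_lit 5239744) (BT.node (nat_lit 5239680) (BT.leaf (nat_lit 22503441)) (BT.leaf (nat_lit 20761861))) (BT.node (nat_lit 5239808) (BT.leaf (nat_lit 20316953)) (BT.leaf (nat_lit 20316957)))) (BT.node (nat_lit 5240000) (BT.node (nat_lit 5239936) (BT.leaf (nat_lit 25304081)) (BT.leaf (nat_lit 25304325))) (BT.node (nat_lit 5240064) (BT.leaf (nat_lit 25304089)) (BT.leaf (nat_lit 25304097))))) (BT.node (nat_lit 5240384) (BT.node (nat_lit 5240256) (BT.node (nat_lit 5240192) (BT.leaf (nat_lit 20669189)) (BT.leaf (nat_lit 20285969))) (BT.node (nat_lit 5240320) (BT.leaf (nat_lit 20669209)) (BT.leaf (nat_lit 20669213)))) (BT.node (nat_lit 5240512) (BT.node (nat_lit 5240448) (BT.leaf (nat_lit 37323013)) (BT.leaf (nat_lit 20285981))) (BT.node (nat_lit 5240576) (BT.leaf (nat_lit 37323029)) (BT.leaf (nat_lit 37323041)))))) (BT.node (nat_lit 5241152) (BT.node (nat_lit 5240896) (BT.node (nat_lit 5240768) (BT.node (nat_lit 5240704) (BT.leaf (nat_lit 20285985)) (BT.leaf (nat_lit 20286241))) (BT.node (nat_lit 5240832) (BT.leaf (nat_lit 20286485)) (BT.leaf (nat_lit 50046217)))) (BT.node (nat_lit 5241024) (BT.node (nat_lit 5240960) (BT.leaf (nat_lit 50046221)) (BT.leaf (nat_lit 20434193))) (BT.node (nat_lit 5241088) (BT.leaf (nat_lit 50046233)) (BT.leaf (nat_lit 20286229))))) (BT.node (nat_lit 5241408) (BT.node (nat_lit 5241280) (BT.node (nat_lit 5241216) (BT.leaf (nat_lit 52103685)) (BT.leaf (nat_lit 20734489))) (BT.node (nat_lit 5241344) (BT.leaf (nat_lit 20734493)) (BT.leaf (nat_lit 20278293)))) (BT.node (nat_lit 5241536) (BT.node (nat_lit 5241472) (BT.leaf (nat_lit 20555277)) (BT.leaf (nat_lit 20491037))) (BT.node (nat_lit 5241600) (BT.leaf (nat_lit 25297681)) (BT.leaf (nat_lit 20555289))))))) (BT.node (nat_lit 5242688) (BT.node (nat_lit 5242176) (BT.node (nat_lit 5241920) (BT.node (nat_lit 5241792) (BT.node (nat_lit 5241728) (BT.leaf (nat_lit 21102625)) (BT.leaf (nat_lit 35883537))) (BT.node (nat_lit 5241856) (BT.leaf (nat_lit 20551441)) (BT.leaf (nat_lit 20552201)))) (BT.node (nat_lit 5242048) (BT.node (nat_lit 5241984) (BT.leaf (nat_lit 25258781)) (BT.leaf (nat_lit 25258761))) (BT.node (nat_lit 5242112) (BT.leaf (nat_lit 20552221)) (BT.leaf (nat_lit 23139105))))) (BT.node (nat_lit 5242432) (BT.node (nat_lit 5242304) (BT.node (nat_lit 5242240) (BT.leaf (nat_lit 20288529)) (BT.leaf (nat_lit 20288785))) (BT.node (nat_lit 5242368) (BT.leaf (nat_lit 25301009)) (BT.leaf (nat_lit 20288789)))) (BT.node (nat_lit 5242560) (BT.node (nat_lit 5242496) (BT.leaf (nat_lit 20277525)) (BT.leaf (nat_lit 25302789))) (BT.node (nat_lit 5242624) (BT.leaf (nat_lit 25302553)) (BT.leaf (nat_lit 20289041)))))) (BT.node (nat_lit 5243200) (BT.node (nat_lit 5242944) (BT.node (nat_lit 5242816) (BT.node (nat_lit 5242752) (BT.leaf (nat_lit 22050317)) (BT.leaf (nat_lit 20483089))) (BT.node (nat_lit 5242880) (BT.leaf (nat_lit 25303813)) (BT.leaf (nat_lit 20483105)))) (BT.node (nat_lit 5243072) (BT.node (nat_lit 5243008) (BT.leaf (nat_lit 20636961)) (BT.leaf (nat_lit 20289057))) (BT.node (nat_lit 5243136) (BT.leaf (nat_lit 25103877)) (BT.leaf (nat_lit 21293333))))) (BT.node (nat_lit 5243456) (BT.node (nat_lit 5243328) (BT.node (nat_lit 5243264) (BT.leaf (nat_lit 21293341)) (BT.leaf (nat_lit 22293793))) (BT.node (nat_lit 5243392) (BT.leaf (nat_lit 22294049)) (BT.leaf (nat_lit 20442885)))) (BT.node (nat_lit 5243584) (BT.node (nat_lit 5243520) (BT.leaf (nat_lit 22294305)) (BT.leaf (nat_lit 23051545))) (BT.node (nat_lit 5243648) (BT.leaf (nat_lit 21411105)) (BT.leaf (nat_lit 21491489))))))))) (BT.node (nat_lit 5247808) (BT.node (nat_lit 5245760) (BT.node (nat_lit 5244736) (BT.node (nat_lit 5244224) (BT.node (nat_lit 5243968) (BT.node (nat_lit 5243840) (BT.node (nat_lit 5243776) (BT.leaf (nat_lit 21491745)) (BT.leaf (nat_lit 20819225))) (BT.node (nat_lit 5243904) (BT.leaf (nat_lit 51877125)) (BT.leaf (nat_lit 35596549)))) (BT.node (nat_lit 5244096) (BT.node (nat_lit 5244032) (BT.leaf (nat_lit 20286741)) (BT.leaf (nat_lit 20291353))) (BT.node (nat_lit 5244160) (BT.leaf (nat_lit 20291605)) (BT.leaf (nat_lit 35789089))))) (BT.node (nat_lit 5244480) (BT.node (nat_lit 5244352) (BT.node (nat_lit 5244288) (BT.leaf (nat_lit 21340445)) (BT.leaf (nat_lit 20819477))) (BT.node (nat_lit 5244416) (BT.leaf (nat_lit 21455641)) (BT.leaf (nat_lit 21455649)))) (BT.node (nat_lit 5244608) (BT.node (nat_lit 5244544) (BT.leaf (nat_lit 20490757)) (BT.leaf (nat_lit 21455905))) (BT.node (nat_lit 5244672) (BT.leaf (nat_lit 25311761)) (BT.leaf (nat_lit 25163541)))))) (BT.node (nat_lit 5245248) (BT.node (nat_lit 5244992) (BT.node (nat_lit 5244864) (BT.node (nat_lit 5244800) (BT.leaf (nat_lit 20515861)) (BT.leaf (nat_lit 25163545))) (BT.node (nat_lit 5244928) (BT.leaf (nat_lit 20364817)) (BT.leaf (nat_lit 25312521)))) (BT.node (nat_lit 5245120) (BT.node (nat_lit 5245056) (BT.leaf (nat_lit 25313569)) (BT.leaf (nat_lit 21045253))) (BT.node (nat_lit 5245184) (BT.leaf (nat_lit 20292369)) (BT.leaf (nat_lit 25523477))))) (BT.node (nat_lit 5245504) (BT.node (nat_lit 5245376) (BT.node (nat_lit 5245312) (BT.leaf (nat_lit 25523485)) (BT.leaf (nat_lit 20698905))) (BT.node (nat_lit 5245440) (BT.leaf (nat_lit 20698893)) (BT.leaf (nat_lit 21227269)))) (BT.node (nat_lit 5245632) (BT.node (nat_lit 5245568) (BT.leaf (nat_lit 22745617)) (BT.leaf (nat_lit 20260361))) (BT.node (nat_lit 5245696) (BT.leaf (nat_lit 20441121)) (BT.leaf (nat_lit 20293649))))))) (BT.node (nat_lit 5246784) (BT.node (nat_lit 5246272) (BT.node (nat_lit 5246016) (BT.node (nat_lit 5245888) (BT.node (nat_lit 5245824) (BT.leaf (nat_lit 20293137)) (BT.leaf (nat_lit 21199881))) (BT.node (nat_lit 5245952) (BT.leaf (nat_lit 37175585)) (BT.leaf (nat_lit 20293909)))) (BT.node (nat_lit 5246144) (BT.node (nat_lit 5246080) (BT.leaf (nat_lit 20885521)) (BT.leaf (nat_lit 23998485))) (BT.node (nat_lit 5246208) (BT.leaf (nat_lit 25318933)) (BT.leaf (nat_lit 25319709))))) (BT.node (nat_lit 5246528) (BT.node (nat_lit 5246400) (BT.node (nat_lit 5246336) (BT.leaf (nat_lit 25320221)) (BT.leaf (nat_lit 25320725))) (BT.node (nat_lit 5246464) (BT.leaf (nat_lit 20238873)) (BT.leaf (nat_lit 20238877)))) (BT.node (nat_lit 5246656) (BT.node (nat_lit 5246592) (BT.leaf (nat_lit 21209877)) (BT.leaf (nat_lit 35939105))) (BT.node (nat_lit 5246720) (BT.leaf (nat_lit 22643745)) (BT.leaf (nat_lit 21140485)))))) (BT.node (nat_lit 5247296) (BT.node (nat_lit 5247040) (BT.node (nat_lit 5246912) (BT.node (nat_lit 5246848) (BT.leaf (nat_lit 36258829)) (BT.leaf (nat_lit 25565701))) (BT.node (nat_lit 5246976) (BT.leaf (nat_lit 33861401)) (BT.leaf (nat_lit 23203845)))) (BT.node (nat_lit 5247168) (BT.node (nat_lit 5247104) (BT.leaf (nat_lit 21624337)) (BT.leaf (nat_lit 25324309))) (BT.node (nat_lit 5247232) (BT.leaf (nat_lit 23204385)) (BT.leaf (nat_lit 20294933))))) (BT.node (nat_lit 5247552) (BT.node (nat_lit 5247424) (BT.node (nat_lit 5247360) (BT.leaf (nat_lit 25325857)) (BT.leaf (nat_lit 20999953))) (BT.node (nat_lit 5247488) (BT.leaf (nat_lit 20295441)) (BT.leaf (nat_lit 23206917)))) (BT.node (nat_lit 5247680) (BT.node (nat_lit 5247616) (BT.leaf (nat_lit 23207173)) (BT.leaf (nat_lit 20990733))) (BT.node (nat_lit 5247744) (BT.leaf (nat_lit 25327893)) (BT.leaf (nat_lit 20991261)))))))) (BT.node (nat_lit 5249856) (BT.node (nat_lit 5248832) (BT.node (nat_lit 5248320) (BT.node (nat_lit 5248064) (BT.node (nat_lit 5247936) (BT.node (nat_lit 5247872) (BT.leaf (nat_lit 25329685)) (BT.leaf (nat_lit 25017369))) (BT.node (nat_lit 5248000) (BT.leaf (nat_lit 25330445)) (BT.leaf (nat_lit 50512153)))) (BT.node (nat_lit 5248192) (BT.node (nat_lit 5248128) (BT.leaf (nat_lit 50512157)) (BT.leaf (nat_lit 25233937))) (BT.node (nat_lit 5248256) (BT.leaf (nat_lit 20954145)) (BT.leaf (nat_lit 20351505))))) (BT.node (nat_lit 5248576) (BT.node (nat_lit 5248448) (BT.node (nat_lit 5248384) (BT.leaf (nat_lit 23251733)) (BT.leaf (nat_lit 51662881))) (BT.node (nat_lit 5248512) (BT.leaf (nat_lit 23035413)) (BT.leaf (nat_lit 23202565)))) (BT.node (nat_lit 5248704) (BT.node (nat_lit 5248640) (BT.leaf (nat_lit 50149389)) (BT.leaf (nat_lit 22977033))) (BT.node (nat_lit 5248768) (BT.leaf (nat_lit 20420113)) (BT.leaf (nat_lit 21038089)))))) (BT.node (nat_lit 5249344) (BT.node (nat_lit 5249088) (BT.node (nat_lit 5248960) (BT.node (nat_lit 5248896) (BT.leaf (nat_lit 51646497)) (BT.leaf (nat_lit 22929425))) (BT.node (nat_lit 5249024) (BT.leaf (nat_lit 25335057)) (BT.leaf (nat_lit 24053521)))) (BT.node (nat_lit 5249216) (BT.node (nat_lit 5249152) (BT.leaf (nat_lit 24916509)) (BT.leaf (nat_lit 25335569))) (BT.node (nat_lit 5249280) (BT.leaf (nat_lit 20996633)) (BT.leaf (nat_lit 27082513))))) (BT.node (nat_lit 5249600) (BT.node (nat_lit 5249472) (BT.node (nat_lit 5249408) (BT.leaf (nat_lit 22335493)) (BT.leaf (nat_lit 21777181))) (BT.node (nat_lit 5249536) (BT.leaf (nat_lit 51308557)) (BT.leaf (nat_lit 21105953)))) (BT.node (nat_lit 5249728) (BT.node (nat_lit 5249664) (BT.leaf (nat_lit 22374937)) (BT.leaf (nat_lit 36269069))) (BT.node (nat_lit 5249792) (BT.leaf (nat_lit 20457753)) (BT.leaf (nat_lit 25337117))))))) (BT.node (nat_lit 5250880) (BT.node (nat_lit 5250368) (BT.node (nat_lit 5250112) (BT.node (nat_lit 5249984) (BT.node (nat_lit 5249920) (BT.leaf (nat_lit 23216137)) (BT.leaf (nat_lit 25338129))) (BT.node (nat_lit 5250048) (BT.leaf (nat_lit 20443413)) (BT.leaf (nat_lit 25338901)))) (BT.node (nat_lit 5250240) (BT.node (nat_lit 5250176) (BT.leaf (nat_lit 20443397)) (BT.leaf (nat_lit 21000989))) (BT.node (nat_lit 5250304) (BT.leaf (nat_lit 25341205)) (BT.leaf (nat_lit 25341729))))) (BT.node (nat_lit 5250624) (BT.node (nat_lit 5250496) (BT.node (nat_lit 5250432) (BT.leaf (nat_lit 25342241)) (BT.leaf (nat_lit 25342469))) (BT.node (nat_lit 5250560) (BT.leaf (nat_lit 24965653)) (BT.leaf (nat_lit 24966665)))) (BT.node (nat_lit 5250752) (BT.node (nat_lit 5250688) (BT.leaf (nat_lit 25341709)) (BT.leaf (nat_lit 24960541))) (BT.node (nat_lit 5250816) (BT.leaf (nat_lit 20304913)) (BT.leaf (nat_lit 20668421)))))) (BT.node (nat_lit 5251392) (BT.node (nat_lit 5251136) (BT.node (nat_lit 5251008) (BT.node (nat_lit 5250944) (BT.leaf (nat_lit 25346325)) (BT.leaf (nat_lit 21003545))) (BT.node (nat_lit 5251072) (BT.leaf (nat_lit 50031381)) (BT.leaf (nat_lit 22760985)))) (BT.node (nat_lit 5251264) (BT.node (nat_lit 5251200) (BT.leaf (nat_lit 20424709)) (BT.leaf (nat_lit 51956753))) (BT.node (nat_lit 5251328) (BT.leaf (nat_lit 22602273)) (BT.leaf (nat_lit 24952849))))) (BT.node (nat_lit 5251648) (BT.node (nat_lit 5251520) (BT.node (nat_lit 5251456) (BT.leaf (nat_lit 21027097)) (BT.leaf (nat_lit 22552865))) (BT.node (nat_lit 5251584) (BT.leaf (nat_lit 20400413)) (BT.leaf (nat_lit 26383905)))) (BT.node (nat_lit 5251776) (BT.node (nat_lit 5251712) (BT.leaf (nat_lit 20715545)) (BT.leaf (nat_lit 22298649))) (BT.node (nat_lit 5251840) (BT.leaf (nat_lit 20739857)) (BT.leaf (nat_lit 23256325)))))))))) (BT.node (nat_lit 5260096) (BT.node (nat_lit 5256000) (BT.node (nat_lit 5253952) (BT.node (nat_lit 5252928) (BT.node (nat_lit 5252416) (BT.node (nat_lit 5252160) (BT.node (nat_lit 5252032) (BT.node (nat_lit 5251968) (BT.leaf (nat_lit 24979741)) (BT.leaf (nat_lit 22392853))) (BT.node (nat_lit 5252096) (BT.leaf (nat_lit 24930329)) (BT.leaf (nat_lit 20305685)))) (BT.node (nat_lit 5252288) (BT.node (nat_lit 5252224) (BT.leaf (nat_lit 22904341)) (BT.leaf (nat_lit 22745093))) (BT.node (nat_lit 5252352) (BT.leaf (nat_lit 23188509)) (BT.leaf (nat_lit 23263249))))) (BT.node (nat_lit 5252672) (BT.node (nat_lit 5252544) (BT.node (nat_lit 5252480) (BT.leaf (nat_lit 21009949)) (BT.leaf (nat_lit 25353745))) (BT.node (nat_lit 5252608) (BT.leaf (nat_lit 22335261)) (BT.leaf (nat_lit 25354273)))) (BT.node (nat_lit 5252800) (BT.node (nat_lit 5252736) (BT.leaf (nat_lit 25354517)) (BT.leaf (nat_lit 33095961))) (BT.node (nat_lit 5252864) (BT.leaf (nat_lit 23510553)) (BT.leaf (nat_lit 20909585)))))) (BT.node (nat_lit 5253440) (BT.node (nat_lit 5253184) (BT.node (nat_lit 5253056) (BT.node (nat_lit 5252992) (BT.leaf (nat_lit 25355285)) (BT.leaf (nat_lit 24956169))) (BT.node (nat_lit 5253120) (BT.leaf (nat_lit 24956429)) (BT.leaf (nat_lit 21829385)))) (BT.node (nat_lit 5253312) (BT.node (nat_lit 5253248) (BT.leaf (nat_lit 20709153)) (BT.leaf (nat_lit 51259917))) (BT.node (nat_lit 5253376) (BT.leaf (nat_lit 20673293)) (BT.leaf (nat_lit 22185237))))) (BT.node (nat_lit 5253696) (BT.node (nat_lit 5253568) (BT.node (nat_lit 5253504) (BT.leaf (nat_lit 25358873)) (BT.leaf (nat_lit 21014301))) (BT.node (nat_lit 5253632) (BT.leaf (nat_lit 25359381)) (BT.leaf (nat_lit 24897301)))) (BT.node (nat_lit 5253824) (BT.node (nat_lit 5253760) (BT.leaf (nat_lit 22558229)) (BT.leaf (nat_lit 36935449))) (BT.node (nat_lit 5253888) (BT.leaf (nat_lit 24897053)) (BT.leaf (nat_lit 26004253))))))) (BT.node (nat_lit 5254976) (BT.node (nat_lit 5254464) (BT.node (nat_lit 5254208) (BT.node (nat_lit 5254080) (BT.node (nat_lit 5254016) (BT.leaf (nat_lit 23816725)) (BT.leaf (nat_lit 20512273))) (BT.node (nat_lit 5254144) (BT.leaf (nat_lit 20308241)) (BT.leaf (nat_lit 20307985)))) (BT.node (nat_lit 5254336) (BT.node (nat_lit 5254272) (BT.leaf (nat_lit 20307729)) (BT.leaf (nat_lit 25362705))) (BT.node (nat_lit 5254400) (BT.leaf (nat_lit 25362709)) (BT.leaf (nat_lit 36361477))))) (BT.node (nat_lit 5254720) (BT.node (nat_lit 5254592) (BT.node (nat_lit 5254528) (BT.leaf (nat_lit 25364765)) (BT.leaf (nat_lit 22505757))) (BT.node (nat_lit 5254656) (BT.leaf (nat_lit 24474129)) (BT.leaf (nat_lit 23294749)))) (BT.node (nat_lit 5254848) (BT.node (nat_lit 5254784) (BT.leaf (nat_lit 21296917)) (BT.leaf (nat_lit 34138913))) (BT.node (nat_lit 5254912) (BT.leaf (nat_lit 22708497)) (BT.leaf (nat_lit 21846277)))))) (BT.node (nat_lit 5255488) (BT.node (nat_lit 5255232) (BT.node (nat_lit 5255104) (BT.node (nat_lit 5255040) (BT.leaf (nat_lit 25367057)) (BT.leaf (nat_lit 25116689))) (BT.node (nat_lit 5255168) (BT.leaf (nat_lit 35620881)) (BT.leaf (nat_lit 25116681)))) (BT.node (nat_lit 5255360) (BT.node (nat_lit 5255296) (BT.leaf (nat_lit 22684953)) (BT.leaf (nat_lit 25116941))) (BT.node (nat_lit 5255424) (BT.leaf (nat_lit 25368865)) (BT.leaf (nat_lit 20816925))))) (BT.node (nat_lit 5255744) (BT.node (nat_lit 5255616) (BT.node (nat_lit 5255552) (BT.leaf (nat_lit 20900117)) (BT.leaf (nat_lit 52284933))) (BT.node (nat_lit 5255680) (BT.leaf (nat_lit 25545221)) (BT.leaf (nat_lit 25816861)))) (BT.node (nat_lit 5255872) (BT.node (nat_lit 5255808) (BT.leaf (nat_lit 24945669)) (BT.leaf (nat_lit 21179153))) (BT.node (nat_lit 5255936) (BT.leaf (nat_lit 22370589)) (BT.leaf (nat_lit 22477317)))))))) (BT.node (nat_lit 5258048) (BT.node (nat_lit 5257024) (BT.node (nat_lit 5256512) (BT.node (nat_lit 5256256) (BT.node (nat_lit 5256128) (BT.node (nat_lit 5256064) (BT.leaf (nat_lit 22311193)) (BT.leaf (nat_lit 20360457))) (BT.node (nat_lit 5256192) (BT.leaf (nat_lit 21137417)) (BT.leaf (nat_lit 24934677)))) (BT.node (nat_lit 5256384) (BT.node (nat_lit 5256320) (BT.leaf (nat_lit 20360481)) (BT.leaf (nat_lit 25234709))) (BT.node (nat_lit 5256448) (BT.leaf (nat_lit 35725333)) (BT.leaf (nat_lit 21400353))))) (BT.node (nat_lit 5256768) (BT.node (nat_lit 5256640) (BT.node (nat_lit 5256576) (BT.leaf (nat_lit 20191765)) (BT.leaf (nat_lit 20678673))) (BT.node (nat_lit 5256704) (BT.leaf (nat_lit 25374233)) (BT.leaf (nat_lit 21027101)))) (BT.node (nat_lit 5256896) (BT.node (nat_lit 5256832) (BT.leaf (nat_lit 25375249)) (BT.leaf (nat_lit 25375517))) (BT.node (nat_lit 5256960) (BT.leaf (nat_lit 25376033)) (BT.leaf (nat_lit 25376277)))))) (BT.node (nat_lit 5257536) (BT.node (nat_lit 5257280) (BT.node (nat_lit 5257152) (BT.node (nat_lit 5257088) (BT.leaf (nat_lit 20187921)) (BT.leaf (nat_lit 20192017))) (BT.node (nat_lit 5257216) (BT.leaf (nat_lit 25377041)) (BT.leaf (nat_lit 22593057)))) (BT.node (nat_lit 5257408) (BT.node (nat_lit 5257344) (BT.leaf (nat_lit 22554653)) (BT.leaf (nat_lit 25377809))) (BT.node (nat_lit 5257472) (BT.leaf (nat_lit 21167377)) (BT.leaf (nat_lit 21030173))))) (BT.node (nat_lit 5257792) (BT.node (nat_lit 5257664) (BT.node (nat_lit 5257600) (BT.leaf (nat_lit 51453453)) (BT.leaf (nat_lit 23428129))) (BT.node (nat_lit 5257728) (BT.leaf (nat_lit 20312337)) (BT.leaf (nat_lit 20399893)))) (BT.node (nat_lit 5257920) (BT.node (nat_lit 5257856) (BT.leaf (nat_lit 21031453)) (BT.leaf (nat_lit 25380625))) (BT.node (nat_lit 5257984) (BT.leaf (nat_lit 21169441)) (BT.leaf (nat_lit 25381913))))))) (BT.node (nat_lit 5259072) (BT.node (nat_lit 5258560) (BT.node (nat_lit 5258304) (BT.node (nat_lit 5258176) (BT.node (nat_lit 5258112) (BT.leaf (nat_lit 20384025)) (BT.leaf (nat_lit 20591121))) (BT.node (nat_lit 5258240) (BT.leaf (nat_lit 25383193)) (BT.leaf (nat_lit 34837005)))) (BT.node (nat_lit 5258432) (BT.node (nat_lit 5258368) (BT.leaf (nat_lit 23018257)) (BT.leaf (nat_lit 21069329))) (BT.node (nat_lit 5258496) (BT.leaf (nat_lit 21272853)) (BT.leaf (nat_lit 25383441))))) (BT.node (nat_lit 5258816) (BT.node (nat_lit 5258688) (BT.node (nat_lit 5258624) (BT.leaf (nat_lit 20529953)) (BT.leaf (nat_lit 25384481))) (BT.node (nat_lit 5258752) (BT.leaf (nat_lit 21717785)) (BT.leaf (nat_lit 22466065)))) (BT.node (nat_lit 5258944) (BT.node (nat_lit 5258880) (BT.leaf (nat_lit 20313361)) (BT.leaf (nat_lit 22466845))) (BT.node (nat_lit 5259008) (BT.leaf (nat_lit 25385745)) (BT.leaf (nat_lit 20695061)))))) (BT.node (nat_lit 5259584) (BT.node (nat_lit 5259328) (BT.node (nat_lit 5259200) (BT.node (nat_lit 5259136) (BT.leaf (nat_lit 23693329)) (BT.leaf (nat_lit 21036313))) (BT.node (nat_lit 5259264) (BT.leaf (nat_lit 20745761)) (BT.leaf (nat_lit 22254361)))) (BT.node (nat_lit 5259456) (BT.node (nat_lit 5259392) (BT.leaf (nat_lit 21280517)) (BT.leaf (nat_lit 21511429))) (BT.node (nat_lit 5259520) (BT.leaf (nat_lit 21404677)) (BT.leaf (nat_lit 21322005))))) (BT.node (nat_lit 5259840) (BT.node (nat_lit 5259712) (BT.node (nat_lit 5259648) (BT.leaf (nat_lit 21597461)) (BT.leaf (nat_lit 20420641))) (BT.node (nat_lit 5259776) (BT.leaf (nat_lit 23019025)) (BT.leaf (nat_lit 21301769)))) (BT.node (nat_lit 5259968) (BT.node (nat_lit 5259904) (BT.leaf (nat_lit 22588181)) (BT.leaf (nat_lit 22391057))) (BT.node (nat_lit 5260032) (BT.leaf (nat_lit 22387221)) (BT.leaf (nat_lit 20711201))))))))) (BT.node (nat_lit 5264192) (BT.node (nat_lit 5262144) (BT.node (nat_lit 5261120) (BT.node (nat_lit 5260608) (BT.node (nat_lit 5260352) (BT.node (nat_lit 5260224) (BT.node (nat_lit 5260160) (BT.leaf (nat_lit 20187925)) (BT.leaf (nat_lit 20316433))) (BT.node (nat_lit 5260288) (BT.leaf (nat_lit 22002453)) (BT.leaf (nat_lit 20316689)))) (BT.node (nat_lit 5260480) (BT.node (nat_lit 5260416) (BT.leaf (nat_lit 24178965)) (BT.leaf (nat_lit 23383577))) (BT.node (nat_lit 5260544) (BT.leaf (nat_lit 21234461)) (BT.leaf (nat_lit 20713737))))) (BT.node (nat_lit 5260864) (BT.node (nat_lit 5260736) (BT.node (nat_lit 5260672) (BT.leaf (nat_lit 20481045)) (BT.leaf (nat_lit 20713761))) (BT.node (nat_lit 5260800) (BT.leaf (nat_lit 20481297)) (BT.leaf (nat_lit 21939489)))) (BT.node (nat_lit 5260992) (BT.node (nat_lit 5260928) (BT.leaf (nat_lit 24914465)) (BT.leaf (nat_lit 24914209))) (BT.node (nat_lit 5261056) (BT.leaf (nat_lit 26851345)) (BT.leaf (nat_lit 21247001)))))) (BT.node (nat_lit 5261632) (BT.node (nat_lit 5261376) (BT.node (nat_lit 5261248) (BT.node (nat_lit 5261184) (BT.leaf (nat_lit 20202001)) (BT.leaf (nat_lit 20967173))) (BT.node (nat_lit 5261312) (BT.leaf (nat_lit 20441093)) (BT.leaf (nat_lit 25396497)))) (BT.node (nat_lit 5261504) (BT.node (nat_lit 5261440) (BT.leaf (nat_lit 21153045)) (BT.leaf (nat_lit 20319769))) (BT.node (nat_lit 5261568) (BT.leaf (nat_lit 25398553)) (BT.leaf (nat_lit 20319773))))) (BT.node (nat_lit 5261888) (BT.node (nat_lit 5261760) (BT.node (nat_lit 5261696) (BT.leaf (nat_lit 20666373)) (BT.leaf (nat_lit 22281477))) (BT.node (nat_lit 5261824) (BT.leaf (nat_lit 25398801)) (BT.leaf (nat_lit 20443925)))) (BT.node (nat_lit 5262016) (BT.node (nat_lit 5261952) (BT.leaf (nat_lit 25399313)) (BT.leaf (nat_lit 25400085))) (BT.node (nat_lit 5262080) (BT.leaf (nat_lit 25400857)) (BT.leaf (nat_lit 21048605))))))) (BT.node (nat_lit 5263168) (BT.node (nat_lit 5262656) (BT.node (nat_lit 5262400) (BT.node (nat_lit 5262272) (BT.node (nat_lit 5262208) (BT.leaf (nat_lit 25401877)) (BT.leaf (nat_lit 25403169))) (BT.node (nat_lit 5262336) (BT.leaf (nat_lit 21049373)) (BT.leaf (nat_lit 25403665)))) (BT.node (nat_lit 5262528) (BT.node (nat_lit 5262464) (BT.leaf (nat_lit 21131277)) (BT.leaf (nat_lit 25404177))) (BT.node (nat_lit 5262592) (BT.leaf (nat_lit 25404441)) (BT.leaf (nat_lit 25405217))))) (BT.node (nat_lit 5262912) (BT.node (nat_lit 5262784) (BT.node (nat_lit 5262720) (BT.leaf (nat_lit 21148693)) (BT.leaf (nat_lit 21132553))) (BT.node (nat_lit 5262848) (BT.leaf (nat_lit 21132813)) (BT.leaf (nat_lit 25045021)))) (BT.node (nat_lit 5263040) (BT.node (nat_lit 5262976) (BT.leaf (nat_lit 51368209)) (BT.leaf (nat_lit 25407249))) (BT.node (nat_lit 5263104) (BT.leaf (nat_lit 33150229)) (BT.leaf (nat_lit 25408277)))))) (BT.node (nat_lit 5263680) (BT.node (nat_lit 5263424) (BT.node (nat_lit 5263296) (BT.node (nat_lit 5263232) (BT.leaf (nat_lit 25408017)) (BT.leaf (nat_lit 23439889))) (BT.node (nat_lit 5263360) (BT.leaf (nat_lit 25409041)) (BT.leaf (nat_lit 25409297)))) (BT.node (nat_lit 5263552) (BT.node (nat_lit 5263488) (BT.leaf (nat_lit 50190597)) (BT.leaf (nat_lit 25409817))) (BT.node (nat_lit 5263616) (BT.leaf (nat_lit 24038421)) (BT.leaf (nat_lit 22744097))))) (BT.node (nat_lit 5263936) (BT.node (nat_lit 5263808) (BT.node (nat_lit 5263744) (BT.leaf (nat_lit 22536985)) (BT.leaf (nat_lit 25411097))) (BT.node (nat_lit 5263872) (BT.leaf (nat_lit 22423061)) (BT.leaf (nat_lit 25411601)))) (BT.node (nat_lit 5264064) (BT.node (nat_lit 5264000) (BT.leaf (nat_lit 36403213)) (BT.leaf (nat_lit 20896545))) (BT.node (nat_lit 5264128) (BT.leaf (nat_lit 20998149)) (BT.leaf (nat_lit 23325461)))))))) (BT.node (nat_lit 5266240) (BT.node (nat_lit 5265216) (BT.node (nat_lit 5264704) (BT.node (nat_lit 5264448) (BT.node (nat_lit 5264320) (BT.node (nat_lit 5264256) (BT.leaf (nat_lit 21745173)) (BT.leaf (nat_lit 21745433))) (BT.node (nat_lit 5264384) (BT.leaf (nat_lit 25413145)) (BT.leaf (nat_lit 23318809)))) (BT.node (nat_lit 5264576) (BT.node (nat_lit 5264512) (BT.leaf (nat_lit 23317777)) (BT.leaf (nat_lit 20323345))) (BT.node (nat_lit 5264640) (BT.leaf (nat_lit 20322577)) (BT.leaf (nat_lit 20322321))))) (BT.node (nat_lit 5264960) (BT.node (nat_lit 5264832) (BT.node (nat_lit 5264768) (BT.leaf (nat_lit 20374281)) (BT.leaf (nat_lit 20374285))) (BT.node (nat_lit 5264896) (BT.leaf (nat_lit 20374297)) (BT.leaf (nat_lit 20374301)))) (BT.node (nat_lit 5265088) (BT.node (nat_lit 5265024) (BT.leaf (nat_lit 20374305)) (BT.leaf (nat_lit 20423705))) (BT.node (nat_lit 5265152) (BT.leaf (nat_lit 21270045)) (BT.leaf (nat_lit 22424069)))))) (BT.node (nat_lit 5265728) (BT.node (nat_lit 5265472) (BT.node (nat_lit 5265344) (BT.node (nat_lit 5265280) (BT.leaf (nat_lit 21061149)) (BT.leaf (nat_lit 21521937))) (BT.node (nat_lit 5265408) (BT.leaf (nat_lit 21414917)) (BT.leaf (nat_lit 20324113)))) (BT.node (nat_lit 5265600) (BT.node (nat_lit 5265536) (BT.leaf (nat_lit 35429665)) (BT.leaf (nat_lit 25418781))) (BT.node (nat_lit 5265664) (BT.leaf (nat_lit 20996629)) (BT.leaf (nat_lit 25419285))))) (BT.node (nat_lit 5265984) (BT.node (nat_lit 5265856) (BT.node (nat_lit 5265792) (BT.leaf (nat_lit 33083165)) (BT.leaf (nat_lit 22464797))) (BT.node (nat_lit 5265920) (BT.leaf (nat_lit 22948633)) (BT.leaf (nat_lit 21429773)))) (BT.node (nat_lit 5266112) (BT.node (nat_lit 5266048) (BT.leaf (nat_lit 25420561)) (BT.leaf (nat_lit 21283085))) (BT.node (nat_lit 5266176) (BT.leaf (nat_lit 20866329)) (BT.leaf (nat_lit 23338761))))))) (BT.node (nat_lit 5267264) (BT.node (nat_lit 5266752) (BT.node (nat_lit 5266496) (BT.node (nat_lit 5266368) (BT.node (nat_lit 5266304) (BT.leaf (nat_lit 36414477)) (BT.leaf (nat_lit 20325397))) (BT.node (nat_lit 5266432) (BT.leaf (nat_lit 25421585)) (BT.leaf (nat_lit 23235089)))) (BT.node (nat_lit 5266624) (BT.node (nat_lit 5266560) (BT.leaf (nat_lit 26483741)) (BT.leaf (nat_lit 25423641))) (BT.node (nat_lit 5266688) (BT.leaf (nat_lit 22289185)) (BT.leaf (nat_lit 22148641))))) (BT.node (nat_lit 5267008) (BT.node (nat_lit 5266880) (BT.node (nat_lit 5266816) (BT.leaf (nat_lit 35725325)) (BT.leaf (nat_lit 21137437))) (BT.node (nat_lit 5266944) (BT.leaf (nat_lit 20613397)) (BT.leaf (nat_lit 25425681)))) (BT.node (nat_lit 5267136) (BT.node (nat_lit 5267072) (BT.leaf (nat_lit 25380377)) (BT.leaf (nat_lit 25428001))) (BT.node (nat_lit 5267200) (BT.leaf (nat_lit 50554905)) (BT.leaf (nat_lit 20427041)))))) (BT.node (nat_lit 5267776) (BT.node (nat_lit 5267520) (BT.node (nat_lit 5267392) (BT.node (nat_lit 5267328) (BT.leaf (nat_lit 25206293)) (BT.leaf (nat_lit 20921109))) (BT.node (nat_lit 5267456) (BT.leaf (nat_lit 25061381)) (BT.leaf (nat_lit 26756873)))) (BT.node (nat_lit 5267648) (BT.node (nat_lit 5267584) (BT.leaf (nat_lit 25429777)) (BT.leaf (nat_lit 21249057))) (BT.node (nat_lit 5267712) (BT.leaf (nat_lit 22418437)) (BT.leaf (nat_lit 20694037))))) (BT.node (nat_lit 5268032) (BT.node (nat_lit 5267904) (BT.node (nat_lit 5267840) (BT.leaf (nat_lit 25430801)) (BT.leaf (nat_lit 46345737))) (BT.node (nat_lit 5267968) (BT.leaf (nat_lit 21272097)) (BT.leaf (nat_lit 36182817)))) (BT.node (nat_lit 5268160) (BT.node (nat_lit 5268096) (BT.leaf (nat_lit 21939745)) (BT.leaf (nat_lit 21922565))) (BT.node (nat_lit 5268224) (BT.leaf (nat_lit 25433361)) (BT.leaf (nat_lit 20510981))))))))))) (BT.node (nat_lit 5284672) (BT.node (nat_lit 5276480) (BT.node (nat_lit 5272384) (BT.node (nat_lit 5270336) (BT.node (nat_lit 5269312) (BT.node (nat_lit 5268800) (BT.node (nat_lit 5268544) (BT.node (nat_lit 5268416) (BT.node (nat_lit 5268352) (BT.leaf (nat_lit 25434901)) (BT.leaf (nat_lit 25435157))) (BT.node (nat_lit 5268480) (BT.leaf (nat_lit 21534237)) (BT.leaf (nat_lit 20332561)))) (BT.node (nat_lit 5268672) (BT.node (nat_lit 5268608) (BT.leaf (nat_lit 20329489)) (BT.leaf (nat_lit 20211985))) (BT.node (nat_lit 5268736) (BT.leaf (nat_lit 21074957)) (BT.leaf (nat_lit 25436693))))) (BT.node (nat_lit 5269056) (BT.node (nat_lit 5268928) (BT.node (nat_lit 5268864) (BT.leaf (nat_lit 20366865)) (BT.leaf (nat_lit 25438229))) (BT.node (nat_lit 5268992) (BT.leaf (nat_lit 25438485)) (BT.leaf (nat_lit 25437193)))) (BT.node (nat_lit 5269184) (BT.node (nat_lit 5269120) (BT.leaf (nat_lit 20332829)) (BT.leaf (nat_lit 24989725))) (BT.node (nat_lit 5269248) (BT.leaf (nat_lit 21476869)) (BT.leaf (nat_lit 33669653)))))) (BT.node (nat_lit 5269824) (BT.node (nat_lit 5269568) (BT.node (nat_lit 5269440) (BT.node (nat_lit 5269376) (BT.leaf (nat_lit 50175517)) (BT.leaf (nat_lit 23024917))) (BT.node (nat_lit 5269504) (BT.leaf (nat_lit 25276945)) (BT.leaf (nat_lit 21719325)))) (BT.node (nat_lit 5269696) (BT.node (nat_lit 5269632) (BT.leaf (nat_lit 25440801)) (BT.leaf (nat_lit 25441045))) (BT.node (nat_lit 5269760) (BT.leaf (nat_lit 20335633)) (BT.leaf (nat_lit 23508757))))) (BT.node (nat_lit 5270080) (BT.node (nat_lit 5269952) (BT.node (nat_lit 5269888) (BT.leaf (nat_lit 20336153)) (BT.leaf (nat_lit 25440777))) (BT.node (nat_lit 5270016) (BT.leaf (nat_lit 25401377)) (BT.leaf (nat_lit 25443097)))) (BT.node (nat_lit 5270208) (BT.node (nat_lit 5270144) (BT.leaf (nat_lit 25443361)) (BT.leaf (nat_lit 25443605))) (BT.node (nat_lit 5270272) (BT.leaf (nat_lit 20484121)) (BT.leaf (nat_lit 25443857))))))) (BT.node (nat_lit 5271360) (BT.node (nat_lit 5270848) (BT.node (nat_lit 5270592) (BT.node (nat_lit 5270464) (BT.node (nat_lit 5270400) (BT.leaf (nat_lit 51749905)) (BT.leaf (nat_lit 21263385))) (BT.node (nat_lit 5270528) (BT.leaf (nat_lit 25685265)) (BT.leaf (nat_lit 24927265)))) (BT.node (nat_lit 5270720) (BT.node (nat_lit 5270656) (BT.leaf (nat_lit 25168133)) (BT.leaf (nat_lit 25446173))) (BT.node (nat_lit 5270784) (BT.leaf (nat_lit 25446945)) (BT.leaf (nat_lit 25445649))))) (BT.node (nat_lit 5271104) (BT.node (nat_lit 5270976) (BT.node (nat_lit 5270912) (BT.leaf (nat_lit 25446937)) (BT.leaf (nat_lit 23167513))) (BT.node (nat_lit 5271040) (BT.leaf (nat_lit 36846861)) (BT.leaf (nat_lit 25444637)))) (BT.node (nat_lit 5271232) (BT.node (nat_lit 5271168) (BT.leaf (nat_lit 20601889)) (BT.leaf (nat_lit 20954121))) (BT.node (nat_lit 5271296) (BT.leaf (nat_lit 25449745)) (BT.leaf (nat_lit 22136081)))))) (BT.node (nat_lit 5271872) (BT.node (nat_lit 5271616) (BT.node (nat_lit 5271488) (BT.node (nat_lit 5271424) (BT.leaf (nat_lit 20358685)) (BT.leaf (nat_lit 20601865))) (BT.node (nat_lit 5271552) (BT.leaf (nat_lit 20359189)) (BT.leaf (nat_lit 25883425)))) (BT.node (nat_lit 5271744) (BT.node (nat_lit 5271680) (BT.leaf (nat_lit 20336925)) (BT.leaf (nat_lit 25451553))) (BT.node (nat_lit 5271808) (BT.leaf (nat_lit 25451297)) (BT.leaf (nat_lit 21037589))))) (BT.node (nat_lit 5272128) (BT.node (nat_lit 5272000) (BT.node (nat_lit 5271936) (BT.leaf (nat_lit 20682017)) (BT.leaf (nat_lit 20338193))) (BT.node (nat_lit 5272064) (BT.leaf (nat_lit 25816597)) (BT.leaf (nat_lit 21431557)))) (BT.node (nat_lit 5272256) (BT.node (nat_lit 5272192) (BT.leaf (nat_lit 20751393)) (BT.leaf (nat_lit 21764633))) (BT.node (nat_lit 5272320) (BT.leaf (nat_lit 21189125)) (BT.leaf (nat_lit 21764617)))))))) (BT.node (nat_lit 5274432) (BT.node (nat_lit 5273408) (BT.node (nat_lit 5272896) (BT.node (nat_lit 5272640) (BT.node (nat_lit 5272512) (BT.node (nat_lit 5272448) (BT.leaf (nat_lit 21310737)) (BT.leaf (nat_lit 22495257))) (BT.node (nat_lit 5272576) (BT.leaf (nat_lit 22522137)) (BT.leaf (nat_lit 25454857)))) (BT.node (nat_lit 5272768) (BT.node (nat_lit 5272704) (BT.leaf (nat_lit 20779297)) (BT.leaf (nat_lit 50190605))) (BT.node (nat_lit 5272832) (BT.leaf (nat_lit 26032401)) (BT.leaf (nat_lit 34778393))))) (BT.node (nat_lit 5273152) (BT.node (nat_lit 5273024) (BT.node (nat_lit 5272960) (BT.leaf (nat_lit 34778397)) (BT.leaf (nat_lit 21546253))) (BT.node (nat_lit 5273088) (BT.leaf (nat_lit 21546265)) (BT.leaf (nat_lit 20380961)))) (BT.node (nat_lit 5273280) (BT.node (nat_lit 5273216) (BT.leaf (nat_lit 21184033)) (BT.leaf (nat_lit 20795161))) (BT.node (nat_lit 5273344) (BT.leaf (nat_lit 20795165)) (BT.leaf (nat_lit 22779913)))))) (BT.node (nat_lit 5273920) (BT.node (nat_lit 5273664) (BT.node (nat_lit 5273536) (BT.node (nat_lit 5273472) (BT.leaf (nat_lit 22779917)) (BT.leaf (nat_lit 22779937))) (BT.node (nat_lit 5273600) (BT.leaf (nat_lit 21426961)) (BT.leaf (nat_lit 35791385)))) (BT.node (nat_lit 5273792) (BT.node (nat_lit 5273728) (BT.leaf (nat_lit 22394653)) (BT.leaf (nat_lit 25457417))) (BT.node (nat_lit 5273856) (BT.leaf (nat_lit 22398233)) (BT.leaf (nat_lit 20945697))))) (BT.node (nat_lit 5274176) (BT.node (nat_lit 5274048) (BT.node (nat_lit 5273984) (BT.leaf (nat_lit 23630085)) (BT.leaf (nat_lit 21319457))) (BT.node (nat_lit 5274112) (BT.leaf (nat_lit 21289233)) (BT.leaf (nat_lit 22424593)))) (BT.node (nat_lit 5274304) (BT.node (nat_lit 5274240) (BT.leaf (nat_lit 25565713)) (BT.leaf (nat_lit 21170973))) (BT.node (nat_lit 5274368) (BT.leaf (nat_lit 25460501)) (BT.leaf (nat_lit 20516897))))))) (BT.node (nat_lit 5275456) (BT.node (nat_lit 5274944) (BT.node (nat_lit 5274688) (BT.node (nat_lit 5274560) (BT.node (nat_lit 5274496) (BT.leaf (nat_lit 25461269)) (BT.leaf (nat_lit 21546273))) (BT.node (nat_lit 5274624) (BT.leaf (nat_lit 21146137)) (BT.leaf (nat_lit 25462809)))) (BT.node (nat_lit 5274816) (BT.node (nat_lit 5274752) (BT.leaf (nat_lit 25463057)) (BT.leaf (nat_lit 25380889))) (BT.node (nat_lit 5274880) (BT.leaf (nat_lit 20401933)) (BT.leaf (nat_lit 25464341))))) (BT.node (nat_lit 5275200) (BT.node (nat_lit 5275072) (BT.node (nat_lit 5275008) (BT.leaf (nat_lit 25380877)) (BT.leaf (nat_lit 20401953))) (BT.node (nat_lit 5275136) (BT.leaf (nat_lit 20850453)) (BT.leaf (nat_lit 20850461)))) (BT.node (nat_lit 5275328) (BT.node (nat_lit 5275264) (BT.leaf (nat_lit 51282953)) (BT.leaf (nat_lit 35042053))) (BT.node (nat_lit 5275392) (BT.leaf (nat_lit 20278037)) (BT.leaf (nat_lit 20690193)))))) (BT.node (nat_lit 5275968) (BT.node (nat_lit 5275712) (BT.node (nat_lit 5275584) (BT.node (nat_lit 5275520) (BT.leaf (nat_lit 24487961)) (BT.leaf (nat_lit 25466901))) (BT.node (nat_lit 5275648) (BT.leaf (nat_lit 22629141)) (BT.leaf (nat_lit 35485457)))) (BT.node (nat_lit 5275840) (BT.node (nat_lit 5275776) (BT.leaf (nat_lit 21607961)) (BT.leaf (nat_lit 20597525))) (BT.node (nat_lit 5275904) (BT.leaf (nat_lit 20597533)) (BT.leaf (nat_lit 20852245))))) (BT.node (nat_lit 5276224) (BT.node (nat_lit 5276096) (BT.node (nat_lit 5276032) (BT.leaf (nat_lit 21349641)) (BT.leaf (nat_lit 36375309))) (BT.node (nat_lit 5276160) (BT.leaf (nat_lit 25471009)) (BT.leaf (nat_lit 23548181)))) (BT.node (nat_lit 5276352) (BT.node (nat_lit 5276288) (BT.leaf (nat_lit 20209941)) (BT.leaf (nat_lit 22491669))) (BT.node (nat_lit 5276416) (BT.leaf (nat_lit 22342161)) (BT.leaf (nat_lit 51787797))))))))) (BT.node (nat_lit 5280576) (BT.node (nat_lit 5278528) (BT.node (nat_lit 5277504) (BT.node (nat_lit 5276992) (BT.node (nat_lit 5276736) (BT.node (nat_lit 5276608) (BT.node (nat_lit 5276544) (BT.leaf (nat_lit 20343817)) (BT.leaf (nat_lit 20343821))) (BT.node (nat_lit 5276672) (BT.leaf (nat_lit 20343837)) (BT.leaf (nat_lit 20343833)))) (BT.node (nat_lit 5276864) (BT.node (nat_lit 5276800) (BT.leaf (nat_lit 33409825)) (BT.leaf (nat_lit 21224733))) (BT.node (nat_lit 5276928) (BT.leaf (nat_lit 21473301)) (BT.leaf (nat_lit 21190405))))) (BT.node (nat_lit 5277248) (BT.node (nat_lit 5277120) (BT.node (nat_lit 5277056) (BT.leaf (nat_lit 29695761)) (BT.leaf (nat_lit 20898053))) (BT.node (nat_lit 5277184) (BT.leaf (nat_lit 20762141)) (BT.leaf (nat_lit 25311241)))) (BT.node (nat_lit 5277376) (BT.node (nat_lit 5277312) (BT.leaf (nat_lit 22918941)) (BT.leaf (nat_lit 33188641))) (BT.node (nat_lit 5277440) (BT.leaf (nat_lit 23050013)) (BT.leaf (nat_lit 21450273)))))) (BT.node (nat_lit 5278016) (BT.node (nat_lit 5277760) (BT.node (nat_lit 5277632) (BT.node (nat_lit 5277568) (BT.leaf (nat_lit 21152033)) (BT.leaf (nat_lit 22300433))) (BT.node (nat_lit 5277696) (BT.leaf (nat_lit 20346117)) (BT.leaf (nat_lit 22549265)))) (BT.node (nat_lit 5277888) (BT.node (nat_lit 5277824) (BT.leaf (nat_lit 21553441)) (BT.leaf (nat_lit 21633057))) (BT.node (nat_lit 5277952) (BT.leaf (nat_lit 20907041)) (BT.leaf (nat_lit 21633569))))) (BT.node (nat_lit 5278272) (BT.node (nat_lit 5278144) (BT.node (nat_lit 5278080) (BT.leaf (nat_lit 21633313)) (BT.leaf (nat_lit 23597077))) (BT.node (nat_lit 5278208) (BT.leaf (nat_lit 20369425)) (BT.leaf (nat_lit 21740057)))) (BT.node (nat_lit 5278400) (BT.node (nat_lit 5278336) (BT.leaf (nat_lit 25484805)) (BT.leaf (nat_lit 20904737))) (BT.node (nat_lit 5278464) (BT.leaf (nat_lit 20424465)) (BT.leaf (nat_lit 25485333))))))) (BT.node (nat_lit 5279552) (BT.node (nat_lit 5279040) (BT.node (nat_lit 5278784) (BT.node (nat_lit 5278656) (BT.node (nat_lit 5278592) (BT.leaf (nat_lit 21757209)) (BT.leaf (nat_lit 36960265))) (BT.node (nat_lit 5278720) (BT.leaf (nat_lit 36960521)) (BT.leaf (nat_lit 21125661)))) (BT.node (nat_lit 5278912) (BT.node (nat_lit 5278848) (BT.leaf (nat_lit 21062161)) (BT.leaf (nat_lit 23552261))) (BT.node (nat_lit 5278976) (BT.leaf (nat_lit 20794641)) (BT.leaf (nat_lit 20346885))))) (BT.node (nat_lit 5279296) (BT.node (nat_lit 5279168) (BT.node (nat_lit 5279104) (BT.leaf (nat_lit 25489945)) (BT.leaf (nat_lit 36516629))) (BT.node (nat_lit 5279232) (BT.leaf (nat_lit 33184789)) (BT.leaf (nat_lit 22341397)))) (BT.node (nat_lit 5279424) (BT.node (nat_lit 5279360) (BT.leaf (nat_lit 20697105)) (BT.leaf (nat_lit 36800529))) (BT.node (nat_lit 5279488) (BT.leaf (nat_lit 33184793)) (BT.leaf (nat_lit 33184797)))))) (BT.node (nat_lit 5280064) (BT.node (nat_lit 5279808) (BT.node (nat_lit 5279680) (BT.node (nat_lit 5279616) (BT.leaf (nat_lit 20347405)) (BT.leaf (nat_lit 20347657))) (BT.node (nat_lit 5279744) (BT.leaf (nat_lit 22948621)) (BT.leaf (nat_lit 20347677)))) (BT.node (nat_lit 5279936) (BT.node (nat_lit 5279872) (BT.leaf (nat_lit 20346653)) (BT.leaf (nat_lit 20347673))) (BT.node (nat_lit 5280000) (BT.leaf (nat_lit 21426705)) (BT.leaf (nat_lit 25494817))))) (BT.node (nat_lit 5280320) (BT.node (nat_lit 5280192) (BT.node (nat_lit 5280128) (BT.leaf (nat_lit 25495061)) (BT.leaf (nat_lit 21115929))) (BT.node (nat_lit 5280256) (BT.leaf (nat_lit 25383953)) (BT.leaf (nat_lit 25383957)))) (BT.node (nat_lit 5280448) (BT.node (nat_lit 5280384) (BT.leaf (nat_lit 20346909)) (BT.leaf (nat_lit 22106129))) (BT.node (nat_lit 5280512) (BT.leaf (nat_lit 22106133)) (BT.leaf (nat_lit 26442521)))))))) (BT.node (nat_lit 5282624) (BT.node (nat_lit 5281600) (BT.node (nat_lit 5281088) (BT.node (nat_lit 5280832) (BT.node (nat_lit 5280704) (BT.node (nat_lit 5280640) (BT.leaf (nat_lit 25496853)) (BT.leaf (nat_lit 22526237))) (BT.node (nat_lit 5280768) (BT.leaf (nat_lit 23623713)) (BT.leaf (nat_lit 21200917)))) (BT.node (nat_lit 5280960) (BT.node (nat_lit 5280896) (BT.leaf (nat_lit 23551253)) (BT.leaf (nat_lit 25498653))) (BT.node (nat_lit 5281024) (BT.leaf (nat_lit 21289489)) (BT.leaf (nat_lit 20685585))))) (BT.node (nat_lit 5281344) (BT.node (nat_lit 5281216) (BT.node (nat_lit 5281152) (BT.leaf (nat_lit 25457433)) (BT.leaf (nat_lit 21733661))) (BT.node (nat_lit 5281280) (BT.leaf (nat_lit 21732893)) (BT.leaf (nat_lit 25500689)))) (BT.node (nat_lit 5281472) (BT.node (nat_lit 5281408) (BT.leaf (nat_lit 21111573)) (BT.leaf (nat_lit 25501457))) (BT.node (nat_lit 5281536) (BT.leaf (nat_lit 23023637)) (BT.leaf (nat_lit 25502485)))))) (BT.node (nat_lit 5282112) (BT.node (nat_lit 5281856) (BT.node (nat_lit 5281728) (BT.node (nat_lit 5281664) (BT.leaf (nat_lit 21876001)) (BT.leaf (nat_lit 21720581))) (BT.node (nat_lit 5281792) (BT.leaf (nat_lit 35447557)) (BT.leaf (nat_lit 21492245)))) (BT.node (nat_lit 5281984) (BT.node (nat_lit 5281920) (BT.leaf (nat_lit 51166213)) (BT.leaf (nat_lit 36960281))) (BT.node (nat_lit 5282048) (BT.leaf (nat_lit 21319197)) (BT.leaf (nat_lit 21288721))))) (BT.node (nat_lit 5282368) (BT.node (nat_lit 5282240) (BT.node (nat_lit 5282176) (BT.leaf (nat_lit 23552793)) (BT.leaf (nat_lit 24361221))) (BT.node (nat_lit 5282304) (BT.leaf (nat_lit 23370001)) (BT.leaf (nat_lit 23556361)))) (BT.node (nat_lit 5282496) (BT.node (nat_lit 5282432) (BT.leaf (nat_lit 23014425)) (BT.leaf (nat_lit 25416977))) (BT.node (nat_lit 5282560) (BT.leaf (nat_lit 20678425)) (BT.leaf (nat_lit 25509397))))))) (BT.node (nat_lit 5283648) (BT.node (nat_lit 5283136) (BT.node (nat_lit 5282880) (BT.node (nat_lit 5282752) (BT.node (nat_lit 5282688) (BT.leaf (nat_lit 23395085)) (BT.leaf (nat_lit 23640085))) (BT.node (nat_lit 5282816) (BT.leaf (nat_lit 25510165)) (BT.leaf (nat_lit 22803221)))) (BT.node (nat_lit 5283008) (BT.node (nat_lit 5282944) (BT.leaf (nat_lit 25510673)) (BT.leaf (nat_lit 23103505))) (BT.node (nat_lit 5283072) (BT.leaf (nat_lit 20815121)) (BT.leaf (nat_lit 20676869))))) (BT.node (nat_lit 5283392) (BT.node (nat_lit 5283264) (BT.node (nat_lit 5283200) (BT.leaf (nat_lit 25511957)) (BT.leaf (nat_lit 25512469))) (BT.node (nat_lit 5283328) (BT.leaf (nat_lit 34576153)) (BT.leaf (nat_lit 23658257)))) (BT.node (nat_lit 5283520) (BT.node (nat_lit 5283456) (BT.leaf (nat_lit 22555165)) (BT.leaf (nat_lit 22554129))) (BT.node (nat_lit 5283584) (BT.leaf (nat_lit 20351761)) (BT.leaf (nat_lit 22485765)))))) (BT.node (nat_lit 5284160) (BT.node (nat_lit 5283904) (BT.node (nat_lit 5283776) (BT.node (nat_lit 5283712) (BT.leaf (nat_lit 20837665)) (BT.leaf (nat_lit 25515029))) (BT.node (nat_lit 5283840) (BT.leaf (nat_lit 21048585)) (BT.leaf (nat_lit 33167365)))) (BT.node (nat_lit 5284032) (BT.node (nat_lit 5283968) (BT.leaf (nat_lit 22451485)) (BT.leaf (nat_lit 25515801))) (BT.node (nat_lit 5284096) (BT.leaf (nat_lit 25516309)) (BT.leaf (nat_lit 20770057))))) (BT.node (nat_lit 5284416) (BT.node (nat_lit 5284288) (BT.node (nat_lit 5284224) (BT.leaf (nat_lit 25517845)) (BT.leaf (nat_lit 20406561))) (BT.node (nat_lit 5284352) (BT.leaf (nat_lit 25517853)) (BT.leaf (nat_lit 20692757)))) (BT.node (nat_lit 5284544) (BT.node (nat_lit 5284480) (BT.leaf (nat_lit 20568593)) (BT.leaf (nat_lit 20568597))) (BT.node (nat_lit 5284608) (BT.leaf (nat_lit 20777481)) (BT.leaf (nat_lit 20777489)))))))))) (BT.node (nat_lit 5292864) (BT.node (nat_lit 5288768) (BT.node (nat_lit 5286720) (BT.node (nat_lit 5285696) (BT.node (nat_lit 5285184) (BT.node (nat_lit 5284928) (BT.node (nat_lit 5284800) (BT.node (nat_lit 5284736) (BT.leaf (nat_lit 23674117)) (BT.leaf (nat_lit 25522457))) (BT.node (nat_lit 5284864) (BT.leaf (nat_lit 21346565)) (BT.leaf (nat_lit 51095049)))) (BT.node (nat_lit 5285056) (BT.node (nat_lit 5284992) (BT.leaf (nat_lit 25522709)) (BT.leaf (nat_lit 20772881))) (BT.node (nat_lit 5285120) (BT.leaf (nat_lit 20490769)) (BT.leaf (nat_lit 25315345))))) (BT.node (nat_lit 5285440) (BT.node (nat_lit 5285312) (BT.node (nat_lit 5285248) (BT.leaf (nat_lit 20357397)) (BT.leaf (nat_lit 35460897))) (BT.node (nat_lit 5285376) (BT.leaf (nat_lit 22923013)) (BT.leaf (nat_lit 20409109)))) (BT.node (nat_lit 5285568) (BT.node (nat_lit 5285504) (BT.leaf (nat_lit 21142045)) (BT.leaf (nat_lit 22808337))) (BT.node (nat_lit 5285632) (BT.leaf (nat_lit 37658393)) (BT.leaf (nat_lit 33238557)))))) (BT.node (nat_lit 5286208) (BT.node (nat_lit 5285952) (BT.node (nat_lit 5285824) (BT.node (nat_lit 5285760) (BT.leaf (nat_lit 23690773)) (BT.leaf (nat_lit 25525785))) (BT.node (nat_lit 5285888) (BT.leaf (nat_lit 20266005)) (BT.leaf (nat_lit 25527325)))) (BT.node (nat_lit 5286080) (BT.node (nat_lit 5286016) (BT.leaf (nat_lit 25387293)) (BT.leaf (nat_lit 25387273))) (BT.node (nat_lit 5286144) (BT.leaf (nat_lit 25529365)) (BT.leaf (nat_lit 25528073))))) (BT.node (nat_lit 5286464) (BT.node (nat_lit 5286336) (BT.node (nat_lit 5286272) (BT.leaf (nat_lit 23265553)) (BT.leaf (nat_lit 25530657))) (BT.node (nat_lit 5286400) (BT.leaf (nat_lit 20455961)) (BT.leaf (nat_lit 20455965)))) (BT.node (nat_lit 5286592) (BT.node (nat_lit 5286528) (BT.leaf (nat_lit 25531157)) (BT.leaf (nat_lit 25531409))) (BT.node (nat_lit 5286656) (BT.leaf (nat_lit 22950937)) (BT.leaf (nat_lit 21070101))))))) (BT.node (nat_lit 5287744) (BT.node (nat_lit 5287232) (BT.node (nat_lit 5286976) (BT.node (nat_lit 5286848) (BT.node (nat_lit 5286784) (BT.leaf (nat_lit 33432337)) (BT.leaf (nat_lit 49903633))) (BT.node (nat_lit 5286912) (BT.leaf (nat_lit 21442065)) (BT.leaf (nat_lit 33797641)))) (BT.node (nat_lit 5287104) (BT.node (nat_lit 5287040) (BT.leaf (nat_lit 20355597)) (BT.leaf (nat_lit 22061065))) (BT.node (nat_lit 5287168) (BT.leaf (nat_lit 51952661)) (BT.leaf (nat_lit 21492513))))) (BT.node (nat_lit 5287488) (BT.node (nat_lit 5287360) (BT.node (nat_lit 5287296) (BT.leaf (nat_lit 37672453)) (BT.leaf (nat_lit 22061069))) (BT.node (nat_lit 5287424) (BT.leaf (nat_lit 25534485)) (BT.leaf (nat_lit 23704589)))) (BT.node (nat_lit 5287616) (BT.node (nat_lit 5287552) (BT.leaf (nat_lit 20875033)) (BT.leaf (nat_lit 20875037))) (BT.node (nat_lit 5287680) (BT.leaf (nat_lit 51621637)) (BT.leaf (nat_lit 21164041)))))) (BT.node (nat_lit 5288256) (BT.node (nat_lit 5288000) (BT.node (nat_lit 5287872) (BT.node (nat_lit 5287808) (BT.leaf (nat_lit 23651873)) (BT.leaf (nat_lit 22127377))) (BT.node (nat_lit 5287936) (BT.leaf (nat_lit 25538577)) (BT.leaf (nat_lit 25538833)))) (BT.node (nat_lit 5288128) (BT.node (nat_lit 5288064) (BT.leaf (nat_lit 20276501)) (BT.leaf (nat_lit 20903713))) (BT.node (nat_lit 5288192) (BT.leaf (nat_lit 20904213)) (BT.leaf (nat_lit 25540881))))) (BT.node (nat_lit 5288512) (BT.node (nat_lit 5288384) (BT.node (nat_lit 5288320) (BT.leaf (nat_lit 20755729)) (BT.leaf (nat_lit 21009945))) (BT.node (nat_lit 5288448) (BT.leaf (nat_lit 22549533)) (BT.leaf (nat_lit 20553497)))) (BT.node (nat_lit 5288640) (BT.node (nat_lit 5288576) (BT.leaf (nat_lit 22396953)) (BT.leaf (nat_lit 20345625))) (BT.node (nat_lit 5288704) (BT.leaf (nat_lit 20357401)) (BT.leaf (nat_lit 22396177)))))))) (BT.node (nat_lit 5290816) (BT.node (nat_lit 5289792) (BT.node (nat_lit 5289280) (BT.node (nat_lit 5289024) (BT.node (nat_lit 5288896) (BT.node (nat_lit 5288832) (BT.leaf (nat_lit 21231109)) (BT.leaf (nat_lit 21945361))) (BT.node (nat_lit 5288960) (BT.leaf (nat_lit 20359449)) (BT.leaf (nat_lit 25284117)))) (BT.node (nat_lit 5289152) (BT.node (nat_lit 5289088) (BT.leaf (nat_lit 25202977)) (BT.leaf (nat_lit 25202721))) (BT.node (nat_lit 5289216) (BT.leaf (nat_lit 21741845)) (BT.leaf (nat_lit 20357901))))) (BT.node (nat_lit 5289536) (BT.node (nat_lit 5289408) (BT.node (nat_lit 5289344) (BT.leaf (nat_lit 20358153)) (BT.leaf (nat_lit 21743121))) (BT.node (nat_lit 5289472) (BT.leaf (nat_lit 36794633)) (BT.leaf (nat_lit 21743137)))) (BT.node (nat_lit 5289664) (BT.node (nat_lit 5289600) (BT.leaf (nat_lit 26383109)) (BT.leaf (nat_lit 26379293))) (BT.node (nat_lit 5289728) (BT.leaf (nat_lit 25548053)) (BT.leaf (nat_lit 25548321)))))) (BT.node (nat_lit 5290304) (BT.node (nat_lit 5290048) (BT.node (nat_lit 5289920) (BT.node (nat_lit 5289856) (BT.leaf (nat_lit 25548557)) (BT.leaf (nat_lit 23729697))) (BT.node (nat_lit 5289984) (BT.leaf (nat_lit 23617057)) (BT.leaf (nat_lit 21324297)))) (BT.node (nat_lit 5290176) (BT.node (nat_lit 5290112) (BT.leaf (nat_lit 20697365)) (BT.leaf (nat_lit 20697369))) (BT.node (nat_lit 5290240) (BT.leaf (nat_lit 20697373)) (BT.leaf (nat_lit 21117465))))) (BT.node (nat_lit 5290560) (BT.node (nat_lit 5290432) (BT.node (nat_lit 5290368) (BT.leaf (nat_lit 20355097)) (BT.leaf (nat_lit 25500945))) (BT.node (nat_lit 5290496) (BT.leaf (nat_lit 25500949)) (BT.leaf (nat_lit 51363081)))) (BT.node (nat_lit 5290688) (BT.node (nat_lit 5290624) (BT.leaf (nat_lit 20427281)) (BT.leaf (nat_lit 51363093))) (BT.node (nat_lit 5290752) (BT.leaf (nat_lit 20346905)) (BT.leaf (nat_lit 25552665))))))) (BT.node (nat_lit 5291840) (BT.node (nat_lit 5291328) (BT.node (nat_lit 5291072) (BT.node (nat_lit 5290944) (BT.node (nat_lit 5290880) (BT.leaf (nat_lit 33797661)) (BT.leaf (nat_lit 20910369))) (BT.node (nat_lit 5291008) (BT.leaf (nat_lit 25553941)) (BT.leaf (nat_lit 22514453)))) (BT.node (nat_lit 5291200) (BT.node (nat_lit 5291136) (BT.leaf (nat_lit 26073873)) (BT.leaf (nat_lit 25166877))) (BT.node (nat_lit 5291264) (BT.leaf (nat_lit 21147149)) (BT.leaf (nat_lit 25271317))))) (BT.node (nat_lit 5291584) (BT.node (nat_lit 5291456) (BT.node (nat_lit 5291392) (BT.leaf (nat_lit 22302233)) (BT.leaf (nat_lit 25271325))) (BT.node (nat_lit 5291520) (BT.leaf (nat_lit 25767685)) (BT.leaf (nat_lit 21900833)))) (BT.node (nat_lit 5291712) (BT.node (nat_lit 5291648) (BT.leaf (nat_lit 24940037)) (BT.leaf (nat_lit 25500181))) (BT.node (nat_lit 5291776) (BT.leaf (nat_lit 21429789)) (BT.leaf (nat_lit 25558545)))))) (BT.node (nat_lit 5292352) (BT.node (nat_lit 5292096) (BT.node (nat_lit 5291968) (BT.node (nat_lit 5291904) (BT.leaf (nat_lit 25559065)) (BT.leaf (nat_lit 20716821))) (BT.node (nat_lit 5292032) (BT.leaf (nat_lit 51158049)) (BT.leaf (nat_lit 21155353)))) (BT.node (nat_lit 5292224) (BT.node (nat_lit 5292160) (BT.leaf (nat_lit 25560597)) (BT.leaf (nat_lit 20276761))) (BT.node (nat_lit 5292288) (BT.leaf (nat_lit 20840721)) (BT.leaf (nat_lit 21478689))))) (BT.node (nat_lit 5292608) (BT.node (nat_lit 5292480) (BT.node (nat_lit 5292416) (BT.leaf (nat_lit 25278741)) (BT.leaf (nat_lit 22976773))) (BT.node (nat_lit 5292544) (BT.leaf (nat_lit 25562913)) (BT.leaf (nat_lit 25563937)))) (BT.node (nat_lit 5292736) (BT.node (nat_lit 5292672) (BT.leaf (nat_lit 21387025)) (BT.leaf (nat_lit 20360721))) (BT.node (nat_lit 5292800) (BT.leaf (nat_lit 21554961)) (BT.leaf (nat_lit 21170969))))))))) (BT.node (nat_lit 5296960) (BT.node (nat_lit 5294912) (BT.node (nat_lit 5293888) (BT.node (nat_lit 5293376) (BT.node (nat_lit 5293120) (BT.node (nat_lit 5292992) (BT.node (nat_lit 5292928) (BT.leaf (nat_lit 21616409)) (BT.leaf (nat_lit 21616397))) (BT.node (nat_lit 5293056) (BT.leaf (nat_lit 25565981)) (BT.leaf (nat_lit 25566497)))) (BT.node (nat_lit 5293248) (BT.node (nat_lit 5293184) (BT.leaf (nat_lit 20504837)) (BT.leaf (nat_lit 21172505))) (BT.node (nat_lit 5293312) (BT.leaf (nat_lit 20767493)) (BT.leaf (nat_lit 25567249))))) (BT.node (nat_lit 5293632) (BT.node (nat_lit 5293504) (BT.node (nat_lit 5293440) (BT.leaf (nat_lit 23240721)) (BT.leaf (nat_lit 25568273))) (BT.node (nat_lit 5293568) (BT.leaf (nat_lit 20360465)) (BT.leaf (nat_lit 21079065)))) (BT.node (nat_lit 5293760) (BT.node (nat_lit 5293696) (BT.leaf (nat_lit 20483345)) (BT.leaf (nat_lit 20336157))) (BT.node (nat_lit 5293824) (BT.leaf (nat_lit 21175309)) (BT.leaf (nat_lit 25570069)))))) (BT.node (nat_lit 5294400) (BT.node (nat_lit 5294144) (BT.node (nat_lit 5294016) (BT.node (nat_lit 5293952) (BT.leaf (nat_lit 21175837)) (BT.leaf (nat_lit 25570581))) (BT.node (nat_lit 5294080) (BT.leaf (nat_lit 25570837)) (BT.leaf (nat_lit 25571601)))) (BT.node (nat_lit 5294272) (BT.node (nat_lit 5294208) (BT.leaf (nat_lit 51530761)) (BT.leaf (nat_lit 25572373))) (BT.node (nat_lit 5294336) (BT.leaf (nat_lit 25446925)) (BT.leaf (nat_lit 20817425))))) (BT.node (nat_lit 5294656) (BT.node (nat_lit 5294528) (BT.node (nat_lit 5294464) (BT.leaf (nat_lit 20330513)) (BT.leaf (nat_lit 20328721))) (BT.node (nat_lit 5294592) (BT.leaf (nat_lit 20870681)) (BT.leaf (nat_lit 20870685)))) (BT.node (nat_lit 5294784) (BT.node (nat_lit 5294720) (BT.leaf (nat_lit 20302621)) (BT.leaf (nat_lit 21713433))) (BT.node (nat_lit 5294848) (BT.leaf (nat_lit 20845845)) (BT.leaf (nat_lit 21358353))))))) (BT.node (nat_lit 5295936) (BT.node (nat_lit 5295424) (BT.node (nat_lit 5295168) (BT.node (nat_lit 5295040) (BT.node (nat_lit 5294976) (BT.leaf (nat_lit 25163525)) (BT.leaf (nat_lit 22254369))) (BT.node (nat_lit 5295104) (BT.leaf (nat_lit 23368205)) (BT.leaf (nat_lit 25580061)))) (BT.node (nat_lit 5295296) (BT.node (nat_lit 5295232) (BT.leaf (nat_lit 25580561)) (BT.leaf (nat_lit 25383437))) (BT.node (nat_lit 5295360) (BT.leaf (nat_lit 51116057)) (BT.leaf (nat_lit 23755809))))) (BT.node (nat_lit 5295680) (BT.node (nat_lit 5295552) (BT.node (nat_lit 5295488) (BT.leaf (nat_lit 20481313)) (BT.leaf (nat_lit 22540057))) (BT.node (nat_lit 5295616) (BT.leaf (nat_lit 20710421)) (BT.leaf (nat_lit 25953813)))) (BT.node (nat_lit 5295808) (BT.node (nat_lit 5295744) (BT.leaf (nat_lit 21945105)) (BT.leaf (nat_lit 35480589))) (BT.node (nat_lit 5295872) (BT.leaf (nat_lit 34378249)) (BT.leaf (nat_lit 20724245)))))) (BT.node (nat_lit 5296448) (BT.node (nat_lit 5296192) (BT.node (nat_lit 5296064) (BT.node (nat_lit 5296000) (BT.leaf (nat_lit 25583637)) (BT.leaf (nat_lit 25583901))) (BT.node (nat_lit 5296128) (BT.leaf (nat_lit 20417553)) (BT.leaf (nat_lit 25584401)))) (BT.node (nat_lit 5296320) (BT.node (nat_lit 5296256) (BT.leaf (nat_lit 21184537)) (BT.leaf (nat_lit 21015821))) (BT.node (nat_lit 5296384) (BT.leaf (nat_lit 25585685)) (BT.leaf (nat_lit 25585949))))) (BT.node (nat_lit 5296704) (BT.node (nat_lit 5296576) (BT.node (nat_lit 5296512) (BT.leaf (nat_lit 25586717)) (BT.leaf (nat_lit 20367645))) (BT.node (nat_lit 5296640) (BT.leaf (nat_lit 20367641)) (BT.leaf (nat_lit 50121477)))) (BT.node (nat_lit 5296832) (BT.node (nat_lit 5296768) (BT.leaf (nat_lit 20368401)) (BT.leaf (nat_lit 24933125))) (BT.node (nat_lit 5296896) (BT.leaf (nat_lit 21649669)) (BT.leaf (nat_lit 24907041)))))))) (BT.node (nat_lit 5299008) (BT.node (nat_lit 5297984) (BT.node (nat_lit 5297472) (BT.node (nat_lit 5297216) (BT.node (nat_lit 5297088) (BT.node (nat_lit 5297024) (BT.leaf (nat_lit 25588749)) (BT.leaf (nat_lit 25592085))) (BT.node (nat_lit 5297152) (BT.leaf (nat_lit 21298961)) (BT.leaf (nat_lit 25592341)))) (BT.node (nat_lit 5297344) (BT.node (nat_lit 5297280) (BT.leaf (nat_lit 25592853)) (BT.leaf (nat_lit 25593625))) (BT.node (nat_lit 5297408) (BT.leaf (nat_lit 23261457)) (BT.leaf (nat_lit 22334233))))) (BT.node (nat_lit 5297728) (BT.node (nat_lit 5297600) (BT.node (nat_lit 5297536) (BT.leaf (nat_lit 21350937)) (BT.leaf (nat_lit 22300677))) (BT.node (nat_lit 5297664) (BT.leaf (nat_lit 22358809)) (BT.leaf (nat_lit 21107729)))) (BT.node (nat_lit 5297856) (BT.node (nat_lit 5297792) (BT.leaf (nat_lit 20762641)) (BT.leaf (nat_lit 20762645))) (BT.node (nat_lit 5297920) (BT.leaf (nat_lit 21191709)) (BT.leaf (nat_lit 25595153)))))) (BT.node (nat_lit 5298496) (BT.node (nat_lit 5298240) (BT.node (nat_lit 5298112) (BT.node (nat_lit 5298048) (BT.leaf (nat_lit 26032409)) (BT.leaf (nat_lit 23831841))) (BT.node (nat_lit 5298176) (BT.leaf (nat_lit 25248261)) (BT.leaf (nat_lit 20417049)))) (BT.node (nat_lit 5298368) (BT.node (nat_lit 5298304) (BT.leaf (nat_lit 20417053)) (BT.leaf (nat_lit 20988185))) (BT.node (nat_lit 5298432) (BT.leaf (nat_lit 24955653)) (BT.leaf (nat_lit 20470801))))) (BT.node (nat_lit 5298752) (BT.node (nat_lit 5298624) (BT.node (nat_lit 5298560) (BT.leaf (nat_lit 25595921)) (BT.leaf (nat_lit 21194009))) (BT.node (nat_lit 5298688) (BT.leaf (nat_lit 25596945)) (BT.leaf (nat_lit 25597461)))) (BT.node (nat_lit 5298880) (BT.node (nat_lit 5298816) (BT.leaf (nat_lit 25598225)) (BT.leaf (nat_lit 25599261))) (BT.node (nat_lit 5298944) (BT.leaf (nat_lit 25030673)) (BT.leaf (nat_lit 21154581))))))) (BT.node (nat_lit 5300032) (BT.node (nat_lit 5299520) (BT.node (nat_lit 5299264) (BT.node (nat_lit 5299136) (BT.node (nat_lit 5299072) (BT.leaf (nat_lit 20701701)) (BT.leaf (nat_lit 20676633))) (BT.node (nat_lit 5299200) (BT.leaf (nat_lit 22396433)) (BT.leaf (nat_lit 25457941)))) (BT.node (nat_lit 5299392) (BT.node (nat_lit 5299328) (BT.leaf (nat_lit 25027609)) (BT.leaf (nat_lit 51207197))) (BT.node (nat_lit 5299456) (BT.leaf (nat_lit 23847713)) (BT.leaf (nat_lit 21975301))))) (BT.node (nat_lit 5299776) (BT.node (nat_lit 5299648) (BT.node (nat_lit 5299584) (BT.leaf (nat_lit 20372241)) (BT.leaf (nat_lit 22673681))) (BT.node (nat_lit 5299712) (BT.leaf (nat_lit 24904453)) (BT.leaf (nat_lit 22659853)))) (BT.node (nat_lit 5299904) (BT.node (nat_lit 5299840) (BT.leaf (nat_lit 25605393)) (BT.leaf (nat_lit 21368333))) (BT.node (nat_lit 5299968) (BT.leaf (nat_lit 23617029)) (BT.leaf (nat_lit 25111061)))))) (BT.node (nat_lit 5300544) (BT.node (nat_lit 5300288) (BT.node (nat_lit 5300160) (BT.node (nat_lit 5300096) (BT.leaf (nat_lit 20225821)) (BT.leaf (nat_lit 20248861))) (BT.node (nat_lit 5300224) (BT.leaf (nat_lit 20273181)) (BT.leaf (nat_lit 21151749)))) (BT.node (nat_lit 5300416) (BT.node (nat_lit 5300352) (BT.leaf (nat_lit 20833293)) (BT.leaf (nat_lit 23704605))) (BT.node (nat_lit 5300480) (BT.leaf (nat_lit 25607969)) (BT.leaf (nat_lit 25608481))))) (BT.node (nat_lit 5300800) (BT.node (nat_lit 5300672) (BT.node (nat_lit 5300608) (BT.leaf (nat_lit 25608709)) (BT.leaf (nat_lit 25609505))) (BT.node (nat_lit 5300736) (BT.leaf (nat_lit 25072661)) (BT.leaf (nat_lit 25608457)))) (BT.node (nat_lit 5300928) (BT.node (nat_lit 5300864) (BT.leaf (nat_lit 20803869)) (BT.leaf (nat_lit 20330257))) (BT.node (nat_lit 5300992) (BT.leaf (nat_lit 20374289)) (BT.leaf (nat_lit 20368669)))))))))))))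
noncomputable def big0_e20480 : BT Nat := (BT.node (nat_lit 5366592) (BT.node (nat_lit 5333824) (BT.node (nat_lit 5317440) (BT.node (nat_lit 5309248) (BT.node (nat_lit 5305152) (BT.node (nat_lit 5303104) (BT.node (nat_lit 5302080) (BT.node (nat_lit 5301568) (BT.node (nat_lit 5301312) (BT.node (nat_lit 5301184) (BT.node (nat_lit 5301120) (BT.leaf (nat_lit 20368665)) (BT.leaf (nat_lit 25611293))) (BT.node (nat_lit 5301248) (BT.leaf (nat_lit 22324253)) (BT.leaf (nat_lit 22646045)))) (BT.node (nat_lit 5301440) (BT.node (nat_lit 5301376) (BT.leaf (nat_lit 22887713)) (BT.leaf (nat_lit 37658373))) (BT.node (nat_lit 5301504) (BT.leaf (nat_lit 21772833)) (BT.leaf (nat_lit 20679449))))) (BT.node (nat_lit 5301824) (BT.node (nat_lit 5301696) (BT.node (nat_lit 5301632) (BT.leaf (nat_lit 20679453)) (BT.leaf (nat_lit 25613585))) (BT.node (nat_lit 5301760) (BT.leaf (nat_lit 22302237)) (BT.leaf (nat_lit 25614101)))) (BT.node (nat_lit 5301952) (BT.node (nat_lit 5301888) (BT.leaf (nat_lit 25614873)) (BT.leaf (nat_lit 52239113))) (BT.node (nat_lit 5302016) (BT.leaf (nat_lit 35460881)) (BT.leaf (nat_lit 22251545)))))) (BT.node (nat_lit 5302592) (BT.node (nat_lit 5302336) (BT.node (nat_lit 5302208) (BT.node (nat_lit 5302144) (BT.leaf (nat_lit 21421597)) (BT.leaf (nat_lit 23397153))) (BT.node (nat_lit 5302272) (BT.leaf (nat_lit 25617937)) (BT.leaf (nat_lit 25617929)))) (BT.node (nat_lit 5302464) (BT.node (nat_lit 5302400) (BT.leaf (nat_lit 22637845)) (BT.leaf (nat_lit 22624281))) (BT.node (nat_lit 5302528) (BT.leaf (nat_lit 20796957)) (BT.leaf (nat_lit 20228369))))) (BT.node (nat_lit 5302848) (BT.node (nat_lit 5302720) (BT.node (nat_lit 5302656) (BT.leaf (nat_lit 25620497)) (BT.leaf (nat_lit 20848145))) (BT.node (nat_lit 5302784) (BT.leaf (nat_lit 20468497)) (BT.leaf (nat_lit 35837709)))) (BT.node (nat_lit 5302976) (BT.node (nat_lit 5302912) (BT.leaf (nat_lit 25623313)) (BT.leaf (nat_lit 32998177))) (BT.node (nat_lit 5303040) (BT.leaf (nat_lit 27497229)) (BT.leaf (nat_lit 21014537))))))) (BT.node (nat_lit 5304128) (BT.node (nat_lit 5303616) (BT.node (nat_lit 5303360) (BT.node (nat_lit 5303232) (BT.node (nat_lit 5303168) (BT.leaf (nat_lit 24912917)) (BT.leaf (nat_lit 22317601))) (BT.node (nat_lit 5303296) (BT.leaf (nat_lit 24913177)) (BT.leaf (nat_lit 25625117)))) (BT.node (nat_lit 5303488) (BT.node (nat_lit 5303424) (BT.leaf (nat_lit 33081877)) (BT.leaf (nat_lit 22896153))) (BT.node (nat_lit 5303552) (BT.leaf (nat_lit 25626649)) (BT.leaf (nat_lit 20815137))))) (BT.node (nat_lit 5303872) (BT.node (nat_lit 5303744) (BT.node (nat_lit 5303680) (BT.leaf (nat_lit 21198101)) (BT.leaf (nat_lit 25628701))) (BT.node (nat_lit 5303808) (BT.leaf (nat_lit 52169745)) (BT.leaf (nat_lit 21215001)))) (BT.node (nat_lit 5304000) (BT.node (nat_lit 5303936) (BT.leaf (nat_lit 20774661)) (BT.leaf (nat_lit 25630737))) (BT.node (nat_lit 5304064) (BT.leaf (nat_lit 20383765)) (BT.leaf (nat_lit 25631249)))))) (BT.node (nat_lit 5304640) (BT.node (nat_lit 5304384) (BT.node (nat_lit 5304256) (BT.node (nat_lit 5304192) (BT.leaf (nat_lit 36345109)) (BT.leaf (nat_lit 36345113))) (BT.node (nat_lit 5304320) (BT.leaf (nat_lit 36345117)) (BT.leaf (nat_lit 21964065)))) (BT.node (nat_lit 5304512) (BT.node (nat_lit 5304448) (BT.leaf (nat_lit 22371341)) (BT.leaf (nat_lit 23797017))) (BT.node (nat_lit 5304576) (BT.leaf (nat_lit 21499161)) (BT.leaf (nat_lit 26756869))))) (BT.node (nat_lit 5304896) (BT.node (nat_lit 5304768) (BT.node (nat_lit 5304704) (BT.leaf (nat_lit 50064901)) (BT.leaf (nat_lit 25634837))) (BT.node (nat_lit 5304832) (BT.leaf (nat_lit 25635601)) (BT.leaf (nat_lit 50938897)))) (BT.node (nat_lit 5305024) (BT.node (nat_lit 5304960) (BT.leaf (nat_lit 23921673)) (BT.leaf (nat_lit 25021189))) (BT.node (nat_lit 5305088) (BT.leaf (nat_lit 21849861)) (BT.leaf (nat_lit 25434137)))))))) (BT.node (nat_lit 5307200) (BT.node (nat_lit 5306176) (BT.node (nat_lit 5305664) (BT.node (nat_lit 5305408) (BT.node (nat_lit 5305280) (BT.node (nat_lit 5305216) (BT.leaf (nat_lit 20578069)) (BT.leaf (nat_lit 21592341))) (BT.node (nat_lit 5305344) (BT.leaf (nat_lit 20837905)) (BT.leaf (nat_lit 36535825)))) (BT.node (nat_lit 5305536) (BT.node (nat_lit 5305472) (BT.leaf (nat_lit 36960517)) (BT.leaf (nat_lit 20818193))) (BT.node (nat_lit 5305600) (BT.leaf (nat_lit 25178885)) (BT.leaf (nat_lit 20899849))))) (BT.node (nat_lit 5305920) (BT.node (nat_lit 5305792) (BT.node (nat_lit 5305728) (BT.leaf (nat_lit 35429409)) (BT.leaf (nat_lit 49826065))) (BT.node (nat_lit 5305856) (BT.leaf (nat_lit 20809249)) (BT.leaf (nat_lit 23855381)))) (BT.node (nat_lit 5306048) (BT.node (nat_lit 5305984) (BT.leaf (nat_lit 20816901)) (BT.leaf (nat_lit 20816921))) (BT.node (nat_lit 5306112) (BT.leaf (nat_lit 20945953)) (BT.leaf (nat_lit 20998673)))))) (BT.node (nat_lit 5306688) (BT.node (nat_lit 5306432) (BT.node (nat_lit 5306304) (BT.node (nat_lit 5306240) (BT.leaf (nat_lit 22442261)) (BT.leaf (nat_lit 20899857))) (BT.node (nat_lit 5306368) (BT.leaf (nat_lit 20419353)) (BT.leaf (nat_lit 20419357)))) (BT.node (nat_lit 5306560) (BT.node (nat_lit 5306496) (BT.leaf (nat_lit 21966353)) (BT.leaf (nat_lit 25644305))) (BT.node (nat_lit 5306624) (BT.leaf (nat_lit 25644573)) (BT.leaf (nat_lit 23937557))))) (BT.node (nat_lit 5306944) (BT.node (nat_lit 5306816) (BT.node (nat_lit 5306752) (BT.leaf (nat_lit 24109333)) (BT.leaf (nat_lit 22509573))) (BT.node (nat_lit 5306880) (BT.leaf (nat_lit 21318433)) (BT.leaf (nat_lit 21937941)))) (BT.node (nat_lit 5307072) (BT.node (nat_lit 5307008) (BT.leaf (nat_lit 25646361)) (BT.leaf (nat_lit 21128729))) (BT.node (nat_lit 5307136) (BT.leaf (nat_lit 21128733)) (BT.leaf (nat_lit 22618401))))))) (BT.node (nat_lit 5308224) (BT.node (nat_lit 5307712) (BT.node (nat_lit 5307456) (BT.node (nat_lit 5307328) (BT.node (nat_lit 5307264) (BT.leaf (nat_lit 23310625)) (BT.leaf (nat_lit 22422049))) (BT.node (nat_lit 5307392) (BT.leaf (nat_lit 25648657)) (BT.leaf (nat_lit 25290265)))) (BT.node (nat_lit 5307584) (BT.node (nat_lit 5307520) (BT.leaf (nat_lit 25649169)) (BT.leaf (nat_lit 20390157))) (BT.node (nat_lit 5307648) (BT.leaf (nat_lit 25649173)) (BT.leaf (nat_lit 22397189))))) (BT.node (nat_lit 5307968) (BT.node (nat_lit 5307840) (BT.node (nat_lit 5307776) (BT.leaf (nat_lit 27912729)) (BT.leaf (nat_lit 20484881))) (BT.node (nat_lit 5307904) (BT.leaf (nat_lit 25651717)) (BT.leaf (nat_lit 21767185)))) (BT.node (nat_lit 5308096) (BT.node (nat_lit 5308032) (BT.leaf (nat_lit 23703073)) (BT.leaf (nat_lit 22961953))) (BT.node (nat_lit 5308160) (BT.leaf (nat_lit 21313045)) (BT.leaf (nat_lit 25008917)))))) (BT.node (nat_lit 5308736) (BT.node (nat_lit 5308480) (BT.node (nat_lit 5308352) (BT.node (nat_lit 5308288) (BT.leaf (nat_lit 25243169)) (BT.leaf (nat_lit 22621981))) (BT.node (nat_lit 5308416) (BT.leaf (nat_lit 36532505)) (BT.leaf (nat_lit 22565393)))) (BT.node (nat_lit 5308608) (BT.node (nat_lit 5308544) (BT.leaf (nat_lit 25652501)) (BT.leaf (nat_lit 20736017))) (BT.node (nat_lit 5308672) (BT.leaf (nat_lit 23970833)) (BT.leaf (nat_lit 21234457))))) (BT.node (nat_lit 5308992) (BT.node (nat_lit 5308864) (BT.node (nat_lit 5308800) (BT.leaf (nat_lit 21408033)) (BT.leaf (nat_lit 23969305))) (BT.node (nat_lit 5308928) (BT.leaf (nat_lit 25655577)) (BT.leaf (nat_lit 33381381)))) (BT.node (nat_lit 5309120) (BT.node (nat_lit 5309056) (BT.leaf (nat_lit 24472865)) (BT.leaf (nat_lit 22686485))) (BT.node (nat_lit 5309184) (BT.leaf (nat_lit 50036245)) (BT.leaf (nat_lit 50036249))))))))) (BT.node (nat_lit 5313344) (BT.node (nat_lit 5311296) (BT.node (nat_lit 5310272) (BT.node (nat_lit 5309760) (BT.node (nat_lit 5309504) (BT.node (nat_lit 5309376) (BT.node (nat_lit 5309312) (BT.leaf (nat_lit 50036253)) (BT.leaf (nat_lit 20393233))) (BT.node (nat_lit 5309440) (BT.leaf (nat_lit 20392721)) (BT.leaf (nat_lit 25657889)))) (BT.node (nat_lit 5309632) (BT.node (nat_lit 5309568) (BT.leaf (nat_lit 20392977)) (BT.leaf (nat_lit 25658385))) (BT.node (nat_lit 5309696) (BT.leaf (nat_lit 23808777)) (BT.leaf (nat_lit 50711065))))) (BT.node (nat_lit 5310016) (BT.node (nat_lit 5309888) (BT.node (nat_lit 5309824) (BT.leaf (nat_lit 50711069)) (BT.leaf (nat_lit 25659413))) (BT.node (nat_lit 5309952) (BT.leaf (nat_lit 25659921)) (BT.leaf (nat_lit 21685273)))) (BT.node (nat_lit 5310144) (BT.node (nat_lit 5310080) (BT.leaf (nat_lit 34378269)) (BT.leaf (nat_lit 21546269))) (BT.node (nat_lit 5310208) (BT.leaf (nat_lit 21685257)) (BT.leaf (nat_lit 20581653)))))) (BT.node (nat_lit 5310784) (BT.node (nat_lit 5310528) (BT.node (nat_lit 5310400) (BT.node (nat_lit 5310336) (BT.leaf (nat_lit 20395545)) (BT.leaf (nat_lit 20395549))) (BT.node (nat_lit 5310464) (BT.leaf (nat_lit 20469777)) (BT.leaf (nat_lit 49862409)))) (BT.node (nat_lit 5310656) (BT.node (nat_lit 5310592) (BT.leaf (nat_lit 52077325)) (BT.leaf (nat_lit 20495389))) (BT.node (nat_lit 5310720) (BT.leaf (nat_lit 23153933)) (BT.leaf (nat_lit 22952985))))) (BT.node (nat_lit 5311040) (BT.node (nat_lit 5310912) (BT.node (nat_lit 5310848) (BT.leaf (nat_lit 23155989)) (BT.leaf (nat_lit 20343073))) (BT.node (nat_lit 5310976) (BT.leaf (nat_lit 21403933)) (BT.leaf (nat_lit 21228037)))) (BT.node (nat_lit 5311168) (BT.node (nat_lit 5311104) (BT.leaf (nat_lit 20619793)) (BT.leaf (nat_lit 22685973))) (BT.node (nat_lit 5311232) (BT.leaf (nat_lit 25666321)) (BT.leaf (nat_lit 25666833))))))) (BT.node (nat_lit 5312320) (BT.node (nat_lit 5311808) (BT.node (nat_lit 5311552) (BT.node (nat_lit 5311424) (BT.node (nat_lit 5311360) (BT.leaf (nat_lit 25667613)) (BT.leaf (nat_lit 25667345))) (BT.node (nat_lit 5311488) (BT.leaf (nat_lit 21260577)) (BT.leaf (nat_lit 21032209)))) (BT.node (nat_lit 5311680) (BT.node (nat_lit 5311616) (BT.leaf (nat_lit 25669145)) (BT.leaf (nat_lit 34548753))) (BT.node (nat_lit 5311744) (BT.leaf (nat_lit 25669909)) (BT.leaf (nat_lit 21678097))))) (BT.node (nat_lit 5312064) (BT.node (nat_lit 5311936) (BT.node (nat_lit 5311872) (BT.leaf (nat_lit 51157793)) (BT.leaf (nat_lit 20885765))) (BT.node (nat_lit 5312000) (BT.leaf (nat_lit 20813333)) (BT.leaf (nat_lit 20910113)))) (BT.node (nat_lit 5312192) (BT.node (nat_lit 5312128) (BT.leaf (nat_lit 23336481)) (BT.leaf (nat_lit 22459157))) (BT.node (nat_lit 5312256) (BT.leaf (nat_lit 20587281)) (BT.leaf (nat_lit 25089557)))))) (BT.node (nat_lit 5312832) (BT.node (nat_lit 5312576) (BT.node (nat_lit 5312448) (BT.node (nat_lit 5312384) (BT.leaf (nat_lit 25760777)) (BT.leaf (nat_lit 22681109))) (BT.node (nat_lit 5312512) (BT.leaf (nat_lit 25671445)) (BT.leaf (nat_lit 25083909)))) (BT.node (nat_lit 5312704) (BT.node (nat_lit 5312640) (BT.leaf (nat_lit 25088521)) (BT.leaf (nat_lit 22507537))) (BT.node (nat_lit 5312768) (BT.leaf (nat_lit 48955145)) (BT.leaf (nat_lit 22662425))))) (BT.node (nat_lit 5313088) (BT.node (nat_lit 5312960) (BT.node (nat_lit 5312896) (BT.leaf (nat_lit 23274521)) (BT.leaf (nat_lit 25673757))) (BT.node (nat_lit 5313024) (BT.leaf (nat_lit 23202053)) (BT.leaf (nat_lit 22478601)))) (BT.node (nat_lit 5313216) (BT.node (nat_lit 5313152) (BT.leaf (nat_lit 24838677)) (BT.leaf (nat_lit 25785105))) (BT.node (nat_lit 5313280) (BT.leaf (nat_lit 23166233)) (BT.leaf (nat_lit 23203869)))))))) (BT.node (nat_lit 5315392) (BT.node (nat_lit 5314368) (BT.node (nat_lit 5313856) (BT.node (nat_lit 5313600) (BT.node (nat_lit 5313472) (BT.node (nat_lit 5313408) (BT.leaf (nat_lit 22478609)) (BT.leaf (nat_lit 24016413))) (BT.node (nat_lit 5313536) (BT.leaf (nat_lit 25675797)) (BT.leaf (nat_lit 47985925)))) (BT.node (nat_lit 5313728) (BT.node (nat_lit 5313664) (BT.leaf (nat_lit 21218833)) (BT.leaf (nat_lit 47985949))) (BT.node (nat_lit 5313792) (BT.leaf (nat_lit 51391249)) (BT.leaf (nat_lit 21218581))))) (BT.node (nat_lit 5314112) (BT.node (nat_lit 5313984) (BT.node (nat_lit 5313920) (BT.leaf (nat_lit 50035205)) (BT.leaf (nat_lit 20737301))) (BT.node (nat_lit 5314048) (BT.leaf (nat_lit 21698337)) (BT.leaf (nat_lit 20729377)))) (BT.node (nat_lit 5314240) (BT.node (nat_lit 5314176) (BT.leaf (nat_lit 20586005)) (BT.leaf (nat_lit 20532501))) (BT.node (nat_lit 5314304) (BT.leaf (nat_lit 51994629)) (BT.leaf (nat_lit 20652309)))))) (BT.node (nat_lit 5314880) (BT.node (nat_lit 5314624) (BT.node (nat_lit 5314496) (BT.node (nat_lit 5314432) (BT.leaf (nat_lit 20652317)) (BT.leaf (nat_lit 23652869))) (BT.node (nat_lit 5314560) (BT.leaf (nat_lit 22378249)) (BT.leaf (nat_lit 21511453)))) (BT.node (nat_lit 5314752) (BT.node (nat_lit 5314688) (BT.leaf (nat_lit 23007517)) (BT.leaf (nat_lit 21178645))) (BT.node (nat_lit 5314816) (BT.leaf (nat_lit 25680401)) (BT.leaf (nat_lit 25154065))))) (BT.node (nat_lit 5315136) (BT.node (nat_lit 5315008) (BT.node (nat_lit 5314944) (BT.leaf (nat_lit 20407317)) (BT.leaf (nat_lit 25680913))) (BT.node (nat_lit 5315072) (BT.leaf (nat_lit 24033821)) (BT.leaf (nat_lit 24032789)))) (BT.node (nat_lit 5315264) (BT.node (nat_lit 5315200) (BT.leaf (nat_lit 25682709)) (BT.leaf (nat_lit 24034581))) (BT.node (nat_lit 5315328) (BT.leaf (nat_lit 25683217)) (BT.leaf (nat_lit 22926625))))))) (BT.node (nat_lit 5316416) (BT.node (nat_lit 5315904) (BT.node (nat_lit 5315648) (BT.node (nat_lit 5315520) (BT.node (nat_lit 5315456) (BT.leaf (nat_lit 20916997)) (BT.leaf (nat_lit 26851105))) (BT.node (nat_lit 5315584) (BT.leaf (nat_lit 21681169)) (BT.leaf (nat_lit 51490069)))) (BT.node (nat_lit 5315776) (BT.node (nat_lit 5315712) (BT.leaf (nat_lit 21278497)) (BT.leaf (nat_lit 22362117))) (BT.node (nat_lit 5315840) (BT.leaf (nat_lit 25684997)) (BT.leaf (nat_lit 25685777))))) (BT.node (nat_lit 5316160) (BT.node (nat_lit 5316032) (BT.node (nat_lit 5315968) (BT.leaf (nat_lit 33409569)) (BT.leaf (nat_lit 52239129))) (BT.node (nat_lit 5316096) (BT.leaf (nat_lit 20445973)) (BT.leaf (nat_lit 22820385)))) (BT.node (nat_lit 5316288) (BT.node (nat_lit 5316224) (BT.leaf (nat_lit 22820129)) (BT.leaf (nat_lit 20907793))) (BT.node (nat_lit 5316352) (BT.leaf (nat_lit 52078341)) (BT.leaf (nat_lit 21401877)))))) (BT.node (nat_lit 5316928) (BT.node (nat_lit 5316672) (BT.node (nat_lit 5316544) (BT.node (nat_lit 5316480) (BT.leaf (nat_lit 20469533)) (BT.leaf (nat_lit 21106209))) (BT.node (nat_lit 5316608) (BT.leaf (nat_lit 21224729)) (BT.leaf (nat_lit 25825817)))) (BT.node (nat_lit 5316800) (BT.node (nat_lit 5316736) (BT.leaf (nat_lit 20831505)) (BT.leaf (nat_lit 49794837))) (BT.node (nat_lit 5316864) (BT.leaf (nat_lit 21632777)) (BT.leaf (nat_lit 22509585))))) (BT.node (nat_lit 5317184) (BT.node (nat_lit 5317056) (BT.node (nat_lit 5316992) (BT.leaf (nat_lit 21523717)) (BT.leaf (nat_lit 23929885))) (BT.node (nat_lit 5317120) (BT.leaf (nat_lit 25846037)) (BT.leaf (nat_lit 25691677)))) (BT.node (nat_lit 5317312) (BT.node (nat_lit 5317248) (BT.leaf (nat_lit 21424417)) (BT.leaf (nat_lit 24051233))) (BT.node (nat_lit 5317376) (BT.leaf (nat_lit 23201029)) (BT.leaf (nat_lit 22645253)))))))))) (BT.node (nat_lit 5325632) (BT.node (nat_lit 5321536) (BT.node (nat_lit 5319488) (BT.node (nat_lit 5318464) (BT.node (nat_lit 5317952) (BT.node (nat_lit 5317696) (BT.node (nat_lit 5317568) (BT.node (nat_lit 5317504) (BT.leaf (nat_lit 23132189)) (BT.leaf (nat_lit 25692689))) (BT.node (nat_lit 5317632) (BT.leaf (nat_lit 21270041)) (BT.leaf (nat_lit 21270813)))) (BT.node (nat_lit 5317824) (BT.node (nat_lit 5317760) (BT.leaf (nat_lit 24053777)) (BT.leaf (nat_lit 21071129))) (BT.node (nat_lit 5317888) (BT.leaf (nat_lit 25693969)) (BT.leaf (nat_lit 21573893))))) (BT.node (nat_lit 5318208) (BT.node (nat_lit 5318080) (BT.node (nat_lit 5318016) (BT.leaf (nat_lit 25694745)) (BT.leaf (nat_lit 36456473))) (BT.node (nat_lit 5318144) (BT.leaf (nat_lit 50282505)) (BT.leaf (nat_lit 22428705)))) (BT.node (nat_lit 5318336) (BT.node (nat_lit 5318272) (BT.leaf (nat_lit 25696537)) (BT.leaf (nat_lit 24962081))) (BT.node (nat_lit 5318400) (BT.leaf (nat_lit 25124125)) (BT.leaf (nat_lit 24059653)))))) (BT.node (nat_lit 5318976) (BT.node (nat_lit 5318720) (BT.node (nat_lit 5318592) (BT.node (nat_lit 5318528) (BT.leaf (nat_lit 35726101)) (BT.leaf (nat_lit 22491933))) (BT.node (nat_lit 5318656) (BT.leaf (nat_lit 21243397)) (BT.leaf (nat_lit 25698577)))) (BT.node (nat_lit 5318848) (BT.node (nat_lit 5318784) (BT.leaf (nat_lit 25698581)) (BT.leaf (nat_lit 25700121))) (BT.node (nat_lit 5318912) (BT.leaf (nat_lit 25700629)) (BT.leaf (nat_lit 22392081))))) (BT.node (nat_lit 5319232) (BT.node (nat_lit 5319104) (BT.node (nat_lit 5319040) (BT.leaf (nat_lit 20415249)) (BT.leaf (nat_lit 23440409))) (BT.node (nat_lit 5319168) (BT.leaf (nat_lit 25701393)) (BT.leaf (nat_lit 20851217)))) (BT.node (nat_lit 5319360) (BT.node (nat_lit 5319296) (BT.leaf (nat_lit 25701661)) (BT.leaf (nat_lit 20473617))) (BT.node (nat_lit 5319424) (BT.leaf (nat_lit 25702689)) (BT.leaf (nat_lit 25702945))))))) (BT.node (nat_lit 5320512) (BT.node (nat_lit 5320000) (BT.node (nat_lit 5319744) (BT.node (nat_lit 5319616) (BT.node (nat_lit 5319552) (BT.leaf (nat_lit 25703457)) (BT.leaf (nat_lit 25703969))) (BT.node (nat_lit 5319680) (BT.leaf (nat_lit 25703449)) (BT.leaf (nat_lit 21340441)))) (BT.node (nat_lit 5319872) (BT.node (nat_lit 5319808) (BT.leaf (nat_lit 21279261)) (BT.leaf (nat_lit 25704721))) (BT.node (nat_lit 5319936) (BT.leaf (nat_lit 23784725)) (BT.leaf (nat_lit 22306849))))) (BT.node (nat_lit 5320256) (BT.node (nat_lit 5320128) (BT.node (nat_lit 5320064) (BT.leaf (nat_lit 25028869)) (BT.leaf (nat_lit 22857233))) (BT.node (nat_lit 5320192) (BT.leaf (nat_lit 20431645)) (BT.leaf (nat_lit 25707281)))) (BT.node (nat_lit 5320384) (BT.node (nat_lit 5320320) (BT.leaf (nat_lit 21280793)) (BT.leaf (nat_lit 25582881))) (BT.node (nat_lit 5320448) (BT.leaf (nat_lit 21312025)) (BT.leaf (nat_lit 21077001)))))) (BT.node (nat_lit 5321024) (BT.node (nat_lit 5320768) (BT.node (nat_lit 5320640) (BT.node (nat_lit 5320576) (BT.leaf (nat_lit 21077005)) (BT.leaf (nat_lit 22318881))) (BT.node (nat_lit 5320704) (BT.leaf (nat_lit 21077017)) (BT.leaf (nat_lit 21077021)))) (BT.node (nat_lit 5320896) (BT.node (nat_lit 5320832) (BT.leaf (nat_lit 20433941)) (BT.leaf (nat_lit 25709853))) (BT.node (nat_lit 5320960) (BT.leaf (nat_lit 20814609)) (BT.leaf (nat_lit 23333905))))) (BT.node (nat_lit 5321280) (BT.node (nat_lit 5321152) (BT.node (nat_lit 5321088) (BT.leaf (nat_lit 20814105)) (BT.leaf (nat_lit 20814109))) (BT.node (nat_lit 5321216) (BT.leaf (nat_lit 33486605)) (BT.leaf (nat_lit 51319309)))) (BT.node (nat_lit 5321408) (BT.node (nat_lit 5321344) (BT.leaf (nat_lit 25279777)) (BT.leaf (nat_lit 37525025))) (BT.node (nat_lit 5321472) (BT.leaf (nat_lit 22475541)) (BT.leaf (nat_lit 50409493)))))))) (BT.node (nat_lit 5323584) (BT.node (nat_lit 5322560) (BT.node (nat_lit 5322048) (BT.node (nat_lit 5321792) (BT.node (nat_lit 5321664) (BT.node (nat_lit 5321600) (BT.leaf (nat_lit 20422161)) (BT.leaf (nat_lit 20796697))) (BT.node (nat_lit 5321728) (BT.leaf (nat_lit 22637589)) (BT.leaf (nat_lit 25715741)))) (BT.node (nat_lit 5321920) (BT.node (nat_lit 5321856) (BT.leaf (nat_lit 21376801)) (BT.leaf (nat_lit 20467985))) (BT.node (nat_lit 5321984) (BT.leaf (nat_lit 25716241)) (BT.leaf (nat_lit 21287705))))) (BT.node (nat_lit 5322304) (BT.node (nat_lit 5322176) (BT.node (nat_lit 5322112) (BT.leaf (nat_lit 25717529)) (BT.leaf (nat_lit 25717777))) (BT.node (nat_lit 5322240) (BT.leaf (nat_lit 25718045)) (BT.leaf (nat_lit 25718809)))) (BT.node (nat_lit 5322432) (BT.node (nat_lit 5322368) (BT.leaf (nat_lit 25719069)) (BT.leaf (nat_lit 20423173))) (BT.node (nat_lit 5322496) (BT.leaf (nat_lit 25720081)) (BT.leaf (nat_lit 20192021)))))) (BT.node (nat_lit 5323072) (BT.node (nat_lit 5322816) (BT.node (nat_lit 5322688) (BT.node (nat_lit 5322624) (BT.leaf (nat_lit 21713173)) (BT.leaf (nat_lit 21882389))) (BT.node (nat_lit 5322752) (BT.leaf (nat_lit 23478557)) (BT.leaf (nat_lit 21882649)))) (BT.node (nat_lit 5322944) (BT.node (nat_lit 5322880) (BT.leaf (nat_lit 23777301)) (BT.leaf (nat_lit 25723165))) (BT.node (nat_lit 5323008) (BT.leaf (nat_lit 24141077)) (BT.leaf (nat_lit 24142869))))) (BT.node (nat_lit 5323328) (BT.node (nat_lit 5323200) (BT.node (nat_lit 5323136) (BT.leaf (nat_lit 24136453)) (BT.leaf (nat_lit 21054485))) (BT.node (nat_lit 5323264) (BT.leaf (nat_lit 22748953)) (BT.leaf (nat_lit 23557913)))) (BT.node (nat_lit 5323456) (BT.node (nat_lit 5323392) (BT.leaf (nat_lit 20596753)) (BT.leaf (nat_lit 20809229))) (BT.node (nat_lit 5323520) (BT.leaf (nat_lit 22551841)) (BT.leaf (nat_lit 24147481))))))) (BT.node (nat_lit 5324608) (BT.node (nat_lit 5324096) (BT.node (nat_lit 5323840) (BT.node (nat_lit 5323712) (BT.node (nat_lit 5323648) (BT.leaf (nat_lit 24073741)) (BT.leaf (nat_lit 24154129))) (BT.node (nat_lit 5323776) (BT.leaf (nat_lit 24156449)) (BT.leaf (nat_lit 25727761)))) (BT.node (nat_lit 5323968) (BT.node (nat_lit 5323904) (BT.leaf (nat_lit 22626837)) (BT.leaf (nat_lit 20597529))) (BT.node (nat_lit 5324032) (BT.leaf (nat_lit 24156429)) (BT.leaf (nat_lit 22725921))))) (BT.node (nat_lit 5324352) (BT.node (nat_lit 5324224) (BT.node (nat_lit 5324160) (BT.leaf (nat_lit 21260065)) (BT.leaf (nat_lit 20822545))) (BT.node (nat_lit 5324288) (BT.leaf (nat_lit 25694753)) (BT.leaf (nat_lit 25035809)))) (BT.node (nat_lit 5324480) (BT.node (nat_lit 5324416) (BT.leaf (nat_lit 22789133)) (BT.leaf (nat_lit 48728861))) (BT.node (nat_lit 5324544) (BT.leaf (nat_lit 48728865)) (BT.leaf (nat_lit 23678485)))))) (BT.node (nat_lit 5325120) (BT.node (nat_lit 5324864) (BT.node (nat_lit 5324736) (BT.node (nat_lit 5324672) (BT.leaf (nat_lit 25731345)) (BT.leaf (nat_lit 25731857))) (BT.node (nat_lit 5324800) (BT.leaf (nat_lit 25318917)) (BT.leaf (nat_lit 21188377)))) (BT.node (nat_lit 5324992) (BT.node (nat_lit 5324928) (BT.leaf (nat_lit 25318929)) (BT.leaf (nat_lit 25733909))) (BT.node (nat_lit 5325056) (BT.leaf (nat_lit 21392917)) (BT.leaf (nat_lit 23310341))))) (BT.node (nat_lit 5325376) (BT.node (nat_lit 5325248) (BT.node (nat_lit 5325184) (BT.leaf (nat_lit 22714641)) (BT.leaf (nat_lit 24330781))) (BT.node (nat_lit 5325312) (BT.leaf (nat_lit 20419601)) (BT.leaf (nat_lit 24183045)))) (BT.node (nat_lit 5325504) (BT.node (nat_lit 5325440) (BT.leaf (nat_lit 21301773)) (BT.leaf (nat_lit 25737493))) (BT.node (nat_lit 5325568) (BT.leaf (nat_lit 21039121)) (BT.leaf (nat_lit 25736973))))))))) (BT.node (nat_lit 5329728) (BT.node (nat_lit 5327680) (BT.node (nat_lit 5326656) (BT.node (nat_lit 5326144) (BT.node (nat_lit 5325888) (BT.node (nat_lit 5325760) (BT.node (nat_lit 5325696) (BT.leaf (nat_lit 25739541)) (BT.leaf (nat_lit 25737993))) (BT.node (nat_lit 5325824) (BT.leaf (nat_lit 20426781)) (BT.leaf (nat_lit 25038877)))) (BT.node (nat_lit 5326016) (BT.node (nat_lit 5325952) (BT.leaf (nat_lit 20882693)) (BT.leaf (nat_lit 23408913))) (BT.node (nat_lit 5326080) (BT.leaf (nat_lit 25741317)) (BT.leaf (nat_lit 25742617))))) (BT.node (nat_lit 5326400) (BT.node (nat_lit 5326272) (BT.node (nat_lit 5326208) (BT.leaf (nat_lit 21047069)) (BT.leaf (nat_lit 21906965))) (BT.node (nat_lit 5326336) (BT.leaf (nat_lit 25743365)) (BT.leaf (nat_lit 23077653)))) (BT.node (nat_lit 5326528) (BT.node (nat_lit 5326464) (BT.leaf (nat_lit 21906717)) (BT.leaf (nat_lit 24193541))) (BT.node (nat_lit 5326592) (BT.leaf (nat_lit 23566873)) (BT.leaf (nat_lit 33114641)))))) (BT.node (nat_lit 5327168) (BT.node (nat_lit 5326912) (BT.node (nat_lit 5326784) (BT.node (nat_lit 5326720) (BT.leaf (nat_lit 25745941)) (BT.leaf (nat_lit 21917201))) (BT.node (nat_lit 5326848) (BT.leaf (nat_lit 20455957)) (BT.leaf (nat_lit 25747221)))) (BT.node (nat_lit 5327040) (BT.node (nat_lit 5326976) (BT.leaf (nat_lit 25747477)) (BT.leaf (nat_lit 24195861))) (BT.node (nat_lit 5327104) (BT.leaf (nat_lit 22360353)) (BT.leaf (nat_lit 25748513))))) (BT.node (nat_lit 5327424) (BT.node (nat_lit 5327296) (BT.node (nat_lit 5327232) (BT.leaf (nat_lit 20429329)) (BT.leaf (nat_lit 25748741))) (BT.node (nat_lit 5327360) (BT.leaf (nat_lit 20428305)) (BT.leaf (nat_lit 25750289)))) (BT.node (nat_lit 5327552) (BT.node (nat_lit 5327488) (BT.leaf (nat_lit 35482889)) (BT.leaf (nat_lit 20828949))) (BT.node (nat_lit 5327616) (BT.leaf (nat_lit 25751825)) (BT.leaf (nat_lit 22722053))))))) (BT.node (nat_lit 5328704) (BT.node (nat_lit 5328192) (BT.node (nat_lit 5327936) (BT.node (nat_lit 5327808) (BT.node (nat_lit 5327744) (BT.leaf (nat_lit 25752597)) (BT.leaf (nat_lit 51409161))) (BT.node (nat_lit 5327872) (BT.leaf (nat_lit 23755025)) (BT.leaf (nat_lit 23350301)))) (BT.node (nat_lit 5328064) (BT.node (nat_lit 5328000) (BT.leaf (nat_lit 21180421)) (BT.leaf (nat_lit 21280789))) (BT.node (nat_lit 5328128) (BT.leaf (nat_lit 21182497)) (BT.leaf (nat_lit 21232397))))) (BT.node (nat_lit 5328448) (BT.node (nat_lit 5328320) (BT.node (nat_lit 5328256) (BT.leaf (nat_lit 21430533)) (BT.leaf (nat_lit 20431641))) (BT.node (nat_lit 5328384) (BT.leaf (nat_lit 21232417)) (BT.leaf (nat_lit 20431137)))) (BT.node (nat_lit 5328576) (BT.node (nat_lit 5328512) (BT.leaf (nat_lit 23962905)) (BT.leaf (nat_lit 21467425))) (BT.node (nat_lit 5328640) (BT.leaf (nat_lit 21574173)) (BT.leaf (nat_lit 34951709)))))) (BT.node (nat_lit 5329216) (BT.node (nat_lit 5328960) (BT.node (nat_lit 5328832) (BT.node (nat_lit 5328768) (BT.leaf (nat_lit 24194581)) (BT.leaf (nat_lit 26011417))) (BT.node (nat_lit 5328896) (BT.leaf (nat_lit 25757713)) (BT.leaf (nat_lit 21315353)))) (BT.node (nat_lit 5329088) (BT.node (nat_lit 5329024) (BT.leaf (nat_lit 21442053)) (BT.leaf (nat_lit 35276065))) (BT.node (nat_lit 5329152) (BT.leaf (nat_lit 20473361)) (BT.leaf (nat_lit 20434961))))) (BT.node (nat_lit 5329472) (BT.node (nat_lit 5329344) (BT.node (nat_lit 5329280) (BT.leaf (nat_lit 20665377)) (BT.leaf (nat_lit 20435729))) (BT.node (nat_lit 5329408) (BT.leaf (nat_lit 25204245)) (BT.leaf (nat_lit 23946017)))) (BT.node (nat_lit 5329600) (BT.node (nat_lit 5329536) (BT.leaf (nat_lit 23597601)) (BT.leaf (nat_lit 25760013))) (BT.node (nat_lit 5329664) (BT.leaf (nat_lit 25761301)) (BT.leaf (nat_lit 21318425)))))))) (BT.node (nat_lit 5331776) (BT.node (nat_lit 5330752) (BT.node (nat_lit 5330240) (BT.node (nat_lit 5329984) (BT.node (nat_lit 5329856) (BT.node (nat_lit 5329792) (BT.leaf (nat_lit 21874965)) (BT.leaf (nat_lit 21631765))) (BT.node (nat_lit 5329920) (BT.leaf (nat_lit 21735181)) (BT.leaf (nat_lit 21787669)))) (BT.node (nat_lit 5330112) (BT.node (nat_lit 5330048) (BT.leaf (nat_lit 23083529)) (BT.leaf (nat_lit 22238981))) (BT.node (nat_lit 5330176) (BT.leaf (nat_lit 21448477)) (BT.leaf (nat_lit 20436757))))) (BT.node (nat_lit 5330496) (BT.node (nat_lit 5330368) (BT.node (nat_lit 5330304) (BT.leaf (nat_lit 20643361)) (BT.leaf (nat_lit 24684829))) (BT.node (nat_lit 5330432) (BT.leaf (nat_lit 20949789)) (BT.leaf (nat_lit 20282901)))) (BT.node (nat_lit 5330624) (BT.node (nat_lit 5330560) (BT.leaf (nat_lit 20603425)) (BT.leaf (nat_lit 21038105))) (BT.node (nat_lit 5330688) (BT.leaf (nat_lit 21038109)) (BT.leaf (nat_lit 24969745)))))) (BT.node (nat_lit 5331264) (BT.node (nat_lit 5331008) (BT.node (nat_lit 5330880) (BT.node (nat_lit 5330816) (BT.leaf (nat_lit 20815881)) (BT.leaf (nat_lit 22974481))) (BT.node (nat_lit 5330944) (BT.leaf (nat_lit 24979209)) (BT.leaf (nat_lit 33408777)))) (BT.node (nat_lit 5331136) (BT.node (nat_lit 5331072) (BT.leaf (nat_lit 20382993)) (BT.leaf (nat_lit 33192453))) (BT.node (nat_lit 5331200) (BT.leaf (nat_lit 20604685)) (BT.leaf (nat_lit 23117573))))) (BT.node (nat_lit 5331520) (BT.node (nat_lit 5331392) (BT.node (nat_lit 5331328) (BT.leaf (nat_lit 25768733)) (BT.leaf (nat_lit 25768977))) (BT.node (nat_lit 5331456) (BT.leaf (nat_lit 24255769)) (BT.leaf (nat_lit 20284949)))) (BT.node (nat_lit 5331648) (BT.node (nat_lit 5331584) (BT.leaf (nat_lit 20645661)) (BT.leaf (nat_lit 22146581))) (BT.node (nat_lit 5331712) (BT.leaf (nat_lit 20474385)) (BT.leaf (nat_lit 21877769))))))) (BT.node (nat_lit 5332800) (BT.node (nat_lit 5332288) (BT.node (nat_lit 5332032) (BT.node (nat_lit 5331904) (BT.node (nat_lit 5331840) (BT.leaf (nat_lit 25199893)) (BT.leaf (nat_lit 25772317))) (BT.node (nat_lit 5331968) (BT.leaf (nat_lit 36360737)) (BT.leaf (nat_lit 25772297)))) (BT.node (nat_lit 5332160) (BT.node (nat_lit 5332096) (BT.leaf (nat_lit 20433173)) (BT.leaf (nat_lit 22448401))) (BT.node (nat_lit 5332224) (BT.leaf (nat_lit 23081745)) (BT.leaf (nat_lit 20440341))))) (BT.node (nat_lit 5332544) (BT.node (nat_lit 5332416) (BT.node (nat_lit 5332352) (BT.leaf (nat_lit 21128725)) (BT.leaf (nat_lit 25774865))) (BT.node (nat_lit 5332480) (BT.leaf (nat_lit 20968989)) (BT.leaf (nat_lit 20288533)))) (BT.node (nat_lit 5332672) (BT.node (nat_lit 5332608) (BT.leaf (nat_lit 20440837)) (BT.leaf (nat_lit 21318413))) (BT.node (nat_lit 5332736) (BT.leaf (nat_lit 21631773)) (BT.leaf (nat_lit 22551573)))))) (BT.node (nat_lit 5333312) (BT.node (nat_lit 5333056) (BT.node (nat_lit 5332928) (BT.node (nat_lit 5332864) (BT.leaf (nat_lit 20606985)) (BT.leaf (nat_lit 20606989))) (BT.node (nat_lit 5332992) (BT.leaf (nat_lit 23117317)) (BT.leaf (nat_lit 20433429)))) (BT.node (nat_lit 5333184) (BT.node (nat_lit 5333120) (BT.leaf (nat_lit 20604681)) (BT.leaf (nat_lit 20442129))) (BT.node (nat_lit 5333248) (BT.leaf (nat_lit 25779985)) (BT.leaf (nat_lit 20289553))))) (BT.node (nat_lit 5333568) (BT.node (nat_lit 5333440) (BT.node (nat_lit 5333376) (BT.leaf (nat_lit 20289557)) (BT.leaf (nat_lit 25276681))) (BT.node (nat_lit 5333504) (BT.leaf (nat_lit 25276685)) (BT.leaf (nat_lit 22831389)))) (BT.node (nat_lit 5333696) (BT.node (nat_lit 5333632) (BT.leaf (nat_lit 24736785)) (BT.leaf (nat_lit 20443665))) (BT.node (nat_lit 5333760) (BT.leaf (nat_lit 20837637)) (BT.leaf (nat_lit 23899929))))))))))) (BT.node (nat_lit 5350208) (BT.node (nat_lit 5342016) (BT.node (nat_lit 5337920) (BT.node (nat_lit 5335872) (BT.node (nat_lit 5334848) (BT.node (nat_lit 5334336) (BT.node (nat_lit 5334080) (BT.node (nat_lit 5333952) (BT.node (nat_lit 5333888) (BT.leaf (nat_lit 24142613)) (BT.leaf (nat_lit 23900437))) (BT.node (nat_lit 5334016) (BT.leaf (nat_lit 20759573)) (BT.leaf (nat_lit 22371357)))) (BT.node (nat_lit 5334208) (BT.node (nat_lit 5334144) (BT.leaf (nat_lit 21023509)) (BT.leaf (nat_lit 21508877))) (BT.node (nat_lit 5334272) (BT.leaf (nat_lit 21509129)) (BT.leaf (nat_lit 25786901))))) (BT.node (nat_lit 5334592) (BT.node (nat_lit 5334464) (BT.node (nat_lit 5334400) (BT.leaf (nat_lit 25787425)) (BT.leaf (nat_lit 24296453))) (BT.node (nat_lit 5334528) (BT.leaf (nat_lit 25788681)) (BT.leaf (nat_lit 25789201)))) (BT.node (nat_lit 5334720) (BT.node (nat_lit 5334656) (BT.leaf (nat_lit 25698069)) (BT.leaf (nat_lit 25698329))) (BT.node (nat_lit 5334784) (BT.leaf (nat_lit 24116253)) (BT.leaf (nat_lit 20422417)))))) (BT.node (nat_lit 5335360) (BT.node (nat_lit 5335104) (BT.node (nat_lit 5334976) (BT.node (nat_lit 5334912) (BT.leaf (nat_lit 25790741)) (BT.leaf (nat_lit 21014557))) (BT.node (nat_lit 5335040) (BT.leaf (nat_lit 23252001)) (BT.leaf (nat_lit 25374237)))) (BT.node (nat_lit 5335232) (BT.node (nat_lit 5335168) (BT.leaf (nat_lit 25791761)) (BT.leaf (nat_lit 22852121))) (BT.node (nat_lit 5335296) (BT.leaf (nat_lit 22140441)) (BT.leaf (nat_lit 25792273))))) (BT.node (nat_lit 5335616) (BT.node (nat_lit 5335488) (BT.node (nat_lit 5335424) (BT.leaf (nat_lit 25792801)) (BT.leaf (nat_lit 21341981))) (BT.node (nat_lit 5335552) (BT.leaf (nat_lit 25793297)) (BT.leaf (nat_lit 34225937)))) (BT.node (nat_lit 5335744) (BT.node (nat_lit 5335680) (BT.leaf (nat_lit 22514973)) (BT.leaf (nat_lit 22621729))) (BT.node (nat_lit 5335808) (BT.leaf (nat_lit 25712141)) (BT.leaf (nat_lit 25712153))))))) (BT.node (nat_lit 5336896) (BT.node (nat_lit 5336384) (BT.node (nat_lit 5336128) (BT.node (nat_lit 5336000) (BT.node (nat_lit 5335936) (BT.leaf (nat_lit 25712157)) (BT.leaf (nat_lit 20794897))) (BT.node (nat_lit 5336064) (BT.leaf (nat_lit 25796373)) (BT.leaf (nat_lit 22502933)))) (BT.node (nat_lit 5336256) (BT.node (nat_lit 5336192) (BT.leaf (nat_lit 21115425)) (BT.leaf (nat_lit 21345037))) (BT.node (nat_lit 5336320) (BT.leaf (nat_lit 20450069)) (BT.leaf (nat_lit 23253765))))) (BT.node (nat_lit 5336640) (BT.node (nat_lit 5336512) (BT.node (nat_lit 5336448) (BT.leaf (nat_lit 21260817)) (BT.leaf (nat_lit 22922501))) (BT.node (nat_lit 5336576) (BT.leaf (nat_lit 20809225)) (BT.leaf (nat_lit 20453917)))) (BT.node (nat_lit 5336768) (BT.node (nat_lit 5336704) (BT.leaf (nat_lit 25248529)) (BT.leaf (nat_lit 26466333))) (BT.node (nat_lit 5336832) (BT.leaf (nat_lit 20447249)) (BT.leaf (nat_lit 25801241)))))) (BT.node (nat_lit 5337408) (BT.node (nat_lit 5337152) (BT.node (nat_lit 5337024) (BT.node (nat_lit 5336960) (BT.leaf (nat_lit 22543133)) (BT.leaf (nat_lit 50742285))) (BT.node (nat_lit 5337088) (BT.leaf (nat_lit 23899917)) (BT.leaf (nat_lit 25788437)))) (BT.node (nat_lit 5337280) (BT.node (nat_lit 5337216) (BT.leaf (nat_lit 50966281)) (BT.leaf (nat_lit 51116041))) (BT.node (nat_lit 5337344) (BT.leaf (nat_lit 25521949)) (BT.leaf (nat_lit 21349645))))) (BT.node (nat_lit 5337664) (BT.node (nat_lit 5337536) (BT.node (nat_lit 5337472) (BT.leaf (nat_lit 23623957)) (BT.leaf (nat_lit 23126037))) (BT.node (nat_lit 5337600) (BT.leaf (nat_lit 25805085)) (BT.leaf (nat_lit 22514193)))) (BT.node (nat_lit 5337792) (BT.node (nat_lit 5337728) (BT.leaf (nat_lit 21082393)) (BT.leaf (nat_lit 21082397))) (BT.node (nat_lit 5337856) (BT.leaf (nat_lit 20959777)) (BT.leaf (nat_lit 25984265)))))))) (BT.node (nat_lit 5339968) (BT.node (nat_lit 5338944) (BT.node (nat_lit 5338432) (BT.node (nat_lit 5338176) (BT.node (nat_lit 5338048) (BT.node (nat_lit 5337984) (BT.leaf (nat_lit 24340741)) (BT.leaf (nat_lit 24098829))) (BT.node (nat_lit 5338112) (BT.leaf (nat_lit 21103649)) (BT.leaf (nat_lit 25984273)))) (BT.node (nat_lit 5338304) (BT.node (nat_lit 5338240) (BT.leaf (nat_lit 22606357)) (BT.leaf (nat_lit 22680593))) (BT.node (nat_lit 5338368) (BT.leaf (nat_lit 25808669)) (BT.leaf (nat_lit 24534817))))) (BT.node (nat_lit 5338688) (BT.node (nat_lit 5338560) (BT.node (nat_lit 5338496) (BT.leaf (nat_lit 23106837)) (BT.leaf (nat_lit 25539613))) (BT.node (nat_lit 5338624) (BT.leaf (nat_lit 21152793)) (BT.leaf (nat_lit 22444037)))) (BT.node (nat_lit 5338816) (BT.node (nat_lit 5338752) (BT.leaf (nat_lit 22971141)) (BT.leaf (nat_lit 20450845))) (BT.node (nat_lit 5338880) (BT.leaf (nat_lit 20345629)) (BT.leaf (nat_lit 25499653)))))) (BT.node (nat_lit 5339456) (BT.node (nat_lit 5339200) (BT.node (nat_lit 5339072) (BT.node (nat_lit 5339008) (BT.leaf (nat_lit 25484293)) (BT.leaf (nat_lit 20450841))) (BT.node (nat_lit 5339136) (BT.leaf (nat_lit 25811473)) (BT.leaf (nat_lit 20809241)))) (BT.node (nat_lit 5339328) (BT.node (nat_lit 5339264) (BT.leaf (nat_lit 20809245)) (BT.leaf (nat_lit 23599365))) (BT.node (nat_lit 5339392) (BT.leaf (nat_lit 49854745)) (BT.leaf (nat_lit 21735429))))) (BT.node (nat_lit 5339712) (BT.node (nat_lit 5339584) (BT.node (nat_lit 5339520) (BT.leaf (nat_lit 25815317)) (BT.leaf (nat_lit 25207585))) (BT.node (nat_lit 5339648) (BT.leaf (nat_lit 25816857)) (BT.leaf (nat_lit 22512645)))) (BT.node (nat_lit 5339840) (BT.node (nat_lit 5339776) (BT.leaf (nat_lit 22313501)) (BT.leaf (nat_lit 51698453))) (BT.node (nat_lit 5339904) (BT.leaf (nat_lit 24089369)) (BT.leaf (nat_lit 25819937))))))) (BT.node (nat_lit 5340992) (BT.node (nat_lit 5340480) (BT.node (nat_lit 5340224) (BT.node (nat_lit 5340096) (BT.node (nat_lit 5340032) (BT.leaf (nat_lit 23408665)) (BT.leaf (nat_lit 23408669))) (BT.node (nat_lit 5340160) (BT.leaf (nat_lit 51698457)) (BT.leaf (nat_lit 51698461)))) (BT.node (nat_lit 5340352) (BT.node (nat_lit 5340288) (BT.leaf (nat_lit 21349657)) (BT.leaf (nat_lit 25822485))) (BT.node (nat_lit 5340416) (BT.leaf (nat_lit 35717905)) (BT.leaf (nat_lit 20452621))))) (BT.node (nat_lit 5340736) (BT.node (nat_lit 5340608) (BT.node (nat_lit 5340544) (BT.leaf (nat_lit 20346649)) (BT.leaf (nat_lit 22779673))) (BT.node (nat_lit 5340672) (BT.leaf (nat_lit 20452637)) (BT.leaf (nat_lit 22947861)))) (BT.node (nat_lit 5340864) (BT.node (nat_lit 5340800) (BT.leaf (nat_lit 20452633)) (BT.leaf (nat_lit 24357893))) (BT.node (nat_lit 5340928) (BT.leaf (nat_lit 25215009)) (BT.leaf (nat_lit 25825557)))))) (BT.node (nat_lit 5341504) (BT.node (nat_lit 5341248) (BT.node (nat_lit 5341120) (BT.node (nat_lit 5341056) (BT.leaf (nat_lit 21103629)) (BT.leaf (nat_lit 23010309))) (BT.node (nat_lit 5341184) (BT.leaf (nat_lit 20715553)) (BT.leaf (nat_lit 23599381)))) (BT.node (nat_lit 5341376) (BT.node (nat_lit 5341312) (BT.leaf (nat_lit 20454681)) (BT.leaf (nat_lit 36589845))) (BT.node (nat_lit 5341440) (BT.leaf (nat_lit 20920325)) (BT.leaf (nat_lit 36589853))))) (BT.node (nat_lit 5341760) (BT.node (nat_lit 5341632) (BT.node (nat_lit 5341568) (BT.leaf (nat_lit 21293593)) (BT.leaf (nat_lit 25798665))) (BT.node (nat_lit 5341696) (BT.leaf (nat_lit 25808661)) (BT.leaf (nat_lit 22443781)))) (BT.node (nat_lit 5341888) (BT.node (nat_lit 5341824) (BT.leaf (nat_lit 25808665)) (BT.leaf (nat_lit 20765721))) (BT.node (nat_lit 5341952) (BT.leaf (nat_lit 21199901)) (BT.leaf (nat_lit 25830161))))))))) (BT.node (nat_lit 5346112) (BT.node (nat_lit 5344064) (BT.node (nat_lit 5343040) (BT.node (nat_lit 5342528) (BT.node (nat_lit 5342272) (BT.node (nat_lit 5342144) (BT.node (nat_lit 5342080) (BT.leaf (nat_lit 25830429)) (BT.leaf (nat_lit 20510229))) (BT.node (nat_lit 5342208) (BT.leaf (nat_lit 22570245)) (BT.leaf (nat_lit 23404057)))) (BT.node (nat_lit 5342400) (BT.node (nat_lit 5342336) (BT.leaf (nat_lit 25830929)) (BT.leaf (nat_lit 25831193))) (BT.node (nat_lit 5342464) (BT.leaf (nat_lit 25831957)) (BT.leaf (nat_lit 22769673))))) (BT.node (nat_lit 5342784) (BT.node (nat_lit 5342656) (BT.node (nat_lit 5342592) (BT.leaf (nat_lit 25832977)) (BT.leaf (nat_lit 26032393))) (BT.node (nat_lit 5342720) (BT.leaf (nat_lit 24195081)) (BT.leaf (nat_lit 20989465)))) (BT.node (nat_lit 5342912) (BT.node (nat_lit 5342848) (BT.leaf (nat_lit 24383265)) (BT.leaf (nat_lit 23405337))) (BT.node (nat_lit 5342976) (BT.leaf (nat_lit 23500821)) (BT.leaf (nat_lit 23751457)))))) (BT.node (nat_lit 5343552) (BT.node (nat_lit 5343296) (BT.node (nat_lit 5343168) (BT.node (nat_lit 5343104) (BT.leaf (nat_lit 23449361)) (BT.leaf (nat_lit 24084237))) (BT.node (nat_lit 5343232) (BT.leaf (nat_lit 23277589)) (BT.leaf (nat_lit 23883781)))) (BT.node (nat_lit 5343424) (BT.node (nat_lit 5343360) (BT.leaf (nat_lit 51145745)) (BT.leaf (nat_lit 23529493))) (BT.node (nat_lit 5343488) (BT.leaf (nat_lit 23934733)) (BT.leaf (nat_lit 23934737))))) (BT.node (nat_lit 5343808) (BT.node (nat_lit 5343680) (BT.node (nat_lit 5343616) (BT.leaf (nat_lit 25839889)) (BT.leaf (nat_lit 23934753))) (BT.node (nat_lit 5343744) (BT.leaf (nat_lit 25840157)) (BT.leaf (nat_lit 25840913)))) (BT.node (nat_lit 5343936) (BT.node (nat_lit 5343872) (BT.leaf (nat_lit 24400645)) (BT.leaf (nat_lit 25841681))) (BT.node (nat_lit 5344000) (BT.leaf (nat_lit 23838997)) (BT.leaf (nat_lit 22466321))))))) (BT.node (nat_lit 5345088) (BT.node (nat_lit 5344576) (BT.node (nat_lit 5344320) (BT.node (nat_lit 5344192) (BT.node (nat_lit 5344128) (BT.leaf (nat_lit 24401681)) (BT.leaf (nat_lit 24401949))) (BT.node (nat_lit 5344256) (BT.leaf (nat_lit 35373337)) (BT.leaf (nat_lit 23945233)))) (BT.node (nat_lit 5344448) (BT.node (nat_lit 5344384) (BT.leaf (nat_lit 25846289)) (BT.leaf (nat_lit 21377305))) (BT.node (nat_lit 5344512) (BT.leaf (nat_lit 25847057)) (BT.leaf (nat_lit 25847313))))) (BT.node (nat_lit 5344832) (BT.node (nat_lit 5344704) (BT.node (nat_lit 5344640) (BT.leaf (nat_lit 22464793)) (BT.leaf (nat_lit 25848081))) (BT.node (nat_lit 5344768) (BT.leaf (nat_lit 31193377)) (BT.leaf (nat_lit 25848581)))) (BT.node (nat_lit 5344960) (BT.node (nat_lit 5344896) (BT.leaf (nat_lit 22793761)) (BT.leaf (nat_lit 21218825))) (BT.node (nat_lit 5345024) (BT.leaf (nat_lit 50223389)) (BT.leaf (nat_lit 35936789)))))) (BT.node (nat_lit 5345600) (BT.node (nat_lit 5345344) (BT.node (nat_lit 5345216) (BT.node (nat_lit 5345152) (BT.leaf (nat_lit 23468817)) (BT.leaf (nat_lit 23798553))) (BT.node (nat_lit 5345280) (BT.leaf (nat_lit 25747993)) (BT.leaf (nat_lit 25747997)))) (BT.node (nat_lit 5345472) (BT.node (nat_lit 5345408) (BT.leaf (nat_lit 21439761)) (BT.leaf (nat_lit 20506389))) (BT.node (nat_lit 5345536) (BT.leaf (nat_lit 25851153)) (BT.leaf (nat_lit 25851413))))) (BT.node (nat_lit 5345856) (BT.node (nat_lit 5345728) (BT.node (nat_lit 5345664) (BT.leaf (nat_lit 21224717)) (BT.leaf (nat_lit 25852181))) (BT.node (nat_lit 5345792) (BT.leaf (nat_lit 20330001)) (BT.leaf (nat_lit 22804745)))) (BT.node (nat_lit 5345984) (BT.node (nat_lit 5345920) (BT.leaf (nat_lit 22804753)) (BT.leaf (nat_lit 22698517))) (BT.node (nat_lit 5346048) (BT.leaf (nat_lit 20362001)) (BT.leaf (nat_lit 22380833)))))))) (BT.node (nat_lit 5348160) (BT.node (nat_lit 5347136) (BT.node (nat_lit 5346624) (BT.node (nat_lit 5346368) (BT.node (nat_lit 5346240) (BT.node (nat_lit 5346176) (BT.leaf (nat_lit 24124165)) (BT.leaf (nat_lit 20242193))) (BT.node (nat_lit 5346304) (BT.leaf (nat_lit 23085829)) (BT.leaf (nat_lit 20755217)))) (BT.node (nat_lit 5346496) (BT.node (nat_lit 5346432) (BT.leaf (nat_lit 20473105)) (BT.leaf (nat_lit 25351189))) (BT.node (nat_lit 5346560) (BT.leaf (nat_lit 25857305)) (BT.leaf (nat_lit 25857565))))) (BT.node (nat_lit 5346880) (BT.node (nat_lit 5346752) (BT.node (nat_lit 5346688) (BT.leaf (nat_lit 27836173)) (BT.leaf (nat_lit 25858577))) (BT.node (nat_lit 5346816) (BT.leaf (nat_lit 20463125)) (BT.leaf (nat_lit 25858833)))) (BT.node (nat_lit 5347008) (BT.node (nat_lit 5346944) (BT.leaf (nat_lit 21000225)) (BT.leaf (nat_lit 20945413))) (BT.node (nat_lit 5347072) (BT.leaf (nat_lit 20394769)) (BT.leaf (nat_lit 22392849)))))) (BT.node (nat_lit 5347648) (BT.node (nat_lit 5347392) (BT.node (nat_lit 5347264) (BT.node (nat_lit 5347200) (BT.leaf (nat_lit 23246881)) (BT.leaf (nat_lit 25649681))) (BT.node (nat_lit 5347328) (BT.leaf (nat_lit 20771333)) (BT.leaf (nat_lit 21148429)))) (BT.node (nat_lit 5347520) (BT.node (nat_lit 5347456) (BT.leaf (nat_lit 20954125)) (BT.leaf (nat_lit 22512917))) (BT.node (nat_lit 5347584) (BT.leaf (nat_lit 23934745)) (BT.leaf (nat_lit 21324321))))) (BT.node (nat_lit 5347904) (BT.node (nat_lit 5347776) (BT.node (nat_lit 5347712) (BT.leaf (nat_lit 20773137)) (BT.leaf (nat_lit 21919005))) (BT.node (nat_lit 5347840) (BT.leaf (nat_lit 22390545)) (BT.leaf (nat_lit 24085277)))) (BT.node (nat_lit 5348032) (BT.node (nat_lit 5347968) (BT.leaf (nat_lit 33478665)) (BT.leaf (nat_lit 24410909))) (BT.node (nat_lit 5348096) (BT.leaf (nat_lit 51279621)) (BT.leaf (nat_lit 46483717))))))) (BT.node (nat_lit 5349184) (BT.node (nat_lit 5348672) (BT.node (nat_lit 5348416) (BT.node (nat_lit 5348288) (BT.node (nat_lit 5348224) (BT.leaf (nat_lit 21299985)) (BT.leaf (nat_lit 25867297))) (BT.node (nat_lit 5348352) (BT.leaf (nat_lit 23748893)) (BT.leaf (nat_lit 20884241)))) (BT.node (nat_lit 5348544) (BT.node (nat_lit 5348480) (BT.leaf (nat_lit 25868065)) (BT.leaf (nat_lit 50441493))) (BT.node (nat_lit 5348608) (BT.leaf (nat_lit 24486945)) (BT.leaf (nat_lit 24487201))))) (BT.node (nat_lit 5348928) (BT.node (nat_lit 5348800) (BT.node (nat_lit 5348736) (BT.leaf (nat_lit 24487713)) (BT.leaf (nat_lit 24487457))) (BT.node (nat_lit 5348864) (BT.leaf (nat_lit 20582157)) (BT.leaf (nat_lit 21293337)))) (BT.node (nat_lit 5349056) (BT.node (nat_lit 5348992) (BT.leaf (nat_lit 21229585)) (BT.leaf (nat_lit 21211397))) (BT.node (nat_lit 5349120) (BT.leaf (nat_lit 49032461)) (BT.leaf (nat_lit 25872401)))))) (BT.node (nat_lit 5349696) (BT.node (nat_lit 5349440) (BT.node (nat_lit 5349312) (BT.node (nat_lit 5349248) (BT.leaf (nat_lit 21195541)) (BT.leaf (nat_lit 21017377))) (BT.node (nat_lit 5349376) (BT.leaf (nat_lit 28629269)) (BT.leaf (nat_lit 22724897)))) (BT.node (nat_lit 5349568) (BT.node (nat_lit 5349504) (BT.leaf (nat_lit 50693393)) (BT.leaf (nat_lit 23014925))) (BT.node (nat_lit 5349632) (BT.leaf (nat_lit 20687377)) (BT.leaf (nat_lit 25227029))))) (BT.node (nat_lit 5349952) (BT.node (nat_lit 5349824) (BT.node (nat_lit 5349760) (BT.leaf (nat_lit 20493589)) (BT.leaf (nat_lit 35724309))) (BT.node (nat_lit 5349888) (BT.leaf (nat_lit 22385937)) (BT.leaf (nat_lit 20468241)))) (BT.node (nat_lit 5350080) (BT.node (nat_lit 5350016) (BT.leaf (nat_lit 25877009)) (BT.leaf (nat_lit 25877521))) (BT.node (nat_lit 5350144) (BT.leaf (nat_lit 25878045)) (BT.leaf (nat_lit 25878305)))))))))) (BT.node (nat_lit 5358400) (BT.node (nat_lit 5354304) (BT.node (nat_lit 5352256) (BT.node (nat_lit 5351232) (BT.node (nat_lit 5350720) (BT.node (nat_lit 5350464) (BT.node (nat_lit 5350336) (BT.node (nat_lit 5350272) (BT.leaf (nat_lit 25878561)) (BT.leaf (nat_lit 21394693))) (BT.node (nat_lit 5350400) (BT.leaf (nat_lit 21401113)) (BT.leaf (nat_lit 22551813)))) (BT.node (nat_lit 5350592) (BT.node (nat_lit 5350528) (BT.leaf (nat_lit 20826393)) (BT.leaf (nat_lit 47934753))) (BT.node (nat_lit 5350656) (BT.leaf (nat_lit 21427977)) (BT.leaf (nat_lit 22940953))))) (BT.node (nat_lit 5350976) (BT.node (nat_lit 5350848) (BT.node (nat_lit 5350784) (BT.leaf (nat_lit 22940957)) (BT.leaf (nat_lit 20870929))) (BT.node (nat_lit 5350912) (BT.leaf (nat_lit 23423505)) (BT.leaf (nat_lit 20482077)))) (BT.node (nat_lit 5351104) (BT.node (nat_lit 5351040) (BT.leaf (nat_lit 25883153)) (BT.leaf (nat_lit 21403929))) (BT.node (nat_lit 5351168) (BT.leaf (nat_lit 25883417)) (BT.leaf (nat_lit 21429785)))))) (BT.node (nat_lit 5351744) (BT.node (nat_lit 5351488) (BT.node (nat_lit 5351360) (BT.node (nat_lit 5351296) (BT.leaf (nat_lit 21405213)) (BT.leaf (nat_lit 25884689))) (BT.node (nat_lit 5351424) (BT.leaf (nat_lit 20214033)) (BT.leaf (nat_lit 20214037)))) (BT.node (nat_lit 5351616) (BT.node (nat_lit 5351552) (BT.leaf (nat_lit 21511969)) (BT.leaf (nat_lit 21512225))) (BT.node (nat_lit 5351680) (BT.leaf (nat_lit 24519201)) (BT.leaf (nat_lit 24519457))))) (BT.node (nat_lit 5352000) (BT.node (nat_lit 5351872) (BT.node (nat_lit 5351808) (BT.leaf (nat_lit 21499149)) (BT.leaf (nat_lit 21439765))) (BT.node (nat_lit 5351936) (BT.leaf (nat_lit 25886737)) (BT.leaf (nat_lit 22715677)))) (BT.node (nat_lit 5352128) (BT.node (nat_lit 5352064) (BT.leaf (nat_lit 21939469)) (BT.leaf (nat_lit 22608401))) (BT.node (nat_lit 5352192) (BT.leaf (nat_lit 21283105)) (BT.leaf (nat_lit 22607893))))))) (BT.node (nat_lit 5353280) (BT.node (nat_lit 5352768) (BT.node (nat_lit 5352512) (BT.node (nat_lit 5352384) (BT.node (nat_lit 5352320) (BT.leaf (nat_lit 20685841)) (BT.leaf (nat_lit 51259937))) (BT.node (nat_lit 5352448) (BT.leaf (nat_lit 22340377)) (BT.leaf (nat_lit 22000917)))) (BT.node (nat_lit 5352640) (BT.node (nat_lit 5352576) (BT.leaf (nat_lit 20472337)) (BT.leaf (nat_lit 22738453))) (BT.node (nat_lit 5352704) (BT.leaf (nat_lit 20880901)) (BT.leaf (nat_lit 22717725))))) (BT.node (nat_lit 5353024) (BT.node (nat_lit 5352896) (BT.node (nat_lit 5352832) (BT.leaf (nat_lit 24487685)) (BT.leaf (nat_lit 31168777))) (BT.node (nat_lit 5352960) (BT.leaf (nat_lit 24442641)) (BT.leaf (nat_lit 25893393)))) (BT.node (nat_lit 5353152) (BT.node (nat_lit 5353088) (BT.leaf (nat_lit 25893385)) (BT.leaf (nat_lit 25894681))) (BT.node (nat_lit 5353216) (BT.leaf (nat_lit 20713741)) (BT.leaf (nat_lit 25895189)))))) (BT.node (nat_lit 5353792) (BT.node (nat_lit 5353536) (BT.node (nat_lit 5353408) (BT.node (nat_lit 5353344) (BT.leaf (nat_lit 21403397)) (BT.leaf (nat_lit 23123993))) (BT.node (nat_lit 5353472) (BT.leaf (nat_lit 36360709)) (BT.leaf (nat_lit 23785741)))) (BT.node (nat_lit 5353664) (BT.node (nat_lit 5353600) (BT.leaf (nat_lit 25897493)) (BT.leaf (nat_lit 24051997))) (BT.node (nat_lit 5353728) (BT.leaf (nat_lit 20915973)) (BT.leaf (nat_lit 21206557))))) (BT.node (nat_lit 5354048) (BT.node (nat_lit 5353920) (BT.node (nat_lit 5353856) (BT.leaf (nat_lit 21081881)) (BT.leaf (nat_lit 21081885))) (BT.node (nat_lit 5353984) (BT.leaf (nat_lit 20996369)) (BT.leaf (nat_lit 22335257)))) (BT.node (nat_lit 5354176) (BT.node (nat_lit 5354112) (BT.leaf (nat_lit 22549509)) (BT.leaf (nat_lit 20777233))) (BT.node (nat_lit 5354240) (BT.leaf (nat_lit 22980617)) (BT.leaf (nat_lit 22981401)))))))) (BT.node (nat_lit 5356352) (BT.node (nat_lit 5355328) (BT.node (nat_lit 5354816) (BT.node (nat_lit 5354560) (BT.node (nat_lit 5354432) (BT.node (nat_lit 5354368) (BT.leaf (nat_lit 21371397)) (BT.leaf (nat_lit 25874461))) (BT.node (nat_lit 5354496) (BT.leaf (nat_lit 20476933)) (BT.leaf (nat_lit 20468237)))) (BT.node (nat_lit 5354688) (BT.node (nat_lit 5354624) (BT.leaf (nat_lit 20495133)) (BT.leaf (nat_lit 20476961))) (BT.node (nat_lit 5354752) (BT.leaf (nat_lit 20476177)) (BT.leaf (nat_lit 20475409))))) (BT.node (nat_lit 5355072) (BT.node (nat_lit 5354944) (BT.node (nat_lit 5354880) (BT.leaf (nat_lit 21399069)) (BT.leaf (nat_lit 20832273))) (BT.node (nat_lit 5355008) (BT.leaf (nat_lit 21399049)) (BT.leaf (nat_lit 20832289)))) (BT.node (nat_lit 5355200) (BT.node (nat_lit 5355136) (BT.leaf (nat_lit 20476945)) (BT.leaf (nat_lit 24472081))) (BT.node (nat_lit 5355264) (BT.leaf (nat_lit 20625681)) (BT.leaf (nat_lit 23051541)))))) (BT.node (nat_lit 5355840) (BT.node (nat_lit 5355584) (BT.node (nat_lit 5355456) (BT.node (nat_lit 5355392) (BT.leaf (nat_lit 20478225)) (BT.leaf (nat_lit 34737157))) (BT.node (nat_lit 5355520) (BT.leaf (nat_lit 22664217)) (BT.leaf (nat_lit 21421577)))) (BT.node (nat_lit 5355712) (BT.node (nat_lit 5355648) (BT.leaf (nat_lit 23577613)) (BT.leaf (nat_lit 21093401))) (BT.node (nat_lit 5355776) (BT.leaf (nat_lit 20479249)) (BT.leaf (nat_lit 20852229))))) (BT.node (nat_lit 5356096) (BT.node (nat_lit 5355968) (BT.node (nat_lit 5355904) (BT.leaf (nat_lit 22914325)) (BT.leaf (nat_lit 24505869))) (BT.node (nat_lit 5356032) (BT.leaf (nat_lit 23054113)) (BT.leaf (nat_lit 24595985)))) (BT.node (nat_lit 5356224) (BT.node (nat_lit 5356160) (BT.leaf (nat_lit 23515157)) (BT.leaf (nat_lit 22555681))) (BT.node (nat_lit 5356288) (BT.leaf (nat_lit 21218849)) (BT.leaf (nat_lit 23920917))))))) (BT.node (nat_lit 5357376) (BT.node (nat_lit 5356864) (BT.node (nat_lit 5356608) (BT.node (nat_lit 5356480) (BT.node (nat_lit 5356416) (BT.leaf (nat_lit 46897181)) (BT.leaf (nat_lit 22994697))) (BT.node (nat_lit 5356544) (BT.leaf (nat_lit 23768853)) (BT.leaf (nat_lit 24029969)))) (BT.node (nat_lit 5356736) (BT.node (nat_lit 5356672) (BT.leaf (nat_lit 23581957)) (BT.leaf (nat_lit 22913825))) (BT.node (nat_lit 5356800) (BT.leaf (nat_lit 25912601)) (BT.leaf (nat_lit 24609557))))) (BT.node (nat_lit 5357120) (BT.node (nat_lit 5356992) (BT.node (nat_lit 5356928) (BT.leaf (nat_lit 21427741)) (BT.leaf (nat_lit 25913873))) (BT.node (nat_lit 5357056) (BT.leaf (nat_lit 21923349)) (BT.leaf (nat_lit 20518929)))) (BT.node (nat_lit 5357248) (BT.node (nat_lit 5357184) (BT.leaf (nat_lit 24885265)) (BT.leaf (nat_lit 25915665))) (BT.node (nat_lit 5357312) (BT.leaf (nat_lit 25915921)) (BT.leaf (nat_lit 25916441)))))) (BT.node (nat_lit 5357888) (BT.node (nat_lit 5357632) (BT.node (nat_lit 5357504) (BT.node (nat_lit 5357440) (BT.leaf (nat_lit 22832929)) (BT.leaf (nat_lit 21403925))) (BT.node (nat_lit 5357568) (BT.leaf (nat_lit 21166881)) (BT.leaf (nat_lit 23113229)))) (BT.node (nat_lit 5357760) (BT.node (nat_lit 5357696) (BT.leaf (nat_lit 25545249)) (BT.leaf (nat_lit 35892741))) (BT.node (nat_lit 5357824) (BT.leaf (nat_lit 21063697)) (BT.leaf (nat_lit 21974281))))) (BT.node (nat_lit 5358144) (BT.node (nat_lit 5358016) (BT.node (nat_lit 5357952) (BT.leaf (nat_lit 20482073)) (BT.leaf (nat_lit 23113249))) (BT.node (nat_lit 5358080) (BT.leaf (nat_lit 25918725)) (BT.leaf (nat_lit 25919509)))) (BT.node (nat_lit 5358272) (BT.node (nat_lit 5358208) (BT.leaf (nat_lit 21049881)) (BT.leaf (nat_lit 21049885))) (BT.node (nat_lit 5358336) (BT.leaf (nat_lit 22536481)) (BT.leaf (nat_lit 23340829))))))))) (BT.node (nat_lit 5362496) (BT.node (nat_lit 5360448) (BT.node (nat_lit 5359424) (BT.node (nat_lit 5358912) (BT.node (nat_lit 5358656) (BT.node (nat_lit 5358528) (BT.node (nat_lit 5358464) (BT.leaf (nat_lit 21050117)) (BT.leaf (nat_lit 21050133))) (BT.node (nat_lit 5358592) (BT.leaf (nat_lit 25922073)) (BT.leaf (nat_lit 37657365)))) (BT.node (nat_lit 5358784) (BT.node (nat_lit 5358720) (BT.leaf (nat_lit 23001117)) (BT.leaf (nat_lit 22321681))) (BT.node (nat_lit 5358848) (BT.leaf (nat_lit 25179413)) (BT.leaf (nat_lit 25923861))))) (BT.node (nat_lit 5359168) (BT.node (nat_lit 5359040) (BT.node (nat_lit 5358976) (BT.leaf (nat_lit 20774933)) (BT.leaf (nat_lit 22355745))) (BT.node (nat_lit 5359104) (BT.leaf (nat_lit 20470297)) (BT.leaf (nat_lit 25925401)))) (BT.node (nat_lit 5359296) (BT.node (nat_lit 5359232) (BT.leaf (nat_lit 20470301)) (BT.leaf (nat_lit 23507717))) (BT.node (nat_lit 5359360) (BT.leaf (nat_lit 24661013)) (BT.leaf (nat_lit 24665121)))))) (BT.node (nat_lit 5359936) (BT.node (nat_lit 5359680) (BT.node (nat_lit 5359552) (BT.node (nat_lit 5359488) (BT.leaf (nat_lit 25925917)) (BT.leaf (nat_lit 20506901))) (BT.node (nat_lit 5359616) (BT.leaf (nat_lit 23237397)) (BT.leaf (nat_lit 25926173)))) (BT.node (nat_lit 5359808) (BT.node (nat_lit 5359744) (BT.leaf (nat_lit 33457681)) (BT.leaf (nat_lit 26032417))) (BT.node (nat_lit 5359872) (BT.leaf (nat_lit 25929485)) (BT.leaf (nat_lit 24798753))))) (BT.node (nat_lit 5360192) (BT.node (nat_lit 5360064) (BT.node (nat_lit 5360000) (BT.leaf (nat_lit 25929497)) (BT.leaf (nat_lit 24667925))) (BT.node (nat_lit 5360128) (BT.leaf (nat_lit 50570013)) (BT.leaf (nat_lit 24538653)))) (BT.node (nat_lit 5360320) (BT.node (nat_lit 5360256) (BT.leaf (nat_lit 24538129)) (BT.leaf (nat_lit 25930769))) (BT.node (nat_lit 5360384) (BT.leaf (nat_lit 20936989)) (BT.leaf (nat_lit 20639513))))))) (BT.node (nat_lit 5361472) (BT.node (nat_lit 5360960) (BT.node (nat_lit 5360704) (BT.node (nat_lit 5360576) (BT.node (nat_lit 5360512) (BT.leaf (nat_lit 20639501)) (BT.leaf (nat_lit 20636697))) (BT.node (nat_lit 5360640) (BT.leaf (nat_lit 20490773)) (BT.leaf (nat_lit 20641289)))) (BT.node (nat_lit 5360832) (BT.node (nat_lit 5360768) (BT.leaf (nat_lit 20636685)) (BT.leaf (nat_lit 20486929))) (BT.node (nat_lit 5360896) (BT.leaf (nat_lit 20486417)) (BT.leaf (nat_lit 20279057))))) (BT.node (nat_lit 5361216) (BT.node (nat_lit 5361088) (BT.node (nat_lit 5361024) (BT.leaf (nat_lit 20643345)) (BT.leaf (nat_lit 21652237))) (BT.node (nat_lit 5361152) (BT.leaf (nat_lit 24041993)) (BT.leaf (nat_lit 25934349)))) (BT.node (nat_lit 5361344) (BT.node (nat_lit 5361280) (BT.leaf (nat_lit 25935637)) (BT.leaf (nat_lit 21484821))) (BT.node (nat_lit 5361408) (BT.leaf (nat_lit 21155349)) (BT.leaf (nat_lit 22724357)))))) (BT.node (nat_lit 5361984) (BT.node (nat_lit 5361728) (BT.node (nat_lit 5361600) (BT.node (nat_lit 5361536) (BT.leaf (nat_lit 23719701)) (BT.leaf (nat_lit 21484573))) (BT.node (nat_lit 5361664) (BT.leaf (nat_lit 20638221)) (BT.leaf (nat_lit 20485397)))) (BT.node (nat_lit 5361856) (BT.node (nat_lit 5361792) (BT.leaf (nat_lit 20660241)) (BT.leaf (nat_lit 20485653))) (BT.node (nat_lit 5361920) (BT.leaf (nat_lit 21475105)) (BT.leaf (nat_lit 21488673))))) (BT.node (nat_lit 5362240) (BT.node (nat_lit 5362112) (BT.node (nat_lit 5362048) (BT.leaf (nat_lit 20634397)) (BT.leaf (nat_lit 21479713))) (BT.node (nat_lit 5362176) (BT.leaf (nat_lit 24976653)) (BT.leaf (nat_lit 21474833)))) (BT.node (nat_lit 5362368) (BT.node (nat_lit 5362304) (BT.leaf (nat_lit 20639497)) (BT.leaf (nat_lit 21474849))) (BT.node (nat_lit 5362432) (BT.leaf (nat_lit 20487953)) (BT.leaf (nat_lit 20639517)))))))) (BT.node (nat_lit 5364544) (BT.node (nat_lit 5363520) (BT.node (nat_lit 5363008) (BT.node (nat_lit 5362752) (BT.node (nat_lit 5362624) (BT.node (nat_lit 5362560) (BT.leaf (nat_lit 25939989)) (BT.leaf (nat_lit 25540117))) (BT.node (nat_lit 5362688) (BT.leaf (nat_lit 22613281)) (BT.leaf (nat_lit 20731921)))) (BT.node (nat_lit 5362880) (BT.node (nat_lit 5362816) (BT.leaf (nat_lit 24228113)) (BT.leaf (nat_lit 22849541))) (BT.node (nat_lit 5362944) (BT.leaf (nat_lit 25449497)) (BT.leaf (nat_lit 25781281))))) (BT.node (nat_lit 5363264) (BT.node (nat_lit 5363136) (BT.node (nat_lit 5363072) (BT.leaf (nat_lit 25705237)) (BT.leaf (nat_lit 50217749))) (BT.node (nat_lit 5363200) (BT.leaf (nat_lit 20670497)) (BT.leaf (nat_lit 20356629)))) (BT.node (nat_lit 5363392) (BT.node (nat_lit 5363328) (BT.leaf (nat_lit 21750805)) (BT.leaf (nat_lit 20857101))) (BT.node (nat_lit 5363456) (BT.leaf (nat_lit 20645665)) (BT.leaf (nat_lit 20857097)))))) (BT.node (nat_lit 5364032) (BT.node (nat_lit 5363776) (BT.node (nat_lit 5363648) (BT.node (nat_lit 5363584) (BT.leaf (nat_lit 20489477)) (BT.leaf (nat_lit 20961029))) (BT.node (nat_lit 5363712) (BT.leaf (nat_lit 20857117)) (BT.leaf (nat_lit 20965153)))) (BT.node (nat_lit 5363904) (BT.node (nat_lit 5363840) (BT.leaf (nat_lit 20964897)) (BT.leaf (nat_lit 20485909))) (BT.node (nat_lit 5363968) (BT.leaf (nat_lit 20641801)) (BT.leaf (nat_lit 20641821))))) (BT.node (nat_lit 5364288) (BT.node (nat_lit 5364160) (BT.node (nat_lit 5364096) (BT.leaf (nat_lit 20636701)) (BT.leaf (nat_lit 20490785))) (BT.node (nat_lit 5364224) (BT.leaf (nat_lit 20491041)) (BT.leaf (nat_lit 25948189)))) (BT.node (nat_lit 5364416) (BT.node (nat_lit 5364352) (BT.leaf (nat_lit 50222361)) (BT.leaf (nat_lit 20937989))) (BT.node (nat_lit 5364480) (BT.leaf (nat_lit 20636945)) (BT.leaf (nat_lit 20637201))))))) (BT.node (nat_lit 5365568) (BT.node (nat_lit 5365056) (BT.node (nat_lit 5364800) (BT.node (nat_lit 5364672) (BT.node (nat_lit 5364608) (BT.leaf (nat_lit 23044881)) (BT.leaf (nat_lit 20485141))) (BT.node (nat_lit 5364736) (BT.leaf (nat_lit 21458457)) (BT.leaf (nat_lit 20491793)))) (BT.node (nat_lit 5364928) (BT.node (nat_lit 5364864) (BT.leaf (nat_lit 23042837)) (BT.leaf (nat_lit 22208013))) (BT.node (nat_lit 5364992) (BT.leaf (nat_lit 20873489)) (BT.leaf (nat_lit 20638233))))) (BT.node (nat_lit 5365312) (BT.node (nat_lit 5365184) (BT.node (nat_lit 5365120) (BT.leaf (nat_lit 25953825)) (BT.leaf (nat_lit 20634377))) (BT.node (nat_lit 5365248) (BT.leaf (nat_lit 22212109)) (BT.leaf (nat_lit 20499473)))) (BT.node (nat_lit 5365440) (BT.node (nat_lit 5365376) (BT.leaf (nat_lit 20491537)) (BT.leaf (nat_lit 24679693))) (BT.node (nat_lit 5365504) (BT.leaf (nat_lit 21876749)) (BT.leaf (nat_lit 21876761)))))) (BT.node (nat_lit 5366080) (BT.node (nat_lit 5365824) (BT.node (nat_lit 5365696) (BT.node (nat_lit 5365632) (BT.leaf (nat_lit 21333537)) (BT.leaf (nat_lit 21333793))) (BT.node (nat_lit 5365760) (BT.leaf (nat_lit 22000153)) (BT.leaf (nat_lit 20648217)))) (BT.node (nat_lit 5365952) (BT.node (nat_lit 5365888) (BT.leaf (nat_lit 21750549)) (BT.leaf (nat_lit 20705553))) (BT.node (nat_lit 5366016) (BT.leaf (nat_lit 21452813)) (BT.leaf (nat_lit 24203029))))) (BT.node (nat_lit 5366336) (BT.node (nat_lit 5366208) (BT.node (nat_lit 5366144) (BT.leaf (nat_lit 21464605)) (BT.leaf (nat_lit 20486165))) (BT.node (nat_lit 5366272) (BT.leaf (nat_lit 21464585)) (BT.leaf (nat_lit 20939793)))) (BT.node (nat_lit 5366464) (BT.node (nat_lit 5366400) (BT.leaf (nat_lit 20636681)) (BT.leaf (nat_lit 23770145))) (BT.node (nat_lit 5366528) (BT.leaf (nat_lit 46897185)) (BT.leaf (nat_lit 25958933)))))))))))) (BT.node (nat_lit 5413568) (BT.node (nat_lit 5383872) (BT.node (nat_lit 5374784) (BT.node (nat_lit 5370688) (BT.node (nat_lit 5368640) (BT.node (nat_lit 5367616) (BT.node (nat_lit 5367104) (BT.node (nat_lit 5366848) (BT.node (nat_lit 5366720) (BT.node (nat_lit 5366656) (BT.leaf (nat_lit 25959713)) (BT.leaf (nat_lit 22580237))) (BT.node (nat_lit 5366784) (BT.leaf (nat_lit 24714769)) (BT.leaf (nat_lit 25960453)))) (BT.node (nat_lit 5366976) (BT.node (nat_lit 5366912) (BT.leaf (nat_lit 25961493)) (BT.leaf (nat_lit 20930593))) (BT.node (nat_lit 5367040) (BT.leaf (nat_lit 20476697)) (BT.leaf (nat_lit 20830753))))) (BT.node (nat_lit 5367360) (BT.node (nat_lit 5367232) (BT.node (nat_lit 5367168) (BT.leaf (nat_lit 20494097)) (BT.leaf (nat_lit 25962769))) (BT.node (nat_lit 5367296) (BT.leaf (nat_lit 20709409)) (BT.leaf (nat_lit 20494113)))) (BT.node (nat_lit 5367488) (BT.node (nat_lit 5367424) (BT.leaf (nat_lit 20494369)) (BT.leaf (nat_lit 25872665))) (BT.node (nat_lit 5367552) (BT.leaf (nat_lit 25964057)) (BT.leaf (nat_lit 25964305)))))) (BT.node (nat_lit 5368128) (BT.node (nat_lit 5367872) (BT.node (nat_lit 5367744) (BT.node (nat_lit 5367680) (BT.leaf (nat_lit 25872393)) (BT.leaf (nat_lit 20774685))) (BT.node (nat_lit 5367808) (BT.leaf (nat_lit 21471261)) (BT.leaf (nat_lit 25966353)))) (BT.node (nat_lit 5368000) (BT.node (nat_lit 5367936) (BT.leaf (nat_lit 47625481)) (BT.leaf (nat_lit 25966865))) (BT.node (nat_lit 5368064) (BT.leaf (nat_lit 23039749)) (BT.leaf (nat_lit 22658585))))) (BT.node (nat_lit 5368384) (BT.node (nat_lit 5368256) (BT.node (nat_lit 5368192) (BT.leaf (nat_lit 21937945)) (BT.leaf (nat_lit 21208085))) (BT.node (nat_lit 5368320) (BT.leaf (nat_lit 35918865)) (BT.leaf (nat_lit 22779933)))) (BT.node (nat_lit 5368512) (BT.node (nat_lit 5368448) (BT.leaf (nat_lit 51500049)) (BT.leaf (nat_lit 22847773))) (BT.node (nat_lit 5368576) (BT.leaf (nat_lit 25970457)) (BT.leaf (nat_lit 24536345))))))) (BT.node (nat_lit 5369664) (BT.node (nat_lit 5369152) (BT.node (nat_lit 5368896) (BT.node (nat_lit 5368768) (BT.node (nat_lit 5368704) (BT.leaf (nat_lit 21447177)) (BT.leaf (nat_lit 21447181))) (BT.node (nat_lit 5368832) (BT.leaf (nat_lit 21447193)) (BT.leaf (nat_lit 21447197)))) (BT.node (nat_lit 5369024) (BT.node (nat_lit 5368960) (BT.leaf (nat_lit 23147277)) (BT.leaf (nat_lit 23147289))) (BT.node (nat_lit 5369088) (BT.leaf (nat_lit 20871185)) (BT.leaf (nat_lit 20280853))))) (BT.node (nat_lit 5369408) (BT.node (nat_lit 5369280) (BT.node (nat_lit 5369216) (BT.leaf (nat_lit 21476385)) (BT.leaf (nat_lit 20470033))) (BT.node (nat_lit 5369344) (BT.leaf (nat_lit 20498449)) (BT.leaf (nat_lit 25973025)))) (BT.node (nat_lit 5369536) (BT.node (nat_lit 5369472) (BT.leaf (nat_lit 21390113)) (BT.leaf (nat_lit 21374229))) (BT.node (nat_lit 5369600) (BT.leaf (nat_lit 23044629)) (BT.leaf (nat_lit 20646937)))))) (BT.node (nat_lit 5370176) (BT.node (nat_lit 5369920) (BT.node (nat_lit 5369792) (BT.node (nat_lit 5369728) (BT.leaf (nat_lit 21964297)) (BT.leaf (nat_lit 20647437))) (BT.node (nat_lit 5369856) (BT.leaf (nat_lit 20496405)) (BT.leaf (nat_lit 20647449)))) (BT.node (nat_lit 5370048) (BT.node (nat_lit 5369984) (BT.leaf (nat_lit 20644889)) (BT.leaf (nat_lit 24699925))) (BT.node (nat_lit 5370112) (BT.leaf (nat_lit 25975573)) (BT.leaf (nat_lit 35489053))))) (BT.node (nat_lit 5370432) (BT.node (nat_lit 5370304) (BT.node (nat_lit 5370240) (BT.leaf (nat_lit 24653333)) (BT.leaf (nat_lit 20496917))) (BT.node (nat_lit 5370368) (BT.leaf (nat_lit 24228129)) (BT.leaf (nat_lit 20648717)))) (BT.node (nat_lit 5370560) (BT.node (nat_lit 5370496) (BT.leaf (nat_lit 20955677)) (BT.leaf (nat_lit 25977881))) (BT.node (nat_lit 5370624) (BT.leaf (nat_lit 25978129)) (BT.leaf (nat_lit 21325341)))))))) (BT.node (nat_lit 5372736) (BT.node (nat_lit 5371712) (BT.node (nat_lit 5371200) (BT.node (nat_lit 5370944) (BT.node (nat_lit 5370816) (BT.node (nat_lit 5370752) (BT.leaf (nat_lit 20438805)) (BT.leaf (nat_lit 20648729))) (BT.node (nat_lit 5370880) (BT.leaf (nat_lit 21103137)) (BT.leaf (nat_lit 20509209)))) (BT.node (nat_lit 5371072) (BT.node (nat_lit 5371008) (BT.leaf (nat_lit 25979933)) (BT.leaf (nat_lit 20646417))) (BT.node (nat_lit 5371136) (BT.leaf (nat_lit 20886533)) (BT.leaf (nat_lit 20500241))))) (BT.node (nat_lit 5371456) (BT.node (nat_lit 5371328) (BT.node (nat_lit 5371264) (BT.leaf (nat_lit 20499985)) (BT.leaf (nat_lit 23617053))) (BT.node (nat_lit 5371392) (BT.leaf (nat_lit 37173281)) (BT.leaf (nat_lit 20501269)))) (BT.node (nat_lit 5371584) (BT.node (nat_lit 5371520) (BT.leaf (nat_lit 21964317)) (BT.leaf (nat_lit 25984261))) (BT.node (nat_lit 5371648) (BT.leaf (nat_lit 20769569)) (BT.leaf (nat_lit 25985813)))))) (BT.node (nat_lit 5372224) (BT.node (nat_lit 5371968) (BT.node (nat_lit 5371840) (BT.node (nat_lit 5371776) (BT.leaf (nat_lit 21155357)) (BT.leaf (nat_lit 21487629))) (BT.node (nat_lit 5371904) (BT.leaf (nat_lit 21448993)) (BT.leaf (nat_lit 20496149)))) (BT.node (nat_lit 5372096) (BT.node (nat_lit 5372032) (BT.leaf (nat_lit 21487641)) (BT.leaf (nat_lit 21441825))) (BT.node (nat_lit 5372160) (BT.leaf (nat_lit 21441553)) (BT.leaf (nat_lit 20644877))))) (BT.node (nat_lit 5372480) (BT.node (nat_lit 5372352) (BT.node (nat_lit 5372288) (BT.leaf (nat_lit 21441569)) (BT.leaf (nat_lit 21449761))) (BT.node (nat_lit 5372416) (BT.leaf (nat_lit 24695073)) (BT.leaf (nat_lit 21420821)))) (BT.node (nat_lit 5372608) (BT.node (nat_lit 5372544) (BT.leaf (nat_lit 23117081)) (BT.leaf (nat_lit 20441361))) (BT.node (nat_lit 5372672) (BT.leaf (nat_lit 25990161)) (BT.leaf (nat_lit 21332765))))))) (BT.node (nat_lit 5373760) (BT.node (nat_lit 5373248) (BT.node (nat_lit 5372992) (BT.node (nat_lit 5372864) (BT.node (nat_lit 5372800) (BT.leaf (nat_lit 20442133)) (BT.leaf (nat_lit 24267269))) (BT.node (nat_lit 5372928) (BT.leaf (nat_lit 26851081)) (BT.leaf (nat_lit 26851085)))) (BT.node (nat_lit 5373120) (BT.node (nat_lit 5373056) (BT.leaf (nat_lit 22693657)) (BT.leaf (nat_lit 35432481))) (BT.node (nat_lit 5373184) (BT.leaf (nat_lit 22406933)) (BT.leaf (nat_lit 22901781))))) (BT.node (nat_lit 5373504) (BT.node (nat_lit 5373376) (BT.node (nat_lit 5373312) (BT.leaf (nat_lit 22901785)) (BT.leaf (nat_lit 25994005))) (BT.node (nat_lit 5373440) (BT.leaf (nat_lit 25994769)) (BT.leaf (nat_lit 24781317)))) (BT.node (nat_lit 5373632) (BT.node (nat_lit 5373568) (BT.leaf (nat_lit 25995037)) (BT.leaf (nat_lit 24659737))) (BT.node (nat_lit 5373696) (BT.leaf (nat_lit 20920593)) (BT.leaf (nat_lit 33311253)))))) (BT.node (nat_lit 5374272) (BT.node (nat_lit 5374016) (BT.node (nat_lit 5373888) (BT.node (nat_lit 5373824) (BT.leaf (nat_lit 22890769)) (BT.leaf (nat_lit 21495065))) (BT.node (nat_lit 5373952) (BT.leaf (nat_lit 21943577)) (BT.leaf (nat_lit 23269401)))) (BT.node (nat_lit 5374144) (BT.node (nat_lit 5374080) (BT.leaf (nat_lit 24386577)) (BT.leaf (nat_lit 24795653))) (BT.node (nat_lit 5374208) (BT.leaf (nat_lit 24795909)) (BT.leaf (nat_lit 21497101))))) (BT.node (nat_lit 5374528) (BT.node (nat_lit 5374400) (BT.node (nat_lit 5374336) (BT.leaf (nat_lit 25999893)) (BT.leaf (nat_lit 21497629))) (BT.node (nat_lit 5374464) (BT.leaf (nat_lit 26001173)) (BT.leaf (nat_lit 50663189)))) (BT.node (nat_lit 5374656) (BT.node (nat_lit 5374592) (BT.leaf (nat_lit 20507153)) (BT.leaf (nat_lit 20506385))) (BT.node (nat_lit 5374720) (BT.leaf (nat_lit 29659141)) (BT.leaf (nat_lit 24798485))))))))) (BT.node (nat_lit 5378880) (BT.node (nat_lit 5376832) (BT.node (nat_lit 5375808) (BT.node (nat_lit 5375296) (BT.node (nat_lit 5375040) (BT.node (nat_lit 5374912) (BT.node (nat_lit 5374848) (BT.leaf (nat_lit 34658309)) (BT.leaf (nat_lit 26003481))) (BT.node (nat_lit 5374976) (BT.leaf (nat_lit 23953937)) (BT.leaf (nat_lit 22945285)))) (BT.node (nat_lit 5375168) (BT.node (nat_lit 5375104) (BT.leaf (nat_lit 22695961)) (BT.leaf (nat_lit 22939665))) (BT.node (nat_lit 5375232) (BT.leaf (nat_lit 24808737)) (BT.leaf (nat_lit 24107033))))) (BT.node (nat_lit 5375552) (BT.node (nat_lit 5375424) (BT.node (nat_lit 5375360) (BT.leaf (nat_lit 26006545)) (BT.leaf (nat_lit 26006549))) (BT.node (nat_lit 5375488) (BT.leaf (nat_lit 21306393)) (BT.leaf (nat_lit 21306397)))) (BT.node (nat_lit 5375680) (BT.node (nat_lit 5375616) (BT.leaf (nat_lit 22381061)) (BT.leaf (nat_lit 21347865))) (BT.node (nat_lit 5375744) (BT.leaf (nat_lit 50024737)) (BT.leaf (nat_lit 33391125)))))) (BT.node (nat_lit 5376320) (BT.node (nat_lit 5376064) (BT.node (nat_lit 5375936) (BT.node (nat_lit 5375872) (BT.leaf (nat_lit 36132889)) (BT.leaf (nat_lit 20689937))) (BT.node (nat_lit 5376000) (BT.leaf (nat_lit 20401937)) (BT.leaf (nat_lit 51409181)))) (BT.node (nat_lit 5376192) (BT.node (nat_lit 5376128) (BT.leaf (nat_lit 26011421)) (BT.leaf (nat_lit 22830881))) (BT.node (nat_lit 5376256) (BT.leaf (nat_lit 35768353)) (BT.leaf (nat_lit 22831393))))) (BT.node (nat_lit 5376576) (BT.node (nat_lit 5376448) (BT.node (nat_lit 5376384) (BT.leaf (nat_lit 24826389)) (BT.leaf (nat_lit 20508177))) (BT.node (nat_lit 5376512) (BT.leaf (nat_lit 20672793)) (BT.leaf (nat_lit 20672797)))) (BT.node (nat_lit 5376704) (BT.node (nat_lit 5376640) (BT.leaf (nat_lit 26989065)) (BT.leaf (nat_lit 26014997))) (BT.node (nat_lit 5376768) (BT.leaf (nat_lit 36060449)) (BT.leaf (nat_lit 24979737))))))) (BT.node (nat_lit 5377856) (BT.node (nat_lit 5377344) (BT.node (nat_lit 5377088) (BT.node (nat_lit 5376960) (BT.node (nat_lit 5376896) (BT.leaf (nat_lit 24945681)) (BT.leaf (nat_lit 22499333))) (BT.node (nat_lit 5377024) (BT.leaf (nat_lit 26016789)) (BT.leaf (nat_lit 35348485)))) (BT.node (nat_lit 5377216) (BT.node (nat_lit 5377152) (BT.leaf (nat_lit 52071173)) (BT.leaf (nat_lit 23869465))) (BT.node (nat_lit 5377280) (BT.leaf (nat_lit 33483269)) (BT.leaf (nat_lit 26018069))))) (BT.node (nat_lit 5377600) (BT.node (nat_lit 5377472) (BT.node (nat_lit 5377408) (BT.leaf (nat_lit 33862413)) (BT.leaf (nat_lit 23221521))) (BT.node (nat_lit 5377536) (BT.leaf (nat_lit 24841989)) (BT.leaf (nat_lit 26019345)))) (BT.node (nat_lit 5377728) (BT.node (nat_lit 5377664) (BT.leaf (nat_lit 22991641)) (BT.leaf (nat_lit 23771677))) (BT.node (nat_lit 5377792) (BT.leaf (nat_lit 23787809)) (BT.leaf (nat_lit 25163549)))))) (BT.node (nat_lit 5378368) (BT.node (nat_lit 5378112) (BT.node (nat_lit 5377984) (BT.node (nat_lit 5377920) (BT.leaf (nat_lit 26020625)) (BT.leaf (nat_lit 21511449))) (BT.node (nat_lit 5378048) (BT.leaf (nat_lit 26021149)) (BT.leaf (nat_lit 26021653)))) (BT.node (nat_lit 5378240) (BT.node (nat_lit 5378176) (BT.leaf (nat_lit 26021637)) (BT.leaf (nat_lit 22646025))) (BT.node (nat_lit 5378304) (BT.leaf (nat_lit 25166869)) (BT.leaf (nat_lit 23734301))))) (BT.node (nat_lit 5378624) (BT.node (nat_lit 5378496) (BT.node (nat_lit 5378432) (BT.leaf (nat_lit 23383321)) (BT.leaf (nat_lit 20721185))) (BT.node (nat_lit 5378560) (BT.leaf (nat_lit 26024977)) (BT.leaf (nat_lit 26024981)))) (BT.node (nat_lit 5378752) (BT.node (nat_lit 5378688) (BT.leaf (nat_lit 23766809)) (BT.leaf (nat_lit 33120261))) (BT.node (nat_lit 5378816) (BT.leaf (nat_lit 26027793)) (BT.leaf (nat_lit 22596381)))))))) (BT.node (nat_lit 5380928) (BT.node (nat_lit 5379904) (BT.node (nat_lit 5379392) (BT.node (nat_lit 5379136) (BT.node (nat_lit 5379008) (BT.node (nat_lit 5378944) (BT.leaf (nat_lit 21084177)) (BT.leaf (nat_lit 22657285))) (BT.node (nat_lit 5379072) (BT.leaf (nat_lit 34020113)) (BT.leaf (nat_lit 26030353)))) (BT.node (nat_lit 5379264) (BT.node (nat_lit 5379200) (BT.leaf (nat_lit 36878609)) (BT.leaf (nat_lit 24099345))) (BT.node (nat_lit 5379328) (BT.leaf (nat_lit 22848289)) (BT.leaf (nat_lit 26032413))))) (BT.node (nat_lit 5379648) (BT.node (nat_lit 5379520) (BT.node (nat_lit 5379456) (BT.leaf (nat_lit 20514833)) (BT.leaf (nat_lit 20684825))) (BT.node (nat_lit 5379584) (BT.leaf (nat_lit 20684829)) (BT.leaf (nat_lit 22924561)))) (BT.node (nat_lit 5379776) (BT.node (nat_lit 5379712) (BT.leaf (nat_lit 21785369)) (BT.leaf (nat_lit 21277717))) (BT.node (nat_lit 5379840) (BT.leaf (nat_lit 25134613)) (BT.leaf (nat_lit 23260189)))))) (BT.node (nat_lit 5380416) (BT.node (nat_lit 5380160) (BT.node (nat_lit 5380032) (BT.node (nat_lit 5379968) (BT.leaf (nat_lit 20898073)) (BT.leaf (nat_lit 20898077))) (BT.node (nat_lit 5380096) (BT.leaf (nat_lit 21197593)) (BT.leaf (nat_lit 23846689)))) (BT.node (nat_lit 5380288) (BT.node (nat_lit 5380224) (BT.leaf (nat_lit 22528801)) (BT.leaf (nat_lit 22379297))) (BT.node (nat_lit 5380352) (BT.leaf (nat_lit 34951945)) (BT.leaf (nat_lit 25248025))))) (BT.node (nat_lit 5380672) (BT.node (nat_lit 5380544) (BT.node (nat_lit 5380480) (BT.leaf (nat_lit 21194521)) (BT.leaf (nat_lit 26035997))) (BT.node (nat_lit 5380608) (BT.leaf (nat_lit 26036769)) (BT.leaf (nat_lit 22302469)))) (BT.node (nat_lit 5380800) (BT.node (nat_lit 5380736) (BT.leaf (nat_lit 26037533)) (BT.leaf (nat_lit 22941717))) (BT.node (nat_lit 5380864) (BT.leaf (nat_lit 22941469)) (BT.leaf (nat_lit 21013281))))))) (BT.node (nat_lit 5382400) (BT.node (nat_lit 5381568) (BT.node (nat_lit 5381184) (BT.node (nat_lit 5381056) (BT.node (nat_lit 5380992) (BT.leaf (nat_lit 22412817)) (BT.leaf (nat_lit 23569953))) (BT.node (nat_lit 5381120) (BT.leaf (nat_lit 21004049)) (BT.leaf (nat_lit 52051745)))) (BT.node (nat_lit 5381312) (BT.node (nat_lit 5381248) (BT.leaf (nat_lit 48702221)) (BT.leaf (nat_lit 22784285))) (BT.node (nat_lit 5381440) (BT.leaf (nat_lit 26042897)) (BT.leaf (nat_lit 26043921))))) (BT.node (nat_lit 5382016) (BT.node (nat_lit 5381824) (BT.node (nat_lit 5381696) (BT.leaf (nat_lit 22226973)) (BT.leaf (nat_lit 27237381))) (BT.node (nat_lit 5381888) (BT.leaf (nat_lit 26046745)) (BT.leaf (nat_lit 20182545)))) (BT.node (nat_lit 5382208) (BT.node (nat_lit 5382144) (BT.leaf (nat_lit 26048789)) (BT.leaf (nat_lit 21540617))) (BT.node (nat_lit 5382336) (BT.leaf (nat_lit 20637217)) (BT.leaf (nat_lit 26051345)))))) (BT.node (nat_lit 5383296) (BT.node (nat_lit 5382912) (BT.node (nat_lit 5382592) (BT.node (nat_lit 5382464) (BT.leaf (nat_lit 26051349)) (BT.leaf (nat_lit 26052369))) (BT.node (nat_lit 5382848) (BT.leaf (nat_lit 21539873)) (BT.leaf (nat_lit 20185873)))) (BT.node (nat_lit 5383168) (BT.node (nat_lit 5383104) (BT.leaf (nat_lit 20186385)) (BT.leaf (nat_lit 51601437))) (BT.node (nat_lit 5383232) (BT.leaf (nat_lit 26058513)) (BT.leaf (nat_lit 51708185))))) (BT.node (nat_lit 5383552) (BT.node (nat_lit 5383424) (BT.node (nat_lit 5383360) (BT.leaf (nat_lit 37097229)) (BT.leaf (nat_lit 20187669))) (BT.node (nat_lit 5383488) (BT.leaf (nat_lit 33719045)) (BT.leaf (nat_lit 26060569)))) (BT.node (nat_lit 5383680) (BT.node (nat_lit 5383616) (BT.leaf (nat_lit 20188181)) (BT.leaf (nat_lit 26061085))) (BT.node (nat_lit 5383808) (BT.leaf (nat_lit 20188693)) (BT.leaf (nat_lit 26062609)))))))))) (BT.node (nat_lit 5399040) (BT.node (nat_lit 5391488) (BT.node (nat_lit 5388352) (BT.node (nat_lit 5385920) (BT.node (nat_lit 5384896) (BT.node (nat_lit 5384384) (BT.node (nat_lit 5384000) (BT.node (nat_lit 5383936) (BT.leaf (nat_lit 51332633)) (BT.leaf (nat_lit 22204189))) (BT.node (nat_lit 5384256) (BT.leaf (nat_lit 26063897)) (BT.leaf (nat_lit 26180629)))) (BT.node (nat_lit 5384768) (BT.node (nat_lit 5384576) (BT.leaf (nat_lit 26067229)) (BT.leaf (nat_lit 22062873))) (BT.node (nat_lit 5384832) (BT.leaf (nat_lit 20192533)) (BT.leaf (nat_lit 20192785))))) (BT.node (nat_lit 5385472) (BT.node (nat_lit 5385152) (BT.node (nat_lit 5384960) (BT.leaf (nat_lit 20193041)) (BT.leaf (nat_lit 20193301))) (BT.node (nat_lit 5385408) (BT.leaf (nat_lit 26072853)) (BT.leaf (nat_lit 20194833)))) (BT.node (nat_lit 5385792) (BT.node (nat_lit 5385728) (BT.leaf (nat_lit 24946693)) (BT.leaf (nat_lit 26075937))) (BT.node (nat_lit 5385856) (BT.leaf (nat_lit 22290721)) (BT.leaf (nat_lit 26077729)))))) (BT.node (nat_lit 5386880) (BT.node (nat_lit 5386496) (BT.node (nat_lit 5386112) (BT.node (nat_lit 5385984) (BT.leaf (nat_lit 35853577)) (BT.leaf (nat_lit 26078225))) (BT.node (nat_lit 5386240) (BT.leaf (nat_lit 24961045)) (BT.leaf (nat_lit 20589317)))) (BT.node (nat_lit 5386624) (BT.node (nat_lit 5386560) (BT.leaf (nat_lit 26080285)) (BT.leaf (nat_lit 20198677))) (BT.node (nat_lit 5386816) (BT.leaf (nat_lit 22434821)) (BT.leaf (nat_lit 24960533))))) (BT.node (nat_lit 5387584) (BT.node (nat_lit 5387328) (BT.node (nat_lit 5387264) (BT.leaf (nat_lit 26081293)) (BT.leaf (nat_lit 26084373))) (BT.node (nat_lit 5387392) (BT.leaf (nat_lit 20896529)) (BT.leaf (nat_lit 20202265)))) (BT.node (nat_lit 5388160) (BT.node (nat_lit 5388096) (BT.leaf (nat_lit 20202525)) (BT.leaf (nat_lit 26090269))) (BT.node (nat_lit 5388224) (BT.leaf (nat_lit 26090525)) (BT.leaf (nat_lit 26091285))))))) (BT.node (nat_lit 5389696) (BT.node (nat_lit 5388992) (BT.node (nat_lit 5388672) (BT.node (nat_lit 5388544) (BT.node (nat_lit 5388416) (BT.leaf (nat_lit 20204309)) (BT.leaf (nat_lit 26093329))) (BT.node (nat_lit 5388608) (BT.leaf (nat_lit 26052117)) (BT.leaf (nat_lit 26094613)))) (BT.node (nat_lit 5388864) (BT.node (nat_lit 5388736) (BT.leaf (nat_lit 26095889)) (BT.leaf (nat_lit 20205337))) (BT.node (nat_lit 5388928) (BT.leaf (nat_lit 26095893)) (BT.leaf (nat_lit 21928709))))) (BT.node (nat_lit 5389248) (BT.node (nat_lit 5389120) (BT.node (nat_lit 5389056) (BT.leaf (nat_lit 20206097)) (BT.leaf (nat_lit 26099473))) (BT.node (nat_lit 5389184) (BT.leaf (nat_lit 26100769)) (BT.leaf (nat_lit 26101281)))) (BT.node (nat_lit 5389440) (BT.node (nat_lit 5389376) (BT.leaf (nat_lit 26100233)) (BT.leaf (nat_lit 26102561))) (BT.node (nat_lit 5389504) (BT.leaf (nat_lit 26100749)) (BT.leaf (nat_lit 22187525)))))) (BT.node (nat_lit 5390656) (BT.node (nat_lit 5390272) (BT.node (nat_lit 5389952) (BT.node (nat_lit 5389760) (BT.leaf (nat_lit 26104073)) (BT.leaf (nat_lit 22252309))) (BT.node (nat_lit 5390144) (BT.leaf (nat_lit 22173205)) (BT.leaf (nat_lit 51393029)))) (BT.node (nat_lit 5390464) (BT.node (nat_lit 5390400) (BT.leaf (nat_lit 20600581)) (BT.leaf (nat_lit 20484897))) (BT.node (nat_lit 5390592) (BT.leaf (nat_lit 26090249)) (BT.leaf (nat_lit 26109981))))) (BT.node (nat_lit 5390912) (BT.node (nat_lit 5390784) (BT.node (nat_lit 5390720) (BT.leaf (nat_lit 21966613)) (BT.leaf (nat_lit 26109965))) (BT.node (nat_lit 5390848) (BT.leaf (nat_lit 26111765)) (BT.leaf (nat_lit 22127365)))) (BT.node (nat_lit 5391232) (BT.node (nat_lit 5391104) (BT.leaf (nat_lit 21967137)) (BT.leaf (nat_lit 21176097))) (BT.node (nat_lit 5391360) (BT.leaf (nat_lit 20213265)) (BT.leaf (nat_lit 20493849)))))))) (BT.node (nat_lit 5395712) (BT.node (nat_lit 5393088) (BT.node (nat_lit 5392320) (BT.node (nat_lit 5391936) (BT.node (nat_lit 5391808) (BT.node (nat_lit 5391616) (BT.leaf (nat_lit 20214293)) (BT.leaf (nat_lit 20214553))) (BT.node (nat_lit 5391872) (BT.leaf (nat_lit 20314397)) (BT.leaf (nat_lit 20214805)))) (BT.node (nat_lit 5392128) (BT.node (nat_lit 5392064) (BT.leaf (nat_lit 20215317)) (BT.leaf (nat_lit 26119697))) (BT.node (nat_lit 5392256) (BT.leaf (nat_lit 37166617)) (BT.leaf (nat_lit 37167381))))) (BT.node (nat_lit 5392640) (BT.node (nat_lit 5392512) (BT.node (nat_lit 5392448) (BT.leaf (nat_lit 20216337)) (BT.leaf (nat_lit 26122769))) (BT.node (nat_lit 5392576) (BT.leaf (nat_lit 20851473)) (BT.leaf (nat_lit 26122773)))) (BT.node (nat_lit 5392896) (BT.node (nat_lit 5392704) (BT.leaf (nat_lit 26124053)) (BT.leaf (nat_lit 24790289))) (BT.node (nat_lit 5393024) (BT.leaf (nat_lit 50031365)) (BT.leaf (nat_lit 21270037)))))) (BT.node (nat_lit 5394112) (BT.node (nat_lit 5393472) (BT.node (nat_lit 5393280) (BT.node (nat_lit 5393216) (BT.leaf (nat_lit 21572121)) (BT.leaf (nat_lit 21861133))) (BT.node (nat_lit 5393408) (BT.leaf (nat_lit 25335317)) (BT.leaf (nat_lit 24161313)))) (BT.node (nat_lit 5393728) (BT.node (nat_lit 5393536) (BT.leaf (nat_lit 26127129)) (BT.leaf (nat_lit 20220693))) (BT.node (nat_lit 5393984) (BT.leaf (nat_lit 25044997)) (BT.leaf (nat_lit 51394337))))) (BT.node (nat_lit 5395456) (BT.node (nat_lit 5394624) (BT.node (nat_lit 5394496) (BT.leaf (nat_lit 52407073)) (BT.leaf (nat_lit 20888069))) (BT.node (nat_lit 5394688) (BT.leaf (nat_lit 26111257)) (BT.leaf (nat_lit 26132757)))) (BT.node (nat_lit 5395584) (BT.node (nat_lit 5395520) (BT.leaf (nat_lit 20228625)) (BT.leaf (nat_lit 26136849))) (BT.node (nat_lit 5395648) (BT.leaf (nat_lit 25255173)) (BT.leaf (nat_lit 26137885))))))) (BT.node (nat_lit 5397632) (BT.node (nat_lit 5396736) (BT.node (nat_lit 5396288) (BT.node (nat_lit 5395904) (BT.node (nat_lit 5395776) (BT.leaf (nat_lit 26138397)) (BT.leaf (nat_lit 26139153))) (BT.node (nat_lit 5395968) (BT.leaf (nat_lit 26140433)) (BT.leaf (nat_lit 26140689)))) (BT.node (nat_lit 5396480) (BT.node (nat_lit 5396352) (BT.leaf (nat_lit 26141469)) (BT.leaf (nat_lit 20231957))) (BT.node (nat_lit 5396608) (BT.leaf (nat_lit 22081037)) (BT.leaf (nat_lit 26143761))))) (BT.node (nat_lit 5397120) (BT.node (nat_lit 5396992) (BT.node (nat_lit 5396928) (BT.leaf (nat_lit 20235285)) (BT.leaf (nat_lit 26147101))) (BT.node (nat_lit 5397056) (BT.leaf (nat_lit 26147337)) (BT.leaf (nat_lit 52119061)))) (BT.node (nat_lit 5397440) (BT.node (nat_lit 5397184) (BT.leaf (nat_lit 37144585)) (BT.leaf (nat_lit 22028577))) (BT.node (nat_lit 5397504) (BT.leaf (nat_lit 26151189)) (BT.leaf (nat_lit 20236821)))))) (BT.node (nat_lit 5398400) (BT.node (nat_lit 5398016) (BT.node (nat_lit 5397824) (BT.node (nat_lit 5397760) (BT.leaf (nat_lit 20236829)) (BT.leaf (nat_lit 21923589))) (BT.node (nat_lit 5397952) (BT.leaf (nat_lit 20530961)) (BT.leaf (nat_lit 20239129)))) (BT.node (nat_lit 5398272) (BT.node (nat_lit 5398080) (BT.leaf (nat_lit 20258577)) (BT.leaf (nat_lit 20944133))) (BT.node (nat_lit 5398336) (BT.leaf (nat_lit 26157329)) (BT.leaf (nat_lit 26157841))))) (BT.node (nat_lit 5398720) (BT.node (nat_lit 5398592) (BT.node (nat_lit 5398464) (BT.leaf (nat_lit 52373273)) (BT.leaf (nat_lit 51325209))) (BT.node (nat_lit 5398656) (BT.leaf (nat_lit 25234717)) (BT.leaf (nat_lit 21947653)))) (BT.node (nat_lit 5398912) (BT.node (nat_lit 5398848) (BT.leaf (nat_lit 21443077)) (BT.leaf (nat_lit 26162453))) (BT.node (nat_lit 5398976) (BT.leaf (nat_lit 26162965)) (BT.leaf (nat_lit 21540621))))))))) (BT.node (nat_lit 5405696) (BT.node (nat_lit 5402304) (BT.node (nat_lit 5400640) (BT.node (nat_lit 5399808) (BT.node (nat_lit 5399296) (BT.node (nat_lit 5399168) (BT.node (nat_lit 5399104) (BT.leaf (nat_lit 26163217)) (BT.leaf (nat_lit 26163985))) (BT.node (nat_lit 5399232) (BT.leaf (nat_lit 26164765)) (BT.leaf (nat_lit 20243993)))) (BT.node (nat_lit 5399552) (BT.node (nat_lit 5399360) (BT.leaf (nat_lit 20243997)) (BT.leaf (nat_lit 25107985))) (BT.node (nat_lit 5399680) (BT.leaf (nat_lit 21602081)) (BT.leaf (nat_lit 20658697))))) (BT.node (nat_lit 5400256) (BT.node (nat_lit 5400128) (BT.node (nat_lit 5399872) (BT.leaf (nat_lit 20924185)) (BT.leaf (nat_lit 25238553))) (BT.node (nat_lit 5400192) (BT.leaf (nat_lit 34429205)) (BT.leaf (nat_lit 21948165)))) (BT.node (nat_lit 5400448) (BT.node (nat_lit 5400320) (BT.leaf (nat_lit 26169373)) (BT.leaf (nat_lit 20248337))) (BT.node (nat_lit 5400512) (BT.leaf (nat_lit 25122325)) (BT.leaf (nat_lit 26144277)))))) (BT.node (nat_lit 5401600) (BT.node (nat_lit 5401344) (BT.node (nat_lit 5401216) (BT.node (nat_lit 5400704) (BT.leaf (nat_lit 20543241)) (BT.leaf (nat_lit 20249873))) (BT.node (nat_lit 5401280) (BT.leaf (nat_lit 26175773)) (BT.leaf (nat_lit 26176537)))) (BT.node (nat_lit 5401472) (BT.node (nat_lit 5401408) (BT.leaf (nat_lit 26176785)) (BT.leaf (nat_lit 21303813))) (BT.node (nat_lit 5401536) (BT.leaf (nat_lit 20534293)) (BT.leaf (nat_lit 21370885))))) (BT.node (nat_lit 5401920) (BT.node (nat_lit 5401792) (BT.node (nat_lit 5401664) (BT.leaf (nat_lit 20252701)) (BT.leaf (nat_lit 26177809))) (BT.node (nat_lit 5401856) (BT.leaf (nat_lit 26179345)) (BT.leaf (nat_lit 26179857)))) (BT.node (nat_lit 5402112) (BT.node (nat_lit 5401984) (BT.leaf (nat_lit 26180889)) (BT.leaf (nat_lit 26180369))) (BT.node (nat_lit 5402240) (BT.leaf (nat_lit 20254225)) (BT.leaf (nat_lit 20531993))))))) (BT.node (nat_lit 5403968) (BT.node (nat_lit 5403072) (BT.node (nat_lit 5402816) (BT.node (nat_lit 5402432) (BT.node (nat_lit 5402368) (BT.leaf (nat_lit 20254741)) (BT.leaf (nat_lit 20255249))) (BT.node (nat_lit 5402560) (BT.leaf (nat_lit 20534809)) (BT.leaf (nat_lit 20255761)))) (BT.node (nat_lit 5402944) (BT.node (nat_lit 5402880) (BT.leaf (nat_lit 21622801)) (BT.leaf (nat_lit 26187281))) (BT.node (nat_lit 5403008) (BT.leaf (nat_lit 36802053)) (BT.leaf (nat_lit 25059097))))) (BT.node (nat_lit 5403392) (BT.node (nat_lit 5403200) (BT.node (nat_lit 5403136) (BT.leaf (nat_lit 20256541)) (BT.leaf (nat_lit 26129169))) (BT.node (nat_lit 5403264) (BT.leaf (nat_lit 36804613)) (BT.leaf (nat_lit 51331085)))) (BT.node (nat_lit 5403776) (BT.node (nat_lit 5403456) (BT.leaf (nat_lit 26190873)) (BT.leaf (nat_lit 25312541))) (BT.node (nat_lit 5403840) (BT.leaf (nat_lit 26192401)) (BT.leaf (nat_lit 20259349)))))) (BT.node (nat_lit 5405056) (BT.node (nat_lit 5404544) (BT.node (nat_lit 5404160) (BT.node (nat_lit 5404096) (BT.leaf (nat_lit 37617161)) (BT.leaf (nat_lit 20259861))) (BT.node (nat_lit 5404480) (BT.leaf (nat_lit 20260117)) (BT.leaf (nat_lit 26196761)))) (BT.node (nat_lit 5404736) (BT.node (nat_lit 5404672) (BT.leaf (nat_lit 21674525)) (BT.leaf (nat_lit 20261645))) (BT.node (nat_lit 5404928) (BT.leaf (nat_lit 26198789)) (BT.leaf (nat_lit 20261393))))) (BT.node (nat_lit 5405440) (BT.node (nat_lit 5405248) (BT.node (nat_lit 5405184) (BT.leaf (nat_lit 26201621)) (BT.leaf (nat_lit 26202117))) (BT.node (nat_lit 5405312) (BT.leaf (nat_lit 26202645)) (BT.leaf (nat_lit 20262421)))) (BT.node (nat_lit 5405568) (BT.node (nat_lit 5405504) (BT.leaf (nat_lit 26204177)) (BT.leaf (nat_lit 20262677))) (BT.node (nat_lit 5405632) (BT.leaf (nat_lit 26205713)) (BT.leaf (nat_lit 26206225)))))))) (BT.node (nat_lit 5410048) (BT.node (nat_lit 5408000) (BT.node (nat_lit 5406528) (BT.node (nat_lit 5406144) (BT.node (nat_lit 5405952) (BT.node (nat_lit 5405888) (BT.leaf (nat_lit 51284249)) (BT.leaf (nat_lit 26099989))) (BT.node (nat_lit 5406080) (BT.leaf (nat_lit 20264209)) (BT.leaf (nat_lit 20988425)))) (BT.node (nat_lit 5406336) (BT.node (nat_lit 5406208) (BT.leaf (nat_lit 20264981)) (BT.leaf (nat_lit 51536653))) (BT.node (nat_lit 5406400) (BT.leaf (nat_lit 20590085)) (BT.leaf (nat_lit 22326037))))) (BT.node (nat_lit 5407232) (BT.node (nat_lit 5406848) (BT.node (nat_lit 5406720) (BT.leaf (nat_lit 36847881)) (BT.leaf (nat_lit 25208861))) (BT.node (nat_lit 5407104) (BT.leaf (nat_lit 20268049)) (BT.leaf (nat_lit 20268041)))) (BT.node (nat_lit 5407872) (BT.node (nat_lit 5407808) (BT.leaf (nat_lit 20268045)) (BT.leaf (nat_lit 26220561))) (BT.node (nat_lit 5407936) (BT.leaf (nat_lit 21631257)) (BT.leaf (nat_lit 21632013)))))) (BT.node (nat_lit 5408576) (BT.node (nat_lit 5408256) (BT.node (nat_lit 5408128) (BT.node (nat_lit 5408064) (BT.leaf (nat_lit 21874709)) (BT.leaf (nat_lit 20693273))) (BT.node (nat_lit 5408192) (BT.leaf (nat_lit 20693277)) (BT.leaf (nat_lit 22976529)))) (BT.node (nat_lit 5408384) (BT.node (nat_lit 5408320) (BT.leaf (nat_lit 20664089)) (BT.leaf (nat_lit 20661513))) (BT.node (nat_lit 5408512) (BT.leaf (nat_lit 20664077)) (BT.leaf (nat_lit 20269849))))) (BT.node (nat_lit 5409472) (BT.node (nat_lit 5409216) (BT.node (nat_lit 5408640) (BT.leaf (nat_lit 20269853)) (BT.leaf (nat_lit 22948637))) (BT.node (nat_lit 5409408) (BT.leaf (nat_lit 20272149)) (BT.leaf (nat_lit 26227461)))) (BT.node (nat_lit 5409920) (BT.node (nat_lit 5409856) (BT.leaf (nat_lit 25892373)) (BT.leaf (nat_lit 21639709))) (BT.node (nat_lit 5409984) (BT.leaf (nat_lit 22221333)) (BT.leaf (nat_lit 26231833))))))) (BT.node (nat_lit 5412032) (BT.node (nat_lit 5411200) (BT.node (nat_lit 5410368) (BT.node (nat_lit 5410176) (BT.node (nat_lit 5410112) (BT.leaf (nat_lit 20970017)) (BT.leaf (nat_lit 26138909))) (BT.node (nat_lit 5410304) (BT.leaf (nat_lit 25785121)) (BT.leaf (nat_lit 21252885)))) (BT.node (nat_lit 5410880) (BT.node (nat_lit 5410496) (BT.leaf (nat_lit 24296225)) (BT.leaf (nat_lit 26234133))) (BT.node (nat_lit 5411136) (BT.leaf (nat_lit 21025549)) (BT.leaf (nat_lit 26238993))))) (BT.node (nat_lit 5411520) (BT.node (nat_lit 5411328) (BT.node (nat_lit 5411264) (BT.leaf (nat_lit 26239505)) (BT.leaf (nat_lit 26240029))) (BT.node (nat_lit 5411392) (BT.leaf (nat_lit 22225433)) (BT.leaf (nat_lit 20548125)))) (BT.node (nat_lit 5411712) (BT.node (nat_lit 5411648) (BT.leaf (nat_lit 25201157)) (BT.leaf (nat_lit 26242073))) (BT.node (nat_lit 5411904) (BT.leaf (nat_lit 26242589)) (BT.leaf (nat_lit 21947397)))))) (BT.node (nat_lit 5412800) (BT.node (nat_lit 5412352) (BT.node (nat_lit 5412160) (BT.node (nat_lit 5412096) (BT.leaf (nat_lit 27170585)) (BT.leaf (nat_lit 37669381))) (BT.node (nat_lit 5412288) (BT.leaf (nat_lit 20279313)) (BT.leaf (nat_lit 20279577)))) (BT.node (nat_lit 5412544) (BT.node (nat_lit 5412416) (BT.leaf (nat_lit 20279581)) (BT.leaf (nat_lit 20279825))) (BT.node (nat_lit 5412736) (BT.leaf (nat_lit 20543761)) (BT.leaf (nat_lit 26251793))))) (BT.node (nat_lit 5413056) (BT.node (nat_lit 5412928) (BT.node (nat_lit 5412864) (BT.leaf (nat_lit 26252293)) (BT.leaf (nat_lit 20280597))) (BT.node (nat_lit 5412992) (BT.leaf (nat_lit 26252305)) (BT.leaf (nat_lit 26253853)))) (BT.node (nat_lit 5413248) (BT.node (nat_lit 5413184) (BT.leaf (nat_lit 20282133)) (BT.leaf (nat_lit 20547077))) (BT.node (nat_lit 5413504) (BT.leaf (nat_lit 20282645)) (BT.leaf (nat_lit 26256917))))))))))) (BT.node (nat_lit 5442368) (BT.node (nat_lit 5428608) (BT.node (nat_lit 5421312) (BT.node (nat_lit 5417408) (BT.node (nat_lit 5415936) (BT.node (nat_lit 5414720) (BT.node (nat_lit 5414272) (BT.node (nat_lit 5413760) (BT.node (nat_lit 5413632) (BT.leaf (nat_lit 20283921)) (BT.leaf (nat_lit 26256901))) (BT.node (nat_lit 5414208) (BT.leaf (nat_lit 26258709)) (BT.leaf (nat_lit 26262045)))) (BT.node (nat_lit 5414464) (BT.node (nat_lit 5414336) (BT.leaf (nat_lit 20285205)) (BT.leaf (nat_lit 20285457))) (BT.node (nat_lit 5414656) (BT.leaf (nat_lit 20285713)) (BT.leaf (nat_lit 20286213))))) (BT.node (nat_lit 5415360) (BT.node (nat_lit 5415104) (BT.node (nat_lit 5415040) (BT.leaf (nat_lit 20286225)) (BT.leaf (nat_lit 21867545))) (BT.node (nat_lit 5415232) (BT.leaf (nat_lit 26269969)) (BT.leaf (nat_lit 20287493)))) (BT.node (nat_lit 5415552) (BT.node (nat_lit 5415488) (BT.leaf (nat_lit 20287509)) (BT.leaf (nat_lit 26271773))) (BT.node (nat_lit 5415616) (BT.leaf (nat_lit 20288021)) (BT.leaf (nat_lit 26273049)))))) (BT.node (nat_lit 5416832) (BT.node (nat_lit 5416192) (BT.node (nat_lit 5416064) (BT.node (nat_lit 5416000) (BT.leaf (nat_lit 26274589)) (BT.leaf (nat_lit 20289813))) (BT.node (nat_lit 5416128) (BT.leaf (nat_lit 26276121)) (BT.leaf (nat_lit 20290069)))) (BT.node (nat_lit 5416640) (BT.node (nat_lit 5416256) (BT.leaf (nat_lit 22188317)) (BT.leaf (nat_lit 20290325))) (BT.node (nat_lit 5416704) (BT.leaf (nat_lit 26278941)) (BT.leaf (nat_lit 20291861))))) (BT.node (nat_lit 5417152) (BT.node (nat_lit 5417024) (BT.node (nat_lit 5416896) (BT.leaf (nat_lit 26281489)) (BT.leaf (nat_lit 20292113))) (BT.node (nat_lit 5417088) (BT.leaf (nat_lit 21615129)) (BT.leaf (nat_lit 26192153)))) (BT.node (nat_lit 5417280) (BT.node (nat_lit 5417216) (BT.leaf (nat_lit 21668893)) (BT.leaf (nat_lit 26283281))) (BT.node (nat_lit 5417344) (BT.leaf (nat_lit 26283549)) (BT.leaf (nat_lit 20292629))))))) (BT.node (nat_lit 5419392) (BT.node (nat_lit 5418624) (BT.node (nat_lit 5418112) (BT.node (nat_lit 5417856) (BT.node (nat_lit 5417792) (BT.leaf (nat_lit 20293153)) (BT.leaf (nat_lit 33801501))) (BT.node (nat_lit 5418048) (BT.leaf (nat_lit 21554461)) (BT.leaf (nat_lit 21668101)))) (BT.node (nat_lit 5418368) (BT.node (nat_lit 5418304) (BT.leaf (nat_lit 26062361)) (BT.leaf (nat_lit 21878805))) (BT.node (nat_lit 5418432) (BT.leaf (nat_lit 26288929)) (BT.leaf (nat_lit 20537885))))) (BT.node (nat_lit 5419072) (BT.node (nat_lit 5418944) (BT.node (nat_lit 5418688) (BT.leaf (nat_lit 26289681)) (BT.leaf (nat_lit 25328645))) (BT.node (nat_lit 5419008) (BT.leaf (nat_lit 21778181)) (BT.leaf (nat_lit 20297745)))) (BT.node (nat_lit 5419200) (BT.node (nat_lit 5419136) (BT.leaf (nat_lit 21978629)) (BT.leaf (nat_lit 20298513))) (BT.node (nat_lit 5419328) (BT.leaf (nat_lit 21527301)) (BT.leaf (nat_lit 37448721)))))) (BT.node (nat_lit 5420288) (BT.node (nat_lit 5419840) (BT.node (nat_lit 5419712) (BT.node (nat_lit 5419520) (BT.leaf (nat_lit 37448977)) (BT.leaf (nat_lit 52174341))) (BT.node (nat_lit 5419776) (BT.leaf (nat_lit 25332997)) (BT.leaf (nat_lit 24922629)))) (BT.node (nat_lit 5420160) (BT.node (nat_lit 5419904) (BT.leaf (nat_lit 20301585)) (BT.leaf (nat_lit 26297625))) (BT.node (nat_lit 5420224) (BT.leaf (nat_lit 20302865)) (BT.leaf (nat_lit 51709461))))) (BT.node (nat_lit 5420864) (BT.node (nat_lit 5420736) (BT.node (nat_lit 5420544) (BT.leaf (nat_lit 51709445)) (BT.leaf (nat_lit 20791325))) (BT.node (nat_lit 5420800) (BT.leaf (nat_lit 46580257)) (BT.leaf (nat_lit 21702405)))) (BT.node (nat_lit 5421120) (BT.node (nat_lit 5421056) (BT.leaf (nat_lit 20596001)) (BT.leaf (nat_lit 21574937))) (BT.node (nat_lit 5421248) (BT.leaf (nat_lit 26305297)) (BT.leaf (nat_lit 26306333)))))))) (BT.node (nat_lit 5425088) (BT.node (nat_lit 5423552) (BT.node (nat_lit 5422528) (BT.node (nat_lit 5421824) (BT.node (nat_lit 5421440) (BT.node (nat_lit 5421376) (BT.leaf (nat_lit 20305941)) (BT.leaf (nat_lit 22311197))) (BT.node (nat_lit 5421696) (BT.leaf (nat_lit 20306453)) (BT.leaf (nat_lit 21961733)))) (BT.node (nat_lit 5422272) (BT.node (nat_lit 5422080) (BT.leaf (nat_lit 26311445)) (BT.leaf (nat_lit 22135329))) (BT.node (nat_lit 5422336) (BT.leaf (nat_lit 21934625)) (BT.leaf (nat_lit 21935137))))) (BT.node (nat_lit 5422912) (BT.node (nat_lit 5422720) (BT.node (nat_lit 5422592) (BT.leaf (nat_lit 20588557)) (BT.leaf (nat_lit 26315801))) (BT.node (nat_lit 5422848) (BT.leaf (nat_lit 22423309)) (BT.leaf (nat_lit 33398533)))) (BT.node (nat_lit 5423104) (BT.node (nat_lit 5423040) (BT.leaf (nat_lit 37675297)) (BT.leaf (nat_lit 20312081))) (BT.node (nat_lit 5423488) (BT.leaf (nat_lit 20352541)) (BT.leaf (nat_lit 26320145)))))) (BT.node (nat_lit 5424256) (BT.node (nat_lit 5424000) (BT.node (nat_lit 5423872) (BT.node (nat_lit 5423744) (BT.leaf (nat_lit 21693977)) (BT.leaf (nat_lit 20315921))) (BT.node (nat_lit 5423936) (BT.leaf (nat_lit 26323221)) (BT.leaf (nat_lit 21695513)))) (BT.node (nat_lit 5424128) (BT.node (nat_lit 5424064) (BT.leaf (nat_lit 20316177)) (BT.leaf (nat_lit 20317205))) (BT.node (nat_lit 5424192) (BT.leaf (nat_lit 37512969)) (BT.leaf (nat_lit 51184137))))) (BT.node (nat_lit 5424768) (BT.node (nat_lit 5424384) (BT.node (nat_lit 5424320) (BT.leaf (nat_lit 20317457)) (BT.leaf (nat_lit 26325273))) (BT.node (nat_lit 5424576) (BT.leaf (nat_lit 23394073)) (BT.leaf (nat_lit 20318493)))) (BT.node (nat_lit 5424960) (BT.node (nat_lit 5424832) (BT.leaf (nat_lit 36269065)) (BT.leaf (nat_lit 20319765))) (BT.node (nat_lit 5425024) (BT.leaf (nat_lit 26329361)) (BT.leaf (nat_lit 20320537))))))) (BT.node (nat_lit 5427200) (BT.node (nat_lit 5426432) (BT.node (nat_lit 5425664) (BT.node (nat_lit 5425536) (BT.node (nat_lit 5425152) (BT.leaf (nat_lit 20320541)) (BT.leaf (nat_lit 26329109))) (BT.node (nat_lit 5425600) (BT.leaf (nat_lit 20321041)) (BT.leaf (nat_lit 26326297)))) (BT.node (nat_lit 5425984) (BT.node (nat_lit 5425728) (BT.leaf (nat_lit 20321297)) (BT.leaf (nat_lit 26328861))) (BT.node (nat_lit 5426112) (BT.leaf (nat_lit 26337561)) (BT.leaf (nat_lit 26319385))))) (BT.node (nat_lit 5426816) (BT.node (nat_lit 5426688) (BT.node (nat_lit 5426560) (BT.leaf (nat_lit 26339865)) (BT.leaf (nat_lit 20346393))) (BT.node (nat_lit 5426752) (BT.leaf (nat_lit 50041353)) (BT.leaf (nat_lit 36403221)))) (BT.node (nat_lit 5427008) (BT.node (nat_lit 5426944) (BT.leaf (nat_lit 26341649)) (BT.leaf (nat_lit 26342149))) (BT.node (nat_lit 5427136) (BT.leaf (nat_lit 28672021)) (BT.leaf (nat_lit 25121313)))))) (BT.node (nat_lit 5428096) (BT.node (nat_lit 5427712) (BT.node (nat_lit 5427392) (BT.node (nat_lit 5427264) (BT.leaf (nat_lit 26330133)) (BT.leaf (nat_lit 20326417))) (BT.node (nat_lit 5427584) (BT.leaf (nat_lit 20542221)) (BT.leaf (nat_lit 26345237)))) (BT.node (nat_lit 5427904) (BT.node (nat_lit 5427840) (BT.leaf (nat_lit 20573717)) (BT.leaf (nat_lit 26347537))) (BT.node (nat_lit 5428032) (BT.leaf (nat_lit 20327701)) (BT.leaf (nat_lit 22894101))))) (BT.node (nat_lit 5428352) (BT.node (nat_lit 5428224) (BT.node (nat_lit 5428160) (BT.leaf (nat_lit 20327965)) (BT.leaf (nat_lit 20544777))) (BT.node (nat_lit 5428288) (BT.leaf (nat_lit 20329233)) (BT.leaf (nat_lit 26337809)))) (BT.node (nat_lit 5428480) (BT.node (nat_lit 5428416) (BT.leaf (nat_lit 26350097)) (BT.leaf (nat_lit 26351129))) (BT.node (nat_lit 5428544) (BT.leaf (nat_lit 20330777)) (BT.leaf (nat_lit 20330781))))))))) (BT.node (nat_lit 5435648) (BT.node (nat_lit 5432320) (BT.node (nat_lit 5430464) (BT.node (nat_lit 5429568) (BT.node (nat_lit 5428992) (BT.node (nat_lit 5428864) (BT.node (nat_lit 5428736) (BT.leaf (nat_lit 26350609)) (BT.leaf (nat_lit 20331793))) (BT.node (nat_lit 5428928) (BT.leaf (nat_lit 26354449)) (BT.leaf (nat_lit 20332825)))) (BT.node (nat_lit 5429440) (BT.node (nat_lit 5429056) (BT.leaf (nat_lit 20333073)) (BT.leaf (nat_lit 26354201))) (BT.node (nat_lit 5429504) (BT.leaf (nat_lit 26359569)) (BT.leaf (nat_lit 26359833))))) (BT.node (nat_lit 5430080) (BT.node (nat_lit 5429824) (BT.node (nat_lit 5429696) (BT.leaf (nat_lit 26359561)) (BT.leaf (nat_lit 26361369))) (BT.node (nat_lit 5429888) (BT.leaf (nat_lit 21674501)) (BT.leaf (nat_lit 26320137)))) (BT.node (nat_lit 5430272) (BT.node (nat_lit 5430144) (BT.leaf (nat_lit 20336917)) (BT.leaf (nat_lit 20336921))) (BT.node (nat_lit 5430336) (BT.leaf (nat_lit 26364945)) (BT.leaf (nat_lit 49879817)))))) (BT.node (nat_lit 5431232) (BT.node (nat_lit 5430976) (BT.node (nat_lit 5430720) (BT.node (nat_lit 5430656) (BT.leaf (nat_lit 23335173)) (BT.leaf (nat_lit 26366993))) (BT.node (nat_lit 5430912) (BT.leaf (nat_lit 50922505)) (BT.leaf (nat_lit 20339477)))) (BT.node (nat_lit 5431104) (BT.node (nat_lit 5431040) (BT.leaf (nat_lit 26369041)) (BT.leaf (nat_lit 25020165))) (BT.node (nat_lit 5431168) (BT.leaf (nat_lit 20339733)) (BT.leaf (nat_lit 20340241))))) (BT.node (nat_lit 5431936) (BT.node (nat_lit 5431424) (BT.node (nat_lit 5431296) (BT.leaf (nat_lit 26355221)) (BT.leaf (nat_lit 20340753))) (BT.node (nat_lit 5431680) (BT.leaf (nat_lit 26372637)) (BT.leaf (nat_lit 20341781)))) (BT.node (nat_lit 5432128) (BT.node (nat_lit 5432064) (BT.leaf (nat_lit 22548505)) (BT.leaf (nat_lit 20343049))) (BT.node (nat_lit 5432256) (BT.leaf (nat_lit 20343053)) (BT.leaf (nat_lit 20343069))))))) (BT.node (nat_lit 5433856) (BT.node (nat_lit 5433216) (BT.node (nat_lit 5432640) (BT.node (nat_lit 5432448) (BT.node (nat_lit 5432384) (BT.leaf (nat_lit 20343313)) (BT.leaf (nat_lit 20343317))) (BT.node (nat_lit 5432576) (BT.leaf (nat_lit 20343577)) (BT.leaf (nat_lit 20344089)))) (BT.node (nat_lit 5432896) (BT.node (nat_lit 5432832) (BT.leaf (nat_lit 20344093)) (BT.leaf (nat_lit 20902433))) (BT.node (nat_lit 5432960) (BT.leaf (nat_lit 26372617)) (BT.leaf (nat_lit 21740813))))) (BT.node (nat_lit 5433472) (BT.node (nat_lit 5433344) (BT.node (nat_lit 5433280) (BT.leaf (nat_lit 26382597)) (BT.leaf (nat_lit 26382869))) (BT.node (nat_lit 5433408) (BT.leaf (nat_lit 26373385)) (BT.leaf (nat_lit 20901893)))) (BT.node (nat_lit 5433728) (BT.node (nat_lit 5433600) (BT.leaf (nat_lit 20902149)) (BT.leaf (nat_lit 20345881))) (BT.node (nat_lit 5433792) (BT.leaf (nat_lit 26386437)) (BT.leaf (nat_lit 24922645)))))) (BT.node (nat_lit 5435008) (BT.node (nat_lit 5434432) (BT.node (nat_lit 5433984) (BT.node (nat_lit 5433920) (BT.leaf (nat_lit 23608337)) (BT.leaf (nat_lit 26388501))) (BT.node (nat_lit 5434112) (BT.leaf (nat_lit 25487393)) (BT.leaf (nat_lit 20346901)))) (BT.node (nat_lit 5434880) (BT.node (nat_lit 5434624) (BT.leaf (nat_lit 20347421)) (BT.leaf (nat_lit 20347933))) (BT.node (nat_lit 5434944) (BT.leaf (nat_lit 26394389)) (BT.leaf (nat_lit 26394641))))) (BT.node (nat_lit 5435264) (BT.node (nat_lit 5435136) (BT.node (nat_lit 5435072) (BT.leaf (nat_lit 26394897)) (BT.leaf (nat_lit 26394893))) (BT.node (nat_lit 5435200) (BT.leaf (nat_lit 21740829)) (BT.leaf (nat_lit 26396181)))) (BT.node (nat_lit 5435456) (BT.node (nat_lit 5435328) (BT.leaf (nat_lit 26396445)) (BT.leaf (nat_lit 22276117))) (BT.node (nat_lit 5435520) (BT.leaf (nat_lit 26396945)) (BT.leaf (nat_lit 20349721)))))))) (BT.node (nat_lit 5439104) (BT.node (nat_lit 5437440) (BT.node (nat_lit 5436416) (BT.node (nat_lit 5436096) (BT.node (nat_lit 5435840) (BT.node (nat_lit 5435776) (BT.leaf (nat_lit 26398741)) (BT.leaf (nat_lit 20350481))) (BT.node (nat_lit 5435904) (BT.leaf (nat_lit 22271265)) (BT.leaf (nat_lit 25302817)))) (BT.node (nat_lit 5436288) (BT.node (nat_lit 5436160) (BT.leaf (nat_lit 25290261)) (BT.leaf (nat_lit 20352785))) (BT.node (nat_lit 5436352) (BT.leaf (nat_lit 20567825)) (BT.leaf (nat_lit 20567569))))) (BT.node (nat_lit 5436992) (BT.node (nat_lit 5436672) (BT.node (nat_lit 5436480) (BT.leaf (nat_lit 20353049)) (BT.leaf (nat_lit 20353053))) (BT.node (nat_lit 5436864) (BT.leaf (nat_lit 20353553)) (BT.leaf (nat_lit 25521945)))) (BT.node (nat_lit 5437120) (BT.node (nat_lit 5437056) (BT.leaf (nat_lit 33836805)) (BT.leaf (nat_lit 25531397))) (BT.node (nat_lit 5437376) (BT.leaf (nat_lit 20354581)) (BT.leaf (nat_lit 23699989)))))) (BT.node (nat_lit 5438080) (BT.node (nat_lit 5437696) (BT.node (nat_lit 5437568) (BT.node (nat_lit 5437504) (BT.leaf (nat_lit 20354845)) (BT.leaf (nat_lit 34269717))) (BT.node (nat_lit 5437632) (BT.leaf (nat_lit 20355593)) (BT.leaf (nat_lit 20355609)))) (BT.node (nat_lit 5437952) (BT.node (nat_lit 5437760) (BT.leaf (nat_lit 20355613)) (BT.leaf (nat_lit 22007825))) (BT.node (nat_lit 5438016) (BT.leaf (nat_lit 20356121)) (BT.leaf (nat_lit 20356125))))) (BT.node (nat_lit 5438592) (BT.node (nat_lit 5438464) (BT.node (nat_lit 5438208) (BT.leaf (nat_lit 20356369)) (BT.leaf (nat_lit 20356613))) (BT.node (nat_lit 5438528) (BT.leaf (nat_lit 20947989)) (BT.leaf (nat_lit 21929237)))) (BT.node (nat_lit 5438720) (BT.node (nat_lit 5438656) (BT.leaf (nat_lit 20357145)) (BT.leaf (nat_lit 23144725))) (BT.node (nat_lit 5438912) (BT.leaf (nat_lit 22109969)) (BT.leaf (nat_lit 20357661))))))) (BT.node (nat_lit 5440640) (BT.node (nat_lit 5440000) (BT.node (nat_lit 5439488) (BT.node (nat_lit 5439296) (BT.node (nat_lit 5439232) (BT.leaf (nat_lit 20357917)) (BT.leaf (nat_lit 21151765))) (BT.node (nat_lit 5439360) (BT.leaf (nat_lit 21756937)) (BT.leaf (nat_lit 26231065)))) (BT.node (nat_lit 5439680) (BT.node (nat_lit 5439552) (BT.leaf (nat_lit 26414869)) (BT.leaf (nat_lit 20951829))) (BT.node (nat_lit 5439808) (BT.leaf (nat_lit 21486357)) (BT.leaf (nat_lit 20359965))))) (BT.node (nat_lit 5440320) (BT.node (nat_lit 5440192) (BT.node (nat_lit 5440064) (BT.leaf (nat_lit 21711385)) (BT.leaf (nat_lit 26347289))) (BT.node (nat_lit 5440256) (BT.leaf (nat_lit 26417937)) (BT.leaf (nat_lit 26418205)))) (BT.node (nat_lit 5440448) (BT.node (nat_lit 5440384) (BT.leaf (nat_lit 20979973)) (BT.leaf (nat_lit 20361233))) (BT.node (nat_lit 5440576) (BT.leaf (nat_lit 26419737)) (BT.leaf (nat_lit 22119941)))))) (BT.node (nat_lit 5441472) (BT.node (nat_lit 5440960) (BT.node (nat_lit 5440832) (BT.node (nat_lit 5440768) (BT.leaf (nat_lit 26359565)) (BT.leaf (nat_lit 20363281))) (BT.node (nat_lit 5440896) (BT.leaf (nat_lit 26362653)) (BT.leaf (nat_lit 26050845)))) (BT.node (nat_lit 5441152) (BT.node (nat_lit 5441024) (BT.leaf (nat_lit 20363793)) (BT.leaf (nat_lit 20364049))) (BT.node (nat_lit 5441216) (BT.leaf (nat_lit 26423573)) (BT.leaf (nat_lit 25366805))))) (BT.node (nat_lit 5441728) (BT.node (nat_lit 5441600) (BT.node (nat_lit 5441536) (BT.leaf (nat_lit 22027809)) (BT.leaf (nat_lit 26424849))) (BT.node (nat_lit 5441664) (BT.leaf (nat_lit 21766169)) (BT.leaf (nat_lit 20366361)))) (BT.node (nat_lit 5441920) (BT.node (nat_lit 5441792) (BT.leaf (nat_lit 20366365)) (BT.leaf (nat_lit 35533833))) (BT.node (nat_lit 5441984) (BT.leaf (nat_lit 25263877)) (BT.leaf (nat_lit 20367637)))))))))) (BT.node (nat_lit 5456832) (BT.node (nat_lit 5448000) (BT.node (nat_lit 5444736) (BT.node (nat_lit 5443648) (BT.node (nat_lit 5442880) (BT.node (nat_lit 5442624) (BT.node (nat_lit 5442496) (BT.node (nat_lit 5442432) (BT.leaf (nat_lit 25013025)) (BT.leaf (nat_lit 25013253))) (BT.node (nat_lit 5442560) (BT.leaf (nat_lit 26431505)) (BT.leaf (nat_lit 26431761)))) (BT.node (nat_lit 5442752) (BT.node (nat_lit 5442688) (BT.leaf (nat_lit 26432273)) (BT.leaf (nat_lit 26432797))) (BT.node (nat_lit 5442816) (BT.leaf (nat_lit 20368921)) (BT.leaf (nat_lit 20368925))))) (BT.node (nat_lit 5443264) (BT.node (nat_lit 5443136) (BT.node (nat_lit 5443072) (BT.leaf (nat_lit 25592849)) (BT.leaf (nat_lit 21772573))) (BT.node (nat_lit 5443200) (BT.leaf (nat_lit 26434577)) (BT.leaf (nat_lit 52419597)))) (BT.node (nat_lit 5443520) (BT.node (nat_lit 5443456) (BT.leaf (nat_lit 20369681)) (BT.leaf (nat_lit 26026529))) (BT.node (nat_lit 5443584) (BT.leaf (nat_lit 20370449)) (BT.leaf (nat_lit 20370453)))))) (BT.node (nat_lit 5444224) (BT.node (nat_lit 5443904) (BT.node (nat_lit 5443776) (BT.node (nat_lit 5443712) (BT.leaf (nat_lit 26071569)) (BT.leaf (nat_lit 22971157))) (BT.node (nat_lit 5443840) (BT.leaf (nat_lit 22972437)) (BT.leaf (nat_lit 26438661)))) (BT.node (nat_lit 5444032) (BT.node (nat_lit 5443968) (BT.leaf (nat_lit 21124373)) (BT.leaf (nat_lit 21283081))) (BT.node (nat_lit 5444160) (BT.leaf (nat_lit 26440733)) (BT.leaf (nat_lit 36794377))))) (BT.node (nat_lit 5444480) (BT.node (nat_lit 5444352) (BT.node (nat_lit 5444288) (BT.leaf (nat_lit 21132829)) (BT.leaf (nat_lit 22526233))) (BT.node (nat_lit 5444416) (BT.leaf (nat_lit 25017373)) (BT.leaf (nat_lit 20764189)))) (BT.node (nat_lit 5444608) (BT.node (nat_lit 5444544) (BT.leaf (nat_lit 26443281)) (BT.leaf (nat_lit 21777945))) (BT.node (nat_lit 5444672) (BT.leaf (nat_lit 26443545)) (BT.leaf (nat_lit 25015321))))))) (BT.node (nat_lit 5445952) (BT.node (nat_lit 5445312) (BT.node (nat_lit 5444992) (BT.node (nat_lit 5444864) (BT.node (nat_lit 5444800) (BT.leaf (nat_lit 22807825)) (BT.leaf (nat_lit 22754821))) (BT.node (nat_lit 5444928) (BT.leaf (nat_lit 20373777)) (BT.leaf (nat_lit 21716229)))) (BT.node (nat_lit 5445184) (BT.node (nat_lit 5445056) (BT.leaf (nat_lit 20374033)) (BT.leaf (nat_lit 26446609))) (BT.node (nat_lit 5445248) (BT.leaf (nat_lit 26448409)) (BT.leaf (nat_lit 25009925))))) (BT.node (nat_lit 5445568) (BT.node (nat_lit 5445440) (BT.node (nat_lit 5445376) (BT.leaf (nat_lit 20374557)) (BT.leaf (nat_lit 26447889))) (BT.node (nat_lit 5445504) (BT.leaf (nat_lit 26278673)) (BT.leaf (nat_lit 21781785)))) (BT.node (nat_lit 5445696) (BT.node (nat_lit 5445632) (BT.leaf (nat_lit 20375065)) (BT.leaf (nat_lit 20375069))) (BT.node (nat_lit 5445824) (BT.leaf (nat_lit 20375313)) (BT.leaf (nat_lit 26450705)))))) (BT.node (nat_lit 5447232) (BT.node (nat_lit 5446848) (BT.node (nat_lit 5446336) (BT.node (nat_lit 5446144) (BT.leaf (nat_lit 26451729)) (BT.leaf (nat_lit 35938081))) (BT.node (nat_lit 5446784) (BT.leaf (nat_lit 26147345)) (BT.leaf (nat_lit 23144225)))) (BT.node (nat_lit 5446976) (BT.node (nat_lit 5446912) (BT.leaf (nat_lit 24922637)) (BT.leaf (nat_lit 25084169))) (BT.node (nat_lit 5447168) (BT.leaf (nat_lit 20510233)) (BT.leaf (nat_lit 35594249))))) (BT.node (nat_lit 5447616) (BT.node (nat_lit 5447360) (BT.node (nat_lit 5447296) (BT.leaf (nat_lit 34837013)) (BT.leaf (nat_lit 23764229))) (BT.node (nat_lit 5447424) (BT.leaf (nat_lit 20380433)) (BT.leaf (nat_lit 21862917)))) (BT.node (nat_lit 5447744) (BT.node (nat_lit 5447680) (BT.leaf (nat_lit 26464789)) (BT.leaf (nat_lit 22194693))) (BT.node (nat_lit 5447808) (BT.leaf (nat_lit 35837717)) (BT.leaf (nat_lit 24709649)))))))) (BT.node (nat_lit 5452736) (BT.node (nat_lit 5449600) (BT.node (nat_lit 5448704) (BT.node (nat_lit 5448384) (BT.node (nat_lit 5448256) (BT.node (nat_lit 5448128) (BT.leaf (nat_lit 23890949)) (BT.leaf (nat_lit 24979225))) (BT.node (nat_lit 5448320) (BT.leaf (nat_lit 26469657)) (BT.leaf (nat_lit 26470169)))) (BT.node (nat_lit 5448576) (BT.node (nat_lit 5448448) (BT.leaf (nat_lit 21793821)) (BT.leaf (nat_lit 26470929))) (BT.node (nat_lit 5448640) (BT.leaf (nat_lit 21477125)) (BT.leaf (nat_lit 20384785))))) (BT.node (nat_lit 5449088) (BT.node (nat_lit 5448896) (BT.node (nat_lit 5448768) (BT.leaf (nat_lit 25020933)) (BT.leaf (nat_lit 26474257))) (BT.node (nat_lit 5449024) (BT.leaf (nat_lit 26474005)) (BT.leaf (nat_lit 20386581)))) (BT.node (nat_lit 5449344) (BT.node (nat_lit 5449280) (BT.leaf (nat_lit 26477077)) (BT.leaf (nat_lit 20386065))) (BT.node (nat_lit 5449472) (BT.leaf (nat_lit 24991237)) (BT.leaf (nat_lit 20386833)))))) (BT.node (nat_lit 5451008) (BT.node (nat_lit 5450368) (BT.node (nat_lit 5449920) (BT.node (nat_lit 5449664) (BT.leaf (nat_lit 20386589)) (BT.leaf (nat_lit 22808325))) (BT.node (nat_lit 5450304) (BT.leaf (nat_lit 46613793)) (BT.leaf (nat_lit 51008525)))) (BT.node (nat_lit 5450880) (BT.node (nat_lit 5450560) (BT.leaf (nat_lit 51729165)) (BT.leaf (nat_lit 25414933))) (BT.node (nat_lit 5450944) (BT.leaf (nat_lit 26486289)) (BT.leaf (nat_lit 26486549))))) (BT.node (nat_lit 5451584) (BT.node (nat_lit 5451264) (BT.node (nat_lit 5451072) (BT.leaf (nat_lit 26487585)) (BT.leaf (nat_lit 36533269))) (BT.node (nat_lit 5451392) (BT.leaf (nat_lit 21044485)) (BT.leaf (nat_lit 23037445)))) (BT.node (nat_lit 5451712) (BT.node (nat_lit 5451648) (BT.leaf (nat_lit 20395281)) (BT.leaf (nat_lit 20395541))) (BT.node (nat_lit 5452416) (BT.leaf (nat_lit 26491153)) (BT.leaf (nat_lit 21821445))))))) (BT.node (nat_lit 5454912) (BT.node (nat_lit 5453760) (BT.node (nat_lit 5452992) (BT.node (nat_lit 5452864) (BT.node (nat_lit 5452800) (BT.leaf (nat_lit 20581905)) (BT.leaf (nat_lit 23602709))) (BT.node (nat_lit 5452928) (BT.leaf (nat_lit 26499861)) (BT.leaf (nat_lit 20397585)))) (BT.node (nat_lit 5453568) (BT.node (nat_lit 5453056) (BT.leaf (nat_lit 20397841)) (BT.leaf (nat_lit 20398353))) (BT.node (nat_lit 5453696) (BT.leaf (nat_lit 20400149)) (BT.leaf (nat_lit 36677129))))) (BT.node (nat_lit 5454528) (BT.node (nat_lit 5454336) (BT.node (nat_lit 5454272) (BT.leaf (nat_lit 26077977)) (BT.leaf (nat_lit 26507281))) (BT.node (nat_lit 5454464) (BT.leaf (nat_lit 20402449)) (BT.leaf (nat_lit 20403217)))) (BT.node (nat_lit 5454656) (BT.node (nat_lit 5454592) (BT.leaf (nat_lit 26043669)) (BT.leaf (nat_lit 20403729))) (BT.node (nat_lit 5454720) (BT.leaf (nat_lit 23062809)) (BT.leaf (nat_lit 23489541)))))) (BT.node (nat_lit 5455872) (BT.node (nat_lit 5455232) (BT.node (nat_lit 5455040) (BT.node (nat_lit 5454976) (BT.leaf (nat_lit 26511121)) (BT.leaf (nat_lit 20405017))) (BT.node (nat_lit 5455168) (BT.leaf (nat_lit 20405021)) (BT.leaf (nat_lit 26510613)))) (BT.node (nat_lit 5455424) (BT.node (nat_lit 5455360) (BT.leaf (nat_lit 26512653)) (BT.leaf (nat_lit 20405521))) (BT.node (nat_lit 5455808) (BT.leaf (nat_lit 26510873)) (BT.leaf (nat_lit 20406545))))) (BT.node (nat_lit 5456320) (BT.node (nat_lit 5456192) (BT.node (nat_lit 5456000) (BT.leaf (nat_lit 20406801)) (BT.leaf (nat_lit 20407569))) (BT.node (nat_lit 5456256) (BT.leaf (nat_lit 26520605)) (BT.leaf (nat_lit 26521105)))) (BT.node (nat_lit 5456704) (BT.node (nat_lit 5456576) (BT.leaf (nat_lit 21825049)) (BT.leaf (nat_lit 23743493))) (BT.node (nat_lit 5456768) (BT.leaf (nat_lit 20409617)) (BT.leaf (nat_lit 37028365))))))))) (BT.node (nat_lit 5463552) (BT.node (nat_lit 5460544) (BT.node (nat_lit 5458560) (BT.node (nat_lit 5457728) (BT.node (nat_lit 5457408) (BT.node (nat_lit 5457280) (BT.node (nat_lit 5457024) (BT.leaf (nat_lit 52119561)) (BT.leaf (nat_lit 26105117))) (BT.node (nat_lit 5457344) (BT.leaf (nat_lit 20981013)) (BT.leaf (nat_lit 20778261)))) (BT.node (nat_lit 5457536) (BT.node (nat_lit 5457472) (BT.leaf (nat_lit 21829401)) (BT.leaf (nat_lit 25694729))) (BT.node (nat_lit 5457600) (BT.leaf (nat_lit 26527257)) (BT.leaf (nat_lit 25521933))))) (BT.node (nat_lit 5458176) (BT.node (nat_lit 5457920) (BT.node (nat_lit 5457856) (BT.leaf (nat_lit 26528273)) (BT.leaf (nat_lit 26529041))) (BT.node (nat_lit 5458048) (BT.leaf (nat_lit 26529037)) (BT.leaf (nat_lit 20413725)))) (BT.node (nat_lit 5458368) (BT.node (nat_lit 5458304) (BT.leaf (nat_lit 21602061)) (BT.leaf (nat_lit 26530829))) (BT.node (nat_lit 5458432) (BT.leaf (nat_lit 26532629)) (BT.leaf (nat_lit 20414481)))))) (BT.node (nat_lit 5459456) (BT.node (nat_lit 5459008) (BT.node (nat_lit 5458816) (BT.node (nat_lit 5458624) (BT.leaf (nat_lit 20423449)) (BT.leaf (nat_lit 26534433))) (BT.node (nat_lit 5458880) (BT.leaf (nat_lit 26534937)) (BT.leaf (nat_lit 20415509)))) (BT.node (nat_lit 5459264) (BT.node (nat_lit 5459072) (BT.leaf (nat_lit 20416537)) (BT.leaf (nat_lit 20416541))) (BT.node (nat_lit 5459392) (BT.leaf (nat_lit 21987845)) (BT.leaf (nat_lit 21988357))))) (BT.node (nat_lit 5460032) (BT.node (nat_lit 5459712) (BT.node (nat_lit 5459648) (BT.leaf (nat_lit 21988613)) (BT.leaf (nat_lit 26539281))) (BT.node (nat_lit 5459968) (BT.leaf (nat_lit 22539269)) (BT.leaf (nat_lit 26541329)))) (BT.node (nat_lit 5460160) (BT.node (nat_lit 5460096) (BT.leaf (nat_lit 26541841)) (BT.leaf (nat_lit 26542365))) (BT.node (nat_lit 5460224) (BT.leaf (nat_lit 20420377)) (BT.leaf (nat_lit 20420381))))))) (BT.node (nat_lit 5462016) (BT.node (nat_lit 5461312) (BT.node (nat_lit 5461056) (BT.node (nat_lit 5460800) (BT.node (nat_lit 5460736) (BT.leaf (nat_lit 26545429)) (BT.leaf (nat_lit 26520581))) (BT.node (nat_lit 5460928) (BT.leaf (nat_lit 21842969)) (BT.leaf (nat_lit 20423441)))) (BT.node (nat_lit 5461184) (BT.node (nat_lit 5461120) (BT.leaf (nat_lit 26549013)) (BT.leaf (nat_lit 20423701))) (BT.node (nat_lit 5461248) (BT.leaf (nat_lit 20423709)) (BT.leaf (nat_lit 20594449))))) (BT.node (nat_lit 5461632) (BT.node (nat_lit 5461440) (BT.node (nat_lit 5461376) (BT.leaf (nat_lit 20594193)) (BT.leaf (nat_lit 20423961))) (BT.node (nat_lit 5461568) (BT.leaf (nat_lit 21844741)) (BT.leaf (nat_lit 21553425)))) (BT.node (nat_lit 5461760) (BT.node (nat_lit 5461696) (BT.leaf (nat_lit 20595985)) (BT.leaf (nat_lit 20424729))) (BT.node (nat_lit 5461824) (BT.leaf (nat_lit 20424733)) (BT.leaf (nat_lit 25727497)))))) (BT.node (nat_lit 5462720) (BT.node (nat_lit 5462464) (BT.node (nat_lit 5462336) (BT.node (nat_lit 5462272) (BT.leaf (nat_lit 26555669)) (BT.leaf (nat_lit 26557713))) (BT.node (nat_lit 5462400) (BT.leaf (nat_lit 23371013)) (BT.leaf (nat_lit 26558993)))) (BT.node (nat_lit 5462592) (BT.node (nat_lit 5462528) (BT.leaf (nat_lit 20426777)) (BT.leaf (nat_lit 20427025))) (BT.node (nat_lit 5462656) (BT.leaf (nat_lit 26558745)) (BT.leaf (nat_lit 20882437))))) (BT.node (nat_lit 5462976) (BT.node (nat_lit 5462848) (BT.node (nat_lit 5462784) (BT.leaf (nat_lit 20427801)) (BT.leaf (nat_lit 20427805))) (BT.node (nat_lit 5462912) (BT.leaf (nat_lit 36551177)) (BT.leaf (nat_lit 21837077)))) (BT.node (nat_lit 5463232) (BT.node (nat_lit 5463104) (BT.leaf (nat_lit 20429321)) (BT.leaf (nat_lit 26562845))) (BT.node (nat_lit 5463360) (BT.leaf (nat_lit 20599069)) (BT.leaf (nat_lit 26563617)))))))) (BT.node (nat_lit 5466048) (BT.node (nat_lit 5464832) (BT.node (nat_lit 5464064) (BT.node (nat_lit 5463808) (BT.node (nat_lit 5463680) (BT.node (nat_lit 5463616) (BT.leaf (nat_lit 25164577)) (BT.leaf (nat_lit 26564885))) (BT.node (nat_lit 5463744) (BT.leaf (nat_lit 24199685)) (BT.leaf (nat_lit 20429853)))) (BT.node (nat_lit 5463936) (BT.node (nat_lit 5463872) (BT.leaf (nat_lit 20601109)) (BT.leaf (nat_lit 21318945))) (BT.node (nat_lit 5464000) (BT.leaf (nat_lit 20430361)) (BT.leaf (nat_lit 26560277))))) (BT.node (nat_lit 5464384) (BT.node (nat_lit 5464256) (BT.node (nat_lit 5464192) (BT.leaf (nat_lit 25429253)) (BT.leaf (nat_lit 51224837))) (BT.node (nat_lit 5464320) (BT.leaf (nat_lit 20430617)) (BT.leaf (nat_lit 20430621)))) (BT.node (nat_lit 5464704) (BT.node (nat_lit 5464640) (BT.leaf (nat_lit 22138385)) (BT.leaf (nat_lit 26570781))) (BT.node (nat_lit 5464768) (BT.leaf (nat_lit 26570513)) (BT.leaf (nat_lit 20431893)))))) (BT.node (nat_lit 5465472) (BT.node (nat_lit 5465216) (BT.node (nat_lit 5465024) (BT.node (nat_lit 5464960) (BT.leaf (nat_lit 50828293)) (BT.leaf (nat_lit 26572305))) (BT.node (nat_lit 5465152) (BT.leaf (nat_lit 25146653)) (BT.leaf (nat_lit 26573597)))) (BT.node (nat_lit 5465344) (BT.node (nat_lit 5465280) (BT.leaf (nat_lit 50966541)) (BT.leaf (nat_lit 24051989))) (BT.node (nat_lit 5465408) (BT.leaf (nat_lit 26575129)) (BT.leaf (nat_lit 26575645))))) (BT.node (nat_lit 5465728) (BT.node (nat_lit 5465600) (BT.node (nat_lit 5465536) (BT.leaf (nat_lit 27231237)) (BT.leaf (nat_lit 26879749))) (BT.node (nat_lit 5465664) (BT.leaf (nat_lit 26576913)) (BT.leaf (nat_lit 20433949)))) (BT.node (nat_lit 5465920) (BT.node (nat_lit 5465856) (BT.leaf (nat_lit 20434449)) (BT.leaf (nat_lit 20434713))) (BT.node (nat_lit 5465984) (BT.leaf (nat_lit 20434717)) (BT.leaf (nat_lit 26580505))))))) (BT.node (nat_lit 5467328) (BT.node (nat_lit 5466624) (BT.node (nat_lit 5466368) (BT.node (nat_lit 5466176) (BT.node (nat_lit 5466112) (BT.leaf (nat_lit 20435221)) (BT.leaf (nat_lit 26579729))) (BT.node (nat_lit 5466240) (BT.leaf (nat_lit 20435477)) (BT.leaf (nat_lit 20603409)))) (BT.node (nat_lit 5466496) (BT.node (nat_lit 5466432) (BT.leaf (nat_lit 20510485)) (BT.leaf (nat_lit 20436241))) (BT.node (nat_lit 5466560) (BT.leaf (nat_lit 21632025)) (BT.leaf (nat_lit 20436497))))) (BT.node (nat_lit 5466880) (BT.node (nat_lit 5466752) (BT.node (nat_lit 5466688) (BT.leaf (nat_lit 37175573)) (BT.leaf (nat_lit 22211845))) (BT.node (nat_lit 5466816) (BT.leaf (nat_lit 20437013)) (BT.leaf (nat_lit 26587921)))) (BT.node (nat_lit 5467008) (BT.node (nat_lit 5466944) (BT.leaf (nat_lit 26588433)) (BT.leaf (nat_lit 20488225))) (BT.node (nat_lit 5467200) (BT.leaf (nat_lit 20437273)) (BT.leaf (nat_lit 26589717)))))) (BT.node (nat_lit 5467968) (BT.node (nat_lit 5467584) (BT.node (nat_lit 5467456) (BT.node (nat_lit 5467392) (BT.leaf (nat_lit 26590485)) (BT.leaf (nat_lit 21639689))) (BT.node (nat_lit 5467520) (BT.leaf (nat_lit 20438037)) (BT.leaf (nat_lit 26591769)))) (BT.node (nat_lit 5467712) (BT.node (nat_lit 5467648) (BT.leaf (nat_lit 20438293)) (BT.leaf (nat_lit 26592797))) (BT.node (nat_lit 5467904) (BT.leaf (nat_lit 20438549)) (BT.leaf (nat_lit 20600597))))) (BT.node (nat_lit 5468224) (BT.node (nat_lit 5468096) (BT.node (nat_lit 5468032) (BT.leaf (nat_lit 20439557)) (BT.leaf (nat_lit 20439569))) (BT.node (nat_lit 5468160) (BT.leaf (nat_lit 21878041)) (BT.leaf (nat_lit 26596125)))) (BT.node (nat_lit 5468352) (BT.node (nat_lit 5468288) (BT.leaf (nat_lit 20439829)) (BT.leaf (nat_lit 26597401))) (BT.node (nat_lit 5468416) (BT.leaf (nat_lit 20440085)) (BT.leaf (nat_lit 26598681)))))))))))))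
noncomputable def big0_e22528 : BT Nat := (BT.node (nat_lit 5577728) (BT.node (nat_lit 5525888) (BT.node (nat_lit 5494528) (BT.node (nat_lit 5481984) (BT.node (nat_lit 5475584) (BT.node (nat_lit 5471360) (BT.node (nat_lit 5469504) (BT.node (nat_lit 5468992) (BT.node (nat_lit 5468736) (BT.node (nat_lit 5468608) (BT.node (nat_lit 5468544) (BT.leaf (nat_lit 20440597)) (BT.leaf (nat_lit 26600209))) (BT.node (nat_lit 5468672) (BT.leaf (nat_lit 26600721)) (BT.leaf (nat_lit 20662545)))) (BT.node (nat_lit 5468864) (BT.node (nat_lit 5468800) (BT.leaf (nat_lit 20662289)) (BT.leaf (nat_lit 20440857))) (BT.node (nat_lit 5468928) (BT.leaf (nat_lit 20440861)) (BT.leaf (nat_lit 20441105))))) (BT.node (nat_lit 5469248) (BT.node (nat_lit 5469120) (BT.node (nat_lit 5469056) (BT.leaf (nat_lit 21319193)) (BT.leaf (nat_lit 20441365))) (BT.node (nat_lit 5469184) (BT.leaf (nat_lit 26603545)) (BT.leaf (nat_lit 20441621)))) (BT.node (nat_lit 5469376) (BT.node (nat_lit 5469312) (BT.leaf (nat_lit 26604573)) (BT.leaf (nat_lit 20441877))) (BT.node (nat_lit 5469440) (BT.leaf (nat_lit 22146325)) (BT.leaf (nat_lit 20600853)))))) (BT.node (nat_lit 5470528) (BT.node (nat_lit 5470144) (BT.node (nat_lit 5469760) (BT.node (nat_lit 5469696) (BT.leaf (nat_lit 20600329)) (BT.leaf (nat_lit 20443409))) (BT.node (nat_lit 5469824) (BT.leaf (nat_lit 21025561)) (BT.leaf (nat_lit 21539101)))) (BT.node (nat_lit 5470336) (BT.node (nat_lit 5470272) (BT.leaf (nat_lit 25400841)) (BT.leaf (nat_lit 21326613))) (BT.node (nat_lit 5470400) (BT.leaf (nat_lit 21835545)) (BT.leaf (nat_lit 20444945))))) (BT.node (nat_lit 5470784) (BT.node (nat_lit 5470656) (BT.node (nat_lit 5470592) (BT.leaf (nat_lit 51225889)) (BT.leaf (nat_lit 20608785))) (BT.node (nat_lit 5470720) (BT.leaf (nat_lit 20608529)) (BT.leaf (nat_lit 20445209)))) (BT.node (nat_lit 5470976) (BT.node (nat_lit 5470912) (BT.leaf (nat_lit 20445213)) (BT.leaf (nat_lit 26611489))) (BT.node (nat_lit 5471168) (BT.leaf (nat_lit 26611997)) (BT.leaf (nat_lit 25703437))))))) (BT.node (nat_lit 5473728) (BT.node (nat_lit 5472768) (BT.node (nat_lit 5472000) (BT.node (nat_lit 5471808) (BT.node (nat_lit 5471616) (BT.leaf (nat_lit 26557977)) (BT.leaf (nat_lit 26614537))) (BT.node (nat_lit 5471936) (BT.leaf (nat_lit 22527513)) (BT.leaf (nat_lit 21608477)))) (BT.node (nat_lit 5472128) (BT.node (nat_lit 5472064) (BT.leaf (nat_lit 37361685)) (BT.leaf (nat_lit 26223645))) (BT.node (nat_lit 5472384) (BT.leaf (nat_lit 33888025)) (BT.leaf (nat_lit 25533985))))) (BT.node (nat_lit 5473216) (BT.node (nat_lit 5472960) (BT.node (nat_lit 5472832) (BT.leaf (nat_lit 20449309)) (BT.leaf (nat_lit 20449553))) (BT.node (nat_lit 5473152) (BT.leaf (nat_lit 26621197)) (BT.leaf (nat_lit 22049817)))) (BT.node (nat_lit 5473344) (BT.node (nat_lit 5473280) (BT.leaf (nat_lit 25200133)) (BT.leaf (nat_lit 22168601))) (BT.node (nat_lit 5473536) (BT.leaf (nat_lit 25200645)) (BT.leaf (nat_lit 26380293)))))) (BT.node (nat_lit 5474624) (BT.node (nat_lit 5473984) (BT.node (nat_lit 5473856) (BT.node (nat_lit 5473792) (BT.leaf (nat_lit 20451101)) (BT.leaf (nat_lit 23322885))) (BT.node (nat_lit 5473920) (BT.leaf (nat_lit 21901085)) (BT.leaf (nat_lit 22622229)))) (BT.node (nat_lit 5474240) (BT.node (nat_lit 5474048) (BT.leaf (nat_lit 21889557)) (BT.leaf (nat_lit 20451861))) (BT.node (nat_lit 5474368) (BT.leaf (nat_lit 20452617)) (BT.leaf (nat_lit 20452377))))) (BT.node (nat_lit 5475200) (BT.node (nat_lit 5475072) (BT.node (nat_lit 5474752) (BT.leaf (nat_lit 20452893)) (BT.leaf (nat_lit 20733209))) (BT.node (nat_lit 5475136) (BT.leaf (nat_lit 26624537)) (BT.leaf (nat_lit 25220869)))) (BT.node (nat_lit 5475328) (BT.node (nat_lit 5475264) (BT.leaf (nat_lit 21892629)) (BT.leaf (nat_lit 26631697))) (BT.node (nat_lit 5475520) (BT.leaf (nat_lit 26631965)) (BT.leaf (nat_lit 20454929)))))))) (BT.node (nat_lit 5479232) (BT.node (nat_lit 5477248) (BT.node (nat_lit 5476352) (BT.node (nat_lit 5476096) (BT.node (nat_lit 5475776) (BT.node (nat_lit 5475712) (BT.leaf (nat_lit 21168133)) (BT.leaf (nat_lit 26634005))) (BT.node (nat_lit 5475904) (BT.leaf (nat_lit 23827469)) (BT.leaf (nat_lit 26635541)))) (BT.node (nat_lit 5476224) (BT.node (nat_lit 5476160) (BT.leaf (nat_lit 20580889)) (BT.leaf (nat_lit 22071325))) (BT.node (nat_lit 5476288) (BT.leaf (nat_lit 26637829)) (BT.leaf (nat_lit 26562841))))) (BT.node (nat_lit 5476672) (BT.node (nat_lit 5476544) (BT.node (nat_lit 5476416) (BT.leaf (nat_lit 26256161)) (BT.leaf (nat_lit 26537993))) (BT.node (nat_lit 5476608) (BT.leaf (nat_lit 20457241)) (BT.leaf (nat_lit 20457245)))) (BT.node (nat_lit 5476928) (BT.node (nat_lit 5476736) (BT.leaf (nat_lit 20612113)) (BT.leaf (nat_lit 20611857))) (BT.node (nat_lit 5477120) (BT.leaf (nat_lit 24205589)) (BT.leaf (nat_lit 26643737)))))) (BT.node (nat_lit 5478336) (BT.node (nat_lit 5478016) (BT.node (nat_lit 5477632) (BT.node (nat_lit 5477504) (BT.leaf (nat_lit 20954137)) (BT.leaf (nat_lit 26645793))) (BT.node (nat_lit 5477696) (BT.leaf (nat_lit 21020445)) (BT.leaf (nat_lit 20460561)))) (BT.node (nat_lit 5478144) (BT.node (nat_lit 5478080) (BT.leaf (nat_lit 20462097)) (BT.leaf (nat_lit 20462353))) (BT.node (nat_lit 5478208) (BT.leaf (nat_lit 37081109)) (BT.leaf (nat_lit 51862793))))) (BT.node (nat_lit 5478720) (BT.node (nat_lit 5478464) (BT.node (nat_lit 5478400) (BT.leaf (nat_lit 20462865)) (BT.leaf (nat_lit 21048097))) (BT.node (nat_lit 5478528) (BT.leaf (nat_lit 21000993)) (BT.leaf (nat_lit 21000737)))) (BT.node (nat_lit 5479104) (BT.node (nat_lit 5478976) (BT.leaf (nat_lit 26655513)) (BT.leaf (nat_lit 25332485))) (BT.node (nat_lit 5479168) (BT.leaf (nat_lit 48402693)) (BT.leaf (nat_lit 26490653))))))) (BT.node (nat_lit 5480512) (BT.node (nat_lit 5479872) (BT.node (nat_lit 5479616) (BT.node (nat_lit 5479424) (BT.node (nat_lit 5479296) (BT.leaf (nat_lit 20580873)) (BT.leaf (nat_lit 26658837))) (BT.node (nat_lit 5479552) (BT.leaf (nat_lit 21567777)) (BT.leaf (nat_lit 26192913)))) (BT.node (nat_lit 5479744) (BT.node (nat_lit 5479680) (BT.leaf (nat_lit 36803613)) (BT.leaf (nat_lit 23581205))) (BT.node (nat_lit 5479808) (BT.leaf (nat_lit 26660357)) (BT.leaf (nat_lit 25027357))))) (BT.node (nat_lit 5480192) (BT.node (nat_lit 5480000) (BT.node (nat_lit 5479936) (BT.leaf (nat_lit 36597253)) (BT.leaf (nat_lit 20465937))) (BT.node (nat_lit 5480064) (BT.leaf (nat_lit 25582857)) (BT.leaf (nat_lit 20466193)))) (BT.node (nat_lit 5480384) (BT.node (nat_lit 5480320) (BT.leaf (nat_lit 22524421)) (BT.leaf (nat_lit 23395097))) (BT.node (nat_lit 5480448) (BT.leaf (nat_lit 20619537)) (BT.leaf (nat_lit 24560389)))))) (BT.node (nat_lit 5481152) (BT.node (nat_lit 5480896) (BT.node (nat_lit 5480704) (BT.node (nat_lit 5480640) (BT.leaf (nat_lit 20467741)) (BT.leaf (nat_lit 26667281))) (BT.node (nat_lit 5480832) (BT.leaf (nat_lit 25090309)) (BT.leaf (nat_lit 26668573)))) (BT.node (nat_lit 5481024) (BT.node (nat_lit 5480960) (BT.leaf (nat_lit 20469009)) (BT.leaf (nat_lit 20469265))) (BT.node (nat_lit 5481088) (BT.leaf (nat_lit 20621329)) (BT.leaf (nat_lit 25747973))))) (BT.node (nat_lit 5481600) (BT.node (nat_lit 5481280) (BT.node (nat_lit 5481216) (BT.leaf (nat_lit 20471049)) (BT.leaf (nat_lit 20471053))) (BT.node (nat_lit 5481344) (BT.leaf (nat_lit 20471065)) (BT.leaf (nat_lit 20471069)))) (BT.node (nat_lit 5481792) (BT.node (nat_lit 5481728) (BT.leaf (nat_lit 21863429)) (BT.leaf (nat_lit 21623561))) (BT.node (nat_lit 5481856) (BT.leaf (nat_lit 20472601)) (BT.leaf (nat_lit 20472605))))))))) (BT.node (nat_lit 5487680) (BT.node (nat_lit 5485568) (BT.node (nat_lit 5484032) (BT.node (nat_lit 5483072) (BT.node (nat_lit 5482304) (BT.node (nat_lit 5482176) (BT.node (nat_lit 5482048) (BT.leaf (nat_lit 20473109)) (BT.leaf (nat_lit 26675733))) (BT.node (nat_lit 5482240) (BT.leaf (nat_lit 20473873)) (BT.leaf (nat_lit 20474129)))) (BT.node (nat_lit 5482624) (BT.node (nat_lit 5482560) (BT.leaf (nat_lit 20474641)) (BT.leaf (nat_lit 20475665))) (BT.node (nat_lit 5482816) (BT.leaf (nat_lit 25118213)) (BT.leaf (nat_lit 20624657))))) (BT.node (nat_lit 5483456) (BT.node (nat_lit 5483200) (BT.node (nat_lit 5483136) (BT.leaf (nat_lit 26681361)) (BT.leaf (nat_lit 20477209))) (BT.node (nat_lit 5483392) (BT.leaf (nat_lit 33963809)) (BT.leaf (nat_lit 27170313)))) (BT.node (nat_lit 5483776) (BT.node (nat_lit 5483648) (BT.leaf (nat_lit 20477717)) (BT.leaf (nat_lit 22207001))) (BT.node (nat_lit 5483904) (BT.leaf (nat_lit 22206989)) (BT.leaf (nat_lit 26686493)))))) (BT.node (nat_lit 5484864) (BT.node (nat_lit 5484352) (BT.node (nat_lit 5484160) (BT.node (nat_lit 5484096) (BT.leaf (nat_lit 26687517)) (BT.leaf (nat_lit 20478741))) (BT.node (nat_lit 5484288) (BT.leaf (nat_lit 25905673)) (BT.leaf (nat_lit 26688529)))) (BT.node (nat_lit 5484672) (BT.node (nat_lit 5484480) (BT.leaf (nat_lit 26690577)) (BT.leaf (nat_lit 26691345))) (BT.node (nat_lit 5484800) (BT.leaf (nat_lit 20480529)) (BT.leaf (nat_lit 26064913))))) (BT.node (nat_lit 5485184) (BT.node (nat_lit 5485056) (BT.node (nat_lit 5484928) (BT.leaf (nat_lit 26694677)) (BT.leaf (nat_lit 26695961))) (BT.node (nat_lit 5485120) (BT.leaf (nat_lit 26696469)) (BT.leaf (nat_lit 26697241)))) (BT.node (nat_lit 5485376) (BT.node (nat_lit 5485248) (BT.leaf (nat_lit 26696721)) (BT.leaf (nat_lit 26697745))) (BT.node (nat_lit 5485504) (BT.leaf (nat_lit 20626973)) (BT.leaf (nat_lit 26699013))))))) (BT.node (nat_lit 5486592) (BT.node (nat_lit 5486080) (BT.node (nat_lit 5485824) (BT.node (nat_lit 5485696) (BT.node (nat_lit 5485632) (BT.leaf (nat_lit 25999649)) (BT.leaf (nat_lit 26700053))) (BT.node (nat_lit 5485760) (BT.leaf (nat_lit 20627985)) (BT.leaf (nat_lit 20484125)))) (BT.node (nat_lit 5485952) (BT.node (nat_lit 5485888) (BT.leaf (nat_lit 20627217)) (BT.leaf (nat_lit 24661269))) (BT.node (nat_lit 5486016) (BT.leaf (nat_lit 20484377)) (BT.leaf (nat_lit 24662805))))) (BT.node (nat_lit 5486336) (BT.node (nat_lit 5486208) (BT.node (nat_lit 5486144) (BT.leaf (nat_lit 20629521)) (BT.leaf (nat_lit 33291553))) (BT.node (nat_lit 5486272) (BT.leaf (nat_lit 22061085)) (BT.leaf (nat_lit 21956381)))) (BT.node (nat_lit 5486464) (BT.node (nat_lit 5486400) (BT.leaf (nat_lit 20633117)) (BT.leaf (nat_lit 20633097))) (BT.node (nat_lit 5486528) (BT.leaf (nat_lit 21945625)) (BT.leaf (nat_lit 26703897)))))) (BT.node (nat_lit 5487104) (BT.node (nat_lit 5486848) (BT.node (nat_lit 5486720) (BT.node (nat_lit 5486656) (BT.leaf (nat_lit 26704145)) (BT.leaf (nat_lit 26704921))) (BT.node (nat_lit 5486784) (BT.leaf (nat_lit 26281245)) (BT.leaf (nat_lit 20485905)))) (BT.node (nat_lit 5486976) (BT.node (nat_lit 5486912) (BT.leaf (nat_lit 26707225)) (BT.leaf (nat_lit 20486673))) (BT.node (nat_lit 5487040) (BT.leaf (nat_lit 20487185)) (BT.leaf (nat_lit 20487441))))) (BT.node (nat_lit 5487360) (BT.node (nat_lit 5487232) (BT.node (nat_lit 5487168) (BT.leaf (nat_lit 26709525)) (BT.leaf (nat_lit 26710037))) (BT.node (nat_lit 5487296) (BT.leaf (nat_lit 25764121)) (BT.leaf (nat_lit 20487957)))) (BT.node (nat_lit 5487552) (BT.node (nat_lit 5487488) (BT.leaf (nat_lit 21872905)) (BT.leaf (nat_lit 21458445))) (BT.node (nat_lit 5487616) (BT.leaf (nat_lit 25937165)) (BT.leaf (nat_lit 20488721)))))))) (BT.node (nat_lit 5490944) (BT.node (nat_lit 5489216) (BT.node (nat_lit 5488640) (BT.node (nat_lit 5488128) (BT.node (nat_lit 5487808) (BT.node (nat_lit 5487744) (BT.leaf (nat_lit 20633113)) (BT.leaf (nat_lit 26714397))) (BT.node (nat_lit 5488064) (BT.leaf (nat_lit 20488981)) (BT.leaf (nat_lit 20645657)))) (BT.node (nat_lit 5488256) (BT.node (nat_lit 5488192) (BT.leaf (nat_lit 20489745)) (BT.leaf (nat_lit 21750297))) (BT.node (nat_lit 5488320) (BT.leaf (nat_lit 20549661)) (BT.leaf (nat_lit 20490001))))) (BT.node (nat_lit 5488896) (BT.node (nat_lit 5488768) (BT.node (nat_lit 5488704) (BT.leaf (nat_lit 20490513)) (BT.leaf (nat_lit 20491025))) (BT.node (nat_lit 5488832) (BT.leaf (nat_lit 20491289)) (BT.leaf (nat_lit 20491293)))) (BT.node (nat_lit 5489088) (BT.node (nat_lit 5488960) (BT.leaf (nat_lit 25954065)) (BT.leaf (nat_lit 20491541))) (BT.node (nat_lit 5489152) (BT.leaf (nat_lit 20633101)) (BT.leaf (nat_lit 26722077)))))) (BT.node (nat_lit 5490432) (BT.node (nat_lit 5489728) (BT.node (nat_lit 5489536) (BT.node (nat_lit 5489344) (BT.leaf (nat_lit 20492309)) (BT.leaf (nat_lit 20493585))) (BT.node (nat_lit 5489600) (BT.leaf (nat_lit 20494609)) (BT.leaf (nat_lit 25251077)))) (BT.node (nat_lit 5490176) (BT.node (nat_lit 5490112) (BT.leaf (nat_lit 20495121)) (BT.leaf (nat_lit 26276125))) (BT.node (nat_lit 5490368) (BT.leaf (nat_lit 20496401)) (BT.leaf (nat_lit 26730265))))) (BT.node (nat_lit 5490688) (BT.node (nat_lit 5490560) (BT.node (nat_lit 5490496) (BT.leaf (nat_lit 20497169)) (BT.leaf (nat_lit 20747553))) (BT.node (nat_lit 5490624) (BT.leaf (nat_lit 26731541)) (BT.leaf (nat_lit 20497437)))) (BT.node (nat_lit 5490816) (BT.node (nat_lit 5490752) (BT.leaf (nat_lit 20497681)) (BT.leaf (nat_lit 20497685))) (BT.node (nat_lit 5490880) (BT.leaf (nat_lit 21651741)) (BT.leaf (nat_lit 26734617))))))) (BT.node (nat_lit 5492352) (BT.node (nat_lit 5491648) (BT.node (nat_lit 5491200) (BT.node (nat_lit 5491072) (BT.node (nat_lit 5491008) (BT.leaf (nat_lit 20497941)) (BT.leaf (nat_lit 20498197))) (BT.node (nat_lit 5491136) (BT.leaf (nat_lit 20642325)) (BT.leaf (nat_lit 26736661)))) (BT.node (nat_lit 5491456) (BT.node (nat_lit 5491264) (BT.leaf (nat_lit 20498961)) (BT.leaf (nat_lit 20644381))) (BT.node (nat_lit 5491584) (BT.leaf (nat_lit 20646921)) (BT.leaf (nat_lit 20499989))))) (BT.node (nat_lit 5491968) (BT.node (nat_lit 5491776) (BT.node (nat_lit 5491712) (BT.leaf (nat_lit 20500001)) (BT.leaf (nat_lit 20501525))) (BT.node (nat_lit 5491904) (BT.leaf (nat_lit 20644361)) (BT.leaf (nat_lit 22056733)))) (BT.node (nat_lit 5492160) (BT.node (nat_lit 5492032) (BT.leaf (nat_lit 20500497)) (BT.leaf (nat_lit 20646941))) (BT.node (nat_lit 5492288) (BT.leaf (nat_lit 22209293)) (BT.leaf (nat_lit 20500769)))))) (BT.node (nat_lit 5493376) (BT.node (nat_lit 5492736) (BT.node (nat_lit 5492480) (BT.node (nat_lit 5492416) (BT.leaf (nat_lit 26743577)) (BT.leaf (nat_lit 26744093))) (BT.node (nat_lit 5492608) (BT.leaf (nat_lit 26744861)) (BT.leaf (nat_lit 37667589)))) (BT.node (nat_lit 5492928) (BT.node (nat_lit 5492800) (BT.leaf (nat_lit 20502037)) (BT.leaf (nat_lit 20643093))) (BT.node (nat_lit 5493312) (BT.leaf (nat_lit 21106193)) (BT.leaf (nat_lit 20503045))))) (BT.node (nat_lit 5493824) (BT.node (nat_lit 5493632) (BT.node (nat_lit 5493568) (BT.leaf (nat_lit 20503057)) (BT.leaf (nat_lit 22396949))) (BT.node (nat_lit 5493696) (BT.leaf (nat_lit 23764485)) (BT.leaf (nat_lit 20504081)))) (BT.node (nat_lit 5494016) (BT.node (nat_lit 5493952) (BT.leaf (nat_lit 26000161)) (BT.leaf (nat_lit 26752273))) (BT.node (nat_lit 5494400) (BT.leaf (nat_lit 26000389)) (BT.leaf (nat_lit 20628505)))))))))) (BT.node (nat_lit 5510656) (BT.node (nat_lit 5501824) (BT.node (nat_lit 5497600) (BT.node (nat_lit 5495872) (BT.node (nat_lit 5495232) (BT.node (nat_lit 5494848) (BT.node (nat_lit 5494656) (BT.node (nat_lit 5494592) (BT.leaf (nat_lit 20506129)) (BT.leaf (nat_lit 21975837))) (BT.node (nat_lit 5494720) (BT.leaf (nat_lit 26752541)) (BT.leaf (nat_lit 26670105)))) (BT.node (nat_lit 5494976) (BT.node (nat_lit 5494912) (BT.leaf (nat_lit 33861381)) (BT.leaf (nat_lit 21440009))) (BT.node (nat_lit 5495104) (BT.leaf (nat_lit 36006685)) (BT.leaf (nat_lit 20507669))))) (BT.node (nat_lit 5495616) (BT.node (nat_lit 5495424) (BT.node (nat_lit 5495296) (BT.leaf (nat_lit 20507677)) (BT.leaf (nat_lit 26761497))) (BT.node (nat_lit 5495552) (BT.leaf (nat_lit 26014481)) (BT.leaf (nat_lit 21051929)))) (BT.node (nat_lit 5495744) (BT.node (nat_lit 5495680) (BT.leaf (nat_lit 20509213)) (BT.leaf (nat_lit 34273549))) (BT.node (nat_lit 5495808) (BT.leaf (nat_lit 20509713)) (BT.leaf (nat_lit 26764065)))))) (BT.node (nat_lit 5496768) (BT.node (nat_lit 5496384) (BT.node (nat_lit 5496192) (BT.node (nat_lit 5496064) (BT.leaf (nat_lit 26070817)) (BT.leaf (nat_lit 25111049))) (BT.node (nat_lit 5496320) (BT.leaf (nat_lit 20816397)) (BT.leaf (nat_lit 33621781)))) (BT.node (nat_lit 5496512) (BT.node (nat_lit 5496448) (BT.leaf (nat_lit 25454881)) (BT.leaf (nat_lit 50034465))) (BT.node (nat_lit 5496640) (BT.leaf (nat_lit 52134169)) (BT.leaf (nat_lit 20511761))))) (BT.node (nat_lit 5497152) (BT.node (nat_lit 5497024) (BT.node (nat_lit 5496960) (BT.leaf (nat_lit 20512785)) (BT.leaf (nat_lit 26770977))) (BT.node (nat_lit 5497088) (BT.leaf (nat_lit 26771233)) (BT.leaf (nat_lit 26771229)))) (BT.node (nat_lit 5497344) (BT.node (nat_lit 5497280) (BT.leaf (nat_lit 26192157)) (BT.leaf (nat_lit 25554453))) (BT.node (nat_lit 5497408) (BT.leaf (nat_lit 20514069)) (BT.leaf (nat_lit 20514073))))))) (BT.node (nat_lit 5499136) (BT.node (nat_lit 5498432) (BT.node (nat_lit 5497984) (BT.node (nat_lit 5497728) (BT.node (nat_lit 5497664) (BT.leaf (nat_lit 20514325)) (BT.leaf (nat_lit 33530645))) (BT.node (nat_lit 5497792) (BT.leaf (nat_lit 25155845)) (BT.leaf (nat_lit 21933857)))) (BT.node (nat_lit 5498176) (BT.node (nat_lit 5498048) (BT.leaf (nat_lit 21394437)) (BT.leaf (nat_lit 26222349))) (BT.node (nat_lit 5498240) (BT.leaf (nat_lit 22246161)) (BT.leaf (nat_lit 21992729))))) (BT.node (nat_lit 5498880) (BT.node (nat_lit 5498688) (BT.node (nat_lit 5498496) (BT.leaf (nat_lit 20517137)) (BT.leaf (nat_lit 26779669))) (BT.node (nat_lit 5498816) (BT.leaf (nat_lit 22646029)) (BT.leaf (nat_lit 34322973)))) (BT.node (nat_lit 5499008) (BT.node (nat_lit 5498944) (BT.leaf (nat_lit 20518417)) (BT.leaf (nat_lit 20518421))) (BT.node (nat_lit 5499072) (BT.leaf (nat_lit 23756037)) (BT.leaf (nat_lit 20518933)))))) (BT.node (nat_lit 5500224) (BT.node (nat_lit 5499520) (BT.node (nat_lit 5499328) (BT.node (nat_lit 5499264) (BT.leaf (nat_lit 26784529)) (BT.leaf (nat_lit 20519185))) (BT.node (nat_lit 5499456) (BT.leaf (nat_lit 20519441)) (BT.leaf (nat_lit 25263109)))) (BT.node (nat_lit 5499840) (BT.node (nat_lit 5499776) (BT.leaf (nat_lit 20520977)) (BT.leaf (nat_lit 22250757))) (BT.node (nat_lit 5500032) (BT.leaf (nat_lit 37346329)) (BT.leaf (nat_lit 25276705))))) (BT.node (nat_lit 5500672) (BT.node (nat_lit 5500544) (BT.node (nat_lit 5500288) (BT.leaf (nat_lit 50855969)) (BT.leaf (nat_lit 26793241))) (BT.node (nat_lit 5500608) (BT.leaf (nat_lit 21555469)) (BT.leaf (nat_lit 50855941)))) (BT.node (nat_lit 5501568) (BT.node (nat_lit 5501504) (BT.leaf (nat_lit 26795801)) (BT.leaf (nat_lit 26801441))) (BT.node (nat_lit 5501760) (BT.leaf (nat_lit 26801941)) (BT.leaf (nat_lit 26143765)))))))) (BT.node (nat_lit 5506688) (BT.node (nat_lit 5504512) (BT.node (nat_lit 5503680) (BT.node (nat_lit 5502528) (BT.node (nat_lit 5501952) (BT.node (nat_lit 5501888) (BT.leaf (nat_lit 26794525)) (BT.leaf (nat_lit 50528521))) (BT.node (nat_lit 5502336) (BT.leaf (nat_lit 35987721)) (BT.leaf (nat_lit 37004313)))) (BT.node (nat_lit 5502656) (BT.node (nat_lit 5502592) (BT.leaf (nat_lit 20527633)) (BT.leaf (nat_lit 26810145))) (BT.node (nat_lit 5503552) (BT.leaf (nat_lit 26810389)) (BT.leaf (nat_lit 22074133))))) (BT.node (nat_lit 5504064) (BT.node (nat_lit 5503808) (BT.node (nat_lit 5503744) (BT.leaf (nat_lit 26815249)) (BT.leaf (nat_lit 26816033))) (BT.node (nat_lit 5503936) (BT.leaf (nat_lit 26816537)) (BT.leaf (nat_lit 52282885)))) (BT.node (nat_lit 5504320) (BT.node (nat_lit 5504256) (BT.leaf (nat_lit 20530705)) (BT.leaf (nat_lit 20531217))) (BT.node (nat_lit 5504448) (BT.leaf (nat_lit 26820369)) (BT.leaf (nat_lit 26821905)))))) (BT.node (nat_lit 5505344) (BT.node (nat_lit 5504768) (BT.node (nat_lit 5504640) (BT.node (nat_lit 5504576) (BT.leaf (nat_lit 26821909)) (BT.leaf (nat_lit 20532505))) (BT.node (nat_lit 5504704) (BT.leaf (nat_lit 20532509)) (BT.leaf (nat_lit 20532753)))) (BT.node (nat_lit 5504896) (BT.node (nat_lit 5504832) (BT.leaf (nat_lit 20533009)) (BT.leaf (nat_lit 26825233))) (BT.node (nat_lit 5505024) (BT.leaf (nat_lit 20533273)) (BT.leaf (nat_lit 26825237))))) (BT.node (nat_lit 5506112) (BT.node (nat_lit 5505728) (BT.node (nat_lit 5505408) (BT.leaf (nat_lit 26828317)) (BT.leaf (nat_lit 26137861))) (BT.node (nat_lit 5505792) (BT.leaf (nat_lit 20535569)) (BT.leaf (nat_lit 26830621)))) (BT.node (nat_lit 5506432) (BT.node (nat_lit 5506240) (BT.leaf (nat_lit 20536593)) (BT.leaf (nat_lit 22187013))) (BT.node (nat_lit 5506624) (BT.leaf (nat_lit 33613077)) (BT.leaf (nat_lit 26837789))))))) (BT.node (nat_lit 5508864) (BT.node (nat_lit 5507712) (BT.node (nat_lit 5507136) (BT.node (nat_lit 5506880) (BT.node (nat_lit 5506752) (BT.leaf (nat_lit 26837521)) (BT.leaf (nat_lit 37283101))) (BT.node (nat_lit 5506944) (BT.leaf (nat_lit 37284373)) (BT.leaf (nat_lit 20538389)))) (BT.node (nat_lit 5507584) (BT.node (nat_lit 5507200) (BT.leaf (nat_lit 26204441)) (BT.leaf (nat_lit 26840857))) (BT.node (nat_lit 5507648) (BT.leaf (nat_lit 26844445)) (BT.leaf (nat_lit 20539157))))) (BT.node (nat_lit 5508160) (BT.node (nat_lit 5507904) (BT.node (nat_lit 5507776) (BT.leaf (nat_lit 36655389)) (BT.leaf (nat_lit 26897157))) (BT.node (nat_lit 5507968) (BT.leaf (nat_lit 37284365)) (BT.leaf (nat_lit 36655137)))) (BT.node (nat_lit 5508736) (BT.node (nat_lit 5508672) (BT.leaf (nat_lit 22204185)) (BT.leaf (nat_lit 26850589))) (BT.node (nat_lit 5508800) (BT.leaf (nat_lit 20540949)) (BT.leaf (nat_lit 26851865)))))) (BT.node (nat_lit 5509760) (BT.node (nat_lit 5509312) (BT.node (nat_lit 5509056) (BT.node (nat_lit 5508992) (BT.leaf (nat_lit 20541205)) (BT.leaf (nat_lit 20541973))) (BT.node (nat_lit 5509120) (BT.leaf (nat_lit 22157849)) (BT.leaf (nat_lit 26854929)))) (BT.node (nat_lit 5509632) (BT.node (nat_lit 5509440) (BT.leaf (nat_lit 26856209)) (BT.leaf (nat_lit 26857233))) (BT.node (nat_lit 5509696) (BT.leaf (nat_lit 20543509)) (BT.leaf (nat_lit 22054169))))) (BT.node (nat_lit 5510272) (BT.node (nat_lit 5509888) (BT.node (nat_lit 5509824) (BT.leaf (nat_lit 26859793)) (BT.leaf (nat_lit 26816789))) (BT.node (nat_lit 5510208) (BT.leaf (nat_lit 26817821)) (BT.leaf (nat_lit 22284037)))) (BT.node (nat_lit 5510464) (BT.node (nat_lit 5510336) (BT.leaf (nat_lit 26859269)) (BT.leaf (nat_lit 20544537))) (BT.node (nat_lit 5510528) (BT.leaf (nat_lit 20544781)) (BT.leaf (nat_lit 20544793))))))))) (BT.node (nat_lit 5516800) (BT.node (nat_lit 5513984) (BT.node (nat_lit 5512448) (BT.node (nat_lit 5511552) (BT.node (nat_lit 5511168) (BT.node (nat_lit 5510848) (BT.node (nat_lit 5510784) (BT.leaf (nat_lit 26865689)) (BT.leaf (nat_lit 26269213))) (BT.node (nat_lit 5511040) (BT.leaf (nat_lit 20545301)) (BT.leaf (nat_lit 37679633)))) (BT.node (nat_lit 5511360) (BT.node (nat_lit 5511232) (BT.leaf (nat_lit 51340561)) (BT.leaf (nat_lit 52290593))) (BT.node (nat_lit 5511488) (BT.leaf (nat_lit 26239769)) (BT.leaf (nat_lit 26239757))))) (BT.node (nat_lit 5511872) (BT.node (nat_lit 5511680) (BT.node (nat_lit 5511616) (BT.leaf (nat_lit 26870297)) (BT.leaf (nat_lit 20546581))) (BT.node (nat_lit 5511744) (BT.leaf (nat_lit 22152709)) (BT.leaf (nat_lit 20546837)))) (BT.node (nat_lit 5512000) (BT.node (nat_lit 5511936) (BT.leaf (nat_lit 26872849)) (BT.leaf (nat_lit 52282629))) (BT.node (nat_lit 5512064) (BT.leaf (nat_lit 20547345)) (BT.leaf (nat_lit 23139085)))))) (BT.node (nat_lit 5513024) (BT.node (nat_lit 5512704) (BT.node (nat_lit 5512576) (BT.node (nat_lit 5512512) (BT.leaf (nat_lit 26877445)) (BT.leaf (nat_lit 20548369))) (BT.node (nat_lit 5512640) (BT.leaf (nat_lit 20548373)) (BT.leaf (nat_lit 20548629)))) (BT.node (nat_lit 5512832) (BT.node (nat_lit 5512768) (BT.leaf (nat_lit 26880273)) (BT.leaf (nat_lit 26880773))) (BT.node (nat_lit 5512896) (BT.leaf (nat_lit 20548881)) (BT.leaf (nat_lit 20548897))))) (BT.node (nat_lit 5513600) (BT.node (nat_lit 5513472) (BT.node (nat_lit 5513152) (BT.leaf (nat_lit 22264609)) (BT.leaf (nat_lit 22038789))) (BT.node (nat_lit 5513536) (BT.leaf (nat_lit 22054173)) (BT.leaf (nat_lit 26886933)))) (BT.node (nat_lit 5513856) (BT.node (nat_lit 5513728) (BT.leaf (nat_lit 20550673)) (BT.leaf (nat_lit 20550933))) (BT.node (nat_lit 5513920) (BT.leaf (nat_lit 26889233)) (BT.leaf (nat_lit 20551185))))))) (BT.node (nat_lit 5515200) (BT.node (nat_lit 5514560) (BT.node (nat_lit 5514240) (BT.node (nat_lit 5514112) (BT.node (nat_lit 5514048) (BT.leaf (nat_lit 20551201)) (BT.leaf (nat_lit 22047001))) (BT.node (nat_lit 5514176) (BT.leaf (nat_lit 26816025)) (BT.leaf (nat_lit 22046989)))) (BT.node (nat_lit 5514368) (BT.node (nat_lit 5514304) (BT.leaf (nat_lit 21872645)) (BT.leaf (nat_lit 20551701))) (BT.node (nat_lit 5514496) (BT.leaf (nat_lit 37640733)) (BT.leaf (nat_lit 26892805))))) (BT.node (nat_lit 5514944) (BT.node (nat_lit 5514688) (BT.node (nat_lit 5514624) (BT.leaf (nat_lit 26891541)) (BT.leaf (nat_lit 24087829))) (BT.node (nat_lit 5514752) (BT.leaf (nat_lit 26894621)) (BT.leaf (nat_lit 20552725)))) (BT.node (nat_lit 5515072) (BT.node (nat_lit 5515008) (BT.leaf (nat_lit 20552977)) (BT.leaf (nat_lit 26596869))) (BT.node (nat_lit 5515136) (BT.leaf (nat_lit 20553237)) (BT.leaf (nat_lit 26898449)))))) (BT.node (nat_lit 5515776) (BT.node (nat_lit 5515520) (BT.node (nat_lit 5515392) (BT.node (nat_lit 5515264) (BT.leaf (nat_lit 26745093)) (BT.leaf (nat_lit 20553489))) (BT.node (nat_lit 5515456) (BT.leaf (nat_lit 22195225)) (BT.leaf (nat_lit 20554005)))) (BT.node (nat_lit 5515648) (BT.node (nat_lit 5515584) (BT.leaf (nat_lit 26069537)) (BT.leaf (nat_lit 20554261))) (BT.node (nat_lit 5515712) (BT.leaf (nat_lit 20554517)) (BT.leaf (nat_lit 26904081))))) (BT.node (nat_lit 5516224) (BT.node (nat_lit 5515968) (BT.node (nat_lit 5515840) (BT.leaf (nat_lit 22054157)) (BT.leaf (nat_lit 20554769))) (BT.node (nat_lit 5516160) (BT.leaf (nat_lit 20555029)) (BT.leaf (nat_lit 20555281)))) (BT.node (nat_lit 5516416) (BT.node (nat_lit 5516352) (BT.leaf (nat_lit 20555297)) (BT.leaf (nat_lit 22065693))) (BT.node (nat_lit 5516544) (BT.leaf (nat_lit 26910485)) (BT.leaf (nat_lit 50031389)))))))) (BT.node (nat_lit 5520768) (BT.node (nat_lit 5518976) (BT.node (nat_lit 5517888) (BT.node (nat_lit 5517632) (BT.node (nat_lit 5517504) (BT.node (nat_lit 5517376) (BT.leaf (nat_lit 20625173)) (BT.leaf (nat_lit 26042397))) (BT.node (nat_lit 5517568) (BT.leaf (nat_lit 26069517)) (BT.leaf (nat_lit 22024993)))) (BT.node (nat_lit 5517760) (BT.node (nat_lit 5517696) (BT.leaf (nat_lit 20557841)) (BT.leaf (nat_lit 26329365))) (BT.node (nat_lit 5517824) (BT.leaf (nat_lit 26354453)) (BT.leaf (nat_lit 26920209))))) (BT.node (nat_lit 5518272) (BT.node (nat_lit 5518016) (BT.node (nat_lit 5517952) (BT.leaf (nat_lit 26920721)) (BT.leaf (nat_lit 26921501))) (BT.node (nat_lit 5518144) (BT.leaf (nat_lit 20558617)) (BT.leaf (nat_lit 26921233)))) (BT.node (nat_lit 5518656) (BT.node (nat_lit 5518528) (BT.leaf (nat_lit 26921237)) (BT.leaf (nat_lit 22056225))) (BT.node (nat_lit 5518848) (BT.leaf (nat_lit 22056737)) (BT.leaf (nat_lit 21316885)))))) (BT.node (nat_lit 5519616) (BT.node (nat_lit 5519232) (BT.node (nat_lit 5519104) (BT.node (nat_lit 5519040) (BT.leaf (nat_lit 20561425)) (BT.leaf (nat_lit 20561681))) (BT.node (nat_lit 5519168) (BT.leaf (nat_lit 22070797)) (BT.leaf (nat_lit 20563217)))) (BT.node (nat_lit 5519424) (BT.node (nat_lit 5519360) (BT.leaf (nat_lit 20562709)) (BT.leaf (nat_lit 20562717))) (BT.node (nat_lit 5519488) (BT.leaf (nat_lit 20562961)) (BT.leaf (nat_lit 26930713))))) (BT.node (nat_lit 5520128) (BT.node (nat_lit 5519936) (BT.node (nat_lit 5519680) (BT.leaf (nat_lit 22078749)) (BT.leaf (nat_lit 26932501))) (BT.node (nat_lit 5520064) (BT.leaf (nat_lit 22261521)) (BT.leaf (nat_lit 22078481)))) (BT.node (nat_lit 5520576) (BT.node (nat_lit 5520256) (BT.leaf (nat_lit 23672601)) (BT.leaf (nat_lit 26936597))) (BT.node (nat_lit 5520640) (BT.leaf (nat_lit 26938385)) (BT.leaf (nat_lit 26938901))))))) (BT.node (nat_lit 5523456) (BT.node (nat_lit 5521984) (BT.node (nat_lit 5521408) (BT.node (nat_lit 5521024) (BT.node (nat_lit 5520960) (BT.leaf (nat_lit 26940437)) (BT.leaf (nat_lit 26934553))) (BT.node (nat_lit 5521152) (BT.leaf (nat_lit 22080281)) (BT.leaf (nat_lit 26919185)))) (BT.node (nat_lit 5521600) (BT.node (nat_lit 5521472) (BT.leaf (nat_lit 21708809)) (BT.leaf (nat_lit 26330117))) (BT.node (nat_lit 5521792) (BT.leaf (nat_lit 20569373)) (BT.leaf (nat_lit 36640005))))) (BT.node (nat_lit 5522816) (BT.node (nat_lit 5522624) (BT.node (nat_lit 5522240) (BT.leaf (nat_lit 20629269)) (BT.leaf (nat_lit 20760585))) (BT.node (nat_lit 5522688) (BT.leaf (nat_lit 50137869)) (BT.leaf (nat_lit 35987725)))) (BT.node (nat_lit 5523328) (BT.node (nat_lit 5523200) (BT.leaf (nat_lit 20572177)) (BT.leaf (nat_lit 21981189))) (BT.node (nat_lit 5523392) (BT.leaf (nat_lit 22911521)) (BT.leaf (nat_lit 20573465)))))) (BT.node (nat_lit 5524416) (BT.node (nat_lit 5524096) (BT.node (nat_lit 5523584) (BT.node (nat_lit 5523520) (BT.leaf (nat_lit 20573469)) (BT.leaf (nat_lit 22275089))) (BT.node (nat_lit 5524032) (BT.leaf (nat_lit 22094105)) (BT.leaf (nat_lit 22193953)))) (BT.node (nat_lit 5524288) (BT.node (nat_lit 5524160) (BT.leaf (nat_lit 20574745)) (BT.leaf (nat_lit 20574749))) (BT.node (nat_lit 5524352) (BT.leaf (nat_lit 22097437)) (BT.leaf (nat_lit 26961685))))) (BT.node (nat_lit 5525312) (BT.node (nat_lit 5524992) (BT.node (nat_lit 5524480) (BT.leaf (nat_lit 20575505)) (BT.leaf (nat_lit 20576017))) (BT.node (nat_lit 5525056) (BT.leaf (nat_lit 26051097)) (BT.leaf (nat_lit 26965777)))) (BT.node (nat_lit 5525568) (BT.node (nat_lit 5525440) (BT.leaf (nat_lit 26968345)) (BT.leaf (nat_lit 20577809))) (BT.node (nat_lit 5525632) (BT.leaf (nat_lit 20578073)) (BT.leaf (nat_lit 20578077))))))))))) (BT.node (nat_lit 5555712) (BT.node (nat_lit 5542656) (BT.node (nat_lit 5534400) (BT.node (nat_lit 5530816) (BT.node (nat_lit 5528640) (BT.node (nat_lit 5527040) (BT.node (nat_lit 5526592) (BT.node (nat_lit 5526400) (BT.node (nat_lit 5526272) (BT.leaf (nat_lit 51799817)) (BT.leaf (nat_lit 37559829))) (BT.node (nat_lit 5526528) (BT.leaf (nat_lit 20579857)) (BT.leaf (nat_lit 20970261)))) (BT.node (nat_lit 5526720) (BT.node (nat_lit 5526656) (BT.leaf (nat_lit 22118417)) (BT.leaf (nat_lit 22051605))) (BT.node (nat_lit 5526848) (BT.leaf (nat_lit 22106649)) (BT.leaf (nat_lit 26976017))))) (BT.node (nat_lit 5527488) (BT.node (nat_lit 5527296) (BT.node (nat_lit 5527168) (BT.leaf (nat_lit 20581393)) (BT.leaf (nat_lit 20581661))) (BT.node (nat_lit 5527360) (BT.leaf (nat_lit 25305621)) (BT.leaf (nat_lit 25003269)))) (BT.node (nat_lit 5528384) (BT.node (nat_lit 5527552) (BT.leaf (nat_lit 26980381)) (BT.leaf (nat_lit 25951521))) (BT.node (nat_lit 5528512) (BT.leaf (nat_lit 20584209)) (BT.leaf (nat_lit 26984213)))))) (BT.node (nat_lit 5529664) (BT.node (nat_lit 5529088) (BT.node (nat_lit 5528960) (BT.node (nat_lit 5528704) (BT.leaf (nat_lit 22114845)) (BT.leaf (nat_lit 21285393))) (BT.node (nat_lit 5529024) (BT.leaf (nat_lit 22116109)) (BT.leaf (nat_lit 26511125)))) (BT.node (nat_lit 5529216) (BT.node (nat_lit 5529152) (BT.leaf (nat_lit 20585745)) (BT.leaf (nat_lit 20586009))) (BT.node (nat_lit 5529600) (BT.leaf (nat_lit 20586013)) (BT.leaf (nat_lit 25103381))))) (BT.node (nat_lit 5530496) (BT.node (nat_lit 5529792) (BT.node (nat_lit 5529728) (BT.leaf (nat_lit 26336793)) (BT.leaf (nat_lit 26400021))) (BT.node (nat_lit 5529984) (BT.leaf (nat_lit 22118937)) (BT.leaf (nat_lit 25771809)))) (BT.node (nat_lit 5530688) (BT.node (nat_lit 5530560) (BT.leaf (nat_lit 22207009)) (BT.leaf (nat_lit 20588817))) (BT.node (nat_lit 5530752) (BT.leaf (nat_lit 26993945)) (BT.leaf (nat_lit 26994197))))))) (BT.node (nat_lit 5532608) (BT.node (nat_lit 5531520) (BT.node (nat_lit 5531136) (BT.node (nat_lit 5531008) (BT.node (nat_lit 5530944) (BT.leaf (nat_lit 20589589)) (BT.leaf (nat_lit 26995989))) (BT.node (nat_lit 5531072) (BT.leaf (nat_lit 51453957)) (BT.leaf (nat_lit 20589849)))) (BT.node (nat_lit 5531264) (BT.node (nat_lit 5531200) (BT.leaf (nat_lit 20589853)) (BT.leaf (nat_lit 22326293))) (BT.node (nat_lit 5531392) (BT.leaf (nat_lit 25033221)) (BT.leaf (nat_lit 24051729))))) (BT.node (nat_lit 5531840) (BT.node (nat_lit 5531648) (BT.node (nat_lit 5531584) (BT.leaf (nat_lit 26999825)) (BT.leaf (nat_lit 27000093))) (BT.node (nat_lit 5531776) (BT.leaf (nat_lit 22191637)) (BT.leaf (nat_lit 26851349)))) (BT.node (nat_lit 5532480) (BT.node (nat_lit 5531904) (BT.leaf (nat_lit 27001629)) (BT.leaf (nat_lit 22272545))) (BT.node (nat_lit 5532544) (BT.leaf (nat_lit 20592405)) (BT.leaf (nat_lit 27005969)))))) (BT.node (nat_lit 5533120) (BT.node (nat_lit 5532864) (BT.node (nat_lit 5532736) (BT.node (nat_lit 5532672) (BT.leaf (nat_lit 26558997)) (BT.leaf (nat_lit 25264389))) (BT.node (nat_lit 5532800) (BT.leaf (nat_lit 20593173)) (BT.leaf (nat_lit 20593177)))) (BT.node (nat_lit 5532992) (BT.node (nat_lit 5532928) (BT.leaf (nat_lit 20593181)) (BT.leaf (nat_lit 20593425))) (BT.node (nat_lit 5533056) (BT.leaf (nat_lit 27010845)) (BT.leaf (nat_lit 27011345))))) (BT.node (nat_lit 5534016) (BT.node (nat_lit 5533440) (BT.node (nat_lit 5533184) (BT.leaf (nat_lit 22132249)) (BT.leaf (nat_lit 27010581))) (BT.node (nat_lit 5533824) (BT.leaf (nat_lit 20594961)) (BT.leaf (nat_lit 21936409)))) (BT.node (nat_lit 5534272) (BT.node (nat_lit 5534208) (BT.leaf (nat_lit 26205981)) (BT.leaf (nat_lit 27017489))) (BT.node (nat_lit 5534336) (BT.leaf (nat_lit 27018265)) (BT.leaf (nat_lit 20596245)))))))) (BT.node (nat_lit 5538432) (BT.node (nat_lit 5536576) (BT.node (nat_lit 5535744) (BT.node (nat_lit 5534656) (BT.node (nat_lit 5534528) (BT.node (nat_lit 5534464) (BT.leaf (nat_lit 27019033)) (BT.leaf (nat_lit 20596501))) (BT.node (nat_lit 5534592) (BT.leaf (nat_lit 33730057)) (BT.leaf (nat_lit 37165085)))) (BT.node (nat_lit 5535104) (BT.node (nat_lit 5535040) (BT.leaf (nat_lit 37165065)) (BT.leaf (nat_lit 27022877))) (BT.node (nat_lit 5535168) (BT.leaf (nat_lit 27022609)) (BT.leaf (nat_lit 27023633))))) (BT.node (nat_lit 5536192) (BT.node (nat_lit 5535872) (BT.node (nat_lit 5535808) (BT.leaf (nat_lit 27026705)) (BT.leaf (nat_lit 27027737))) (BT.node (nat_lit 5535936) (BT.leaf (nat_lit 27027217)) (BT.leaf (nat_lit 25175301)))) (BT.node (nat_lit 5536320) (BT.node (nat_lit 5536256) (BT.leaf (nat_lit 20599569)) (BT.leaf (nat_lit 21303577))) (BT.node (nat_lit 5536384) (BT.leaf (nat_lit 20764445)) (BT.leaf (nat_lit 20599825)))))) (BT.node (nat_lit 5537472) (BT.node (nat_lit 5537152) (BT.node (nat_lit 5536832) (BT.node (nat_lit 5536640) (BT.leaf (nat_lit 20600345)) (BT.leaf (nat_lit 20600349))) (BT.node (nat_lit 5536896) (BT.leaf (nat_lit 20600849)) (BT.leaf (nat_lit 27231769)))) (BT.node (nat_lit 5537344) (BT.node (nat_lit 5537280) (BT.leaf (nat_lit 20601869)) (BT.leaf (nat_lit 20601885))) (BT.node (nat_lit 5537408) (BT.leaf (nat_lit 27035165)) (BT.leaf (nat_lit 20602133))))) (BT.node (nat_lit 5538048) (BT.node (nat_lit 5537728) (BT.node (nat_lit 5537536) (BT.leaf (nat_lit 27036185)) (BT.leaf (nat_lit 20602389))) (BT.node (nat_lit 5537984) (BT.leaf (nat_lit 52284685)) (BT.leaf (nat_lit 26231813)))) (BT.node (nat_lit 5538176) (BT.node (nat_lit 5538112) (BT.leaf (nat_lit 20603401)) (BT.leaf (nat_lit 21872925))) (BT.node (nat_lit 5538240) (BT.leaf (nat_lit 27038493)) (BT.leaf (nat_lit 20603669))))))) (BT.node (nat_lit 5540224) (BT.node (nat_lit 5539648) (BT.node (nat_lit 5539072) (BT.node (nat_lit 5538816) (BT.node (nat_lit 5538688) (BT.leaf (nat_lit 20603933)) (BT.leaf (nat_lit 27041809))) (BT.node (nat_lit 5538880) (BT.leaf (nat_lit 20604689)) (BT.leaf (nat_lit 22217989)))) (BT.node (nat_lit 5539456) (BT.node (nat_lit 5539392) (BT.leaf (nat_lit 26255897)) (BT.leaf (nat_lit 22053893))) (BT.node (nat_lit 5539584) (BT.leaf (nat_lit 27047957)) (BT.leaf (nat_lit 26281241))))) (BT.node (nat_lit 5539968) (BT.node (nat_lit 5539776) (BT.node (nat_lit 5539712) (BT.leaf (nat_lit 20606485)) (BT.leaf (nat_lit 20606741))) (BT.node (nat_lit 5539904) (BT.leaf (nat_lit 27050513)) (BT.leaf (nat_lit 20606993)))) (BT.node (nat_lit 5540096) (BT.node (nat_lit 5540032) (BT.leaf (nat_lit 22230021)) (BT.leaf (nat_lit 20607253))) (BT.node (nat_lit 5540160) (BT.leaf (nat_lit 27052561)) (BT.leaf (nat_lit 22160409)))))) (BT.node (nat_lit 5541184) (BT.node (nat_lit 5540544) (BT.node (nat_lit 5540416) (BT.node (nat_lit 5540352) (BT.leaf (nat_lit 20607505)) (BT.leaf (nat_lit 22062085))) (BT.node (nat_lit 5540480) (BT.leaf (nat_lit 20607765)) (BT.leaf (nat_lit 20608021)))) (BT.node (nat_lit 5540672) (BT.node (nat_lit 5540608) (BT.leaf (nat_lit 27056401)) (BT.leaf (nat_lit 22157837))) (BT.node (nat_lit 5540736) (BT.leaf (nat_lit 20608273)) (BT.leaf (nat_lit 21121821))))) (BT.node (nat_lit 5542208) (BT.node (nat_lit 5541888) (BT.node (nat_lit 5541248) (BT.leaf (nat_lit 26258197)) (BT.leaf (nat_lit 20610065))) (BT.node (nat_lit 5542144) (BT.leaf (nat_lit 24941341)) (BT.leaf (nat_lit 26396165)))) (BT.node (nat_lit 5542464) (BT.node (nat_lit 5542272) (BT.leaf (nat_lit 22143517)) (BT.leaf (nat_lit 27026973))) (BT.node (nat_lit 5542592) (BT.leaf (nat_lit 27067417)) (BT.leaf (nat_lit 20613137))))))))) (BT.node (nat_lit 5550720) (BT.node (nat_lit 5547008) (BT.node (nat_lit 5544512) (BT.node (nat_lit 5543744) (BT.node (nat_lit 5543168) (BT.node (nat_lit 5542848) (BT.node (nat_lit 5542720) (BT.leaf (nat_lit 20613393)) (BT.leaf (nat_lit 20613653))) (BT.node (nat_lit 5543040) (BT.leaf (nat_lit 20613661)) (BT.leaf (nat_lit 37674253)))) (BT.node (nat_lit 5543360) (BT.node (nat_lit 5543296) (BT.leaf (nat_lit 52204313)) (BT.leaf (nat_lit 52273413))) (BT.node (nat_lit 5543488) (BT.leaf (nat_lit 20614673)) (BT.leaf (nat_lit 35853573))))) (BT.node (nat_lit 5544128) (BT.node (nat_lit 5543936) (BT.node (nat_lit 5543872) (BT.leaf (nat_lit 21632793)) (BT.leaf (nat_lit 23962909))) (BT.node (nat_lit 5544064) (BT.leaf (nat_lit 20615697)) (BT.leaf (nat_lit 27077909)))) (BT.node (nat_lit 5544256) (BT.node (nat_lit 5544192) (BT.leaf (nat_lit 20616469)) (BT.leaf (nat_lit 20616473))) (BT.node (nat_lit 5544384) (BT.leaf (nat_lit 20616477)) (BT.leaf (nat_lit 27081493)))))) (BT.node (nat_lit 5546176) (BT.node (nat_lit 5545536) (BT.node (nat_lit 5545088) (BT.node (nat_lit 5544960) (BT.leaf (nat_lit 26648081)) (BT.leaf (nat_lit 20617749))) (BT.node (nat_lit 5545216) (BT.leaf (nat_lit 20617757)) (BT.leaf (nat_lit 27086869)))) (BT.node (nat_lit 5546048) (BT.node (nat_lit 5545792) (BT.leaf (nat_lit 21539605)) (BT.leaf (nat_lit 20619029))) (BT.node (nat_lit 5546112) (BT.leaf (nat_lit 21609241)) (BT.leaf (nat_lit 25250329))))) (BT.node (nat_lit 5546560) (BT.node (nat_lit 5546304) (BT.node (nat_lit 5546240) (BT.leaf (nat_lit 22184989)) (BT.leaf (nat_lit 27090961))) (BT.node (nat_lit 5546496) (BT.leaf (nat_lit 27091229)) (BT.leaf (nat_lit 20620309)))) (BT.node (nat_lit 5546752) (BT.node (nat_lit 5546688) (BT.leaf (nat_lit 20620313)) (BT.leaf (nat_lit 20620565))) (BT.node (nat_lit 5546880) (BT.leaf (nat_lit 27094801)) (BT.leaf (nat_lit 20620817))))))) (BT.node (nat_lit 5548736) (BT.node (nat_lit 5547520) (BT.node (nat_lit 5547264) (BT.node (nat_lit 5547136) (BT.node (nat_lit 5547072) (BT.leaf (nat_lit 27096597)) (BT.leaf (nat_lit 27021841))) (BT.node (nat_lit 5547200) (BT.leaf (nat_lit 21777925)) (BT.leaf (nat_lit 27097625)))) (BT.node (nat_lit 5547392) (BT.node (nat_lit 5547328) (BT.leaf (nat_lit 27097873)) (BT.leaf (nat_lit 27098385))) (BT.node (nat_lit 5547456) (BT.leaf (nat_lit 27098905)) (BT.leaf (nat_lit 20621593))))) (BT.node (nat_lit 5548224) (BT.node (nat_lit 5547904) (BT.node (nat_lit 5547712) (BT.leaf (nat_lit 20621597)) (BT.leaf (nat_lit 27101205))) (BT.node (nat_lit 5548032) (BT.leaf (nat_lit 20662305)) (BT.leaf (nat_lit 20663073)))) (BT.node (nat_lit 5548544) (BT.node (nat_lit 5548480) (BT.leaf (nat_lit 27000089)) (BT.leaf (nat_lit 20623893))) (BT.node (nat_lit 5548672) (BT.leaf (nat_lit 20623897)) (BT.leaf (nat_lit 20624145)))))) (BT.node (nat_lit 5549696) (BT.node (nat_lit 5549120) (BT.node (nat_lit 5548864) (BT.node (nat_lit 5548800) (BT.leaf (nat_lit 20624405)) (BT.leaf (nat_lit 52249093))) (BT.node (nat_lit 5548992) (BT.leaf (nat_lit 26116897)) (BT.leaf (nat_lit 36656917)))) (BT.node (nat_lit 5549312) (BT.node (nat_lit 5549248) (BT.leaf (nat_lit 25242629)) (BT.leaf (nat_lit 26576413))) (BT.node (nat_lit 5549440) (BT.leaf (nat_lit 21535765)) (BT.leaf (nat_lit 37284357))))) (BT.node (nat_lit 5550080) (BT.node (nat_lit 5549952) (BT.node (nat_lit 5549888) (BT.leaf (nat_lit 36656901)) (BT.leaf (nat_lit 26060549))) (BT.node (nat_lit 5550016) (BT.leaf (nat_lit 20626705)) (BT.leaf (nat_lit 25015557)))) (BT.node (nat_lit 5550464) (BT.node (nat_lit 5550272) (BT.leaf (nat_lit 20627981)) (BT.leaf (nat_lit 20627729))) (BT.node (nat_lit 5550528) (BT.leaf (nat_lit 27116061)) (BT.leaf (nat_lit 27115793)))))))) (BT.node (nat_lit 5553280) (BT.node (nat_lit 5552064) (BT.node (nat_lit 5551552) (BT.node (nat_lit 5551168) (BT.node (nat_lit 5550976) (BT.node (nat_lit 5550912) (BT.leaf (nat_lit 27117589)) (BT.leaf (nat_lit 37669149))) (BT.node (nat_lit 5551040) (BT.leaf (nat_lit 36656909)) (BT.leaf (nat_lit 27118609)))) (BT.node (nat_lit 5551296) (BT.node (nat_lit 5551232) (BT.leaf (nat_lit 20630033)) (BT.leaf (nat_lit 20630293))) (BT.node (nat_lit 5551488) (BT.leaf (nat_lit 37319713)) (BT.leaf (nat_lit 37167369))))) (BT.node (nat_lit 5551808) (BT.node (nat_lit 5551680) (BT.node (nat_lit 5551616) (BT.leaf (nat_lit 27121949)) (BT.leaf (nat_lit 20631061))) (BT.node (nat_lit 5551744) (BT.leaf (nat_lit 27122717)) (BT.leaf (nat_lit 20631317)))) (BT.node (nat_lit 5551936) (BT.node (nat_lit 5551872) (BT.leaf (nat_lit 25937177)) (BT.leaf (nat_lit 22152453))) (BT.node (nat_lit 5552000) (BT.leaf (nat_lit 27123741)) (BT.leaf (nat_lit 20631829)))))) (BT.node (nat_lit 5552640) (BT.node (nat_lit 5552320) (BT.node (nat_lit 5552192) (BT.node (nat_lit 5552128) (BT.leaf (nat_lit 22219529)) (BT.leaf (nat_lit 27124761))) (BT.node (nat_lit 5552256) (BT.leaf (nat_lit 20632341)) (BT.leaf (nat_lit 27125785)))) (BT.node (nat_lit 5552448) (BT.node (nat_lit 5552384) (BT.leaf (nat_lit 20632597)) (BT.leaf (nat_lit 20632853))) (BT.node (nat_lit 5552512) (BT.leaf (nat_lit 22210077)) (BT.leaf (nat_lit 27127569))))) (BT.node (nat_lit 5552960) (BT.node (nat_lit 5552832) (BT.node (nat_lit 5552768) (BT.leaf (nat_lit 20633365)) (BT.leaf (nat_lit 27130129))) (BT.node (nat_lit 5552896) (BT.leaf (nat_lit 20633617)) (BT.leaf (nat_lit 20633633)))) (BT.node (nat_lit 5553152) (BT.node (nat_lit 5553024) (BT.leaf (nat_lit 22292505)) (BT.leaf (nat_lit 20633877))) (BT.node (nat_lit 5553216) (BT.leaf (nat_lit 22292513)) (BT.leaf (nat_lit 26863377))))))) (BT.node (nat_lit 5554688) (BT.node (nat_lit 5554112) (BT.node (nat_lit 5553728) (BT.node (nat_lit 5553472) (BT.node (nat_lit 5553408) (BT.leaf (nat_lit 20634401)) (BT.leaf (nat_lit 20634901))) (BT.node (nat_lit 5553536) (BT.leaf (nat_lit 26873617)) (BT.leaf (nat_lit 22213913)))) (BT.node (nat_lit 5553920) (BT.node (nat_lit 5553792) (BT.leaf (nat_lit 26884101)) (BT.leaf (nat_lit 22214937))) (BT.node (nat_lit 5553984) (BT.leaf (nat_lit 20635925)) (BT.leaf (nat_lit 27139089))))) (BT.node (nat_lit 5554432) (BT.node (nat_lit 5554304) (BT.node (nat_lit 5554176) (BT.leaf (nat_lit 20636177)) (BT.leaf (nat_lit 20636193))) (BT.node (nat_lit 5554368) (BT.leaf (nat_lit 22217501)) (BT.leaf (nat_lit 27142161)))) (BT.node (nat_lit 5554560) (BT.node (nat_lit 5554496) (BT.leaf (nat_lit 20636689)) (BT.leaf (nat_lit 20636705))) (BT.node (nat_lit 5554624) (BT.leaf (nat_lit 22208025)) (BT.leaf (nat_lit 21327365)))))) (BT.node (nat_lit 5555200) (BT.node (nat_lit 5554944) (BT.node (nat_lit 5554816) (BT.node (nat_lit 5554752) (BT.leaf (nat_lit 22209305)) (BT.leaf (nat_lit 26093577))) (BT.node (nat_lit 5554880) (BT.leaf (nat_lit 27144217)) (BT.leaf (nat_lit 20637461)))) (BT.node (nat_lit 5555072) (BT.node (nat_lit 5555008) (BT.leaf (nat_lit 27144985)) (BT.leaf (nat_lit 20637717))) (BT.node (nat_lit 5555136) (BT.leaf (nat_lit 20637973)) (BT.leaf (nat_lit 22220829))))) (BT.node (nat_lit 5555456) (BT.node (nat_lit 5555328) (BT.node (nat_lit 5555264) (BT.leaf (nat_lit 27147281)) (BT.leaf (nat_lit 20638225))) (BT.node (nat_lit 5555392) (BT.leaf (nat_lit 20638241)) (BT.leaf (nat_lit 20638485)))) (BT.node (nat_lit 5555584) (BT.node (nat_lit 5555520) (BT.leaf (nat_lit 22222109)) (BT.leaf (nat_lit 27150353))) (BT.node (nat_lit 5555648) (BT.leaf (nat_lit 20638737)) (BT.leaf (nat_lit 20638753)))))))))) (BT.node (nat_lit 5568128) (BT.node (nat_lit 5560704) (BT.node (nat_lit 5558208) (BT.node (nat_lit 5556928) (BT.node (nat_lit 5556288) (BT.node (nat_lit 5556032) (BT.node (nat_lit 5555840) (BT.node (nat_lit 5555776) (BT.leaf (nat_lit 26892825)) (BT.leaf (nat_lit 20638997))) (BT.node (nat_lit 5555904) (BT.leaf (nat_lit 20639253)) (BT.leaf (nat_lit 26847249)))) (BT.node (nat_lit 5556160) (BT.node (nat_lit 5556096) (BT.leaf (nat_lit 20639505)) (BT.leaf (nat_lit 20639521))) (BT.node (nat_lit 5556224) (BT.leaf (nat_lit 27155993)) (BT.leaf (nat_lit 20639765))))) (BT.node (nat_lit 5556608) (BT.node (nat_lit 5556416) (BT.node (nat_lit 5556352) (BT.leaf (nat_lit 20640021)) (BT.leaf (nat_lit 22246405))) (BT.node (nat_lit 5556480) (BT.leaf (nat_lit 26240793)) (BT.leaf (nat_lit 20640273)))) (BT.node (nat_lit 5556736) (BT.node (nat_lit 5556672) (BT.leaf (nat_lit 20640533)) (BT.leaf (nat_lit 26901509))) (BT.node (nat_lit 5556864) (BT.leaf (nat_lit 27159057)) (BT.leaf (nat_lit 22162949)))))) (BT.node (nat_lit 5557440) (BT.node (nat_lit 5557184) (BT.node (nat_lit 5557056) (BT.node (nat_lit 5556992) (BT.leaf (nat_lit 20641045)) (BT.leaf (nat_lit 27161873))) (BT.node (nat_lit 5557120) (BT.leaf (nat_lit 20641053)) (BT.leaf (nat_lit 20641297)))) (BT.node (nat_lit 5557312) (BT.node (nat_lit 5557248) (BT.leaf (nat_lit 20641313)) (BT.leaf (nat_lit 20641557))) (BT.node (nat_lit 5557376) (BT.leaf (nat_lit 22229533)) (BT.leaf (nat_lit 27165713))))) (BT.node (nat_lit 5557760) (BT.node (nat_lit 5557632) (BT.node (nat_lit 5557504) (BT.leaf (nat_lit 20641809)) (BT.leaf (nat_lit 20641825))) (BT.node (nat_lit 5557696) (BT.leaf (nat_lit 20646925)) (BT.leaf (nat_lit 20642081)))) (BT.node (nat_lit 5557952) (BT.node (nat_lit 5557888) (BT.leaf (nat_lit 27167261)) (BT.leaf (nat_lit 20642585))) (BT.node (nat_lit 5558144) (BT.leaf (nat_lit 20642589)) (BT.leaf (nat_lit 24976665))))))) (BT.node (nat_lit 5559488) (BT.node (nat_lit 5558912) (BT.node (nat_lit 5558464) (BT.node (nat_lit 5558336) (BT.node (nat_lit 5558272) (BT.leaf (nat_lit 24683033)) (BT.leaf (nat_lit 20643605))) (BT.node (nat_lit 5558400) (BT.leaf (nat_lit 26862609)) (BT.leaf (nat_lit 22233369)))) (BT.node (nat_lit 5558592) (BT.node (nat_lit 5558528) (BT.leaf (nat_lit 20643873)) (BT.leaf (nat_lit 20644117))) (BT.node (nat_lit 5558656) (BT.leaf (nat_lit 27173137)) (BT.leaf (nat_lit 22234393))))) (BT.node (nat_lit 5559168) (BT.node (nat_lit 5559040) (BT.node (nat_lit 5558976) (BT.leaf (nat_lit 27175441)) (BT.leaf (nat_lit 27175953))) (BT.node (nat_lit 5559104) (BT.leaf (nat_lit 20644897)) (BT.leaf (nat_lit 20645141)))) (BT.node (nat_lit 5559296) (BT.node (nat_lit 5559232) (BT.leaf (nat_lit 21449501)) (BT.leaf (nat_lit 23096089))) (BT.node (nat_lit 5559360) (BT.leaf (nat_lit 20645393)) (BT.leaf (nat_lit 20645409)))))) (BT.node (nat_lit 5560000) (BT.node (nat_lit 5559744) (BT.node (nat_lit 5559616) (BT.node (nat_lit 5559552) (BT.leaf (nat_lit 22217221)) (BT.leaf (nat_lit 27180049))) (BT.node (nat_lit 5559680) (BT.leaf (nat_lit 20646161)) (BT.leaf (nat_lit 20646177)))) (BT.node (nat_lit 5559872) (BT.node (nat_lit 5559808) (BT.leaf (nat_lit 22212121)) (BT.leaf (nat_lit 22232597))) (BT.node (nat_lit 5559936) (BT.leaf (nat_lit 20646677)) (BT.leaf (nat_lit 27182097))))) (BT.node (nat_lit 5560256) (BT.node (nat_lit 5560128) (BT.node (nat_lit 5560064) (BT.leaf (nat_lit 22239769)) (BT.leaf (nat_lit 20646929))) (BT.node (nat_lit 5560192) (BT.leaf (nat_lit 20646945)) (BT.leaf (nat_lit 20647189)))) (BT.node (nat_lit 5560512) (BT.node (nat_lit 5560384) (BT.leaf (nat_lit 27184913)) (BT.leaf (nat_lit 20647441))) (BT.node (nat_lit 5560576) (BT.leaf (nat_lit 20647701)) (BT.leaf (nat_lit 20647705)))))))) (BT.node (nat_lit 5563840) (BT.node (nat_lit 5561792) (BT.node (nat_lit 5561216) (BT.node (nat_lit 5560960) (BT.node (nat_lit 5560832) (BT.node (nat_lit 5560768) (BT.leaf (nat_lit 20647953)) (BT.leaf (nat_lit 20647969))) (BT.node (nat_lit 5560896) (BT.leaf (nat_lit 20648469)) (BT.leaf (nat_lit 22229253)))) (BT.node (nat_lit 5561088) (BT.node (nat_lit 5561024) (BT.leaf (nat_lit 27191569)) (BT.leaf (nat_lit 20648721))) (BT.node (nat_lit 5561152) (BT.leaf (nat_lit 20648737)) (BT.leaf (nat_lit 20648981))))) (BT.node (nat_lit 5561536) (BT.node (nat_lit 5561344) (BT.node (nat_lit 5561280) (BT.leaf (nat_lit 22195233)) (BT.leaf (nat_lit 22291725))) (BT.node (nat_lit 5561408) (BT.leaf (nat_lit 21971737)) (BT.leaf (nat_lit 20649233)))) (BT.node (nat_lit 5561664) (BT.node (nat_lit 5561600) (BT.leaf (nat_lit 20649493)) (BT.leaf (nat_lit 27196945))) (BT.node (nat_lit 5561728) (BT.leaf (nat_lit 22246425)) (BT.leaf (nat_lit 22231829)))))) (BT.node (nat_lit 5562688) (BT.node (nat_lit 5562432) (BT.node (nat_lit 5561984) (BT.node (nat_lit 5561920) (BT.leaf (nat_lit 20649745)) (BT.leaf (nat_lit 22247965))) (BT.node (nat_lit 5562368) (BT.leaf (nat_lit 26761477)) (BT.leaf (nat_lit 27201813)))) (BT.node (nat_lit 5562560) (BT.node (nat_lit 5562496) (BT.leaf (nat_lit 27202325)) (BT.leaf (nat_lit 20651541))) (BT.node (nat_lit 5562624) (BT.leaf (nat_lit 27203857)) (BT.leaf (nat_lit 27204369))))) (BT.node (nat_lit 5563072) (BT.node (nat_lit 5562816) (BT.node (nat_lit 5562752) (BT.leaf (nat_lit 20651793)) (BT.leaf (nat_lit 27144721))) (BT.node (nat_lit 5562880) (BT.leaf (nat_lit 22251033)) (BT.leaf (nat_lit 26611729)))) (BT.node (nat_lit 5563584) (BT.node (nat_lit 5563392) (BT.leaf (nat_lit 26063905)) (BT.leaf (nat_lit 20653585))) (BT.node (nat_lit 5563712) (BT.leaf (nat_lit 22313497)) (BT.leaf (nat_lit 25825801))))))) (BT.node (nat_lit 5566464) (BT.node (nat_lit 5565312) (BT.node (nat_lit 5564736) (BT.node (nat_lit 5564032) (BT.node (nat_lit 5563904) (BT.leaf (nat_lit 22250017)) (BT.leaf (nat_lit 20654617))) (BT.node (nat_lit 5564224) (BT.leaf (nat_lit 27212817)) (BT.leaf (nat_lit 27212821)))) (BT.node (nat_lit 5564928) (BT.node (nat_lit 5564864) (BT.leaf (nat_lit 26820121)) (BT.leaf (nat_lit 27215889))) (BT.node (nat_lit 5564992) (BT.leaf (nat_lit 27216401)) (BT.leaf (nat_lit 27216921))))) (BT.node (nat_lit 5566144) (BT.node (nat_lit 5565504) (BT.node (nat_lit 5565376) (BT.leaf (nat_lit 27218453)) (BT.leaf (nat_lit 27218965))) (BT.node (nat_lit 5565888) (BT.leaf (nat_lit 27219473)) (BT.leaf (nat_lit 27221269)))) (BT.node (nat_lit 5566336) (BT.node (nat_lit 5566208) (BT.leaf (nat_lit 22291737)) (BT.leaf (nat_lit 27223569))) (BT.node (nat_lit 5566400) (BT.leaf (nat_lit 27010325)) (BT.leaf (nat_lit 27011613)))))) (BT.node (nat_lit 5567616) (BT.node (nat_lit 5567104) (BT.node (nat_lit 5566720) (BT.node (nat_lit 5566656) (BT.leaf (nat_lit 20658961)) (BT.leaf (nat_lit 27033625))) (BT.node (nat_lit 5567040) (BT.leaf (nat_lit 20659221)) (BT.leaf (nat_lit 22035485)))) (BT.node (nat_lit 5567296) (BT.node (nat_lit 5567232) (BT.leaf (nat_lit 22035465)) (BT.leaf (nat_lit 20660497))) (BT.node (nat_lit 5567488) (BT.leaf (nat_lit 20662045)) (BT.leaf (nat_lit 20664073))))) (BT.node (nat_lit 5567872) (BT.node (nat_lit 5567744) (BT.node (nat_lit 5567680) (BT.leaf (nat_lit 20661269)) (BT.leaf (nat_lit 27232017))) (BT.node (nat_lit 5567808) (BT.leaf (nat_lit 22270745)) (BT.leaf (nat_lit 20664093)))) (BT.node (nat_lit 5568000) (BT.node (nat_lit 5567936) (BT.leaf (nat_lit 20661537)) (BT.leaf (nat_lit 20661781))) (BT.node (nat_lit 5568064) (BT.leaf (nat_lit 22272285)) (BT.leaf (nat_lit 26734353))))))))) (BT.node (nat_lit 5573632) (BT.node (nat_lit 5570496) (BT.node (nat_lit 5569408) (BT.node (nat_lit 5568896) (BT.node (nat_lit 5568576) (BT.node (nat_lit 5568448) (BT.node (nat_lit 5568320) (BT.leaf (nat_lit 20662025)) (BT.leaf (nat_lit 20662801))) (BT.node (nat_lit 5568512) (BT.leaf (nat_lit 20663317)) (BT.leaf (nat_lit 27237649)))) (BT.node (nat_lit 5568704) (BT.node (nat_lit 5568640) (BT.leaf (nat_lit 22274073)) (BT.leaf (nat_lit 20663569))) (BT.node (nat_lit 5568768) (BT.leaf (nat_lit 20663585)) (BT.leaf (nat_lit 20663829))))) (BT.node (nat_lit 5569152) (BT.node (nat_lit 5569024) (BT.node (nat_lit 5568960) (BT.leaf (nat_lit 27240977)) (BT.leaf (nat_lit 20664081))) (BT.node (nat_lit 5569088) (BT.leaf (nat_lit 20664097)) (BT.leaf (nat_lit 22028549)))) (BT.node (nat_lit 5569280) (BT.node (nat_lit 5569216) (BT.leaf (nat_lit 22290205)) (BT.leaf (nat_lit 20664337))) (BT.node (nat_lit 5569344) (BT.leaf (nat_lit 22290185)) (BT.leaf (nat_lit 27243805)))))) (BT.node (nat_lit 5569920) (BT.node (nat_lit 5569664) (BT.node (nat_lit 5569536) (BT.node (nat_lit 5569472) (BT.leaf (nat_lit 20664597)) (BT.leaf (nat_lit 21539357))) (BT.node (nat_lit 5569600) (BT.leaf (nat_lit 27245081)) (BT.leaf (nat_lit 20664853)))) (BT.node (nat_lit 5569792) (BT.node (nat_lit 5569728) (BT.leaf (nat_lit 20665113)) (BT.leaf (nat_lit 27245829))) (BT.node (nat_lit 5569856) (BT.leaf (nat_lit 20665353)) (BT.leaf (nat_lit 20665357))))) (BT.node (nat_lit 5570176) (BT.node (nat_lit 5570048) (BT.node (nat_lit 5569984) (BT.leaf (nat_lit 20665361)) (BT.leaf (nat_lit 20665369))) (BT.node (nat_lit 5570112) (BT.leaf (nat_lit 20665373)) (BT.leaf (nat_lit 27249181)))) (BT.node (nat_lit 5570368) (BT.node (nat_lit 5570304) (BT.leaf (nat_lit 20665621)) (BT.leaf (nat_lit 20665877))) (BT.node (nat_lit 5570432) (BT.leaf (nat_lit 20666129)) (BT.leaf (nat_lit 20666393))))))) (BT.node (nat_lit 5572288) (BT.node (nat_lit 5571456) (BT.node (nat_lit 5570944) (BT.node (nat_lit 5570624) (BT.node (nat_lit 5570560) (BT.leaf (nat_lit 20666397)) (BT.leaf (nat_lit 27106069))) (BT.node (nat_lit 5570688) (BT.leaf (nat_lit 27106845)) (BT.leaf (nat_lit 20666641)))) (BT.node (nat_lit 5571072) (BT.node (nat_lit 5571008) (BT.leaf (nat_lit 27255317)) (BT.leaf (nat_lit 27255825))) (BT.node (nat_lit 5571264) (BT.leaf (nat_lit 27223045)) (BT.leaf (nat_lit 20667421))))) (BT.node (nat_lit 5571840) (BT.node (nat_lit 5571648) (BT.node (nat_lit 5571520) (BT.leaf (nat_lit 20667665)) (BT.leaf (nat_lit 26276873))) (BT.node (nat_lit 5571776) (BT.leaf (nat_lit 22052625)) (BT.leaf (nat_lit 52046349)))) (BT.node (nat_lit 5572096) (BT.node (nat_lit 5571968) (BT.leaf (nat_lit 20668181)) (BT.leaf (nat_lit 20668445))) (BT.node (nat_lit 5572160) (BT.leaf (nat_lit 37283081)) (BT.leaf (nat_lit 37676809)))))) (BT.node (nat_lit 5573120) (BT.node (nat_lit 5572672) (BT.node (nat_lit 5572480) (BT.node (nat_lit 5572416) (BT.leaf (nat_lit 27243293)) (BT.leaf (nat_lit 25709317))) (BT.node (nat_lit 5572544) (BT.leaf (nat_lit 27234329)) (BT.leaf (nat_lit 20669717)))) (BT.node (nat_lit 5572864) (BT.node (nat_lit 5572736) (BT.leaf (nat_lit 20669973)) (BT.leaf (nat_lit 20671249))) (BT.node (nat_lit 5572928) (BT.leaf (nat_lit 22291741)) (BT.leaf (nat_lit 27267349))))) (BT.node (nat_lit 5573376) (BT.node (nat_lit 5573248) (BT.node (nat_lit 5573184) (BT.leaf (nat_lit 52282381)) (BT.leaf (nat_lit 27131165))) (BT.node (nat_lit 5573312) (BT.leaf (nat_lit 33035537)) (BT.leaf (nat_lit 22306077)))) (BT.node (nat_lit 5573504) (BT.node (nat_lit 5573440) (BT.leaf (nat_lit 22634245)) (BT.leaf (nat_lit 21069065))) (BT.node (nat_lit 5573568) (BT.leaf (nat_lit 21069069)) (BT.leaf (nat_lit 21069081)))))))) (BT.node (nat_lit 5575680) (BT.node (nat_lit 5574656) (BT.node (nat_lit 5574144) (BT.node (nat_lit 5573888) (BT.node (nat_lit 5573760) (BT.node (nat_lit 5573696) (BT.leaf (nat_lit 21069085)) (BT.leaf (nat_lit 51428869))) (BT.node (nat_lit 5573824) (BT.leaf (nat_lit 23891229)) (BT.leaf (nat_lit 20883481)))) (BT.node (nat_lit 5574016) (BT.node (nat_lit 5573952) (BT.leaf (nat_lit 20883485)) (BT.leaf (nat_lit 33037597))) (BT.node (nat_lit 5574080) (BT.leaf (nat_lit 33038609)) (BT.leaf (nat_lit 33039389))))) (BT.node (nat_lit 5574400) (BT.node (nat_lit 5574272) (BT.node (nat_lit 5574208) (BT.leaf (nat_lit 34007573)) (BT.leaf (nat_lit 33039885))) (BT.node (nat_lit 5574336) (BT.leaf (nat_lit 33040149)) (BT.leaf (nat_lit 33040413)))) (BT.node (nat_lit 5574528) (BT.node (nat_lit 5574464) (BT.leaf (nat_lit 23207941)) (BT.leaf (nat_lit 25338897))) (BT.node (nat_lit 5574592) (BT.leaf (nat_lit 34080021)) (BT.leaf (nat_lit 24034577)))))) (BT.node (nat_lit 5575168) (BT.node (nat_lit 5574912) (BT.node (nat_lit 5574784) (BT.node (nat_lit 5574720) (BT.leaf (nat_lit 21345813)) (BT.leaf (nat_lit 23599621))) (BT.node (nat_lit 5574848) (BT.leaf (nat_lit 23842849)) (BT.leaf (nat_lit 21005337)))) (BT.node (nat_lit 5575040) (BT.node (nat_lit 5574976) (BT.leaf (nat_lit 29076769)) (BT.leaf (nat_lit 24459025))) (BT.node (nat_lit 5575104) (BT.leaf (nat_lit 24607517)) (BT.leaf (nat_lit 26449693))))) (BT.node (nat_lit 5575424) (BT.node (nat_lit 5575296) (BT.node (nat_lit 5575232) (BT.leaf (nat_lit 22358813)) (BT.leaf (nat_lit 20896017))) (BT.node (nat_lit 5575360) (BT.leaf (nat_lit 20875537)) (BT.leaf (nat_lit 20875541)))) (BT.node (nat_lit 5575552) (BT.node (nat_lit 5575488) (BT.leaf (nat_lit 21585441)) (BT.leaf (nat_lit 20988189))) (BT.node (nat_lit 5575616) (BT.leaf (nat_lit 33043217)) (BT.leaf (nat_lit 23726617))))))) (BT.node (nat_lit 5576704) (BT.node (nat_lit 5576192) (BT.node (nat_lit 5575936) (BT.node (nat_lit 5575808) (BT.node (nat_lit 5575744) (BT.leaf (nat_lit 23793685)) (BT.leaf (nat_lit 23793693))) (BT.node (nat_lit 5575872) (BT.leaf (nat_lit 21669401)) (BT.leaf (nat_lit 20698653)))) (BT.node (nat_lit 5576064) (BT.node (nat_lit 5576000) (BT.leaf (nat_lit 20698633)) (BT.leaf (nat_lit 21669389))) (BT.node (nat_lit 5576128) (BT.leaf (nat_lit 26327829)) (BT.leaf (nat_lit 21250325))))) (BT.node (nat_lit 5576448) (BT.node (nat_lit 5576320) (BT.node (nat_lit 5576256) (BT.leaf (nat_lit 33045009)) (BT.leaf (nat_lit 22304793))) (BT.node (nat_lit 5576384) (BT.leaf (nat_lit 22357013)) (BT.leaf (nat_lit 27311365)))) (BT.node (nat_lit 5576576) (BT.node (nat_lit 5576512) (BT.leaf (nat_lit 22609169)) (BT.leaf (nat_lit 27449105))) (BT.node (nat_lit 5576640) (BT.leaf (nat_lit 22306073)) (BT.leaf (nat_lit 21068049)))))) (BT.node (nat_lit 5577216) (BT.node (nat_lit 5576960) (BT.node (nat_lit 5576832) (BT.node (nat_lit 5576768) (BT.leaf (nat_lit 21184517)) (BT.leaf (nat_lit 23354913))) (BT.node (nat_lit 5576896) (BT.leaf (nat_lit 33047837)) (BT.leaf (nat_lit 33048085)))) (BT.node (nat_lit 5577088) (BT.node (nat_lit 5577024) (BT.leaf (nat_lit 24566537)) (BT.leaf (nat_lit 25647889))) (BT.node (nat_lit 5577152) (BT.leaf (nat_lit 22422805)) (BT.leaf (nat_lit 33049633))))) (BT.node (nat_lit 5577472) (BT.node (nat_lit 5577344) (BT.node (nat_lit 5577280) (BT.leaf (nat_lit 22794517)) (BT.leaf (nat_lit 50034973))) (BT.node (nat_lit 5577408) (BT.leaf (nat_lit 50034953)) (BT.leaf (nat_lit 51096581)))) (BT.node (nat_lit 5577600) (BT.node (nat_lit 5577536) (BT.leaf (nat_lit 52071185)) (BT.leaf (nat_lit 23395101))) (BT.node (nat_lit 5577664) (BT.leaf (nat_lit 33050133)) (BT.leaf (nat_lit 29839137)))))))))))) (BT.node (nat_lit 5610496) (BT.node (nat_lit 5594112) (BT.node (nat_lit 5585920) (BT.node (nat_lit 5581824) (BT.node (nat_lit 5579776) (BT.node (nat_lit 5578752) (BT.node (nat_lit 5578240) (BT.node (nat_lit 5577984) (BT.node (nat_lit 5577856) (BT.node (nat_lit 5577792) (BT.leaf (nat_lit 29526805)) (BT.leaf (nat_lit 27714577))) (BT.node (nat_lit 5577920) (BT.leaf (nat_lit 22766609)) (BT.leaf (nat_lit 50726421)))) (BT.node (nat_lit 5578112) (BT.node (nat_lit 5578048) (BT.leaf (nat_lit 49827849)) (BT.leaf (nat_lit 21396769))) (BT.node (nat_lit 5578176) (BT.leaf (nat_lit 34912789)) (BT.leaf (nat_lit 26104593))))) (BT.node (nat_lit 5578496) (BT.node (nat_lit 5578368) (BT.node (nat_lit 5578304) (BT.leaf (nat_lit 25778453)) (BT.leaf (nat_lit 36512537))) (BT.node (nat_lit 5578432) (BT.leaf (nat_lit 26104081)) (BT.leaf (nat_lit 21404165)))) (BT.node (nat_lit 5578624) (BT.node (nat_lit 5578560) (BT.leaf (nat_lit 25582853)) (BT.leaf (nat_lit 23253281))) (BT.node (nat_lit 5578688) (BT.leaf (nat_lit 21775905)) (BT.leaf (nat_lit 21182745)))))) (BT.node (nat_lit 5579264) (BT.node (nat_lit 5579008) (BT.node (nat_lit 5578880) (BT.node (nat_lit 5578816) (BT.leaf (nat_lit 22490649)) (BT.leaf (nat_lit 22723345))) (BT.node (nat_lit 5578944) (BT.leaf (nat_lit 33054497)) (BT.leaf (nat_lit 21776929)))) (BT.node (nat_lit 5579136) (BT.node (nat_lit 5579072) (BT.leaf (nat_lit 21020441)) (BT.leaf (nat_lit 28053793))) (BT.node (nat_lit 5579200) (BT.leaf (nat_lit 20741149)) (BT.leaf (nat_lit 33124385))))) (BT.node (nat_lit 5579520) (BT.node (nat_lit 5579392) (BT.node (nat_lit 5579328) (BT.leaf (nat_lit 33055513)) (BT.leaf (nat_lit 21596181))) (BT.node (nat_lit 5579456) (BT.leaf (nat_lit 24495125)) (BT.leaf (nat_lit 21596441)))) (BT.node (nat_lit 5579648) (BT.node (nat_lit 5579584) (BT.leaf (nat_lit 22294817)) (BT.leaf (nat_lit 21457925))) (BT.node (nat_lit 5579712) (BT.leaf (nat_lit 25810197)) (BT.leaf (nat_lit 33535493))))))) (BT.node (nat_lit 5580800) (BT.node (nat_lit 5580288) (BT.node (nat_lit 5580032) (BT.node (nat_lit 5579904) (BT.node (nat_lit 5579840) (BT.leaf (nat_lit 22378529)) (BT.leaf (nat_lit 22378273))) (BT.node (nat_lit 5579968) (BT.leaf (nat_lit 30127633)) (BT.leaf (nat_lit 24559633)))) (BT.node (nat_lit 5580160) (BT.node (nat_lit 5580096) (BT.leaf (nat_lit 22319897)) (BT.leaf (nat_lit 21123353))) (BT.node (nat_lit 5580224) (BT.leaf (nat_lit 21151493)) (BT.leaf (nat_lit 23396885))))) (BT.node (nat_lit 5580544) (BT.node (nat_lit 5580416) (BT.node (nat_lit 5580352) (BT.leaf (nat_lit 21274913)) (BT.leaf (nat_lit 33059857))) (BT.node (nat_lit 5580480) (BT.leaf (nat_lit 33060633)) (BT.leaf (nat_lit 20685589)))) (BT.node (nat_lit 5580672) (BT.node (nat_lit 5580608) (BT.leaf (nat_lit 24944657)) (BT.leaf (nat_lit 33061657))) (BT.node (nat_lit 5580736) (BT.leaf (nat_lit 33061909)) (BT.leaf (nat_lit 33062173)))))) (BT.node (nat_lit 5581312) (BT.node (nat_lit 5581056) (BT.node (nat_lit 5580928) (BT.node (nat_lit 5580864) (BT.leaf (nat_lit 33442317)) (BT.leaf (nat_lit 33062933))) (BT.node (nat_lit 5580992) (BT.leaf (nat_lit 51218185)) (BT.leaf (nat_lit 21707033)))) (BT.node (nat_lit 5581184) (BT.node (nat_lit 5581120) (BT.leaf (nat_lit 25211921)) (BT.leaf (nat_lit 22324249))) (BT.node (nat_lit 5581248) (BT.leaf (nat_lit 21009433)) (BT.leaf (nat_lit 25521953))))) (BT.node (nat_lit 5581568) (BT.node (nat_lit 5581440) (BT.node (nat_lit 5581376) (BT.leaf (nat_lit 24790297)) (BT.leaf (nat_lit 48541957))) (BT.node (nat_lit 5581504) (BT.leaf (nat_lit 33065489)) (BT.leaf (nat_lit 25335301)))) (BT.node (nat_lit 5581696) (BT.node (nat_lit 5581632) (BT.leaf (nat_lit 21195037)) (BT.leaf (nat_lit 26026777))) (BT.node (nat_lit 5581760) (BT.leaf (nat_lit 23510557)) (BT.leaf (nat_lit 21122065)))))))) (BT.node (nat_lit 5583872) (BT.node (nat_lit 5582848) (BT.node (nat_lit 5582336) (BT.node (nat_lit 5582080) (BT.node (nat_lit 5581952) (BT.node (nat_lit 5581888) (BT.leaf (nat_lit 22696993)) (BT.leaf (nat_lit 27749917))) (BT.node (nat_lit 5582016) (BT.leaf (nat_lit 25592337)) (BT.leaf (nat_lit 20786441)))) (BT.node (nat_lit 5582208) (BT.node (nat_lit 5582144) (BT.leaf (nat_lit 27289885)) (BT.leaf (nat_lit 22566161))) (BT.node (nat_lit 5582272) (BT.leaf (nat_lit 33069089)) (BT.leaf (nat_lit 21770269))))) (BT.node (nat_lit 5582592) (BT.node (nat_lit 5582464) (BT.node (nat_lit 5582400) (BT.leaf (nat_lit 33069333)) (BT.leaf (nat_lit 21531413))) (BT.node (nat_lit 5582528) (BT.leaf (nat_lit 23494681)) (BT.leaf (nat_lit 33070873)))) (BT.node (nat_lit 5582720) (BT.node (nat_lit 5582656) (BT.leaf (nat_lit 33071121)) (BT.leaf (nat_lit 24616981))) (BT.node (nat_lit 5582784) (BT.leaf (nat_lit 22297877)) (BT.leaf (nat_lit 21000209)))))) (BT.node (nat_lit 5583360) (BT.node (nat_lit 5583104) (BT.node (nat_lit 5582976) (BT.node (nat_lit 5582912) (BT.leaf (nat_lit 22543109)) (BT.leaf (nat_lit 21214725))) (BT.node (nat_lit 5583040) (BT.leaf (nat_lit 20709393)) (BT.leaf (nat_lit 23124509)))) (BT.node (nat_lit 5583232) (BT.node (nat_lit 5583168) (BT.leaf (nat_lit 26520337)) (BT.leaf (nat_lit 46980361))) (BT.node (nat_lit 5583296) (BT.leaf (nat_lit 21142813)) (BT.leaf (nat_lit 33074205))))) (BT.node (nat_lit 5583616) (BT.node (nat_lit 5583488) (BT.node (nat_lit 5583424) (BT.leaf (nat_lit 28352533)) (BT.leaf (nat_lit 25213201))) (BT.node (nat_lit 5583552) (BT.leaf (nat_lit 22334237)) (BT.leaf (nat_lit 25483793)))) (BT.node (nat_lit 5583744) (BT.node (nat_lit 5583680) (BT.leaf (nat_lit 20690453)) (BT.leaf (nat_lit 47881505))) (BT.node (nat_lit 5583808) (BT.leaf (nat_lit 33076249)) (BT.leaf (nat_lit 33076497))))))) (BT.node (nat_lit 5584896) (BT.node (nat_lit 5584384) (BT.node (nat_lit 5584128) (BT.node (nat_lit 5584000) (BT.node (nat_lit 5583936) (BT.leaf (nat_lit 21035801)) (BT.leaf (nat_lit 21035805))) (BT.node (nat_lit 5584064) (BT.leaf (nat_lit 21164549)) (BT.leaf (nat_lit 34322969)))) (BT.node (nat_lit 5584256) (BT.node (nat_lit 5584192) (BT.leaf (nat_lit 25064717)) (BT.leaf (nat_lit 21368345))) (BT.node (nat_lit 5584320) (BT.leaf (nat_lit 26750493)) (BT.leaf (nat_lit 22924061))))) (BT.node (nat_lit 5584640) (BT.node (nat_lit 5584512) (BT.node (nat_lit 5584448) (BT.leaf (nat_lit 33078037)) (BT.leaf (nat_lit 20981533))) (BT.node (nat_lit 5584576) (BT.leaf (nat_lit 33078817)) (BT.leaf (nat_lit 21056781)))) (BT.node (nat_lit 5584768) (BT.node (nat_lit 5584704) (BT.leaf (nat_lit 21229333)) (BT.leaf (nat_lit 21780253))) (BT.node (nat_lit 5584832) (BT.leaf (nat_lit 23665433)) (BT.leaf (nat_lit 33079317)))))) (BT.node (nat_lit 5585408) (BT.node (nat_lit 5585152) (BT.node (nat_lit 5585024) (BT.node (nat_lit 5584960) (BT.leaf (nat_lit 21194013)) (BT.leaf (nat_lit 21399813))) (BT.node (nat_lit 5585088) (BT.leaf (nat_lit 22340381)) (BT.leaf (nat_lit 51221257)))) (BT.node (nat_lit 5585280) (BT.node (nat_lit 5585216) (BT.leaf (nat_lit 33080857)) (BT.leaf (nat_lit 33081121))) (BT.node (nat_lit 5585344) (BT.leaf (nat_lit 23050009)) (BT.leaf (nat_lit 33081617))))) (BT.node (nat_lit 5585664) (BT.node (nat_lit 5585536) (BT.node (nat_lit 5585472) (BT.leaf (nat_lit 33081885)) (BT.leaf (nat_lit 28078625))) (BT.node (nat_lit 5585600) (BT.leaf (nat_lit 25168925)) (BT.leaf (nat_lit 33082129)))) (BT.node (nat_lit 5585792) (BT.node (nat_lit 5585728) (BT.leaf (nat_lit 21013513)) (BT.leaf (nat_lit 22902297))) (BT.node (nat_lit 5585856) (BT.leaf (nat_lit 23456005)) (BT.leaf (nat_lit 22295045))))))))) (BT.node (nat_lit 5590016) (BT.node (nat_lit 5587968) (BT.node (nat_lit 5586944) (BT.node (nat_lit 5586432) (BT.node (nat_lit 5586176) (BT.node (nat_lit 5586048) (BT.node (nat_lit 5585984) (BT.leaf (nat_lit 51218181)) (BT.leaf (nat_lit 23615009))) (BT.node (nat_lit 5586112) (BT.leaf (nat_lit 22601233)) (BT.leaf (nat_lit 33084445)))) (BT.node (nat_lit 5586304) (BT.node (nat_lit 5586240) (BT.leaf (nat_lit 24796177)) (BT.leaf (nat_lit 25028125))) (BT.node (nat_lit 5586368) (BT.leaf (nat_lit 20703513)) (BT.leaf (nat_lit 20703517))))) (BT.node (nat_lit 5586688) (BT.node (nat_lit 5586560) (BT.node (nat_lit 5586496) (BT.leaf (nat_lit 27341837)) (BT.leaf (nat_lit 21032721))) (BT.node (nat_lit 5586624) (BT.leaf (nat_lit 23405341)) (BT.leaf (nat_lit 23877921)))) (BT.node (nat_lit 5586816) (BT.node (nat_lit 5586752) (BT.leaf (nat_lit 27312149)) (BT.leaf (nat_lit 22673429))) (BT.node (nat_lit 5586880) (BT.leaf (nat_lit 33088025)) (BT.leaf (nat_lit 22900501)))))) (BT.node (nat_lit 5587456) (BT.node (nat_lit 5587200) (BT.node (nat_lit 5587072) (BT.node (nat_lit 5587008) (BT.leaf (nat_lit 22900505)) (BT.leaf (nat_lit 22900509))) (BT.node (nat_lit 5587136) (BT.leaf (nat_lit 22799641)) (BT.leaf (nat_lit 22924045)))) (BT.node (nat_lit 5587328) (BT.node (nat_lit 5587264) (BT.leaf (nat_lit 20679189)) (BT.leaf (nat_lit 25683221))) (BT.node (nat_lit 5587392) (BT.leaf (nat_lit 22924057)) (BT.leaf (nat_lit 22337313))))) (BT.node (nat_lit 5587712) (BT.node (nat_lit 5587584) (BT.node (nat_lit 5587520) (BT.leaf (nat_lit 20698385)) (BT.leaf (nat_lit 20698909))) (BT.node (nat_lit 5587648) (BT.leaf (nat_lit 27198485)) (BT.leaf (nat_lit 31304481)))) (BT.node (nat_lit 5587840) (BT.node (nat_lit 5587776) (BT.leaf (nat_lit 23498513)) (BT.leaf (nat_lit 51271457))) (BT.node (nat_lit 5587904) (BT.leaf (nat_lit 51538465)) (BT.leaf (nat_lit 21034009))))))) (BT.node (nat_lit 5588992) (BT.node (nat_lit 5588480) (BT.node (nat_lit 5588224) (BT.node (nat_lit 5588096) (BT.node (nat_lit 5588032) (BT.leaf (nat_lit 21034013)) (BT.leaf (nat_lit 23498265))) (BT.node (nat_lit 5588160) (BT.leaf (nat_lit 23497493)) (BT.leaf (nat_lit 22636825)))) (BT.node (nat_lit 5588352) (BT.node (nat_lit 5588288) (BT.leaf (nat_lit 36381977)) (BT.leaf (nat_lit 23068701))) (BT.node (nat_lit 5588416) (BT.leaf (nat_lit 23434257)) (BT.leaf (nat_lit 24207117))))) (BT.node (nat_lit 5588736) (BT.node (nat_lit 5588608) (BT.node (nat_lit 5588544) (BT.leaf (nat_lit 20855573)) (BT.leaf (nat_lit 22543377))) (BT.node (nat_lit 5588672) (BT.leaf (nat_lit 22354717)) (BT.leaf (nat_lit 33093649)))) (BT.node (nat_lit 5588864) (BT.node (nat_lit 5588800) (BT.leaf (nat_lit 23239185)) (BT.leaf (nat_lit 23238937))) (BT.node (nat_lit 5588928) (BT.leaf (nat_lit 33093917)) (BT.leaf (nat_lit 20999701)))))) (BT.node (nat_lit 5589504) (BT.node (nat_lit 5589248) (BT.node (nat_lit 5589120) (BT.node (nat_lit 5589056) (BT.leaf (nat_lit 25326613)) (BT.leaf (nat_lit 21519117))) (BT.node (nat_lit 5589184) (BT.leaf (nat_lit 25326365)) (BT.leaf (nat_lit 24115473)))) (BT.node (nat_lit 5589376) (BT.node (nat_lit 5589312) (BT.leaf (nat_lit 50734353)) (BT.leaf (nat_lit 22357017))) (BT.node (nat_lit 5589440) (BT.leaf (nat_lit 33095965)) (BT.leaf (nat_lit 20898061))))) (BT.node (nat_lit 5589760) (BT.node (nat_lit 5589632) (BT.node (nat_lit 5589568) (BT.leaf (nat_lit 22660357)) (BT.leaf (nat_lit 33097493))) (BT.node (nat_lit 5589696) (BT.leaf (nat_lit 22660381)) (BT.leaf (nat_lit 50682129)))) (BT.node (nat_lit 5589888) (BT.node (nat_lit 5589824) (BT.leaf (nat_lit 33098001)) (BT.leaf (nat_lit 34388001))) (BT.node (nat_lit 5589952) (BT.leaf (nat_lit 20699669)) (BT.leaf (nat_lit 30960161)))))))) (BT.node (nat_lit 5592064) (BT.node (nat_lit 5591040) (BT.node (nat_lit 5590528) (BT.node (nat_lit 5590272) (BT.node (nat_lit 5590144) (BT.node (nat_lit 5590080) (BT.leaf (nat_lit 33099285)) (BT.leaf (nat_lit 33099541))) (BT.node (nat_lit 5590208) (BT.leaf (nat_lit 22451469)) (BT.leaf (nat_lit 33097497)))) (BT.node (nat_lit 5590400) (BT.node (nat_lit 5590336) (BT.leaf (nat_lit 20701201)) (BT.leaf (nat_lit 33100549))) (BT.node (nat_lit 5590464) (BT.leaf (nat_lit 20700177)) (BT.leaf (nat_lit 20701465))))) (BT.node (nat_lit 5590784) (BT.node (nat_lit 5590656) (BT.node (nat_lit 5590592) (BT.leaf (nat_lit 21536017)) (BT.leaf (nat_lit 21224713))) (BT.node (nat_lit 5590720) (BT.leaf (nat_lit 22659873)) (BT.leaf (nat_lit 25357073)))) (BT.node (nat_lit 5590912) (BT.node (nat_lit 5590848) (BT.leaf (nat_lit 26004489)) (BT.leaf (nat_lit 20895005))) (BT.node (nat_lit 5590976) (BT.leaf (nat_lit 23568157)) (BT.leaf (nat_lit 24897045)))))) (BT.node (nat_lit 5591552) (BT.node (nat_lit 5591296) (BT.node (nat_lit 5591168) (BT.node (nat_lit 5591104) (BT.leaf (nat_lit 27570721)) (BT.leaf (nat_lit 25360149))) (BT.node (nat_lit 5591232) (BT.leaf (nat_lit 24897305)) (BT.leaf (nat_lit 23503109)))) (BT.node (nat_lit 5591424) (BT.node (nat_lit 5591360) (BT.leaf (nat_lit 20794133)) (BT.leaf (nat_lit 26049569))) (BT.node (nat_lit 5591488) (BT.leaf (nat_lit 26049313)) (BT.leaf (nat_lit 21260297))))) (BT.node (nat_lit 5591808) (BT.node (nat_lit 5591680) (BT.node (nat_lit 5591616) (BT.leaf (nat_lit 33106193)) (BT.leaf (nat_lit 33106197))) (BT.node (nat_lit 5591744) (BT.leaf (nat_lit 20834337)) (BT.leaf (nat_lit 21988373)))) (BT.node (nat_lit 5591936) (BT.node (nat_lit 5591872) (BT.leaf (nat_lit 23333649)) (BT.leaf (nat_lit 23833865))) (BT.node (nat_lit 5592000) (BT.leaf (nat_lit 20704277)) (BT.leaf (nat_lit 33108241))))))) (BT.node (nat_lit 5593088) (BT.node (nat_lit 5592576) (BT.node (nat_lit 5592320) (BT.node (nat_lit 5592192) (BT.node (nat_lit 5592128) (BT.leaf (nat_lit 33109273)) (BT.leaf (nat_lit 29911069))) (BT.node (nat_lit 5592256) (BT.leaf (nat_lit 20705041)) (BT.leaf (nat_lit 36361481)))) (BT.node (nat_lit 5592448) (BT.node (nat_lit 5592384) (BT.leaf (nat_lit 33110549)) (BT.leaf (nat_lit 27528993))) (BT.node (nat_lit 5592512) (BT.leaf (nat_lit 22321413)) (BT.leaf (nat_lit 22321433))))) (BT.node (nat_lit 5592832) (BT.node (nat_lit 5592704) (BT.node (nat_lit 5592640) (BT.leaf (nat_lit 27535125)) (BT.leaf (nat_lit 23717905))) (BT.node (nat_lit 5592768) (BT.leaf (nat_lit 27531781)) (BT.leaf (nat_lit 34420253)))) (BT.node (nat_lit 5592960) (BT.node (nat_lit 5592896) (BT.leaf (nat_lit 24138001)) (BT.leaf (nat_lit 23869445))) (BT.node (nat_lit 5593024) (BT.leaf (nat_lit 33483273)) (BT.leaf (nat_lit 20706833)))))) (BT.node (nat_lit 5593600) (BT.node (nat_lit 5593344) (BT.node (nat_lit 5593216) (BT.node (nat_lit 5593152) (BT.leaf (nat_lit 20706065)) (BT.leaf (nat_lit 20705809))) (BT.node (nat_lit 5593280) (BT.leaf (nat_lit 21137433)) (BT.leaf (nat_lit 21137421)))) (BT.node (nat_lit 5593472) (BT.node (nat_lit 5593408) (BT.leaf (nat_lit 21067553)) (BT.leaf (nat_lit 33115161))) (BT.node (nat_lit 5593536) (BT.leaf (nat_lit 33114897)) (BT.leaf (nat_lit 33115673))))) (BT.node (nat_lit 5593856) (BT.node (nat_lit 5593728) (BT.node (nat_lit 5593664) (BT.leaf (nat_lit 20998405)) (BT.leaf (nat_lit 22374941))) (BT.node (nat_lit 5593792) (BT.leaf (nat_lit 33116689)) (BT.leaf (nat_lit 33115669)))) (BT.node (nat_lit 5593984) (BT.node (nat_lit 5593920) (BT.leaf (nat_lit 27556357)) (BT.leaf (nat_lit 20707857))) (BT.node (nat_lit 5594048) (BT.leaf (nat_lit 22299669)) (BT.leaf (nat_lit 21051933)))))))))) (BT.node (nat_lit 5602304) (BT.node (nat_lit 5598208) (BT.node (nat_lit 5596160) (BT.node (nat_lit 5595136) (BT.node (nat_lit 5594624) (BT.node (nat_lit 5594368) (BT.node (nat_lit 5594240) (BT.node (nat_lit 5594176) (BT.leaf (nat_lit 33117461)) (BT.leaf (nat_lit 21233929))) (BT.node (nat_lit 5594304) (BT.leaf (nat_lit 33117981)) (BT.leaf (nat_lit 33117961)))) (BT.node (nat_lit 5594496) (BT.node (nat_lit 5594432) (BT.leaf (nat_lit 35469841)) (BT.leaf (nat_lit 33119009))) (BT.node (nat_lit 5594560) (BT.leaf (nat_lit 22914845)) (BT.leaf (nat_lit 23545109))))) (BT.node (nat_lit 5594880) (BT.node (nat_lit 5594752) (BT.node (nat_lit 5594688) (BT.leaf (nat_lit 24033801)) (BT.leaf (nat_lit 22481941))) (BT.node (nat_lit 5594816) (BT.leaf (nat_lit 22482449)) (BT.leaf (nat_lit 23069717)))) (BT.node (nat_lit 5595008) (BT.node (nat_lit 5594944) (BT.leaf (nat_lit 25598729)) (BT.leaf (nat_lit 21260049))) (BT.node (nat_lit 5595072) (BT.leaf (nat_lit 50524169)) (BT.leaf (nat_lit 33121041)))))) (BT.node (nat_lit 5595648) (BT.node (nat_lit 5595392) (BT.node (nat_lit 5595264) (BT.node (nat_lit 5595200) (BT.leaf (nat_lit 23705629)) (BT.leaf (nat_lit 21541653))) (BT.node (nat_lit 5595328) (BT.leaf (nat_lit 25107473)) (BT.leaf (nat_lit 49842701)))) (BT.node (nat_lit 5595520) (BT.node (nat_lit 5595456) (BT.leaf (nat_lit 21596437)) (BT.leaf (nat_lit 21596189))) (BT.node (nat_lit 5595584) (BT.leaf (nat_lit 24564509)) (BT.leaf (nat_lit 33123609))))) (BT.node (nat_lit 5595904) (BT.node (nat_lit 5595776) (BT.node (nat_lit 5595712) (BT.leaf (nat_lit 24721417)) (BT.leaf (nat_lit 21039637))) (BT.node (nat_lit 5595840) (BT.leaf (nat_lit 21374233)) (BT.leaf (nat_lit 21374237)))) (BT.node (nat_lit 5596032) (BT.node (nat_lit 5595968) (BT.leaf (nat_lit 23645209)) (BT.leaf (nat_lit 33124373))) (BT.node (nat_lit 5596096) (BT.leaf (nat_lit 50661893)) (BT.leaf (nat_lit 24361241))))))) (BT.node (nat_lit 5597184) (BT.node (nat_lit 5596672) (BT.node (nat_lit 5596416) (BT.node (nat_lit 5596288) (BT.node (nat_lit 5596224) (BT.leaf (nat_lit 22294801)) (BT.leaf (nat_lit 33125649))) (BT.node (nat_lit 5596352) (BT.leaf (nat_lit 25953821)) (BT.leaf (nat_lit 27057425)))) (BT.node (nat_lit 5596544) (BT.node (nat_lit 5596480) (BT.leaf (nat_lit 33126929)) (BT.leaf (nat_lit 21326617))) (BT.node (nat_lit 5596608) (BT.leaf (nat_lit 33127441)) (BT.leaf (nat_lit 33127701))))) (BT.node (nat_lit 5596928) (BT.node (nat_lit 5596800) (BT.node (nat_lit 5596736) (BT.leaf (nat_lit 33127445)) (BT.leaf (nat_lit 51817757))) (BT.node (nat_lit 5596864) (BT.leaf (nat_lit 24939025)) (BT.leaf (nat_lit 33130005)))) (BT.node (nat_lit 5597056) (BT.node (nat_lit 5596992) (BT.leaf (nat_lit 21000969)) (BT.leaf (nat_lit 21335045))) (BT.node (nat_lit 5597120) (BT.leaf (nat_lit 27597333)) (BT.leaf (nat_lit 51817993)))))) (BT.node (nat_lit 5597696) (BT.node (nat_lit 5597440) (BT.node (nat_lit 5597312) (BT.node (nat_lit 5597248) (BT.leaf (nat_lit 33128725)) (BT.leaf (nat_lit 33128985))) (BT.node (nat_lit 5597376) (BT.leaf (nat_lit 24769049)) (BT.leaf (nat_lit 23876381)))) (BT.node (nat_lit 5597568) (BT.node (nat_lit 5597504) (BT.leaf (nat_lit 20800017)) (BT.leaf (nat_lit 33166865))) (BT.node (nat_lit 5597632) (BT.leaf (nat_lit 33132317)) (BT.leaf (nat_lit 33132821))))) (BT.node (nat_lit 5597952) (BT.node (nat_lit 5597824) (BT.node (nat_lit 5597760) (BT.leaf (nat_lit 33132561)) (BT.leaf (nat_lit 33133853))) (BT.node (nat_lit 5597888) (BT.leaf (nat_lit 21039645)) (BT.leaf (nat_lit 33133329)))) (BT.node (nat_lit 5598080) (BT.node (nat_lit 5598016) (BT.leaf (nat_lit 21039901)) (BT.leaf (nat_lit 33134877))) (BT.node (nat_lit 5598144) (BT.leaf (nat_lit 24175137)) (BT.leaf (nat_lit 21258257)))))))) (BT.node (nat_lit 5600256) (BT.node (nat_lit 5599232) (BT.node (nat_lit 5598720) (BT.node (nat_lit 5598464) (BT.node (nat_lit 5598336) (BT.node (nat_lit 5598272) (BT.leaf (nat_lit 33135901)) (BT.leaf (nat_lit 20711949))) (BT.node (nat_lit 5598400) (BT.leaf (nat_lit 33136661)) (BT.leaf (nat_lit 50314257)))) (BT.node (nat_lit 5598592) (BT.node (nat_lit 5598528) (BT.leaf (nat_lit 20999709)) (BT.leaf (nat_lit 33137437))) (BT.node (nat_lit 5598656) (BT.leaf (nat_lit 33056797)) (BT.leaf (nat_lit 25611269))))) (BT.node (nat_lit 5598976) (BT.node (nat_lit 5598848) (BT.node (nat_lit 5598784) (BT.leaf (nat_lit 21825285)) (BT.leaf (nat_lit 23777041))) (BT.node (nat_lit 5598912) (BT.leaf (nat_lit 33138709)) (BT.leaf (nat_lit 26595353)))) (BT.node (nat_lit 5599104) (BT.node (nat_lit 5599040) (BT.leaf (nat_lit 25754385)) (BT.leaf (nat_lit 22160921))) (BT.node (nat_lit 5599168) (BT.leaf (nat_lit 21154053)) (BT.leaf (nat_lit 22396957)))))) (BT.node (nat_lit 5599744) (BT.node (nat_lit 5599488) (BT.node (nat_lit 5599360) (BT.node (nat_lit 5599296) (BT.leaf (nat_lit 22146321)) (BT.leaf (nat_lit 22384669))) (BT.node (nat_lit 5599424) (BT.leaf (nat_lit 22397725)) (BT.leaf (nat_lit 22384401)))) (BT.node (nat_lit 5599616) (BT.node (nat_lit 5599552) (BT.leaf (nat_lit 22398237)) (BT.leaf (nat_lit 33141009))) (BT.node (nat_lit 5599680) (BT.leaf (nat_lit 25222673)) (BT.leaf (nat_lit 33142301))))) (BT.node (nat_lit 5600000) (BT.node (nat_lit 5599872) (BT.node (nat_lit 5599808) (BT.leaf (nat_lit 24038149)) (BT.leaf (nat_lit 33142805))) (BT.node (nat_lit 5599936) (BT.leaf (nat_lit 24901905)) (BT.leaf (nat_lit 20814881)))) (BT.node (nat_lit 5600128) (BT.node (nat_lit 5600064) (BT.leaf (nat_lit 22457105)) (BT.leaf (nat_lit 20826913))) (BT.node (nat_lit 5600192) (BT.leaf (nat_lit 20714273)) (BT.leaf (nat_lit 20713757))))))) (BT.node (nat_lit 5601280) (BT.node (nat_lit 5600768) (BT.node (nat_lit 5600512) (BT.node (nat_lit 5600384) (BT.node (nat_lit 5600320) (BT.leaf (nat_lit 33144605)) (BT.leaf (nat_lit 26643473))) (BT.node (nat_lit 5600448) (BT.leaf (nat_lit 50364953)) (BT.leaf (nat_lit 21140745)))) (BT.node (nat_lit 5600640) (BT.node (nat_lit 5600576) (BT.leaf (nat_lit 21140749)) (BT.leaf (nat_lit 20970517))) (BT.node (nat_lit 5600704) (BT.leaf (nat_lit 21140761)) (BT.leaf (nat_lit 22972421))))) (BT.node (nat_lit 5601024) (BT.node (nat_lit 5600896) (BT.node (nat_lit 5600832) (BT.leaf (nat_lit 20713497)) (BT.leaf (nat_lit 22395665))) (BT.node (nat_lit 5600960) (BT.leaf (nat_lit 20715285)) (BT.leaf (nat_lit 22403609)))) (BT.node (nat_lit 5601152) (BT.node (nat_lit 5601088) (BT.leaf (nat_lit 33147669)) (BT.leaf (nat_lit 20947993))) (BT.node (nat_lit 5601216) (BT.leaf (nat_lit 25120533)) (BT.leaf (nat_lit 22278933)))))) (BT.node (nat_lit 5601792) (BT.node (nat_lit 5601536) (BT.node (nat_lit 5601408) (BT.node (nat_lit 5601344) (BT.leaf (nat_lit 20707353)) (BT.leaf (nat_lit 20715281))) (BT.node (nat_lit 5601472) (BT.leaf (nat_lit 20715793)) (BT.leaf (nat_lit 20970521)))) (BT.node (nat_lit 5601664) (BT.node (nat_lit 5601600) (BT.leaf (nat_lit 26701845)) (BT.leaf (nat_lit 35489037))) (BT.node (nat_lit 5601728) (BT.leaf (nat_lit 35648533)) (BT.leaf (nat_lit 25270297))))) (BT.node (nat_lit 5602048) (BT.node (nat_lit 5601920) (BT.node (nat_lit 5601856) (BT.leaf (nat_lit 20946205)) (BT.leaf (nat_lit 33148961))) (BT.node (nat_lit 5601984) (BT.leaf (nat_lit 25626885)) (BT.leaf (nat_lit 22377733)))) (BT.node (nat_lit 5602176) (BT.node (nat_lit 5602112) (BT.leaf (nat_lit 24313889)) (BT.leaf (nat_lit 20737809))) (BT.node (nat_lit 5602240) (BT.leaf (nat_lit 20737825)) (BT.leaf (nat_lit 21247005))))))))) (BT.node (nat_lit 5606400) (BT.node (nat_lit 5604352) (BT.node (nat_lit 5603328) (BT.node (nat_lit 5602816) (BT.node (nat_lit 5602560) (BT.node (nat_lit 5602432) (BT.node (nat_lit 5602368) (BT.leaf (nat_lit 29269281)) (BT.leaf (nat_lit 33151237))) (BT.node (nat_lit 5602496) (BT.leaf (nat_lit 23421973)) (BT.leaf (nat_lit 32320777)))) (BT.node (nat_lit 5602688) (BT.node (nat_lit 5602624) (BT.leaf (nat_lit 50369557)) (BT.leaf (nat_lit 20719121))) (BT.node (nat_lit 5602752) (BT.leaf (nat_lit 20676113)) (BT.leaf (nat_lit 26868257))))) (BT.node (nat_lit 5603072) (BT.node (nat_lit 5602944) (BT.node (nat_lit 5602880) (BT.leaf (nat_lit 33155861)) (BT.leaf (nat_lit 20720145))) (BT.node (nat_lit 5603008) (BT.leaf (nat_lit 33157141)) (BT.leaf (nat_lit 33157653)))) (BT.node (nat_lit 5603200) (BT.node (nat_lit 5603136) (BT.leaf (nat_lit 33157905)) (BT.leaf (nat_lit 33158161))) (BT.node (nat_lit 5603264) (BT.leaf (nat_lit 33158681)) (BT.leaf (nat_lit 35983889)))))) (BT.node (nat_lit 5603840) (BT.node (nat_lit 5603584) (BT.node (nat_lit 5603456) (BT.node (nat_lit 5603392) (BT.leaf (nat_lit 28480029)) (BT.leaf (nat_lit 33159705))) (BT.node (nat_lit 5603520) (BT.leaf (nat_lit 27678725)) (BT.leaf (nat_lit 33160477)))) (BT.node (nat_lit 5603712) (BT.node (nat_lit 5603648) (BT.leaf (nat_lit 24856337)) (BT.leaf (nat_lit 25100053))) (BT.node (nat_lit 5603776) (BT.leaf (nat_lit 34731525)) (BT.leaf (nat_lit 24536853))))) (BT.node (nat_lit 5604096) (BT.node (nat_lit 5603968) (BT.node (nat_lit 5603904) (BT.leaf (nat_lit 28916241)) (BT.leaf (nat_lit 26760965))) (BT.node (nat_lit 5604032) (BT.leaf (nat_lit 33162009)) (BT.leaf (nat_lit 24071441)))) (BT.node (nat_lit 5604224) (BT.node (nat_lit 5604160) (BT.leaf (nat_lit 34195233)) (BT.leaf (nat_lit 33381409))) (BT.node (nat_lit 5604288) (BT.leaf (nat_lit 24899601)) (BT.leaf (nat_lit 27673101))))))) (BT.node (nat_lit 5605376) (BT.node (nat_lit 5604864) (BT.node (nat_lit 5604608) (BT.node (nat_lit 5604480) (BT.node (nat_lit 5604416) (BT.leaf (nat_lit 23640609)) (BT.leaf (nat_lit 27703585))) (BT.node (nat_lit 5604544) (BT.leaf (nat_lit 33163525)) (BT.leaf (nat_lit 33164061)))) (BT.node (nat_lit 5604736) (BT.node (nat_lit 5604672) (BT.leaf (nat_lit 50855965)) (BT.leaf (nat_lit 33656353))) (BT.node (nat_lit 5604800) (BT.leaf (nat_lit 33165077)) (BT.leaf (nat_lit 21284881))))) (BT.node (nat_lit 5605120) (BT.node (nat_lit 5604992) (BT.node (nat_lit 5604928) (BT.leaf (nat_lit 50373897)) (BT.leaf (nat_lit 33549329))) (BT.node (nat_lit 5605056) (BT.leaf (nat_lit 20678165)) (BT.leaf (nat_lit 27836185)))) (BT.node (nat_lit 5605248) (BT.node (nat_lit 5605184) (BT.leaf (nat_lit 24195361)) (BT.leaf (nat_lit 33166369))) (BT.node (nat_lit 5605312) (BT.leaf (nat_lit 33614365)) (BT.leaf (nat_lit 22645537)))))) (BT.node (nat_lit 5605888) (BT.node (nat_lit 5605632) (BT.node (nat_lit 5605504) (BT.node (nat_lit 5605440) (BT.leaf (nat_lit 22917393)) (BT.leaf (nat_lit 27327257))) (BT.node (nat_lit 5605568) (BT.leaf (nat_lit 27591445)) (BT.leaf (nat_lit 23394077)))) (BT.node (nat_lit 5605760) (BT.node (nat_lit 5605696) (BT.leaf (nat_lit 23112469)) (BT.leaf (nat_lit 33166625))) (BT.node (nat_lit 5605824) (BT.leaf (nat_lit 24164381)) (BT.leaf (nat_lit 22370581))))) (BT.node (nat_lit 5606144) (BT.node (nat_lit 5606016) (BT.node (nat_lit 5605952) (BT.leaf (nat_lit 23719197)) (BT.leaf (nat_lit 33167121))) (BT.node (nat_lit 5606080) (BT.leaf (nat_lit 22648605)) (BT.leaf (nat_lit 33167381)))) (BT.node (nat_lit 5606272) (BT.node (nat_lit 5606208) (BT.leaf (nat_lit 33168157)) (BT.leaf (nat_lit 21685261))) (BT.node (nat_lit 5606336) (BT.leaf (nat_lit 51345697)) (BT.leaf (nat_lit 27717905)))))))) (BT.node (nat_lit 5608448) (BT.node (nat_lit 5607424) (BT.node (nat_lit 5606912) (BT.node (nat_lit 5606656) (BT.node (nat_lit 5606528) (BT.node (nat_lit 5606464) (BT.leaf (nat_lit 22850077)) (BT.leaf (nat_lit 21685277))) (BT.node (nat_lit 5606592) (BT.leaf (nat_lit 33168401)) (BT.leaf (nat_lit 22380065)))) (BT.node (nat_lit 5606784) (BT.node (nat_lit 5606720) (BT.leaf (nat_lit 33168657)) (BT.leaf (nat_lit 22929697))) (BT.node (nat_lit 5606848) (BT.leaf (nat_lit 22334737)) (BT.leaf (nat_lit 21098261))))) (BT.node (nat_lit 5607168) (BT.node (nat_lit 5607040) (BT.node (nat_lit 5606976) (BT.leaf (nat_lit 24968209)) (BT.leaf (nat_lit 25131297))) (BT.node (nat_lit 5607104) (BT.leaf (nat_lit 25131041)) (BT.leaf (nat_lit 20737557)))) (BT.node (nat_lit 5607296) (BT.node (nat_lit 5607232) (BT.leaf (nat_lit 20727581)) (BT.leaf (nat_lit 20819729))) (BT.node (nat_lit 5607360) (BT.leaf (nat_lit 33171745)) (BT.leaf (nat_lit 21569301)))))) (BT.node (nat_lit 5607936) (BT.node (nat_lit 5607680) (BT.node (nat_lit 5607552) (BT.node (nat_lit 5607488) (BT.leaf (nat_lit 20739345)) (BT.leaf (nat_lit 25111325))) (BT.node (nat_lit 5607616) (BT.leaf (nat_lit 21832737)) (BT.leaf (nat_lit 20878869)))) (BT.node (nat_lit 5607808) (BT.node (nat_lit 5607744) (BT.leaf (nat_lit 21833505)) (BT.leaf (nat_lit 21833249))) (BT.node (nat_lit 5607872) (BT.leaf (nat_lit 21546517)) (BT.leaf (nat_lit 20729105))))) (BT.node (nat_lit 5608192) (BT.node (nat_lit 5608064) (BT.node (nat_lit 5608000) (BT.leaf (nat_lit 20729361)) (BT.leaf (nat_lit 20728849))) (BT.node (nat_lit 5608128) (BT.leaf (nat_lit 23090709)) (BT.leaf (nat_lit 28799249)))) (BT.node (nat_lit 5608320) (BT.node (nat_lit 5608256) (BT.leaf (nat_lit 27210529)) (BT.leaf (nat_lit 20730393))) (BT.node (nat_lit 5608384) (BT.leaf (nat_lit 33174301)) (BT.leaf (nat_lit 33175061))))))) (BT.node (nat_lit 5609472) (BT.node (nat_lit 5608960) (BT.node (nat_lit 5608704) (BT.node (nat_lit 5608576) (BT.node (nat_lit 5608512) (BT.leaf (nat_lit 26173217)) (BT.leaf (nat_lit 26431245))) (BT.node (nat_lit 5608640) (BT.leaf (nat_lit 26173197)) (BT.leaf (nat_lit 27744793)))) (BT.node (nat_lit 5608832) (BT.node (nat_lit 5608768) (BT.leaf (nat_lit 20731153)) (BT.leaf (nat_lit 21948185))) (BT.node (nat_lit 5608896) (BT.leaf (nat_lit 21600797)) (BT.leaf (nat_lit 22614305))))) (BT.node (nat_lit 5609216) (BT.node (nat_lit 5609088) (BT.node (nat_lit 5609024) (BT.leaf (nat_lit 23133217)) (BT.leaf (nat_lit 21491209))) (BT.node (nat_lit 5609152) (BT.leaf (nat_lit 23129357)) (BT.leaf (nat_lit 33177109)))) (BT.node (nat_lit 5609344) (BT.node (nat_lit 5609280) (BT.leaf (nat_lit 50219785)) (BT.leaf (nat_lit 22612769))) (BT.node (nat_lit 5609408) (BT.leaf (nat_lit 22315797)) (BT.leaf (nat_lit 25333269)))))) (BT.node (nat_lit 5609984) (BT.node (nat_lit 5609728) (BT.node (nat_lit 5609600) (BT.node (nat_lit 5609536) (BT.leaf (nat_lit 22967833)) (BT.leaf (nat_lit 24254989))) (BT.node (nat_lit 5609664) (BT.leaf (nat_lit 22967313)) (BT.leaf (nat_lit 33178393)))) (BT.node (nat_lit 5609856) (BT.node (nat_lit 5609792) (BT.leaf (nat_lit 22948641)) (BT.leaf (nat_lit 33660689))) (BT.node (nat_lit 5609920) (BT.leaf (nat_lit 24061705)) (BT.leaf (nat_lit 24774157))))) (BT.node (nat_lit 5610240) (BT.node (nat_lit 5610112) (BT.node (nat_lit 5610048) (BT.leaf (nat_lit 25086993)) (BT.leaf (nat_lit 26257185))) (BT.node (nat_lit 5610176) (BT.leaf (nat_lit 21132057)) (BT.leaf (nat_lit 21132061)))) (BT.node (nat_lit 5610368) (BT.node (nat_lit 5610304) (BT.leaf (nat_lit 22299413)) (BT.leaf (nat_lit 23250197))) (BT.node (nat_lit 5610432) (BT.leaf (nat_lit 24271373)) (BT.leaf (nat_lit 23709985))))))))))) (BT.node (nat_lit 5626880) (BT.node (nat_lit 5618688) (BT.node (nat_lit 5614592) (BT.node (nat_lit 5612544) (BT.node (nat_lit 5611520) (BT.node (nat_lit 5611008) (BT.node (nat_lit 5610752) (BT.node (nat_lit 5610624) (BT.node (nat_lit 5610560) (BT.leaf (nat_lit 33180449)) (BT.leaf (nat_lit 23584261))) (BT.node (nat_lit 5610688) (BT.leaf (nat_lit 29186069)) (BT.leaf (nat_lit 27750921)))) (BT.node (nat_lit 5610880) (BT.node (nat_lit 5610816) (BT.leaf (nat_lit 21344517)) (BT.leaf (nat_lit 23551777))) (BT.node (nat_lit 5610944) (BT.leaf (nat_lit 25897477)) (BT.leaf (nat_lit 32516897))))) (BT.node (nat_lit 5611264) (BT.node (nat_lit 5611136) (BT.node (nat_lit 5611072) (BT.leaf (nat_lit 49441313)) (BT.leaf (nat_lit 21317389))) (BT.node (nat_lit 5611200) (BT.leaf (nat_lit 21317401)) (BT.leaf (nat_lit 21317405)))) (BT.node (nat_lit 5611392) (BT.node (nat_lit 5611328) (BT.leaf (nat_lit 22977297)) (BT.leaf (nat_lit 22977313))) (BT.node (nat_lit 5611456) (BT.leaf (nat_lit 21317909)) (BT.leaf (nat_lit 22616353)))))) (BT.node (nat_lit 5612032) (BT.node (nat_lit 5611776) (BT.node (nat_lit 5611648) (BT.node (nat_lit 5611584) (BT.leaf (nat_lit 20916245)) (BT.leaf (nat_lit 25974037))) (BT.node (nat_lit 5611712) (BT.leaf (nat_lit 20826633)) (BT.leaf (nat_lit 20732437)))) (BT.node (nat_lit 5611904) (BT.node (nat_lit 5611840) (BT.leaf (nat_lit 33184029)) (BT.leaf (nat_lit 33184541))) (BT.node (nat_lit 5611968) (BT.leaf (nat_lit 21593369)) (BT.leaf (nat_lit 20830229))))) (BT.node (nat_lit 5612288) (BT.node (nat_lit 5612160) (BT.node (nat_lit 5612096) (BT.leaf (nat_lit 23593749)) (BT.leaf (nat_lit 22223129))) (BT.node (nat_lit 5612224) (BT.leaf (nat_lit 21328141)) (BT.leaf (nat_lit 23106325)))) (BT.node (nat_lit 5612416) (BT.node (nat_lit 5612352) (BT.leaf (nat_lit 22223117)) (BT.leaf (nat_lit 20737553))) (BT.node (nat_lit 5612480) (BT.leaf (nat_lit 33185305)) (BT.leaf (nat_lit 33185557))))))) (BT.node (nat_lit 5613568) (BT.node (nat_lit 5613056) (BT.node (nat_lit 5612800) (BT.node (nat_lit 5612672) (BT.node (nat_lit 5612608) (BT.leaf (nat_lit 20739605)) (BT.leaf (nat_lit 21164045))) (BT.node (nat_lit 5612736) (BT.leaf (nat_lit 30832645)) (BT.leaf (nat_lit 24905749)))) (BT.node (nat_lit 5612928) (BT.node (nat_lit 5612864) (BT.leaf (nat_lit 20741141)) (BT.leaf (nat_lit 33186581))) (BT.node (nat_lit 5612992) (BT.leaf (nat_lit 22451481)) (BT.leaf (nat_lit 22996509))))) (BT.node (nat_lit 5613312) (BT.node (nat_lit 5613184) (BT.node (nat_lit 5613120) (BT.leaf (nat_lit 23343133)) (BT.leaf (nat_lit 20910361))) (BT.node (nat_lit 5613248) (BT.leaf (nat_lit 20910365)) (BT.leaf (nat_lit 21475873)))) (BT.node (nat_lit 5613440) (BT.node (nat_lit 5613376) (BT.leaf (nat_lit 21481505)) (BT.leaf (nat_lit 21475617))) (BT.node (nat_lit 5613504) (BT.leaf (nat_lit 21483041)) (BT.leaf (nat_lit 22341405)))))) (BT.node (nat_lit 5614080) (BT.node (nat_lit 5613824) (BT.node (nat_lit 5613696) (BT.node (nat_lit 5613632) (BT.leaf (nat_lit 33187361)) (BT.leaf (nat_lit 22718241))) (BT.node (nat_lit 5613760) (BT.leaf (nat_lit 23815429)) (BT.leaf (nat_lit 24979233)))) (BT.node (nat_lit 5613952) (BT.node (nat_lit 5613888) (BT.leaf (nat_lit 23785761)) (BT.leaf (nat_lit 23044385))) (BT.node (nat_lit 5614016) (BT.leaf (nat_lit 33185561)) (BT.leaf (nat_lit 33189913))))) (BT.node (nat_lit 5614336) (BT.node (nat_lit 5614208) (BT.node (nat_lit 5614144) (BT.leaf (nat_lit 25580065)) (BT.leaf (nat_lit 27772681))) (BT.node (nat_lit 5614272) (BT.leaf (nat_lit 27797001)) (BT.leaf (nat_lit 27801605)))) (BT.node (nat_lit 5614464) (BT.node (nat_lit 5614400) (BT.leaf (nat_lit 20739613)) (BT.leaf (nat_lit 49851913))) (BT.node (nat_lit 5614528) (BT.leaf (nat_lit 33191953)) (BT.leaf (nat_lit 23256341)))))))) (BT.node (nat_lit 5616640) (BT.node (nat_lit 5615616) (BT.node (nat_lit 5615104) (BT.node (nat_lit 5614848) (BT.node (nat_lit 5614720) (BT.node (nat_lit 5614656) (BT.leaf (nat_lit 21164065)) (BT.leaf (nat_lit 22458909))) (BT.node (nat_lit 5614784) (BT.leaf (nat_lit 33815841)) (BT.leaf (nat_lit 27644677)))) (BT.node (nat_lit 5614976) (BT.node (nat_lit 5614912) (BT.leaf (nat_lit 21248537)) (BT.leaf (nat_lit 21248541))) (BT.node (nat_lit 5615040) (BT.leaf (nat_lit 23650849)) (BT.leaf (nat_lit 24976925))))) (BT.node (nat_lit 5615360) (BT.node (nat_lit 5615232) (BT.node (nat_lit 5615168) (BT.leaf (nat_lit 25878553)) (BT.leaf (nat_lit 24072477))) (BT.node (nat_lit 5615296) (BT.leaf (nat_lit 49827853)) (BT.leaf (nat_lit 33196561)))) (BT.node (nat_lit 5615488) (BT.node (nat_lit 5615424) (BT.leaf (nat_lit 20740621)) (BT.leaf (nat_lit 20740373))) (BT.node (nat_lit 5615552) (BT.leaf (nat_lit 27311381)) (BT.leaf (nat_lit 20775457)))))) (BT.node (nat_lit 5616128) (BT.node (nat_lit 5615872) (BT.node (nat_lit 5615744) (BT.node (nat_lit 5615680) (BT.leaf (nat_lit 33197849)) (BT.leaf (nat_lit 22845445))) (BT.node (nat_lit 5615808) (BT.leaf (nat_lit 25847317)) (BT.leaf (nat_lit 33198869)))) (BT.node (nat_lit 5616000) (BT.node (nat_lit 5615936) (BT.leaf (nat_lit 20985605)) (BT.leaf (nat_lit 20740637))) (BT.node (nat_lit 5616064) (BT.leaf (nat_lit 33199901)) (BT.leaf (nat_lit 25640477))))) (BT.node (nat_lit 5616384) (BT.node (nat_lit 5616256) (BT.node (nat_lit 5616192) (BT.leaf (nat_lit 33186589)) (BT.leaf (nat_lit 24114181))) (BT.node (nat_lit 5616320) (BT.leaf (nat_lit 22322465)) (BT.leaf (nat_lit 25848341)))) (BT.node (nat_lit 5616512) (BT.node (nat_lit 5616448) (BT.leaf (nat_lit 33201937)) (BT.leaf (nat_lit 33202193))) (BT.node (nat_lit 5616576) (BT.leaf (nat_lit 33201929)) (BT.leaf (nat_lit 33202709))))))) (BT.node (nat_lit 5617664) (BT.node (nat_lit 5617152) (BT.node (nat_lit 5616896) (BT.node (nat_lit 5616768) (BT.node (nat_lit 5616704) (BT.leaf (nat_lit 21035525)) (BT.leaf (nat_lit 33203477))) (BT.node (nat_lit 5616832) (BT.leaf (nat_lit 22466841)) (BT.leaf (nat_lit 25062689)))) (BT.node (nat_lit 5617024) (BT.node (nat_lit 5616960) (BT.leaf (nat_lit 20774157)) (BT.leaf (nat_lit 21214489))) (BT.node (nat_lit 5617088) (BT.leaf (nat_lit 20741145)) (BT.leaf (nat_lit 20774153))))) (BT.node (nat_lit 5617408) (BT.node (nat_lit 5617280) (BT.node (nat_lit 5617216) (BT.leaf (nat_lit 20741909)) (BT.leaf (nat_lit 51436573))) (BT.node (nat_lit 5617344) (BT.leaf (nat_lit 35937821)) (BT.leaf (nat_lit 24476705)))) (BT.node (nat_lit 5617536) (BT.node (nat_lit 5617472) (BT.leaf (nat_lit 22635553)) (BT.leaf (nat_lit 50223385))) (BT.node (nat_lit 5617600) (BT.leaf (nat_lit 27832845)) (BT.leaf (nat_lit 50726433)))))) (BT.node (nat_lit 5618176) (BT.node (nat_lit 5617920) (BT.node (nat_lit 5617792) (BT.node (nat_lit 5617728) (BT.leaf (nat_lit 25355013)) (BT.leaf (nat_lit 33208341))) (BT.node (nat_lit 5617856) (BT.leaf (nat_lit 34910229)) (BT.leaf (nat_lit 33208853)))) (BT.node (nat_lit 5618048) (BT.node (nat_lit 5617984) (BT.leaf (nat_lit 23511301)) (BT.leaf (nat_lit 36006433))) (BT.node (nat_lit 5618112) (BT.leaf (nat_lit 23325465)) (BT.leaf (nat_lit 21385989))))) (BT.node (nat_lit 5618432) (BT.node (nat_lit 5618304) (BT.node (nat_lit 5618240) (BT.leaf (nat_lit 21692181)) (BT.leaf (nat_lit 27713049))) (BT.node (nat_lit 5618368) (BT.leaf (nat_lit 22422293)) (BT.leaf (nat_lit 23395081)))) (BT.node (nat_lit 5618560) (BT.node (nat_lit 5618496) (BT.leaf (nat_lit 24597537)) (BT.leaf (nat_lit 34912533))) (BT.node (nat_lit 5618624) (BT.leaf (nat_lit 26756877)) (BT.leaf (nat_lit 20742673))))))))) (BT.node (nat_lit 5622784) (BT.node (nat_lit 5620736) (BT.node (nat_lit 5619712) (BT.node (nat_lit 5619200) (BT.node (nat_lit 5618944) (BT.node (nat_lit 5618816) (BT.node (nat_lit 5618752) (BT.leaf (nat_lit 25390609)) (BT.leaf (nat_lit 21285905))) (BT.node (nat_lit 5618880) (BT.leaf (nat_lit 21285649)) (BT.leaf (nat_lit 33211397)))) (BT.node (nat_lit 5619072) (BT.node (nat_lit 5619008) (BT.leaf (nat_lit 21712925)) (BT.leaf (nat_lit 27848209))) (BT.node (nat_lit 5619136) (BT.leaf (nat_lit 22476573)) (BT.leaf (nat_lit 33212689))))) (BT.node (nat_lit 5619456) (BT.node (nat_lit 5619328) (BT.node (nat_lit 5619264) (BT.leaf (nat_lit 25460257)) (BT.leaf (nat_lit 27851297))) (BT.node (nat_lit 5619392) (BT.leaf (nat_lit 23557917)) (BT.leaf (nat_lit 20929813)))) (BT.node (nat_lit 5619584) (BT.node (nat_lit 5619520) (BT.leaf (nat_lit 25674757)) (BT.leaf (nat_lit 21009941))) (BT.node (nat_lit 5619648) (BT.leaf (nat_lit 20987669)) (BT.leaf (nat_lit 25323281)))))) (BT.node (nat_lit 5620224) (BT.node (nat_lit 5619968) (BT.node (nat_lit 5619840) (BT.node (nat_lit 5619776) (BT.leaf (nat_lit 21498133)) (BT.leaf (nat_lit 20744721))) (BT.node (nat_lit 5619904) (BT.leaf (nat_lit 26756889)) (BT.leaf (nat_lit 26756893)))) (BT.node (nat_lit 5620096) (BT.node (nat_lit 5620032) (BT.leaf (nat_lit 50150941)) (BT.leaf (nat_lit 24903445))) (BT.node (nat_lit 5620160) (BT.leaf (nat_lit 51938317)) (BT.leaf (nat_lit 33214229))))) (BT.node (nat_lit 5620480) (BT.node (nat_lit 5620352) (BT.node (nat_lit 5620288) (BT.leaf (nat_lit 33214737)) (BT.leaf (nat_lit 25531681))) (BT.node (nat_lit 5620416) (BT.leaf (nat_lit 33215253)) (BT.leaf (nat_lit 33215505)))) (BT.node (nat_lit 5620608) (BT.node (nat_lit 5620544) (BT.leaf (nat_lit 33216273)) (BT.leaf (nat_lit 22378781))) (BT.node (nat_lit 5620672) (BT.leaf (nat_lit 33216277)) (BT.leaf (nat_lit 24605193))))))) (BT.node (nat_lit 5621760) (BT.node (nat_lit 5621248) (BT.node (nat_lit 5620992) (BT.node (nat_lit 5620864) (BT.node (nat_lit 5620800) (BT.leaf (nat_lit 22311953)) (BT.leaf (nat_lit 20996117))) (BT.node (nat_lit 5620928) (BT.leaf (nat_lit 50034957)) (BT.leaf (nat_lit 20882189)))) (BT.node (nat_lit 5621120) (BT.node (nat_lit 5621056) (BT.leaf (nat_lit 22481685)) (BT.leaf (nat_lit 23922181))) (BT.node (nat_lit 5621184) (BT.leaf (nat_lit 51376925)) (BT.leaf (nat_lit 23922693))))) (BT.node (nat_lit 5621504) (BT.node (nat_lit 5621376) (BT.node (nat_lit 5621312) (BT.leaf (nat_lit 26017049)) (BT.leaf (nat_lit 37206021))) (BT.node (nat_lit 5621440) (BT.leaf (nat_lit 21555989)) (BT.leaf (nat_lit 20748049)))) (BT.node (nat_lit 5621632) (BT.node (nat_lit 5621568) (BT.leaf (nat_lit 22486285)) (BT.leaf (nat_lit 30389013))) (BT.node (nat_lit 5621696) (BT.leaf (nat_lit 24631557)) (BT.leaf (nat_lit 20747793)))))) (BT.node (nat_lit 5622272) (BT.node (nat_lit 5622016) (BT.node (nat_lit 5621888) (BT.node (nat_lit 5621824) (BT.leaf (nat_lit 26355461)) (BT.leaf (nat_lit 21715973))) (BT.node (nat_lit 5621952) (BT.leaf (nat_lit 20868629)) (BT.leaf (nat_lit 50887173)))) (BT.node (nat_lit 5622144) (BT.node (nat_lit 5622080) (BT.leaf (nat_lit 20750101)) (BT.leaf (nat_lit 37368341))) (BT.node (nat_lit 5622208) (BT.leaf (nat_lit 23818769)) (BT.leaf (nat_lit 21045765))))) (BT.node (nat_lit 5622528) (BT.node (nat_lit 5622400) (BT.node (nat_lit 5622336) (BT.leaf (nat_lit 20750361)) (BT.leaf (nat_lit 20750617))) (BT.node (nat_lit 5622464) (BT.leaf (nat_lit 21074205)) (BT.leaf (nat_lit 20750365)))) (BT.node (nat_lit 5622656) (BT.node (nat_lit 5622592) (BT.leaf (nat_lit 20750621)) (BT.leaf (nat_lit 33220629))) (BT.node (nat_lit 5622720) (BT.leaf (nat_lit 25905157)) (BT.leaf (nat_lit 26552325)))))))) (BT.node (nat_lit 5624832) (BT.node (nat_lit 5623808) (BT.node (nat_lit 5623296) (BT.node (nat_lit 5623040) (BT.node (nat_lit 5622912) (BT.node (nat_lit 5622848) (BT.leaf (nat_lit 21231129)) (BT.leaf (nat_lit 33221141))) (BT.node (nat_lit 5622976) (BT.leaf (nat_lit 20897541)) (BT.leaf (nat_lit 51265297)))) (BT.node (nat_lit 5623168) (BT.node (nat_lit 5623104) (BT.leaf (nat_lit 34471201)) (BT.leaf (nat_lit 24504077))) (BT.node (nat_lit 5623232) (BT.leaf (nat_lit 33220633)) (BT.leaf (nat_lit 23684613))))) (BT.node (nat_lit 5623552) (BT.node (nat_lit 5623424) (BT.node (nat_lit 5623360) (BT.leaf (nat_lit 35373341)) (BT.leaf (nat_lit 33876233))) (BT.node (nat_lit 5623488) (BT.leaf (nat_lit 47157009)) (BT.leaf (nat_lit 25905173)))) (BT.node (nat_lit 5623680) (BT.node (nat_lit 5623616) (BT.leaf (nat_lit 24695829)) (BT.leaf (nat_lit 27910945))) (BT.node (nat_lit 5623744) (BT.leaf (nat_lit 23387397)) (BT.leaf (nat_lit 25053717)))))) (BT.node (nat_lit 5624320) (BT.node (nat_lit 5624064) (BT.node (nat_lit 5623936) (BT.node (nat_lit 5623872) (BT.leaf (nat_lit 23962885)) (BT.leaf (nat_lit 21445401))) (BT.node (nat_lit 5624000) (BT.leaf (nat_lit 33223941)) (BT.leaf (nat_lit 49839365)))) (BT.node (nat_lit 5624192) (BT.node (nat_lit 5624128) (BT.leaf (nat_lit 33398537)) (BT.leaf (nat_lit 20886553))) (BT.node (nat_lit 5624256) (BT.leaf (nat_lit 27834633)) (BT.leaf (nat_lit 24365845))))) (BT.node (nat_lit 5624576) (BT.node (nat_lit 5624448) (BT.node (nat_lit 5624384) (BT.leaf (nat_lit 22490653)) (BT.leaf (nat_lit 22800665))) (BT.node (nat_lit 5624512) (BT.leaf (nat_lit 22838037)) (BT.leaf (nat_lit 26221845)))) (BT.node (nat_lit 5624704) (BT.node (nat_lit 5624640) (BT.leaf (nat_lit 25896973)) (BT.leaf (nat_lit 33221397))) (BT.node (nat_lit 5624768) (BT.leaf (nat_lit 21293601)) (BT.leaf (nat_lit 27919137))))))) (BT.node (nat_lit 5625856) (BT.node (nat_lit 5625344) (BT.node (nat_lit 5625088) (BT.node (nat_lit 5624960) (BT.node (nat_lit 5624896) (BT.leaf (nat_lit 27806749)) (BT.leaf (nat_lit 22455045))) (BT.node (nat_lit 5625024) (BT.leaf (nat_lit 27919649)) (BT.leaf (nat_lit 27919393)))) (BT.node (nat_lit 5625216) (BT.node (nat_lit 5625152) (BT.leaf (nat_lit 22557457)) (BT.leaf (nat_lit 22557473))) (BT.node (nat_lit 5625280) (BT.leaf (nat_lit 36968969)) (BT.leaf (nat_lit 33407749))))) (BT.node (nat_lit 5625600) (BT.node (nat_lit 5625472) (BT.node (nat_lit 5625408) (BT.leaf (nat_lit 25440285)) (BT.leaf (nat_lit 23023125))) (BT.node (nat_lit 5625536) (BT.leaf (nat_lit 23387169)) (BT.leaf (nat_lit 33229589)))) (BT.node (nat_lit 5625728) (BT.node (nat_lit 5625664) (BT.leaf (nat_lit 20839453)) (BT.leaf (nat_lit 33230109))) (BT.node (nat_lit 5625792) (BT.leaf (nat_lit 33231649)) (BT.leaf (nat_lit 23550725)))))) (BT.node (nat_lit 5626368) (BT.node (nat_lit 5626112) (BT.node (nat_lit 5625984) (BT.node (nat_lit 5625920) (BT.leaf (nat_lit 35883533)) (BT.leaf (nat_lit 20754193))) (BT.node (nat_lit 5626048) (BT.leaf (nat_lit 51700237)) (BT.leaf (nat_lit 33233441)))) (BT.node (nat_lit 5626240) (BT.node (nat_lit 5626176) (BT.leaf (nat_lit 33155617)) (BT.leaf (nat_lit 20719633))) (BT.node (nat_lit 5626304) (BT.leaf (nat_lit 25337113)) (BT.leaf (nat_lit 22506005))))) (BT.node (nat_lit 5626624) (BT.node (nat_lit 5626496) (BT.node (nat_lit 5626432) (BT.leaf (nat_lit 22506009)) (BT.leaf (nat_lit 33234961))) (BT.node (nat_lit 5626560) (BT.leaf (nat_lit 33235217)) (BT.leaf (nat_lit 33235737)))) (BT.node (nat_lit 5626752) (BT.node (nat_lit 5626688) (BT.leaf (nat_lit 25889553)) (BT.leaf (nat_lit 33235997))) (BT.node (nat_lit 5626816) (BT.leaf (nat_lit 24544277)) (BT.leaf (nat_lit 25876761)))))))))) (BT.node (nat_lit 5635072) (BT.node (nat_lit 5630976) (BT.node (nat_lit 5628928) (BT.node (nat_lit 5627904) (BT.node (nat_lit 5627392) (BT.node (nat_lit 5627136) (BT.node (nat_lit 5627008) (BT.node (nat_lit 5626944) (BT.leaf (nat_lit 33237017)) (BT.leaf (nat_lit 27930377))) (BT.node (nat_lit 5627072) (BT.leaf (nat_lit 23690513)) (BT.leaf (nat_lit 50343945)))) (BT.node (nat_lit 5627264) (BT.node (nat_lit 5627200) (BT.leaf (nat_lit 50530577)) (BT.leaf (nat_lit 27944989))) (BT.node (nat_lit 5627328) (BT.leaf (nat_lit 22506013)) (BT.leaf (nat_lit 23889953))))) (BT.node (nat_lit 5627648) (BT.node (nat_lit 5627520) (BT.node (nat_lit 5627456) (BT.leaf (nat_lit 33239577)) (BT.leaf (nat_lit 22505753))) (BT.node (nat_lit 5627584) (BT.leaf (nat_lit 33239825)) (BT.leaf (nat_lit 22673181)))) (BT.node (nat_lit 5627776) (BT.node (nat_lit 5627712) (BT.leaf (nat_lit 36283917)) (BT.leaf (nat_lit 27953413))) (BT.node (nat_lit 5627840) (BT.leaf (nat_lit 48431393)) (BT.leaf (nat_lit 32164873)))))) (BT.node (nat_lit 5628416) (BT.node (nat_lit 5628160) (BT.node (nat_lit 5628032) (BT.node (nat_lit 5627968) (BT.leaf (nat_lit 26651925)) (BT.leaf (nat_lit 52242465))) (BT.node (nat_lit 5628096) (BT.leaf (nat_lit 33242377)) (BT.leaf (nat_lit 21493525)))) (BT.node (nat_lit 5628288) (BT.node (nat_lit 5628224) (BT.leaf (nat_lit 21493529)) (BT.leaf (nat_lit 21493533))) (BT.node (nat_lit 5628352) (BT.leaf (nat_lit 27959817)) (BT.leaf (nat_lit 33243677))))) (BT.node (nat_lit 5628672) (BT.node (nat_lit 5628544) (BT.node (nat_lit 5628480) (BT.leaf (nat_lit 25804049)) (BT.leaf (nat_lit 21473053))) (BT.node (nat_lit 5628608) (BT.leaf (nat_lit 25469981)) (BT.leaf (nat_lit 27805473)))) (BT.node (nat_lit 5628800) (BT.node (nat_lit 5628736) (BT.leaf (nat_lit 24674325)) (BT.leaf (nat_lit 22218005))) (BT.node (nat_lit 5628864) (BT.leaf (nat_lit 22514969)) (BT.leaf (nat_lit 36251405))))))) (BT.node (nat_lit 5629952) (BT.node (nat_lit 5629440) (BT.node (nat_lit 5629184) (BT.node (nat_lit 5629056) (BT.node (nat_lit 5628992) (BT.leaf (nat_lit 25553673)) (BT.leaf (nat_lit 23623689))) (BT.node (nat_lit 5629120) (BT.leaf (nat_lit 29501449)) (BT.leaf (nat_lit 21456161)))) (BT.node (nat_lit 5629312) (BT.node (nat_lit 5629248) (BT.leaf (nat_lit 21593113)) (BT.leaf (nat_lit 21031697))) (BT.node (nat_lit 5629376) (BT.leaf (nat_lit 21031701)) (BT.leaf (nat_lit 21031705))))) (BT.node (nat_lit 5629696) (BT.node (nat_lit 5629568) (BT.node (nat_lit 5629504) (BT.leaf (nat_lit 21031713)) (BT.leaf (nat_lit 21956893))) (BT.node (nat_lit 5629632) (BT.leaf (nat_lit 21956873)) (BT.leaf (nat_lit 27133213)))) (BT.node (nat_lit 5629824) (BT.node (nat_lit 5629760) (BT.leaf (nat_lit 52425245)) (BT.leaf (nat_lit 51292421))) (BT.node (nat_lit 5629888) (BT.leaf (nat_lit 24698385)) (BT.leaf (nat_lit 24698389)))))) (BT.node (nat_lit 5630464) (BT.node (nat_lit 5630208) (BT.node (nat_lit 5630080) (BT.node (nat_lit 5630016) (BT.leaf (nat_lit 33247509)) (BT.leaf (nat_lit 33247773))) (BT.node (nat_lit 5630144) (BT.leaf (nat_lit 27968545)) (BT.leaf (nat_lit 24940057)))) (BT.node (nat_lit 5630336) (BT.node (nat_lit 5630272) (BT.leaf (nat_lit 21280533)) (BT.leaf (nat_lit 21445153))) (BT.node (nat_lit 5630400) (BT.leaf (nat_lit 21445409)) (BT.leaf (nat_lit 23724549))))) (BT.node (nat_lit 5630720) (BT.node (nat_lit 5630592) (BT.node (nat_lit 5630528) (BT.leaf (nat_lit 22522141)) (BT.leaf (nat_lit 33249297))) (BT.node (nat_lit 5630656) (BT.leaf (nat_lit 23018013)) (BT.leaf (nat_lit 24304917)))) (BT.node (nat_lit 5630848) (BT.node (nat_lit 5630784) (BT.leaf (nat_lit 24304921)) (BT.leaf (nat_lit 24780561))) (BT.node (nat_lit 5630912) (BT.leaf (nat_lit 20759817)) (BT.leaf (nat_lit 33251605)))))))) (BT.node (nat_lit 5633024) (BT.node (nat_lit 5632000) (BT.node (nat_lit 5631488) (BT.node (nat_lit 5631232) (BT.node (nat_lit 5631104) (BT.node (nat_lit 5631040) (BT.leaf (nat_lit 22362885)) (BT.leaf (nat_lit 21920789))) (BT.node (nat_lit 5631168) (BT.leaf (nat_lit 20761617)) (BT.leaf (nat_lit 33252893)))) (BT.node (nat_lit 5631360) (BT.node (nat_lit 5631296) (BT.leaf (nat_lit 33253393)) (BT.leaf (nat_lit 33253909))) (BT.node (nat_lit 5631424) (BT.leaf (nat_lit 23600901)) (BT.leaf (nat_lit 30727173))))) (BT.node (nat_lit 5631744) (BT.node (nat_lit 5631616) (BT.node (nat_lit 5631552) (BT.leaf (nat_lit 33254937)) (BT.leaf (nat_lit 33255185))) (BT.node (nat_lit 5631680) (BT.leaf (nat_lit 25213189)) (BT.leaf (nat_lit 22861329)))) (BT.node (nat_lit 5631872) (BT.node (nat_lit 5631808) (BT.leaf (nat_lit 22919685)) (BT.leaf (nat_lit 36847365))) (BT.node (nat_lit 5631936) (BT.leaf (nat_lit 33550097)) (BT.leaf (nat_lit 22845469)))))) (BT.node (nat_lit 5632512) (BT.node (nat_lit 5632256) (BT.node (nat_lit 5632128) (BT.node (nat_lit 5632064) (BT.leaf (nat_lit 34242337)) (BT.leaf (nat_lit 36011801))) (BT.node (nat_lit 5632192) (BT.leaf (nat_lit 23620889)) (BT.leaf (nat_lit 35939353)))) (BT.node (nat_lit 5632384) (BT.node (nat_lit 5632320) (BT.leaf (nat_lit 33258261)) (BT.leaf (nat_lit 22858781))) (BT.node (nat_lit 5632448) (BT.leaf (nat_lit 22857745)) (BT.leaf (nat_lit 33256217))))) (BT.node (nat_lit 5632768) (BT.node (nat_lit 5632640) (BT.node (nat_lit 5632576) (BT.leaf (nat_lit 20763921)) (BT.leaf (nat_lit 33259781))) (BT.node (nat_lit 5632704) (BT.leaf (nat_lit 20762897)) (BT.leaf (nat_lit 21778197)))) (BT.node (nat_lit 5632896) (BT.node (nat_lit 5632832) (BT.leaf (nat_lit 22543365)) (BT.leaf (nat_lit 21942277))) (BT.node (nat_lit 5632960) (BT.leaf (nat_lit 33261589)) (BT.leaf (nat_lit 20868637))))))) (BT.node (nat_lit 5634048) (BT.node (nat_lit 5633536) (BT.node (nat_lit 5633280) (BT.node (nat_lit 5633152) (BT.node (nat_lit 5633088) (BT.leaf (nat_lit 22838817)) (BT.leaf (nat_lit 23585813))) (BT.node (nat_lit 5633216) (BT.leaf (nat_lit 37420577)) (BT.leaf (nat_lit 23357457)))) (BT.node (nat_lit 5633408) (BT.node (nat_lit 5633344) (BT.leaf (nat_lit 21223457)) (BT.leaf (nat_lit 22583317))) (BT.node (nat_lit 5633472) (BT.leaf (nat_lit 33107989)) (BT.leaf (nat_lit 22667273))))) (BT.node (nat_lit 5633792) (BT.node (nat_lit 5633664) (BT.node (nat_lit 5633600) (BT.leaf (nat_lit 21199885)) (BT.leaf (nat_lit 21368329))) (BT.node (nat_lit 5633728) (BT.leaf (nat_lit 20811553)) (BT.leaf (nat_lit 21368349)))) (BT.node (nat_lit 5633920) (BT.node (nat_lit 5633856) (BT.leaf (nat_lit 25605385)) (BT.leaf (nat_lit 33265685))) (BT.node (nat_lit 5633984) (BT.leaf (nat_lit 23420421)) (BT.leaf (nat_lit 23420445)))))) (BT.node (nat_lit 5634560) (BT.node (nat_lit 5634304) (BT.node (nat_lit 5634176) (BT.node (nat_lit 5634112) (BT.leaf (nat_lit 27339277)) (BT.leaf (nat_lit 23853577))) (BT.node (nat_lit 5634240) (BT.leaf (nat_lit 23424277)) (BT.leaf (nat_lit 28576785)))) (BT.node (nat_lit 5634432) (BT.node (nat_lit 5634368) (BT.leaf (nat_lit 46345733)) (BT.leaf (nat_lit 21018905))) (BT.node (nat_lit 5634496) (BT.leaf (nat_lit 29008405)) (BT.leaf (nat_lit 27521053))))) (BT.node (nat_lit 5634816) (BT.node (nat_lit 5634688) (BT.node (nat_lit 5634624) (BT.leaf (nat_lit 24296725)) (BT.leaf (nat_lit 50828821))) (BT.node (nat_lit 5634752) (BT.leaf (nat_lit 27590169)) (BT.leaf (nat_lit 47005973)))) (BT.node (nat_lit 5634944) (BT.node (nat_lit 5634880) (BT.leaf (nat_lit 20766993)) (BT.leaf (nat_lit 33267993))) (BT.node (nat_lit 5635008) (BT.leaf (nat_lit 22540061)) (BT.leaf (nat_lit 23802897))))))))) (BT.node (nat_lit 5639168) (BT.node (nat_lit 5637120) (BT.node (nat_lit 5636096) (BT.node (nat_lit 5635584) (BT.node (nat_lit 5635328) (BT.node (nat_lit 5635200) (BT.node (nat_lit 5635136) (BT.leaf (nat_lit 24612373)) (BT.leaf (nat_lit 47457549))) (BT.node (nat_lit 5635264) (BT.leaf (nat_lit 24613645)) (BT.leaf (nat_lit 24613649)))) (BT.node (nat_lit 5635456) (BT.node (nat_lit 5635392) (BT.leaf (nat_lit 32651529)) (BT.leaf (nat_lit 33269789))) (BT.node (nat_lit 5635520) (BT.leaf (nat_lit 21291809)) (BT.leaf (nat_lit 21258017))))) (BT.node (nat_lit 5635840) (BT.node (nat_lit 5635712) (BT.node (nat_lit 5635648) (BT.leaf (nat_lit 33271313)) (BT.leaf (nat_lit 33271317))) (BT.node (nat_lit 5635776) (BT.leaf (nat_lit 25801753)) (BT.leaf (nat_lit 33272849)))) (BT.node (nat_lit 5635968) (BT.node (nat_lit 5635904) (BT.leaf (nat_lit 33273373)) (BT.leaf (nat_lit 33274385))) (BT.node (nat_lit 5636032) (BT.leaf (nat_lit 23689497)) (BT.leaf (nat_lit 22544413)))))) (BT.node (nat_lit 5636608) (BT.node (nat_lit 5636352) (BT.node (nat_lit 5636224) (BT.node (nat_lit 5636160) (BT.leaf (nat_lit 29390865)) (BT.leaf (nat_lit 22333189))) (BT.node (nat_lit 5636288) (BT.leaf (nat_lit 20877333)) (BT.leaf (nat_lit 20768017)))) (BT.node (nat_lit 5636480) (BT.node (nat_lit 5636416) (BT.leaf (nat_lit 22696965)) (BT.leaf (nat_lit 33277981))) (BT.node (nat_lit 5636544) (BT.leaf (nat_lit 33278485)) (BT.leaf (nat_lit 20769553))))) (BT.node (nat_lit 5636864) (BT.node (nat_lit 5636736) (BT.node (nat_lit 5636672) (BT.leaf (nat_lit 24746777)) (BT.leaf (nat_lit 33279517))) (BT.node (nat_lit 5636800) (BT.leaf (nat_lit 20841241)) (BT.leaf (nat_lit 22579741)))) (BT.node (nat_lit 5636992) (BT.node (nat_lit 5636928) (BT.leaf (nat_lit 22423837)) (BT.leaf (nat_lit 23877893))) (BT.node (nat_lit 5637056) (BT.leaf (nat_lit 33280785)) (BT.leaf (nat_lit 27601173))))))) (BT.node (nat_lit 5638144) (BT.node (nat_lit 5637632) (BT.node (nat_lit 5637376) (BT.node (nat_lit 5637248) (BT.node (nat_lit 5637184) (BT.leaf (nat_lit 49825809)) (BT.leaf (nat_lit 26616089))) (BT.node (nat_lit 5637312) (BT.leaf (nat_lit 22527517)) (BT.leaf (nat_lit 23674633)))) (BT.node (nat_lit 5637504) (BT.node (nat_lit 5637440) (BT.leaf (nat_lit 33281553)) (BT.leaf (nat_lit 22549529))) (BT.node (nat_lit 5637568) (BT.leaf (nat_lit 21625361)) (BT.leaf (nat_lit 24644357))))) (BT.node (nat_lit 5637888) (BT.node (nat_lit 5637760) (BT.node (nat_lit 5637696) (BT.leaf (nat_lit 27426573)) (BT.leaf (nat_lit 20860933))) (BT.node (nat_lit 5637824) (BT.leaf (nat_lit 21337889)) (BT.leaf (nat_lit 22529813)))) (BT.node (nat_lit 5638016) (BT.node (nat_lit 5637952) (BT.leaf (nat_lit 21568529)) (BT.leaf (nat_lit 24487705))) (BT.node (nat_lit 5638080) (BT.leaf (nat_lit 47635993)) (BT.leaf (nat_lit 28076577)))))) (BT.node (nat_lit 5638656) (BT.node (nat_lit 5638400) (BT.node (nat_lit 5638272) (BT.node (nat_lit 5638208) (BT.leaf (nat_lit 33284641)) (BT.leaf (nat_lit 33284637))) (BT.node (nat_lit 5638336) (BT.leaf (nat_lit 20771869)) (BT.leaf (nat_lit 33284617)))) (BT.node (nat_lit 5638528) (BT.node (nat_lit 5638464) (BT.leaf (nat_lit 24102421)) (BT.leaf (nat_lit 28079905))) (BT.node (nat_lit 5638592) (BT.leaf (nat_lit 33285661)) (BT.leaf (nat_lit 51190025))))) (BT.node (nat_lit 5638912) (BT.node (nat_lit 5638784) (BT.node (nat_lit 5638720) (BT.leaf (nat_lit 33286417)) (BT.leaf (nat_lit 22554649))) (BT.node (nat_lit 5638848) (BT.leaf (nat_lit 28087569)) (BT.leaf (nat_lit 22555161)))) (BT.node (nat_lit 5639040) (BT.node (nat_lit 5638976) (BT.leaf (nat_lit 22724629)) (BT.leaf (nat_lit 22635545))) (BT.node (nat_lit 5639104) (BT.leaf (nat_lit 28093961)) (BT.leaf (nat_lit 20996373)))))))) (BT.node (nat_lit 5641216) (BT.node (nat_lit 5640192) (BT.node (nat_lit 5639680) (BT.node (nat_lit 5639424) (BT.node (nat_lit 5639296) (BT.node (nat_lit 5639232) (BT.leaf (nat_lit 22725137)) (BT.leaf (nat_lit 33689361))) (BT.node (nat_lit 5639360) (BT.leaf (nat_lit 51345689)) (BT.leaf (nat_lit 33287705)))) (BT.node (nat_lit 5639552) (BT.node (nat_lit 5639488) (BT.leaf (nat_lit 21591061)) (BT.leaf (nat_lit 24913173))) (BT.node (nat_lit 5639616) (BT.leaf (nat_lit 22363917)) (BT.leaf (nat_lit 50609953))))) (BT.node (nat_lit 5639936) (BT.node (nat_lit 5639808) (BT.node (nat_lit 5639744) (BT.leaf (nat_lit 22363929)) (BT.leaf (nat_lit 24912925))) (BT.node (nat_lit 5639872) (BT.leaf (nat_lit 27497225)) (BT.leaf (nat_lit 33289753)))) (BT.node (nat_lit 5640064) (BT.node (nat_lit 5640000) (BT.leaf (nat_lit 33290001)) (BT.leaf (nat_lit 33290257))) (BT.node (nat_lit 5640128) (BT.leaf (nat_lit 33290253)) (BT.leaf (nat_lit 20774937)))))) (BT.node (nat_lit 5640704) (BT.node (nat_lit 5640448) (BT.node (nat_lit 5640320) (BT.node (nat_lit 5640256) (BT.leaf (nat_lit 28142097)) (BT.leaf (nat_lit 22341401))) (BT.node (nat_lit 5640384) (BT.leaf (nat_lit 25374997)) (BT.leaf (nat_lit 21027349)))) (BT.node (nat_lit 5640576) (BT.node (nat_lit 5640512) (BT.leaf (nat_lit 23130657)) (BT.leaf (nat_lit 25805069))) (BT.node (nat_lit 5640640) (BT.leaf (nat_lit 23904773)) (BT.leaf (nat_lit 23682081))))) (BT.node (nat_lit 5640960) (BT.node (nat_lit 5640832) (BT.node (nat_lit 5640768) (BT.leaf (nat_lit 28283157)) (BT.leaf (nat_lit 23678993))) (BT.node (nat_lit 5640896) (BT.leaf (nat_lit 25230609)) (BT.leaf (nat_lit 33293585)))) (BT.node (nat_lit 5641088) (BT.node (nat_lit 5641024) (BT.leaf (nat_lit 23338517)) (BT.leaf (nat_lit 28123925))) (BT.node (nat_lit 5641152) (BT.leaf (nat_lit 25059333)) (BT.leaf (nat_lit 21611525))))))) (BT.node (nat_lit 5642240) (BT.node (nat_lit 5641728) (BT.node (nat_lit 5641472) (BT.node (nat_lit 5641344) (BT.node (nat_lit 5641280) (BT.leaf (nat_lit 27150877)) (BT.leaf (nat_lit 20788241))) (BT.node (nat_lit 5641408) (BT.leaf (nat_lit 33296157)) (BT.leaf (nat_lit 33295889)))) (BT.node (nat_lit 5641600) (BT.node (nat_lit 5641536) (BT.leaf (nat_lit 33296657)) (BT.leaf (nat_lit 33296925))) (BT.node (nat_lit 5641664) (BT.leaf (nat_lit 20909073)) (BT.leaf (nat_lit 22566425))))) (BT.node (nat_lit 5641984) (BT.node (nat_lit 5641856) (BT.node (nat_lit 5641792) (BT.leaf (nat_lit 25026329)) (BT.leaf (nat_lit 25027353))) (BT.node (nat_lit 5641920) (BT.leaf (nat_lit 25406981)) (BT.leaf (nat_lit 33298197)))) (BT.node (nat_lit 5642112) (BT.node (nat_lit 5642048) (BT.leaf (nat_lit 23426309)) (BT.leaf (nat_lit 33298969))) (BT.node (nat_lit 5642176) (BT.leaf (nat_lit 23837461)) (BT.leaf (nat_lit 22623257)))))) (BT.node (nat_lit 5642752) (BT.node (nat_lit 5642496) (BT.node (nat_lit 5642368) (BT.node (nat_lit 5642304) (BT.leaf (nat_lit 33614357)) (BT.leaf (nat_lit 33299729))) (BT.node (nat_lit 5642432) (BT.leaf (nat_lit 20774169)) (BT.leaf (nat_lit 20774173)))) (BT.node (nat_lit 5642624) (BT.node (nat_lit 5642560) (BT.leaf (nat_lit 33299989)) (BT.leaf (nat_lit 24284961))) (BT.node (nat_lit 5642688) (BT.leaf (nat_lit 24285473)) (BT.leaf (nat_lit 20795673))))) (BT.node (nat_lit 5643008) (BT.node (nat_lit 5642880) (BT.node (nat_lit 5642816) (BT.leaf (nat_lit 20774681)) (BT.leaf (nat_lit 20774941))) (BT.node (nat_lit 5642944) (BT.leaf (nat_lit 26711569)) (BT.leaf (nat_lit 33301777)))) (BT.node (nat_lit 5643136) (BT.node (nat_lit 5643072) (BT.leaf (nat_lit 33302033)) (BT.leaf (nat_lit 33301769))) (BT.node (nat_lit 5643200) (BT.leaf (nat_lit 22764833)) (BT.leaf (nat_lit 23910433)))))))))))))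
noncomputable def big0_e24576 : BT Nat := (BT.node (nat_lit 5708800) (BT.node (nat_lit 5676032) (BT.node (nat_lit 5659648) (BT.node (nat_lit 5651456) (BT.node (nat_lit 5647360) (BT.node (nat_lit 5645312) (BT.node (nat_lit 5644288) (BT.node (nat_lit 5643776) (BT.node (nat_lit 5643520) (BT.node (nat_lit 5643392) (BT.node (nat_lit 5643328) (BT.leaf (nat_lit 33303057)) (BT.leaf (nat_lit 27836685))) (BT.node (nat_lit 5643456) (BT.leaf (nat_lit 28153357)) (BT.leaf (nat_lit 33304341)))) (BT.node (nat_lit 5643648) (BT.node (nat_lit 5643584) (BT.leaf (nat_lit 21851409)) (BT.leaf (nat_lit 21770261))) (BT.node (nat_lit 5643712) (BT.leaf (nat_lit 27515165)) (BT.leaf (nat_lit 34658317))))) (BT.node (nat_lit 5644032) (BT.node (nat_lit 5643904) (BT.node (nat_lit 5643840) (BT.leaf (nat_lit 51436565)) (BT.leaf (nat_lit 30262049))) (BT.node (nat_lit 5643968) (BT.leaf (nat_lit 28161029)) (BT.leaf (nat_lit 21216537)))) (BT.node (nat_lit 5644160) (BT.node (nat_lit 5644096) (BT.leaf (nat_lit 23511317)) (BT.leaf (nat_lit 22645281))) (BT.node (nat_lit 5644224) (BT.leaf (nat_lit 23131665)) (BT.leaf (nat_lit 22807585)))))) (BT.node (nat_lit 5644800) (BT.node (nat_lit 5644544) (BT.node (nat_lit 5644416) (BT.node (nat_lit 5644352) (BT.leaf (nat_lit 22574101)) (BT.leaf (nat_lit 24051721))) (BT.node (nat_lit 5644480) (BT.leaf (nat_lit 24160801)) (BT.leaf (nat_lit 21062413)))) (BT.node (nat_lit 5644672) (BT.node (nat_lit 5644608) (BT.leaf (nat_lit 22325781)) (BT.leaf (nat_lit 21062409))) (BT.node (nat_lit 5644736) (BT.leaf (nat_lit 29007897)) (BT.leaf (nat_lit 23673109))))) (BT.node (nat_lit 5645056) (BT.node (nat_lit 5644928) (BT.node (nat_lit 5644864) (BT.leaf (nat_lit 22547221)) (BT.leaf (nat_lit 23672605))) (BT.node (nat_lit 5644992) (BT.leaf (nat_lit 33305361)) (BT.leaf (nat_lit 24052229)))) (BT.node (nat_lit 5645184) (BT.node (nat_lit 5645120) (BT.leaf (nat_lit 23067925)) (BT.leaf (nat_lit 22425369))) (BT.node (nat_lit 5645248) (BT.leaf (nat_lit 50966285)) (BT.leaf (nat_lit 50966301))))))) (BT.node (nat_lit 5646336) (BT.node (nat_lit 5645824) (BT.node (nat_lit 5645568) (BT.node (nat_lit 5645440) (BT.node (nat_lit 5645376) (BT.leaf (nat_lit 24610589)) (BT.leaf (nat_lit 28166685))) (BT.node (nat_lit 5645504) (BT.leaf (nat_lit 33307165)) (BT.leaf (nat_lit 50966537)))) (BT.node (nat_lit 5645696) (BT.node (nat_lit 5645632) (BT.leaf (nat_lit 26011673)) (BT.leaf (nat_lit 36432661))) (BT.node (nat_lit 5645760) (BT.leaf (nat_lit 34951941)) (BT.leaf (nat_lit 20779281))))) (BT.node (nat_lit 5646080) (BT.node (nat_lit 5645952) (BT.node (nat_lit 5645888) (BT.leaf (nat_lit 33309457)) (BT.leaf (nat_lit 20780049))) (BT.node (nat_lit 5646016) (BT.leaf (nat_lit 33142553)) (BT.leaf (nat_lit 27561221)))) (BT.node (nat_lit 5646208) (BT.node (nat_lit 5646144) (BT.leaf (nat_lit 24038417)) (BT.leaf (nat_lit 24038433))) (BT.node (nat_lit 5646272) (BT.leaf (nat_lit 24378385)) (BT.leaf (nat_lit 21987077)))))) (BT.node (nat_lit 5646848) (BT.node (nat_lit 5646592) (BT.node (nat_lit 5646464) (BT.node (nat_lit 5646400) (BT.leaf (nat_lit 22076693)) (BT.leaf (nat_lit 20780829))) (BT.node (nat_lit 5646528) (BT.leaf (nat_lit 36538373)) (BT.leaf (nat_lit 20780825)))) (BT.node (nat_lit 5646720) (BT.node (nat_lit 5646656) (BT.leaf (nat_lit 20781073)) (BT.leaf (nat_lit 33312289))) (BT.node (nat_lit 5646784) (BT.leaf (nat_lit 21849889)) (BT.leaf (nat_lit 21699089))))) (BT.node (nat_lit 5647104) (BT.node (nat_lit 5646976) (BT.node (nat_lit 5646912) (BT.leaf (nat_lit 33313057)) (BT.leaf (nat_lit 50703893))) (BT.node (nat_lit 5647040) (BT.leaf (nat_lit 21301785)) (BT.leaf (nat_lit 25737501)))) (BT.node (nat_lit 5647232) (BT.node (nat_lit 5647168) (BT.leaf (nat_lit 20782101)) (BT.leaf (nat_lit 20944149))) (BT.node (nat_lit 5647296) (BT.leaf (nat_lit 37365533)) (BT.leaf (nat_lit 21443605)))))))) (BT.node (nat_lit 5649408) (BT.node (nat_lit 5648384) (BT.node (nat_lit 5647872) (BT.node (nat_lit 5647616) (BT.node (nat_lit 5647488) (BT.node (nat_lit 5647424) (BT.leaf (nat_lit 46370309)) (BT.leaf (nat_lit 21384725))) (BT.node (nat_lit 5647552) (BT.leaf (nat_lit 27085589)) (BT.leaf (nat_lit 23493393)))) (BT.node (nat_lit 5647744) (BT.node (nat_lit 5647680) (BT.leaf (nat_lit 22488601)) (BT.leaf (nat_lit 28173337))) (BT.node (nat_lit 5647808) (BT.leaf (nat_lit 22853637)) (BT.leaf (nat_lit 20782109))))) (BT.node (nat_lit 5648128) (BT.node (nat_lit 5648000) (BT.node (nat_lit 5647936) (BT.leaf (nat_lit 50703901)) (BT.leaf (nat_lit 27731485))) (BT.node (nat_lit 5648064) (BT.leaf (nat_lit 25068037)) (BT.leaf (nat_lit 33317653)))) (BT.node (nat_lit 5648256) (BT.node (nat_lit 5648192) (BT.leaf (nat_lit 20782361)) (BT.leaf (nat_lit 33317637))) (BT.node (nat_lit 5648320) (BT.leaf (nat_lit 25041177)) (BT.leaf (nat_lit 25013001)))))) (BT.node (nat_lit 5648896) (BT.node (nat_lit 5648640) (BT.node (nat_lit 5648512) (BT.node (nat_lit 5648448) (BT.leaf (nat_lit 21224469)) (BT.leaf (nat_lit 23924997))) (BT.node (nat_lit 5648576) (BT.leaf (nat_lit 21224477)) (BT.leaf (nat_lit 22821893)))) (BT.node (nat_lit 5648768) (BT.node (nat_lit 5648704) (BT.leaf (nat_lit 33318933)) (BT.leaf (nat_lit 27632401))) (BT.node (nat_lit 5648832) (BT.leaf (nat_lit 33319445)) (BT.leaf (nat_lit 21038369))))) (BT.node (nat_lit 5649152) (BT.node (nat_lit 5649024) (BT.node (nat_lit 5648960) (BT.leaf (nat_lit 33319953)) (BT.leaf (nat_lit 33319453))) (BT.node (nat_lit 5649088) (BT.leaf (nat_lit 33321241)) (BT.leaf (nat_lit 25717265)))) (BT.node (nat_lit 5649280) (BT.node (nat_lit 5649216) (BT.leaf (nat_lit 22596377)) (BT.leaf (nat_lit 24045073))) (BT.node (nat_lit 5649344) (BT.leaf (nat_lit 20713753)) (BT.leaf (nat_lit 22921993))))))) (BT.node (nat_lit 5650432) (BT.node (nat_lit 5649920) (BT.node (nat_lit 5649664) (BT.node (nat_lit 5649536) (BT.node (nat_lit 5649472) (BT.leaf (nat_lit 22922009)) (BT.leaf (nat_lit 20707357))) (BT.node (nat_lit 5649600) (BT.leaf (nat_lit 20914965)) (BT.leaf (nat_lit 22597393)))) (BT.node (nat_lit 5649792) (BT.node (nat_lit 5649728) (BT.leaf (nat_lit 23600157)) (BT.leaf (nat_lit 22321937))) (BT.node (nat_lit 5649856) (BT.leaf (nat_lit 51670277)) (BT.leaf (nat_lit 33323277))))) (BT.node (nat_lit 5650176) (BT.node (nat_lit 5650048) (BT.node (nat_lit 5649984) (BT.leaf (nat_lit 21774861)) (BT.leaf (nat_lit 36361485))) (BT.node (nat_lit 5650112) (BT.leaf (nat_lit 35881761)) (BT.leaf (nat_lit 50387729)))) (BT.node (nat_lit 5650304) (BT.node (nat_lit 5650240) (BT.leaf (nat_lit 50387725)) (BT.leaf (nat_lit 51961889))) (BT.node (nat_lit 5650368) (BT.leaf (nat_lit 36813833)) (BT.leaf (nat_lit 26899745)))))) (BT.node (nat_lit 5650944) (BT.node (nat_lit 5650688) (BT.node (nat_lit 5650560) (BT.node (nat_lit 5650496) (BT.leaf (nat_lit 25512477)) (BT.leaf (nat_lit 25405457))) (BT.node (nat_lit 5650624) (BT.leaf (nat_lit 25405461)) (BT.leaf (nat_lit 35342625)))) (BT.node (nat_lit 5650816) (BT.node (nat_lit 5650752) (BT.leaf (nat_lit 27289869)) (BT.leaf (nat_lit 24438805))) (BT.node (nat_lit 5650880) (BT.leaf (nat_lit 25869845)) (BT.leaf (nat_lit 33328393))))) (BT.node (nat_lit 5651200) (BT.node (nat_lit 5651072) (BT.node (nat_lit 5651008) (BT.leaf (nat_lit 36390405)) (BT.leaf (nat_lit 22297377))) (BT.node (nat_lit 5651136) (BT.leaf (nat_lit 22960417)) (BT.leaf (nat_lit 21918233)))) (BT.node (nat_lit 5651328) (BT.node (nat_lit 5651264) (BT.leaf (nat_lit 20787729)) (BT.leaf (nat_lit 33295377))) (BT.node (nat_lit 5651392) (BT.leaf (nat_lit 27151125)) (BT.leaf (nat_lit 51886869))))))))) (BT.node (nat_lit 5655552) (BT.node (nat_lit 5653504) (BT.node (nat_lit 5652480) (BT.node (nat_lit 5651968) (BT.node (nat_lit 5651712) (BT.node (nat_lit 5651584) (BT.node (nat_lit 5651520) (BT.leaf (nat_lit 21352713)) (BT.leaf (nat_lit 21352717))) (BT.node (nat_lit 5651648) (BT.leaf (nat_lit 33332769)) (BT.leaf (nat_lit 34175509)))) (BT.node (nat_lit 5651840) (BT.node (nat_lit 5651776) (BT.leaf (nat_lit 33333525)) (BT.leaf (nat_lit 32716817))) (BT.node (nat_lit 5651904) (BT.leaf (nat_lit 33334549)) (BT.leaf (nat_lit 27949597))))) (BT.node (nat_lit 5652224) (BT.node (nat_lit 5652096) (BT.node (nat_lit 5652032) (BT.leaf (nat_lit 33334801)) (BT.leaf (nat_lit 33335313))) (BT.node (nat_lit 5652160) (BT.leaf (nat_lit 33335837)) (BT.leaf (nat_lit 25709585)))) (BT.node (nat_lit 5652352) (BT.node (nat_lit 5652288) (BT.leaf (nat_lit 28228129)) (BT.leaf (nat_lit 33336345))) (BT.node (nat_lit 5652416) (BT.leaf (nat_lit 27280149)) (BT.leaf (nat_lit 27651861)))))) (BT.node (nat_lit 5652992) (BT.node (nat_lit 5652736) (BT.node (nat_lit 5652608) (BT.node (nat_lit 5652544) (BT.leaf (nat_lit 20790037)) (BT.leaf (nat_lit 51671057))) (BT.node (nat_lit 5652672) (BT.leaf (nat_lit 21408801)) (BT.leaf (nat_lit 33337885)))) (BT.node (nat_lit 5652864) (BT.node (nat_lit 5652800) (BT.leaf (nat_lit 23332373)) (BT.leaf (nat_lit 50312993))) (BT.node (nat_lit 5652928) (BT.leaf (nat_lit 22732817)) (BT.leaf (nat_lit 50752269))))) (BT.node (nat_lit 5653248) (BT.node (nat_lit 5653120) (BT.node (nat_lit 5653056) (BT.leaf (nat_lit 33335581)) (BT.leaf (nat_lit 25109265))) (BT.node (nat_lit 5653184) (BT.leaf (nat_lit 24915217)) (BT.leaf (nat_lit 23652117)))) (BT.node (nat_lit 5653376) (BT.node (nat_lit 5653312) (BT.leaf (nat_lit 22512417)) (BT.leaf (nat_lit 23597081))) (BT.node (nat_lit 5653440) (BT.leaf (nat_lit 23597085)) (BT.leaf (nat_lit 22668573))))))) (BT.node (nat_lit 5654528) (BT.node (nat_lit 5654016) (BT.node (nat_lit 5653760) (BT.node (nat_lit 5653632) (BT.node (nat_lit 5653568) (BT.leaf (nat_lit 20872989)) (BT.leaf (nat_lit 22969621))) (BT.node (nat_lit 5653696) (BT.leaf (nat_lit 33339925)) (BT.leaf (nat_lit 33340693)))) (BT.node (nat_lit 5653888) (BT.node (nat_lit 5653824) (BT.leaf (nat_lit 21893401)) (BT.leaf (nat_lit 20790813))) (BT.node (nat_lit 5653952) (BT.leaf (nat_lit 26623517)) (BT.leaf (nat_lit 24237597))))) (BT.node (nat_lit 5654272) (BT.node (nat_lit 5654144) (BT.node (nat_lit 5654080) (BT.leaf (nat_lit 52358677)) (BT.leaf (nat_lit 52352261))) (BT.node (nat_lit 5654208) (BT.leaf (nat_lit 20903689)) (BT.leaf (nat_lit 22616093)))) (BT.node (nat_lit 5654400) (BT.node (nat_lit 5654336) (BT.leaf (nat_lit 22616073)) (BT.leaf (nat_lit 20903709))) (BT.node (nat_lit 5654464) (BT.leaf (nat_lit 52427013)) (BT.leaf (nat_lit 20683289)))))) (BT.node (nat_lit 5655040) (BT.node (nat_lit 5654784) (BT.node (nat_lit 5654656) (BT.node (nat_lit 5654592) (BT.leaf (nat_lit 21901081)) (BT.leaf (nat_lit 20683293))) (BT.node (nat_lit 5654720) (BT.leaf (nat_lit 29210145)) (BT.leaf (nat_lit 36375321)))) (BT.node (nat_lit 5654912) (BT.node (nat_lit 5654848) (BT.leaf (nat_lit 36375325)) (BT.leaf (nat_lit 24687389))) (BT.node (nat_lit 5654976) (BT.leaf (nat_lit 23125785)) (BT.leaf (nat_lit 29501473))))) (BT.node (nat_lit 5655296) (BT.node (nat_lit 5655168) (BT.node (nat_lit 5655104) (BT.leaf (nat_lit 20792081)) (BT.leaf (nat_lit 20791825))) (BT.node (nat_lit 5655232) (BT.leaf (nat_lit 20836121)) (BT.leaf (nat_lit 20836125)))) (BT.node (nat_lit 5655424) (BT.node (nat_lit 5655360) (BT.leaf (nat_lit 28073249)) (BT.leaf (nat_lit 24248865))) (BT.node (nat_lit 5655488) (BT.leaf (nat_lit 51749137)) (BT.leaf (nat_lit 25028617)))))))) (BT.node (nat_lit 5657600) (BT.node (nat_lit 5656576) (BT.node (nat_lit 5656064) (BT.node (nat_lit 5655808) (BT.node (nat_lit 5655680) (BT.node (nat_lit 5655616) (BT.leaf (nat_lit 25028621)) (BT.leaf (nat_lit 25028633))) (BT.node (nat_lit 5655744) (BT.leaf (nat_lit 22718221)) (BT.leaf (nat_lit 22623261)))) (BT.node (nat_lit 5655936) (BT.node (nat_lit 5655872) (BT.leaf (nat_lit 33347857)) (BT.leaf (nat_lit 23766789))) (BT.node (nat_lit 5656000) (BT.leaf (nat_lit 21581845)) (BT.leaf (nat_lit 22624269))))) (BT.node (nat_lit 5656320) (BT.node (nat_lit 5656192) (BT.node (nat_lit 5656128) (BT.leaf (nat_lit 20796949)) (BT.leaf (nat_lit 35191557))) (BT.node (nat_lit 5656256) (BT.leaf (nat_lit 20797209)) (BT.leaf (nat_lit 27961865)))) (BT.node (nat_lit 5656448) (BT.node (nat_lit 5656384) (BT.leaf (nat_lit 24775457)) (BT.leaf (nat_lit 33244193))) (BT.node (nat_lit 5656512) (BT.leaf (nat_lit 28279317)) (BT.leaf (nat_lit 27618321)))))) (BT.node (nat_lit 5657088) (BT.node (nat_lit 5656832) (BT.node (nat_lit 5656704) (BT.node (nat_lit 5656640) (BT.leaf (nat_lit 25499409)) (BT.leaf (nat_lit 25728793))) (BT.node (nat_lit 5656768) (BT.leaf (nat_lit 33350937)) (BT.leaf (nat_lit 20869393)))) (BT.node (nat_lit 5656960) (BT.node (nat_lit 5656896) (BT.leaf (nat_lit 23338781)) (BT.leaf (nat_lit 22627869))) (BT.node (nat_lit 5657024) (BT.leaf (nat_lit 33350925)) (BT.leaf (nat_lit 33351701))))) (BT.node (nat_lit 5657344) (BT.node (nat_lit 5657216) (BT.node (nat_lit 5657152) (BT.leaf (nat_lit 22997009)) (BT.leaf (nat_lit 25912605))) (BT.node (nat_lit 5657280) (BT.leaf (nat_lit 25059101)) (BT.leaf (nat_lit 21611293)))) (BT.node (nat_lit 5657472) (BT.node (nat_lit 5657408) (BT.leaf (nat_lit 33352981)) (BT.leaf (nat_lit 33351453))) (BT.node (nat_lit 5657536) (BT.leaf (nat_lit 27543581)) (BT.leaf (nat_lit 21474309))))))) (BT.node (nat_lit 5658624) (BT.node (nat_lit 5658112) (BT.node (nat_lit 5657856) (BT.node (nat_lit 5657728) (BT.node (nat_lit 5657664) (BT.leaf (nat_lit 22559769)) (BT.leaf (nat_lit 22559773))) (BT.node (nat_lit 5657792) (BT.leaf (nat_lit 51747341)) (BT.leaf (nat_lit 22634273)))) (BT.node (nat_lit 5657984) (BT.node (nat_lit 5657920) (BT.leaf (nat_lit 25442565)) (BT.leaf (nat_lit 23765765))) (BT.node (nat_lit 5658048) (BT.leaf (nat_lit 22632221)) (BT.leaf (nat_lit 50579473))))) (BT.node (nat_lit 5658368) (BT.node (nat_lit 5658240) (BT.node (nat_lit 5658176) (BT.leaf (nat_lit 24838429)) (BT.leaf (nat_lit 20795925))) (BT.node (nat_lit 5658304) (BT.leaf (nat_lit 33356821)) (BT.leaf (nat_lit 20796185)))) (BT.node (nat_lit 5658496) (BT.node (nat_lit 5658432) (BT.leaf (nat_lit 33357849)) (BT.leaf (nat_lit 20796189))) (BT.node (nat_lit 5658560) (BT.leaf (nat_lit 20989981)) (BT.leaf (nat_lit 49070109)))))) (BT.node (nat_lit 5659136) (BT.node (nat_lit 5658880) (BT.node (nat_lit 5658752) (BT.node (nat_lit 5658688) (BT.leaf (nat_lit 33260549)) (BT.leaf (nat_lit 33359633))) (BT.node (nat_lit 5658816) (BT.leaf (nat_lit 21215237)) (BT.leaf (nat_lit 22635549)))) (BT.node (nat_lit 5659008) (BT.node (nat_lit 5658944) (BT.leaf (nat_lit 33360149)) (BT.leaf (nat_lit 28307981))) (BT.node (nat_lit 5659072) (BT.leaf (nat_lit 41882637)) (BT.leaf (nat_lit 33361433))))) (BT.node (nat_lit 5659392) (BT.node (nat_lit 5659264) (BT.node (nat_lit 5659200) (BT.leaf (nat_lit 33060357)) (BT.leaf (nat_lit 25443077))) (BT.node (nat_lit 5659328) (BT.leaf (nat_lit 27258897)) (BT.leaf (nat_lit 33354013)))) (BT.node (nat_lit 5659520) (BT.node (nat_lit 5659456) (BT.leaf (nat_lit 33360157)) (BT.leaf (nat_lit 20796953))) (BT.node (nat_lit 5659584) (BT.leaf (nat_lit 20797725)) (BT.leaf (nat_lit 20985861)))))))))) (BT.node (nat_lit 5667840) (BT.node (nat_lit 5663744) (BT.node (nat_lit 5661696) (BT.node (nat_lit 5660672) (BT.node (nat_lit 5660160) (BT.node (nat_lit 5659904) (BT.node (nat_lit 5659776) (BT.node (nat_lit 5659712) (BT.leaf (nat_lit 20797213)) (BT.leaf (nat_lit 20797721))) (BT.node (nat_lit 5659840) (BT.leaf (nat_lit 20739089)) (BT.leaf (nat_lit 22624285)))) (BT.node (nat_lit 5660032) (BT.node (nat_lit 5659968) (BT.leaf (nat_lit 20797973)) (BT.leaf (nat_lit 21780245))) (BT.node (nat_lit 5660096) (BT.leaf (nat_lit 33362961)) (BT.leaf (nat_lit 23441437))))) (BT.node (nat_lit 5660416) (BT.node (nat_lit 5660288) (BT.node (nat_lit 5660224) (BT.leaf (nat_lit 23757061)) (BT.leaf (nat_lit 23447317))) (BT.node (nat_lit 5660352) (BT.leaf (nat_lit 33615381)) (BT.leaf (nat_lit 27472673)))) (BT.node (nat_lit 5660544) (BT.node (nat_lit 5660480) (BT.leaf (nat_lit 34242077)) (BT.leaf (nat_lit 22538273))) (BT.node (nat_lit 5660608) (BT.leaf (nat_lit 28320033)) (BT.leaf (nat_lit 50133793)))))) (BT.node (nat_lit 5661184) (BT.node (nat_lit 5660928) (BT.node (nat_lit 5660800) (BT.node (nat_lit 5660736) (BT.leaf (nat_lit 24067873)) (BT.leaf (nat_lit 24377361))) (BT.node (nat_lit 5660864) (BT.leaf (nat_lit 24167201)) (BT.leaf (nat_lit 23201313)))) (BT.node (nat_lit 5661056) (BT.node (nat_lit 5660992) (BT.leaf (nat_lit 21176077)) (BT.leaf (nat_lit 21081365))) (BT.node (nat_lit 5661120) (BT.leaf (nat_lit 34323225)) (BT.leaf (nat_lit 34323229))))) (BT.node (nat_lit 5661440) (BT.node (nat_lit 5661312) (BT.node (nat_lit 5661248) (BT.leaf (nat_lit 30840077)) (BT.leaf (nat_lit 25909537))) (BT.node (nat_lit 5661376) (BT.leaf (nat_lit 21081369)) (BT.leaf (nat_lit 21081373)))) (BT.node (nat_lit 5661568) (BT.node (nat_lit 5661504) (BT.leaf (nat_lit 25523717)) (BT.leaf (nat_lit 25523733))) (BT.node (nat_lit 5661632) (BT.leaf (nat_lit 20981009)) (BT.leaf (nat_lit 33365017))))))) (BT.node (nat_lit 5662720) (BT.node (nat_lit 5662208) (BT.node (nat_lit 5661952) (BT.node (nat_lit 5661824) (BT.node (nat_lit 5661760) (BT.leaf (nat_lit 21300249)) (BT.leaf (nat_lit 22687005))) (BT.node (nat_lit 5661888) (BT.leaf (nat_lit 30203937)) (BT.leaf (nat_lit 30203929)))) (BT.node (nat_lit 5662080) (BT.node (nat_lit 5662016) (BT.leaf (nat_lit 33365785)) (BT.leaf (nat_lit 31676193))) (BT.node (nat_lit 5662144) (BT.leaf (nat_lit 24984353)) (BT.leaf (nat_lit 33366289))))) (BT.node (nat_lit 5662464) (BT.node (nat_lit 5662336) (BT.node (nat_lit 5662272) (BT.leaf (nat_lit 26077209)) (BT.leaf (nat_lit 27715869))) (BT.node (nat_lit 5662400) (BT.leaf (nat_lit 20800533)) (BT.leaf (nat_lit 22538521)))) (BT.node (nat_lit 5662592) (BT.node (nat_lit 5662528) (BT.leaf (nat_lit 21270549)) (BT.leaf (nat_lit 24553241))) (BT.node (nat_lit 5662656) (BT.leaf (nat_lit 28328977)) (BT.leaf (nat_lit 28328721)))))) (BT.node (nat_lit 5663232) (BT.node (nat_lit 5662976) (BT.node (nat_lit 5662848) (BT.node (nat_lit 5662784) (BT.leaf (nat_lit 24320025)) (BT.leaf (nat_lit 33368081))) (BT.node (nat_lit 5662912) (BT.leaf (nat_lit 28049689)) (BT.leaf (nat_lit 24283921)))) (BT.node (nat_lit 5663104) (BT.node (nat_lit 5663040) (BT.leaf (nat_lit 25020449)) (BT.leaf (nat_lit 33369361))) (BT.node (nat_lit 5663168) (BT.leaf (nat_lit 25572101)) (BT.leaf (nat_lit 25572113))))) (BT.node (nat_lit 5663488) (BT.node (nat_lit 5663360) (BT.node (nat_lit 5663296) (BT.leaf (nat_lit 28335633)) (BT.leaf (nat_lit 24428573))) (BT.node (nat_lit 5663424) (BT.leaf (nat_lit 20803093)) (BT.leaf (nat_lit 23087385)))) (BT.node (nat_lit 5663616) (BT.node (nat_lit 5663552) (BT.leaf (nat_lit 20803353)) (BT.leaf (nat_lit 20803357))) (BT.node (nat_lit 5663680) (BT.leaf (nat_lit 23371781)) (BT.leaf (nat_lit 20806165)))))))) (BT.node (nat_lit 5665792) (BT.node (nat_lit 5664768) (BT.node (nat_lit 5664256) (BT.node (nat_lit 5664000) (BT.node (nat_lit 5663872) (BT.node (nat_lit 5663808) (BT.leaf (nat_lit 20804113)) (BT.leaf (nat_lit 20803857))) (BT.node (nat_lit 5663936) (BT.leaf (nat_lit 33372949)) (BT.leaf (nat_lit 25696789)))) (BT.node (nat_lit 5664128) (BT.node (nat_lit 5664064) (BT.leaf (nat_lit 20805137)) (BT.leaf (nat_lit 33373457))) (BT.node (nat_lit 5664192) (BT.leaf (nat_lit 21266713)) (BT.leaf (nat_lit 23925253))))) (BT.node (nat_lit 5664512) (BT.node (nat_lit 5664384) (BT.node (nat_lit 5664320) (BT.leaf (nat_lit 20805649)) (BT.leaf (nat_lit 25857309))) (BT.node (nat_lit 5664448) (BT.leaf (nat_lit 22346501)) (BT.leaf (nat_lit 36847377)))) (BT.node (nat_lit 5664640) (BT.node (nat_lit 5664576) (BT.leaf (nat_lit 21472025)) (BT.leaf (nat_lit 21472029))) (BT.node (nat_lit 5664704) (BT.leaf (nat_lit 26056977)) (BT.leaf (nat_lit 37285153)))))) (BT.node (nat_lit 5665280) (BT.node (nat_lit 5665024) (BT.node (nat_lit 5664896) (BT.node (nat_lit 5664832) (BT.leaf (nat_lit 35447569)) (BT.leaf (nat_lit 33376801))) (BT.node (nat_lit 5664960) (BT.leaf (nat_lit 21622033)) (BT.leaf (nat_lit 25084437)))) (BT.node (nat_lit 5665152) (BT.node (nat_lit 5665088) (BT.leaf (nat_lit 23022357)) (BT.leaf (nat_lit 33378065))) (BT.node (nat_lit 5665216) (BT.leaf (nat_lit 22660377)) (BT.leaf (nat_lit 21586961))))) (BT.node (nat_lit 5665536) (BT.node (nat_lit 5665408) (BT.node (nat_lit 5665344) (BT.leaf (nat_lit 51212569)) (BT.leaf (nat_lit 33380113))) (BT.node (nat_lit 5665472) (BT.leaf (nat_lit 33380129)) (BT.leaf (nat_lit 33380357)))) (BT.node (nat_lit 5665664) (BT.node (nat_lit 5665600) (BT.leaf (nat_lit 22662429)) (BT.leaf (nat_lit 30282513))) (BT.node (nat_lit 5665728) (BT.leaf (nat_lit 25724693)) (BT.leaf (nat_lit 36168985))))))) (BT.node (nat_lit 5666816) (BT.node (nat_lit 5666304) (BT.node (nat_lit 5666048) (BT.node (nat_lit 5665920) (BT.node (nat_lit 5665856) (BT.leaf (nat_lit 51564061)) (BT.leaf (nat_lit 36168969))) (BT.node (nat_lit 5665984) (BT.leaf (nat_lit 21857565)) (BT.leaf (nat_lit 21421593)))) (BT.node (nat_lit 5666176) (BT.node (nat_lit 5666112) (BT.leaf (nat_lit 20851729)) (BT.leaf (nat_lit 23465249))) (BT.node (nat_lit 5666240) (BT.leaf (nat_lit 21265941)) (BT.leaf (nat_lit 25712417))))) (BT.node (nat_lit 5666560) (BT.node (nat_lit 5666432) (BT.node (nat_lit 5666368) (BT.leaf (nat_lit 24157217)) (BT.leaf (nat_lit 21295393))) (BT.node (nat_lit 5666496) (BT.leaf (nat_lit 33384469)) (BT.leaf (nat_lit 25907477)))) (BT.node (nat_lit 5666688) (BT.node (nat_lit 5666624) (BT.leaf (nat_lit 24004613)) (BT.leaf (nat_lit 29470981))) (BT.node (nat_lit 5666752) (BT.leaf (nat_lit 23932961)) (BT.leaf (nat_lit 23711253)))))) (BT.node (nat_lit 5667328) (BT.node (nat_lit 5667072) (BT.node (nat_lit 5666944) (BT.node (nat_lit 5666880) (BT.leaf (nat_lit 25537557)) (BT.leaf (nat_lit 21875973))) (BT.node (nat_lit 5667008) (BT.leaf (nat_lit 25230101)) (BT.leaf (nat_lit 21318929)))) (BT.node (nat_lit 5667200) (BT.node (nat_lit 5667136) (BT.leaf (nat_lit 23092493)) (BT.leaf (nat_lit 33377029))) (BT.node (nat_lit 5667264) (BT.leaf (nat_lit 24005393)) (BT.leaf (nat_lit 21318921))))) (BT.node (nat_lit 5667584) (BT.node (nat_lit 5667456) (BT.node (nat_lit 5667392) (BT.leaf (nat_lit 22710809)) (BT.leaf (nat_lit 24359457))) (BT.node (nat_lit 5667520) (BT.leaf (nat_lit 20811537)) (BT.leaf (nat_lit 22893845)))) (BT.node (nat_lit 5667712) (BT.node (nat_lit 5667648) (BT.leaf (nat_lit 33387029)) (BT.leaf (nat_lit 20904469))) (BT.node (nat_lit 5667776) (BT.leaf (nat_lit 20808209)) (BT.leaf (nat_lit 27305749))))))))) (BT.node (nat_lit 5671936) (BT.node (nat_lit 5669888) (BT.node (nat_lit 5668864) (BT.node (nat_lit 5668352) (BT.node (nat_lit 5668096) (BT.node (nat_lit 5667968) (BT.node (nat_lit 5667904) (BT.leaf (nat_lit 22933017)) (BT.leaf (nat_lit 25177605))) (BT.node (nat_lit 5668032) (BT.leaf (nat_lit 20816409)) (BT.leaf (nat_lit 21045533)))) (BT.node (nat_lit 5668224) (BT.node (nat_lit 5668160) (BT.leaf (nat_lit 21032977)) (BT.leaf (nat_lit 21247517))) (BT.node (nat_lit 5668288) (BT.leaf (nat_lit 21151517)) (BT.leaf (nat_lit 33390353))))) (BT.node (nat_lit 5668608) (BT.node (nat_lit 5668480) (BT.node (nat_lit 5668416) (BT.leaf (nat_lit 33390609)) (BT.leaf (nat_lit 33390877))) (BT.node (nat_lit 5668544) (BT.leaf (nat_lit 20814357)) (BT.leaf (nat_lit 33080085)))) (BT.node (nat_lit 5668736) (BT.node (nat_lit 5668672) (BT.leaf (nat_lit 20814597)) (BT.leaf (nat_lit 28373789))) (BT.node (nat_lit 5668800) (BT.leaf (nat_lit 33415689)) (BT.leaf (nat_lit 34307089)))))) (BT.node (nat_lit 5669376) (BT.node (nat_lit 5669120) (BT.node (nat_lit 5668992) (BT.node (nat_lit 5668928) (BT.leaf (nat_lit 21912609)) (BT.leaf (nat_lit 22673177))) (BT.node (nat_lit 5669056) (BT.leaf (nat_lit 25710113)) (BT.leaf (nat_lit 34681633)))) (BT.node (nat_lit 5669248) (BT.node (nat_lit 5669184) (BT.leaf (nat_lit 23364629)) (BT.leaf (nat_lit 23364637))) (BT.node (nat_lit 5669312) (BT.leaf (nat_lit 27497221)) (BT.leaf (nat_lit 50840597))))) (BT.node (nat_lit 5669632) (BT.node (nat_lit 5669504) (BT.node (nat_lit 5669440) (BT.leaf (nat_lit 21142545)) (BT.leaf (nat_lit 33394193))) (BT.node (nat_lit 5669568) (BT.leaf (nat_lit 20814873)) (BT.leaf (nat_lit 21507093)))) (BT.node (nat_lit 5669760) (BT.node (nat_lit 5669696) (BT.leaf (nat_lit 20814877)) (BT.leaf (nat_lit 35488261))) (BT.node (nat_lit 5669824) (BT.leaf (nat_lit 24244769)) (BT.leaf (nat_lit 31899669))))))) (BT.node (nat_lit 5670912) (BT.node (nat_lit 5670400) (BT.node (nat_lit 5670144) (BT.node (nat_lit 5670016) (BT.node (nat_lit 5669952) (BT.leaf (nat_lit 30845461)) (BT.leaf (nat_lit 21870361))) (BT.node (nat_lit 5670080) (BT.leaf (nat_lit 21870349)) (BT.leaf (nat_lit 25183517)))) (BT.node (nat_lit 5670272) (BT.node (nat_lit 5670208) (BT.leaf (nat_lit 33396757)) (BT.leaf (nat_lit 33397521))) (BT.node (nat_lit 5670336) (BT.leaf (nat_lit 25776665)) (BT.leaf (nat_lit 25760029))))) (BT.node (nat_lit 5670656) (BT.node (nat_lit 5670528) (BT.node (nat_lit 5670464) (BT.leaf (nat_lit 23639829)) (BT.leaf (nat_lit 22521093))) (BT.node (nat_lit 5670592) (BT.leaf (nat_lit 22521349)) (BT.leaf (nat_lit 33398541)))) (BT.node (nat_lit 5670784) (BT.node (nat_lit 5670720) (BT.leaf (nat_lit 24243469)) (BT.leaf (nat_lit 21317409))) (BT.node (nat_lit 5670848) (BT.leaf (nat_lit 22616069)) (BT.leaf (nat_lit 22991649)))))) (BT.node (nat_lit 5671424) (BT.node (nat_lit 5671168) (BT.node (nat_lit 5671040) (BT.node (nat_lit 5670976) (BT.leaf (nat_lit 51711777)) (BT.leaf (nat_lit 21754137))) (BT.node (nat_lit 5671104) (BT.leaf (nat_lit 20839449)) (BT.leaf (nat_lit 25116441)))) (BT.node (nat_lit 5671296) (BT.node (nat_lit 5671232) (BT.leaf (nat_lit 22684957)) (BT.leaf (nat_lit 33401617))) (BT.node (nat_lit 5671360) (BT.leaf (nat_lit 33401885)) (BT.leaf (nat_lit 33402401))))) (BT.node (nat_lit 5671680) (BT.node (nat_lit 5671552) (BT.node (nat_lit 5671488) (BT.leaf (nat_lit 33719061)) (BT.leaf (nat_lit 20817169))) (BT.node (nat_lit 5671616) (BT.leaf (nat_lit 21244441)) (BT.leaf (nat_lit 22748957)))) (BT.node (nat_lit 5671808) (BT.node (nat_lit 5671744) (BT.leaf (nat_lit 21238301)) (BT.leaf (nat_lit 28323345))) (BT.node (nat_lit 5671872) (BT.leaf (nat_lit 22687001)) (BT.leaf (nat_lit 33404177)))))))) (BT.node (nat_lit 5673984) (BT.node (nat_lit 5672960) (BT.node (nat_lit 5672448) (BT.node (nat_lit 5672192) (BT.node (nat_lit 5672064) (BT.node (nat_lit 5672000) (BT.leaf (nat_lit 29357585)) (BT.leaf (nat_lit 20853277))) (BT.node (nat_lit 5672128) (BT.leaf (nat_lit 26716421)) (BT.leaf (nat_lit 33404689)))) (BT.node (nat_lit 5672320) (BT.node (nat_lit 5672256) (BT.leaf (nat_lit 24394513)) (BT.leaf (nat_lit 33404953))) (BT.node (nat_lit 5672384) (BT.leaf (nat_lit 37009949)) (BT.leaf (nat_lit 22374417))))) (BT.node (nat_lit 5672704) (BT.node (nat_lit 5672576) (BT.node (nat_lit 5672512) (BT.leaf (nat_lit 51711765)) (BT.leaf (nat_lit 25942041))) (BT.node (nat_lit 5672640) (BT.leaf (nat_lit 28399393)) (BT.leaf (nat_lit 23610389)))) (BT.node (nat_lit 5672832) (BT.node (nat_lit 5672768) (BT.leaf (nat_lit 28637725)) (BT.leaf (nat_lit 46949153))) (BT.node (nat_lit 5672896) (BT.leaf (nat_lit 24156445)) (BT.leaf (nat_lit 22782477)))))) (BT.node (nat_lit 5673472) (BT.node (nat_lit 5673216) (BT.node (nat_lit 5673088) (BT.node (nat_lit 5673024) (BT.leaf (nat_lit 51344133)) (BT.leaf (nat_lit 37666845))) (BT.node (nat_lit 5673152) (BT.leaf (nat_lit 33407765)) (BT.leaf (nat_lit 22795801)))) (BT.node (nat_lit 5673344) (BT.node (nat_lit 5673280) (BT.leaf (nat_lit 35432465)) (BT.leaf (nat_lit 37666829))) (BT.node (nat_lit 5673408) (BT.leaf (nat_lit 33408793)) (BT.leaf (nat_lit 33409301))))) (BT.node (nat_lit 5673728) (BT.node (nat_lit 5673600) (BT.node (nat_lit 5673536) (BT.leaf (nat_lit 33409541)) (BT.leaf (nat_lit 25712137))) (BT.node (nat_lit 5673664) (BT.leaf (nat_lit 22022933)) (BT.leaf (nat_lit 21045777)))) (BT.node (nat_lit 5673856) (BT.node (nat_lit 5673792) (BT.leaf (nat_lit 33411097)) (BT.leaf (nat_lit 20727057))) (BT.node (nat_lit 5673920) (BT.leaf (nat_lit 33392905)) (BT.leaf (nat_lit 22695965))))))) (BT.node (nat_lit 5675008) (BT.node (nat_lit 5674496) (BT.node (nat_lit 5674240) (BT.node (nat_lit 5674112) (BT.node (nat_lit 5674048) (BT.leaf (nat_lit 25337093)) (BT.leaf (nat_lit 23676173))) (BT.node (nat_lit 5674176) (BT.leaf (nat_lit 23676185)) (BT.leaf (nat_lit 23676189)))) (BT.node (nat_lit 5674368) (BT.node (nat_lit 5674304) (BT.leaf (nat_lit 25856533)) (BT.leaf (nat_lit 28352277))) (BT.node (nat_lit 5674432) (BT.leaf (nat_lit 20933397)) (BT.leaf (nat_lit 23072533))))) (BT.node (nat_lit 5674752) (BT.node (nat_lit 5674624) (BT.node (nat_lit 5674560) (BT.leaf (nat_lit 22804761)) (BT.leaf (nat_lit 24207625))) (BT.node (nat_lit 5674688) (BT.leaf (nat_lit 20933149)) (BT.leaf (nat_lit 27562261)))) (BT.node (nat_lit 5674880) (BT.node (nat_lit 5674816) (BT.leaf (nat_lit 27690513)) (BT.leaf (nat_lit 22326289))) (BT.node (nat_lit 5674944) (BT.leaf (nat_lit 25598745)) (BT.leaf (nat_lit 33414417)))))) (BT.node (nat_lit 5675520) (BT.node (nat_lit 5675264) (BT.node (nat_lit 5675136) (BT.node (nat_lit 5675072) (BT.leaf (nat_lit 22386197)) (BT.leaf (nat_lit 20820497))) (BT.node (nat_lit 5675200) (BT.leaf (nat_lit 20820241)) (BT.leaf (nat_lit 21428001)))) (BT.node (nat_lit 5675392) (BT.node (nat_lit 5675328) (BT.leaf (nat_lit 20821777)) (BT.leaf (nat_lit 36424461))) (BT.node (nat_lit 5675456) (BT.leaf (nat_lit 24494853)) (BT.leaf (nat_lit 23487749))))) (BT.node (nat_lit 5675776) (BT.node (nat_lit 5675648) (BT.node (nat_lit 5675584) (BT.leaf (nat_lit 26004493)) (BT.leaf (nat_lit 21213189))) (BT.node (nat_lit 5675712) (BT.leaf (nat_lit 31713301)) (BT.leaf (nat_lit 33416985)))) (BT.node (nat_lit 5675904) (BT.node (nat_lit 5675840) (BT.leaf (nat_lit 33416981)) (BT.leaf (nat_lit 21213201))) (BT.node (nat_lit 5675968) (BT.leaf (nat_lit 21213205)) (BT.leaf (nat_lit 24713493))))))))))) (BT.node (nat_lit 5692416) (BT.node (nat_lit 5684224) (BT.node (nat_lit 5680128) (BT.node (nat_lit 5678080) (BT.node (nat_lit 5677056) (BT.node (nat_lit 5676544) (BT.node (nat_lit 5676288) (BT.node (nat_lit 5676160) (BT.node (nat_lit 5676096) (BT.leaf (nat_lit 33417749)) (BT.leaf (nat_lit 21438745))) (BT.node (nat_lit 5676224) (BT.leaf (nat_lit 21438749)) (BT.leaf (nat_lit 24029957)))) (BT.node (nat_lit 5676416) (BT.node (nat_lit 5676352) (BT.leaf (nat_lit 33420049)) (BT.leaf (nat_lit 22307593))) (BT.node (nat_lit 5676480) (BT.leaf (nat_lit 33421073)) (BT.leaf (nat_lit 23688221))))) (BT.node (nat_lit 5676800) (BT.node (nat_lit 5676672) (BT.node (nat_lit 5676608) (BT.leaf (nat_lit 33421853)) (BT.leaf (nat_lit 51752989))) (BT.node (nat_lit 5676736) (BT.leaf (nat_lit 21677589)) (BT.leaf (nat_lit 23684625)))) (BT.node (nat_lit 5676928) (BT.node (nat_lit 5676864) (BT.leaf (nat_lit 22945305)) (BT.leaf (nat_lit 21438217))) (BT.node (nat_lit 5676992) (BT.leaf (nat_lit 23216153)) (BT.leaf (nat_lit 27057937)))))) (BT.node (nat_lit 5677568) (BT.node (nat_lit 5677312) (BT.node (nat_lit 5677184) (BT.node (nat_lit 5677120) (BT.leaf (nat_lit 33424145)) (BT.leaf (nat_lit 27015705))) (BT.node (nat_lit 5677248) (BT.leaf (nat_lit 25733905)) (BT.leaf (nat_lit 23534349)))) (BT.node (nat_lit 5677440) (BT.node (nat_lit 5677376) (BT.leaf (nat_lit 20984349)) (BT.leaf (nat_lit 20823313))) (BT.node (nat_lit 5677504) (BT.leaf (nat_lit 25549853)) (BT.leaf (nat_lit 47533837))))) (BT.node (nat_lit 5677824) (BT.node (nat_lit 5677696) (BT.node (nat_lit 5677632) (BT.leaf (nat_lit 33425169)) (BT.leaf (nat_lit 37173537))) (BT.node (nat_lit 5677760) (BT.leaf (nat_lit 20824341)) (BT.leaf (nat_lit 21319185)))) (BT.node (nat_lit 5677952) (BT.node (nat_lit 5677888) (BT.leaf (nat_lit 21319201)) (BT.leaf (nat_lit 21289757))) (BT.node (nat_lit 5678016) (BT.leaf (nat_lit 24116257)) (BT.leaf (nat_lit 24116513))))))) (BT.node (nat_lit 5679104) (BT.node (nat_lit 5678592) (BT.node (nat_lit 5678336) (BT.node (nat_lit 5678208) (BT.node (nat_lit 5678144) (BT.leaf (nat_lit 28274965)) (BT.leaf (nat_lit 28472581))) (BT.node (nat_lit 5678272) (BT.leaf (nat_lit 48150789)) (BT.leaf (nat_lit 23206669)))) (BT.node (nat_lit 5678464) (BT.node (nat_lit 5678400) (BT.leaf (nat_lit 36465417)) (BT.leaf (nat_lit 50515985))) (BT.node (nat_lit 5678528) (BT.leaf (nat_lit 20825621)) (BT.leaf (nat_lit 24613893))))) (BT.node (nat_lit 5678848) (BT.node (nat_lit 5678720) (BT.node (nat_lit 5678656) (BT.leaf (nat_lit 26466329)) (BT.leaf (nat_lit 33428253))) (BT.node (nat_lit 5678784) (BT.leaf (nat_lit 22368773)) (BT.leaf (nat_lit 33023761)))) (BT.node (nat_lit 5678976) (BT.node (nat_lit 5678912) (BT.leaf (nat_lit 34195209)) (BT.leaf (nat_lit 30137361))) (BT.node (nat_lit 5679040) (BT.leaf (nat_lit 22715673)) (BT.leaf (nat_lit 22632217)))))) (BT.node (nat_lit 5679616) (BT.node (nat_lit 5679360) (BT.node (nat_lit 5679232) (BT.node (nat_lit 5679168) (BT.leaf (nat_lit 21514761)) (BT.leaf (nat_lit 35767817))) (BT.node (nat_lit 5679296) (BT.leaf (nat_lit 35767821)) (BT.leaf (nat_lit 23731745)))) (BT.node (nat_lit 5679488) (BT.node (nat_lit 5679424) (BT.leaf (nat_lit 23732257)) (BT.leaf (nat_lit 22159893))) (BT.node (nat_lit 5679552) (BT.leaf (nat_lit 22717721)) (BT.leaf (nat_lit 23160085))))) (BT.node (nat_lit 5679872) (BT.node (nat_lit 5679744) (BT.node (nat_lit 5679680) (BT.leaf (nat_lit 32498453)) (BT.leaf (nat_lit 33430037))) (BT.node (nat_lit 5679808) (BT.leaf (nat_lit 48998945)) (BT.leaf (nat_lit 21243681)))) (BT.node (nat_lit 5680000) (BT.node (nat_lit 5679936) (BT.leaf (nat_lit 33430277)) (BT.leaf (nat_lit 33431073))) (BT.node (nat_lit 5680064) (BT.leaf (nat_lit 33175829)) (BT.leaf (nat_lit 33431573)))))))) (BT.node (nat_lit 5682176) (BT.node (nat_lit 5681152) (BT.node (nat_lit 5680640) (BT.node (nat_lit 5680384) (BT.node (nat_lit 5680256) (BT.node (nat_lit 5680192) (BT.leaf (nat_lit 22243093)) (BT.leaf (nat_lit 21474593))) (BT.node (nat_lit 5680320) (BT.leaf (nat_lit 24262177)) (BT.leaf (nat_lit 22801669)))) (BT.node (nat_lit 5680512) (BT.node (nat_lit 5680448) (BT.leaf (nat_lit 21458949)) (BT.leaf (nat_lit 24410133))) (BT.node (nat_lit 5680576) (BT.leaf (nat_lit 26179873)) (BT.leaf (nat_lit 24973581))))) (BT.node (nat_lit 5680896) (BT.node (nat_lit 5680768) (BT.node (nat_lit 5680704) (BT.leaf (nat_lit 24561173)) (BT.leaf (nat_lit 33432849))) (BT.node (nat_lit 5680832) (BT.leaf (nat_lit 33433105)) (BT.leaf (nat_lit 33433373)))) (BT.node (nat_lit 5681024) (BT.node (nat_lit 5680960) (BT.leaf (nat_lit 36269073)) (BT.leaf (nat_lit 33398561))) (BT.node (nat_lit 5681088) (BT.leaf (nat_lit 21230881)) (BT.leaf (nat_lit 27912737)))))) (BT.node (nat_lit 5681664) (BT.node (nat_lit 5681408) (BT.node (nat_lit 5681280) (BT.node (nat_lit 5681216) (BT.leaf (nat_lit 33434653)) (BT.leaf (nat_lit 22555657))) (BT.node (nat_lit 5681344) (BT.leaf (nat_lit 33435421)) (BT.leaf (nat_lit 33435401)))) (BT.node (nat_lit 5681536) (BT.node (nat_lit 5681472) (BT.leaf (nat_lit 33436437)) (BT.leaf (nat_lit 27604757))) (BT.node (nat_lit 5681600) (BT.leaf (nat_lit 51883525)) (BT.leaf (nat_lit 49566745))))) (BT.node (nat_lit 5681920) (BT.node (nat_lit 5681792) (BT.node (nat_lit 5681728) (BT.leaf (nat_lit 29539609)) (BT.leaf (nat_lit 20832785))) (BT.node (nat_lit 5681856) (BT.leaf (nat_lit 22124049)) (BT.leaf (nat_lit 36244769)))) (BT.node (nat_lit 5682048) (BT.node (nat_lit 5681984) (BT.leaf (nat_lit 49566473)) (BT.leaf (nat_lit 51346697))) (BT.node (nat_lit 5682112) (BT.leaf (nat_lit 21357329)) (BT.leaf (nat_lit 28512789))))))) (BT.node (nat_lit 5683200) (BT.node (nat_lit 5682688) (BT.node (nat_lit 5682432) (BT.node (nat_lit 5682304) (BT.node (nat_lit 5682240) (BT.leaf (nat_lit 20833305)) (BT.leaf (nat_lit 20833561))) (BT.node (nat_lit 5682368) (BT.leaf (nat_lit 20833309)) (BT.leaf (nat_lit 20833565)))) (BT.node (nat_lit 5682560) (BT.node (nat_lit 5682496) (BT.leaf (nat_lit 28339213)) (BT.leaf (nat_lit 21833753))) (BT.node (nat_lit 5682624) (BT.leaf (nat_lit 33440281)) (BT.leaf (nat_lit 50350869))))) (BT.node (nat_lit 5682944) (BT.node (nat_lit 5682816) (BT.node (nat_lit 5682752) (BT.leaf (nat_lit 21260305)) (BT.leaf (nat_lit 22608645))) (BT.node (nat_lit 5682880) (BT.leaf (nat_lit 24910865)) (BT.leaf (nat_lit 28410397)))) (BT.node (nat_lit 5683072) (BT.node (nat_lit 5683008) (BT.leaf (nat_lit 27570713)) (BT.leaf (nat_lit 21597205))) (BT.node (nat_lit 5683136) (BT.leaf (nat_lit 21596949)) (BT.leaf (nat_lit 20834581)))))) (BT.node (nat_lit 5683712) (BT.node (nat_lit 5683456) (BT.node (nat_lit 5683328) (BT.node (nat_lit 5683264) (BT.leaf (nat_lit 33442325)) (BT.leaf (nat_lit 22609929))) (BT.node (nat_lit 5683392) (BT.leaf (nat_lit 22609945)) (BT.leaf (nat_lit 22609949)))) (BT.node (nat_lit 5683584) (BT.node (nat_lit 5683520) (BT.leaf (nat_lit 33444369)) (BT.leaf (nat_lit 24029973))) (BT.node (nat_lit 5683648) (BT.leaf (nat_lit 28449569)) (BT.leaf (nat_lit 27564825))))) (BT.node (nat_lit 5683968) (BT.node (nat_lit 5683840) (BT.node (nat_lit 5683776) (BT.leaf (nat_lit 51747605)) (BT.leaf (nat_lit 33446165))) (BT.node (nat_lit 5683904) (BT.leaf (nat_lit 21400089)) (BT.leaf (nat_lit 37033221)))) (BT.node (nat_lit 5684096) (BT.node (nat_lit 5684032) (BT.leaf (nat_lit 22668305)) (BT.leaf (nat_lit 29026569))) (BT.node (nat_lit 5684160) (BT.leaf (nat_lit 33447189)) (BT.leaf (nat_lit 21846553))))))))) (BT.node (nat_lit 5688320) (BT.node (nat_lit 5686272) (BT.node (nat_lit 5685248) (BT.node (nat_lit 5684736) (BT.node (nat_lit 5684480) (BT.node (nat_lit 5684352) (BT.node (nat_lit 5684288) (BT.leaf (nat_lit 22894613)) (BT.leaf (nat_lit 34268693))) (BT.node (nat_lit 5684416) (BT.leaf (nat_lit 22449697)) (BT.leaf (nat_lit 28540421)))) (BT.node (nat_lit 5684608) (BT.node (nat_lit 5684544) (BT.leaf (nat_lit 33117197)) (BT.leaf (nat_lit 27645205))) (BT.node (nat_lit 5684672) (BT.leaf (nat_lit 25885217)) (BT.leaf (nat_lit 30167833))))) (BT.node (nat_lit 5684992) (BT.node (nat_lit 5684864) (BT.node (nat_lit 5684800) (BT.leaf (nat_lit 22585109)) (BT.leaf (nat_lit 23328545))) (BT.node (nat_lit 5684928) (BT.leaf (nat_lit 33451025)) (BT.leaf (nat_lit 25396229)))) (BT.node (nat_lit 5685120) (BT.node (nat_lit 5685056) (BT.leaf (nat_lit 25396513)) (BT.leaf (nat_lit 23890965))) (BT.node (nat_lit 5685184) (BT.leaf (nat_lit 27831829)) (BT.leaf (nat_lit 21047841)))))) (BT.node (nat_lit 5685760) (BT.node (nat_lit 5685504) (BT.node (nat_lit 5685376) (BT.node (nat_lit 5685312) (BT.leaf (nat_lit 21408261)) (BT.leaf (nat_lit 51088393))) (BT.node (nat_lit 5685440) (BT.leaf (nat_lit 25743121)) (BT.leaf (nat_lit 20789009)))) (BT.node (nat_lit 5685632) (BT.node (nat_lit 5685568) (BT.leaf (nat_lit 33452805)) (BT.leaf (nat_lit 33453061))) (BT.node (nat_lit 5685696) (BT.leaf (nat_lit 23396113)) (BT.leaf (nat_lit 28567841))))) (BT.node (nat_lit 5686016) (BT.node (nat_lit 5685888) (BT.node (nat_lit 5685824) (BT.leaf (nat_lit 33453585)) (BT.leaf (nat_lit 33454101))) (BT.node (nat_lit 5685952) (BT.leaf (nat_lit 24080657)) (BT.leaf (nat_lit 33453853)))) (BT.node (nat_lit 5686144) (BT.node (nat_lit 5686080) (BT.leaf (nat_lit 27858973)) (BT.leaf (nat_lit 22538505))) (BT.node (nat_lit 5686208) (BT.leaf (nat_lit 21054741)) (BT.leaf (nat_lit 23715597))))))) (BT.node (nat_lit 5687296) (BT.node (nat_lit 5686784) (BT.node (nat_lit 5686528) (BT.node (nat_lit 5686400) (BT.node (nat_lit 5686336) (BT.leaf (nat_lit 23204369)) (BT.leaf (nat_lit 25984269))) (BT.node (nat_lit 5686464) (BT.leaf (nat_lit 33456665)) (BT.leaf (nat_lit 22685725)))) (BT.node (nat_lit 5686656) (BT.node (nat_lit 5686592) (BT.leaf (nat_lit 22725153)) (BT.leaf (nat_lit 22685705))) (BT.node (nat_lit 5686720) (BT.leaf (nat_lit 21258785)) (BT.leaf (nat_lit 20770329))))) (BT.node (nat_lit 5687040) (BT.node (nat_lit 5686912) (BT.node (nat_lit 5686848) (BT.leaf (nat_lit 48668437)) (BT.leaf (nat_lit 23976481))) (BT.node (nat_lit 5686976) (BT.leaf (nat_lit 28590613)) (BT.leaf (nat_lit 27607841)))) (BT.node (nat_lit 5687168) (BT.node (nat_lit 5687104) (BT.leaf (nat_lit 28319777)) (BT.leaf (nat_lit 28592661))) (BT.node (nat_lit 5687232) (BT.leaf (nat_lit 21347589)) (BT.leaf (nat_lit 22647825)))))) (BT.node (nat_lit 5687808) (BT.node (nat_lit 5687552) (BT.node (nat_lit 5687424) (BT.node (nat_lit 5687360) (BT.leaf (nat_lit 28590085)) (BT.leaf (nat_lit 21235989))) (BT.node (nat_lit 5687488) (BT.leaf (nat_lit 21470233)) (BT.leaf (nat_lit 24333317)))) (BT.node (nat_lit 5687680) (BT.node (nat_lit 5687616) (BT.leaf (nat_lit 29717793)) (BT.leaf (nat_lit 24726289))) (BT.node (nat_lit 5687744) (BT.leaf (nat_lit 52352801)) (BT.leaf (nat_lit 49867033))))) (BT.node (nat_lit 5688064) (BT.node (nat_lit 5687936) (BT.node (nat_lit 5687872) (BT.leaf (nat_lit 27242773)) (BT.leaf (nat_lit 33459985))) (BT.node (nat_lit 5688000) (BT.leaf (nat_lit 21064225)) (BT.leaf (nat_lit 33460245)))) (BT.node (nat_lit 5688192) (BT.node (nat_lit 5688128) (BT.leaf (nat_lit 22402329)) (BT.leaf (nat_lit 36824581))) (BT.node (nat_lit 5688256) (BT.leaf (nat_lit 21600789)) (BT.leaf (nat_lit 22753293)))))))) (BT.node (nat_lit 5690368) (BT.node (nat_lit 5689344) (BT.node (nat_lit 5688832) (BT.node (nat_lit 5688576) (BT.node (nat_lit 5688448) (BT.node (nat_lit 5688384) (BT.leaf (nat_lit 21605397)) (BT.leaf (nat_lit 24187141))) (BT.node (nat_lit 5688512) (BT.leaf (nat_lit 24376861)) (BT.leaf (nat_lit 22819361)))) (BT.node (nat_lit 5688704) (BT.node (nat_lit 5688640) (BT.leaf (nat_lit 35019525)) (BT.leaf (nat_lit 28545817))) (BT.node (nat_lit 5688768) (BT.leaf (nat_lit 20843537)) (BT.leaf (nat_lit 21317125))))) (BT.node (nat_lit 5689088) (BT.node (nat_lit 5688960) (BT.node (nat_lit 5688896) (BT.leaf (nat_lit 26046993)) (BT.leaf (nat_lit 50137877))) (BT.node (nat_lit 5689024) (BT.leaf (nat_lit 20803349)) (BT.leaf (nat_lit 20845337)))) (BT.node (nat_lit 5689216) (BT.node (nat_lit 5689152) (BT.leaf (nat_lit 26959905)) (BT.leaf (nat_lit 33463821))) (BT.node (nat_lit 5689280) (BT.leaf (nat_lit 20845341)) (BT.leaf (nat_lit 33464853)))))) (BT.node (nat_lit 5689856) (BT.node (nat_lit 5689600) (BT.node (nat_lit 5689472) (BT.node (nat_lit 5689408) (BT.leaf (nat_lit 24515333)) (BT.leaf (nat_lit 20845585))) (BT.node (nat_lit 5689536) (BT.leaf (nat_lit 33465873)) (BT.leaf (nat_lit 22758429)))) (BT.node (nat_lit 5689728) (BT.node (nat_lit 5689664) (BT.leaf (nat_lit 33466385)) (BT.leaf (nat_lit 22449413))) (BT.node (nat_lit 5689792) (BT.leaf (nat_lit 20845073)) (BT.leaf (nat_lit 28598817))))) (BT.node (nat_lit 5690112) (BT.node (nat_lit 5689984) (BT.node (nat_lit 5689920) (BT.leaf (nat_lit 28599073)) (BT.leaf (nat_lit 21046033))) (BT.node (nat_lit 5690048) (BT.leaf (nat_lit 28607005)) (BT.leaf (nat_lit 20848133)))) (BT.node (nat_lit 5690240) (BT.node (nat_lit 5690176) (BT.leaf (nat_lit 21004309)) (BT.leaf (nat_lit 22760989))) (BT.node (nat_lit 5690304) (BT.leaf (nat_lit 33470481)) (BT.leaf (nat_lit 27743253))))))) (BT.node (nat_lit 5691392) (BT.node (nat_lit 5690880) (BT.node (nat_lit 5690624) (BT.node (nat_lit 5690496) (BT.node (nat_lit 5690432) (BT.leaf (nat_lit 51406361)) (BT.leaf (nat_lit 22689821))) (BT.node (nat_lit 5690560) (BT.leaf (nat_lit 51652885)) (BT.leaf (nat_lit 27548689)))) (BT.node (nat_lit 5690752) (BT.node (nat_lit 5690688) (BT.leaf (nat_lit 24547617)) (BT.leaf (nat_lit 24547845))) (BT.node (nat_lit 5690816) (BT.leaf (nat_lit 25748765)) (BT.leaf (nat_lit 20936213))))) (BT.node (nat_lit 5691136) (BT.node (nat_lit 5691008) (BT.node (nat_lit 5690944) (BT.leaf (nat_lit 25564949)) (BT.leaf (nat_lit 33473041))) (BT.node (nat_lit 5691072) (BT.leaf (nat_lit 21606421)) (BT.leaf (nat_lit 24732449)))) (BT.node (nat_lit 5691264) (BT.node (nat_lit 5691200) (BT.leaf (nat_lit 21606165)) (BT.leaf (nat_lit 24732429))) (BT.node (nat_lit 5691328) (BT.leaf (nat_lit 33474077)) (BT.leaf (nat_lit 48728845)))))) (BT.node (nat_lit 5691904) (BT.node (nat_lit 5691648) (BT.node (nat_lit 5691520) (BT.node (nat_lit 5691456) (BT.leaf (nat_lit 33862409)) (BT.leaf (nat_lit 26001425))) (BT.node (nat_lit 5691584) (BT.leaf (nat_lit 47384325)) (BT.leaf (nat_lit 33475089)))) (BT.node (nat_lit 5691776) (BT.node (nat_lit 5691712) (BT.leaf (nat_lit 47384333)) (BT.leaf (nat_lit 25832717))) (BT.node (nat_lit 5691840) (BT.leaf (nat_lit 33476625)) (BT.leaf (nat_lit 49807109))))) (BT.node (nat_lit 5692160) (BT.node (nat_lit 5692032) (BT.node (nat_lit 5691968) (BT.leaf (nat_lit 50940681)) (BT.leaf (nat_lit 49807121))) (BT.node (nat_lit 5692096) (BT.leaf (nat_lit 33058061)) (BT.leaf (nat_lit 36975633)))) (BT.node (nat_lit 5692288) (BT.node (nat_lit 5692224) (BT.leaf (nat_lit 24473365)) (BT.leaf (nat_lit 23390241))) (BT.node (nat_lit 5692352) (BT.leaf (nat_lit 34042913)) (BT.leaf (nat_lit 52065801)))))))))) (BT.node (nat_lit 5700608) (BT.node (nat_lit 5696512) (BT.node (nat_lit 5694464) (BT.node (nat_lit 5693440) (BT.node (nat_lit 5692928) (BT.node (nat_lit 5692672) (BT.node (nat_lit 5692544) (BT.node (nat_lit 5692480) (BT.leaf (nat_lit 22905621)) (BT.leaf (nat_lit 33478677))) (BT.node (nat_lit 5692608) (BT.leaf (nat_lit 20849169)) (BT.leaf (nat_lit 28203545)))) (BT.node (nat_lit 5692800) (BT.node (nat_lit 5692736) (BT.leaf (nat_lit 28653841)) (BT.leaf (nat_lit 22319641))) (BT.node (nat_lit 5692864) (BT.leaf (nat_lit 29123857)) (BT.leaf (nat_lit 21015057))))) (BT.node (nat_lit 5693184) (BT.node (nat_lit 5693056) (BT.node (nat_lit 5692992) (BT.leaf (nat_lit 36117777)) (BT.leaf (nat_lit 26573333))) (BT.node (nat_lit 5693120) (BT.leaf (nat_lit 33481241)) (BT.leaf (nat_lit 33481497)))) (BT.node (nat_lit 5693312) (BT.node (nat_lit 5693248) (BT.leaf (nat_lit 22773021)) (BT.leaf (nat_lit 22374917))) (BT.node (nat_lit 5693376) (BT.leaf (nat_lit 20925205)) (BT.leaf (nat_lit 46517769)))))) (BT.node (nat_lit 5693952) (BT.node (nat_lit 5693696) (BT.node (nat_lit 5693568) (BT.node (nat_lit 5693504) (BT.leaf (nat_lit 23461645)) (BT.leaf (nat_lit 20850457))) (BT.node (nat_lit 5693632) (BT.leaf (nat_lit 23461661)) (BT.leaf (nat_lit 20880917)))) (BT.node (nat_lit 5693824) (BT.node (nat_lit 5693760) (BT.leaf (nat_lit 22928921)) (BT.leaf (nat_lit 50401033))) (BT.node (nat_lit 5693888) (BT.leaf (nat_lit 52335893)) (BT.leaf (nat_lit 33483281))))) (BT.node (nat_lit 5694208) (BT.node (nat_lit 5694080) (BT.node (nat_lit 5694016) (BT.leaf (nat_lit 21252365)) (BT.leaf (nat_lit 24071185))) (BT.node (nat_lit 5694144) (BT.leaf (nat_lit 51437597)) (BT.leaf (nat_lit 22552069)))) (BT.node (nat_lit 5694336) (BT.node (nat_lit 5694272) (BT.leaf (nat_lit 23126289)) (BT.leaf (nat_lit 22765073))) (BT.node (nat_lit 5694400) (BT.leaf (nat_lit 46688029)) (BT.leaf (nat_lit 33485061))))))) (BT.node (nat_lit 5695488) (BT.node (nat_lit 5694976) (BT.node (nat_lit 5694720) (BT.node (nat_lit 5694592) (BT.node (nat_lit 5694528) (BT.leaf (nat_lit 33485073)) (BT.leaf (nat_lit 24850961))) (BT.node (nat_lit 5694656) (BT.leaf (nat_lit 51139857)) (BT.leaf (nat_lit 21343253)))) (BT.node (nat_lit 5694848) (BT.node (nat_lit 5694784) (BT.leaf (nat_lit 20851745)) (BT.leaf (nat_lit 22779677))) (BT.node (nat_lit 5694912) (BT.leaf (nat_lit 26775577)) (BT.leaf (nat_lit 33486601))))) (BT.node (nat_lit 5695232) (BT.node (nat_lit 5695104) (BT.node (nat_lit 5695040) (BT.leaf (nat_lit 33486597)) (BT.leaf (nat_lit 33488909))) (BT.node (nat_lit 5695168) (BT.leaf (nat_lit 26554657)) (BT.leaf (nat_lit 33488649)))) (BT.node (nat_lit 5695360) (BT.node (nat_lit 5695296) (BT.leaf (nat_lit 26775561)) (BT.leaf (nat_lit 33492257))) (BT.node (nat_lit 5695424) (BT.leaf (nat_lit 22736401)) (BT.leaf (nat_lit 22736417)))))) (BT.node (nat_lit 5696000) (BT.node (nat_lit 5695744) (BT.node (nat_lit 5695616) (BT.node (nat_lit 5695552) (BT.leaf (nat_lit 36060433)) (BT.leaf (nat_lit 37666825))) (BT.node (nat_lit 5695680) (BT.leaf (nat_lit 33492501)) (BT.leaf (nat_lit 33492757)))) (BT.node (nat_lit 5695872) (BT.node (nat_lit 5695808) (BT.leaf (nat_lit 33493021)) (BT.leaf (nat_lit 33493253))) (BT.node (nat_lit 5695936) (BT.leaf (nat_lit 24430097)) (BT.leaf (nat_lit 46905113))))) (BT.node (nat_lit 5696256) (BT.node (nat_lit 5696128) (BT.node (nat_lit 5696064) (BT.leaf (nat_lit 51784973)) (BT.leaf (nat_lit 33494033))) (BT.node (nat_lit 5696192) (BT.leaf (nat_lit 22554629)) (BT.leaf (nat_lit 28082693)))) (BT.node (nat_lit 5696384) (BT.node (nat_lit 5696320) (BT.leaf (nat_lit 28428301)) (BT.leaf (nat_lit 28708117))) (BT.node (nat_lit 5696448) (BT.leaf (nat_lit 33494541)) (BT.leaf (nat_lit 22763801)))))))) (BT.node (nat_lit 5698560) (BT.node (nat_lit 5697536) (BT.node (nat_lit 5697024) (BT.node (nat_lit 5696768) (BT.node (nat_lit 5696640) (BT.node (nat_lit 5696576) (BT.leaf (nat_lit 27549957)) (BT.leaf (nat_lit 28084769))) (BT.node (nat_lit 5696704) (BT.leaf (nat_lit 22449953)) (BT.leaf (nat_lit 28717329)))) (BT.node (nat_lit 5696896) (BT.node (nat_lit 5696832) (BT.leaf (nat_lit 24309777)) (BT.leaf (nat_lit 50516001))) (BT.node (nat_lit 5696960) (BT.leaf (nat_lit 37855521)) (BT.leaf (nat_lit 22713369))))) (BT.node (nat_lit 5697280) (BT.node (nat_lit 5697152) (BT.node (nat_lit 5697088) (BT.leaf (nat_lit 22713373)) (BT.leaf (nat_lit 28724001))) (BT.node (nat_lit 5697216) (BT.leaf (nat_lit 23415073)) (BT.leaf (nat_lit 24598049)))) (BT.node (nat_lit 5697408) (BT.node (nat_lit 5697344) (BT.leaf (nat_lit 25454853)) (BT.leaf (nat_lit 22798349))) (BT.node (nat_lit 5697472) (BT.leaf (nat_lit 50312453)) (BT.leaf (nat_lit 27400477)))))) (BT.node (nat_lit 5698048) (BT.node (nat_lit 5697792) (BT.node (nat_lit 5697664) (BT.node (nat_lit 5697600) (BT.leaf (nat_lit 31193349)) (BT.leaf (nat_lit 51116061))) (BT.node (nat_lit 5697728) (BT.leaf (nat_lit 50966549)) (BT.leaf (nat_lit 50005281)))) (BT.node (nat_lit 5697920) (BT.node (nat_lit 5697856) (BT.leaf (nat_lit 34004249)) (BT.leaf (nat_lit 34004253))) (BT.node (nat_lit 5697984) (BT.leaf (nat_lit 21288965)) (BT.leaf (nat_lit 28728345))))) (BT.node (nat_lit 5698304) (BT.node (nat_lit 5698176) (BT.node (nat_lit 5698112) (BT.leaf (nat_lit 34378253)) (BT.leaf (nat_lit 47985413))) (BT.node (nat_lit 5698240) (BT.leaf (nat_lit 20853525)) (BT.leaf (nat_lit 34378265)))) (BT.node (nat_lit 5698432) (BT.node (nat_lit 5698368) (BT.leaf (nat_lit 50576413)) (BT.leaf (nat_lit 23483677))) (BT.node (nat_lit 5698496) (BT.leaf (nat_lit 33600261)) (BT.leaf (nat_lit 33600273))))))) (BT.node (nat_lit 5699584) (BT.node (nat_lit 5699072) (BT.node (nat_lit 5698816) (BT.node (nat_lit 5698688) (BT.node (nat_lit 5698624) (BT.leaf (nat_lit 33756169)) (BT.leaf (nat_lit 33600289))) (BT.node (nat_lit 5698752) (BT.leaf (nat_lit 52134173)) (BT.leaf (nat_lit 33691665)))) (BT.node (nat_lit 5698944) (BT.node (nat_lit 5698880) (BT.leaf (nat_lit 33499161)) (BT.leaf (nat_lit 22795805))) (BT.node (nat_lit 5699008) (BT.leaf (nat_lit 25503505)) (BT.leaf (nat_lit 28165917))))) (BT.node (nat_lit 5699328) (BT.node (nat_lit 5699200) (BT.node (nat_lit 5699136) (BT.leaf (nat_lit 20854805)) (BT.leaf (nat_lit 24223249))) (BT.node (nat_lit 5699264) (BT.leaf (nat_lit 28727557)) (BT.leaf (nat_lit 34465057)))) (BT.node (nat_lit 5699456) (BT.node (nat_lit 5699392) (BT.leaf (nat_lit 22994713)) (BT.leaf (nat_lit 28290585))) (BT.node (nat_lit 5699520) (BT.leaf (nat_lit 22649889)) (BT.leaf (nat_lit 27411973)))))) (BT.node (nat_lit 5700096) (BT.node (nat_lit 5699840) (BT.node (nat_lit 5699712) (BT.node (nat_lit 5699648) (BT.leaf (nat_lit 22481173)) (BT.leaf (nat_lit 23304993))) (BT.node (nat_lit 5699776) (BT.leaf (nat_lit 25531677)) (BT.leaf (nat_lit 20840465)))) (BT.node (nat_lit 5699968) (BT.node (nat_lit 5699904) (BT.leaf (nat_lit 24958741)) (BT.leaf (nat_lit 25181713))) (BT.node (nat_lit 5700032) (BT.leaf (nat_lit 22583557)) (BT.leaf (nat_lit 22481689))))) (BT.node (nat_lit 5700352) (BT.node (nat_lit 5700224) (BT.node (nat_lit 5700160) (BT.leaf (nat_lit 37009925)) (BT.leaf (nat_lit 25896709))) (BT.node (nat_lit 5700288) (BT.leaf (nat_lit 21413397)) (BT.leaf (nat_lit 30620437)))) (BT.node (nat_lit 5700480) (BT.node (nat_lit 5700416) (BT.leaf (nat_lit 24435477)) (BT.leaf (nat_lit 20705297))) (BT.node (nat_lit 5700544) (BT.leaf (nat_lit 22024453)) (BT.leaf (nat_lit 22443541))))))))) (BT.node (nat_lit 5704704) (BT.node (nat_lit 5702656) (BT.node (nat_lit 5701632) (BT.node (nat_lit 5701120) (BT.node (nat_lit 5700864) (BT.node (nat_lit 5700736) (BT.node (nat_lit 5700672) (BT.leaf (nat_lit 22721309)) (BT.leaf (nat_lit 51440389))) (BT.node (nat_lit 5700800) (BT.leaf (nat_lit 27765269)) (BT.leaf (nat_lit 33110533)))) (BT.node (nat_lit 5700992) (BT.node (nat_lit 5700928) (BT.leaf (nat_lit 21131289)) (BT.leaf (nat_lit 33507345))) (BT.node (nat_lit 5701056) (BT.leaf (nat_lit 23324193)) (BT.leaf (nat_lit 26664477))))) (BT.node (nat_lit 5701376) (BT.node (nat_lit 5701248) (BT.node (nat_lit 5701184) (BT.leaf (nat_lit 28759305)) (BT.leaf (nat_lit 20933141))) (BT.node (nat_lit 5701312) (BT.leaf (nat_lit 21298709)) (BT.leaf (nat_lit 22804749)))) (BT.node (nat_lit 5701504) (BT.node (nat_lit 5701440) (BT.leaf (nat_lit 27419681)) (BT.leaf (nat_lit 46795549))) (BT.node (nat_lit 5701568) (BT.leaf (nat_lit 22700573)) (BT.leaf (nat_lit 33509397)))))) (BT.node (nat_lit 5702144) (BT.node (nat_lit 5701888) (BT.node (nat_lit 5701760) (BT.node (nat_lit 5701696) (BT.leaf (nat_lit 20933401)) (BT.leaf (nat_lit 20858641))) (BT.node (nat_lit 5701824) (BT.leaf (nat_lit 35429645)) (BT.leaf (nat_lit 20859153)))) (BT.node (nat_lit 5702016) (BT.node (nat_lit 5701952) (BT.leaf (nat_lit 35429385)) (BT.leaf (nat_lit 22657301))) (BT.node (nat_lit 5702080) (BT.leaf (nat_lit 52296217)) (BT.leaf (nat_lit 52296221))))) (BT.node (nat_lit 5702400) (BT.node (nat_lit 5702272) (BT.node (nat_lit 5702208) (BT.leaf (nat_lit 24176653)) (BT.leaf (nat_lit 22124817))) (BT.node (nat_lit 5702336) (BT.leaf (nat_lit 22125585)) (BT.leaf (nat_lit 33512721)))) (BT.node (nat_lit 5702528) (BT.node (nat_lit 5702464) (BT.leaf (nat_lit 21514765)) (BT.leaf (nat_lit 22704137))) (BT.node (nat_lit 5702592) (BT.leaf (nat_lit 22704145)) (BT.leaf (nat_lit 21514777))))))) (BT.node (nat_lit 5703680) (BT.node (nat_lit 5703168) (BT.node (nat_lit 5702912) (BT.node (nat_lit 5702784) (BT.node (nat_lit 5702720) (BT.leaf (nat_lit 21514781)) (BT.leaf (nat_lit 22379277))) (BT.node (nat_lit 5702848) (BT.leaf (nat_lit 23276813)) (BT.leaf (nat_lit 23276829)))) (BT.node (nat_lit 5703040) (BT.node (nat_lit 5702976) (BT.leaf (nat_lit 20929045)) (BT.leaf (nat_lit 21386005))) (BT.node (nat_lit 5703104) (BT.leaf (nat_lit 22657297)) (BT.leaf (nat_lit 23516689))))) (BT.node (nat_lit 5703424) (BT.node (nat_lit 5703296) (BT.node (nat_lit 5703232) (BT.leaf (nat_lit 23216161)) (BT.leaf (nat_lit 24066065))) (BT.node (nat_lit 5703360) (BT.leaf (nat_lit 33517345)) (BT.leaf (nat_lit 33517589)))) (BT.node (nat_lit 5703552) (BT.node (nat_lit 5703488) (BT.leaf (nat_lit 33518113)) (BT.leaf (nat_lit 36846617))) (BT.node (nat_lit 5703616) (BT.leaf (nat_lit 21083921)) (BT.leaf (nat_lit 36846105)))))) (BT.node (nat_lit 5704192) (BT.node (nat_lit 5703936) (BT.node (nat_lit 5703808) (BT.node (nat_lit 5703744) (BT.leaf (nat_lit 20862225)) (BT.leaf (nat_lit 20861457))) (BT.node (nat_lit 5703872) (BT.leaf (nat_lit 20861201)) (BT.leaf (nat_lit 20862745)))) (BT.node (nat_lit 5704064) (BT.node (nat_lit 5704000) (BT.leaf (nat_lit 20864269)) (BT.leaf (nat_lit 20864017))) (BT.node (nat_lit 5704128) (BT.leaf (nat_lit 22372121)) (BT.leaf (nat_lit 51486737))))) (BT.node (nat_lit 5704448) (BT.node (nat_lit 5704320) (BT.node (nat_lit 5704256) (BT.leaf (nat_lit 22170913)) (BT.leaf (nat_lit 28483077))) (BT.node (nat_lit 5704384) (BT.leaf (nat_lit 51486985)) (BT.leaf (nat_lit 51486989)))) (BT.node (nat_lit 5704576) (BT.node (nat_lit 5704512) (BT.leaf (nat_lit 28483101)) (BT.leaf (nat_lit 23303441))) (BT.node (nat_lit 5704640) (BT.leaf (nat_lit 20862749)) (BT.leaf (nat_lit 28285193)))))))) (BT.node (nat_lit 5706752) (BT.node (nat_lit 5705728) (BT.node (nat_lit 5705216) (BT.node (nat_lit 5704960) (BT.node (nat_lit 5704832) (BT.node (nat_lit 5704768) (BT.leaf (nat_lit 23224861)) (BT.leaf (nat_lit 22493985))) (BT.node (nat_lit 5704896) (BT.leaf (nat_lit 33124357)) (BT.leaf (nat_lit 23951125)))) (BT.node (nat_lit 5705088) (BT.node (nat_lit 5705024) (BT.leaf (nat_lit 50038805)) (BT.leaf (nat_lit 26187029))) (BT.node (nat_lit 5705152) (BT.leaf (nat_lit 24157193)) (BT.leaf (nat_lit 22626577))))) (BT.node (nat_lit 5705472) (BT.node (nat_lit 5705344) (BT.node (nat_lit 5705280) (BT.leaf (nat_lit 23575329)) (BT.leaf (nat_lit 20869897))) (BT.node (nat_lit 5705408) (BT.leaf (nat_lit 26795285)) (BT.leaf (nat_lit 24921373)))) (BT.node (nat_lit 5705600) (BT.node (nat_lit 5705536) (BT.leaf (nat_lit 50887201)) (BT.leaf (nat_lit 51688221))) (BT.node (nat_lit 5705664) (BT.leaf (nat_lit 50554141)) (BT.leaf (nat_lit 27271961)))))) (BT.node (nat_lit 5706240) (BT.node (nat_lit 5705984) (BT.node (nat_lit 5705856) (BT.node (nat_lit 5705792) (BT.leaf (nat_lit 28401681)) (BT.leaf (nat_lit 28401685))) (BT.node (nat_lit 5705920) (BT.leaf (nat_lit 22751513)) (BT.leaf (nat_lit 25647637)))) (BT.node (nat_lit 5706112) (BT.node (nat_lit 5706048) (BT.leaf (nat_lit 22618645)) (BT.leaf (nat_lit 24686613))) (BT.node (nat_lit 5706176) (BT.leaf (nat_lit 20867869)) (BT.leaf (nat_lit 20868633))))) (BT.node (nat_lit 5706496) (BT.node (nat_lit 5706368) (BT.node (nat_lit 5706304) (BT.leaf (nat_lit 22618133)) (BT.leaf (nat_lit 24243485))) (BT.node (nat_lit 5706432) (BT.leaf (nat_lit 21029397)) (BT.leaf (nat_lit 34227229)))) (BT.node (nat_lit 5706624) (BT.node (nat_lit 5706560) (BT.leaf (nat_lit 50664713)) (BT.leaf (nat_lit 20869637))) (BT.node (nat_lit 5706688) (BT.leaf (nat_lit 25712409)) (BT.leaf (nat_lit 24156441))))))) (BT.node (nat_lit 5707776) (BT.node (nat_lit 5707264) (BT.node (nat_lit 5707008) (BT.node (nat_lit 5706880) (BT.node (nat_lit 5706816) (BT.leaf (nat_lit 50047765)) (BT.leaf (nat_lit 33531149))) (BT.node (nat_lit 5706944) (BT.leaf (nat_lit 48185365)) (BT.leaf (nat_lit 46948641)))) (BT.node (nat_lit 5707136) (BT.node (nat_lit 5707072) (BT.leaf (nat_lit 20869905)) (BT.leaf (nat_lit 27228961))) (BT.node (nat_lit 5707200) (BT.leaf (nat_lit 22914309)) (BT.leaf (nat_lit 27641865))))) (BT.node (nat_lit 5707520) (BT.node (nat_lit 5707392) (BT.node (nat_lit 5707328) (BT.leaf (nat_lit 27695897)) (BT.leaf (nat_lit 21384981))) (BT.node (nat_lit 5707456) (BT.leaf (nat_lit 51918369)) (BT.leaf (nat_lit 32690697)))) (BT.node (nat_lit 5707648) (BT.node (nat_lit 5707584) (BT.leaf (nat_lit 33533717)) (BT.leaf (nat_lit 21106205))) (BT.node (nat_lit 5707712) (BT.leaf (nat_lit 51155985)) (BT.leaf (nat_lit 25179925)))))) (BT.node (nat_lit 5708288) (BT.node (nat_lit 5708032) (BT.node (nat_lit 5707904) (BT.node (nat_lit 5707840) (BT.leaf (nat_lit 33535517)) (BT.leaf (nat_lit 33536277))) (BT.node (nat_lit 5707968) (BT.leaf (nat_lit 22831385)) (BT.leaf (nat_lit 21013537)))) (BT.node (nat_lit 5708160) (BT.node (nat_lit 5708096) (BT.leaf (nat_lit 24855829)) (BT.leaf (nat_lit 23333397))) (BT.node (nat_lit 5708224) (BT.leaf (nat_lit 47428893)) (BT.leaf (nat_lit 26021133))))) (BT.node (nat_lit 5708544) (BT.node (nat_lit 5708416) (BT.node (nat_lit 5708352) (BT.leaf (nat_lit 24192789)) (BT.leaf (nat_lit 24192793))) (BT.node (nat_lit 5708480) (BT.leaf (nat_lit 24192797)) (BT.leaf (nat_lit 24684057)))) (BT.node (nat_lit 5708672) (BT.node (nat_lit 5708608) (BT.leaf (nat_lit 21057041)) (BT.leaf (nat_lit 22743045))) (BT.node (nat_lit 5708736) (BT.leaf (nat_lit 22743065)) (BT.leaf (nat_lit 22743069)))))))))))) (BT.node (nat_lit 5741568) (BT.node (nat_lit 5725184) (BT.node (nat_lit 5716992) (BT.node (nat_lit 5712896) (BT.node (nat_lit 5710848) (BT.node (nat_lit 5709824) (BT.node (nat_lit 5709312) (BT.node (nat_lit 5709056) (BT.node (nat_lit 5708928) (BT.node (nat_lit 5708864) (BT.leaf (nat_lit 24846345)) (BT.leaf (nat_lit 33540113))) (BT.node (nat_lit 5708992) (BT.leaf (nat_lit 23029017)) (BT.leaf (nat_lit 50271009)))) (BT.node (nat_lit 5709184) (BT.node (nat_lit 5709120) (BT.leaf (nat_lit 33878561)) (BT.leaf (nat_lit 27427089))) (BT.node (nat_lit 5709248) (BT.leaf (nat_lit 22743829)) (BT.leaf (nat_lit 21511445))))) (BT.node (nat_lit 5709568) (BT.node (nat_lit 5709440) (BT.node (nat_lit 5709376) (BT.leaf (nat_lit 36512801)) (BT.leaf (nat_lit 23321365))) (BT.node (nat_lit 5709504) (BT.leaf (nat_lit 21022497)) (BT.leaf (nat_lit 20872985)))) (BT.node (nat_lit 5709696) (BT.node (nat_lit 5709632) (BT.leaf (nat_lit 22497825)) (BT.leaf (nat_lit 33541901))) (BT.node (nat_lit 5709760) (BT.leaf (nat_lit 28853765)) (BT.leaf (nat_lit 33682205)))))) (BT.node (nat_lit 5710336) (BT.node (nat_lit 5710080) (BT.node (nat_lit 5709952) (BT.node (nat_lit 5709888) (BT.leaf (nat_lit 22637081)) (BT.leaf (nat_lit 22637085))) (BT.node (nat_lit 5710016) (BT.leaf (nat_lit 50064913)) (BT.leaf (nat_lit 33691681)))) (BT.node (nat_lit 5710208) (BT.node (nat_lit 5710144) (BT.leaf (nat_lit 21275153)) (BT.leaf (nat_lit 24603161))) (BT.node (nat_lit 5710272) (BT.leaf (nat_lit 28452129)) (BT.leaf (nat_lit 20882209))))) (BT.node (nat_lit 5710592) (BT.node (nat_lit 5710464) (BT.node (nat_lit 5710400) (BT.leaf (nat_lit 36355341)) (BT.leaf (nat_lit 23751713))) (BT.node (nat_lit 5710528) (BT.leaf (nat_lit 22661381)) (BT.leaf (nat_lit 23667233)))) (BT.node (nat_lit 5710720) (BT.node (nat_lit 5710656) (BT.leaf (nat_lit 33277201)) (BT.leaf (nat_lit 22661401))) (BT.node (nat_lit 5710784) (BT.leaf (nat_lit 21081861)) (BT.leaf (nat_lit 33546513))))))) (BT.node (nat_lit 5711872) (BT.node (nat_lit 5711360) (BT.node (nat_lit 5711104) (BT.node (nat_lit 5710976) (BT.node (nat_lit 5710912) (BT.leaf (nat_lit 33546509)) (BT.leaf (nat_lit 23733529))) (BT.node (nat_lit 5711040) (BT.leaf (nat_lit 28039449)) (BT.leaf (nat_lit 21397765)))) (BT.node (nat_lit 5711232) (BT.node (nat_lit 5711168) (BT.leaf (nat_lit 23676169)) (BT.leaf (nat_lit 28038673))) (BT.node (nat_lit 5711296) (BT.leaf (nat_lit 23516677)) (BT.leaf (nat_lit 33549085))))) (BT.node (nat_lit 5711616) (BT.node (nat_lit 5711488) (BT.node (nat_lit 5711424) (BT.leaf (nat_lit 33549585)) (BT.leaf (nat_lit 22845465))) (BT.node (nat_lit 5711552) (BT.leaf (nat_lit 33442593)) (BT.leaf (nat_lit 34731553)))) (BT.node (nat_lit 5711744) (BT.node (nat_lit 5711680) (BT.leaf (nat_lit 27644181)) (BT.leaf (nat_lit 50182917))) (BT.node (nat_lit 5711808) (BT.leaf (nat_lit 20871697)) (BT.leaf (nat_lit 33550877)))))) (BT.node (nat_lit 5712384) (BT.node (nat_lit 5712128) (BT.node (nat_lit 5712000) (BT.node (nat_lit 5711936) (BT.leaf (nat_lit 23189789)) (BT.leaf (nat_lit 23340805))) (BT.node (nat_lit 5712064) (BT.leaf (nat_lit 22847769)) (BT.leaf (nat_lit 25279773)))) (BT.node (nat_lit 5712256) (BT.node (nat_lit 5712192) (BT.leaf (nat_lit 33552157)) (BT.leaf (nat_lit 33535773))) (BT.node (nat_lit 5712320) (BT.leaf (nat_lit 33552661)) (BT.leaf (nat_lit 25793561))))) (BT.node (nat_lit 5712640) (BT.node (nat_lit 5712512) (BT.node (nat_lit 5712448) (BT.leaf (nat_lit 33084193)) (BT.leaf (nat_lit 23542805))) (BT.node (nat_lit 5712576) (BT.leaf (nat_lit 33554193)) (BT.leaf (nat_lit 22425629)))) (BT.node (nat_lit 5712768) (BT.node (nat_lit 5712704) (BT.leaf (nat_lit 23890713)) (BT.leaf (nat_lit 26230809))) (BT.node (nat_lit 5712832) (BT.leaf (nat_lit 37130269)) (BT.leaf (nat_lit 33535521)))))))) (BT.node (nat_lit 5714944) (BT.node (nat_lit 5713920) (BT.node (nat_lit 5713408) (BT.node (nat_lit 5713152) (BT.node (nat_lit 5713024) (BT.node (nat_lit 5712960) (BT.leaf (nat_lit 33553437)) (BT.leaf (nat_lit 26012961))) (BT.node (nat_lit 5713088) (BT.leaf (nat_lit 33556241)) (BT.leaf (nat_lit 24481297)))) (BT.node (nat_lit 5713280) (BT.node (nat_lit 5713216) (BT.leaf (nat_lit 20876309)) (BT.leaf (nat_lit 21651485))) (BT.node (nat_lit 5713344) (BT.leaf (nat_lit 21651465)) (BT.leaf (nat_lit 21028125))))) (BT.node (nat_lit 5713664) (BT.node (nat_lit 5713536) (BT.node (nat_lit 5713472) (BT.leaf (nat_lit 20877073)) (BT.leaf (nat_lit 21226009))) (BT.node (nat_lit 5713600) (BT.leaf (nat_lit 36629281)) (BT.leaf (nat_lit 24049669)))) (BT.node (nat_lit 5713792) (BT.node (nat_lit 5713728) (BT.leaf (nat_lit 27360789)) (BT.leaf (nat_lit 22725897))) (BT.node (nat_lit 5713856) (BT.leaf (nat_lit 33558817)) (BT.leaf (nat_lit 25096973)))))) (BT.node (nat_lit 5714432) (BT.node (nat_lit 5714176) (BT.node (nat_lit 5714048) (BT.node (nat_lit 5713984) (BT.leaf (nat_lit 31489569)) (BT.leaf (nat_lit 33560345))) (BT.node (nat_lit 5714112) (BT.leaf (nat_lit 22927133)) (BT.leaf (nat_lit 50742029)))) (BT.node (nat_lit 5714304) (BT.node (nat_lit 5714240) (BT.leaf (nat_lit 33560849)) (BT.leaf (nat_lit 33561105))) (BT.node (nat_lit 5714368) (BT.leaf (nat_lit 33561373)) (BT.leaf (nat_lit 28881673))))) (BT.node (nat_lit 5714688) (BT.node (nat_lit 5714560) (BT.node (nat_lit 5714496) (BT.leaf (nat_lit 33549853)) (BT.leaf (nat_lit 33561617))) (BT.node (nat_lit 5714624) (BT.leaf (nat_lit 33562397)) (BT.leaf (nat_lit 33562909)))) (BT.node (nat_lit 5714816) (BT.node (nat_lit 5714752) (BT.leaf (nat_lit 33563665)) (BT.leaf (nat_lit 22858777))) (BT.node (nat_lit 5714880) (BT.leaf (nat_lit 28477193)) (BT.leaf (nat_lit 33565201))))))) (BT.node (nat_lit 5715968) (BT.node (nat_lit 5715456) (BT.node (nat_lit 5715200) (BT.node (nat_lit 5715072) (BT.node (nat_lit 5715008) (BT.leaf (nat_lit 23457029)) (BT.leaf (nat_lit 33565969))) (BT.node (nat_lit 5715136) (BT.leaf (nat_lit 33851409)) (BT.leaf (nat_lit 33566741)))) (BT.node (nat_lit 5715328) (BT.node (nat_lit 5715264) (BT.leaf (nat_lit 23928581)) (BT.leaf (nat_lit 36044805))) (BT.node (nat_lit 5715392) (BT.leaf (nat_lit 33549581)) (BT.leaf (nat_lit 25788705))))) (BT.node (nat_lit 5715712) (BT.node (nat_lit 5715584) (BT.node (nat_lit 5715520) (BT.leaf (nat_lit 33550093)) (BT.leaf (nat_lit 27640589))) (BT.node (nat_lit 5715648) (BT.leaf (nat_lit 24613665)) (BT.leaf (nat_lit 28907789)))) (BT.node (nat_lit 5715840) (BT.node (nat_lit 5715776) (BT.leaf (nat_lit 22732833)) (BT.leaf (nat_lit 24328465))) (BT.node (nat_lit 5715904) (BT.leaf (nat_lit 50382601)) (BT.leaf (nat_lit 20674581)))))) (BT.node (nat_lit 5716480) (BT.node (nat_lit 5716224) (BT.node (nat_lit 5716096) (BT.node (nat_lit 5716032) (BT.leaf (nat_lit 51387169)) (BT.leaf (nat_lit 24709653))) (BT.node (nat_lit 5716160) (BT.leaf (nat_lit 27281925)) (BT.leaf (nat_lit 22732829)))) (BT.node (nat_lit 5716352) (BT.node (nat_lit 5716288) (BT.leaf (nat_lit 21886481)) (BT.leaf (nat_lit 33569821))) (BT.node (nat_lit 5716416) (BT.leaf (nat_lit 24664341)) (BT.leaf (nat_lit 24664349))))) (BT.node (nat_lit 5716736) (BT.node (nat_lit 5716608) (BT.node (nat_lit 5716544) (BT.leaf (nat_lit 28140821)) (BT.leaf (nat_lit 28140829))) (BT.node (nat_lit 5716672) (BT.leaf (nat_lit 22945301)) (BT.leaf (nat_lit 23236373)))) (BT.node (nat_lit 5716864) (BT.node (nat_lit 5716800) (BT.leaf (nat_lit 23216141)) (BT.leaf (nat_lit 23216917))) (BT.node (nat_lit 5716928) (BT.leaf (nat_lit 36300829)) (BT.leaf (nat_lit 21438221))))))))) (BT.node (nat_lit 5721088) (BT.node (nat_lit 5719040) (BT.node (nat_lit 5718016) (BT.node (nat_lit 5717504) (BT.node (nat_lit 5717248) (BT.node (nat_lit 5717120) (BT.node (nat_lit 5717056) (BT.leaf (nat_lit 24051745)) (BT.leaf (nat_lit 33573909))) (BT.node (nat_lit 5717184) (BT.leaf (nat_lit 23482129)) (BT.leaf (nat_lit 23484189)))) (BT.node (nat_lit 5717376) (BT.node (nat_lit 5717312) (BT.leaf (nat_lit 24492305)) (BT.leaf (nat_lit 33574929))) (BT.node (nat_lit 5717440) (BT.leaf (nat_lit 28956169)) (BT.leaf (nat_lit 33575453))))) (BT.node (nat_lit 5717760) (BT.node (nat_lit 5717632) (BT.node (nat_lit 5717568) (BT.leaf (nat_lit 22773017)) (BT.leaf (nat_lit 27792401))) (BT.node (nat_lit 5717696) (BT.leaf (nat_lit 24591385)) (BT.leaf (nat_lit 30530573)))) (BT.node (nat_lit 5717888) (BT.node (nat_lit 5717824) (BT.leaf (nat_lit 23788305)) (BT.leaf (nat_lit 47625477))) (BT.node (nat_lit 5717952) (BT.leaf (nat_lit 25580321)) (BT.leaf (nat_lit 24070417)))))) (BT.node (nat_lit 5718528) (BT.node (nat_lit 5718272) (BT.node (nat_lit 5718144) (BT.node (nat_lit 5718080) (BT.leaf (nat_lit 24594197)) (BT.leaf (nat_lit 22524933))) (BT.node (nat_lit 5718208) (BT.leaf (nat_lit 22524957)) (BT.leaf (nat_lit 21180677)))) (BT.node (nat_lit 5718400) (BT.node (nat_lit 5718336) (BT.leaf (nat_lit 51271449)) (BT.leaf (nat_lit 21180437))) (BT.node (nat_lit 5718464) (BT.leaf (nat_lit 27892497)) (BT.leaf (nat_lit 22306841))))) (BT.node (nat_lit 5718784) (BT.node (nat_lit 5718656) (BT.node (nat_lit 5718592) (BT.leaf (nat_lit 22306845)) (BT.leaf (nat_lit 23871517))) (BT.node (nat_lit 5718720) (BT.leaf (nat_lit 27317277)) (BT.leaf (nat_lit 28198669)))) (BT.node (nat_lit 5718912) (BT.node (nat_lit 5718848) (BT.leaf (nat_lit 24400157)) (BT.leaf (nat_lit 28579345))) (BT.node (nat_lit 5718976) (BT.leaf (nat_lit 23347473)) (BT.leaf (nat_lit 22687513))))))) (BT.node (nat_lit 5720064) (BT.node (nat_lit 5719552) (BT.node (nat_lit 5719296) (BT.node (nat_lit 5719168) (BT.node (nat_lit 5719104) (BT.leaf (nat_lit 22687517)) (BT.leaf (nat_lit 28986889))) (BT.node (nat_lit 5719232) (BT.leaf (nat_lit 20879125)) (BT.leaf (nat_lit 21127969)))) (BT.node (nat_lit 5719424) (BT.node (nat_lit 5719360) (BT.leaf (nat_lit 26546973)) (BT.leaf (nat_lit 33580829))) (BT.node (nat_lit 5719488) (BT.leaf (nat_lit 20879393)) (BT.leaf (nat_lit 33581589))))) (BT.node (nat_lit 5719808) (BT.node (nat_lit 5719680) (BT.node (nat_lit 5719616) (BT.leaf (nat_lit 21249313)) (BT.leaf (nat_lit 27198233))) (BT.node (nat_lit 5719744) (BT.leaf (nat_lit 27265285)) (BT.leaf (nat_lit 33583381)))) (BT.node (nat_lit 5719936) (BT.node (nat_lit 5719872) (BT.leaf (nat_lit 27265301)) (BT.leaf (nat_lit 27265305))) (BT.node (nat_lit 5720000) (BT.leaf (nat_lit 27265309)) (BT.leaf (nat_lit 27265313)))))) (BT.node (nat_lit 5720576) (BT.node (nat_lit 5720320) (BT.node (nat_lit 5720192) (BT.node (nat_lit 5720128) (BT.leaf (nat_lit 27265293)) (BT.leaf (nat_lit 26546957))) (BT.node (nat_lit 5720256) (BT.leaf (nat_lit 29640725)) (BT.leaf (nat_lit 26750497)))) (BT.node (nat_lit 5720448) (BT.node (nat_lit 5720384) (BT.leaf (nat_lit 21070881)) (BT.leaf (nat_lit 21266977))) (BT.node (nat_lit 5720512) (BT.leaf (nat_lit 33585945)) (BT.leaf (nat_lit 20984329))))) (BT.node (nat_lit 5720832) (BT.node (nat_lit 5720704) (BT.node (nat_lit 5720640) (BT.leaf (nat_lit 23534345)) (BT.leaf (nat_lit 37825805))) (BT.node (nat_lit 5720768) (BT.leaf (nat_lit 37254429)) (BT.leaf (nat_lit 23534361)))) (BT.node (nat_lit 5720960) (BT.node (nat_lit 5720896) (BT.leaf (nat_lit 21783833)) (BT.leaf (nat_lit 21783837))) (BT.node (nat_lit 5721024) (BT.leaf (nat_lit 22981405)) (BT.leaf (nat_lit 24509201)))))))) (BT.node (nat_lit 5723136) (BT.node (nat_lit 5722112) (BT.node (nat_lit 5721600) (BT.node (nat_lit 5721344) (BT.node (nat_lit 5721216) (BT.node (nat_lit 5721152) (BT.leaf (nat_lit 24510237)) (BT.leaf (nat_lit 22704141))) (BT.node (nat_lit 5721280) (BT.leaf (nat_lit 47347997)) (BT.leaf (nat_lit 22331665)))) (BT.node (nat_lit 5721472) (BT.node (nat_lit 5721408) (BT.leaf (nat_lit 24162077)) (BT.leaf (nat_lit 27352597))) (BT.node (nat_lit 5721536) (BT.leaf (nat_lit 22319381)) (BT.leaf (nat_lit 24570145))))) (BT.node (nat_lit 5721856) (BT.node (nat_lit 5721728) (BT.node (nat_lit 5721664) (BT.leaf (nat_lit 26023445)) (BT.leaf (nat_lit 37517333))) (BT.node (nat_lit 5721792) (BT.leaf (nat_lit 28332313)) (BT.leaf (nat_lit 49827845)))) (BT.node (nat_lit 5721984) (BT.node (nat_lit 5721920) (BT.leaf (nat_lit 33092385)) (BT.leaf (nat_lit 48341509))) (BT.node (nat_lit 5722048) (BT.leaf (nat_lit 48341521)) (BT.leaf (nat_lit 48341537)))))) (BT.node (nat_lit 5722624) (BT.node (nat_lit 5722368) (BT.node (nat_lit 5722240) (BT.node (nat_lit 5722176) (BT.leaf (nat_lit 23361569)) (BT.leaf (nat_lit 24660497))) (BT.node (nat_lit 5722304) (BT.leaf (nat_lit 25454861)) (BT.leaf (nat_lit 49870881)))) (BT.node (nat_lit 5722496) (BT.node (nat_lit 5722432) (BT.leaf (nat_lit 36014869)) (BT.leaf (nat_lit 50169885))) (BT.node (nat_lit 5722560) (BT.leaf (nat_lit 51938329)) (BT.leaf (nat_lit 33478921))))) (BT.node (nat_lit 5722880) (BT.node (nat_lit 5722752) (BT.node (nat_lit 5722688) (BT.leaf (nat_lit 22790177)) (BT.leaf (nat_lit 33589273))) (BT.node (nat_lit 5722816) (BT.leaf (nat_lit 24508949)) (BT.leaf (nat_lit 22809889)))) (BT.node (nat_lit 5723008) (BT.node (nat_lit 5722944) (BT.leaf (nat_lit 33589773)) (BT.leaf (nat_lit 22809881))) (BT.node (nat_lit 5723072) (BT.leaf (nat_lit 33590549)) (BT.leaf (nat_lit 20881941))))))) (BT.node (nat_lit 5724160) (BT.node (nat_lit 5723648) (BT.node (nat_lit 5723392) (BT.node (nat_lit 5723264) (BT.node (nat_lit 5723200) (BT.leaf (nat_lit 29020433)) (BT.leaf (nat_lit 22309137))) (BT.node (nat_lit 5723328) (BT.leaf (nat_lit 29024005)) (BT.leaf (nat_lit 20990233)))) (BT.node (nat_lit 5723520) (BT.node (nat_lit 5723456) (BT.leaf (nat_lit 20907545)) (BT.leaf (nat_lit 20882457))) (BT.node (nat_lit 5723584) (BT.leaf (nat_lit 20882713)) (BT.leaf (nat_lit 20890901))))) (BT.node (nat_lit 5723904) (BT.node (nat_lit 5723776) (BT.node (nat_lit 5723712) (BT.leaf (nat_lit 20882461)) (BT.leaf (nat_lit 20882717))) (BT.node (nat_lit 5723840) (BT.leaf (nat_lit 20907285)) (BT.leaf (nat_lit 27476997)))) (BT.node (nat_lit 5724032) (BT.node (nat_lit 5723968) (BT.leaf (nat_lit 32460317)) (BT.leaf (nat_lit 22896157))) (BT.node (nat_lit 5724096) (BT.leaf (nat_lit 28764433)) (BT.leaf (nat_lit 23207189)))))) (BT.node (nat_lit 5724672) (BT.node (nat_lit 5724416) (BT.node (nat_lit 5724288) (BT.node (nat_lit 5724224) (BT.leaf (nat_lit 23206941)) (BT.leaf (nat_lit 29038113))) (BT.node (nat_lit 5724352) (BT.leaf (nat_lit 21209121)) (BT.leaf (nat_lit 23885329)))) (BT.node (nat_lit 5724544) (BT.node (nat_lit 5724480) (BT.leaf (nat_lit 21208837)) (BT.leaf (nat_lit 21208857))) (BT.node (nat_lit 5724608) (BT.leaf (nat_lit 21208861)) (BT.leaf (nat_lit 20989977))))) (BT.node (nat_lit 5724928) (BT.node (nat_lit 5724800) (BT.node (nat_lit 5724736) (BT.leaf (nat_lit 27818785)) (BT.leaf (nat_lit 20990237))) (BT.node (nat_lit 5724864) (BT.leaf (nat_lit 46851105)) (BT.leaf (nat_lit 25320729)))) (BT.node (nat_lit 5725056) (BT.node (nat_lit 5724992) (BT.leaf (nat_lit 22638613)) (BT.leaf (nat_lit 33595409))) (BT.node (nat_lit 5725120) (BT.leaf (nat_lit 33595673)) (BT.leaf (nat_lit 33595921)))))))))) (BT.node (nat_lit 5733376) (BT.node (nat_lit 5729280) (BT.node (nat_lit 5727232) (BT.node (nat_lit 5726208) (BT.node (nat_lit 5725696) (BT.node (nat_lit 5725440) (BT.node (nat_lit 5725312) (BT.node (nat_lit 5725248) (BT.leaf (nat_lit 29046049)) (BT.leaf (nat_lit 50308377))) (BT.node (nat_lit 5725376) (BT.leaf (nat_lit 33597209)) (BT.leaf (nat_lit 22901789)))) (BT.node (nat_lit 5725568) (BT.node (nat_lit 5725504) (BT.leaf (nat_lit 51204369)) (BT.leaf (nat_lit 22902301))) (BT.node (nat_lit 5725632) (BT.leaf (nat_lit 33598481)) (BT.leaf (nat_lit 21402885))))) (BT.node (nat_lit 5725952) (BT.node (nat_lit 5725824) (BT.node (nat_lit 5725760) (BT.leaf (nat_lit 33300245)) (BT.leaf (nat_lit 23687697))) (BT.node (nat_lit 5725888) (BT.leaf (nat_lit 24066849)) (BT.leaf (nat_lit 33599253)))) (BT.node (nat_lit 5726080) (BT.node (nat_lit 5726016) (BT.leaf (nat_lit 24985105)) (BT.leaf (nat_lit 26011425))) (BT.node (nat_lit 5726144) (BT.leaf (nat_lit 33600785)) (BT.leaf (nat_lit 21008665)))))) (BT.node (nat_lit 5726720) (BT.node (nat_lit 5726464) (BT.node (nat_lit 5726336) (BT.node (nat_lit 5726272) (BT.leaf (nat_lit 33599521)) (BT.leaf (nat_lit 50350625))) (BT.node (nat_lit 5726400) (BT.leaf (nat_lit 24194849)) (BT.leaf (nat_lit 52084497)))) (BT.node (nat_lit 5726592) (BT.node (nat_lit 5726528) (BT.leaf (nat_lit 33860893)) (BT.leaf (nat_lit 33603861))) (BT.node (nat_lit 5726656) (BT.leaf (nat_lit 23203853)) (BT.leaf (nat_lit 33605653))))) (BT.node (nat_lit 5726976) (BT.node (nat_lit 5726848) (BT.node (nat_lit 5726784) (BT.leaf (nat_lit 22478605)) (BT.leaf (nat_lit 33604101))) (BT.node (nat_lit 5726912) (BT.leaf (nat_lit 33597205)) (BT.leaf (nat_lit 23276321)))) (BT.node (nat_lit 5727104) (BT.node (nat_lit 5727040) (BT.leaf (nat_lit 21429265)) (BT.leaf (nat_lit 24304417))) (BT.node (nat_lit 5727168) (BT.leaf (nat_lit 21428757)) (BT.leaf (nat_lit 21405973))))))) (BT.node (nat_lit 5728256) (BT.node (nat_lit 5727744) (BT.node (nat_lit 5727488) (BT.node (nat_lit 5727360) (BT.node (nat_lit 5727296) (BT.leaf (nat_lit 26299937)) (BT.leaf (nat_lit 27493153))) (BT.node (nat_lit 5727424) (BT.leaf (nat_lit 24118561)) (BT.leaf (nat_lit 22530073)))) (BT.node (nat_lit 5727616) (BT.node (nat_lit 5727552) (BT.leaf (nat_lit 20884761)) (BT.leaf (nat_lit 29069317))) (BT.node (nat_lit 5727680) (BT.leaf (nat_lit 20885021)) (BT.leaf (nat_lit 31240737))))) (BT.node (nat_lit 5728000) (BT.node (nat_lit 5727872) (BT.node (nat_lit 5727808) (BT.leaf (nat_lit 28091929)) (BT.leaf (nat_lit 33607173))) (BT.node (nat_lit 5727936) (BT.leaf (nat_lit 33607701)) (BT.leaf (nat_lit 20884757)))) (BT.node (nat_lit 5728128) (BT.node (nat_lit 5728064) (BT.leaf (nat_lit 28272413)) (BT.leaf (nat_lit 24302113))) (BT.node (nat_lit 5728192) (BT.leaf (nat_lit 20701469)) (BT.leaf (nat_lit 21338913)))))) (BT.node (nat_lit 5728768) (BT.node (nat_lit 5728512) (BT.node (nat_lit 5728384) (BT.node (nat_lit 5728320) (BT.leaf (nat_lit 33608725)) (BT.leaf (nat_lit 24315401))) (BT.node (nat_lit 5728448) (BT.leaf (nat_lit 37666325)) (BT.leaf (nat_lit 22268957)))) (BT.node (nat_lit 5728640) (BT.node (nat_lit 5728576) (BT.leaf (nat_lit 21106693)) (BT.leaf (nat_lit 21106721))) (BT.node (nat_lit 5728704) (BT.leaf (nat_lit 27239185)) (BT.leaf (nat_lit 32005905))))) (BT.node (nat_lit 5729024) (BT.node (nat_lit 5728896) (BT.node (nat_lit 5728832) (BT.leaf (nat_lit 21106465)) (BT.leaf (nat_lit 33611285))) (BT.node (nat_lit 5728960) (BT.leaf (nat_lit 28198157)) (BT.leaf (nat_lit 28247837)))) (BT.node (nat_lit 5729152) (BT.node (nat_lit 5729088) (BT.leaf (nat_lit 24995845)) (BT.leaf (nat_lit 29084701))) (BT.node (nat_lit 5729216) (BT.leaf (nat_lit 28663317)) (BT.leaf (nat_lit 28663321)))))))) (BT.node (nat_lit 5731328) (BT.node (nat_lit 5730304) (BT.node (nat_lit 5729792) (BT.node (nat_lit 5729536) (BT.node (nat_lit 5729408) (BT.node (nat_lit 5729344) (BT.leaf (nat_lit 21342497)) (BT.leaf (nat_lit 33510429))) (BT.node (nat_lit 5729472) (BT.leaf (nat_lit 28670989)) (BT.leaf (nat_lit 28671001)))) (BT.node (nat_lit 5729664) (BT.node (nat_lit 5729600) (BT.leaf (nat_lit 20897293)) (BT.leaf (nat_lit 33486341))) (BT.node (nat_lit 5729728) (BT.leaf (nat_lit 21108753)) (BT.leaf (nat_lit 20910349))))) (BT.node (nat_lit 5730048) (BT.node (nat_lit 5729920) (BT.node (nat_lit 5729856) (BT.leaf (nat_lit 33614361)) (BT.leaf (nat_lit 33615121))) (BT.node (nat_lit 5729984) (BT.leaf (nat_lit 21176345)) (BT.leaf (nat_lit 21176349)))) (BT.node (nat_lit 5730176) (BT.node (nat_lit 5730112) (BT.leaf (nat_lit 33943313)) (BT.leaf (nat_lit 27289873))) (BT.node (nat_lit 5730240) (BT.leaf (nat_lit 20899853)) (BT.leaf (nat_lit 51179277)))))) (BT.node (nat_lit 5730816) (BT.node (nat_lit 5730560) (BT.node (nat_lit 5730432) (BT.node (nat_lit 5730368) (BT.leaf (nat_lit 20948497)) (BT.leaf (nat_lit 20889889))) (BT.node (nat_lit 5730496) (BT.leaf (nat_lit 22921997)) (BT.leaf (nat_lit 20901909)))) (BT.node (nat_lit 5730688) (BT.node (nat_lit 5730624) (BT.leaf (nat_lit 22368273)) (BT.leaf (nat_lit 20902169))) (BT.node (nat_lit 5730752) (BT.leaf (nat_lit 20903433)) (BT.leaf (nat_lit 20913437))))) (BT.node (nat_lit 5731072) (BT.node (nat_lit 5730944) (BT.node (nat_lit 5730880) (BT.leaf (nat_lit 23594017)) (BT.leaf (nat_lit 20930577))) (BT.node (nat_lit 5731008) (BT.leaf (nat_lit 33621013)) (BT.leaf (nat_lit 20890653)))) (BT.node (nat_lit 5731200) (BT.node (nat_lit 5731136) (BT.leaf (nat_lit 22895137)) (BT.leaf (nat_lit 20907785))) (BT.node (nat_lit 5731264) (BT.leaf (nat_lit 20890885)) (BT.leaf (nat_lit 21022997))))))) (BT.node (nat_lit 5732352) (BT.node (nat_lit 5731840) (BT.node (nat_lit 5731584) (BT.node (nat_lit 5731456) (BT.node (nat_lit 5731392) (BT.leaf (nat_lit 49848837)) (BT.leaf (nat_lit 21023005))) (BT.node (nat_lit 5731520) (BT.leaf (nat_lit 21204497)) (BT.leaf (nat_lit 21756957)))) (BT.node (nat_lit 5731712) (BT.node (nat_lit 5731648) (BT.leaf (nat_lit 33625093)) (BT.leaf (nat_lit 33054485))) (BT.node (nat_lit 5731776) (BT.leaf (nat_lit 47225881)) (BT.leaf (nat_lit 40763141))))) (BT.node (nat_lit 5732096) (BT.node (nat_lit 5731968) (BT.node (nat_lit 5731904) (BT.leaf (nat_lit 49071137)) (BT.leaf (nat_lit 33626141))) (BT.node (nat_lit 5732032) (BT.leaf (nat_lit 29096461)) (BT.leaf (nat_lit 33626897)))) (BT.node (nat_lit 5732224) (BT.node (nat_lit 5732160) (BT.leaf (nat_lit 23260185)) (BT.leaf (nat_lit 21624593))) (BT.node (nat_lit 5732288) (BT.leaf (nat_lit 21009429)) (BT.leaf (nat_lit 25546009)))))) (BT.node (nat_lit 5732864) (BT.node (nat_lit 5732608) (BT.node (nat_lit 5732480) (BT.node (nat_lit 5732416) (BT.leaf (nat_lit 21415705)) (BT.leaf (nat_lit 20995605))) (BT.node (nat_lit 5732544) (BT.leaf (nat_lit 20853781)) (BT.leaf (nat_lit 33647121)))) (BT.node (nat_lit 5732736) (BT.node (nat_lit 5732672) (BT.leaf (nat_lit 22584837)) (BT.leaf (nat_lit 20925973))) (BT.node (nat_lit 5732800) (BT.leaf (nat_lit 24335393)) (BT.leaf (nat_lit 50576397))))) (BT.node (nat_lit 5733120) (BT.node (nat_lit 5732992) (BT.node (nat_lit 5732928) (BT.leaf (nat_lit 27540493)) (BT.leaf (nat_lit 52063257))) (BT.node (nat_lit 5733056) (BT.leaf (nat_lit 22479889)) (BT.leaf (nat_lit 22789149)))) (BT.node (nat_lit 5733248) (BT.node (nat_lit 5733184) (BT.leaf (nat_lit 26407709)) (BT.leaf (nat_lit 22933021))) (BT.node (nat_lit 5733312) (BT.leaf (nat_lit 33629957)) (BT.leaf (nat_lit 21859105))))))))) (BT.node (nat_lit 5737472) (BT.node (nat_lit 5735424) (BT.node (nat_lit 5734400) (BT.node (nat_lit 5733888) (BT.node (nat_lit 5733632) (BT.node (nat_lit 5733504) (BT.node (nat_lit 5733440) (BT.leaf (nat_lit 26141957)) (BT.leaf (nat_lit 25846797))) (BT.node (nat_lit 5733568) (BT.leaf (nat_lit 25644565)) (BT.leaf (nat_lit 23364121)))) (BT.node (nat_lit 5733760) (BT.node (nat_lit 5733696) (BT.leaf (nat_lit 28444697)) (BT.leaf (nat_lit 22507041))) (BT.node (nat_lit 5733824) (BT.leaf (nat_lit 22595085)) (BT.leaf (nat_lit 28444685))))) (BT.node (nat_lit 5734144) (BT.node (nat_lit 5734016) (BT.node (nat_lit 5733952) (BT.leaf (nat_lit 21377045)) (BT.leaf (nat_lit 34542605))) (BT.node (nat_lit 5734080) (BT.leaf (nat_lit 21143313)) (BT.leaf (nat_lit 20894481)))) (BT.node (nat_lit 5734272) (BT.node (nat_lit 5734208) (BT.leaf (nat_lit 20893713)) (BT.leaf (nat_lit 20893457))) (BT.node (nat_lit 5734336) (BT.leaf (nat_lit 24495129)) (BT.leaf (nat_lit 49842697)))))) (BT.node (nat_lit 5734912) (BT.node (nat_lit 5734656) (BT.node (nat_lit 5734528) (BT.node (nat_lit 5734464) (BT.leaf (nat_lit 33633561)) (BT.leaf (nat_lit 22938141))) (BT.node (nat_lit 5734592) (BT.leaf (nat_lit 33062417)) (BT.leaf (nat_lit 33634329)))) (BT.node (nat_lit 5734784) (BT.node (nat_lit 5734720) (BT.leaf (nat_lit 27340561)) (BT.leaf (nat_lit 21499937))) (BT.node (nat_lit 5734848) (BT.leaf (nat_lit 33634841)) (BT.leaf (nat_lit 26004237))))) (BT.node (nat_lit 5735168) (BT.node (nat_lit 5735040) (BT.node (nat_lit 5734976) (BT.leaf (nat_lit 33411609)) (BT.leaf (nat_lit 26004249))) (BT.node (nat_lit 5735104) (BT.leaf (nat_lit 33870365)) (BT.leaf (nat_lit 33636381)))) (BT.node (nat_lit 5735296) (BT.node (nat_lit 5735232) (BT.leaf (nat_lit 33636625)) (BT.leaf (nat_lit 26549009))) (BT.node (nat_lit 5735360) (BT.leaf (nat_lit 23279625)) (BT.leaf (nat_lit 33870345))))))) (BT.node (nat_lit 5736448) (BT.node (nat_lit 5735936) (BT.node (nat_lit 5735680) (BT.node (nat_lit 5735552) (BT.node (nat_lit 5735488) (BT.leaf (nat_lit 33870601)) (BT.leaf (nat_lit 33637905))) (BT.node (nat_lit 5735616) (BT.leaf (nat_lit 31244561)) (BT.leaf (nat_lit 23568389)))) (BT.node (nat_lit 5735808) (BT.node (nat_lit 5735744) (BT.leaf (nat_lit 51733281)) (BT.leaf (nat_lit 23568913))) (BT.node (nat_lit 5735872) (BT.leaf (nat_lit 33638921)) (BT.leaf (nat_lit 26413341))))) (BT.node (nat_lit 5736192) (BT.node (nat_lit 5736064) (BT.node (nat_lit 5736000) (BT.leaf (nat_lit 25193233)) (BT.leaf (nat_lit 21894929))) (BT.node (nat_lit 5736128) (BT.leaf (nat_lit 33102361)) (BT.leaf (nat_lit 23897369)))) (BT.node (nat_lit 5736320) (BT.node (nat_lit 5736256) (BT.leaf (nat_lit 23299077)) (BT.leaf (nat_lit 24670241))) (BT.node (nat_lit 5736384) (BT.leaf (nat_lit 35203601)) (BT.leaf (nat_lit 33636889)))))) (BT.node (nat_lit 5736960) (BT.node (nat_lit 5736704) (BT.node (nat_lit 5736576) (BT.node (nat_lit 5736512) (BT.leaf (nat_lit 29128717)) (BT.leaf (nat_lit 24770321))) (BT.node (nat_lit 5736640) (BT.leaf (nat_lit 23117089)) (BT.leaf (nat_lit 33641753)))) (BT.node (nat_lit 5736832) (BT.node (nat_lit 5736768) (BT.leaf (nat_lit 28125217)) (BT.leaf (nat_lit 20909325))) (BT.node (nat_lit 5736896) (BT.leaf (nat_lit 22327569)) (BT.leaf (nat_lit 35042065))))) (BT.node (nat_lit 5737216) (BT.node (nat_lit 5737088) (BT.node (nat_lit 5737024) (BT.leaf (nat_lit 26031621)) (BT.leaf (nat_lit 20896525))) (BT.node (nat_lit 5737152) (BT.leaf (nat_lit 35150345)) (BT.leaf (nat_lit 35298565)))) (BT.node (nat_lit 5737344) (BT.node (nat_lit 5737280) (BT.leaf (nat_lit 20896541)) (BT.leaf (nat_lit 28672009))) (BT.node (nat_lit 5737408) (BT.leaf (nat_lit 20896537)) (BT.leaf (nat_lit 23339029)))))))) (BT.node (nat_lit 5739520) (BT.node (nat_lit 5738496) (BT.node (nat_lit 5737984) (BT.node (nat_lit 5737728) (BT.node (nat_lit 5737600) (BT.node (nat_lit 5737536) (BT.leaf (nat_lit 25058329)) (BT.leaf (nat_lit 22950413))) (BT.node (nat_lit 5737664) (BT.leaf (nat_lit 24688149)) (BT.leaf (nat_lit 22950941)))) (BT.node (nat_lit 5737856) (BT.node (nat_lit 5737792) (BT.leaf (nat_lit 29134357)) (BT.leaf (nat_lit 23588101))) (BT.node (nat_lit 5737920) (BT.leaf (nat_lit 29135629)) (BT.leaf (nat_lit 23122969))))) (BT.node (nat_lit 5738240) (BT.node (nat_lit 5738112) (BT.node (nat_lit 5738048) (BT.leaf (nat_lit 51700253)) (BT.leaf (nat_lit 33643289))) (BT.node (nat_lit 5738176) (BT.leaf (nat_lit 23156257)) (BT.leaf (nat_lit 21242641)))) (BT.node (nat_lit 5738368) (BT.node (nat_lit 5738304) (BT.leaf (nat_lit 20910345)) (BT.leaf (nat_lit 21242657))) (BT.node (nat_lit 5738432) (BT.leaf (nat_lit 25663009)) (BT.leaf (nat_lit 33645857)))))) (BT.node (nat_lit 5739008) (BT.node (nat_lit 5738752) (BT.node (nat_lit 5738624) (BT.node (nat_lit 5738560) (BT.leaf (nat_lit 28473109)) (BT.leaf (nat_lit 23154197))) (BT.node (nat_lit 5738688) (BT.leaf (nat_lit 24694037)) (BT.leaf (nat_lit 33646613)))) (BT.node (nat_lit 5738880) (BT.node (nat_lit 5738816) (BT.leaf (nat_lit 33634577)) (BT.leaf (nat_lit 24476193))) (BT.node (nat_lit 5738944) (BT.leaf (nat_lit 23001101)) (BT.leaf (nat_lit 35940369))))) (BT.node (nat_lit 5739264) (BT.node (nat_lit 5739136) (BT.node (nat_lit 5739072) (BT.leaf (nat_lit 29130017)) (BT.leaf (nat_lit 22359065))) (BT.node (nat_lit 5739200) (BT.leaf (nat_lit 22359069)) (BT.leaf (nat_lit 20955409)))) (BT.node (nat_lit 5739392) (BT.node (nat_lit 5739328) (BT.leaf (nat_lit 20897813)) (BT.leaf (nat_lit 29149201))) (BT.node (nat_lit 5739456) (BT.leaf (nat_lit 33650465)) (BT.leaf (nat_lit 33650977))))))) (BT.node (nat_lit 5740544) (BT.node (nat_lit 5740032) (BT.node (nat_lit 5739776) (BT.node (nat_lit 5739648) (BT.node (nat_lit 5739584) (BT.leaf (nat_lit 33651489)) (BT.leaf (nat_lit 25571077))) (BT.node (nat_lit 5739712) (BT.leaf (nat_lit 24874521)) (BT.leaf (nat_lit 20910857)))) (BT.node (nat_lit 5739904) (BT.node (nat_lit 5739840) (BT.leaf (nat_lit 21382161)) (BT.leaf (nat_lit 21381913))) (BT.node (nat_lit 5739968) (BT.leaf (nat_lit 21381917)) (BT.leaf (nat_lit 24252449))))) (BT.node (nat_lit 5740288) (BT.node (nat_lit 5740160) (BT.node (nat_lit 5740096) (BT.leaf (nat_lit 22604309)) (BT.leaf (nat_lit 26899973))) (BT.node (nat_lit 5740224) (BT.leaf (nat_lit 20899089)) (BT.leaf (nat_lit 33652741)))) (BT.node (nat_lit 5740416) (BT.node (nat_lit 5740352) (BT.leaf (nat_lit 22564873)) (BT.leaf (nat_lit 22564877))) (BT.node (nat_lit 5740480) (BT.leaf (nat_lit 22564881)) (BT.leaf (nat_lit 21148953)))))) (BT.node (nat_lit 5741056) (BT.node (nat_lit 5740800) (BT.node (nat_lit 5740672) (BT.node (nat_lit 5740608) (BT.leaf (nat_lit 20899601)) (BT.leaf (nat_lit 33653765))) (BT.node (nat_lit 5740736) (BT.leaf (nat_lit 33654021)) (BT.leaf (nat_lit 22602769)))) (BT.node (nat_lit 5740928) (BT.node (nat_lit 5740864) (BT.leaf (nat_lit 24090401)) (BT.leaf (nat_lit 33438237))) (BT.node (nat_lit 5740992) (BT.leaf (nat_lit 20900113)) (BT.leaf (nat_lit 26997525))))) (BT.node (nat_lit 5741312) (BT.node (nat_lit 5741184) (BT.node (nat_lit 5741120) (BT.leaf (nat_lit 23861005)) (BT.leaf (nat_lit 23003149))) (BT.node (nat_lit 5741248) (BT.leaf (nat_lit 20900881)) (BT.leaf (nat_lit 26619681)))) (BT.node (nat_lit 5741440) (BT.node (nat_lit 5741376) (BT.leaf (nat_lit 23003405)) (BT.leaf (nat_lit 24245025))) (BT.node (nat_lit 5741504) (BT.leaf (nat_lit 20922125)) (BT.leaf (nat_lit 24245793))))))))))) (BT.node (nat_lit 5757952) (BT.node (nat_lit 5749760) (BT.node (nat_lit 5745664) (BT.node (nat_lit 5743616) (BT.node (nat_lit 5742592) (BT.node (nat_lit 5742080) (BT.node (nat_lit 5741824) (BT.node (nat_lit 5741696) (BT.node (nat_lit 5741632) (BT.leaf (nat_lit 20922141)) (BT.leaf (nat_lit 22684437))) (BT.node (nat_lit 5741760) (BT.leaf (nat_lit 20922389)) (BT.leaf (nat_lit 22967309)))) (BT.node (nat_lit 5741952) (BT.node (nat_lit 5741888) (BT.leaf (nat_lit 23157269)) (BT.leaf (nat_lit 22967837))) (BT.node (nat_lit 5742016) (BT.leaf (nat_lit 33659921)) (BT.leaf (nat_lit 23153689))))) (BT.node (nat_lit 5742336) (BT.node (nat_lit 5742208) (BT.node (nat_lit 5742144) (BT.leaf (nat_lit 33660437)) (BT.leaf (nat_lit 23153953))) (BT.node (nat_lit 5742272) (BT.leaf (nat_lit 27152413)) (BT.leaf (nat_lit 27152397)))) (BT.node (nat_lit 5742464) (BT.node (nat_lit 5742400) (BT.leaf (nat_lit 33661205)) (BT.leaf (nat_lit 33662225))) (BT.node (nat_lit 5742528) (BT.leaf (nat_lit 25771545)) (BT.leaf (nat_lit 21096469)))))) (BT.node (nat_lit 5743104) (BT.node (nat_lit 5742848) (BT.node (nat_lit 5742720) (BT.node (nat_lit 5742656) (BT.leaf (nat_lit 21510417)) (BT.leaf (nat_lit 33663509))) (BT.node (nat_lit 5742784) (BT.leaf (nat_lit 20906529)) (BT.leaf (nat_lit 20901913)))) (BT.node (nat_lit 5742976) (BT.node (nat_lit 5742912) (BT.leaf (nat_lit 20902685)) (BT.leaf (nat_lit 20902173))) (BT.node (nat_lit 5743040) (BT.leaf (nat_lit 22597909)) (BT.leaf (nat_lit 20902681))))) (BT.node (nat_lit 5743360) (BT.node (nat_lit 5743232) (BT.node (nat_lit 5743168) (BT.leaf (nat_lit 22922013)) (BT.leaf (nat_lit 50018581))) (BT.node (nat_lit 5743296) (BT.leaf (nat_lit 20903941)) (BT.leaf (nat_lit 21152773)))) (BT.node (nat_lit 5743488) (BT.node (nat_lit 5743424) (BT.leaf (nat_lit 23012885)) (BT.leaf (nat_lit 33246997))) (BT.node (nat_lit 5743552) (BT.leaf (nat_lit 21317385)) (BT.leaf (nat_lit 51292449))))))) (BT.node (nat_lit 5744640) (BT.node (nat_lit 5744128) (BT.node (nat_lit 5743872) (BT.node (nat_lit 5743744) (BT.node (nat_lit 5743680) (BT.leaf (nat_lit 33665557)) (BT.leaf (nat_lit 33666577))) (BT.node (nat_lit 5743808) (BT.leaf (nat_lit 20916757)) (BT.leaf (nat_lit 20983061)))) (BT.node (nat_lit 5744000) (BT.node (nat_lit 5743936) (BT.leaf (nat_lit 20983065)) (BT.leaf (nat_lit 20983069))) (BT.node (nat_lit 5744064) (BT.leaf (nat_lit 20816401)) (BT.leaf (nat_lit 20904709))))) (BT.node (nat_lit 5744384) (BT.node (nat_lit 5744256) (BT.node (nat_lit 5744192) (BT.leaf (nat_lit 33669133)) (BT.leaf (nat_lit 22977053))) (BT.node (nat_lit 5744320) (BT.leaf (nat_lit 33670677)) (BT.leaf (nat_lit 33671453)))) (BT.node (nat_lit 5744512) (BT.node (nat_lit 5744448) (BT.leaf (nat_lit 33670929)) (BT.leaf (nat_lit 20917013))) (BT.node (nat_lit 5744576) (BT.leaf (nat_lit 28698377)) (BT.leaf (nat_lit 24646689)))))) (BT.node (nat_lit 5745152) (BT.node (nat_lit 5744896) (BT.node (nat_lit 5744768) (BT.node (nat_lit 5744704) (BT.leaf (nat_lit 30631429)) (BT.leaf (nat_lit 23947545))) (BT.node (nat_lit 5744832) (BT.leaf (nat_lit 22302481)) (BT.leaf (nat_lit 20906261)))) (BT.node (nat_lit 5745024) (BT.node (nat_lit 5744960) (BT.leaf (nat_lit 24028945)) (BT.leaf (nat_lit 24883985))) (BT.node (nat_lit 5745088) (BT.leaf (nat_lit 31554593)) (BT.leaf (nat_lit 22980621))))) (BT.node (nat_lit 5745408) (BT.node (nat_lit 5745280) (BT.node (nat_lit 5745216) (BT.leaf (nat_lit 33674773)) (BT.leaf (nat_lit 21416729))) (BT.node (nat_lit 5745344) (BT.leaf (nat_lit 33676309)) (BT.leaf (nat_lit 29200401)))) (BT.node (nat_lit 5745536) (BT.node (nat_lit 5745472) (BT.leaf (nat_lit 22869777)) (BT.leaf (nat_lit 27858705))) (BT.node (nat_lit 5745600) (BT.leaf (nat_lit 21225733)) (BT.leaf (nat_lit 28008981)))))))) (BT.node (nat_lit 5747712) (BT.node (nat_lit 5746688) (BT.node (nat_lit 5746176) (BT.node (nat_lit 5745920) (BT.node (nat_lit 5745792) (BT.node (nat_lit 5745728) (BT.leaf (nat_lit 20890897)) (BT.leaf (nat_lit 20907549))) (BT.node (nat_lit 5745856) (BT.leaf (nat_lit 28417301)) (BT.leaf (nat_lit 21151773)))) (BT.node (nat_lit 5746048) (BT.node (nat_lit 5745984) (BT.leaf (nat_lit 27398417)) (BT.leaf (nat_lit 21847061))) (BT.node (nat_lit 5746112) (BT.leaf (nat_lit 20907281)) (BT.leaf (nat_lit 24035601))))) (BT.node (nat_lit 5746432) (BT.node (nat_lit 5746304) (BT.node (nat_lit 5746240) (BT.leaf (nat_lit 23962913)) (BT.leaf (nat_lit 20907525))) (BT.node (nat_lit 5746368) (BT.leaf (nat_lit 23857669)) (BT.leaf (nat_lit 49810197)))) (BT.node (nat_lit 5746560) (BT.node (nat_lit 5746496) (BT.leaf (nat_lit 25348373)) (BT.leaf (nat_lit 23018781))) (BT.node (nat_lit 5746624) (BT.leaf (nat_lit 34053125)) (BT.leaf (nat_lit 48024857)))))) (BT.node (nat_lit 5747200) (BT.node (nat_lit 5746944) (BT.node (nat_lit 5746816) (BT.node (nat_lit 5746752) (BT.leaf (nat_lit 33680161)) (BT.leaf (nat_lit 23603973))) (BT.node (nat_lit 5746880) (BT.leaf (nat_lit 50667029)) (BT.leaf (nat_lit 25502237)))) (BT.node (nat_lit 5747072) (BT.node (nat_lit 5747008) (BT.leaf (nat_lit 25199393)) (BT.leaf (nat_lit 25760033))) (BT.node (nat_lit 5747136) (BT.leaf (nat_lit 21846805)) (BT.leaf (nat_lit 25760025))))) (BT.node (nat_lit 5747456) (BT.node (nat_lit 5747328) (BT.node (nat_lit 5747264) (BT.leaf (nat_lit 25183769)) (BT.leaf (nat_lit 20812049))) (BT.node (nat_lit 5747392) (BT.leaf (nat_lit 47680545)) (BT.leaf (nat_lit 25816069)))) (BT.node (nat_lit 5747584) (BT.node (nat_lit 5747520) (BT.leaf (nat_lit 21267221)) (BT.leaf (nat_lit 33682189))) (BT.node (nat_lit 5747648) (BT.leaf (nat_lit 23321369)) (BT.leaf (nat_lit 26221337))))))) (BT.node (nat_lit 5748736) (BT.node (nat_lit 5748224) (BT.node (nat_lit 5747968) (BT.node (nat_lit 5747840) (BT.node (nat_lit 5747776) (BT.leaf (nat_lit 23010337)) (BT.leaf (nat_lit 23096605))) (BT.node (nat_lit 5747904) (BT.leaf (nat_lit 23097621)) (BT.leaf (nat_lit 23726597)))) (BT.node (nat_lit 5748096) (BT.node (nat_lit 5748032) (BT.leaf (nat_lit 23007253)) (BT.leaf (nat_lit 33612317))) (BT.node (nat_lit 5748160) (BT.leaf (nat_lit 24259093)) (BT.leaf (nat_lit 22997793))))) (BT.node (nat_lit 5748480) (BT.node (nat_lit 5748352) (BT.node (nat_lit 5748288) (BT.leaf (nat_lit 27748881)) (BT.leaf (nat_lit 23117345))) (BT.node (nat_lit 5748416) (BT.leaf (nat_lit 24609553)) (BT.leaf (nat_lit 29085709)))) (BT.node (nat_lit 5748608) (BT.node (nat_lit 5748544) (BT.leaf (nat_lit 28672029)) (BT.leaf (nat_lit 28672033))) (BT.node (nat_lit 5748672) (BT.leaf (nat_lit 23619353)) (BT.leaf (nat_lit 30886433)))))) (BT.node (nat_lit 5749248) (BT.node (nat_lit 5748992) (BT.node (nat_lit 5748864) (BT.node (nat_lit 5748800) (BT.leaf (nat_lit 21081113)) (BT.leaf (nat_lit 21081117))) (BT.node (nat_lit 5748928) (BT.leaf (nat_lit 23624213)) (BT.leaf (nat_lit 29235221)))) (BT.node (nat_lit 5749120) (BT.node (nat_lit 5749056) (BT.leaf (nat_lit 33643549)) (BT.leaf (nat_lit 24247573))) (BT.node (nat_lit 5749184) (BT.leaf (nat_lit 26604053)) (BT.leaf (nat_lit 22996505))))) (BT.node (nat_lit 5749504) (BT.node (nat_lit 5749376) (BT.node (nat_lit 5749312) (BT.leaf (nat_lit 26908697)) (BT.leaf (nat_lit 25212441))) (BT.node (nat_lit 5749440) (BT.leaf (nat_lit 33687573)) (BT.leaf (nat_lit 22718233)))) (BT.node (nat_lit 5749632) (BT.node (nat_lit 5749568) (BT.leaf (nat_lit 33687829)) (BT.leaf (nat_lit 21213969))) (BT.node (nat_lit 5749696) (BT.leaf (nat_lit 33095449)) (BT.leaf (nat_lit 33095453))))))))) (BT.node (nat_lit 5753856) (BT.node (nat_lit 5751808) (BT.node (nat_lit 5750784) (BT.node (nat_lit 5750272) (BT.node (nat_lit 5750016) (BT.node (nat_lit 5749888) (BT.node (nat_lit 5749824) (BT.leaf (nat_lit 21434657)) (BT.leaf (nat_lit 22999565))) (BT.node (nat_lit 5749952) (BT.leaf (nat_lit 29230625)) (BT.leaf (nat_lit 29226785)))) (BT.node (nat_lit 5750144) (BT.node (nat_lit 5750080) (BT.leaf (nat_lit 23621381)) (BT.leaf (nat_lit 33690645))) (BT.node (nat_lit 5750208) (BT.leaf (nat_lit 22357265)) (BT.leaf (nat_lit 33614873))))) (BT.node (nat_lit 5750528) (BT.node (nat_lit 5750400) (BT.node (nat_lit 5750336) (BT.leaf (nat_lit 33060629)) (BT.leaf (nat_lit 23001113))) (BT.node (nat_lit 5750464) (BT.leaf (nat_lit 27708677)) (BT.leaf (nat_lit 23157781)))) (BT.node (nat_lit 5750656) (BT.node (nat_lit 5750592) (BT.leaf (nat_lit 21116957)) (BT.leaf (nat_lit 20911377))) (BT.node (nat_lit 5750720) (BT.leaf (nat_lit 20889105)) (BT.leaf (nat_lit 20898833)))))) (BT.node (nat_lit 5751296) (BT.node (nat_lit 5751040) (BT.node (nat_lit 5750912) (BT.node (nat_lit 5750848) (BT.leaf (nat_lit 29241877)) (BT.leaf (nat_lit 51958817))) (BT.node (nat_lit 5750976) (BT.leaf (nat_lit 33693453)) (BT.leaf (nat_lit 21222425)))) (BT.node (nat_lit 5751168) (BT.node (nat_lit 5751104) (BT.leaf (nat_lit 33694741)) (BT.leaf (nat_lit 37390101))) (BT.node (nat_lit 5751232) (BT.leaf (nat_lit 33695765)) (BT.leaf (nat_lit 28217121))))) (BT.node (nat_lit 5751552) (BT.node (nat_lit 5751424) (BT.node (nat_lit 5751360) (BT.leaf (nat_lit 33697301)) (BT.leaf (nat_lit 33697813))) (BT.node (nat_lit 5751488) (BT.leaf (nat_lit 24997397)) (BT.leaf (nat_lit 21233169)))) (BT.node (nat_lit 5751680) (BT.node (nat_lit 5751616) (BT.leaf (nat_lit 28892449)) (BT.leaf (nat_lit 23614981))) (BT.node (nat_lit 5751744) (BT.leaf (nat_lit 22604049)) (BT.leaf (nat_lit 22969629))))))) (BT.node (nat_lit 5752832) (BT.node (nat_lit 5752320) (BT.node (nat_lit 5752064) (BT.node (nat_lit 5751936) (BT.node (nat_lit 5751872) (BT.leaf (nat_lit 24360737)) (BT.leaf (nat_lit 33700369))) (BT.node (nat_lit 5752000) (BT.leaf (nat_lit 23007513)) (BT.leaf (nat_lit 21246225)))) (BT.node (nat_lit 5752192) (BT.node (nat_lit 5752128) (BT.leaf (nat_lit 21129505)) (BT.leaf (nat_lit 28771617))) (BT.node (nat_lit 5752256) (BT.leaf (nat_lit 21206553)) (BT.leaf (nat_lit 24715549))))) (BT.node (nat_lit 5752576) (BT.node (nat_lit 5752448) (BT.node (nat_lit 5752384) (BT.leaf (nat_lit 22970125)) (BT.leaf (nat_lit 23946001))) (BT.node (nat_lit 5752512) (BT.leaf (nat_lit 23096589)) (BT.leaf (nat_lit 27152409)))) (BT.node (nat_lit 5752704) (BT.node (nat_lit 5752640) (BT.leaf (nat_lit 20913433)) (BT.leaf (nat_lit 21774881))) (BT.node (nat_lit 5752768) (BT.leaf (nat_lit 21775137)) (BT.leaf (nat_lit 22367761)))))) (BT.node (nat_lit 5753344) (BT.node (nat_lit 5753088) (BT.node (nat_lit 5752960) (BT.node (nat_lit 5752896) (BT.leaf (nat_lit 22367777)) (BT.leaf (nat_lit 33665045))) (BT.node (nat_lit 5753024) (BT.leaf (nat_lit 29249541)) (BT.leaf (nat_lit 23139873)))) (BT.node (nat_lit 5753216) (BT.node (nat_lit 5753152) (BT.leaf (nat_lit 21165857)) (BT.leaf (nat_lit 25203485))) (BT.node (nat_lit 5753280) (BT.leaf (nat_lit 52029473)) (BT.leaf (nat_lit 52034829))))) (BT.node (nat_lit 5753600) (BT.node (nat_lit 5753472) (BT.node (nat_lit 5753408) (BT.leaf (nat_lit 52358669)) (BT.leaf (nat_lit 22394385))) (BT.node (nat_lit 5753536) (BT.leaf (nat_lit 21129477)) (BT.leaf (nat_lit 23014429)))) (BT.node (nat_lit 5753728) (BT.node (nat_lit 5753664) (BT.leaf (nat_lit 33706261)) (BT.leaf (nat_lit 33706509))) (BT.node (nat_lit 5753792) (BT.leaf (nat_lit 33707029)) (BT.leaf (nat_lit 23014921)))))))) (BT.node (nat_lit 5755904) (BT.node (nat_lit 5754880) (BT.node (nat_lit 5754368) (BT.node (nat_lit 5754112) (BT.node (nat_lit 5753984) (BT.node (nat_lit 5753920) (BT.leaf (nat_lit 51483421)) (BT.leaf (nat_lit 33708053))) (BT.node (nat_lit 5754048) (BT.leaf (nat_lit 33675029)) (BT.leaf (nat_lit 23636001)))) (BT.node (nat_lit 5754240) (BT.node (nat_lit 5754176) (BT.leaf (nat_lit 26340641)) (BT.leaf (nat_lit 27754257))) (BT.node (nat_lit 5754304) (BT.leaf (nat_lit 24237581)) (BT.leaf (nat_lit 22974477))))) (BT.node (nat_lit 5754624) (BT.node (nat_lit 5754496) (BT.node (nat_lit 5754432) (BT.leaf (nat_lit 23097109)) (BT.leaf (nat_lit 22444305))) (BT.node (nat_lit 5754560) (BT.leaf (nat_lit 33184273)) (BT.leaf (nat_lit 25765141)))) (BT.node (nat_lit 5754752) (BT.node (nat_lit 5754688) (BT.leaf (nat_lit 25198881)) (BT.leaf (nat_lit 22521109))) (BT.node (nat_lit 5754816) (BT.leaf (nat_lit 25766425)) (BT.leaf (nat_lit 20828957)))))) (BT.node (nat_lit 5755392) (BT.node (nat_lit 5755136) (BT.node (nat_lit 5755008) (BT.node (nat_lit 5754944) (BT.leaf (nat_lit 24464149)) (BT.leaf (nat_lit 21741853))) (BT.node (nat_lit 5755072) (BT.leaf (nat_lit 21086485)) (BT.leaf (nat_lit 21741849)))) (BT.node (nat_lit 5755264) (BT.node (nat_lit 5755200) (BT.leaf (nat_lit 23956497)) (BT.leaf (nat_lit 21261085))) (BT.node (nat_lit 5755328) (BT.leaf (nat_lit 21720597)) (BT.leaf (nat_lit 33712905))))) (BT.node (nat_lit 5755648) (BT.node (nat_lit 5755520) (BT.node (nat_lit 5755456) (BT.leaf (nat_lit 51157765)) (BT.leaf (nat_lit 51553049))) (BT.node (nat_lit 5755584) (BT.leaf (nat_lit 23136033)) (BT.leaf (nat_lit 22667293)))) (BT.node (nat_lit 5755776) (BT.node (nat_lit 5755712) (BT.leaf (nat_lit 33465109)) (BT.leaf (nat_lit 20919569))) (BT.node (nat_lit 5755840) (BT.leaf (nat_lit 20919057)) (BT.leaf (nat_lit 22332177))))))) (BT.node (nat_lit 5756928) (BT.node (nat_lit 5756416) (BT.node (nat_lit 5756160) (BT.node (nat_lit 5756032) (BT.node (nat_lit 5755968) (BT.leaf (nat_lit 21151513)) (BT.leaf (nat_lit 21826841))) (BT.node (nat_lit 5756096) (BT.leaf (nat_lit 23042833)) (BT.leaf (nat_lit 22332437)))) (BT.node (nat_lit 5756288) (BT.node (nat_lit 5756224) (BT.leaf (nat_lit 21077521)) (BT.leaf (nat_lit 25303841))) (BT.node (nat_lit 5756352) (BT.leaf (nat_lit 21077537)) (BT.leaf (nat_lit 33718549))))) (BT.node (nat_lit 5756672) (BT.node (nat_lit 5756544) (BT.node (nat_lit 5756480) (BT.leaf (nat_lit 20994577)) (BT.leaf (nat_lit 26800653))) (BT.node (nat_lit 5756608) (BT.leaf (nat_lit 22976777)) (BT.leaf (nat_lit 25952545)))) (BT.node (nat_lit 5756800) (BT.node (nat_lit 5756736) (BT.leaf (nat_lit 22976793)) (BT.leaf (nat_lit 22976797))) (BT.node (nat_lit 5756864) (BT.leaf (nat_lit 22976801)) (BT.leaf (nat_lit 33720337)))))) (BT.node (nat_lit 5757440) (BT.node (nat_lit 5757184) (BT.node (nat_lit 5757056) (BT.node (nat_lit 5756992) (BT.leaf (nat_lit 46396165)) (BT.leaf (nat_lit 27869717))) (BT.node (nat_lit 5757120) (BT.leaf (nat_lit 33454105)) (BT.leaf (nat_lit 33453849)))) (BT.node (nat_lit 5757312) (BT.node (nat_lit 5757248) (BT.leaf (nat_lit 23029021)) (BT.leaf (nat_lit 33721873))) (BT.node (nat_lit 5757376) (BT.leaf (nat_lit 21304337)) (BT.leaf (nat_lit 33722641))))) (BT.node (nat_lit 5757696) (BT.node (nat_lit 5757568) (BT.node (nat_lit 5757504) (BT.leaf (nat_lit 26736929)) (BT.leaf (nat_lit 51316489))) (BT.node (nat_lit 5757632) (BT.leaf (nat_lit 50245905)) (BT.leaf (nat_lit 22316309)))) (BT.node (nat_lit 5757824) (BT.node (nat_lit 5757760) (BT.leaf (nat_lit 25904405)) (BT.leaf (nat_lit 51304721))) (BT.node (nat_lit 5757888) (BT.leaf (nat_lit 23175969)) (BT.leaf (nat_lit 23176225)))))))))) (BT.node (nat_lit 5766144) (BT.node (nat_lit 5762048) (BT.node (nat_lit 5760000) (BT.node (nat_lit 5758976) (BT.node (nat_lit 5758464) (BT.node (nat_lit 5758208) (BT.node (nat_lit 5758080) (BT.node (nat_lit 5758016) (BT.leaf (nat_lit 23176737)) (BT.leaf (nat_lit 23176481))) (BT.node (nat_lit 5758144) (BT.leaf (nat_lit 22782993)) (BT.leaf (nat_lit 33402901)))) (BT.node (nat_lit 5758336) (BT.node (nat_lit 5758272) (BT.leaf (nat_lit 21039641)) (BT.leaf (nat_lit 33403161))) (BT.node (nat_lit 5758400) (BT.leaf (nat_lit 31392273)) (BT.leaf (nat_lit 28578321))))) (BT.node (nat_lit 5758720) (BT.node (nat_lit 5758592) (BT.node (nat_lit 5758528) (BT.leaf (nat_lit 22607129)) (BT.leaf (nat_lit 28592149))) (BT.node (nat_lit 5758656) (BT.leaf (nat_lit 33725969)) (BT.leaf (nat_lit 24547089)))) (BT.node (nat_lit 5758848) (BT.node (nat_lit 5758784) (BT.leaf (nat_lit 24547093)) (BT.leaf (nat_lit 20929313))) (BT.node (nat_lit 5758912) (BT.leaf (nat_lit 20840985)) (BT.leaf (nat_lit 33726997)))))) (BT.node (nat_lit 5759488) (BT.node (nat_lit 5759232) (BT.node (nat_lit 5759104) (BT.node (nat_lit 5759040) (BT.leaf (nat_lit 24909589)) (BT.leaf (nat_lit 31489541))) (BT.node (nat_lit 5759168) (BT.leaf (nat_lit 22686997)) (BT.leaf (nat_lit 23036441)))) (BT.node (nat_lit 5759360) (BT.node (nat_lit 5759296) (BT.leaf (nat_lit 33050637)) (BT.leaf (nat_lit 22310937))) (BT.node (nat_lit 5759424) (BT.leaf (nat_lit 20924945)) (BT.leaf (nat_lit 27956769))))) (BT.node (nat_lit 5759744) (BT.node (nat_lit 5759616) (BT.node (nat_lit 5759552) (BT.leaf (nat_lit 21238297)) (BT.leaf (nat_lit 33728789))) (BT.node (nat_lit 5759680) (BT.leaf (nat_lit 23298333)) (BT.leaf (nat_lit 22739733)))) (BT.node (nat_lit 5759872) (BT.node (nat_lit 5759808) (BT.leaf (nat_lit 50963213)) (BT.leaf (nat_lit 24485385))) (BT.node (nat_lit 5759936) (BT.leaf (nat_lit 21294369)) (BT.leaf (nat_lit 33730065))))))) (BT.node (nat_lit 5761024) (BT.node (nat_lit 5760512) (BT.node (nat_lit 5760256) (BT.node (nat_lit 5760128) (BT.node (nat_lit 5760064) (BT.leaf (nat_lit 26013209)) (BT.leaf (nat_lit 25139225))) (BT.node (nat_lit 5760192) (BT.leaf (nat_lit 48155149)) (BT.leaf (nat_lit 33730577)))) (BT.node (nat_lit 5760384) (BT.node (nat_lit 5760320) (BT.leaf (nat_lit 27806241)) (BT.leaf (nat_lit 25240349))) (BT.node (nat_lit 5760448) (BT.leaf (nat_lit 28671005)) (BT.leaf (nat_lit 24317729))))) (BT.node (nat_lit 5760768) (BT.node (nat_lit 5760640) (BT.node (nat_lit 5760576) (BT.leaf (nat_lit 23177249)) (BT.leaf (nat_lit 24450825))) (BT.node (nat_lit 5760704) (BT.leaf (nat_lit 24821781)) (BT.leaf (nat_lit 27039257)))) (BT.node (nat_lit 5760896) (BT.node (nat_lit 5760832) (BT.leaf (nat_lit 37010185)) (BT.leaf (nat_lit 33731857))) (BT.node (nat_lit 5760960) (BT.leaf (nat_lit 24412937)) (BT.leaf (nat_lit 33732881)))))) (BT.node (nat_lit 5761536) (BT.node (nat_lit 5761280) (BT.node (nat_lit 5761152) (BT.node (nat_lit 5761088) (BT.leaf (nat_lit 33733137)) (BT.leaf (nat_lit 23785757))) (BT.node (nat_lit 5761216) (BT.leaf (nat_lit 25840413)) (BT.leaf (nat_lit 33734677)))) (BT.node (nat_lit 5761408) (BT.node (nat_lit 5761344) (BT.leaf (nat_lit 27038993)) (BT.leaf (nat_lit 29309213))) (BT.node (nat_lit 5761472) (BT.leaf (nat_lit 34169633)) (BT.leaf (nat_lit 28331269))))) (BT.node (nat_lit 5761792) (BT.node (nat_lit 5761664) (BT.node (nat_lit 5761600) (BT.leaf (nat_lit 33735969)) (BT.leaf (nat_lit 51784981))) (BT.node (nat_lit 5761728) (BT.leaf (nat_lit 33493781)) (BT.leaf (nat_lit 50372129)))) (BT.node (nat_lit 5761920) (BT.node (nat_lit 5761856) (BT.leaf (nat_lit 51785225)) (BT.leaf (nat_lit 26027545))) (BT.node (nat_lit 5761984) (BT.leaf (nat_lit 29319201)) (BT.leaf (nat_lit 39220257)))))))) (BT.node (nat_lit 5764096) (BT.node (nat_lit 5763072) (BT.node (nat_lit 5762560) (BT.node (nat_lit 5762304) (BT.node (nat_lit 5762176) (BT.node (nat_lit 5762112) (BT.leaf (nat_lit 27477009)) (BT.leaf (nat_lit 27922193))) (BT.node (nat_lit 5762240) (BT.leaf (nat_lit 28663325)) (BT.leaf (nat_lit 20713233)))) (BT.node (nat_lit 5762432) (BT.node (nat_lit 5762368) (BT.leaf (nat_lit 33738005)) (BT.leaf (nat_lit 51729425))) (BT.node (nat_lit 5762496) (BT.leaf (nat_lit 33738501)) (BT.leaf (nat_lit 33739537))))) (BT.node (nat_lit 5762816) (BT.node (nat_lit 5762688) (BT.node (nat_lit 5762624) (BT.leaf (nat_lit 33221653)) (BT.leaf (nat_lit 25627417))) (BT.node (nat_lit 5762752) (BT.leaf (nat_lit 28070925)) (BT.leaf (nat_lit 28897821)))) (BT.node (nat_lit 5762944) (BT.node (nat_lit 5762880) (BT.leaf (nat_lit 23051549)) (BT.leaf (nat_lit 33740305))) (BT.node (nat_lit 5763008) (BT.leaf (nat_lit 21607965)) (BT.leaf (nat_lit 33730565)))))) (BT.node (nat_lit 5763584) (BT.node (nat_lit 5763328) (BT.node (nat_lit 5763200) (BT.node (nat_lit 5763136) (BT.leaf (nat_lit 20852241)) (BT.leaf (nat_lit 20819473))) (BT.node (nat_lit 5763264) (BT.leaf (nat_lit 28897805)) (BT.leaf (nat_lit 21343509)))) (BT.node (nat_lit 5763456) (BT.node (nat_lit 5763392) (BT.leaf (nat_lit 24867601)) (BT.leaf (nat_lit 33741333))) (BT.node (nat_lit 5763520) (BT.leaf (nat_lit 51191069)) (BT.leaf (nat_lit 27431689))))) (BT.node (nat_lit 5763840) (BT.node (nat_lit 5763712) (BT.node (nat_lit 5763648) (BT.leaf (nat_lit 21423649)) (BT.leaf (nat_lit 33729569))) (BT.node (nat_lit 5763776) (BT.leaf (nat_lit 33743137)) (BT.leaf (nat_lit 33742881)))) (BT.node (nat_lit 5763968) (BT.node (nat_lit 5763904) (BT.leaf (nat_lit 28070937)) (BT.leaf (nat_lit 26164245))) (BT.node (nat_lit 5764032) (BT.leaf (nat_lit 21038361)) (BT.leaf (nat_lit 24545289))))))) (BT.node (nat_lit 5765120) (BT.node (nat_lit 5764608) (BT.node (nat_lit 5764352) (BT.node (nat_lit 5764224) (BT.node (nat_lit 5764160) (BT.leaf (nat_lit 21038349)) (BT.leaf (nat_lit 21412897))) (BT.node (nat_lit 5764288) (BT.leaf (nat_lit 23078425)) (BT.leaf (nat_lit 51430417)))) (BT.node (nat_lit 5764480) (BT.node (nat_lit 5764416) (BT.leaf (nat_lit 22691861)) (BT.leaf (nat_lit 28692493))) (BT.node (nat_lit 5764544) (BT.leaf (nat_lit 21516569)) (BT.leaf (nat_lit 21516573))))) (BT.node (nat_lit 5764864) (BT.node (nat_lit 5764736) (BT.node (nat_lit 5764672) (BT.leaf (nat_lit 27541777)) (BT.leaf (nat_lit 24469025))) (BT.node (nat_lit 5764800) (BT.leaf (nat_lit 20872465)) (BT.leaf (nat_lit 34995477)))) (BT.node (nat_lit 5764992) (BT.node (nat_lit 5764928) (BT.leaf (nat_lit 28574725)) (BT.leaf (nat_lit 30779409))) (BT.node (nat_lit 5765056) (BT.leaf (nat_lit 23334169)) (BT.leaf (nat_lit 22829589)))))) (BT.node (nat_lit 5765632) (BT.node (nat_lit 5765376) (BT.node (nat_lit 5765248) (BT.node (nat_lit 5765184) (BT.leaf (nat_lit 22373649)) (BT.leaf (nat_lit 47789845))) (BT.node (nat_lit 5765312) (BT.leaf (nat_lit 27552533)) (BT.leaf (nat_lit 24744213)))) (BT.node (nat_lit 5765504) (BT.node (nat_lit 5765440) (BT.leaf (nat_lit 33748501)) (BT.leaf (nat_lit 24376597))) (BT.node (nat_lit 5765568) (BT.leaf (nat_lit 33749269)) (BT.leaf (nat_lit 48728857))))) (BT.node (nat_lit 5765888) (BT.node (nat_lit 5765760) (BT.node (nat_lit 5765696) (BT.leaf (nat_lit 29385249)) (BT.leaf (nat_lit 21297925))) (BT.node (nat_lit 5765824) (BT.leaf (nat_lit 21297937)) (BT.leaf (nat_lit 33750801)))) (BT.node (nat_lit 5766016) (BT.node (nat_lit 5765952) (BT.leaf (nat_lit 24386309)) (BT.leaf (nat_lit 27449629))) (BT.node (nat_lit 5766080) (BT.leaf (nat_lit 23080733)) (BT.leaf (nat_lit 22815005))))))))) (BT.node (nat_lit 5770240) (BT.node (nat_lit 5768192) (BT.node (nat_lit 5767168) (BT.node (nat_lit 5766656) (BT.node (nat_lit 5766400) (BT.node (nat_lit 5766272) (BT.node (nat_lit 5766208) (BT.leaf (nat_lit 27424521)) (BT.leaf (nat_lit 27774737))) (BT.node (nat_lit 5766336) (BT.leaf (nat_lit 27774741)) (BT.leaf (nat_lit 26024725)))) (BT.node (nat_lit 5766528) (BT.node (nat_lit 5766464) (BT.leaf (nat_lit 24820509)) (BT.leaf (nat_lit 21058329))) (BT.node (nat_lit 5766592) (BT.leaf (nat_lit 23670553)) (BT.leaf (nat_lit 51105293))))) (BT.node (nat_lit 5766912) (BT.node (nat_lit 5766784) (BT.node (nat_lit 5766720) (BT.leaf (nat_lit 22369293)) (BT.leaf (nat_lit 37447685))) (BT.node (nat_lit 5766848) (BT.leaf (nat_lit 23740193)) (BT.leaf (nat_lit 22579217)))) (BT.node (nat_lit 5767040) (BT.node (nat_lit 5766976) (BT.leaf (nat_lit 22580241)) (BT.leaf (nat_lit 27591457))) (BT.node (nat_lit 5767104) (BT.leaf (nat_lit 27426569)) (BT.leaf (nat_lit 50092037)))))) (BT.node (nat_lit 5767680) (BT.node (nat_lit 5767424) (BT.node (nat_lit 5767296) (BT.node (nat_lit 5767232) (BT.leaf (nat_lit 30608661)) (BT.leaf (nat_lit 23068697))) (BT.node (nat_lit 5767360) (BT.leaf (nat_lit 29409285)) (BT.leaf (nat_lit 22379281)))) (BT.node (nat_lit 5767552) (BT.node (nat_lit 5767488) (BT.leaf (nat_lit 24033049)) (BT.leaf (nat_lit 29092113))) (BT.node (nat_lit 5767616) (BT.leaf (nat_lit 33758485)) (BT.leaf (nat_lit 35181581))))) (BT.node (nat_lit 5767936) (BT.node (nat_lit 5767808) (BT.node (nat_lit 5767744) (BT.leaf (nat_lit 20932113)) (BT.leaf (nat_lit 20931345))) (BT.node (nat_lit 5767872) (BT.leaf (nat_lit 20931089)) (BT.leaf (nat_lit 21468677)))) (BT.node (nat_lit 5768064) (BT.node (nat_lit 5768000) (BT.leaf (nat_lit 24719649)) (BT.leaf (nat_lit 27284249))) (BT.node (nat_lit 5768128) (BT.leaf (nat_lit 21204229)) (BT.leaf (nat_lit 20933145))))))) (BT.node (nat_lit 5769216) (BT.node (nat_lit 5768704) (BT.node (nat_lit 5768448) (BT.node (nat_lit 5768320) (BT.node (nat_lit 5768256) (BT.leaf (nat_lit 21334557)) (BT.leaf (nat_lit 20933405))) (BT.node (nat_lit 5768384) (BT.leaf (nat_lit 27067937)) (BT.leaf (nat_lit 21382917)))) (BT.node (nat_lit 5768576) (BT.node (nat_lit 5768512) (BT.leaf (nat_lit 20863761)) (BT.leaf (nat_lit 20934161))) (BT.node (nat_lit 5768640) (BT.leaf (nat_lit 21188381)) (BT.leaf (nat_lit 33761825))))) (BT.node (nat_lit 5768960) (BT.node (nat_lit 5768832) (BT.node (nat_lit 5768768) (BT.leaf (nat_lit 24084505)) (BT.leaf (nat_lit 22804765))) (BT.node (nat_lit 5768896) (BT.leaf (nat_lit 27474949)) (BT.leaf (nat_lit 24874773)))) (BT.node (nat_lit 5769088) (BT.node (nat_lit 5769024) (BT.leaf (nat_lit 33762065)) (BT.leaf (nat_lit 21519129))) (BT.node (nat_lit 5769152) (BT.leaf (nat_lit 25134621)) (BT.leaf (nat_lit 20934677)))))) (BT.node (nat_lit 5769728) (BT.node (nat_lit 5769472) (BT.node (nat_lit 5769344) (BT.node (nat_lit 5769280) (BT.leaf (nat_lit 24482589)) (BT.leaf (nat_lit 24834069))) (BT.node (nat_lit 5769408) (BT.leaf (nat_lit 23678753)) (BT.leaf (nat_lit 23239685)))) (BT.node (nat_lit 5769600) (BT.node (nat_lit 5769536) (BT.leaf (nat_lit 33763861)) (BT.leaf (nat_lit 23078429))) (BT.node (nat_lit 5769664) (BT.leaf (nat_lit 33764881)) (BT.leaf (nat_lit 24730133))))) (BT.node (nat_lit 5769984) (BT.node (nat_lit 5769856) (BT.node (nat_lit 5769792) (BT.leaf (nat_lit 25749017)) (BT.leaf (nat_lit 20935189))) (BT.node (nat_lit 5769920) (BT.leaf (nat_lit 24095241)) (BT.leaf (nat_lit 28025889)))) (BT.node (nat_lit 5770112) (BT.node (nat_lit 5770048) (BT.leaf (nat_lit 24728341)) (BT.leaf (nat_lit 28598281))) (BT.node (nat_lit 5770176) (BT.leaf (nat_lit 29444129)) (BT.leaf (nat_lit 46624529)))))))) (BT.node (nat_lit 5772288) (BT.node (nat_lit 5771264) (BT.node (nat_lit 5770752) (BT.node (nat_lit 5770496) (BT.node (nat_lit 5770368) (BT.node (nat_lit 5770304) (BT.leaf (nat_lit 24260873)) (BT.leaf (nat_lit 24260893))) (BT.node (nat_lit 5770432) (BT.leaf (nat_lit 20949001)) (BT.leaf (nat_lit 20949005)))) (BT.node (nat_lit 5770624) (BT.node (nat_lit 5770560) (BT.leaf (nat_lit 20949017)) (BT.leaf (nat_lit 20949021))) (BT.node (nat_lit 5770688) (BT.leaf (nat_lit 24087573)) (BT.leaf (nat_lit 20937745))))) (BT.node (nat_lit 5771008) (BT.node (nat_lit 5770880) (BT.node (nat_lit 5770816) (BT.leaf (nat_lit 20736273)) (BT.leaf (nat_lit 33767441))) (BT.node (nat_lit 5770944) (BT.leaf (nat_lit 20736277)) (BT.leaf (nat_lit 21657113)))) (BT.node (nat_lit 5771136) (BT.node (nat_lit 5771072) (BT.leaf (nat_lit 20955413)) (BT.leaf (nat_lit 21333257))) (BT.node (nat_lit 5771200) (BT.leaf (nat_lit 21657101)) (BT.leaf (nat_lit 20939809)))))) (BT.node (nat_lit 5771776) (BT.node (nat_lit 5771520) (BT.node (nat_lit 5771392) (BT.node (nat_lit 5771328) (BT.leaf (nat_lit 20940065)) (BT.leaf (nat_lit 24229125))) (BT.node (nat_lit 5771456) (BT.leaf (nat_lit 21455393)) (BT.leaf (nat_lit 20940561)))) (BT.node (nat_lit 5771648) (BT.node (nat_lit 5771584) (BT.leaf (nat_lit 21040661)) (BT.leaf (nat_lit 21384729))) (BT.node (nat_lit 5771712) (BT.leaf (nat_lit 20944157)) (BT.leaf (nat_lit 46558749))))) (BT.node (nat_lit 5772032) (BT.node (nat_lit 5771904) (BT.node (nat_lit 5771840) (BT.leaf (nat_lit 20944153)) (BT.leaf (nat_lit 20944401))) (BT.node (nat_lit 5771968) (BT.leaf (nat_lit 20824597)) (BT.leaf (nat_lit 22249993)))) (BT.node (nat_lit 5772160) (BT.node (nat_lit 5772096) (BT.leaf (nat_lit 27093261)) (BT.leaf (nat_lit 29452833))) (BT.node (nat_lit 5772224) (BT.leaf (nat_lit 21651481)) (BT.leaf (nat_lit 25978649))))))) (BT.node (nat_lit 5773312) (BT.node (nat_lit 5772800) (BT.node (nat_lit 5772544) (BT.node (nat_lit 5772416) (BT.node (nat_lit 5772352) (BT.leaf (nat_lit 20944913)) (BT.leaf (nat_lit 20944917))) (BT.node (nat_lit 5772480) (BT.leaf (nat_lit 25020949)) (BT.leaf (nat_lit 20945437)))) (BT.node (nat_lit 5772672) (BT.node (nat_lit 5772608) (BT.leaf (nat_lit 21317149)) (BT.leaf (nat_lit 20945433))) (BT.node (nat_lit 5772736) (BT.leaf (nat_lit 22432537)) (BT.leaf (nat_lit 22432541))))) (BT.node (nat_lit 5773056) (BT.node (nat_lit 5772928) (BT.node (nat_lit 5772864) (BT.leaf (nat_lit 20946201)) (BT.leaf (nat_lit 23138849))) (BT.node (nat_lit 5772992) (BT.leaf (nat_lit 23725857)) (BT.leaf (nat_lit 23726113)))) (BT.node (nat_lit 5773184) (BT.node (nat_lit 5773120) (BT.leaf (nat_lit 20947745)) (BT.leaf (nat_lit 25299477))) (BT.node (nat_lit 5773248) (BT.leaf (nat_lit 23092489)) (BT.leaf (nat_lit 23222277)))))) (BT.node (nat_lit 5773824) (BT.node (nat_lit 5773568) (BT.node (nat_lit 5773440) (BT.node (nat_lit 5773376) (BT.leaf (nat_lit 21984277)) (BT.leaf (nat_lit 25299229))) (BT.node (nat_lit 5773504) (BT.leaf (nat_lit 20936981)) (BT.leaf (nat_lit 24226337)))) (BT.node (nat_lit 5773696) (BT.node (nat_lit 5773632) (BT.leaf (nat_lit 24241185)) (BT.leaf (nat_lit 21652253))) (BT.node (nat_lit 5773760) (BT.leaf (nat_lit 24679201)) (BT.leaf (nat_lit 24671505))))) (BT.node (nat_lit 5774080) (BT.node (nat_lit 5773952) (BT.node (nat_lit 5773888) (BT.leaf (nat_lit 21662217)) (BT.leaf (nat_lit 24671521))) (BT.node (nat_lit 5774016) (BT.leaf (nat_lit 23096093)) (BT.leaf (nat_lit 29465105)))) (BT.node (nat_lit 5774208) (BT.node (nat_lit 5774144) (BT.leaf (nat_lit 21662237)) (BT.leaf (nat_lit 33661973))) (BT.node (nat_lit 5774272) (BT.leaf (nat_lit 23096601)) (BT.leaf (nat_lit 23017233)))))))))))))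
noncomputable def big0_e26624 : BT Nat := (BT.node (nat_lit 5839680) (BT.node (nat_lit 5806912) (BT.node (nat_lit 5790528) (BT.node (nat_lit 5782336) (BT.node (nat_lit 5778240) (BT.node (nat_lit 5776384) (BT.node (nat_lit 5775360) (BT.node (nat_lit 5774848) (BT.node (nat_lit 5774592) (BT.node (nat_lit 5774464) (BT.node (nat_lit 5774400) (BT.leaf (nat_lit 23017237)) (BT.leaf (nat_lit 29484833))) (BT.node (nat_lit 5774528) (BT.leaf (nat_lit 25487649)) (BT.leaf (nat_lit 25487905)))) (BT.node (nat_lit 5774720) (BT.node (nat_lit 5774656) (BT.leaf (nat_lit 25488417)) (BT.leaf (nat_lit 25488161))) (BT.node (nat_lit 5774784) (BT.leaf (nat_lit 23108117)) (BT.leaf (nat_lit 25807621))))) (BT.node (nat_lit 5775104) (BT.node (nat_lit 5774976) (BT.node (nat_lit 5774912) (BT.leaf (nat_lit 33708805)) (BT.leaf (nat_lit 21152797))) (BT.node (nat_lit 5775040) (BT.leaf (nat_lit 25541149)) (BT.leaf (nat_lit 28491037)))) (BT.node (nat_lit 5775232) (BT.node (nat_lit 5775168) (BT.leaf (nat_lit 22503193)) (BT.leaf (nat_lit 25665053))) (BT.node (nat_lit 5775296) (BT.leaf (nat_lit 33776913)) (BT.leaf (nat_lit 21447445)))))) (BT.node (nat_lit 5775872) (BT.node (nat_lit 5775616) (BT.node (nat_lit 5775488) (BT.node (nat_lit 5775424) (BT.leaf (nat_lit 22720017)) (BT.leaf (nat_lit 22922017))) (BT.node (nat_lit 5775552) (BT.leaf (nat_lit 24237061)) (BT.leaf (nat_lit 25645829)))) (BT.node (nat_lit 5775744) (BT.node (nat_lit 5775680) (BT.leaf (nat_lit 23232773)) (BT.leaf (nat_lit 28399365))) (BT.node (nat_lit 5775808) (BT.leaf (nat_lit 33242393)) (BT.leaf (nat_lit 22278677))))) (BT.node (nat_lit 5776128) (BT.node (nat_lit 5776000) (BT.node (nat_lit 5775936) (BT.leaf (nat_lit 33902105)) (BT.leaf (nat_lit 28399109))) (BT.node (nat_lit 5776064) (BT.leaf (nat_lit 25772061)) (BT.leaf (nat_lit 20982805)))) (BT.node (nat_lit 5776256) (BT.node (nat_lit 5776192) (BT.leaf (nat_lit 20982813)) (BT.leaf (nat_lit 23597857))) (BT.node (nat_lit 5776320) (BT.leaf (nat_lit 20937749)) (BT.leaf (nat_lit 24361505))))))) (BT.node (nat_lit 5777408) (BT.node (nat_lit 5776896) (BT.node (nat_lit 5776640) (BT.node (nat_lit 5776512) (BT.node (nat_lit 5776448) (BT.leaf (nat_lit 20949269)) (BT.leaf (nat_lit 25774617))) (BT.node (nat_lit 5776576) (BT.leaf (nat_lit 25774601)) (BT.leaf (nat_lit 24976669)))) (BT.node (nat_lit 5776768) (BT.node (nat_lit 5776704) (BT.leaf (nat_lit 22232609)) (BT.leaf (nat_lit 20949025))) (BT.node (nat_lit 5776832) (BT.leaf (nat_lit 23081489)) (BT.leaf (nat_lit 22212125))))) (BT.node (nat_lit 5777152) (BT.node (nat_lit 5777024) (BT.node (nat_lit 5776960) (BT.leaf (nat_lit 21320481)) (BT.leaf (nat_lit 23417629))) (BT.node (nat_lit 5777088) (BT.leaf (nat_lit 22616097)) (BT.leaf (nat_lit 22968837)))) (BT.node (nat_lit 5777280) (BT.node (nat_lit 5777216) (BT.leaf (nat_lit 20949009)) (BT.leaf (nat_lit 33784333))) (BT.node (nat_lit 5777344) (BT.leaf (nat_lit 22968857)) (BT.leaf (nat_lit 22968861)))))) (BT.node (nat_lit 5777728) (BT.node (nat_lit 5777542) (BT.node (nat_lit 5777536) (BT.node (nat_lit 5777472) (BT.leaf (nat_lit 21448481)) (BT.leaf (nat_lit 20949525))) (BT.node (nat_lit 5777537) (BT.leaf (nat_lit 21962777)) (BT.leaf (nat_lit 417696)))) (BT.node (nat_lit 5777600) (BT.node (nat_lit 5777543) (BT.leaf (nat_lit 417696)) (BT.leaf (nat_lit 417696))) (BT.node (nat_lit 5777664) (BT.leaf (nat_lit 23110161)) (BT.leaf (nat_lit 22223133))))) (BT.node (nat_lit 5777984) (BT.node (nat_lit 5777856) (BT.node (nat_lit 5777792) (BT.leaf (nat_lit 20968209)) (BT.leaf (nat_lit 24243225))) (BT.node (nat_lit 5777920) (BT.leaf (nat_lit 20950289)) (BT.leaf (nat_lit 24237829)))) (BT.node (nat_lit 5778112) (BT.node (nat_lit 5778048) (BT.leaf (nat_lit 23674641)) (BT.leaf (nat_lit 33787921))) (BT.node (nat_lit 5778176) (BT.leaf (nat_lit 22423833)) (BT.leaf (nat_lit 23674909)))))))) (BT.node (nat_lit 5780288) (BT.node (nat_lit 5779264) (BT.node (nat_lit 5778752) (BT.node (nat_lit 5778496) (BT.node (nat_lit 5778368) (BT.node (nat_lit 5778304) (BT.leaf (nat_lit 29492001)) (BT.leaf (nat_lit 21431573))) (BT.node (nat_lit 5778432) (BT.leaf (nat_lit 21403669)) (BT.leaf (nat_lit 23597317)))) (BT.node (nat_lit 5778624) (BT.node (nat_lit 5778560) (BT.leaf (nat_lit 23632401)) (BT.leaf (nat_lit 23595285))) (BT.node (nat_lit 5778688) (BT.leaf (nat_lit 22773257)) (BT.leaf (nat_lit 22773261))))) (BT.node (nat_lit 5779008) (BT.node (nat_lit 5778880) (BT.node (nat_lit 5778816) (BT.leaf (nat_lit 22773273)) (BT.leaf (nat_lit 22773277))) (BT.node (nat_lit 5778944) (BT.leaf (nat_lit 23709729)) (BT.leaf (nat_lit 23709473)))) (BT.node (nat_lit 5779136) (BT.node (nat_lit 5779072) (BT.leaf (nat_lit 51717133)) (BT.leaf (nat_lit 24269329))) (BT.node (nat_lit 5779200) (BT.leaf (nat_lit 23127073)) (BT.leaf (nat_lit 20938261)))))) (BT.node (nat_lit 5779776) (BT.node (nat_lit 5779520) (BT.node (nat_lit 5779392) (BT.node (nat_lit 5779328) (BT.leaf (nat_lit 21664009)) (BT.leaf (nat_lit 21664029))) (BT.node (nat_lit 5779456) (BT.leaf (nat_lit 21657117)) (BT.leaf (nat_lit 20955425)))) (BT.node (nat_lit 5779648) (BT.node (nat_lit 5779584) (BT.leaf (nat_lit 20955681)) (BT.leaf (nat_lit 25243145))) (BT.node (nat_lit 5779712) (BT.leaf (nat_lit 21294857)) (BT.leaf (nat_lit 21294861))))) (BT.node (nat_lit 5780032) (BT.node (nat_lit 5779904) (BT.node (nat_lit 5779840) (BT.leaf (nat_lit 21294873)) (BT.leaf (nat_lit 21294877))) (BT.node (nat_lit 5779968) (BT.leaf (nat_lit 23578389)) (BT.leaf (nat_lit 50546185)))) (BT.node (nat_lit 5780160) (BT.node (nat_lit 5780096) (BT.leaf (nat_lit 26262805)) (BT.leaf (nat_lit 37436701))) (BT.node (nat_lit 5780224) (BT.leaf (nat_lit 33176337)) (BT.leaf (nat_lit 23117601))))))) (BT.node (nat_lit 5781312) (BT.node (nat_lit 5780800) (BT.node (nat_lit 5780544) (BT.node (nat_lit 5780416) (BT.node (nat_lit 5780352) (BT.leaf (nat_lit 36375305)) (BT.leaf (nat_lit 23122701))) (BT.node (nat_lit 5780480) (BT.leaf (nat_lit 27748613)) (BT.leaf (nat_lit 24687385)))) (BT.node (nat_lit 5780672) (BT.node (nat_lit 5780608) (BT.leaf (nat_lit 21104153)) (BT.leaf (nat_lit 23122973))) (BT.node (nat_lit 5780736) (BT.leaf (nat_lit 24701461)) (BT.leaf (nat_lit 26715157))))) (BT.node (nat_lit 5781056) (BT.node (nat_lit 5780928) (BT.node (nat_lit 5780864) (BT.leaf (nat_lit 33245985)) (BT.leaf (nat_lit 25804573))) (BT.node (nat_lit 5780992) (BT.leaf (nat_lit 35999249)) (BT.leaf (nat_lit 20962321)))) (BT.node (nat_lit 5781184) (BT.node (nat_lit 5781120) (BT.leaf (nat_lit 20961809)) (BT.leaf (nat_lit 20961553))) (BT.node (nat_lit 5781248) (BT.leaf (nat_lit 20977941)) (BT.leaf (nat_lit 21442321)))))) (BT.node (nat_lit 5781824) (BT.node (nat_lit 5781568) (BT.node (nat_lit 5781440) (BT.node (nat_lit 5781376) (BT.leaf (nat_lit 23623941)) (BT.leaf (nat_lit 21876233))) (BT.node (nat_lit 5781504) (BT.leaf (nat_lit 23579397)) (BT.leaf (nat_lit 20965409)))) (BT.node (nat_lit 5781696) (BT.node (nat_lit 5781632) (BT.leaf (nat_lit 33474073)) (BT.leaf (nat_lit 21315349))) (BT.node (nat_lit 5781760) (BT.leaf (nat_lit 21315857)) (BT.leaf (nat_lit 21877261))))) (BT.node (nat_lit 5782080) (BT.node (nat_lit 5781952) (BT.node (nat_lit 5781888) (BT.leaf (nat_lit 21315873)) (BT.leaf (nat_lit 21147397))) (BT.node (nat_lit 5782016) (BT.leaf (nat_lit 20965393)) (BT.leaf (nat_lit 21147413)))) (BT.node (nat_lit 5782208) (BT.node (nat_lit 5782144) (BT.leaf (nat_lit 33797397)) (BT.leaf (nat_lit 21147421))) (BT.node (nat_lit 5782272) (BT.leaf (nat_lit 21951257)) (BT.leaf (nat_lit 24247841))))))))) (BT.node (nat_lit 5786432) (BT.node (nat_lit 5784384) (BT.node (nat_lit 5783360) (BT.node (nat_lit 5782848) (BT.node (nat_lit 5782592) (BT.node (nat_lit 5782464) (BT.node (nat_lit 5782400) (BT.leaf (nat_lit 22516501)) (BT.leaf (nat_lit 22155545))) (BT.node (nat_lit 5782528) (BT.leaf (nat_lit 33797905)) (BT.leaf (nat_lit 23129881)))) (BT.node (nat_lit 5782720) (BT.node (nat_lit 5782656) (BT.leaf (nat_lit 21956889)) (BT.leaf (nat_lit 21956877))) (BT.node (nat_lit 5782784) (BT.leaf (nat_lit 20966417)) (BT.leaf (nat_lit 20966433))))) (BT.node (nat_lit 5783104) (BT.node (nat_lit 5782976) (BT.node (nat_lit 5782912) (BT.leaf (nat_lit 20965665)) (BT.leaf (nat_lit 23669533))) (BT.node (nat_lit 5783040) (BT.leaf (nat_lit 25523205)) (BT.leaf (nat_lit 20986905)))) (BT.node (nat_lit 5783232) (BT.node (nat_lit 5783168) (BT.leaf (nat_lit 33801493)) (BT.leaf (nat_lit 37240589))) (BT.node (nat_lit 5783296) (BT.leaf (nat_lit 28248585)) (BT.leaf (nat_lit 33801757)))))) (BT.node (nat_lit 5783872) (BT.node (nat_lit 5783616) (BT.node (nat_lit 5783488) (BT.node (nat_lit 5783424) (BT.leaf (nat_lit 25662737)) (BT.leaf (nat_lit 29135625))) (BT.node (nat_lit 5783552) (BT.leaf (nat_lit 29136405)) (BT.leaf (nat_lit 29234953)))) (BT.node (nat_lit 5783744) (BT.node (nat_lit 5783680) (BT.leaf (nat_lit 23122713)) (BT.leaf (nat_lit 22996241))) (BT.node (nat_lit 5783808) (BT.leaf (nat_lit 23233825)) (BT.leaf (nat_lit 21652233))))) (BT.node (nat_lit 5784128) (BT.node (nat_lit 5784000) (BT.node (nat_lit 5783936) (BT.leaf (nat_lit 23135773)) (BT.leaf (nat_lit 30033425))) (BT.node (nat_lit 5784064) (BT.leaf (nat_lit 22667289)) (BT.leaf (nat_lit 25084165)))) (BT.node (nat_lit 5784256) (BT.node (nat_lit 5784192) (BT.leaf (nat_lit 22058249)) (BT.leaf (nat_lit 22058253))) (BT.node (nat_lit 5784320) (BT.leaf (nat_lit 22058505)) (BT.leaf (nat_lit 50141977))))))) (BT.node (nat_lit 5785408) (BT.node (nat_lit 5784896) (BT.node (nat_lit 5784640) (BT.node (nat_lit 5784512) (BT.node (nat_lit 5784448) (BT.leaf (nat_lit 33774869)) (BT.leaf (nat_lit 22058525))) (BT.node (nat_lit 5784576) (BT.leaf (nat_lit 22239009)) (BT.leaf (nat_lit 49959445)))) (BT.node (nat_lit 5784768) (BT.node (nat_lit 5784704) (BT.leaf (nat_lit 21329165)) (BT.leaf (nat_lit 23552265))) (BT.node (nat_lit 5784832) (BT.leaf (nat_lit 24360469)) (BT.leaf (nat_lit 21329181))))) (BT.node (nat_lit 5785152) (BT.node (nat_lit 5785024) (BT.node (nat_lit 5784960) (BT.leaf (nat_lit 29528069)) (BT.leaf (nat_lit 23947785))) (BT.node (nat_lit 5785088) (BT.leaf (nat_lit 29529093)) (BT.leaf (nat_lit 33805325)))) (BT.node (nat_lit 5785280) (BT.node (nat_lit 5785216) (BT.leaf (nat_lit 29520161)) (BT.leaf (nat_lit 33805589))) (BT.node (nat_lit 5785344) (BT.leaf (nat_lit 21460769)) (BT.leaf (nat_lit 20968725)))))) (BT.node (nat_lit 5785920) (BT.node (nat_lit 5785664) (BT.node (nat_lit 5785536) (BT.node (nat_lit 5785472) (BT.leaf (nat_lit 28905745)) (BT.leaf (nat_lit 20969489))) (BT.node (nat_lit 5785600) (BT.leaf (nat_lit 25317913)) (BT.leaf (nat_lit 25317917)))) (BT.node (nat_lit 5785792) (BT.node (nat_lit 5785728) (BT.leaf (nat_lit 33807377)) (BT.leaf (nat_lit 29522209))) (BT.node (nat_lit 5785856) (BT.leaf (nat_lit 20970257)) (BT.leaf (nat_lit 20970501))))) (BT.node (nat_lit 5786176) (BT.node (nat_lit 5786048) (BT.node (nat_lit 5785984) (BT.leaf (nat_lit 24099589)) (BT.leaf (nat_lit 22800929))) (BT.node (nat_lit 5786112) (BT.leaf (nat_lit 21457669)) (BT.leaf (nat_lit 25896993)))) (BT.node (nat_lit 5786304) (BT.node (nat_lit 5786240) (BT.leaf (nat_lit 33663237)) (BT.leaf (nat_lit 21017617))) (BT.node (nat_lit 5786368) (BT.leaf (nat_lit 29205765)) (BT.leaf (nat_lit 25541405)))))))) (BT.node (nat_lit 5788480) (BT.node (nat_lit 5787456) (BT.node (nat_lit 5786944) (BT.node (nat_lit 5786688) (BT.node (nat_lit 5786560) (BT.node (nat_lit 5786496) (BT.leaf (nat_lit 49854997)) (BT.leaf (nat_lit 24099861))) (BT.node (nat_lit 5786624) (BT.leaf (nat_lit 23718429)) (BT.leaf (nat_lit 26411033)))) (BT.node (nat_lit 5786816) (BT.node (nat_lit 5786752) (BT.leaf (nat_lit 21395477)) (BT.leaf (nat_lit 23147293))) (BT.node (nat_lit 5786880) (BT.leaf (nat_lit 20938517)) (BT.leaf (nat_lit 23147273))))) (BT.node (nat_lit 5787200) (BT.node (nat_lit 5787072) (BT.node (nat_lit 5787008) (BT.leaf (nat_lit 28690705)) (BT.leaf (nat_lit 21475601))) (BT.node (nat_lit 5787136) (BT.leaf (nat_lit 21657097)) (BT.leaf (nat_lit 29327633)))) (BT.node (nat_lit 5787328) (BT.node (nat_lit 5787264) (BT.leaf (nat_lit 25988897)) (BT.leaf (nat_lit 21421069))) (BT.node (nat_lit 5787392) (BT.leaf (nat_lit 25781537)) (BT.leaf (nat_lit 21421085)))))) (BT.node (nat_lit 5787968) (BT.node (nat_lit 5787712) (BT.node (nat_lit 5787584) (BT.node (nat_lit 5787520) (BT.leaf (nat_lit 20976145)) (BT.leaf (nat_lit 20962065))) (BT.node (nat_lit 5787648) (BT.leaf (nat_lit 20975889)) (BT.leaf (nat_lit 20995349)))) (BT.node (nat_lit 5787840) (BT.node (nat_lit 5787776) (BT.leaf (nat_lit 20995353)) (BT.leaf (nat_lit 20975633))) (BT.node (nat_lit 5787904) (BT.leaf (nat_lit 51363589)) (BT.leaf (nat_lit 21666833))))) (BT.node (nat_lit 5788224) (BT.node (nat_lit 5788096) (BT.node (nat_lit 5788032) (BT.leaf (nat_lit 21113625)) (BT.leaf (nat_lit 21113629))) (BT.node (nat_lit 5788160) (BT.leaf (nat_lit 20976401)) (BT.leaf (nat_lit 25081365)))) (BT.node (nat_lit 5788352) (BT.node (nat_lit 5788288) (BT.leaf (nat_lit 22658069)) (BT.leaf (nat_lit 20826397))) (BT.node (nat_lit 5788416) (BT.leaf (nat_lit 25947141)) (BT.leaf (nat_lit 21456645))))))) (BT.node (nat_lit 5789504) (BT.node (nat_lit 5788992) (BT.node (nat_lit 5788736) (BT.node (nat_lit 5788608) (BT.node (nat_lit 5788544) (BT.leaf (nat_lit 21456661)) (BT.leaf (nat_lit 20965921))) (BT.node (nat_lit 5788672) (BT.leaf (nat_lit 21140229)) (BT.leaf (nat_lit 20977425)))) (BT.node (nat_lit 5788864) (BT.node (nat_lit 5788800) (BT.leaf (nat_lit 21140245)) (BT.leaf (nat_lit 21140249))) (BT.node (nat_lit 5788928) (BT.leaf (nat_lit 21140253)) (BT.leaf (nat_lit 20977937))))) (BT.node (nat_lit 5789248) (BT.node (nat_lit 5789120) (BT.node (nat_lit 5789056) (BT.leaf (nat_lit 20977441)) (BT.leaf (nat_lit 21456405))) (BT.node (nat_lit 5789184) (BT.leaf (nat_lit 24246561)) (BT.leaf (nat_lit 24693765)))) (BT.node (nat_lit 5789376) (BT.node (nat_lit 5789312) (BT.leaf (nat_lit 20965905)) (BT.leaf (nat_lit 20977669))) (BT.node (nat_lit 5789440) (BT.leaf (nat_lit 22159897)) (BT.leaf (nat_lit 20977953)))))) (BT.node (nat_lit 5790016) (BT.node (nat_lit 5789760) (BT.node (nat_lit 5789632) (BT.node (nat_lit 5789568) (BT.leaf (nat_lit 33818129)) (BT.leaf (nat_lit 20978461))) (BT.node (nat_lit 5789696) (BT.leaf (nat_lit 21462037)) (BT.leaf (nat_lit 29327889)))) (BT.node (nat_lit 5789888) (BT.node (nat_lit 5789824) (BT.leaf (nat_lit 24738321)) (BT.leaf (nat_lit 21341205))) (BT.node (nat_lit 5789952) (BT.leaf (nat_lit 21341209)) (BT.leaf (nat_lit 21341213))))) (BT.node (nat_lit 5790272) (BT.node (nat_lit 5790144) (BT.node (nat_lit 5790080) (BT.leaf (nat_lit 28284449)) (BT.leaf (nat_lit 27227669))) (BT.node (nat_lit 5790208) (BT.leaf (nat_lit 33822997)) (BT.leaf (nat_lit 22743305)))) (BT.node (nat_lit 5790400) (BT.node (nat_lit 5790336) (BT.leaf (nat_lit 22743309)) (BT.leaf (nat_lit 22743321))) (BT.node (nat_lit 5790464) (BT.leaf (nat_lit 22743325)) (BT.leaf (nat_lit 23028245)))))))))) (BT.node (nat_lit 5798720) (BT.node (nat_lit 5794624) (BT.node (nat_lit 5792576) (BT.node (nat_lit 5791552) (BT.node (nat_lit 5791040) (BT.node (nat_lit 5790784) (BT.node (nat_lit 5790656) (BT.node (nat_lit 5790592) (BT.leaf (nat_lit 22546705)) (BT.leaf (nat_lit 28842009))) (BT.node (nat_lit 5790720) (BT.leaf (nat_lit 24846877)) (BT.leaf (nat_lit 23810585)))) (BT.node (nat_lit 5790912) (BT.node (nat_lit 5790848) (BT.leaf (nat_lit 23833869)) (BT.leaf (nat_lit 51387409))) (BT.node (nat_lit 5790976) (BT.leaf (nat_lit 24694277)) (BT.leaf (nat_lit 21745681))))) (BT.node (nat_lit 5791296) (BT.node (nat_lit 5791168) (BT.node (nat_lit 5791104) (BT.leaf (nat_lit 34550285)) (BT.leaf (nat_lit 20978721))) (BT.node (nat_lit 5791232) (BT.leaf (nat_lit 33826585)) (BT.leaf (nat_lit 29379077)))) (BT.node (nat_lit 5791424) (BT.node (nat_lit 5791360) (BT.leaf (nat_lit 29378849)) (BT.leaf (nat_lit 49574677))) (BT.node (nat_lit 5791488) (BT.leaf (nat_lit 32690713)) (BT.leaf (nat_lit 23166237)))))) (BT.node (nat_lit 5792064) (BT.node (nat_lit 5791808) (BT.node (nat_lit 5791680) (BT.node (nat_lit 5791616) (BT.leaf (nat_lit 24839441)) (BT.leaf (nat_lit 29069333))) (BT.node (nat_lit 5791744) (BT.leaf (nat_lit 28316961)) (BT.leaf (nat_lit 21170457)))) (BT.node (nat_lit 5791936) (BT.node (nat_lit 5791872) (BT.leaf (nat_lit 24865825)) (BT.leaf (nat_lit 29583393))) (BT.node (nat_lit 5792000) (BT.leaf (nat_lit 34323213)) (BT.leaf (nat_lit 33829393))))) (BT.node (nat_lit 5792320) (BT.node (nat_lit 5792192) (BT.node (nat_lit 5792128) (BT.leaf (nat_lit 21176865)) (BT.leaf (nat_lit 23328289))) (BT.node (nat_lit 5792256) (BT.leaf (nat_lit 26006293)) (BT.leaf (nat_lit 28833817)))) (BT.node (nat_lit 5792448) (BT.node (nat_lit 5792384) (BT.leaf (nat_lit 26006045)) (BT.leaf (nat_lit 24811029))) (BT.node (nat_lit 5792512) (BT.leaf (nat_lit 23666209)) (BT.leaf (nat_lit 23666721))))))) (BT.node (nat_lit 5793600) (BT.node (nat_lit 5793088) (BT.node (nat_lit 5792832) (BT.node (nat_lit 5792704) (BT.node (nat_lit 5792640) (BT.leaf (nat_lit 23666465)) (BT.leaf (nat_lit 23213345))) (BT.node (nat_lit 5792768) (BT.leaf (nat_lit 23213573)) (BT.leaf (nat_lit 23565585)))) (BT.node (nat_lit 5792960) (BT.node (nat_lit 5792896) (BT.leaf (nat_lit 20698889)) (BT.leaf (nat_lit 33278493))) (BT.node (nat_lit 5793024) (BT.leaf (nat_lit 25645601)) (BT.leaf (nat_lit 20981265))))) (BT.node (nat_lit 5793344) (BT.node (nat_lit 5793216) (BT.node (nat_lit 5793152) (BT.leaf (nat_lit 20698637)) (BT.leaf (nat_lit 25318149))) (BT.node (nat_lit 5793280) (BT.leaf (nat_lit 22924065)) (BT.leaf (nat_lit 31002645)))) (BT.node (nat_lit 5793472) (BT.node (nat_lit 5793408) (BT.leaf (nat_lit 28013073)) (BT.leaf (nat_lit 27435797))) (BT.node (nat_lit 5793536) (BT.leaf (nat_lit 21742097)) (BT.leaf (nat_lit 34951969)))))) (BT.node (nat_lit 5794112) (BT.node (nat_lit 5793856) (BT.node (nat_lit 5793728) (BT.node (nat_lit 5793664) (BT.leaf (nat_lit 24301061)) (BT.leaf (nat_lit 23160353))) (BT.node (nat_lit 5793792) (BT.leaf (nat_lit 22849037)) (BT.leaf (nat_lit 50175765)))) (BT.node (nat_lit 5793984) (BT.node (nat_lit 5793920) (BT.leaf (nat_lit 33837089)) (BT.leaf (nat_lit 26230793))) (BT.node (nat_lit 5794048) (BT.leaf (nat_lit 51556885)) (BT.leaf (nat_lit 22449933))))) (BT.node (nat_lit 5794368) (BT.node (nat_lit 5794240) (BT.node (nat_lit 5794176) (BT.leaf (nat_lit 22449945)) (BT.leaf (nat_lit 22449949))) (BT.node (nat_lit 5794304) (BT.leaf (nat_lit 21291537)) (BT.leaf (nat_lit 27568413)))) (BT.node (nat_lit 5794496) (BT.node (nat_lit 5794432) (BT.leaf (nat_lit 24128529)) (BT.leaf (nat_lit 24128533))) (BT.node (nat_lit 5794560) (BT.leaf (nat_lit 28670497)) (BT.leaf (nat_lit 22524705)))))))) (BT.node (nat_lit 5796672) (BT.node (nat_lit 5795648) (BT.node (nat_lit 5795136) (BT.node (nat_lit 5794880) (BT.node (nat_lit 5794752) (BT.node (nat_lit 5794688) (BT.leaf (nat_lit 21057297)) (BT.leaf (nat_lit 51538701))) (BT.node (nat_lit 5794816) (BT.leaf (nat_lit 52427297)) (BT.leaf (nat_lit 24336157)))) (BT.node (nat_lit 5795008) (BT.node (nat_lit 5794944) (BT.leaf (nat_lit 32139013)) (BT.leaf (nat_lit 28357665))) (BT.node (nat_lit 5795072) (BT.leaf (nat_lit 33503517)) (BT.leaf (nat_lit 25612817))))) (BT.node (nat_lit 5795392) (BT.node (nat_lit 5795264) (BT.node (nat_lit 5795200) (BT.leaf (nat_lit 27305753)) (BT.leaf (nat_lit 36734481))) (BT.node (nat_lit 5795328) (BT.leaf (nat_lit 22835461)) (BT.leaf (nat_lit 33840661)))) (BT.node (nat_lit 5795520) (BT.node (nat_lit 5795456) (BT.leaf (nat_lit 25579041)) (BT.leaf (nat_lit 27646753))) (BT.node (nat_lit 5795584) (BT.leaf (nat_lit 22594569)) (BT.leaf (nat_lit 28199189)))))) (BT.node (nat_lit 5796160) (BT.node (nat_lit 5795904) (BT.node (nat_lit 5795776) (BT.node (nat_lit 5795712) (BT.leaf (nat_lit 22594593)) (BT.leaf (nat_lit 48640797))) (BT.node (nat_lit 5795840) (BT.leaf (nat_lit 23889425)) (BT.leaf (nat_lit 36748553)))) (BT.node (nat_lit 5796032) (BT.node (nat_lit 5795968) (BT.leaf (nat_lit 22367513)) (BT.leaf (nat_lit 22367517))) (BT.node (nat_lit 5796096) (BT.leaf (nat_lit 22533649)) (BT.leaf (nat_lit 22533665))))) (BT.node (nat_lit 5796416) (BT.node (nat_lit 5796288) (BT.node (nat_lit 5796224) (BT.leaf (nat_lit 21875717)) (BT.leaf (nat_lit 33842193))) (BT.node (nat_lit 5796352) (BT.leaf (nat_lit 33842717)) (BT.leaf (nat_lit 20983569)))) (BT.node (nat_lit 5796544) (BT.node (nat_lit 5796480) (BT.leaf (nat_lit 20824081)) (BT.leaf (nat_lit 20879633))) (BT.node (nat_lit 5796608) (BT.leaf (nat_lit 20983313)) (BT.leaf (nat_lit 23172869))))))) (BT.node (nat_lit 5797696) (BT.node (nat_lit 5797184) (BT.node (nat_lit 5796928) (BT.node (nat_lit 5796800) (BT.node (nat_lit 5796736) (BT.leaf (nat_lit 21095701)) (BT.leaf (nat_lit 34951705))) (BT.node (nat_lit 5796864) (BT.leaf (nat_lit 33845265)) (BT.leaf (nat_lit 32223265)))) (BT.node (nat_lit 5797056) (BT.node (nat_lit 5796992) (BT.leaf (nat_lit 23423009)) (BT.leaf (nat_lit 24303889))) (BT.node (nat_lit 5797120) (BT.leaf (nat_lit 23543573)) (BT.leaf (nat_lit 33848081))))) (BT.node (nat_lit 5797440) (BT.node (nat_lit 5797312) (BT.node (nat_lit 5797248) (BT.leaf (nat_lit 50938653)) (BT.leaf (nat_lit 24298517))) (BT.node (nat_lit 5797376) (BT.leaf (nat_lit 33848837)) (BT.leaf (nat_lit 23653649)))) (BT.node (nat_lit 5797568) (BT.node (nat_lit 5797504) (BT.leaf (nat_lit 23423749)) (BT.leaf (nat_lit 46324497))) (BT.node (nat_lit 5797632) (BT.leaf (nat_lit 21260321)) (BT.leaf (nat_lit 24295961)))))) (BT.node (nat_lit 5798208) (BT.node (nat_lit 5797952) (BT.node (nat_lit 5797824) (BT.node (nat_lit 5797760) (BT.leaf (nat_lit 24140053)) (BT.leaf (nat_lit 25096969))) (BT.node (nat_lit 5797888) (BT.leaf (nat_lit 33256221)) (BT.leaf (nat_lit 33568033)))) (BT.node (nat_lit 5798080) (BT.node (nat_lit 5798016) (BT.leaf (nat_lit 25253393)) (BT.leaf (nat_lit 24371717))) (BT.node (nat_lit 5798144) (BT.leaf (nat_lit 33562645)) (BT.leaf (nat_lit 22858257))))) (BT.node (nat_lit 5798464) (BT.node (nat_lit 5798336) (BT.node (nat_lit 5798272) (BT.leaf (nat_lit 24724257)) (BT.leaf (nat_lit 33851665))) (BT.node (nat_lit 5798400) (BT.leaf (nat_lit 33595677)) (BT.leaf (nat_lit 24305413)))) (BT.node (nat_lit 5798592) (BT.node (nat_lit 5798528) (BT.leaf (nat_lit 21429017)) (BT.leaf (nat_lit 27695365))) (BT.node (nat_lit 5798656) (BT.leaf (nat_lit 24664345)) (BT.leaf (nat_lit 33606153))))))))) (BT.node (nat_lit 5802816) (BT.node (nat_lit 5800768) (BT.node (nat_lit 5799744) (BT.node (nat_lit 5799232) (BT.node (nat_lit 5798976) (BT.node (nat_lit 5798848) (BT.node (nat_lit 5798784) (BT.leaf (nat_lit 27493921)) (BT.leaf (nat_lit 33045789))) (BT.node (nat_lit 5798912) (BT.leaf (nat_lit 33854229)) (BT.leaf (nat_lit 22451213)))) (BT.node (nat_lit 5799104) (BT.node (nat_lit 5799040) (BT.leaf (nat_lit 22451225)) (BT.leaf (nat_lit 22451229))) (BT.node (nat_lit 5799168) (BT.leaf (nat_lit 20883225)) (BT.leaf (nat_lit 20825369))))) (BT.node (nat_lit 5799488) (BT.node (nat_lit 5799360) (BT.node (nat_lit 5799296) (BT.leaf (nat_lit 22468117)) (BT.leaf (nat_lit 20883229))) (BT.node (nat_lit 5799424) (BT.leaf (nat_lit 20825373)) (BT.leaf (nat_lit 33857309)))) (BT.node (nat_lit 5799616) (BT.node (nat_lit 5799552) (BT.leaf (nat_lit 20985621)) (BT.leaf (nat_lit 25321493))) (BT.node (nat_lit 5799680) (BT.leaf (nat_lit 23197965)) (BT.leaf (nat_lit 25321753)))))) (BT.node (nat_lit 5800256) (BT.node (nat_lit 5800000) (BT.node (nat_lit 5799872) (BT.node (nat_lit 5799808) (BT.leaf (nat_lit 24303393)) (BT.leaf (nat_lit 20985617))) (BT.node (nat_lit 5799936) (BT.leaf (nat_lit 26154773)) (BT.leaf (nat_lit 29038109)))) (BT.node (nat_lit 5800128) (BT.node (nat_lit 5800064) (BT.leaf (nat_lit 25603613)) (BT.leaf (nat_lit 20985873))) (BT.node (nat_lit 5800192) (BT.leaf (nat_lit 23513377)) (BT.leaf (nat_lit 20986385))))) (BT.node (nat_lit 5800512) (BT.node (nat_lit 5800384) (BT.node (nat_lit 5800320) (BT.leaf (nat_lit 25571105)) (BT.leaf (nat_lit 33859605))) (BT.node (nat_lit 5800448) (BT.leaf (nat_lit 30839813)) (BT.leaf (nat_lit 23514657)))) (BT.node (nat_lit 5800640) (BT.node (nat_lit 5800576) (BT.leaf (nat_lit 50103577)) (BT.leaf (nat_lit 33860101))) (BT.node (nat_lit 5800704) (BT.leaf (nat_lit 33860889)) (BT.leaf (nat_lit 25831173))))))) (BT.node (nat_lit 5801792) (BT.node (nat_lit 5801280) (BT.node (nat_lit 5801024) (BT.node (nat_lit 5800896) (BT.node (nat_lit 5800832) (BT.leaf (nat_lit 20987665)) (BT.leaf (nat_lit 33861405))) (BT.node (nat_lit 5800960) (BT.leaf (nat_lit 33862425)) (BT.leaf (nat_lit 33862933)))) (BT.node (nat_lit 5801152) (BT.node (nat_lit 5801088) (BT.leaf (nat_lit 33863445)) (BT.leaf (nat_lit 33863957))) (BT.node (nat_lit 5801216) (BT.leaf (nat_lit 26756885)) (BT.leaf (nat_lit 23435277))))) (BT.node (nat_lit 5801536) (BT.node (nat_lit 5801408) (BT.node (nat_lit 5801344) (BT.leaf (nat_lit 24378401)) (BT.leaf (nat_lit 50308361))) (BT.node (nat_lit 5801472) (BT.leaf (nat_lit 24799009)) (BT.leaf (nat_lit 24195105)))) (BT.node (nat_lit 5801664) (BT.node (nat_lit 5801600) (BT.leaf (nat_lit 25834017)) (BT.leaf (nat_lit 25699861))) (BT.node (nat_lit 5801728) (BT.leaf (nat_lit 22637077)) (BT.leaf (nat_lit 20990737)))))) (BT.node (nat_lit 5802304) (BT.node (nat_lit 5802048) (BT.node (nat_lit 5801920) (BT.node (nat_lit 5801856) (BT.leaf (nat_lit 20990481)) (BT.leaf (nat_lit 33867281))) (BT.node (nat_lit 5801984) (BT.leaf (nat_lit 23890717)) (BT.leaf (nat_lit 37210129)))) (BT.node (nat_lit 5802176) (BT.node (nat_lit 5802112) (BT.leaf (nat_lit 37210145)) (BT.leaf (nat_lit 21676053))) (BT.node (nat_lit 5802240) (BT.leaf (nat_lit 33868561)) (BT.leaf (nat_lit 20989469))))) (BT.node (nat_lit 5802560) (BT.node (nat_lit 5802432) (BT.node (nat_lit 5802368) (BT.leaf (nat_lit 29707553)) (BT.leaf (nat_lit 42328849))) (BT.node (nat_lit 5802496) (BT.leaf (nat_lit 29717785)) (BT.leaf (nat_lit 29711381)))) (BT.node (nat_lit 5802688) (BT.node (nat_lit 5802624) (BT.leaf (nat_lit 20999173)) (BT.leaf (nat_lit 24518417))) (BT.node (nat_lit 5802752) (BT.leaf (nat_lit 24518421)) (BT.leaf (nat_lit 21438241)))))))) (BT.node (nat_lit 5804864) (BT.node (nat_lit 5803840) (BT.node (nat_lit 5803328) (BT.node (nat_lit 5803072) (BT.node (nat_lit 5802944) (BT.node (nat_lit 5802880) (BT.leaf (nat_lit 33419797)) (BT.leaf (nat_lit 29396769))) (BT.node (nat_lit 5803008) (BT.leaf (nat_lit 33419549)) (BT.leaf (nat_lit 20929297)))) (BT.node (nat_lit 5803200) (BT.node (nat_lit 5803136) (BT.leaf (nat_lit 29715473)) (BT.leaf (nat_lit 29715217))) (BT.node (nat_lit 5803264) (BT.leaf (nat_lit 22560793)) (BT.leaf (nat_lit 22560797))))) (BT.node (nat_lit 5803584) (BT.node (nat_lit 5803456) (BT.node (nat_lit 5803392) (BT.leaf (nat_lit 29722901)) (BT.leaf (nat_lit 33873681))) (BT.node (nat_lit 5803520) (BT.leaf (nat_lit 23687185)) (BT.leaf (nat_lit 23299097)))) (BT.node (nat_lit 5803712) (BT.node (nat_lit 5803648) (BT.leaf (nat_lit 22504965)) (BT.leaf (nat_lit 22504977))) (BT.node (nat_lit 5803776) (BT.leaf (nat_lit 28100873)) (BT.leaf (nat_lit 20999189)))))) (BT.node (nat_lit 5804352) (BT.node (nat_lit 5804096) (BT.node (nat_lit 5803968) (BT.node (nat_lit 5803904) (BT.leaf (nat_lit 27905553)) (BT.leaf (nat_lit 23297801))) (BT.node (nat_lit 5804032) (BT.leaf (nat_lit 33876257)) (BT.leaf (nat_lit 28100885)))) (BT.node (nat_lit 5804224) (BT.node (nat_lit 5804160) (BT.leaf (nat_lit 25731101)) (BT.leaf (nat_lit 33877013))) (BT.node (nat_lit 5804288) (BT.leaf (nat_lit 31242253)) (BT.leaf (nat_lit 29723669))))) (BT.node (nat_lit 5804608) (BT.node (nat_lit 5804480) (BT.node (nat_lit 5804416) (BT.leaf (nat_lit 28451609)) (BT.leaf (nat_lit 33878545))) (BT.node (nat_lit 5804544) (BT.leaf (nat_lit 24400153)) (BT.leaf (nat_lit 29726737)))) (BT.node (nat_lit 5804736) (BT.node (nat_lit 5804672) (BT.leaf (nat_lit 28062497)) (BT.leaf (nat_lit 33038109))) (BT.node (nat_lit 5804800) (BT.leaf (nat_lit 31489549)) (BT.leaf (nat_lit 25731605))))))) (BT.node (nat_lit 5805888) (BT.node (nat_lit 5805376) (BT.node (nat_lit 5805120) (BT.node (nat_lit 5804992) (BT.node (nat_lit 5804928) (BT.leaf (nat_lit 33518869)) (BT.leaf (nat_lit 28784905))) (BT.node (nat_lit 5805056) (BT.leaf (nat_lit 33880861)) (BT.leaf (nat_lit 33423897)))) (BT.node (nat_lit 5805248) (BT.node (nat_lit 5805184) (BT.leaf (nat_lit 24713221)) (BT.leaf (nat_lit 28130333))) (BT.node (nat_lit 5805312) (BT.leaf (nat_lit 23602453)) (BT.leaf (nat_lit 23524373))))) (BT.node (nat_lit 5805632) (BT.node (nat_lit 5805504) (BT.node (nat_lit 5805440) (BT.leaf (nat_lit 33476377)) (BT.leaf (nat_lit 32787485))) (BT.node (nat_lit 5805568) (BT.leaf (nat_lit 33470233)) (BT.leaf (nat_lit 25760797)))) (BT.node (nat_lit 5805760) (BT.node (nat_lit 5805696) (BT.leaf (nat_lit 33883157)) (BT.leaf (nat_lit 25761813))) (BT.node (nat_lit 5805824) (BT.leaf (nat_lit 24125985)) (BT.leaf (nat_lit 24126241)))))) (BT.node (nat_lit 5806400) (BT.node (nat_lit 5806144) (BT.node (nat_lit 5806016) (BT.node (nat_lit 5805952) (BT.leaf (nat_lit 21244953)) (BT.leaf (nat_lit 35045393))) (BT.node (nat_lit 5806080) (BT.leaf (nat_lit 20993809)) (BT.leaf (nat_lit 33745417)))) (BT.node (nat_lit 5806272) (BT.node (nat_lit 5806208) (BT.leaf (nat_lit 21749521)) (BT.leaf (nat_lit 33885457))) (BT.node (nat_lit 5806336) (BT.leaf (nat_lit 28797701)) (BT.leaf (nat_lit 51491101))))) (BT.node (nat_lit 5806656) (BT.node (nat_lit 5806528) (BT.node (nat_lit 5806464) (BT.leaf (nat_lit 22794757)) (BT.leaf (nat_lit 21254157))) (BT.node (nat_lit 5806592) (BT.leaf (nat_lit 24165125)) (BT.leaf (nat_lit 24165409)))) (BT.node (nat_lit 5806784) (BT.node (nat_lit 5806720) (BT.leaf (nat_lit 21392389)) (BT.leaf (nat_lit 33887509))) (BT.node (nat_lit 5806848) (BT.leaf (nat_lit 29576729)) (BT.leaf (nat_lit 25831197))))))))))) (BT.node (nat_lit 5823296) (BT.node (nat_lit 5815104) (BT.node (nat_lit 5811008) (BT.node (nat_lit 5808960) (BT.node (nat_lit 5807936) (BT.node (nat_lit 5807424) (BT.node (nat_lit 5807168) (BT.node (nat_lit 5807040) (BT.node (nat_lit 5806976) (BT.leaf (nat_lit 27845649)) (BT.leaf (nat_lit 27503393))) (BT.node (nat_lit 5807104) (BT.leaf (nat_lit 33888029)) (BT.leaf (nat_lit 33888541)))) (BT.node (nat_lit 5807296) (BT.node (nat_lit 5807232) (BT.leaf (nat_lit 27369737)) (BT.leaf (nat_lit 27369745))) (BT.node (nat_lit 5807360) (BT.leaf (nat_lit 22608153)) (BT.leaf (nat_lit 22608157))))) (BT.node (nat_lit 5807680) (BT.node (nat_lit 5807552) (BT.node (nat_lit 5807488) (BT.leaf (nat_lit 21266953)) (BT.leaf (nat_lit 34802201))) (BT.node (nat_lit 5807616) (BT.leaf (nat_lit 28055309)) (BT.leaf (nat_lit 28055313)))) (BT.node (nat_lit 5807808) (BT.node (nat_lit 5807744) (BT.leaf (nat_lit 23663381)) (BT.leaf (nat_lit 20830737))) (BT.node (nat_lit 5807872) (BT.leaf (nat_lit 24330521)) (BT.leaf (nat_lit 25480209)))))) (BT.node (nat_lit 5808448) (BT.node (nat_lit 5808192) (BT.node (nat_lit 5808064) (BT.node (nat_lit 5808000) (BT.leaf (nat_lit 24161057)) (BT.leaf (nat_lit 33891357))) (BT.node (nat_lit 5808128) (BT.leaf (nat_lit 33892377)) (BT.leaf (nat_lit 50611209)))) (BT.node (nat_lit 5808320) (BT.node (nat_lit 5808256) (BT.leaf (nat_lit 23027481)) (BT.leaf (nat_lit 23027485))) (BT.node (nat_lit 5808384) (BT.leaf (nat_lit 50503941)) (BT.leaf (nat_lit 25157657))))) (BT.node (nat_lit 5808704) (BT.node (nat_lit 5808576) (BT.node (nat_lit 5808512) (BT.leaf (nat_lit 22915093)) (BT.leaf (nat_lit 24777233))) (BT.node (nat_lit 5808640) (BT.leaf (nat_lit 33383193)) (BT.leaf (nat_lit 25905949)))) (BT.node (nat_lit 5808832) (BT.node (nat_lit 5808768) (BT.leaf (nat_lit 27554333)) (BT.leaf (nat_lit 26697497))) (BT.node (nat_lit 5808896) (BT.leaf (nat_lit 36824609)) (BT.leaf (nat_lit 34343685))))))) (BT.node (nat_lit 5809984) (BT.node (nat_lit 5809472) (BT.node (nat_lit 5809216) (BT.node (nat_lit 5809088) (BT.node (nat_lit 5809024) (BT.leaf (nat_lit 26483737)) (BT.leaf (nat_lit 34343713))) (BT.node (nat_lit 5809152) (BT.leaf (nat_lit 33895945)) (BT.leaf (nat_lit 20999185)))) (BT.node (nat_lit 5809344) (BT.node (nat_lit 5809280) (BT.leaf (nat_lit 24478213)) (BT.leaf (nat_lit 28073741))) (BT.node (nat_lit 5809408) (BT.leaf (nat_lit 29722885)) (BT.leaf (nat_lit 47635997))))) (BT.node (nat_lit 5809728) (BT.node (nat_lit 5809600) (BT.node (nat_lit 5809536) (BT.leaf (nat_lit 33897489)) (BT.leaf (nat_lit 48081413))) (BT.node (nat_lit 5809664) (BT.leaf (nat_lit 24787741)) (BT.leaf (nat_lit 33898517)))) (BT.node (nat_lit 5809856) (BT.node (nat_lit 5809792) (BT.leaf (nat_lit 22354949)) (BT.leaf (nat_lit 33899797))) (BT.node (nat_lit 5809920) (BT.leaf (nat_lit 33899537)) (BT.leaf (nat_lit 20999705)))))) (BT.node (nat_lit 5810496) (BT.node (nat_lit 5810240) (BT.node (nat_lit 5810112) (BT.node (nat_lit 5810048) (BT.leaf (nat_lit 21173533)) (BT.leaf (nat_lit 21173529))) (BT.node (nat_lit 5810176) (BT.leaf (nat_lit 33900817)) (BT.leaf (nat_lit 21000469)))) (BT.node (nat_lit 5810368) (BT.node (nat_lit 5810304) (BT.leaf (nat_lit 33901585)) (BT.leaf (nat_lit 50816537))) (BT.node (nat_lit 5810432) (BT.leaf (nat_lit 30598149)) (BT.leaf (nat_lit 25924885))))) (BT.node (nat_lit 5810752) (BT.node (nat_lit 5810624) (BT.node (nat_lit 5810560) (BT.leaf (nat_lit 24514337)) (BT.leaf (nat_lit 24515105))) (BT.node (nat_lit 5810688) (BT.leaf (nat_lit 21676565)) (BT.leaf (nat_lit 33164045)))) (BT.node (nat_lit 5810880) (BT.node (nat_lit 5810816) (BT.leaf (nat_lit 22757153)) (BT.leaf (nat_lit 33904401))) (BT.node (nat_lit 5810944) (BT.leaf (nat_lit 23243805)) (BT.leaf (nat_lit 33405969)))))))) (BT.node (nat_lit 5813056) (BT.node (nat_lit 5812032) (BT.node (nat_lit 5811520) (BT.node (nat_lit 5811264) (BT.node (nat_lit 5811136) (BT.node (nat_lit 5811072) (BT.leaf (nat_lit 20837137)) (BT.leaf (nat_lit 21004045))) (BT.node (nat_lit 5811200) (BT.leaf (nat_lit 21004041)) (BT.leaf (nat_lit 33905169)))) (BT.node (nat_lit 5811392) (BT.node (nat_lit 5811328) (BT.leaf (nat_lit 35019553)) (BT.leaf (nat_lit 23246109))) (BT.node (nat_lit 5811456) (BT.leaf (nat_lit 22785049)) (BT.leaf (nat_lit 41067277))))) (BT.node (nat_lit 5811776) (BT.node (nat_lit 5811648) (BT.node (nat_lit 5811584) (BT.leaf (nat_lit 33906961)) (BT.leaf (nat_lit 28601861))) (BT.node (nat_lit 5811712) (BT.leaf (nat_lit 50031129)) (BT.leaf (nat_lit 33678101)))) (BT.node (nat_lit 5811904) (BT.node (nat_lit 5811840) (BT.leaf (nat_lit 33127697)) (BT.leaf (nat_lit 24143393))) (BT.node (nat_lit 5811968) (BT.leaf (nat_lit 24143377)) (BT.leaf (nat_lit 27603741)))))) (BT.node (nat_lit 5812544) (BT.node (nat_lit 5812288) (BT.node (nat_lit 5812160) (BT.node (nat_lit 5812096) (BT.leaf (nat_lit 27605013)) (BT.leaf (nat_lit 33133585))) (BT.node (nat_lit 5812224) (BT.leaf (nat_lit 33135633)) (BT.leaf (nat_lit 33229341)))) (BT.node (nat_lit 5812416) (BT.node (nat_lit 5812352) (BT.leaf (nat_lit 47934749)) (BT.leaf (nat_lit 23966753))) (BT.node (nat_lit 5812480) (BT.leaf (nat_lit 23426337)) (BT.leaf (nat_lit 25080865))))) (BT.node (nat_lit 5812800) (BT.node (nat_lit 5812672) (BT.node (nat_lit 5812608) (BT.leaf (nat_lit 21005341)) (BT.leaf (nat_lit 21696785))) (BT.node (nat_lit 5812736) (BT.leaf (nat_lit 21248285)) (BT.leaf (nat_lit 24465157)))) (BT.node (nat_lit 5812928) (BT.node (nat_lit 5812864) (BT.leaf (nat_lit 28076805)) (BT.leaf (nat_lit 21005845))) (BT.node (nat_lit 5812992) (BT.leaf (nat_lit 25923873)) (BT.leaf (nat_lit 33149717))))))) (BT.node (nat_lit 5814080) (BT.node (nat_lit 5813568) (BT.node (nat_lit 5813312) (BT.node (nat_lit 5813184) (BT.node (nat_lit 5813120) (BT.leaf (nat_lit 20717585)) (BT.leaf (nat_lit 21112837))) (BT.node (nat_lit 5813248) (BT.leaf (nat_lit 22401817)) (BT.leaf (nat_lit 24946965)))) (BT.node (nat_lit 5813440) (BT.node (nat_lit 5813376) (BT.leaf (nat_lit 22402837)) (BT.leaf (nat_lit 24949001))) (BT.node (nat_lit 5813504) (BT.leaf (nat_lit 22597401)) (BT.leaf (nat_lit 20715537))))) (BT.node (nat_lit 5813824) (BT.node (nat_lit 5813696) (BT.node (nat_lit 5813632) (BT.leaf (nat_lit 20716561)) (BT.leaf (nat_lit 22404873))) (BT.node (nat_lit 5813760) (BT.leaf (nat_lit 21006609)) (BT.leaf (nat_lit 49153549)))) (BT.node (nat_lit 5813952) (BT.node (nat_lit 5813888) (BT.leaf (nat_lit 23905297)) (BT.leaf (nat_lit 22406169))) (BT.node (nat_lit 5814016) (BT.leaf (nat_lit 35489309)) (BT.leaf (nat_lit 22458129)))))) (BT.node (nat_lit 5814592) (BT.node (nat_lit 5814336) (BT.node (nat_lit 5814208) (BT.node (nat_lit 5814144) (BT.leaf (nat_lit 22498585)) (BT.leaf (nat_lit 22385429))) (BT.node (nat_lit 5814272) (BT.leaf (nat_lit 22385689)) (BT.leaf (nat_lit 29817109)))) (BT.node (nat_lit 5814464) (BT.node (nat_lit 5814400) (BT.leaf (nat_lit 28109321)) (BT.leaf (nat_lit 33128981))) (BT.node (nat_lit 5814528) (BT.leaf (nat_lit 23257629)) (BT.leaf (nat_lit 23033109))))) (BT.node (nat_lit 5814848) (BT.node (nat_lit 5814720) (BT.node (nat_lit 5814656) (BT.leaf (nat_lit 22391581)) (BT.leaf (nat_lit 27599125))) (BT.node (nat_lit 5814784) (BT.leaf (nat_lit 23162645)) (BT.leaf (nat_lit 23821593)))) (BT.node (nat_lit 5814976) (BT.node (nat_lit 5814912) (BT.leaf (nat_lit 21391133)) (BT.leaf (nat_lit 33128733))) (BT.node (nat_lit 5815040) (BT.leaf (nat_lit 33618449)) (BT.leaf (nat_lit 21634321))))))))) (BT.node (nat_lit 5819200) (BT.node (nat_lit 5817152) (BT.node (nat_lit 5816128) (BT.node (nat_lit 5815616) (BT.node (nat_lit 5815360) (BT.node (nat_lit 5815232) (BT.node (nat_lit 5815168) (BT.leaf (nat_lit 26224153)) (BT.leaf (nat_lit 23569437))) (BT.node (nat_lit 5815296) (BT.leaf (nat_lit 21734417)) (BT.leaf (nat_lit 33918993)))) (BT.node (nat_lit 5815488) (BT.node (nat_lit 5815424) (BT.leaf (nat_lit 20902937)) (BT.leaf (nat_lit 21143057))) (BT.node (nat_lit 5815552) (BT.leaf (nat_lit 25248289)) (BT.leaf (nat_lit 21546249))))) (BT.node (nat_lit 5815872) (BT.node (nat_lit 5815744) (BT.node (nat_lit 5815680) (BT.leaf (nat_lit 23188497)) (BT.leaf (nat_lit 23045397))) (BT.node (nat_lit 5815808) (BT.leaf (nat_lit 21114641)) (BT.leaf (nat_lit 33921565)))) (BT.node (nat_lit 5816000) (BT.node (nat_lit 5815936) (BT.leaf (nat_lit 23205397)) (BT.leaf (nat_lit 33937929))) (BT.node (nat_lit 5816064) (BT.leaf (nat_lit 33049097)) (BT.leaf (nat_lit 24532501)))))) (BT.node (nat_lit 5816640) (BT.node (nat_lit 5816384) (BT.node (nat_lit 5816256) (BT.node (nat_lit 5816192) (BT.leaf (nat_lit 27325193)) (BT.leaf (nat_lit 22885645))) (BT.node (nat_lit 5816320) (BT.leaf (nat_lit 20996881)) (BT.leaf (nat_lit 21061653)))) (BT.node (nat_lit 5816512) (BT.node (nat_lit 5816448) (BT.leaf (nat_lit 33922821)) (BT.leaf (nat_lit 20898321))) (BT.node (nat_lit 5816576) (BT.leaf (nat_lit 21010193)) (BT.leaf (nat_lit 21386257))))) (BT.node (nat_lit 5816896) (BT.node (nat_lit 5816768) (BT.node (nat_lit 5816704) (BT.leaf (nat_lit 21386261)) (BT.leaf (nat_lit 33924385))) (BT.node (nat_lit 5816832) (BT.leaf (nat_lit 29836041)) (BT.leaf (nat_lit 22696981)))) (BT.node (nat_lit 5817024) (BT.node (nat_lit 5816960) (BT.leaf (nat_lit 22696985)) (BT.leaf (nat_lit 22696989))) (BT.node (nat_lit 5817088) (BT.leaf (nat_lit 35705361)) (BT.leaf (nat_lit 23232005))))))) (BT.node (nat_lit 5818176) (BT.node (nat_lit 5817664) (BT.node (nat_lit 5817408) (BT.node (nat_lit 5817280) (BT.node (nat_lit 5817216) (BT.leaf (nat_lit 33925405)) (BT.leaf (nat_lit 33925913))) (BT.node (nat_lit 5817344) (BT.leaf (nat_lit 23269405)) (BT.leaf (nat_lit 33926673)))) (BT.node (nat_lit 5817536) (BT.node (nat_lit 5817472) (BT.leaf (nat_lit 51831569)) (BT.leaf (nat_lit 22565141))) (BT.node (nat_lit 5817600) (BT.leaf (nat_lit 50115345)) (BT.leaf (nat_lit 23544341))))) (BT.node (nat_lit 5817920) (BT.node (nat_lit 5817792) (BT.node (nat_lit 5817728) (BT.leaf (nat_lit 50194949)) (BT.leaf (nat_lit 22891793))) (BT.node (nat_lit 5817856) (BT.leaf (nat_lit 29854737)) (BT.leaf (nat_lit 21210393)))) (BT.node (nat_lit 5818048) (BT.node (nat_lit 5817984) (BT.leaf (nat_lit 21210397)) (BT.leaf (nat_lit 22565657))) (BT.node (nat_lit 5818112) (BT.leaf (nat_lit 49834265)) (BT.leaf (nat_lit 21840149)))))) (BT.node (nat_lit 5818688) (BT.node (nat_lit 5818432) (BT.node (nat_lit 5818304) (BT.node (nat_lit 5818240) (BT.leaf (nat_lit 22317325)) (BT.leaf (nat_lit 22317577))) (BT.node (nat_lit 5818368) (BT.leaf (nat_lit 26541589)) (BT.leaf (nat_lit 22317341)))) (BT.node (nat_lit 5818560) (BT.node (nat_lit 5818496) (BT.leaf (nat_lit 21839901)) (BT.leaf (nat_lit 24943133))) (BT.node (nat_lit 5818624) (BT.leaf (nat_lit 23274525)) (BT.leaf (nat_lit 23970577))))) (BT.node (nat_lit 5818944) (BT.node (nat_lit 5818816) (BT.node (nat_lit 5818752) (BT.leaf (nat_lit 21013777)) (BT.leaf (nat_lit 28444933))) (BT.node (nat_lit 5818880) (BT.leaf (nat_lit 29864225)) (BT.leaf (nat_lit 24447521)))) (BT.node (nat_lit 5819072) (BT.node (nat_lit 5819008) (BT.leaf (nat_lit 33933841)) (BT.leaf (nat_lit 25563413))) (BT.node (nat_lit 5819136) (BT.leaf (nat_lit 25916437)) (BT.leaf (nat_lit 50911493)))))))) (BT.node (nat_lit 5821248) (BT.node (nat_lit 5820224) (BT.node (nat_lit 5819712) (BT.node (nat_lit 5819456) (BT.node (nat_lit 5819328) (BT.node (nat_lit 5819264) (BT.leaf (nat_lit 25857301)) (BT.leaf (nat_lit 21014553))) (BT.node (nat_lit 5819392) (BT.leaf (nat_lit 21372689)) (BT.leaf (nat_lit 24897049)))) (BT.node (nat_lit 5819584) (BT.node (nat_lit 5819520) (BT.leaf (nat_lit 34963473)) (BT.leaf (nat_lit 24898069))) (BT.node (nat_lit 5819648) (BT.leaf (nat_lit 22363933)) (BT.leaf (nat_lit 21014561))))) (BT.node (nat_lit 5819968) (BT.node (nat_lit 5819840) (BT.node (nat_lit 5819776) (BT.leaf (nat_lit 31067141)) (BT.leaf (nat_lit 24897813))) (BT.node (nat_lit 5819904) (BT.leaf (nat_lit 22558737)) (BT.leaf (nat_lit 26004485)))) (BT.node (nat_lit 5820096) (BT.node (nat_lit 5820032) (BT.leaf (nat_lit 50997533)) (BT.leaf (nat_lit 29874961))) (BT.node (nat_lit 5820160) (BT.leaf (nat_lit 23193113)) (BT.leaf (nat_lit 23193117)))))) (BT.node (nat_lit 5820736) (BT.node (nat_lit 5820480) (BT.node (nat_lit 5820352) (BT.node (nat_lit 5820288) (BT.leaf (nat_lit 24801805)) (BT.leaf (nat_lit 23193365))) (BT.node (nat_lit 5820416) (BT.leaf (nat_lit 21410333)) (BT.leaf (nat_lit 21185305)))) (BT.node (nat_lit 5820608) (BT.node (nat_lit 5820544) (BT.leaf (nat_lit 21679381)) (BT.leaf (nat_lit 33940753))) (BT.node (nat_lit 5820672) (BT.leaf (nat_lit 33210653)) (BT.leaf (nat_lit 27274253))))) (BT.node (nat_lit 5820992) (BT.node (nat_lit 5820864) (BT.node (nat_lit 5820800) (BT.leaf (nat_lit 21015833)) (BT.leaf (nat_lit 21016853))) (BT.node (nat_lit 5820928) (BT.leaf (nat_lit 21046805)) (BT.leaf (nat_lit 24438305)))) (BT.node (nat_lit 5821120) (BT.node (nat_lit 5821056) (BT.leaf (nat_lit 24702993)) (BT.leaf (nat_lit 29479961))) (BT.node (nat_lit 5821184) (BT.leaf (nat_lit 29889805)) (BT.leaf (nat_lit 22116377))))))) (BT.node (nat_lit 5822272) (BT.node (nat_lit 5821760) (BT.node (nat_lit 5821504) (BT.node (nat_lit 5821376) (BT.node (nat_lit 5821312) (BT.leaf (nat_lit 21016601)) (BT.leaf (nat_lit 21016861))) (BT.node (nat_lit 5821440) (BT.leaf (nat_lit 21541661)) (BT.leaf (nat_lit 21016605)))) (BT.node (nat_lit 5821632) (BT.node (nat_lit 5821568) (BT.leaf (nat_lit 21186065)) (BT.leaf (nat_lit 21016857))) (BT.node (nat_lit 5821696) (BT.leaf (nat_lit 22564109)) (BT.leaf (nat_lit 25797649))))) (BT.node (nat_lit 5822016) (BT.node (nat_lit 5821888) (BT.node (nat_lit 5821824) (BT.leaf (nat_lit 28445465)) (BT.leaf (nat_lit 46771977))) (BT.node (nat_lit 5821952) (BT.leaf (nat_lit 24526369)) (BT.leaf (nat_lit 33059873)))) (BT.node (nat_lit 5822144) (BT.node (nat_lit 5822080) (BT.leaf (nat_lit 33060101)) (BT.leaf (nat_lit 22927633))) (BT.node (nat_lit 5822208) (BT.leaf (nat_lit 22927637)) (BT.leaf (nat_lit 22378761)))))) (BT.node (nat_lit 5822784) (BT.node (nat_lit 5822528) (BT.node (nat_lit 5822400) (BT.node (nat_lit 5822336) (BT.leaf (nat_lit 21258001)) (BT.leaf (nat_lit 25598749))) (BT.node (nat_lit 5822464) (BT.leaf (nat_lit 33948441)) (BT.leaf (nat_lit 22843409)))) (BT.node (nat_lit 5822656) (BT.node (nat_lit 5822592) (BT.leaf (nat_lit 21368081)) (BT.leaf (nat_lit 29902097))) (BT.node (nat_lit 5822720) (BT.leaf (nat_lit 29901841)) (BT.leaf (nat_lit 21294617))))) (BT.node (nat_lit 5823040) (BT.node (nat_lit 5822912) (BT.node (nat_lit 5822848) (BT.leaf (nat_lit 21294621)) (BT.leaf (nat_lit 24072213))) (BT.node (nat_lit 5822976) (BT.leaf (nat_lit 29422613)) (BT.leaf (nat_lit 23324949)))) (BT.node (nat_lit 5823168) (BT.node (nat_lit 5823104) (BT.leaf (nat_lit 33950737)) (BT.leaf (nat_lit 51688973))) (BT.node (nat_lit 5823232) (BT.leaf (nat_lit 33952029)) (BT.leaf (nat_lit 33951505)))))))))) (BT.node (nat_lit 5831488) (BT.node (nat_lit 5827392) (BT.node (nat_lit 5825344) (BT.node (nat_lit 5824320) (BT.node (nat_lit 5823808) (BT.node (nat_lit 5823552) (BT.node (nat_lit 5823424) (BT.node (nat_lit 5823360) (BT.leaf (nat_lit 33952537)) (BT.leaf (nat_lit 33953041))) (BT.node (nat_lit 5823488) (BT.leaf (nat_lit 25606421)) (BT.leaf (nat_lit 33953553)))) (BT.node (nat_lit 5823680) (BT.node (nat_lit 5823616) (BT.leaf (nat_lit 23071517)) (BT.leaf (nat_lit 49827861))) (BT.node (nat_lit 5823744) (BT.leaf (nat_lit 33953809)) (BT.leaf (nat_lit 23294745))))) (BT.node (nat_lit 5824064) (BT.node (nat_lit 5823936) (BT.node (nat_lit 5823872) (BT.leaf (nat_lit 23958817)) (BT.leaf (nat_lit 26716441))) (BT.node (nat_lit 5824000) (BT.leaf (nat_lit 26716445)) (BT.leaf (nat_lit 33954833)))) (BT.node (nat_lit 5824192) (BT.node (nat_lit 5824128) (BT.leaf (nat_lit 33954849)) (BT.leaf (nat_lit 33955345))) (BT.node (nat_lit 5824256) (BT.leaf (nat_lit 33956129)) (BT.leaf (nat_lit 27938077)))))) (BT.node (nat_lit 5824832) (BT.node (nat_lit 5824576) (BT.node (nat_lit 5824448) (BT.node (nat_lit 5824384) (BT.leaf (nat_lit 27928093)) (BT.leaf (nat_lit 20999441))) (BT.node (nat_lit 5824512) (BT.leaf (nat_lit 27927317)) (BT.leaf (nat_lit 33957661)))) (BT.node (nat_lit 5824704) (BT.node (nat_lit 5824640) (BT.leaf (nat_lit 25859345)) (BT.leaf (nat_lit 23298329))) (BT.node (nat_lit 5824768) (BT.leaf (nat_lit 24142369)) (BT.leaf (nat_lit 33959185))))) (BT.node (nat_lit 5825088) (BT.node (nat_lit 5824960) (BT.node (nat_lit 5824896) (BT.leaf (nat_lit 33728797)) (BT.leaf (nat_lit 27069217))) (BT.node (nat_lit 5825024) (BT.leaf (nat_lit 37057041)) (BT.leaf (nat_lit 34034953)))) (BT.node (nat_lit 5825216) (BT.node (nat_lit 5825152) (BT.leaf (nat_lit 28532241)) (BT.leaf (nat_lit 34034969))) (BT.node (nat_lit 5825280) (BT.leaf (nat_lit 27944985)) (BT.leaf (nat_lit 23763221))))))) (BT.node (nat_lit 5826368) (BT.node (nat_lit 5825856) (BT.node (nat_lit 5825600) (BT.node (nat_lit 5825472) (BT.node (nat_lit 5825408) (BT.leaf (nat_lit 23361309)) (BT.leaf (nat_lit 23182113))) (BT.node (nat_lit 5825536) (BT.leaf (nat_lit 27550497)) (BT.leaf (nat_lit 23646997)))) (BT.node (nat_lit 5825728) (BT.node (nat_lit 5825664) (BT.leaf (nat_lit 33188113)) (BT.leaf (nat_lit 24576273))) (BT.node (nat_lit 5825792) (BT.leaf (nat_lit 33194257)) (BT.leaf (nat_lit 21507089))))) (BT.node (nat_lit 5826112) (BT.node (nat_lit 5825984) (BT.node (nat_lit 5825920) (BT.leaf (nat_lit 33963549)) (BT.leaf (nat_lit 22798881))) (BT.node (nat_lit 5826048) (BT.leaf (nat_lit 22744069)) (BT.leaf (nat_lit 22744609)))) (BT.node (nat_lit 5826240) (BT.node (nat_lit 5826176) (BT.leaf (nat_lit 22744353)) (BT.leaf (nat_lit 50151177))) (BT.node (nat_lit 5826304) (BT.leaf (nat_lit 24052489)) (BT.leaf (nat_lit 22649377)))))) (BT.node (nat_lit 5826880) (BT.node (nat_lit 5826624) (BT.node (nat_lit 5826496) (BT.node (nat_lit 5826432) (BT.leaf (nat_lit 33099025)) (BT.leaf (nat_lit 25724165))) (BT.node (nat_lit 5826560) (BT.leaf (nat_lit 25020425)) (BT.leaf (nat_lit 33965073)))) (BT.node (nat_lit 5826752) (BT.node (nat_lit 5826688) (BT.leaf (nat_lit 27868429)) (BT.leaf (nat_lit 33965333))) (BT.node (nat_lit 5826816) (BT.leaf (nat_lit 33965589)) (BT.leaf (nat_lit 29750533))))) (BT.node (nat_lit 5827136) (BT.node (nat_lit 5827008) (BT.node (nat_lit 5826944) (BT.leaf (nat_lit 24533261)) (BT.leaf (nat_lit 24165893))) (BT.node (nat_lit 5827072) (BT.leaf (nat_lit 50570773)) (BT.leaf (nat_lit 29281301)))) (BT.node (nat_lit 5827264) (BT.node (nat_lit 5827200) (BT.leaf (nat_lit 33968657)) (BT.leaf (nat_lit 24176145))) (BT.node (nat_lit 5827328) (BT.leaf (nat_lit 33539361)) (BT.leaf (nat_lit 22307857)))))))) (BT.node (nat_lit 5829440) (BT.node (nat_lit 5828416) (BT.node (nat_lit 5827904) (BT.node (nat_lit 5827648) (BT.node (nat_lit 5827520) (BT.node (nat_lit 5827456) (BT.leaf (nat_lit 25613853)) (BT.leaf (nat_lit 33969441))) (BT.node (nat_lit 5827584) (BT.leaf (nat_lit 33969669)) (BT.leaf (nat_lit 31680801)))) (BT.node (nat_lit 5827776) (BT.node (nat_lit 5827712) (BT.leaf (nat_lit 31680793)) (BT.leaf (nat_lit 27325197))) (BT.node (nat_lit 5827840) (BT.leaf (nat_lit 22885641)) (BT.leaf (nat_lit 22905873))))) (BT.node (nat_lit 5828160) (BT.node (nat_lit 5828032) (BT.node (nat_lit 5827968) (BT.leaf (nat_lit 52186653)) (BT.leaf (nat_lit 23432469))) (BT.node (nat_lit 5828096) (BT.leaf (nat_lit 23432473)) (BT.leaf (nat_lit 23432477)))) (BT.node (nat_lit 5828288) (BT.node (nat_lit 5828224) (BT.leaf (nat_lit 29945349)) (BT.leaf (nat_lit 20707601))) (BT.node (nat_lit 5828352) (BT.leaf (nat_lit 23576865)) (BT.leaf (nat_lit 21019157)))))) (BT.node (nat_lit 5828928) (BT.node (nat_lit 5828672) (BT.node (nat_lit 5828544) (BT.node (nat_lit 5828480) (BT.leaf (nat_lit 24145441)) (BT.leaf (nat_lit 33970197))) (BT.node (nat_lit 5828608) (BT.leaf (nat_lit 33970461)) (BT.leaf (nat_lit 23503381)))) (BT.node (nat_lit 5828800) (BT.node (nat_lit 5828736) (BT.leaf (nat_lit 23503393)) (BT.leaf (nat_lit 34138657))) (BT.node (nat_lit 5828864) (BT.leaf (nat_lit 27773709)) (BT.leaf (nat_lit 25619477))))) (BT.node (nat_lit 5829184) (BT.node (nat_lit 5829056) (BT.node (nat_lit 5828992) (BT.leaf (nat_lit 36250657)) (BT.leaf (nat_lit 33973537))) (BT.node (nat_lit 5829120) (BT.leaf (nat_lit 36250649)) (BT.leaf (nat_lit 34928145)))) (BT.node (nat_lit 5829312) (BT.node (nat_lit 5829248) (BT.leaf (nat_lit 32099861)) (BT.leaf (nat_lit 24566805))) (BT.node (nat_lit 5829376) (BT.leaf (nat_lit 25963281)) (BT.leaf (nat_lit 33974801))))))) (BT.node (nat_lit 5830464) (BT.node (nat_lit 5829952) (BT.node (nat_lit 5829696) (BT.node (nat_lit 5829568) (BT.node (nat_lit 5829504) (BT.leaf (nat_lit 50774301)) (BT.leaf (nat_lit 33975557))) (BT.node (nat_lit 5829632) (BT.leaf (nat_lit 21019421)) (BT.leaf (nat_lit 25903381)))) (BT.node (nat_lit 5829824) (BT.node (nat_lit 5829760) (BT.leaf (nat_lit 33976341)) (BT.leaf (nat_lit 23377937))) (BT.node (nat_lit 5829888) (BT.leaf (nat_lit 23378713)) (BT.leaf (nat_lit 22341909))))) (BT.node (nat_lit 5830208) (BT.node (nat_lit 5830080) (BT.node (nat_lit 5830016) (BT.leaf (nat_lit 28567073)) (BT.leaf (nat_lit 21021209))) (BT.node (nat_lit 5830144) (BT.leaf (nat_lit 28218901)) (BT.leaf (nat_lit 23843333)))) (BT.node (nat_lit 5830336) (BT.node (nat_lit 5830272) (BT.leaf (nat_lit 33326597)) (BT.leaf (nat_lit 35002901))) (BT.node (nat_lit 5830400) (BT.leaf (nat_lit 33619733)) (BT.leaf (nat_lit 23253025)))))) (BT.node (nat_lit 5830976) (BT.node (nat_lit 5830720) (BT.node (nat_lit 5830592) (BT.node (nat_lit 5830528) (BT.leaf (nat_lit 23743253)) (BT.leaf (nat_lit 20751377))) (BT.node (nat_lit 5830656) (BT.leaf (nat_lit 23255045)) (BT.leaf (nat_lit 20682001)))) (BT.node (nat_lit 5830848) (BT.node (nat_lit 5830784) (BT.leaf (nat_lit 20751633)) (BT.leaf (nat_lit 36246545))) (BT.node (nat_lit 5830912) (BT.leaf (nat_lit 35648261)) (BT.leaf (nat_lit 33982481))))) (BT.node (nat_lit 5831232) (BT.node (nat_lit 5831104) (BT.node (nat_lit 5831040) (BT.leaf (nat_lit 33221657)) (BT.leaf (nat_lit 25009429))) (BT.node (nat_lit 5831168) (BT.leaf (nat_lit 25009181)) (BT.leaf (nat_lit 25732121)))) (BT.node (nat_lit 5831360) (BT.node (nat_lit 5831296) (BT.leaf (nat_lit 27981597)) (BT.leaf (nat_lit 21298461))) (BT.node (nat_lit 5831424) (BT.leaf (nat_lit 25962257)) (BT.leaf (nat_lit 33712389))))))))) (BT.node (nat_lit 5835584) (BT.node (nat_lit 5833536) (BT.node (nat_lit 5832512) (BT.node (nat_lit 5832000) (BT.node (nat_lit 5831744) (BT.node (nat_lit 5831616) (BT.node (nat_lit 5831552) (BT.leaf (nat_lit 30930693)) (BT.leaf (nat_lit 25010181))) (BT.node (nat_lit 5831680) (BT.leaf (nat_lit 33984529)) (BT.leaf (nat_lit 24719625)))) (BT.node (nat_lit 5831872) (BT.node (nat_lit 5831808) (BT.leaf (nat_lit 29353229)) (BT.leaf (nat_lit 20835349))) (BT.node (nat_lit 5831936) (BT.leaf (nat_lit 29999877)) (BT.leaf (nat_lit 30000161))))) (BT.node (nat_lit 5832256) (BT.node (nat_lit 5832128) (BT.node (nat_lit 5832064) (BT.leaf (nat_lit 29355029)) (BT.leaf (nat_lit 33987093))) (BT.node (nat_lit 5832192) (BT.leaf (nat_lit 33987605)) (BT.leaf (nat_lit 23333401)))) (BT.node (nat_lit 5832384) (BT.node (nat_lit 5832320) (BT.leaf (nat_lit 24373021)) (BT.leaf (nat_lit 24132385))) (BT.node (nat_lit 5832448) (BT.leaf (nat_lit 25782293)) (BT.leaf (nat_lit 22698273)))))) (BT.node (nat_lit 5833024) (BT.node (nat_lit 5832768) (BT.node (nat_lit 5832640) (BT.node (nat_lit 5832576) (BT.leaf (nat_lit 25782045)) (BT.leaf (nat_lit 48481037))) (BT.node (nat_lit 5832704) (BT.leaf (nat_lit 21023505)) (BT.leaf (nat_lit 30012953)))) (BT.node (nat_lit 5832896) (BT.node (nat_lit 5832832) (BT.leaf (nat_lit 25247513)) (BT.leaf (nat_lit 24158213))) (BT.node (nat_lit 5832960) (BT.leaf (nat_lit 25252633)) (BT.leaf (nat_lit 21174021))))) (BT.node (nat_lit 5833280) (BT.node (nat_lit 5833152) (BT.node (nat_lit 5833088) (BT.leaf (nat_lit 21024273)) (BT.leaf (nat_lit 24071457))) (BT.node (nat_lit 5833216) (BT.leaf (nat_lit 22490401)) (BT.leaf (nat_lit 28236821)))) (BT.node (nat_lit 5833408) (BT.node (nat_lit 5833344) (BT.leaf (nat_lit 33990673)) (BT.leaf (nat_lit 33990929))) (BT.node (nat_lit 5833472) (BT.leaf (nat_lit 33991193)) (BT.leaf (nat_lit 33991705))))))) (BT.node (nat_lit 5834560) (BT.node (nat_lit 5834048) (BT.node (nat_lit 5833792) (BT.node (nat_lit 5833664) (BT.node (nat_lit 5833600) (BT.leaf (nat_lit 33991953)) (BT.leaf (nat_lit 29389841))) (BT.node (nat_lit 5833728) (BT.leaf (nat_lit 33115165)) (BT.leaf (nat_lit 27554317)))) (BT.node (nat_lit 5833920) (BT.node (nat_lit 5833856) (BT.leaf (nat_lit 21982749)) (BT.leaf (nat_lit 21027345))) (BT.node (nat_lit 5833984) (BT.leaf (nat_lit 21026577)) (BT.leaf (nat_lit 23914013))))) (BT.node (nat_lit 5834304) (BT.node (nat_lit 5834176) (BT.node (nat_lit 5834112) (BT.leaf (nat_lit 33994261)) (BT.leaf (nat_lit 33148937))) (BT.node (nat_lit 5834240) (BT.leaf (nat_lit 24075525)) (BT.leaf (nat_lit 21028117)))) (BT.node (nat_lit 5834432) (BT.node (nat_lit 5834368) (BT.leaf (nat_lit 24231437)) (BT.leaf (nat_lit 24231449))) (BT.node (nat_lit 5834496) (BT.leaf (nat_lit 25142557)) (BT.leaf (nat_lit 28090137)))))) (BT.node (nat_lit 5835072) (BT.node (nat_lit 5834816) (BT.node (nat_lit 5834688) (BT.node (nat_lit 5834624) (BT.leaf (nat_lit 22563857)) (BT.leaf (nat_lit 23234309))) (BT.node (nat_lit 5834752) (BT.leaf (nat_lit 33996053)) (BT.leaf (nat_lit 33996037)))) (BT.node (nat_lit 5834944) (BT.node (nat_lit 5834880) (BT.leaf (nat_lit 36824585)) (BT.leaf (nat_lit 25882893))) (BT.node (nat_lit 5835008) (BT.leaf (nat_lit 50207261)) (BT.leaf (nat_lit 33998365))))) (BT.node (nat_lit 5835328) (BT.node (nat_lit 5835200) (BT.node (nat_lit 5835136) (BT.leaf (nat_lit 25404445)) (BT.leaf (nat_lit 23423773))) (BT.node (nat_lit 5835264) (BT.leaf (nat_lit 33998609)) (BT.leaf (nat_lit 23340825)))) (BT.node (nat_lit 5835456) (BT.node (nat_lit 5835392) (BT.leaf (nat_lit 33998865)) (BT.leaf (nat_lit 23334405))) (BT.node (nat_lit 5835520) (BT.leaf (nat_lit 33999121)) (BT.leaf (nat_lit 33081093)))))))) (BT.node (nat_lit 5837632) (BT.node (nat_lit 5836608) (BT.node (nat_lit 5836096) (BT.node (nat_lit 5835840) (BT.node (nat_lit 5835712) (BT.node (nat_lit 5835648) (BT.leaf (nat_lit 23653405)) (BT.leaf (nat_lit 33993477))) (BT.node (nat_lit 5835776) (BT.leaf (nat_lit 22639133)) (BT.leaf (nat_lit 33999633)))) (BT.node (nat_lit 5835968) (BT.node (nat_lit 5835904) (BT.leaf (nat_lit 23343129)) (BT.leaf (nat_lit 30048517))) (BT.node (nat_lit 5836032) (BT.leaf (nat_lit 34000925)) (BT.leaf (nat_lit 34001181))))) (BT.node (nat_lit 5836352) (BT.node (nat_lit 5836224) (BT.node (nat_lit 5836160) (BT.leaf (nat_lit 34002201)) (BT.leaf (nat_lit 21058325))) (BT.node (nat_lit 5836288) (BT.leaf (nat_lit 21058585)) (BT.leaf (nat_lit 21382937)))) (BT.node (nat_lit 5836480) (BT.node (nat_lit 5836416) (BT.leaf (nat_lit 21030661)) (BT.leaf (nat_lit 21275673))) (BT.node (nat_lit 5836544) (BT.leaf (nat_lit 20694813)) (BT.leaf (nat_lit 20694809)))))) (BT.node (nat_lit 5837120) (BT.node (nat_lit 5836864) (BT.node (nat_lit 5836736) (BT.node (nat_lit 5836672) (BT.leaf (nat_lit 23971609)) (BT.leaf (nat_lit 30056197))) (BT.node (nat_lit 5836800) (BT.leaf (nat_lit 27426593)) (BT.leaf (nat_lit 34005009)))) (BT.node (nat_lit 5836992) (BT.node (nat_lit 5836928) (BT.leaf (nat_lit 34005785)) (BT.leaf (nat_lit 28519697))) (BT.node (nat_lit 5837056) (BT.leaf (nat_lit 33415709)) (BT.leaf (nat_lit 34307105))))) (BT.node (nat_lit 5837376) (BT.node (nat_lit 5837248) (BT.node (nat_lit 5837184) (BT.leaf (nat_lit 21013013)) (BT.leaf (nat_lit 34007325))) (BT.node (nat_lit 5837312) (BT.leaf (nat_lit 23569949)) (BT.leaf (nat_lit 33083677)))) (BT.node (nat_lit 5837504) (BT.node (nat_lit 5837440) (BT.leaf (nat_lit 27497245)) (BT.leaf (nat_lit 21030929))) (BT.node (nat_lit 5837568) (BT.leaf (nat_lit 26034197)) (BT.leaf (nat_lit 34009617))))))) (BT.node (nat_lit 5838656) (BT.node (nat_lit 5838144) (BT.node (nat_lit 5837888) (BT.node (nat_lit 5837760) (BT.node (nat_lit 5837696) (BT.leaf (nat_lit 23350297)) (BT.leaf (nat_lit 51887125))) (BT.node (nat_lit 5837824) (BT.leaf (nat_lit 27534613)) (BT.leaf (nat_lit 24834073)))) (BT.node (nat_lit 5838016) (BT.node (nat_lit 5837952) (BT.leaf (nat_lit 24490017)) (BT.leaf (nat_lit 24620313))) (BT.node (nat_lit 5838080) (BT.leaf (nat_lit 27825681)) (BT.leaf (nat_lit 21031953))))) (BT.node (nat_lit 5838400) (BT.node (nat_lit 5838272) (BT.node (nat_lit 5838208) (BT.leaf (nat_lit 48150817)) (BT.leaf (nat_lit 36426253))) (BT.node (nat_lit 5838336) (BT.leaf (nat_lit 34013717)) (BT.leaf (nat_lit 27570697)))) (BT.node (nat_lit 5838528) (BT.node (nat_lit 5838464) (BT.leaf (nat_lit 20983833)) (BT.leaf (nat_lit 21070877))) (BT.node (nat_lit 5838592) (BT.leaf (nat_lit 23476501)) (BT.leaf (nat_lit 20983821)))))) (BT.node (nat_lit 5839168) (BT.node (nat_lit 5838912) (BT.node (nat_lit 5838784) (BT.node (nat_lit 5838720) (BT.leaf (nat_lit 22316821)) (BT.leaf (nat_lit 29570069))) (BT.node (nat_lit 5838848) (BT.leaf (nat_lit 34343693)) (BT.leaf (nat_lit 21033245)))) (BT.node (nat_lit 5839040) (BT.node (nat_lit 5838976) (BT.leaf (nat_lit 29217801)) (BT.leaf (nat_lit 25918221))) (BT.node (nat_lit 5839104) (BT.leaf (nat_lit 21432333)) (BT.leaf (nat_lit 26015265))))) (BT.node (nat_lit 5839424) (BT.node (nat_lit 5839296) (BT.node (nat_lit 5839232) (BT.leaf (nat_lit 21721117)) (BT.leaf (nat_lit 34016789))) (BT.node (nat_lit 5839360) (BT.leaf (nat_lit 51538457)) (BT.leaf (nat_lit 25408797)))) (BT.node (nat_lit 5839552) (BT.node (nat_lit 5839488) (BT.leaf (nat_lit 23856161)) (BT.leaf (nat_lit 25196577))) (BT.node (nat_lit 5839616) (BT.leaf (nat_lit 23794453)) (BT.leaf (nat_lit 27671329)))))))))))) (BT.node (nat_lit 5872448) (BT.node (nat_lit 5856064) (BT.node (nat_lit 5847872) (BT.node (nat_lit 5843776) (BT.node (nat_lit 5841728) (BT.node (nat_lit 5840704) (BT.node (nat_lit 5840192) (BT.node (nat_lit 5839936) (BT.node (nat_lit 5839808) (BT.node (nat_lit 5839744) (BT.leaf (nat_lit 27671073)) (BT.leaf (nat_lit 24516897))) (BT.node (nat_lit 5839872) (BT.leaf (nat_lit 23404549)) (BT.leaf (nat_lit 25444633)))) (BT.node (nat_lit 5840064) (BT.node (nat_lit 5840000) (BT.leaf (nat_lit 34019361)) (BT.leaf (nat_lit 23517717))) (BT.node (nat_lit 5840128) (BT.leaf (nat_lit 27284253)) (BT.leaf (nat_lit 26030101))))) (BT.node (nat_lit 5840448) (BT.node (nat_lit 5840320) (BT.node (nat_lit 5840256) (BT.leaf (nat_lit 26022177)) (BT.leaf (nat_lit 24447509))) (BT.node (nat_lit 5840384) (BT.leaf (nat_lit 29926929)) (BT.leaf (nat_lit 25446941)))) (BT.node (nat_lit 5840576) (BT.node (nat_lit 5840512) (BT.leaf (nat_lit 22510105)) (BT.leaf (nat_lit 22510109))) (BT.node (nat_lit 5840640) (BT.leaf (nat_lit 23515161)) (BT.leaf (nat_lit 47564813)))))) (BT.node (nat_lit 5841216) (BT.node (nat_lit 5840960) (BT.node (nat_lit 5840832) (BT.node (nat_lit 5840768) (BT.leaf (nat_lit 21176841)) (BT.leaf (nat_lit 34243589))) (BT.node (nat_lit 5840896) (BT.leaf (nat_lit 24469517)) (BT.leaf (nat_lit 27402781)))) (BT.node (nat_lit 5841088) (BT.node (nat_lit 5841024) (BT.leaf (nat_lit 23364125)) (BT.leaf (nat_lit 30802449))) (BT.node (nat_lit 5841152) (BT.leaf (nat_lit 22676497)) (BT.leaf (nat_lit 26004229))))) (BT.node (nat_lit 5841472) (BT.node (nat_lit 5841344) (BT.node (nat_lit 5841280) (BT.leaf (nat_lit 34024729)) (BT.leaf (nat_lit 46891025))) (BT.node (nat_lit 5841408) (BT.leaf (nat_lit 22339861)) (BT.leaf (nat_lit 24399385)))) (BT.node (nat_lit 5841600) (BT.node (nat_lit 5841536) (BT.leaf (nat_lit 21375005)) (BT.leaf (nat_lit 21037329))) (BT.node (nat_lit 5841664) (BT.leaf (nat_lit 21037073)) (BT.leaf (nat_lit 28256281))))))) (BT.node (nat_lit 5842752) (BT.node (nat_lit 5842240) (BT.node (nat_lit 5841984) (BT.node (nat_lit 5841856) (BT.node (nat_lit 5841792) (BT.leaf (nat_lit 22617889)) (BT.leaf (nat_lit 25578265))) (BT.node (nat_lit 5841920) (BT.leaf (nat_lit 21722649)) (BT.leaf (nat_lit 34026257)))) (BT.node (nat_lit 5842112) (BT.node (nat_lit 5842048) (BT.leaf (nat_lit 21266449)) (BT.leaf (nat_lit 33056277))) (BT.node (nat_lit 5842176) (BT.leaf (nat_lit 34027797)) (BT.leaf (nat_lit 22590237))))) (BT.node (nat_lit 5842496) (BT.node (nat_lit 5842368) (BT.node (nat_lit 5842304) (BT.leaf (nat_lit 26760217)) (BT.leaf (nat_lit 25804549))) (BT.node (nat_lit 5842432) (BT.leaf (nat_lit 30104333)) (BT.leaf (nat_lit 29768977)))) (BT.node (nat_lit 5842624) (BT.node (nat_lit 5842560) (BT.leaf (nat_lit 25646617)) (BT.leaf (nat_lit 23370525))) (BT.node (nat_lit 5842688) (BT.leaf (nat_lit 25840149)) (BT.leaf (nat_lit 27528469)))))) (BT.node (nat_lit 5843264) (BT.node (nat_lit 5843008) (BT.node (nat_lit 5842880) (BT.node (nat_lit 5842816) (BT.leaf (nat_lit 21040401)) (BT.leaf (nat_lit 37472265))) (BT.node (nat_lit 5842944) (BT.leaf (nat_lit 27733793)) (BT.leaf (nat_lit 21443609)))) (BT.node (nat_lit 5843136) (BT.node (nat_lit 5843072) (BT.leaf (nat_lit 23372305)) (BT.leaf (nat_lit 34473245))) (BT.node (nat_lit 5843200) (BT.leaf (nat_lit 30113309)) (BT.leaf (nat_lit 21040913))))) (BT.node (nat_lit 5843520) (BT.node (nat_lit 5843392) (BT.node (nat_lit 5843328) (BT.leaf (nat_lit 27351585)) (BT.leaf (nat_lit 27351329))) (BT.node (nat_lit 5843456) (BT.leaf (nat_lit 36871453)) (BT.leaf (nat_lit 50625569)))) (BT.node (nat_lit 5843648) (BT.node (nat_lit 5843584) (BT.leaf (nat_lit 34473229)) (BT.leaf (nat_lit 29257501))) (BT.node (nat_lit 5843712) (BT.leaf (nat_lit 22985489)) (BT.leaf (nat_lit 24102661)))))))) (BT.node (nat_lit 5845824) (BT.node (nat_lit 5844800) (BT.node (nat_lit 5844288) (BT.node (nat_lit 5844032) (BT.node (nat_lit 5843904) (BT.node (nat_lit 5843840) (BT.leaf (nat_lit 48059397)) (BT.leaf (nat_lit 22821393))) (BT.node (nat_lit 5843968) (BT.leaf (nat_lit 31305237)) (BT.leaf (nat_lit 24233493)))) (BT.node (nat_lit 5844160) (BT.node (nat_lit 5844096) (BT.leaf (nat_lit 21041433)) (BT.leaf (nat_lit 24104225))) (BT.node (nat_lit 5844224) (BT.leaf (nat_lit 21806609)) (BT.leaf (nat_lit 24622605))))) (BT.node (nat_lit 5844544) (BT.node (nat_lit 5844416) (BT.node (nat_lit 5844352) (BT.leaf (nat_lit 37517601)) (BT.leaf (nat_lit 24596997))) (BT.node (nat_lit 5844480) (BT.leaf (nat_lit 28551941)) (BT.leaf (nat_lit 23317005)))) (BT.node (nat_lit 5844672) (BT.node (nat_lit 5844608) (BT.leaf (nat_lit 24158469)) (BT.leaf (nat_lit 22730757))) (BT.node (nat_lit 5844736) (BT.leaf (nat_lit 22335253)) (BT.leaf (nat_lit 21407509)))))) (BT.node (nat_lit 5845312) (BT.node (nat_lit 5845056) (BT.node (nat_lit 5844928) (BT.node (nat_lit 5844864) (BT.leaf (nat_lit 29123601)) (BT.leaf (nat_lit 36340485))) (BT.node (nat_lit 5844992) (BT.leaf (nat_lit 28480285)) (BT.leaf (nat_lit 28480025)))) (BT.node (nat_lit 5845184) (BT.node (nat_lit 5845120) (BT.leaf (nat_lit 21996309)) (BT.leaf (nat_lit 26784021))) (BT.node (nat_lit 5845248) (BT.leaf (nat_lit 27497249)) (BT.leaf (nat_lit 34034973))))) (BT.node (nat_lit 5845568) (BT.node (nat_lit 5845440) (BT.node (nat_lit 5845376) (BT.leaf (nat_lit 34034957)) (BT.leaf (nat_lit 28025613))) (BT.node (nat_lit 5845504) (BT.leaf (nat_lit 28777249)) (BT.leaf (nat_lit 28315665)))) (BT.node (nat_lit 5845696) (BT.node (nat_lit 5845632) (BT.leaf (nat_lit 34037013)) (BT.leaf (nat_lit 25801749))) (BT.node (nat_lit 5845760) (BT.leaf (nat_lit 26055713)) (BT.leaf (nat_lit 23383325))))))) (BT.node (nat_lit 5846848) (BT.node (nat_lit 5846336) (BT.node (nat_lit 5846080) (BT.node (nat_lit 5845952) (BT.node (nat_lit 5845888) (BT.leaf (nat_lit 32454417)) (BT.leaf (nat_lit 23346449))) (BT.node (nat_lit 5846016) (BT.leaf (nat_lit 34038037)) (BT.leaf (nat_lit 21412641)))) (BT.node (nat_lit 5846208) (BT.node (nat_lit 5846144) (BT.leaf (nat_lit 21042201)) (BT.leaf (nat_lit 22597153))) (BT.node (nat_lit 5846272) (BT.leaf (nat_lit 20826909)) (BT.leaf (nat_lit 47582497))))) (BT.node (nat_lit 5846592) (BT.node (nat_lit 5846464) (BT.node (nat_lit 5846400) (BT.leaf (nat_lit 28892681)) (BT.leaf (nat_lit 20927253))) (BT.node (nat_lit 5846528) (BT.leaf (nat_lit 28892689)) (BT.leaf (nat_lit 36355349)))) (BT.node (nat_lit 5846720) (BT.node (nat_lit 5846656) (BT.leaf (nat_lit 23051285)) (BT.leaf (nat_lit 34039073))) (BT.node (nat_lit 5846784) (BT.leaf (nat_lit 28898081)) (BT.leaf (nat_lit 34039573)))))) (BT.node (nat_lit 5847360) (BT.node (nat_lit 5847104) (BT.node (nat_lit 5846976) (BT.node (nat_lit 5846912) (BT.leaf (nat_lit 23933217)) (BT.leaf (nat_lit 23933445))) (BT.node (nat_lit 5847040) (BT.leaf (nat_lit 30104337)) (BT.leaf (nat_lit 25882885)))) (BT.node (nat_lit 5847232) (BT.node (nat_lit 5847168) (BT.leaf (nat_lit 34041365)) (BT.leaf (nat_lit 22982173))) (BT.node (nat_lit 5847296) (BT.leaf (nat_lit 21116177)) (BT.leaf (nat_lit 25979917))))) (BT.node (nat_lit 5847616) (BT.node (nat_lit 5847488) (BT.node (nat_lit 5847424) (BT.leaf (nat_lit 22408981)) (BT.leaf (nat_lit 29497865))) (BT.node (nat_lit 5847552) (BT.leaf (nat_lit 23618585)) (BT.leaf (nat_lit 21397269)))) (BT.node (nat_lit 5847744) (BT.node (nat_lit 5847680) (BT.leaf (nat_lit 23120153)) (BT.leaf (nat_lit 24705313))) (BT.node (nat_lit 5847808) (BT.leaf (nat_lit 23120157)) (BT.leaf (nat_lit 50546193))))))))) (BT.node (nat_lit 5851968) (BT.node (nat_lit 5849920) (BT.node (nat_lit 5848896) (BT.node (nat_lit 5848384) (BT.node (nat_lit 5848128) (BT.node (nat_lit 5848000) (BT.node (nat_lit 5847936) (BT.leaf (nat_lit 25087773)) (BT.leaf (nat_lit 23395349))) (BT.node (nat_lit 5848064) (BT.leaf (nat_lit 24286497)) (BT.leaf (nat_lit 25314577)))) (BT.node (nat_lit 5848256) (BT.node (nat_lit 5848192) (BT.leaf (nat_lit 22369313)) (BT.leaf (nat_lit 47736837))) (BT.node (nat_lit 5848320) (BT.leaf (nat_lit 25460485)) (BT.leaf (nat_lit 24066057))))) (BT.node (nat_lit 5848640) (BT.node (nat_lit 5848512) (BT.node (nat_lit 5848448) (BT.leaf (nat_lit 21375513)) (BT.leaf (nat_lit 30155541))) (BT.node (nat_lit 5848576) (BT.leaf (nat_lit 27712785)) (BT.leaf (nat_lit 22472977)))) (BT.node (nat_lit 5848768) (BT.node (nat_lit 5848704) (BT.leaf (nat_lit 21130765)) (BT.leaf (nat_lit 24472837))) (BT.node (nat_lit 5848832) (BT.leaf (nat_lit 27327253)) (BT.leaf (nat_lit 30154273)))))) (BT.node (nat_lit 5849408) (BT.node (nat_lit 5849152) (BT.node (nat_lit 5849024) (BT.node (nat_lit 5848960) (BT.leaf (nat_lit 25448465)) (BT.leaf (nat_lit 27655189))) (BT.node (nat_lit 5849088) (BT.leaf (nat_lit 34048021)) (BT.leaf (nat_lit 28207649)))) (BT.node (nat_lit 5849280) (BT.node (nat_lit 5849216) (BT.leaf (nat_lit 51356961)) (BT.leaf (nat_lit 25400081))) (BT.node (nat_lit 5849344) (BT.leaf (nat_lit 21047061)) (BT.leaf (nat_lit 22819353))))) (BT.node (nat_lit 5849664) (BT.node (nat_lit 5849536) (BT.node (nat_lit 5849472) (BT.leaf (nat_lit 27499525)) (BT.leaf (nat_lit 21046293))) (BT.node (nat_lit 5849600) (BT.leaf (nat_lit 21699337)) (BT.leaf (nat_lit 21928725)))) (BT.node (nat_lit 5849792) (BT.node (nat_lit 5849728) (BT.leaf (nat_lit 21699353)) (BT.leaf (nat_lit 21699341))) (BT.node (nat_lit 5849856) (BT.leaf (nat_lit 28606725)) (BT.leaf (nat_lit 21046289))))))) (BT.node (nat_lit 5850944) (BT.node (nat_lit 5850432) (BT.node (nat_lit 5850176) (BT.node (nat_lit 5850048) (BT.node (nat_lit 5849984) (BT.leaf (nat_lit 28707353)) (BT.leaf (nat_lit 21046553))) (BT.node (nat_lit 5850112) (BT.leaf (nat_lit 21046809)) (BT.leaf (nat_lit 34052117)))) (BT.node (nat_lit 5850304) (BT.node (nat_lit 5850240) (BT.leaf (nat_lit 31847193)) (BT.leaf (nat_lit 21046557))) (BT.node (nat_lit 5850368) (BT.leaf (nat_lit 21046813)) (BT.leaf (nat_lit 24102177))))) (BT.node (nat_lit 5850688) (BT.node (nat_lit 5850560) (BT.node (nat_lit 5850496) (BT.leaf (nat_lit 52306693)) (BT.leaf (nat_lit 30718737))) (BT.node (nat_lit 5850624) (BT.leaf (nat_lit 24282381)) (BT.leaf (nat_lit 50696225)))) (BT.node (nat_lit 5850816) (BT.node (nat_lit 5850752) (BT.leaf (nat_lit 23657493)) (BT.leaf (nat_lit 34054433))) (BT.node (nat_lit 5850880) (BT.leaf (nat_lit 22554385)) (BT.leaf (nat_lit 29003541)))))) (BT.node (nat_lit 5851456) (BT.node (nat_lit 5851200) (BT.node (nat_lit 5851072) (BT.node (nat_lit 5851008) (BT.leaf (nat_lit 34010913)) (BT.leaf (nat_lit 23358725))) (BT.node (nat_lit 5851136) (BT.leaf (nat_lit 28363017)) (BT.leaf (nat_lit 23678489)))) (BT.node (nat_lit 5851328) (BT.node (nat_lit 5851264) (BT.leaf (nat_lit 34055705)) (BT.leaf (nat_lit 24118049))) (BT.node (nat_lit 5851392) (BT.leaf (nat_lit 34055953)) (BT.leaf (nat_lit 24002313))))) (BT.node (nat_lit 5851712) (BT.node (nat_lit 5851584) (BT.node (nat_lit 5851520) (BT.leaf (nat_lit 34056721)) (BT.leaf (nat_lit 27436041))) (BT.node (nat_lit 5851648) (BT.leaf (nat_lit 47282181)) (BT.leaf (nat_lit 30186249)))) (BT.node (nat_lit 5851840) (BT.node (nat_lit 5851776) (BT.leaf (nat_lit 25342737)) (BT.leaf (nat_lit 34909957))) (BT.node (nat_lit 5851904) (BT.leaf (nat_lit 30013969)) (BT.leaf (nat_lit 30013985)))))))) (BT.node (nat_lit 5854016) (BT.node (nat_lit 5852992) (BT.node (nat_lit 5852480) (BT.node (nat_lit 5852224) (BT.node (nat_lit 5852096) (BT.node (nat_lit 5852032) (BT.leaf (nat_lit 25496069)) (BT.leaf (nat_lit 24799245))) (BT.node (nat_lit 5852160) (BT.leaf (nat_lit 34058773)) (BT.leaf (nat_lit 34059537)))) (BT.node (nat_lit 5852352) (BT.node (nat_lit 5852288) (BT.leaf (nat_lit 34060053)) (BT.leaf (nat_lit 34059793))) (BT.node (nat_lit 5852416) (BT.leaf (nat_lit 20848409)) (BT.leaf (nat_lit 21047065))))) (BT.node (nat_lit 5852736) (BT.node (nat_lit 5852608) (BT.node (nat_lit 5852544) (BT.leaf (nat_lit 21047581)) (BT.leaf (nat_lit 21047577))) (BT.node (nat_lit 5852672) (BT.leaf (nat_lit 34060561)) (BT.leaf (nat_lit 51316745)))) (BT.node (nat_lit 5852864) (BT.node (nat_lit 5852800) (BT.leaf (nat_lit 23241249)) (BT.leaf (nat_lit 23503893))) (BT.node (nat_lit 5852928) (BT.leaf (nat_lit 30199313)) (BT.leaf (nat_lit 27496977)))))) (BT.node (nat_lit 5853504) (BT.node (nat_lit 5853248) (BT.node (nat_lit 5853120) (BT.node (nat_lit 5853056) (BT.leaf (nat_lit 23412253)) (BT.leaf (nat_lit 30558993))) (BT.node (nat_lit 5853184) (BT.leaf (nat_lit 22558217)) (BT.leaf (nat_lit 33161745)))) (BT.node (nat_lit 5853376) (BT.node (nat_lit 5853312) (BT.leaf (nat_lit 26397725)) (BT.leaf (nat_lit 50416673))) (BT.node (nat_lit 5853440) (BT.leaf (nat_lit 24090629)) (BT.leaf (nat_lit 48316685))))) (BT.node (nat_lit 5853760) (BT.node (nat_lit 5853632) (BT.node (nat_lit 5853568) (BT.leaf (nat_lit 29792021)) (BT.leaf (nat_lit 23340305))) (BT.node (nat_lit 5853696) (BT.leaf (nat_lit 27539973)) (BT.leaf (nat_lit 34064925)))) (BT.node (nat_lit 5853888) (BT.node (nat_lit 5853824) (BT.leaf (nat_lit 27590405)) (BT.leaf (nat_lit 27982869))) (BT.node (nat_lit 5853952) (BT.leaf (nat_lit 30152213)) (BT.leaf (nat_lit 21131293))))))) (BT.node (nat_lit 5855040) (BT.node (nat_lit 5854528) (BT.node (nat_lit 5854272) (BT.node (nat_lit 5854144) (BT.node (nat_lit 5854080) (BT.leaf (nat_lit 21131273)) (BT.leaf (nat_lit 21049633))) (BT.node (nat_lit 5854208) (BT.leaf (nat_lit 24605717)) (BT.leaf (nat_lit 31676705)))) (BT.node (nat_lit 5854400) (BT.node (nat_lit 5854336) (BT.leaf (nat_lit 30210309)) (BT.leaf (nat_lit 29413129))) (BT.node (nat_lit 5854464) (BT.leaf (nat_lit 34065937)) (BT.leaf (nat_lit 23417625))))) (BT.node (nat_lit 5854784) (BT.node (nat_lit 5854656) (BT.node (nat_lit 5854592) (BT.leaf (nat_lit 24513825)) (BT.leaf (nat_lit 23342869))) (BT.node (nat_lit 5854720) (BT.leaf (nat_lit 34066961)) (BT.leaf (nat_lit 34067729)))) (BT.node (nat_lit 5854912) (BT.node (nat_lit 5854848) (BT.leaf (nat_lit 23886109)) (BT.leaf (nat_lit 33595153))) (BT.node (nat_lit 5854976) (BT.leaf (nat_lit 34068753)) (BT.leaf (nat_lit 26467089)))))) (BT.node (nat_lit 5855552) (BT.node (nat_lit 5855296) (BT.node (nat_lit 5855168) (BT.node (nat_lit 5855104) (BT.leaf (nat_lit 22457353)) (BT.leaf (nat_lit 34069265))) (BT.node (nat_lit 5855232) (BT.leaf (nat_lit 32034069)) (BT.leaf (nat_lit 33539845)))) (BT.node (nat_lit 5855424) (BT.node (nat_lit 5855360) (BT.leaf (nat_lit 24151073)) (BT.leaf (nat_lit 25908513))) (BT.node (nat_lit 5855488) (BT.leaf (nat_lit 25908257)) (BT.leaf (nat_lit 34071329))))) (BT.node (nat_lit 5855808) (BT.node (nat_lit 5855680) (BT.node (nat_lit 5855616) (BT.leaf (nat_lit 22457369)) (BT.leaf (nat_lit 22457373))) (BT.node (nat_lit 5855744) (BT.leaf (nat_lit 27370269)) (BT.leaf (nat_lit 34071829)))) (BT.node (nat_lit 5855936) (BT.node (nat_lit 5855872) (BT.leaf (nat_lit 23340309)) (BT.leaf (nat_lit 34072085))) (BT.node (nat_lit 5856000) (BT.leaf (nat_lit 34072593)) (BT.leaf (nat_lit 27552005)))))))))) (BT.node (nat_lit 5864256) (BT.node (nat_lit 5860160) (BT.node (nat_lit 5858112) (BT.node (nat_lit 5857088) (BT.node (nat_lit 5856576) (BT.node (nat_lit 5856320) (BT.node (nat_lit 5856192) (BT.node (nat_lit 5856128) (BT.leaf (nat_lit 34069529)) (BT.leaf (nat_lit 34073613))) (BT.node (nat_lit 5856256) (BT.leaf (nat_lit 34074645)) (BT.leaf (nat_lit 23340821)))) (BT.node (nat_lit 5856448) (BT.node (nat_lit 5856384) (BT.leaf (nat_lit 34074893)) (BT.leaf (nat_lit 34075665))) (BT.node (nat_lit 5856512) (BT.leaf (nat_lit 33569049)) (BT.leaf (nat_lit 29481993))))) (BT.node (nat_lit 5856832) (BT.node (nat_lit 5856704) (BT.node (nat_lit 5856640) (BT.leaf (nat_lit 21132825)) (BT.leaf (nat_lit 22600477))) (BT.node (nat_lit 5856768) (BT.leaf (nat_lit 51952905)) (BT.leaf (nat_lit 29964057)))) (BT.node (nat_lit 5856960) (BT.node (nat_lit 5856896) (BT.leaf (nat_lit 29791249)) (BT.leaf (nat_lit 30247941))) (BT.node (nat_lit 5857024) (BT.leaf (nat_lit 20764697)) (BT.leaf (nat_lit 34078229)))))) (BT.node (nat_lit 5857600) (BT.node (nat_lit 5857344) (BT.node (nat_lit 5857216) (BT.node (nat_lit 5857152) (BT.leaf (nat_lit 26900001)) (BT.leaf (nat_lit 21214217))) (BT.node (nat_lit 5857280) (BT.leaf (nat_lit 28541453)) (BT.leaf (nat_lit 24350737)))) (BT.node (nat_lit 5857472) (BT.node (nat_lit 5857408) (BT.leaf (nat_lit 28593169)) (BT.leaf (nat_lit 51964689))) (BT.node (nat_lit 5857536) (BT.leaf (nat_lit 33119237)) (BT.leaf (nat_lit 28700173))))) (BT.node (nat_lit 5857856) (BT.node (nat_lit 5857728) (BT.node (nat_lit 5857664) (BT.leaf (nat_lit 28701453)) (BT.leaf (nat_lit 28797193))) (BT.node (nat_lit 5857792) (BT.leaf (nat_lit 22782473)) (BT.leaf (nat_lit 23645449)))) (BT.node (nat_lit 5857984) (BT.node (nat_lit 5857920) (BT.leaf (nat_lit 23435297)) (BT.leaf (nat_lit 47225865))) (BT.node (nat_lit 5858048) (BT.leaf (nat_lit 22425633)) (BT.leaf (nat_lit 23000605))))))) (BT.node (nat_lit 5859136) (BT.node (nat_lit 5858624) (BT.node (nat_lit 5858368) (BT.node (nat_lit 5858240) (BT.node (nat_lit 5858176) (BT.leaf (nat_lit 24196641)) (BT.leaf (nat_lit 50103841))) (BT.node (nat_lit 5858304) (BT.leaf (nat_lit 50622213)) (BT.leaf (nat_lit 22573077)))) (BT.node (nat_lit 5858496) (BT.node (nat_lit 5858432) (BT.leaf (nat_lit 22774561)) (BT.leaf (nat_lit 22573085))) (BT.node (nat_lit 5858560) (BT.leaf (nat_lit 48541973)) (BT.leaf (nat_lit 31193353))))) (BT.node (nat_lit 5858880) (BT.node (nat_lit 5858752) (BT.node (nat_lit 5858688) (BT.leaf (nat_lit 33601309)) (BT.leaf (nat_lit 30811157))) (BT.node (nat_lit 5858816) (BT.leaf (nat_lit 24478493)) (BT.leaf (nat_lit 35374105)))) (BT.node (nat_lit 5859008) (BT.node (nat_lit 5858944) (BT.leaf (nat_lit 50404125)) (BT.leaf (nat_lit 25631757))) (BT.node (nat_lit 5859072) (BT.leaf (nat_lit 28551957)) (BT.leaf (nat_lit 23831569)))))) (BT.node (nat_lit 5859648) (BT.node (nat_lit 5859392) (BT.node (nat_lit 5859264) (BT.node (nat_lit 5859200) (BT.leaf (nat_lit 25248013)) (BT.leaf (nat_lit 34082069))) (BT.node (nat_lit 5859328) (BT.leaf (nat_lit 29658909)) (BT.leaf (nat_lit 34082309)))) (BT.node (nat_lit 5859520) (BT.node (nat_lit 5859456) (BT.leaf (nat_lit 21054225)) (BT.leaf (nat_lit 22398737))) (BT.node (nat_lit 5859584) (BT.leaf (nat_lit 28150817)) (BT.leaf (nat_lit 27814929))))) (BT.node (nat_lit 5859904) (BT.node (nat_lit 5859776) (BT.node (nat_lit 5859712) (BT.leaf (nat_lit 27814933)) (BT.leaf (nat_lit 28017953))) (BT.node (nat_lit 5859840) (BT.leaf (nat_lit 36219413)) (BT.leaf (nat_lit 21288977)))) (BT.node (nat_lit 5860032) (BT.node (nat_lit 5859968) (BT.leaf (nat_lit 25718545)) (BT.leaf (nat_lit 30268701))) (BT.node (nat_lit 5860096) (BT.leaf (nat_lit 22649361)) (BT.leaf (nat_lit 34083601)))))))) (BT.node (nat_lit 5862208) (BT.node (nat_lit 5861184) (BT.node (nat_lit 5860672) (BT.node (nat_lit 5860416) (BT.node (nat_lit 5860288) (BT.node (nat_lit 5860224) (BT.leaf (nat_lit 23326485)) (BT.leaf (nat_lit 23326489))) (BT.node (nat_lit 5860352) (BT.leaf (nat_lit 23326493)) (BT.leaf (nat_lit 21745429)))) (BT.node (nat_lit 5860544) (BT.node (nat_lit 5860480) (BT.leaf (nat_lit 22639885)) (BT.leaf (nat_lit 25412373))) (BT.node (nat_lit 5860608) (BT.leaf (nat_lit 24288021)) (BT.leaf (nat_lit 21056793))))) (BT.node (nat_lit 5860928) (BT.node (nat_lit 5860800) (BT.node (nat_lit 5860736) (BT.leaf (nat_lit 21745181)) (BT.leaf (nat_lit 27820301))) (BT.node (nat_lit 5860864) (BT.leaf (nat_lit 28579333)) (BT.leaf (nat_lit 22913057)))) (BT.node (nat_lit 5861056) (BT.node (nat_lit 5860992) (BT.leaf (nat_lit 35042073)) (BT.leaf (nat_lit 36403225))) (BT.node (nat_lit 5861120) (BT.leaf (nat_lit 47038489)) (BT.leaf (nat_lit 24125209)))))) (BT.node (nat_lit 5861696) (BT.node (nat_lit 5861440) (BT.node (nat_lit 5861312) (BT.node (nat_lit 5861248) (BT.leaf (nat_lit 25600773)) (BT.leaf (nat_lit 22564637))) (BT.node (nat_lit 5861376) (BT.leaf (nat_lit 25519897)) (BT.leaf (nat_lit 23325973)))) (BT.node (nat_lit 5861568) (BT.node (nat_lit 5861504) (BT.leaf (nat_lit 25411853)) (BT.leaf (nat_lit 23871009))) (BT.node (nat_lit 5861632) (BT.leaf (nat_lit 23665429)) (BT.leaf (nat_lit 24716565))))) (BT.node (nat_lit 5861952) (BT.node (nat_lit 5861824) (BT.node (nat_lit 5861760) (BT.leaf (nat_lit 23441433)) (BT.leaf (nat_lit 24561953))) (BT.node (nat_lit 5861888) (BT.leaf (nat_lit 21745437)) (BT.leaf (nat_lit 23757077)))) (BT.node (nat_lit 5862080) (BT.node (nat_lit 5862016) (BT.leaf (nat_lit 34089233)) (BT.leaf (nat_lit 21745941))) (BT.node (nat_lit 5862144) (BT.leaf (nat_lit 29210645)) (BT.leaf (nat_lit 34085145))))))) (BT.node (nat_lit 5863232) (BT.node (nat_lit 5862720) (BT.node (nat_lit 5862464) (BT.node (nat_lit 5862336) (BT.node (nat_lit 5862272) (BT.leaf (nat_lit 24712965)) (BT.leaf (nat_lit 46350881))) (BT.node (nat_lit 5862400) (BT.leaf (nat_lit 27569157)) (BT.leaf (nat_lit 34091793)))) (BT.node (nat_lit 5862592) (BT.node (nat_lit 5862528) (BT.leaf (nat_lit 34092317)) (BT.leaf (nat_lit 34093081))) (BT.node (nat_lit 5862656) (BT.leaf (nat_lit 21844505)) (BT.leaf (nat_lit 21058333))))) (BT.node (nat_lit 5862976) (BT.node (nat_lit 5862848) (BT.node (nat_lit 5862784) (BT.leaf (nat_lit 21058589)) (BT.leaf (nat_lit 21203717))) (BT.node (nat_lit 5862912) (BT.leaf (nat_lit 21059089)) (BT.leaf (nat_lit 21058833)))) (BT.node (nat_lit 5863104) (BT.node (nat_lit 5863040) (BT.leaf (nat_lit 21203737)) (BT.leaf (nat_lit 21058581))) (BT.node (nat_lit 5863168) (BT.leaf (nat_lit 29871889)) (BT.leaf (nat_lit 20841245)))))) (BT.node (nat_lit 5863744) (BT.node (nat_lit 5863488) (BT.node (nat_lit 5863360) (BT.node (nat_lit 5863296) (BT.leaf (nat_lit 21060113)) (BT.leaf (nat_lit 21060117))) (BT.node (nat_lit 5863424) (BT.leaf (nat_lit 34096149)) (BT.leaf (nat_lit 21060625)))) (BT.node (nat_lit 5863616) (BT.node (nat_lit 5863552) (BT.leaf (nat_lit 26782217)) (BT.leaf (nat_lit 49939717))) (BT.node (nat_lit 5863680) (BT.leaf (nat_lit 21061393)) (BT.leaf (nat_lit 34491653))))) (BT.node (nat_lit 5864000) (BT.node (nat_lit 5863872) (BT.node (nat_lit 5863808) (BT.leaf (nat_lit 25014553)) (BT.leaf (nat_lit 21222677))) (BT.node (nat_lit 5863936) (BT.leaf (nat_lit 26036489)) (BT.leaf (nat_lit 24810249)))) (BT.node (nat_lit 5864128) (BT.node (nat_lit 5864064) (BT.leaf (nat_lit 24810257)) (BT.leaf (nat_lit 22343193))) (BT.node (nat_lit 5864192) (BT.leaf (nat_lit 22343197)) (BT.leaf (nat_lit 23831821))))))))) (BT.node (nat_lit 5868352) (BT.node (nat_lit 5866304) (BT.node (nat_lit 5865280) (BT.node (nat_lit 5864768) (BT.node (nat_lit 5864512) (BT.node (nat_lit 5864384) (BT.node (nat_lit 5864320) (BT.leaf (nat_lit 24114201)) (BT.leaf (nat_lit 24114205))) (BT.node (nat_lit 5864448) (BT.leaf (nat_lit 24292121)) (BT.leaf (nat_lit 21177621)))) (BT.node (nat_lit 5864640) (BT.node (nat_lit 5864576) (BT.leaf (nat_lit 21378321)) (BT.leaf (nat_lit 22360849))) (BT.node (nat_lit 5864704) (BT.leaf (nat_lit 22360853)) (BT.leaf (nat_lit 27488789))))) (BT.node (nat_lit 5865024) (BT.node (nat_lit 5864896) (BT.node (nat_lit 5864832) (BT.leaf (nat_lit 21378069)) (BT.leaf (nat_lit 21135385))) (BT.node (nat_lit 5864960) (BT.leaf (nat_lit 28450837)) (BT.leaf (nat_lit 21063185)))) (BT.node (nat_lit 5865152) (BT.node (nat_lit 5865088) (BT.leaf (nat_lit 25575457)) (BT.leaf (nat_lit 23929361))) (BT.node (nat_lit 5865216) (BT.leaf (nat_lit 34101281)) (BT.leaf (nat_lit 34101525)))))) (BT.node (nat_lit 5865792) (BT.node (nat_lit 5865536) (BT.node (nat_lit 5865408) (BT.node (nat_lit 5865344) (BT.leaf (nat_lit 22773281)) (BT.leaf (nat_lit 35042069))) (BT.node (nat_lit 5865472) (BT.leaf (nat_lit 26341397)) (BT.leaf (nat_lit 23461657)))) (BT.node (nat_lit 5865664) (BT.node (nat_lit 5865600) (BT.leaf (nat_lit 28120337)) (BT.leaf (nat_lit 21444641))) (BT.node (nat_lit 5865728) (BT.leaf (nat_lit 22512393)) (BT.leaf (nat_lit 34343689))))) (BT.node (nat_lit 5866048) (BT.node (nat_lit 5865920) (BT.node (nat_lit 5865856) (BT.leaf (nat_lit 36824589)) (BT.leaf (nat_lit 34103833))) (BT.node (nat_lit 5865984) (BT.leaf (nat_lit 50667013)) (BT.leaf (nat_lit 23807749)))) (BT.node (nat_lit 5866176) (BT.node (nat_lit 5866112) (BT.leaf (nat_lit 22563589)) (BT.leaf (nat_lit 22563605))) (BT.node (nat_lit 5866240) (BT.leaf (nat_lit 34990353)) (BT.leaf (nat_lit 21064465))))))) (BT.node (nat_lit 5867328) (BT.node (nat_lit 5866816) (BT.node (nat_lit 5866560) (BT.node (nat_lit 5866432) (BT.node (nat_lit 5866368) (BT.leaf (nat_lit 22665741)) (BT.leaf (nat_lit 33530629))) (BT.node (nat_lit 5866496) (BT.leaf (nat_lit 37096453)) (BT.leaf (nat_lit 21063441)))) (BT.node (nat_lit 5866688) (BT.node (nat_lit 5866624) (BT.leaf (nat_lit 21064721)) (BT.leaf (nat_lit 33551649))) (BT.node (nat_lit 5866752) (BT.leaf (nat_lit 26737157)) (BT.leaf (nat_lit 25882913))))) (BT.node (nat_lit 5867072) (BT.node (nat_lit 5866944) (BT.node (nat_lit 5866880) (BT.leaf (nat_lit 22751517)) (BT.leaf (nat_lit 25918229))) (BT.node (nat_lit 5867008) (BT.leaf (nat_lit 25918241)) (BT.leaf (nat_lit 50154525)))) (BT.node (nat_lit 5867200) (BT.node (nat_lit 5867136) (BT.leaf (nat_lit 21038877)) (BT.leaf (nat_lit 47339797))) (BT.node (nat_lit 5867264) (BT.leaf (nat_lit 21380629)) (BT.leaf (nat_lit 36646945)))))) (BT.node (nat_lit 5867840) (BT.node (nat_lit 5867584) (BT.node (nat_lit 5867456) (BT.node (nat_lit 5867392) (BT.leaf (nat_lit 21067537)) (BT.leaf (nat_lit 23072785))) (BT.node (nat_lit 5867520) (BT.leaf (nat_lit 27312657)) (BT.leaf (nat_lit 34110237)))) (BT.node (nat_lit 5867712) (BT.node (nat_lit 5867648) (BT.leaf (nat_lit 34110737)) (BT.leaf (nat_lit 34110997))) (BT.node (nat_lit 5867776) (BT.leaf (nat_lit 35767841)) (BT.leaf (nat_lit 34111765))))) (BT.node (nat_lit 5868096) (BT.node (nat_lit 5867968) (BT.node (nat_lit 5867904) (BT.leaf (nat_lit 50175749)) (BT.leaf (nat_lit 34012949))) (BT.node (nat_lit 5868032) (BT.leaf (nat_lit 34112269)) (BT.leaf (nat_lit 29672197)))) (BT.node (nat_lit 5868224) (BT.node (nat_lit 5868160) (BT.leaf (nat_lit 24458781)) (BT.leaf (nat_lit 20874009))) (BT.node (nat_lit 5868288) (BT.leaf (nat_lit 33634845)) (BT.leaf (nat_lit 33411613)))))))) (BT.node (nat_lit 5870400) (BT.node (nat_lit 5869376) (BT.node (nat_lit 5868864) (BT.node (nat_lit 5868608) (BT.node (nat_lit 5868480) (BT.node (nat_lit 5868416) (BT.leaf (nat_lit 22940697)) (BT.leaf (nat_lit 22940701))) (BT.node (nat_lit 5868544) (BT.leaf (nat_lit 21711641)) (BT.leaf (nat_lit 33640477)))) (BT.node (nat_lit 5868736) (BT.node (nat_lit 5868672) (BT.leaf (nat_lit 47267857)) (BT.leaf (nat_lit 29125661))) (BT.node (nat_lit 5868800) (BT.leaf (nat_lit 33381149)) (BT.leaf (nat_lit 34115105))))) (BT.node (nat_lit 5869120) (BT.node (nat_lit 5868992) (BT.node (nat_lit 5868928) (BT.leaf (nat_lit 22850833)) (BT.leaf (nat_lit 50175501))) (BT.node (nat_lit 5869056) (BT.leaf (nat_lit 34208277)) (BT.leaf (nat_lit 28214301)))) (BT.node (nat_lit 5869248) (BT.node (nat_lit 5869184) (BT.leaf (nat_lit 25760781)) (BT.leaf (nat_lit 33426461))) (BT.node (nat_lit 5869312) (BT.leaf (nat_lit 25760793)) (BT.leaf (nat_lit 23222305)))))) (BT.node (nat_lit 5869888) (BT.node (nat_lit 5869632) (BT.node (nat_lit 5869504) (BT.node (nat_lit 5869440) (BT.leaf (nat_lit 25670661)) (BT.leaf (nat_lit 21616413))) (BT.node (nat_lit 5869568) (BT.leaf (nat_lit 24284169)) (BT.leaf (nat_lit 24122653)))) (BT.node (nat_lit 5869760) (BT.node (nat_lit 5869696) (BT.leaf (nat_lit 21713429)) (BT.leaf (nat_lit 23478537))) (BT.node (nat_lit 5869824) (BT.leaf (nat_lit 21713181)) (BT.leaf (nat_lit 24289305))))) (BT.node (nat_lit 5870144) (BT.node (nat_lit 5870016) (BT.node (nat_lit 5869952) (BT.leaf (nat_lit 21074197)) (BT.leaf (nat_lit 28723205))) (BT.node (nat_lit 5870080) (BT.leaf (nat_lit 34118161)) (BT.leaf (nat_lit 21382941)))) (BT.node (nat_lit 5870272) (BT.node (nat_lit 5870208) (BT.leaf (nat_lit 49334533)) (BT.leaf (nat_lit 25414169))) (BT.node (nat_lit 5870336) (BT.leaf (nat_lit 21067281)) (BT.leaf (nat_lit 27979809))))))) (BT.node (nat_lit 5871424) (BT.node (nat_lit 5870912) (BT.node (nat_lit 5870656) (BT.node (nat_lit 5870528) (BT.node (nat_lit 5870464) (BT.leaf (nat_lit 29019141)) (BT.leaf (nat_lit 27980321))) (BT.node (nat_lit 5870592) (BT.leaf (nat_lit 22868757)) (BT.leaf (nat_lit 28439813)))) (BT.node (nat_lit 5870784) (BT.node (nat_lit 5870720) (BT.leaf (nat_lit 23482393)) (BT.leaf (nat_lit 24322589))) (BT.node (nat_lit 5870848) (BT.leaf (nat_lit 34120989)) (BT.leaf (nat_lit 22793493))))) (BT.node (nat_lit 5871168) (BT.node (nat_lit 5871040) (BT.node (nat_lit 5870976) (BT.leaf (nat_lit 28728593)) (BT.leaf (nat_lit 23483673))) (BT.node (nat_lit 5871104) (BT.leaf (nat_lit 28448017)) (BT.leaf (nat_lit 23484185)))) (BT.node (nat_lit 5871296) (BT.node (nat_lit 5871232) (BT.leaf (nat_lit 22791953)) (BT.leaf (nat_lit 22791957))) (BT.node (nat_lit 5871360) (BT.leaf (nat_lit 49648925)) (BT.leaf (nat_lit 23478553)))))) (BT.node (nat_lit 5871936) (BT.node (nat_lit 5871680) (BT.node (nat_lit 5871552) (BT.node (nat_lit 5871488) (BT.leaf (nat_lit 21714197)) (BT.leaf (nat_lit 34123541))) (BT.node (nat_lit 5871616) (BT.leaf (nat_lit 34123793)) (BT.leaf (nat_lit 21713941)))) (BT.node (nat_lit 5871808) (BT.node (nat_lit 5871744) (BT.leaf (nat_lit 27944461)) (BT.leaf (nat_lit 50343949))) (BT.node (nat_lit 5871872) (BT.leaf (nat_lit 28374033)) (BT.leaf (nat_lit 23895825))))) (BT.node (nat_lit 5872192) (BT.node (nat_lit 5872064) (BT.node (nat_lit 5872000) (BT.leaf (nat_lit 23897629)) (BT.leaf (nat_lit 34125593))) (BT.node (nat_lit 5872128) (BT.leaf (nat_lit 29108749)) (BT.leaf (nat_lit 24612357)))) (BT.node (nat_lit 5872320) (BT.node (nat_lit 5872256) (BT.leaf (nat_lit 21818901)) (BT.leaf (nat_lit 24605461))) (BT.node (nat_lit 5872384) (BT.leaf (nat_lit 34127645)) (BT.leaf (nat_lit 21073681))))))))))) (BT.node (nat_lit 5888832) (BT.node (nat_lit 5880640) (BT.node (nat_lit 5876544) (BT.node (nat_lit 5874496) (BT.node (nat_lit 5873472) (BT.node (nat_lit 5872960) (BT.node (nat_lit 5872704) (BT.node (nat_lit 5872576) (BT.node (nat_lit 5872512) (BT.leaf (nat_lit 21818905)) (BT.leaf (nat_lit 33287713))) (BT.node (nat_lit 5872640) (BT.leaf (nat_lit 27806497)) (BT.leaf (nat_lit 21806601)))) (BT.node (nat_lit 5872832) (BT.node (nat_lit 5872768) (BT.leaf (nat_lit 34129437)) (BT.leaf (nat_lit 46792965))) (BT.node (nat_lit 5872896) (BT.leaf (nat_lit 21073945)) (BT.leaf (nat_lit 46792973))))) (BT.node (nat_lit 5873216) (BT.node (nat_lit 5873088) (BT.node (nat_lit 5873024) (BT.leaf (nat_lit 46792993)) (BT.leaf (nat_lit 21073949))) (BT.node (nat_lit 5873152) (BT.leaf (nat_lit 21074457)) (BT.leaf (nat_lit 21237273)))) (BT.node (nat_lit 5873344) (BT.node (nat_lit 5873280) (BT.leaf (nat_lit 21076241)) (BT.leaf (nat_lit 34130453))) (BT.node (nat_lit 5873408) (BT.leaf (nat_lit 34130713)) (BT.leaf (nat_lit 22590233)))))) (BT.node (nat_lit 5873984) (BT.node (nat_lit 5873728) (BT.node (nat_lit 5873600) (BT.node (nat_lit 5873536) (BT.leaf (nat_lit 34130969)) (BT.leaf (nat_lit 28175645))) (BT.node (nat_lit 5873664) (BT.leaf (nat_lit 29889049)) (BT.leaf (nat_lit 25683729)))) (BT.node (nat_lit 5873856) (BT.node (nat_lit 5873792) (BT.leaf (nat_lit 33942545)) (BT.leaf (nat_lit 33287941))) (BT.node (nat_lit 5873920) (BT.leaf (nat_lit 37646605)) (BT.leaf (nat_lit 31071761))))) (BT.node (nat_lit 5874240) (BT.node (nat_lit 5874112) (BT.node (nat_lit 5874048) (BT.leaf (nat_lit 27084057)) (BT.leaf (nat_lit 34132501))) (BT.node (nat_lit 5874176) (BT.leaf (nat_lit 34132753)) (BT.leaf (nat_lit 23496989)))) (BT.node (nat_lit 5874368) (BT.node (nat_lit 5874304) (BT.leaf (nat_lit 34130965)) (BT.leaf (nat_lit 23430945))) (BT.node (nat_lit 5874432) (BT.leaf (nat_lit 25383705)) (BT.leaf (nat_lit 23793689))))))) (BT.node (nat_lit 5875520) (BT.node (nat_lit 5875008) (BT.node (nat_lit 5874752) (BT.node (nat_lit 5874624) (BT.node (nat_lit 5874560) (BT.leaf (nat_lit 23498269)) (BT.leaf (nat_lit 34133777))) (BT.node (nat_lit 5874688) (BT.leaf (nat_lit 25383433)) (BT.leaf (nat_lit 30404869)))) (BT.node (nat_lit 5874880) (BT.node (nat_lit 5874816) (BT.leaf (nat_lit 23884309)) (BT.leaf (nat_lit 27903253))) (BT.node (nat_lit 5874944) (BT.leaf (nat_lit 23359505)) (BT.leaf (nat_lit 35767833))))) (BT.node (nat_lit 5875264) (BT.node (nat_lit 5875136) (BT.node (nat_lit 5875072) (BT.leaf (nat_lit 50175521)) (BT.leaf (nat_lit 35767837))) (BT.node (nat_lit 5875200) (BT.leaf (nat_lit 21371665)) (BT.leaf (nat_lit 30408733)))) (BT.node (nat_lit 5875392) (BT.node (nat_lit 5875328) (BT.leaf (nat_lit 23843597)) (BT.leaf (nat_lit 21035033))) (BT.node (nat_lit 5875456) (BT.leaf (nat_lit 34136601)) (BT.leaf (nat_lit 27777813)))))) (BT.node (nat_lit 5876032) (BT.node (nat_lit 5875776) (BT.node (nat_lit 5875648) (BT.node (nat_lit 5875584) (BT.leaf (nat_lit 21035037)) (BT.leaf (nat_lit 21174801))) (BT.node (nat_lit 5875712) (BT.leaf (nat_lit 21435673)) (BT.leaf (nat_lit 24655621)))) (BT.node (nat_lit 5875904) (BT.node (nat_lit 5875840) (BT.leaf (nat_lit 34137625)) (BT.leaf (nat_lit 46579465))) (BT.node (nat_lit 5875968) (BT.leaf (nat_lit 25723409)) (BT.leaf (nat_lit 21035289))))) (BT.node (nat_lit 5876288) (BT.node (nat_lit 5876160) (BT.node (nat_lit 5876096) (BT.leaf (nat_lit 33200133)) (BT.leaf (nat_lit 22364945))) (BT.node (nat_lit 5876224) (BT.leaf (nat_lit 21078033)) (BT.leaf (nat_lit 25603869)))) (BT.node (nat_lit 5876416) (BT.node (nat_lit 5876352) (BT.leaf (nat_lit 25385237)) (BT.leaf (nat_lit 32601605))) (BT.node (nat_lit 5876480) (BT.leaf (nat_lit 24000789)) (BT.leaf (nat_lit 24844817)))))))) (BT.node (nat_lit 5878592) (BT.node (nat_lit 5877568) (BT.node (nat_lit 5877056) (BT.node (nat_lit 5876800) (BT.node (nat_lit 5876672) (BT.node (nat_lit 5876608) (BT.leaf (nat_lit 23505945)) (BT.leaf (nat_lit 27932441))) (BT.node (nat_lit 5876736) (BT.leaf (nat_lit 21078545)) (BT.leaf (nat_lit 21942809)))) (BT.node (nat_lit 5876928) (BT.node (nat_lit 5876864) (BT.leaf (nat_lit 24792853)) (BT.leaf (nat_lit 23796513))) (BT.node (nat_lit 5876992) (BT.leaf (nat_lit 21079569)) (BT.leaf (nat_lit 34142213))))) (BT.node (nat_lit 5877312) (BT.node (nat_lit 5877184) (BT.node (nat_lit 5877120) (BT.leaf (nat_lit 21034769)) (BT.leaf (nat_lit 22560289))) (BT.node (nat_lit 5877248) (BT.leaf (nat_lit 30184225)) (BT.leaf (nat_lit 21437209)))) (BT.node (nat_lit 5877440) (BT.node (nat_lit 5877376) (BT.leaf (nat_lit 21080849)) (BT.leaf (nat_lit 34144033))) (BT.node (nat_lit 5877504) (BT.leaf (nat_lit 24837145)) (BT.leaf (nat_lit 27995425)))))) (BT.node (nat_lit 5878080) (BT.node (nat_lit 5877824) (BT.node (nat_lit 5877696) (BT.node (nat_lit 5877632) (BT.leaf (nat_lit 34636305)) (BT.leaf (nat_lit 34144785))) (BT.node (nat_lit 5877760) (BT.leaf (nat_lit 27482401)) (BT.leaf (nat_lit 23359765)))) (BT.node (nat_lit 5877952) (BT.node (nat_lit 5877888) (BT.leaf (nat_lit 21081377)) (BT.leaf (nat_lit 22842629))) (BT.node (nat_lit 5878016) (BT.leaf (nat_lit 25353249)) (BT.leaf (nat_lit 34145541))))) (BT.node (nat_lit 5878336) (BT.node (nat_lit 5878208) (BT.node (nat_lit 5878144) (BT.leaf (nat_lit 21215253)) (BT.leaf (nat_lit 47563033))) (BT.node (nat_lit 5878272) (BT.leaf (nat_lit 34147077)) (BT.leaf (nat_lit 34147605)))) (BT.node (nat_lit 5878464) (BT.node (nat_lit 5878400) (BT.leaf (nat_lit 21176073)) (BT.leaf (nat_lit 23201797))) (BT.node (nat_lit 5878528) (BT.leaf (nat_lit 33474057)) (BT.leaf (nat_lit 34150433))))))) (BT.node (nat_lit 5879616) (BT.node (nat_lit 5879104) (BT.node (nat_lit 5878848) (BT.node (nat_lit 5878720) (BT.node (nat_lit 5878656) (BT.leaf (nat_lit 34150689)) (BT.leaf (nat_lit 33829129))) (BT.node (nat_lit 5878784) (BT.leaf (nat_lit 25315105)) (BT.leaf (nat_lit 27224849)))) (BT.node (nat_lit 5878976) (BT.node (nat_lit 5878912) (BT.leaf (nat_lit 24574753)) (BT.leaf (nat_lit 27408409))) (BT.node (nat_lit 5879040) (BT.leaf (nat_lit 24038929)) (BT.leaf (nat_lit 47267845))))) (BT.node (nat_lit 5879360) (BT.node (nat_lit 5879232) (BT.node (nat_lit 5879168) (BT.leaf (nat_lit 34152721)) (BT.leaf (nat_lit 34055709))) (BT.node (nat_lit 5879296) (BT.leaf (nat_lit 27407633)) (BT.leaf (nat_lit 24556053)))) (BT.node (nat_lit 5879488) (BT.node (nat_lit 5879424) (BT.leaf (nat_lit 24556057)) (BT.leaf (nat_lit 24572193))) (BT.node (nat_lit 5879552) (BT.leaf (nat_lit 28532741)) (BT.leaf (nat_lit 24039945)))))) (BT.node (nat_lit 5880128) (BT.node (nat_lit 5879872) (BT.node (nat_lit 5879744) (BT.node (nat_lit 5879680) (BT.leaf (nat_lit 34154773)) (BT.leaf (nat_lit 25283349))) (BT.node (nat_lit 5879808) (BT.leaf (nat_lit 34272033)) (BT.leaf (nat_lit 22693409)))) (BT.node (nat_lit 5880000) (BT.node (nat_lit 5879936) (BT.leaf (nat_lit 27313681)) (BT.leaf (nat_lit 23699973))) (BT.node (nat_lit 5880064) (BT.leaf (nat_lit 23476001)) (BT.leaf (nat_lit 35881757))))) (BT.node (nat_lit 5880384) (BT.node (nat_lit 5880256) (BT.node (nat_lit 5880192) (BT.leaf (nat_lit 22736397)) (BT.leaf (nat_lit 27914005))) (BT.node (nat_lit 5880320) (BT.leaf (nat_lit 25449237)) (BT.leaf (nat_lit 21720349)))) (BT.node (nat_lit 5880512) (BT.node (nat_lit 5880448) (BT.leaf (nat_lit 33978645)) (BT.leaf (nat_lit 30103569))) (BT.node (nat_lit 5880576) (BT.leaf (nat_lit 21085457)) (BT.leaf (nat_lit 50556681))))))))) (BT.node (nat_lit 5884736) (BT.node (nat_lit 5882688) (BT.node (nat_lit 5881664) (BT.node (nat_lit 5881152) (BT.node (nat_lit 5880896) (BT.node (nat_lit 5880768) (BT.node (nat_lit 5880704) (BT.leaf (nat_lit 21086481)) (BT.leaf (nat_lit 21432353))) (BT.node (nat_lit 5880832) (BT.leaf (nat_lit 21432345)) (BT.leaf (nat_lit 21432349)))) (BT.node (nat_lit 5881024) (BT.node (nat_lit 5880960) (BT.leaf (nat_lit 30072081)) (BT.leaf (nat_lit 21033745))) (BT.node (nat_lit 5881088) (BT.leaf (nat_lit 34159649)) (BT.leaf (nat_lit 28403717))))) (BT.node (nat_lit 5881408) (BT.node (nat_lit 5881280) (BT.node (nat_lit 5881216) (BT.leaf (nat_lit 34158369)) (BT.leaf (nat_lit 23703329))) (BT.node (nat_lit 5881344) (BT.leaf (nat_lit 23527189)) (BT.leaf (nat_lit 23418649)))) (BT.node (nat_lit 5881536) (BT.node (nat_lit 5881472) (BT.leaf (nat_lit 24622597)) (BT.leaf (nat_lit 23840793))) (BT.node (nat_lit 5881600) (BT.leaf (nat_lit 28446213)) (BT.leaf (nat_lit 22572821)))))) (BT.node (nat_lit 5882176) (BT.node (nat_lit 5881920) (BT.node (nat_lit 5881792) (BT.node (nat_lit 5881728) (BT.leaf (nat_lit 28151317)) (BT.leaf (nat_lit 29659409))) (BT.node (nat_lit 5881856) (BT.leaf (nat_lit 23418653)) (BT.leaf (nat_lit 24626209)))) (BT.node (nat_lit 5882048) (BT.node (nat_lit 5881984) (BT.leaf (nat_lit 27576593)) (BT.leaf (nat_lit 24627745))) (BT.node (nat_lit 5882112) (BT.leaf (nat_lit 27809033)) (BT.leaf (nat_lit 22568461))))) (BT.node (nat_lit 5882432) (BT.node (nat_lit 5882304) (BT.node (nat_lit 5882240) (BT.leaf (nat_lit 27880709)) (BT.leaf (nat_lit 24083989))) (BT.node (nat_lit 5882368) (BT.leaf (nat_lit 34162197)) (BT.leaf (nat_lit 36748557)))) (BT.node (nat_lit 5882560) (BT.node (nat_lit 5882496) (BT.leaf (nat_lit 27838217)) (BT.leaf (nat_lit 27422737))) (BT.node (nat_lit 5882624) (BT.leaf (nat_lit 23322629)) (BT.leaf (nat_lit 21088785))))))) (BT.node (nat_lit 5883712) (BT.node (nat_lit 5883200) (BT.node (nat_lit 5882944) (BT.node (nat_lit 5882816) (BT.node (nat_lit 5882752) (BT.leaf (nat_lit 21087769)) (BT.leaf (nat_lit 50552837))) (BT.node (nat_lit 5882880) (BT.leaf (nat_lit 29975817)) (BT.leaf (nat_lit 23322117)))) (BT.node (nat_lit 5883072) (BT.node (nat_lit 5883008) (BT.leaf (nat_lit 21088017)) (BT.leaf (nat_lit 21037841))) (BT.node (nat_lit 5883136) (BT.leaf (nat_lit 22963473)) (BT.leaf (nat_lit 34164501))))) (BT.node (nat_lit 5883456) (BT.node (nat_lit 5883328) (BT.node (nat_lit 5883264) (BT.leaf (nat_lit 24204041)) (BT.leaf (nat_lit 24204049))) (BT.node (nat_lit 5883392) (BT.leaf (nat_lit 23151645)) (BT.leaf (nat_lit 24041997)))) (BT.node (nat_lit 5883584) (BT.node (nat_lit 5883520) (BT.leaf (nat_lit 30497825)) (BT.leaf (nat_lit 23534365))) (BT.node (nat_lit 5883648) (BT.leaf (nat_lit 23533845)) (BT.leaf (nat_lit 22709009)))))) (BT.node (nat_lit 5884224) (BT.node (nat_lit 5883968) (BT.node (nat_lit 5883840) (BT.node (nat_lit 5883776) (BT.leaf (nat_lit 22872353)) (BT.leaf (nat_lit 22330133))) (BT.node (nat_lit 5883904) (BT.leaf (nat_lit 51918625)) (BT.leaf (nat_lit 22872865)))) (BT.node (nat_lit 5884096) (BT.node (nat_lit 5884032) (BT.leaf (nat_lit 25753633)) (BT.leaf (nat_lit 22351621))) (BT.node (nat_lit 5884160) (BT.leaf (nat_lit 28974341)) (BT.leaf (nat_lit 29565973))))) (BT.node (nat_lit 5884480) (BT.node (nat_lit 5884352) (BT.node (nat_lit 5884288) (BT.leaf (nat_lit 23486233)) (BT.leaf (nat_lit 36814881))) (BT.node (nat_lit 5884416) (BT.leaf (nat_lit 23368201)) (BT.leaf (nat_lit 47725853)))) (BT.node (nat_lit 5884608) (BT.node (nat_lit 5884544) (BT.leaf (nat_lit 38978061)) (BT.leaf (nat_lit 29251085))) (BT.node (nat_lit 5884672) (BT.leaf (nat_lit 28318741)) (BT.leaf (nat_lit 51392517)))))))) (BT.node (nat_lit 5886784) (BT.node (nat_lit 5885760) (BT.node (nat_lit 5885248) (BT.node (nat_lit 5884992) (BT.node (nat_lit 5884864) (BT.node (nat_lit 5884800) (BT.leaf (nat_lit 28099097)) (BT.leaf (nat_lit 24184853))) (BT.node (nat_lit 5884928) (BT.leaf (nat_lit 50890517)) (BT.leaf (nat_lit 30524433)))) (BT.node (nat_lit 5885120) (BT.node (nat_lit 5885056) (BT.leaf (nat_lit 48536861)) (BT.leaf (nat_lit 31476769))) (BT.node (nat_lit 5885184) (BT.leaf (nat_lit 33604125)) (BT.leaf (nat_lit 33892113))))) (BT.node (nat_lit 5885504) (BT.node (nat_lit 5885376) (BT.node (nat_lit 5885312) (BT.leaf (nat_lit 37533713)) (BT.leaf (nat_lit 21574153))) (BT.node (nat_lit 5885440) (BT.leaf (nat_lit 34169621)) (BT.leaf (nat_lit 22583045)))) (BT.node (nat_lit 5885632) (BT.node (nat_lit 5885568) (BT.leaf (nat_lit 49941517)) (BT.leaf (nat_lit 23611409))) (BT.node (nat_lit 5885696) (BT.leaf (nat_lit 22850073)) (BT.leaf (nat_lit 21053461)))))) (BT.node (nat_lit 5886272) (BT.node (nat_lit 5886016) (BT.node (nat_lit 5885888) (BT.node (nat_lit 5885824) (BT.leaf (nat_lit 24506633)) (BT.leaf (nat_lit 24480797))) (BT.node (nat_lit 5885952) (BT.leaf (nat_lit 50004769)) (BT.leaf (nat_lit 22845201)))) (BT.node (nat_lit 5886144) (BT.node (nat_lit 5886080) (BT.leaf (nat_lit 48542473)) (BT.leaf (nat_lit 23270937))) (BT.node (nat_lit 5886208) (BT.leaf (nat_lit 34951685)) (BT.leaf (nat_lit 23270941))))) (BT.node (nat_lit 5886528) (BT.node (nat_lit 5886400) (BT.node (nat_lit 5886336) (BT.leaf (nat_lit 24033053)) (BT.leaf (nat_lit 22724625))) (BT.node (nat_lit 5886464) (BT.leaf (nat_lit 22755601)) (BT.leaf (nat_lit 28208925)))) (BT.node (nat_lit 5886656) (BT.node (nat_lit 5886592) (BT.leaf (nat_lit 25855249)) (BT.leaf (nat_lit 50742021))) (BT.node (nat_lit 5886720) (BT.leaf (nat_lit 21174549)) (BT.leaf (nat_lit 34173713))))))) (BT.node (nat_lit 5887808) (BT.node (nat_lit 5887296) (BT.node (nat_lit 5887040) (BT.node (nat_lit 5886912) (BT.node (nat_lit 5886848) (BT.leaf (nat_lit 33482501)) (BT.leaf (nat_lit 22819853))) (BT.node (nat_lit 5886976) (BT.leaf (nat_lit 21343237)) (BT.leaf (nat_lit 33488645)))) (BT.node (nat_lit 5887168) (BT.node (nat_lit 5887104) (BT.leaf (nat_lit 22849569)) (BT.leaf (nat_lit 22344977))) (BT.node (nat_lit 5887232) (BT.leaf (nat_lit 34174241)) (BT.leaf (nat_lit 33488417))))) (BT.node (nat_lit 5887552) (BT.node (nat_lit 5887424) (BT.node (nat_lit 5887360) (BT.leaf (nat_lit 20957445)) (BT.leaf (nat_lit 34174741))) (BT.node (nat_lit 5887488) (BT.leaf (nat_lit 23549465)) (BT.leaf (nat_lit 21093137)))) (BT.node (nat_lit 5887680) (BT.node (nat_lit 5887616) (BT.leaf (nat_lit 21093141)) (BT.leaf (nat_lit 21105945))) (BT.node (nat_lit 5887744) (BT.leaf (nat_lit 23552289)) (BT.leaf (nat_lit 23726369)))))) (BT.node (nat_lit 5888320) (BT.node (nat_lit 5888064) (BT.node (nat_lit 5887936) (BT.node (nat_lit 5887872) (BT.leaf (nat_lit 23092513)) (BT.leaf (nat_lit 23093025))) (BT.node (nat_lit 5888000) (BT.leaf (nat_lit 23726341)) (BT.leaf (nat_lit 23551769)))) (BT.node (nat_lit 5888192) (BT.node (nat_lit 5888128) (BT.leaf (nat_lit 21352733)) (BT.leaf (nat_lit 21115409))) (BT.node (nat_lit 5888256) (BT.leaf (nat_lit 34175493)) (BT.leaf (nat_lit 21346081))))) (BT.node (nat_lit 5888576) (BT.node (nat_lit 5888448) (BT.node (nat_lit 5888384) (BT.leaf (nat_lit 21739805)) (BT.leaf (nat_lit 35460869))) (BT.node (nat_lit 5888512) (BT.leaf (nat_lit 21151769)) (BT.leaf (nat_lit 21506837)))) (BT.node (nat_lit 5888704) (BT.node (nat_lit 5888640) (BT.leaf (nat_lit 36960269)) (BT.leaf (nat_lit 36960525))) (BT.node (nat_lit 5888768) (BT.leaf (nat_lit 21113117)) (BT.leaf (nat_lit 21123101)))))))))) (BT.node (nat_lit 5897024) (BT.node (nat_lit 5892928) (BT.node (nat_lit 5890880) (BT.node (nat_lit 5889856) (BT.node (nat_lit 5889344) (BT.node (nat_lit 5889088) (BT.node (nat_lit 5888960) (BT.node (nat_lit 5888896) (BT.leaf (nat_lit 23814405)) (BT.leaf (nat_lit 23814149))) (BT.node (nat_lit 5889024) (BT.leaf (nat_lit 46931973)) (BT.leaf (nat_lit 21138961)))) (BT.node (nat_lit 5889216) (BT.node (nat_lit 5889152) (BT.leaf (nat_lit 34180117)) (BT.leaf (nat_lit 29194773))) (BT.node (nat_lit 5889280) (BT.leaf (nat_lit 34180625)) (BT.leaf (nat_lit 21726737))))) (BT.node (nat_lit 5889600) (BT.node (nat_lit 5889472) (BT.node (nat_lit 5889408) (BT.leaf (nat_lit 36426265)) (BT.leaf (nat_lit 36426269))) (BT.node (nat_lit 5889536) (BT.leaf (nat_lit 34181905)) (BT.leaf (nat_lit 25612573)))) (BT.node (nat_lit 5889728) (BT.node (nat_lit 5889664) (BT.leaf (nat_lit 51987745)) (BT.leaf (nat_lit 34183685))) (BT.node (nat_lit 5889792) (BT.leaf (nat_lit 34184221)) (BT.leaf (nat_lit 24478497)))))) (BT.node (nat_lit 5890368) (BT.node (nat_lit 5890112) (BT.node (nat_lit 5889984) (BT.node (nat_lit 5889920) (BT.leaf (nat_lit 49819169)) (BT.leaf (nat_lit 28735265))) (BT.node (nat_lit 5890048) (BT.leaf (nat_lit 36015121)) (BT.leaf (nat_lit 49072149)))) (BT.node (nat_lit 5890240) (BT.node (nat_lit 5890176) (BT.leaf (nat_lit 34063125)) (BT.leaf (nat_lit 23560457))) (BT.node (nat_lit 5890304) (BT.leaf (nat_lit 24091681)) (BT.leaf (nat_lit 49071125))))) (BT.node (nat_lit 5890624) (BT.node (nat_lit 5890496) (BT.node (nat_lit 5890432) (BT.leaf (nat_lit 34186521)) (BT.leaf (nat_lit 24330773))) (BT.node (nat_lit 5890560) (BT.leaf (nat_lit 48955161)) (BT.leaf (nat_lit 33446173)))) (BT.node (nat_lit 5890752) (BT.node (nat_lit 5890688) (BT.leaf (nat_lit 49834269)) (BT.leaf (nat_lit 33074449))) (BT.node (nat_lit 5890816) (BT.leaf (nat_lit 23546381)) (BT.leaf (nat_lit 34188573))))))) (BT.node (nat_lit 5891904) (BT.node (nat_lit 5891392) (BT.node (nat_lit 5891136) (BT.node (nat_lit 5891008) (BT.node (nat_lit 5890944) (BT.leaf (nat_lit 24090885)) (BT.leaf (nat_lit 22558213))) (BT.node (nat_lit 5891072) (BT.leaf (nat_lit 34189601)) (BT.leaf (nat_lit 35143173)))) (BT.node (nat_lit 5891264) (BT.node (nat_lit 5891200) (BT.leaf (nat_lit 27532053)) (BT.leaf (nat_lit 34190357))) (BT.node (nat_lit 5891328) (BT.leaf (nat_lit 27497241)) (BT.leaf (nat_lit 23193361))))) (BT.node (nat_lit 5891648) (BT.node (nat_lit 5891520) (BT.node (nat_lit 5891456) (BT.leaf (nat_lit 25745437)) (BT.leaf (nat_lit 33932313))) (BT.node (nat_lit 5891584) (BT.leaf (nat_lit 31360285)) (BT.leaf (nat_lit 34191897)))) (BT.node (nat_lit 5891776) (BT.node (nat_lit 5891712) (BT.leaf (nat_lit 23566877)) (BT.leaf (nat_lit 34192401))) (BT.node (nat_lit 5891840) (BT.leaf (nat_lit 29815557)) (BT.leaf (nat_lit 31360265)))))) (BT.node (nat_lit 5892416) (BT.node (nat_lit 5892160) (BT.node (nat_lit 5892032) (BT.node (nat_lit 5891968) (BT.leaf (nat_lit 35673361)) (BT.leaf (nat_lit 34193169))) (BT.node (nat_lit 5892096) (BT.leaf (nat_lit 24213777)) (BT.leaf (nat_lit 23568153)))) (BT.node (nat_lit 5892288) (BT.node (nat_lit 5892224) (BT.leaf (nat_lit 23411989)) (BT.leaf (nat_lit 34194205))) (BT.node (nat_lit 5892352) (BT.leaf (nat_lit 34307085)) (BT.leaf (nat_lit 33918481))))) (BT.node (nat_lit 5892672) (BT.node (nat_lit 5892544) (BT.node (nat_lit 5892480) (BT.leaf (nat_lit 25472017)) (BT.leaf (nat_lit 30559249))) (BT.node (nat_lit 5892608) (BT.leaf (nat_lit 23275037)) (BT.leaf (nat_lit 34195213)))) (BT.node (nat_lit 5892800) (BT.node (nat_lit 5892736) (BT.leaf (nat_lit 34196505)) (BT.leaf (nat_lit 23691525))) (BT.node (nat_lit 5892864) (BT.leaf (nat_lit 29058849)) (BT.leaf (nat_lit 24723745)))))))) (BT.node (nat_lit 5894976) (BT.node (nat_lit 5893952) (BT.node (nat_lit 5893440) (BT.node (nat_lit 5893184) (BT.node (nat_lit 5893056) (BT.node (nat_lit 5892992) (BT.leaf (nat_lit 34197269)) (BT.leaf (nat_lit 34192669))) (BT.node (nat_lit 5893120) (BT.leaf (nat_lit 21503749)) (BT.leaf (nat_lit 21099281)))) (BT.node (nat_lit 5893312) (BT.node (nat_lit 5893248) (BT.leaf (nat_lit 21099025)) (BT.leaf (nat_lit 24093217))) (BT.node (nat_lit 5893376) (BT.leaf (nat_lit 22774037)) (BT.leaf (nat_lit 23710213))))) (BT.node (nat_lit 5893696) (BT.node (nat_lit 5893568) (BT.node (nat_lit 5893504) (BT.leaf (nat_lit 23083793)) (BT.leaf (nat_lit 24228385))) (BT.node (nat_lit 5893632) (BT.leaf (nat_lit 49861649)) (BT.leaf (nat_lit 25489929)))) (BT.node (nat_lit 5893824) (BT.node (nat_lit 5893760) (BT.leaf (nat_lit 24246305)) (BT.leaf (nat_lit 22820885))) (BT.node (nat_lit 5893888) (BT.leaf (nat_lit 21106437)) (BT.leaf (nat_lit 25912069)))))) (BT.node (nat_lit 5894464) (BT.node (nat_lit 5894208) (BT.node (nat_lit 5894080) (BT.node (nat_lit 5894016) (BT.leaf (nat_lit 23577377)) (BT.leaf (nat_lit 21486089))) (BT.node (nat_lit 5894144) (BT.leaf (nat_lit 25279749)) (BT.leaf (nat_lit 23612685)))) (BT.node (nat_lit 5894336) (BT.node (nat_lit 5894272) (BT.leaf (nat_lit 22718217)) (BT.leaf (nat_lit 28679185))) (BT.node (nat_lit 5894400) (BT.leaf (nat_lit 21295637)) (BT.leaf (nat_lit 21423125))))) (BT.node (nat_lit 5894720) (BT.node (nat_lit 5894592) (BT.node (nat_lit 5894528) (BT.leaf (nat_lit 34200341)) (BT.leaf (nat_lit 23083809))) (BT.node (nat_lit 5894656) (BT.leaf (nat_lit 23084065)) (BT.leaf (nat_lit 23084577)))) (BT.node (nat_lit 5894848) (BT.node (nat_lit 5894784) (BT.leaf (nat_lit 33154065)) (BT.leaf (nat_lit 23120141))) (BT.node (nat_lit 5894912) (BT.leaf (nat_lit 21442849)) (BT.leaf (nat_lit 23125537))))))) (BT.node (nat_lit 5896000) (BT.node (nat_lit 5895488) (BT.node (nat_lit 5895232) (BT.node (nat_lit 5895104) (BT.node (nat_lit 5895040) (BT.leaf (nat_lit 34201361)) (BT.leaf (nat_lit 51994649))) (BT.node (nat_lit 5895168) (BT.leaf (nat_lit 21147165)) (BT.leaf (nat_lit 23623693)))) (BT.node (nat_lit 5895360) (BT.node (nat_lit 5895296) (BT.leaf (nat_lit 30125337)) (BT.leaf (nat_lit 24267809))) (BT.node (nat_lit 5895424) (BT.leaf (nat_lit 22961925)) (BT.leaf (nat_lit 24762629))))) (BT.node (nat_lit 5895744) (BT.node (nat_lit 5895616) (BT.node (nat_lit 5895552) (BT.leaf (nat_lit 21106449)) (BT.leaf (nat_lit 21426453))) (BT.node (nat_lit 5895680) (BT.leaf (nat_lit 21426457)) (BT.leaf (nat_lit 21106705)))) (BT.node (nat_lit 5895872) (BT.node (nat_lit 5895808) (BT.leaf (nat_lit 23153173)) (BT.leaf (nat_lit 50000901))) (BT.node (nat_lit 5895936) (BT.leaf (nat_lit 21422869)) (BT.leaf (nat_lit 21422873)))))) (BT.node (nat_lit 5896512) (BT.node (nat_lit 5896256) (BT.node (nat_lit 5896128) (BT.node (nat_lit 5896064) (BT.leaf (nat_lit 20897041)) (BT.leaf (nat_lit 34208289))) (BT.node (nat_lit 5896192) (BT.leaf (nat_lit 29457681)) (BT.leaf (nat_lit 34209041)))) (BT.node (nat_lit 5896384) (BT.node (nat_lit 5896320) (BT.leaf (nat_lit 29461525)) (BT.leaf (nat_lit 22442265))) (BT.node (nat_lit 5896448) (BT.leaf (nat_lit 34210081)) (BT.leaf (nat_lit 29461009))))) (BT.node (nat_lit 5896768) (BT.node (nat_lit 5896640) (BT.node (nat_lit 5896576) (BT.leaf (nat_lit 33298441)) (BT.leaf (nat_lit 34211361))) (BT.node (nat_lit 5896704) (BT.leaf (nat_lit 21102109)) (BT.leaf (nat_lit 21107473)))) (BT.node (nat_lit 5896896) (BT.node (nat_lit 5896832) (BT.leaf (nat_lit 29461529)) (BT.leaf (nat_lit 21102353))) (BT.node (nat_lit 5896960) (BT.leaf (nat_lit 21257749)) (BT.leaf (nat_lit 25468449))))))))) (BT.node (nat_lit 5901120) (BT.node (nat_lit 5899072) (BT.node (nat_lit 5898048) (BT.node (nat_lit 5897536) (BT.node (nat_lit 5897280) (BT.node (nat_lit 5897152) (BT.node (nat_lit 5897088) (BT.leaf (nat_lit 25311249)) (BT.leaf (nat_lit 29236757))) (BT.node (nat_lit 5897216) (BT.leaf (nat_lit 23062549)) (BT.leaf (nat_lit 37240601)))) (BT.node (nat_lit 5897408) (BT.node (nat_lit 5897344) (BT.leaf (nat_lit 37240605)) (BT.leaf (nat_lit 51089181))) (BT.node (nat_lit 5897472) (BT.leaf (nat_lit 33638169)) (BT.leaf (nat_lit 24093717))))) (BT.node (nat_lit 5897792) (BT.node (nat_lit 5897664) (BT.node (nat_lit 5897600) (BT.leaf (nat_lit 30219025)) (BT.leaf (nat_lit 25744917))) (BT.node (nat_lit 5897728) (BT.leaf (nat_lit 30600197)) (BT.leaf (nat_lit 28682513)))) (BT.node (nat_lit 5897920) (BT.node (nat_lit 5897856) (BT.leaf (nat_lit 24618773)) (BT.leaf (nat_lit 51502089))) (BT.node (nat_lit 5897984) (BT.leaf (nat_lit 25699857)) (BT.leaf (nat_lit 50363909)))))) (BT.node (nat_lit 5898560) (BT.node (nat_lit 5898304) (BT.node (nat_lit 5898176) (BT.node (nat_lit 5898112) (BT.leaf (nat_lit 24585745)) (BT.leaf (nat_lit 24315929))) (BT.node (nat_lit 5898240) (BT.leaf (nat_lit 50511893)) (BT.leaf (nat_lit 23091477)))) (BT.node (nat_lit 5898432) (BT.node (nat_lit 5898368) (BT.leaf (nat_lit 24671777)) (BT.leaf (nat_lit 25538593))) (BT.node (nat_lit 5898496) (BT.leaf (nat_lit 25538849)) (BT.leaf (nat_lit 29185541))))) (BT.node (nat_lit 5898816) (BT.node (nat_lit 5898688) (BT.node (nat_lit 5898624) (BT.leaf (nat_lit 28529689)) (BT.leaf (nat_lit 34208261))) (BT.node (nat_lit 5898752) (BT.leaf (nat_lit 24346629)) (BT.leaf (nat_lit 22518789)))) (BT.node (nat_lit 5898944) (BT.node (nat_lit 5898880) (BT.leaf (nat_lit 24347141)) (BT.leaf (nat_lit 24238625))) (BT.node (nat_lit 5899008) (BT.leaf (nat_lit 21112329)) (BT.leaf (nat_lit 21112333))))))) (BT.node (nat_lit 5900096) (BT.node (nat_lit 5899584) (BT.node (nat_lit 5899328) (BT.node (nat_lit 5899200) (BT.node (nat_lit 5899136) (BT.leaf (nat_lit 21112349)) (BT.leaf (nat_lit 33662485))) (BT.node (nat_lit 5899264) (BT.leaf (nat_lit 51292177)) (BT.leaf (nat_lit 33662469)))) (BT.node (nat_lit 5899456) (BT.node (nat_lit 5899392) (BT.leaf (nat_lit 51292193)) (BT.leaf (nat_lit 23552797))) (BT.node (nat_lit 5899520) (BT.leaf (nat_lit 25774605)) (BT.leaf (nat_lit 22444053))))) (BT.node (nat_lit 5899840) (BT.node (nat_lit 5899712) (BT.node (nat_lit 5899648) (BT.leaf (nat_lit 30617377)) (BT.leaf (nat_lit 21223189))) (BT.node (nat_lit 5899776) (BT.leaf (nat_lit 21356833)) (BT.leaf (nat_lit 51133445)))) (BT.node (nat_lit 5899968) (BT.node (nat_lit 5899904) (BT.leaf (nat_lit 25457437)) (BT.leaf (nat_lit 24236833))) (BT.node (nat_lit 5900032) (BT.leaf (nat_lit 21357345)) (BT.leaf (nat_lit 25457421)))))) (BT.node (nat_lit 5900608) (BT.node (nat_lit 5900352) (BT.node (nat_lit 5900224) (BT.node (nat_lit 5900160) (BT.leaf (nat_lit 21154325)) (BT.leaf (nat_lit 24236313))) (BT.node (nat_lit 5900288) (BT.leaf (nat_lit 26092561)) (BT.leaf (nat_lit 26092577)))) (BT.node (nat_lit 5900480) (BT.node (nat_lit 5900416) (BT.leaf (nat_lit 22877457)) (BT.leaf (nat_lit 22893573))) (BT.node (nat_lit 5900544) (BT.leaf (nat_lit 33808413)) (BT.leaf (nat_lit 51389461))))) (BT.node (nat_lit 5900864) (BT.node (nat_lit 5900736) (BT.node (nat_lit 5900672) (BT.leaf (nat_lit 21288477)) (BT.leaf (nat_lit 21125657))) (BT.node (nat_lit 5900800) (BT.leaf (nat_lit 23113505)) (BT.leaf (nat_lit 52088337)))) (BT.node (nat_lit 5900992) (BT.node (nat_lit 5900928) (BT.leaf (nat_lit 52088081)) (BT.leaf (nat_lit 34226977))) (BT.node (nat_lit 5901056) (BT.leaf (nat_lit 34227233)) (BT.leaf (nat_lit 34227477)))))))) (BT.node (nat_lit 5903168) (BT.node (nat_lit 5902144) (BT.node (nat_lit 5901632) (BT.node (nat_lit 5901376) (BT.node (nat_lit 5901248) (BT.node (nat_lit 5901184) (BT.leaf (nat_lit 21756953)) (BT.leaf (nat_lit 22522373))) (BT.node (nat_lit 5901312) (BT.leaf (nat_lit 21114897)) (BT.leaf (nat_lit 21114129)))) (BT.node (nat_lit 5901504) (BT.node (nat_lit 5901440) (BT.leaf (nat_lit 24715797)) (BT.leaf (nat_lit 30633489))) (BT.node (nat_lit 5901568) (BT.leaf (nat_lit 50393121)) (BT.leaf (nat_lit 47799301))))) (BT.node (nat_lit 5901888) (BT.node (nat_lit 5901760) (BT.node (nat_lit 5901696) (BT.leaf (nat_lit 23568133)) (BT.leaf (nat_lit 24092949))) (BT.node (nat_lit 5901824) (BT.leaf (nat_lit 28021777)) (BT.leaf (nat_lit 23809553)))) (BT.node (nat_lit 5902016) (BT.node (nat_lit 5901952) (BT.leaf (nat_lit 21510169)) (BT.leaf (nat_lit 21510173))) (BT.node (nat_lit 5902080) (BT.leaf (nat_lit 23105809)) (BT.leaf (nat_lit 27858453)))))) (BT.node (nat_lit 5902656) (BT.node (nat_lit 5902400) (BT.node (nat_lit 5902272) (BT.node (nat_lit 5902208) (BT.leaf (nat_lit 21128465)) (BT.leaf (nat_lit 21128469))) (BT.node (nat_lit 5902336) (BT.leaf (nat_lit 23107361)) (BT.leaf (nat_lit 24676385)))) (BT.node (nat_lit 5902528) (BT.node (nat_lit 5902464) (BT.leaf (nat_lit 24676641)) (BT.leaf (nat_lit 33054469))) (BT.node (nat_lit 5902592) (BT.leaf (nat_lit 24676897)) (BT.leaf (nat_lit 33778977))))) (BT.node (nat_lit 5902912) (BT.node (nat_lit 5902784) (BT.node (nat_lit 5902720) (BT.leaf (nat_lit 30637829)) (BT.leaf (nat_lit 34232845))) (BT.node (nat_lit 5902848) (BT.leaf (nat_lit 34233105)) (BT.leaf (nat_lit 34233365)))) (BT.node (nat_lit 5903040) (BT.node (nat_lit 5902976) (BT.leaf (nat_lit 21362181)) (BT.leaf (nat_lit 23577357))) (BT.node (nat_lit 5903104) (BT.leaf (nat_lit 24762901)) (BT.leaf (nat_lit 23574553))))))) (BT.node (nat_lit 5904192) (BT.node (nat_lit 5903680) (BT.node (nat_lit 5903424) (BT.node (nat_lit 5903296) (BT.node (nat_lit 5903232) (BT.leaf (nat_lit 34233621)) (BT.leaf (nat_lit 25779233))) (BT.node (nat_lit 5903360) (BT.leaf (nat_lit 24703777)) (BT.leaf (nat_lit 24705825)))) (BT.node (nat_lit 5903552) (BT.node (nat_lit 5903488) (BT.leaf (nat_lit 21116681)) (BT.leaf (nat_lit 51334165))) (BT.node (nat_lit 5903616) (BT.leaf (nat_lit 25664021)) (BT.leaf (nat_lit 21116953))))) (BT.node (nat_lit 5903936) (BT.node (nat_lit 5903808) (BT.node (nat_lit 5903744) (BT.leaf (nat_lit 34234885)) (BT.leaf (nat_lit 22849561))) (BT.node (nat_lit 5903872) (BT.leaf (nat_lit 21118993)) (BT.leaf (nat_lit 21094417)))) (BT.node (nat_lit 5904064) (BT.node (nat_lit 5904000) (BT.leaf (nat_lit 21118737)) (BT.leaf (nat_lit 21119505))) (BT.node (nat_lit 5904128) (BT.leaf (nat_lit 28882209)) (BT.leaf (nat_lit 21119249)))))) (BT.node (nat_lit 5904704) (BT.node (nat_lit 5904448) (BT.node (nat_lit 5904320) (BT.node (nat_lit 5904256) (BT.leaf (nat_lit 33608461)) (BT.leaf (nat_lit 51514901))) (BT.node (nat_lit 5904384) (BT.leaf (nat_lit 34238469)) (BT.leaf (nat_lit 30645765)))) (BT.node (nat_lit 5904576) (BT.node (nat_lit 5904512) (BT.leaf (nat_lit 25394465)) (BT.leaf (nat_lit 21093409))) (BT.node (nat_lit 5904640) (BT.leaf (nat_lit 23618589)) (BT.leaf (nat_lit 25781013))))) (BT.node (nat_lit 5904960) (BT.node (nat_lit 5904832) (BT.node (nat_lit 5904768) (BT.leaf (nat_lit 51461381)) (BT.leaf (nat_lit 34240533))) (BT.node (nat_lit 5904896) (BT.leaf (nat_lit 24272661)) (BT.leaf (nat_lit 30590737)))) (BT.node (nat_lit 5905088) (BT.node (nat_lit 5905024) (BT.leaf (nat_lit 37240585)) (BT.leaf (nat_lit 30059037))) (BT.node (nat_lit 5905152) (BT.leaf (nat_lit 24741141)) (BT.leaf (nat_lit 33859601)))))))))))))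
noncomputable def big0_e28672 : BT Nat := (BT.node (nat_lit 5970816) (BT.node (nat_lit 5938048) (BT.node (nat_lit 5921600) (BT.node (nat_lit 5913408) (BT.node (nat_lit 5909312) (BT.node (nat_lit 5907264) (BT.node (nat_lit 5906240) (BT.node (nat_lit 5905728) (BT.node (nat_lit 5905472) (BT.node (nat_lit 5905344) (BT.node (nat_lit 5905280) (BT.leaf (nat_lit 34242849)) (BT.leaf (nat_lit 25570841))) (BT.node (nat_lit 5905408) (BT.leaf (nat_lit 34243617)) (BT.leaf (nat_lit 34244385)))) (BT.node (nat_lit 5905600) (BT.node (nat_lit 5905536) (BT.leaf (nat_lit 34466065)) (BT.leaf (nat_lit 34466069))) (BT.node (nat_lit 5905664) (BT.leaf (nat_lit 51089161)) (BT.leaf (nat_lit 36051997))))) (BT.node (nat_lit 5905984) (BT.node (nat_lit 5905856) (BT.node (nat_lit 5905792) (BT.leaf (nat_lit 24763153)) (BT.leaf (nat_lit 23148321))) (BT.node (nat_lit 5905920) (BT.leaf (nat_lit 33659425)) (BT.leaf (nat_lit 34245141)))) (BT.node (nat_lit 5906112) (BT.node (nat_lit 5906048) (BT.leaf (nat_lit 21465377)) (BT.leaf (nat_lit 25311521))) (BT.node (nat_lit 5906176) (BT.leaf (nat_lit 23156501)) (BT.leaf (nat_lit 27359757)))))) (BT.node (nat_lit 5906752) (BT.node (nat_lit 5906496) (BT.node (nat_lit 5906368) (BT.node (nat_lit 5906304) (BT.leaf (nat_lit 20828953)) (BT.leaf (nat_lit 24120849))) (BT.node (nat_lit 5906432) (BT.leaf (nat_lit 22982169)) (BT.leaf (nat_lit 32027417)))) (BT.node (nat_lit 5906624) (BT.node (nat_lit 5906560) (BT.leaf (nat_lit 23592969)) (BT.leaf (nat_lit 32027405))) (BT.node (nat_lit 5906688) (BT.leaf (nat_lit 33512977)) (BT.leaf (nat_lit 22547993))))) (BT.node (nat_lit 5907008) (BT.node (nat_lit 5906880) (BT.node (nat_lit 5906816) (BT.leaf (nat_lit 22547997)) (BT.leaf (nat_lit 22744865))) (BT.node (nat_lit 5906944) (BT.leaf (nat_lit 28732681)) (BT.leaf (nat_lit 24671265)))) (BT.node (nat_lit 5907136) (BT.node (nat_lit 5907072) (BT.leaf (nat_lit 23012117)) (BT.leaf (nat_lit 22498837))) (BT.node (nat_lit 5907200) (BT.leaf (nat_lit 49848841)) (BT.leaf (nat_lit 27089173))))))) (BT.node (nat_lit 5908288) (BT.node (nat_lit 5907776) (BT.node (nat_lit 5907520) (BT.node (nat_lit 5907392) (BT.node (nat_lit 5907328) (BT.leaf (nat_lit 21126161)) (BT.leaf (nat_lit 37474317))) (BT.node (nat_lit 5907456) (BT.leaf (nat_lit 21125905)) (BT.leaf (nat_lit 21126673)))) (BT.node (nat_lit 5907648) (BT.node (nat_lit 5907584) (BT.leaf (nat_lit 25760801)) (BT.leaf (nat_lit 23092497))) (BT.node (nat_lit 5907712) (BT.leaf (nat_lit 25777173)) (BT.leaf (nat_lit 21127953))))) (BT.node (nat_lit 5908032) (BT.node (nat_lit 5907904) (BT.node (nat_lit 5907840) (BT.leaf (nat_lit 25205509)) (BT.leaf (nat_lit 30663457))) (BT.node (nat_lit 5907968) (BT.leaf (nat_lit 28997381)) (BT.leaf (nat_lit 21413393)))) (BT.node (nat_lit 5908160) (BT.node (nat_lit 5908096) (BT.leaf (nat_lit 23144217)) (BT.leaf (nat_lit 22613253))) (BT.node (nat_lit 5908224) (BT.leaf (nat_lit 21128453)) (BT.leaf (nat_lit 24360965)))))) (BT.node (nat_lit 5908800) (BT.node (nat_lit 5908544) (BT.node (nat_lit 5908416) (BT.node (nat_lit 5908352) (BT.leaf (nat_lit 34253585)) (BT.leaf (nat_lit 22294809))) (BT.node (nat_lit 5908480) (BT.leaf (nat_lit 21230609)) (BT.leaf (nat_lit 30617121)))) (BT.node (nat_lit 5908672) (BT.node (nat_lit 5908608) (BT.leaf (nat_lit 33706009)) (BT.leaf (nat_lit 33930001))) (BT.node (nat_lit 5908736) (BT.leaf (nat_lit 51555865)) (BT.leaf (nat_lit 34255125))))) (BT.node (nat_lit 5909056) (BT.node (nat_lit 5908928) (BT.node (nat_lit 5908864) (BT.leaf (nat_lit 23634953)) (BT.leaf (nat_lit 27713569))) (BT.node (nat_lit 5908992) (BT.leaf (nat_lit 34256149)) (BT.leaf (nat_lit 24646669)))) (BT.node (nat_lit 5909184) (BT.node (nat_lit 5909120) (BT.leaf (nat_lit 21415957)) (BT.leaf (nat_lit 27412765))) (BT.node (nat_lit 5909248) (BT.leaf (nat_lit 24361477)) (BT.leaf (nat_lit 23595017)))))))) (BT.node (nat_lit 5911360) (BT.node (nat_lit 5910336) (BT.node (nat_lit 5909824) (BT.node (nat_lit 5909568) (BT.node (nat_lit 5909440) (BT.node (nat_lit 5909376) (BT.leaf (nat_lit 24756489)) (BT.leaf (nat_lit 22443797))) (BT.node (nat_lit 5909504) (BT.leaf (nat_lit 30670881)) (BT.leaf (nat_lit 23596813)))) (BT.node (nat_lit 5909696) (BT.node (nat_lit 5909632) (BT.leaf (nat_lit 23597321)) (BT.leaf (nat_lit 34257685))) (BT.node (nat_lit 5909760) (BT.leaf (nat_lit 31962645)) (BT.leaf (nat_lit 21145869))))) (BT.node (nat_lit 5910080) (BT.node (nat_lit 5909952) (BT.node (nat_lit 5909888) (BT.leaf (nat_lit 21130785)) (BT.leaf (nat_lit 30154253))) (BT.node (nat_lit 5910016) (BT.leaf (nat_lit 27753761)) (BT.leaf (nat_lit 22476569)))) (BT.node (nat_lit 5910208) (BT.node (nat_lit 5910144) (BT.leaf (nat_lit 34259477)) (BT.leaf (nat_lit 33131797))) (BT.node (nat_lit 5910272) (BT.leaf (nat_lit 23066657)) (BT.leaf (nat_lit 25396245)))))) (BT.node (nat_lit 5910848) (BT.node (nat_lit 5910592) (BT.node (nat_lit 5910464) (BT.node (nat_lit 5910400) (BT.leaf (nat_lit 28072209)) (BT.leaf (nat_lit 25395997))) (BT.node (nat_lit 5910528) (BT.leaf (nat_lit 28194053)) (BT.leaf (nat_lit 33580561)))) (BT.node (nat_lit 5910720) (BT.node (nat_lit 5910656) (BT.leaf (nat_lit 23609877)) (BT.leaf (nat_lit 23609881))) (BT.node (nat_lit 5910784) (BT.leaf (nat_lit 25578261)) (BT.leaf (nat_lit 29685265))))) (BT.node (nat_lit 5911104) (BT.node (nat_lit 5910976) (BT.node (nat_lit 5910912) (BT.leaf (nat_lit 34261525)) (BT.leaf (nat_lit 29668101))) (BT.node (nat_lit 5911040) (BT.leaf (nat_lit 22569241)) (BT.leaf (nat_lit 22569245)))) (BT.node (nat_lit 5911232) (BT.node (nat_lit 5911168) (BT.leaf (nat_lit 27478045)) (BT.leaf (nat_lit 24311329))) (BT.node (nat_lit 5911296) (BT.leaf (nat_lit 23645213)) (BT.leaf (nat_lit 21759249))))))) (BT.node (nat_lit 5912384) (BT.node (nat_lit 5911872) (BT.node (nat_lit 5911616) (BT.node (nat_lit 5911488) (BT.node (nat_lit 5911424) (BT.leaf (nat_lit 34264597)) (BT.leaf (nat_lit 29798149))) (BT.node (nat_lit 5911552) (BT.leaf (nat_lit 30689541)) (BT.leaf (nat_lit 50960649)))) (BT.node (nat_lit 5911744) (BT.node (nat_lit 5911680) (BT.leaf (nat_lit 22373913)) (BT.leaf (nat_lit 34265117))) (BT.node (nat_lit 5911808) (BT.leaf (nat_lit 22323489)) (BT.leaf (nat_lit 34265621))))) (BT.node (nat_lit 5912128) (BT.node (nat_lit 5912000) (BT.node (nat_lit 5911936) (BT.leaf (nat_lit 47293981)) (BT.leaf (nat_lit 24424993))) (BT.node (nat_lit 5912064) (BT.leaf (nat_lit 27374869)) (BT.leaf (nat_lit 28752917)))) (BT.node (nat_lit 5912256) (BT.node (nat_lit 5912192) (BT.leaf (nat_lit 34267409)) (BT.leaf (nat_lit 27479057))) (BT.node (nat_lit 5912320) (BT.leaf (nat_lit 33552669)) (BT.leaf (nat_lit 25984285)))))) (BT.node (nat_lit 5912896) (BT.node (nat_lit 5912640) (BT.node (nat_lit 5912512) (BT.node (nat_lit 5912448) (BT.leaf (nat_lit 25564945)) (BT.leaf (nat_lit 47676681))) (BT.node (nat_lit 5912576) (BT.leaf (nat_lit 24315417)) (BT.leaf (nat_lit 23233297)))) (BT.node (nat_lit 5912768) (BT.node (nat_lit 5912704) (BT.leaf (nat_lit 33837593)) (BT.leaf (nat_lit 28541457))) (BT.node (nat_lit 5912832) (BT.leaf (nat_lit 34268677)) (BT.leaf (nat_lit 21214233))))) (BT.node (nat_lit 5913152) (BT.node (nat_lit 5913024) (BT.node (nat_lit 5912960) (BT.leaf (nat_lit 21214237)) (BT.leaf (nat_lit 34272005))) (BT.node (nat_lit 5913088) (BT.leaf (nat_lit 27109137)) (BT.leaf (nat_lit 21029905)))) (BT.node (nat_lit 5913280) (BT.node (nat_lit 5913216) (BT.leaf (nat_lit 27782169)) (BT.leaf (nat_lit 34273561))) (BT.node (nat_lit 5913344) (BT.leaf (nat_lit 25968929)) (BT.leaf (nat_lit 35523857))))))))) (BT.node (nat_lit 5917504) (BT.node (nat_lit 5915456) (BT.node (nat_lit 5914432) (BT.node (nat_lit 5913920) (BT.node (nat_lit 5913664) (BT.node (nat_lit 5913536) (BT.node (nat_lit 5913472) (BT.leaf (nat_lit 34274581)) (BT.leaf (nat_lit 21131541))) (BT.node (nat_lit 5913600) (BT.leaf (nat_lit 22625817)) (BT.leaf (nat_lit 22625821)))) (BT.node (nat_lit 5913792) (BT.node (nat_lit 5913728) (BT.leaf (nat_lit 28494881)) (BT.leaf (nat_lit 30717969))) (BT.node (nat_lit 5913856) (BT.leaf (nat_lit 27988741)) (BT.leaf (nat_lit 22786845))))) (BT.node (nat_lit 5914176) (BT.node (nat_lit 5914048) (BT.node (nat_lit 5913984) (BT.leaf (nat_lit 28081937)) (BT.leaf (nat_lit 28495381))) (BT.node (nat_lit 5914112) (BT.leaf (nat_lit 22593313)) (BT.leaf (nat_lit 26948129)))) (BT.node (nat_lit 5914304) (BT.node (nat_lit 5914240) (BT.leaf (nat_lit 30724369)) (BT.leaf (nat_lit 23334173))) (BT.node (nat_lit 5914368) (BT.leaf (nat_lit 23334677)) (BT.leaf (nat_lit 34276129)))))) (BT.node (nat_lit 5914944) (BT.node (nat_lit 5914688) (BT.node (nat_lit 5914560) (BT.node (nat_lit 5914496) (BT.leaf (nat_lit 29908497)) (BT.leaf (nat_lit 30390305))) (BT.node (nat_lit 5914624) (BT.leaf (nat_lit 28087565)) (BT.leaf (nat_lit 23161633)))) (BT.node (nat_lit 5914816) (BT.node (nat_lit 5914752) (BT.leaf (nat_lit 33540897)) (BT.leaf (nat_lit 21424157))) (BT.node (nat_lit 5914880) (BT.leaf (nat_lit 30389521)) (BT.leaf (nat_lit 21424153))))) (BT.node (nat_lit 5915200) (BT.node (nat_lit 5915072) (BT.node (nat_lit 5915008) (BT.leaf (nat_lit 27435041)) (BT.leaf (nat_lit 21134361))) (BT.node (nat_lit 5915136) (BT.leaf (nat_lit 21134365)) (BT.leaf (nat_lit 27882513)))) (BT.node (nat_lit 5915328) (BT.node (nat_lit 5915264) (BT.leaf (nat_lit 34026001)) (BT.leaf (nat_lit 29001489))) (BT.node (nat_lit 5915392) (BT.leaf (nat_lit 30039305)) (BT.leaf (nat_lit 27735569))))))) (BT.node (nat_lit 5916480) (BT.node (nat_lit 5915968) (BT.node (nat_lit 5915712) (BT.node (nat_lit 5915584) (BT.node (nat_lit 5915520) (BT.leaf (nat_lit 21029401)) (BT.leaf (nat_lit 34278673))) (BT.node (nat_lit 5915648) (BT.leaf (nat_lit 34278941)) (BT.leaf (nat_lit 30183689)))) (BT.node (nat_lit 5915840) (BT.node (nat_lit 5915776) (BT.leaf (nat_lit 34279445)) (BT.leaf (nat_lit 34279957))) (BT.node (nat_lit 5915904) (BT.leaf (nat_lit 34280729)) (BT.leaf (nat_lit 28055325))))) (BT.node (nat_lit 5916224) (BT.node (nat_lit 5916096) (BT.node (nat_lit 5916032) (BT.leaf (nat_lit 34002453)) (BT.leaf (nat_lit 29590549))) (BT.node (nat_lit 5916160) (BT.leaf (nat_lit 21692433)) (BT.leaf (nat_lit 30054409)))) (BT.node (nat_lit 5916352) (BT.node (nat_lit 5916288) (BT.leaf (nat_lit 23665437)) (BT.leaf (nat_lit 21030681))) (BT.node (nat_lit 5916416) (BT.leaf (nat_lit 21059345)) (BT.leaf (nat_lit 27421985)))))) (BT.node (nat_lit 5916992) (BT.node (nat_lit 5916736) (BT.node (nat_lit 5916608) (BT.node (nat_lit 5916544) (BT.leaf (nat_lit 22360329)) (BT.leaf (nat_lit 22360333))) (BT.node (nat_lit 5916672) (BT.leaf (nat_lit 22360345)) (BT.leaf (nat_lit 22360349)))) (BT.node (nat_lit 5916864) (BT.node (nat_lit 5916800) (BT.leaf (nat_lit 24113169)) (BT.leaf (nat_lit 24371221))) (BT.node (nat_lit 5916928) (BT.leaf (nat_lit 25403669)) (BT.leaf (nat_lit 22451729))))) (BT.node (nat_lit 5917248) (BT.node (nat_lit 5917120) (BT.node (nat_lit 5917056) (BT.leaf (nat_lit 34284577)) (BT.leaf (nat_lit 21377821))) (BT.node (nat_lit 5917184) (BT.leaf (nat_lit 28480005)) (BT.leaf (nat_lit 34101257)))) (BT.node (nat_lit 5917376) (BT.node (nat_lit 5917312) (BT.leaf (nat_lit 22547741)) (BT.leaf (nat_lit 29281285))) (BT.node (nat_lit 5917440) (BT.leaf (nat_lit 33799709)) (BT.leaf (nat_lit 34025233)))))))) (BT.node (nat_lit 5919552) (BT.node (nat_lit 5918528) (BT.node (nat_lit 5918016) (BT.node (nat_lit 5917760) (BT.node (nat_lit 5917632) (BT.node (nat_lit 5917568) (BT.leaf (nat_lit 25010453)) (BT.leaf (nat_lit 21136145))) (BT.node (nat_lit 5917696) (BT.leaf (nat_lit 21135889)) (BT.leaf (nat_lit 23066121)))) (BT.node (nat_lit 5917888) (BT.node (nat_lit 5917824) (BT.leaf (nat_lit 23862801)) (BT.leaf (nat_lit 28030493))) (BT.node (nat_lit 5917952) (BT.leaf (nat_lit 24909333)) (BT.leaf (nat_lit 23326229))))) (BT.node (nat_lit 5918272) (BT.node (nat_lit 5918144) (BT.node (nat_lit 5918080) (BT.leaf (nat_lit 30758433)) (BT.leaf (nat_lit 24713477))) (BT.node (nat_lit 5918208) (BT.leaf (nat_lit 30762001)) (BT.leaf (nat_lit 22578961)))) (BT.node (nat_lit 5918400) (BT.node (nat_lit 5918336) (BT.leaf (nat_lit 23759385)) (BT.leaf (nat_lit 28163605))) (BT.node (nat_lit 5918464) (BT.leaf (nat_lit 33850657)) (BT.leaf (nat_lit 24645649)))))) (BT.node (nat_lit 5919040) (BT.node (nat_lit 5918784) (BT.node (nat_lit 5918656) (BT.node (nat_lit 5918592) (BT.leaf (nat_lit 23831825)) (BT.leaf (nat_lit 34294297))) (BT.node (nat_lit 5918720) (BT.leaf (nat_lit 24061461)) (BT.leaf (nat_lit 34294545)))) (BT.node (nat_lit 5918912) (BT.node (nat_lit 5918848) (BT.leaf (nat_lit 34295069)) (BT.leaf (nat_lit 22661137))) (BT.node (nat_lit 5918976) (BT.leaf (nat_lit 28352537)) (BT.leaf (nat_lit 29388821))))) (BT.node (nat_lit 5919296) (BT.node (nat_lit 5919168) (BT.node (nat_lit 5919104) (BT.leaf (nat_lit 34295829)) (BT.leaf (nat_lit 21386773))) (BT.node (nat_lit 5919232) (BT.leaf (nat_lit 24385305)) (BT.leaf (nat_lit 30160137)))) (BT.node (nat_lit 5919424) (BT.node (nat_lit 5919360) (BT.leaf (nat_lit 23992593)) (BT.leaf (nat_lit 23992609))) (BT.node (nat_lit 5919488) (BT.leaf (nat_lit 27445265)) (BT.leaf (nat_lit 34297633))))))) (BT.node (nat_lit 5920576) (BT.node (nat_lit 5920064) (BT.node (nat_lit 5919808) (BT.node (nat_lit 5919680) (BT.node (nat_lit 5919616) (BT.leaf (nat_lit 50314245)) (BT.leaf (nat_lit 35535121))) (BT.node (nat_lit 5919744) (BT.leaf (nat_lit 34049301)) (BT.leaf (nat_lit 34298645)))) (BT.node (nat_lit 5919936) (BT.node (nat_lit 5919872) (BT.leaf (nat_lit 33724689)) (BT.leaf (nat_lit 22741525))) (BT.node (nat_lit 5920000) (BT.leaf (nat_lit 51316509)) (BT.leaf (nat_lit 25399065))))) (BT.node (nat_lit 5920320) (BT.node (nat_lit 5920192) (BT.node (nat_lit 5920128) (BT.leaf (nat_lit 34049561)) (BT.leaf (nat_lit 23704585))) (BT.node (nat_lit 5920256) (BT.leaf (nat_lit 35881741)) (BT.leaf (nat_lit 26399493)))) (BT.node (nat_lit 5920448) (BT.node (nat_lit 5920384) (BT.leaf (nat_lit 36995593)) (BT.leaf (nat_lit 26399521))) (BT.node (nat_lit 5920512) (BT.leaf (nat_lit 30831877)) (BT.leaf (nat_lit 21324317)))))) (BT.node (nat_lit 5921088) (BT.node (nat_lit 5920832) (BT.node (nat_lit 5920704) (BT.node (nat_lit 5920640) (BT.leaf (nat_lit 22997769)) (BT.leaf (nat_lit 33480465))) (BT.node (nat_lit 5920768) (BT.leaf (nat_lit 21094937)) (BT.leaf (nat_lit 27272713)))) (BT.node (nat_lit 5920960) (BT.node (nat_lit 5920896) (BT.leaf (nat_lit 21140769)) (BT.leaf (nat_lit 21141521))) (BT.node (nat_lit 5921024) (BT.leaf (nat_lit 22651925)) (BT.leaf (nat_lit 28141841))))) (BT.node (nat_lit 5921344) (BT.node (nat_lit 5921216) (BT.node (nat_lit 5921152) (BT.leaf (nat_lit 25337873)) (BT.leaf (nat_lit 25926169))) (BT.node (nat_lit 5921280) (BT.leaf (nat_lit 35373345)) (BT.leaf (nat_lit 31242261)))) (BT.node (nat_lit 5921472) (BT.node (nat_lit 5921408) (BT.leaf (nat_lit 21411845)) (BT.leaf (nat_lit 50752261))) (BT.node (nat_lit 5921536) (BT.leaf (nat_lit 36116997)) (BT.leaf (nat_lit 50983941)))))))))) (BT.node (nat_lit 5929856) (BT.node (nat_lit 5925760) (BT.node (nat_lit 5923712) (BT.node (nat_lit 5922688) (BT.node (nat_lit 5922112) (BT.node (nat_lit 5921856) (BT.node (nat_lit 5921728) (BT.node (nat_lit 5921664) (BT.leaf (nat_lit 46595589)) (BT.leaf (nat_lit 34302733))) (BT.node (nat_lit 5921792) (BT.leaf (nat_lit 22855957)) (BT.leaf (nat_lit 24193561)))) (BT.node (nat_lit 5921984) (BT.node (nat_lit 5921920) (BT.leaf (nat_lit 23364633)) (BT.leaf (nat_lit 34304537))) (BT.node (nat_lit 5922048) (BT.leaf (nat_lit 34018077)) (BT.leaf (nat_lit 25903633))))) (BT.node (nat_lit 5922368) (BT.node (nat_lit 5922240) (BT.node (nat_lit 5922176) (BT.leaf (nat_lit 34303757)) (BT.leaf (nat_lit 28553761))) (BT.node (nat_lit 5922304) (BT.leaf (nat_lit 29775877)) (BT.leaf (nat_lit 34304273)))) (BT.node (nat_lit 5922560) (BT.node (nat_lit 5922496) (BT.leaf (nat_lit 35664145)) (BT.leaf (nat_lit 23363861))) (BT.node (nat_lit 5922624) (BT.leaf (nat_lit 34193937)) (BT.leaf (nat_lit 50530573)))))) (BT.node (nat_lit 5923200) (BT.node (nat_lit 5922944) (BT.node (nat_lit 5922816) (BT.node (nat_lit 5922752) (BT.leaf (nat_lit 28444957)) (BT.leaf (nat_lit 47394081))) (BT.node (nat_lit 5922880) (BT.leaf (nat_lit 34309145)) (BT.leaf (nat_lit 27285793)))) (BT.node (nat_lit 5923072) (BT.node (nat_lit 5923008) (BT.leaf (nat_lit 27682337)) (BT.leaf (nat_lit 24198421))) (BT.node (nat_lit 5923136) (BT.leaf (nat_lit 34310157)) (BT.leaf (nat_lit 21143825))))) (BT.node (nat_lit 5923456) (BT.node (nat_lit 5923328) (BT.node (nat_lit 5923264) (BT.leaf (nat_lit 24444437)) (BT.leaf (nat_lit 25815581))) (BT.node (nat_lit 5923392) (BT.leaf (nat_lit 24387333)) (BT.leaf (nat_lit 26667297)))) (BT.node (nat_lit 5923584) (BT.node (nat_lit 5923520) (BT.leaf (nat_lit 34314273)) (BT.leaf (nat_lit 25208837))) (BT.node (nat_lit 5923648) (BT.leaf (nat_lit 35429381)) (BT.leaf (nat_lit 21061657))))))) (BT.node (nat_lit 5924736) (BT.node (nat_lit 5924224) (BT.node (nat_lit 5923968) (BT.node (nat_lit 5923840) (BT.node (nat_lit 5923776) (BT.leaf (nat_lit 22545177)) (BT.leaf (nat_lit 34315297))) (BT.node (nat_lit 5923904) (BT.leaf (nat_lit 34658329)) (BT.leaf (nat_lit 34658333)))) (BT.node (nat_lit 5924096) (BT.node (nat_lit 5924032) (BT.leaf (nat_lit 26017801)) (BT.leaf (nat_lit 20891921))) (BT.node (nat_lit 5924160) (BT.leaf (nat_lit 23586577)) (BT.leaf (nat_lit 34316057))))) (BT.node (nat_lit 5924480) (BT.node (nat_lit 5924352) (BT.node (nat_lit 5924288) (BT.leaf (nat_lit 25248033)) (BT.leaf (nat_lit 51345677))) (BT.node (nat_lit 5924416) (BT.leaf (nat_lit 34316309)) (BT.leaf (nat_lit 21723661)))) (BT.node (nat_lit 5924608) (BT.node (nat_lit 5924544) (BT.leaf (nat_lit 22679841)) (BT.leaf (nat_lit 23158561))) (BT.node (nat_lit 5924672) (BT.leaf (nat_lit 21340949)) (BT.leaf (nat_lit 25728277)))))) (BT.node (nat_lit 5925248) (BT.node (nat_lit 5924992) (BT.node (nat_lit 5924864) (BT.node (nat_lit 5924800) (BT.leaf (nat_lit 21100561)) (BT.leaf (nat_lit 33327109))) (BT.node (nat_lit 5924928) (BT.leaf (nat_lit 31328773)) (BT.leaf (nat_lit 21480737)))) (BT.node (nat_lit 5925120) (BT.node (nat_lit 5925056) (BT.leaf (nat_lit 24227617)) (BT.leaf (nat_lit 21106709))) (BT.node (nat_lit 5925184) (BT.leaf (nat_lit 22518049)) (BT.leaf (nat_lit 22518305))))) (BT.node (nat_lit 5925504) (BT.node (nat_lit 5925376) (BT.node (nat_lit 5925312) (BT.leaf (nat_lit 30824197)) (BT.leaf (nat_lit 21163285))) (BT.node (nat_lit 5925440) (BT.leaf (nat_lit 24691981)) (BT.leaf (nat_lit 34318865)))) (BT.node (nat_lit 5925632) (BT.node (nat_lit 5925568) (BT.leaf (nat_lit 49862425)) (BT.leaf (nat_lit 49862429))) (BT.node (nat_lit 5925696) (BT.leaf (nat_lit 22678817)) (BT.leaf (nat_lit 21231893)))))))) (BT.node (nat_lit 5927808) (BT.node (nat_lit 5926784) (BT.node (nat_lit 5926272) (BT.node (nat_lit 5926016) (BT.node (nat_lit 5925888) (BT.node (nat_lit 5925824) (BT.leaf (nat_lit 21148957)) (BT.leaf (nat_lit 26468621))) (BT.node (nat_lit 5925952) (BT.leaf (nat_lit 25992709)) (BT.leaf (nat_lit 28115213)))) (BT.node (nat_lit 5926144) (BT.node (nat_lit 5926080) (BT.leaf (nat_lit 25757981)) (BT.leaf (nat_lit 34319637))) (BT.node (nat_lit 5926208) (BT.leaf (nat_lit 30876949)) (BT.leaf (nat_lit 29162017))))) (BT.node (nat_lit 5926528) (BT.node (nat_lit 5926400) (BT.node (nat_lit 5926336) (BT.leaf (nat_lit 36389397)) (BT.leaf (nat_lit 27192077))) (BT.node (nat_lit 5926464) (BT.leaf (nat_lit 34321685)) (BT.leaf (nat_lit 30836493)))) (BT.node (nat_lit 5926656) (BT.node (nat_lit 5926592) (BT.leaf (nat_lit 34322453)) (BT.leaf (nat_lit 30838545))) (BT.node (nat_lit 5926720) (BT.leaf (nat_lit 30838289)) (BT.leaf (nat_lit 30840097)))))) (BT.node (nat_lit 5927296) (BT.node (nat_lit 5927040) (BT.node (nat_lit 5926912) (BT.node (nat_lit 5926848) (BT.leaf (nat_lit 30839841)) (BT.leaf (nat_lit 21150485))) (BT.node (nat_lit 5926976) (BT.leaf (nat_lit 29958933)) (BT.leaf (nat_lit 27357717)))) (BT.node (nat_lit 5927168) (BT.node (nat_lit 5927104) (BT.leaf (nat_lit 49852165)) (BT.leaf (nat_lit 22777617))) (BT.node (nat_lit 5927232) (BT.leaf (nat_lit 22777881)) (BT.leaf (nat_lit 34326033))))) (BT.node (nat_lit 5927552) (BT.node (nat_lit 5927424) (BT.node (nat_lit 5927360) (BT.leaf (nat_lit 34327069)) (BT.leaf (nat_lit 23709725))) (BT.node (nat_lit 5927488) (BT.leaf (nat_lit 22216725)) (BT.leaf (nat_lit 34328085)))) (BT.node (nat_lit 5927680) (BT.node (nat_lit 5927616) (BT.leaf (nat_lit 21464865)) (BT.leaf (nat_lit 34327577))) (BT.node (nat_lit 5927744) (BT.leaf (nat_lit 34270229)) (BT.leaf (nat_lit 34270485))))))) (BT.node (nat_lit 5928832) (BT.node (nat_lit 5928320) (BT.node (nat_lit 5928064) (BT.node (nat_lit 5927936) (BT.node (nat_lit 5927872) (BT.leaf (nat_lit 25299481)) (BT.leaf (nat_lit 23081505))) (BT.node (nat_lit 5928000) (BT.leaf (nat_lit 23081761)) (BT.leaf (nat_lit 23082273)))) (BT.node (nat_lit 5928192) (BT.node (nat_lit 5928128) (BT.leaf (nat_lit 23082017)) (BT.leaf (nat_lit 25970693))) (BT.node (nat_lit 5928256) (BT.leaf (nat_lit 51611169)) (BT.leaf (nat_lit 21354005))))) (BT.node (nat_lit 5928576) (BT.node (nat_lit 5928448) (BT.node (nat_lit 5928384) (BT.leaf (nat_lit 25317397)) (BT.leaf (nat_lit 25317405))) (BT.node (nat_lit 5928512) (BT.leaf (nat_lit 26283793)) (BT.leaf (nat_lit 30608417)))) (BT.node (nat_lit 5928704) (BT.node (nat_lit 5928640) (BT.leaf (nat_lit 23138833)) (BT.leaf (nat_lit 34332441))) (BT.node (nat_lit 5928768) (BT.leaf (nat_lit 22923285)) (BT.leaf (nat_lit 30858501)))))) (BT.node (nat_lit 5929344) (BT.node (nat_lit 5929088) (BT.node (nat_lit 5928960) (BT.node (nat_lit 5928896) (BT.leaf (nat_lit 24351493)) (BT.leaf (nat_lit 27590165))) (BT.node (nat_lit 5929024) (BT.leaf (nat_lit 22478089)) (BT.leaf (nat_lit 22478093)))) (BT.node (nat_lit 5929216) (BT.node (nat_lit 5929152) (BT.leaf (nat_lit 22478105)) (BT.leaf (nat_lit 22478109))) (BT.node (nat_lit 5929280) (BT.leaf (nat_lit 31067165)) (BT.leaf (nat_lit 30509853))))) (BT.node (nat_lit 5929600) (BT.node (nat_lit 5929472) (BT.node (nat_lit 5929408) (BT.leaf (nat_lit 30470681)) (BT.leaf (nat_lit 28959505))) (BT.node (nat_lit 5929536) (BT.leaf (nat_lit 27955997)) (BT.leaf (nat_lit 22869269)))) (BT.node (nat_lit 5929728) (BT.node (nat_lit 5929664) (BT.leaf (nat_lit 22869273)) (BT.leaf (nat_lit 23718425))) (BT.node (nat_lit 5929792) (BT.leaf (nat_lit 24163605)) (BT.leaf (nat_lit 24164113))))))))) (BT.node (nat_lit 5933952) (BT.node (nat_lit 5931904) (BT.node (nat_lit 5930880) (BT.node (nat_lit 5930368) (BT.node (nat_lit 5930112) (BT.node (nat_lit 5929984) (BT.node (nat_lit 5929920) (BT.leaf (nat_lit 21182725)) (BT.leaf (nat_lit 23998493))) (BT.node (nat_lit 5930048) (BT.leaf (nat_lit 23997969)) (BT.leaf (nat_lit 21484829)))) (BT.node (nat_lit 5930240) (BT.node (nat_lit 5930176) (BT.leaf (nat_lit 34340385)) (BT.leaf (nat_lit 21155601))) (BT.node (nat_lit 5930304) (BT.leaf (nat_lit 51414277)) (BT.leaf (nat_lit 21430809))))) (BT.node (nat_lit 5930624) (BT.node (nat_lit 5930496) (BT.node (nat_lit 5930432) (BT.leaf (nat_lit 25652741)) (BT.leaf (nat_lit 21814281))) (BT.node (nat_lit 5930560) (BT.leaf (nat_lit 30872849)) (BT.leaf (nat_lit 21814297)))) (BT.node (nat_lit 5930752) (BT.node (nat_lit 5930688) (BT.leaf (nat_lit 21814301)) (BT.leaf (nat_lit 22822421))) (BT.node (nat_lit 5930816) (BT.leaf (nat_lit 30167313)) (BT.leaf (nat_lit 24529669)))))) (BT.node (nat_lit 5931392) (BT.node (nat_lit 5931136) (BT.node (nat_lit 5931008) (BT.node (nat_lit 5930944) (BT.leaf (nat_lit 30166557)) (BT.leaf (nat_lit 29537549))) (BT.node (nat_lit 5931072) (BT.leaf (nat_lit 25934369)) (BT.leaf (nat_lit 25934625)))) (BT.node (nat_lit 5931264) (BT.node (nat_lit 5931200) (BT.leaf (nat_lit 25935137)) (BT.leaf (nat_lit 25934881))) (BT.node (nat_lit 5931328) (BT.leaf (nat_lit 23102753)) (BT.leaf (nat_lit 21404193))))) (BT.node (nat_lit 5931648) (BT.node (nat_lit 5931520) (BT.node (nat_lit 5931456) (BT.leaf (nat_lit 23604513)) (BT.leaf (nat_lit 23552269))) (BT.node (nat_lit 5931584) (BT.leaf (nat_lit 23552281)) (BT.leaf (nat_lit 23552285)))) (BT.node (nat_lit 5931776) (BT.node (nat_lit 5931712) (BT.leaf (nat_lit 24360721)) (BT.leaf (nat_lit 24687125))) (BT.node (nat_lit 5931840) (BT.leaf (nat_lit 23619357)) (BT.leaf (nat_lit 22950417))))))) (BT.node (nat_lit 5932928) (BT.node (nat_lit 5932416) (BT.node (nat_lit 5932160) (BT.node (nat_lit 5932032) (BT.node (nat_lit 5931968) (BT.leaf (nat_lit 36798481)) (BT.leaf (nat_lit 21148433))) (BT.node (nat_lit 5932096) (BT.leaf (nat_lit 21158161)) (BT.leaf (nat_lit 30880277)))) (BT.node (nat_lit 5932288) (BT.node (nat_lit 5932224) (BT.leaf (nat_lit 21157649)) (BT.leaf (nat_lit 23426845))) (BT.node (nat_lit 5932352) (BT.leaf (nat_lit 20793617)) (BT.leaf (nat_lit 34347021))))) (BT.node (nat_lit 5932672) (BT.node (nat_lit 5932544) (BT.node (nat_lit 5932480) (BT.leaf (nat_lit 23617049)) (BT.leaf (nat_lit 21159953))) (BT.node (nat_lit 5932608) (BT.leaf (nat_lit 28997397)) (BT.leaf (nat_lit 28997401)))) (BT.node (nat_lit 5932800) (BT.node (nat_lit 5932736) (BT.leaf (nat_lit 34350853)) (BT.leaf (nat_lit 24822801))) (BT.node (nat_lit 5932864) (BT.leaf (nat_lit 22344213)) (BT.leaf (nat_lit 24824601)))))) (BT.node (nat_lit 5933440) (BT.node (nat_lit 5933184) (BT.node (nat_lit 5933056) (BT.node (nat_lit 5932992) (BT.leaf (nat_lit 33793797)) (BT.leaf (nat_lit 33797645))) (BT.node (nat_lit 5933120) (BT.leaf (nat_lit 50217221)) (BT.leaf (nat_lit 22458641)))) (BT.node (nat_lit 5933312) (BT.node (nat_lit 5933248) (BT.leaf (nat_lit 22997785)) (BT.leaf (nat_lit 22997789))) (BT.node (nat_lit 5933376) (BT.leaf (nat_lit 33355281)) (BT.leaf (nat_lit 34353429))))) (BT.node (nat_lit 5933696) (BT.node (nat_lit 5933568) (BT.node (nat_lit 5933504) (BT.leaf (nat_lit 27117597)) (BT.leaf (nat_lit 34322965))) (BT.node (nat_lit 5933632) (BT.leaf (nat_lit 34354197)) (BT.leaf (nat_lit 33691421)))) (BT.node (nat_lit 5933824) (BT.node (nat_lit 5933760) (BT.leaf (nat_lit 25443093)) (BT.leaf (nat_lit 50133273))) (BT.node (nat_lit 5933888) (BT.leaf (nat_lit 22701597)) (BT.leaf (nat_lit 23894805)))))))) (BT.node (nat_lit 5936000) (BT.node (nat_lit 5934976) (BT.node (nat_lit 5934464) (BT.node (nat_lit 5934208) (BT.node (nat_lit 5934080) (BT.node (nat_lit 5934016) (BT.leaf (nat_lit 27718685)) (BT.leaf (nat_lit 23130401))) (BT.node (nat_lit 5934144) (BT.leaf (nat_lit 34355213)) (BT.leaf (nat_lit 52187161)))) (BT.node (nat_lit 5934336) (BT.node (nat_lit 5934272) (BT.leaf (nat_lit 34355733)) (BT.leaf (nat_lit 33797137))) (BT.node (nat_lit 5934400) (BT.leaf (nat_lit 22453525)) (BT.leaf (nat_lit 23097877))))) (BT.node (nat_lit 5934720) (BT.node (nat_lit 5934592) (BT.node (nat_lit 5934528) (BT.leaf (nat_lit 23711765)) (BT.leaf (nat_lit 21366553))) (BT.node (nat_lit 5934656) (BT.leaf (nat_lit 21366557)) (BT.leaf (nat_lit 34331409)))) (BT.node (nat_lit 5934848) (BT.node (nat_lit 5934784) (BT.leaf (nat_lit 34358293)) (BT.leaf (nat_lit 33787669))) (BT.node (nat_lit 5934912) (BT.leaf (nat_lit 27602453)) (BT.leaf (nat_lit 34333973)))))) (BT.node (nat_lit 5935488) (BT.node (nat_lit 5935232) (BT.node (nat_lit 5935104) (BT.node (nat_lit 5935040) (BT.leaf (nat_lit 50372625)) (BT.leaf (nat_lit 27589397))) (BT.node (nat_lit 5935168) (BT.leaf (nat_lit 22744861)) (BT.leaf (nat_lit 23437593)))) (BT.node (nat_lit 5935360) (BT.node (nat_lit 5935296) (BT.leaf (nat_lit 33804833)) (BT.leaf (nat_lit 25807877))) (BT.node (nat_lit 5935424) (BT.leaf (nat_lit 25300513)) (BT.leaf (nat_lit 33125917))))) (BT.node (nat_lit 5935744) (BT.node (nat_lit 5935616) (BT.node (nat_lit 5935552) (BT.leaf (nat_lit 25987845)) (BT.leaf (nat_lit 21166865))) (BT.node (nat_lit 5935680) (BT.leaf (nat_lit 24631833)) (BT.leaf (nat_lit 21166609)))) (BT.node (nat_lit 5935872) (BT.node (nat_lit 5935808) (BT.leaf (nat_lit 21141265)) (BT.leaf (nat_lit 21167129))) (BT.node (nat_lit 5935936) (BT.leaf (nat_lit 25283353)) (BT.leaf (nat_lit 28047889))))))) (BT.node (nat_lit 5937024) (BT.node (nat_lit 5936512) (BT.node (nat_lit 5936256) (BT.node (nat_lit 5936128) (BT.node (nat_lit 5936064) (BT.leaf (nat_lit 23024417)) (BT.leaf (nat_lit 21124369))) (BT.node (nat_lit 5936192) (BT.leaf (nat_lit 51440397)) (BT.leaf (nat_lit 51166477)))) (BT.node (nat_lit 5936384) (BT.node (nat_lit 5936320) (BT.leaf (nat_lit 36755477)) (BT.leaf (nat_lit 36754965))) (BT.node (nat_lit 5936448) (BT.leaf (nat_lit 34365461)) (BT.leaf (nat_lit 21168145))))) (BT.node (nat_lit 5936768) (BT.node (nat_lit 5936640) (BT.node (nat_lit 5936576) (BT.leaf (nat_lit 51165969)) (BT.leaf (nat_lit 20914961))) (BT.node (nat_lit 5936704) (BT.leaf (nat_lit 23797021)) (BT.leaf (nat_lit 25428501)))) (BT.node (nat_lit 5936896) (BT.node (nat_lit 5936832) (BT.leaf (nat_lit 25428761)) (BT.leaf (nat_lit 32878369))) (BT.node (nat_lit 5936960) (BT.leaf (nat_lit 29018641)) (BT.leaf (nat_lit 35329293)))))) (BT.node (nat_lit 5937536) (BT.node (nat_lit 5937280) (BT.node (nat_lit 5937152) (BT.node (nat_lit 5937088) (BT.leaf (nat_lit 34368529)) (BT.leaf (nat_lit 20980249))) (BT.node (nat_lit 5937216) (BT.leaf (nat_lit 34368789)) (BT.leaf (nat_lit 24908561)))) (BT.node (nat_lit 5937408) (BT.node (nat_lit 5937344) (BT.leaf (nat_lit 23748889)) (BT.leaf (nat_lit 21498913))) (BT.node (nat_lit 5937472) (BT.leaf (nat_lit 21170965)) (BT.leaf (nat_lit 21761557))))) (BT.node (nat_lit 5937792) (BT.node (nat_lit 5937664) (BT.node (nat_lit 5937600) (BT.leaf (nat_lit 34370065)) (BT.leaf (nat_lit 23329545))) (BT.node (nat_lit 5937728) (BT.leaf (nat_lit 23329549)) (BT.leaf (nat_lit 27527445)))) (BT.node (nat_lit 5937920) (BT.node (nat_lit 5937856) (BT.leaf (nat_lit 22372381)) (BT.leaf (nat_lit 33535501))) (BT.node (nat_lit 5937984) (BT.leaf (nat_lit 34371349)) (BT.leaf (nat_lit 21032981))))))))))) (BT.node (nat_lit 5954432) (BT.node (nat_lit 5946240) (BT.node (nat_lit 5942144) (BT.node (nat_lit 5940096) (BT.node (nat_lit 5939072) (BT.node (nat_lit 5938560) (BT.node (nat_lit 5938304) (BT.node (nat_lit 5938176) (BT.node (nat_lit 5938112) (BT.leaf (nat_lit 21616393)) (BT.leaf (nat_lit 21330465))) (BT.node (nat_lit 5938240) (BT.leaf (nat_lit 21171473)) (BT.leaf (nat_lit 20983837)))) (BT.node (nat_lit 5938432) (BT.node (nat_lit 5938368) (BT.leaf (nat_lit 34372117)) (BT.leaf (nat_lit 21171489))) (BT.node (nat_lit 5938496) (BT.leaf (nat_lit 25830405)) (BT.leaf (nat_lit 34372637))))) (BT.node (nat_lit 5938816) (BT.node (nat_lit 5938688) (BT.node (nat_lit 5938624) (BT.leaf (nat_lit 34009885)) (BT.leaf (nat_lit 34372881))) (BT.node (nat_lit 5938752) (BT.leaf (nat_lit 47627545)) (BT.leaf (nat_lit 34009613)))) (BT.node (nat_lit 5938944) (BT.node (nat_lit 5938880) (BT.leaf (nat_lit 34110221)) (BT.leaf (nat_lit 23641121))) (BT.node (nat_lit 5939008) (BT.leaf (nat_lit 25566477)) (BT.leaf (nat_lit 21173009)))))) (BT.node (nat_lit 5939584) (BT.node (nat_lit 5939328) (BT.node (nat_lit 5939200) (BT.node (nat_lit 5939136) (BT.leaf (nat_lit 34374661)) (BT.leaf (nat_lit 25009173))) (BT.node (nat_lit 5939264) (BT.leaf (nat_lit 22707989)) (BT.leaf (nat_lit 25009433)))) (BT.node (nat_lit 5939456) (BT.node (nat_lit 5939392) (BT.leaf (nat_lit 22707993)) (BT.leaf (nat_lit 22707997))) (BT.node (nat_lit 5939520) (BT.leaf (nat_lit 27981593)) (BT.leaf (nat_lit 27328541))))) (BT.node (nat_lit 5939840) (BT.node (nat_lit 5939712) (BT.node (nat_lit 5939648) (BT.leaf (nat_lit 24117785)) (BT.leaf (nat_lit 24117789))) (BT.node (nat_lit 5939776) (BT.leaf (nat_lit 21495045)) (BT.leaf (nat_lit 23758873)))) (BT.node (nat_lit 5939968) (BT.node (nat_lit 5939904) (BT.leaf (nat_lit 30608645)) (BT.leaf (nat_lit 21434129))) (BT.node (nat_lit 5940032) (BT.leaf (nat_lit 21434133)) (BT.leaf (nat_lit 21174045))))))) (BT.node (nat_lit 5941120) (BT.node (nat_lit 5940608) (BT.node (nat_lit 5940352) (BT.node (nat_lit 5940224) (BT.node (nat_lit 5940160) (BT.leaf (nat_lit 21174041)) (BT.leaf (nat_lit 24278305))) (BT.node (nat_lit 5940288) (BT.leaf (nat_lit 24793889)) (BT.leaf (nat_lit 25441305)))) (BT.node (nat_lit 5940480) (BT.node (nat_lit 5940416) (BT.leaf (nat_lit 30943009)) (BT.leaf (nat_lit 24300321))) (BT.node (nat_lit 5940544) (BT.leaf (nat_lit 26700569)) (BT.leaf (nat_lit 24793633))))) (BT.node (nat_lit 5940864) (BT.node (nat_lit 5940736) (BT.node (nat_lit 5940672) (BT.leaf (nat_lit 21496345)) (BT.leaf (nat_lit 34696477))) (BT.node (nat_lit 5940800) (BT.leaf (nat_lit 26773525)) (BT.leaf (nat_lit 23361305)))) (BT.node (nat_lit 5940992) (BT.node (nat_lit 5940928) (BT.leaf (nat_lit 47037445)) (BT.leaf (nat_lit 32859397))) (BT.node (nat_lit 5941056) (BT.leaf (nat_lit 23361813)) (BT.leaf (nat_lit 21175057)))))) (BT.node (nat_lit 5941632) (BT.node (nat_lit 5941376) (BT.node (nat_lit 5941248) (BT.node (nat_lit 5941184) (BT.leaf (nat_lit 21175313)) (BT.leaf (nat_lit 37175825))) (BT.node (nat_lit 5941312) (BT.leaf (nat_lit 34382097)) (BT.leaf (nat_lit 22830597)))) (BT.node (nat_lit 5941504) (BT.node (nat_lit 5941440) (BT.leaf (nat_lit 37175817)) (BT.leaf (nat_lit 21175569))) (BT.node (nat_lit 5941568) (BT.leaf (nat_lit 34383109)) (BT.leaf (nat_lit 34384929))))) (BT.node (nat_lit 5941888) (BT.node (nat_lit 5941760) (BT.node (nat_lit 5941696) (BT.leaf (nat_lit 23766813)) (BT.leaf (nat_lit 35827217))) (BT.node (nat_lit 5941824) (BT.leaf (nat_lit 21763093)) (BT.leaf (nat_lit 21170461)))) (BT.node (nat_lit 5942016) (BT.node (nat_lit 5941952) (BT.leaf (nat_lit 20980253)) (BT.leaf (nat_lit 28429333))) (BT.node (nat_lit 5942080) (BT.leaf (nat_lit 33650973)) (BT.leaf (nat_lit 34151709)))))))) (BT.node (nat_lit 5944192) (BT.node (nat_lit 5943168) (BT.node (nat_lit 5942656) (BT.node (nat_lit 5942400) (BT.node (nat_lit 5942272) (BT.node (nat_lit 5942208) (BT.leaf (nat_lit 34389537)) (BT.leaf (nat_lit 34151961))) (BT.node (nat_lit 5942336) (BT.leaf (nat_lit 23514885)) (BT.leaf (nat_lit 26363921)))) (BT.node (nat_lit 5942528) (BT.node (nat_lit 5942464) (BT.leaf (nat_lit 33650957)) (BT.leaf (nat_lit 34151957))) (BT.node (nat_lit 5942592) (BT.leaf (nat_lit 46897177)) (BT.leaf (nat_lit 22679305))))) (BT.node (nat_lit 5942912) (BT.node (nat_lit 5942784) (BT.node (nat_lit 5942720) (BT.leaf (nat_lit 25168141)) (BT.leaf (nat_lit 34390817))) (BT.node (nat_lit 5942848) (BT.leaf (nat_lit 34391577)) (BT.leaf (nat_lit 30760209)))) (BT.node (nat_lit 5943040) (BT.node (nat_lit 5942976) (BT.leaf (nat_lit 31643665)) (BT.leaf (nat_lit 23771673))) (BT.node (nat_lit 5943104) (BT.leaf (nat_lit 21763861)) (BT.leaf (nat_lit 22697481)))))) (BT.node (nat_lit 5943680) (BT.node (nat_lit 5943424) (BT.node (nat_lit 5943296) (BT.node (nat_lit 5943232) (BT.leaf (nat_lit 23662881)) (BT.leaf (nat_lit 21764117))) (BT.node (nat_lit 5943360) (BT.leaf (nat_lit 22697497)) (BT.leaf (nat_lit 22697501)))) (BT.node (nat_lit 5943552) (BT.node (nat_lit 5943488) (BT.leaf (nat_lit 22806549)) (BT.leaf (nat_lit 23073041))) (BT.node (nat_lit 5943616) (BT.leaf (nat_lit 23073045)) (BT.leaf (nat_lit 24886029))))) (BT.node (nat_lit 5943936) (BT.node (nat_lit 5943808) (BT.node (nat_lit 5943744) (BT.leaf (nat_lit 33948421)) (BT.leaf (nat_lit 21177365))) (BT.node (nat_lit 5943872) (BT.leaf (nat_lit 24886041)) (BT.leaf (nat_lit 24886045)))) (BT.node (nat_lit 5944064) (BT.node (nat_lit 5944000) (BT.leaf (nat_lit 23837713)) (BT.leaf (nat_lit 23838233))) (BT.node (nat_lit 5944128) (BT.leaf (nat_lit 24011529)) (BT.leaf (nat_lit 34374945))))))) (BT.node (nat_lit 5945216) (BT.node (nat_lit 5944704) (BT.node (nat_lit 5944448) (BT.node (nat_lit 5944320) (BT.node (nat_lit 5944256) (BT.leaf (nat_lit 24068381)) (BT.leaf (nat_lit 34398493))) (BT.node (nat_lit 5944384) (BT.leaf (nat_lit 21713437)) (BT.leaf (nat_lit 30632725)))) (BT.node (nat_lit 5944576) (BT.node (nat_lit 5944512) (BT.leaf (nat_lit 30632465)) (BT.leaf (nat_lit 50738445))) (BT.node (nat_lit 5944640) (BT.leaf (nat_lit 32455949)) (BT.leaf (nat_lit 25413917))))) (BT.node (nat_lit 5944960) (BT.node (nat_lit 5944832) (BT.node (nat_lit 5944768) (BT.leaf (nat_lit 24776965)) (BT.leaf (nat_lit 24777249))) (BT.node (nat_lit 5944896) (BT.leaf (nat_lit 27806753)) (BT.leaf (nat_lit 27806745)))) (BT.node (nat_lit 5945088) (BT.node (nat_lit 5945024) (BT.leaf (nat_lit 50870277)) (BT.leaf (nat_lit 30493449))) (BT.node (nat_lit 5945152) (BT.leaf (nat_lit 22882321)) (BT.leaf (nat_lit 30990869)))))) (BT.node (nat_lit 5945728) (BT.node (nat_lit 5945472) (BT.node (nat_lit 5945344) (BT.node (nat_lit 5945280) (BT.leaf (nat_lit 30930193)) (BT.leaf (nat_lit 27838225))) (BT.node (nat_lit 5945408) (BT.leaf (nat_lit 34403349)) (BT.leaf (nat_lit 34404129)))) (BT.node (nat_lit 5945600) (BT.node (nat_lit 5945536) (BT.leaf (nat_lit 22640153)) (BT.leaf (nat_lit 22640157))) (BT.node (nat_lit 5945664) (BT.leaf (nat_lit 23286809)) (BT.leaf (nat_lit 24034821))))) (BT.node (nat_lit 5945984) (BT.node (nat_lit 5945856) (BT.node (nat_lit 5945792) (BT.leaf (nat_lit 25722129)) (BT.leaf (nat_lit 24694293))) (BT.node (nat_lit 5945920) (BT.leaf (nat_lit 22523141)) (BT.leaf (nat_lit 21882897)))) (BT.node (nat_lit 5946112) (BT.node (nat_lit 5946048) (BT.leaf (nat_lit 34405397)) (BT.leaf (nat_lit 26279441))) (BT.node (nat_lit 5946176) (BT.leaf (nat_lit 34405909)) (BT.leaf (nat_lit 50873353))))))))) (BT.node (nat_lit 5950336) (BT.node (nat_lit 5948288) (BT.node (nat_lit 5947264) (BT.node (nat_lit 5946752) (BT.node (nat_lit 5946496) (BT.node (nat_lit 5946368) (BT.node (nat_lit 5946304) (BT.leaf (nat_lit 34406421)) (BT.leaf (nat_lit 21279517))) (BT.node (nat_lit 5946432) (BT.leaf (nat_lit 23124253)) (BT.leaf (nat_lit 23124245)))) (BT.node (nat_lit 5946624) (BT.node (nat_lit 5946560) (BT.leaf (nat_lit 27208965)) (BT.leaf (nat_lit 21088273))) (BT.node (nat_lit 5946688) (BT.leaf (nat_lit 34407189)) (BT.leaf (nat_lit 27623185))))) (BT.node (nat_lit 5947008) (BT.node (nat_lit 5946880) (BT.node (nat_lit 5946816) (BT.leaf (nat_lit 22568473)) (BT.leaf (nat_lit 22568477))) (BT.node (nat_lit 5946944) (BT.leaf (nat_lit 24784901)) (BT.leaf (nat_lit 22533641)))) (BT.node (nat_lit 5947136) (BT.node (nat_lit 5947072) (BT.leaf (nat_lit 23746077)) (BT.leaf (nat_lit 30097933))) (BT.node (nat_lit 5947200) (BT.leaf (nat_lit 43838989)) (BT.leaf (nat_lit 23634709)))))) (BT.node (nat_lit 5947776) (BT.node (nat_lit 5947520) (BT.node (nat_lit 5947392) (BT.node (nat_lit 5947328) (BT.leaf (nat_lit 51556121)) (BT.leaf (nat_lit 51556125))) (BT.node (nat_lit 5947456) (BT.leaf (nat_lit 23949841)) (BT.leaf (nat_lit 34411037)))) (BT.node (nat_lit 5947648) (BT.node (nat_lit 5947584) (BT.leaf (nat_lit 34016797)) (BT.leaf (nat_lit 47948577))) (BT.node (nat_lit 5947712) (BT.leaf (nat_lit 34086169)) (BT.leaf (nat_lit 23755041))))) (BT.node (nat_lit 5948032) (BT.node (nat_lit 5947904) (BT.node (nat_lit 5947840) (BT.leaf (nat_lit 25997333)) (BT.leaf (nat_lit 31023649))) (BT.node (nat_lit 5947968) (BT.leaf (nat_lit 30477845)) (BT.leaf (nat_lit 34413337)))) (BT.node (nat_lit 5948160) (BT.node (nat_lit 5948096) (BT.leaf (nat_lit 21180433)) (BT.leaf (nat_lit 25123609))) (BT.node (nat_lit 5948224) (BT.leaf (nat_lit 28081941)) (BT.leaf (nat_lit 24399389))))))) (BT.node (nat_lit 5949312) (BT.node (nat_lit 5948800) (BT.node (nat_lit 5948544) (BT.node (nat_lit 5948416) (BT.node (nat_lit 5948352) (BT.leaf (nat_lit 34415381)) (BT.leaf (nat_lit 34415637))) (BT.node (nat_lit 5948480) (BT.leaf (nat_lit 34416145)) (BT.leaf (nat_lit 34416669)))) (BT.node (nat_lit 5948672) (BT.node (nat_lit 5948608) (BT.leaf (nat_lit 24835605)) (BT.leaf (nat_lit 25383709))) (BT.node (nat_lit 5948736) (BT.leaf (nat_lit 50500373)) (BT.leaf (nat_lit 23423769))))) (BT.node (nat_lit 5949056) (BT.node (nat_lit 5948928) (BT.node (nat_lit 5948864) (BT.leaf (nat_lit 21180961)) (BT.leaf (nat_lit 23498261))) (BT.node (nat_lit 5948992) (BT.leaf (nat_lit 34417929)) (BT.leaf (nat_lit 23048989)))) (BT.node (nat_lit 5949184) (BT.node (nat_lit 5949120) (BT.leaf (nat_lit 26657297)) (BT.leaf (nat_lit 30493717))) (BT.node (nat_lit 5949248) (BT.leaf (nat_lit 23798557)) (BT.leaf (nat_lit 24838405)))))) (BT.node (nat_lit 5949824) (BT.node (nat_lit 5949568) (BT.node (nat_lit 5949440) (BT.node (nat_lit 5949376) (BT.leaf (nat_lit 30324753)) (BT.leaf (nat_lit 22928909))) (BT.node (nat_lit 5949504) (BT.leaf (nat_lit 50401037)) (BT.leaf (nat_lit 34378505)))) (BT.node (nat_lit 5949696) (BT.node (nat_lit 5949632) (BT.leaf (nat_lit 24840481)) (BT.leaf (nat_lit 24840709))) (BT.node (nat_lit 5949760) (BT.leaf (nat_lit 24338969)) (BT.leaf (nat_lit 47383813))))) (BT.node (nat_lit 5950080) (BT.node (nat_lit 5949952) (BT.node (nat_lit 5949888) (BT.leaf (nat_lit 50519829)) (BT.leaf (nat_lit 31222809))) (BT.node (nat_lit 5950016) (BT.leaf (nat_lit 34421277)) (BT.leaf (nat_lit 21215765)))) (BT.node (nat_lit 5950208) (BT.node (nat_lit 5950144) (BT.leaf (nat_lit 33094433)) (BT.leaf (nat_lit 21215517))) (BT.node (nat_lit 5950272) (BT.leaf (nat_lit 34421521)) (BT.leaf (nat_lit 31613457)))))))) (BT.node (nat_lit 5952384) (BT.node (nat_lit 5951360) (BT.node (nat_lit 5950848) (BT.node (nat_lit 5950592) (BT.node (nat_lit 5950464) (BT.node (nat_lit 5950400) (BT.leaf (nat_lit 22623513)) (BT.leaf (nat_lit 28270853))) (BT.node (nat_lit 5950528) (BT.leaf (nat_lit 28352773)) (BT.leaf (nat_lit 35868437)))) (BT.node (nat_lit 5950720) (BT.node (nat_lit 5950656) (BT.leaf (nat_lit 36284705)) (BT.leaf (nat_lit 30130709))) (BT.node (nat_lit 5950784) (BT.leaf (nat_lit 32889625)) (BT.leaf (nat_lit 35868953))))) (BT.node (nat_lit 5951104) (BT.node (nat_lit 5950976) (BT.node (nat_lit 5950912) (BT.leaf (nat_lit 34423057)) (BT.leaf (nat_lit 34423313))) (BT.node (nat_lit 5951040) (BT.leaf (nat_lit 34423833)) (BT.leaf (nat_lit 34424081)))) (BT.node (nat_lit 5951232) (BT.node (nat_lit 5951168) (BT.leaf (nat_lit 24724001)) (BT.leaf (nat_lit 34424861))) (BT.node (nat_lit 5951296) (BT.leaf (nat_lit 34910741)) (BT.leaf (nat_lit 27836169)))))) (BT.node (nat_lit 5951872) (BT.node (nat_lit 5951616) (BT.node (nat_lit 5951488) (BT.node (nat_lit 5951424) (BT.leaf (nat_lit 25859601)) (BT.leaf (nat_lit 27332613))) (BT.node (nat_lit 5951552) (BT.leaf (nat_lit 27634449)) (BT.leaf (nat_lit 23724577)))) (BT.node (nat_lit 5951744) (BT.node (nat_lit 5951680) (BT.leaf (nat_lit 21919001)) (BT.leaf (nat_lit 25027085))) (BT.node (nat_lit 5951808) (BT.leaf (nat_lit 28550929)) (BT.leaf (nat_lit 24830725))))) (BT.node (nat_lit 5952128) (BT.node (nat_lit 5952000) (BT.node (nat_lit 5951936) (BT.leaf (nat_lit 34427669)) (BT.leaf (nat_lit 23958801))) (BT.node (nat_lit 5952064) (BT.leaf (nat_lit 34428181)) (BT.leaf (nat_lit 33366553)))) (BT.node (nat_lit 5952256) (BT.node (nat_lit 5952192) (BT.leaf (nat_lit 24175377)) (BT.leaf (nat_lit 24138017))) (BT.node (nat_lit 5952320) (BT.leaf (nat_lit 23950105)) (BT.leaf (nat_lit 23950093))))))) (BT.node (nat_lit 5953408) (BT.node (nat_lit 5952896) (BT.node (nat_lit 5952640) (BT.node (nat_lit 5952512) (BT.node (nat_lit 5952448) (BT.leaf (nat_lit 24842245)) (BT.leaf (nat_lit 25817117))) (BT.node (nat_lit 5952576) (BT.leaf (nat_lit 25710097)) (BT.leaf (nat_lit 23810573)))) (BT.node (nat_lit 5952768) (BT.node (nat_lit 5952704) (BT.leaf (nat_lit 21839893)) (BT.leaf (nat_lit 30059285))) (BT.node (nat_lit 5952832) (BT.leaf (nat_lit 22381593)) (BT.leaf (nat_lit 22381597))))) (BT.node (nat_lit 5953152) (BT.node (nat_lit 5953024) (BT.node (nat_lit 5952960) (BT.leaf (nat_lit 21840153)) (BT.leaf (nat_lit 30059289))) (BT.node (nat_lit 5953088) (BT.leaf (nat_lit 28525853)) (BT.leaf (nat_lit 31070981)))) (BT.node (nat_lit 5953280) (BT.node (nat_lit 5953216) (BT.leaf (nat_lit 24102165)) (BT.leaf (nat_lit 29258521))) (BT.node (nat_lit 5953344) (BT.leaf (nat_lit 22532365)) (BT.leaf (nat_lit 22499361)))))) (BT.node (nat_lit 5953920) (BT.node (nat_lit 5953664) (BT.node (nat_lit 5953536) (BT.node (nat_lit 5953472) (BT.leaf (nat_lit 30073873)) (BT.leaf (nat_lit 25018141))) (BT.node (nat_lit 5953600) (BT.leaf (nat_lit 21033241)) (BT.leaf (nat_lit 23642385)))) (BT.node (nat_lit 5953792) (BT.node (nat_lit 5953728) (BT.leaf (nat_lit 27333153)) (BT.leaf (nat_lit 30064417))) (BT.node (nat_lit 5953856) (BT.leaf (nat_lit 22498573)) (BT.leaf (nat_lit 23930401))))) (BT.node (nat_lit 5954176) (BT.node (nat_lit 5954048) (BT.node (nat_lit 5953984) (BT.leaf (nat_lit 34413341)) (BT.leaf (nat_lit 33456405))) (BT.node (nat_lit 5954112) (BT.leaf (nat_lit 34413325)) (BT.leaf (nat_lit 34435861)))) (BT.node (nat_lit 5954304) (BT.node (nat_lit 5954240) (BT.leaf (nat_lit 22852641)) (BT.leaf (nat_lit 22280225))) (BT.node (nat_lit 5954368) (BT.leaf (nat_lit 22279201)) (BT.leaf (nat_lit 24104205)))))))))) (BT.node (nat_lit 5962624) (BT.node (nat_lit 5958528) (BT.node (nat_lit 5956480) (BT.node (nat_lit 5955456) (BT.node (nat_lit 5954944) (BT.node (nat_lit 5954688) (BT.node (nat_lit 5954560) (BT.node (nat_lit 5954496) (BT.leaf (nat_lit 21185309)) (BT.leaf (nat_lit 24104713))) (BT.node (nat_lit 5954624) (BT.leaf (nat_lit 23344145)) (BT.leaf (nat_lit 23344149)))) (BT.node (nat_lit 5954816) (BT.node (nat_lit 5954752) (BT.leaf (nat_lit 26797085)) (BT.leaf (nat_lit 34438429))) (BT.node (nat_lit 5954880) (BT.leaf (nat_lit 37366289)) (BT.leaf (nat_lit 24183577))))) (BT.node (nat_lit 5955200) (BT.node (nat_lit 5955072) (BT.node (nat_lit 5955008) (BT.leaf (nat_lit 32151837)) (BT.leaf (nat_lit 33941781))) (BT.node (nat_lit 5955136) (BT.leaf (nat_lit 21186321)) (BT.leaf (nat_lit 22723605)))) (BT.node (nat_lit 5955328) (BT.node (nat_lit 5955264) (BT.leaf (nat_lit 22723609)) (BT.leaf (nat_lit 22723613))) (BT.node (nat_lit 5955392) (BT.leaf (nat_lit 21850117)) (BT.leaf (nat_lit 34440213)))))) (BT.node (nat_lit 5955968) (BT.node (nat_lit 5955712) (BT.node (nat_lit 5955584) (BT.node (nat_lit 5955520) (BT.leaf (nat_lit 23821577)) (BT.leaf (nat_lit 33760533))) (BT.node (nat_lit 5955648) (BT.leaf (nat_lit 22697989)) (BT.leaf (nat_lit 27809545)))) (BT.node (nat_lit 5955840) (BT.node (nat_lit 5955776) (BT.leaf (nat_lit 34442269)) (BT.leaf (nat_lit 28157973))) (BT.node (nat_lit 5955904) (BT.leaf (nat_lit 34442773)) (BT.leaf (nat_lit 31084553))))) (BT.node (nat_lit 5956224) (BT.node (nat_lit 5956096) (BT.node (nat_lit 5956032) (BT.leaf (nat_lit 33111053)) (BT.leaf (nat_lit 28158729))) (BT.node (nat_lit 5956160) (BT.leaf (nat_lit 23871493)) (BT.leaf (nat_lit 29424673)))) (BT.node (nat_lit 5956352) (BT.node (nat_lit 5956288) (BT.leaf (nat_lit 23783449)) (BT.leaf (nat_lit 34109189))) (BT.node (nat_lit 5956416) (BT.leaf (nat_lit 30331397)) (BT.leaf (nat_lit 33129237))))))) (BT.node (nat_lit 5957504) (BT.node (nat_lit 5956992) (BT.node (nat_lit 5956736) (BT.node (nat_lit 5956608) (BT.node (nat_lit 5956544) (BT.leaf (nat_lit 27603221)) (BT.leaf (nat_lit 34445589))) (BT.node (nat_lit 5956672) (BT.leaf (nat_lit 24533257)) (BT.leaf (nat_lit 34446873)))) (BT.node (nat_lit 5956864) (BT.node (nat_lit 5956800) (BT.leaf (nat_lit 30059293)) (BT.leaf (nat_lit 28735493))) (BT.node (nat_lit 5956928) (BT.leaf (nat_lit 34447637)) (BT.leaf (nat_lit 30206993))))) (BT.node (nat_lit 5957248) (BT.node (nat_lit 5957120) (BT.node (nat_lit 5957056) (BT.leaf (nat_lit 22626329)) (BT.leaf (nat_lit 22626333))) (BT.node (nat_lit 5957184) (BT.leaf (nat_lit 31092765)) (BT.leaf (nat_lit 23260957)))) (BT.node (nat_lit 5957376) (BT.node (nat_lit 5957312) (BT.leaf (nat_lit 22333969)) (BT.leaf (nat_lit 34911261))) (BT.node (nat_lit 5957440) (BT.leaf (nat_lit 29223449)) (BT.leaf (nat_lit 27332113)))))) (BT.node (nat_lit 5958016) (BT.node (nat_lit 5957760) (BT.node (nat_lit 5957632) (BT.node (nat_lit 5957568) (BT.leaf (nat_lit 34449157)) (BT.leaf (nat_lit 21434629))) (BT.node (nat_lit 5957696) (BT.leaf (nat_lit 22469137)) (BT.leaf (nat_lit 28307737)))) (BT.node (nat_lit 5957888) (BT.node (nat_lit 5957824) (BT.leaf (nat_lit 31116057)) (BT.leaf (nat_lit 50404121))) (BT.node (nat_lit 5957952) (BT.leaf (nat_lit 33826329)) (BT.leaf (nat_lit 23674389))))) (BT.node (nat_lit 5958272) (BT.node (nat_lit 5958144) (BT.node (nat_lit 5958080) (BT.leaf (nat_lit 25248005)) (BT.leaf (nat_lit 47117585))) (BT.node (nat_lit 5958208) (BT.leaf (nat_lit 23541513)) (BT.leaf (nat_lit 29047073)))) (BT.node (nat_lit 5958400) (BT.node (nat_lit 5958336) (BT.leaf (nat_lit 24319237)) (BT.leaf (nat_lit 34450969))) (BT.node (nat_lit 5958464) (BT.leaf (nat_lit 34451485)) (BT.leaf (nat_lit 51930385)))))))) (BT.node (nat_lit 5960576) (BT.node (nat_lit 5959552) (BT.node (nat_lit 5959040) (BT.node (nat_lit 5958784) (BT.node (nat_lit 5958656) (BT.node (nat_lit 5958592) (BT.leaf (nat_lit 51389445)) (BT.leaf (nat_lit 34452761))) (BT.node (nat_lit 5958720) (BT.leaf (nat_lit 33628177)) (BT.leaf (nat_lit 46680353)))) (BT.node (nat_lit 5958912) (BT.node (nat_lit 5958848) (BT.leaf (nat_lit 48168465)) (BT.leaf (nat_lit 27318549))) (BT.node (nat_lit 5958976) (BT.leaf (nat_lit 34453777)) (BT.leaf (nat_lit 27318557))))) (BT.node (nat_lit 5959296) (BT.node (nat_lit 5959168) (BT.node (nat_lit 5959104) (BT.leaf (nat_lit 30545681)) (BT.leaf (nat_lit 22395933))) (BT.node (nat_lit 5959232) (BT.leaf (nat_lit 29425173)) (BT.leaf (nat_lit 24208133)))) (BT.node (nat_lit 5959424) (BT.node (nat_lit 5959360) (BT.leaf (nat_lit 22568457)) (BT.leaf (nat_lit 31003681))) (BT.node (nat_lit 5959488) (BT.leaf (nat_lit 34454813)) (BT.leaf (nat_lit 23838237)))))) (BT.node (nat_lit 5960064) (BT.node (nat_lit 5959808) (BT.node (nat_lit 5959680) (BT.node (nat_lit 5959616) (BT.leaf (nat_lit 34455569)) (BT.leaf (nat_lit 23662625))) (BT.node (nat_lit 5959744) (BT.leaf (nat_lit 36958481)) (BT.leaf (nat_lit 33202705)))) (BT.node (nat_lit 5959936) (BT.node (nat_lit 5959872) (BT.leaf (nat_lit 21386513)) (BT.leaf (nat_lit 21375777))) (BT.node (nat_lit 5960000) (BT.leaf (nat_lit 27588365)) (BT.leaf (nat_lit 34458645))))) (BT.node (nat_lit 5960320) (BT.node (nat_lit 5960192) (BT.node (nat_lit 5960128) (BT.leaf (nat_lit 24225541)) (BT.leaf (nat_lit 22573837))) (BT.node (nat_lit 5960256) (BT.leaf (nat_lit 26636817)) (BT.leaf (nat_lit 21182481)))) (BT.node (nat_lit 5960448) (BT.node (nat_lit 5960384) (BT.leaf (nat_lit 21112849)) (BT.leaf (nat_lit 21195793))) (BT.node (nat_lit 5960512) (BT.leaf (nat_lit 22922517)) (BT.leaf (nat_lit 22971653))))))) (BT.node (nat_lit 5961600) (BT.node (nat_lit 5961088) (BT.node (nat_lit 5960832) (BT.node (nat_lit 5960704) (BT.node (nat_lit 5960640) (BT.leaf (nat_lit 22971669)) (BT.leaf (nat_lit 25028121))) (BT.node (nat_lit 5960768) (BT.leaf (nat_lit 23387145)) (BT.leaf (nat_lit 40848653)))) (BT.node (nat_lit 5960960) (BT.node (nat_lit 5960896) (BT.leaf (nat_lit 20839185)) (BT.leaf (nat_lit 22465813))) (BT.node (nat_lit 5961024) (BT.leaf (nat_lit 23843593)) (BT.leaf (nat_lit 22465565))))) (BT.node (nat_lit 5961344) (BT.node (nat_lit 5961216) (BT.node (nat_lit 5961152) (BT.leaf (nat_lit 34278945)) (BT.leaf (nat_lit 23905797))) (BT.node (nat_lit 5961280) (BT.leaf (nat_lit 21209605)) (BT.leaf (nat_lit 22461213)))) (BT.node (nat_lit 5961472) (BT.node (nat_lit 5961408) (BT.leaf (nat_lit 33300501)) (BT.leaf (nat_lit 27498265))) (BT.node (nat_lit 5961536) (BT.leaf (nat_lit 23905813)) (BT.leaf (nat_lit 28112905)))))) (BT.node (nat_lit 5962112) (BT.node (nat_lit 5961856) (BT.node (nat_lit 5961728) (BT.node (nat_lit 5961664) (BT.leaf (nat_lit 34043909)) (BT.leaf (nat_lit 35939357))) (BT.node (nat_lit 5961792) (BT.leaf (nat_lit 27950109)) (BT.leaf (nat_lit 23621393)))) (BT.node (nat_lit 5961984) (BT.node (nat_lit 5961920) (BT.leaf (nat_lit 35939337)) (BT.leaf (nat_lit 34242825))) (BT.node (nat_lit 5962048) (BT.leaf (nat_lit 25571081)) (BT.leaf (nat_lit 46392581))))) (BT.node (nat_lit 5962368) (BT.node (nat_lit 5962240) (BT.node (nat_lit 5962176) (BT.leaf (nat_lit 34466585)) (BT.leaf (nat_lit 23411973))) (BT.node (nat_lit 5962304) (BT.leaf (nat_lit 36425477)) (BT.leaf (nat_lit 24106257)))) (BT.node (nat_lit 5962496) (BT.node (nat_lit 5962432) (BT.leaf (nat_lit 23684377)) (BT.leaf (nat_lit 26416669))) (BT.node (nat_lit 5962560) (BT.leaf (nat_lit 51299861)) (BT.leaf (nat_lit 23422989))))))))) (BT.node (nat_lit 5966720) (BT.node (nat_lit 5964672) (BT.node (nat_lit 5963648) (BT.node (nat_lit 5963136) (BT.node (nat_lit 5962880) (BT.node (nat_lit 5962752) (BT.node (nat_lit 5962688) (BT.leaf (nat_lit 46856469)) (BT.leaf (nat_lit 28014605))) (BT.node (nat_lit 5962816) (BT.leaf (nat_lit 29605665)) (BT.leaf (nat_lit 22533405)))) (BT.node (nat_lit 5963008) (BT.node (nat_lit 5962944) (BT.leaf (nat_lit 29547785)) (BT.leaf (nat_lit 21199633))) (BT.node (nat_lit 5963072) (BT.leaf (nat_lit 21198865)) (BT.leaf (nat_lit 22533385))))) (BT.node (nat_lit 5963392) (BT.node (nat_lit 5963264) (BT.node (nat_lit 5963200) (BT.leaf (nat_lit 23542301)) (BT.leaf (nat_lit 22667281))) (BT.node (nat_lit 5963328) (BT.leaf (nat_lit 22667297)) (BT.leaf (nat_lit 47074325)))) (BT.node (nat_lit 5963520) (BT.node (nat_lit 5963456) (BT.leaf (nat_lit 33103637)) (BT.leaf (nat_lit 30758417))) (BT.node (nat_lit 5963584) (BT.leaf (nat_lit 20780821)) (BT.leaf (nat_lit 31164681)))))) (BT.node (nat_lit 5964160) (BT.node (nat_lit 5963904) (BT.node (nat_lit 5963776) (BT.node (nat_lit 5963712) (BT.leaf (nat_lit 21601301)) (BT.leaf (nat_lit 21200401))) (BT.node (nat_lit 5963840) (BT.leaf (nat_lit 34470929)) (BT.leaf (nat_lit 34471193)))) (BT.node (nat_lit 5964032) (BT.node (nat_lit 5963968) (BT.leaf (nat_lit 26702101)) (BT.leaf (nat_lit 23856157))) (BT.node (nat_lit 5964096) (BT.leaf (nat_lit 27806733)) (BT.leaf (nat_lit 25383457))))) (BT.node (nat_lit 5964416) (BT.node (nat_lit 5964288) (BT.node (nat_lit 5964224) (BT.leaf (nat_lit 25383685)) (BT.leaf (nat_lit 23356193))) (BT.node (nat_lit 5964352) (BT.leaf (nat_lit 22407705)) (BT.leaf (nat_lit 25159709)))) (BT.node (nat_lit 5964544) (BT.node (nat_lit 5964480) (BT.leaf (nat_lit 20882969)) (BT.leaf (nat_lit 20764441))) (BT.node (nat_lit 5964608) (BT.leaf (nat_lit 47338525)) (BT.leaf (nat_lit 26765601))))))) (BT.node (nat_lit 5965696) (BT.node (nat_lit 5965184) (BT.node (nat_lit 5964928) (BT.node (nat_lit 5964800) (BT.node (nat_lit 5964736) (BT.leaf (nat_lit 27359753)) (BT.leaf (nat_lit 22298657))) (BT.node (nat_lit 5964864) (BT.leaf (nat_lit 26649361)) (BT.leaf (nat_lit 34475025)))) (BT.node (nat_lit 5965056) (BT.node (nat_lit 5964992) (BT.leaf (nat_lit 21201181)) (BT.leaf (nat_lit 28339209))) (BT.node (nat_lit 5965120) (BT.leaf (nat_lit 23860489)) (BT.leaf (nat_lit 50528533))))) (BT.node (nat_lit 5965440) (BT.node (nat_lit 5965312) (BT.node (nat_lit 5965248) (BT.leaf (nat_lit 21767965)) (BT.leaf (nat_lit 50137621))) (BT.node (nat_lit 5965376) (BT.leaf (nat_lit 27317253)) (BT.leaf (nat_lit 28340749)))) (BT.node (nat_lit 5965568) (BT.node (nat_lit 5965504) (BT.leaf (nat_lit 34478365)) (BT.leaf (nat_lit 21186069))) (BT.node (nat_lit 5965632) (BT.leaf (nat_lit 27316757)) (BT.leaf (nat_lit 23655961)))))) (BT.node (nat_lit 5966208) (BT.node (nat_lit 5965952) (BT.node (nat_lit 5965824) (BT.node (nat_lit 5965760) (BT.leaf (nat_lit 21779989)) (BT.leaf (nat_lit 23452169))) (BT.node (nat_lit 5965888) (BT.leaf (nat_lit 23452173)) (BT.leaf (nat_lit 23664405)))) (BT.node (nat_lit 5966080) (BT.node (nat_lit 5966016) (BT.leaf (nat_lit 23452185)) (BT.leaf (nat_lit 23452189))) (BT.node (nat_lit 5966144) (BT.leaf (nat_lit 23344901)) (BT.leaf (nat_lit 21203485))))) (BT.node (nat_lit 5966464) (BT.node (nat_lit 5966336) (BT.node (nat_lit 5966272) (BT.leaf (nat_lit 23450901)) (BT.leaf (nat_lit 21203481))) (BT.node (nat_lit 5966400) (BT.leaf (nat_lit 28761861)) (BT.leaf (nat_lit 23664413)))) (BT.node (nat_lit 5966592) (BT.node (nat_lit 5966528) (BT.leaf (nat_lit 24566561)) (BT.leaf (nat_lit 29173273))) (BT.node (nat_lit 5966656) (BT.leaf (nat_lit 28952345)) (BT.leaf (nat_lit 24422933)))))))) (BT.node (nat_lit 5968768) (BT.node (nat_lit 5967744) (BT.node (nat_lit 5967232) (BT.node (nat_lit 5966976) (BT.node (nat_lit 5966848) (BT.node (nat_lit 5966784) (BT.leaf (nat_lit 33356041)) (BT.leaf (nat_lit 36440597))) (BT.node (nat_lit 5966912) (BT.leaf (nat_lit 31188485)) (BT.leaf (nat_lit 50360849)))) (BT.node (nat_lit 5967104) (BT.node (nat_lit 5967040) (BT.leaf (nat_lit 51102729)) (BT.leaf (nat_lit 38956809))) (BT.node (nat_lit 5967168) (BT.leaf (nat_lit 29576733)) (BT.leaf (nat_lit 28518685))))) (BT.node (nat_lit 5967488) (BT.node (nat_lit 5967360) (BT.node (nat_lit 5967296) (BT.leaf (nat_lit 24838161)) (BT.leaf (nat_lit 21203741))) (BT.node (nat_lit 5967424) (BT.leaf (nat_lit 24840465)) (BT.leaf (nat_lit 21203985)))) (BT.node (nat_lit 5967616) (BT.node (nat_lit 5967552) (BT.leaf (nat_lit 23163929)) (BT.leaf (nat_lit 23163933))) (BT.node (nat_lit 5967680) (BT.leaf (nat_lit 27978245)) (BT.leaf (nat_lit 21781269)))))) (BT.node (nat_lit 5968256) (BT.node (nat_lit 5968000) (BT.node (nat_lit 5967872) (BT.node (nat_lit 5967808) (BT.leaf (nat_lit 34488341)) (BT.leaf (nat_lit 21204241))) (BT.node (nat_lit 5967936) (BT.leaf (nat_lit 34488593)) (BT.leaf (nat_lit 23871513)))) (BT.node (nat_lit 5968128) (BT.node (nat_lit 5968064) (BT.leaf (nat_lit 22639901)) (BT.leaf (nat_lit 21781013))) (BT.node (nat_lit 5968192) (BT.leaf (nat_lit 24288789)) (BT.leaf (nat_lit 22563353))))) (BT.node (nat_lit 5968512) (BT.node (nat_lit 5968384) (BT.node (nat_lit 5968320) (BT.leaf (nat_lit 22563357)) (BT.leaf (nat_lit 23260953))) (BT.node (nat_lit 5968448) (BT.leaf (nat_lit 52061981)) (BT.leaf (nat_lit 22324497)))) (BT.node (nat_lit 5968640) (BT.node (nat_lit 5968576) (BT.leaf (nat_lit 27454241)) (BT.leaf (nat_lit 22999581))) (BT.node (nat_lit 5968704) (BT.leaf (nat_lit 47347461)) (BT.leaf (nat_lit 27410977))))))) (BT.node (nat_lit 5969792) (BT.node (nat_lit 5969280) (BT.node (nat_lit 5969024) (BT.node (nat_lit 5968896) (BT.node (nat_lit 5968832) (BT.leaf (nat_lit 48343585)) (BT.leaf (nat_lit 22649633))) (BT.node (nat_lit 5968960) (BT.leaf (nat_lit 33478673)) (BT.leaf (nat_lit 23909905)))) (BT.node (nat_lit 5969152) (BT.node (nat_lit 5969088) (BT.leaf (nat_lit 23696157)) (BT.leaf (nat_lit 34489873))) (BT.node (nat_lit 5969216) (BT.leaf (nat_lit 23876377)) (BT.leaf (nat_lit 20690961))))) (BT.node (nat_lit 5969536) (BT.node (nat_lit 5969408) (BT.node (nat_lit 5969344) (BT.leaf (nat_lit 21298189)) (BT.leaf (nat_lit 34491141))) (BT.node (nat_lit 5969472) (BT.leaf (nat_lit 22346261)) (BT.leaf (nat_lit 21206801)))) (BT.node (nat_lit 5969664) (BT.node (nat_lit 5969600) (BT.leaf (nat_lit 21206805)) (BT.leaf (nat_lit 22477061))) (BT.node (nat_lit 5969728) (BT.leaf (nat_lit 34492181)) (BT.leaf (nat_lit 46972429)))))) (BT.node (nat_lit 5970304) (BT.node (nat_lit 5970048) (BT.node (nat_lit 5969920) (BT.node (nat_lit 5969856) (BT.leaf (nat_lit 49058593)) (BT.leaf (nat_lit 34492697))) (BT.node (nat_lit 5969984) (BT.leaf (nat_lit 27411989)) (BT.leaf (nat_lit 33501457)))) (BT.node (nat_lit 5970176) (BT.node (nat_lit 5970112) (BT.leaf (nat_lit 29103365)) (BT.leaf (nat_lit 46680349))) (BT.node (nat_lit 5970240) (BT.leaf (nat_lit 31223325)) (BT.leaf (nat_lit 23992093))))) (BT.node (nat_lit 5970560) (BT.node (nat_lit 5970432) (BT.node (nat_lit 5970368) (BT.leaf (nat_lit 36581649)) (BT.leaf (nat_lit 23838469))) (BT.node (nat_lit 5970496) (BT.leaf (nat_lit 21346065)) (BT.leaf (nat_lit 25724697)))) (BT.node (nat_lit 5970688) (BT.node (nat_lit 5970624) (BT.leaf (nat_lit 25798417)) (BT.leaf (nat_lit 21394453))) (BT.node (nat_lit 5970752) (BT.leaf (nat_lit 24829445)) (BT.leaf (nat_lit 22651161)))))))))))) (BT.node (nat_lit 6003584) (BT.node (nat_lit 5987200) (BT.node (nat_lit 5979008) (BT.node (nat_lit 5974912) (BT.node (nat_lit 5972864) (BT.node (nat_lit 5971840) (BT.node (nat_lit 5971328) (BT.node (nat_lit 5971072) (BT.node (nat_lit 5970944) (BT.node (nat_lit 5970880) (BT.leaf (nat_lit 32286993)) (BT.leaf (nat_lit 30430753))) (BT.node (nat_lit 5971008) (BT.leaf (nat_lit 34499361)) (BT.leaf (nat_lit 27429401)))) (BT.node (nat_lit 5971200) (BT.node (nat_lit 5971136) (BT.leaf (nat_lit 25060125)) (BT.leaf (nat_lit 28307977))) (BT.node (nat_lit 5971264) (BT.leaf (nat_lit 28308237)) (BT.leaf (nat_lit 21436957))))) (BT.node (nat_lit 5971584) (BT.node (nat_lit 5971456) (BT.node (nat_lit 5971392) (BT.leaf (nat_lit 25617933)) (BT.leaf (nat_lit 31228961))) (BT.node (nat_lit 5971520) (BT.leaf (nat_lit 23419157)) (BT.leaf (nat_lit 21955089)))) (BT.node (nat_lit 5971712) (BT.node (nat_lit 5971648) (BT.leaf (nat_lit 23886105)) (BT.leaf (nat_lit 21209861))) (BT.node (nat_lit 5971776) (BT.leaf (nat_lit 21210137)) (BT.leaf (nat_lit 33899289)))))) (BT.node (nat_lit 5972352) (BT.node (nat_lit 5972096) (BT.node (nat_lit 5971968) (BT.node (nat_lit 5971904) (BT.leaf (nat_lit 31232005)) (BT.leaf (nat_lit 31232261))) (BT.node (nat_lit 5972032) (BT.leaf (nat_lit 28594201)) (BT.leaf (nat_lit 30456593)))) (BT.node (nat_lit 5972224) (BT.node (nat_lit 5972160) (BT.leaf (nat_lit 31233285)) (BT.leaf (nat_lit 22754321))) (BT.node (nat_lit 5972288) (BT.leaf (nat_lit 28021253)) (BT.leaf (nat_lit 24037913))))) (BT.node (nat_lit 5972608) (BT.node (nat_lit 5972480) (BT.node (nat_lit 5972416) (BT.leaf (nat_lit 22617629)) (BT.leaf (nat_lit 23183125))) (BT.node (nat_lit 5972544) (BT.leaf (nat_lit 28372245)) (BT.leaf (nat_lit 47719445)))) (BT.node (nat_lit 5972736) (BT.node (nat_lit 5972672) (BT.leaf (nat_lit 23756057)) (BT.leaf (nat_lit 34507025))) (BT.node (nat_lit 5972800) (BT.leaf (nat_lit 20767505)) (BT.leaf (nat_lit 52207121))))))) (BT.node (nat_lit 5973888) (BT.node (nat_lit 5973376) (BT.node (nat_lit 5973120) (BT.node (nat_lit 5972992) (BT.node (nat_lit 5972928) (BT.leaf (nat_lit 23891225)) (BT.leaf (nat_lit 21790993))) (BT.node (nat_lit 5973056) (BT.leaf (nat_lit 33440033)) (BT.leaf (nat_lit 24114969)))) (BT.node (nat_lit 5973248) (BT.node (nat_lit 5973184) (BT.leaf (nat_lit 34603537)) (BT.leaf (nat_lit 47638285))) (BT.node (nat_lit 5973312) (BT.leaf (nat_lit 25250837)) (BT.leaf (nat_lit 34510353))))) (BT.node (nat_lit 5973632) (BT.node (nat_lit 5973504) (BT.node (nat_lit 5973440) (BT.leaf (nat_lit 34511381)) (BT.leaf (nat_lit 33957653))) (BT.node (nat_lit 5973568) (BT.leaf (nat_lit 24913685)) (BT.leaf (nat_lit 23279117)))) (BT.node (nat_lit 5973760) (BT.node (nat_lit 5973696) (BT.leaf (nat_lit 23278089)) (BT.leaf (nat_lit 33103393))) (BT.node (nat_lit 5973824) (BT.leaf (nat_lit 24913181)) (BT.leaf (nat_lit 21212193)))))) (BT.node (nat_lit 5974400) (BT.node (nat_lit 5974144) (BT.node (nat_lit 5974016) (BT.node (nat_lit 5973952) (BT.leaf (nat_lit 21212449)) (BT.leaf (nat_lit 23487765))) (BT.node (nat_lit 5974080) (BT.leaf (nat_lit 24913941)) (BT.leaf (nat_lit 29232405)))) (BT.node (nat_lit 5974272) (BT.node (nat_lit 5974208) (BT.leaf (nat_lit 29232925)) (BT.leaf (nat_lit 25025297))) (BT.node (nat_lit 5974336) (BT.leaf (nat_lit 32651281)) (BT.leaf (nat_lit 31247633))))) (BT.node (nat_lit 5974656) (BT.node (nat_lit 5974528) (BT.node (nat_lit 5974464) (BT.leaf (nat_lit 47536673)) (BT.leaf (nat_lit 23897625))) (BT.node (nat_lit 5974592) (BT.leaf (nat_lit 46890769)) (BT.leaf (nat_lit 34514205)))) (BT.node (nat_lit 5974784) (BT.node (nat_lit 5974720) (BT.leaf (nat_lit 33271061)) (BT.leaf (nat_lit 27516933))) (BT.node (nat_lit 5974848) (BT.leaf (nat_lit 33270813)) (BT.leaf (nat_lit 24169997)))))))) (BT.node (nat_lit 5976960) (BT.node (nat_lit 5975936) (BT.node (nat_lit 5975424) (BT.node (nat_lit 5975168) (BT.node (nat_lit 5975040) (BT.node (nat_lit 5974976) (BT.leaf (nat_lit 24170009)) (BT.leaf (nat_lit 34517013))) (BT.node (nat_lit 5975104) (BT.leaf (nat_lit 25800977)) (BT.leaf (nat_lit 34517021)))) (BT.node (nat_lit 5975296) (BT.node (nat_lit 5975232) (BT.leaf (nat_lit 33272845)) (BT.leaf (nat_lit 24436485))) (BT.node (nat_lit 5975360) (BT.leaf (nat_lit 23900953)) (BT.leaf (nat_lit 51011849))))) (BT.node (nat_lit 5975680) (BT.node (nat_lit 5975552) (BT.node (nat_lit 5975488) (BT.leaf (nat_lit 28495905)) (BT.leaf (nat_lit 23134745))) (BT.node (nat_lit 5975616) (BT.leaf (nat_lit 24064021)) (BT.leaf (nat_lit 24448017)))) (BT.node (nat_lit 5975808) (BT.node (nat_lit 5975744) (BT.leaf (nat_lit 22560005)) (BT.leaf (nat_lit 24650525))) (BT.node (nat_lit 5975872) (BT.leaf (nat_lit 21215769)) (BT.leaf (nat_lit 23335709)))))) (BT.node (nat_lit 5976448) (BT.node (nat_lit 5976192) (BT.node (nat_lit 5976064) (BT.node (nat_lit 5976000) (BT.leaf (nat_lit 24655637)) (BT.leaf (nat_lit 33801741))) (BT.node (nat_lit 5976128) (BT.leaf (nat_lit 27430165)) (BT.leaf (nat_lit 34042401)))) (BT.node (nat_lit 5976320) (BT.node (nat_lit 5976256) (BT.leaf (nat_lit 26899729)) (BT.leaf (nat_lit 34521361))) (BT.node (nat_lit 5976384) (BT.leaf (nat_lit 25244441)) (BT.leaf (nat_lit 22341649))))) (BT.node (nat_lit 5976704) (BT.node (nat_lit 5976576) (BT.node (nat_lit 5976512) (BT.leaf (nat_lit 34521881)) (BT.leaf (nat_lit 47252485))) (BT.node (nat_lit 5976640) (BT.leaf (nat_lit 34522913)) (BT.leaf (nat_lit 51011857)))) (BT.node (nat_lit 5976832) (BT.node (nat_lit 5976768) (BT.leaf (nat_lit 24283169)) (BT.leaf (nat_lit 22626593))) (BT.node (nat_lit 5976896) (BT.leaf (nat_lit 22626849)) (BT.leaf (nat_lit 22627873))))))) (BT.node (nat_lit 5977984) (BT.node (nat_lit 5977472) (BT.node (nat_lit 5977216) (BT.node (nat_lit 5977088) (BT.node (nat_lit 5977024) (BT.leaf (nat_lit 22627617)) (BT.leaf (nat_lit 30196497))) (BT.node (nat_lit 5977152) (BT.leaf (nat_lit 30026009)) (BT.leaf (nat_lit 34139145)))) (BT.node (nat_lit 5977344) (BT.node (nat_lit 5977280) (BT.leaf (nat_lit 34525981)) (BT.leaf (nat_lit 34435077))) (BT.node (nat_lit 5977408) (BT.leaf (nat_lit 23857173)) (BT.leaf (nat_lit 32183833))))) (BT.node (nat_lit 5977728) (BT.node (nat_lit 5977600) (BT.node (nat_lit 5977536) (BT.leaf (nat_lit 50622241)) (BT.leaf (nat_lit 50322437))) (BT.node (nat_lit 5977664) (BT.leaf (nat_lit 49036573)) (BT.leaf (nat_lit 23910413)))) (BT.node (nat_lit 5977856) (BT.node (nat_lit 5977792) (BT.leaf (nat_lit 48313885)) (BT.leaf (nat_lit 49036553))) (BT.node (nat_lit 5977920) (BT.leaf (nat_lit 23911193)) (BT.leaf (nat_lit 34529297)))))) (BT.node (nat_lit 5978496) (BT.node (nat_lit 5978240) (BT.node (nat_lit 5978112) (BT.node (nat_lit 5978048) (BT.leaf (nat_lit 50471201)) (BT.leaf (nat_lit 27824133))) (BT.node (nat_lit 5978176) (BT.leaf (nat_lit 21216285)) (BT.leaf (nat_lit 20795677)))) (BT.node (nat_lit 5978368) (BT.node (nat_lit 5978304) (BT.leaf (nat_lit 21215773)) (BT.leaf (nat_lit 26021893))) (BT.node (nat_lit 5978432) (BT.leaf (nat_lit 34530081)) (BT.leaf (nat_lit 33094429))))) (BT.node (nat_lit 5978752) (BT.node (nat_lit 5978624) (BT.node (nat_lit 5978560) (BT.leaf (nat_lit 21696529)) (BT.leaf (nat_lit 23914009))) (BT.node (nat_lit 5978688) (BT.leaf (nat_lit 27965977)) (BT.leaf (nat_lit 33483297)))) (BT.node (nat_lit 5978880) (BT.node (nat_lit 5978816) (BT.leaf (nat_lit 34530841)) (BT.leaf (nat_lit 21238041))) (BT.node (nat_lit 5978944) (BT.leaf (nat_lit 27848225)) (BT.leaf (nat_lit 25713937))))))))) (BT.node (nat_lit 5983104) (BT.node (nat_lit 5981056) (BT.node (nat_lit 5980032) (BT.node (nat_lit 5979520) (BT.node (nat_lit 5979264) (BT.node (nat_lit 5979136) (BT.node (nat_lit 5979072) (BT.leaf (nat_lit 34531601)) (BT.leaf (nat_lit 24812045))) (BT.node (nat_lit 5979200) (BT.leaf (nat_lit 33483277)) (BT.leaf (nat_lit 34532881)))) (BT.node (nat_lit 5979392) (BT.node (nat_lit 5979328) (BT.leaf (nat_lit 22478113)) (BT.leaf (nat_lit 30325265))) (BT.node (nat_lit 5979456) (BT.leaf (nat_lit 24799249)) (BT.leaf (nat_lit 21406485))))) (BT.node (nat_lit 5979776) (BT.node (nat_lit 5979648) (BT.node (nat_lit 5979584) (BT.leaf (nat_lit 24799261)) (BT.leaf (nat_lit 21171221))) (BT.node (nat_lit 5979712) (BT.leaf (nat_lit 21437969)) (BT.leaf (nat_lit 24665097)))) (BT.node (nat_lit 5979904) (BT.node (nat_lit 5979840) (BT.leaf (nat_lit 30157081)) (BT.leaf (nat_lit 30157085))) (BT.node (nat_lit 5979968) (BT.leaf (nat_lit 33498645)) (BT.leaf (nat_lit 25634589)))))) (BT.node (nat_lit 5980544) (BT.node (nat_lit 5980288) (BT.node (nat_lit 5980160) (BT.node (nat_lit 5980096) (BT.leaf (nat_lit 21218829)) (BT.leaf (nat_lit 50989593))) (BT.node (nat_lit 5980224) (BT.leaf (nat_lit 34534165)) (BT.leaf (nat_lit 52134153)))) (BT.node (nat_lit 5980416) (BT.node (nat_lit 5980352) (BT.leaf (nat_lit 21348897)) (BT.leaf (nat_lit 23262753))) (BT.node (nat_lit 5980480) (BT.leaf (nat_lit 20686613)) (BT.leaf (nat_lit 21684501))))) (BT.node (nat_lit 5980800) (BT.node (nat_lit 5980672) (BT.node (nat_lit 5980608) (BT.leaf (nat_lit 22790161)) (BT.leaf (nat_lit 51987733))) (BT.node (nat_lit 5980736) (BT.leaf (nat_lit 50400529)) (BT.leaf (nat_lit 51819289)))) (BT.node (nat_lit 5980928) (BT.node (nat_lit 5980864) (BT.leaf (nat_lit 52228361)) (BT.leaf (nat_lit 34536733))) (BT.node (nat_lit 5980992) (BT.leaf (nat_lit 33902869)) (BT.leaf (nat_lit 49894165))))))) (BT.node (nat_lit 5982080) (BT.node (nat_lit 5981568) (BT.node (nat_lit 5981312) (BT.node (nat_lit 5981184) (BT.node (nat_lit 5981120) (BT.leaf (nat_lit 50887177)) (BT.leaf (nat_lit 50887181))) (BT.node (nat_lit 5981248) (BT.leaf (nat_lit 21246485)) (BT.leaf (nat_lit 50887193)))) (BT.node (nat_lit 5981440) (BT.node (nat_lit 5981376) (BT.leaf (nat_lit 50887197)) (BT.leaf (nat_lit 21220621))) (BT.node (nat_lit 5981504) (BT.leaf (nat_lit 21220873)) (BT.leaf (nat_lit 33029397))))) (BT.node (nat_lit 5981824) (BT.node (nat_lit 5981696) (BT.node (nat_lit 5981632) (BT.leaf (nat_lit 21220877)) (BT.leaf (nat_lit 34540053))) (BT.node (nat_lit 5981760) (BT.leaf (nat_lit 21220893)) (BT.leaf (nat_lit 27739909)))) (BT.node (nat_lit 5981952) (BT.node (nat_lit 5981888) (BT.leaf (nat_lit 47725833)) (BT.leaf (nat_lit 36538389))) (BT.node (nat_lit 5982016) (BT.leaf (nat_lit 34127625)) (BT.leaf (nat_lit 29891597)))))) (BT.node (nat_lit 5982592) (BT.node (nat_lit 5982336) (BT.node (nat_lit 5982208) (BT.node (nat_lit 5982144) (BT.leaf (nat_lit 33563421)) (BT.leaf (nat_lit 49884689))) (BT.node (nat_lit 5982272) (BT.leaf (nat_lit 25847061)) (BT.leaf (nat_lit 34540821)))) (BT.node (nat_lit 5982464) (BT.node (nat_lit 5982400) (BT.leaf (nat_lit 22464277)) (BT.leaf (nat_lit 30302213))) (BT.node (nat_lit 5982528) (BT.leaf (nat_lit 28059153)) (BT.leaf (nat_lit 23929881))))) (BT.node (nat_lit 5982848) (BT.node (nat_lit 5982720) (BT.node (nat_lit 5982656) (BT.leaf (nat_lit 27644693)) (BT.leaf (nat_lit 23815197))) (BT.node (nat_lit 5982784) (BT.leaf (nat_lit 24335365)) (BT.leaf (nat_lit 27430689)))) (BT.node (nat_lit 5982976) (BT.node (nat_lit 5982912) (BT.leaf (nat_lit 30730769)) (BT.leaf (nat_lit 23855905))) (BT.node (nat_lit 5983040) (BT.leaf (nat_lit 35629589)) (BT.leaf (nat_lit 29850133)))))))) (BT.node (nat_lit 5985152) (BT.node (nat_lit 5984128) (BT.node (nat_lit 5983616) (BT.node (nat_lit 5983360) (BT.node (nat_lit 5983232) (BT.node (nat_lit 5983168) (BT.leaf (nat_lit 34546449)) (BT.leaf (nat_lit 23932441))) (BT.node (nat_lit 5983296) (BT.leaf (nat_lit 22913797)) (BT.leaf (nat_lit 21445133)))) (BT.node (nat_lit 5983488) (BT.node (nat_lit 5983424) (BT.leaf (nat_lit 21445137)) (BT.leaf (nat_lit 21445145))) (BT.node (nat_lit 5983552) (BT.leaf (nat_lit 23235617)) (BT.leaf (nat_lit 20886557))))) (BT.node (nat_lit 5983872) (BT.node (nat_lit 5983744) (BT.node (nat_lit 5983680) (BT.leaf (nat_lit 23720213)) (BT.leaf (nat_lit 21444625))) (BT.node (nat_lit 5983808) (BT.leaf (nat_lit 34547717)) (BT.leaf (nat_lit 24754457)))) (BT.node (nat_lit 5984000) (BT.node (nat_lit 5983936) (BT.leaf (nat_lit 23962889)) (BT.leaf (nat_lit 21421337))) (BT.node (nat_lit 5984064) (BT.leaf (nat_lit 21222169)) (BT.leaf (nat_lit 27965717)))))) (BT.node (nat_lit 5984640) (BT.node (nat_lit 5984384) (BT.node (nat_lit 5984256) (BT.node (nat_lit 5984192) (BT.leaf (nat_lit 25651997)) (BT.leaf (nat_lit 31108117))) (BT.node (nat_lit 5984320) (BT.leaf (nat_lit 33629977)) (BT.leaf (nat_lit 23696153)))) (BT.node (nat_lit 5984512) (BT.node (nat_lit 5984448) (BT.leaf (nat_lit 22607877)) (BT.leaf (nat_lit 22608133))) (BT.node (nat_lit 5984576) (BT.leaf (nat_lit 22608417)) (BT.leaf (nat_lit 28911133))))) (BT.node (nat_lit 5984896) (BT.node (nat_lit 5984768) (BT.node (nat_lit 5984704) (BT.leaf (nat_lit 21377813)) (BT.leaf (nat_lit 21226261))) (BT.node (nat_lit 5984832) (BT.leaf (nat_lit 21378073)) (BT.leaf (nat_lit 31322909)))) (BT.node (nat_lit 5985024) (BT.node (nat_lit 5984960) (BT.leaf (nat_lit 22490381)) (BT.leaf (nat_lit 21226005))) (BT.node (nat_lit 5985088) (BT.leaf (nat_lit 46696225)) (BT.leaf (nat_lit 27682837))))))) (BT.node (nat_lit 5986176) (BT.node (nat_lit 5985664) (BT.node (nat_lit 5985408) (BT.node (nat_lit 5985280) (BT.node (nat_lit 5985216) (BT.leaf (nat_lit 24523297)) (BT.leaf (nat_lit 24010773))) (BT.node (nat_lit 5985344) (BT.leaf (nat_lit 22490397)) (BT.leaf (nat_lit 23379973)))) (BT.node (nat_lit 5985536) (BT.node (nat_lit 5985472) (BT.leaf (nat_lit 23939849)) (BT.leaf (nat_lit 23937821))) (BT.node (nat_lit 5985600) (BT.leaf (nat_lit 24891145)) (BT.leaf (nat_lit 34556689))))) (BT.node (nat_lit 5985920) (BT.node (nat_lit 5985792) (BT.node (nat_lit 5985728) (BT.leaf (nat_lit 34556961)) (BT.leaf (nat_lit 26008605))) (BT.node (nat_lit 5985856) (BT.leaf (nat_lit 22713873)) (BT.leaf (nat_lit 33876249)))) (BT.node (nat_lit 5986048) (BT.node (nat_lit 5985984) (BT.leaf (nat_lit 24787985)) (BT.leaf (nat_lit 29119261))) (BT.node (nat_lit 5986112) (BT.leaf (nat_lit 22492689)) (BT.leaf (nat_lit 33222161)))))) (BT.node (nat_lit 5986688) (BT.node (nat_lit 5986432) (BT.node (nat_lit 5986304) (BT.node (nat_lit 5986240) (BT.leaf (nat_lit 21377817)) (BT.leaf (nat_lit 21378077))) (BT.node (nat_lit 5986368) (BT.leaf (nat_lit 34557469)) (BT.leaf (nat_lit 50167309)))) (BT.node (nat_lit 5986560) (BT.node (nat_lit 5986496) (BT.leaf (nat_lit 33666325)) (BT.leaf (nat_lit 22974473))) (BT.node (nat_lit 5986624) (BT.leaf (nat_lit 31862305)) (BT.leaf (nat_lit 29284113))))) (BT.node (nat_lit 5986944) (BT.node (nat_lit 5986816) (BT.node (nat_lit 5986752) (BT.leaf (nat_lit 30530321)) (BT.leaf (nat_lit 23596553))) (BT.node (nat_lit 5986880) (BT.leaf (nat_lit 23596569)) (BT.leaf (nat_lit 24360465)))) (BT.node (nat_lit 5987072) (BT.node (nat_lit 5987008) (BT.leaf (nat_lit 24347157)) (BT.leaf (nat_lit 24600581))) (BT.node (nat_lit 5987136) (BT.leaf (nat_lit 24599585)) (BT.leaf (nat_lit 27969821)))))))))) (BT.node (nat_lit 5995392) (BT.node (nat_lit 5991296) (BT.node (nat_lit 5989248) (BT.node (nat_lit 5988224) (BT.node (nat_lit 5987712) (BT.node (nat_lit 5987456) (BT.node (nat_lit 5987328) (BT.node (nat_lit 5987264) (BT.leaf (nat_lit 28755733)) (BT.leaf (nat_lit 29873433))) (BT.node (nat_lit 5987392) (BT.leaf (nat_lit 24243465)) (BT.leaf (nat_lit 33124381)))) (BT.node (nat_lit 5987584) (BT.node (nat_lit 5987520) (BT.leaf (nat_lit 27339013)) (BT.leaf (nat_lit 23789589))) (BT.node (nat_lit 5987648) (BT.leaf (nat_lit 30737173)) (BT.leaf (nat_lit 34709253))))) (BT.node (nat_lit 5987968) (BT.node (nat_lit 5987840) (BT.node (nat_lit 5987776) (BT.leaf (nat_lit 21471773)) (BT.leaf (nat_lit 26498845))) (BT.node (nat_lit 5987904) (BT.leaf (nat_lit 22308365)) (BT.leaf (nat_lit 22308361)))) (BT.node (nat_lit 5988096) (BT.node (nat_lit 5988032) (BT.leaf (nat_lit 24469017)) (BT.leaf (nat_lit 22970137))) (BT.node (nat_lit 5988160) (BT.leaf (nat_lit 34563333)) (BT.leaf (nat_lit 30005261)))))) (BT.node (nat_lit 5988736) (BT.node (nat_lit 5988480) (BT.node (nat_lit 5988352) (BT.node (nat_lit 5988288) (BT.leaf (nat_lit 22308613)) (BT.leaf (nat_lit 27590689))) (BT.node (nat_lit 5988416) (BT.leaf (nat_lit 34563873)) (BT.leaf (nat_lit 34230033)))) (BT.node (nat_lit 5988608) (BT.node (nat_lit 5988544) (BT.leaf (nat_lit 34565913)) (BT.leaf (nat_lit 34565137))) (BT.node (nat_lit 5988672) (BT.leaf (nat_lit 20832025)) (BT.leaf (nat_lit 21229337))))) (BT.node (nat_lit 5988992) (BT.node (nat_lit 5988864) (BT.node (nat_lit 5988800) (BT.leaf (nat_lit 21229853)) (BT.leaf (nat_lit 21229849))) (BT.node (nat_lit 5988928) (BT.leaf (nat_lit 20710673)) (BT.leaf (nat_lit 31342621)))) (BT.node (nat_lit 5989120) (BT.node (nat_lit 5989056) (BT.leaf (nat_lit 21471509)) (BT.leaf (nat_lit 28583441))) (BT.node (nat_lit 5989184) (BT.leaf (nat_lit 22926605)) (BT.leaf (nat_lit 24847125))))))) (BT.node (nat_lit 5990272) (BT.node (nat_lit 5989760) (BT.node (nat_lit 5989504) (BT.node (nat_lit 5989376) (BT.node (nat_lit 5989312) (BT.leaf (nat_lit 22926617)) (BT.leaf (nat_lit 22926621))) (BT.node (nat_lit 5989440) (BT.leaf (nat_lit 46635537)) (BT.leaf (nat_lit 34489105)))) (BT.node (nat_lit 5989632) (BT.node (nat_lit 5989568) (BT.leaf (nat_lit 23950089)) (BT.leaf (nat_lit 23950109))) (BT.node (nat_lit 5989696) (BT.leaf (nat_lit 31197985)) (BT.leaf (nat_lit 33398549))))) (BT.node (nat_lit 5990016) (BT.node (nat_lit 5989888) (BT.node (nat_lit 5989824) (BT.leaf (nat_lit 24243481)) (BT.leaf (nat_lit 26483725))) (BT.node (nat_lit 5989952) (BT.leaf (nat_lit 27912725)) (BT.leaf (nat_lit 34572309)))) (BT.node (nat_lit 5990144) (BT.node (nat_lit 5990080) (BT.leaf (nat_lit 22617873)) (BT.leaf (nat_lit 34573333))) (BT.node (nat_lit 5990208) (BT.leaf (nat_lit 51057681)) (BT.leaf (nat_lit 29877013)))))) (BT.node (nat_lit 5990784) (BT.node (nat_lit 5990528) (BT.node (nat_lit 5990400) (BT.node (nat_lit 5990336) (BT.leaf (nat_lit 34574357)) (BT.leaf (nat_lit 46940689))) (BT.node (nat_lit 5990464) (BT.leaf (nat_lit 21445393)) (BT.leaf (nat_lit 22719521)))) (BT.node (nat_lit 5990656) (BT.node (nat_lit 5990592) (BT.leaf (nat_lit 21182749)) (BT.leaf (nat_lit 23997457))) (BT.node (nat_lit 5990720) (BT.leaf (nat_lit 21486869)) (BT.leaf (nat_lit 34574625))))) (BT.node (nat_lit 5991040) (BT.node (nat_lit 5990912) (BT.node (nat_lit 5990848) (BT.leaf (nat_lit 50013957)) (BT.leaf (nat_lit 34248977))) (BT.node (nat_lit 5990976) (BT.leaf (nat_lit 38307853)) (BT.leaf (nat_lit 34575621)))) (BT.node (nat_lit 5991168) (BT.node (nat_lit 5991104) (BT.leaf (nat_lit 22689045)) (BT.leaf (nat_lit 21458973))) (BT.node (nat_lit 5991232) (BT.leaf (nat_lit 36390433)) (BT.leaf (nat_lit 26660629)))))))) (BT.node (nat_lit 5993344) (BT.node (nat_lit 5992320) (BT.node (nat_lit 5991808) (BT.node (nat_lit 5991552) (BT.node (nat_lit 5991424) (BT.node (nat_lit 5991360) (BT.leaf (nat_lit 22601477)) (BT.leaf (nat_lit 52179997))) (BT.node (nat_lit 5991488) (BT.leaf (nat_lit 33297945)) (BT.leaf (nat_lit 30828549)))) (BT.node (nat_lit 5991680) (BT.node (nat_lit 5991616) (BT.leaf (nat_lit 47194645)) (BT.leaf (nat_lit 23729925))) (BT.node (nat_lit 5991744) (BT.leaf (nat_lit 25045269)) (BT.leaf (nat_lit 36355337))))) (BT.node (nat_lit 5992064) (BT.node (nat_lit 5991936) (BT.node (nat_lit 5991872) (BT.leaf (nat_lit 23051797)) (BT.leaf (nat_lit 50908189))) (BT.node (nat_lit 5992000) (BT.leaf (nat_lit 24304673)) (BT.leaf (nat_lit 22411809)))) (BT.node (nat_lit 5992192) (BT.node (nat_lit 5992128) (BT.leaf (nat_lit 34582033)) (BT.leaf (nat_lit 34582289))) (BT.node (nat_lit 5992256) (BT.leaf (nat_lit 34582557)) (BT.leaf (nat_lit 21235213)))))) (BT.node (nat_lit 5992832) (BT.node (nat_lit 5992576) (BT.node (nat_lit 5992448) (BT.node (nat_lit 5992384) (BT.leaf (nat_lit 21181973)) (BT.leaf (nat_lit 50458657))) (BT.node (nat_lit 5992512) (BT.leaf (nat_lit 21234453)) (BT.leaf (nat_lit 50908185)))) (BT.node (nat_lit 5992704) (BT.node (nat_lit 5992640) (BT.leaf (nat_lit 30133273)) (BT.leaf (nat_lit 27690269))) (BT.node (nat_lit 5992768) (BT.leaf (nat_lit 34583833)) (BT.leaf (nat_lit 23346453))))) (BT.node (nat_lit 5993088) (BT.node (nat_lit 5992960) (BT.node (nat_lit 5992896) (BT.leaf (nat_lit 23971613)) (BT.leaf (nat_lit 24008965))) (BT.node (nat_lit 5993024) (BT.leaf (nat_lit 30133261)) (BT.leaf (nat_lit 25001493)))) (BT.node (nat_lit 5993216) (BT.node (nat_lit 5993152) (BT.leaf (nat_lit 35868957)) (BT.leaf (nat_lit 25390865))) (BT.node (nat_lit 5993280) (BT.leaf (nat_lit 30130205)) (BT.leaf (nat_lit 23803141))))))) (BT.node (nat_lit 5994368) (BT.node (nat_lit 5993856) (BT.node (nat_lit 5993600) (BT.node (nat_lit 5993472) (BT.node (nat_lit 5993408) (BT.leaf (nat_lit 21235737)) (BT.leaf (nat_lit 23803157))) (BT.node (nat_lit 5993536) (BT.leaf (nat_lit 21235741)) (BT.leaf (nat_lit 23970313)))) (BT.node (nat_lit 5993728) (BT.node (nat_lit 5993664) (BT.leaf (nat_lit 27340309)) (BT.leaf (nat_lit 24751621))) (BT.node (nat_lit 5993792) (BT.leaf (nat_lit 30118945)) (BT.leaf (nat_lit 22075421))))) (BT.node (nat_lit 5994112) (BT.node (nat_lit 5993984) (BT.node (nat_lit 5993920) (BT.leaf (nat_lit 21237277)) (BT.leaf (nat_lit 31280417))) (BT.node (nat_lit 5994048) (BT.leaf (nat_lit 34586901)) (BT.leaf (nat_lit 34063905)))) (BT.node (nat_lit 5994240) (BT.node (nat_lit 5994176) (BT.leaf (nat_lit 31676169)) (BT.leaf (nat_lit 24175633))) (BT.node (nat_lit 5994304) (BT.leaf (nat_lit 23206673)) (BT.leaf (nat_lit 23206681)))))) (BT.node (nat_lit 5994880) (BT.node (nat_lit 5994624) (BT.node (nat_lit 5994496) (BT.node (nat_lit 5994432) (BT.leaf (nat_lit 23206685)) (BT.leaf (nat_lit 24456209))) (BT.node (nat_lit 5994560) (BT.leaf (nat_lit 25454865)) (BT.leaf (nat_lit 33628193)))) (BT.node (nat_lit 5994752) (BT.node (nat_lit 5994688) (BT.leaf (nat_lit 49819141)) (BT.leaf (nat_lit 33691657))) (BT.node (nat_lit 5994816) (BT.leaf (nat_lit 34123037)) (BT.leaf (nat_lit 31193361))))) (BT.node (nat_lit 5995136) (BT.node (nat_lit 5995008) (BT.node (nat_lit 5994944) (BT.leaf (nat_lit 29300257)) (BT.leaf (nat_lit 40040709))) (BT.node (nat_lit 5995072) (BT.leaf (nat_lit 21183505)) (BT.leaf (nat_lit 34592017)))) (BT.node (nat_lit 5995264) (BT.node (nat_lit 5995200) (BT.leaf (nat_lit 34592277)) (BT.leaf (nat_lit 21806357))) (BT.node (nat_lit 5995328) (BT.leaf (nat_lit 34592789)) (BT.leaf (nat_lit 21241365))))))))) (BT.node (nat_lit 5999488) (BT.node (nat_lit 5997440) (BT.node (nat_lit 5996416) (BT.node (nat_lit 5995904) (BT.node (nat_lit 5995648) (BT.node (nat_lit 5995520) (BT.node (nat_lit 5995456) (BT.leaf (nat_lit 21240841)) (BT.leaf (nat_lit 34593041))) (BT.node (nat_lit 5995584) (BT.leaf (nat_lit 21699357)) (BT.leaf (nat_lit 46792977)))) (BT.node (nat_lit 5995776) (BT.node (nat_lit 5995712) (BT.leaf (nat_lit 21806617)) (BT.leaf (nat_lit 23490585))) (BT.node (nat_lit 5995840) (BT.leaf (nat_lit 21806605)) (BT.leaf (nat_lit 23982101))))) (BT.node (nat_lit 5996160) (BT.node (nat_lit 5996032) (BT.node (nat_lit 5995968) (BT.leaf (nat_lit 21241361)) (BT.leaf (nat_lit 30671137))) (BT.node (nat_lit 5996096) (BT.leaf (nat_lit 21467669)) (BT.leaf (nat_lit 28296981)))) (BT.node (nat_lit 5996288) (BT.node (nat_lit 5996224) (BT.leaf (nat_lit 23709721)) (BT.leaf (nat_lit 29227545))) (BT.node (nat_lit 5996352) (BT.leaf (nat_lit 24798993)) (BT.leaf (nat_lit 22997773)))))) (BT.node (nat_lit 5996928) (BT.node (nat_lit 5996672) (BT.node (nat_lit 5996544) (BT.node (nat_lit 5996480) (BT.leaf (nat_lit 33429769)) (BT.leaf (nat_lit 25991457))) (BT.node (nat_lit 5996608) (BT.leaf (nat_lit 28486433)) (BT.leaf (nat_lit 25472537)))) (BT.node (nat_lit 5996800) (BT.node (nat_lit 5996736) (BT.leaf (nat_lit 25679649)) (BT.leaf (nat_lit 24033569))) (BT.node (nat_lit 5996864) (BT.leaf (nat_lit 21244949)) (BT.leaf (nat_lit 22815253))))) (BT.node (nat_lit 5997184) (BT.node (nat_lit 5997056) (BT.node (nat_lit 5996992) (BT.leaf (nat_lit 28743449)) (BT.leaf (nat_lit 28757013))) (BT.node (nat_lit 5997120) (BT.leaf (nat_lit 33123333)) (BT.leaf (nat_lit 28876045)))) (BT.node (nat_lit 5997312) (BT.node (nat_lit 5997248) (BT.leaf (nat_lit 21811989)) (BT.leaf (nat_lit 27067921))) (BT.node (nat_lit 5997376) (BT.leaf (nat_lit 34598165)) (BT.leaf (nat_lit 33055237))))))) (BT.node (nat_lit 5998464) (BT.node (nat_lit 5997952) (BT.node (nat_lit 5997696) (BT.node (nat_lit 5997568) (BT.node (nat_lit 5997504) (BT.leaf (nat_lit 28249625)) (BT.leaf (nat_lit 29006357))) (BT.node (nat_lit 5997632) (BT.leaf (nat_lit 30410781)) (BT.leaf (nat_lit 21404181)))) (BT.node (nat_lit 5997824) (BT.node (nat_lit 5997760) (BT.leaf (nat_lit 29395473)) (BT.leaf (nat_lit 29395477))) (BT.node (nat_lit 5997888) (BT.leaf (nat_lit 33519113)) (BT.leaf (nat_lit 34599953))))) (BT.node (nat_lit 5998208) (BT.node (nat_lit 5998080) (BT.node (nat_lit 5998016) (BT.leaf (nat_lit 21244181)) (BT.leaf (nat_lit 34600465))) (BT.node (nat_lit 5998144) (BT.leaf (nat_lit 23992089)) (BT.leaf (nat_lit 34600981)))) (BT.node (nat_lit 5998336) (BT.node (nat_lit 5998272) (BT.leaf (nat_lit 27591685)) (BT.leaf (nat_lit 21245469))) (BT.node (nat_lit 5998400) (BT.leaf (nat_lit 20832029)) (BT.leaf (nat_lit 21244957)))))) (BT.node (nat_lit 5998976) (BT.node (nat_lit 5998720) (BT.node (nat_lit 5998592) (BT.node (nat_lit 5998528) (BT.leaf (nat_lit 21245465)) (BT.leaf (nat_lit 29916949))) (BT.node (nat_lit 5998656) (BT.leaf (nat_lit 22383889)) (BT.leaf (nat_lit 29916705)))) (BT.node (nat_lit 5998848) (BT.node (nat_lit 5998784) (BT.leaf (nat_lit 28937761)) (BT.leaf (nat_lit 24780565))) (BT.node (nat_lit 5998912) (BT.leaf (nat_lit 50040849)) (BT.leaf (nat_lit 21228305))))) (BT.node (nat_lit 5999232) (BT.node (nat_lit 5999104) (BT.node (nat_lit 5999040) (BT.leaf (nat_lit 51752709)) (BT.leaf (nat_lit 25681697))) (BT.node (nat_lit 5999168) (BT.leaf (nat_lit 24033825)) (BT.leaf (nat_lit 22725409)))) (BT.node (nat_lit 5999360) (BT.node (nat_lit 5999296) (BT.leaf (nat_lit 34292485)) (BT.leaf (nat_lit 21245973))) (BT.node (nat_lit 5999424) (BT.leaf (nat_lit 34598173)) (BT.leaf (nat_lit 34604305)))))))) (BT.node (nat_lit 6001536) (BT.node (nat_lit 6000512) (BT.node (nat_lit 6000000) (BT.node (nat_lit 5999744) (BT.node (nat_lit 5999616) (BT.node (nat_lit 5999552) (BT.leaf (nat_lit 26276637)) (BT.leaf (nat_lit 34605341))) (BT.node (nat_lit 5999680) (BT.leaf (nat_lit 25471249)) (BT.leaf (nat_lit 23998489)))) (BT.node (nat_lit 5999872) (BT.node (nat_lit 5999808) (BT.leaf (nat_lit 33109009)) (BT.leaf (nat_lit 21246241))) (BT.node (nat_lit 5999936) (BT.leaf (nat_lit 23783445)) (BT.leaf (nat_lit 34606613))))) (BT.node (nat_lit 6000256) (BT.node (nat_lit 6000128) (BT.node (nat_lit 6000064) (BT.leaf (nat_lit 30539297)) (BT.leaf (nat_lit 31351301))) (BT.node (nat_lit 6000192) (BT.leaf (nat_lit 34607377)) (BT.leaf (nat_lit 23505949)))) (BT.node (nat_lit 6000384) (BT.node (nat_lit 6000320) (BT.leaf (nat_lit 21510677)) (BT.leaf (nat_lit 29627397))) (BT.node (nat_lit 6000448) (BT.leaf (nat_lit 30655265)) (BT.leaf (nat_lit 28134425)))))) (BT.node (nat_lit 6001024) (BT.node (nat_lit 6000768) (BT.node (nat_lit 6000640) (BT.node (nat_lit 6000576) (BT.leaf (nat_lit 22998545)) (BT.leaf (nat_lit 34608917))) (BT.node (nat_lit 6000704) (BT.leaf (nat_lit 34609429)) (BT.leaf (nat_lit 33378081)))) (BT.node (nat_lit 6000896) (BT.node (nat_lit 6000832) (BT.leaf (nat_lit 33378309)) (BT.leaf (nat_lit 33550113))) (BT.node (nat_lit 6000960) (BT.leaf (nat_lit 33256197)) (BT.leaf (nat_lit 23909145))))) (BT.node (nat_lit 6001280) (BT.node (nat_lit 6001152) (BT.node (nat_lit 6001088) (BT.leaf (nat_lit 21248261)) (BT.leaf (nat_lit 21248545))) (BT.node (nat_lit 6001216) (BT.leaf (nat_lit 21401617)) (BT.leaf (nat_lit 27788565)))) (BT.node (nat_lit 6001408) (BT.node (nat_lit 6001344) (BT.leaf (nat_lit 27788569)) (BT.leaf (nat_lit 21318925))) (BT.node (nat_lit 6001472) (BT.leaf (nat_lit 25177349)) (BT.leaf (nat_lit 21247761))))))) (BT.node (nat_lit 6002560) (BT.node (nat_lit 6002048) (BT.node (nat_lit 6001792) (BT.node (nat_lit 6001664) (BT.node (nat_lit 6001600) (BT.leaf (nat_lit 23558681)) (BT.leaf (nat_lit 34612245))) (BT.node (nat_lit 6001728) (BT.leaf (nat_lit 21250581)) (BT.leaf (nat_lit 31145505)))) (BT.node (nat_lit 6001920) (BT.node (nat_lit 6001856) (BT.leaf (nat_lit 23297045)) (BT.leaf (nat_lit 24081677))) (BT.node (nat_lit 6001984) (BT.leaf (nat_lit 34613777)) (BT.leaf (nat_lit 24081673))))) (BT.node (nat_lit 6002304) (BT.node (nat_lit 6002176) (BT.node (nat_lit 6002112) (BT.leaf (nat_lit 24081689)) (BT.leaf (nat_lit 47429409))) (BT.node (nat_lit 6002240) (BT.leaf (nat_lit 33391129)) (BT.leaf (nat_lit 34614545)))) (BT.node (nat_lit 6002432) (BT.node (nat_lit 6002368) (BT.leaf (nat_lit 36132877)) (BT.leaf (nat_lit 21251349))) (BT.node (nat_lit 6002496) (BT.leaf (nat_lit 48955165)) (BT.leaf (nat_lit 33381405)))))) (BT.node (nat_lit 6003072) (BT.node (nat_lit 6002816) (BT.node (nat_lit 6002688) (BT.node (nat_lit 6002624) (BT.leaf (nat_lit 34615817)) (BT.leaf (nat_lit 34616593))) (BT.node (nat_lit 6002752) (BT.leaf (nat_lit 32193293)) (BT.leaf (nat_lit 24178453)))) (BT.node (nat_lit 6002944) (BT.node (nat_lit 6002880) (BT.leaf (nat_lit 50742297)) (BT.leaf (nat_lit 51876129))) (BT.node (nat_lit 6003008) (BT.leaf (nat_lit 49071637)) (BT.leaf (nat_lit 21347345))))) (BT.node (nat_lit 6003328) (BT.node (nat_lit 6003200) (BT.node (nat_lit 6003136) (BT.leaf (nat_lit 28238597)) (BT.leaf (nat_lit 34616845))) (BT.node (nat_lit 6003264) (BT.leaf (nat_lit 48569109)) (BT.leaf (nat_lit 24812569)))) (BT.node (nat_lit 6003456) (BT.node (nat_lit 6003392) (BT.leaf (nat_lit 21509133)) (BT.leaf (nat_lit 22730529))) (BT.node (nat_lit 6003520) (BT.leaf (nat_lit 29750805)) (BT.leaf (nat_lit 36441101))))))))))) (BT.node (nat_lit 6019968) (BT.node (nat_lit 6011776) (BT.node (nat_lit 6007680) (BT.node (nat_lit 6005632) (BT.node (nat_lit 6004608) (BT.node (nat_lit 6004096) (BT.node (nat_lit 6003840) (BT.node (nat_lit 6003712) (BT.node (nat_lit 6003648) (BT.leaf (nat_lit 35331617)) (BT.leaf (nat_lit 23066389))) (BT.node (nat_lit 6003776) (BT.leaf (nat_lit 48343841)) (BT.leaf (nat_lit 25833245)))) (BT.node (nat_lit 6003968) (BT.node (nat_lit 6003904) (BT.leaf (nat_lit 29053725)) (BT.leaf (nat_lit 29697825))) (BT.node (nat_lit 6004032) (BT.leaf (nat_lit 29007109)) (BT.leaf (nat_lit 23202321))))) (BT.node (nat_lit 6004352) (BT.node (nat_lit 6004224) (BT.node (nat_lit 6004160) (BT.leaf (nat_lit 50576389)) (BT.leaf (nat_lit 28629777))) (BT.node (nat_lit 6004288) (BT.leaf (nat_lit 34619153)) (BT.leaf (nat_lit 25635361)))) (BT.node (nat_lit 6004480) (BT.node (nat_lit 6004416) (BT.leaf (nat_lit 25635105)) (BT.leaf (nat_lit 26572577))) (BT.node (nat_lit 6004544) (BT.leaf (nat_lit 25635617)) (BT.leaf (nat_lit 50633489)))))) (BT.node (nat_lit 6005120) (BT.node (nat_lit 6004864) (BT.node (nat_lit 6004736) (BT.node (nat_lit 6004672) (BT.leaf (nat_lit 23979269)) (BT.leaf (nat_lit 22928929))) (BT.node (nat_lit 6004800) (BT.leaf (nat_lit 46342421)) (BT.leaf (nat_lit 24016405)))) (BT.node (nat_lit 6004992) (BT.node (nat_lit 6004928) (BT.leaf (nat_lit 21254673)) (BT.leaf (nat_lit 24019985))) (BT.node (nat_lit 6005056) (BT.leaf (nat_lit 21714965)) (BT.leaf (nat_lit 24023321))))) (BT.node (nat_lit 6005376) (BT.node (nat_lit 6005248) (BT.node (nat_lit 6005184) (BT.leaf (nat_lit 21256461)) (BT.leaf (nat_lit 21256713))) (BT.node (nat_lit 6005312) (BT.leaf (nat_lit 21256457)) (BT.leaf (nat_lit 34623765)))) (BT.node (nat_lit 6005504) (BT.node (nat_lit 6005440) (BT.leaf (nat_lit 30318873)) (BT.leaf (nat_lit 21256733))) (BT.node (nat_lit 6005568) (BT.leaf (nat_lit 21256729)) (BT.leaf (nat_lit 30648853))))))) (BT.node (nat_lit 6006656) (BT.node (nat_lit 6006144) (BT.node (nat_lit 6005888) (BT.node (nat_lit 6005760) (BT.node (nat_lit 6005696) (BT.leaf (nat_lit 31469597)) (BT.leaf (nat_lit 34626073))) (BT.node (nat_lit 6005824) (BT.leaf (nat_lit 24020245)) (BT.leaf (nat_lit 30318609)))) (BT.node (nat_lit 6006016) (BT.node (nat_lit 6005952) (BT.leaf (nat_lit 24023325)) (BT.leaf (nat_lit 29382945))) (BT.node (nat_lit 6006080) (BT.leaf (nat_lit 23132689)) (BT.leaf (nat_lit 34626581))))) (BT.node (nat_lit 6006400) (BT.node (nat_lit 6006272) (BT.node (nat_lit 6006208) (BT.leaf (nat_lit 29135645)) (BT.leaf (nat_lit 24251141))) (BT.node (nat_lit 6006336) (BT.leaf (nat_lit 22499597)) (BT.leaf (nat_lit 22499609)))) (BT.node (nat_lit 6006528) (BT.node (nat_lit 6006464) (BT.leaf (nat_lit 25697569)) (BT.leaf (nat_lit 23813909))) (BT.node (nat_lit 6006592) (BT.leaf (nat_lit 29185553)) (BT.leaf (nat_lit 29185569)))))) (BT.node (nat_lit 6007168) (BT.node (nat_lit 6006912) (BT.node (nat_lit 6006784) (BT.node (nat_lit 6006720) (BT.leaf (nat_lit 23662857)) (BT.leaf (nat_lit 23662861))) (BT.node (nat_lit 6006848) (BT.leaf (nat_lit 30474265)) (BT.leaf (nat_lit 21259037)))) (BT.node (nat_lit 6007040) (BT.node (nat_lit 6006976) (BT.leaf (nat_lit 34628113)) (BT.leaf (nat_lit 21823509))) (BT.node (nat_lit 6007104) (BT.leaf (nat_lit 21494553)) (BT.leaf (nat_lit 21494557))))) (BT.node (nat_lit 6007424) (BT.node (nat_lit 6007296) (BT.node (nat_lit 6007232) (BT.leaf (nat_lit 21261077)) (BT.leaf (nat_lit 22978821))) (BT.node (nat_lit 6007360) (BT.leaf (nat_lit 22979605)) (BT.leaf (nat_lit 33682185)))) (BT.node (nat_lit 6007552) (BT.node (nat_lit 6007488) (BT.leaf (nat_lit 21424661)) (BT.leaf (nat_lit 21258769))) (BT.node (nat_lit 6007616) (BT.leaf (nat_lit 22725665)) (BT.leaf (nat_lit 21039897)))))))) (BT.node (nat_lit 6009728) (BT.node (nat_lit 6008704) (BT.node (nat_lit 6008192) (BT.node (nat_lit 6007936) (BT.node (nat_lit 6007808) (BT.node (nat_lit 6007744) (BT.leaf (nat_lit 21259033)) (BT.leaf (nat_lit 21259805))) (BT.node (nat_lit 6007872) (BT.leaf (nat_lit 21244445)) (BT.leaf (nat_lit 21259293)))) (BT.node (nat_lit 6008064) (BT.node (nat_lit 6008000) (BT.leaf (nat_lit 21259801)) (BT.leaf (nat_lit 30742797))) (BT.node (nat_lit 6008128) (BT.leaf (nat_lit 25664517)) (BT.leaf (nat_lit 28439581))))) (BT.node (nat_lit 6008448) (BT.node (nat_lit 6008320) (BT.node (nat_lit 6008256) (BT.leaf (nat_lit 27762973)) (BT.leaf (nat_lit 30526481))) (BT.node (nat_lit 6008384) (BT.leaf (nat_lit 33421833)) (BT.leaf (nat_lit 24033805)))) (BT.node (nat_lit 6008576) (BT.node (nat_lit 6008512) (BT.leaf (nat_lit 31490069)) (BT.leaf (nat_lit 25453073))) (BT.node (nat_lit 6008640) (BT.leaf (nat_lit 34630673)) (BT.leaf (nat_lit 26423577)))))) (BT.node (nat_lit 6009216) (BT.node (nat_lit 6008960) (BT.node (nat_lit 6008832) (BT.node (nat_lit 6008768) (BT.leaf (nat_lit 24605981)) (BT.leaf (nat_lit 31483149))) (BT.node (nat_lit 6008896) (BT.leaf (nat_lit 31496717)) (BT.leaf (nat_lit 27198741)))) (BT.node (nat_lit 6009088) (BT.node (nat_lit 6009024) (BT.leaf (nat_lit 30104581)) (BT.leaf (nat_lit 21261081))) (BT.node (nat_lit 6009152) (BT.leaf (nat_lit 29262865)) (BT.leaf (nat_lit 33712393))))) (BT.node (nat_lit 6009472) (BT.node (nat_lit 6009344) (BT.node (nat_lit 6009280) (BT.leaf (nat_lit 34116625)) (BT.leaf (nat_lit 29768993))) (BT.node (nat_lit 6009408) (BT.leaf (nat_lit 30715669)) (BT.leaf (nat_lit 24037917)))) (BT.node (nat_lit 6009600) (BT.node (nat_lit 6009536) (BT.leaf (nat_lit 25232145)) (BT.leaf (nat_lit 46851089))) (BT.node (nat_lit 6009664) (BT.leaf (nat_lit 50004741)) (BT.leaf (nat_lit 28004629))))))) (BT.node (nat_lit 6010752) (BT.node (nat_lit 6010240) (BT.node (nat_lit 6009984) (BT.node (nat_lit 6009856) (BT.node (nat_lit 6009792) (BT.leaf (nat_lit 34636057)) (BT.leaf (nat_lit 33545989))) (BT.node (nat_lit 6009920) (BT.leaf (nat_lit 34636565)) (BT.leaf (nat_lit 24039949)))) (BT.node (nat_lit 6010112) (BT.node (nat_lit 6010048) (BT.leaf (nat_lit 25447957)) (BT.leaf (nat_lit 33641493))) (BT.node (nat_lit 6010176) (BT.leaf (nat_lit 34637077)) (BT.leaf (nat_lit 21276441))))) (BT.node (nat_lit 6010496) (BT.node (nat_lit 6010368) (BT.node (nat_lit 6010304) (BT.leaf (nat_lit 21276445)) (BT.leaf (nat_lit 24074501))) (BT.node (nat_lit 6010432) (BT.leaf (nat_lit 35934997)) (BT.leaf (nat_lit 29094937)))) (BT.node (nat_lit 6010624) (BT.node (nat_lit 6010560) (BT.leaf (nat_lit 21826837)) (BT.leaf (nat_lit 24451349))) (BT.node (nat_lit 6010688) (BT.leaf (nat_lit 26483717)) (BT.leaf (nat_lit 23387681)))))) (BT.node (nat_lit 6011264) (BT.node (nat_lit 6011008) (BT.node (nat_lit 6010880) (BT.node (nat_lit 6010816) (BT.leaf (nat_lit 24673045)) (BT.leaf (nat_lit 22614817))) (BT.node (nat_lit 6010944) (BT.leaf (nat_lit 34183709)) (BT.leaf (nat_lit 21267477)))) (BT.node (nat_lit 6011136) (BT.node (nat_lit 6011072) (BT.leaf (nat_lit 29107737)) (BT.leaf (nat_lit 27341833))) (BT.node (nat_lit 6011200) (BT.leaf (nat_lit 30448417)) (BT.leaf (nat_lit 31515149))))) (BT.node (nat_lit 6011520) (BT.node (nat_lit 6011392) (BT.node (nat_lit 6011328) (BT.leaf (nat_lit 22595081)) (BT.leaf (nat_lit 50405917))) (BT.node (nat_lit 6011456) (BT.leaf (nat_lit 36117001)) (BT.leaf (nat_lit 26027285)))) (BT.node (nat_lit 6011648) (BT.node (nat_lit 6011584) (BT.leaf (nat_lit 34642449)) (BT.leaf (nat_lit 22595101))) (BT.node (nat_lit 6011712) (BT.leaf (nat_lit 25846557)) (BT.leaf (nat_lit 46702113))))))))) (BT.node (nat_lit 6015872) (BT.node (nat_lit 6013824) (BT.node (nat_lit 6012800) (BT.node (nat_lit 6012288) (BT.node (nat_lit 6012032) (BT.node (nat_lit 6011904) (BT.node (nat_lit 6011840) (BT.leaf (nat_lit 30801949)) (BT.leaf (nat_lit 21980949))) (BT.node (nat_lit 6011968) (BT.leaf (nat_lit 25672725)) (BT.leaf (nat_lit 27674657)))) (BT.node (nat_lit 6012160) (BT.node (nat_lit 6012096) (BT.leaf (nat_lit 23938849)) (BT.leaf (nat_lit 27675141))) (BT.node (nat_lit 6012224) (BT.leaf (nat_lit 30801929)) (BT.leaf (nat_lit 30801933))))) (BT.node (nat_lit 6012544) (BT.node (nat_lit 6012416) (BT.node (nat_lit 6012352) (BT.leaf (nat_lit 23487777)) (BT.leaf (nat_lit 30801953))) (BT.node (nat_lit 6012480) (BT.leaf (nat_lit 24727325)) (BT.leaf (nat_lit 31533069)))) (BT.node (nat_lit 6012672) (BT.node (nat_lit 6012608) (BT.leaf (nat_lit 36149281)) (BT.leaf (nat_lit 22595857))) (BT.node (nat_lit 6012736) (BT.leaf (nat_lit 50363681)) (BT.leaf (nat_lit 30840089)))))) (BT.node (nat_lit 6013312) (BT.node (nat_lit 6013056) (BT.node (nat_lit 6012928) (BT.node (nat_lit 6012864) (BT.leaf (nat_lit 30840093)) (BT.leaf (nat_lit 22645509))) (BT.node (nat_lit 6012992) (BT.leaf (nat_lit 21414421)) (BT.leaf (nat_lit 34643985)))) (BT.node (nat_lit 6013184) (BT.node (nat_lit 6013120) (BT.leaf (nat_lit 24051993)) (BT.leaf (nat_lit 20800789))) (BT.node (nat_lit 6013248) (BT.leaf (nat_lit 34046497)) (BT.leaf (nat_lit 20801045))))) (BT.node (nat_lit 6013568) (BT.node (nat_lit 6013440) (BT.node (nat_lit 6013376) (BT.leaf (nat_lit 21859089)) (BT.leaf (nat_lit 34644765))) (BT.node (nat_lit 6013504) (BT.leaf (nat_lit 34645277)) (BT.leaf (nat_lit 34646045)))) (BT.node (nat_lit 6013696) (BT.node (nat_lit 6013632) (BT.leaf (nat_lit 33622545)) (BT.leaf (nat_lit 34728465))) (BT.node (nat_lit 6013760) (BT.leaf (nat_lit 21272081)) (BT.leaf (nat_lit 24224285))))))) (BT.node (nat_lit 6014848) (BT.node (nat_lit 6014336) (BT.node (nat_lit 6014080) (BT.node (nat_lit 6013952) (BT.node (nat_lit 6013888) (BT.leaf (nat_lit 23186961)) (BT.leaf (nat_lit 28512545))) (BT.node (nat_lit 6014016) (BT.leaf (nat_lit 26649349)) (BT.leaf (nat_lit 22591509)))) (BT.node (nat_lit 6014208) (BT.node (nat_lit 6014144) (BT.leaf (nat_lit 20844817)) (BT.leaf (nat_lit 33171205))) (BT.node (nat_lit 6014272) (BT.leaf (nat_lit 34649873)) (BT.leaf (nat_lit 34650385))))) (BT.node (nat_lit 6014592) (BT.node (nat_lit 6014464) (BT.node (nat_lit 6014400) (BT.leaf (nat_lit 24057113)) (BT.leaf (nat_lit 26326789))) (BT.node (nat_lit 6014528) (BT.leaf (nat_lit 20728081)) (BT.leaf (nat_lit 34650885)))) (BT.node (nat_lit 6014720) (BT.node (nat_lit 6014656) (BT.leaf (nat_lit 47139597)) (BT.leaf (nat_lit 21316629))) (BT.node (nat_lit 6014784) (BT.leaf (nat_lit 33523473)) (BT.leaf (nat_lit 21045781)))))) (BT.node (nat_lit 6015360) (BT.node (nat_lit 6015104) (BT.node (nat_lit 6014976) (BT.node (nat_lit 6014912) (BT.leaf (nat_lit 34653461)) (BT.leaf (nat_lit 20696593))) (BT.node (nat_lit 6015040) (BT.leaf (nat_lit 21316637)) (BT.leaf (nat_lit 22434841)))) (BT.node (nat_lit 6015232) (BT.node (nat_lit 6015168) (BT.leaf (nat_lit 32519941)) (BT.leaf (nat_lit 21546525))) (BT.node (nat_lit 6015296) (BT.leaf (nat_lit 21273629)) (BT.leaf (nat_lit 28080413))))) (BT.node (nat_lit 6015616) (BT.node (nat_lit 6015488) (BT.node (nat_lit 6015424) (BT.leaf (nat_lit 29491985)) (BT.leaf (nat_lit 52401669))) (BT.node (nat_lit 6015552) (BT.leaf (nat_lit 20897561)) (BT.leaf (nat_lit 22501137)))) (BT.node (nat_lit 6015744) (BT.node (nat_lit 6015680) (BT.leaf (nat_lit 22501141)) (BT.leaf (nat_lit 52441361))) (BT.node (nat_lit 6015808) (BT.leaf (nat_lit 25476113)) (BT.leaf (nat_lit 30590229)))))))) (BT.node (nat_lit 6017920) (BT.node (nat_lit 6016896) (BT.node (nat_lit 6016384) (BT.node (nat_lit 6016128) (BT.node (nat_lit 6016000) (BT.node (nat_lit 6015936) (BT.leaf (nat_lit 21370641)) (BT.leaf (nat_lit 52332045))) (BT.node (nat_lit 6016064) (BT.leaf (nat_lit 23901969)) (BT.leaf (nat_lit 34198817)))) (BT.node (nat_lit 6016256) (BT.node (nat_lit 6016192) (BT.leaf (nat_lit 52239637)) (BT.leaf (nat_lit 22967321))) (BT.node (nat_lit 6016320) (BT.leaf (nat_lit 28109829)) (BT.leaf (nat_lit 25311009))))) (BT.node (nat_lit 6016640) (BT.node (nat_lit 6016512) (BT.node (nat_lit 6016448) (BT.leaf (nat_lit 25699093)) (BT.leaf (nat_lit 35370781))) (BT.node (nat_lit 6016576) (BT.leaf (nat_lit 34659349)) (BT.leaf (nat_lit 34659857)))) (BT.node (nat_lit 6016768) (BT.node (nat_lit 6016704) (BT.leaf (nat_lit 27682065)) (BT.leaf (nat_lit 27682069))) (BT.node (nat_lit 6016832) (BT.leaf (nat_lit 28642065)) (BT.leaf (nat_lit 28642069)))))) (BT.node (nat_lit 6017408) (BT.node (nat_lit 6017152) (BT.node (nat_lit 6017024) (BT.node (nat_lit 6016960) (BT.leaf (nat_lit 23289605)) (BT.leaf (nat_lit 29081621))) (BT.node (nat_lit 6017088) (BT.leaf (nat_lit 24068365)) (BT.leaf (nat_lit 21845013)))) (BT.node (nat_lit 6017280) (BT.node (nat_lit 6017216) (BT.leaf (nat_lit 30363425)) (BT.leaf (nat_lit 21845273))) (BT.node (nat_lit 6017344) (BT.leaf (nat_lit 30363157)) (BT.leaf (nat_lit 25568789))))) (BT.node (nat_lit 6017664) (BT.node (nat_lit 6017536) (BT.node (nat_lit 6017472) (BT.leaf (nat_lit 24158489)) (BT.leaf (nat_lit 27753741))) (BT.node (nat_lit 6017600) (BT.leaf (nat_lit 22646545)) (BT.leaf (nat_lit 34663709)))) (BT.node (nat_lit 6017792) (BT.node (nat_lit 6017728) (BT.leaf (nat_lit 34664209)) (BT.leaf (nat_lit 34664465))) (BT.node (nat_lit 6017856) (BT.leaf (nat_lit 34664733)) (BT.leaf (nat_lit 21276949))))))) (BT.node (nat_lit 6018944) (BT.node (nat_lit 6018432) (BT.node (nat_lit 6018176) (BT.node (nat_lit 6018048) (BT.node (nat_lit 6017984) (BT.leaf (nat_lit 22281497)) (BT.leaf (nat_lit 51932185))) (BT.node (nat_lit 6018112) (BT.leaf (nat_lit 25727261)) (BT.leaf (nat_lit 33998341)))) (BT.node (nat_lit 6018304) (BT.node (nat_lit 6018240) (BT.leaf (nat_lit 23341061)) (BT.leaf (nat_lit 24483845))) (BT.node (nat_lit 6018368) (BT.leaf (nat_lit 29504785)) (BT.leaf (nat_lit 34666257))))) (BT.node (nat_lit 6018688) (BT.node (nat_lit 6018560) (BT.node (nat_lit 6018496) (BT.leaf (nat_lit 25360405)) (BT.leaf (nat_lit 34666513))) (BT.node (nat_lit 6018624) (BT.leaf (nat_lit 34666773)) (BT.leaf (nat_lit 21278481)))) (BT.node (nat_lit 6018816) (BT.node (nat_lit 6018752) (BT.leaf (nat_lit 34667013)) (BT.leaf (nat_lit 29850117))) (BT.node (nat_lit 6018880) (BT.leaf (nat_lit 28576537)) (BT.leaf (nat_lit 31691289)))))) (BT.node (nat_lit 6019456) (BT.node (nat_lit 6019200) (BT.node (nat_lit 6019072) (BT.node (nat_lit 6019008) (BT.leaf (nat_lit 35791137)) (BT.leaf (nat_lit 23160609))) (BT.node (nat_lit 6019136) (BT.leaf (nat_lit 22603801)) (BT.leaf (nat_lit 24402709)))) (BT.node (nat_lit 6019328) (BT.node (nat_lit 6019264) (BT.leaf (nat_lit 28128525)) (BT.leaf (nat_lit 23051025))) (BT.node (nat_lit 6019392) (BT.leaf (nat_lit 26713109)) (BT.leaf (nat_lit 36355593))))) (BT.node (nat_lit 6019712) (BT.node (nat_lit 6019584) (BT.node (nat_lit 6019520) (BT.leaf (nat_lit 34010401)) (BT.leaf (nat_lit 28027681))) (BT.node (nat_lit 6019648) (BT.leaf (nat_lit 28027937)) (BT.leaf (nat_lit 28632609)))) (BT.node (nat_lit 6019840) (BT.node (nat_lit 6019776) (BT.leaf (nat_lit 31117857)) (BT.leaf (nat_lit 21308957))) (BT.node (nat_lit 6019904) (BT.leaf (nat_lit 46566169)) (BT.leaf (nat_lit 21307405)))))))))) (BT.node (nat_lit 6028160) (BT.node (nat_lit 6024064) (BT.node (nat_lit 6022016) (BT.node (nat_lit 6020992) (BT.node (nat_lit 6020480) (BT.node (nat_lit 6020224) (BT.node (nat_lit 6020096) (BT.node (nat_lit 6020032) (BT.leaf (nat_lit 46566153)) (BT.leaf (nat_lit 24195085))) (BT.node (nat_lit 6020160) (BT.leaf (nat_lit 34668817)) (BT.leaf (nat_lit 34669593)))) (BT.node (nat_lit 6020352) (BT.node (nat_lit 6020288) (BT.leaf (nat_lit 24311313)) (BT.leaf (nat_lit 30550549))) (BT.node (nat_lit 6020416) (BT.leaf (nat_lit 24081693)) (BT.leaf (nat_lit 25801237))))) (BT.node (nat_lit 6020736) (BT.node (nat_lit 6020608) (BT.node (nat_lit 6020544) (BT.leaf (nat_lit 34671129)) (BT.leaf (nat_lit 30369293))) (BT.node (nat_lit 6020672) (BT.leaf (nat_lit 23560209)) (BT.leaf (nat_lit 49071897)))) (BT.node (nat_lit 6020864) (BT.node (nat_lit 6020800) (BT.leaf (nat_lit 21373465)) (BT.leaf (nat_lit 31019285))) (BT.node (nat_lit 6020928) (BT.leaf (nat_lit 21373453)) (BT.leaf (nat_lit 28294661)))))) (BT.node (nat_lit 6021504) (BT.node (nat_lit 6021248) (BT.node (nat_lit 6021120) (BT.node (nat_lit 6021056) (BT.leaf (nat_lit 51930129)) (BT.leaf (nat_lit 25624597))) (BT.node (nat_lit 6021184) (BT.leaf (nat_lit 24207629)) (BT.leaf (nat_lit 25840153)))) (BT.node (nat_lit 6021376) (BT.node (nat_lit 6021312) (BT.leaf (nat_lit 36028421)) (BT.leaf (nat_lit 21280529))) (BT.node (nat_lit 6021440) (BT.leaf (nat_lit 23955481)) (BT.leaf (nat_lit 23955485))))) (BT.node (nat_lit 6021760) (BT.node (nat_lit 6021632) (BT.node (nat_lit 6021568) (BT.leaf (nat_lit 30964229)) (BT.leaf (nat_lit 24086545))) (BT.node (nat_lit 6021696) (BT.leaf (nat_lit 21564949)) (BT.leaf (nat_lit 34674713)))) (BT.node (nat_lit 6021888) (BT.node (nat_lit 6021824) (BT.leaf (nat_lit 26115093)) (BT.leaf (nat_lit 22974749))) (BT.node (nat_lit 6021952) (BT.leaf (nat_lit 23007237)) (BT.leaf (nat_lit 34674961))))))) (BT.node (nat_lit 6023040) (BT.node (nat_lit 6022528) (BT.node (nat_lit 6022272) (BT.node (nat_lit 6022144) (BT.node (nat_lit 6022080) (BT.leaf (nat_lit 24087833)) (BT.leaf (nat_lit 34675477))) (BT.node (nat_lit 6022208) (BT.leaf (nat_lit 23008005)) (BT.leaf (nat_lit 24674069)))) (BT.node (nat_lit 6022400) (BT.node (nat_lit 6022336) (BT.leaf (nat_lit 29501469)) (BT.leaf (nat_lit 22228757))) (BT.node (nat_lit 6022464) (BT.leaf (nat_lit 31599109)) (BT.leaf (nat_lit 33244185))))) (BT.node (nat_lit 6022784) (BT.node (nat_lit 6022656) (BT.node (nat_lit 6022592) (BT.leaf (nat_lit 28538133)) (BT.leaf (nat_lit 22849565))) (BT.node (nat_lit 6022720) (BT.leaf (nat_lit 25403153)) (BT.leaf (nat_lit 50983713)))) (BT.node (nat_lit 6022912) (BT.node (nat_lit 6022848) (BT.leaf (nat_lit 34678037)) (BT.leaf (nat_lit 29118241))) (BT.node (nat_lit 6022976) (BT.leaf (nat_lit 28522261)) (BT.leaf (nat_lit 21396245)))))) (BT.node (nat_lit 6023552) (BT.node (nat_lit 6023296) (BT.node (nat_lit 6023168) (BT.node (nat_lit 6023104) (BT.leaf (nat_lit 30102789)) (BT.leaf (nat_lit 34677789))) (BT.node (nat_lit 6023232) (BT.leaf (nat_lit 23272473)) (BT.leaf (nat_lit 24213793)))) (BT.node (nat_lit 6023424) (BT.node (nat_lit 6023360) (BT.leaf (nat_lit 21840917)) (BT.leaf (nat_lit 23810589))) (BT.node (nat_lit 6023488) (BT.leaf (nat_lit 46967557)) (BT.leaf (nat_lit 21840661))))) (BT.node (nat_lit 6023808) (BT.node (nat_lit 6023680) (BT.node (nat_lit 6023616) (BT.leaf (nat_lit 25085453)) (BT.leaf (nat_lit 29440277))) (BT.node (nat_lit 6023744) (BT.leaf (nat_lit 34681877)) (BT.leaf (nat_lit 34682653)))) (BT.node (nat_lit 6023936) (BT.node (nat_lit 6023872) (BT.leaf (nat_lit 21184277)) (BT.leaf (nat_lit 23079965))) (BT.node (nat_lit 6024000) (BT.leaf (nat_lit 27443477)) (BT.leaf (nat_lit 21283861)))))))) (BT.node (nat_lit 6026112) (BT.node (nat_lit 6025088) (BT.node (nat_lit 6024576) (BT.node (nat_lit 6024320) (BT.node (nat_lit 6024192) (BT.node (nat_lit 6024128) (BT.leaf (nat_lit 34682637)) (BT.leaf (nat_lit 25085469))) (BT.node (nat_lit 6024256) (BT.leaf (nat_lit 34683149)) (BT.leaf (nat_lit 34684693)))) (BT.node (nat_lit 6024448) (BT.node (nat_lit 6024384) (BT.leaf (nat_lit 29858825)) (BT.leaf (nat_lit 34685973))) (BT.node (nat_lit 6024512) (BT.leaf (nat_lit 21854229)) (BT.leaf (nat_lit 33321237))))) (BT.node (nat_lit 6024832) (BT.node (nat_lit 6024704) (BT.node (nat_lit 6024640) (BT.leaf (nat_lit 24812049)) (BT.leaf (nat_lit 24812065))) (BT.node (nat_lit 6024768) (BT.leaf (nat_lit 33069077)) (BT.leaf (nat_lit 28280081)))) (BT.node (nat_lit 6024960) (BT.node (nat_lit 6024896) (BT.leaf (nat_lit 21196057)) (BT.leaf (nat_lit 36361501))) (BT.node (nat_lit 6025024) (BT.leaf (nat_lit 25420061)) (BT.leaf (nat_lit 51152393)))))) (BT.node (nat_lit 6025600) (BT.node (nat_lit 6025344) (BT.node (nat_lit 6025216) (BT.node (nat_lit 6025152) (BT.leaf (nat_lit 31077141)) (BT.leaf (nat_lit 34015261))) (BT.node (nat_lit 6025280) (BT.leaf (nat_lit 31782165)) (BT.leaf (nat_lit 21285641)))) (BT.node (nat_lit 6025472) (BT.node (nat_lit 6025408) (BT.leaf (nat_lit 50437665)) (BT.leaf (nat_lit 34438165))) (BT.node (nat_lit 6025536) (BT.leaf (nat_lit 24781837)) (BT.leaf (nat_lit 29217805))))) (BT.node (nat_lit 6025856) (BT.node (nat_lit 6025728) (BT.node (nat_lit 6025664) (BT.leaf (nat_lit 29217809)) (BT.leaf (nat_lit 29217825))) (BT.node (nat_lit 6025792) (BT.leaf (nat_lit 25586197)) (BT.leaf (nat_lit 34690821)))) (BT.node (nat_lit 6025984) (BT.node (nat_lit 6025920) (BT.leaf (nat_lit 49636617)) (BT.leaf (nat_lit 21041177))) (BT.node (nat_lit 6026048) (BT.leaf (nat_lit 21286169)) (BT.leaf (nat_lit 34691861))))))) (BT.node (nat_lit 6027136) (BT.node (nat_lit 6026624) (BT.node (nat_lit 6026368) (BT.node (nat_lit 6026240) (BT.node (nat_lit 6026176) (BT.leaf (nat_lit 29453089)) (BT.leaf (nat_lit 24232213))) (BT.node (nat_lit 6026304) (BT.leaf (nat_lit 24995593)) (BT.leaf (nat_lit 24604165)))) (BT.node (nat_lit 6026496) (BT.node (nat_lit 6026432) (BT.leaf (nat_lit 48150537)) (BT.leaf (nat_lit 25061905))) (BT.node (nat_lit 6026560) (BT.leaf (nat_lit 50677789)) (BT.leaf (nat_lit 23215893))))) (BT.node (nat_lit 6026880) (BT.node (nat_lit 6026752) (BT.node (nat_lit 6026688) (BT.leaf (nat_lit 23279641)) (BT.leaf (nat_lit 24107037))) (BT.node (nat_lit 6026816) (BT.leaf (nat_lit 33267973)) (BT.leaf (nat_lit 25622789)))) (BT.node (nat_lit 6027008) (BT.node (nat_lit 6026944) (BT.leaf (nat_lit 25623045)) (BT.leaf (nat_lit 25623329))) (BT.node (nat_lit 6027072) (BT.leaf (nat_lit 29123105)) (BT.leaf (nat_lit 22863881)))))) (BT.node (nat_lit 6027648) (BT.node (nat_lit 6027392) (BT.node (nat_lit 6027264) (BT.node (nat_lit 6027200) (BT.leaf (nat_lit 22863625)) (BT.leaf (nat_lit 34195229))) (BT.node (nat_lit 6027328) (BT.leaf (nat_lit 34694929)) (BT.leaf (nat_lit 34695445)))) (BT.node (nat_lit 6027520) (BT.node (nat_lit 6027456) (BT.leaf (nat_lit 34009109)) (BT.leaf (nat_lit 21276437))) (BT.node (nat_lit 6027584) (BT.leaf (nat_lit 21502989)) (BT.leaf (nat_lit 30445329))))) (BT.node (nat_lit 6027904) (BT.node (nat_lit 6027776) (BT.node (nat_lit 6027712) (BT.leaf (nat_lit 50929953)) (BT.leaf (nat_lit 30445345))) (BT.node (nat_lit 6027840) (BT.leaf (nat_lit 37199393)) (BT.leaf (nat_lit 51281937)))) (BT.node (nat_lit 6028032) (BT.node (nat_lit 6027968) (BT.leaf (nat_lit 51281953)) (BT.leaf (nat_lit 29013525))) (BT.node (nat_lit 6028096) (BT.leaf (nat_lit 24112413)) (BT.leaf (nat_lit 29012997))))))))) (BT.node (nat_lit 6032256) (BT.node (nat_lit 6030208) (BT.node (nat_lit 6029184) (BT.node (nat_lit 6028672) (BT.node (nat_lit 6028416) (BT.node (nat_lit 6028288) (BT.node (nat_lit 6028224) (BT.leaf (nat_lit 48431121)) (BT.leaf (nat_lit 22856729))) (BT.node (nat_lit 6028352) (BT.leaf (nat_lit 33099545)) (BT.leaf (nat_lit 33100321)))) (BT.node (nat_lit 6028544) (BT.node (nat_lit 6028480) (BT.leaf (nat_lit 22529809)) (BT.leaf (nat_lit 27508257))) (BT.node (nat_lit 6028608) (BT.leaf (nat_lit 34698257)) (BT.leaf (nat_lit 31569165))))) (BT.node (nat_lit 6028928) (BT.node (nat_lit 6028800) (BT.node (nat_lit 6028736) (BT.leaf (nat_lit 24114973)) (BT.leaf (nat_lit 34699537))) (BT.node (nat_lit 6028864) (BT.leaf (nat_lit 23892245)) (BT.leaf (nat_lit 33378057)))) (BT.node (nat_lit 6029056) (BT.node (nat_lit 6028992) (BT.leaf (nat_lit 25848097)) (BT.leaf (nat_lit 34698009))) (BT.node (nat_lit 6029120) (BT.leaf (nat_lit 25698325)) (BT.leaf (nat_lit 24116233)))))) (BT.node (nat_lit 6029696) (BT.node (nat_lit 6029440) (BT.node (nat_lit 6029312) (BT.node (nat_lit 6029248) (BT.leaf (nat_lit 21338393)) (BT.leaf (nat_lit 25698077))) (BT.node (nat_lit 6029376) (BT.leaf (nat_lit 24304925)) (BT.leaf (nat_lit 24066333)))) (BT.node (nat_lit 6029568) (BT.node (nat_lit 6029504) (BT.leaf (nat_lit 34700817)) (BT.leaf (nat_lit 28831773))) (BT.node (nat_lit 6029632) (BT.leaf (nat_lit 24066061)) (BT.leaf (nat_lit 28833301))))) (BT.node (nat_lit 6029952) (BT.node (nat_lit 6029824) (BT.node (nat_lit 6029760) (BT.leaf (nat_lit 34701341)) (BT.leaf (nat_lit 23173913))) (BT.node (nat_lit 6029888) (BT.leaf (nat_lit 23173917)) (BT.leaf (nat_lit 29103385)))) (BT.node (nat_lit 6030080) (BT.node (nat_lit 6030016) (BT.leaf (nat_lit 21288473)) (BT.leaf (nat_lit 34702869))) (BT.node (nat_lit 6030144) (BT.leaf (nat_lit 34702609)) (BT.leaf (nat_lit 34703633))))))) (BT.node (nat_lit 6031232) (BT.node (nat_lit 6030720) (BT.node (nat_lit 6030464) (BT.node (nat_lit 6030336) (BT.node (nat_lit 6030272) (BT.leaf (nat_lit 33793565)) (BT.leaf (nat_lit 24319241))) (BT.node (nat_lit 6030400) (BT.leaf (nat_lit 34704401)) (BT.leaf (nat_lit 34288161)))) (BT.node (nat_lit 6030592) (BT.node (nat_lit 6030528) (BT.leaf (nat_lit 29901577)) (BT.leaf (nat_lit 24321801))) (BT.node (nat_lit 6030656) (BT.leaf (nat_lit 23478293)) (BT.leaf (nat_lit 34706449))))) (BT.node (nat_lit 6030976) (BT.node (nat_lit 6030848) (BT.node (nat_lit 6030784) (BT.leaf (nat_lit 24122649)) (BT.leaf (nat_lit 34707217))) (BT.node (nat_lit 6030912) (BT.leaf (nat_lit 30659609)) (BT.leaf (nat_lit 22193929)))) (BT.node (nat_lit 6031104) (BT.node (nat_lit 6031040) (BT.leaf (nat_lit 22193949)) (BT.leaf (nat_lit 21290001))) (BT.node (nat_lit 6031168) (BT.leaf (nat_lit 21290521)) (BT.leaf (nat_lit 21882397)))))) (BT.node (nat_lit 6031744) (BT.node (nat_lit 6031488) (BT.node (nat_lit 6031360) (BT.node (nat_lit 6031296) (BT.leaf (nat_lit 34709021)) (BT.leaf (nat_lit 33530389))) (BT.node (nat_lit 6031424) (BT.leaf (nat_lit 25912077)) (BT.leaf (nat_lit 21611549)))) (BT.node (nat_lit 6031616) (BT.node (nat_lit 6031552) (BT.leaf (nat_lit 23324169)) (BT.leaf (nat_lit 23324173))) (BT.node (nat_lit 6031680) (BT.leaf (nat_lit 23324189)) (BT.leaf (nat_lit 30930709))))) (BT.node (nat_lit 6032000) (BT.node (nat_lit 6031872) (BT.node (nat_lit 6031808) (BT.leaf (nat_lit 25720585)) (BT.leaf (nat_lit 23485985))) (BT.node (nat_lit 6031936) (BT.leaf (nat_lit 24289301)) (BT.leaf (nat_lit 21056537)))) (BT.node (nat_lit 6032128) (BT.node (nat_lit 6032064) (BT.leaf (nat_lit 25720601)) (BT.leaf (nat_lit 24288029))) (BT.node (nat_lit 6032192) (BT.leaf (nat_lit 34711321)) (BT.leaf (nat_lit 31412501)))))))) (BT.node (nat_lit 6034304) (BT.node (nat_lit 6033280) (BT.node (nat_lit 6032768) (BT.node (nat_lit 6032512) (BT.node (nat_lit 6032384) (BT.node (nat_lit 6032320) (BT.leaf (nat_lit 24509965)) (BT.leaf (nat_lit 51024929))) (BT.node (nat_lit 6032448) (BT.leaf (nat_lit 33895941)) (BT.leaf (nat_lit 49444361)))) (BT.node (nat_lit 6032640) (BT.node (nat_lit 6032576) (BT.leaf (nat_lit 23480589)) (BT.leaf (nat_lit 49444377))) (BT.node (nat_lit 6032704) (BT.leaf (nat_lit 24068377)) (BT.leaf (nat_lit 21845021))))) (BT.node (nat_lit 6033024) (BT.node (nat_lit 6032896) (BT.node (nat_lit 6032832) (BT.leaf (nat_lit 24129817)) (BT.leaf (nat_lit 21845781))) (BT.node (nat_lit 6032960) (BT.leaf (nat_lit 47835925)) (BT.leaf (nat_lit 21338117)))) (BT.node (nat_lit 6033152) (BT.node (nat_lit 6033088) (BT.leaf (nat_lit 21292045)) (BT.leaf (nat_lit 24299029))) (BT.node (nat_lit 6033216) (BT.leaf (nat_lit 31320593)) (BT.leaf (nat_lit 23715609)))))) (BT.node (nat_lit 6033792) (BT.node (nat_lit 6033536) (BT.node (nat_lit 6033408) (BT.node (nat_lit 6033344) (BT.leaf (nat_lit 31662341)) (BT.leaf (nat_lit 31665173))) (BT.node (nat_lit 6033472) (BT.leaf (nat_lit 24260633)) (BT.leaf (nat_lit 31669013)))) (BT.node (nat_lit 6033664) (BT.node (nat_lit 6033600) (BT.leaf (nat_lit 22331421)) (BT.leaf (nat_lit 21347601))) (BT.node (nat_lit 6033728) (BT.leaf (nat_lit 21335309)) (BT.leaf (nat_lit 34356757))))) (BT.node (nat_lit 6034048) (BT.node (nat_lit 6033920) (BT.node (nat_lit 6033856) (BT.leaf (nat_lit 34716689)) (BT.leaf (nat_lit 24418333))) (BT.node (nat_lit 6033984) (BT.leaf (nat_lit 27753737)) (BT.leaf (nat_lit 34718225)))) (BT.node (nat_lit 6034176) (BT.node (nat_lit 6034112) (BT.leaf (nat_lit 34332689)) (BT.leaf (nat_lit 22744081))) (BT.node (nat_lit 6034240) (BT.leaf (nat_lit 31193873)) (BT.leaf (nat_lit 30154249))))))) (BT.node (nat_lit 6035328) (BT.node (nat_lit 6034816) (BT.node (nat_lit 6034560) (BT.node (nat_lit 6034432) (BT.node (nat_lit 6034368) (BT.leaf (nat_lit 21509137)) (BT.leaf (nat_lit 30154265))) (BT.node (nat_lit 6034496) (BT.leaf (nat_lit 21508893)) (BT.leaf (nat_lit 33050389)))) (BT.node (nat_lit 6034688) (BT.node (nat_lit 6034624) (BT.leaf (nat_lit 23868693)) (BT.leaf (nat_lit 22423569))) (BT.node (nat_lit 6034752) (BT.leaf (nat_lit 21293073)) (BT.leaf (nat_lit 22389781))))) (BT.node (nat_lit 6035072) (BT.node (nat_lit 6034944) (BT.node (nat_lit 6034880) (BT.leaf (nat_lit 22389789)) (BT.leaf (nat_lit 21292817))) (BT.node (nat_lit 6035008) (BT.leaf (nat_lit 22423557)) (BT.leaf (nat_lit 24158493)))) (BT.node (nat_lit 6035200) (BT.node (nat_lit 6035136) (BT.leaf (nat_lit 22423573)) (BT.leaf (nat_lit 24280089))) (BT.node (nat_lit 6035264) (BT.leaf (nat_lit 24280093)) (BT.leaf (nat_lit 27387933)))))) (BT.node (nat_lit 6035840) (BT.node (nat_lit 6035584) (BT.node (nat_lit 6035456) (BT.node (nat_lit 6035392) (BT.leaf (nat_lit 24333329)) (BT.leaf (nat_lit 24142361))) (BT.node (nat_lit 6035520) (BT.leaf (nat_lit 27507473)) (BT.leaf (nat_lit 24721173)))) (BT.node (nat_lit 6035712) (BT.node (nat_lit 6035648) (BT.leaf (nat_lit 28030485)) (BT.leaf (nat_lit 27387929))) (BT.node (nat_lit 6035776) (BT.leaf (nat_lit 31957265)) (BT.leaf (nat_lit 34723349))))) (BT.node (nat_lit 6036096) (BT.node (nat_lit 6035968) (BT.node (nat_lit 6035904) (BT.leaf (nat_lit 23247893)) (BT.leaf (nat_lit 27603737))) (BT.node (nat_lit 6036032) (BT.leaf (nat_lit 24072209)) (BT.leaf (nat_lit 31678981)))) (BT.node (nat_lit 6036224) (BT.node (nat_lit 6036160) (BT.leaf (nat_lit 34725149)) (BT.leaf (nat_lit 24769045))) (BT.node (nat_lit 6036288) (BT.leaf (nat_lit 22389265)) (BT.leaf (nat_lit 22389269)))))))))))))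
noncomputable def big0_e30720 : BT Nat := (BT.node (nat_lit 6101760) (BT.node (nat_lit 6068992) (BT.node (nat_lit 6052736) (BT.node (nat_lit 6044544) (BT.node (nat_lit 6040448) (BT.node (nat_lit 6038400) (BT.node (nat_lit 6037376) (BT.node (nat_lit 6036864) (BT.node (nat_lit 6036608) (BT.node (nat_lit 6036480) (BT.node (nat_lit 6036416) (BT.leaf (nat_lit 24313101)) (BT.leaf (nat_lit 23066641))) (BT.node (nat_lit 6036544) (BT.leaf (nat_lit 52150033)) (BT.leaf (nat_lit 24283161)))) (BT.node (nat_lit 6036736) (BT.node (nat_lit 6036672) (BT.leaf (nat_lit 34727697)) (BT.leaf (nat_lit 28596753))) (BT.node (nat_lit 6036800) (BT.leaf (nat_lit 27719965)) (BT.leaf (nat_lit 24315925))))) (BT.node (nat_lit 6037120) (BT.node (nat_lit 6036992) (BT.node (nat_lit 6036928) (BT.leaf (nat_lit 47344917)) (BT.leaf (nat_lit 28876549))) (BT.node (nat_lit 6037056) (BT.leaf (nat_lit 51365141)) (BT.leaf (nat_lit 29783313)))) (BT.node (nat_lit 6037248) (BT.node (nat_lit 6037184) (BT.leaf (nat_lit 21474325)) (BT.leaf (nat_lit 23173641))) (BT.node (nat_lit 6037312) (BT.leaf (nat_lit 24315933)) (BT.leaf (nat_lit 24073737)))))) (BT.node (nat_lit 6037888) (BT.node (nat_lit 6037632) (BT.node (nat_lit 6037504) (BT.node (nat_lit 6037440) (BT.leaf (nat_lit 28234249)) (BT.leaf (nat_lit 47293193))) (BT.node (nat_lit 6037568) (BT.leaf (nat_lit 21049861)) (BT.leaf (nat_lit 34069281)))) (BT.node (nat_lit 6037760) (BT.node (nat_lit 6037696) (BT.leaf (nat_lit 34069509)) (BT.leaf (nat_lit 34731285))) (BT.node (nat_lit 6037824) (BT.leaf (nat_lit 34666509)) (BT.leaf (nat_lit 47293189))))) (BT.node (nat_lit 6038144) (BT.node (nat_lit 6038016) (BT.node (nat_lit 6037952) (BT.leaf (nat_lit 34732037)) (BT.leaf (nat_lit 47293209))) (BT.node (nat_lit 6038080) (BT.leaf (nat_lit 47293213)) (BT.leaf (nat_lit 23568401)))) (BT.node (nat_lit 6038272) (BT.node (nat_lit 6038208) (BT.leaf (nat_lit 29155101)) (BT.leaf (nat_lit 34733333))) (BT.node (nat_lit 6038336) (BT.leaf (nat_lit 31573773)) (BT.leaf (nat_lit 24155669))))))) (BT.node (nat_lit 6039424) (BT.node (nat_lit 6038912) (BT.node (nat_lit 6038656) (BT.node (nat_lit 6038528) (BT.node (nat_lit 6038464) (BT.leaf (nat_lit 28667909)) (BT.leaf (nat_lit 33550873))) (BT.node (nat_lit 6038592) (BT.leaf (nat_lit 34735381)) (BT.leaf (nat_lit 24072469)))) (BT.node (nat_lit 6038784) (BT.node (nat_lit 6038720) (BT.leaf (nat_lit 31698697)) (BT.leaf (nat_lit 34736161))) (BT.node (nat_lit 6038848) (BT.leaf (nat_lit 34736389)) (BT.leaf (nat_lit 23327517))))) (BT.node (nat_lit 6039168) (BT.node (nat_lit 6039040) (BT.node (nat_lit 6038976) (BT.leaf (nat_lit 25727257)) (BT.leaf (nat_lit 23856669))) (BT.node (nat_lit 6039104) (BT.leaf (nat_lit 33351449)) (BT.leaf (nat_lit 21611541)))) (BT.node (nat_lit 6039296) (BT.node (nat_lit 6039232) (BT.leaf (nat_lit 21295377)) (BT.leaf (nat_lit 28696341))) (BT.node (nat_lit 6039360) (BT.leaf (nat_lit 22628885)) (BT.leaf (nat_lit 34737417)))))) (BT.node (nat_lit 6039936) (BT.node (nat_lit 6039680) (BT.node (nat_lit 6039552) (BT.node (nat_lit 6039488) (BT.leaf (nat_lit 25983261)) (BT.leaf (nat_lit 31028001))) (BT.node (nat_lit 6039616) (BT.leaf (nat_lit 24163869)) (BT.leaf (nat_lit 34738193)))) (BT.node (nat_lit 6039808) (BT.node (nat_lit 6039744) (BT.leaf (nat_lit 23621137)) (BT.leaf (nat_lit 34738713))) (BT.node (nat_lit 6039872) (BT.leaf (nat_lit 24526101)) (BT.leaf (nat_lit 50161161))))) (BT.node (nat_lit 6040192) (BT.node (nat_lit 6040064) (BT.node (nat_lit 6040000) (BT.leaf (nat_lit 51603993)) (BT.leaf (nat_lit 51603997))) (BT.node (nat_lit 6040128) (BT.leaf (nat_lit 24306973)) (BT.leaf (nat_lit 35640585)))) (BT.node (nat_lit 6040320) (BT.node (nat_lit 6040256) (BT.leaf (nat_lit 26036761)) (BT.leaf (nat_lit 30054933))) (BT.node (nat_lit 6040384) (BT.leaf (nat_lit 26036745)) (BT.leaf (nat_lit 22706193)))))))) (BT.node (nat_lit 6042496) (BT.node (nat_lit 6041472) (BT.node (nat_lit 6040960) (BT.node (nat_lit 6040704) (BT.node (nat_lit 6040576) (BT.node (nat_lit 6040512) (BT.leaf (nat_lit 22481693)) (BT.leaf (nat_lit 34740753))) (BT.node (nat_lit 6040640) (BT.leaf (nat_lit 24162073)) (BT.leaf (nat_lit 27412769)))) (BT.node (nat_lit 6040832) (BT.node (nat_lit 6040768) (BT.leaf (nat_lit 30667793)) (BT.leaf (nat_lit 29255185))) (BT.node (nat_lit 6040896) (BT.leaf (nat_lit 23719193)) (BT.leaf (nat_lit 34742289))))) (BT.node (nat_lit 6041216) (BT.node (nat_lit 6041088) (BT.node (nat_lit 6041024) (BT.leaf (nat_lit 34743313)) (BT.leaf (nat_lit 34743837))) (BT.node (nat_lit 6041152) (BT.leaf (nat_lit 34743569)) (BT.leaf (nat_lit 22706449)))) (BT.node (nat_lit 6041344) (BT.node (nat_lit 6041280) (BT.leaf (nat_lit 25571093)) (BT.leaf (nat_lit 46688033))) (BT.node (nat_lit 6041408) (BT.leaf (nat_lit 23062277)) (BT.leaf (nat_lit 23062289)))))) (BT.node (nat_lit 6041984) (BT.node (nat_lit 6041728) (BT.node (nat_lit 6041600) (BT.node (nat_lit 6041536) (BT.leaf (nat_lit 23062305)) (BT.leaf (nat_lit 48507925))) (BT.node (nat_lit 6041664) (BT.leaf (nat_lit 23706629)) (BT.leaf (nat_lit 23620633)))) (BT.node (nat_lit 6041856) (BT.node (nat_lit 6041792) (BT.leaf (nat_lit 23620637)) (BT.leaf (nat_lit 21297685))) (BT.node (nat_lit 6041920) (BT.leaf (nat_lit 28442141)) (BT.leaf (nat_lit 36019229))))) (BT.node (nat_lit 6042240) (BT.node (nat_lit 6042112) (BT.node (nat_lit 6042048) (BT.leaf (nat_lit 34393113)) (BT.leaf (nat_lit 34494481))) (BT.node (nat_lit 6042176) (BT.leaf (nat_lit 28639249)) (BT.leaf (nat_lit 34951189)))) (BT.node (nat_lit 6042368) (BT.node (nat_lit 6042304) (BT.leaf (nat_lit 27724049)) (BT.leaf (nat_lit 34640417))) (BT.node (nat_lit 6042432) (BT.leaf (nat_lit 22856989)) (BT.leaf (nat_lit 28043013))))))) (BT.node (nat_lit 6043520) (BT.node (nat_lit 6043008) (BT.node (nat_lit 6042752) (BT.node (nat_lit 6042624) (BT.node (nat_lit 6042560) (BT.leaf (nat_lit 34747925)) (BT.leaf (nat_lit 25251861))) (BT.node (nat_lit 6042688) (BT.leaf (nat_lit 22574349)) (BT.leaf (nat_lit 22574361)))) (BT.node (nat_lit 6042880) (BT.node (nat_lit 6042816) (BT.leaf (nat_lit 22574365)) (BT.leaf (nat_lit 26432021))) (BT.node (nat_lit 6042944) (BT.leaf (nat_lit 23291661)) (BT.leaf (nat_lit 25251613))))) (BT.node (nat_lit 6043264) (BT.node (nat_lit 6043136) (BT.node (nat_lit 6043072) (BT.leaf (nat_lit 23404565)) (BT.leaf (nat_lit 24309521))) (BT.node (nat_lit 6043200) (BT.leaf (nat_lit 24309525)) (BT.leaf (nat_lit 21298717)))) (BT.node (nat_lit 6043392) (BT.node (nat_lit 6043328) (BT.leaf (nat_lit 21299481)) (BT.leaf (nat_lit 34750481))) (BT.node (nat_lit 6043456) (BT.leaf (nat_lit 21204245)) (BT.leaf (nat_lit 29618197)))))) (BT.node (nat_lit 6044032) (BT.node (nat_lit 6043776) (BT.node (nat_lit 6043648) (BT.node (nat_lit 6043584) (BT.leaf (nat_lit 29618961)) (BT.leaf (nat_lit 34751249))) (BT.node (nat_lit 6043712) (BT.leaf (nat_lit 34751521)) (BT.leaf (nat_lit 23821849)))) (BT.node (nat_lit 6043904) (BT.node (nat_lit 6043840) (BT.leaf (nat_lit 34752277)) (BT.leaf (nat_lit 20858645))) (BT.node (nat_lit 6043968) (BT.leaf (nat_lit 21357597)) (BT.leaf (nat_lit 31728393))))) (BT.node (nat_lit 6044288) (BT.node (nat_lit 6044160) (BT.node (nat_lit 6044096) (BT.leaf (nat_lit 31728649)) (BT.leaf (nat_lit 22647317))) (BT.node (nat_lit 6044224) (BT.leaf (nat_lit 25146901)) (BT.leaf (nat_lit 23739149)))) (BT.node (nat_lit 6044416) (BT.node (nat_lit 6044352) (BT.leaf (nat_lit 34753557)) (BT.leaf (nat_lit 22646801))) (BT.node (nat_lit 6044480) (BT.leaf (nat_lit 27412485)) (BT.leaf (nat_lit 30548493))))))))) (BT.node (nat_lit 6048640) (BT.node (nat_lit 6046592) (BT.node (nat_lit 6045568) (BT.node (nat_lit 6045056) (BT.node (nat_lit 6044800) (BT.node (nat_lit 6044672) (BT.node (nat_lit 6044608) (BT.leaf (nat_lit 24011025)) (BT.leaf (nat_lit 33236753))) (BT.node (nat_lit 6044736) (BT.leaf (nat_lit 48985609)) (BT.leaf (nat_lit 23336993)))) (BT.node (nat_lit 6044928) (BT.node (nat_lit 6044864) (BT.leaf (nat_lit 24233761)) (BT.leaf (nat_lit 30032133))) (BT.node (nat_lit 6044992) (BT.leaf (nat_lit 24749089)) (BT.leaf (nat_lit 21301017))))) (BT.node (nat_lit 6045312) (BT.node (nat_lit 6045184) (BT.node (nat_lit 6045120) (BT.leaf (nat_lit 30116361)) (BT.leaf (nat_lit 24751125))) (BT.node (nat_lit 6045248) (BT.leaf (nat_lit 21041181)) (BT.leaf (nat_lit 23490833)))) (BT.node (nat_lit 6045440) (BT.node (nat_lit 6045376) (BT.leaf (nat_lit 23490837)) (BT.leaf (nat_lit 34758941))) (BT.node (nat_lit 6045504) (BT.leaf (nat_lit 37369605)) (BT.leaf (nat_lit 34759197)))))) (BT.node (nat_lit 6046080) (BT.node (nat_lit 6045824) (BT.node (nat_lit 6045696) (BT.node (nat_lit 6045632) (BT.leaf (nat_lit 27383837)) (BT.leaf (nat_lit 23489297))) (BT.node (nat_lit 6045760) (BT.leaf (nat_lit 27986201)) (BT.leaf (nat_lit 27250977)))) (BT.node (nat_lit 6045952) (BT.node (nat_lit 6045888) (BT.leaf (nat_lit 24183581)) (BT.leaf (nat_lit 34761489))) (BT.node (nat_lit 6046016) (BT.leaf (nat_lit 50419465)) (BT.leaf (nat_lit 47725829))))) (BT.node (nat_lit 6046336) (BT.node (nat_lit 6046208) (BT.node (nat_lit 6046144) (BT.leaf (nat_lit 31744533)) (BT.leaf (nat_lit 21303057))) (BT.node (nat_lit 6046272) (BT.leaf (nat_lit 23497477)) (BT.leaf (nat_lit 24401945)))) (BT.node (nat_lit 6046464) (BT.node (nat_lit 6046400) (BT.leaf (nat_lit 52051977)) (BT.leaf (nat_lit 22847777))) (BT.node (nat_lit 6046528) (BT.leaf (nat_lit 27568901)) (BT.leaf (nat_lit 28568585))))))) (BT.node (nat_lit 6047616) (BT.node (nat_lit 6047104) (BT.node (nat_lit 6046848) (BT.node (nat_lit 6046720) (BT.node (nat_lit 6046656) (BT.leaf (nat_lit 28140577)) (BT.leaf (nat_lit 34764061))) (BT.node (nat_lit 6046784) (BT.leaf (nat_lit 31683089)) (BT.leaf (nat_lit 22354969)))) (BT.node (nat_lit 6046976) (BT.node (nat_lit 6046912) (BT.leaf (nat_lit 21906969)) (BT.leaf (nat_lit 21304861))) (BT.node (nat_lit 6047040) (BT.leaf (nat_lit 22984985)) (BT.leaf (nat_lit 46716689))))) (BT.node (nat_lit 6047360) (BT.node (nat_lit 6047232) (BT.node (nat_lit 6047168) (BT.leaf (nat_lit 24311061)) (BT.leaf (nat_lit 33110801))) (BT.node (nat_lit 6047296) (BT.leaf (nat_lit 24188697)) (BT.leaf (nat_lit 26639381)))) (BT.node (nat_lit 6047488) (BT.node (nat_lit 6047424) (BT.leaf (nat_lit 23397133)) (BT.leaf (nat_lit 23397145))) (BT.node (nat_lit 6047552) (BT.leaf (nat_lit 23397149)) (BT.leaf (nat_lit 21303833)))))) (BT.node (nat_lit 6048128) (BT.node (nat_lit 6047872) (BT.node (nat_lit 6047744) (BT.node (nat_lit 6047680) (BT.leaf (nat_lit 23409685)) (BT.leaf (nat_lit 25741837))) (BT.node (nat_lit 6047808) (BT.leaf (nat_lit 24376853)) (BT.leaf (nat_lit 22764309)))) (BT.node (nat_lit 6048000) (BT.node (nat_lit 6047936) (BT.leaf (nat_lit 23239701)) (BT.leaf (nat_lit 31135493))) (BT.node (nat_lit 6048064) (BT.leaf (nat_lit 20767249)) (BT.leaf (nat_lit 23764249))))) (BT.node (nat_lit 6048384) (BT.node (nat_lit 6048256) (BT.node (nat_lit 6048192) (BT.leaf (nat_lit 28933649)) (BT.leaf (nat_lit 34773009))) (BT.node (nat_lit 6048320) (BT.leaf (nat_lit 50073873)) (BT.leaf (nat_lit 31053321)))) (BT.node (nat_lit 6048512) (BT.node (nat_lit 6048448) (BT.leaf (nat_lit 23213329)) (BT.leaf (nat_lit 34774305))) (BT.node (nat_lit 6048576) (BT.leaf (nat_lit 34018057)) (BT.leaf (nat_lit 26011677)))))))) (BT.node (nat_lit 6050688) (BT.node (nat_lit 6049664) (BT.node (nat_lit 6049152) (BT.node (nat_lit 6048896) (BT.node (nat_lit 6048768) (BT.node (nat_lit 6048704) (BT.leaf (nat_lit 36551185)) (BT.leaf (nat_lit 31053341))) (BT.node (nat_lit 6048832) (BT.leaf (nat_lit 31763221)) (BT.leaf (nat_lit 33060373)))) (BT.node (nat_lit 6049024) (BT.node (nat_lit 6048960) (BT.leaf (nat_lit 29052421)) (BT.leaf (nat_lit 24080145))) (BT.node (nat_lit 6049088) (BT.leaf (nat_lit 23588121)) (BT.leaf (nat_lit 34777877))))) (BT.node (nat_lit 6049408) (BT.node (nat_lit 6049280) (BT.node (nat_lit 6049216) (BT.leaf (nat_lit 50103581)) (BT.leaf (nat_lit 34778657))) (BT.node (nat_lit 6049344) (BT.leaf (nat_lit 23203849)) (BT.leaf (nat_lit 21368597)))) (BT.node (nat_lit 6049536) (BT.node (nat_lit 6049472) (BT.leaf (nat_lit 29588769)) (BT.leaf (nat_lit 23570705))) (BT.node (nat_lit 6049600) (BT.leaf (nat_lit 23570969)) (BT.leaf (nat_lit 29896993)))))) (BT.node (nat_lit 6050176) (BT.node (nat_lit 6049920) (BT.node (nat_lit 6049792) (BT.node (nat_lit 6049728) (BT.leaf (nat_lit 21368853)) (BT.leaf (nat_lit 24197405))) (BT.node (nat_lit 6049856) (BT.leaf (nat_lit 34780181)) (BT.leaf (nat_lit 50072597)))) (BT.node (nat_lit 6050048) (BT.node (nat_lit 6049984) (BT.leaf (nat_lit 22361113)) (BT.leaf (nat_lit 34780677))) (BT.node (nat_lit 6050112) (BT.leaf (nat_lit 21309209)) (BT.leaf (nat_lit 21069597))))) (BT.node (nat_lit 6050432) (BT.node (nat_lit 6050304) (BT.node (nat_lit 6050240) (BT.leaf (nat_lit 21309213)) (BT.leaf (nat_lit 21069593))) (BT.node (nat_lit 6050368) (BT.leaf (nat_lit 28136481)) (BT.leaf (nat_lit 28135969)))) (BT.node (nat_lit 6050560) (BT.node (nat_lit 6050496) (BT.leaf (nat_lit 28136993)) (BT.leaf (nat_lit 32719905))) (BT.node (nat_lit 6050624) (BT.leaf (nat_lit 31583497)) (BT.leaf (nat_lit 24300833))))))) (BT.node (nat_lit 6051712) (BT.node (nat_lit 6051200) (BT.node (nat_lit 6050944) (BT.node (nat_lit 6050816) (BT.node (nat_lit 6050752) (BT.leaf (nat_lit 28111905)) (BT.leaf (nat_lit 25725217))) (BT.node (nat_lit 6050880) (BT.leaf (nat_lit 21310729)) (BT.leaf (nat_lit 36355589)))) (BT.node (nat_lit 6051072) (BT.node (nat_lit 6051008) (BT.leaf (nat_lit 24077329)) (BT.leaf (nat_lit 34210325))) (BT.node (nat_lit 6051136) (BT.leaf (nat_lit 24467213)) (BT.leaf (nat_lit 23908881))))) (BT.node (nat_lit 6051456) (BT.node (nat_lit 6051328) (BT.node (nat_lit 6051264) (BT.leaf (nat_lit 34785569)) (BT.leaf (nat_lit 35768609))) (BT.node (nat_lit 6051392) (BT.leaf (nat_lit 23699985)) (BT.leaf (nat_lit 31745313)))) (BT.node (nat_lit 6051584) (BT.node (nat_lit 6051520) (BT.leaf (nat_lit 23715593)) (BT.leaf (nat_lit 28742661))) (BT.node (nat_lit 6051648) (BT.leaf (nat_lit 31787525)) (BT.leaf (nat_lit 28742677)))))) (BT.node (nat_lit 6052224) (BT.node (nat_lit 6051968) (BT.node (nat_lit 6051840) (BT.node (nat_lit 6051776) (BT.leaf (nat_lit 34786309)) (BT.leaf (nat_lit 28439829))) (BT.node (nat_lit 6051904) (BT.leaf (nat_lit 24084509)) (BT.leaf (nat_lit 51638037)))) (BT.node (nat_lit 6052096) (BT.node (nat_lit 6052032) (BT.leaf (nat_lit 31017229)) (BT.leaf (nat_lit 22698257))) (BT.node (nat_lit 6052160) (BT.leaf (nat_lit 28840965)) (BT.leaf (nat_lit 31019541))))) (BT.node (nat_lit 6052480) (BT.node (nat_lit 6052352) (BT.node (nat_lit 6052288) (BT.leaf (nat_lit 36748561)) (BT.leaf (nat_lit 51694609))) (BT.node (nat_lit 6052416) (BT.leaf (nat_lit 31800853)) (BT.leaf (nat_lit 22698513)))) (BT.node (nat_lit 6052608) (BT.node (nat_lit 6052544) (BT.leaf (nat_lit 31064353)) (BT.leaf (nat_lit 51538445))) (BT.node (nat_lit 6052672) (BT.leaf (nat_lit 51918357)) (BT.leaf (nat_lit 51538441)))))))))) (BT.node (nat_lit 6060928) (BT.node (nat_lit 6056832) (BT.node (nat_lit 6054784) (BT.node (nat_lit 6053760) (BT.node (nat_lit 6053248) (BT.node (nat_lit 6052992) (BT.node (nat_lit 6052864) (BT.node (nat_lit 6052800) (BT.leaf (nat_lit 51538461)) (BT.leaf (nat_lit 21311257))) (BT.node (nat_lit 6052928) (BT.leaf (nat_lit 34790409)) (BT.leaf (nat_lit 24173337)))) (BT.node (nat_lit 6053120) (BT.node (nat_lit 6053056) (BT.leaf (nat_lit 50692125)) (BT.leaf (nat_lit 24084233))) (BT.node (nat_lit 6053184) (BT.leaf (nat_lit 23496453)) (BT.leaf (nat_lit 23496473))))) (BT.node (nat_lit 6053504) (BT.node (nat_lit 6053376) (BT.node (nat_lit 6053312) (BT.leaf (nat_lit 52317729)) (BT.leaf (nat_lit 24397833))) (BT.node (nat_lit 6053440) (BT.leaf (nat_lit 31795209)) (BT.leaf (nat_lit 34793497)))) (BT.node (nat_lit 6053632) (BT.node (nat_lit 6053568) (BT.leaf (nat_lit 23790617)) (BT.leaf (nat_lit 30924825))) (BT.node (nat_lit 6053696) (BT.leaf (nat_lit 29716497)) (BT.leaf (nat_lit 35336217)))))) (BT.node (nat_lit 6054272) (BT.node (nat_lit 6054016) (BT.node (nat_lit 6053888) (BT.node (nat_lit 6053824) (BT.leaf (nat_lit 35336221)) (BT.leaf (nat_lit 48081425))) (BT.node (nat_lit 6053952) (BT.leaf (nat_lit 21311509)) (BT.leaf (nat_lit 35626529)))) (BT.node (nat_lit 6054144) (BT.node (nat_lit 6054080) (BT.leaf (nat_lit 30065925)) (BT.leaf (nat_lit 23841029))) (BT.node (nat_lit 6054208) (BT.leaf (nat_lit 24632097)) (BT.leaf (nat_lit 31822857))))) (BT.node (nat_lit 6054528) (BT.node (nat_lit 6054400) (BT.node (nat_lit 6054336) (BT.leaf (nat_lit 24465669)) (BT.leaf (nat_lit 21312529))) (BT.node (nat_lit 6054464) (BT.leaf (nat_lit 51785505)) (BT.leaf (nat_lit 33029665)))) (BT.node (nat_lit 6054656) (BT.node (nat_lit 6054592) (BT.leaf (nat_lit 24343057)) (BT.leaf (nat_lit 29461013))) (BT.node (nat_lit 6054720) (BT.leaf (nat_lit 34797333)) (BT.leaf (nat_lit 22532369))))))) (BT.node (nat_lit 6055808) (BT.node (nat_lit 6055296) (BT.node (nat_lit 6055040) (BT.node (nat_lit 6054912) (BT.node (nat_lit 6054848) (BT.leaf (nat_lit 34798085)) (BT.leaf (nat_lit 33543201))) (BT.node (nat_lit 6054976) (BT.leaf (nat_lit 33404957)) (BT.leaf (nat_lit 21313825)))) (BT.node (nat_lit 6055168) (BT.node (nat_lit 6055104) (BT.leaf (nat_lit 28620041)) (BT.leaf (nat_lit 34799905))) (BT.node (nat_lit 6055232) (BT.leaf (nat_lit 28620061)) (BT.leaf (nat_lit 29145613))))) (BT.node (nat_lit 6055552) (BT.node (nat_lit 6055424) (BT.node (nat_lit 6055360) (BT.leaf (nat_lit 39595021)) (BT.leaf (nat_lit 31834377))) (BT.node (nat_lit 6055488) (BT.leaf (nat_lit 24610585)) (BT.leaf (nat_lit 25597213)))) (BT.node (nat_lit 6055680) (BT.node (nat_lit 6055616) (BT.leaf (nat_lit 33928225)) (BT.leaf (nat_lit 33925649))) (BT.node (nat_lit 6055744) (BT.leaf (nat_lit 33888017)) (BT.leaf (nat_lit 34801685)))))) (BT.node (nat_lit 6056320) (BT.node (nat_lit 6056064) (BT.node (nat_lit 6055936) (BT.node (nat_lit 6055872) (BT.leaf (nat_lit 21941013)) (BT.leaf (nat_lit 22905109))) (BT.node (nat_lit 6056000) (BT.leaf (nat_lit 24223257)) (BT.leaf (nat_lit 24054789)))) (BT.node (nat_lit 6056192) (BT.node (nat_lit 6056128) (BT.leaf (nat_lit 20855313)) (BT.leaf (nat_lit 23617041))) (BT.node (nat_lit 6056256) (BT.leaf (nat_lit 50375193)) (BT.leaf (nat_lit 47635225))))) (BT.node (nat_lit 6056576) (BT.node (nat_lit 6056448) (BT.node (nat_lit 6056384) (BT.leaf (nat_lit 28150289)) (BT.leaf (nat_lit 51115549))) (BT.node (nat_lit 6056512) (BT.leaf (nat_lit 23840273)) (BT.leaf (nat_lit 23840277)))) (BT.node (nat_lit 6056704) (BT.node (nat_lit 6056640) (BT.leaf (nat_lit 23093785)) (BT.leaf (nat_lit 34805009))) (BT.node (nat_lit 6056768) (BT.leaf (nat_lit 23083037)) (BT.leaf (nat_lit 21491213)))))))) (BT.node (nat_lit 6058880) (BT.node (nat_lit 6057856) (BT.node (nat_lit 6057344) (BT.node (nat_lit 6057088) (BT.node (nat_lit 6056960) (BT.node (nat_lit 6056896) (BT.leaf (nat_lit 33119253)) (BT.leaf (nat_lit 33534741))) (BT.node (nat_lit 6057024) (BT.leaf (nat_lit 23127069)) (BT.leaf (nat_lit 21877277)))) (BT.node (nat_lit 6057216) (BT.node (nat_lit 6057152) (BT.leaf (nat_lit 21877257)) (BT.leaf (nat_lit 24228377))) (BT.node (nat_lit 6057280) (BT.leaf (nat_lit 34806813)) (BT.leaf (nat_lit 26848273))))) (BT.node (nat_lit 6057600) (BT.node (nat_lit 6057472) (BT.node (nat_lit 6057408) (BT.leaf (nat_lit 34807069)) (BT.leaf (nat_lit 31169809))) (BT.node (nat_lit 6057536) (BT.leaf (nat_lit 31169813)) (BT.leaf (nat_lit 21923605)))) (BT.node (nat_lit 6057728) (BT.node (nat_lit 6057664) (BT.leaf (nat_lit 22435077)) (BT.leaf (nat_lit 48194589))) (BT.node (nat_lit 6057792) (BT.leaf (nat_lit 21316633)) (BT.leaf (nat_lit 24231453)))))) (BT.node (nat_lit 6058368) (BT.node (nat_lit 6058112) (BT.node (nat_lit 6057984) (BT.node (nat_lit 6057920) (BT.leaf (nat_lit 21279253)) (BT.leaf (nat_lit 23337505))) (BT.node (nat_lit 6058048) (BT.leaf (nat_lit 24231433)) (BT.leaf (nat_lit 22279457)))) (BT.node (nat_lit 6058240) (BT.node (nat_lit 6058176) (BT.leaf (nat_lit 22279685)) (BT.leaf (nat_lit 52088077))) (BT.node (nat_lit 6058304) (BT.leaf (nat_lit 31641613)) (BT.leaf (nat_lit 21864733))))) (BT.node (nat_lit 6058624) (BT.node (nat_lit 6058496) (BT.node (nat_lit 6058432) (BT.leaf (nat_lit 22279969)) (BT.leaf (nat_lit 23336973))) (BT.node (nat_lit 6058560) (BT.leaf (nat_lit 23337249)) (BT.leaf (nat_lit 21278993)))) (BT.node (nat_lit 6058752) (BT.node (nat_lit 6058688) (BT.leaf (nat_lit 34812697)) (BT.leaf (nat_lit 26732833))) (BT.node (nat_lit 6058816) (BT.leaf (nat_lit 34812181)) (BT.leaf (nat_lit 24235041))))))) (BT.node (nat_lit 6059904) (BT.node (nat_lit 6059392) (BT.node (nat_lit 6059136) (BT.node (nat_lit 6059008) (BT.node (nat_lit 6058944) (BT.leaf (nat_lit 22281733)) (BT.leaf (nat_lit 49180693))) (BT.node (nat_lit 6059072) (BT.leaf (nat_lit 21317145)) (BT.leaf (nat_lit 22922001)))) (BT.node (nat_lit 6059264) (BT.node (nat_lit 6059200) (BT.leaf (nat_lit 25457441)) (BT.leaf (nat_lit 33662741))) (BT.node (nat_lit 6059328) (BT.leaf (nat_lit 25198873)) (BT.leaf (nat_lit 23012629))))) (BT.node (nat_lit 6059648) (BT.node (nat_lit 6059520) (BT.node (nat_lit 6059456) (BT.leaf (nat_lit 52034837)) (BT.leaf (nat_lit 24237593))) (BT.node (nat_lit 6059584) (BT.leaf (nat_lit 24534801)) (BT.leaf (nat_lit 52034841)))) (BT.node (nat_lit 6059776) (BT.node (nat_lit 6059712) (BT.leaf (nat_lit 24226325)) (BT.leaf (nat_lit 23632405))) (BT.node (nat_lit 6059840) (BT.leaf (nat_lit 23141125)) (BT.leaf (nat_lit 26254345)))))) (BT.node (nat_lit 6060416) (BT.node (nat_lit 6060160) (BT.node (nat_lit 6060032) (BT.node (nat_lit 6059968) (BT.leaf (nat_lit 25980697)) (BT.leaf (nat_lit 21320209))) (BT.node (nat_lit 6060096) (BT.leaf (nat_lit 24260877)) (BT.leaf (nat_lit 22448657)))) (BT.node (nat_lit 6060288) (BT.node (nat_lit 6060224) (BT.leaf (nat_lit 21319953)) (BT.leaf (nat_lit 27959321))) (BT.node (nat_lit 6060352) (BT.leaf (nat_lit 21320717)) (BT.leaf (nat_lit 22232865))))) (BT.node (nat_lit 6060672) (BT.node (nat_lit 6060544) (BT.node (nat_lit 6060480) (BT.leaf (nat_lit 21443845)) (BT.leaf (nat_lit 21867025))) (BT.node (nat_lit 6060608) (BT.leaf (nat_lit 21443869)) (BT.leaf (nat_lit 21320721)))) (BT.node (nat_lit 6060800) (BT.node (nat_lit 6060736) (BT.leaf (nat_lit 25258777)) (BT.leaf (nat_lit 29167125))) (BT.node (nat_lit 6060864) (BT.leaf (nat_lit 21321745)) (BT.leaf (nat_lit 25810721))))))))) (BT.node (nat_lit 6064896) (BT.node (nat_lit 6062976) (BT.node (nat_lit 6061952) (BT.node (nat_lit 6061440) (BT.node (nat_lit 6061184) (BT.node (nat_lit 6061056) (BT.node (nat_lit 6060992) (BT.leaf (nat_lit 29447445)) (BT.leaf (nat_lit 24087313))) (BT.node (nat_lit 6061120) (BT.leaf (nat_lit 24087317)) (BT.leaf (nat_lit 21324561)))) (BT.node (nat_lit 6061312) (BT.node (nat_lit 6061248) (BT.leaf (nat_lit 24267273)) (BT.leaf (nat_lit 24275737))) (BT.node (nat_lit 6061376) (BT.leaf (nat_lit 23030797)) (BT.leaf (nat_lit 23030809))))) (BT.node (nat_lit 6061696) (BT.node (nat_lit 6061568) (BT.node (nat_lit 6061504) (BT.leaf (nat_lit 24275725)) (BT.leaf (nat_lit 30411797))) (BT.node (nat_lit 6061632) (BT.leaf (nat_lit 28054293)) (BT.leaf (nat_lit 21876765)))) (BT.node (nat_lit 6061824) (BT.node (nat_lit 6061760) (BT.leaf (nat_lit 21462049)) (BT.leaf (nat_lit 20815381))) (BT.node (nat_lit 6061888) (BT.leaf (nat_lit 21876745)) (BT.leaf (nat_lit 24701217)))))) (BT.node (nat_lit 6062464) (BT.node (nat_lit 6062208) (BT.node (nat_lit 6062080) (BT.node (nat_lit 6062016) (BT.leaf (nat_lit 21870365)) (BT.leaf (nat_lit 23128865))) (BT.node (nat_lit 6062144) (BT.leaf (nat_lit 24266249)) (BT.leaf (nat_lit 24268809)))) (BT.node (nat_lit 6062336) (BT.node (nat_lit 6062272) (BT.leaf (nat_lit 24061709)) (BT.leaf (nat_lit 23622153))) (BT.node (nat_lit 6062400) (BT.leaf (nat_lit 30042897)) (BT.leaf (nat_lit 51194401))))) (BT.node (nat_lit 6062720) (BT.node (nat_lit 6062592) (BT.node (nat_lit 6062528) (BT.leaf (nat_lit 49011737)) (BT.leaf (nat_lit 24273929))) (BT.node (nat_lit 6062656) (BT.leaf (nat_lit 26468613)) (BT.leaf (nat_lit 26468629)))) (BT.node (nat_lit 6062848) (BT.node (nat_lit 6062784) (BT.leaf (nat_lit 26468641)) (BT.leaf (nat_lit 21323553))) (BT.node (nat_lit 6062912) (BT.leaf (nat_lit 22455053)) (BT.leaf (nat_lit 21792545))))))) (BT.node (nat_lit 6063879) (BT.node (nat_lit 6063488) (BT.node (nat_lit 6063232) (BT.node (nat_lit 6063104) (BT.node (nat_lit 6063040) (BT.leaf (nat_lit 23554577)) (BT.leaf (nat_lit 22692385))) (BT.node (nat_lit 6063168) (BT.leaf (nat_lit 23323413)) (BT.leaf (nat_lit 36088353)))) (BT.node (nat_lit 6063360) (BT.node (nat_lit 6063296) (BT.leaf (nat_lit 31847449)) (BT.leaf (nat_lit 26675989))) (BT.node (nat_lit 6063424) (BT.leaf (nat_lit 23126553)) (BT.leaf (nat_lit 21870873))))) (BT.node (nat_lit 6063744) (BT.node (nat_lit 6063616) (BT.node (nat_lit 6063552) (BT.leaf (nat_lit 22968085)) (BT.leaf (nat_lit 35293461))) (BT.node (nat_lit 6063680) (BT.leaf (nat_lit 29006853)) (BT.leaf (nat_lit 24227857)))) (BT.node (nat_lit 6063872) (BT.node (nat_lit 6063808) (BT.leaf (nat_lit 23153685)) (BT.leaf (nat_lit 21325077))) (BT.node (nat_lit 6063878) (BT.leaf (nat_lit 21962781)) (BT.leaf (nat_lit 417700)))))) (BT.node (nat_lit 6064384) (BT.node (nat_lit 6064128) (BT.node (nat_lit 6064000) (BT.node (nat_lit 6063936) (BT.leaf (nat_lit 417700)) (BT.leaf (nat_lit 33770513))) (BT.node (nat_lit 6064064) (BT.leaf (nat_lit 24269081)) (BT.leaf (nat_lit 21325841)))) (BT.node (nat_lit 6064256) (BT.node (nat_lit 6064192) (BT.leaf (nat_lit 21869857)) (BT.leaf (nat_lit 50803217))) (BT.node (nat_lit 6064320) (BT.leaf (nat_lit 51132953)) (BT.leaf (nat_lit 51132957))))) (BT.node (nat_lit 6064640) (BT.node (nat_lit 6064512) (BT.node (nat_lit 6064448) (BT.leaf (nat_lit 22378777)) (BT.leaf (nat_lit 29128713))) (BT.node (nat_lit 6064576) (BT.leaf (nat_lit 29128981)) (BT.leaf (nat_lit 24772617)))) (BT.node (nat_lit 6064768) (BT.node (nat_lit 6064704) (BT.leaf (nat_lit 24770329)) (BT.leaf (nat_lit 22992401))) (BT.node (nat_lit 6064832) (BT.leaf (nat_lit 21489953)) (BT.leaf (nat_lit 28210197)))))))) (BT.node (nat_lit 6066944) (BT.node (nat_lit 6065920) (BT.node (nat_lit 6065408) (BT.node (nat_lit 6065152) (BT.node (nat_lit 6065024) (BT.node (nat_lit 6064960) (BT.leaf (nat_lit 23095329)) (BT.leaf (nat_lit 22614285))) (BT.node (nat_lit 6065088) (BT.leaf (nat_lit 23081249)) (BT.leaf (nat_lit 21328161)))) (BT.node (nat_lit 6065280) (BT.node (nat_lit 6065216) (BT.leaf (nat_lit 31680529)) (BT.leaf (nat_lit 21441045))) (BT.node (nat_lit 6065344) (BT.leaf (nat_lit 23080977)) (BT.leaf (nat_lit 23080993))))) (BT.node (nat_lit 6065664) (BT.node (nat_lit 6065536) (BT.node (nat_lit 6065472) (BT.leaf (nat_lit 28950045)) (BT.leaf (nat_lit 28951313))) (BT.node (nat_lit 6065600) (BT.leaf (nat_lit 29223193)) (BT.leaf (nat_lit 23096353)))) (BT.node (nat_lit 6065792) (BT.node (nat_lit 6065728) (BT.leaf (nat_lit 34831649)) (BT.leaf (nat_lit 21873937))) (BT.node (nat_lit 6065856) (BT.leaf (nat_lit 34832917)) (BT.leaf (nat_lit 25301261)))))) (BT.node (nat_lit 6066432) (BT.node (nat_lit 6066176) (BT.node (nat_lit 6066048) (BT.node (nat_lit 6065984) (BT.leaf (nat_lit 25301273)) (BT.leaf (nat_lit 21320465))) (BT.node (nat_lit 6066112) (BT.leaf (nat_lit 41379077)) (BT.leaf (nat_lit 21329937)))) (BT.node (nat_lit 6066304) (BT.node (nat_lit 6066240) (BT.leaf (nat_lit 23185169)) (BT.leaf (nat_lit 29521669))) (BT.node (nat_lit 6066368) (BT.leaf (nat_lit 31555333)) (BT.leaf (nat_lit 33834269))))) (BT.node (nat_lit 6066688) (BT.node (nat_lit 6066560) (BT.node (nat_lit 6066496) (BT.leaf (nat_lit 25089053)) (BT.leaf (nat_lit 24266269))) (BT.node (nat_lit 6066624) (BT.leaf (nat_lit 20815637)) (BT.leaf (nat_lit 28445957)))) (BT.node (nat_lit 6066816) (BT.node (nat_lit 6066752) (BT.leaf (nat_lit 22518033)) (BT.leaf (nat_lit 21870345))) (BT.node (nat_lit 6066880) (BT.leaf (nat_lit 52185105)) (BT.leaf (nat_lit 30063877))))))) (BT.node (nat_lit 6067968) (BT.node (nat_lit 6067456) (BT.node (nat_lit 6067200) (BT.node (nat_lit 6067072) (BT.node (nat_lit 6067008) (BT.leaf (nat_lit 37162265)) (BT.leaf (nat_lit 27920149))) (BT.node (nat_lit 6067136) (BT.leaf (nat_lit 21331473)) (BT.leaf (nat_lit 21331217)))) (BT.node (nat_lit 6067328) (BT.node (nat_lit 6067264) (BT.leaf (nat_lit 37498897)) (BT.leaf (nat_lit 24703237))) (BT.node (nat_lit 6067392) (BT.leaf (nat_lit 23116565)) (BT.leaf (nat_lit 34840325))))) (BT.node (nat_lit 6067712) (BT.node (nat_lit 6067584) (BT.node (nat_lit 6067520) (BT.leaf (nat_lit 23612949)) (BT.leaf (nat_lit 23573777))) (BT.node (nat_lit 6067648) (BT.leaf (nat_lit 21331985)) (BT.leaf (nat_lit 21451029)))) (BT.node (nat_lit 6067840) (BT.node (nat_lit 6067776) (BT.leaf (nat_lit 21451033)) (BT.leaf (nat_lit 34841877))) (BT.node (nat_lit 6067904) (BT.leaf (nat_lit 23573781)) (BT.leaf (nat_lit 21332501)))))) (BT.node (nat_lit 6068480) (BT.node (nat_lit 6068224) (BT.node (nat_lit 6068096) (BT.node (nat_lit 6068032) (BT.leaf (nat_lit 31920401)) (BT.leaf (nat_lit 21324817))) (BT.node (nat_lit 6068160) (BT.leaf (nat_lit 21333265)) (BT.leaf (nat_lit 21876257)))) (BT.node (nat_lit 6068352) (BT.node (nat_lit 6068288) (BT.leaf (nat_lit 24267297)) (BT.leaf (nat_lit 24061729))) (BT.node (nat_lit 6068416) (BT.leaf (nat_lit 24061717)) (BT.leaf (nat_lit 52401177))))) (BT.node (nat_lit 6068736) (BT.node (nat_lit 6068608) (BT.node (nat_lit 6068544) (BT.leaf (nat_lit 52401181)) (BT.leaf (nat_lit 30707477))) (BT.node (nat_lit 6068672) (BT.leaf (nat_lit 30708753)) (BT.leaf (nat_lit 22318873)))) (BT.node (nat_lit 6068864) (BT.node (nat_lit 6068800) (BT.leaf (nat_lit 50664477)) (BT.leaf (nat_lit 27251205))) (BT.node (nat_lit 6068928) (BT.leaf (nat_lit 30872837)) (BT.leaf (nat_lit 29269269))))))))))) (BT.node (nat_lit 6085376) (BT.node (nat_lit 6077184) (BT.node (nat_lit 6073088) (BT.node (nat_lit 6071040) (BT.node (nat_lit 6070016) (BT.node (nat_lit 6069504) (BT.node (nat_lit 6069248) (BT.node (nat_lit 6069120) (BT.node (nat_lit 6069056) (BT.leaf (nat_lit 21106453)) (BT.leaf (nat_lit 34848793))) (BT.node (nat_lit 6069184) (BT.leaf (nat_lit 24315169)) (BT.leaf (nat_lit 22860309)))) (BT.node (nat_lit 6069376) (BT.node (nat_lit 6069312) (BT.leaf (nat_lit 22529037)) (BT.leaf (nat_lit 22529049))) (BT.node (nat_lit 6069440) (BT.leaf (nat_lit 22529053)) (BT.leaf (nat_lit 31623441))))) (BT.node (nat_lit 6069760) (BT.node (nat_lit 6069632) (BT.node (nat_lit 6069568) (BT.leaf (nat_lit 27683601)) (BT.leaf (nat_lit 29771533))) (BT.node (nat_lit 6069696) (BT.leaf (nat_lit 29771537)) (BT.leaf (nat_lit 27619861)))) (BT.node (nat_lit 6069888) (BT.node (nat_lit 6069824) (BT.leaf (nat_lit 23764741)) (BT.leaf (nat_lit 33072921))) (BT.node (nat_lit 6069952) (BT.leaf (nat_lit 24447765)) (BT.leaf (nat_lit 27508249)))))) (BT.node (nat_lit 6070528) (BT.node (nat_lit 6070272) (BT.node (nat_lit 6070144) (BT.node (nat_lit 6070080) (BT.leaf (nat_lit 26724881)) (BT.leaf (nat_lit 49842721))) (BT.node (nat_lit 6070208) (BT.leaf (nat_lit 25789217)) (BT.leaf (nat_lit 27510037)))) (BT.node (nat_lit 6070400) (BT.node (nat_lit 6070336) (BT.leaf (nat_lit 34854929)) (BT.leaf (nat_lit 34855441))) (BT.node (nat_lit 6070464) (BT.leaf (nat_lit 24281369)) (BT.leaf (nat_lit 22554133))))) (BT.node (nat_lit 6070784) (BT.node (nat_lit 6070656) (BT.node (nat_lit 6070592) (BT.leaf (nat_lit 24399137)) (BT.leaf (nat_lit 33286165))) (BT.node (nat_lit 6070720) (BT.leaf (nat_lit 28083469)) (BT.leaf (nat_lit 51344145)))) (BT.node (nat_lit 6070912) (BT.node (nat_lit 6070848) (BT.leaf (nat_lit 24145941)) (BT.leaf (nat_lit 30945545))) (BT.node (nat_lit 6070976) (BT.leaf (nat_lit 23066117)) (BT.leaf (nat_lit 23305997))))))) (BT.node (nat_lit 6072064) (BT.node (nat_lit 6071552) (BT.node (nat_lit 6071296) (BT.node (nat_lit 6071168) (BT.node (nat_lit 6071104) (BT.leaf (nat_lit 50430229)) (BT.leaf (nat_lit 34858513))) (BT.node (nat_lit 6071232) (BT.leaf (nat_lit 22372629)) (BT.leaf (nat_lit 27671049)))) (BT.node (nat_lit 6071424) (BT.node (nat_lit 6071360) (BT.leaf (nat_lit 33945877)) (BT.leaf (nat_lit 27671069))) (BT.node (nat_lit 6071488) (BT.leaf (nat_lit 34029089)) (BT.leaf (nat_lit 29096209))))) (BT.node (nat_lit 6071808) (BT.node (nat_lit 6071680) (BT.node (nat_lit 6071616) (BT.leaf (nat_lit 30132513)) (BT.leaf (nat_lit 25362197))) (BT.node (nat_lit 6071744) (BT.leaf (nat_lit 25362457)) (BT.leaf (nat_lit 27516445)))) (BT.node (nat_lit 6071936) (BT.node (nat_lit 6071872) (BT.leaf (nat_lit 22571801)) (BT.leaf (nat_lit 34861585))) (BT.node (nat_lit 6072000) (BT.leaf (nat_lit 27609349)) (BT.leaf (nat_lit 31947269)))))) (BT.node (nat_lit 6072576) (BT.node (nat_lit 6072320) (BT.node (nat_lit 6072192) (BT.node (nat_lit 6072128) (BT.leaf (nat_lit 34861845)) (BT.leaf (nat_lit 24289309))) (BT.node (nat_lit 6072256) (BT.leaf (nat_lit 21275929)) (BT.leaf (nat_lit 24288025)))) (BT.node (nat_lit 6072448) (BT.node (nat_lit 6072384) (BT.leaf (nat_lit 21834257)) (BT.leaf (nat_lit 25701141))) (BT.node (nat_lit 6072512) (BT.leaf (nat_lit 24805149)) (BT.leaf (nat_lit 23328265))))) (BT.node (nat_lit 6072832) (BT.node (nat_lit 6072704) (BT.node (nat_lit 6072640) (BT.leaf (nat_lit 23328281)) (BT.leaf (nat_lit 31668757))) (BT.node (nat_lit 6072768) (BT.leaf (nat_lit 27506961)) (BT.leaf (nat_lit 27506965)))) (BT.node (nat_lit 6072960) (BT.node (nat_lit 6072896) (BT.leaf (nat_lit 31957009)) (BT.leaf (nat_lit 27367961))) (BT.node (nat_lit 6073024) (BT.leaf (nat_lit 34864133)) (BT.leaf (nat_lit 23893253)))))))) (BT.node (nat_lit 6075136) (BT.node (nat_lit 6074112) (BT.node (nat_lit 6073600) (BT.node (nat_lit 6073344) (BT.node (nat_lit 6073216) (BT.node (nat_lit 6073152) (BT.leaf (nat_lit 25721621)) (BT.leaf (nat_lit 31961109))) (BT.node (nat_lit 6073280) (BT.leaf (nat_lit 21883157)) (BT.leaf (nat_lit 23486497)))) (BT.node (nat_lit 6073472) (BT.node (nat_lit 6073408) (BT.leaf (nat_lit 21290525)) (BT.leaf (nat_lit 21336081))) (BT.node (nat_lit 6073536) (BT.leaf (nat_lit 23869469)) (BT.leaf (nat_lit 34420241))))) (BT.node (nat_lit 6073856) (BT.node (nat_lit 6073728) (BT.node (nat_lit 6073664) (BT.leaf (nat_lit 23037465)) (BT.leaf (nat_lit 20929821))) (BT.node (nat_lit 6073792) (BT.leaf (nat_lit 23037469)) (BT.leaf (nat_lit 20929817)))) (BT.node (nat_lit 6073984) (BT.node (nat_lit 6073920) (BT.leaf (nat_lit 31965717)) (BT.leaf (nat_lit 27753753))) (BT.node (nat_lit 6074048) (BT.leaf (nat_lit 24158485)) (BT.leaf (nat_lit 27604245)))))) (BT.node (nat_lit 6074624) (BT.node (nat_lit 6074368) (BT.node (nat_lit 6074240) (BT.node (nat_lit 6074176) (BT.leaf (nat_lit 22538257)) (BT.leaf (nat_lit 27590173))) (BT.node (nat_lit 6074304) (BT.leaf (nat_lit 30992901)) (BT.leaf (nat_lit 23898633)))) (BT.node (nat_lit 6074496) (BT.node (nat_lit 6074432) (BT.leaf (nat_lit 33270805)) (BT.leaf (nat_lit 24286725))) (BT.node (nat_lit 6074560) (BT.leaf (nat_lit 23898653)) (BT.leaf (nat_lit 29654561))))) (BT.node (nat_lit 6074880) (BT.node (nat_lit 6074752) (BT.node (nat_lit 6074688) (BT.leaf (nat_lit 24279073)) (BT.leaf (nat_lit 24329489))) (BT.node (nat_lit 6074816) (BT.leaf (nat_lit 28030489)) (BT.leaf (nat_lit 21337873)))) (BT.node (nat_lit 6075008) (BT.node (nat_lit 6074944) (BT.leaf (nat_lit 30184205)) (BT.leaf (nat_lit 30184209))) (BT.node (nat_lit 6075072) (BT.leaf (nat_lit 30184217)) (BT.leaf (nat_lit 30184221))))))) (BT.node (nat_lit 6076160) (BT.node (nat_lit 6075648) (BT.node (nat_lit 6075392) (BT.node (nat_lit 6075264) (BT.node (nat_lit 6075200) (BT.leaf (nat_lit 23680277)) (BT.leaf (nat_lit 25790229))) (BT.node (nat_lit 6075328) (BT.leaf (nat_lit 34204945)) (BT.leaf (nat_lit 25698837)))) (BT.node (nat_lit 6075520) (BT.node (nat_lit 6075456) (BT.leaf (nat_lit 21338385)) (BT.leaf (nat_lit 29024025))) (BT.node (nat_lit 6075584) (BT.leaf (nat_lit 24116249)) (BT.leaf (nat_lit 21338397))))) (BT.node (nat_lit 6075904) (BT.node (nat_lit 6075776) (BT.node (nat_lit 6075712) (BT.leaf (nat_lit 25698333)) (BT.leaf (nat_lit 21338629))) (BT.node (nat_lit 6075840) (BT.leaf (nat_lit 21339161)) (BT.leaf (nat_lit 29038869)))) (BT.node (nat_lit 6076032) (BT.node (nat_lit 6075968) (BT.leaf (nat_lit 21339165)) (BT.leaf (nat_lit 34874901))) (BT.node (nat_lit 6076096) (BT.leaf (nat_lit 25399069)) (BT.leaf (nat_lit 22832925)))))) (BT.node (nat_lit 6076672) (BT.node (nat_lit 6076416) (BT.node (nat_lit 6076288) (BT.node (nat_lit 6076224) (BT.leaf (nat_lit 22411801)) (BT.leaf (nat_lit 26285329))) (BT.node (nat_lit 6076352) (BT.leaf (nat_lit 33156637)) (BT.leaf (nat_lit 21511953)))) (BT.node (nat_lit 6076544) (BT.node (nat_lit 6076480) (BT.leaf (nat_lit 21511957)) (BT.leaf (nat_lit 25841673))) (BT.node (nat_lit 6076608) (BT.leaf (nat_lit 31240213)) (BT.leaf (nat_lit 34877453))))) (BT.node (nat_lit 6076928) (BT.node (nat_lit 6076800) (BT.node (nat_lit 6076736) (BT.leaf (nat_lit 23393305)) (BT.leaf (nat_lit 34877969))) (BT.node (nat_lit 6076864) (BT.leaf (nat_lit 34877965)) (BT.leaf (nat_lit 24887329)))) (BT.node (nat_lit 6077056) (BT.node (nat_lit 6076992) (BT.leaf (nat_lit 30552849)) (BT.leaf (nat_lit 34879769))) (BT.node (nat_lit 6077120) (BT.leaf (nat_lit 27937045)) (BT.leaf (nat_lit 25002257))))))))) (BT.node (nat_lit 6081280) (BT.node (nat_lit 6079232) (BT.node (nat_lit 6078208) (BT.node (nat_lit 6077696) (BT.node (nat_lit 6077440) (BT.node (nat_lit 6077312) (BT.node (nat_lit 6077248) (BT.leaf (nat_lit 24308505)) (BT.leaf (nat_lit 24066329))) (BT.node (nat_lit 6077376) (BT.leaf (nat_lit 28830993)) (BT.leaf (nat_lit 23678493)))) (BT.node (nat_lit 6077568) (BT.node (nat_lit 6077504) (BT.leaf (nat_lit 34854917)) (BT.leaf (nat_lit 22877201))) (BT.node (nat_lit 6077632) (BT.leaf (nat_lit 31106581)) (BT.leaf (nat_lit 23642401))))) (BT.node (nat_lit 6077952) (BT.node (nat_lit 6077824) (BT.node (nat_lit 6077760) (BT.leaf (nat_lit 23189509)) (BT.leaf (nat_lit 24188701))) (BT.node (nat_lit 6077888) (BT.leaf (nat_lit 34883613)) (BT.leaf (nat_lit 31681305)))) (BT.node (nat_lit 6078080) (BT.node (nat_lit 6078016) (BT.leaf (nat_lit 31028741)) (BT.leaf (nat_lit 34729489))) (BT.node (nat_lit 6078144) (BT.leaf (nat_lit 21339665)) (BT.leaf (nat_lit 22565145)))))) (BT.node (nat_lit 6078720) (BT.node (nat_lit 6078464) (BT.node (nat_lit 6078336) (BT.node (nat_lit 6078272) (BT.leaf (nat_lit 34885909)) (BT.leaf (nat_lit 28749333))) (BT.node (nat_lit 6078400) (BT.leaf (nat_lit 34886161)) (BT.leaf (nat_lit 22369297)))) (BT.node (nat_lit 6078592) (BT.node (nat_lit 6078528) (BT.leaf (nat_lit 33119005)) (BT.leaf (nat_lit 36397085))) (BT.node (nat_lit 6078656) (BT.leaf (nat_lit 24276497)) (BT.leaf (nat_lit 34886929))))) (BT.node (nat_lit 6078976) (BT.node (nat_lit 6078848) (BT.node (nat_lit 6078784) (BT.leaf (nat_lit 28419345)) (BT.leaf (nat_lit 34887445))) (BT.node (nat_lit 6078912) (BT.leaf (nat_lit 25179157)) (BT.leaf (nat_lit 47500553)))) (BT.node (nat_lit 6079104) (BT.node (nat_lit 6079040) (BT.leaf (nat_lit 34887953)) (BT.leaf (nat_lit 21340945))) (BT.node (nat_lit 6079168) (BT.leaf (nat_lit 21341713)) (BT.leaf (nat_lit 21295633))))))) (BT.node (nat_lit 6080256) (BT.node (nat_lit 6079744) (BT.node (nat_lit 6079488) (BT.node (nat_lit 6079360) (BT.node (nat_lit 6079296) (BT.leaf (nat_lit 36163873)) (BT.leaf (nat_lit 33914137))) (BT.node (nat_lit 6079424) (BT.leaf (nat_lit 50625313)) (BT.leaf (nat_lit 34889493)))) (BT.node (nat_lit 6079616) (BT.node (nat_lit 6079552) (BT.leaf (nat_lit 34890005)) (BT.leaf (nat_lit 23173657))) (BT.node (nat_lit 6079680) (BT.leaf (nat_lit 34889733)) (BT.leaf (nat_lit 32013585))))) (BT.node (nat_lit 6080000) (BT.node (nat_lit 6079872) (BT.node (nat_lit 6079808) (BT.leaf (nat_lit 31259161)) (BT.leaf (nat_lit 46381077))) (BT.node (nat_lit 6079936) (BT.leaf (nat_lit 22650901)) (BT.leaf (nat_lit 28515089)))) (BT.node (nat_lit 6080128) (BT.node (nat_lit 6080064) (BT.leaf (nat_lit 34892305)) (BT.leaf (nat_lit 28658961))) (BT.node (nat_lit 6080192) (BT.leaf (nat_lit 31686941)) (BT.leaf (nat_lit 28546825)))))) (BT.node (nat_lit 6080768) (BT.node (nat_lit 6080512) (BT.node (nat_lit 6080384) (BT.node (nat_lit 6080320) (BT.leaf (nat_lit 34893341)) (BT.leaf (nat_lit 23259929))) (BT.node (nat_lit 6080448) (BT.leaf (nat_lit 23259933)) (BT.leaf (nat_lit 34894613)))) (BT.node (nat_lit 6080640) (BT.node (nat_lit 6080576) (BT.leaf (nat_lit 23326737)) (BT.leaf (nat_lit 23482901))) (BT.node (nat_lit 6080704) (BT.leaf (nat_lit 34869009)) (BT.leaf (nat_lit 24322585))))) (BT.node (nat_lit 6081024) (BT.node (nat_lit 6080896) (BT.node (nat_lit 6080832) (BT.leaf (nat_lit 24865305)) (BT.leaf (nat_lit 24865309))) (BT.node (nat_lit 6080960) (BT.leaf (nat_lit 52315153)) (BT.leaf (nat_lit 23349265)))) (BT.node (nat_lit 6081152) (BT.node (nat_lit 6081088) (BT.leaf (nat_lit 30578465)) (BT.leaf (nat_lit 30652961))) (BT.node (nat_lit 6081216) (BT.leaf (nat_lit 34897429)) (BT.leaf (nat_lit 34897941)))))))) (BT.node (nat_lit 6083328) (BT.node (nat_lit 6082304) (BT.node (nat_lit 6081792) (BT.node (nat_lit 6081536) (BT.node (nat_lit 6081408) (BT.node (nat_lit 6081344) (BT.leaf (nat_lit 24098821)) (BT.leaf (nat_lit 28403461))) (BT.node (nat_lit 6081472) (BT.leaf (nat_lit 24098849)) (BT.leaf (nat_lit 33492233)))) (BT.node (nat_lit 6081664) (BT.node (nat_lit 6081600) (BT.leaf (nat_lit 48490777)) (BT.leaf (nat_lit 29092129))) (BT.node (nat_lit 6081728) (BT.leaf (nat_lit 48892949)) (BT.leaf (nat_lit 31723785))))) (BT.node (nat_lit 6082048) (BT.node (nat_lit 6081920) (BT.node (nat_lit 6081856) (BT.leaf (nat_lit 22541061)) (BT.leaf (nat_lit 51387149))) (BT.node (nat_lit 6081984) (BT.leaf (nat_lit 50382861)) (BT.leaf (nat_lit 50382605)))) (BT.node (nat_lit 6082176) (BT.node (nat_lit 6082112) (BT.leaf (nat_lit 52181777)) (BT.leaf (nat_lit 28646421))) (BT.node (nat_lit 6082240) (BT.leaf (nat_lit 20894745)) (BT.leaf (nat_lit 34902037)))))) (BT.node (nat_lit 6082816) (BT.node (nat_lit 6082560) (BT.node (nat_lit 6082432) (BT.node (nat_lit 6082368) (BT.leaf (nat_lit 28205857)) (BT.leaf (nat_lit 34903321))) (BT.node (nat_lit 6082496) (BT.leaf (nat_lit 30369289)) (BT.leaf (nat_lit 34903829)))) (BT.node (nat_lit 6082688) (BT.node (nat_lit 6082624) (BT.leaf (nat_lit 33890833)) (BT.leaf (nat_lit 21891089))) (BT.node (nat_lit 6082752) (BT.leaf (nat_lit 30855685)) (BT.leaf (nat_lit 48316681))))) (BT.node (nat_lit 6083072) (BT.node (nat_lit 6082944) (BT.node (nat_lit 6082880) (BT.leaf (nat_lit 49071389)) (BT.leaf (nat_lit 49071117))) (BT.node (nat_lit 6083008) (BT.leaf (nat_lit 25877253)) (BT.leaf (nat_lit 27340825)))) (BT.node (nat_lit 6083200) (BT.node (nat_lit 6083136) (BT.leaf (nat_lit 23606561)) (BT.leaf (nat_lit 25735957))) (BT.node (nat_lit 6083264) (BT.leaf (nat_lit 50458641)) (BT.leaf (nat_lit 23969821))))))) (BT.node (nat_lit 6084352) (BT.node (nat_lit 6083840) (BT.node (nat_lit 6083584) (BT.node (nat_lit 6083456) (BT.node (nat_lit 6083392) (BT.leaf (nat_lit 25788957)) (BT.leaf (nat_lit 23899913))) (BT.node (nat_lit 6083520) (BT.leaf (nat_lit 25789465)) (BT.leaf (nat_lit 20854549)))) (BT.node (nat_lit 6083712) (BT.node (nat_lit 6083648) (BT.leaf (nat_lit 50966297)) (BT.leaf (nat_lit 33310229))) (BT.node (nat_lit 6083776) (BT.leaf (nat_lit 34906641)) (BT.leaf (nat_lit 21348641))))) (BT.node (nat_lit 6084096) (BT.node (nat_lit 6083968) (BT.node (nat_lit 6083904) (BT.leaf (nat_lit 46778645)) (BT.leaf (nat_lit 21142289))) (BT.node (nat_lit 6084032) (BT.leaf (nat_lit 34908433)) (BT.leaf (nat_lit 23586065)))) (BT.node (nat_lit 6084224) (BT.node (nat_lit 6084160) (BT.leaf (nat_lit 33802017)) (BT.leaf (nat_lit 25805081))) (BT.node (nat_lit 6084288) (BT.leaf (nat_lit 23084321)) (BT.leaf (nat_lit 25818637)))))) (BT.node (nat_lit 6084864) (BT.node (nat_lit 6084608) (BT.node (nat_lit 6084480) (BT.node (nat_lit 6084416) (BT.leaf (nat_lit 24337693)) (BT.leaf (nat_lit 30593029))) (BT.node (nat_lit 6084544) (BT.leaf (nat_lit 27815189)) (BT.leaf (nat_lit 29309189)))) (BT.node (nat_lit 6084736) (BT.node (nat_lit 6084672) (BT.leaf (nat_lit 34909717)) (BT.leaf (nat_lit 34909965))) (BT.node (nat_lit 6084800) (BT.leaf (nat_lit 33861921)) (BT.leaf (nat_lit 34910213))))) (BT.node (nat_lit 6085120) (BT.node (nat_lit 6084992) (BT.node (nat_lit 6084928) (BT.leaf (nat_lit 25445401)) (BT.leaf (nat_lit 25445405))) (BT.node (nat_lit 6085056) (BT.leaf (nat_lit 33474845)) (BT.leaf (nat_lit 24867873)))) (BT.node (nat_lit 6085248) (BT.node (nat_lit 6085184) (BT.leaf (nat_lit 26015765)) (BT.leaf (nat_lit 25279761))) (BT.node (nat_lit 6085312) (BT.leaf (nat_lit 25279765)) (BT.leaf (nat_lit 23649297)))))))))) (BT.node (nat_lit 6093568) (BT.node (nat_lit 6089472) (BT.node (nat_lit 6087424) (BT.node (nat_lit 6086400) (BT.node (nat_lit 6085888) (BT.node (nat_lit 6085632) (BT.node (nat_lit 6085504) (BT.node (nat_lit 6085440) (BT.leaf (nat_lit 21516821)) (BT.leaf (nat_lit 34202885))) (BT.node (nat_lit 6085568) (BT.leaf (nat_lit 28257305)) (BT.leaf (nat_lit 33492245)))) (BT.node (nat_lit 6085760) (BT.node (nat_lit 6085696) (BT.leaf (nat_lit 32787489)) (BT.leaf (nat_lit 23652885))) (BT.node (nat_lit 6085824) (BT.leaf (nat_lit 22418453)) (BT.leaf (nat_lit 22419221))))) (BT.node (nat_lit 6086144) (BT.node (nat_lit 6086016) (BT.node (nat_lit 6085952) (BT.leaf (nat_lit 22419225)) (BT.leaf (nat_lit 23650825))) (BT.node (nat_lit 6086080) (BT.leaf (nat_lit 23650829)) (BT.leaf (nat_lit 50180641)))) (BT.node (nat_lit 6086272) (BT.node (nat_lit 6086208) (BT.leaf (nat_lit 25374485)) (BT.leaf (nat_lit 25804565))) (BT.node (nat_lit 6086336) (BT.leaf (nat_lit 28114701)) (BT.leaf (nat_lit 24256533)))))) (BT.node (nat_lit 6086912) (BT.node (nat_lit 6086656) (BT.node (nat_lit 6086528) (BT.node (nat_lit 6086464) (BT.leaf (nat_lit 24248353)) (BT.leaf (nat_lit 23129377))) (BT.node (nat_lit 6086592) (BT.leaf (nat_lit 23947033)) (BT.leaf (nat_lit 24360725)))) (BT.node (nat_lit 6086784) (BT.node (nat_lit 6086720) (BT.leaf (nat_lit 23596573)) (BT.leaf (nat_lit 21352729))) (BT.node (nat_lit 6086848) (BT.leaf (nat_lit 33662493)) (BT.leaf (nat_lit 33230089))))) (BT.node (nat_lit 6087168) (BT.node (nat_lit 6087040) (BT.node (nat_lit 6086976) (BT.leaf (nat_lit 27753249)) (BT.leaf (nat_lit 26315789))) (BT.node (nat_lit 6087104) (BT.leaf (nat_lit 23106337)) (BT.leaf (nat_lit 21354261)))) (BT.node (nat_lit 6087296) (BT.node (nat_lit 6087232) (BT.leaf (nat_lit 23737617)) (BT.leaf (nat_lit 21355025))) (BT.node (nat_lit 6087360) (BT.leaf (nat_lit 21345809)) (BT.leaf (nat_lit 21354769))))))) (BT.node (nat_lit 6088448) (BT.node (nat_lit 6087936) (BT.node (nat_lit 6087680) (BT.node (nat_lit 6087552) (BT.node (nat_lit 6087488) (BT.leaf (nat_lit 23946773)) (BT.leaf (nat_lit 21356049))) (BT.node (nat_lit 6087616) (BT.leaf (nat_lit 21355537)) (BT.leaf (nat_lit 21355281)))) (BT.node (nat_lit 6087808) (BT.node (nat_lit 6087744) (BT.leaf (nat_lit 50026005)) (BT.leaf (nat_lit 29185313))) (BT.node (nat_lit 6087872) (BT.leaf (nat_lit 33671713)) (BT.leaf (nat_lit 33671457))))) (BT.node (nat_lit 6088192) (BT.node (nat_lit 6088064) (BT.node (nat_lit 6088000) (BT.leaf (nat_lit 23608353)) (BT.leaf (nat_lit 41613333))) (BT.node (nat_lit 6088128) (BT.leaf (nat_lit 31214101)) (BT.leaf (nat_lit 50692109)))) (BT.node (nat_lit 6088320) (BT.node (nat_lit 6088256) (BT.leaf (nat_lit 29987101)) (BT.leaf (nat_lit 50785297))) (BT.node (nat_lit 6088384) (BT.leaf (nat_lit 31723793)) (BT.leaf (nat_lit 31214109)))))) (BT.node (nat_lit 6088960) (BT.node (nat_lit 6088704) (BT.node (nat_lit 6088576) (BT.node (nat_lit 6088512) (BT.leaf (nat_lit 51461389)) (BT.leaf (nat_lit 51461385))) (BT.node (nat_lit 6088640) (BT.leaf (nat_lit 34927381)) (BT.leaf (nat_lit 23487513)))) (BT.node (nat_lit 6088832) (BT.node (nat_lit 6088768) (BT.leaf (nat_lit 31246101)) (BT.leaf (nat_lit 30353181))) (BT.node (nat_lit 6088896) (BT.leaf (nat_lit 50374937)) (BT.leaf (nat_lit 23124997))))) (BT.node (nat_lit 6089216) (BT.node (nat_lit 6089088) (BT.node (nat_lit 6089024) (BT.leaf (nat_lit 21362449)) (BT.leaf (nat_lit 21351953))) (BT.node (nat_lit 6089152) (BT.leaf (nat_lit 21361937)) (BT.leaf (nat_lit 21362961)))) (BT.node (nat_lit 6089344) (BT.node (nat_lit 6089280) (BT.leaf (nat_lit 32151833)) (BT.leaf (nat_lit 23466265))) (BT.node (nat_lit 6089408) (BT.leaf (nat_lit 32786721)) (BT.leaf (nat_lit 21362705)))))))) (BT.node (nat_lit 6091520) (BT.node (nat_lit 6090496) (BT.node (nat_lit 6089984) (BT.node (nat_lit 6089728) (BT.node (nat_lit 6089600) (BT.node (nat_lit 6089536) (BT.leaf (nat_lit 22848273)) (BT.leaf (nat_lit 22318877))) (BT.node (nat_lit 6089664) (BT.leaf (nat_lit 26621461)) (BT.leaf (nat_lit 34932245)))) (BT.node (nat_lit 6089856) (BT.node (nat_lit 6089792) (BT.leaf (nat_lit 34933013)) (BT.leaf (nat_lit 34933537))) (BT.node (nat_lit 6089920) (BT.leaf (nat_lit 22692885)) (BT.leaf (nat_lit 21363985))))) (BT.node (nat_lit 6090240) (BT.node (nat_lit 6090112) (BT.node (nat_lit 6090048) (BT.leaf (nat_lit 21343505)) (BT.leaf (nat_lit 25469701))) (BT.node (nat_lit 6090176) (BT.leaf (nat_lit 33662489)) (BT.leaf (nat_lit 34175513)))) (BT.node (nat_lit 6090368) (BT.node (nat_lit 6090304) (BT.leaf (nat_lit 24361245)) (BT.leaf (nat_lit 34934801))) (BT.node (nat_lit 6090432) (BT.leaf (nat_lit 25774621)) (BT.leaf (nat_lit 23254021)))))) (BT.node (nat_lit 6091008) (BT.node (nat_lit 6090752) (BT.node (nat_lit 6090624) (BT.node (nat_lit 6090560) (BT.leaf (nat_lit 21364241)) (BT.leaf (nat_lit 34360325))) (BT.node (nat_lit 6090688) (BT.leaf (nat_lit 21365009)) (BT.leaf (nat_lit 21355793)))) (BT.node (nat_lit 6090880) (BT.node (nat_lit 6090816) (BT.leaf (nat_lit 21346321)) (BT.leaf (nat_lit 21364753))) (BT.node (nat_lit 6090944) (BT.leaf (nat_lit 23293201)) (BT.leaf (nat_lit 21345297))))) (BT.node (nat_lit 6091264) (BT.node (nat_lit 6091136) (BT.node (nat_lit 6091072) (BT.leaf (nat_lit 21365265)) (BT.leaf (nat_lit 27245845))) (BT.node (nat_lit 6091200) (BT.leaf (nat_lit 46517773)) (BT.leaf (nat_lit 25810965)))) (BT.node (nat_lit 6091392) (BT.node (nat_lit 6091328) (BT.leaf (nat_lit 21902101)) (BT.leaf (nat_lit 46778889))) (BT.node (nat_lit 6091456) (BT.leaf (nat_lit 22773533)) (BT.leaf (nat_lit 22773537))))))) (BT.node (nat_lit 6092544) (BT.node (nat_lit 6092032) (BT.node (nat_lit 6091776) (BT.node (nat_lit 6091648) (BT.node (nat_lit 6091584) (BT.leaf (nat_lit 32056077)) (BT.leaf (nat_lit 24700437))) (BT.node (nat_lit 6091712) (BT.leaf (nat_lit 34923537)) (BT.leaf (nat_lit 34945813)))) (BT.node (nat_lit 6091904) (BT.node (nat_lit 6091840) (BT.leaf (nat_lit 32064781)) (BT.leaf (nat_lit 23740421))) (BT.node (nat_lit 6091968) (BT.leaf (nat_lit 30207773)) (BT.leaf (nat_lit 24392465))))) (BT.node (nat_lit 6092288) (BT.node (nat_lit 6092160) (BT.node (nat_lit 6092096) (BT.leaf (nat_lit 30917893)) (BT.leaf (nat_lit 33503513))) (BT.node (nat_lit 6092224) (BT.leaf (nat_lit 27752737)) (BT.leaf (nat_lit 24683041)))) (BT.node (nat_lit 6092416) (BT.node (nat_lit 6092352) (BT.leaf (nat_lit 25807645)) (BT.leaf (nat_lit 23107077))) (BT.node (nat_lit 6092480) (BT.leaf (nat_lit 21367569)) (BT.leaf (nat_lit 21367313)))))) (BT.node (nat_lit 6093056) (BT.node (nat_lit 6092800) (BT.node (nat_lit 6092672) (BT.node (nat_lit 6092608) (BT.leaf (nat_lit 34947089)) (BT.leaf (nat_lit 32826901))) (BT.node (nat_lit 6092736) (BT.leaf (nat_lit 25147665)) (BT.leaf (nat_lit 33097501)))) (BT.node (nat_lit 6092928) (BT.node (nat_lit 6092864) (BT.leaf (nat_lit 33099549)) (BT.leaf (nat_lit 27508001))) (BT.node (nat_lit 6092992) (BT.leaf (nat_lit 24279841)) (BT.leaf (nat_lit 24115989))))) (BT.node (nat_lit 6093312) (BT.node (nat_lit 6093184) (BT.node (nat_lit 6093120) (BT.leaf (nat_lit 28915985)) (BT.leaf (nat_lit 34694673))) (BT.node (nat_lit 6093248) (BT.leaf (nat_lit 32102433)) (BT.leaf (nat_lit 34879765)))) (BT.node (nat_lit 6093440) (BT.node (nat_lit 6093376) (BT.leaf (nat_lit 33156617)) (BT.leaf (nat_lit 28915741))) (BT.node (nat_lit 6093504) (BT.leaf (nat_lit 34191641)) (BT.leaf (nat_lit 23564817))))))))) (BT.node (nat_lit 6097664) (BT.node (nat_lit 6095616) (BT.node (nat_lit 6094592) (BT.node (nat_lit 6094080) (BT.node (nat_lit 6093824) (BT.node (nat_lit 6093696) (BT.node (nat_lit 6093632) (BT.leaf (nat_lit 29126173)) (BT.leaf (nat_lit 32101637))) (BT.node (nat_lit 6093760) (BT.leaf (nat_lit 34949125)) (BT.leaf (nat_lit 30179873)))) (BT.node (nat_lit 6093952) (BT.node (nat_lit 6093888) (BT.leaf (nat_lit 28136197)) (BT.leaf (nat_lit 34949653))) (BT.node (nat_lit 6094016) (BT.leaf (nat_lit 30777861)) (BT.leaf (nat_lit 25706005))))) (BT.node (nat_lit 6094336) (BT.node (nat_lit 6094208) (BT.node (nat_lit 6094144) (BT.leaf (nat_lit 24375325)) (BT.leaf (nat_lit 21280029))) (BT.node (nat_lit 6094272) (BT.leaf (nat_lit 28139269)) (BT.leaf (nat_lit 28139781)))) (BT.node (nat_lit 6094464) (BT.node (nat_lit 6094400) (BT.leaf (nat_lit 48305429)) (BT.leaf (nat_lit 26916117))) (BT.node (nat_lit 6094528) (BT.leaf (nat_lit 47347225)) (BT.leaf (nat_lit 21369361)))))) (BT.node (nat_lit 6095104) (BT.node (nat_lit 6094848) (BT.node (nat_lit 6094720) (BT.node (nat_lit 6094656) (BT.leaf (nat_lit 34951445)) (BT.leaf (nat_lit 22998029))) (BT.node (nat_lit 6094784) (BT.leaf (nat_lit 22955797)) (BT.leaf (nat_lit 33354005)))) (BT.node (nat_lit 6094976) (BT.node (nat_lit 6094912) (BT.leaf (nat_lit 21904917)) (BT.leaf (nat_lit 34196501))) (BT.node (nat_lit 6095040) (BT.leaf (nat_lit 34952977)) (BT.leaf (nat_lit 21370897))))) (BT.node (nat_lit 6095360) (BT.node (nat_lit 6095232) (BT.node (nat_lit 6095168) (BT.leaf (nat_lit 21370901)) (BT.leaf (nat_lit 21304857))) (BT.node (nat_lit 6095296) (BT.leaf (nat_lit 25744661)) (BT.leaf (nat_lit 32119829)))) (BT.node (nat_lit 6095488) (BT.node (nat_lit 6095424) (BT.leaf (nat_lit 23061793)) (BT.leaf (nat_lit 25246229))) (BT.node (nat_lit 6095552) (BT.leaf (nat_lit 24383245)) (BT.leaf (nat_lit 30915617))))))) (BT.node (nat_lit 6096640) (BT.node (nat_lit 6096128) (BT.node (nat_lit 6095872) (BT.node (nat_lit 6095744) (BT.node (nat_lit 6095680) (BT.leaf (nat_lit 29618193)) (BT.leaf (nat_lit 34954773))) (BT.node (nat_lit 6095808) (BT.leaf (nat_lit 22382873)) (BT.leaf (nat_lit 34955029)))) (BT.node (nat_lit 6096000) (BT.node (nat_lit 6095936) (BT.leaf (nat_lit 32067349)) (BT.leaf (nat_lit 32067089))) (BT.node (nat_lit 6096064) (BT.leaf (nat_lit 34373649)) (BT.leaf (nat_lit 21298457))))) (BT.node (nat_lit 6096384) (BT.node (nat_lit 6096256) (BT.node (nat_lit 6096192) (BT.leaf (nat_lit 25732125)) (BT.leaf (nat_lit 28841749))) (BT.node (nat_lit 6096320) (BT.leaf (nat_lit 33423901)) (BT.leaf (nat_lit 34684945)))) (BT.node (nat_lit 6096512) (BT.node (nat_lit 6096448) (BT.leaf (nat_lit 50728721)) (BT.leaf (nat_lit 34369825))) (BT.node (nat_lit 6096576) (BT.leaf (nat_lit 34369569)) (BT.leaf (nat_lit 34958873)))))) (BT.node (nat_lit 6097152) (BT.node (nat_lit 6096896) (BT.node (nat_lit 6096768) (BT.node (nat_lit 6096704) (BT.leaf (nat_lit 32128277)) (BT.leaf (nat_lit 30910489))) (BT.node (nat_lit 6096832) (BT.leaf (nat_lit 22346257)) (BT.leaf (nat_lit 22807325)))) (BT.node (nat_lit 6097024) (BT.node (nat_lit 6096960) (BT.leaf (nat_lit 25243165)) (BT.leaf (nat_lit 24440589))) (BT.node (nat_lit 6097088) (BT.leaf (nat_lit 24440605)) (BT.leaf (nat_lit 49990673))))) (BT.node (nat_lit 6097408) (BT.node (nat_lit 6097280) (BT.node (nat_lit 6097216) (BT.leaf (nat_lit 32480005)) (BT.leaf (nat_lit 51000077))) (BT.node (nat_lit 6097344) (BT.leaf (nat_lit 37206037)) (BT.leaf (nat_lit 24085781)))) (BT.node (nat_lit 6097536) (BT.node (nat_lit 6097472) (BT.leaf (nat_lit 34961677)) (BT.leaf (nat_lit 29613317))) (BT.node (nat_lit 6097600) (BT.leaf (nat_lit 23922449)) (BT.leaf (nat_lit 50447897)))))))) (BT.node (nat_lit 6099712) (BT.node (nat_lit 6098688) (BT.node (nat_lit 6098176) (BT.node (nat_lit 6097920) (BT.node (nat_lit 6097792) (BT.node (nat_lit 6097728) (BT.leaf (nat_lit 23505433)) (BT.leaf (nat_lit 23505437))) (BT.node (nat_lit 6097856) (BT.leaf (nat_lit 21391377)) (BT.leaf (nat_lit 24837133)))) (BT.node (nat_lit 6098048) (BT.node (nat_lit 6097984) (BT.leaf (nat_lit 21373469)) (BT.leaf (nat_lit 31592205))) (BT.node (nat_lit 6098112) (BT.leaf (nat_lit 30329865)) (BT.leaf (nat_lit 46933001))))) (BT.node (nat_lit 6098432) (BT.node (nat_lit 6098304) (BT.node (nat_lit 6098240) (BT.leaf (nat_lit 24384025)) (BT.leaf (nat_lit 32067617))) (BT.node (nat_lit 6098368) (BT.leaf (nat_lit 28022049)) (BT.leaf (nat_lit 52069649)))) (BT.node (nat_lit 6098560) (BT.node (nat_lit 6098496) (BT.leaf (nat_lit 31226913)) (BT.leaf (nat_lit 29990929))) (BT.node (nat_lit 6098624) (BT.leaf (nat_lit 27048729)) (BT.leaf (nat_lit 21460245)))))) (BT.node (nat_lit 6099200) (BT.node (nat_lit 6098944) (BT.node (nat_lit 6098816) (BT.node (nat_lit 6098752) (BT.leaf (nat_lit 27039253)) (BT.leaf (nat_lit 51712529))) (BT.node (nat_lit 6098880) (BT.leaf (nat_lit 48949257)) (BT.leaf (nat_lit 34966553)))) (BT.node (nat_lit 6099072) (BT.node (nat_lit 6099008) (BT.leaf (nat_lit 34176289)) (BT.leaf (nat_lit 50704409))) (BT.node (nat_lit 6099136) (BT.leaf (nat_lit 50704413)) (BT.leaf (nat_lit 23785477))))) (BT.node (nat_lit 6099456) (BT.node (nat_lit 6099328) (BT.node (nat_lit 6099264) (BT.leaf (nat_lit 21374737)) (BT.leaf (nat_lit 21281041))) (BT.node (nat_lit 6099392) (BT.leaf (nat_lit 21313041)) (BT.leaf (nat_lit 20979217)))) (BT.node (nat_lit 6099584) (BT.node (nat_lit 6099520) (BT.leaf (nat_lit 31591445)) (BT.leaf (nat_lit 31591185))) (BT.node (nat_lit 6099648) (BT.leaf (nat_lit 30922245)) (BT.leaf (nat_lit 32158725))))))) (BT.node (nat_lit 6100736) (BT.node (nat_lit 6100224) (BT.node (nat_lit 6099968) (BT.node (nat_lit 6099840) (BT.node (nat_lit 6099776) (BT.leaf (nat_lit 24399117)) (BT.leaf (nat_lit 33070101))) (BT.node (nat_lit 6099904) (BT.leaf (nat_lit 34416661)) (BT.leaf (nat_lit 34711325)))) (BT.node (nat_lit 6100096) (BT.node (nat_lit 6100032) (BT.leaf (nat_lit 33879053)) (BT.leaf (nat_lit 46990853))) (BT.node (nat_lit 6100160) (BT.leaf (nat_lit 33879321)) (BT.leaf (nat_lit 25580577))))) (BT.node (nat_lit 6100480) (BT.node (nat_lit 6100352) (BT.node (nat_lit 6100288) (BT.leaf (nat_lit 27568397)) (BT.leaf (nat_lit 37056785))) (BT.node (nat_lit 6100416) (BT.leaf (nat_lit 31223061)) (BT.leaf (nat_lit 34972693)))) (BT.node (nat_lit 6100608) (BT.node (nat_lit 6100544) (BT.leaf (nat_lit 34972945)) (BT.leaf (nat_lit 52051973))) (BT.node (nat_lit 6100672) (BT.leaf (nat_lit 30159637)) (BT.leaf (nat_lit 25705757)))))) (BT.node (nat_lit 6101248) (BT.node (nat_lit 6100992) (BT.node (nat_lit 6100864) (BT.node (nat_lit 6100800) (BT.leaf (nat_lit 30160145)) (BT.leaf (nat_lit 52052001))) (BT.node (nat_lit 6100928) (BT.leaf (nat_lit 34974477)) (BT.leaf (nat_lit 24185621)))) (BT.node (nat_lit 6101120) (BT.node (nat_lit 6101056) (BT.leaf (nat_lit 30502673)) (BT.leaf (nat_lit 34974997))) (BT.node (nat_lit 6101184) (BT.leaf (nat_lit 22854929)) (BT.leaf (nat_lit 26036765))))) (BT.node (nat_lit 6101504) (BT.node (nat_lit 6101376) (BT.node (nat_lit 6101312) (BT.leaf (nat_lit 23512593)) (BT.leaf (nat_lit 34146577))) (BT.node (nat_lit 6101440) (BT.leaf (nat_lit 34146581)) (BT.leaf (nat_lit 34387729)))) (BT.node (nat_lit 6101632) (BT.node (nat_lit 6101568) (BT.leaf (nat_lit 31240717)) (BT.leaf (nat_lit 23515165))) (BT.node (nat_lit 6101696) (BT.leaf (nat_lit 31240733)) (BT.leaf (nat_lit 22401041)))))))))))) (BT.node (nat_lit 6134528) (BT.node (nat_lit 6118144) (BT.node (nat_lit 6109952) (BT.node (nat_lit 6105856) (BT.node (nat_lit 6103808) (BT.node (nat_lit 6102784) (BT.node (nat_lit 6102272) (BT.node (nat_lit 6102016) (BT.node (nat_lit 6101888) (BT.node (nat_lit 6101824) (BT.leaf (nat_lit 22401045)) (BT.leaf (nat_lit 46897161))) (BT.node (nat_lit 6101952) (BT.leaf (nat_lit 24185109)) (BT.leaf (nat_lit 23786505)))) (BT.node (nat_lit 6102144) (BT.node (nat_lit 6102080) (BT.leaf (nat_lit 24171793)) (BT.leaf (nat_lit 24683525))) (BT.node (nat_lit 6102208) (BT.leaf (nat_lit 23796489)) (BT.leaf (nat_lit 49389585))))) (BT.node (nat_lit 6102528) (BT.node (nat_lit 6102400) (BT.node (nat_lit 6102336) (BT.leaf (nat_lit 27525149)) (BT.leaf (nat_lit 28956173))) (BT.node (nat_lit 6102464) (BT.leaf (nat_lit 31047437)) (BT.leaf (nat_lit 23124249)))) (BT.node (nat_lit 6102656) (BT.node (nat_lit 6102592) (BT.leaf (nat_lit 23023877)) (BT.leaf (nat_lit 24120097))) (BT.node (nat_lit 6102720) (BT.leaf (nat_lit 21391893)) (BT.leaf (nat_lit 34979857)))))) (BT.node (nat_lit 6103296) (BT.node (nat_lit 6103040) (BT.node (nat_lit 6102912) (BT.node (nat_lit 6102848) (BT.leaf (nat_lit 24410905)) (BT.leaf (nat_lit 28464661))) (BT.node (nat_lit 6102976) (BT.leaf (nat_lit 34980113)) (BT.leaf (nat_lit 21468701)))) (BT.node (nat_lit 6103168) (BT.node (nat_lit 6103104) (BT.leaf (nat_lit 23151641)) (BT.leaf (nat_lit 23152149))) (BT.node (nat_lit 6103232) (BT.leaf (nat_lit 23785737)) (BT.leaf (nat_lit 28853525))))) (BT.node (nat_lit 6103552) (BT.node (nat_lit 6103424) (BT.node (nat_lit 6103360) (BT.leaf (nat_lit 23043333)) (BT.leaf (nat_lit 34980885))) (BT.node (nat_lit 6103488) (BT.leaf (nat_lit 26279697)) (BT.leaf (nat_lit 27898393)))) (BT.node (nat_lit 6103680) (BT.node (nat_lit 6103616) (BT.leaf (nat_lit 50265093)) (BT.leaf (nat_lit 34981913))) (BT.node (nat_lit 6103744) (BT.leaf (nat_lit 27907105)) (BT.leaf (nat_lit 29775889))))))) (BT.node (nat_lit 6104832) (BT.node (nat_lit 6104320) (BT.node (nat_lit 6104064) (BT.node (nat_lit 6103936) (BT.node (nat_lit 6103872) (BT.leaf (nat_lit 27369761)) (BT.leaf (nat_lit 23868177))) (BT.node (nat_lit 6104000) (BT.leaf (nat_lit 46387997)) (BT.leaf (nat_lit 34982421)))) (BT.node (nat_lit 6104192) (BT.node (nat_lit 6104128) (BT.leaf (nat_lit 47205637)) (BT.leaf (nat_lit 31205401))) (BT.node (nat_lit 6104256) (BT.leaf (nat_lit 33948945)) (BT.leaf (nat_lit 28037381))))) (BT.node (nat_lit 6104576) (BT.node (nat_lit 6104448) (BT.node (nat_lit 6104384) (BT.leaf (nat_lit 34310425)) (BT.leaf (nat_lit 30984721))) (BT.node (nat_lit 6104512) (BT.leaf (nat_lit 28533521)) (BT.leaf (nat_lit 27488785)))) (BT.node (nat_lit 6104704) (BT.node (nat_lit 6104640) (BT.leaf (nat_lit 34985489)) (BT.leaf (nat_lit 24418329))) (BT.node (nat_lit 6104768) (BT.leaf (nat_lit 33948177)) (BT.leaf (nat_lit 33565985)))))) (BT.node (nat_lit 6105344) (BT.node (nat_lit 6105088) (BT.node (nat_lit 6104960) (BT.node (nat_lit 6104896) (BT.leaf (nat_lit 23454229)) (BT.leaf (nat_lit 34525713))) (BT.node (nat_lit 6105024) (BT.leaf (nat_lit 20841501)) (BT.leaf (nat_lit 34987797)))) (BT.node (nat_lit 6105216) (BT.node (nat_lit 6105152) (BT.leaf (nat_lit 24160033)) (BT.leaf (nat_lit 24159777))) (BT.node (nat_lit 6105280) (BT.leaf (nat_lit 27836165)) (BT.leaf (nat_lit 34911761))))) (BT.node (nat_lit 6105600) (BT.node (nat_lit 6105472) (BT.node (nat_lit 6105408) (BT.leaf (nat_lit 22380577)) (BT.leaf (nat_lit 22469905))) (BT.node (nat_lit 6105536) (BT.leaf (nat_lit 52125209)) (BT.leaf (nat_lit 23669269)))) (BT.node (nat_lit 6105728) (BT.node (nat_lit 6105664) (BT.leaf (nat_lit 50541333)) (BT.leaf (nat_lit 23866641))) (BT.node (nat_lit 6105792) (BT.leaf (nat_lit 33887493)) (BT.leaf (nat_lit 23749137)))))))) (BT.node (nat_lit 6107904) (BT.node (nat_lit 6106880) (BT.node (nat_lit 6106368) (BT.node (nat_lit 6106112) (BT.node (nat_lit 6105984) (BT.node (nat_lit 6105920) (BT.leaf (nat_lit 28270369)) (BT.leaf (nat_lit 21407249))) (BT.node (nat_lit 6106048) (BT.leaf (nat_lit 21217041)) (BT.leaf (nat_lit 21498397)))) (BT.node (nat_lit 6106240) (BT.node (nat_lit 6106176) (BT.leaf (nat_lit 31259913)) (BT.leaf (nat_lit 34990085))) (BT.node (nat_lit 6106304) (BT.leaf (nat_lit 24283149)) (BT.leaf (nat_lit 31396885))))) (BT.node (nat_lit 6106624) (BT.node (nat_lit 6106496) (BT.node (nat_lit 6106432) (BT.leaf (nat_lit 48283413)) (BT.leaf (nat_lit 34520077))) (BT.node (nat_lit 6106560) (BT.leaf (nat_lit 22563609)) (BT.leaf (nat_lit 34990613)))) (BT.node (nat_lit 6106752) (BT.node (nat_lit 6106688) (BT.leaf (nat_lit 30204949)) (BT.leaf (nat_lit 25982477))) (BT.node (nat_lit 6106816) (BT.leaf (nat_lit 25936149)) (BT.leaf (nat_lit 21874717)))))) (BT.node (nat_lit 6107392) (BT.node (nat_lit 6107136) (BT.node (nat_lit 6107008) (BT.node (nat_lit 6106944) (BT.leaf (nat_lit 20995357)) (BT.leaf (nat_lit 24224281))) (BT.node (nat_lit 6107072) (BT.leaf (nat_lit 21446165)) (BT.leaf (nat_lit 23999769)))) (BT.node (nat_lit 6107264) (BT.node (nat_lit 6107200) (BT.leaf (nat_lit 22652949)) (BT.leaf (nat_lit 24428569))) (BT.node (nat_lit 6107328) (BT.leaf (nat_lit 24187925)) (BT.leaf (nat_lit 31938589))))) (BT.node (nat_lit 6107648) (BT.node (nat_lit 6107520) (BT.node (nat_lit 6107456) (BT.leaf (nat_lit 22545681)) (BT.leaf (nat_lit 29750297))) (BT.node (nat_lit 6107584) (BT.leaf (nat_lit 34994957)) (BT.leaf (nat_lit 30459409)))) (BT.node (nat_lit 6107776) (BT.node (nat_lit 6107712) (BT.leaf (nat_lit 34996765)) (BT.leaf (nat_lit 28086801))) (BT.node (nat_lit 6107840) (BT.leaf (nat_lit 25852685)) (BT.leaf (nat_lit 25853973))))))) (BT.node (nat_lit 6108928) (BT.node (nat_lit 6108416) (BT.node (nat_lit 6108160) (BT.node (nat_lit 6108032) (BT.node (nat_lit 6107968) (BT.leaf (nat_lit 21383193)) (BT.leaf (nat_lit 25854233))) (BT.node (nat_lit 6108096) (BT.leaf (nat_lit 23075093)) (BT.leaf (nat_lit 33011973)))) (BT.node (nat_lit 6108288) (BT.node (nat_lit 6108224) (BT.leaf (nat_lit 25732885)) (BT.leaf (nat_lit 23662877))) (BT.node (nat_lit 6108352) (BT.leaf (nat_lit 23330065)) (BT.leaf (nat_lit 23330069))))) (BT.node (nat_lit 6108672) (BT.node (nat_lit 6108544) (BT.node (nat_lit 6108480) (BT.leaf (nat_lit 24209685)) (BT.leaf (nat_lit 24209689))) (BT.node (nat_lit 6108608) (BT.leaf (nat_lit 24209693)) (BT.leaf (nat_lit 34998541)))) (BT.node (nat_lit 6108800) (BT.node (nat_lit 6108736) (BT.leaf (nat_lit 22700313)) (BT.leaf (nat_lit 22700317))) (BT.node (nat_lit 6108864) (BT.leaf (nat_lit 21383961)) (BT.leaf (nat_lit 25667097)))))) (BT.node (nat_lit 6109440) (BT.node (nat_lit 6109184) (BT.node (nat_lit 6109056) (BT.node (nat_lit 6108992) (BT.leaf (nat_lit 23332125)) (BT.leaf (nat_lit 23760133))) (BT.node (nat_lit 6109120) (BT.leaf (nat_lit 34998557)) (BT.leaf (nat_lit 33185313)))) (BT.node (nat_lit 6109312) (BT.node (nat_lit 6109248) (BT.leaf (nat_lit 27805729)) (BT.leaf (nat_lit 29089297))) (BT.node (nat_lit 6109376) (BT.leaf (nat_lit 29089053)) (BT.leaf (nat_lit 27566881))))) (BT.node (nat_lit 6109696) (BT.node (nat_lit 6109568) (BT.node (nat_lit 6109504) (BT.leaf (nat_lit 29163797)) (BT.leaf (nat_lit 49820181))) (BT.node (nat_lit 6109632) (BT.leaf (nat_lit 24059669)) (BT.leaf (nat_lit 33402133)))) (BT.node (nat_lit 6109824) (BT.node (nat_lit 6109760) (BT.leaf (nat_lit 47296265)) (BT.leaf (nat_lit 31551749))) (BT.node (nat_lit 6109888) (BT.leaf (nat_lit 21384989)) (BT.leaf (nat_lit 21384477))))))))) (BT.node (nat_lit 6114048) (BT.node (nat_lit 6112000) (BT.node (nat_lit 6110976) (BT.node (nat_lit 6110464) (BT.node (nat_lit 6110208) (BT.node (nat_lit 6110080) (BT.node (nat_lit 6110016) (BT.leaf (nat_lit 21384733)) (BT.leaf (nat_lit 26668805))) (BT.node (nat_lit 6110144) (BT.leaf (nat_lit 23790101)) (BT.leaf (nat_lit 34411029)))) (BT.node (nat_lit 6110336) (BT.node (nat_lit 6110272) (BT.leaf (nat_lit 24440601)) (BT.leaf (nat_lit 34110753))) (BT.node (nat_lit 6110400) (BT.leaf (nat_lit 34411033)) (BT.leaf (nat_lit 33435169))))) (BT.node (nat_lit 6110720) (BT.node (nat_lit 6110592) (BT.node (nat_lit 6110528) (BT.leaf (nat_lit 33434913)) (BT.leaf (nat_lit 35005201))) (BT.node (nat_lit 6110656) (BT.leaf (nat_lit 35005457)) (BT.leaf (nat_lit 21385493)))) (BT.node (nat_lit 6110848) (BT.node (nat_lit 6110784) (BT.leaf (nat_lit 36317713)) (BT.leaf (nat_lit 29030153))) (BT.node (nat_lit 6110912) (BT.leaf (nat_lit 49454861)) (BT.leaf (nat_lit 31526173)))))) (BT.node (nat_lit 6111488) (BT.node (nat_lit 6111232) (BT.node (nat_lit 6111104) (BT.node (nat_lit 6111040) (BT.leaf (nat_lit 21912593)) (BT.leaf (nat_lit 21412113))) (BT.node (nat_lit 6111168) (BT.leaf (nat_lit 21412129)) (BT.leaf (nat_lit 24540689)))) (BT.node (nat_lit 6111360) (BT.node (nat_lit 6111296) (BT.leaf (nat_lit 21411869)) (BT.leaf (nat_lit 30679825))) (BT.node (nat_lit 6111424) (BT.leaf (nat_lit 21038365)) (BT.leaf (nat_lit 21038345))))) (BT.node (nat_lit 6111744) (BT.node (nat_lit 6111616) (BT.node (nat_lit 6111552) (BT.leaf (nat_lit 21399829)) (BT.leaf (nat_lit 22507269))) (BT.node (nat_lit 6111680) (BT.leaf (nat_lit 36117269)) (BT.leaf (nat_lit 24543509)))) (BT.node (nat_lit 6111872) (BT.node (nat_lit 6111808) (BT.leaf (nat_lit 35008277)) (BT.leaf (nat_lit 31669017))) (BT.node (nat_lit 6111936) (BT.leaf (nat_lit 25629725)) (BT.leaf (nat_lit 35008529))))))) (BT.node (nat_lit 6113024) (BT.node (nat_lit 6112512) (BT.node (nat_lit 6112256) (BT.node (nat_lit 6112128) (BT.node (nat_lit 6112064) (BT.leaf (nat_lit 21978133)) (BT.leaf (nat_lit 35009297))) (BT.node (nat_lit 6112192) (BT.leaf (nat_lit 24572177)) (BT.leaf (nat_lit 26029077)))) (BT.node (nat_lit 6112384) (BT.node (nat_lit 6112320) (BT.leaf (nat_lit 30530825)) (BT.leaf (nat_lit 23329569))) (BT.node (nat_lit 6112448) (BT.leaf (nat_lit 23032589)) (BT.leaf (nat_lit 28582933))))) (BT.node (nat_lit 6112768) (BT.node (nat_lit 6112640) (BT.node (nat_lit 6112576) (BT.leaf (nat_lit 27345165)) (BT.leaf (nat_lit 21913365))) (BT.node (nat_lit 6112704) (BT.leaf (nat_lit 21189397)) (BT.leaf (nat_lit 36894737)))) (BT.node (nat_lit 6112896) (BT.node (nat_lit 6112832) (BT.leaf (nat_lit 36894741)) (BT.leaf (nat_lit 35011869))) (BT.node (nat_lit 6112960) (BT.leaf (nat_lit 29765665)) (BT.leaf (nat_lit 29299981)))))) (BT.node (nat_lit 6113536) (BT.node (nat_lit 6113280) (BT.node (nat_lit 6113152) (BT.node (nat_lit 6113088) (BT.leaf (nat_lit 23999753)) (BT.leaf (nat_lit 29769733))) (BT.node (nat_lit 6113216) (BT.leaf (nat_lit 34061337)) (BT.leaf (nat_lit 29761029)))) (BT.node (nat_lit 6113408) (BT.node (nat_lit 6113344) (BT.leaf (nat_lit 23253793)) (BT.leaf (nat_lit 48059909))) (BT.node (nat_lit 6113472) (BT.leaf (nat_lit 25159705)) (BT.leaf (nat_lit 27407121))))) (BT.node (nat_lit 6113792) (BT.node (nat_lit 6113664) (BT.node (nat_lit 6113600) (BT.leaf (nat_lit 27407125)) (BT.leaf (nat_lit 22696209))) (BT.node (nat_lit 6113728) (BT.leaf (nat_lit 33374997)) (BT.leaf (nat_lit 21386001)))) (BT.node (nat_lit 6113920) (BT.node (nat_lit 6113856) (BT.leaf (nat_lit 24455437)) (BT.leaf (nat_lit 35014933))) (BT.node (nat_lit 6113984) (BT.leaf (nat_lit 31061261)) (BT.leaf (nat_lit 35015961)))))))) (BT.node (nat_lit 6116096) (BT.node (nat_lit 6115072) (BT.node (nat_lit 6114560) (BT.node (nat_lit 6114304) (BT.node (nat_lit 6114176) (BT.node (nat_lit 6114112) (BT.leaf (nat_lit 34910749)) (BT.leaf (nat_lit 28691485))) (BT.node (nat_lit 6114240) (BT.leaf (nat_lit 33205777)) (BT.leaf (nat_lit 33510421)))) (BT.node (nat_lit 6114432) (BT.node (nat_lit 6114368) (BT.leaf (nat_lit 27819797)) (BT.leaf (nat_lit 28690961))) (BT.node (nat_lit 6114496) (BT.leaf (nat_lit 50673673)) (BT.leaf (nat_lit 32281621))))) (BT.node (nat_lit 6114816) (BT.node (nat_lit 6114688) (BT.node (nat_lit 6114624) (BT.leaf (nat_lit 33208073)) (BT.leaf (nat_lit 29144609))) (BT.node (nat_lit 6114752) (BT.leaf (nat_lit 35017489)) (BT.leaf (nat_lit 26282517)))) (BT.node (nat_lit 6114944) (BT.node (nat_lit 6114880) (BT.leaf (nat_lit 27066385)) (BT.leaf (nat_lit 21045273))) (BT.node (nat_lit 6115008) (BT.leaf (nat_lit 21387293)) (BT.leaf (nat_lit 21386781)))))) (BT.node (nat_lit 6115584) (BT.node (nat_lit 6115328) (BT.node (nat_lit 6115200) (BT.node (nat_lit 6115136) (BT.leaf (nat_lit 21387289)) (BT.leaf (nat_lit 49126677))) (BT.node (nat_lit 6115264) (BT.leaf (nat_lit 47677465)) (BT.leaf (nat_lit 47677469)))) (BT.node (nat_lit 6115456) (BT.node (nat_lit 6115392) (BT.leaf (nat_lit 33199637)) (BT.leaf (nat_lit 35018769))) (BT.node (nat_lit 6115520) (BT.leaf (nat_lit 21241109)) (BT.leaf (nat_lit 21476885))))) (BT.node (nat_lit 6115840) (BT.node (nat_lit 6115712) (BT.node (nat_lit 6115648) (BT.leaf (nat_lit 28545825)) (BT.leaf (nat_lit 21806621))) (BT.node (nat_lit 6115776) (BT.leaf (nat_lit 35019797)) (BT.leaf (nat_lit 24071685)))) (BT.node (nat_lit 6115968) (BT.node (nat_lit 6115904) (BT.leaf (nat_lit 48170757)) (BT.leaf (nat_lit 23496969))) (BT.node (nat_lit 6116032) (BT.leaf (nat_lit 23496973)) (BT.leaf (nat_lit 28021273))))))) (BT.node (nat_lit 6117120) (BT.node (nat_lit 6116608) (BT.node (nat_lit 6116352) (BT.node (nat_lit 6116224) (BT.node (nat_lit 6116160) (BT.leaf (nat_lit 21019417)) (BT.leaf (nat_lit 23248901))) (BT.node (nat_lit 6116288) (BT.leaf (nat_lit 51952393)) (BT.leaf (nat_lit 21233937)))) (BT.node (nat_lit 6116480) (BT.node (nat_lit 6116416) (BT.leaf (nat_lit 35021829)) (BT.leaf (nat_lit 21232401))) (BT.node (nat_lit 6116544) (BT.leaf (nat_lit 23964697)) (BT.leaf (nat_lit 27803921))))) (BT.node (nat_lit 6116864) (BT.node (nat_lit 6116736) (BT.node (nat_lit 6116672) (BT.leaf (nat_lit 26660381)) (BT.leaf (nat_lit 25768453))) (BT.node (nat_lit 6116800) (BT.leaf (nat_lit 51208965)) (BT.leaf (nat_lit 36369173)))) (BT.node (nat_lit 6116992) (BT.node (nat_lit 6116928) (BT.leaf (nat_lit 23257609)) (BT.leaf (nat_lit 23257613))) (BT.node (nat_lit 6117056) (BT.leaf (nat_lit 23257617)) (BT.leaf (nat_lit 22389013)))))) (BT.node (nat_lit 6117632) (BT.node (nat_lit 6117376) (BT.node (nat_lit 6117248) (BT.node (nat_lit 6117184) (BT.leaf (nat_lit 50750469)) (BT.leaf (nat_lit 50750481))) (BT.node (nat_lit 6117312) (BT.leaf (nat_lit 30005257)) (BT.leaf (nat_lit 25108757)))) (BT.node (nat_lit 6117504) (BT.node (nat_lit 6117440) (BT.leaf (nat_lit 46818081)) (BT.leaf (nat_lit 23366169))) (BT.node (nat_lit 6117568) (BT.leaf (nat_lit 24556805)) (BT.leaf (nat_lit 32143889))))) (BT.node (nat_lit 6117888) (BT.node (nat_lit 6117760) (BT.node (nat_lit 6117696) (BT.leaf (nat_lit 23954205)) (BT.leaf (nat_lit 34002461))) (BT.node (nat_lit 6117824) (BT.leaf (nat_lit 35025681)) (BT.leaf (nat_lit 33534737)))) (BT.node (nat_lit 6118016) (BT.node (nat_lit 6117952) (BT.leaf (nat_lit 35026705)) (BT.leaf (nat_lit 34080029))) (BT.node (nat_lit 6118080) (BT.leaf (nat_lit 28876037)) (BT.leaf (nat_lit 22849033)))))))))) (BT.node (nat_lit 6126336) (BT.node (nat_lit 6122240) (BT.node (nat_lit 6120192) (BT.node (nat_lit 6119168) (BT.node (nat_lit 6118656) (BT.node (nat_lit 6118400) (BT.node (nat_lit 6118272) (BT.node (nat_lit 6118208) (BT.leaf (nat_lit 51351049)) (BT.leaf (nat_lit 31676189))) (BT.node (nat_lit 6118336) (BT.leaf (nat_lit 23304453)) (BT.leaf (nat_lit 35027985)))) (BT.node (nat_lit 6118528) (BT.node (nat_lit 6118464) (BT.leaf (nat_lit 22768665)) (BT.leaf (nat_lit 22768669))) (BT.node (nat_lit 6118592) (BT.leaf (nat_lit 35028501)) (BT.leaf (nat_lit 35029277))))) (BT.node (nat_lit 6118912) (BT.node (nat_lit 6118784) (BT.node (nat_lit 6118720) (BT.leaf (nat_lit 27414817)) (BT.leaf (nat_lit 27715853))) (BT.node (nat_lit 6118848) (BT.leaf (nat_lit 35640073)) (BT.leaf (nat_lit 47282701)))) (BT.node (nat_lit 6119040) (BT.node (nat_lit 6118976) (BT.leaf (nat_lit 27483153)) (BT.leaf (nat_lit 35030277))) (BT.node (nat_lit 6119104) (BT.leaf (nat_lit 22955549)) (BT.leaf (nat_lit 32587269)))))) (BT.node (nat_lit 6119680) (BT.node (nat_lit 6119424) (BT.node (nat_lit 6119296) (BT.node (nat_lit 6119232) (BT.leaf (nat_lit 22631189)) (BT.leaf (nat_lit 47227141))) (BT.node (nat_lit 6119360) (BT.leaf (nat_lit 27836177)) (BT.leaf (nat_lit 27836193)))) (BT.node (nat_lit 6119552) (BT.node (nat_lit 6119488) (BT.leaf (nat_lit 33366537)) (BT.leaf (nat_lit 30218781))) (BT.node (nat_lit 6119616) (BT.leaf (nat_lit 36874257)) (BT.leaf (nat_lit 35032601))))) (BT.node (nat_lit 6119936) (BT.node (nat_lit 6119808) (BT.node (nat_lit 6119744) (BT.leaf (nat_lit 21393925)) (BT.leaf (nat_lit 30740505))) (BT.node (nat_lit 6119872) (BT.leaf (nat_lit 52399113)) (BT.leaf (nat_lit 32142869)))) (BT.node (nat_lit 6120064) (BT.node (nat_lit 6120000) (BT.leaf (nat_lit 31030293)) (BT.leaf (nat_lit 22899993))) (BT.node (nat_lit 6120128) (BT.leaf (nat_lit 22899997)) (BT.leaf (nat_lit 23543317))))))) (BT.node (nat_lit 6121216) (BT.node (nat_lit 6120704) (BT.node (nat_lit 6120448) (BT.node (nat_lit 6120320) (BT.node (nat_lit 6120256) (BT.leaf (nat_lit 35035921)) (BT.leaf (nat_lit 24480793))) (BT.node (nat_lit 6120384) (BT.leaf (nat_lit 23653641)) (BT.leaf (nat_lit 24796693)))) (BT.node (nat_lit 6120576) (BT.node (nat_lit 6120512) (BT.leaf (nat_lit 24796961)) (BT.leaf (nat_lit 24516881))) (BT.node (nat_lit 6120640) (BT.leaf (nat_lit 24317709)) (BT.leaf (nat_lit 29009937))))) (BT.node (nat_lit 6120960) (BT.node (nat_lit 6120832) (BT.node (nat_lit 6120768) (BT.leaf (nat_lit 24482585)) (BT.leaf (nat_lit 33252641))) (BT.node (nat_lit 6120896) (BT.leaf (nat_lit 48647969)) (BT.leaf (nat_lit 33252897)))) (BT.node (nat_lit 6121088) (BT.node (nat_lit 6121024) (BT.leaf (nat_lit 30000145)) (BT.leaf (nat_lit 33481245))) (BT.node (nat_lit 6121152) (BT.leaf (nat_lit 24482337)) (BT.leaf (nat_lit 28286993)))))) (BT.node (nat_lit 6121728) (BT.node (nat_lit 6121472) (BT.node (nat_lit 6121344) (BT.node (nat_lit 6121280) (BT.leaf (nat_lit 35038993)) (BT.leaf (nat_lit 35039517))) (BT.node (nat_lit 6121408) (BT.leaf (nat_lit 33288981)) (BT.leaf (nat_lit 35040021)))) (BT.node (nat_lit 6121600) (BT.node (nat_lit 6121536) (BT.leaf (nat_lit 23745057)) (BT.leaf (nat_lit 35040261))) (BT.node (nat_lit 6121664) (BT.leaf (nat_lit 35040517)) (BT.leaf (nat_lit 24823317))))) (BT.node (nat_lit 6121984) (BT.node (nat_lit 6121856) (BT.node (nat_lit 6121792) (BT.leaf (nat_lit 24487181)) (BT.leaf (nat_lit 31072533))) (BT.node (nat_lit 6121920) (BT.leaf (nat_lit 24487709)) (BT.leaf (nat_lit 35041045)))) (BT.node (nat_lit 6122112) (BT.node (nat_lit 6122048) (BT.leaf (nat_lit 25728529)) (BT.leaf (nat_lit 47038473))) (BT.node (nat_lit 6122176) (BT.leaf (nat_lit 50702113)) (BT.leaf (nat_lit 21074453)))))))) (BT.node (nat_lit 6124288) (BT.node (nat_lit 6123264) (BT.node (nat_lit 6122752) (BT.node (nat_lit 6122496) (BT.node (nat_lit 6122368) (BT.node (nat_lit 6122304) (BT.leaf (nat_lit 27734297)) (BT.leaf (nat_lit 24070937))) (BT.node (nat_lit 6122432) (BT.leaf (nat_lit 24070941)) (BT.leaf (nat_lit 35042837)))) (BT.node (nat_lit 6122624) (BT.node (nat_lit 6122560) (BT.leaf (nat_lit 35043349)) (BT.leaf (nat_lit 35143193))) (BT.node (nat_lit 6122688) (BT.leaf (nat_lit 24601369)) (BT.leaf (nat_lit 50988313))))) (BT.node (nat_lit 6123008) (BT.node (nat_lit 6122880) (BT.node (nat_lit 6122816) (BT.leaf (nat_lit 35143181)) (BT.leaf (nat_lit 24724753))) (BT.node (nat_lit 6122944) (BT.leaf (nat_lit 33457953)) (BT.leaf (nat_lit 30155533)))) (BT.node (nat_lit 6123136) (BT.node (nat_lit 6123072) (BT.leaf (nat_lit 23071253)) (BT.leaf (nat_lit 35044629))) (BT.node (nat_lit 6123200) (BT.leaf (nat_lit 23071005)) (BT.leaf (nat_lit 27352601)))))) (BT.node (nat_lit 6123776) (BT.node (nat_lit 6123520) (BT.node (nat_lit 6123392) (BT.node (nat_lit 6123328) (BT.leaf (nat_lit 35045653)) (BT.leaf (nat_lit 31095313))) (BT.node (nat_lit 6123456) (BT.leaf (nat_lit 31095329)) (BT.leaf (nat_lit 23638541)))) (BT.node (nat_lit 6123648) (BT.node (nat_lit 6123584) (BT.leaf (nat_lit 27982105)) (BT.leaf (nat_lit 35046937))) (BT.node (nat_lit 6123712) (BT.leaf (nat_lit 35047457)) (BT.leaf (nat_lit 22317585))))) (BT.node (nat_lit 6124032) (BT.node (nat_lit 6123904) (BT.node (nat_lit 6123840) (BT.leaf (nat_lit 25051921)) (BT.leaf (nat_lit 31602437))) (BT.node (nat_lit 6123968) (BT.leaf (nat_lit 35049489)) (BT.leaf (nat_lit 26755857)))) (BT.node (nat_lit 6124160) (BT.node (nat_lit 6124096) (BT.leaf (nat_lit 27860485)) (BT.leaf (nat_lit 27387397))) (BT.node (nat_lit 6124224) (BT.leaf (nat_lit 24098081)) (BT.leaf (nat_lit 22596113))))))) (BT.node (nat_lit 6125312) (BT.node (nat_lit 6124800) (BT.node (nat_lit 6124544) (BT.node (nat_lit 6124416) (BT.node (nat_lit 6124352) (BT.leaf (nat_lit 22596117)) (BT.leaf (nat_lit 52084753))) (BT.node (nat_lit 6124480) (BT.leaf (nat_lit 46562081)) (BT.leaf (nat_lit 25600021)))) (BT.node (nat_lit 6124672) (BT.node (nat_lit 6124608) (BT.leaf (nat_lit 35051549)) (BT.leaf (nat_lit 23768341))) (BT.node (nat_lit 6124736) (BT.leaf (nat_lit 35052309)) (BT.leaf (nat_lit 32422417))))) (BT.node (nat_lit 6125056) (BT.node (nat_lit 6124928) (BT.node (nat_lit 6124864) (BT.leaf (nat_lit 23359249)) (BT.leaf (nat_lit 34491145))) (BT.node (nat_lit 6124992) (BT.leaf (nat_lit 24860433)) (BT.leaf (nat_lit 24566045)))) (BT.node (nat_lit 6125184) (BT.node (nat_lit 6125120) (BT.leaf (nat_lit 24550157)) (BT.leaf (nat_lit 35054353))) (BT.node (nat_lit 6125248) (BT.leaf (nat_lit 28927505)) (BT.leaf (nat_lit 28501269)))))) (BT.node (nat_lit 6125824) (BT.node (nat_lit 6125568) (BT.node (nat_lit 6125440) (BT.node (nat_lit 6125376) (BT.leaf (nat_lit 35054613)) (BT.leaf (nat_lit 23970565))) (BT.node (nat_lit 6125504) (BT.leaf (nat_lit 24221969)) (BT.leaf (nat_lit 28093977)))) (BT.node (nat_lit 6125696) (BT.node (nat_lit 6125632) (BT.leaf (nat_lit 35056405)) (BT.leaf (nat_lit 32359953))) (BT.node (nat_lit 6125760) (BT.leaf (nat_lit 51744017)) (BT.leaf (nat_lit 46418693))))) (BT.node (nat_lit 6126080) (BT.node (nat_lit 6125952) (BT.node (nat_lit 6125888) (BT.leaf (nat_lit 21395737)) (BT.leaf (nat_lit 33636113))) (BT.node (nat_lit 6126016) (BT.leaf (nat_lit 33636109)) (BT.leaf (nat_lit 29119509)))) (BT.node (nat_lit 6126208) (BT.node (nat_lit 6126144) (BT.leaf (nat_lit 24444697)) (BT.leaf (nat_lit 52097809))) (BT.node (nat_lit 6126272) (BT.leaf (nat_lit 27788293)) (BT.leaf (nat_lit 27788549))))))))) (BT.node (nat_lit 6130432) (BT.node (nat_lit 6128384) (BT.node (nat_lit 6127360) (BT.node (nat_lit 6126848) (BT.node (nat_lit 6126592) (BT.node (nat_lit 6126464) (BT.node (nat_lit 6126400) (BT.leaf (nat_lit 28328473)) (BT.leaf (nat_lit 30713357))) (BT.node (nat_lit 6126528) (BT.leaf (nat_lit 33122837)) (BT.leaf (nat_lit 27431713)))) (BT.node (nat_lit 6126720) (BT.node (nat_lit 6126656) (BT.leaf (nat_lit 33970721)) (BT.leaf (nat_lit 35058965))) (BT.node (nat_lit 6126784) (BT.leaf (nat_lit 32516625)) (BT.leaf (nat_lit 49350929))))) (BT.node (nat_lit 6127104) (BT.node (nat_lit 6126976) (BT.node (nat_lit 6126912) (BT.leaf (nat_lit 22539537)) (BT.leaf (nat_lit 22539541))) (BT.node (nat_lit 6127040) (BT.leaf (nat_lit 28270869)) (BT.leaf (nat_lit 29962245)))) (BT.node (nat_lit 6127232) (BT.node (nat_lit 6127168) (BT.leaf (nat_lit 31661077)) (BT.leaf (nat_lit 24713489))) (BT.node (nat_lit 6127296) (BT.leaf (nat_lit 35061265)) (BT.leaf (nat_lit 22884373)))))) (BT.node (nat_lit 6127872) (BT.node (nat_lit 6127616) (BT.node (nat_lit 6127488) (BT.node (nat_lit 6127424) (BT.leaf (nat_lit 24129561)) (BT.leaf (nat_lit 24129565))) (BT.node (nat_lit 6127552) (BT.leaf (nat_lit 21177877)) (BT.leaf (nat_lit 29016593)))) (BT.node (nat_lit 6127744) (BT.node (nat_lit 6127680) (BT.leaf (nat_lit 24510233)) (BT.leaf (nat_lit 34088209))) (BT.node (nat_lit 6127808) (BT.leaf (nat_lit 51744269)) (BT.leaf (nat_lit 23794965))))) (BT.node (nat_lit 6128128) (BT.node (nat_lit 6128000) (BT.node (nat_lit 6127936) (BT.leaf (nat_lit 23340561)) (BT.leaf (nat_lit 23340565))) (BT.node (nat_lit 6128064) (BT.leaf (nat_lit 25995033)) (BT.leaf (nat_lit 21404433)))) (BT.node (nat_lit 6128256) (BT.node (nat_lit 6128192) (BT.leaf (nat_lit 21403665)) (BT.leaf (nat_lit 25664537))) (BT.node (nat_lit 6128320) (BT.leaf (nat_lit 30620689)) (BT.leaf (nat_lit 30620705))))))) (BT.node (nat_lit 6129408) (BT.node (nat_lit 6128896) (BT.node (nat_lit 6128640) (BT.node (nat_lit 6128512) (BT.node (nat_lit 6128448) (BT.leaf (nat_lit 30218505)) (BT.leaf (nat_lit 23853317))) (BT.node (nat_lit 6128576) (BT.leaf (nat_lit 23853601)) (BT.leaf (nat_lit 21963801)))) (BT.node (nat_lit 6128768) (BT.node (nat_lit 6128704) (BT.leaf (nat_lit 26734873)) (BT.leaf (nat_lit 24515101))) (BT.node (nat_lit 6128832) (BT.leaf (nat_lit 21963789)) (BT.leaf (nat_lit 21405713))))) (BT.node (nat_lit 6129152) (BT.node (nat_lit 6129024) (BT.node (nat_lit 6128960) (BT.leaf (nat_lit 47184137)) (BT.leaf (nat_lit 35068181))) (BT.node (nat_lit 6129088) (BT.leaf (nat_lit 24278533)) (BT.leaf (nat_lit 30407449)))) (BT.node (nat_lit 6129280) (BT.node (nat_lit 6129216) (BT.leaf (nat_lit 21496601)) (BT.leaf (nat_lit 24481545))) (BT.node (nat_lit 6129344) (BT.leaf (nat_lit 24498697)) (BT.leaf (nat_lit 24498701)))))) (BT.node (nat_lit 6129920) (BT.node (nat_lit 6129664) (BT.node (nat_lit 6129536) (BT.node (nat_lit 6129472) (BT.leaf (nat_lit 24498713)) (BT.leaf (nat_lit 24498717))) (BT.node (nat_lit 6129600) (BT.leaf (nat_lit 24537873)) (BT.leaf (nat_lit 25925913)))) (BT.node (nat_lit 6129792) (BT.node (nat_lit 6129728) (BT.leaf (nat_lit 32386565)) (BT.leaf (nat_lit 32386821))) (BT.node (nat_lit 6129856) (BT.leaf (nat_lit 33445141)) (BT.leaf (nat_lit 51747349))))) (BT.node (nat_lit 6130176) (BT.node (nat_lit 6130048) (BT.node (nat_lit 6129984) (BT.leaf (nat_lit 22843413)) (BT.leaf (nat_lit 27835913))) (BT.node (nat_lit 6130112) (BT.leaf (nat_lit 27637785)) (BT.leaf (nat_lit 24175889)))) (BT.node (nat_lit 6130304) (BT.node (nat_lit 6130240) (BT.leaf (nat_lit 21429013)) (BT.leaf (nat_lit 22713889))) (BT.node (nat_lit 6130368) (BT.leaf (nat_lit 21428765)) (BT.leaf (nat_lit 35071509)))))))) (BT.node (nat_lit 6132480) (BT.node (nat_lit 6131456) (BT.node (nat_lit 6130944) (BT.node (nat_lit 6130688) (BT.node (nat_lit 6130560) (BT.node (nat_lit 6130496) (BT.leaf (nat_lit 32395273)) (BT.leaf (nat_lit 50752265))) (BT.node (nat_lit 6130624) (BT.leaf (nat_lit 33443101)) (BT.leaf (nat_lit 33442313)))) (BT.node (nat_lit 6130816) (BT.node (nat_lit 6130752) (BT.leaf (nat_lit 48623881)) (BT.leaf (nat_lit 24938005))) (BT.node (nat_lit 6130880) (BT.leaf (nat_lit 28235029)) (BT.leaf (nat_lit 35073561))))) (BT.node (nat_lit 6131200) (BT.node (nat_lit 6131072) (BT.node (nat_lit 6131008) (BT.leaf (nat_lit 29080093)) (BT.leaf (nat_lit 28480033))) (BT.node (nat_lit 6131136) (BT.leaf (nat_lit 31623445)) (BT.leaf (nat_lit 30792205)))) (BT.node (nat_lit 6131328) (BT.node (nat_lit 6131264) (BT.leaf (nat_lit 22858261)) (BT.leaf (nat_lit 28534277))) (BT.node (nat_lit 6131392) (BT.leaf (nat_lit 33562133)) (BT.leaf (nat_lit 23191317)))))) (BT.node (nat_lit 6131968) (BT.node (nat_lit 6131712) (BT.node (nat_lit 6131584) (BT.node (nat_lit 6131520) (BT.leaf (nat_lit 35075089)) (BT.leaf (nat_lit 25570845))) (BT.node (nat_lit 6131648) (BT.leaf (nat_lit 33626133)) (BT.leaf (nat_lit 20877341)))) (BT.node (nat_lit 6131840) (BT.node (nat_lit 6131776) (BT.leaf (nat_lit 25109765)) (BT.leaf (nat_lit 27784977))) (BT.node (nat_lit 6131904) (BT.leaf (nat_lit 22948125)) (BT.leaf (nat_lit 22726405))))) (BT.node (nat_lit 6132224) (BT.node (nat_lit 6132096) (BT.node (nat_lit 6132032) (BT.leaf (nat_lit 29084953)) (BT.leaf (nat_lit 21409809))) (BT.node (nat_lit 6132160) (BT.leaf (nat_lit 27274009)) (BT.leaf (nat_lit 29084937)))) (BT.node (nat_lit 6132352) (BT.node (nat_lit 6132288) (BT.leaf (nat_lit 32406793)) (BT.leaf (nat_lit 32408837))) (BT.node (nat_lit 6132416) (BT.leaf (nat_lit 22972689)) (BT.leaf (nat_lit 22972705))))))) (BT.node (nat_lit 6133504) (BT.node (nat_lit 6132992) (BT.node (nat_lit 6132736) (BT.node (nat_lit 6132608) (BT.node (nat_lit 6132544) (BT.leaf (nat_lit 35079193)) (BT.leaf (nat_lit 29464353))) (BT.node (nat_lit 6132672) (BT.leaf (nat_lit 21410329)) (BT.leaf (nat_lit 28542989)))) (BT.node (nat_lit 6132864) (BT.node (nat_lit 6132800) (BT.leaf (nat_lit 27274517)) (BT.leaf (nat_lit 33939229))) (BT.node (nat_lit 6132928) (BT.leaf (nat_lit 24611617)) (BT.leaf (nat_lit 47347481))))) (BT.node (nat_lit 6133248) (BT.node (nat_lit 6133120) (BT.node (nat_lit 6133056) (BT.leaf (nat_lit 35080209)) (BT.leaf (nat_lit 27606805))) (BT.node (nat_lit 6133184) (BT.leaf (nat_lit 24163333)) (BT.leaf (nat_lit 33429253)))) (BT.node (nat_lit 6133376) (BT.node (nat_lit 6133312) (BT.leaf (nat_lit 36456721)) (BT.leaf (nat_lit 27604501))) (BT.node (nat_lit 6133440) (BT.leaf (nat_lit 27605509)) (BT.leaf (nat_lit 27752981)))))) (BT.node (nat_lit 6134016) (BT.node (nat_lit 6133760) (BT.node (nat_lit 6133632) (BT.node (nat_lit 6133568) (BT.leaf (nat_lit 33125909)) (BT.leaf (nat_lit 30370577))) (BT.node (nat_lit 6133696) (BT.leaf (nat_lit 30370593)) (BT.leaf (nat_lit 22680589)))) (BT.node (nat_lit 6133888) (BT.node (nat_lit 6133824) (BT.leaf (nat_lit 20897565)) (BT.leaf (nat_lit 47335705))) (BT.node (nat_lit 6133952) (BT.leaf (nat_lit 33287709)) (BT.leaf (nat_lit 35083537))))) (BT.node (nat_lit 6134272) (BT.node (nat_lit 6134144) (BT.node (nat_lit 6134080) (BT.leaf (nat_lit 32751385)) (BT.leaf (nat_lit 32414225))) (BT.node (nat_lit 6134208) (BT.leaf (nat_lit 23066125)) (BT.leaf (nat_lit 25109281)))) (BT.node (nat_lit 6134400) (BT.node (nat_lit 6134336) (BT.leaf (nat_lit 31385117)) (BT.leaf (nat_lit 27685653))) (BT.node (nat_lit 6134464) (BT.leaf (nat_lit 22595105)) (BT.leaf (nat_lit 35052317))))))))))) (BT.node (nat_lit 6150912) (BT.node (nat_lit 6142720) (BT.node (nat_lit 6138624) (BT.node (nat_lit 6136576) (BT.node (nat_lit 6135552) (BT.node (nat_lit 6135040) (BT.node (nat_lit 6134784) (BT.node (nat_lit 6134656) (BT.node (nat_lit 6134592) (BT.leaf (nat_lit 35086109)) (BT.leaf (nat_lit 29125137))) (BT.node (nat_lit 6134720) (BT.leaf (nat_lit 35086353)) (BT.leaf (nat_lit 24538649)))) (BT.node (nat_lit 6134912) (BT.node (nat_lit 6134848) (BT.leaf (nat_lit 24886549)) (BT.leaf (nat_lit 35088145))) (BT.node (nat_lit 6134976) (BT.leaf (nat_lit 27344149)) (BT.leaf (nat_lit 24418309))))) (BT.node (nat_lit 6135296) (BT.node (nat_lit 6135168) (BT.node (nat_lit 6135104) (BT.leaf (nat_lit 21498389)) (BT.leaf (nat_lit 35089681))) (BT.node (nat_lit 6135232) (BT.leaf (nat_lit 25893389)) (BT.leaf (nat_lit 31364385)))) (BT.node (nat_lit 6135424) (BT.node (nat_lit 6135360) (BT.leaf (nat_lit 21411865)) (BT.leaf (nat_lit 30103057))) (BT.node (nat_lit 6135488) (BT.leaf (nat_lit 24544281)) (BT.leaf (nat_lit 35090709)))))) (BT.node (nat_lit 6136064) (BT.node (nat_lit 6135808) (BT.node (nat_lit 6135680) (BT.node (nat_lit 6135616) (BT.leaf (nat_lit 31527701)) (BT.leaf (nat_lit 35091217))) (BT.node (nat_lit 6135744) (BT.leaf (nat_lit 35091209)) (BT.leaf (nat_lit 27474709)))) (BT.node (nat_lit 6135936) (BT.node (nat_lit 6135872) (BT.leaf (nat_lit 28444681)) (BT.leaf (nat_lit 25876765))) (BT.node (nat_lit 6136000) (BT.leaf (nat_lit 21399837)) (BT.leaf (nat_lit 21980433))))) (BT.node (nat_lit 6136320) (BT.node (nat_lit 6136192) (BT.node (nat_lit 6136128) (BT.leaf (nat_lit 35092753)) (BT.leaf (nat_lit 33121817))) (BT.node (nat_lit 6136256) (BT.leaf (nat_lit 35093005)) (BT.leaf (nat_lit 35094037)))) (BT.node (nat_lit 6136448) (BT.node (nat_lit 6136384) (BT.leaf (nat_lit 35094293)) (BT.leaf (nat_lit 35093021))) (BT.node (nat_lit 6136512) (BT.leaf (nat_lit 22607369)) (BT.leaf (nat_lit 22607373))))))) (BT.node (nat_lit 6137600) (BT.node (nat_lit 6137088) (BT.node (nat_lit 6136832) (BT.node (nat_lit 6136704) (BT.node (nat_lit 6136640) (BT.leaf (nat_lit 22607385)) (BT.leaf (nat_lit 22607389))) (BT.node (nat_lit 6136768) (BT.leaf (nat_lit 33320465)) (BT.leaf (nat_lit 23900421)))) (BT.node (nat_lit 6136960) (BT.node (nat_lit 6136896) (BT.leaf (nat_lit 25872397)) (BT.leaf (nat_lit 28135945))) (BT.node (nat_lit 6137024) (BT.leaf (nat_lit 28135953)) (BT.leaf (nat_lit 28112149))))) (BT.node (nat_lit 6137344) (BT.node (nat_lit 6137216) (BT.node (nat_lit 6137152) (BT.leaf (nat_lit 28136217)) (BT.leaf (nat_lit 50890261))) (BT.node (nat_lit 6137280) (BT.leaf (nat_lit 24403221)) (BT.leaf (nat_lit 35099169)))) (BT.node (nat_lit 6137472) (BT.node (nat_lit 6137408) (BT.leaf (nat_lit 23423521)) (BT.leaf (nat_lit 25721617))) (BT.node (nat_lit 6137536) (BT.leaf (nat_lit 35099409)) (BT.leaf (nat_lit 24719893)))))) (BT.node (nat_lit 6138112) (BT.node (nat_lit 6137856) (BT.node (nat_lit 6137728) (BT.node (nat_lit 6137664) (BT.leaf (nat_lit 27367201)) (BT.leaf (nat_lit 28785949))) (BT.node (nat_lit 6137792) (BT.leaf (nat_lit 22401553)) (BT.leaf (nat_lit 23151385)))) (BT.node (nat_lit 6137984) (BT.node (nat_lit 6137920) (BT.leaf (nat_lit 24585993)) (BT.leaf (nat_lit 24394257))) (BT.node (nat_lit 6138048) (BT.leaf (nat_lit 25966617)) (BT.leaf (nat_lit 31679249))))) (BT.node (nat_lit 6138368) (BT.node (nat_lit 6138240) (BT.node (nat_lit 6138176) (BT.leaf (nat_lit 31679769)) (BT.leaf (nat_lit 22650133))) (BT.node (nat_lit 6138304) (BT.leaf (nat_lit 24553245)) (BT.leaf (nat_lit 25718789)))) (BT.node (nat_lit 6138496) (BT.node (nat_lit 6138432) (BT.leaf (nat_lit 32442381)) (BT.leaf (nat_lit 29917461))) (BT.node (nat_lit 6138560) (BT.leaf (nat_lit 26517785)) (BT.leaf (nat_lit 33947409)))))))) (BT.node (nat_lit 6140672) (BT.node (nat_lit 6139648) (BT.node (nat_lit 6139136) (BT.node (nat_lit 6138880) (BT.node (nat_lit 6138752) (BT.node (nat_lit 6138688) (BT.leaf (nat_lit 24536349)) (BT.leaf (nat_lit 22689029))) (BT.node (nat_lit 6138816) (BT.leaf (nat_lit 33582613)) (BT.leaf (nat_lit 24632853)))) (BT.node (nat_lit 6139008) (BT.node (nat_lit 6138944) (BT.leaf (nat_lit 21432329)) (BT.leaf (nat_lit 50693385))) (BT.node (nat_lit 6139072) (BT.leaf (nat_lit 50693389)) (BT.leaf (nat_lit 24564501))))) (BT.node (nat_lit 6139392) (BT.node (nat_lit 6139264) (BT.node (nat_lit 6139200) (BT.leaf (nat_lit 21468437)) (BT.leaf (nat_lit 21499673))) (BT.node (nat_lit 6139328) (BT.leaf (nat_lit 24561177)) (BT.leaf (nat_lit 22801693)))) (BT.node (nat_lit 6139520) (BT.node (nat_lit 6139456) (BT.leaf (nat_lit 34639637)) (BT.leaf (nat_lit 24680213))) (BT.node (nat_lit 6139584) (BT.leaf (nat_lit 27796501)) (BT.leaf (nat_lit 28749857)))))) (BT.node (nat_lit 6140160) (BT.node (nat_lit 6139904) (BT.node (nat_lit 6139776) (BT.node (nat_lit 6139712) (BT.leaf (nat_lit 28749601)) (BT.leaf (nat_lit 35104273))) (BT.node (nat_lit 6139840) (BT.leaf (nat_lit 24556061)) (BT.leaf (nat_lit 50386185)))) (BT.node (nat_lit 6140032) (BT.node (nat_lit 6139968) (BT.leaf (nat_lit 28478493)) (BT.leaf (nat_lit 35105813))) (BT.node (nat_lit 6140096) (BT.leaf (nat_lit 23256589)) (BT.leaf (nat_lit 21399321))))) (BT.node (nat_lit 6140416) (BT.node (nat_lit 6140288) (BT.node (nat_lit 6140224) (BT.leaf (nat_lit 21399325)) (BT.leaf (nat_lit 28755717))) (BT.node (nat_lit 6140352) (BT.leaf (nat_lit 21467921)) (BT.leaf (nat_lit 22722585)))) (BT.node (nat_lit 6140544) (BT.node (nat_lit 6140480) (BT.leaf (nat_lit 24563989)) (BT.leaf (nat_lit 35107093))) (BT.node (nat_lit 6140608) (BT.leaf (nat_lit 30474769)) (BT.leaf (nat_lit 35107077))))))) (BT.node (nat_lit 6141696) (BT.node (nat_lit 6141184) (BT.node (nat_lit 6140928) (BT.node (nat_lit 6140800) (BT.node (nat_lit 6140736) (BT.leaf (nat_lit 35108633)) (BT.leaf (nat_lit 25876501))) (BT.node (nat_lit 6140864) (BT.leaf (nat_lit 35102749)) (BT.leaf (nat_lit 48690197)))) (BT.node (nat_lit 6141056) (BT.node (nat_lit 6140992) (BT.leaf (nat_lit 24561181)) (BT.leaf (nat_lit 21399581))) (BT.node (nat_lit 6141120) (BT.leaf (nat_lit 22382097)) (BT.leaf (nat_lit 21418001))))) (BT.node (nat_lit 6141440) (BT.node (nat_lit 6141312) (BT.node (nat_lit 6141248) (BT.leaf (nat_lit 34279449)) (BT.leaf (nat_lit 27527685))) (BT.node (nat_lit 6141376) (BT.leaf (nat_lit 21468441)) (BT.leaf (nat_lit 30747673)))) (BT.node (nat_lit 6141568) (BT.node (nat_lit 6141504) (BT.leaf (nat_lit 23510277)) (BT.leaf (nat_lit 48598305))) (BT.node (nat_lit 6141632) (BT.leaf (nat_lit 36459273)) (BT.leaf (nat_lit 22424085)))))) (BT.node (nat_lit 6142208) (BT.node (nat_lit 6141952) (BT.node (nat_lit 6141824) (BT.node (nat_lit 6141760) (BT.leaf (nat_lit 22648601)) (BT.leaf (nat_lit 21414929))) (BT.node (nat_lit 6141888) (BT.leaf (nat_lit 24555793)) (BT.leaf (nat_lit 21516057)))) (BT.node (nat_lit 6142080) (BT.node (nat_lit 6142016) (BT.leaf (nat_lit 21516061)) (BT.leaf (nat_lit 34314757))) (BT.node (nat_lit 6142144) (BT.leaf (nat_lit 23694109)) (BT.leaf (nat_lit 22556433))))) (BT.node (nat_lit 6142464) (BT.node (nat_lit 6142336) (BT.node (nat_lit 6142272) (BT.leaf (nat_lit 21467405)) (BT.leaf (nat_lit 22577425))) (BT.node (nat_lit 6142400) (BT.leaf (nat_lit 23484437)) (BT.leaf (nat_lit 32354577)))) (BT.node (nat_lit 6142592) (BT.node (nat_lit 6142528) (BT.leaf (nat_lit 33755681)) (BT.leaf (nat_lit 28093965))) (BT.node (nat_lit 6142656) (BT.leaf (nat_lit 24506641)) (BT.leaf (nat_lit 33703713))))))))) (BT.node (nat_lit 6146816) (BT.node (nat_lit 6144768) (BT.node (nat_lit 6143744) (BT.node (nat_lit 6143232) (BT.node (nat_lit 6142976) (BT.node (nat_lit 6142848) (BT.node (nat_lit 6142784) (BT.leaf (nat_lit 36550169)) (BT.leaf (nat_lit 23986709))) (BT.node (nat_lit 6142912) (BT.leaf (nat_lit 32690209)) (BT.leaf (nat_lit 35113505)))) (BT.node (nat_lit 6143104) (BT.node (nat_lit 6143040) (BT.leaf (nat_lit 35114017)) (BT.leaf (nat_lit 21957397))) (BT.node (nat_lit 6143168) (BT.leaf (nat_lit 21515793)) (BT.leaf (nat_lit 22812677))))) (BT.node (nat_lit 6143488) (BT.node (nat_lit 6143360) (BT.node (nat_lit 6143296) (BT.leaf (nat_lit 21417233)) (BT.leaf (nat_lit 23499541))) (BT.node (nat_lit 6143424) (BT.leaf (nat_lit 23499545)) (BT.leaf (nat_lit 23499549)))) (BT.node (nat_lit 6143616) (BT.node (nat_lit 6143552) (BT.leaf (nat_lit 35115297)) (BT.leaf (nat_lit 35115525))) (BT.node (nat_lit 6143680) (BT.leaf (nat_lit 35116321)) (BT.leaf (nat_lit 32690205)))))) (BT.node (nat_lit 6144256) (BT.node (nat_lit 6144000) (BT.node (nat_lit 6143872) (BT.node (nat_lit 6143808) (BT.leaf (nat_lit 21515541)) (BT.leaf (nat_lit 21515545))) (BT.node (nat_lit 6143936) (BT.leaf (nat_lit 21515549)) (BT.leaf (nat_lit 21420293)))) (BT.node (nat_lit 6144128) (BT.node (nat_lit 6144064) (BT.leaf (nat_lit 33963533)) (BT.leaf (nat_lit 22814745))) (BT.node (nat_lit 6144192) (BT.leaf (nat_lit 21419033)) (BT.leaf (nat_lit 34159645))))) (BT.node (nat_lit 6144512) (BT.node (nat_lit 6144384) (BT.node (nat_lit 6144320) (BT.leaf (nat_lit 35119377)) (BT.leaf (nat_lit 33963545))) (BT.node (nat_lit 6144448) (BT.leaf (nat_lit 28451089)) (BT.leaf (nat_lit 28451105)))) (BT.node (nat_lit 6144640) (BT.node (nat_lit 6144576) (BT.leaf (nat_lit 21420309)) (BT.leaf (nat_lit 24556561))) (BT.node (nat_lit 6144704) (BT.leaf (nat_lit 29659921)) (BT.leaf (nat_lit 28876049))))))) (BT.node (nat_lit 6145792) (BT.node (nat_lit 6145280) (BT.node (nat_lit 6145024) (BT.node (nat_lit 6144896) (BT.node (nat_lit 6144832) (BT.leaf (nat_lit 31265309)) (BT.leaf (nat_lit 26645781))) (BT.node (nat_lit 6144960) (BT.leaf (nat_lit 34080013)) (BT.leaf (nat_lit 22849049)))) (BT.node (nat_lit 6145152) (BT.node (nat_lit 6145088) (BT.leaf (nat_lit 22849053)) (BT.leaf (nat_lit 22849057))) (BT.node (nat_lit 6145216) (BT.leaf (nat_lit 31607069)) (BT.leaf (nat_lit 25276701))))) (BT.node (nat_lit 6145536) (BT.node (nat_lit 6145408) (BT.node (nat_lit 6145344) (BT.leaf (nat_lit 22831121)) (BT.leaf (nat_lit 22831137))) (BT.node (nat_lit 6145472) (BT.leaf (nat_lit 31429137)) (BT.leaf (nat_lit 21424397)))) (BT.node (nat_lit 6145664) (BT.node (nat_lit 6145600) (BT.leaf (nat_lit 29504533)) (BT.leaf (nat_lit 29226773))) (BT.node (nat_lit 6145728) (BT.leaf (nat_lit 50350621)) (BT.leaf (nat_lit 36759585)))))) (BT.node (nat_lit 6146304) (BT.node (nat_lit 6146048) (BT.node (nat_lit 6145920) (BT.node (nat_lit 6145856) (BT.leaf (nat_lit 28627717)) (BT.leaf (nat_lit 51085081))) (BT.node (nat_lit 6145984) (BT.leaf (nat_lit 28264721)) (BT.leaf (nat_lit 28264725)))) (BT.node (nat_lit 6146176) (BT.node (nat_lit 6146112) (BT.leaf (nat_lit 28627729)) (BT.leaf (nat_lit 34042909))) (BT.node (nat_lit 6146240) (BT.leaf (nat_lit 24505109)) (BT.leaf (nat_lit 29844001))))) (BT.node (nat_lit 6146560) (BT.node (nat_lit 6146432) (BT.node (nat_lit 6146368) (BT.leaf (nat_lit 23883029)) (BT.leaf (nat_lit 35127573))) (BT.node (nat_lit 6146496) (BT.leaf (nat_lit 35128349)) (BT.leaf (nat_lit 24552469)))) (BT.node (nat_lit 6146688) (BT.node (nat_lit 6146624) (BT.leaf (nat_lit 24504861)) (BT.leaf (nat_lit 23314465))) (BT.node (nat_lit 6146752) (BT.leaf (nat_lit 30923033)) (BT.leaf (nat_lit 51934473)))))))) (BT.node (nat_lit 6148864) (BT.node (nat_lit 6147840) (BT.node (nat_lit 6147328) (BT.node (nat_lit 6147072) (BT.node (nat_lit 6146944) (BT.node (nat_lit 6146880) (BT.leaf (nat_lit 35130629)) (BT.leaf (nat_lit 28075781))) (BT.node (nat_lit 6147008) (BT.leaf (nat_lit 36991505)) (BT.leaf (nat_lit 21421841)))) (BT.node (nat_lit 6147200) (BT.node (nat_lit 6147136) (BT.leaf (nat_lit 22780433)) (BT.leaf (nat_lit 32488457))) (BT.node (nat_lit 6147264) (BT.leaf (nat_lit 21423377)) (BT.leaf (nat_lit 21422353))))) (BT.node (nat_lit 6147584) (BT.node (nat_lit 6147456) (BT.node (nat_lit 6147392) (BT.leaf (nat_lit 31033109)) (BT.leaf (nat_lit 35133717))) (BT.node (nat_lit 6147520) (BT.leaf (nat_lit 30296081)) (BT.leaf (nat_lit 22455829)))) (BT.node (nat_lit 6147712) (BT.node (nat_lit 6147648) (BT.leaf (nat_lit 24505865)) (BT.leaf (nat_lit 28115209))) (BT.node (nat_lit 6147776) (BT.leaf (nat_lit 28122901)) (BT.leaf (nat_lit 36161045)))))) (BT.node (nat_lit 6148352) (BT.node (nat_lit 6148096) (BT.node (nat_lit 6147968) (BT.node (nat_lit 6147904) (BT.leaf (nat_lit 35136017)) (BT.leaf (nat_lit 35136277))) (BT.node (nat_lit 6148032) (BT.leaf (nat_lit 33453601)) (BT.leaf (nat_lit 33453829)))) (BT.node (nat_lit 6148224) (BT.node (nat_lit 6148160) (BT.leaf (nat_lit 32498197)) (BT.leaf (nat_lit 28115225))) (BT.node (nat_lit 6148288) (BT.leaf (nat_lit 28115229)) (BT.leaf (nat_lit 30566165))))) (BT.node (nat_lit 6148608) (BT.node (nat_lit 6148480) (BT.node (nat_lit 6148416) (BT.leaf (nat_lit 28583445)) (BT.leaf (nat_lit 48234773))) (BT.node (nat_lit 6148544) (BT.leaf (nat_lit 27772685)) (BT.leaf (nat_lit 33189917)))) (BT.node (nat_lit 6148736) (BT.node (nat_lit 6148672) (BT.leaf (nat_lit 50515973)) (BT.leaf (nat_lit 30271757))) (BT.node (nat_lit 6148800) (BT.leaf (nat_lit 23848217)) (BT.leaf (nat_lit 23848221))))))) (BT.node (nat_lit 6149888) (BT.node (nat_lit 6149376) (BT.node (nat_lit 6149120) (BT.node (nat_lit 6148992) (BT.node (nat_lit 6148928) (BT.leaf (nat_lit 29712137)) (BT.leaf (nat_lit 24400397))) (BT.node (nat_lit 6149056) (BT.leaf (nat_lit 35139093)) (BT.leaf (nat_lit 31066377)))) (BT.node (nat_lit 6149248) (BT.node (nat_lit 6149184) (BT.leaf (nat_lit 21471765)) (BT.leaf (nat_lit 31333393))) (BT.node (nat_lit 6149312) (BT.leaf (nat_lit 29226769)) (BT.leaf (nat_lit 36715297))))) (BT.node (nat_lit 6149632) (BT.node (nat_lit 6149504) (BT.node (nat_lit 6149440) (BT.leaf (nat_lit 24406293)) (BT.leaf (nat_lit 34495001))) (BT.node (nat_lit 6149568) (BT.leaf (nat_lit 29409557)) (BT.leaf (nat_lit 28517897)))) (BT.node (nat_lit 6149760) (BT.node (nat_lit 6149696) (BT.leaf (nat_lit 22295825)) (BT.leaf (nat_lit 20850965))) (BT.node (nat_lit 6149824) (BT.leaf (nat_lit 46566413)) (BT.leaf (nat_lit 29230369)))))) (BT.node (nat_lit 6150400) (BT.node (nat_lit 6150144) (BT.node (nat_lit 6150016) (BT.node (nat_lit 6149952) (BT.leaf (nat_lit 46562073)) (BT.leaf (nat_lit 51376921))) (BT.node (nat_lit 6150080) (BT.leaf (nat_lit 21424393)) (BT.leaf (nat_lit 23770117)))) (BT.node (nat_lit 6150272) (BT.node (nat_lit 6150208) (BT.leaf (nat_lit 23770129)) (BT.leaf (nat_lit 34145553))) (BT.node (nat_lit 6150336) (BT.leaf (nat_lit 34145557)) (BT.leaf (nat_lit 24405781))))) (BT.node (nat_lit 6150656) (BT.node (nat_lit 6150528) (BT.node (nat_lit 6150464) (BT.leaf (nat_lit 34494737)) (BT.leaf (nat_lit 34600225))) (BT.node (nat_lit 6150592) (BT.leaf (nat_lit 50065169)) (BT.leaf (nat_lit 22931221)))) (BT.node (nat_lit 6150784) (BT.node (nat_lit 6150720) (BT.leaf (nat_lit 30814233)) (BT.leaf (nat_lit 24603165))) (BT.node (nat_lit 6150848) (BT.leaf (nat_lit 35144977)) (BT.leaf (nat_lit 29831429)))))))))) (BT.node (nat_lit 6159104) (BT.node (nat_lit 6155008) (BT.node (nat_lit 6152960) (BT.node (nat_lit 6151936) (BT.node (nat_lit 6151424) (BT.node (nat_lit 6151168) (BT.node (nat_lit 6151040) (BT.node (nat_lit 6150976) (BT.leaf (nat_lit 24646921)) (BT.leaf (nat_lit 22704913))) (BT.node (nat_lit 6151104) (BT.leaf (nat_lit 51024913)) (BT.leaf (nat_lit 21724449)))) (BT.node (nat_lit 6151296) (BT.node (nat_lit 6151232) (BT.leaf (nat_lit 35640069)) (BT.leaf (nat_lit 35640081))) (BT.node (nat_lit 6151360) (BT.leaf (nat_lit 51938337)) (BT.leaf (nat_lit 20695825))))) (BT.node (nat_lit 6151680) (BT.node (nat_lit 6151552) (BT.node (nat_lit 6151488) (BT.leaf (nat_lit 29839881)) (BT.leaf (nat_lit 25184273))) (BT.node (nat_lit 6151616) (BT.leaf (nat_lit 24605977)) (BT.leaf (nat_lit 22691617)))) (BT.node (nat_lit 6151808) (BT.node (nat_lit 6151744) (BT.leaf (nat_lit 32524037)) (BT.leaf (nat_lit 29839369))) (BT.node (nat_lit 6151872) (BT.leaf (nat_lit 22300181)) (BT.leaf (nat_lit 35147793)))))) (BT.node (nat_lit 6152448) (BT.node (nat_lit 6152192) (BT.node (nat_lit 6152064) (BT.node (nat_lit 6152000) (BT.leaf (nat_lit 24607513)) (BT.leaf (nat_lit 28675597))) (BT.node (nat_lit 6152128) (BT.leaf (nat_lit 28822049)) (BT.leaf (nat_lit 28670737)))) (BT.node (nat_lit 6152320) (BT.node (nat_lit 6152256) (BT.leaf (nat_lit 21426461)) (BT.leaf (nat_lit 37205537))) (BT.node (nat_lit 6152384) (BT.leaf (nat_lit 35150353)) (BT.leaf (nat_lit 21707797))))) (BT.node (nat_lit 6152704) (BT.node (nat_lit 6152576) (BT.node (nat_lit 6152512) (BT.leaf (nat_lit 23765017)) (BT.leaf (nat_lit 33534469))) (BT.node (nat_lit 6152640) (BT.leaf (nat_lit 22796309)) (BT.leaf (nat_lit 22850053)))) (BT.node (nat_lit 6152832) (BT.node (nat_lit 6152768) (BT.leaf (nat_lit 35152401)) (BT.leaf (nat_lit 20876821))) (BT.node (nat_lit 6152896) (BT.leaf (nat_lit 25884953)) (BT.leaf (nat_lit 24514325))))))) (BT.node (nat_lit 6153984) (BT.node (nat_lit 6153472) (BT.node (nat_lit 6153216) (BT.node (nat_lit 6153088) (BT.node (nat_lit 6153024) (BT.leaf (nat_lit 21963017)) (BT.leaf (nat_lit 25884941))) (BT.node (nat_lit 6153152) (BT.leaf (nat_lit 21939729)) (BT.leaf (nat_lit 47183901)))) (BT.node (nat_lit 6153344) (BT.node (nat_lit 6153280) (BT.leaf (nat_lit 37987853)) (BT.leaf (nat_lit 33853205))) (BT.node (nat_lit 6153408) (BT.leaf (nat_lit 24613641)) (BT.leaf (nat_lit 35155477))))) (BT.node (nat_lit 6153728) (BT.node (nat_lit 6153600) (BT.node (nat_lit 6153536) (BT.leaf (nat_lit 35156241)) (BT.leaf (nat_lit 35093009))) (BT.node (nat_lit 6153664) (BT.leaf (nat_lit 25360661)) (BT.leaf (nat_lit 35155209)))) (BT.node (nat_lit 6153856) (BT.node (nat_lit 6153792) (BT.leaf (nat_lit 28480265)) (BT.leaf (nat_lit 37210641))) (BT.node (nat_lit 6153920) (BT.leaf (nat_lit 29124617)) (BT.leaf (nat_lit 47232533)))))) (BT.node (nat_lit 6154496) (BT.node (nat_lit 6154240) (BT.node (nat_lit 6154112) (BT.node (nat_lit 6154048) (BT.leaf (nat_lit 30792221)) (BT.leaf (nat_lit 35158549))) (BT.node (nat_lit 6154176) (BT.leaf (nat_lit 35091225)) (BT.leaf (nat_lit 21412637)))) (BT.node (nat_lit 6154368) (BT.node (nat_lit 6154304) (BT.leaf (nat_lit 35159325)) (BT.leaf (nat_lit 21428761))) (BT.node (nat_lit 6154432) (BT.leaf (nat_lit 21429021)) (BT.leaf (nat_lit 29060361))))) (BT.node (nat_lit 6154752) (BT.node (nat_lit 6154624) (BT.node (nat_lit 6154560) (BT.leaf (nat_lit 34308625)) (BT.leaf (nat_lit 34304785))) (BT.node (nat_lit 6154688) (BT.leaf (nat_lit 28920609)) (BT.leaf (nat_lit 31053345)))) (BT.node (nat_lit 6154880) (BT.node (nat_lit 6154816) (BT.leaf (nat_lit 26021409)) (BT.leaf (nat_lit 23276317))) (BT.node (nat_lit 6154944) (BT.leaf (nat_lit 49444385)) (BT.leaf (nat_lit 31947285)))))))) (BT.node (nat_lit 6157056) (BT.node (nat_lit 6156032) (BT.node (nat_lit 6155520) (BT.node (nat_lit 6155264) (BT.node (nat_lit 6155136) (BT.node (nat_lit 6155072) (BT.leaf (nat_lit 29412369)) (BT.leaf (nat_lit 32446481))) (BT.node (nat_lit 6155200) (BT.leaf (nat_lit 23474457)) (BT.leaf (nat_lit 23474461)))) (BT.node (nat_lit 6155392) (BT.node (nat_lit 6155328) (BT.leaf (nat_lit 22939153)) (BT.leaf (nat_lit 24508953))) (BT.node (nat_lit 6155456) (BT.leaf (nat_lit 23472913)) (BT.leaf (nat_lit 23472917))))) (BT.node (nat_lit 6155776) (BT.node (nat_lit 6155648) (BT.node (nat_lit 6155584) (BT.leaf (nat_lit 28168205)) (BT.leaf (nat_lit 21494793))) (BT.node (nat_lit 6155712) (BT.leaf (nat_lit 48310549)) (BT.leaf (nat_lit 48310557)))) (BT.node (nat_lit 6155904) (BT.node (nat_lit 6155840) (BT.leaf (nat_lit 23423497)) (BT.leaf (nat_lit 23423501))) (BT.node (nat_lit 6155968) (BT.leaf (nat_lit 27627797)) (BT.leaf (nat_lit 28003105)))))) (BT.node (nat_lit 6156544) (BT.node (nat_lit 6156288) (BT.node (nat_lit 6156160) (BT.node (nat_lit 6156096) (BT.leaf (nat_lit 34508057)) (BT.leaf (nat_lit 22901009))) (BT.node (nat_lit 6156224) (BT.leaf (nat_lit 33937941)) (BT.leaf (nat_lit 35231237)))) (BT.node (nat_lit 6156416) (BT.node (nat_lit 6156352) (BT.leaf (nat_lit 25819909)) (BT.leaf (nat_lit 30218245))) (BT.node (nat_lit 6156480) (BT.leaf (nat_lit 28661277)) (BT.leaf (nat_lit 31214113))))) (BT.node (nat_lit 6156800) (BT.node (nat_lit 6156672) (BT.node (nat_lit 6156608) (BT.leaf (nat_lit 49058565)) (BT.leaf (nat_lit 35167505))) (BT.node (nat_lit 6156736) (BT.leaf (nat_lit 24512537)) (BT.leaf (nat_lit 27395089)))) (BT.node (nat_lit 6156928) (BT.node (nat_lit 6156864) (BT.leaf (nat_lit 24847389)) (BT.leaf (nat_lit 28004613))) (BT.node (nat_lit 6156992) (BT.leaf (nat_lit 21494809)) (BT.leaf (nat_lit 21494813))))))) (BT.node (nat_lit 6158080) (BT.node (nat_lit 6157568) (BT.node (nat_lit 6157312) (BT.node (nat_lit 6157184) (BT.node (nat_lit 6157120) (BT.leaf (nat_lit 28168209)) (BT.leaf (nat_lit 28168225))) (BT.node (nat_lit 6157248) (BT.leaf (nat_lit 23780621)) (BT.leaf (nat_lit 35170837)))) (BT.node (nat_lit 6157440) (BT.node (nat_lit 6157376) (BT.leaf (nat_lit 24845845)) (BT.leaf (nat_lit 29586457))) (BT.node (nat_lit 6157504) (BT.leaf (nat_lit 52021265)) (BT.leaf (nat_lit 29503001))))) (BT.node (nat_lit 6157824) (BT.node (nat_lit 6157696) (BT.node (nat_lit 6157632) (BT.leaf (nat_lit 24623129)) (BT.leaf (nat_lit 23184405))) (BT.node (nat_lit 6157760) (BT.leaf (nat_lit 33263649)) (BT.leaf (nat_lit 33263393)))) (BT.node (nat_lit 6157952) (BT.node (nat_lit 6157888) (BT.leaf (nat_lit 24370441)) (BT.leaf (nat_lit 21039377))) (BT.node (nat_lit 6158016) (BT.leaf (nat_lit 23742213)) (BT.leaf (nat_lit 34339589)))))) (BT.node (nat_lit 6158592) (BT.node (nat_lit 6158336) (BT.node (nat_lit 6158208) (BT.node (nat_lit 6158144) (BT.leaf (nat_lit 23531297)) (BT.leaf (nat_lit 21493261))) (BT.node (nat_lit 6158272) (BT.leaf (nat_lit 23462689)) (BT.leaf (nat_lit 30870789)))) (BT.node (nat_lit 6158464) (BT.node (nat_lit 6158400) (BT.leaf (nat_lit 21430289)) (BT.leaf (nat_lit 21404689))) (BT.node (nat_lit 6158528) (BT.leaf (nat_lit 29034521)) (BT.leaf (nat_lit 35176469))))) (BT.node (nat_lit 6158848) (BT.node (nat_lit 6158720) (BT.node (nat_lit 6158656) (BT.leaf (nat_lit 28855061)) (BT.leaf (nat_lit 32575253))) (BT.node (nat_lit 6158784) (BT.leaf (nat_lit 23341317)) (BT.leaf (nat_lit 24623377)))) (BT.node (nat_lit 6158976) (BT.node (nat_lit 6158912) (BT.leaf (nat_lit 23341077)) (BT.leaf (nat_lit 23161889))) (BT.node (nat_lit 6159040) (BT.leaf (nat_lit 23425037)) (BT.leaf (nat_lit 28847393))))))))) (BT.node (nat_lit 6163200) (BT.node (nat_lit 6161152) (BT.node (nat_lit 6160128) (BT.node (nat_lit 6159616) (BT.node (nat_lit 6159360) (BT.node (nat_lit 6159232) (BT.node (nat_lit 6159168) (BT.leaf (nat_lit 32577029)) (BT.leaf (nat_lit 24150041))) (BT.node (nat_lit 6159296) (BT.leaf (nat_lit 24150045)) (BT.leaf (nat_lit 28012833)))) (BT.node (nat_lit 6159488) (BT.node (nat_lit 6159424) (BT.leaf (nat_lit 31105813)) (BT.leaf (nat_lit 31105817))) (BT.node (nat_lit 6159552) (BT.leaf (nat_lit 33540129)) (BT.leaf (nat_lit 24890133))))) (BT.node (nat_lit 6159872) (BT.node (nat_lit 6159744) (BT.node (nat_lit 6159680) (BT.leaf (nat_lit 23425033)) (BT.leaf (nat_lit 23425049))) (BT.node (nat_lit 6159808) (BT.leaf (nat_lit 23425053)) (BT.leaf (nat_lit 35056649)))) (BT.node (nat_lit 6160000) (BT.node (nat_lit 6159936) (BT.leaf (nat_lit 51299085)) (BT.leaf (nat_lit 24153877))) (BT.node (nat_lit 6160064) (BT.leaf (nat_lit 22847253)) (BT.leaf (nat_lit 38162465)))))) (BT.node (nat_lit 6160640) (BT.node (nat_lit 6160384) (BT.node (nat_lit 6160256) (BT.node (nat_lit 6160192) (BT.leaf (nat_lit 51744281)) (BT.leaf (nat_lit 35056669))) (BT.node (nat_lit 6160320) (BT.leaf (nat_lit 21433617)) (BT.leaf (nat_lit 21433361)))) (BT.node (nat_lit 6160512) (BT.node (nat_lit 6160448) (BT.leaf (nat_lit 23414293)) (BT.leaf (nat_lit 23414297))) (BT.node (nat_lit 6160576) (BT.leaf (nat_lit 23414301)) (BT.leaf (nat_lit 24635933))))) (BT.node (nat_lit 6160896) (BT.node (nat_lit 6160768) (BT.node (nat_lit 6160704) (BT.leaf (nat_lit 23423249)) (BT.leaf (nat_lit 24638489))) (BT.node (nat_lit 6160832) (BT.leaf (nat_lit 24506637)) (BT.leaf (nat_lit 46560541)))) (BT.node (nat_lit 6161024) (BT.node (nat_lit 6160960) (BT.leaf (nat_lit 27469573)) (BT.leaf (nat_lit 35183897))) (BT.node (nat_lit 6161088) (BT.leaf (nat_lit 33366561)) (BT.leaf (nat_lit 21522189))))))) (BT.node (nat_lit 6162176) (BT.node (nat_lit 6161664) (BT.node (nat_lit 6161408) (BT.node (nat_lit 6161280) (BT.node (nat_lit 6161216) (BT.leaf (nat_lit 46924065)) (BT.leaf (nat_lit 21860897))) (BT.node (nat_lit 6161344) (BT.leaf (nat_lit 22531089)) (BT.leaf (nat_lit 29552669)))) (BT.node (nat_lit 6161536) (BT.node (nat_lit 6161472) (BT.leaf (nat_lit 24570117)) (BT.leaf (nat_lit 35185425))) (BT.node (nat_lit 6161600) (BT.leaf (nat_lit 35185681)) (BT.leaf (nat_lit 35185925))))) (BT.node (nat_lit 6161920) (BT.node (nat_lit 6161792) (BT.node (nat_lit 6161728) (BT.leaf (nat_lit 22423829)) (BT.leaf (nat_lit 35186453))) (BT.node (nat_lit 6161856) (BT.leaf (nat_lit 24646685)) (BT.leaf (nat_lit 24570133)))) (BT.node (nat_lit 6162048) (BT.node (nat_lit 6161984) (BT.leaf (nat_lit 24570137)) (BT.leaf (nat_lit 24570141))) (BT.node (nat_lit 6162112) (BT.leaf (nat_lit 22733845)) (BT.leaf (nat_lit 22733849)))))) (BT.node (nat_lit 6162688) (BT.node (nat_lit 6162432) (BT.node (nat_lit 6162304) (BT.node (nat_lit 6162240) (BT.leaf (nat_lit 29010181)) (BT.leaf (nat_lit 24506905))) (BT.node (nat_lit 6162368) (BT.leaf (nat_lit 47900945)) (BT.leaf (nat_lit 33691661)))) (BT.node (nat_lit 6162560) (BT.node (nat_lit 6162496) (BT.leaf (nat_lit 27758101)) (BT.leaf (nat_lit 28487197))) (BT.node (nat_lit 6162624) (BT.leaf (nat_lit 24195345)) (BT.leaf (nat_lit 25925397))))) (BT.node (nat_lit 6162944) (BT.node (nat_lit 6162816) (BT.node (nat_lit 6162752) (BT.leaf (nat_lit 24729093)) (BT.leaf (nat_lit 30405381))) (BT.node (nat_lit 6162880) (BT.leaf (nat_lit 23902749)) (BT.leaf (nat_lit 24299781)))) (BT.node (nat_lit 6163072) (BT.node (nat_lit 6163008) (BT.leaf (nat_lit 23912213)) (BT.leaf (nat_lit 23800597))) (BT.node (nat_lit 6163136) (BT.leaf (nat_lit 35052045)) (BT.leaf (nat_lit 35190041)))))))) (BT.node (nat_lit 6165248) (BT.node (nat_lit 6164224) (BT.node (nat_lit 6163712) (BT.node (nat_lit 6163456) (BT.node (nat_lit 6163328) (BT.node (nat_lit 6163264) (BT.leaf (nat_lit 29602837)) (BT.leaf (nat_lit 51349793))) (BT.node (nat_lit 6163392) (BT.leaf (nat_lit 35648289)) (BT.leaf (nat_lit 26021921)))) (BT.node (nat_lit 6163584) (BT.node (nat_lit 6163520) (BT.leaf (nat_lit 22571285)) (BT.leaf (nat_lit 21435657))) (BT.node (nat_lit 6163648) (BT.leaf (nat_lit 21436693)) (BT.leaf (nat_lit 21496597))))) (BT.node (nat_lit 6163968) (BT.node (nat_lit 6163840) (BT.node (nat_lit 6163776) (BT.leaf (nat_lit 28139285)) (BT.leaf (nat_lit 24650521))) (BT.node (nat_lit 6163904) (BT.leaf (nat_lit 25743393)) (BT.leaf (nat_lit 25925405)))) (BT.node (nat_lit 6164096) (BT.node (nat_lit 6164032) (BT.leaf (nat_lit 21436177)) (BT.leaf (nat_lit 34091281))) (BT.node (nat_lit 6164160) (BT.leaf (nat_lit 24656153)) (BT.leaf (nat_lit 21436689)))))) (BT.node (nat_lit 6164736) (BT.node (nat_lit 6164480) (BT.node (nat_lit 6164352) (BT.node (nat_lit 6164288) (BT.leaf (nat_lit 26669845)) (BT.leaf (nat_lit 35190789))) (BT.node (nat_lit 6164416) (BT.leaf (nat_lit 24481549)) (BT.leaf (nat_lit 21496349)))) (BT.node (nat_lit 6164608) (BT.node (nat_lit 6164544) (BT.leaf (nat_lit 30686241)) (BT.leaf (nat_lit 28139293))) (BT.node (nat_lit 6164672) (BT.leaf (nat_lit 26001693)) (BT.leaf (nat_lit 21498393))))) (BT.node (nat_lit 6164992) (BT.node (nat_lit 6164864) (BT.node (nat_lit 6164800) (BT.leaf (nat_lit 34140957)) (BT.leaf (nat_lit 21494293))) (BT.node (nat_lit 6164928) (BT.leaf (nat_lit 24659741)) (BT.leaf (nat_lit 28584977)))) (BT.node (nat_lit 6165120) (BT.node (nat_lit 6165056) (BT.leaf (nat_lit 35196177)) (BT.leaf (nat_lit 31728401))) (BT.node (nat_lit 6165184) (BT.leaf (nat_lit 21214741)) (BT.leaf (nat_lit 35197461))))))) (BT.node (nat_lit 6166272) (BT.node (nat_lit 6165760) (BT.node (nat_lit 6165504) (BT.node (nat_lit 6165376) (BT.node (nat_lit 6165312) (BT.leaf (nat_lit 27777313)) (BT.leaf (nat_lit 29771553))) (BT.node (nat_lit 6165440) (BT.leaf (nat_lit 29771297)) (BT.leaf (nat_lit 30343173)))) (BT.node (nat_lit 6165632) (BT.node (nat_lit 6165568) (BT.leaf (nat_lit 21943325)) (BT.leaf (nat_lit 35198229))) (BT.node (nat_lit 6165696) (BT.leaf (nat_lit 27620129)) (BT.leaf (nat_lit 30438177))))) (BT.node (nat_lit 6166016) (BT.node (nat_lit 6165888) (BT.node (nat_lit 6165824) (BT.leaf (nat_lit 21507865)) (BT.leaf (nat_lit 21507869))) (BT.node (nat_lit 6165952) (BT.leaf (nat_lit 30436897)) (BT.leaf (nat_lit 28110873)))) (BT.node (nat_lit 6166144) (BT.node (nat_lit 6166080) (BT.leaf (nat_lit 33136925)) (BT.leaf (nat_lit 35802641))) (BT.node (nat_lit 6166208) (BT.leaf (nat_lit 33925401)) (BT.leaf (nat_lit 24624925)))))) (BT.node (nat_lit 6166784) (BT.node (nat_lit 6166528) (BT.node (nat_lit 6166400) (BT.node (nat_lit 6166336) (BT.leaf (nat_lit 23237653)) (BT.leaf (nat_lit 22940433))) (BT.node (nat_lit 6166464) (BT.leaf (nat_lit 24497185)) (BT.leaf (nat_lit 29048865)))) (BT.node (nat_lit 6166656) (BT.node (nat_lit 6166592) (BT.leaf (nat_lit 51115525)) (BT.leaf (nat_lit 28919829))) (BT.node (nat_lit 6166720) (BT.leaf (nat_lit 32612637)) (BT.leaf (nat_lit 31101701))))) (BT.node (nat_lit 6167040) (BT.node (nat_lit 6166912) (BT.node (nat_lit 6166848) (BT.leaf (nat_lit 24194821)) (BT.leaf (nat_lit 21438233))) (BT.node (nat_lit 6166976) (BT.leaf (nat_lit 24622853)) (BT.leaf (nat_lit 51609121)))) (BT.node (nat_lit 6167168) (BT.node (nat_lit 6167104) (BT.leaf (nat_lit 28449289)) (BT.leaf (nat_lit 24669973))) (BT.node (nat_lit 6167232) (BT.leaf (nat_lit 21974805)) (BT.leaf (nat_lit 34516513)))))))))))))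
noncomputable def big0_e32768 : BT Nat := (BT.node (nat_lit 6238016) (BT.node (nat_lit 6200064) (BT.node (nat_lit 6183680) (BT.node (nat_lit 6175488) (BT.node (nat_lit 6171392) (BT.node (nat_lit 6169344) (BT.node (nat_lit 6168320) (BT.node (nat_lit 6167808) (BT.node (nat_lit 6167552) (BT.node (nat_lit 6167424) (BT.node (nat_lit 6167360) (BT.leaf (nat_lit 29920017)) (BT.leaf (nat_lit 33895961))) (BT.node (nat_lit 6167488) (BT.leaf (nat_lit 34854177)) (BT.leaf (nat_lit 22322721)))) (BT.node (nat_lit 6167680) (BT.node (nat_lit 6167616) (BT.leaf (nat_lit 22322697)) (BT.leaf (nat_lit 24517909))) (BT.node (nat_lit 6167744) (BT.leaf (nat_lit 27574285)) (BT.leaf (nat_lit 35205397))))) (BT.node (nat_lit 6168064) (BT.node (nat_lit 6167936) (BT.node (nat_lit 6167872) (BT.leaf (nat_lit 23093769)) (BT.leaf (nat_lit 23093773))) (BT.node (nat_lit 6168000) (BT.leaf (nat_lit 23093789)) (BT.leaf (nat_lit 22689041)))) (BT.node (nat_lit 6168192) (BT.node (nat_lit 6168128) (BT.leaf (nat_lit 21458969)) (BT.leaf (nat_lit 33126177))) (BT.node (nat_lit 6168256) (BT.leaf (nat_lit 33180961)) (BT.leaf (nat_lit 21484825)))))) (BT.node (nat_lit 6168832) (BT.node (nat_lit 6168576) (BT.node (nat_lit 6168448) (BT.node (nat_lit 6168384) (BT.leaf (nat_lit 24837905)) (BT.leaf (nat_lit 21445149))) (BT.node (nat_lit 6168512) (BT.leaf (nat_lit 21441297)) (BT.leaf (nat_lit 21442081)))) (BT.node (nat_lit 6168704) (BT.node (nat_lit 6168640) (BT.leaf (nat_lit 21442337)) (BT.leaf (nat_lit 21442593))) (BT.node (nat_lit 6168768) (BT.leaf (nat_lit 21948181)) (BT.leaf (nat_lit 21443097))))) (BT.node (nat_lit 6169088) (BT.node (nat_lit 6168960) (BT.node (nat_lit 6168896) (BT.leaf (nat_lit 21443353)) (BT.leaf (nat_lit 21443613))) (BT.node (nat_lit 6169024) (BT.leaf (nat_lit 21443101)) (BT.leaf (nat_lit 21443357)))) (BT.node (nat_lit 6169216) (BT.node (nat_lit 6169152) (BT.leaf (nat_lit 25950485)) (BT.leaf (nat_lit 25200149))) (BT.node (nat_lit 6169280) (BT.leaf (nat_lit 22493977)) (BT.leaf (nat_lit 23609889))))))) (BT.node (nat_lit 6170368) (BT.node (nat_lit 6169856) (BT.node (nat_lit 6169600) (BT.node (nat_lit 6169472) (BT.node (nat_lit 6169408) (BT.leaf (nat_lit 25200665)) (BT.leaf (nat_lit 32273937))) (BT.node (nat_lit 6169536) (BT.leaf (nat_lit 25950237)) (BT.leaf (nat_lit 33180937)))) (BT.node (nat_lit 6169728) (BT.node (nat_lit 6169664) (BT.leaf (nat_lit 21441301)) (BT.leaf (nat_lit 25980693))) (BT.node (nat_lit 6169792) (BT.leaf (nat_lit 24678409)) (BT.leaf (nat_lit 21320729))))) (BT.node (nat_lit 6170112) (BT.node (nat_lit 6169984) (BT.node (nat_lit 6169920) (BT.leaf (nat_lit 27968521)) (BT.leaf (nat_lit 34630421))) (BT.node (nat_lit 6170048) (BT.leaf (nat_lit 25484825)) (BT.leaf (nat_lit 25949469)))) (BT.node (nat_lit 6170240) (BT.node (nat_lit 6170176) (BT.leaf (nat_lit 24677381)) (BT.leaf (nat_lit 30789665))) (BT.node (nat_lit 6170304) (BT.leaf (nat_lit 32634629)) (BT.leaf (nat_lit 35213589)))))) (BT.node (nat_lit 6170880) (BT.node (nat_lit 6170624) (BT.node (nat_lit 6170496) (BT.node (nat_lit 6170432) (BT.leaf (nat_lit 30935073)) (BT.leaf (nat_lit 35213845))) (BT.node (nat_lit 6170560) (BT.leaf (nat_lit 35214357)) (BT.leaf (nat_lit 22442525)))) (BT.node (nat_lit 6170752) (BT.node (nat_lit 6170688) (BT.leaf (nat_lit 27767813)) (BT.leaf (nat_lit 21475361))) (BT.node (nat_lit 6170816) (BT.leaf (nat_lit 24976649)) (BT.leaf (nat_lit 21474577))))) (BT.node (nat_lit 6171136) (BT.node (nat_lit 6171008) (BT.node (nat_lit 6170944) (BT.leaf (nat_lit 32435217)) (BT.leaf (nat_lit 28941069))) (BT.node (nat_lit 6171072) (BT.leaf (nat_lit 27715849)) (BT.leaf (nat_lit 25975045)))) (BT.node (nat_lit 6171264) (BT.node (nat_lit 6171200) (BT.leaf (nat_lit 27542813)) (BT.leaf (nat_lit 35216401))) (BT.node (nat_lit 6171328) (BT.leaf (nat_lit 27249177)) (BT.leaf (nat_lit 21449745)))))))) (BT.node (nat_lit 6173440) (BT.node (nat_lit 6172416) (BT.node (nat_lit 6171904) (BT.node (nat_lit 6171648) (BT.node (nat_lit 6171520) (BT.node (nat_lit 6171456) (BT.leaf (nat_lit 20950305)) (BT.leaf (nat_lit 29204229))) (BT.node (nat_lit 6171584) (BT.leaf (nat_lit 22974229)) (BT.leaf (nat_lit 23018777)))) (BT.node (nat_lit 6171776) (BT.node (nat_lit 6171712) (BT.leaf (nat_lit 23933729)) (BT.leaf (nat_lit 34821141))) (BT.node (nat_lit 6171840) (BT.leaf (nat_lit 25311265)) (BT.leaf (nat_lit 26592277))))) (BT.node (nat_lit 6172160) (BT.node (nat_lit 6172032) (BT.node (nat_lit 6171968) (BT.leaf (nat_lit 35218201)) (BT.leaf (nat_lit 50811677))) (BT.node (nat_lit 6172096) (BT.leaf (nat_lit 24267041)) (BT.leaf (nat_lit 20759061)))) (BT.node (nat_lit 6172288) (BT.node (nat_lit 6172224) (BT.leaf (nat_lit 22680097)) (BT.leaf (nat_lit 22920453))) (BT.node (nat_lit 6172352) (BT.leaf (nat_lit 21749513)) (BT.leaf (nat_lit 33437209)))))) (BT.node (nat_lit 6172928) (BT.node (nat_lit 6172672) (BT.node (nat_lit 6172544) (BT.node (nat_lit 6172480) (BT.leaf (nat_lit 20954897)) (BT.leaf (nat_lit 36978709))) (BT.node (nat_lit 6172608) (BT.leaf (nat_lit 23040537)) (BT.leaf (nat_lit 21451537)))) (BT.node (nat_lit 6172800) (BT.node (nat_lit 6172736) (BT.leaf (nat_lit 20954641)) (BT.leaf (nat_lit 35221773))) (BT.node (nat_lit 6172864) (BT.leaf (nat_lit 20956177)) (BT.leaf (nat_lit 47497245))))) (BT.node (nat_lit 6173184) (BT.node (nat_lit 6173056) (BT.node (nat_lit 6172992) (BT.leaf (nat_lit 22453013)) (BT.leaf (nat_lit 25770005))) (BT.node (nat_lit 6173120) (BT.leaf (nat_lit 21452305)) (BT.leaf (nat_lit 47497229)))) (BT.node (nat_lit 6173312) (BT.node (nat_lit 6173248) (BT.leaf (nat_lit 32653585)) (BT.leaf (nat_lit 51762969))) (BT.node (nat_lit 6173376) (BT.leaf (nat_lit 51762973)) (BT.leaf (nat_lit 21455377))))))) (BT.node (nat_lit 6174464) (BT.node (nat_lit 6173952) (BT.node (nat_lit 6173696) (BT.node (nat_lit 6173568) (BT.node (nat_lit 6173504) (BT.leaf (nat_lit 21455889)) (BT.leaf (nat_lit 23147041))) (BT.node (nat_lit 6173632) (BT.leaf (nat_lit 25825825)) (BT.leaf (nat_lit 21826845)))) (BT.node (nat_lit 6173824) (BT.node (nat_lit 6173760) (BT.leaf (nat_lit 24260889)) (BT.leaf (nat_lit 33180941))) (BT.node (nat_lit 6173888) (BT.leaf (nat_lit 24676633)) (BT.leaf (nat_lit 32274193))))) (BT.node (nat_lit 6174208) (BT.node (nat_lit 6174080) (BT.node (nat_lit 6174016) (BT.leaf (nat_lit 25200157)) (BT.leaf (nat_lit 21457693))) (BT.node (nat_lit 6174144) (BT.leaf (nat_lit 22385185)) (BT.leaf (nat_lit 34155041)))) (BT.node (nat_lit 6174336) (BT.node (nat_lit 6174272) (BT.leaf (nat_lit 35226385)) (BT.leaf (nat_lit 22688793))) (BT.node (nat_lit 6174400) (BT.leaf (nat_lit 22688797)) (BT.leaf (nat_lit 48141845)))))) (BT.node (nat_lit 6174976) (BT.node (nat_lit 6174720) (BT.node (nat_lit 6174592) (BT.node (nat_lit 6174528) (BT.leaf (nat_lit 32785925)) (BT.leaf (nat_lit 24757269))) (BT.node (nat_lit 6174656) (BT.leaf (nat_lit 33125405)) (BT.leaf (nat_lit 24756245)))) (BT.node (nat_lit 6174848) (BT.node (nat_lit 6174784) (BT.leaf (nat_lit 21484061)) (BT.leaf (nat_lit 21447953))) (BT.node (nat_lit 6174912) (BT.leaf (nat_lit 22384921)) (BT.leaf (nat_lit 21479953))))) (BT.node (nat_lit 6175232) (BT.node (nat_lit 6175104) (BT.node (nat_lit 6175040) (BT.leaf (nat_lit 52424737)) (BT.leaf (nat_lit 32668433))) (BT.node (nat_lit 6175168) (BT.leaf (nat_lit 20969505)) (BT.leaf (nat_lit 24767009)))) (BT.node (nat_lit 6175360) (BT.node (nat_lit 6175296) (BT.leaf (nat_lit 24681737)) (BT.leaf (nat_lit 21951245))) (BT.node (nat_lit 6175424) (BT.leaf (nat_lit 24247329)) (BT.leaf (nat_lit 21461777))))))))) (BT.node (nat_lit 6179584) (BT.node (nat_lit 6177536) (BT.node (nat_lit 6176512) (BT.node (nat_lit 6176000) (BT.node (nat_lit 6175744) (BT.node (nat_lit 6175616) (BT.node (nat_lit 6175552) (BT.leaf (nat_lit 21461793)) (BT.leaf (nat_lit 24203541))) (BT.node (nat_lit 6175680) (BT.leaf (nat_lit 28540181)) (BT.leaf (nat_lit 20972817)))) (BT.node (nat_lit 6175872) (BT.node (nat_lit 6175808) (BT.leaf (nat_lit 27567893)) (BT.leaf (nat_lit 21464609))) (BT.node (nat_lit 6175936) (BT.leaf (nat_lit 21464353)) (BT.leaf (nat_lit 23131413))))) (BT.node (nat_lit 6176256) (BT.node (nat_lit 6176128) (BT.node (nat_lit 6176064) (BT.leaf (nat_lit 35231249)) (BT.leaf (nat_lit 46704153))) (BT.node (nat_lit 6176192) (BT.leaf (nat_lit 32484881)) (BT.leaf (nat_lit 21464337)))) (BT.node (nat_lit 6176384) (BT.node (nat_lit 6176320) (BT.leaf (nat_lit 32480537)) (BT.leaf (nat_lit 23131157))) (BT.node (nat_lit 6176448) (BT.leaf (nat_lit 21465093)) (BT.leaf (nat_lit 23084821)))))) (BT.node (nat_lit 6177024) (BT.node (nat_lit 6176768) (BT.node (nat_lit 6176640) (BT.node (nat_lit 6176576) (BT.leaf (nat_lit 32007697)) (BT.leaf (nat_lit 32041745))) (BT.node (nat_lit 6176704) (BT.leaf (nat_lit 22679561)) (BT.leaf (nat_lit 23052049)))) (BT.node (nat_lit 6176896) (BT.node (nat_lit 6176832) (BT.leaf (nat_lit 23040793)) (BT.leaf (nat_lit 23040797))) (BT.node (nat_lit 6176960) (BT.leaf (nat_lit 35235857)) (BT.leaf (nat_lit 30784013))))) (BT.node (nat_lit 6177280) (BT.node (nat_lit 6177152) (BT.node (nat_lit 6177088) (BT.leaf (nat_lit 35236633)) (BT.leaf (nat_lit 51425037))) (BT.node (nat_lit 6177216) (BT.leaf (nat_lit 21465861)) (BT.leaf (nat_lit 28138773)))) (BT.node (nat_lit 6177408) (BT.node (nat_lit 6177344) (BT.leaf (nat_lit 33569053)) (BT.leaf (nat_lit 23063585))) (BT.node (nat_lit 6177472) (BT.leaf (nat_lit 23063813)) (BT.leaf (nat_lit 29025817))))))) (BT.node (nat_lit 6178560) (BT.node (nat_lit 6178048) (BT.node (nat_lit 6177792) (BT.node (nat_lit 6177664) (BT.node (nat_lit 6177600) (BT.leaf (nat_lit 24575765)) (BT.leaf (nat_lit 32448017))) (BT.node (nat_lit 6177728) (BT.leaf (nat_lit 24578329)) (BT.leaf (nat_lit 24578333)))) (BT.node (nat_lit 6177920) (BT.node (nat_lit 6177856) (BT.leaf (nat_lit 21420313)) (BT.leaf (nat_lit 50919437))) (BT.node (nat_lit 6177984) (BT.leaf (nat_lit 21420317)) (BT.leaf (nat_lit 35027209))))) (BT.node (nat_lit 6178304) (BT.node (nat_lit 6178176) (BT.node (nat_lit 6178112) (BT.leaf (nat_lit 24471065)) (BT.leaf (nat_lit 24471069))) (BT.node (nat_lit 6178240) (BT.leaf (nat_lit 29960989)) (BT.leaf (nat_lit 20709137)))) (BT.node (nat_lit 6178432) (BT.node (nat_lit 6178368) (BT.leaf (nat_lit 36382993)) (BT.leaf (nat_lit 51486221))) (BT.node (nat_lit 6178496) (BT.leaf (nat_lit 27603489)) (BT.leaf (nat_lit 29201173)))))) (BT.node (nat_lit 6179072) (BT.node (nat_lit 6178816) (BT.node (nat_lit 6178688) (BT.node (nat_lit 6178624) (BT.leaf (nat_lit 22867985)) (BT.leaf (nat_lit 22649121))) (BT.node (nat_lit 6178752) (BT.leaf (nat_lit 29200397)) (BT.leaf (nat_lit 21416721)))) (BT.node (nat_lit 6178944) (BT.node (nat_lit 6178880) (BT.leaf (nat_lit 31427085)) (BT.leaf (nat_lit 35244305))) (BT.node (nat_lit 6179008) (BT.leaf (nat_lit 21467653)) (BT.leaf (nat_lit 29410593))))) (BT.node (nat_lit 6179328) (BT.node (nat_lit 6179200) (BT.node (nat_lit 6179136) (BT.leaf (nat_lit 29410337)) (BT.leaf (nat_lit 23230981))) (BT.node (nat_lit 6179264) (BT.leaf (nat_lit 21468421)) (BT.leaf (nat_lit 33727265)))) (BT.node (nat_lit 6179456) (BT.node (nat_lit 6179392) (BT.leaf (nat_lit 28909829)) (BT.leaf (nat_lit 22331909))) (BT.node (nat_lit 6179520) (BT.leaf (nat_lit 21419281)) (BT.leaf (nat_lit 22331925)))))))) (BT.node (nat_lit 6181632) (BT.node (nat_lit 6180608) (BT.node (nat_lit 6180096) (BT.node (nat_lit 6179840) (BT.node (nat_lit 6179712) (BT.node (nat_lit 6179648) (BT.leaf (nat_lit 22331929)) (BT.leaf (nat_lit 22331933))) (BT.node (nat_lit 6179776) (BT.leaf (nat_lit 20922897)) (BT.leaf (nat_lit 27577361)))) (BT.node (nat_lit 6179968) (BT.node (nat_lit 6179904) (BT.leaf (nat_lit 27577377)) (BT.leaf (nat_lit 35246357))) (BT.node (nat_lit 6180032) (BT.leaf (nat_lit 32362017)) (BT.leaf (nat_lit 24550169))))) (BT.node (nat_lit 6180352) (BT.node (nat_lit 6180224) (BT.node (nat_lit 6180160) (BT.leaf (nat_lit 24550173)) (BT.leaf (nat_lit 21468693))) (BT.node (nat_lit 6180288) (BT.leaf (nat_lit 23993365)) (BT.leaf (nat_lit 25788421)))) (BT.node (nat_lit 6180480) (BT.node (nat_lit 6180416) (BT.leaf (nat_lit 23275797)) (BT.leaf (nat_lit 24721949))) (BT.node (nat_lit 6180544) (BT.leaf (nat_lit 35249169)) (BT.leaf (nat_lit 29863185)))))) (BT.node (nat_lit 6181120) (BT.node (nat_lit 6180864) (BT.node (nat_lit 6180736) (BT.node (nat_lit 6180672) (BT.leaf (nat_lit 29863189)) (BT.leaf (nat_lit 27505417))) (BT.node (nat_lit 6180800) (BT.leaf (nat_lit 27595805)) (BT.leaf (nat_lit 33105685)))) (BT.node (nat_lit 6180992) (BT.node (nat_lit 6180928) (BT.leaf (nat_lit 24286981)) (BT.leaf (nat_lit 22411785))) (BT.node (nat_lit 6181056) (BT.leaf (nat_lit 22411789)) (BT.leaf (nat_lit 22411805))))) (BT.node (nat_lit 6181376) (BT.node (nat_lit 6181248) (BT.node (nat_lit 6181184) (BT.leaf (nat_lit 27650577)) (BT.leaf (nat_lit 33157657))) (BT.node (nat_lit 6181312) (BT.leaf (nat_lit 35251473)) (BT.leaf (nat_lit 21469969)))) (BT.node (nat_lit 6181504) (BT.node (nat_lit 6181440) (BT.leaf (nat_lit 21469713)) (BT.leaf (nat_lit 35251985))) (BT.node (nat_lit 6181568) (BT.leaf (nat_lit 34905625)) (BT.leaf (nat_lit 33259525))))))) (BT.node (nat_lit 6182656) (BT.node (nat_lit 6182144) (BT.node (nat_lit 6181888) (BT.node (nat_lit 6181760) (BT.node (nat_lit 6181696) (BT.leaf (nat_lit 22322449)) (BT.leaf (nat_lit 22322453))) (BT.node (nat_lit 6181824) (BT.leaf (nat_lit 26027293)) (BT.leaf (nat_lit 33239313)))) (BT.node (nat_lit 6182016) (BT.node (nat_lit 6181952) (BT.leaf (nat_lit 24727321)) (BT.leaf (nat_lit 28222989))) (BT.node (nat_lit 6182080) (BT.leaf (nat_lit 28591393)) (BT.leaf (nat_lit 28223009))))) (BT.node (nat_lit 6182400) (BT.node (nat_lit 6182272) (BT.node (nat_lit 6182208) (BT.leaf (nat_lit 35253525)) (BT.leaf (nat_lit 23080729))) (BT.node (nat_lit 6182336) (BT.leaf (nat_lit 28110865)) (BT.leaf (nat_lit 34137621)))) (BT.node (nat_lit 6182528) (BT.node (nat_lit 6182464) (BT.leaf (nat_lit 21396745)) (BT.leaf (nat_lit 22560025))) (BT.node (nat_lit 6182592) (BT.leaf (nat_lit 22560029)) (BT.leaf (nat_lit 28140053)))))) (BT.node (nat_lit 6183168) (BT.node (nat_lit 6182912) (BT.node (nat_lit 6182784) (BT.node (nat_lit 6182720) (BT.leaf (nat_lit 21396761)) (BT.leaf (nat_lit 22569997))) (BT.node (nat_lit 6182848) (BT.leaf (nat_lit 21396749)) (BT.leaf (nat_lit 22570017)))) (BT.node (nat_lit 6183040) (BT.node (nat_lit 6182976) (BT.leaf (nat_lit 28137225)) (BT.leaf (nat_lit 28137249))) (BT.node (nat_lit 6183104) (BT.leaf (nat_lit 36759841)) (BT.leaf (nat_lit 22571029))))) (BT.node (nat_lit 6183424) (BT.node (nat_lit 6183296) (BT.node (nat_lit 6183232) (BT.leaf (nat_lit 29308705)) (BT.leaf (nat_lit 24505117))) (BT.node (nat_lit 6183360) (BT.leaf (nat_lit 35257377)) (BT.leaf (nat_lit 35257621)))) (BT.node (nat_lit 6183552) (BT.node (nat_lit 6183488) (BT.leaf (nat_lit 48859933)) (BT.leaf (nat_lit 24504857))) (BT.node (nat_lit 6183616) (BT.leaf (nat_lit 22334993)) (BT.leaf (nat_lit 24075037)))))))))) (BT.node (nat_lit 6191872) (BT.node (nat_lit 6187776) (BT.node (nat_lit 6185728) (BT.node (nat_lit 6184704) (BT.node (nat_lit 6184192) (BT.node (nat_lit 6183936) (BT.node (nat_lit 6183808) (BT.node (nat_lit 6183744) (BT.leaf (nat_lit 30150685)) (BT.leaf (nat_lit 32289029))) (BT.node (nat_lit 6183872) (BT.leaf (nat_lit 32729093)) (BT.leaf (nat_lit 29712145)))) (BT.node (nat_lit 6184064) (BT.node (nat_lit 6184000) (BT.leaf (nat_lit 35259413)) (BT.leaf (nat_lit 32731665))) (BT.node (nat_lit 6184128) (BT.leaf (nat_lit 22525721)) (BT.leaf (nat_lit 22525725))))) (BT.node (nat_lit 6184448) (BT.node (nat_lit 6184320) (BT.node (nat_lit 6184256) (BT.leaf (nat_lit 28087561)) (BT.leaf (nat_lit 35261709))) (BT.node (nat_lit 6184384) (BT.leaf (nat_lit 28350725)) (BT.leaf (nat_lit 33722657)))) (BT.node (nat_lit 6184576) (BT.node (nat_lit 6184512) (BT.leaf (nat_lit 21472273)) (BT.leaf (nat_lit 48155169))) (BT.node (nat_lit 6184640) (BT.leaf (nat_lit 35263773)) (BT.leaf (nat_lit 21423121)))))) (BT.node (nat_lit 6185216) (BT.node (nat_lit 6184960) (BT.node (nat_lit 6184832) (BT.node (nat_lit 6184768) (BT.leaf (nat_lit 21401873)) (BT.leaf (nat_lit 28892949))) (BT.node (nat_lit 6184896) (BT.leaf (nat_lit 25728261)) (BT.leaf (nat_lit 35265057)))) (BT.node (nat_lit 6185088) (BT.node (nat_lit 6185024) (BT.leaf (nat_lit 21371909)) (BT.leaf (nat_lit 33488657))) (BT.node (nat_lit 6185152) (BT.leaf (nat_lit 30978577)) (BT.leaf (nat_lit 35266073))))) (BT.node (nat_lit 6185472) (BT.node (nat_lit 6185344) (BT.node (nat_lit 6185280) (BT.leaf (nat_lit 35134225)) (BT.leaf (nat_lit 23620113))) (BT.node (nat_lit 6185408) (BT.leaf (nat_lit 22718473)) (BT.leaf (nat_lit 28104965)))) (BT.node (nat_lit 6185600) (BT.node (nat_lit 6185536) (BT.leaf (nat_lit 35267605)) (BT.leaf (nat_lit 35135497))) (BT.node (nat_lit 6185664) (BT.leaf (nat_lit 29815329)) (BT.leaf (nat_lit 52233233))))))) (BT.node (nat_lit 6186752) (BT.node (nat_lit 6186240) (BT.node (nat_lit 6185984) (BT.node (nat_lit 6185856) (BT.node (nat_lit 6185792) (BT.leaf (nat_lit 32747537)) (BT.leaf (nat_lit 24468509))) (BT.node (nat_lit 6185920) (BT.leaf (nat_lit 32482061)) (BT.leaf (nat_lit 28889101)))) (BT.node (nat_lit 6186112) (BT.node (nat_lit 6186048) (BT.leaf (nat_lit 28889097)) (BT.leaf (nat_lit 37937669))) (BT.node (nat_lit 6186176) (BT.leaf (nat_lit 28889117)) (BT.leaf (nat_lit 33299233))))) (BT.node (nat_lit 6186496) (BT.node (nat_lit 6186368) (BT.node (nat_lit 6186304) (BT.leaf (nat_lit 32749589)) (BT.leaf (nat_lit 24494101))) (BT.node (nat_lit 6186432) (BT.leaf (nat_lit 27982109)) (BT.leaf (nat_lit 27688469)))) (BT.node (nat_lit 6186624) (BT.node (nat_lit 6186560) (BT.leaf (nat_lit 35672849)) (BT.leaf (nat_lit 23066133))) (BT.node (nat_lit 6186688) (BT.leaf (nat_lit 24746781)) (BT.leaf (nat_lit 35272721)))))) (BT.node (nat_lit 6187264) (BT.node (nat_lit 6187008) (BT.node (nat_lit 6186880) (BT.node (nat_lit 6186816) (BT.leaf (nat_lit 29356053)) (BT.leaf (nat_lit 20815377))) (BT.node (nat_lit 6186944) (BT.leaf (nat_lit 27119889)) (BT.leaf (nat_lit 24747545)))) (BT.node (nat_lit 6187136) (BT.node (nat_lit 6187072) (BT.leaf (nat_lit 21315605)) (BT.leaf (nat_lit 21987093))) (BT.node (nat_lit 6187200) (BT.leaf (nat_lit 21040669)) (BT.leaf (nat_lit 21040665))))) (BT.node (nat_lit 6187520) (BT.node (nat_lit 6187392) (BT.node (nat_lit 6187328) (BT.leaf (nat_lit 23336985)) (BT.leaf (nat_lit 24749597))) (BT.node (nat_lit 6187456) (BT.leaf (nat_lit 21427733)) (BT.leaf (nat_lit 22853153)))) (BT.node (nat_lit 6187648) (BT.node (nat_lit 6187584) (BT.leaf (nat_lit 21476365)) (BT.leaf (nat_lit 24750097))) (BT.node (nat_lit 6187712) (BT.leaf (nat_lit 21404949)) (BT.leaf (nat_lit 24749577)))))))) (BT.node (nat_lit 6189824) (BT.node (nat_lit 6188800) (BT.node (nat_lit 6188288) (BT.node (nat_lit 6188032) (BT.node (nat_lit 6187904) (BT.node (nat_lit 6187840) (BT.leaf (nat_lit 24750113)) (BT.leaf (nat_lit 35276049))) (BT.node (nat_lit 6187968) (BT.leaf (nat_lit 21476369)) (BT.leaf (nat_lit 24232993)))) (BT.node (nat_lit 6188160) (BT.node (nat_lit 6188096) (BT.leaf (nat_lit 21963805)) (BT.leaf (nat_lit 25972001))) (BT.node (nat_lit 6188224) (BT.leaf (nat_lit 25884937)) (BT.leaf (nat_lit 22852897))))) (BT.node (nat_lit 6188544) (BT.node (nat_lit 6188416) (BT.node (nat_lit 6188352) (BT.leaf (nat_lit 21476889)) (BT.leaf (nat_lit 21477149))) (BT.node (nat_lit 6188480) (BT.leaf (nat_lit 21476893)) (BT.leaf (nat_lit 50494753)))) (BT.node (nat_lit 6188672) (BT.node (nat_lit 6188608) (BT.leaf (nat_lit 25934609)) (BT.leaf (nat_lit 25934353))) (BT.node (nat_lit 6188736) (BT.leaf (nat_lit 22688533)) (BT.leaf (nat_lit 22688537)))))) (BT.node (nat_lit 6189312) (BT.node (nat_lit 6189056) (BT.node (nat_lit 6188928) (BT.node (nat_lit 6188864) (BT.leaf (nat_lit 22688541)) (BT.leaf (nat_lit 32441617))) (BT.node (nat_lit 6188992) (BT.leaf (nat_lit 29888789)) (BT.leaf (nat_lit 28251397)))) (BT.node (nat_lit 6189184) (BT.node (nat_lit 6189120) (BT.leaf (nat_lit 24360453)) (BT.leaf (nat_lit 24757781))) (BT.node (nat_lit 6189248) (BT.leaf (nat_lit 21479441)) (BT.leaf (nat_lit 21479185))))) (BT.node (nat_lit 6189568) (BT.node (nat_lit 6189440) (BT.node (nat_lit 6189376) (BT.leaf (nat_lit 52029465)) (BT.leaf (nat_lit 23596577))) (BT.node (nat_lit 6189504) (BT.leaf (nat_lit 52425241)) (BT.leaf (nat_lit 52352269)))) (BT.node (nat_lit 6189696) (BT.node (nat_lit 6189632) (BT.leaf (nat_lit 33125401)) (BT.leaf (nat_lit 24268057))) (BT.node (nat_lit 6189760) (BT.leaf (nat_lit 28389149)) (BT.leaf (nat_lit 24250397))))))) (BT.node (nat_lit 6190848) (BT.node (nat_lit 6190336) (BT.node (nat_lit 6190080) (BT.node (nat_lit 6189952) (BT.node (nat_lit 6189888) (BT.leaf (nat_lit 24829201)) (BT.leaf (nat_lit 37163285))) (BT.node (nat_lit 6190016) (BT.leaf (nat_lit 23050249)) (BT.leaf (nat_lit 27769361)))) (BT.node (nat_lit 6190208) (BT.node (nat_lit 6190144) (BT.leaf (nat_lit 33188633)) (BT.leaf (nat_lit 33188637))) (BT.node (nat_lit 6190272) (BT.leaf (nat_lit 23323925)) (BT.leaf (nat_lit 30273301))))) (BT.node (nat_lit 6190592) (BT.node (nat_lit 6190464) (BT.node (nat_lit 6190400) (BT.leaf (nat_lit 22612761)) (BT.leaf (nat_lit 50503953))) (BT.node (nat_lit 6190528) (BT.leaf (nat_lit 25351701)) (BT.leaf (nat_lit 24749073)))) (BT.node (nat_lit 6190720) (BT.node (nat_lit 6190656) (BT.leaf (nat_lit 24753173)) (BT.leaf (nat_lit 22913041))) (BT.node (nat_lit 6190784) (BT.leaf (nat_lit 23084049)) (BT.leaf (nat_lit 23623189)))))) (BT.node (nat_lit 6191360) (BT.node (nat_lit 6191104) (BT.node (nat_lit 6190976) (BT.node (nat_lit 6190912) (BT.leaf (nat_lit 21480993)) (BT.leaf (nat_lit 23578129))) (BT.node (nat_lit 6191040) (BT.leaf (nat_lit 23578133)) (BT.leaf (nat_lit 30489361)))) (BT.node (nat_lit 6191232) (BT.node (nat_lit 6191168) (BT.leaf (nat_lit 23120917)) (BT.leaf (nat_lit 21482005))) (BT.node (nat_lit 6191296) (BT.leaf (nat_lit 25769229)) (BT.leaf (nat_lit 25769241))))) (BT.node (nat_lit 6191616) (BT.node (nat_lit 6191488) (BT.node (nat_lit 6191424) (BT.leaf (nat_lit 21483025)) (BT.leaf (nat_lit 28429853))) (BT.node (nat_lit 6191552) (BT.leaf (nat_lit 21482769)) (BT.leaf (nat_lit 52406037)))) (BT.node (nat_lit 6191744) (BT.node (nat_lit 6191680) (BT.leaf (nat_lit 29517089)) (BT.leaf (nat_lit 30826017))) (BT.node (nat_lit 6191808) (BT.leaf (nat_lit 27968525)) (BT.leaf (nat_lit 25934617))))))))) (BT.node (nat_lit 6195968) (BT.node (nat_lit 6193920) (BT.node (nat_lit 6192896) (BT.node (nat_lit 6192384) (BT.node (nat_lit 6192128) (BT.node (nat_lit 6192000) (BT.node (nat_lit 6191936) (BT.leaf (nat_lit 22495493)) (BT.leaf (nat_lit 32785413))) (BT.node (nat_lit 6192064) (BT.leaf (nat_lit 21445405)) (BT.leaf (nat_lit 22495521)))) (BT.node (nat_lit 6192256) (BT.node (nat_lit 6192192) (BT.leaf (nat_lit 25938949)) (BT.leaf (nat_lit 25931269))) (BT.node (nat_lit 6192320) (BT.leaf (nat_lit 24144401)) (BT.leaf (nat_lit 24685317))))) (BT.node (nat_lit 6192640) (BT.node (nat_lit 6192512) (BT.node (nat_lit 6192448) (BT.leaf (nat_lit 21487889)) (BT.leaf (nat_lit 27750925))) (BT.node (nat_lit 6192576) (BT.leaf (nat_lit 25904661)) (BT.leaf (nat_lit 22946325)))) (BT.node (nat_lit 6192768) (BT.node (nat_lit 6192704) (BT.leaf (nat_lit 21481761)) (BT.leaf (nat_lit 35196953))) (BT.node (nat_lit 6192832) (BT.leaf (nat_lit 22956805)) (BT.leaf (nat_lit 21489937)))))) (BT.node (nat_lit 6193408) (BT.node (nat_lit 6193152) (BT.node (nat_lit 6193024) (BT.node (nat_lit 6192960) (BT.leaf (nat_lit 22956821)) (BT.leaf (nat_lit 22956825))) (BT.node (nat_lit 6193088) (BT.leaf (nat_lit 22956829)) (BT.leaf (nat_lit 21462033)))) (BT.node (nat_lit 6193280) (BT.node (nat_lit 6193216) (BT.leaf (nat_lit 23117845)) (BT.leaf (nat_lit 21481745))) (BT.node (nat_lit 6193344) (BT.leaf (nat_lit 21331729)) (BT.leaf (nat_lit 22993173))))) (BT.node (nat_lit 6193664) (BT.node (nat_lit 6193536) (BT.node (nat_lit 6193472) (BT.leaf (nat_lit 21490197)) (BT.leaf (nat_lit 21490961))) (BT.node (nat_lit 6193600) (BT.leaf (nat_lit 52401681)) (BT.leaf (nat_lit 21411345)))) (BT.node (nat_lit 6193792) (BT.node (nat_lit 6193728) (BT.leaf (nat_lit 31570453)) (BT.leaf (nat_lit 31570457))) (BT.node (nat_lit 6193856) (BT.leaf (nat_lit 52088093)) (BT.leaf (nat_lit 37284885))))))) (BT.node (nat_lit 6194944) (BT.node (nat_lit 6194432) (BT.node (nat_lit 6194176) (BT.node (nat_lit 6194048) (BT.node (nat_lit 6193984) (BT.leaf (nat_lit 27769369)) (BT.leaf (nat_lit 22901521))) (BT.node (nat_lit 6194112) (BT.leaf (nat_lit 22901525)) (BT.leaf (nat_lit 51669013)))) (BT.node (nat_lit 6194304) (BT.node (nat_lit 6194240) (BT.leaf (nat_lit 23233809)) (BT.leaf (nat_lit 25906961))) (BT.node (nat_lit 6194368) (BT.leaf (nat_lit 23234325)) (BT.leaf (nat_lit 28854545))))) (BT.node (nat_lit 6194688) (BT.node (nat_lit 6194560) (BT.node (nat_lit 6194496) (BT.leaf (nat_lit 34402593)) (BT.leaf (nat_lit 32562957))) (BT.node (nat_lit 6194624) (BT.leaf (nat_lit 35300113)) (BT.leaf (nat_lit 35300633)))) (BT.node (nat_lit 6194816) (BT.node (nat_lit 6194752) (BT.leaf (nat_lit 29590533)) (BT.leaf (nat_lit 24287513))) (BT.node (nat_lit 6194880) (BT.leaf (nat_lit 24287517)) (BT.leaf (nat_lit 25721885)))))) (BT.node (nat_lit 6195456) (BT.node (nat_lit 6195200) (BT.node (nat_lit 6195072) (BT.node (nat_lit 6195008) (BT.leaf (nat_lit 23447569)) (BT.leaf (nat_lit 24696597))) (BT.node (nat_lit 6195136) (BT.leaf (nat_lit 45983753)) (BT.leaf (nat_lit 21335833)))) (BT.node (nat_lit 6195328) (BT.node (nat_lit 6195264) (BT.leaf (nat_lit 35302165)) (BT.leaf (nat_lit 35302417))) (BT.node (nat_lit 6195392) (BT.leaf (nat_lit 23356177)) (BT.leaf (nat_lit 25966621))))) (BT.node (nat_lit 6195712) (BT.node (nat_lit 6195584) (BT.node (nat_lit 6195520) (BT.leaf (nat_lit 25585941)) (BT.leaf (nat_lit 21494033))) (BT.node (nat_lit 6195648) (BT.leaf (nat_lit 21404177)) (BT.leaf (nat_lit 21431569)))) (BT.node (nat_lit 6195840) (BT.node (nat_lit 6195776) (BT.leaf (nat_lit 23780633)) (BT.leaf (nat_lit 23780637))) (BT.node (nat_lit 6195904) (BT.leaf (nat_lit 27633185)) (BT.leaf (nat_lit 46479129)))))))) (BT.node (nat_lit 6198016) (BT.node (nat_lit 6196992) (BT.node (nat_lit 6196480) (BT.node (nat_lit 6196224) (BT.node (nat_lit 6196096) (BT.node (nat_lit 6196032) (BT.leaf (nat_lit 24890397)) (BT.leaf (nat_lit 20826889))) (BT.node (nat_lit 6196160) (BT.leaf (nat_lit 24784153)) (BT.leaf (nat_lit 22297121)))) (BT.node (nat_lit 6196352) (BT.node (nat_lit 6196288) (BT.leaf (nat_lit 32601113)) (BT.leaf (nat_lit 21494277))) (BT.node (nat_lit 6196416) (BT.leaf (nat_lit 35305229)) (BT.leaf (nat_lit 35306257))))) (BT.node (nat_lit 6196736) (BT.node (nat_lit 6196608) (BT.node (nat_lit 6196544) (BT.leaf (nat_lit 21510933)) (BT.leaf (nat_lit 34409249))) (BT.node (nat_lit 6196672) (BT.leaf (nat_lit 34408993)) (BT.leaf (nat_lit 47931909)))) (BT.node (nat_lit 6196864) (BT.node (nat_lit 6196800) (BT.leaf (nat_lit 29378825)) (BT.leaf (nat_lit 33845793))) (BT.node (nat_lit 6196928) (BT.leaf (nat_lit 23238421)) (BT.leaf (nat_lit 34744593)))))) (BT.node (nat_lit 6197504) (BT.node (nat_lit 6197248) (BT.node (nat_lit 6197120) (BT.node (nat_lit 6197056) (BT.leaf (nat_lit 24787737)) (BT.leaf (nat_lit 21365777))) (BT.node (nat_lit 6197184) (BT.leaf (nat_lit 25827353)) (BT.leaf (nat_lit 28558865)))) (BT.node (nat_lit 6197376) (BT.node (nat_lit 6197312) (BT.leaf (nat_lit 49129249)) (BT.leaf (nat_lit 24301081))) (BT.node (nat_lit 6197440) (BT.leaf (nat_lit 29573381)) (BT.leaf (nat_lit 22584597))))) (BT.node (nat_lit 6197760) (BT.node (nat_lit 6197632) (BT.node (nat_lit 6197568) (BT.leaf (nat_lit 23188485)) (BT.leaf (nat_lit 34634785))) (BT.node (nat_lit 6197696) (BT.leaf (nat_lit 22782497)) (BT.leaf (nat_lit 33931025)))) (BT.node (nat_lit 6197888) (BT.node (nat_lit 6197824) (BT.leaf (nat_lit 23068961)) (BT.leaf (nat_lit 22353433))) (BT.node (nat_lit 6197952) (BT.leaf (nat_lit 30183969)) (BT.leaf (nat_lit 24299553))))))) (BT.node (nat_lit 6199040) (BT.node (nat_lit 6198528) (BT.node (nat_lit 6198272) (BT.node (nat_lit 6198144) (BT.node (nat_lit 6198080) (BT.leaf (nat_lit 24300065)) (BT.leaf (nat_lit 21437213))) (BT.node (nat_lit 6198208) (BT.leaf (nat_lit 35314965)) (BT.leaf (nat_lit 35315489)))) (BT.node (nat_lit 6198400) (BT.node (nat_lit 6198336) (BT.leaf (nat_lit 21943581)) (BT.leaf (nat_lit 35197965))) (BT.node (nat_lit 6198464) (BT.leaf (nat_lit 35315989)) (BT.leaf (nat_lit 29771545))))) (BT.node (nat_lit 6198784) (BT.node (nat_lit 6198656) (BT.node (nat_lit 6198592) (BT.leaf (nat_lit 32329753)) (BT.leaf (nat_lit 21436953))) (BT.node (nat_lit 6198720) (BT.leaf (nat_lit 27289369)) (BT.leaf (nat_lit 50301973)))) (BT.node (nat_lit 6198912) (BT.node (nat_lit 6198848) (BT.leaf (nat_lit 32387341)) (BT.leaf (nat_lit 21495829))) (BT.node (nat_lit 6198976) (BT.leaf (nat_lit 21497105)) (BT.leaf (nat_lit 21496849)))))) (BT.node (nat_lit 6199552) (BT.node (nat_lit 6199296) (BT.node (nat_lit 6199168) (BT.node (nat_lit 6199104) (BT.leaf (nat_lit 52018717)) (BT.leaf (nat_lit 21496605))) (BT.node (nat_lit 6199232) (BT.leaf (nat_lit 30082593)) (BT.leaf (nat_lit 24481561)))) (BT.node (nat_lit 6199424) (BT.node (nat_lit 6199360) (BT.leaf (nat_lit 24481565)) (BT.leaf (nat_lit 22570773))) (BT.node (nat_lit 6199488) (BT.leaf (nat_lit 21497873)) (BT.leaf (nat_lit 33863713))))) (BT.node (nat_lit 6199808) (BT.node (nat_lit 6199680) (BT.node (nat_lit 6199616) (BT.leaf (nat_lit 50270225)) (BT.leaf (nat_lit 23316241))) (BT.node (nat_lit 6199744) (BT.leaf (nat_lit 25442837)) (BT.leaf (nat_lit 23985429)))) (BT.node (nat_lit 6199936) (BT.node (nat_lit 6199872) (BT.leaf (nat_lit 22632213)) (BT.leaf (nat_lit 35320345))) (BT.node (nat_lit 6200000) (BT.leaf (nat_lit 34392093)) (BT.leaf (nat_lit 35108625))))))))))) (BT.node (nat_lit 6216448) (BT.node (nat_lit 6208256) (BT.node (nat_lit 6204160) (BT.node (nat_lit 6202112) (BT.node (nat_lit 6201088) (BT.node (nat_lit 6200576) (BT.node (nat_lit 6200320) (BT.node (nat_lit 6200192) (BT.node (nat_lit 6200128) (BT.leaf (nat_lit 21499669)) (BT.leaf (nat_lit 29872157))) (BT.node (nat_lit 6200256) (BT.leaf (nat_lit 30811925)) (BT.leaf (nat_lit 22907405)))) (BT.node (nat_lit 6200448) (BT.node (nat_lit 6200384) (BT.leaf (nat_lit 22907417)) (BT.leaf (nat_lit 22907421))) (BT.node (nat_lit 6200512) (BT.leaf (nat_lit 35321621)) (BT.leaf (nat_lit 22901269))))) (BT.node (nat_lit 6200832) (BT.node (nat_lit 6200704) (BT.node (nat_lit 6200640) (BT.leaf (nat_lit 33596945)) (BT.leaf (nat_lit 28815385))) (BT.node (nat_lit 6200768) (BT.leaf (nat_lit 26024477)) (BT.leaf (nat_lit 35106325)))) (BT.node (nat_lit 6200960) (BT.node (nat_lit 6200896) (BT.leaf (nat_lit 35323153)) (BT.leaf (nat_lit 27577629))) (BT.node (nat_lit 6201024) (BT.leaf (nat_lit 24805145)) (BT.leaf (nat_lit 49444381)))))) (BT.node (nat_lit 6201600) (BT.node (nat_lit 6201344) (BT.node (nat_lit 6201216) (BT.node (nat_lit 6201152) (BT.leaf (nat_lit 30253845)) (BT.leaf (nat_lit 25860641))) (BT.node (nat_lit 6201280) (BT.leaf (nat_lit 24289809)) (BT.leaf (nat_lit 35325969)))) (BT.node (nat_lit 6201472) (BT.node (nat_lit 6201408) (BT.leaf (nat_lit 23248409)) (BT.leaf (nat_lit 35105817))) (BT.node (nat_lit 6201536) (BT.leaf (nat_lit 21499677)) (BT.leaf (nat_lit 27592213))))) (BT.node (nat_lit 6201856) (BT.node (nat_lit 6201728) (BT.node (nat_lit 6201664) (BT.leaf (nat_lit 24620565)) (BT.leaf (nat_lit 35203617))) (BT.node (nat_lit 6201792) (BT.leaf (nat_lit 22695685)) (BT.leaf (nat_lit 21499933)))) (BT.node (nat_lit 6201984) (BT.node (nat_lit 6201920) (BT.leaf (nat_lit 22695697)) (BT.leaf (nat_lit 24620317))) (BT.node (nat_lit 6202048) (BT.leaf (nat_lit 24509461)) (BT.leaf (nat_lit 23351825))))))) (BT.node (nat_lit 6203136) (BT.node (nat_lit 6202624) (BT.node (nat_lit 6202368) (BT.node (nat_lit 6202240) (BT.node (nat_lit 6202176) (BT.leaf (nat_lit 24567325)) (BT.leaf (nat_lit 35327765))) (BT.node (nat_lit 6202304) (BT.leaf (nat_lit 24508957)) (BT.leaf (nat_lit 28447761)))) (BT.node (nat_lit 6202496) (BT.node (nat_lit 6202432) (BT.leaf (nat_lit 28434969)) (BT.leaf (nat_lit 34290201))) (BT.node (nat_lit 6202560) (BT.leaf (nat_lit 32536073)) (BT.leaf (nat_lit 35330325))))) (BT.node (nat_lit 6202880) (BT.node (nat_lit 6202752) (BT.node (nat_lit 6202688) (BT.leaf (nat_lit 28451345)) (BT.leaf (nat_lit 35331105))) (BT.node (nat_lit 6202816) (BT.leaf (nat_lit 28516613)) (BT.leaf (nat_lit 34108677)))) (BT.node (nat_lit 6203008) (BT.node (nat_lit 6202944) (BT.leaf (nat_lit 35332129)) (BT.leaf (nat_lit 35332641))) (BT.node (nat_lit 6203072) (BT.leaf (nat_lit 22170645)) (BT.leaf (nat_lit 24812573)))))) (BT.node (nat_lit 6203648) (BT.node (nat_lit 6203392) (BT.node (nat_lit 6203264) (BT.node (nat_lit 6203200) (BT.leaf (nat_lit 31456529)) (BT.leaf (nat_lit 24003101))) (BT.node (nat_lit 6203328) (BT.leaf (nat_lit 22462993)) (BT.leaf (nat_lit 34609949)))) (BT.node (nat_lit 6203520) (BT.node (nat_lit 6203456) (BT.leaf (nat_lit 24618245)) (BT.leaf (nat_lit 26421521))) (BT.node (nat_lit 6203584) (BT.leaf (nat_lit 34610965)) (BT.leaf (nat_lit 35333649))))) (BT.node (nat_lit 6203904) (BT.node (nat_lit 6203776) (BT.node (nat_lit 6203712) (BT.leaf (nat_lit 24666401)) (BT.leaf (nat_lit 33566497))) (BT.node (nat_lit 6203840) (BT.leaf (nat_lit 24371205)) (BT.leaf (nat_lit 49825805)))) (BT.node (nat_lit 6204032) (BT.node (nat_lit 6203968) (BT.leaf (nat_lit 30556165)) (BT.leaf (nat_lit 21251093))) (BT.node (nat_lit 6204096) (BT.leaf (nat_lit 31506713)) (BT.leaf (nat_lit 21503249)))))))) (BT.node (nat_lit 6206208) (BT.node (nat_lit 6205184) (BT.node (nat_lit 6204672) (BT.node (nat_lit 6204416) (BT.node (nat_lit 6204288) (BT.node (nat_lit 6204224) (BT.leaf (nat_lit 21502993)) (BT.leaf (nat_lit 25690645))) (BT.node (nat_lit 6204352) (BT.leaf (nat_lit 28351505)) (BT.leaf (nat_lit 36132893)))) (BT.node (nat_lit 6204544) (BT.node (nat_lit 6204480) (BT.leaf (nat_lit 29716757)) (BT.leaf (nat_lit 33381401))) (BT.node (nat_lit 6204608) (BT.leaf (nat_lit 35433745)) (BT.leaf (nat_lit 50269213))))) (BT.node (nat_lit 6204928) (BT.node (nat_lit 6204800) (BT.node (nat_lit 6204736) (BT.leaf (nat_lit 24920593)) (BT.leaf (nat_lit 24920609))) (BT.node (nat_lit 6204864) (BT.leaf (nat_lit 21503769)) (BT.leaf (nat_lit 21503773)))) (BT.node (nat_lit 6205056) (BT.node (nat_lit 6204992) (BT.leaf (nat_lit 35338781)) (BT.leaf (nat_lit 29295893))) (BT.node (nat_lit 6205120) (BT.leaf (nat_lit 48155165)) (BT.leaf (nat_lit 35339281)))))) (BT.node (nat_lit 6205696) (BT.node (nat_lit 6205440) (BT.node (nat_lit 6205312) (BT.node (nat_lit 6205248) (BT.leaf (nat_lit 29403397)) (BT.leaf (nat_lit 27568673))) (BT.node (nat_lit 6205376) (BT.leaf (nat_lit 27568417)) (BT.leaf (nat_lit 31719697)))) (BT.node (nat_lit 6205568) (BT.node (nat_lit 6205504) (BT.leaf (nat_lit 23334661)) (BT.leaf (nat_lit 32271393))) (BT.node (nat_lit 6205632) (BT.leaf (nat_lit 27289889)) (BT.leaf (nat_lit 27290145))))) (BT.node (nat_lit 6205952) (BT.node (nat_lit 6205824) (BT.node (nat_lit 6205760) (BT.leaf (nat_lit 34156301)) (BT.leaf (nat_lit 32900109))) (BT.node (nat_lit 6205888) (BT.leaf (nat_lit 24870433)) (BT.leaf (nat_lit 23765269)))) (BT.node (nat_lit 6206080) (BT.node (nat_lit 6206016) (BT.leaf (nat_lit 23765273)) (BT.leaf (nat_lit 23765277))) (BT.node (nat_lit 6206144) (BT.leaf (nat_lit 34522133)) (BT.leaf (nat_lit 22851333))))))) (BT.node (nat_lit 6207232) (BT.node (nat_lit 6206720) (BT.node (nat_lit 6206464) (BT.node (nat_lit 6206336) (BT.node (nat_lit 6206272) (BT.leaf (nat_lit 32902405)) (BT.leaf (nat_lit 28678929))) (BT.node (nat_lit 6206400) (BT.leaf (nat_lit 24830997)) (BT.leaf (nat_lit 35345425)))) (BT.node (nat_lit 6206592) (BT.node (nat_lit 6206528) (BT.leaf (nat_lit 29870625)) (BT.leaf (nat_lit 35346193))) (BT.node (nat_lit 6206656) (BT.leaf (nat_lit 24660769)) (BT.leaf (nat_lit 27504161))))) (BT.node (nat_lit 6206976) (BT.node (nat_lit 6206848) (BT.node (nat_lit 6206784) (BT.leaf (nat_lit 29862945)) (BT.leaf (nat_lit 24660513))) (BT.node (nat_lit 6206912) (BT.leaf (nat_lit 29863713)) (BT.leaf (nat_lit 27504673)))) (BT.node (nat_lit 6207104) (BT.node (nat_lit 6207040) (BT.leaf (nat_lit 28514337)) (BT.leaf (nat_lit 23540229))) (BT.node (nat_lit 6207168) (BT.leaf (nat_lit 25420037)) (BT.leaf (nat_lit 22714905)))))) (BT.node (nat_lit 6207744) (BT.node (nat_lit 6207488) (BT.node (nat_lit 6207360) (BT.node (nat_lit 6207296) (BT.leaf (nat_lit 22714909)) (BT.leaf (nat_lit 52196365))) (BT.node (nat_lit 6207424) (BT.leaf (nat_lit 35350033)) (BT.leaf (nat_lit 30353177)))) (BT.node (nat_lit 6207616) (BT.node (nat_lit 6207552) (BT.leaf (nat_lit 27788317)) (BT.leaf (nat_lit 28861473))) (BT.node (nat_lit 6207680) (BT.leaf (nat_lit 26022421)) (BT.leaf (nat_lit 25396249))))) (BT.node (nat_lit 6208000) (BT.node (nat_lit 6207872) (BT.node (nat_lit 6207808) (BT.leaf (nat_lit 24825629)) (BT.leaf (nat_lit 29383453))) (BT.node (nat_lit 6207936) (BT.leaf (nat_lit 24833301)) (BT.leaf (nat_lit 25630997)))) (BT.node (nat_lit 6208128) (BT.node (nat_lit 6208064) (BT.leaf (nat_lit 32913173)) (BT.leaf (nat_lit 24834077))) (BT.node (nat_lit 6208192) (BT.leaf (nat_lit 22739737)) (BT.leaf (nat_lit 28883477))))))))) (BT.node (nat_lit 6212352) (BT.node (nat_lit 6210304) (BT.node (nat_lit 6209280) (BT.node (nat_lit 6208768) (BT.node (nat_lit 6208512) (BT.node (nat_lit 6208384) (BT.node (nat_lit 6208320) (BT.leaf (nat_lit 28883481)) (BT.leaf (nat_lit 20848921))) (BT.node (nat_lit 6208448) (BT.leaf (nat_lit 30943521)) (BT.leaf (nat_lit 23748617)))) (BT.node (nat_lit 6208640) (BT.node (nat_lit 6208576) (BT.leaf (nat_lit 26198545)) (BT.leaf (nat_lit 35353629))) (BT.node (nat_lit 6208704) (BT.leaf (nat_lit 23197985)) (BT.leaf (nat_lit 28861701))))) (BT.node (nat_lit 6209024) (BT.node (nat_lit 6208896) (BT.node (nat_lit 6208832) (BT.leaf (nat_lit 32910341)) (BT.leaf (nat_lit 28645641))) (BT.node (nat_lit 6208960) (BT.leaf (nat_lit 35354381)) (BT.leaf (nat_lit 51744261)))) (BT.node (nat_lit 6209152) (BT.node (nat_lit 6209088) (BT.leaf (nat_lit 35354901)) (BT.leaf (nat_lit 48536589))) (BT.node (nat_lit 6209216) (BT.leaf (nat_lit 35356181)) (BT.leaf (nat_lit 24837149)))))) (BT.node (nat_lit 6209792) (BT.node (nat_lit 6209536) (BT.node (nat_lit 6209408) (BT.node (nat_lit 6209344) (BT.leaf (nat_lit 31824405)) (BT.leaf (nat_lit 33424913))) (BT.node (nat_lit 6209472) (BT.leaf (nat_lit 34405137)) (BT.leaf (nat_lit 33585949)))) (BT.node (nat_lit 6209664) (BT.node (nat_lit 6209600) (BT.leaf (nat_lit 24840733)) (BT.leaf (nat_lit 35356689))) (BT.node (nat_lit 6209728) (BT.leaf (nat_lit 24838425)) (BT.leaf (nat_lit 27325445))))) (BT.node (nat_lit 6210048) (BT.node (nat_lit 6209920) (BT.node (nat_lit 6209856) (BT.leaf (nat_lit 23068705)) (BT.leaf (nat_lit 35357717))) (BT.node (nat_lit 6209984) (BT.leaf (nat_lit 40743181)) (BT.leaf (nat_lit 27325701)))) (BT.node (nat_lit 6210176) (BT.node (nat_lit 6210112) (BT.leaf (nat_lit 21723925)) (BT.leaf (nat_lit 35359765))) (BT.node (nat_lit 6210240) (BT.leaf (nat_lit 35360529)) (BT.leaf (nat_lit 29576709))))))) (BT.node (nat_lit 6211328) (BT.node (nat_lit 6210816) (BT.node (nat_lit 6210560) (BT.node (nat_lit 6210432) (BT.node (nat_lit 6210368) (BT.leaf (nat_lit 35361045)) (BT.leaf (nat_lit 32937477))) (BT.node (nat_lit 6210496) (BT.leaf (nat_lit 29742865)) (BT.leaf (nat_lit 52186649)))) (BT.node (nat_lit 6210688) (BT.node (nat_lit 6210624) (BT.leaf (nat_lit 27583261)) (BT.leaf (nat_lit 22722845))) (BT.node (nat_lit 6210752) (BT.leaf (nat_lit 27457797)) (BT.leaf (nat_lit 33839637))))) (BT.node (nat_lit 6211072) (BT.node (nat_lit 6210944) (BT.node (nat_lit 6210880) (BT.leaf (nat_lit 31413769)) (BT.leaf (nat_lit 24883973))) (BT.node (nat_lit 6211008) (BT.leaf (nat_lit 35363349)) (BT.leaf (nat_lit 29170977)))) (BT.node (nat_lit 6211200) (BT.node (nat_lit 6211136) (BT.leaf (nat_lit 29253145)) (BT.leaf (nat_lit 50610953))) (BT.node (nat_lit 6211264) (BT.leaf (nat_lit 31412505)) (BT.leaf (nat_lit 35365393)))))) (BT.node (nat_lit 6211840) (BT.node (nat_lit 6211584) (BT.node (nat_lit 6211456) (BT.node (nat_lit 6211392) (BT.leaf (nat_lit 29634593)) (BT.leaf (nat_lit 27588889))) (BT.node (nat_lit 6211520) (BT.leaf (nat_lit 52190481)) (BT.leaf (nat_lit 24634381)))) (BT.node (nat_lit 6211712) (BT.node (nat_lit 6211648) (BT.leaf (nat_lit 34431509)) (BT.leaf (nat_lit 23368225))) (BT.node (nat_lit 6211776) (BT.leaf (nat_lit 22614033)) (BT.leaf (nat_lit 25164057))))) (BT.node (nat_lit 6212096) (BT.node (nat_lit 6211968) (BT.node (nat_lit 6211904) (BT.leaf (nat_lit 21511185)) (BT.leaf (nat_lit 22392601))) (BT.node (nat_lit 6212032) (BT.leaf (nat_lit 22392605)) (BT.leaf (nat_lit 25651481)))) (BT.node (nat_lit 6212224) (BT.node (nat_lit 6212160) (BT.leaf (nat_lit 24848669)) (BT.leaf (nat_lit 35367441))) (BT.node (nat_lit 6212288) (BT.leaf (nat_lit 22989841)) (BT.leaf (nat_lit 22989857)))))))) (BT.node (nat_lit 6214400) (BT.node (nat_lit 6213376) (BT.node (nat_lit 6212864) (BT.node (nat_lit 6212608) (BT.node (nat_lit 6212480) (BT.node (nat_lit 6212416) (BT.leaf (nat_lit 36512545)) (BT.leaf (nat_lit 31317281))) (BT.node (nat_lit 6212544) (BT.leaf (nat_lit 47428877)) (BT.leaf (nat_lit 23641097)))) (BT.node (nat_lit 6212736) (BT.node (nat_lit 6212672) (BT.leaf (nat_lit 25314069)) (BT.leaf (nat_lit 35367957))) (BT.node (nat_lit 6212800) (BT.leaf (nat_lit 28865549)) (BT.leaf (nat_lit 25314329))))) (BT.node (nat_lit 6213120) (BT.node (nat_lit 6212992) (BT.node (nat_lit 6212928) (BT.leaf (nat_lit 28862749)) (BT.leaf (nat_lit 25856517))) (BT.node (nat_lit 6213056) (BT.leaf (nat_lit 25856773)) (BT.leaf (nat_lit 22346245)))) (BT.node (nat_lit 6213248) (BT.node (nat_lit 6213184) (BT.leaf (nat_lit 35369233)) (BT.leaf (nat_lit 28038161))) (BT.node (nat_lit 6213312) (BT.leaf (nat_lit 28038165)) (BT.leaf (nat_lit 21516037)))))) (BT.node (nat_lit 6213888) (BT.node (nat_lit 6213632) (BT.node (nat_lit 6213504) (BT.node (nat_lit 6213440) (BT.leaf (nat_lit 28241425)) (BT.leaf (nat_lit 34353929))) (BT.node (nat_lit 6213568) (BT.leaf (nat_lit 48550409)) (BT.leaf (nat_lit 23942429)))) (BT.node (nat_lit 6213760) (BT.node (nat_lit 6213696) (BT.leaf (nat_lit 23846661)) (BT.leaf (nat_lit 24855069))) (BT.node (nat_lit 6213824) (BT.leaf (nat_lit 35371029)) (BT.leaf (nat_lit 28015377))))) (BT.node (nat_lit 6214144) (BT.node (nat_lit 6214016) (BT.node (nat_lit 6213952) (BT.leaf (nat_lit 34696453)) (BT.leaf (nat_lit 35371281))) (BT.node (nat_lit 6214080) (BT.leaf (nat_lit 35371537)) (BT.leaf (nat_lit 35371805)))) (BT.node (nat_lit 6214272) (BT.node (nat_lit 6214208) (BT.leaf (nat_lit 24442397)) (BT.leaf (nat_lit 34701333))) (BT.node (nat_lit 6214336) (BT.leaf (nat_lit 35373089)) (BT.leaf (nat_lit 33754129))))))) (BT.node (nat_lit 6215424) (BT.node (nat_lit 6214912) (BT.node (nat_lit 6214656) (BT.node (nat_lit 6214528) (BT.node (nat_lit 6214464) (BT.leaf (nat_lit 27426589)) (BT.leaf (nat_lit 22492945))) (BT.node (nat_lit 6214592) (BT.leaf (nat_lit 22707205)) (BT.leaf (nat_lit 24808713)))) (BT.node (nat_lit 6214784) (BT.node (nat_lit 6214720) (BT.leaf (nat_lit 23297817)) (BT.leaf (nat_lit 35374609))) (BT.node (nat_lit 6214848) (BT.leaf (nat_lit 24510469)) (BT.leaf (nat_lit 50076697))))) (BT.node (nat_lit 6215168) (BT.node (nat_lit 6215040) (BT.node (nat_lit 6214976) (BT.leaf (nat_lit 51486729)) (BT.leaf (nat_lit 22810645))) (BT.node (nat_lit 6215104) (BT.leaf (nat_lit 31533065)) (BT.leaf (nat_lit 28352261)))) (BT.node (nat_lit 6215296) (BT.node (nat_lit 6215232) (BT.leaf (nat_lit 28352273)) (BT.leaf (nat_lit 25447697))) (BT.node (nat_lit 6215360) (BT.leaf (nat_lit 35376405)) (BT.leaf (nat_lit 24809489)))))) (BT.node (nat_lit 6215936) (BT.node (nat_lit 6215680) (BT.node (nat_lit 6215552) (BT.node (nat_lit 6215488) (BT.leaf (nat_lit 29107989)) (BT.leaf (nat_lit 31532041))) (BT.node (nat_lit 6215616) (BT.leaf (nat_lit 29114629)) (BT.leaf (nat_lit 24614149)))) (BT.node (nat_lit 6215808) (BT.node (nat_lit 6215744) (BT.leaf (nat_lit 28810529)) (BT.leaf (nat_lit 31532061))) (BT.node (nat_lit 6215872) (BT.leaf (nat_lit 36274449)) (BT.leaf (nat_lit 25846293))))) (BT.node (nat_lit 6216192) (BT.node (nat_lit 6216064) (BT.node (nat_lit 6216000) (BT.leaf (nat_lit 27425053)) (BT.leaf (nat_lit 36117017))) (BT.node (nat_lit 6216128) (BT.leaf (nat_lit 20894749)) (BT.leaf (nat_lit 22865157)))) (BT.node (nat_lit 6216320) (BT.node (nat_lit 6216256) (BT.leaf (nat_lit 27600901)) (BT.leaf (nat_lit 26630169))) (BT.node (nat_lit 6216384) (BT.leaf (nat_lit 35378705)) (BT.leaf (nat_lit 28697869)))))))))) (BT.node (nat_lit 6224896) (BT.node (nat_lit 6220544) (BT.node (nat_lit 6218496) (BT.node (nat_lit 6217472) (BT.node (nat_lit 6216960) (BT.node (nat_lit 6216704) (BT.node (nat_lit 6216576) (BT.node (nat_lit 6216512) (BT.leaf (nat_lit 32284437)) (BT.leaf (nat_lit 27293461))) (BT.node (nat_lit 6216640) (BT.leaf (nat_lit 35381009)) (BT.leaf (nat_lit 35381521)))) (BT.node (nat_lit 6216832) (BT.node (nat_lit 6216768) (BT.leaf (nat_lit 24037389)) (BT.leaf (nat_lit 27548177))) (BT.node (nat_lit 6216896) (BT.leaf (nat_lit 22625801)) (BT.leaf (nat_lit 29343757))))) (BT.node (nat_lit 6217216) (BT.node (nat_lit 6217088) (BT.node (nat_lit 6217024) (BT.leaf (nat_lit 24156177)) (BT.leaf (nat_lit 24608773))) (BT.node (nat_lit 6217152) (BT.leaf (nat_lit 52023057)) (BT.leaf (nat_lit 30568965)))) (BT.node (nat_lit 6217344) (BT.node (nat_lit 6217280) (BT.leaf (nat_lit 21612053)) (BT.leaf (nat_lit 35384097))) (BT.node (nat_lit 6217408) (BT.leaf (nat_lit 23207961)) (BT.leaf (nat_lit 23207965)))))) (BT.node (nat_lit 6217984) (BT.node (nat_lit 6217728) (BT.node (nat_lit 6217600) (BT.node (nat_lit 6217536) (BT.leaf (nat_lit 29336341)) (BT.leaf (nat_lit 33993749))) (BT.node (nat_lit 6217664) (BT.leaf (nat_lit 32987913)) (BT.leaf (nat_lit 27286561)))) (BT.node (nat_lit 6217856) (BT.node (nat_lit 6217792) (BT.leaf (nat_lit 24406049)) (BT.leaf (nat_lit 22730257))) (BT.node (nat_lit 6217920) (BT.leaf (nat_lit 24406561)) (BT.leaf (nat_lit 27655713))))) (BT.node (nat_lit 6218240) (BT.node (nat_lit 6218112) (BT.node (nat_lit 6218048) (BT.leaf (nat_lit 23061513)) (BT.leaf (nat_lit 31027717))) (BT.node (nat_lit 6218176) (BT.leaf (nat_lit 32907013)) (BT.leaf (nat_lit 24074781)))) (BT.node (nat_lit 6218368) (BT.node (nat_lit 6218304) (BT.leaf (nat_lit 23409429)) (BT.leaf (nat_lit 27479841))) (BT.node (nat_lit 6218432) (BT.leaf (nat_lit 25619733)) (BT.leaf (nat_lit 30406177))))))) (BT.node (nat_lit 6219520) (BT.node (nat_lit 6219008) (BT.node (nat_lit 6218752) (BT.node (nat_lit 6218624) (BT.node (nat_lit 6218560) (BT.leaf (nat_lit 23238941)) (BT.leaf (nat_lit 24874525))) (BT.node (nat_lit 6218688) (BT.leaf (nat_lit 24426001)) (BT.leaf (nat_lit 25134617)))) (BT.node (nat_lit 6218880) (BT.node (nat_lit 6218816) (BT.leaf (nat_lit 33899293)) (BT.leaf (nat_lit 25135125))) (BT.node (nat_lit 6218944) (BT.leaf (nat_lit 28596769)) (BT.leaf (nat_lit 30411269))))) (BT.node (nat_lit 6219264) (BT.node (nat_lit 6219136) (BT.node (nat_lit 6219072) (BT.leaf (nat_lit 35388441)) (BT.leaf (nat_lit 25062429))) (BT.node (nat_lit 6219200) (BT.leaf (nat_lit 23076885)) (BT.leaf (nat_lit 32996877)))) (BT.node (nat_lit 6219392) (BT.node (nat_lit 6219328) (BT.leaf (nat_lit 31037213)) (BT.leaf (nat_lit 44045069))) (BT.node (nat_lit 6219456) (BT.leaf (nat_lit 35389717)) (BT.leaf (nat_lit 31356957)))))) (BT.node (nat_lit 6220032) (BT.node (nat_lit 6219776) (BT.node (nat_lit 6219648) (BT.node (nat_lit 6219584) (BT.leaf (nat_lit 23804689)) (BT.leaf (nat_lit 27436825))) (BT.node (nat_lit 6219712) (BT.leaf (nat_lit 21519365)) (BT.leaf (nat_lit 23231513)))) (BT.node (nat_lit 6219904) (BT.node (nat_lit 6219840) (BT.leaf (nat_lit 23231517)) (BT.leaf (nat_lit 32841737))) (BT.node (nat_lit 6219968) (BT.leaf (nat_lit 32841757)) (BT.leaf (nat_lit 21189401))))) (BT.node (nat_lit 6220288) (BT.node (nat_lit 6220160) (BT.node (nat_lit 6220096) (BT.leaf (nat_lit 22928401)) (BT.leaf (nat_lit 29231393))) (BT.node (nat_lit 6220224) (BT.leaf (nat_lit 25195549)) (BT.leaf (nat_lit 51938333)))) (BT.node (nat_lit 6220416) (BT.node (nat_lit 6220352) (BT.leaf (nat_lit 29493273)) (BT.leaf (nat_lit 24034325))) (BT.node (nat_lit 6220480) (BT.leaf (nat_lit 24034077)) (BT.leaf (nat_lit 35393301)))))))) (BT.node (nat_lit 6222592) (BT.node (nat_lit 6221568) (BT.node (nat_lit 6221056) (BT.node (nat_lit 6220800) (BT.node (nat_lit 6220672) (BT.node (nat_lit 6220608) (BT.leaf (nat_lit 31496713)) (BT.leaf (nat_lit 33007877))) (BT.node (nat_lit 6220736) (BT.leaf (nat_lit 27398677)) (BT.leaf (nat_lit 47254301)))) (BT.node (nat_lit 6220928) (BT.node (nat_lit 6220864) (BT.leaf (nat_lit 23889677)) (BT.leaf (nat_lit 28981009))) (BT.node (nat_lit 6220992) (BT.leaf (nat_lit 24563733)) (BT.leaf (nat_lit 22616349))))) (BT.node (nat_lit 6221312) (BT.node (nat_lit 6221184) (BT.node (nat_lit 6221120) (BT.leaf (nat_lit 35394069)) (BT.leaf (nat_lit 47334161))) (BT.node (nat_lit 6221248) (BT.leaf (nat_lit 35394833)) (BT.leaf (nat_lit 25625349)))) (BT.node (nat_lit 6221440) (BT.node (nat_lit 6221376) (BT.leaf (nat_lit 30127621)) (BT.leaf (nat_lit 28814605))) (BT.node (nat_lit 6221504) (BT.leaf (nat_lit 22911517)) (BT.leaf (nat_lit 20870677)))))) (BT.node (nat_lit 6222080) (BT.node (nat_lit 6221824) (BT.node (nat_lit 6221696) (BT.node (nat_lit 6221632) (BT.leaf (nat_lit 35396885)) (BT.leaf (nat_lit 24539417))) (BT.node (nat_lit 6221760) (BT.leaf (nat_lit 24539421)) (BT.leaf (nat_lit 34706705)))) (BT.node (nat_lit 6221952) (BT.node (nat_lit 6221888) (BT.leaf (nat_lit 35397909)) (BT.leaf (nat_lit 33348633))) (BT.node (nat_lit 6222016) (BT.leaf (nat_lit 22911501)) (BT.leaf (nat_lit 22632721))))) (BT.node (nat_lit 6222336) (BT.node (nat_lit 6222208) (BT.node (nat_lit 6222144) (BT.leaf (nat_lit 29125653)) (BT.leaf (nat_lit 34665229))) (BT.node (nat_lit 6222272) (BT.leaf (nat_lit 51551265)) (BT.leaf (nat_lit 34665225)))) (BT.node (nat_lit 6222464) (BT.node (nat_lit 6222400) (BT.leaf (nat_lit 30531845)) (BT.leaf (nat_lit 34665241))) (BT.node (nat_lit 6222528) (BT.leaf (nat_lit 34665245)) (BT.leaf (nat_lit 20826905))))))) (BT.node (nat_lit 6223616) (BT.node (nat_lit 6223104) (BT.node (nat_lit 6222848) (BT.node (nat_lit 6222720) (BT.node (nat_lit 6222656) (BT.leaf (nat_lit 20826893)) (BT.leaf (nat_lit 23384853))) (BT.node (nat_lit 6222784) (BT.leaf (nat_lit 21523737)) (BT.leaf (nat_lit 24108821)))) (BT.node (nat_lit 6222976) (BT.node (nat_lit 6222912) (BT.leaf (nat_lit 21997077)) (BT.leaf (nat_lit 24850209))) (BT.node (nat_lit 6223040) (BT.leaf (nat_lit 24850465)) (BT.leaf (nat_lit 25627929))))) (BT.node (nat_lit 6223360) (BT.node (nat_lit 6223232) (BT.node (nat_lit 6223168) (BT.leaf (nat_lit 22530333)) (BT.leaf (nat_lit 35401749))) (BT.node (nat_lit 6223296) (BT.leaf (nat_lit 20818449)) (BT.leaf (nat_lit 23244561)))) (BT.node (nat_lit 6223488) (BT.node (nat_lit 6223424) (BT.leaf (nat_lit 33029921)) (BT.leaf (nat_lit 23244305))) (BT.node (nat_lit 6223552) (BT.leaf (nat_lit 48752929)) (BT.leaf (nat_lit 48752925)))))) (BT.node (nat_lit 6224128) (BT.node (nat_lit 6223872) (BT.node (nat_lit 6223744) (BT.node (nat_lit 6223680) (BT.leaf (nat_lit 23374341)) (BT.leaf (nat_lit 31781921))) (BT.node (nat_lit 6223808) (BT.leaf (nat_lit 36131333)) (BT.leaf (nat_lit 52010273)))) (BT.node (nat_lit 6224000) (BT.node (nat_lit 6223936) (BT.leaf (nat_lit 49636613)) (BT.leaf (nat_lit 28020769))) (BT.node (nat_lit 6224064) (BT.leaf (nat_lit 34473221)) (BT.leaf (nat_lit 26827545))))) (BT.node (nat_lit 6224384) (BT.node (nat_lit 6224256) (BT.node (nat_lit 6224192) (BT.leaf (nat_lit 30001681)) (BT.leaf (nat_lit 29318165))) (BT.node (nat_lit 6224320) (BT.leaf (nat_lit 35405585)) (BT.leaf (nat_lit 35405841)))) (BT.node (nat_lit 6224512) (BT.node (nat_lit 6224448) (BT.leaf (nat_lit 35406105)) (BT.leaf (nat_lit 20673049))) (BT.node (nat_lit 6224576) (BT.leaf (nat_lit 20673053)) (BT.leaf (nat_lit 26694673))))))))) (BT.node (nat_lit 6232064) (BT.node (nat_lit 6228416) (BT.node (nat_lit 6226432) (BT.node (nat_lit 6225728) (BT.node (nat_lit 6225408) (BT.node (nat_lit 6225152) (BT.node (nat_lit 6225024) (BT.leaf (nat_lit 35409177)) (BT.leaf (nat_lit 35409941))) (BT.node (nat_lit 6225344) (BT.leaf (nat_lit 24925445)) (BT.leaf (nat_lit 51410453)))) (BT.node (nat_lit 6225536) (BT.node (nat_lit 6225472) (BT.leaf (nat_lit 51975189)) (BT.leaf (nat_lit 26897185))) (BT.node (nat_lit 6225600) (BT.leaf (nat_lit 51184393)) (BT.leaf (nat_lit 37132049))))) (BT.node (nat_lit 6226048) (BT.node (nat_lit 6225856) (BT.node (nat_lit 6225792) (BT.leaf (nat_lit 24903197)) (BT.leaf (nat_lit 22160145))) (BT.node (nat_lit 6225920) (BT.leaf (nat_lit 21783321)) (BT.leaf (nat_lit 35413013)))) (BT.node (nat_lit 6226304) (BT.node (nat_lit 6226112) (BT.leaf (nat_lit 35413789)) (BT.leaf (nat_lit 20678929))) (BT.node (nat_lit 6226368) (BT.leaf (nat_lit 35414817)) (BT.leaf (nat_lit 35415329)))))) (BT.node (nat_lit 6227584) (BT.node (nat_lit 6227264) (BT.node (nat_lit 6226752) (BT.node (nat_lit 6226496) (BT.leaf (nat_lit 35415325)) (BT.leaf (nat_lit 26062365))) (BT.node (nat_lit 6227136) (BT.leaf (nat_lit 35416589)) (BT.leaf (nat_lit 20681241)))) (BT.node (nat_lit 6227392) (BT.node (nat_lit 6227328) (BT.leaf (nat_lit 33048069)) (BT.leaf (nat_lit 20681497))) (BT.node (nat_lit 6227520) (BT.leaf (nat_lit 33048081)) (BT.leaf (nat_lit 25903125))))) (BT.node (nat_lit 6228096) (BT.node (nat_lit 6227776) (BT.node (nat_lit 6227712) (BT.leaf (nat_lit 25953797)) (BT.leaf (nat_lit 20683029))) (BT.node (nat_lit 6228032) (BT.leaf (nat_lit 35421973)) (BT.leaf (nat_lit 20684313)))) (BT.node (nat_lit 6228288) (BT.node (nat_lit 6228224) (BT.leaf (nat_lit 20684317)) (BT.leaf (nat_lit 35423505))) (BT.node (nat_lit 6228352) (BT.leaf (nat_lit 35423761)) (BT.leaf (nat_lit 35424281))))))) (BT.node (nat_lit 6230272) (BT.node (nat_lit 6229056) (BT.node (nat_lit 6228736) (BT.node (nat_lit 6228544) (BT.node (nat_lit 6228480) (BT.leaf (nat_lit 20685081)) (BT.leaf (nat_lit 20685085))) (BT.node (nat_lit 6228608) (BT.leaf (nat_lit 35425045)) (BT.leaf (nat_lit 25025805)))) (BT.node (nat_lit 6228864) (BT.node (nat_lit 6228800) (BT.leaf (nat_lit 35425809)) (BT.leaf (nat_lit 20685845))) (BT.node (nat_lit 6228992) (BT.leaf (nat_lit 35427349)) (BT.leaf (nat_lit 27149061))))) (BT.node (nat_lit 6230016) (BT.node (nat_lit 6229248) (BT.node (nat_lit 6229120) (BT.leaf (nat_lit 35428121)) (BT.leaf (nat_lit 35428369))) (BT.node (nat_lit 6229568) (BT.leaf (nat_lit 20687121)) (BT.leaf (nat_lit 35430941)))) (BT.node (nat_lit 6230144) (BT.node (nat_lit 6230080) (BT.leaf (nat_lit 35432209)) (BT.leaf (nat_lit 24920089))) (BT.node (nat_lit 6230208) (BT.leaf (nat_lit 20689941)) (BT.leaf (nat_lit 24921117)))))) (BT.node (nat_lit 6231232) (BT.node (nat_lit 6230720) (BT.node (nat_lit 6230592) (BT.node (nat_lit 6230336) (BT.leaf (nat_lit 29716753)) (BT.leaf (nat_lit 26743057))) (BT.node (nat_lit 6230656) (BT.leaf (nat_lit 22028561)) (BT.leaf (nat_lit 25082645)))) (BT.node (nat_lit 6230976) (BT.node (nat_lit 6230848) (BT.leaf (nat_lit 25205269)) (BT.leaf (nat_lit 25284129))) (BT.node (nat_lit 6231040) (BT.leaf (nat_lit 20694033)) (BT.leaf (nat_lit 21533457))))) (BT.node (nat_lit 6231552) (BT.node (nat_lit 6231360) (BT.node (nat_lit 6231296) (BT.leaf (nat_lit 21612573)) (BT.leaf (nat_lit 27148561))) (BT.node (nat_lit 6231424) (BT.leaf (nat_lit 24925209)) (BT.leaf (nat_lit 33426465)))) (BT.node (nat_lit 6231872) (BT.node (nat_lit 6231808) (BT.leaf (nat_lit 20698641)) (BT.leaf (nat_lit 35439893))) (BT.node (nat_lit 6232000) (BT.leaf (nat_lit 26233881)) (BT.leaf (nat_lit 24905237)))))))) (BT.node (nat_lit 6235392) (BT.node (nat_lit 6233856) (BT.node (nat_lit 6232960) (BT.node (nat_lit 6232704) (BT.node (nat_lit 6232448) (BT.node (nat_lit 6232192) (BT.leaf (nat_lit 20701193)) (BT.leaf (nat_lit 35441693))) (BT.node (nat_lit 6232576) (BT.leaf (nat_lit 35443233)) (BT.leaf (nat_lit 20701717)))) (BT.node (nat_lit 6232832) (BT.node (nat_lit 6232768) (BT.leaf (nat_lit 20702485)) (BT.leaf (nat_lit 24931357))) (BT.node (nat_lit 6232896) (BT.leaf (nat_lit 23063825)) (BT.leaf (nat_lit 20702737))))) (BT.node (nat_lit 6233408) (BT.node (nat_lit 6233280) (BT.node (nat_lit 6233216) (BT.leaf (nat_lit 20703253)) (BT.leaf (nat_lit 20703509))) (BT.node (nat_lit 6233344) (BT.leaf (nat_lit 20704017)) (BT.leaf (nat_lit 20704261)))) (BT.node (nat_lit 6233536) (BT.node (nat_lit 6233472) (BT.leaf (nat_lit 24933917)) (BT.leaf (nat_lit 27156753))) (BT.node (nat_lit 6233664) (BT.leaf (nat_lit 21025293)) (BT.leaf (nat_lit 21025305)))))) (BT.node (nat_lit 6234752) (BT.node (nat_lit 6234432) (BT.node (nat_lit 6234112) (BT.node (nat_lit 6234048) (BT.leaf (nat_lit 20706577)) (BT.leaf (nat_lit 20707089))) (BT.node (nat_lit 6234368) (BT.leaf (nat_lit 21539857)) (BT.leaf (nat_lit 35451925)))) (BT.node (nat_lit 6234624) (BT.node (nat_lit 6234496) (BT.leaf (nat_lit 21595657)) (BT.leaf (nat_lit 46662177))) (BT.node (nat_lit 6234688) (BT.leaf (nat_lit 20709661)) (BT.leaf (nat_lit 20709905))))) (BT.node (nat_lit 6235136) (BT.node (nat_lit 6235008) (BT.node (nat_lit 6234944) (BT.leaf (nat_lit 35454237)) (BT.leaf (nat_lit 35455249))) (BT.node (nat_lit 6235072) (BT.leaf (nat_lit 35455505)) (BT.leaf (nat_lit 35455501)))) (BT.node (nat_lit 6235264) (BT.node (nat_lit 6235200) (BT.leaf (nat_lit 34837781)) (BT.leaf (nat_lit 21166625))) (BT.node (nat_lit 6235328) (BT.leaf (nat_lit 25008157)) (BT.leaf (nat_lit 26721557))))))) (BT.node (nat_lit 6236736) (BT.node (nat_lit 6236160) (BT.node (nat_lit 6235776) (BT.node (nat_lit 6235584) (BT.node (nat_lit 6235456) (BT.leaf (nat_lit 24941853)) (BT.leaf (nat_lit 35456533))) (BT.node (nat_lit 6235648) (BT.leaf (nat_lit 25238037)) (BT.leaf (nat_lit 26681109)))) (BT.node (nat_lit 6235968) (BT.node (nat_lit 6235904) (BT.leaf (nat_lit 35457813)) (BT.leaf (nat_lit 35458321))) (BT.node (nat_lit 6236032) (BT.leaf (nat_lit 25390361)) (BT.leaf (nat_lit 20712209))))) (BT.node (nat_lit 6236416) (BT.node (nat_lit 6236288) (BT.node (nat_lit 6236224) (BT.leaf (nat_lit 20712469)) (BT.leaf (nat_lit 24945181))) (BT.node (nat_lit 6236352) (BT.leaf (nat_lit 27052305)) (BT.leaf (nat_lit 33109277)))) (BT.node (nat_lit 6236544) (BT.node (nat_lit 6236480) (BT.leaf (nat_lit 20712721)) (BT.leaf (nat_lit 21974301))) (BT.node (nat_lit 6236672) (BT.leaf (nat_lit 26521093)) (BT.leaf (nat_lit 22067217)))))) (BT.node (nat_lit 6237376) (BT.node (nat_lit 6236992) (BT.node (nat_lit 6236864) (BT.node (nat_lit 6236800) (BT.leaf (nat_lit 22597893)) (BT.leaf (nat_lit 35462673))) (BT.node (nat_lit 6236928) (BT.leaf (nat_lit 35462929)) (BT.leaf (nat_lit 35463193)))) (BT.node (nat_lit 6237184) (BT.node (nat_lit 6237056) (BT.leaf (nat_lit 20714009)) (BT.leaf (nat_lit 20714013))) (BT.node (nat_lit 6237248) (BT.leaf (nat_lit 20714513)) (BT.leaf (nat_lit 20714517))))) (BT.node (nat_lit 6237696) (BT.node (nat_lit 6237504) (BT.node (nat_lit 6237440) (BT.leaf (nat_lit 20715025)) (BT.leaf (nat_lit 20715029))) (BT.node (nat_lit 6237568) (BT.leaf (nat_lit 21541917)) (BT.leaf (nat_lit 20716049)))) (BT.node (nat_lit 6237888) (BT.node (nat_lit 6237760) (BT.leaf (nat_lit 33324293)) (BT.leaf (nat_lit 22659077))) (BT.node (nat_lit 6237952) (BT.leaf (nat_lit 22136097)) (BT.leaf (nat_lit 22150177)))))))))))) (BT.node (nat_lit 6297728) (BT.node (nat_lit 6269824) (BT.node (nat_lit 6254720) (BT.node (nat_lit 6245120) (BT.node (nat_lit 6241216) (BT.node (nat_lit 6239424) (BT.node (nat_lit 6238784) (BT.node (nat_lit 6238400) (BT.node (nat_lit 6238208) (BT.node (nat_lit 6238080) (BT.leaf (nat_lit 35466513)) (BT.leaf (nat_lit 51394589))) (BT.node (nat_lit 6238272) (BT.leaf (nat_lit 24901909)) (BT.leaf (nat_lit 37449749)))) (BT.node (nat_lit 6238528) (BT.node (nat_lit 6238464) (BT.leaf (nat_lit 37676297)) (BT.leaf (nat_lit 22205985))) (BT.node (nat_lit 6238592) (BT.leaf (nat_lit 37649169)) (BT.leaf (nat_lit 52292877))))) (BT.node (nat_lit 6239040) (BT.node (nat_lit 6238912) (BT.node (nat_lit 6238848) (BT.leaf (nat_lit 35469073)) (BT.leaf (nat_lit 24955161))) (BT.node (nat_lit 6238976) (BT.leaf (nat_lit 20721689)) (BT.leaf (nat_lit 24956189)))) (BT.node (nat_lit 6239232) (BT.node (nat_lit 6239104) (BT.leaf (nat_lit 22476565)) (BT.leaf (nat_lit 35469589))) (BT.node (nat_lit 6239360) (BT.leaf (nat_lit 35470353)) (BT.leaf (nat_lit 35470877)))))) (BT.node (nat_lit 6240320) (BT.node (nat_lit 6239936) (BT.node (nat_lit 6239680) (BT.node (nat_lit 6239616) (BT.leaf (nat_lit 35471641)) (BT.leaf (nat_lit 35472413))) (BT.node (nat_lit 6239744) (BT.leaf (nat_lit 20725265)) (BT.leaf (nat_lit 33213709)))) (BT.node (nat_lit 6240128) (BT.node (nat_lit 6240064) (BT.leaf (nat_lit 35473941)) (BT.leaf (nat_lit 24605445))) (BT.node (nat_lit 6240256) (BT.leaf (nat_lit 35474449)) (BT.leaf (nat_lit 35474973))))) (BT.node (nat_lit 6240576) (BT.node (nat_lit 6240448) (BT.node (nat_lit 6240384) (BT.leaf (nat_lit 26329605)) (BT.leaf (nat_lit 20727325))) (BT.node (nat_lit 6240512) (BT.leaf (nat_lit 21699845)) (BT.leaf (nat_lit 20727577)))) (BT.node (nat_lit 6240896) (BT.node (nat_lit 6240768) (BT.leaf (nat_lit 35475477)) (BT.leaf (nat_lit 35475737))) (BT.node (nat_lit 6240960) (BT.leaf (nat_lit 35476753)) (BT.leaf (nat_lit 35476749))))))) (BT.node (nat_lit 6243072) (BT.node (nat_lit 6242048) (BT.node (nat_lit 6241600) (BT.node (nat_lit 6241408) (BT.node (nat_lit 6241344) (BT.leaf (nat_lit 26173721)) (BT.leaf (nat_lit 26329113))) (BT.node (nat_lit 6241472) (BT.leaf (nat_lit 26333701)) (BT.leaf (nat_lit 20729617)))) (BT.node (nat_lit 6241856) (BT.node (nat_lit 6241664) (BT.leaf (nat_lit 26943005)) (BT.leaf (nat_lit 24961557))) (BT.node (nat_lit 6241920) (BT.leaf (nat_lit 25341721)) (BT.leaf (nat_lit 35479829))))) (BT.node (nat_lit 6242368) (BT.node (nat_lit 6242176) (BT.node (nat_lit 6242112) (BT.leaf (nat_lit 26122757)) (BT.leaf (nat_lit 33174293))) (BT.node (nat_lit 6242240) (BT.leaf (nat_lit 24976141)) (BT.leaf (nat_lit 24974105)))) (BT.node (nat_lit 6242496) (BT.node (nat_lit 6242432) (BT.leaf (nat_lit 24975381)) (BT.leaf (nat_lit 35481373))) (BT.node (nat_lit 6242752) (BT.leaf (nat_lit 21458721)) (BT.leaf (nat_lit 20733213)))))) (BT.node (nat_lit 6244032) (BT.node (nat_lit 6243712) (BT.node (nat_lit 6243392) (BT.node (nat_lit 6243264) (BT.leaf (nat_lit 27961869)) (BT.leaf (nat_lit 22233877))) (BT.node (nat_lit 6243520) (BT.leaf (nat_lit 26870549)) (BT.leaf (nat_lit 35483921)))) (BT.node (nat_lit 6243840) (BT.node (nat_lit 6243776) (BT.leaf (nat_lit 20735249)) (BT.leaf (nat_lit 21965089))) (BT.node (nat_lit 6243968) (BT.leaf (nat_lit 21458465)) (BT.leaf (nat_lit 26397213))))) (BT.node (nat_lit 6244608) (BT.node (nat_lit 6244160) (BT.node (nat_lit 6244096) (BT.leaf (nat_lit 26742037)) (BT.leaf (nat_lit 35485981))) (BT.node (nat_lit 6244224) (BT.leaf (nat_lit 20736533)) (BT.leaf (nat_lit 35486485)))) (BT.node (nat_lit 6244800) (BT.node (nat_lit 6244672) (BT.leaf (nat_lit 35486489)) (BT.leaf (nat_lit 35488789))) (BT.node (nat_lit 6244928) (BT.leaf (nat_lit 35489301)) (BT.leaf (nat_lit 35490065)))))))) (BT.node (nat_lit 6250688) (BT.node (nat_lit 6248960) (BT.node (nat_lit 6247232) (BT.node (nat_lit 6246272) (BT.node (nat_lit 6245760) (BT.node (nat_lit 6245312) (BT.leaf (nat_lit 21778449)) (BT.leaf (nat_lit 35491865))) (BT.node (nat_lit 6246080) (BT.leaf (nat_lit 25031457)) (BT.leaf (nat_lit 24137997)))) (BT.node (nat_lit 6246592) (BT.node (nat_lit 6246400) (BT.leaf (nat_lit 35496469)) (BT.leaf (nat_lit 20743953))) (BT.node (nat_lit 6246976) (BT.leaf (nat_lit 23558165)) (BT.leaf (nat_lit 21557509))))) (BT.node (nat_lit 6248512) (BT.node (nat_lit 6247808) (BT.node (nat_lit 6247424) (BT.leaf (nat_lit 20747281)) (BT.leaf (nat_lit 26354197))) (BT.node (nat_lit 6248192) (BT.leaf (nat_lit 25436701)) (BT.leaf (nat_lit 27880981)))) (BT.node (nat_lit 6248832) (BT.node (nat_lit 6248576) (BT.leaf (nat_lit 35503633)) (BT.leaf (nat_lit 24994073))) (BT.node (nat_lit 6248896) (BT.leaf (nat_lit 20750105)) (BT.leaf (nat_lit 20750357)))))) (BT.node (nat_lit 6249728) (BT.node (nat_lit 6249344) (BT.node (nat_lit 6249152) (BT.node (nat_lit 6249088) (BT.leaf (nat_lit 25932321)) (BT.leaf (nat_lit 21924897))) (BT.node (nat_lit 6249216) (BT.leaf (nat_lit 21925409)) (BT.leaf (nat_lit 21925153)))) (BT.node (nat_lit 6249600) (BT.node (nat_lit 6249536) (BT.leaf (nat_lit 24951073)) (BT.leaf (nat_lit 35506453))) (BT.node (nat_lit 6249664) (BT.leaf (nat_lit 22206497)) (BT.leaf (nat_lit 35507205))))) (BT.node (nat_lit 6250368) (BT.node (nat_lit 6249984) (BT.node (nat_lit 6249792) (BT.leaf (nat_lit 22207005)) (BT.leaf (nat_lit 51396125))) (BT.node (nat_lit 6250048) (BT.leaf (nat_lit 51799321)) (BT.leaf (nat_lit 20754449)))) (BT.node (nat_lit 6250496) (BT.node (nat_lit 6250432) (BT.leaf (nat_lit 27944993)) (BT.leaf (nat_lit 20755221))) (BT.node (nat_lit 6250560) (BT.leaf (nat_lit 35508753)) (BT.leaf (nat_lit 25002009))))))) (BT.node (nat_lit 6252608) (BT.node (nat_lit 6252096) (BT.node (nat_lit 6251072) (BT.node (nat_lit 6250880) (BT.node (nat_lit 6250816) (BT.leaf (nat_lit 26156057)) (BT.leaf (nat_lit 25003549))) (BT.node (nat_lit 6251008) (BT.leaf (nat_lit 26400277)) (BT.leaf (nat_lit 20756249)))) (BT.node (nat_lit 6251968) (BT.node (nat_lit 6251136) (BT.leaf (nat_lit 20756253)) (BT.leaf (nat_lit 47500557))) (BT.node (nat_lit 6252032) (BT.leaf (nat_lit 35512349)) (BT.leaf (nat_lit 21562641))))) (BT.node (nat_lit 6252352) (BT.node (nat_lit 6252224) (BT.node (nat_lit 6252160) (BT.leaf (nat_lit 21562385)) (BT.leaf (nat_lit 20759321))) (BT.node (nat_lit 6252288) (BT.leaf (nat_lit 20759325)) (BT.leaf (nat_lit 35513361)))) (BT.node (nat_lit 6252480) (BT.node (nat_lit 6252416) (BT.leaf (nat_lit 27196433)) (BT.leaf (nat_lit 27167773))) (BT.node (nat_lit 6252544) (BT.leaf (nat_lit 20759577)) (BT.leaf (nat_lit 20759581)))))) (BT.node (nat_lit 6253952) (BT.node (nat_lit 6253632) (BT.node (nat_lit 6253248) (BT.node (nat_lit 6252864) (BT.leaf (nat_lit 33251601)) (BT.leaf (nat_lit 22807057))) (BT.node (nat_lit 6253312) (BT.leaf (nat_lit 35517973)) (BT.leaf (nat_lit 35518753)))) (BT.node (nat_lit 6253824) (BT.node (nat_lit 6253696) (BT.leaf (nat_lit 51506961)) (BT.leaf (nat_lit 22178073))) (BT.node (nat_lit 6253888) (BT.leaf (nat_lit 35520273)) (BT.leaf (nat_lit 35520537))))) (BT.node (nat_lit 6254400) (BT.node (nat_lit 6254272) (BT.node (nat_lit 6254016) (BT.leaf (nat_lit 20763917)) (BT.leaf (nat_lit 35520265))) (BT.node (nat_lit 6254336) (BT.leaf (nat_lit 27148309)) (BT.leaf (nat_lit 35522833)))) (BT.node (nat_lit 6254528) (BT.node (nat_lit 6254464) (BT.leaf (nat_lit 26443273)) (BT.leaf (nat_lit 35523089))) (BT.node (nat_lit 6254656) (BT.leaf (nat_lit 23779349)) (BT.leaf (nat_lit 21052697))))))))) (BT.node (nat_lit 6262016) (BT.node (nat_lit 6258304) (BT.node (nat_lit 6256704) (BT.node (nat_lit 6255936) (BT.node (nat_lit 6255232) (BT.node (nat_lit 6255040) (BT.node (nat_lit 6254976) (BT.leaf (nat_lit 21052701)) (BT.leaf (nat_lit 35525393))) (BT.node (nat_lit 6255104) (BT.leaf (nat_lit 35526169)) (BT.leaf (nat_lit 20766229)))) (BT.node (nat_lit 6255680) (BT.node (nat_lit 6255296) (BT.leaf (nat_lit 20768785)) (BT.leaf (nat_lit 20769041))) (BT.node (nat_lit 6255744) (BT.leaf (nat_lit 20770333)) (BT.leaf (nat_lit 33963529))))) (BT.node (nat_lit 6256320) (BT.node (nat_lit 6256064) (BT.node (nat_lit 6256000) (BT.leaf (nat_lit 21567761)) (BT.leaf (nat_lit 20771353))) (BT.node (nat_lit 6256256) (BT.leaf (nat_lit 20771357)) (BT.leaf (nat_lit 25407493)))) (BT.node (nat_lit 6256576) (BT.node (nat_lit 6256448) (BT.leaf (nat_lit 35530777)) (BT.leaf (nat_lit 35531029))) (BT.node (nat_lit 6256640) (BT.leaf (nat_lit 26382861)) (BT.leaf (nat_lit 26703109)))))) (BT.node (nat_lit 6257280) (BT.node (nat_lit 6256960) (BT.node (nat_lit 6256832) (BT.node (nat_lit 6256768) (BT.leaf (nat_lit 33291781)) (BT.leaf (nat_lit 21919253))) (BT.node (nat_lit 6256896) (BT.leaf (nat_lit 24925189)) (BT.leaf (nat_lit 22087185)))) (BT.node (nat_lit 6257152) (BT.node (nat_lit 6257024) (BT.leaf (nat_lit 33085445)) (BT.leaf (nat_lit 26193169))) (BT.node (nat_lit 6257216) (BT.leaf (nat_lit 35533573)) (BT.leaf (nat_lit 21837585))))) (BT.node (nat_lit 6257856) (BT.node (nat_lit 6257472) (BT.node (nat_lit 6257408) (BT.leaf (nat_lit 35535125)) (BT.leaf (nat_lit 35535637))) (BT.node (nat_lit 6257664) (BT.leaf (nat_lit 33302021)) (BT.leaf (nat_lit 25362693)))) (BT.node (nat_lit 6258048) (BT.node (nat_lit 6257920) (BT.leaf (nat_lit 35537429)) (BT.leaf (nat_lit 25031449))) (BT.node (nat_lit 6258240) (BT.leaf (nat_lit 35538705)) (BT.leaf (nat_lit 46566433))))))) (BT.node (nat_lit 6260800) (BT.node (nat_lit 6259072) (BT.node (nat_lit 6258752) (BT.node (nat_lit 6258624) (BT.node (nat_lit 6258560) (BT.leaf (nat_lit 35539217)) (BT.leaf (nat_lit 27036441))) (BT.node (nat_lit 6258688) (BT.leaf (nat_lit 20778513)) (BT.leaf (nat_lit 20778517)))) (BT.node (nat_lit 6258880) (BT.node (nat_lit 6258816) (BT.leaf (nat_lit 35541529)) (BT.leaf (nat_lit 35541789))) (BT.node (nat_lit 6258944) (BT.leaf (nat_lit 29658889)) (BT.leaf (nat_lit 25694749))))) (BT.node (nat_lit 6259712) (BT.node (nat_lit 6259392) (BT.node (nat_lit 6259136) (BT.leaf (nat_lit 35542553)) (BT.leaf (nat_lit 26005009))) (BT.node (nat_lit 6259520) (BT.leaf (nat_lit 24994053)) (BT.leaf (nat_lit 35544349)))) (BT.node (nat_lit 6260416) (BT.node (nat_lit 6260288) (BT.leaf (nat_lit 26558741)) (BT.leaf (nat_lit 35546901))) (BT.node (nat_lit 6260480) (BT.leaf (nat_lit 26429213)) (BT.leaf (nat_lit 35547677)))))) (BT.node (nat_lit 6261312) (BT.node (nat_lit 6261056) (BT.node (nat_lit 6260928) (BT.node (nat_lit 6260864) (BT.leaf (nat_lit 35549205)) (BT.leaf (nat_lit 20784913))) (BT.node (nat_lit 6260992) (BT.leaf (nat_lit 35549189)) (BT.leaf (nat_lit 20785169)))) (BT.node (nat_lit 6261184) (BT.node (nat_lit 6261120) (BT.leaf (nat_lit 35547933)) (BT.leaf (nat_lit 20785433))) (BT.node (nat_lit 6261248) (BT.leaf (nat_lit 20785437)) (BT.leaf (nat_lit 22087953))))) (BT.node (nat_lit 6261568) (BT.node (nat_lit 6261440) (BT.node (nat_lit 6261376) (BT.leaf (nat_lit 26597657)) (BT.leaf (nat_lit 35551761))) (BT.node (nat_lit 6261504) (BT.leaf (nat_lit 35552017)) (BT.leaf (nat_lit 27070493)))) (BT.node (nat_lit 6261824) (BT.node (nat_lit 6261632) (BT.leaf (nat_lit 20785945)) (BT.leaf (nat_lit 20785949))) (BT.node (nat_lit 6261952) (BT.leaf (nat_lit 20786449)) (BT.leaf (nat_lit 26341153)))))))) (BT.node (nat_lit 6265344) (BT.node (nat_lit 6263296) (BT.node (nat_lit 6262720) (BT.node (nat_lit 6262272) (BT.node (nat_lit 6262144) (BT.node (nat_lit 6262080) (BT.leaf (nat_lit 22297361)) (BT.leaf (nat_lit 26188065))) (BT.node (nat_lit 6262208) (BT.leaf (nat_lit 33329157)) (BT.leaf (nat_lit 20787985)))) (BT.node (nat_lit 6262400) (BT.node (nat_lit 6262336) (BT.leaf (nat_lit 21990941)) (BT.leaf (nat_lit 22602249))) (BT.node (nat_lit 6262592) (BT.leaf (nat_lit 35555105)) (BT.leaf (nat_lit 35556101))))) (BT.node (nat_lit 6262976) (BT.node (nat_lit 6262848) (BT.node (nat_lit 6262784) (BT.leaf (nat_lit 21862677)) (BT.leaf (nat_lit 35556893))) (BT.node (nat_lit 6262912) (BT.leaf (nat_lit 24915469)) (BT.leaf (nat_lit 35557649)))) (BT.node (nat_lit 6263104) (BT.node (nat_lit 6263040) (BT.leaf (nat_lit 25051673)) (BT.leaf (nat_lit 33057045))) (BT.node (nat_lit 6263168) (BT.leaf (nat_lit 21892885)) (BT.leaf (nat_lit 33341461)))))) (BT.node (nat_lit 6264768) (BT.node (nat_lit 6263616) (BT.node (nat_lit 6263424) (BT.node (nat_lit 6263360) (BT.leaf (nat_lit 26132241)) (BT.leaf (nat_lit 26221317))) (BT.node (nat_lit 6263488) (BT.leaf (nat_lit 25088545)) (BT.leaf (nat_lit 21895445)))) (BT.node (nat_lit 6264576) (BT.node (nat_lit 6264128) (BT.leaf (nat_lit 23125269)) (BT.leaf (nat_lit 20792593))) (BT.node (nat_lit 6264704) (BT.leaf (nat_lit 24251413)) (BT.leaf (nat_lit 24775701))))) (BT.node (nat_lit 6265024) (BT.node (nat_lit 6264896) (BT.node (nat_lit 6264832) (BT.leaf (nat_lit 35561489)) (BT.leaf (nat_lit 25059613))) (BT.node (nat_lit 6264960) (BT.leaf (nat_lit 36640017)) (BT.leaf (nat_lit 51329805)))) (BT.node (nat_lit 6265152) (BT.node (nat_lit 6265088) (BT.leaf (nat_lit 22465541)) (BT.leaf (nat_lit 35563025))) (BT.node (nat_lit 6265280) (BT.leaf (nat_lit 21582357)) (BT.leaf (nat_lit 20795933))))))) (BT.node (nat_lit 6266752) (BT.node (nat_lit 6265920) (BT.node (nat_lit 6265600) (BT.node (nat_lit 6265472) (BT.node (nat_lit 6265408) (BT.leaf (nat_lit 21710865)) (BT.leaf (nat_lit 25589277))) (BT.node (nat_lit 6265536) (BT.leaf (nat_lit 20796693)) (BT.leaf (nat_lit 35564061)))) (BT.node (nat_lit 6265728) (BT.node (nat_lit 6265664) (BT.leaf (nat_lit 35441425)) (BT.leaf (nat_lit 27242005))) (BT.node (nat_lit 6265792) (BT.leaf (nat_lit 35564561)) (BT.leaf (nat_lit 21582869))))) (BT.node (nat_lit 6266240) (BT.node (nat_lit 6266048) (BT.node (nat_lit 6265984) (BT.leaf (nat_lit 26956301)) (BT.leaf (nat_lit 20797977))) (BT.node (nat_lit 6266176) (BT.leaf (nat_lit 20797981)) (BT.leaf (nat_lit 35565845)))) (BT.node (nat_lit 6266368) (BT.node (nat_lit 6266304) (BT.leaf (nat_lit 23768097)) (BT.leaf (nat_lit 22958369))) (BT.node (nat_lit 6266496) (BT.leaf (nat_lit 22650397)) (BT.leaf (nat_lit 35567389)))))) (BT.node (nat_lit 6268032) (BT.node (nat_lit 6267136) (BT.node (nat_lit 6267008) (BT.node (nat_lit 6266944) (BT.leaf (nat_lit 35569169)) (BT.leaf (nat_lit 35569941))) (BT.node (nat_lit 6267072) (BT.leaf (nat_lit 20803097)) (BT.leaf (nat_lit 20803101)))) (BT.node (nat_lit 6267776) (BT.node (nat_lit 6267584) (BT.leaf (nat_lit 35571473)) (BT.leaf (nat_lit 26356485))) (BT.node (nat_lit 6267968) (BT.leaf (nat_lit 35573793)) (BT.leaf (nat_lit 35574533))))) (BT.node (nat_lit 6268416) (BT.node (nat_lit 6268288) (BT.node (nat_lit 6268160) (BT.leaf (nat_lit 25608477)) (BT.leaf (nat_lit 25068573))) (BT.node (nat_lit 6268352) (BT.leaf (nat_lit 20805905)) (BT.leaf (nat_lit 35575569)))) (BT.node (nat_lit 6269184) (BT.node (nat_lit 6268992) (BT.leaf (nat_lit 35575833)) (BT.leaf (nat_lit 25357089))) (BT.node (nat_lit 6269568) (BT.leaf (nat_lit 20807965)) (BT.leaf (nat_lit 27071761)))))))))) (BT.node (nat_lit 6283776) (BT.node (nat_lit 6276864) (BT.node (nat_lit 6272576) (BT.node (nat_lit 6271488) (BT.node (nat_lit 6270784) (BT.node (nat_lit 6270464) (BT.node (nat_lit 6270336) (BT.node (nat_lit 6270208) (BT.leaf (nat_lit 33384197)) (BT.leaf (nat_lit 25724949))) (BT.node (nat_lit 6270400) (BT.leaf (nat_lit 25724933)) (BT.leaf (nat_lit 24923413)))) (BT.node (nat_lit 6270656) (BT.node (nat_lit 6270592) (BT.leaf (nat_lit 23092509)) (BT.leaf (nat_lit 25111053))) (BT.node (nat_lit 6270720) (BT.leaf (nat_lit 21318937)) (BT.leaf (nat_lit 20908817))))) (BT.node (nat_lit 6271232) (BT.node (nat_lit 6271040) (BT.node (nat_lit 6270976) (BT.leaf (nat_lit 20812305)) (BT.leaf (nat_lit 21631769))) (BT.node (nat_lit 6271104) (BT.leaf (nat_lit 24922889)) (BT.leaf (nat_lit 25537561)))) (BT.node (nat_lit 6271360) (BT.node (nat_lit 6271296) (BT.leaf (nat_lit 25420577)) (BT.leaf (nat_lit 35590685))) (BT.node (nat_lit 6271424) (BT.leaf (nat_lit 20814101)) (BT.leaf (nat_lit 30055697)))))) (BT.node (nat_lit 6272064) (BT.node (nat_lit 6271744) (BT.node (nat_lit 6271616) (BT.node (nat_lit 6271552) (BT.leaf (nat_lit 20814613)) (BT.leaf (nat_lit 35591697))) (BT.node (nat_lit 6271680) (BT.leaf (nat_lit 25086233)) (BT.leaf (nat_lit 20815113)))) (BT.node (nat_lit 6271936) (BT.node (nat_lit 6271808) (BT.leaf (nat_lit 20815117)) (BT.leaf (nat_lit 35592473))) (BT.node (nat_lit 6272000) (BT.leaf (nat_lit 22126609)) (BT.leaf (nat_lit 22126353))))) (BT.node (nat_lit 6272320) (BT.node (nat_lit 6272192) (BT.node (nat_lit 6272128) (BT.leaf (nat_lit 20908821)) (BT.leaf (nat_lit 35593493))) (BT.node (nat_lit 6272256) (BT.leaf (nat_lit 20904453)) (BT.leaf (nat_lit 22014225)))) (BT.node (nat_lit 6272448) (BT.node (nat_lit 6272384) (BT.leaf (nat_lit 25776405)) (BT.leaf (nat_lit 22988565))) (BT.node (nat_lit 6272512) (BT.leaf (nat_lit 33398037)) (BT.leaf (nat_lit 25117721))))))) (BT.node (nat_lit 6275008) (BT.node (nat_lit 6273280) (BT.node (nat_lit 6272960) (BT.node (nat_lit 6272832) (BT.node (nat_lit 6272640) (BT.leaf (nat_lit 25090589)) (BT.leaf (nat_lit 35594769))) (BT.node (nat_lit 6272896) (BT.leaf (nat_lit 23453969)) (BT.leaf (nat_lit 20818961)))) (BT.node (nat_lit 6273088) (BT.node (nat_lit 6273024) (BT.leaf (nat_lit 21611545)) (BT.leaf (nat_lit 35596053))) (BT.node (nat_lit 6273216) (BT.leaf (nat_lit 20819985)) (BT.leaf (nat_lit 35597077))))) (BT.node (nat_lit 6274240) (BT.node (nat_lit 6274112) (BT.node (nat_lit 6274048) (BT.leaf (nat_lit 26534405)) (BT.leaf (nat_lit 35599389))) (BT.node (nat_lit 6274176) (BT.leaf (nat_lit 20822293)) (BT.leaf (nat_lit 25096989)))) (BT.node (nat_lit 6274752) (BT.node (nat_lit 6274560) (BT.leaf (nat_lit 23719189)) (BT.leaf (nat_lit 25269257))) (BT.node (nat_lit 6274816) (BT.leaf (nat_lit 20824097)) (BT.leaf (nat_lit 35603229)))))) (BT.node (nat_lit 6276224) (BT.node (nat_lit 6275840) (BT.node (nat_lit 6275200) (BT.node (nat_lit 6275072) (BT.leaf (nat_lit 20825625)) (BT.leaf (nat_lit 20825629))) (BT.node (nat_lit 6275392) (BT.leaf (nat_lit 20825877)) (BT.leaf (nat_lit 27129365)))) (BT.node (nat_lit 6275968) (BT.node (nat_lit 6275904) (BT.leaf (nat_lit 21327393)) (BT.leaf (nat_lit 20970785))) (BT.node (nat_lit 6276032) (BT.leaf (nat_lit 21327905)) (BT.leaf (nat_lit 21459717))))) (BT.node (nat_lit 6276544) (BT.node (nat_lit 6276416) (BT.node (nat_lit 6276288) (BT.leaf (nat_lit 26109977)) (BT.leaf (nat_lit 35608593))) (BT.node (nat_lit 6276480) (BT.leaf (nat_lit 25770269)) (BT.leaf (nat_lit 26717457)))) (BT.node (nat_lit 6276736) (BT.node (nat_lit 6276672) (BT.leaf (nat_lit 35609621)) (BT.leaf (nat_lit 33448981))) (BT.node (nat_lit 6276800) (BT.leaf (nat_lit 22186017)) (BT.leaf (nat_lit 35610653)))))))) (BT.node (nat_lit 6280000) (BT.node (nat_lit 6278784) (BT.node (nat_lit 6277696) (BT.node (nat_lit 6277376) (BT.node (nat_lit 6277184) (BT.node (nat_lit 6276992) (BT.leaf (nat_lit 35611421)) (BT.leaf (nat_lit 35612445))) (BT.node (nat_lit 6277312) (BT.leaf (nat_lit 20834585)) (BT.leaf (nat_lit 20834837)))) (BT.node (nat_lit 6277568) (BT.node (nat_lit 6277440) (BT.leaf (nat_lit 20834841)) (BT.leaf (nat_lit 20834845))) (BT.node (nat_lit 6277632) (BT.leaf (nat_lit 20835345)) (BT.leaf (nat_lit 35613961))))) (BT.node (nat_lit 6278272) (BT.node (nat_lit 6277824) (BT.node (nat_lit 6277760) (BT.leaf (nat_lit 33591061)) (BT.leaf (nat_lit 25538313))) (BT.node (nat_lit 6278144) (BT.leaf (nat_lit 35475733)) (BT.leaf (nat_lit 48402721)))) (BT.node (nat_lit 6278528) (BT.node (nat_lit 6278336) (BT.leaf (nat_lit 35475485)) (BT.leaf (nat_lit 21048609))) (BT.node (nat_lit 6278656) (BT.leaf (nat_lit 36847877)) (BT.leaf (nat_lit 25512221)))))) (BT.node (nat_lit 6279424) (BT.node (nat_lit 6279104) (BT.node (nat_lit 6278912) (BT.node (nat_lit 6278848) (BT.leaf (nat_lit 33295893)) (BT.leaf (nat_lit 20838673))) (BT.node (nat_lit 6278976) (BT.leaf (nat_lit 21020189)) (BT.leaf (nat_lit 35620373)))) (BT.node (nat_lit 6279232) (BT.node (nat_lit 6279168) (BT.leaf (nat_lit 22499093)) (BT.leaf (nat_lit 35621657))) (BT.node (nat_lit 6279360) (BT.leaf (nat_lit 35621137)) (BT.leaf (nat_lit 35622169))))) (BT.node (nat_lit 6279744) (BT.node (nat_lit 6279616) (BT.node (nat_lit 6279552) (BT.leaf (nat_lit 35622417)) (BT.leaf (nat_lit 20840989))) (BT.node (nat_lit 6279680) (BT.leaf (nat_lit 35622673)) (BT.leaf (nat_lit 20841477)))) (BT.node (nat_lit 6279872) (BT.node (nat_lit 6279808) (BT.leaf (nat_lit 21599505)) (BT.leaf (nat_lit 21599249))) (BT.node (nat_lit 6279936) (BT.leaf (nat_lit 20841497)) (BT.leaf (nat_lit 24577029))))))) (BT.node (nat_lit 6281984) (BT.node (nat_lit 6281024) (BT.node (nat_lit 6280576) (BT.node (nat_lit 6280320) (BT.node (nat_lit 6280128) (BT.leaf (nat_lit 50514449)) (BT.leaf (nat_lit 22276625))) (BT.node (nat_lit 6280384) (BT.leaf (nat_lit 22136853)) (BT.leaf (nat_lit 25121305)))) (BT.node (nat_lit 6280896) (BT.node (nat_lit 6280832) (BT.leaf (nat_lit 34866457)) (BT.leaf (nat_lit 21702661))) (BT.node (nat_lit 6280960) (BT.leaf (nat_lit 46580229)) (BT.leaf (nat_lit 27088669))))) (BT.node (nat_lit 6281472) (BT.node (nat_lit 6281344) (BT.node (nat_lit 6281088) (BT.leaf (nat_lit 25696533)) (BT.leaf (nat_lit 33757725))) (BT.node (nat_lit 6281408) (BT.leaf (nat_lit 21831449)) (BT.leaf (nat_lit 26528029)))) (BT.node (nat_lit 6281664) (BT.node (nat_lit 6281536) (BT.leaf (nat_lit 33463837)) (BT.leaf (nat_lit 35629857))) (BT.node (nat_lit 6281856) (BT.leaf (nat_lit 20845841)) (BT.leaf (nat_lit 26173725)))))) (BT.node (nat_lit 6283008) (BT.node (nat_lit 6282368) (BT.node (nat_lit 6282176) (BT.node (nat_lit 6282048) (BT.leaf (nat_lit 20846353)) (BT.leaf (nat_lit 35631121))) (BT.node (nat_lit 6282304) (BT.leaf (nat_lit 27023385)) (BT.leaf (nat_lit 35632405)))) (BT.node (nat_lit 6282752) (BT.node (nat_lit 6282624) (BT.leaf (nat_lit 26669577)) (BT.leaf (nat_lit 20846877))) (BT.node (nat_lit 6282816) (BT.leaf (nat_lit 35637013)) (BT.leaf (nat_lit 35637525))))) (BT.node (nat_lit 6283520) (BT.node (nat_lit 6283392) (BT.node (nat_lit 6283264) (BT.leaf (nat_lit 27604241)) (BT.leaf (nat_lit 35633945))) (BT.node (nat_lit 6283456) (BT.leaf (nat_lit 20847889)) (BT.leaf (nat_lit 27215641)))) (BT.node (nat_lit 6283648) (BT.node (nat_lit 6283584) (BT.leaf (nat_lit 39452945)) (BT.leaf (nat_lit 28419873))) (BT.node (nat_lit 6283712) (BT.leaf (nat_lit 35641617)) (BT.leaf (nat_lit 21604885))))))))) (BT.node (nat_lit 6291200) (BT.node (nat_lit 6286912) (BT.node (nat_lit 6285376) (BT.node (nat_lit 6284672) (BT.node (nat_lit 6284032) (BT.node (nat_lit 6283904) (BT.node (nat_lit 6283840) (BT.leaf (nat_lit 20848413)) (BT.leaf (nat_lit 26137617))) (BT.node (nat_lit 6283968) (BT.leaf (nat_lit 20848657)) (BT.leaf (nat_lit 21605141)))) (BT.node (nat_lit 6284480) (BT.node (nat_lit 6284096) (BT.leaf (nat_lit 20848925)) (BT.leaf (nat_lit 26469137))) (BT.node (nat_lit 6284608) (BT.leaf (nat_lit 25226269)) (BT.leaf (nat_lit 21936673))))) (BT.node (nat_lit 6284992) (BT.node (nat_lit 6284800) (BT.node (nat_lit 6284736) (BT.leaf (nat_lit 26133517)) (BT.leaf (nat_lit 35645209))) (BT.node (nat_lit 6284928) (BT.leaf (nat_lit 35644689)) (BT.leaf (nat_lit 34434325)))) (BT.node (nat_lit 6285184) (BT.node (nat_lit 6285120) (BT.leaf (nat_lit 35646237)) (BT.leaf (nat_lit 34097425))) (BT.node (nat_lit 6285312) (BT.leaf (nat_lit 35647517)) (BT.leaf (nat_lit 25141533)))))) (BT.node (nat_lit 6286272) (BT.node (nat_lit 6285824) (BT.node (nat_lit 6285632) (BT.node (nat_lit 6285568) (BT.leaf (nat_lit 21776145)) (BT.leaf (nat_lit 35648269))) (BT.node (nat_lit 6285760) (BT.leaf (nat_lit 35648785)) (BT.leaf (nat_lit 33788185)))) (BT.node (nat_lit 6286144) (BT.node (nat_lit 6285888) (BT.leaf (nat_lit 25092381)) (BT.leaf (nat_lit 25231645))) (BT.node (nat_lit 6286208) (BT.leaf (nat_lit 21165329)) (BT.leaf (nat_lit 51424777))))) (BT.node (nat_lit 6286592) (BT.node (nat_lit 6286400) (BT.node (nat_lit 6286336) (BT.leaf (nat_lit 25572125)) (BT.leaf (nat_lit 22645269))) (BT.node (nat_lit 6286528) (BT.leaf (nat_lit 47564833)) (BT.leaf (nat_lit 20857873)))) (BT.node (nat_lit 6286720) (BT.node (nat_lit 6286656) (BT.leaf (nat_lit 33243169)) (BT.leaf (nat_lit 20858385))) (BT.node (nat_lit 6286784) (BT.leaf (nat_lit 24566789)) (BT.leaf (nat_lit 20930573))))))) (BT.node (nat_lit 6289088) (BT.node (nat_lit 6287872) (BT.node (nat_lit 6287168) (BT.node (nat_lit 6287040) (BT.node (nat_lit 6286976) (BT.leaf (nat_lit 20859157)) (BT.leaf (nat_lit 25168153))) (BT.node (nat_lit 6287104) (BT.leaf (nat_lit 26211857)) (BT.leaf (nat_lit 25248521)))) (BT.node (nat_lit 6287744) (BT.node (nat_lit 6287616) (BT.leaf (nat_lit 35653133)) (BT.leaf (nat_lit 20862217))) (BT.node (nat_lit 6287808) (BT.leaf (nat_lit 20862221)) (BT.leaf (nat_lit 20861713))))) (BT.node (nat_lit 6288512) (BT.node (nat_lit 6288320) (BT.node (nat_lit 6288192) (BT.leaf (nat_lit 21609245)) (BT.leaf (nat_lit 35657237))) (BT.node (nat_lit 6288384) (BT.leaf (nat_lit 35657753)) (BT.leaf (nat_lit 35658261)))) (BT.node (nat_lit 6288640) (BT.node (nat_lit 6288576) (BT.leaf (nat_lit 35658525)) (BT.leaf (nat_lit 20864281))) (BT.node (nat_lit 6288960) (BT.leaf (nat_lit 20864285)) (BT.leaf (nat_lit 26694161)))))) (BT.node (nat_lit 6290240) (BT.node (nat_lit 6289664) (BT.node (nat_lit 6289280) (BT.node (nat_lit 6289152) (BT.leaf (nat_lit 33183765)) (BT.leaf (nat_lit 25018637))) (BT.node (nat_lit 6289408) (BT.leaf (nat_lit 51333153)) (BT.leaf (nat_lit 25420293)))) (BT.node (nat_lit 6290048) (BT.node (nat_lit 6289920) (BT.leaf (nat_lit 26313749)) (BT.leaf (nat_lit 35661841))) (BT.node (nat_lit 6290176) (BT.leaf (nat_lit 20868889)) (BT.leaf (nat_lit 22779409))))) (BT.node (nat_lit 6290880) (BT.node (nat_lit 6290368) (BT.node (nat_lit 6290304) (BT.leaf (nat_lit 20869653)) (BT.leaf (nat_lit 20869657))) (BT.node (nat_lit 6290816) (BT.leaf (nat_lit 20869661)) (BT.leaf (nat_lit 20872213)))) (BT.node (nat_lit 6291008) (BT.node (nat_lit 6290944) (BT.leaf (nat_lit 35664913)) (BT.leaf (nat_lit 35665689))) (BT.node (nat_lit 6291136) (BT.leaf (nat_lit 35665169)) (BT.leaf (nat_lit 35666181)))))))) (BT.node (nat_lit 6294080) (BT.node (nat_lit 6292480) (BT.node (nat_lit 6291776) (BT.node (nat_lit 6291520) (BT.node (nat_lit 6291392) (BT.node (nat_lit 6291264) (BT.leaf (nat_lit 35667233)) (BT.leaf (nat_lit 35667477))) (BT.node (nat_lit 6291456) (BT.leaf (nat_lit 20874013)) (BT.leaf (nat_lit 23392021)))) (BT.node (nat_lit 6291648) (BT.node (nat_lit 6291584) (BT.leaf (nat_lit 21613841)) (BT.leaf (nat_lit 33357061))) (BT.node (nat_lit 6291712) (BT.leaf (nat_lit 20874269)) (BT.leaf (nat_lit 35669009))))) (BT.node (nat_lit 6292032) (BT.node (nat_lit 6291904) (BT.node (nat_lit 6291840) (BT.leaf (nat_lit 36847373)) (BT.leaf (nat_lit 21081349))) (BT.node (nat_lit 6291968) (BT.leaf (nat_lit 25523745)) (BT.leaf (nat_lit 35669525)))) (BT.node (nat_lit 6292224) (BT.node (nat_lit 6292160) (BT.leaf (nat_lit 49982993)) (BT.leaf (nat_lit 22358789))) (BT.node (nat_lit 6292416) (BT.leaf (nat_lit 21615377)) (BT.leaf (nat_lit 35670289)))))) (BT.node (nat_lit 6293440) (BT.node (nat_lit 6292928) (BT.node (nat_lit 6292608) (BT.node (nat_lit 6292544) (BT.leaf (nat_lit 25169689)) (BT.leaf (nat_lit 35670789))) (BT.node (nat_lit 6292672) (BT.leaf (nat_lit 20876565)) (BT.leaf (nat_lit 35670801)))) (BT.node (nat_lit 6293184) (BT.node (nat_lit 6293120) (BT.leaf (nat_lit 46695693)) (BT.leaf (nat_lit 25172765))) (BT.node (nat_lit 6293376) (BT.leaf (nat_lit 35673873)) (BT.leaf (nat_lit 21992709))))) (BT.node (nat_lit 6293760) (BT.node (nat_lit 6293632) (BT.node (nat_lit 6293504) (BT.leaf (nat_lit 25173529)) (BT.leaf (nat_lit 20880913))) (BT.node (nat_lit 6293696) (BT.leaf (nat_lit 51730717)) (BT.leaf (nat_lit 50576645)))) (BT.node (nat_lit 6293888) (BT.node (nat_lit 6293824) (BT.leaf (nat_lit 20882193)) (BT.leaf (nat_lit 21621265))) (BT.node (nat_lit 6293952) (BT.leaf (nat_lit 20882973)) (BT.leaf (nat_lit 26903065))))))) (BT.node (nat_lit 6295616) (BT.node (nat_lit 6294592) (BT.node (nat_lit 6294336) (BT.node (nat_lit 6294208) (BT.node (nat_lit 6294144) (BT.leaf (nat_lit 21618705)) (BT.leaf (nat_lit 21617937))) (BT.node (nat_lit 6294272) (BT.leaf (nat_lit 20884505)) (BT.leaf (nat_lit 20884509)))) (BT.node (nat_lit 6294464) (BT.node (nat_lit 6294400) (BT.leaf (nat_lit 22028817)) (BT.leaf (nat_lit 20885785))) (BT.node (nat_lit 6294528) (BT.leaf (nat_lit 20885789)) (BT.leaf (nat_lit 20886033))))) (BT.node (nat_lit 6294912) (BT.node (nat_lit 6294784) (BT.node (nat_lit 6294720) (BT.leaf (nat_lit 20886289)) (BT.leaf (nat_lit 22027793))) (BT.node (nat_lit 6294848) (BT.leaf (nat_lit 27236617)) (BT.leaf (nat_lit 34887689)))) (BT.node (nat_lit 6295232) (BT.node (nat_lit 6294976) (BT.leaf (nat_lit 33822989)) (BT.leaf (nat_lit 47119885))) (BT.node (nat_lit 6295424) (BT.leaf (nat_lit 25621509)) (BT.leaf (nat_lit 20912649)))))) (BT.node (nat_lit 6296384) (BT.node (nat_lit 6295936) (BT.node (nat_lit 6295808) (BT.node (nat_lit 6295744) (BT.leaf (nat_lit 25196813)) (BT.leaf (nat_lit 20889881))) (BT.node (nat_lit 6295872) (BT.leaf (nat_lit 20889885)) (BT.leaf (nat_lit 25395221)))) (BT.node (nat_lit 6296192) (BT.node (nat_lit 6296064) (BT.leaf (nat_lit 25760017)) (BT.leaf (nat_lit 20891165))) (BT.node (nat_lit 6296320) (BT.leaf (nat_lit 25531673)) (BT.leaf (nat_lit 25454873))))) (BT.node (nat_lit 6296896) (BT.node (nat_lit 6296576) (BT.node (nat_lit 6296512) (BT.leaf (nat_lit 35684125)) (BT.leaf (nat_lit 26408477))) (BT.node (nat_lit 6296704) (BT.leaf (nat_lit 52316949)) (BT.leaf (nat_lit 21730321)))) (BT.node (nat_lit 6297216) (BT.node (nat_lit 6297088) (BT.leaf (nat_lit 22956561)) (BT.leaf (nat_lit 35599645))) (BT.node (nat_lit 6297344) (BT.leaf (nat_lit 35685909)) (BT.leaf (nat_lit 35613217))))))))))) (BT.node (nat_lit 6326336) (BT.node (nat_lit 6311680) (BT.node (nat_lit 6304064) (BT.node (nat_lit 6300736) (BT.node (nat_lit 6299328) (BT.node (nat_lit 6298822) (BT.node (nat_lit 6298304) (BT.node (nat_lit 6298112) (BT.node (nat_lit 6298048) (BT.leaf (nat_lit 20895261)) (BT.leaf (nat_lit 34314769))) (BT.node (nat_lit 6298176) (BT.leaf (nat_lit 25168157)) (BT.leaf (nat_lit 20896521)))) (BT.node (nat_lit 6298560) (BT.node (nat_lit 6298496) (BT.leaf (nat_lit 20896793)) (BT.leaf (nat_lit 25919521))) (BT.node (nat_lit 6298817) (BT.leaf (nat_lit 20897305)) (BT.leaf (nat_lit 397836))))) (BT.node (nat_lit 6299072) (BT.node (nat_lit 6298880) (BT.node (nat_lit 6298823) (BT.leaf (nat_lit 397836)) (BT.leaf (nat_lit 397836))) (BT.node (nat_lit 6298944) (BT.leaf (nat_lit 20898069)) (BT.leaf (nat_lit 21061661)))) (BT.node (nat_lit 6299200) (BT.node (nat_lit 6299136) (BT.leaf (nat_lit 21274133)) (BT.leaf (nat_lit 24535561))) (BT.node (nat_lit 6299264) (BT.leaf (nat_lit 21411349)) (BT.leaf (nat_lit 25891609)))))) (BT.node (nat_lit 6300160) (BT.node (nat_lit 6299904) (BT.node (nat_lit 6299712) (BT.node (nat_lit 6299584) (BT.leaf (nat_lit 20899865)) (BT.leaf (nat_lit 33117717))) (BT.node (nat_lit 6299840) (BT.leaf (nat_lit 25772053)) (BT.leaf (nat_lit 33810701)))) (BT.node (nat_lit 6300032) (BT.node (nat_lit 6299968) (BT.leaf (nat_lit 33663253)) (BT.leaf (nat_lit 22152989))) (BT.node (nat_lit 6300096) (BT.leaf (nat_lit 26875409)) (BT.leaf (nat_lit 25772829))))) (BT.node (nat_lit 6300480) (BT.node (nat_lit 6300288) (BT.node (nat_lit 6300224) (BT.leaf (nat_lit 26747921)) (BT.leaf (nat_lit 22152969))) (BT.node (nat_lit 6300416) (BT.leaf (nat_lit 25200921)) (BT.leaf (nat_lit 33919257)))) (BT.node (nat_lit 6300608) (BT.node (nat_lit 6300544) (BT.leaf (nat_lit 33226245)) (BT.leaf (nat_lit 22599713))) (BT.node (nat_lit 6300672) (BT.leaf (nat_lit 50018577)) (BT.leaf (nat_lit 20903449))))))) (BT.node (nat_lit 6302208) (BT.node (nat_lit 6301440) (BT.node (nat_lit 6301184) (BT.node (nat_lit 6300864) (BT.node (nat_lit 6300800) (BT.leaf (nat_lit 20903453)) (BT.leaf (nat_lit 22969377))) (BT.node (nat_lit 6301056) (BT.leaf (nat_lit 22969605)) (BT.leaf (nat_lit 23552801)))) (BT.node (nat_lit 6301312) (BT.node (nat_lit 6301248) (BT.leaf (nat_lit 21874713)) (BT.leaf (nat_lit 20904465))) (BT.node (nat_lit 6301376) (BT.leaf (nat_lit 21874973)) (BT.leaf (nat_lit 20904721))))) (BT.node (nat_lit 6301888) (BT.node (nat_lit 6301568) (BT.node (nat_lit 6301504) (BT.leaf (nat_lit 21867797)) (BT.leaf (nat_lit 22014241))) (BT.node (nat_lit 6301824) (BT.leaf (nat_lit 35699985)) (BT.leaf (nat_lit 21446433)))) (BT.node (nat_lit 6302016) (BT.node (nat_lit 6301952) (BT.leaf (nat_lit 35701269)) (BT.leaf (nat_lit 20905757))) (BT.node (nat_lit 6302144) (BT.leaf (nat_lit 21757965)) (BT.leaf (nat_lit 35701781)))))) (BT.node (nat_lit 6303040) (BT.node (nat_lit 6302592) (BT.node (nat_lit 6302400) (BT.node (nat_lit 6302272) (BT.leaf (nat_lit 20906513)) (BT.leaf (nat_lit 33707033))) (BT.node (nat_lit 6302528) (BT.leaf (nat_lit 20906769)) (BT.leaf (nat_lit 50026245)))) (BT.node (nat_lit 6302784) (BT.node (nat_lit 6302656) (BT.leaf (nat_lit 25202693)) (BT.leaf (nat_lit 51553289))) (BT.node (nat_lit 6302976) (BT.leaf (nat_lit 23931917)) (BT.leaf (nat_lit 20908569))))) (BT.node (nat_lit 6303488) (BT.node (nat_lit 6303232) (BT.node (nat_lit 6303104) (BT.leaf (nat_lit 20908573)) (BT.leaf (nat_lit 26275349))) (BT.node (nat_lit 6303296) (BT.leaf (nat_lit 27331873)) (BT.leaf (nat_lit 25858329)))) (BT.node (nat_lit 6303744) (BT.node (nat_lit 6303680) (BT.leaf (nat_lit 20909849)) (BT.leaf (nat_lit 25215005))) (BT.node (nat_lit 6303936) (BT.leaf (nat_lit 35708181)) (BT.leaf (nat_lit 28121377)))))))) (BT.node (nat_lit 6308288) (BT.node (nat_lit 6306112) (BT.node (nat_lit 6304963) (BT.node (nat_lit 6304512) (BT.node (nat_lit 6304384) (BT.node (nat_lit 6304192) (BT.leaf (nat_lit 20911121)) (BT.leaf (nat_lit 21696285))) (BT.node (nat_lit 6304448) (BT.leaf (nat_lit 24275745)) (BT.leaf (nat_lit 34349061)))) (BT.node (nat_lit 6304704) (BT.node (nat_lit 6304640) (BT.leaf (nat_lit 24252425)) (BT.leaf (nat_lit 35681049))) (BT.node (nat_lit 6304768) (BT.leaf (nat_lit 20912657)) (BT.leaf (nat_lit 51577377))))) (BT.node (nat_lit 6305216) (BT.node (nat_lit 6305088) (BT.node (nat_lit 6304967) (BT.leaf (nat_lit 529188)) (BT.leaf (nat_lit 529188))) (BT.node (nat_lit 6305152) (BT.leaf (nat_lit 20913181)) (BT.leaf (nat_lit 26582293)))) (BT.node (nat_lit 6305728) (BT.node (nat_lit 6305664) (BT.leaf (nat_lit 20913441)) (BT.leaf (nat_lit 20914457))) (BT.node (nat_lit 6305856) (BT.leaf (nat_lit 35715849)) (BT.leaf (nat_lit 25200153)))))) (BT.node (nat_lit 6307008) (BT.node (nat_lit 6306560) (BT.node (nat_lit 6306240) (BT.node (nat_lit 6306176) (BT.leaf (nat_lit 35693085)) (BT.leaf (nat_lit 20915993))) (BT.node (nat_lit 6306368) (BT.leaf (nat_lit 20915997)) (BT.leaf (nat_lit 20916753)))) (BT.node (nat_lit 6306752) (BT.node (nat_lit 6306624) (BT.leaf (nat_lit 20917521)) (BT.leaf (nat_lit 22980633))) (BT.node (nat_lit 6306944) (BT.leaf (nat_lit 33674781)) (BT.leaf (nat_lit 21868053))))) (BT.node (nat_lit 6307904) (BT.node (nat_lit 6307520) (BT.node (nat_lit 6307072) (BT.leaf (nat_lit 25228317)) (BT.leaf (nat_lit 26596885))) (BT.node (nat_lit 6307648) (BT.leaf (nat_lit 21044765)) (BT.leaf (nat_lit 20919833)))) (BT.node (nat_lit 6308096) (BT.node (nat_lit 6308032) (BT.leaf (nat_lit 20920337)) (BT.leaf (nat_lit 20920581))) (BT.node (nat_lit 6308224) (BT.leaf (nat_lit 25996561)) (BT.leaf (nat_lit 20971297))))))) (BT.node (nat_lit 6310272) (BT.node (nat_lit 6308992) (BT.node (nat_lit 6308736) (BT.node (nat_lit 6308480) (BT.node (nat_lit 6308352) (BT.leaf (nat_lit 21446689)) (BT.leaf (nat_lit 25953285))) (BT.node (nat_lit 6308672) (BT.leaf (nat_lit 27000097)) (BT.leaf (nat_lit 35724809)))) (BT.node (nat_lit 6308864) (BT.node (nat_lit 6308800) (BT.leaf (nat_lit 35725841)) (BT.leaf (nat_lit 22074645))) (BT.node (nat_lit 6308928) (BT.leaf (nat_lit 33723397)) (BT.leaf (nat_lit 20922385))))) (BT.node (nat_lit 6309824) (BT.node (nat_lit 6309504) (BT.node (nat_lit 6309440) (BT.leaf (nat_lit 33188889)) (BT.leaf (nat_lit 20923665))) (BT.node (nat_lit 6309632) (BT.leaf (nat_lit 24943641)) (BT.leaf (nat_lit 25090581)))) (BT.node (nat_lit 6310080) (BT.node (nat_lit 6310016) (BT.leaf (nat_lit 24137993)) (BT.leaf (nat_lit 35731225))) (BT.node (nat_lit 6310208) (BT.leaf (nat_lit 35730449)) (BT.leaf (nat_lit 24487693)))))) (BT.node (nat_lit 6311040) (BT.node (nat_lit 6310720) (BT.node (nat_lit 6310592) (BT.node (nat_lit 6310336) (BT.leaf (nat_lit 27718681)) (BT.leaf (nat_lit 24335389))) (BT.node (nat_lit 6310656) (BT.leaf (nat_lit 33284621)) (BT.leaf (nat_lit 35734297)))) (BT.node (nat_lit 6310848) (BT.node (nat_lit 6310784) (BT.leaf (nat_lit 21639941)) (BT.leaf (nat_lit 36224261))) (BT.node (nat_lit 6310912) (BT.leaf (nat_lit 25303061)) (BT.leaf (nat_lit 25303045))))) (BT.node (nat_lit 6311424) (BT.node (nat_lit 6311296) (BT.node (nat_lit 6311104) (BT.leaf (nat_lit 35737365)) (BT.leaf (nat_lit 21646097))) (BT.node (nat_lit 6311360) (BT.leaf (nat_lit 26040861)) (BT.leaf (nat_lit 26562577)))) (BT.node (nat_lit 6311552) (BT.node (nat_lit 6311488) (BT.leaf (nat_lit 35737617)) (BT.leaf (nat_lit 21640469))) (BT.node (nat_lit 6311616) (BT.leaf (nat_lit 20928793)) (BT.leaf (nat_lit 20928797))))))))) (BT.node (nat_lit 6318464) (BT.node (nat_lit 6315392) (BT.node (nat_lit 6313088) (BT.node (nat_lit 6312320) (BT.node (nat_lit 6312000) (BT.node (nat_lit 6311872) (BT.node (nat_lit 6311808) (BT.leaf (nat_lit 20929049)) (BT.leaf (nat_lit 27853597))) (BT.node (nat_lit 6311936) (BT.leaf (nat_lit 27853329)) (BT.leaf (nat_lit 33756677)))) (BT.node (nat_lit 6312128) (BT.node (nat_lit 6312064) (BT.leaf (nat_lit 20930329)) (BT.leaf (nat_lit 20930333))) (BT.node (nat_lit 6312256) (BT.leaf (nat_lit 29409813)) (BT.leaf (nat_lit 20930837))))) (BT.node (nat_lit 6312704) (BT.node (nat_lit 6312576) (BT.node (nat_lit 6312384) (BT.leaf (nat_lit 27091741)) (BT.leaf (nat_lit 27196437))) (BT.node (nat_lit 6312640) (BT.leaf (nat_lit 35741457)) (BT.leaf (nat_lit 35741717)))) (BT.node (nat_lit 6312896) (BT.node (nat_lit 6312768) (BT.leaf (nat_lit 20932369)) (BT.leaf (nat_lit 35457817))) (BT.node (nat_lit 6312960) (BT.leaf (nat_lit 20933125)) (BT.leaf (nat_lit 20933381)))))) (BT.node (nat_lit 6314112) (BT.node (nat_lit 6313472) (BT.node (nat_lit 6313216) (BT.node (nat_lit 6313152) (BT.leaf (nat_lit 24780577)) (BT.leaf (nat_lit 26716949))) (BT.node (nat_lit 6313344) (BT.leaf (nat_lit 25289745)) (BT.leaf (nat_lit 49912841)))) (BT.node (nat_lit 6313792) (BT.node (nat_lit 6313536) (BT.leaf (nat_lit 21605661)) (BT.leaf (nat_lit 20934929))) (BT.node (nat_lit 6313984) (BT.leaf (nat_lit 35745049)) (BT.leaf (nat_lit 20935961))))) (BT.node (nat_lit 6314752) (BT.node (nat_lit 6314624) (BT.node (nat_lit 6314560) (BT.leaf (nat_lit 20936217)) (BT.leaf (nat_lit 27155997))) (BT.node (nat_lit 6314688) (BT.leaf (nat_lit 35747101)) (BT.leaf (nat_lit 20937493)))) (BT.node (nat_lit 6314880) (BT.node (nat_lit 6314816) (BT.leaf (nat_lit 20938009)) (BT.leaf (nat_lit 20938013))) (BT.node (nat_lit 6315008) (BT.leaf (nat_lit 35748381)) (BT.leaf (nat_lit 20938777))))))) (BT.node (nat_lit 6316736) (BT.node (nat_lit 6315968) (BT.node (nat_lit 6315648) (BT.node (nat_lit 6315520) (BT.node (nat_lit 6315456) (BT.leaf (nat_lit 20939269)) (BT.leaf (nat_lit 20939281))) (BT.node (nat_lit 6315584) (BT.leaf (nat_lit 20939285)) (BT.leaf (nat_lit 20939537)))) (BT.node (nat_lit 6315840) (BT.node (nat_lit 6315776) (BT.leaf (nat_lit 20939541)) (BT.leaf (nat_lit 20940305))) (BT.node (nat_lit 6315904) (BT.leaf (nat_lit 35751445)) (BT.leaf (nat_lit 20940829))))) (BT.node (nat_lit 6316288) (BT.node (nat_lit 6316160) (BT.node (nat_lit 6316096) (BT.leaf (nat_lit 20941073)) (BT.leaf (nat_lit 20941585))) (BT.node (nat_lit 6316224) (BT.leaf (nat_lit 25264925)) (BT.leaf (nat_lit 35752981)))) (BT.node (nat_lit 6316480) (BT.node (nat_lit 6316352) (BT.leaf (nat_lit 35753245)) (BT.leaf (nat_lit 20942357))) (BT.node (nat_lit 6316672) (BT.leaf (nat_lit 20942613)) (BT.leaf (nat_lit 20943129)))))) (BT.node (nat_lit 6317696) (BT.node (nat_lit 6317440) (BT.node (nat_lit 6317312) (BT.node (nat_lit 6316864) (BT.leaf (nat_lit 35756053)) (BT.leaf (nat_lit 35756821))) (BT.node (nat_lit 6317376) (BT.leaf (nat_lit 35760149)) (BT.leaf (nat_lit 20945173)))) (BT.node (nat_lit 6317568) (BT.node (nat_lit 6317504) (BT.leaf (nat_lit 21318941)) (BT.leaf (nat_lit 20945937))) (BT.node (nat_lit 6317632) (BT.leaf (nat_lit 22027025)) (BT.leaf (nat_lit 34434309))))) (BT.node (nat_lit 6318208) (BT.node (nat_lit 6317888) (BT.node (nat_lit 6317824) (BT.leaf (nat_lit 20946705)) (BT.leaf (nat_lit 35762449))) (BT.node (nat_lit 6318144) (BT.leaf (nat_lit 25540873)) (BT.leaf (nat_lit 20948241)))) (BT.node (nat_lit 6318336) (BT.node (nat_lit 6318272) (BT.leaf (nat_lit 22801689)) (BT.leaf (nat_lit 20948753))) (BT.node (nat_lit 6318400) (BT.leaf (nat_lit 25258765)) (BT.leaf (nat_lit 26866449)))))))) (BT.node (nat_lit 6322560) (BT.node (nat_lit 6319936) (BT.node (nat_lit 6319232) (BT.node (nat_lit 6318912) (BT.node (nat_lit 6318592) (BT.node (nat_lit 6318528) (BT.leaf (nat_lit 27268637)) (BT.leaf (nat_lit 20949781))) (BT.node (nat_lit 6318656) (BT.leaf (nat_lit 23110429)) (BT.leaf (nat_lit 20950037)))) (BT.node (nat_lit 6319104) (BT.node (nat_lit 6319040) (BT.leaf (nat_lit 25937181)) (BT.leaf (nat_lit 33670661))) (BT.node (nat_lit 6319168) (BT.leaf (nat_lit 21631509)) (BT.leaf (nat_lit 20951057))))) (BT.node (nat_lit 6319552) (BT.node (nat_lit 6319424) (BT.node (nat_lit 6319296) (BT.leaf (nat_lit 20951073)) (BT.leaf (nat_lit 22207265))) (BT.node (nat_lit 6319488) (BT.leaf (nat_lit 22045473)) (BT.leaf (nat_lit 22045985)))) (BT.node (nat_lit 6319680) (BT.node (nat_lit 6319616) (BT.leaf (nat_lit 21964577)) (BT.leaf (nat_lit 21964321))) (BT.node (nat_lit 6319872) (BT.leaf (nat_lit 21485857)) (BT.leaf (nat_lit 21864989)))))) (BT.node (nat_lit 6320960) (BT.node (nat_lit 6320320) (BT.node (nat_lit 6320128) (BT.node (nat_lit 6320064) (BT.leaf (nat_lit 21964805)) (BT.leaf (nat_lit 22207521))) (BT.node (nat_lit 6320256) (BT.leaf (nat_lit 21950241)) (BT.leaf (nat_lit 20952853)))) (BT.node (nat_lit 6320832) (BT.node (nat_lit 6320448) (BT.leaf (nat_lit 21654277)) (BT.leaf (nat_lit 21949473))) (BT.node (nat_lit 6320896) (BT.leaf (nat_lit 25008133)) (BT.leaf (nat_lit 25281041))))) (BT.node (nat_lit 6321536) (BT.node (nat_lit 6321088) (BT.node (nat_lit 6321024) (BT.leaf (nat_lit 25538337)) (BT.leaf (nat_lit 20954141))) (BT.node (nat_lit 6321280) (BT.leaf (nat_lit 25276181)) (BT.leaf (nat_lit 20955665)))) (BT.node (nat_lit 6322432) (BT.node (nat_lit 6321600) (BT.leaf (nat_lit 20956433)) (BT.leaf (nat_lit 20957457))) (BT.node (nat_lit 6322496) (BT.leaf (nat_lit 20960537)) (BT.leaf (nat_lit 20960541))))))) (BT.node (nat_lit 6324864) (BT.node (nat_lit 6323840) (BT.node (nat_lit 6322880) (BT.node (nat_lit 6322752) (BT.node (nat_lit 6322688) (BT.leaf (nat_lit 20961041)) (BT.leaf (nat_lit 20961285))) (BT.node (nat_lit 6322816) (BT.leaf (nat_lit 20961297)) (BT.leaf (nat_lit 20961301)))) (BT.node (nat_lit 6323328) (BT.node (nat_lit 6323008) (BT.leaf (nat_lit 20961797)) (BT.leaf (nat_lit 25298709))) (BT.node (nat_lit 6323584) (BT.leaf (nat_lit 20962837)) (BT.leaf (nat_lit 22245381))))) (BT.node (nat_lit 6324480) (BT.node (nat_lit 6324288) (BT.node (nat_lit 6323904) (BT.leaf (nat_lit 21658645)) (BT.leaf (nat_lit 20964369))) (BT.node (nat_lit 6324416) (BT.leaf (nat_lit 20965649)) (BT.leaf (nat_lit 26244637)))) (BT.node (nat_lit 6324736) (BT.node (nat_lit 6324672) (BT.leaf (nat_lit 20966165)) (BT.leaf (nat_lit 20966937))) (BT.node (nat_lit 6324800) (BT.leaf (nat_lit 20966941)) (BT.leaf (nat_lit 22056465)))))) (BT.node (nat_lit 6325632) (BT.node (nat_lit 6325184) (BT.node (nat_lit 6324992) (BT.node (nat_lit 6324928) (BT.leaf (nat_lit 22056209)) (BT.leaf (nat_lit 20967193))) (BT.node (nat_lit 6325120) (BT.leaf (nat_lit 20967197)) (BT.leaf (nat_lit 21653005)))) (BT.node (nat_lit 6325312) (BT.node (nat_lit 6325248) (BT.leaf (nat_lit 26844689)) (BT.leaf (nat_lit 35784989))) (BT.node (nat_lit 6325440) (BT.leaf (nat_lit 20968981)) (BT.leaf (nat_lit 20969237))))) (BT.node (nat_lit 6325952) (BT.node (nat_lit 6325760) (BT.node (nat_lit 6325696) (BT.leaf (nat_lit 26400261)) (BT.leaf (nat_lit 25772313))) (BT.node (nat_lit 6325888) (BT.leaf (nat_lit 20970001)) (BT.leaf (nat_lit 20970769)))) (BT.node (nat_lit 6326080) (BT.node (nat_lit 6326016) (BT.leaf (nat_lit 21872921)) (BT.leaf (nat_lit 20971013))) (BT.node (nat_lit 6326272) (BT.leaf (nat_lit 20971029)) (BT.leaf (nat_lit 20971281)))))))))) (BT.node (nat_lit 6340032) (BT.node (nat_lit 6333568) (BT.node (nat_lit 6329728) (BT.node (nat_lit 6328192) (BT.node (nat_lit 6327552) (BT.node (nat_lit 6326912) (BT.node (nat_lit 6326592) (BT.node (nat_lit 6326400) (BT.leaf (nat_lit 20971541)) (BT.leaf (nat_lit 22218273))) (BT.node (nat_lit 6326848) (BT.leaf (nat_lit 20972309)) (BT.leaf (nat_lit 20974097)))) (BT.node (nat_lit 6327232) (BT.node (nat_lit 6327168) (BT.leaf (nat_lit 20974101)) (BT.leaf (nat_lit 33149957))) (BT.node (nat_lit 6327296) (BT.leaf (nat_lit 29470469)) (BT.leaf (nat_lit 21728541))))) (BT.node (nat_lit 6327936) (BT.node (nat_lit 6327808) (BT.node (nat_lit 6327744) (BT.leaf (nat_lit 20976913)) (BT.leaf (nat_lit 20977413))) (BT.node (nat_lit 6327872) (BT.leaf (nat_lit 20977685)) (BT.leaf (nat_lit 20978197)))) (BT.node (nat_lit 6328064) (BT.node (nat_lit 6328000) (BT.leaf (nat_lit 26120985)) (BT.leaf (nat_lit 20978453))) (BT.node (nat_lit 6328128) (BT.leaf (nat_lit 25651485)) (BT.leaf (nat_lit 21987861)))))) (BT.node (nat_lit 6328832) (BT.node (nat_lit 6328512) (BT.node (nat_lit 6328384) (BT.node (nat_lit 6328320) (BT.leaf (nat_lit 20979729)) (BT.leaf (nat_lit 25563909))) (BT.node (nat_lit 6328448) (BT.leaf (nat_lit 26771209)) (BT.leaf (nat_lit 21669137)))) (BT.node (nat_lit 6328640) (BT.node (nat_lit 6328576) (BT.leaf (nat_lit 21668369)) (BT.leaf (nat_lit 21668113))) (BT.node (nat_lit 6328768) (BT.leaf (nat_lit 20980505)) (BT.leaf (nat_lit 33829133))))) (BT.node (nat_lit 6329408) (BT.node (nat_lit 6329088) (BT.node (nat_lit 6328896) (BT.leaf (nat_lit 28249109)) (BT.leaf (nat_lit 20981281))) (BT.node (nat_lit 6329344) (BT.leaf (nat_lit 20982045)) (BT.leaf (nat_lit 20983045)))) (BT.node (nat_lit 6329536) (BT.node (nat_lit 6329472) (BT.leaf (nat_lit 20982809)) (BT.leaf (nat_lit 35799825))) (BT.node (nat_lit 6329664) (BT.leaf (nat_lit 25830425)) (BT.leaf (nat_lit 33433365))))))) (BT.node (nat_lit 6331520) (BT.node (nat_lit 6330368) (BT.node (nat_lit 6330048) (BT.node (nat_lit 6329920) (BT.node (nat_lit 6329792) (BT.leaf (nat_lit 50735129)) (BT.leaf (nat_lit 35801621))) (BT.node (nat_lit 6329984) (BT.leaf (nat_lit 35802133)) (BT.leaf (nat_lit 47610629)))) (BT.node (nat_lit 6330176) (BT.node (nat_lit 6330112) (BT.leaf (nat_lit 26265105)) (BT.leaf (nat_lit 25320217))) (BT.node (nat_lit 6330240) (BT.leaf (nat_lit 21618193)) (BT.leaf (nat_lit 20985877))))) (BT.node (nat_lit 6330880) (BT.node (nat_lit 6330752) (BT.node (nat_lit 6330432) (BT.leaf (nat_lit 21591325)) (BT.leaf (nat_lit 21673745))) (BT.node (nat_lit 6330816) (BT.leaf (nat_lit 36006405)) (BT.leaf (nat_lit 28649737)))) (BT.node (nat_lit 6331392) (BT.node (nat_lit 6331072) (BT.leaf (nat_lit 26096657)) (BT.leaf (nat_lit 22189085))) (BT.node (nat_lit 6331456) (BT.leaf (nat_lit 35806469)) (BT.leaf (nat_lit 35441689)))))) (BT.node (nat_lit 6332416) (BT.node (nat_lit 6331968) (BT.node (nat_lit 6331648) (BT.node (nat_lit 6331584) (BT.leaf (nat_lit 21673233)) (BT.leaf (nat_lit 21672465))) (BT.node (nat_lit 6331840) (BT.leaf (nat_lit 21672209)) (BT.leaf (nat_lit 26890521)))) (BT.node (nat_lit 6332160) (BT.node (nat_lit 6332032) (BT.leaf (nat_lit 35808025)) (BT.leaf (nat_lit 25340181))) (BT.node (nat_lit 6332288) (BT.leaf (nat_lit 20990993)) (BT.leaf (nat_lit 35809557))))) (BT.node (nat_lit 6333120) (BT.node (nat_lit 6332608) (BT.node (nat_lit 6332480) (BT.leaf (nat_lit 35810321)) (BT.leaf (nat_lit 20991505))) (BT.node (nat_lit 6332992) (BT.leaf (nat_lit 26510869)) (BT.leaf (nat_lit 20992017)))) (BT.node (nat_lit 6333312) (BT.node (nat_lit 6333248) (BT.leaf (nat_lit 20992273)) (BT.leaf (nat_lit 26204689))) (BT.node (nat_lit 6333504) (BT.leaf (nat_lit 20993053)) (BT.leaf (nat_lit 20994065)))))))) (BT.node (nat_lit 6336832) (BT.node (nat_lit 6334912) (BT.node (nat_lit 6334272) (BT.node (nat_lit 6333888) (BT.node (nat_lit 6333760) (BT.node (nat_lit 6333696) (BT.leaf (nat_lit 26584585)) (BT.leaf (nat_lit 35815441))) (BT.node (nat_lit 6333824) (BT.leaf (nat_lit 24916229)) (BT.leaf (nat_lit 24916505)))) (BT.node (nat_lit 6334144) (BT.node (nat_lit 6334016) (BT.leaf (nat_lit 35555869)) (BT.leaf (nat_lit 20998417))) (BT.node (nat_lit 6334208) (BT.leaf (nat_lit 24333857)) (BT.leaf (nat_lit 23899425))))) (BT.node (nat_lit 6334528) (BT.node (nat_lit 6334400) (BT.node (nat_lit 6334336) (BT.leaf (nat_lit 47269905)) (BT.leaf (nat_lit 33450757))) (BT.node (nat_lit 6334464) (BT.leaf (nat_lit 33956881)) (BT.leaf (nat_lit 35817497)))) (BT.node (nat_lit 6334784) (BT.node (nat_lit 6334720) (BT.leaf (nat_lit 22240281)) (BT.leaf (nat_lit 27181337))) (BT.node (nat_lit 6334848) (BT.leaf (nat_lit 25339421)) (BT.leaf (nat_lit 21000973)))))) (BT.node (nat_lit 6335616) (BT.node (nat_lit 6335168) (BT.node (nat_lit 6335040) (BT.node (nat_lit 6334976) (BT.leaf (nat_lit 25339933)) (BT.leaf (nat_lit 35818773))) (BT.node (nat_lit 6335104) (BT.leaf (nat_lit 25400861)) (BT.leaf (nat_lit 21000721)))) (BT.node (nat_lit 6335424) (BT.node (nat_lit 6335296) (BT.leaf (nat_lit 21000725)) (BT.leaf (nat_lit 27181073))) (BT.node (nat_lit 6335552) (BT.leaf (nat_lit 35821077)) (BT.leaf (nat_lit 25341705))))) (BT.node (nat_lit 6336320) (BT.node (nat_lit 6335936) (BT.node (nat_lit 6335680) (BT.leaf (nat_lit 21002513)) (BT.leaf (nat_lit 35821581))) (BT.node (nat_lit 6336256) (BT.leaf (nat_lit 21002769)) (BT.leaf (nat_lit 22285829)))) (BT.node (nat_lit 6336512) (BT.node (nat_lit 6336448) (BT.leaf (nat_lit 21003289)) (BT.leaf (nat_lit 35826197))) (BT.node (nat_lit 6336576) (BT.leaf (nat_lit 21003537)) (BT.leaf (nat_lit 37108485))))))) (BT.node (nat_lit 6338176) (BT.node (nat_lit 6337600) (BT.node (nat_lit 6337088) (BT.node (nat_lit 6336960) (BT.node (nat_lit 6336896) (BT.leaf (nat_lit 21004057)) (BT.leaf (nat_lit 25713165))) (BT.node (nat_lit 6337024) (BT.leaf (nat_lit 21004305)) (BT.leaf (nat_lit 22893829)))) (BT.node (nat_lit 6337472) (BT.node (nat_lit 6337152) (BT.leaf (nat_lit 21004573)) (BT.leaf (nat_lit 21005317))) (BT.node (nat_lit 6337536) (BT.leaf (nat_lit 21006097)) (BT.leaf (nat_lit 21006865))))) (BT.node (nat_lit 6337856) (BT.node (nat_lit 6337728) (BT.node (nat_lit 6337664) (BT.leaf (nat_lit 22924821)) (BT.leaf (nat_lit 35830277))) (BT.node (nat_lit 6337792) (BT.leaf (nat_lit 21007133)) (BT.leaf (nat_lit 21007393)))) (BT.node (nat_lit 6338048) (BT.node (nat_lit 6337920) (BT.leaf (nat_lit 32292897)) (BT.leaf (nat_lit 35488801))) (BT.node (nat_lit 6338112) (BT.leaf (nat_lit 24930333)) (BT.leaf (nat_lit 27143697)))))) (BT.node (nat_lit 6338944) (BT.node (nat_lit 6338560) (BT.node (nat_lit 6338368) (BT.node (nat_lit 6338304) (BT.leaf (nat_lit 29658885)) (BT.leaf (nat_lit 21009681))) (BT.node (nat_lit 6338432) (BT.leaf (nat_lit 34724129)) (BT.leaf (nat_lit 35832857)))) (BT.node (nat_lit 6338752) (BT.node (nat_lit 6338624) (BT.leaf (nat_lit 33166605)) (BT.leaf (nat_lit 35833629))) (BT.node (nat_lit 6338816) (BT.leaf (nat_lit 24625185)) (BT.leaf (nat_lit 27327261))))) (BT.node (nat_lit 6339520) (BT.node (nat_lit 6339264) (BT.node (nat_lit 6339136) (BT.leaf (nat_lit 34083077)) (BT.leaf (nat_lit 21013017))) (BT.node (nat_lit 6339456) (BT.leaf (nat_lit 35836185)) (BT.leaf (nat_lit 35836949)))) (BT.node (nat_lit 6339712) (BT.node (nat_lit 6339584) (BT.leaf (nat_lit 35405589)) (BT.leaf (nat_lit 35837465))) (BT.node (nat_lit 6339840) (BT.leaf (nat_lit 35837449)) (BT.leaf (nat_lit 26500625))))))))) (BT.node (nat_lit 6346304) (BT.node (nat_lit 6343488) (BT.node (nat_lit 6341568) (BT.node (nat_lit 6340672) (BT.node (nat_lit 6340352) (BT.node (nat_lit 6340160) (BT.node (nat_lit 6340096) (BT.leaf (nat_lit 24897309)) (BT.leaf (nat_lit 21015313))) (BT.node (nat_lit 6340288) (BT.leaf (nat_lit 35159321)) (BT.leaf (nat_lit 35840789)))) (BT.node (nat_lit 6340544) (BT.node (nat_lit 6340480) (BT.leaf (nat_lit 26074885)) (BT.leaf (nat_lit 22588705))) (BT.node (nat_lit 6340608) (BT.leaf (nat_lit 35841553)) (BT.leaf (nat_lit 35808273))))) (BT.node (nat_lit 6341120) (BT.node (nat_lit 6340800) (BT.node (nat_lit 6340736) (BT.leaf (nat_lit 35841821)) (BT.leaf (nat_lit 21017113))) (BT.node (nat_lit 6341056) (BT.leaf (nat_lit 21017117)) (BT.leaf (nat_lit 21017629)))) (BT.node (nat_lit 6341312) (BT.node (nat_lit 6341184) (BT.leaf (nat_lit 21017877)) (BT.leaf (nat_lit 35843601))) (BT.node (nat_lit 6341504) (BT.leaf (nat_lit 21018129)) (BT.leaf (nat_lit 33250833)))))) (BT.node (nat_lit 6342528) (BT.node (nat_lit 6342144) (BT.node (nat_lit 6341696) (BT.node (nat_lit 6341632) (BT.leaf (nat_lit 25024005)) (BT.leaf (nat_lit 23601941))) (BT.node (nat_lit 6341760) (BT.leaf (nat_lit 26481681)) (BT.leaf (nat_lit 49820957)))) (BT.node (nat_lit 6342272) (BT.node (nat_lit 6342208) (BT.leaf (nat_lit 35845637)) (BT.leaf (nat_lit 26736925))) (BT.node (nat_lit 6342400) (BT.leaf (nat_lit 21021713)) (BT.leaf (nat_lit 21022481))))) (BT.node (nat_lit 6342848) (BT.node (nat_lit 6342656) (BT.node (nat_lit 6342592) (BT.leaf (nat_lit 25825821)) (BT.leaf (nat_lit 25816593))) (BT.node (nat_lit 6342784) (BT.leaf (nat_lit 25816609)) (BT.leaf (nat_lit 23779601)))) (BT.node (nat_lit 6343232) (BT.node (nat_lit 6343040) (BT.leaf (nat_lit 23779617)) (BT.leaf (nat_lit 21024785))) (BT.node (nat_lit 6343296) (BT.leaf (nat_lit 21025553)) (BT.leaf (nat_lit 21025569))))))) (BT.node (nat_lit 6344576) (BT.node (nat_lit 6344000) (BT.node (nat_lit 6343744) (BT.node (nat_lit 6343616) (BT.node (nat_lit 6343552) (BT.leaf (nat_lit 21026333)) (BT.leaf (nat_lit 22407445))) (BT.node (nat_lit 6343680) (BT.leaf (nat_lit 34273565)) (BT.leaf (nat_lit 21026833)))) (BT.node (nat_lit 6343872) (BT.node (nat_lit 6343808) (BT.leaf (nat_lit 25375513)) (BT.leaf (nat_lit 35853593))) (BT.node (nat_lit 6343936) (BT.leaf (nat_lit 35852817)) (BT.leaf (nat_lit 35854085))))) (BT.node (nat_lit 6344256) (BT.node (nat_lit 6344128) (BT.node (nat_lit 6344064) (BT.leaf (nat_lit 33117977)) (BT.leaf (nat_lit 22269217))) (BT.node (nat_lit 6344192) (BT.leaf (nat_lit 25170717)) (BT.leaf (nat_lit 21028373)))) (BT.node (nat_lit 6344448) (BT.node (nat_lit 6344384) (BT.leaf (nat_lit 25704709)) (BT.leaf (nat_lit 21029137))) (BT.node (nat_lit 6344512) (BT.leaf (nat_lit 26367769)) (BT.leaf (nat_lit 51973125)))))) (BT.node (nat_lit 6345472) (BT.node (nat_lit 6345152) (BT.node (nat_lit 6344768) (BT.node (nat_lit 6344704) (BT.leaf (nat_lit 23010565)) (BT.leaf (nat_lit 21030685))) (BT.node (nat_lit 6345088) (BT.leaf (nat_lit 25403929)) (BT.leaf (nat_lit 28326673)))) (BT.node (nat_lit 6345280) (BT.node (nat_lit 6345216) (BT.leaf (nat_lit 27715609)) (BT.leaf (nat_lit 21031445))) (BT.node (nat_lit 6345344) (BT.leaf (nat_lit 21761305)) (BT.leaf (nat_lit 26346009))))) (BT.node (nat_lit 6345856) (BT.node (nat_lit 6345600) (BT.node (nat_lit 6345536) (BT.leaf (nat_lit 21988101)) (BT.leaf (nat_lit 24905733))) (BT.node (nat_lit 6345792) (BT.leaf (nat_lit 26347293)) (BT.leaf (nat_lit 24387345)))) (BT.node (nat_lit 6345984) (BT.node (nat_lit 6345920) (BT.leaf (nat_lit 35862037)) (BT.leaf (nat_lit 35862801))) (BT.node (nat_lit 6346112) (BT.leaf (nat_lit 26179609)) (BT.leaf (nat_lit 21175821)))))))) (BT.node (nat_lit 6350976) (BT.node (nat_lit 6348992) (BT.node (nat_lit 6347840) (BT.node (nat_lit 6347456) (BT.node (nat_lit 6346816) (BT.node (nat_lit 6346432) (BT.leaf (nat_lit 21035293)) (BT.leaf (nat_lit 26965781))) (BT.node (nat_lit 6347328) (BT.leaf (nat_lit 21036309)) (BT.leaf (nat_lit 21038873)))) (BT.node (nat_lit 6347648) (BT.node (nat_lit 6347584) (BT.leaf (nat_lit 35867409)) (BT.leaf (nat_lit 35867925))) (BT.node (nat_lit 6347712) (BT.leaf (nat_lit 22019093)) (BT.leaf (nat_lit 35868697))))) (BT.node (nat_lit 6348672) (BT.node (nat_lit 6348544) (BT.node (nat_lit 6347968) (BT.leaf (nat_lit 21041941)) (BT.leaf (nat_lit 21042209))) (BT.node (nat_lit 6348608) (BT.leaf (nat_lit 21043993)) (BT.leaf (nat_lit 21043997)))) (BT.node (nat_lit 6348864) (BT.node (nat_lit 6348800) (BT.leaf (nat_lit 21044241)) (BT.leaf (nat_lit 25299461))) (BT.node (nat_lit 6348928) (BT.leaf (nat_lit 21875205)) (BT.leaf (nat_lit 21045009)))))) (BT.node (nat_lit 6349824) (BT.node (nat_lit 6349504) (BT.node (nat_lit 6349120) (BT.node (nat_lit 6349056) (BT.leaf (nat_lit 35872273)) (BT.leaf (nat_lit 35520785))) (BT.node (nat_lit 6349184) (BT.leaf (nat_lit 21697301)) (BT.leaf (nat_lit 21045277)))) (BT.node (nat_lit 6349696) (BT.node (nat_lit 6349632) (BT.leaf (nat_lit 21046037)) (BT.leaf (nat_lit 35874577))) (BT.node (nat_lit 6349760) (BT.leaf (nat_lit 27183129)) (BT.leaf (nat_lit 25327377))))) (BT.node (nat_lit 6350336) (BT.node (nat_lit 6350208) (BT.node (nat_lit 6350016) (BT.leaf (nat_lit 21048085)) (BT.leaf (nat_lit 35875609))) (BT.node (nat_lit 6350272) (BT.leaf (nat_lit 35808021)) (BT.leaf (nat_lit 21048337)))) (BT.node (nat_lit 6350784) (BT.node (nat_lit 6350464) (BT.leaf (nat_lit 21048341)) (BT.leaf (nat_lit 25341189))) (BT.node (nat_lit 6350912) (BT.leaf (nat_lit 21184021)) (BT.leaf (nat_lit 46543373))))))) (BT.node (nat_lit 6352448) (BT.node (nat_lit 6351744) (BT.node (nat_lit 6351296) (BT.node (nat_lit 6351104) (BT.node (nat_lit 6351040) (BT.leaf (nat_lit 21049365)) (BT.leaf (nat_lit 35878677))) (BT.node (nat_lit 6351168) (BT.leaf (nat_lit 35878929)) (BT.leaf (nat_lit 21050129)))) (BT.node (nat_lit 6351616) (BT.node (nat_lit 6351360) (BT.leaf (nat_lit 35410197)) (BT.leaf (nat_lit 35879709))) (BT.node (nat_lit 6351680) (BT.leaf (nat_lit 35880969)) (BT.leaf (nat_lit 26597137))))) (BT.node (nat_lit 6352064) (BT.node (nat_lit 6351872) (BT.node (nat_lit 6351808) (BT.leaf (nat_lit 25045017)) (BT.leaf (nat_lit 35882777))) (BT.node (nat_lit 6352000) (BT.leaf (nat_lit 35882257)) (BT.leaf (nat_lit 35883805)))) (BT.node (nat_lit 6352256) (BT.node (nat_lit 6352192) (BT.leaf (nat_lit 35644449)) (BT.leaf (nat_lit 21052693))) (BT.node (nat_lit 6352320) (BT.leaf (nat_lit 35110425)) (BT.leaf (nat_lit 28576773)))))) (BT.node (nat_lit 6353280) (BT.node (nat_lit 6352896) (BT.node (nat_lit 6352768) (BT.node (nat_lit 6352576) (BT.leaf (nat_lit 21365521)) (BT.leaf (nat_lit 27858977))) (BT.node (nat_lit 6352832) (BT.leaf (nat_lit 23008785)) (BT.leaf (nat_lit 21055249)))) (BT.node (nat_lit 6353024) (BT.node (nat_lit 6352960) (BT.leaf (nat_lit 34083597)) (BT.leaf (nat_lit 25519637))) (BT.node (nat_lit 6353088) (BT.leaf (nat_lit 24126469)) (BT.leaf (nat_lit 21745177))))) (BT.node (nat_lit 6353600) (BT.node (nat_lit 6353472) (BT.node (nat_lit 6353408) (BT.leaf (nat_lit 34086153)) (BT.leaf (nat_lit 35887889))) (BT.node (nat_lit 6353536) (BT.leaf (nat_lit 21704465)) (BT.leaf (nat_lit 21703953)))) (BT.node (nat_lit 6353728) (BT.node (nat_lit 6353664) (BT.leaf (nat_lit 21058073)) (BT.leaf (nat_lit 21058077))) (BT.node (nat_lit 6353984) (BT.leaf (nat_lit 21744413)) (BT.leaf (nat_lit 35889437)))))))))))))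
noncomputable def big0_e34816 : BT Nat := (BT.node (nat_lit 6455040) (BT.node (nat_lit 6407936) (BT.node (nat_lit 6382976) (BT.node (nat_lit 6368512) (BT.node (nat_lit 6361088) (BT.node (nat_lit 6357696) (BT.node (nat_lit 6355392) (BT.node (nat_lit 6354880) (BT.node (nat_lit 6354496) (BT.node (nat_lit 6354368) (BT.node (nat_lit 6354240) (BT.leaf (nat_lit 21060629)) (BT.leaf (nat_lit 35890197))) (BT.node (nat_lit 6354432) (BT.leaf (nat_lit 26388761)) (BT.leaf (nat_lit 26388765)))) (BT.node (nat_lit 6354688) (BT.node (nat_lit 6354624) (BT.leaf (nat_lit 25542681)) (BT.leaf (nat_lit 35891229))) (BT.node (nat_lit 6354816) (BT.leaf (nat_lit 35891733)) (BT.leaf (nat_lit 35333153))))) (BT.node (nat_lit 6355136) (BT.node (nat_lit 6355008) (BT.node (nat_lit 6354944) (BT.leaf (nat_lit 21707037)) (BT.leaf (nat_lit 21166365))) (BT.node (nat_lit 6355072) (BT.leaf (nat_lit 26070801)) (BT.leaf (nat_lit 35893009)))) (BT.node (nat_lit 6355264) (BT.node (nat_lit 6355200) (BT.leaf (nat_lit 26070793)) (BT.leaf (nat_lit 22969877))) (BT.node (nat_lit 6355328) (BT.leaf (nat_lit 21063965)) (BT.leaf (nat_lit 21064221)))))) (BT.node (nat_lit 6356608) (BT.node (nat_lit 6355840) (BT.node (nat_lit 6355648) (BT.node (nat_lit 6355584) (BT.leaf (nat_lit 26343193)) (BT.leaf (nat_lit 21065753))) (BT.node (nat_lit 6355712) (BT.leaf (nat_lit 51687713)) (BT.leaf (nat_lit 34343697)))) (BT.node (nat_lit 6356224) (BT.node (nat_lit 6355904) (BT.leaf (nat_lit 25423645)) (BT.leaf (nat_lit 32908817))) (BT.node (nat_lit 6356416) (BT.leaf (nat_lit 21067025)) (BT.leaf (nat_lit 21709077))))) (BT.node (nat_lit 6357312) (BT.node (nat_lit 6357120) (BT.node (nat_lit 6356992) (BT.leaf (nat_lit 35898641)) (BT.leaf (nat_lit 35901193))) (BT.node (nat_lit 6357184) (BT.leaf (nat_lit 33356805)) (BT.leaf (nat_lit 33357829)))) (BT.node (nat_lit 6357440) (BT.node (nat_lit 6357376) (BT.leaf (nat_lit 36389649)) (BT.leaf (nat_lit 26300433))) (BT.node (nat_lit 6357632) (BT.leaf (nat_lit 36389641)) (BT.leaf (nat_lit 21070865))))))) (BT.node (nat_lit 6359936) (BT.node (nat_lit 6358784) (BT.node (nat_lit 6358144) (BT.node (nat_lit 6357888) (BT.node (nat_lit 6357760) (BT.leaf (nat_lit 25897753)) (BT.leaf (nat_lit 50037533))) (BT.node (nat_lit 6357952) (BT.leaf (nat_lit 33501205)) (BT.leaf (nat_lit 22651913)))) (BT.node (nat_lit 6358528) (BT.node (nat_lit 6358336) (BT.leaf (nat_lit 26695969)) (BT.leaf (nat_lit 35903769))) (BT.node (nat_lit 6358720) (BT.leaf (nat_lit 21201925)) (BT.leaf (nat_lit 26474009))))) (BT.node (nat_lit 6359296) (BT.node (nat_lit 6359104) (BT.node (nat_lit 6358848) (BT.leaf (nat_lit 21076485)) (BT.leaf (nat_lit 21073941))) (BT.node (nat_lit 6359168) (BT.leaf (nat_lit 21074961)) (BT.leaf (nat_lit 35906577)))) (BT.node (nat_lit 6359616) (BT.node (nat_lit 6359552) (BT.leaf (nat_lit 35907349)) (BT.leaf (nat_lit 24989721))) (BT.node (nat_lit 6359808) (BT.leaf (nat_lit 26354205)) (BT.leaf (nat_lit 21076497)))))) (BT.node (nat_lit 6360576) (BT.node (nat_lit 6360192) (BT.node (nat_lit 6360064) (BT.node (nat_lit 6360000) (BT.leaf (nat_lit 35902741)) (BT.leaf (nat_lit 50175513))) (BT.node (nat_lit 6360128) (BT.leaf (nat_lit 33739785)) (BT.leaf (nat_lit 26362649)))) (BT.node (nat_lit 6360320) (BT.node (nat_lit 6360256) (BT.leaf (nat_lit 21793557)) (BT.leaf (nat_lit 26471193))) (BT.node (nat_lit 6360384) (BT.leaf (nat_lit 21718033)) (BT.leaf (nat_lit 21078809))))) (BT.node (nat_lit 6360832) (BT.node (nat_lit 6360704) (BT.node (nat_lit 6360640) (BT.leaf (nat_lit 22059805)) (BT.leaf (nat_lit 21080593))) (BT.node (nat_lit 6360768) (BT.leaf (nat_lit 25443101)) (BT.leaf (nat_lit 35911441)))) (BT.node (nat_lit 6360960) (BT.node (nat_lit 6360896) (BT.leaf (nat_lit 21175817)) (BT.leaf (nat_lit 35875613))) (BT.node (nat_lit 6361024) (BT.leaf (nat_lit 35912213)) (BT.leaf (nat_lit 27254037)))))))) (BT.node (nat_lit 6364928) (BT.node (nat_lit 6362368) (BT.node (nat_lit 6361728) (BT.node (nat_lit 6361408) (BT.node (nat_lit 6361280) (BT.node (nat_lit 6361152) (BT.leaf (nat_lit 33550085)) (BT.leaf (nat_lit 35912977))) (BT.node (nat_lit 6361344) (BT.leaf (nat_lit 35913485)) (BT.leaf (nat_lit 21082389)))) (BT.node (nat_lit 6361600) (BT.node (nat_lit 6361536) (BT.leaf (nat_lit 26402841)) (BT.leaf (nat_lit 35916305))) (BT.node (nat_lit 6361664) (BT.leaf (nat_lit 33132053)) (BT.leaf (nat_lit 35633173))))) (BT.node (nat_lit 6361984) (BT.node (nat_lit 6361856) (BT.node (nat_lit 6361792) (BT.leaf (nat_lit 25628693)) (BT.leaf (nat_lit 33691425))) (BT.node (nat_lit 6361920) (BT.leaf (nat_lit 34150929)) (BT.leaf (nat_lit 25078301)))) (BT.node (nat_lit 6362112) (BT.node (nat_lit 6362048) (BT.leaf (nat_lit 27283233)) (BT.leaf (nat_lit 35917829))) (BT.node (nat_lit 6362304) (BT.leaf (nat_lit 25841945)) (BT.leaf (nat_lit 33804321)))))) (BT.node (nat_lit 6363392) (BT.node (nat_lit 6362816) (BT.node (nat_lit 6362688) (BT.node (nat_lit 6362432) (BT.leaf (nat_lit 36166945)) (BT.leaf (nat_lit 37028101))) (BT.node (nat_lit 6362752) (BT.leaf (nat_lit 22672917)) (BT.leaf (nat_lit 23630365)))) (BT.node (nat_lit 6363072) (BT.node (nat_lit 6362880) (BT.leaf (nat_lit 22137357)) (BT.leaf (nat_lit 21622549))) (BT.node (nat_lit 6363264) (BT.leaf (nat_lit 35920901)) (BT.leaf (nat_lit 35922969))))) (BT.node (nat_lit 6364416) (BT.node (nat_lit 6364160) (BT.node (nat_lit 6363712) (BT.leaf (nat_lit 21722653)) (BT.leaf (nat_lit 46830605))) (BT.node (nat_lit 6364352) (BT.leaf (nat_lit 25583905)) (BT.leaf (nat_lit 21733653)))) (BT.node (nat_lit 6364672) (BT.node (nat_lit 6364480) (BT.leaf (nat_lit 21095185)) (BT.leaf (nat_lit 21733913))) (BT.node (nat_lit 6364800) (BT.leaf (nat_lit 21096217)) (BT.leaf (nat_lit 25799173))))))) (BT.node (nat_lit 6367104) (BT.node (nat_lit 6365888) (BT.node (nat_lit 6365248) (BT.node (nat_lit 6365056) (BT.node (nat_lit 6364992) (BT.leaf (nat_lit 21139229)) (BT.leaf (nat_lit 21096977))) (BT.node (nat_lit 6365120) (BT.leaf (nat_lit 34083593)) (BT.leaf (nat_lit 33267489)))) (BT.node (nat_lit 6365696) (BT.node (nat_lit 6365312) (BT.leaf (nat_lit 24053025)) (BT.leaf (nat_lit 26080033))) (BT.node (nat_lit 6365760) (BT.leaf (nat_lit 21415953)) (BT.leaf (nat_lit 35673617))))) (BT.node (nat_lit 6366592) (BT.node (nat_lit 6366080) (BT.node (nat_lit 6366016) (BT.leaf (nat_lit 35859229)) (BT.leaf (nat_lit 34664469))) (BT.node (nat_lit 6366400) (BT.leaf (nat_lit 26543649)) (BT.leaf (nat_lit 21100317)))) (BT.node (nat_lit 6366720) (BT.node (nat_lit 6366656) (BT.leaf (nat_lit 22231557)) (BT.leaf (nat_lit 21101593))) (BT.node (nat_lit 6366912) (BT.leaf (nat_lit 26795281)) (BT.leaf (nat_lit 28259357)))))) (BT.node (nat_lit 6367744) (BT.node (nat_lit 6367360) (BT.node (nat_lit 6367232) (BT.node (nat_lit 6367168) (BT.leaf (nat_lit 21102621)) (BT.leaf (nat_lit 47500577))) (BT.node (nat_lit 6367296) (BT.leaf (nat_lit 21102869)) (BT.leaf (nat_lit 47500549)))) (BT.node (nat_lit 6367488) (BT.node (nat_lit 6367424) (BT.leaf (nat_lit 21103381)) (BT.leaf (nat_lit 21103633))) (BT.node (nat_lit 6367616) (BT.leaf (nat_lit 22514957)) (BT.leaf (nat_lit 23122957))))) (BT.node (nat_lit 6368128) (BT.node (nat_lit 6368000) (BT.node (nat_lit 6367808) (BT.leaf (nat_lit 24252441)) (BT.leaf (nat_lit 22146309))) (BT.node (nat_lit 6368064) (BT.leaf (nat_lit 21105437)) (BT.leaf (nat_lit 21105681)))) (BT.node (nat_lit 6368320) (BT.node (nat_lit 6368256) (BT.leaf (nat_lit 25664277)) (BT.leaf (nat_lit 23831045))) (BT.node (nat_lit 6368448) (BT.leaf (nat_lit 35937297)) (BT.leaf (nat_lit 23706373))))))))) (BT.node (nat_lit 6375744) (BT.node (nat_lit 6372096) (BT.node (nat_lit 6370496) (BT.node (nat_lit 6369472) (BT.node (nat_lit 6368896) (BT.node (nat_lit 6368704) (BT.node (nat_lit 6368640) (BT.leaf (nat_lit 23620629)) (BT.leaf (nat_lit 34242581))) (BT.node (nat_lit 6368832) (BT.leaf (nat_lit 21176089)) (BT.leaf (nat_lit 35939361)))) (BT.node (nat_lit 6369024) (BT.node (nat_lit 6368960) (BT.leaf (nat_lit 26616093)) (BT.leaf (nat_lit 33799965))) (BT.node (nat_lit 6369088) (BT.leaf (nat_lit 25311245)) (BT.leaf (nat_lit 25311501))))) (BT.node (nat_lit 6369856) (BT.node (nat_lit 6369728) (BT.node (nat_lit 6369664) (BT.leaf (nat_lit 21109521)) (BT.leaf (nat_lit 33773589))) (BT.node (nat_lit 6369792) (BT.leaf (nat_lit 25478681)) (BT.leaf (nat_lit 25539361)))) (BT.node (nat_lit 6370176) (BT.node (nat_lit 6370048) (BT.leaf (nat_lit 25539105)) (BT.leaf (nat_lit 21634309))) (BT.node (nat_lit 6370432) (BT.leaf (nat_lit 23092505)) (BT.leaf (nat_lit 26092833)))))) (BT.node (nat_lit 6371264) (BT.node (nat_lit 6370944) (BT.node (nat_lit 6370752) (BT.node (nat_lit 6370624) (BT.leaf (nat_lit 21111317)) (BT.leaf (nat_lit 22230561))) (BT.node (nat_lit 6370816) (BT.leaf (nat_lit 21111829)) (BT.leaf (nat_lit 21112085)))) (BT.node (nat_lit 6371136) (BT.node (nat_lit 6371072) (BT.leaf (nat_lit 21112601)) (BT.leaf (nat_lit 21740061))) (BT.node (nat_lit 6371200) (BT.leaf (nat_lit 24940061)) (BT.leaf (nat_lit 26092305))))) (BT.node (nat_lit 6371840) (BT.node (nat_lit 6371584) (BT.node (nat_lit 6371328) (BT.leaf (nat_lit 25949445)) (BT.leaf (nat_lit 25202437))) (BT.node (nat_lit 6371712) (BT.leaf (nat_lit 33921041)) (BT.leaf (nat_lit 21810973)))) (BT.node (nat_lit 6371968) (BT.node (nat_lit 6371904) (BT.leaf (nat_lit 35946773)) (BT.leaf (nat_lit 21115401))) (BT.node (nat_lit 6372032) (BT.leaf (nat_lit 21115405)) (BT.leaf (nat_lit 21115417))))))) (BT.node (nat_lit 6374144) (BT.node (nat_lit 6373312) (BT.node (nat_lit 6372480) (BT.node (nat_lit 6372288) (BT.node (nat_lit 6372224) (BT.leaf (nat_lit 21115421)) (BT.leaf (nat_lit 21115673))) (BT.node (nat_lit 6372416) (BT.leaf (nat_lit 21115925)) (BT.leaf (nat_lit 25489949)))) (BT.node (nat_lit 6372800) (BT.node (nat_lit 6372672) (BT.leaf (nat_lit 26605333)) (BT.leaf (nat_lit 21117461))) (BT.node (nat_lit 6373248) (BT.leaf (nat_lit 21116701)) (BT.leaf (nat_lit 24535585))))) (BT.node (nat_lit 6373760) (BT.node (nat_lit 6373440) (BT.node (nat_lit 6373376) (BT.leaf (nat_lit 21119765)) (BT.leaf (nat_lit 21119769))) (BT.node (nat_lit 6373696) (BT.leaf (nat_lit 21119773)) (BT.leaf (nat_lit 22659093)))) (BT.node (nat_lit 6374016) (BT.node (nat_lit 6373952) (BT.leaf (nat_lit 35708165)) (BT.leaf (nat_lit 21121809))) (BT.node (nat_lit 6374080) (BT.leaf (nat_lit 23840033)) (BT.leaf (nat_lit 33207833)))))) (BT.node (nat_lit 6375040) (BT.node (nat_lit 6374720) (BT.node (nat_lit 6374272) (BT.node (nat_lit 6374208) (BT.leaf (nat_lit 26936337)) (BT.leaf (nat_lit 33800217))) (BT.node (nat_lit 6374656) (BT.leaf (nat_lit 22860317)) (BT.leaf (nat_lit 26890773)))) (BT.node (nat_lit 6374912) (BT.node (nat_lit 6374848) (BT.leaf (nat_lit 25498649)) (BT.leaf (nat_lit 21124121))) (BT.node (nat_lit 6374976) (BT.leaf (nat_lit 21733917)) (BT.leaf (nat_lit 21124625))))) (BT.node (nat_lit 6375360) (BT.node (nat_lit 6375168) (BT.node (nat_lit 6375104) (BT.leaf (nat_lit 21733657)) (BT.leaf (nat_lit 25544729))) (BT.node (nat_lit 6375232) (BT.leaf (nat_lit 35943449)) (BT.leaf (nat_lit 25483037)))) (BT.node (nat_lit 6375616) (BT.node (nat_lit 6375552) (BT.leaf (nat_lit 23601173)) (BT.leaf (nat_lit 23724053))) (BT.node (nat_lit 6375680) (BT.leaf (nat_lit 24695329)) (BT.leaf (nat_lit 26602501)))))))) (BT.node (nat_lit 6379648) (BT.node (nat_lit 6377984) (BT.node (nat_lit 6376960) (BT.node (nat_lit 6376320) (BT.node (nat_lit 6375872) (BT.node (nat_lit 6375808) (BT.leaf (nat_lit 26498841)) (BT.leaf (nat_lit 21126933))) (BT.node (nat_lit 6376000) (BT.leaf (nat_lit 36858893)) (BT.leaf (nat_lit 23603221)))) (BT.node (nat_lit 6376640) (BT.node (nat_lit 6376512) (BT.leaf (nat_lit 21127697)) (BT.leaf (nat_lit 35960069))) (BT.node (nat_lit 6376704) (BT.leaf (nat_lit 34934817)) (BT.leaf (nat_lit 30105889))))) (BT.node (nat_lit 6377408) (BT.node (nat_lit 6377280) (BT.node (nat_lit 6377088) (BT.leaf (nat_lit 35962909)) (BT.leaf (nat_lit 21129753))) (BT.node (nat_lit 6377344) (BT.leaf (nat_lit 21130257)) (BT.leaf (nat_lit 35928605)))) (BT.node (nat_lit 6377600) (BT.node (nat_lit 6377536) (BT.leaf (nat_lit 23639585)) (BT.leaf (nat_lit 22189337))) (BT.node (nat_lit 6377664) (BT.leaf (nat_lit 21131297)) (BT.leaf (nat_lit 25326109)))))) (BT.node (nat_lit 6378496) (BT.node (nat_lit 6378240) (BT.node (nat_lit 6378112) (BT.node (nat_lit 6378048) (BT.leaf (nat_lit 35787013)) (BT.leaf (nat_lit 33296917))) (BT.node (nat_lit 6378176) (BT.leaf (nat_lit 25201169)) (BT.leaf (nat_lit 21133845)))) (BT.node (nat_lit 6378368) (BT.node (nat_lit 6378304) (BT.leaf (nat_lit 31550981)) (BT.leaf (nat_lit 21133853))) (BT.node (nat_lit 6378432) (BT.leaf (nat_lit 21134105)) (BT.leaf (nat_lit 21134109))))) (BT.node (nat_lit 6379072) (BT.node (nat_lit 6378944) (BT.node (nat_lit 6378752) (BT.leaf (nat_lit 22387745)) (BT.leaf (nat_lit 25570589))) (BT.node (nat_lit 6379008) (BT.leaf (nat_lit 21533717)) (BT.leaf (nat_lit 35968797)))) (BT.node (nat_lit 6379456) (BT.node (nat_lit 6379136) (BT.leaf (nat_lit 21567513)) (BT.leaf (nat_lit 26905621))) (BT.node (nat_lit 6379584) (BT.leaf (nat_lit 35970833)) (BT.leaf (nat_lit 26059549))))))) (BT.node (nat_lit 6380928) (BT.node (nat_lit 6380160) (BT.node (nat_lit 6379904) (BT.node (nat_lit 6379776) (BT.node (nat_lit 6379712) (BT.leaf (nat_lit 21567517)) (BT.leaf (nat_lit 21137169))) (BT.node (nat_lit 6379840) (BT.leaf (nat_lit 25517849)) (BT.leaf (nat_lit 35867929)))) (BT.node (nat_lit 6380032) (BT.node (nat_lit 6379968) (BT.leaf (nat_lit 22084113)) (BT.leaf (nat_lit 22083857))) (BT.node (nat_lit 6380096) (BT.leaf (nat_lit 21137689)) (BT.leaf (nat_lit 21137693))))) (BT.node (nat_lit 6380672) (BT.node (nat_lit 6380480) (BT.node (nat_lit 6380416) (BT.leaf (nat_lit 21334533)) (BT.leaf (nat_lit 33756933))) (BT.node (nat_lit 6380608) (BT.leaf (nat_lit 21138717)) (BT.leaf (nat_lit 35974933)))) (BT.node (nat_lit 6380800) (BT.node (nat_lit 6380736) (BT.leaf (nat_lit 34300433)) (BT.leaf (nat_lit 21139997))) (BT.node (nat_lit 6380864) (BT.leaf (nat_lit 34300689)) (BT.leaf (nat_lit 21140505)))))) (BT.node (nat_lit 6382016) (BT.node (nat_lit 6381440) (BT.node (nat_lit 6381248) (BT.node (nat_lit 6381056) (BT.leaf (nat_lit 21140509)) (BT.leaf (nat_lit 35900181))) (BT.node (nat_lit 6381312) (BT.leaf (nat_lit 33478917)) (BT.leaf (nat_lit 21143061)))) (BT.node (nat_lit 6381568) (BT.node (nat_lit 6381504) (BT.leaf (nat_lit 25201681)) (BT.leaf (nat_lit 21143305))) (BT.node (nat_lit 6381824) (BT.leaf (nat_lit 26444829)) (BT.leaf (nat_lit 25432597))))) (BT.node (nat_lit 6382720) (BT.node (nat_lit 6382464) (BT.node (nat_lit 6382336) (BT.leaf (nat_lit 34552597)) (BT.leaf (nat_lit 35983393))) (BT.node (nat_lit 6382656) (BT.leaf (nat_lit 35837473)) (BT.leaf (nat_lit 35985173)))) (BT.node (nat_lit 6382848) (BT.node (nat_lit 6382784) (BT.leaf (nat_lit 21145873)) (BT.leaf (nat_lit 24838661))) (BT.node (nat_lit 6382912) (BT.leaf (nat_lit 35697177)) (BT.leaf (nat_lit 21146133)))))))))) (BT.node (nat_lit 6396160) (BT.node (nat_lit 6389760) (BT.node (nat_lit 6385984) (BT.node (nat_lit 6384576) (BT.node (nat_lit 6383680) (BT.node (nat_lit 6383296) (BT.node (nat_lit 6383168) (BT.node (nat_lit 6383040) (BT.leaf (nat_lit 21146633)) (BT.leaf (nat_lit 22849557))) (BT.node (nat_lit 6383232) (BT.leaf (nat_lit 21146653)) (BT.leaf (nat_lit 21146905)))) (BT.node (nat_lit 6383552) (BT.node (nat_lit 6383488) (BT.leaf (nat_lit 21146909)) (BT.leaf (nat_lit 21148937))) (BT.node (nat_lit 6383616) (BT.leaf (nat_lit 21955349)) (BT.leaf (nat_lit 25193989))))) (BT.node (nat_lit 6384064) (BT.node (nat_lit 6383936) (BT.node (nat_lit 6383744) (BT.leaf (nat_lit 26805781)) (BT.leaf (nat_lit 35988245))) (BT.node (nat_lit 6384000) (BT.leaf (nat_lit 21149973)) (BT.leaf (nat_lit 34353437)))) (BT.node (nat_lit 6384448) (BT.node (nat_lit 6384384) (BT.leaf (nat_lit 36250641)) (BT.leaf (nat_lit 25087749))) (BT.node (nat_lit 6384512) (BT.leaf (nat_lit 25299221)) (BT.leaf (nat_lit 25480725)))))) (BT.node (nat_lit 6385280) (BT.node (nat_lit 6384832) (BT.node (nat_lit 6384704) (BT.node (nat_lit 6384640) (BT.leaf (nat_lit 33773077)) (BT.leaf (nat_lit 22056213))) (BT.node (nat_lit 6384768) (BT.leaf (nat_lit 22057241)) (BT.leaf (nat_lit 22046473)))) (BT.node (nat_lit 6385024) (BT.node (nat_lit 6384896) (BT.leaf (nat_lit 22057229)) (BT.leaf (nat_lit 25203205))) (BT.node (nat_lit 6385216) (BT.leaf (nat_lit 52167173)) (BT.leaf (nat_lit 35990805))))) (BT.node (nat_lit 6385600) (BT.node (nat_lit 6385408) (BT.node (nat_lit 6385344) (BT.leaf (nat_lit 35991825)) (BT.leaf (nat_lit 23101717))) (BT.node (nat_lit 6385472) (BT.leaf (nat_lit 25002769)) (BT.leaf (nat_lit 21153049)))) (BT.node (nat_lit 6385792) (BT.node (nat_lit 6385664) (BT.leaf (nat_lit 21153301)) (BT.leaf (nat_lit 21153553))) (BT.node (nat_lit 6385920) (BT.leaf (nat_lit 21154065)) (BT.leaf (nat_lit 21154577))))))) (BT.node (nat_lit 6388160) (BT.node (nat_lit 6386880) (BT.node (nat_lit 6386240) (BT.node (nat_lit 6386112) (BT.node (nat_lit 6386048) (BT.leaf (nat_lit 21154837)) (BT.leaf (nat_lit 21154841))) (BT.node (nat_lit 6386176) (BT.leaf (nat_lit 21154845)) (BT.leaf (nat_lit 21155333)))) (BT.node (nat_lit 6386496) (BT.node (nat_lit 6386304) (BT.leaf (nat_lit 22972165)) (BT.leaf (nat_lit 21167133))) (BT.node (nat_lit 6386624) (BT.leaf (nat_lit 33076229)) (BT.leaf (nat_lit 21156893))))) (BT.node (nat_lit 6387456) (BT.node (nat_lit 6387072) (BT.node (nat_lit 6387008) (BT.leaf (nat_lit 21162005)) (BT.leaf (nat_lit 27349793))) (BT.node (nat_lit 6387136) (BT.leaf (nat_lit 22678793)) (BT.leaf (nat_lit 26406421)))) (BT.node (nat_lit 6387968) (BT.node (nat_lit 6387904) (BT.leaf (nat_lit 24224517)) (BT.leaf (nat_lit 21161237))) (BT.node (nat_lit 6388096) (BT.leaf (nat_lit 21162265)) (BT.leaf (nat_lit 25552669)))))) (BT.node (nat_lit 6388736) (BT.node (nat_lit 6388416) (BT.node (nat_lit 6388288) (BT.node (nat_lit 6388224) (BT.leaf (nat_lit 26722837)) (BT.leaf (nat_lit 26908701))) (BT.node (nat_lit 6388352) (BT.leaf (nat_lit 21163281)) (BT.leaf (nat_lit 27191061)))) (BT.node (nat_lit 6388608) (BT.node (nat_lit 6388480) (BT.leaf (nat_lit 34070805)) (BT.leaf (nat_lit 34070789))) (BT.node (nat_lit 6388672) (BT.leaf (nat_lit 34322713)) (BT.leaf (nat_lit 24851733))))) (BT.node (nat_lit 6389504) (BT.node (nat_lit 6389056) (BT.node (nat_lit 6388864) (BT.leaf (nat_lit 23706397)) (BT.leaf (nat_lit 27959821))) (BT.node (nat_lit 6389120) (BT.leaf (nat_lit 21165585)) (BT.leaf (nat_lit 23114249)))) (BT.node (nat_lit 6389632) (BT.node (nat_lit 6389568) (BT.leaf (nat_lit 30620193)) (BT.leaf (nat_lit 23113481))) (BT.node (nat_lit 6389696) (BT.leaf (nat_lit 25277717)) (BT.leaf (nat_lit 25559069)))))))) (BT.node (nat_lit 6393216) (BT.node (nat_lit 6391808) (BT.node (nat_lit 6391104) (BT.node (nat_lit 6390720) (BT.node (nat_lit 6390144) (BT.node (nat_lit 6389888) (BT.leaf (nat_lit 25983765)) (BT.leaf (nat_lit 51165985))) (BT.node (nat_lit 6390400) (BT.leaf (nat_lit 22268449)) (BT.leaf (nat_lit 21168925)))) (BT.node (nat_lit 6390976) (BT.node (nat_lit 6390848) (BT.leaf (nat_lit 25103637)) (BT.leaf (nat_lit 36004869))) (BT.node (nat_lit 6391040) (BT.leaf (nat_lit 26139417)) (BT.leaf (nat_lit 21761041))))) (BT.node (nat_lit 6391424) (BT.node (nat_lit 6391232) (BT.node (nat_lit 6391168) (BT.leaf (nat_lit 21760273)) (BT.leaf (nat_lit 21760017))) (BT.node (nat_lit 6391296) (BT.leaf (nat_lit 21170713)) (BT.leaf (nat_lit 21170717)))) (BT.node (nat_lit 6391616) (BT.node (nat_lit 6391488) (BT.leaf (nat_lit 25928713)) (BT.leaf (nat_lit 27195413))) (BT.node (nat_lit 6391744) (BT.leaf (nat_lit 36007445)) (BT.leaf (nat_lit 25329181)))))) (BT.node (nat_lit 6392512) (BT.node (nat_lit 6392128) (BT.node (nat_lit 6392000) (BT.node (nat_lit 6391936) (BT.leaf (nat_lit 35520269)) (BT.leaf (nat_lit 36008721))) (BT.node (nat_lit 6392064) (BT.leaf (nat_lit 26338577)) (BT.leaf (nat_lit 21761813)))) (BT.node (nat_lit 6392256) (BT.node (nat_lit 6392192) (BT.leaf (nat_lit 21173785)) (BT.leaf (nat_lit 21173789))) (BT.node (nat_lit 6392320) (BT.leaf (nat_lit 21174289)) (BT.leaf (nat_lit 22530589))))) (BT.node (nat_lit 6392896) (BT.node (nat_lit 6392704) (BT.node (nat_lit 6392640) (BT.leaf (nat_lit 25401881)) (BT.leaf (nat_lit 26001157))) (BT.node (nat_lit 6392768) (BT.leaf (nat_lit 50952209)) (BT.leaf (nat_lit 28641301)))) (BT.node (nat_lit 6393024) (BT.node (nat_lit 6392960) (BT.leaf (nat_lit 22439189)) (BT.leaf (nat_lit 36014097))) (BT.node (nat_lit 6393088) (BT.leaf (nat_lit 21177105)) (BT.leaf (nat_lit 21763601))))))) (BT.node (nat_lit 6394368) (BT.node (nat_lit 6393728) (BT.node (nat_lit 6393472) (BT.node (nat_lit 6393344) (BT.node (nat_lit 6393280) (BT.leaf (nat_lit 36016917)) (BT.leaf (nat_lit 35939341))) (BT.node (nat_lit 6393408) (BT.leaf (nat_lit 21178641)) (BT.leaf (nat_lit 21177369)))) (BT.node (nat_lit 6393600) (BT.node (nat_lit 6393536) (BT.leaf (nat_lit 21177373)) (BT.leaf (nat_lit 21177625))) (BT.node (nat_lit 6393664) (BT.leaf (nat_lit 21177629)) (BT.leaf (nat_lit 21177881))))) (BT.node (nat_lit 6393984) (BT.node (nat_lit 6393856) (BT.node (nat_lit 6393792) (BT.leaf (nat_lit 21177885)) (BT.leaf (nat_lit 21244185))) (BT.node (nat_lit 6393920) (BT.leaf (nat_lit 21178133)) (BT.leaf (nat_lit 21763869)))) (BT.node (nat_lit 6394112) (BT.node (nat_lit 6394048) (BT.leaf (nat_lit 21178385)) (BT.leaf (nat_lit 21178389))) (BT.node (nat_lit 6394176) (BT.leaf (nat_lit 21713177)) (BT.leaf (nat_lit 21178897)))))) (BT.node (nat_lit 6395200) (BT.node (nat_lit 6394944) (BT.node (nat_lit 6394624) (BT.node (nat_lit 6394560) (BT.leaf (nat_lit 33812757)) (BT.leaf (nat_lit 36023057))) (BT.node (nat_lit 6394752) (BT.leaf (nat_lit 21179925)) (BT.leaf (nat_lit 36024853)))) (BT.node (nat_lit 6395072) (BT.node (nat_lit 6395008) (BT.leaf (nat_lit 25584669)) (BT.leaf (nat_lit 33879301))) (BT.node (nat_lit 6395136) (BT.leaf (nat_lit 25580057)) (BT.leaf (nat_lit 25584397))))) (BT.node (nat_lit 6395840) (BT.node (nat_lit 6395456) (BT.node (nat_lit 6395392) (BT.leaf (nat_lit 33252877)) (BT.leaf (nat_lit 21180957))) (BT.node (nat_lit 6395712) (BT.leaf (nat_lit 30929157)) (BT.leaf (nat_lit 24941077)))) (BT.node (nat_lit 6395968) (BT.node (nat_lit 6395904) (BT.leaf (nat_lit 36028693)) (BT.leaf (nat_lit 24145185))) (BT.node (nat_lit 6396096) (BT.leaf (nat_lit 36017685)) (BT.leaf (nat_lit 36029461))))))))) (BT.node (nat_lit 6402240) (BT.node (nat_lit 6399680) (BT.node (nat_lit 6398208) (BT.node (nat_lit 6396672) (BT.node (nat_lit 6396416) (BT.node (nat_lit 6396288) (BT.node (nat_lit 6396224) (BT.leaf (nat_lit 36029969)) (BT.leaf (nat_lit 21184785))) (BT.node (nat_lit 6396352) (BT.leaf (nat_lit 21184789)) (BT.leaf (nat_lit 33211413)))) (BT.node (nat_lit 6396544) (BT.node (nat_lit 6396480) (BT.leaf (nat_lit 25106949)) (BT.leaf (nat_lit 25996049))) (BT.node (nat_lit 6396608) (BT.leaf (nat_lit 25585945)) (BT.leaf (nat_lit 21185813))))) (BT.node (nat_lit 6397312) (BT.node (nat_lit 6396800) (BT.node (nat_lit 6396736) (BT.leaf (nat_lit 28819233)) (BT.leaf (nat_lit 25586713))) (BT.node (nat_lit 6397184) (BT.leaf (nat_lit 21186325)) (BT.leaf (nat_lit 34378773)))) (BT.node (nat_lit 6398016) (BT.node (nat_lit 6397632) (BT.leaf (nat_lit 26248197)) (BT.leaf (nat_lit 35417121))) (BT.node (nat_lit 6398080) (BT.leaf (nat_lit 35827233)) (BT.leaf (nat_lit 26414361)))))) (BT.node (nat_lit 6399040) (BT.node (nat_lit 6398720) (BT.node (nat_lit 6398400) (BT.node (nat_lit 6398336) (BT.leaf (nat_lit 51111449)) (BT.leaf (nat_lit 25593629))) (BT.node (nat_lit 6398464) (BT.leaf (nat_lit 22225169)) (BT.leaf (nat_lit 21189653)))) (BT.node (nat_lit 6398848) (BT.node (nat_lit 6398784) (BT.leaf (nat_lit 21191441)) (BT.leaf (nat_lit 36043029))) (BT.node (nat_lit 6398976) (BT.leaf (nat_lit 28504353)) (BT.leaf (nat_lit 36043797))))) (BT.node (nat_lit 6399296) (BT.node (nat_lit 6399168) (BT.node (nat_lit 6399104) (BT.leaf (nat_lit 36044049)) (BT.leaf (nat_lit 21194257))) (BT.node (nat_lit 6399232) (BT.leaf (nat_lit 21194261)) (BT.leaf (nat_lit 36045341)))) (BT.node (nat_lit 6399552) (BT.node (nat_lit 6399360) (BT.leaf (nat_lit 21194517)) (BT.leaf (nat_lit 36047129))) (BT.node (nat_lit 6399616) (BT.leaf (nat_lit 36046613)) (BT.leaf (nat_lit 21195033))))))) (BT.node (nat_lit 6400960) (BT.node (nat_lit 6400192) (BT.node (nat_lit 6399936) (BT.node (nat_lit 6399808) (BT.node (nat_lit 6399744) (BT.leaf (nat_lit 28439573)) (BT.leaf (nat_lit 21195285))) (BT.node (nat_lit 6399872) (BT.leaf (nat_lit 31714321)) (BT.leaf (nat_lit 35536913)))) (BT.node (nat_lit 6400064) (BT.node (nat_lit 6400000) (BT.leaf (nat_lit 35535633)) (BT.leaf (nat_lit 21195545))) (BT.node (nat_lit 6400128) (BT.leaf (nat_lit 21195549)) (BT.leaf (nat_lit 25352453))))) (BT.node (nat_lit 6400512) (BT.node (nat_lit 6400384) (BT.node (nat_lit 6400256) (BT.leaf (nat_lit 33491997)) (BT.leaf (nat_lit 33145625))) (BT.node (nat_lit 6400448) (BT.leaf (nat_lit 21196569)) (BT.leaf (nat_lit 21196573)))) (BT.node (nat_lit 6400704) (BT.node (nat_lit 6400640) (BT.leaf (nat_lit 21196817)) (BT.leaf (nat_lit 26341149))) (BT.node (nat_lit 6400896) (BT.leaf (nat_lit 25048073)) (BT.leaf (nat_lit 21777681)))))) (BT.node (nat_lit 6401600) (BT.node (nat_lit 6401280) (BT.node (nat_lit 6401088) (BT.node (nat_lit 6401024) (BT.leaf (nat_lit 21777425)) (BT.leaf (nat_lit 21198105))) (BT.node (nat_lit 6401152) (BT.leaf (nat_lit 21198109)) (BT.leaf (nat_lit 21198361)))) (BT.node (nat_lit 6401408) (BT.node (nat_lit 6401344) (BT.leaf (nat_lit 29547789)) (BT.leaf (nat_lit 36053525))) (BT.node (nat_lit 6401536) (BT.leaf (nat_lit 51335965)) (BT.leaf (nat_lit 21199889))))) (BT.node (nat_lit 6401984) (BT.node (nat_lit 6401728) (BT.node (nat_lit 6401664) (BT.leaf (nat_lit 21199905)) (BT.leaf (nat_lit 21200925))) (BT.node (nat_lit 6401792) (BT.leaf (nat_lit 22007569)) (BT.leaf (nat_lit 22600977)))) (BT.node (nat_lit 6402112) (BT.node (nat_lit 6402048) (BT.leaf (nat_lit 25608461)) (BT.leaf (nat_lit 36056581))) (BT.node (nat_lit 6402176) (BT.leaf (nat_lit 36057621)) (BT.leaf (nat_lit 21202961)))))))) (BT.node (nat_lit 6405120) (BT.node (nat_lit 6403968) (BT.node (nat_lit 6403136) (BT.node (nat_lit 6402752) (BT.node (nat_lit 6402624) (BT.node (nat_lit 6402368) (BT.leaf (nat_lit 36058645)) (BT.leaf (nat_lit 36058901))) (BT.node (nat_lit 6402688) (BT.leaf (nat_lit 21203477)) (BT.leaf (nat_lit 21203733)))) (BT.node (nat_lit 6402880) (BT.node (nat_lit 6402816) (BT.leaf (nat_lit 21203989)) (BT.leaf (nat_lit 36060177))) (BT.node (nat_lit 6402944) (BT.leaf (nat_lit 25611289)) (BT.leaf (nat_lit 21204757))))) (BT.node (nat_lit 6403456) (BT.node (nat_lit 6403264) (BT.node (nat_lit 6403200) (BT.leaf (nat_lit 36061201)) (BT.leaf (nat_lit 26435077))) (BT.node (nat_lit 6403392) (BT.leaf (nat_lit 29008161)) (BT.leaf (nat_lit 36062237)))) (BT.node (nat_lit 6403712) (BT.node (nat_lit 6403520) (BT.leaf (nat_lit 21206549)) (BT.leaf (nat_lit 25597445))) (BT.node (nat_lit 6403840) (BT.leaf (nat_lit 25910289)) (BT.leaf (nat_lit 21207829)))))) (BT.node (nat_lit 6404608) (BT.node (nat_lit 6404352) (BT.node (nat_lit 6404224) (BT.node (nat_lit 6404160) (BT.leaf (nat_lit 21208081)) (BT.leaf (nat_lit 25905945))) (BT.node (nat_lit 6404288) (BT.leaf (nat_lit 25060373)) (BT.leaf (nat_lit 25616905)))) (BT.node (nat_lit 6404480) (BT.node (nat_lit 6404416) (BT.leaf (nat_lit 21789205)) (BT.leaf (nat_lit 28295957))) (BT.node (nat_lit 6404544) (BT.leaf (nat_lit 35641877)) (BT.leaf (nat_lit 21209113))))) (BT.node (nat_lit 6404864) (BT.node (nat_lit 6404736) (BT.node (nat_lit 6404672) (BT.leaf (nat_lit 24875029)) (BT.leaf (nat_lit 21209361))) (BT.node (nat_lit 6404800) (BT.leaf (nat_lit 21209617)) (BT.leaf (nat_lit 21209633)))) (BT.node (nat_lit 6404992) (BT.node (nat_lit 6404928) (BT.leaf (nat_lit 21209873)) (BT.leaf (nat_lit 25062425))) (BT.node (nat_lit 6405056) (BT.leaf (nat_lit 21210141)) (BT.leaf (nat_lit 46687249))))))) (BT.node (nat_lit 6406528) (BT.node (nat_lit 6405888) (BT.node (nat_lit 6405568) (BT.node (nat_lit 6405440) (BT.node (nat_lit 6405376) (BT.leaf (nat_lit 33617429)) (BT.leaf (nat_lit 21210905))) (BT.node (nat_lit 6405504) (BT.leaf (nat_lit 36070421)) (BT.leaf (nat_lit 21211157)))) (BT.node (nat_lit 6405760) (BT.node (nat_lit 6405696) (BT.leaf (nat_lit 24501521)) (BT.leaf (nat_lit 36072465))) (BT.node (nat_lit 6405824) (BT.leaf (nat_lit 36072721)) (BT.leaf (nat_lit 36072985))))) (BT.node (nat_lit 6406208) (BT.node (nat_lit 6406080) (BT.node (nat_lit 6405952) (BT.leaf (nat_lit 21211417)) (BT.leaf (nat_lit 21211421))) (BT.node (nat_lit 6406144) (BT.leaf (nat_lit 24912921)) (BT.leaf (nat_lit 21212945)))) (BT.node (nat_lit 6406336) (BT.node (nat_lit 6406272) (BT.leaf (nat_lit 24947485)) (BT.leaf (nat_lit 37178129))) (BT.node (nat_lit 6406400) (BT.leaf (nat_lit 25625113)) (BT.leaf (nat_lit 36074773)))))) (BT.node (nat_lit 6407232) (BT.node (nat_lit 6406848) (BT.node (nat_lit 6406656) (BT.node (nat_lit 6406592) (BT.leaf (nat_lit 36076065)) (BT.leaf (nat_lit 36076309))) (BT.node (nat_lit 6406720) (BT.leaf (nat_lit 22451985)) (BT.leaf (nat_lit 22498593)))) (BT.node (nat_lit 6407104) (BT.node (nat_lit 6406976) (BT.leaf (nat_lit 22407701)) (BT.leaf (nat_lit 36077585))) (BT.node (nat_lit 6407168) (BT.leaf (nat_lit 35196677)) (BT.leaf (nat_lit 37108497))))) (BT.node (nat_lit 6407488) (BT.node (nat_lit 6407360) (BT.node (nat_lit 6407296) (BT.leaf (nat_lit 25628697)) (BT.leaf (nat_lit 36078353))) (BT.node (nat_lit 6407424) (BT.leaf (nat_lit 37108489)) (BT.leaf (nat_lit 47868677)))) (BT.node (nat_lit 6407744) (BT.node (nat_lit 6407680) (BT.leaf (nat_lit 21215249)) (BT.leaf (nat_lit 22059801))) (BT.node (nat_lit 6407808) (BT.leaf (nat_lit 36079889)) (BT.leaf (nat_lit 21793301))))))))))) (BT.node (nat_lit 6431936) (BT.node (nat_lit 6420352) (BT.node (nat_lit 6414208) (BT.node (nat_lit 6411456) (BT.node (nat_lit 6409408) (BT.node (nat_lit 6408576) (BT.node (nat_lit 6408192) (BT.node (nat_lit 6408064) (BT.node (nat_lit 6408000) (BT.leaf (nat_lit 28920089)) (BT.leaf (nat_lit 26735393))) (BT.node (nat_lit 6408128) (BT.leaf (nat_lit 26735649)) (BT.leaf (nat_lit 36081181)))) (BT.node (nat_lit 6408448) (BT.node (nat_lit 6408256) (BT.leaf (nat_lit 26735905)) (BT.leaf (nat_lit 23087905))) (BT.node (nat_lit 6408512) (BT.leaf (nat_lit 21217809)) (BT.leaf (nat_lit 23758877))))) (BT.node (nat_lit 6408832) (BT.node (nat_lit 6408704) (BT.node (nat_lit 6408640) (BT.leaf (nat_lit 23918341)) (BT.leaf (nat_lit 47985929))) (BT.node (nat_lit 6408768) (BT.leaf (nat_lit 36083217)) (BT.leaf (nat_lit 21218841)))) (BT.node (nat_lit 6408960) (BT.node (nat_lit 6408896) (BT.leaf (nat_lit 21218845)) (BT.leaf (nat_lit 36083221))) (BT.node (nat_lit 6409024) (BT.leaf (nat_lit 21219357)) (BT.leaf (nat_lit 21219617)))))) (BT.node (nat_lit 6410816) (BT.node (nat_lit 6410240) (BT.node (nat_lit 6409984) (BT.node (nat_lit 6409472) (BT.leaf (nat_lit 48724513)) (BT.leaf (nat_lit 21220637))) (BT.node (nat_lit 6410112) (BT.leaf (nat_lit 33549829)) (BT.leaf (nat_lit 49884177)))) (BT.node (nat_lit 6410496) (BT.node (nat_lit 6410432) (BT.leaf (nat_lit 25270533)) (BT.leaf (nat_lit 25270021))) (BT.node (nat_lit 6410752) (BT.leaf (nat_lit 50554629)) (BT.leaf (nat_lit 25084193))))) (BT.node (nat_lit 6411136) (BT.node (nat_lit 6411008) (BT.node (nat_lit 6410944) (BT.leaf (nat_lit 21225233)) (BT.leaf (nat_lit 21225753))) (BT.node (nat_lit 6411072) (BT.leaf (nat_lit 21225757)) (BT.leaf (nat_lit 36092441)))) (BT.node (nat_lit 6411328) (BT.node (nat_lit 6411264) (BT.leaf (nat_lit 27425553)) (BT.leaf (nat_lit 25645341))) (BT.node (nat_lit 6411392) (BT.leaf (nat_lit 36093201)) (BT.leaf (nat_lit 25761029))))))) (BT.node (nat_lit 6412928) (BT.node (nat_lit 6412032) (BT.node (nat_lit 6411776) (BT.node (nat_lit 6411584) (BT.node (nat_lit 6411520) (BT.leaf (nat_lit 33428509)) (BT.leaf (nat_lit 25646365))) (BT.node (nat_lit 6411648) (BT.leaf (nat_lit 35749905)) (BT.leaf (nat_lit 21228049)))) (BT.node (nat_lit 6411904) (BT.node (nat_lit 6411840) (BT.leaf (nat_lit 21228309)) (BT.leaf (nat_lit 28256261))) (BT.node (nat_lit 6411968) (BT.leaf (nat_lit 35208737)) (BT.leaf (nat_lit 21228821))))) (BT.node (nat_lit 6412352) (BT.node (nat_lit 6412224) (BT.node (nat_lit 6412160) (BT.leaf (nat_lit 34562581)) (BT.leaf (nat_lit 27057177))) (BT.node (nat_lit 6412288) (BT.leaf (nat_lit 35847953)) (BT.leaf (nat_lit 26716953)))) (BT.node (nat_lit 6412736) (BT.node (nat_lit 6412416) (BT.leaf (nat_lit 25290269)) (BT.leaf (nat_lit 35889433))) (BT.node (nat_lit 6412864) (BT.leaf (nat_lit 33140229)) (BT.leaf (nat_lit 36097553)))))) (BT.node (nat_lit 6413440) (BT.node (nat_lit 6413184) (BT.node (nat_lit 6413056) (BT.node (nat_lit 6412992) (BT.leaf (nat_lit 22182161)) (BT.leaf (nat_lit 25023749))) (BT.node (nat_lit 6413120) (BT.leaf (nat_lit 24915993)) (BT.leaf (nat_lit 24915997)))) (BT.node (nat_lit 6413312) (BT.node (nat_lit 6413248) (BT.leaf (nat_lit 21232657)) (BT.leaf (nat_lit 25027089))) (BT.node (nat_lit 6413376) (BT.leaf (nat_lit 21233425)) (BT.leaf (nat_lit 21233685))))) (BT.node (nat_lit 6413888) (BT.node (nat_lit 6413696) (BT.node (nat_lit 6413504) (BT.leaf (nat_lit 21233689)) (BT.leaf (nat_lit 33326341))) (BT.node (nat_lit 6413824) (BT.leaf (nat_lit 21235225)) (BT.leaf (nat_lit 25655581)))) (BT.node (nat_lit 6414080) (BT.node (nat_lit 6414016) (BT.leaf (nat_lit 35183377)) (BT.leaf (nat_lit 21236241))) (BT.node (nat_lit 6414144) (BT.leaf (nat_lit 36101149)) (BT.leaf (nat_lit 27351073)))))))) (BT.node (nat_lit 6416768) (BT.node (nat_lit 6415360) (BT.node (nat_lit 6414784) (BT.node (nat_lit 6414464) (BT.node (nat_lit 6414336) (BT.node (nat_lit 6414272) (BT.leaf (nat_lit 21237525)) (BT.leaf (nat_lit 31736853))) (BT.node (nat_lit 6414400) (BT.leaf (nat_lit 36102165)) (BT.leaf (nat_lit 36102149)))) (BT.node (nat_lit 6414592) (BT.node (nat_lit 6414528) (BT.leaf (nat_lit 27351325)) (BT.leaf (nat_lit 21864225))) (BT.node (nat_lit 6414720) (BT.leaf (nat_lit 26973977)) (BT.leaf (nat_lit 21238801))))) (BT.node (nat_lit 6415104) (BT.node (nat_lit 6414976) (BT.node (nat_lit 6414848) (BT.leaf (nat_lit 21239057)) (BT.leaf (nat_lit 25634821))) (BT.node (nat_lit 6415040) (BT.leaf (nat_lit 36104733)) (BT.leaf (nat_lit 49870873)))) (BT.node (nat_lit 6415232) (BT.node (nat_lit 6415168) (BT.leaf (nat_lit 21240081)) (BT.leaf (nat_lit 24649501))) (BT.node (nat_lit 6415296) (BT.leaf (nat_lit 21240609)) (BT.leaf (nat_lit 21240857)))))) (BT.node (nat_lit 6416128) (BT.node (nat_lit 6415872) (BT.node (nat_lit 6415680) (BT.node (nat_lit 6415552) (BT.leaf (nat_lit 21240861)) (BT.leaf (nat_lit 21242129))) (BT.node (nat_lit 6415744) (BT.leaf (nat_lit 23153929)) (BT.leaf (nat_lit 23085589)))) (BT.node (nat_lit 6416000) (BT.node (nat_lit 6415936) (BT.leaf (nat_lit 21242897)) (BT.leaf (nat_lit 21243153))) (BT.node (nat_lit 6416064) (BT.leaf (nat_lit 21728289)) (BT.leaf (nat_lit 21729057))))) (BT.node (nat_lit 6416384) (BT.node (nat_lit 6416256) (BT.node (nat_lit 6416192) (BT.leaf (nat_lit 21243665)) (BT.leaf (nat_lit 25283357))) (BT.node (nat_lit 6416320) (BT.leaf (nat_lit 36107793)) (BT.leaf (nat_lit 21244189)))) (BT.node (nat_lit 6416640) (BT.node (nat_lit 6416576) (BT.leaf (nat_lit 21244425)) (BT.leaf (nat_lit 27159581))) (BT.node (nat_lit 6416704) (BT.leaf (nat_lit 36108817)) (BT.leaf (nat_lit 36109597))))))) (BT.node (nat_lit 6418496) (BT.node (nat_lit 6417664) (BT.node (nat_lit 6417088) (BT.node (nat_lit 6416896) (BT.node (nat_lit 6416832) (BT.leaf (nat_lit 36109329)) (BT.leaf (nat_lit 35743517))) (BT.node (nat_lit 6416960) (BT.leaf (nat_lit 21454353)) (BT.leaf (nat_lit 25667609)))) (BT.node (nat_lit 6417408) (BT.node (nat_lit 6417280) (BT.leaf (nat_lit 27352605)) (BT.leaf (nat_lit 36112149))) (BT.node (nat_lit 6417472) (BT.leaf (nat_lit 29769249)) (BT.leaf (nat_lit 36112657))))) (BT.node (nat_lit 6418112) (BT.node (nat_lit 6417792) (BT.node (nat_lit 6417728) (BT.leaf (nat_lit 21249041)) (BT.leaf (nat_lit 21249297))) (BT.node (nat_lit 6417856) (BT.leaf (nat_lit 21249553)) (BT.leaf (nat_lit 49794821)))) (BT.node (nat_lit 6418240) (BT.node (nat_lit 6418176) (BT.leaf (nat_lit 21250321)) (BT.leaf (nat_lit 21250585))) (BT.node (nat_lit 6418432) (BT.leaf (nat_lit 21250589)) (BT.leaf (nat_lit 36118033)))))) (BT.node (nat_lit 6419712) (BT.node (nat_lit 6419136) (BT.node (nat_lit 6418688) (BT.node (nat_lit 6418560) (BT.leaf (nat_lit 25673753)) (BT.leaf (nat_lit 21251857))) (BT.node (nat_lit 6418944) (BT.leaf (nat_lit 21252369)) (BT.leaf (nat_lit 33416969)))) (BT.node (nat_lit 6419584) (BT.node (nat_lit 6419392) (BT.leaf (nat_lit 36119565)) (BT.leaf (nat_lit 34138885))) (BT.node (nat_lit 6419648) (BT.leaf (nat_lit 21256473)) (BT.leaf (nat_lit 21256477))))) (BT.node (nat_lit 6420032) (BT.node (nat_lit 6419904) (BT.node (nat_lit 6419840) (BT.leaf (nat_lit 21257489)) (BT.leaf (nat_lit 21257745))) (BT.node (nat_lit 6419968) (BT.leaf (nat_lit 33757461)) (BT.leaf (nat_lit 25664773)))) (BT.node (nat_lit 6420160) (BT.node (nat_lit 6420096) (BT.leaf (nat_lit 36123665)) (BT.leaf (nat_lit 35657493))) (BT.node (nat_lit 6420224) (BT.leaf (nat_lit 35312901)) (BT.leaf (nat_lit 21824021))))))))) (BT.node (nat_lit 6426624) (BT.node (nat_lit 6424064) (BT.node (nat_lit 6422208) (BT.node (nat_lit 6421120) (BT.node (nat_lit 6420672) (BT.node (nat_lit 6420480) (BT.node (nat_lit 6420416) (BT.leaf (nat_lit 27562781)) (BT.leaf (nat_lit 24033817))) (BT.node (nat_lit 6420544) (BT.leaf (nat_lit 33037577)) (BT.leaf (nat_lit 36124949)))) (BT.node (nat_lit 6420928) (BT.node (nat_lit 6420800) (BT.leaf (nat_lit 28772377)) (BT.leaf (nat_lit 36125725))) (BT.node (nat_lit 6420992) (BT.leaf (nat_lit 23172885)) (BT.leaf (nat_lit 36126497))))) (BT.node (nat_lit 6421504) (BT.node (nat_lit 6421312) (BT.node (nat_lit 6421248) (BT.leaf (nat_lit 37284897)) (BT.leaf (nat_lit 22661405))) (BT.node (nat_lit 6421440) (BT.leaf (nat_lit 21263121)) (BT.leaf (nat_lit 36128021)))) (BT.node (nat_lit 6421888) (BT.node (nat_lit 6421696) (BT.leaf (nat_lit 36129041)) (BT.leaf (nat_lit 21263889))) (BT.node (nat_lit 6421952) (BT.leaf (nat_lit 51662601)) (BT.leaf (nat_lit 51663113)))))) (BT.node (nat_lit 6422912) (BT.node (nat_lit 6422656) (BT.node (nat_lit 6422336) (BT.node (nat_lit 6422272) (BT.leaf (nat_lit 26342165)) (BT.leaf (nat_lit 21266193))) (BT.node (nat_lit 6422592) (BT.leaf (nat_lit 49994757)) (BT.leaf (nat_lit 25778209)))) (BT.node (nat_lit 6422784) (BT.node (nat_lit 6422720) (BT.leaf (nat_lit 21267481)) (BT.leaf (nat_lit 21267485))) (BT.node (nat_lit 6422848) (BT.leaf (nat_lit 25845785)) (BT.leaf (nat_lit 21990409))))) (BT.node (nat_lit 6423232) (BT.node (nat_lit 6423104) (BT.node (nat_lit 6423040) (BT.leaf (nat_lit 35674641)) (BT.leaf (nat_lit 21782549))) (BT.node (nat_lit 6423168) (BT.leaf (nat_lit 23590689)) (BT.leaf (nat_lit 25050397)))) (BT.node (nat_lit 6423680) (BT.node (nat_lit 6423488) (BT.leaf (nat_lit 21270289)) (BT.leaf (nat_lit 33367833))) (BT.node (nat_lit 6424000) (BT.leaf (nat_lit 27561493)) (BT.leaf (nat_lit 21272849))))))) (BT.node (nat_lit 6425216) (BT.node (nat_lit 6424640) (BT.node (nat_lit 6424384) (BT.node (nat_lit 6424192) (BT.node (nat_lit 6424128) (BT.leaf (nat_lit 25696541)) (BT.leaf (nat_lit 36136977))) (BT.node (nat_lit 6424256) (BT.leaf (nat_lit 26948893)) (BT.leaf (nat_lit 36137221)))) (BT.node (nat_lit 6424512) (BT.node (nat_lit 6424448) (BT.leaf (nat_lit 21792517)) (BT.leaf (nat_lit 21274129))) (BT.node (nat_lit 6424576) (BT.leaf (nat_lit 35807505)) (BT.leaf (nat_lit 25327889))))) (BT.node (nat_lit 6424960) (BT.node (nat_lit 6424768) (BT.node (nat_lit 6424704) (BT.leaf (nat_lit 35810073)) (BT.leaf (nat_lit 21274649))) (BT.node (nat_lit 6424896) (BT.leaf (nat_lit 21274653)) (BT.leaf (nat_lit 25400845)))) (BT.node (nat_lit 6425088) (BT.node (nat_lit 6425024) (BT.leaf (nat_lit 25700125)) (BT.leaf (nat_lit 33060613))) (BT.node (nat_lit 6425152) (BT.leaf (nat_lit 21275409)) (BT.leaf (nat_lit 24163865)))))) (BT.node (nat_lit 6425984) (BT.node (nat_lit 6425536) (BT.node (nat_lit 6425344) (BT.node (nat_lit 6425280) (BT.leaf (nat_lit 21835281)) (BT.leaf (nat_lit 21275933))) (BT.node (nat_lit 6425408) (BT.leaf (nat_lit 36140569)) (BT.leaf (nat_lit 33413137)))) (BT.node (nat_lit 6425728) (BT.node (nat_lit 6425664) (BT.leaf (nat_lit 21277209)) (BT.leaf (nat_lit 25702925))) (BT.node (nat_lit 6425856) (BT.leaf (nat_lit 31168789)) (BT.leaf (nat_lit 36141845))))) (BT.node (nat_lit 6426240) (BT.node (nat_lit 6426112) (BT.node (nat_lit 6426048) (BT.leaf (nat_lit 25703453)) (BT.leaf (nat_lit 22852125))) (BT.node (nat_lit 6426176) (BT.leaf (nat_lit 21278997)) (BT.leaf (nat_lit 36143641)))) (BT.node (nat_lit 6426432) (BT.node (nat_lit 6426304) (BT.leaf (nat_lit 35222293)) (BT.leaf (nat_lit 21856285))) (BT.node (nat_lit 6426496) (BT.leaf (nat_lit 33249541)) (BT.leaf (nat_lit 36145157)))))))) (BT.node (nat_lit 6429504) (BT.node (nat_lit 6428160) (BT.node (nat_lit 6427392) (BT.node (nat_lit 6426880) (BT.node (nat_lit 6426752) (BT.node (nat_lit 6426688) (BT.leaf (nat_lit 21280281)) (BT.leaf (nat_lit 21280285))) (BT.node (nat_lit 6426816) (BT.leaf (nat_lit 21858841)) (BT.leaf (nat_lit 36146717)))) (BT.node (nat_lit 6427136) (BT.node (nat_lit 6426944) (BT.leaf (nat_lit 36146193)) (BT.leaf (nat_lit 25707549))) (BT.node (nat_lit 6427328) (BT.leaf (nat_lit 51095573)) (BT.leaf (nat_lit 21283101))))) (BT.node (nat_lit 6427840) (BT.node (nat_lit 6427520) (BT.node (nat_lit 6427456) (BT.leaf (nat_lit 36148765)) (BT.leaf (nat_lit 25583885))) (BT.node (nat_lit 6427648) (BT.leaf (nat_lit 21283605)) (BT.leaf (nat_lit 21283613)))) (BT.node (nat_lit 6428032) (BT.node (nat_lit 6427904) (BT.leaf (nat_lit 21284113)) (BT.leaf (nat_lit 50416649))) (BT.node (nat_lit 6428096) (BT.leaf (nat_lit 25905925)) (BT.leaf (nat_lit 26688545)))))) (BT.node (nat_lit 6428864) (BT.node (nat_lit 6428480) (BT.node (nat_lit 6428352) (BT.node (nat_lit 6428288) (BT.leaf (nat_lit 35555093)) (BT.leaf (nat_lit 33165841))) (BT.node (nat_lit 6428416) (BT.leaf (nat_lit 25600541)) (BT.leaf (nat_lit 26031897)))) (BT.node (nat_lit 6428736) (BT.node (nat_lit 6428544) (BT.leaf (nat_lit 36152349)) (BT.leaf (nat_lit 52414237))) (BT.node (nat_lit 6428800) (BT.leaf (nat_lit 28174109)) (BT.leaf (nat_lit 21286673))))) (BT.node (nat_lit 6429184) (BT.node (nat_lit 6429056) (BT.node (nat_lit 6428928) (BT.leaf (nat_lit 35983893)) (BT.leaf (nat_lit 28753937))) (BT.node (nat_lit 6429120) (BT.leaf (nat_lit 28437277)) (BT.leaf (nat_lit 21287701)))) (BT.node (nat_lit 6429376) (BT.node (nat_lit 6429312) (BT.leaf (nat_lit 21287957)) (BT.leaf (nat_lit 25717533))) (BT.node (nat_lit 6429440) (BT.leaf (nat_lit 33947153)) (BT.leaf (nat_lit 27198237))))))) (BT.node (nat_lit 6430592) (BT.node (nat_lit 6430080) (BT.node (nat_lit 6429760) (BT.node (nat_lit 6429632) (BT.node (nat_lit 6429568) (BT.leaf (nat_lit 22290949)) (BT.leaf (nat_lit 25718041))) (BT.node (nat_lit 6429696) (BT.leaf (nat_lit 25718813)) (BT.leaf (nat_lit 36157201)))) (BT.node (nat_lit 6429952) (BT.node (nat_lit 6429824) (BT.leaf (nat_lit 21825029)) (BT.leaf (nat_lit 25719065))) (BT.node (nat_lit 6430016) (BT.leaf (nat_lit 26520837)) (BT.leaf (nat_lit 26904601))))) (BT.node (nat_lit 6430336) (BT.node (nat_lit 6430208) (BT.node (nat_lit 6430144) (BT.leaf (nat_lit 21289749)) (BT.leaf (nat_lit 21882645))) (BT.node (nat_lit 6430272) (BT.leaf (nat_lit 21290269)) (BT.leaf (nat_lit 21290769)))) (BT.node (nat_lit 6430464) (BT.node (nat_lit 6430400) (BT.leaf (nat_lit 21882653)) (BT.leaf (nat_lit 21882393))) (BT.node (nat_lit 6430528) (BT.leaf (nat_lit 21291025)) (BT.leaf (nat_lit 25782301)))))) (BT.node (nat_lit 6431296) (BT.node (nat_lit 6430912) (BT.node (nat_lit 6430784) (BT.node (nat_lit 6430720) (BT.leaf (nat_lit 21291281)) (BT.leaf (nat_lit 21291541))) (BT.node (nat_lit 6430848) (BT.leaf (nat_lit 36162321)) (BT.leaf (nat_lit 25723161)))) (BT.node (nat_lit 6431168) (BT.node (nat_lit 6431040) (BT.leaf (nat_lit 27596821)) (BT.leaf (nat_lit 21292317))) (BT.node (nat_lit 6431232) (BT.leaf (nat_lit 22138129)) (BT.leaf (nat_lit 23039769))))) (BT.node (nat_lit 6431680) (BT.node (nat_lit 6431488) (BT.node (nat_lit 6431424) (BT.leaf (nat_lit 23039773)) (BT.leaf (nat_lit 36168989))) (BT.node (nat_lit 6431616) (BT.leaf (nat_lit 32906501)) (BT.leaf (nat_lit 36165641)))) (BT.node (nat_lit 6431808) (BT.node (nat_lit 6431744) (BT.leaf (nat_lit 36166421)) (BT.leaf (nat_lit 34729993))) (BT.node (nat_lit 6431872) (BT.leaf (nat_lit 36166673)) (BT.leaf (nat_lit 36166933)))))))))) (BT.node (nat_lit 6443648) (BT.node (nat_lit 6438592) (BT.node (nat_lit 6435712) (BT.node (nat_lit 6433216) (BT.node (nat_lit 6432576) (BT.node (nat_lit 6432256) (BT.node (nat_lit 6432128) (BT.node (nat_lit 6432064) (BT.leaf (nat_lit 36167957)) (BT.leaf (nat_lit 22140445))) (BT.node (nat_lit 6432192) (BT.leaf (nat_lit 34737161)) (BT.leaf (nat_lit 33350921)))) (BT.node (nat_lit 6432384) (BT.node (nat_lit 6432320) (BT.leaf (nat_lit 33436677)) (BT.leaf (nat_lit 22379781))) (BT.node (nat_lit 6432448) (BT.leaf (nat_lit 21296665)) (BT.leaf (nat_lit 21296669))))) (BT.node (nat_lit 6432832) (BT.node (nat_lit 6432704) (BT.node (nat_lit 6432640) (BT.leaf (nat_lit 33308677)) (BT.leaf (nat_lit 21297669))) (BT.node (nat_lit 6432768) (BT.leaf (nat_lit 21298185)) (BT.leaf (nat_lit 22807317)))) (BT.node (nat_lit 6432960) (BT.node (nat_lit 6432896) (BT.leaf (nat_lit 35800581)) (BT.leaf (nat_lit 35800593))) (BT.node (nat_lit 6433024) (BT.leaf (nat_lit 27058181)) (BT.leaf (nat_lit 27058193)))))) (BT.node (nat_lit 6434368) (BT.node (nat_lit 6433920) (BT.node (nat_lit 6433344) (BT.node (nat_lit 6433280) (BT.leaf (nat_lit 21770009)) (BT.leaf (nat_lit 21299217))) (BT.node (nat_lit 6433472) (BT.leaf (nat_lit 21299485)) (BT.leaf (nat_lit 22708485)))) (BT.node (nat_lit 6434112) (BT.node (nat_lit 6433984) (BT.leaf (nat_lit 49071113)) (BT.leaf (nat_lit 24330777))) (BT.node (nat_lit 6434240) (BT.leaf (nat_lit 33531425)) (BT.leaf (nat_lit 26559253))))) (BT.node (nat_lit 6435392) (BT.node (nat_lit 6434880) (BT.node (nat_lit 6434496) (BT.leaf (nat_lit 36175633)) (BT.leaf (nat_lit 36175893))) (BT.node (nat_lit 6435328) (BT.leaf (nat_lit 26558749)) (BT.leaf (nat_lit 23678737)))) (BT.node (nat_lit 6435520) (BT.node (nat_lit 6435456) (BT.leaf (nat_lit 21303837)) (BT.leaf (nat_lit 21906709))) (BT.node (nat_lit 6435648) (BT.leaf (nat_lit 34770693)) (BT.leaf (nat_lit 36178961))))))) (BT.node (nat_lit 6437120) (BT.node (nat_lit 6436288) (BT.node (nat_lit 6436032) (BT.node (nat_lit 6435840) (BT.node (nat_lit 6435776) (BT.leaf (nat_lit 21304593)) (BT.leaf (nat_lit 26639133))) (BT.node (nat_lit 6435904) (BT.leaf (nat_lit 22355737)) (BT.leaf (nat_lit 21305105)))) (BT.node (nat_lit 6436160) (BT.node (nat_lit 6436096) (BT.leaf (nat_lit 21305361)) (BT.leaf (nat_lit 33471261))) (BT.node (nat_lit 6436224) (BT.leaf (nat_lit 21906973)) (BT.leaf (nat_lit 21305617))))) (BT.node (nat_lit 6436864) (BT.node (nat_lit 6436480) (BT.node (nat_lit 6436352) (BT.leaf (nat_lit 25564441)) (BT.leaf (nat_lit 37694737))) (BT.node (nat_lit 6436800) (BT.leaf (nat_lit 26658833)) (BT.leaf (nat_lit 33304865)))) (BT.node (nat_lit 6436992) (BT.node (nat_lit 6436928) (BT.leaf (nat_lit 36184593)) (BT.leaf (nat_lit 33538581))) (BT.node (nat_lit 6437056) (BT.leaf (nat_lit 33691157)) (BT.leaf (nat_lit 36185605)))))) (BT.node (nat_lit 6437952) (BT.node (nat_lit 6437440) (BT.node (nat_lit 6437248) (BT.node (nat_lit 6437184) (BT.leaf (nat_lit 29896965)) (BT.leaf (nat_lit 21852433))) (BT.node (nat_lit 6437312) (BT.leaf (nat_lit 21851921)) (BT.leaf (nat_lit 21308697)))) (BT.node (nat_lit 6437568) (BT.node (nat_lit 6437504) (BT.leaf (nat_lit 27108369)) (BT.leaf (nat_lit 22196497))) (BT.node (nat_lit 6437888) (BT.leaf (nat_lit 26193949)) (BT.leaf (nat_lit 21309981))))) (BT.node (nat_lit 6438208) (BT.node (nat_lit 6438080) (BT.node (nat_lit 6438016) (BT.leaf (nat_lit 35661833)) (BT.leaf (nat_lit 33081117))) (BT.node (nat_lit 6438144) (BT.leaf (nat_lit 51181829)) (BT.leaf (nat_lit 36630797)))) (BT.node (nat_lit 6438336) (BT.node (nat_lit 6438272) (BT.leaf (nat_lit 22603805)) (BT.leaf (nat_lit 35342609))) (BT.node (nat_lit 6438400) (BT.leaf (nat_lit 21857045)) (BT.leaf (nat_lit 21311765)))))))) (BT.node (nat_lit 6441152) (BT.node (nat_lit 6440064) (BT.node (nat_lit 6439360) (BT.node (nat_lit 6439104) (BT.node (nat_lit 6438784) (BT.node (nat_lit 6438720) (BT.leaf (nat_lit 22395653)) (BT.leaf (nat_lit 33141273))) (BT.node (nat_lit 6438848) (BT.leaf (nat_lit 21858845)) (BT.leaf (nat_lit 26434845)))) (BT.node (nat_lit 6439232) (BT.node (nat_lit 6439168) (BT.leaf (nat_lit 24052245)) (BT.leaf (nat_lit 33500169))) (BT.node (nat_lit 6439296) (BT.leaf (nat_lit 34378501)) (BT.leaf (nat_lit 50241285))))) (BT.node (nat_lit 6439680) (BT.node (nat_lit 6439488) (BT.node (nat_lit 6439424) (BT.leaf (nat_lit 21314845)) (BT.leaf (nat_lit 36192285))) (BT.node (nat_lit 6439616) (BT.leaf (nat_lit 25270549)) (BT.leaf (nat_lit 36193045)))) (BT.node (nat_lit 6439936) (BT.node (nat_lit 6439744) (BT.leaf (nat_lit 48065305)) (BT.leaf (nat_lit 21317393))) (BT.node (nat_lit 6440000) (BT.leaf (nat_lit 30615557)) (BT.leaf (nat_lit 25776661)))))) (BT.node (nat_lit 6440576) (BT.node (nat_lit 6440320) (BT.node (nat_lit 6440192) (BT.node (nat_lit 6440128) (BT.leaf (nat_lit 25760009)) (BT.leaf (nat_lit 29026593))) (BT.node (nat_lit 6440256) (BT.leaf (nat_lit 21318173)) (BT.leaf (nat_lit 21318417)))) (BT.node (nat_lit 6440448) (BT.node (nat_lit 6440384) (BT.leaf (nat_lit 25089305)) (BT.leaf (nat_lit 21318673))) (BT.node (nat_lit 6440512) (BT.leaf (nat_lit 25776413)) (BT.leaf (nat_lit 21319441))))) (BT.node (nat_lit 6440896) (BT.node (nat_lit 6440704) (BT.node (nat_lit 6440640) (BT.leaf (nat_lit 21319697)) (BT.leaf (nat_lit 21632029))) (BT.node (nat_lit 6440832) (BT.leaf (nat_lit 21320737)) (BT.leaf (nat_lit 36198929)))) (BT.node (nat_lit 6441024) (BT.node (nat_lit 6440960) (BT.leaf (nat_lit 27045145)) (BT.leaf (nat_lit 21321237))) (BT.node (nat_lit 6441088) (BT.leaf (nat_lit 27249425)) (BT.leaf (nat_lit 25978653))))))) (BT.node (nat_lit 6442246) (BT.node (nat_lit 6441792) (BT.node (nat_lit 6441472) (BT.node (nat_lit 6441280) (BT.node (nat_lit 6441216) (BT.leaf (nat_lit 21321493)) (BT.leaf (nat_lit 21321761))) (BT.node (nat_lit 6441344) (BT.leaf (nat_lit 22152225)) (BT.leaf (nat_lit 22152481)))) (BT.node (nat_lit 6441600) (BT.node (nat_lit 6441536) (BT.leaf (nat_lit 21322257)) (BT.leaf (nat_lit 26800669))) (BT.node (nat_lit 6441728) (BT.leaf (nat_lit 25228297)) (BT.leaf (nat_lit 25199649))))) (BT.node (nat_lit 6442112) (BT.node (nat_lit 6441920) (BT.node (nat_lit 6441856) (BT.leaf (nat_lit 27227925)) (BT.leaf (nat_lit 22969353))) (BT.node (nat_lit 6441984) (BT.leaf (nat_lit 22969357)) (BT.leaf (nat_lit 21323289)))) (BT.node (nat_lit 6442240) (BT.node (nat_lit 6442176) (BT.leaf (nat_lit 21324305)) (BT.leaf (nat_lit 24255505))) (BT.node (nat_lit 6442243) (BT.leaf (nat_lit 22044957)) (BT.leaf (nat_lit 419824)))))) (BT.node (nat_lit 6442944) (BT.node (nat_lit 6442560) (BT.node (nat_lit 6442432) (BT.node (nat_lit 6442304) (BT.leaf (nat_lit 419824)) (BT.leaf (nat_lit 21325333))) (BT.node (nat_lit 6442496) (BT.leaf (nat_lit 21325589)) (BT.leaf (nat_lit 21325857)))) (BT.node (nat_lit 6442816) (BT.node (nat_lit 6442752) (BT.leaf (nat_lit 21326097)) (BT.leaf (nat_lit 21326353))) (BT.node (nat_lit 6442880) (BT.leaf (nat_lit 21326621)) (BT.leaf (nat_lit 21327121))))) (BT.node (nat_lit 6443200) (BT.node (nat_lit 6443072) (BT.node (nat_lit 6443008) (BT.leaf (nat_lit 25772301)) (BT.leaf (nat_lit 21327377))) (BT.node (nat_lit 6443136) (BT.leaf (nat_lit 21631253)) (BT.leaf (nat_lit 22368793)))) (BT.node (nat_lit 6443456) (BT.node (nat_lit 6443264) (BT.leaf (nat_lit 22152973)) (BT.leaf (nat_lit 21328145))) (BT.node (nat_lit 6443520) (BT.leaf (nat_lit 21328413)) (BT.leaf (nat_lit 28249865))))))))) (BT.node (nat_lit 6449024) (BT.node (nat_lit 6445952) (BT.node (nat_lit 6444864) (BT.node (nat_lit 6444288) (BT.node (nat_lit 6443904) (BT.node (nat_lit 6443776) (BT.node (nat_lit 6443712) (BT.leaf (nat_lit 24361237)) (BT.leaf (nat_lit 36205849))) (BT.node (nat_lit 6443840) (BT.leaf (nat_lit 21329429)) (BT.leaf (nat_lit 36206353)))) (BT.node (nat_lit 6444096) (BT.node (nat_lit 6443968) (BT.leaf (nat_lit 35273501)) (BT.leaf (nat_lit 21329685))) (BT.node (nat_lit 6444160) (BT.leaf (nat_lit 21874693)) (BT.leaf (nat_lit 21874949))))) (BT.node (nat_lit 6444544) (BT.node (nat_lit 6444416) (BT.node (nat_lit 6444352) (BT.leaf (nat_lit 21330205)) (BT.leaf (nat_lit 21330449))) (BT.node (nat_lit 6444480) (BT.leaf (nat_lit 25760281)) (BT.leaf (nat_lit 35435021)))) (BT.node (nat_lit 6444736) (BT.node (nat_lit 6444608) (BT.leaf (nat_lit 21875221)) (BT.leaf (nat_lit 34837765))) (BT.node (nat_lit 6444800) (BT.leaf (nat_lit 24759561)) (BT.leaf (nat_lit 21877273)))))) (BT.node (nat_lit 6445440) (BT.node (nat_lit 6445184) (BT.node (nat_lit 6444992) (BT.node (nat_lit 6444928) (BT.leaf (nat_lit 21332241)) (BT.leaf (nat_lit 28467985))) (BT.node (nat_lit 6445056) (BT.leaf (nat_lit 26839069)) (BT.leaf (nat_lit 21332757)))) (BT.node (nat_lit 6445312) (BT.node (nat_lit 6445248) (BT.leaf (nat_lit 21333013)) (BT.leaf (nat_lit 21333281))) (BT.node (nat_lit 6445376) (BT.leaf (nat_lit 24227593)) (BT.leaf (nat_lit 28394509))))) (BT.node (nat_lit 6445696) (BT.node (nat_lit 6445568) (BT.node (nat_lit 6445504) (BT.leaf (nat_lit 28090121)) (BT.leaf (nat_lit 21879313))) (BT.node (nat_lit 6445632) (BT.leaf (nat_lit 21879057)) (BT.leaf (nat_lit 21334553)))) (BT.node (nat_lit 6445824) (BT.node (nat_lit 6445760) (BT.leaf (nat_lit 21335057)) (BT.leaf (nat_lit 21335313))) (BT.node (nat_lit 6445888) (BT.leaf (nat_lit 21335569)) (BT.leaf (nat_lit 21335585))))))) (BT.node (nat_lit 6447488) (BT.node (nat_lit 6446848) (BT.node (nat_lit 6446272) (BT.node (nat_lit 6446144) (BT.node (nat_lit 6446080) (BT.leaf (nat_lit 21335817)) (BT.leaf (nat_lit 21335837))) (BT.node (nat_lit 6446208) (BT.leaf (nat_lit 35360013)) (BT.leaf (nat_lit 34532621)))) (BT.node (nat_lit 6446464) (BT.node (nat_lit 6446336) (BT.leaf (nat_lit 24840457)) (BT.leaf (nat_lit 51431457))) (BT.node (nat_lit 6446720) (BT.leaf (nat_lit 36216853)) (BT.leaf (nat_lit 25682721))))) (BT.node (nat_lit 6447232) (BT.node (nat_lit 6447104) (BT.node (nat_lit 6446976) (BT.leaf (nat_lit 22389525)) (BT.leaf (nat_lit 21337625))) (BT.node (nat_lit 6447168) (BT.leaf (nat_lit 33273113)) (BT.leaf (nat_lit 27387925)))) (BT.node (nat_lit 6447360) (BT.node (nat_lit 6447296) (BT.leaf (nat_lit 26401297)) (BT.leaf (nat_lit 33272841))) (BT.node (nat_lit 6447424) (BT.leaf (nat_lit 34903061)) (BT.leaf (nat_lit 25698073)))))) (BT.node (nat_lit 6448064) (BT.node (nat_lit 6447808) (BT.node (nat_lit 6447616) (BT.node (nat_lit 6447552) (BT.leaf (nat_lit 21338641)) (BT.leaf (nat_lit 34049565))) (BT.node (nat_lit 6447680) (BT.leaf (nat_lit 21338897)) (BT.leaf (nat_lit 36221217)))) (BT.node (nat_lit 6447936) (BT.node (nat_lit 6447872) (BT.leaf (nat_lit 21339681)) (BT.leaf (nat_lit 21340177))) (BT.node (nat_lit 6448000) (BT.leaf (nat_lit 36222237)) (BT.leaf (nat_lit 21340693))))) (BT.node (nat_lit 6448576) (BT.node (nat_lit 6448320) (BT.node (nat_lit 6448192) (BT.leaf (nat_lit 27164189)) (BT.leaf (nat_lit 22499349))) (BT.node (nat_lit 6448384) (BT.leaf (nat_lit 36223773)) (BT.leaf (nat_lit 36224273)))) (BT.node (nat_lit 6448896) (BT.node (nat_lit 6448704) (BT.leaf (nat_lit 31269637)) (BT.leaf (nat_lit 36225825))) (BT.node (nat_lit 6448960) (BT.leaf (nat_lit 21343249)) (BT.leaf (nat_lit 21343769)))))))) (BT.node (nat_lit 6451776) (BT.node (nat_lit 6450304) (BT.node (nat_lit 6449792) (BT.node (nat_lit 6449472) (BT.node (nat_lit 6449216) (BT.node (nat_lit 6449088) (BT.leaf (nat_lit 21343773)) (BT.leaf (nat_lit 32026897))) (BT.node (nat_lit 6449408) (BT.leaf (nat_lit 23552517)) (BT.leaf (nat_lit 21345565)))) (BT.node (nat_lit 6449664) (BT.node (nat_lit 6449600) (BT.leaf (nat_lit 21893405)) (BT.leaf (nat_lit 46778901))) (BT.node (nat_lit 6449728) (BT.leaf (nat_lit 51383317)) (BT.leaf (nat_lit 21900569))))) (BT.node (nat_lit 6450048) (BT.node (nat_lit 6449920) (BT.node (nat_lit 6449856) (BT.leaf (nat_lit 34899217)) (BT.leaf (nat_lit 21346589))) (BT.node (nat_lit 6449984) (BT.leaf (nat_lit 34180613)) (BT.leaf (nat_lit 33569797)))) (BT.node (nat_lit 6450176) (BT.node (nat_lit 6450112) (BT.leaf (nat_lit 21885457)) (BT.leaf (nat_lit 21347097))) (BT.node (nat_lit 6450240) (BT.leaf (nat_lit 21347101)) (BT.leaf (nat_lit 34747929)))))) (BT.node (nat_lit 6450880) (BT.node (nat_lit 6450624) (BT.node (nat_lit 6450432) (BT.node (nat_lit 6450368) (BT.leaf (nat_lit 50742281)) (BT.leaf (nat_lit 36233477))) (BT.node (nat_lit 6450560) (BT.leaf (nat_lit 33261585)) (BT.leaf (nat_lit 23328269)))) (BT.node (nat_lit 6450752) (BT.node (nat_lit 6450688) (BT.leaf (nat_lit 35203589)) (BT.leaf (nat_lit 24142877))) (BT.node (nat_lit 6450816) (BT.leaf (nat_lit 21348369)) (BT.leaf (nat_lit 34905609))))) (BT.node (nat_lit 6451136) (BT.node (nat_lit 6451008) (BT.node (nat_lit 6450944) (BT.leaf (nat_lit 21348881)) (BT.leaf (nat_lit 36381701))) (BT.node (nat_lit 6451072) (BT.leaf (nat_lit 22561813)) (BT.leaf (nat_lit 36236817)))) (BT.node (nat_lit 6451456) (BT.node (nat_lit 6451264) (BT.leaf (nat_lit 21349665)) (BT.leaf (nat_lit 28113941))) (BT.node (nat_lit 6451648) (BT.leaf (nat_lit 25815577)) (BT.leaf (nat_lit 36225053))))))) (BT.node (nat_lit 6453440) (BT.node (nat_lit 6452416) (BT.node (nat_lit 6452032) (BT.node (nat_lit 6451904) (BT.node (nat_lit 6451840) (BT.leaf (nat_lit 21352473)) (BT.leaf (nat_lit 21352477))) (BT.node (nat_lit 6451968) (BT.leaf (nat_lit 25767457)) (BT.leaf (nat_lit 25767713)))) (BT.node (nat_lit 6452160) (BT.node (nat_lit 6452096) (BT.leaf (nat_lit 33782805)) (BT.leaf (nat_lit 25808153))) (BT.node (nat_lit 6452352) (BT.leaf (nat_lit 36239889)) (BT.leaf (nat_lit 33342469))))) (BT.node (nat_lit 6452864) (BT.node (nat_lit 6452672) (BT.node (nat_lit 6452544) (BT.leaf (nat_lit 21354257)) (BT.leaf (nat_lit 21892893))) (BT.node (nat_lit 6452736) (BT.leaf (nat_lit 23933701)) (BT.leaf (nat_lit 36209425)))) (BT.node (nat_lit 6453312) (BT.node (nat_lit 6453056) (BT.leaf (nat_lit 26222105)) (BT.leaf (nat_lit 50026001))) (BT.node (nat_lit 6453376) (BT.leaf (nat_lit 21357073)) (BT.leaf (nat_lit 36243209)))))) (BT.node (nat_lit 6454272) (BT.node (nat_lit 6454016) (BT.node (nat_lit 6453824) (BT.node (nat_lit 6453632) (BT.leaf (nat_lit 48490765)) (BT.leaf (nat_lit 36245013))) (BT.node (nat_lit 6453888) (BT.leaf (nat_lit 34447641)) (BT.leaf (nat_lit 35700997)))) (BT.node (nat_lit 6454144) (BT.node (nat_lit 6454080) (BT.leaf (nat_lit 25933345)) (BT.leaf (nat_lit 25933601))) (BT.node (nat_lit 6454208) (BT.leaf (nat_lit 25934113)) (BT.leaf (nat_lit 25933857))))) (BT.node (nat_lit 6454656) (BT.node (nat_lit 6454400) (BT.node (nat_lit 6454336) (BT.leaf (nat_lit 21358609)) (BT.leaf (nat_lit 25053465))) (BT.node (nat_lit 6454528) (BT.leaf (nat_lit 21358865)) (BT.leaf (nat_lit 24089377)))) (BT.node (nat_lit 6454784) (BT.node (nat_lit 6454720) (BT.leaf (nat_lit 36247317)) (BT.leaf (nat_lit 30191889))) (BT.node (nat_lit 6454976) (BT.leaf (nat_lit 23238689)) (BT.leaf (nat_lit 31917333)))))))))))) (BT.node (nat_lit 6501696) (BT.node (nat_lit 6478080) (BT.node (nat_lit 6466560) (BT.node (nat_lit 6461440) (BT.node (nat_lit 6458304) (BT.node (nat_lit 6456448) (BT.node (nat_lit 6455680) (BT.node (nat_lit 6455424) (BT.node (nat_lit 6455296) (BT.node (nat_lit 6455104) (BT.leaf (nat_lit 36231449)) (BT.leaf (nat_lit 36225293))) (BT.node (nat_lit 6455360) (BT.leaf (nat_lit 21360401)) (BT.leaf (nat_lit 21360657)))) (BT.node (nat_lit 6455552) (BT.node (nat_lit 6455488) (BT.leaf (nat_lit 23124769)) (BT.leaf (nat_lit 21360913))) (BT.node (nat_lit 6455616) (BT.leaf (nat_lit 23736085)) (BT.leaf (nat_lit 23154977))))) (BT.node (nat_lit 6456128) (BT.node (nat_lit 6455936) (BT.node (nat_lit 6455744) (BT.leaf (nat_lit 21361177)) (BT.leaf (nat_lit 21361181))) (BT.node (nat_lit 6456000) (BT.leaf (nat_lit 21362193)) (BT.leaf (nat_lit 24268065)))) (BT.node (nat_lit 6456320) (BT.node (nat_lit 6456192) (BT.leaf (nat_lit 34237957)) (BT.leaf (nat_lit 21363229))) (BT.node (nat_lit 6456384) (BT.leaf (nat_lit 21363729)) (BT.leaf (nat_lit 37260577)))))) (BT.node (nat_lit 6457600) (BT.node (nat_lit 6457344) (BT.node (nat_lit 6456832) (BT.node (nat_lit 6456512) (BT.leaf (nat_lit 34639393)) (BT.leaf (nat_lit 25053209))) (BT.node (nat_lit 6456960) (BT.leaf (nat_lit 35308305)) (BT.leaf (nat_lit 24335369)))) (BT.node (nat_lit 6457472) (BT.node (nat_lit 6457408) (BT.leaf (nat_lit 21367057)) (BT.leaf (nat_lit 22616077))) (BT.node (nat_lit 6457536) (BT.leaf (nat_lit 25019933)) (BT.leaf (nat_lit 36257301))))) (BT.node (nat_lit 6457920) (BT.node (nat_lit 6457792) (BT.node (nat_lit 6457728) (BT.leaf (nat_lit 36257041)) (BT.leaf (nat_lit 21916953))) (BT.node (nat_lit 6457856) (BT.leaf (nat_lit 22769689)) (BT.leaf (nat_lit 30134817)))) (BT.node (nat_lit 6458176) (BT.node (nat_lit 6457984) (BT.leaf (nat_lit 35804193)) (BT.leaf (nat_lit 31520033))) (BT.node (nat_lit 6458240) (BT.leaf (nat_lit 33474573)) (BT.leaf (nat_lit 21554201))))))) (BT.node (nat_lit 6460032) (BT.node (nat_lit 6459136) (BT.node (nat_lit 6458624) (BT.node (nat_lit 6458496) (BT.node (nat_lit 6458368) (BT.leaf (nat_lit 28648973)) (BT.leaf (nat_lit 21904657))) (BT.node (nat_lit 6458560) (BT.leaf (nat_lit 34669325)) (BT.leaf (nat_lit 36261909)))) (BT.node (nat_lit 6458880) (BT.node (nat_lit 6458816) (BT.leaf (nat_lit 21371409)) (BT.leaf (nat_lit 36263189))) (BT.node (nat_lit 6458944) (BT.leaf (nat_lit 36263441)) (BT.leaf (nat_lit 21372181))))) (BT.node (nat_lit 6459584) (BT.node (nat_lit 6459328) (BT.node (nat_lit 6459200) (BT.leaf (nat_lit 21372705)) (BT.leaf (nat_lit 36264713))) (BT.node (nat_lit 6459520) (BT.leaf (nat_lit 21373205)) (BT.leaf (nat_lit 21373449)))) (BT.node (nat_lit 6459904) (BT.node (nat_lit 6459712) (BT.leaf (nat_lit 21373473)) (BT.leaf (nat_lit 21373957))) (BT.node (nat_lit 6459968) (BT.leaf (nat_lit 21373981)) (BT.leaf (nat_lit 36269597)))))) (BT.node (nat_lit 6460608) (BT.node (nat_lit 6460352) (BT.node (nat_lit 6460160) (BT.node (nat_lit 6460096) (BT.leaf (nat_lit 36269329)) (BT.leaf (nat_lit 36270097))) (BT.node (nat_lit 6460224) (BT.leaf (nat_lit 21374741)) (BT.leaf (nat_lit 33249293)))) (BT.node (nat_lit 6460480) (BT.node (nat_lit 6460416) (BT.leaf (nat_lit 21375257)) (BT.leaf (nat_lit 36271637))) (BT.node (nat_lit 6460544) (BT.leaf (nat_lit 36272401)) (BT.leaf (nat_lit 21375753))))) (BT.node (nat_lit 6460992) (BT.node (nat_lit 6460736) (BT.node (nat_lit 6460672) (BT.leaf (nat_lit 21375757)) (BT.leaf (nat_lit 21375769))) (BT.node (nat_lit 6460928) (BT.leaf (nat_lit 21375773)) (BT.leaf (nat_lit 31748625)))) (BT.node (nat_lit 6461312) (BT.node (nat_lit 6461056) (BT.leaf (nat_lit 30465297)) (BT.leaf (nat_lit 21376285))) (BT.node (nat_lit 6461376) (BT.leaf (nat_lit 31318801)) (BT.leaf (nat_lit 50998021)))))))) (BT.node (nat_lit 6464064) (BT.node (nat_lit 6462784) (BT.node (nat_lit 6462016) (BT.node (nat_lit 6461696) (BT.node (nat_lit 6461568) (BT.node (nat_lit 6461504) (BT.leaf (nat_lit 36274193)) (BT.leaf (nat_lit 36274709))) (BT.node (nat_lit 6461632) (BT.leaf (nat_lit 29716741)) (BT.leaf (nat_lit 21377301)))) (BT.node (nat_lit 6461824) (BT.node (nat_lit 6461760) (BT.leaf (nat_lit 21377557)) (BT.leaf (nat_lit 33186585))) (BT.node (nat_lit 6461952) (BT.leaf (nat_lit 25640473)) (BT.leaf (nat_lit 33061409))))) (BT.node (nat_lit 6462464) (BT.node (nat_lit 6462144) (BT.node (nat_lit 6462080) (BT.leaf (nat_lit 49826057)) (BT.leaf (nat_lit 34309409))) (BT.node (nat_lit 6462208) (BT.leaf (nat_lit 51116065)) (BT.leaf (nat_lit 21379089)))) (BT.node (nat_lit 6462656) (BT.node (nat_lit 6462528) (BT.leaf (nat_lit 29939717)) (BT.leaf (nat_lit 21380381))) (BT.node (nat_lit 6462720) (BT.leaf (nat_lit 21381137)) (BT.leaf (nat_lit 30262041)))))) (BT.node (nat_lit 6463424) (BT.node (nat_lit 6463168) (BT.node (nat_lit 6462912) (BT.node (nat_lit 6462848) (BT.leaf (nat_lit 36278805)) (BT.leaf (nat_lit 36280097))) (BT.node (nat_lit 6463040) (BT.leaf (nat_lit 25626377)) (BT.leaf (nat_lit 33997345)))) (BT.node (nat_lit 6463296) (BT.node (nat_lit 6463232) (BT.leaf (nat_lit 25666581)) (BT.leaf (nat_lit 36281361))) (BT.node (nat_lit 6463360) (BT.leaf (nat_lit 28057365)) (BT.leaf (nat_lit 33883669))))) (BT.node (nat_lit 6463680) (BT.node (nat_lit 6463552) (BT.node (nat_lit 6463488) (BT.leaf (nat_lit 25852957)) (BT.leaf (nat_lit 21770013))) (BT.node (nat_lit 6463616) (BT.leaf (nat_lit 36282641)) (BT.leaf (nat_lit 30381061)))) (BT.node (nat_lit 6463808) (BT.node (nat_lit 6463744) (BT.leaf (nat_lit 33121569)) (BT.leaf (nat_lit 34708229))) (BT.node (nat_lit 6463872) (BT.leaf (nat_lit 21385237)) (BT.leaf (nat_lit 21385241))))))) (BT.node (nat_lit 6465344) (BT.node (nat_lit 6464576) (BT.node (nat_lit 6464320) (BT.node (nat_lit 6464192) (BT.node (nat_lit 6464128) (BT.leaf (nat_lit 21385745)) (BT.leaf (nat_lit 34295833))) (BT.node (nat_lit 6464256) (BT.leaf (nat_lit 25078297)) (BT.leaf (nat_lit 33374745)))) (BT.node (nat_lit 6464448) (BT.node (nat_lit 6464384) (BT.leaf (nat_lit 36839953)) (BT.leaf (nat_lit 36285713))) (BT.node (nat_lit 6464512) (BT.leaf (nat_lit 25857561)) (BT.leaf (nat_lit 28554757))))) (BT.node (nat_lit 6464896) (BT.node (nat_lit 6464704) (BT.node (nat_lit 6464640) (BT.leaf (nat_lit 25168137)) (BT.leaf (nat_lit 21387017))) (BT.node (nat_lit 6464832) (BT.leaf (nat_lit 21913621)) (BT.leaf (nat_lit 21387037)))) (BT.node (nat_lit 6465088) (BT.node (nat_lit 6464960) (BT.leaf (nat_lit 26415389)) (BT.leaf (nat_lit 25339425))) (BT.node (nat_lit 6465152) (BT.leaf (nat_lit 35831825)) (BT.leaf (nat_lit 47934745)))))) (BT.node (nat_lit 6465920) (BT.node (nat_lit 6465600) (BT.node (nat_lit 6465472) (BT.node (nat_lit 6465408) (BT.leaf (nat_lit 34565393)) (BT.leaf (nat_lit 36095505))) (BT.node (nat_lit 6465536) (BT.leaf (nat_lit 21388825)) (BT.leaf (nat_lit 21388829)))) (BT.node (nat_lit 6465728) (BT.node (nat_lit 6465664) (BT.leaf (nat_lit 21389081)) (BT.leaf (nat_lit 21389085))) (BT.node (nat_lit 6465792) (BT.leaf (nat_lit 25283613)) (BT.leaf (nat_lit 33682977))))) (BT.node (nat_lit 6466176) (BT.node (nat_lit 6466048) (BT.node (nat_lit 6465984) (BT.leaf (nat_lit 21390097)) (BT.leaf (nat_lit 23962893))) (BT.node (nat_lit 6466112) (BT.leaf (nat_lit 22982933)) (BT.leaf (nat_lit 21391129)))) (BT.node (nat_lit 6466368) (BT.node (nat_lit 6466240) (BT.leaf (nat_lit 21391381)) (BT.leaf (nat_lit 24085273))) (BT.node (nat_lit 6466432) (BT.leaf (nat_lit 29015565)) (BT.leaf (nat_lit 49870861))))))))) (BT.node (nat_lit 6473024) (BT.node (nat_lit 6469440) (BT.node (nat_lit 6467776) (BT.node (nat_lit 6467136) (BT.node (nat_lit 6466880) (BT.node (nat_lit 6466752) (BT.node (nat_lit 6466624) (BT.leaf (nat_lit 21392409)) (BT.leaf (nat_lit 34286369))) (BT.node (nat_lit 6466816) (BT.leaf (nat_lit 29938949)) (BT.leaf (nat_lit 23310597)))) (BT.node (nat_lit 6467008) (BT.node (nat_lit 6466944) (BT.leaf (nat_lit 21393169)) (BT.leaf (nat_lit 36297477))) (BT.node (nat_lit 6467072) (BT.leaf (nat_lit 28473877)) (BT.leaf (nat_lit 48718621))))) (BT.node (nat_lit 6467456) (BT.node (nat_lit 6467264) (BT.node (nat_lit 6467200) (BT.leaf (nat_lit 46342405)) (BT.leaf (nat_lit 46342417))) (BT.node (nat_lit 6467392) (BT.leaf (nat_lit 36298517)) (BT.leaf (nat_lit 21395473)))) (BT.node (nat_lit 6467584) (BT.node (nat_lit 6467520) (BT.leaf (nat_lit 26013213)) (BT.leaf (nat_lit 22185233))) (BT.node (nat_lit 6467712) (BT.leaf (nat_lit 21395741)) (BT.leaf (nat_lit 23897093)))))) (BT.node (nat_lit 6468544) (BT.node (nat_lit 6468096) (BT.node (nat_lit 6467904) (BT.node (nat_lit 6467840) (BT.leaf (nat_lit 36301329)) (BT.leaf (nat_lit 47525381))) (BT.node (nat_lit 6467968) (BT.leaf (nat_lit 49032457)) (BT.leaf (nat_lit 24092177)))) (BT.node (nat_lit 6468288) (BT.node (nat_lit 6468160) (BT.leaf (nat_lit 36301845)) (BT.leaf (nat_lit 36302353))) (BT.node (nat_lit 6468480) (BT.leaf (nat_lit 21396765)) (BT.leaf (nat_lit 21397265))))) (BT.node (nat_lit 6469184) (BT.node (nat_lit 6469056) (BT.node (nat_lit 6468608) (BT.leaf (nat_lit 33073669)) (BT.leaf (nat_lit 24556049))) (BT.node (nat_lit 6469120) (BT.leaf (nat_lit 21923345)) (BT.leaf (nat_lit 21399577)))) (BT.node (nat_lit 6469312) (BT.node (nat_lit 6469248) (BT.leaf (nat_lit 36303889)) (BT.leaf (nat_lit 36304157))) (BT.node (nat_lit 6469376) (BT.leaf (nat_lit 21399833)) (BT.leaf (nat_lit 36304665))))))) (BT.node (nat_lit 6471232) (BT.node (nat_lit 6470464) (BT.node (nat_lit 6470016) (BT.node (nat_lit 6469568) (BT.node (nat_lit 6469504) (BT.leaf (nat_lit 21400085)) (BT.leaf (nat_lit 21928205))) (BT.node (nat_lit 6469632) (BT.leaf (nat_lit 25878541)) (BT.leaf (nat_lit 33194005)))) (BT.node (nat_lit 6470208) (BT.node (nat_lit 6470144) (BT.leaf (nat_lit 23249185)) (BT.leaf (nat_lit 26679317))) (BT.node (nat_lit 6470272) (BT.leaf (nat_lit 21402641)) (BT.leaf (nat_lit 21402645))))) (BT.node (nat_lit 6470912) (BT.node (nat_lit 6470784) (BT.node (nat_lit 6470720) (BT.leaf (nat_lit 21403165)) (BT.leaf (nat_lit 21940761))) (BT.node (nat_lit 6470848) (BT.leaf (nat_lit 36310297)) (BT.leaf (nat_lit 36309521)))) (BT.node (nat_lit 6471104) (BT.node (nat_lit 6471040) (BT.leaf (nat_lit 25883421)) (BT.leaf (nat_lit 21404945))) (BT.node (nat_lit 6471168) (BT.leaf (nat_lit 22250525)) (BT.leaf (nat_lit 36312345)))))) (BT.node (nat_lit 6472192) (BT.node (nat_lit 6471680) (BT.node (nat_lit 6471424) (BT.node (nat_lit 6471296) (BT.leaf (nat_lit 21405205)) (BT.leaf (nat_lit 21405461))) (BT.node (nat_lit 6471552) (BT.leaf (nat_lit 22188817)) (BT.leaf (nat_lit 21498889)))) (BT.node (nat_lit 6471808) (BT.node (nat_lit 6471744) (BT.leaf (nat_lit 36314393)) (BT.leaf (nat_lit 21407513))) (BT.node (nat_lit 6471872) (BT.leaf (nat_lit 29124621)) (BT.leaf (nat_lit 21407765))))) (BT.node (nat_lit 6472448) (BT.node (nat_lit 6472320) (BT.node (nat_lit 6472256) (BT.leaf (nat_lit 28907269)) (BT.leaf (nat_lit 36882465))) (BT.node (nat_lit 6472384) (BT.leaf (nat_lit 21408797)) (BT.leaf (nat_lit 36315673)))) (BT.node (nat_lit 6472704) (BT.node (nat_lit 6472640) (BT.leaf (nat_lit 21409301)) (BT.leaf (nat_lit 21410073))) (BT.node (nat_lit 6472896) (BT.leaf (nat_lit 36030997)) (BT.leaf (nat_lit 21411081)))))))) (BT.node (nat_lit 6475840) (BT.node (nat_lit 6474240) (BT.node (nat_lit 6473600) (BT.node (nat_lit 6473280) (BT.node (nat_lit 6473152) (BT.node (nat_lit 6473088) (BT.leaf (nat_lit 21411097)) (BT.leaf (nat_lit 21411101))) (BT.node (nat_lit 6473216) (BT.leaf (nat_lit 21927953)) (BT.leaf (nat_lit 21411609)))) (BT.node (nat_lit 6473408) (BT.node (nat_lit 6473344) (BT.leaf (nat_lit 21411613)) (BT.leaf (nat_lit 26163733))) (BT.node (nat_lit 6473472) (BT.leaf (nat_lit 21412121)) (BT.leaf (nat_lit 33056533))))) (BT.node (nat_lit 6473856) (BT.node (nat_lit 6473728) (BT.node (nat_lit 6473664) (BT.leaf (nat_lit 36318993)) (BT.leaf (nat_lit 51606801))) (BT.node (nat_lit 6473792) (BT.leaf (nat_lit 21412881)) (BT.leaf (nat_lit 26164505)))) (BT.node (nat_lit 6474048) (BT.node (nat_lit 6473984) (BT.leaf (nat_lit 24635141)) (BT.leaf (nat_lit 47124513))) (BT.node (nat_lit 6474176) (BT.leaf (nat_lit 23123997)) (BT.leaf (nat_lit 21933841)))))) (BT.node (nat_lit 6474880) (BT.node (nat_lit 6474560) (BT.node (nat_lit 6474368) (BT.node (nat_lit 6474304) (BT.leaf (nat_lit 23023893)) (BT.leaf (nat_lit 21414161))) (BT.node (nat_lit 6474432) (BT.leaf (nat_lit 25816865)) (BT.leaf (nat_lit 21414417)))) (BT.node (nat_lit 6474752) (BT.node (nat_lit 6474624) (BT.leaf (nat_lit 21414933)) (BT.leaf (nat_lit 26213137))) (BT.node (nat_lit 6474816) (BT.leaf (nat_lit 21626897)) (BT.leaf (nat_lit 22970641))))) (BT.node (nat_lit 6475328) (BT.node (nat_lit 6475072) (BT.node (nat_lit 6474944) (BT.leaf (nat_lit 21415701)) (BT.leaf (nat_lit 25209625))) (BT.node (nat_lit 6475264) (BT.leaf (nat_lit 33282053)) (BT.leaf (nat_lit 26681117)))) (BT.node (nat_lit 6475712) (BT.node (nat_lit 6475648) (BT.leaf (nat_lit 21418257)) (BT.leaf (nat_lit 36325393))) (BT.node (nat_lit 6475776) (BT.leaf (nat_lit 50316065)) (BT.leaf (nat_lit 21419297))))))) (BT.node (nat_lit 6476992) (BT.node (nat_lit 6476416) (BT.node (nat_lit 6476160) (BT.node (nat_lit 6475968) (BT.node (nat_lit 6475904) (BT.leaf (nat_lit 21419809)) (BT.leaf (nat_lit 35656965))) (BT.node (nat_lit 6476096) (BT.leaf (nat_lit 21420565)) (BT.leaf (nat_lit 22197009)))) (BT.node (nat_lit 6476288) (BT.node (nat_lit 6476224) (BT.leaf (nat_lit 29269277)) (BT.leaf (nat_lit 30064397))) (BT.node (nat_lit 6476352) (BT.leaf (nat_lit 21934609)) (BT.leaf (nat_lit 21421341))))) (BT.node (nat_lit 6476736) (BT.node (nat_lit 6476544) (BT.node (nat_lit 6476480) (BT.leaf (nat_lit 36328213)) (BT.leaf (nat_lit 36327953))) (BT.node (nat_lit 6476672) (BT.leaf (nat_lit 25905677)) (BT.leaf (nat_lit 26554401)))) (BT.node (nat_lit 6476864) (BT.node (nat_lit 6476800) (BT.leaf (nat_lit 26694425)) (BT.leaf (nat_lit 21422877))) (BT.node (nat_lit 6476928) (BT.leaf (nat_lit 27144477)) (BT.leaf (nat_lit 35058189)))))) (BT.node (nat_lit 6477504) (BT.node (nat_lit 6477248) (BT.node (nat_lit 6477120) (BT.node (nat_lit 6477056) (BT.leaf (nat_lit 36330761)) (BT.leaf (nat_lit 36331541))) (BT.node (nat_lit 6477184) (BT.leaf (nat_lit 21423645)) (BT.leaf (nat_lit 29341709)))) (BT.node (nat_lit 6477376) (BT.node (nat_lit 6477312) (BT.leaf (nat_lit 36332049)) (BT.leaf (nat_lit 21424409))) (BT.node (nat_lit 6477440) (BT.leaf (nat_lit 21424413)) (BT.leaf (nat_lit 33286661))))) (BT.node (nat_lit 6477824) (BT.node (nat_lit 6477632) (BT.node (nat_lit 6477568) (BT.leaf (nat_lit 23061517)) (BT.leaf (nat_lit 21425689))) (BT.node (nat_lit 6477696) (BT.leaf (nat_lit 24166917)) (BT.leaf (nat_lit 21425937)))) (BT.node (nat_lit 6477952) (BT.node (nat_lit 6477888) (BT.leaf (nat_lit 21426201)) (BT.leaf (nat_lit 21426205))) (BT.node (nat_lit 6478016) (BT.leaf (nat_lit 27144473)) (BT.leaf (nat_lit 25912349)))))))))) (BT.node (nat_lit 6490112) (BT.node (nat_lit 6483904) (BT.node (nat_lit 6481536) (BT.node (nat_lit 6479616) (BT.node (nat_lit 6478912) (BT.node (nat_lit 6478336) (BT.node (nat_lit 6478208) (BT.node (nat_lit 6478144) (BT.leaf (nat_lit 22208273)) (BT.leaf (nat_lit 25059589))) (BT.node (nat_lit 6478272) (BT.leaf (nat_lit 25913117)) (BT.leaf (nat_lit 25059077)))) (BT.node (nat_lit 6478464) (BT.node (nat_lit 6478400) (BT.leaf (nat_lit 21427473)) (BT.leaf (nat_lit 21427477))) (BT.node (nat_lit 6478784) (BT.leaf (nat_lit 36335641)) (BT.leaf (nat_lit 29124637))))) (BT.node (nat_lit 6479232) (BT.node (nat_lit 6479040) (BT.node (nat_lit 6478976) (BT.leaf (nat_lit 36337689)) (BT.leaf (nat_lit 36313369))) (BT.node (nat_lit 6479104) (BT.leaf (nat_lit 25916445)) (BT.leaf (nat_lit 25063697)))) (BT.node (nat_lit 6479424) (BT.node (nat_lit 6479360) (BT.leaf (nat_lit 36338961)) (BT.leaf (nat_lit 21430549))) (BT.node (nat_lit 6479552) (BT.leaf (nat_lit 21430813)) (BT.leaf (nat_lit 21940765)))))) (BT.node (nat_lit 6480768) (BT.node (nat_lit 6480000) (BT.node (nat_lit 6479872) (BT.node (nat_lit 6479680) (BT.leaf (nat_lit 22160925)) (BT.leaf (nat_lit 21432337))) (BT.node (nat_lit 6479936) (BT.leaf (nat_lit 28739605)) (BT.leaf (nat_lit 21432581)))) (BT.node (nat_lit 6480576) (BT.node (nat_lit 6480512) (BT.leaf (nat_lit 21432593)) (BT.leaf (nat_lit 36341265))) (BT.node (nat_lit 6480640) (BT.leaf (nat_lit 21434393)) (BT.leaf (nat_lit 21434641))))) (BT.node (nat_lit 6481216) (BT.node (nat_lit 6480960) (BT.node (nat_lit 6480896) (BT.leaf (nat_lit 21434905)) (BT.leaf (nat_lit 21435409))) (BT.node (nat_lit 6481088) (BT.leaf (nat_lit 33148957)) (BT.leaf (nat_lit 21435677)))) (BT.node (nat_lit 6481344) (BT.node (nat_lit 6481280) (BT.leaf (nat_lit 21924121)) (BT.leaf (nat_lit 21436433))) (BT.node (nat_lit 6481472) (BT.leaf (nat_lit 21978385)) (BT.leaf (nat_lit 50024465))))))) (BT.node (nat_lit 6482880) (BT.node (nat_lit 6482304) (BT.node (nat_lit 6482048) (BT.node (nat_lit 6481728) (BT.node (nat_lit 6481600) (BT.leaf (nat_lit 35656977)) (BT.leaf (nat_lit 22902817))) (BT.node (nat_lit 6481984) (BT.leaf (nat_lit 37637657)) (BT.leaf (nat_lit 50103557)))) (BT.node (nat_lit 6482176) (BT.node (nat_lit 6482112) (BT.leaf (nat_lit 32611861)) (BT.leaf (nat_lit 21440013))) (BT.node (nat_lit 6482240) (BT.leaf (nat_lit 24089621)) (BT.leaf (nat_lit 28649761))))) (BT.node (nat_lit 6482624) (BT.node (nat_lit 6482432) (BT.node (nat_lit 6482368) (BT.leaf (nat_lit 21440025)) (BT.leaf (nat_lit 21440029))) (BT.node (nat_lit 6482560) (BT.leaf (nat_lit 21440277)) (BT.leaf (nat_lit 21440793)))) (BT.node (nat_lit 6482752) (BT.node (nat_lit 6482688) (BT.leaf (nat_lit 21440797)) (BT.leaf (nat_lit 26278937))) (BT.node (nat_lit 6482816) (BT.leaf (nat_lit 26686737)) (BT.leaf (nat_lit 21441809)))))) (BT.node (nat_lit 6483392) (BT.node (nat_lit 6483136) (BT.node (nat_lit 6483008) (BT.node (nat_lit 6482944) (BT.leaf (nat_lit 21442577)) (BT.leaf (nat_lit 21442833))) (BT.node (nat_lit 6483072) (BT.leaf (nat_lit 22186001)) (BT.leaf (nat_lit 21443349)))) (BT.node (nat_lit 6483264) (BT.node (nat_lit 6483200) (BT.leaf (nat_lit 22232849)) (BT.leaf (nat_lit 22232593))) (BT.node (nat_lit 6483328) (BT.leaf (nat_lit 21443865)) (BT.leaf (nat_lit 25949717))))) (BT.node (nat_lit 6483648) (BT.node (nat_lit 6483520) (BT.node (nat_lit 6483456) (BT.leaf (nat_lit 23600917)) (BT.leaf (nat_lit 33780757))) (BT.node (nat_lit 6483584) (BT.leaf (nat_lit 27910941)) (BT.leaf (nat_lit 25981461)))) (BT.node (nat_lit 6483776) (BT.node (nat_lit 6483712) (BT.leaf (nat_lit 25544725)) (BT.leaf (nat_lit 36351253))) (BT.node (nat_lit 6483840) (BT.leaf (nat_lit 21444637)) (BT.leaf (nat_lit 21444881)))))))) (BT.node (nat_lit 6487232) (BT.node (nat_lit 6485440) (BT.node (nat_lit 6484800) (BT.node (nat_lit 6484224) (BT.node (nat_lit 6484032) (BT.node (nat_lit 6483968) (BT.leaf (nat_lit 25981213)) (BT.leaf (nat_lit 31351585))) (BT.node (nat_lit 6484160) (BT.leaf (nat_lit 21484569)) (BT.leaf (nat_lit 21446161)))) (BT.node (nat_lit 6484352) (BT.node (nat_lit 6484288) (BT.leaf (nat_lit 21872909)) (BT.leaf (nat_lit 21946389))) (BT.node (nat_lit 6484736) (BT.leaf (nat_lit 21446673)) (BT.leaf (nat_lit 21448977))))) (BT.node (nat_lit 6485120) (BT.node (nat_lit 6484928) (BT.node (nat_lit 6484864) (BT.leaf (nat_lit 21449237)) (BT.leaf (nat_lit 27121945))) (BT.node (nat_lit 6484992) (BT.leaf (nat_lit 21449493)) (BT.leaf (nat_lit 29186053)))) (BT.node (nat_lit 6485248) (BT.node (nat_lit 6485184) (BT.leaf (nat_lit 21450249)) (BT.leaf (nat_lit 21450253))) (BT.node (nat_lit 6485376) (BT.leaf (nat_lit 21450265)) (BT.leaf (nat_lit 21450517)))))) (BT.node (nat_lit 6486208) (BT.node (nat_lit 6485760) (BT.node (nat_lit 6485568) (BT.node (nat_lit 6485504) (BT.leaf (nat_lit 24968977)) (BT.leaf (nat_lit 23018501))) (BT.node (nat_lit 6485632) (BT.leaf (nat_lit 33248789)) (BT.leaf (nat_lit 21450781)))) (BT.node (nat_lit 6486016) (BT.node (nat_lit 6485824) (BT.leaf (nat_lit 36211973)) (BT.leaf (nat_lit 21452049))) (BT.node (nat_lit 6486080) (BT.leaf (nat_lit 21752853)) (BT.leaf (nat_lit 21452817))))) (BT.node (nat_lit 6486848) (BT.node (nat_lit 6486592) (BT.node (nat_lit 6486272) (BT.leaf (nat_lit 21453073)) (BT.leaf (nat_lit 25261589))) (BT.node (nat_lit 6486784) (BT.leaf (nat_lit 26270489)) (BT.leaf (nat_lit 21455633)))) (BT.node (nat_lit 6487040) (BT.node (nat_lit 6486912) (BT.leaf (nat_lit 21456145)) (BT.leaf (nat_lit 21954821))) (BT.node (nat_lit 6487104) (BT.leaf (nat_lit 33187093)) (BT.leaf (nat_lit 25948185))))))) (BT.node (nat_lit 6488512) (BT.node (nat_lit 6487872) (BT.node (nat_lit 6487488) (BT.node (nat_lit 6487360) (BT.node (nat_lit 6487296) (BT.leaf (nat_lit 23737353)) (BT.leaf (nat_lit 21457437))) (BT.node (nat_lit 6487424) (BT.leaf (nat_lit 22218513)) (BT.leaf (nat_lit 22218257)))) (BT.node (nat_lit 6487616) (BT.node (nat_lit 6487552) (BT.leaf (nat_lit 21457689)) (BT.leaf (nat_lit 25200661))) (BT.node (nat_lit 6487744) (BT.leaf (nat_lit 22218769)) (BT.leaf (nat_lit 21457949))))) (BT.node (nat_lit 6488128) (BT.node (nat_lit 6488000) (BT.node (nat_lit 6487936) (BT.leaf (nat_lit 22208009)) (BT.leaf (nat_lit 21459217))) (BT.node (nat_lit 6488064) (BT.leaf (nat_lit 21459473)) (BT.leaf (nat_lit 25937161)))) (BT.node (nat_lit 6488384) (BT.node (nat_lit 6488320) (BT.leaf (nat_lit 36368141)) (BT.leaf (nat_lit 21459985))) (BT.node (nat_lit 6488448) (BT.leaf (nat_lit 36369413)) (BT.leaf (nat_lit 24754461)))))) (BT.node (nat_lit 6489536) (BT.node (nat_lit 6488960) (BT.node (nat_lit 6488640) (BT.node (nat_lit 6488576) (BT.leaf (nat_lit 36370457)) (BT.leaf (nat_lit 21461269))) (BT.node (nat_lit 6488832) (BT.leaf (nat_lit 23538209)) (BT.leaf (nat_lit 21462801)))) (BT.node (nat_lit 6489408) (BT.node (nat_lit 6489216) (BT.leaf (nat_lit 21463825)) (BT.leaf (nat_lit 36374029))) (BT.node (nat_lit 6489472) (BT.leaf (nat_lit 21465361)) (BT.leaf (nat_lit 29698849))))) (BT.node (nat_lit 6489792) (BT.node (nat_lit 6489664) (BT.node (nat_lit 6489600) (BT.leaf (nat_lit 26756637)) (BT.leaf (nat_lit 21465873))) (BT.node (nat_lit 6489728) (BT.leaf (nat_lit 36377361)) (BT.leaf (nat_lit 35237905)))) (BT.node (nat_lit 6489920) (BT.node (nat_lit 6489856) (BT.leaf (nat_lit 21466141)) (BT.leaf (nat_lit 36378885))) (BT.node (nat_lit 6490048) (BT.leaf (nat_lit 33963785)) (BT.leaf (nat_lit 33120269))))))))) (BT.node (nat_lit 6495744) (BT.node (nat_lit 6492992) (BT.node (nat_lit 6491648) (BT.node (nat_lit 6490816) (BT.node (nat_lit 6490496) (BT.node (nat_lit 6490304) (BT.node (nat_lit 6490240) (BT.leaf (nat_lit 21467409)) (BT.leaf (nat_lit 21467161))) (BT.node (nat_lit 6490368) (BT.leaf (nat_lit 21467165)) (BT.leaf (nat_lit 33434649)))) (BT.node (nat_lit 6490624) (BT.node (nat_lit 6490560) (BT.leaf (nat_lit 21932317)) (BT.leaf (nat_lit 26905117))) (BT.node (nat_lit 6490688) (BT.leaf (nat_lit 21468445)) (BT.leaf (nat_lit 36383261))))) (BT.node (nat_lit 6491328) (BT.node (nat_lit 6491072) (BT.node (nat_lit 6491008) (BT.leaf (nat_lit 21469205)) (BT.leaf (nat_lit 36384529))) (BT.node (nat_lit 6491200) (BT.leaf (nat_lit 36108573)) (BT.leaf (nat_lit 21470489)))) (BT.node (nat_lit 6491520) (BT.node (nat_lit 6491456) (BT.leaf (nat_lit 21470737)) (BT.leaf (nat_lit 21470993))) (BT.node (nat_lit 6491584) (BT.leaf (nat_lit 24781085)) (BT.leaf (nat_lit 35782933)))))) (BT.node (nat_lit 6492288) (BT.node (nat_lit 6491968) (BT.node (nat_lit 6491776) (BT.node (nat_lit 6491712) (BT.leaf (nat_lit 25292049)) (BT.leaf (nat_lit 50680345))) (BT.node (nat_lit 6491904) (BT.leaf (nat_lit 33730081)) (BT.leaf (nat_lit 36388889)))) (BT.node (nat_lit 6492160) (BT.node (nat_lit 6492096) (BT.leaf (nat_lit 35881753)) (BT.leaf (nat_lit 36389653))) (BT.node (nat_lit 6492224) (BT.leaf (nat_lit 25449493)) (BT.leaf (nat_lit 35832329))))) (BT.node (nat_lit 6492672) (BT.node (nat_lit 6492480) (BT.node (nat_lit 6492416) (BT.leaf (nat_lit 21473557)) (BT.leaf (nat_lit 21473565))) (BT.node (nat_lit 6492608) (BT.leaf (nat_lit 21473809)) (BT.leaf (nat_lit 24320005)))) (BT.node (nat_lit 6492800) (BT.node (nat_lit 6492736) (BT.leaf (nat_lit 21475089)) (BT.leaf (nat_lit 21475345))) (BT.node (nat_lit 6492928) (BT.leaf (nat_lit 21475857)) (BT.leaf (nat_lit 35479061))))))) (BT.node (nat_lit 6494720) (BT.node (nat_lit 6493888) (BT.node (nat_lit 6493248) (BT.node (nat_lit 6493120) (BT.node (nat_lit 6493056) (BT.leaf (nat_lit 21476377)) (BT.leaf (nat_lit 27761433))) (BT.node (nat_lit 6493184) (BT.leaf (nat_lit 33778453)) (BT.leaf (nat_lit 36393733)))) (BT.node (nat_lit 6493504) (BT.node (nat_lit 6493440) (BT.leaf (nat_lit 35650593)) (BT.leaf (nat_lit 21478161))) (BT.node (nat_lit 6493760) (BT.leaf (nat_lit 21478433)) (BT.leaf (nat_lit 21479697))))) (BT.node (nat_lit 6494464) (BT.node (nat_lit 6494016) (BT.node (nat_lit 6493952) (BT.leaf (nat_lit 52352541)) (BT.leaf (nat_lit 21480465))) (BT.node (nat_lit 6494336) (BT.leaf (nat_lit 21480721)) (BT.leaf (nat_lit 21481489)))) (BT.node (nat_lit 6494592) (BT.node (nat_lit 6494528) (BT.leaf (nat_lit 29512721)) (BT.leaf (nat_lit 22288665))) (BT.node (nat_lit 6494656) (BT.leaf (nat_lit 21482261)) (BT.leaf (nat_lit 21482513)))))) (BT.node (nat_lit 6495232) (BT.node (nat_lit 6494976) (BT.node (nat_lit 6494848) (BT.node (nat_lit 6494784) (BT.leaf (nat_lit 21482517)) (BT.leaf (nat_lit 21482785))) (BT.node (nat_lit 6494912) (BT.leaf (nat_lit 21483537)) (BT.leaf (nat_lit 22950433)))) (BT.node (nat_lit 6495104) (BT.node (nat_lit 6495040) (BT.leaf (nat_lit 24269077)) (BT.leaf (nat_lit 25979929))) (BT.node (nat_lit 6495168) (BT.leaf (nat_lit 22239249)) (BT.leaf (nat_lit 22238993))))) (BT.node (nat_lit 6495488) (BT.node (nat_lit 6495360) (BT.node (nat_lit 6495296) (BT.leaf (nat_lit 21484057)) (BT.leaf (nat_lit 21484549))) (BT.node (nat_lit 6495424) (BT.leaf (nat_lit 21484805)) (BT.leaf (nat_lit 21484313)))) (BT.node (nat_lit 6495616) (BT.node (nat_lit 6495552) (BT.leaf (nat_lit 21484317)) (BT.leaf (nat_lit 22496517))) (BT.node (nat_lit 6495680) (BT.leaf (nat_lit 50012181)) (BT.leaf (nat_lit 21485329)))))))) (BT.node (nat_lit 6499136) (BT.node (nat_lit 6497216) (BT.node (nat_lit 6496384) (BT.node (nat_lit 6496064) (BT.node (nat_lit 6495936) (BT.node (nat_lit 6495808) (BT.leaf (nat_lit 26239773)) (BT.leaf (nat_lit 21485585))) (BT.node (nat_lit 6496000) (BT.leaf (nat_lit 21485601)) (BT.leaf (nat_lit 21485841)))) (BT.node (nat_lit 6496192) (BT.node (nat_lit 6496128) (BT.leaf (nat_lit 22546181)) (BT.leaf (nat_lit 22197265))) (BT.node (nat_lit 6496256) (BT.leaf (nat_lit 22949381)) (BT.leaf (nat_lit 22546205))))) (BT.node (nat_lit 6496768) (BT.node (nat_lit 6496512) (BT.node (nat_lit 6496448) (BT.leaf (nat_lit 21486609)) (BT.leaf (nat_lit 25544733))) (BT.node (nat_lit 6496640) (BT.leaf (nat_lit 21486865)) (BT.leaf (nat_lit 21487633)))) (BT.node (nat_lit 6496960) (BT.node (nat_lit 6496896) (BT.leaf (nat_lit 21488389)) (BT.leaf (nat_lit 21488413))) (BT.node (nat_lit 6497024) (BT.leaf (nat_lit 21488657)) (BT.leaf (nat_lit 25941513)))))) (BT.node (nat_lit 6497920) (BT.node (nat_lit 6497664) (BT.node (nat_lit 6497536) (BT.node (nat_lit 6497344) (BT.leaf (nat_lit 28394521)) (BT.leaf (nat_lit 21489689))) (BT.node (nat_lit 6497600) (BT.leaf (nat_lit 27107865)) (BT.leaf (nat_lit 21490453)))) (BT.node (nat_lit 6497792) (BT.node (nat_lit 6497728) (BT.leaf (nat_lit 21490705)) (BT.leaf (nat_lit 21490709))) (BT.node (nat_lit 6497856) (BT.leaf (nat_lit 21490977)) (BT.leaf (nat_lit 21491221))))) (BT.node (nat_lit 6498496) (BT.node (nat_lit 6498048) (BT.node (nat_lit 6497984) (BT.leaf (nat_lit 21491225)) (BT.leaf (nat_lit 21491229))) (BT.node (nat_lit 6498176) (BT.leaf (nat_lit 21491985)) (BT.leaf (nat_lit 21492497)))) (BT.node (nat_lit 6498752) (BT.node (nat_lit 6498688) (BT.leaf (nat_lit 36414993)) (BT.leaf (nat_lit 36416281))) (BT.node (nat_lit 6499008) (BT.leaf (nat_lit 36415761)) (BT.leaf (nat_lit 21494037))))))) (BT.node (nat_lit 6500480) (BT.node (nat_lit 6499776) (BT.node (nat_lit 6499456) (BT.node (nat_lit 6499328) (BT.node (nat_lit 6499200) (BT.leaf (nat_lit 36418077)) (BT.leaf (nat_lit 21494549))) (BT.node (nat_lit 6499392) (BT.leaf (nat_lit 21494817)) (BT.leaf (nat_lit 33671201)))) (BT.node (nat_lit 6499648) (BT.node (nat_lit 6499520) (BT.leaf (nat_lit 27715873)) (BT.leaf (nat_lit 21495313))) (BT.node (nat_lit 6499712) (BT.leaf (nat_lit 21943321)) (BT.leaf (nat_lit 21495569))))) (BT.node (nat_lit 6500096) (BT.node (nat_lit 6499968) (BT.node (nat_lit 6499904) (BT.leaf (nat_lit 21495825)) (BT.leaf (nat_lit 21497609))) (BT.node (nat_lit 6500032) (BT.leaf (nat_lit 25341209)) (BT.leaf (nat_lit 21497613)))) (BT.node (nat_lit 6500352) (BT.node (nat_lit 6500288) (BT.leaf (nat_lit 21497361)) (BT.leaf (nat_lit 27180817))) (BT.node (nat_lit 6500416) (BT.leaf (nat_lit 47384329)) (BT.leaf (nat_lit 50260233)))))) (BT.node (nat_lit 6501120) (BT.node (nat_lit 6500864) (BT.node (nat_lit 6500736) (BT.node (nat_lit 6500544) (BT.leaf (nat_lit 21498137)) (BT.leaf (nat_lit 21498141))) (BT.node (nat_lit 6500800) (BT.leaf (nat_lit 21499413)) (BT.leaf (nat_lit 26003485)))) (BT.node (nat_lit 6500992) (BT.node (nat_lit 6500928) (BT.leaf (nat_lit 36423185)) (BT.leaf (nat_lit 21500177))) (BT.node (nat_lit 6501056) (BT.leaf (nat_lit 21500437)) (BT.leaf (nat_lit 21500441))))) (BT.node (nat_lit 6501440) (BT.node (nat_lit 6501248) (BT.node (nat_lit 6501184) (BT.leaf (nat_lit 21500445)) (BT.leaf (nat_lit 27963161))) (BT.node (nat_lit 6501312) (BT.leaf (nat_lit 33876769)) (BT.leaf (nat_lit 36308749)))) (BT.node (nat_lit 6501568) (BT.node (nat_lit 6501504) (BT.leaf (nat_lit 21500949)) (BT.leaf (nat_lit 36427793))) (BT.node (nat_lit 6501632) (BT.leaf (nat_lit 33988881)) (BT.leaf (nat_lit 36428057))))))))))) (BT.node (nat_lit 6535424) (BT.node (nat_lit 6514624) (BT.node (nat_lit 6507584) (BT.node (nat_lit 6504960) (BT.node (nat_lit 6503680) (BT.node (nat_lit 6502848) (BT.node (nat_lit 6502336) (BT.node (nat_lit 6502080) (BT.node (nat_lit 6502016) (BT.leaf (nat_lit 21501209)) (BT.leaf (nat_lit 21501969))) (BT.node (nat_lit 6502144) (BT.leaf (nat_lit 21501973)) (BT.leaf (nat_lit 33122053)))) (BT.node (nat_lit 6502656) (BT.node (nat_lit 6502400) (BT.leaf (nat_lit 21502237)) (BT.leaf (nat_lit 32964357))) (BT.node (nat_lit 6502720) (BT.leaf (nat_lit 33040673)) (BT.leaf (nat_lit 33040417))))) (BT.node (nat_lit 6503232) (BT.node (nat_lit 6503040) (BT.node (nat_lit 6502912) (BT.leaf (nat_lit 36432401)) (BT.leaf (nat_lit 27290885))) (BT.node (nat_lit 6503104) (BT.leaf (nat_lit 33535265)) (BT.leaf (nat_lit 21504785)))) (BT.node (nat_lit 6503488) (BT.node (nat_lit 6503296) (BT.leaf (nat_lit 36434965)) (BT.leaf (nat_lit 36435217))) (BT.node (nat_lit 6503616) (BT.leaf (nat_lit 21505813)) (BT.leaf (nat_lit 25408005)))))) (BT.node (nat_lit 6504320) (BT.node (nat_lit 6503936) (BT.node (nat_lit 6503808) (BT.node (nat_lit 6503744) (BT.leaf (nat_lit 21506577)) (BT.leaf (nat_lit 47119905))) (BT.node (nat_lit 6503872) (BT.leaf (nat_lit 24979229)) (BT.leaf (nat_lit 33194001)))) (BT.node (nat_lit 6504192) (BT.node (nat_lit 6504128) (BT.leaf (nat_lit 23652125)) (BT.leaf (nat_lit 21507601))) (BT.node (nat_lit 6504256) (BT.leaf (nat_lit 32610337)) (BT.leaf (nat_lit 46345761))))) (BT.node (nat_lit 6504640) (BT.node (nat_lit 6504448) (BT.node (nat_lit 6504384) (BT.leaf (nat_lit 21508625)) (BT.leaf (nat_lit 36440845))) (BT.node (nat_lit 6504512) (BT.leaf (nat_lit 21509153)) (BT.leaf (nat_lit 35361041)))) (BT.node (nat_lit 6504832) (BT.node (nat_lit 6504768) (BT.leaf (nat_lit 21509393)) (BT.leaf (nat_lit 36441349))) (BT.node (nat_lit 6504896) (BT.leaf (nat_lit 23608601)) (BT.leaf (nat_lit 21510165))))))) (BT.node (nat_lit 6506176) (BT.node (nat_lit 6505536) (BT.node (nat_lit 6505280) (BT.node (nat_lit 6505152) (BT.node (nat_lit 6505024) (BT.leaf (nat_lit 36443417)) (BT.leaf (nat_lit 30913565))) (BT.node (nat_lit 6505216) (BT.leaf (nat_lit 36444185)) (BT.leaf (nat_lit 21511697)))) (BT.node (nat_lit 6505408) (BT.node (nat_lit 6505344) (BT.leaf (nat_lit 36444693)) (BT.leaf (nat_lit 26021145))) (BT.node (nat_lit 6505472) (BT.leaf (nat_lit 21988369)) (BT.leaf (nat_lit 21512217))))) (BT.node (nat_lit 6505792) (BT.node (nat_lit 6505664) (BT.node (nat_lit 6505600) (BT.leaf (nat_lit 21512221)) (BT.leaf (nat_lit 36445445))) (BT.node (nat_lit 6505728) (BT.leaf (nat_lit 36445701)) (BT.leaf (nat_lit 21512473)))) (BT.node (nat_lit 6506048) (BT.node (nat_lit 6505856) (BT.leaf (nat_lit 21512477)) (BT.leaf (nat_lit 36448021))) (BT.node (nat_lit 6506112) (BT.leaf (nat_lit 21513493)) (BT.leaf (nat_lit 36450321)))))) (BT.node (nat_lit 6506880) (BT.node (nat_lit 6506624) (BT.node (nat_lit 6506304) (BT.node (nat_lit 6506240) (BT.leaf (nat_lit 35597329)) (BT.leaf (nat_lit 33127685))) (BT.node (nat_lit 6506368) (BT.leaf (nat_lit 21514009)) (BT.leaf (nat_lit 21514013)))) (BT.node (nat_lit 6506752) (BT.node (nat_lit 6506688) (BT.leaf (nat_lit 21514517)) (BT.leaf (nat_lit 22704161))) (BT.node (nat_lit 6506816) (BT.leaf (nat_lit 23484165)) (BT.leaf (nat_lit 36452625))))) (BT.node (nat_lit 6507264) (BT.node (nat_lit 6507008) (BT.node (nat_lit 6506944) (BT.leaf (nat_lit 35685905)) (BT.leaf (nat_lit 35326749))) (BT.node (nat_lit 6507072) (BT.leaf (nat_lit 46732577)) (BT.leaf (nat_lit 33392909)))) (BT.node (nat_lit 6507456) (BT.node (nat_lit 6507392) (BT.leaf (nat_lit 34019873)) (BT.leaf (nat_lit 36453653))) (BT.node (nat_lit 6507520) (BT.leaf (nat_lit 25685261)) (BT.leaf (nat_lit 36453637)))))))) (BT.node (nat_lit 6510528) (BT.node (nat_lit 6508800) (BT.node (nat_lit 6508160) (BT.node (nat_lit 6507840) (BT.node (nat_lit 6507712) (BT.node (nat_lit 6507648) (BT.leaf (nat_lit 25685773)) (BT.leaf (nat_lit 30444065))) (BT.node (nat_lit 6507776) (BT.leaf (nat_lit 52014609)) (BT.leaf (nat_lit 21516565)))) (BT.node (nat_lit 6507968) (BT.node (nat_lit 6507904) (BT.leaf (nat_lit 33491993)) (BT.leaf (nat_lit 26031901))) (BT.node (nat_lit 6508096) (BT.leaf (nat_lit 25279505)) (BT.leaf (nat_lit 36455957))))) (BT.node (nat_lit 6508544) (BT.node (nat_lit 6508352) (BT.node (nat_lit 6508224) (BT.leaf (nat_lit 28824069)) (BT.leaf (nat_lit 21517589))) (BT.node (nat_lit 6508416) (BT.leaf (nat_lit 33762825)) (BT.leaf (nat_lit 36456969)))) (BT.node (nat_lit 6508672) (BT.node (nat_lit 6508608) (BT.leaf (nat_lit 25429277)) (BT.leaf (nat_lit 29398805))) (BT.node (nat_lit 6508736) (BT.leaf (nat_lit 21519381)) (BT.leaf (nat_lit 31149573)))))) (BT.node (nat_lit 6509440) (BT.node (nat_lit 6509184) (BT.node (nat_lit 6508992) (BT.node (nat_lit 6508864) (BT.leaf (nat_lit 50524449)) (BT.leaf (nat_lit 21521681))) (BT.node (nat_lit 6509120) (BT.leaf (nat_lit 36062213)) (BT.leaf (nat_lit 36459781)))) (BT.node (nat_lit 6509312) (BT.node (nat_lit 6509248) (BT.leaf (nat_lit 29523733)) (BT.leaf (nat_lit 36460825))) (BT.node (nat_lit 6509376) (BT.leaf (nat_lit 21522709)) (BT.leaf (nat_lit 34003217))))) (BT.node (nat_lit 6509952) (BT.node (nat_lit 6509696) (BT.node (nat_lit 6509568) (BT.leaf (nat_lit 26037529)) (BT.leaf (nat_lit 36462609))) (BT.node (nat_lit 6509760) (BT.leaf (nat_lit 33636105)) (BT.leaf (nat_lit 31317261)))) (BT.node (nat_lit 6510208) (BT.node (nat_lit 6510016) (BT.leaf (nat_lit 21523741)) (BT.leaf (nat_lit 34195217))) (BT.node (nat_lit 6510336) (BT.leaf (nat_lit 21524489)) (BT.leaf (nat_lit 50900753))))))) (BT.node (nat_lit 6512512) (BT.node (nat_lit 6511680) (BT.node (nat_lit 6510848) (BT.node (nat_lit 6510656) (BT.node (nat_lit 6510592) (BT.leaf (nat_lit 21525013)) (BT.leaf (nat_lit 36466705))) (BT.node (nat_lit 6510720) (BT.leaf (nat_lit 22189317)) (BT.leaf (nat_lit 36467485)))) (BT.node (nat_lit 6510976) (BT.node (nat_lit 6510912) (BT.leaf (nat_lit 21525277)) (BT.leaf (nat_lit 36467217))) (BT.node (nat_lit 6511168) (BT.leaf (nat_lit 36467221)) (BT.leaf (nat_lit 21526293))))) (BT.node (nat_lit 6512192) (BT.node (nat_lit 6511808) (BT.node (nat_lit 6511744) (BT.leaf (nat_lit 36471569)) (BT.leaf (nat_lit 21527573))) (BT.node (nat_lit 6511872) (BT.leaf (nat_lit 21527577)) (BT.leaf (nat_lit 21527581)))) (BT.node (nat_lit 6512384) (BT.node (nat_lit 6512320) (BT.leaf (nat_lit 22259737)) (BT.leaf (nat_lit 21528601))) (BT.node (nat_lit 6512448) (BT.leaf (nat_lit 36474389)) (BT.leaf (nat_lit 22218785)))))) (BT.node (nat_lit 6513920) (BT.node (nat_lit 6513024) (BT.node (nat_lit 6512768) (BT.node (nat_lit 6512704) (BT.leaf (nat_lit 21968673)) (BT.leaf (nat_lit 36474897))) (BT.node (nat_lit 6512832) (BT.leaf (nat_lit 36475409)) (BT.leaf (nat_lit 36476185)))) (BT.node (nat_lit 6513792) (BT.node (nat_lit 6513088) (BT.leaf (nat_lit 36475665)) (BT.leaf (nat_lit 36475669))) (BT.node (nat_lit 6513856) (BT.leaf (nat_lit 21531417)) (BT.leaf (nat_lit 21531421))))) (BT.node (nat_lit 6514240) (BT.node (nat_lit 6514112) (BT.node (nat_lit 6513984) (BT.leaf (nat_lit 21531669)) (BT.leaf (nat_lit 21531673))) (BT.node (nat_lit 6514176) (BT.leaf (nat_lit 26056733)) (BT.leaf (nat_lit 26339845)))) (BT.node (nat_lit 6514432) (BT.node (nat_lit 6514368) (BT.leaf (nat_lit 35699989)) (BT.leaf (nat_lit 26725397))) (BT.node (nat_lit 6514496) (BT.leaf (nat_lit 50079493)) (BT.leaf (nat_lit 37028381))))))))) (BT.node (nat_lit 6524864) (BT.node (nat_lit 6520000) (BT.node (nat_lit 6517376) (BT.node (nat_lit 6515648) (BT.node (nat_lit 6515072) (BT.node (nat_lit 6514880) (BT.node (nat_lit 6514688) (BT.leaf (nat_lit 37483801)) (BT.leaf (nat_lit 21532945))) (BT.node (nat_lit 6514944) (BT.leaf (nat_lit 36483601)) (BT.leaf (nat_lit 36483869)))) (BT.node (nat_lit 6515264) (BT.node (nat_lit 6515136) (BT.leaf (nat_lit 26116877)) (BT.leaf (nat_lit 36485393))) (BT.node (nat_lit 6515584) (BT.leaf (nat_lit 22130181)) (BT.leaf (nat_lit 24905493))))) (BT.node (nat_lit 6516224) (BT.node (nat_lit 6515968) (BT.node (nat_lit 6515712) (BT.leaf (nat_lit 36487709)) (BT.leaf (nat_lit 26192645))) (BT.node (nat_lit 6516032) (BT.leaf (nat_lit 22206985)) (BT.leaf (nat_lit 35784985)))) (BT.node (nat_lit 6516800) (BT.node (nat_lit 6516480) (BT.leaf (nat_lit 27021081)) (BT.leaf (nat_lit 36598545))) (BT.node (nat_lit 6517312) (BT.leaf (nat_lit 36493073)) (BT.leaf (nat_lit 21538325)))))) (BT.node (nat_lit 6518464) (BT.node (nat_lit 6517888) (BT.node (nat_lit 6517696) (BT.node (nat_lit 6517440) (BT.leaf (nat_lit 36496149)) (BT.leaf (nat_lit 36496661))) (BT.node (nat_lit 6517824) (BT.leaf (nat_lit 21539349)) (BT.leaf (nat_lit 21539849)))) (BT.node (nat_lit 6518208) (BT.node (nat_lit 6518016) (BT.leaf (nat_lit 21539853)) (BT.leaf (nat_lit 21539869))) (BT.node (nat_lit 6518272) (BT.leaf (nat_lit 27218449)) (BT.leaf (nat_lit 21540633))))) (BT.node (nat_lit 6519424) (BT.node (nat_lit 6518976) (BT.node (nat_lit 6518720) (BT.leaf (nat_lit 27216149)) (BT.leaf (nat_lit 21541657))) (BT.node (nat_lit 6519296) (BT.leaf (nat_lit 36502549)) (BT.leaf (nat_lit 27265029)))) (BT.node (nat_lit 6519552) (BT.node (nat_lit 6519488) (BT.leaf (nat_lit 22277645)) (BT.leaf (nat_lit 51409937))) (BT.node (nat_lit 6519872) (BT.leaf (nat_lit 35475989)) (BT.leaf (nat_lit 27856665))))))) (BT.node (nat_lit 6523200) (BT.node (nat_lit 6521280) (BT.node (nat_lit 6520320) (BT.node (nat_lit 6520128) (BT.node (nat_lit 6520064) (BT.leaf (nat_lit 21546005)) (BT.leaf (nat_lit 36509201))) (BT.node (nat_lit 6520192) (BT.leaf (nat_lit 26080281)) (BT.leaf (nat_lit 24230917)))) (BT.node (nat_lit 6521088) (BT.node (nat_lit 6520576) (BT.leaf (nat_lit 24961301)) (BT.leaf (nat_lit 21547537))) (BT.node (nat_lit 6521152) (BT.leaf (nat_lit 26736673)) (BT.leaf (nat_lit 22948113))))) (BT.node (nat_lit 6522816) (BT.node (nat_lit 6522560) (BT.node (nat_lit 6521344) (BT.leaf (nat_lit 21549341)) (BT.leaf (nat_lit 21549585))) (BT.node (nat_lit 6522624) (BT.leaf (nat_lit 26713877)) (BT.leaf (nat_lit 34219029)))) (BT.node (nat_lit 6523072) (BT.node (nat_lit 6522944) (BT.leaf (nat_lit 21965857)) (BT.leaf (nat_lit 36516101))) (BT.node (nat_lit 6523136) (BT.leaf (nat_lit 22220057)) (BT.leaf (nat_lit 22208797)))))) (BT.node (nat_lit 6523968) (BT.node (nat_lit 6523648) (BT.node (nat_lit 6523392) (BT.node (nat_lit 6523328) (BT.leaf (nat_lit 22208777)) (BT.leaf (nat_lit 36517657))) (BT.node (nat_lit 6523520) (BT.leaf (nat_lit 21553685)) (BT.leaf (nat_lit 36518673)))) (BT.node (nat_lit 6523840) (BT.node (nat_lit 6523776) (BT.leaf (nat_lit 26938897)) (BT.leaf (nat_lit 36519697))) (BT.node (nat_lit 6523904) (BT.leaf (nat_lit 36520209)) (BT.leaf (nat_lit 36520465))))) (BT.node (nat_lit 6524224) (BT.node (nat_lit 6524096) (BT.node (nat_lit 6524032) (BT.leaf (nat_lit 36520729)) (BT.leaf (nat_lit 21554713))) (BT.node (nat_lit 6524160) (BT.leaf (nat_lit 21554717)) (BT.leaf (nat_lit 21818137)))) (BT.node (nat_lit 6524608) (BT.node (nat_lit 6524544) (BT.leaf (nat_lit 36521761)) (BT.leaf (nat_lit 30789641))) (BT.node (nat_lit 6524672) (BT.leaf (nat_lit 23496965)) (BT.leaf (nat_lit 21555993)))))))) (BT.node (nat_lit 6529216) (BT.node (nat_lit 6526976) (BT.node (nat_lit 6525632) (BT.node (nat_lit 6525184) (BT.node (nat_lit 6524992) (BT.node (nat_lit 6524928) (BT.leaf (nat_lit 36524825)) (BT.leaf (nat_lit 21556249))) (BT.node (nat_lit 6525056) (BT.leaf (nat_lit 27101201)) (BT.leaf (nat_lit 36525333)))) (BT.node (nat_lit 6525504) (BT.node (nat_lit 6525312) (BT.leaf (nat_lit 36526101)) (BT.leaf (nat_lit 26100745))) (BT.node (nat_lit 6525568) (BT.leaf (nat_lit 36527109)) (BT.leaf (nat_lit 36527637))))) (BT.node (nat_lit 6526272) (BT.node (nat_lit 6526016) (BT.node (nat_lit 6525760) (BT.leaf (nat_lit 36527893)) (BT.leaf (nat_lit 21558041))) (BT.node (nat_lit 6526144) (BT.leaf (nat_lit 21689109)) (BT.leaf (nat_lit 22314517)))) (BT.node (nat_lit 6526848) (BT.node (nat_lit 6526592) (BT.leaf (nat_lit 21689365)) (BT.leaf (nat_lit 51265825))) (BT.node (nat_lit 6526912) (BT.leaf (nat_lit 27185425)) (BT.leaf (nat_lit 21561109)))))) (BT.node (nat_lit 6527744) (BT.node (nat_lit 6527360) (BT.node (nat_lit 6527232) (BT.node (nat_lit 6527104) (BT.leaf (nat_lit 22188045)) (BT.leaf (nat_lit 21945377))) (BT.node (nat_lit 6527296) (BT.leaf (nat_lit 21945633)) (BT.leaf (nat_lit 21561873)))) (BT.node (nat_lit 6527552) (BT.node (nat_lit 6527488) (BT.leaf (nat_lit 36532253)) (BT.leaf (nat_lit 21969173))) (BT.node (nat_lit 6527616) (BT.leaf (nat_lit 21562653)) (BT.leaf (nat_lit 36534549))))) (BT.node (nat_lit 6528000) (BT.node (nat_lit 6527872) (BT.node (nat_lit 6527808) (BT.leaf (nat_lit 21562913)) (BT.leaf (nat_lit 26800917))) (BT.node (nat_lit 6527936) (BT.leaf (nat_lit 36535829)) (BT.leaf (nat_lit 21966881)))) (BT.node (nat_lit 6528768) (BT.node (nat_lit 6528448) (BT.leaf (nat_lit 25276949)) (BT.leaf (nat_lit 25315089))) (BT.node (nat_lit 6529024) (BT.leaf (nat_lit 21564957)) (BT.leaf (nat_lit 26126869))))))) (BT.node (nat_lit 6533184) (BT.node (nat_lit 6530880) (BT.node (nat_lit 6529984) (BT.node (nat_lit 6529344) (BT.node (nat_lit 6529280) (BT.leaf (nat_lit 36539669)) (BT.leaf (nat_lit 36540181))) (BT.node (nat_lit 6529920) (BT.leaf (nat_lit 21566481)) (BT.leaf (nat_lit 36543517)))) (BT.node (nat_lit 6530304) (BT.node (nat_lit 6530240) (BT.leaf (nat_lit 21568277)) (BT.leaf (nat_lit 21569041))) (BT.node (nat_lit 6530688) (BT.leaf (nat_lit 21569305)) (BT.leaf (nat_lit 36546329))))) (BT.node (nat_lit 6531776) (BT.node (nat_lit 6531584) (BT.node (nat_lit 6531008) (BT.leaf (nat_lit 36546837)) (BT.leaf (nat_lit 27221281))) (BT.node (nat_lit 6531712) (BT.leaf (nat_lit 36550417)) (BT.leaf (nat_lit 26127133)))) (BT.node (nat_lit 6532416) (BT.node (nat_lit 6532288) (BT.leaf (nat_lit 36551441)) (BT.leaf (nat_lit 51960073))) (BT.node (nat_lit 6533056) (BT.leaf (nat_lit 36639777)) (BT.leaf (nat_lit 26049813)))))) (BT.node (nat_lit 6534592) (BT.node (nat_lit 6534336) (BT.node (nat_lit 6534016) (BT.node (nat_lit 6533376) (BT.leaf (nat_lit 26740001)) (BT.leaf (nat_lit 26638869))) (BT.node (nat_lit 6534208) (BT.leaf (nat_lit 27000073)) (BT.leaf (nat_lit 21697285)))) (BT.node (nat_lit 6534464) (BT.node (nat_lit 6534400) (BT.leaf (nat_lit 21793797)) (BT.leaf (nat_lit 21582613))) (BT.node (nat_lit 6534528) (BT.leaf (nat_lit 27239697)) (BT.leaf (nat_lit 26137881))))) (BT.node (nat_lit 6535104) (BT.node (nat_lit 6534784) (BT.node (nat_lit 6534720) (BT.leaf (nat_lit 36559121)) (BT.leaf (nat_lit 21583109))) (BT.node (nat_lit 6534848) (BT.leaf (nat_lit 36559897)) (BT.leaf (nat_lit 21583125)))) (BT.node (nat_lit 6535296) (BT.node (nat_lit 6535168) (BT.leaf (nat_lit 36560661)) (BT.leaf (nat_lit 26140425))) (BT.node (nat_lit 6535360) (BT.leaf (nat_lit 31676185)) (BT.leaf (nat_lit 36561169)))))))))) (BT.node (nat_lit 6552960) (BT.node (nat_lit 6544832) (BT.node (nat_lit 6540608) (BT.node (nat_lit 6538560) (BT.node (nat_lit 6536832) (BT.node (nat_lit 6536064) (BT.node (nat_lit 6535744) (BT.node (nat_lit 6535488) (BT.leaf (nat_lit 26141465)) (BT.leaf (nat_lit 21585425))) (BT.node (nat_lit 6535936) (BT.leaf (nat_lit 22265861)) (BT.leaf (nat_lit 26994181)))) (BT.node (nat_lit 6536640) (BT.node (nat_lit 6536384) (BT.leaf (nat_lit 26994193)) (BT.leaf (nat_lit 33390613))) (BT.node (nat_lit 6536768) (BT.leaf (nat_lit 22707217)) (BT.leaf (nat_lit 52446229))))) (BT.node (nat_lit 6538048) (BT.node (nat_lit 6537792) (BT.node (nat_lit 6537152) (BT.leaf (nat_lit 26611733)) (BT.leaf (nat_lit 21588497))) (BT.node (nat_lit 6537984) (BT.leaf (nat_lit 26577185)) (BT.leaf (nat_lit 21590041)))) (BT.node (nat_lit 6538432) (BT.node (nat_lit 6538304) (BT.leaf (nat_lit 22231813)) (BT.leaf (nat_lit 21590549))) (BT.node (nat_lit 6538496) (BT.leaf (nat_lit 26154013)) (BT.leaf (nat_lit 25302549)))))) (BT.node (nat_lit 6539584) (BT.node (nat_lit 6539072) (BT.node (nat_lit 6538688) (BT.node (nat_lit 6538624) (BT.leaf (nat_lit 21591065)) (BT.leaf (nat_lit 21591069))) (BT.node (nat_lit 6539008) (BT.leaf (nat_lit 21591321)) (BT.leaf (nat_lit 36573969)))) (BT.node (nat_lit 6539328) (BT.node (nat_lit 6539136) (BT.leaf (nat_lit 21592349)) (BT.leaf (nat_lit 36574997))) (BT.node (nat_lit 6539456) (BT.leaf (nat_lit 21940501)) (BT.leaf (nat_lit 36576541))))) (BT.node (nat_lit 6540096) (BT.node (nat_lit 6539968) (BT.node (nat_lit 6539648) (BT.leaf (nat_lit 21593617)) (BT.leaf (nat_lit 21593873))) (BT.node (nat_lit 6540032) (BT.leaf (nat_lit 21594649)) (BT.leaf (nat_lit 21594653)))) (BT.node (nat_lit 6540224) (BT.node (nat_lit 6540160) (BT.leaf (nat_lit 25932037)) (BT.leaf (nat_lit 21594905))) (BT.node (nat_lit 6540544) (BT.leaf (nat_lit 21594909)) (BT.leaf (nat_lit 21595409))))))) (BT.node (nat_lit 6542400) (BT.node (nat_lit 6541120) (BT.node (nat_lit 6540864) (BT.node (nat_lit 6540736) (BT.node (nat_lit 6540672) (BT.leaf (nat_lit 35451417)) (BT.leaf (nat_lit 21595665))) (BT.node (nat_lit 6540800) (BT.leaf (nat_lit 36577309)) (BT.leaf (nat_lit 35421981)))) (BT.node (nat_lit 6540992) (BT.node (nat_lit 6540928) (BT.leaf (nat_lit 21596185)) (BT.leaf (nat_lit 35612177))) (BT.node (nat_lit 6541056) (BT.leaf (nat_lit 36582429)) (BT.leaf (nat_lit 21596445))))) (BT.node (nat_lit 6541440) (BT.node (nat_lit 6541312) (BT.node (nat_lit 6541184) (BT.leaf (nat_lit 35611921)) (BT.leaf (nat_lit 27068433))) (BT.node (nat_lit 6541376) (BT.leaf (nat_lit 21596945)) (BT.leaf (nat_lit 21597469)))) (BT.node (nat_lit 6542208) (BT.node (nat_lit 6541504) (BT.leaf (nat_lit 21597201)) (BT.leaf (nat_lit 21597465))) (BT.node (nat_lit 6542336) (BT.leaf (nat_lit 21600793)) (BT.leaf (nat_lit 22094085)))))) (BT.node (nat_lit 6544064) (BT.node (nat_lit 6543296) (BT.node (nat_lit 6542976) (BT.node (nat_lit 6542464) (BT.leaf (nat_lit 26169369)) (BT.leaf (nat_lit 26047237))) (BT.node (nat_lit 6543168) (BT.leaf (nat_lit 21602077)) (BT.leaf (nat_lit 50137885)))) (BT.node (nat_lit 6543936) (BT.node (nat_lit 6543424) (BT.leaf (nat_lit 36177173)) (BT.leaf (nat_lit 36592401))) (BT.node (nat_lit 6544000) (BT.leaf (nat_lit 36593425)) (BT.leaf (nat_lit 26175769))))) (BT.node (nat_lit 6544448) (BT.node (nat_lit 6544192) (BT.node (nat_lit 6544128) (BT.leaf (nat_lit 26176541)) (BT.leaf (nat_lit 26325253))) (BT.node (nat_lit 6544384) (BT.leaf (nat_lit 27241501)) (BT.leaf (nat_lit 23239429)))) (BT.node (nat_lit 6544640) (BT.node (nat_lit 6544576) (BT.leaf (nat_lit 22021397)) (BT.leaf (nat_lit 21606161))) (BT.node (nat_lit 6544704) (BT.leaf (nat_lit 34060293)) (BT.leaf (nat_lit 21606417)))))))) (BT.node (nat_lit 6548224) (BT.node (nat_lit 6546816) (BT.node (nat_lit 6545344) (BT.node (nat_lit 6545088) (BT.node (nat_lit 6544960) (BT.node (nat_lit 6544896) (BT.leaf (nat_lit 35976729)) (BT.leaf (nat_lit 36597265))) (BT.node (nat_lit 6545024) (BT.leaf (nat_lit 21607701)) (BT.leaf (nat_lit 24973069)))) (BT.node (nat_lit 6545216) (BT.node (nat_lit 6545152) (BT.leaf (nat_lit 21607685)) (BT.leaf (nat_lit 26180893))) (BT.node (nat_lit 6545280) (BT.leaf (nat_lit 36598801)) (BT.leaf (nat_lit 21607957))))) (BT.node (nat_lit 6546112) (BT.node (nat_lit 6545984) (BT.node (nat_lit 6545856) (BT.leaf (nat_lit 26616861)) (BT.leaf (nat_lit 36600081))) (BT.node (nat_lit 6546048) (BT.leaf (nat_lit 36601617)) (BT.leaf (nat_lit 21609497)))) (BT.node (nat_lit 6546304) (BT.node (nat_lit 6546176) (BT.leaf (nat_lit 21609501)) (BT.leaf (nat_lit 21609745))) (BT.node (nat_lit 6546752) (BT.leaf (nat_lit 26902045)) (BT.leaf (nat_lit 24921369)))))) (BT.node (nat_lit 6547648) (BT.node (nat_lit 6547136) (BT.node (nat_lit 6547008) (BT.node (nat_lit 6546880) (BT.leaf (nat_lit 35562777)) (BT.leaf (nat_lit 35531537))) (BT.node (nat_lit 6547072) (BT.leaf (nat_lit 21990937)) (BT.leaf (nat_lit 35410205)))) (BT.node (nat_lit 6547456) (BT.node (nat_lit 6547200) (BT.leaf (nat_lit 25155869)) (BT.leaf (nat_lit 21612305))) (BT.node (nat_lit 6547584) (BT.leaf (nat_lit 21613073)) (BT.leaf (nat_lit 21613589))))) (BT.node (nat_lit 6547968) (BT.node (nat_lit 6547776) (BT.node (nat_lit 6547712) (BT.leaf (nat_lit 22249485)) (BT.leaf (nat_lit 26846993))) (BT.node (nat_lit 6547904) (BT.leaf (nat_lit 35795737)) (BT.leaf (nat_lit 21615133)))) (BT.node (nat_lit 6548096) (BT.node (nat_lit 6548032) (BT.leaf (nat_lit 36610069)) (BT.leaf (nat_lit 21988117))) (BT.node (nat_lit 6548160) (BT.leaf (nat_lit 36611097)) (BT.leaf (nat_lit 36610577))))))) (BT.node (nat_lit 6550720) (BT.node (nat_lit 6549824) (BT.node (nat_lit 6549312) (BT.node (nat_lit 6548480) (BT.node (nat_lit 6548288) (BT.leaf (nat_lit 26064901)) (BT.leaf (nat_lit 26244893))) (BT.node (nat_lit 6549184) (BT.leaf (nat_lit 37165061)) (BT.leaf (nat_lit 35520517)))) (BT.node (nat_lit 6549632) (BT.node (nat_lit 6549440) (BT.leaf (nat_lit 26196765)) (BT.leaf (nat_lit 26289945))) (BT.node (nat_lit 6549696) (BT.leaf (nat_lit 36616473)) (BT.leaf (nat_lit 35521057))))) (BT.node (nat_lit 6550400) (BT.node (nat_lit 6550080) (BT.node (nat_lit 6550016) (BT.leaf (nat_lit 21618969)) (BT.leaf (nat_lit 21620241))) (BT.node (nat_lit 6550208) (BT.leaf (nat_lit 21619733)) (BT.leaf (nat_lit 21619741)))) (BT.node (nat_lit 6550592) (BT.node (nat_lit 6550528) (BT.leaf (nat_lit 27147805)) (BT.leaf (nat_lit 21621009))) (BT.node (nat_lit 6550656) (BT.leaf (nat_lit 21620765)) (BT.leaf (nat_lit 35810077)))))) (BT.node (nat_lit 6551872) (BT.node (nat_lit 6551232) (BT.node (nat_lit 6551104) (BT.node (nat_lit 6551040) (BT.leaf (nat_lit 22043417)) (BT.leaf (nat_lit 26280733))) (BT.node (nat_lit 6551168) (BT.leaf (nat_lit 21621781)) (BT.leaf (nat_lit 22137881)))) (BT.node (nat_lit 6551488) (BT.node (nat_lit 6551424) (BT.leaf (nat_lit 22149661)) (BT.leaf (nat_lit 27146781))) (BT.node (nat_lit 6551552) (BT.leaf (nat_lit 21622293)) (BT.leaf (nat_lit 36624921))))) (BT.node (nat_lit 6552448) (BT.node (nat_lit 6552192) (BT.node (nat_lit 6552064) (BT.leaf (nat_lit 35645213)) (BT.leaf (nat_lit 36626709))) (BT.node (nat_lit 6552320) (BT.leaf (nat_lit 21623837)) (BT.leaf (nat_lit 22189077)))) (BT.node (nat_lit 6552640) (BT.node (nat_lit 6552576) (BT.leaf (nat_lit 27098645)) (BT.leaf (nat_lit 36627997))) (BT.node (nat_lit 6552896) (BT.leaf (nat_lit 35619101)) (BT.leaf (nat_lit 27372565))))))))) (BT.node (nat_lit 6562432) (BT.node (nat_lit 6557824) (BT.node (nat_lit 6555392) (BT.node (nat_lit 6553920) (BT.node (nat_lit 6553472) (BT.node (nat_lit 6553280) (BT.node (nat_lit 6553216) (BT.leaf (nat_lit 35701021)) (BT.leaf (nat_lit 21626901))) (BT.node (nat_lit 6553408) (BT.leaf (nat_lit 25208857)) (BT.leaf (nat_lit 35612437)))) (BT.node (nat_lit 6553600) (BT.node (nat_lit 6553536) (BT.leaf (nat_lit 21628945)) (BT.leaf (nat_lit 21628433))) (BT.node (nat_lit 6553664) (BT.leaf (nat_lit 21627417)) (BT.leaf (nat_lit 21627421))))) (BT.node (nat_lit 6554432) (BT.node (nat_lit 6554176) (BT.node (nat_lit 6554112) (BT.leaf (nat_lit 22146593)) (BT.leaf (nat_lit 26405893))) (BT.node (nat_lit 6554240) (BT.leaf (nat_lit 36630817)) (BT.leaf (nat_lit 36631073)))) (BT.node (nat_lit 6555264) (BT.node (nat_lit 6555136) (BT.leaf (nat_lit 26405141)) (BT.leaf (nat_lit 36633117))) (BT.node (nat_lit 6555328) (BT.leaf (nat_lit 33669393)) (BT.leaf (nat_lit 33669137)))))) (BT.node (nat_lit 6556608) (BT.node (nat_lit 6555840) (BT.node (nat_lit 6555520) (BT.node (nat_lit 6555456) (BT.leaf (nat_lit 21632273)) (BT.leaf (nat_lit 21632797))) (BT.node (nat_lit 6555584) (BT.leaf (nat_lit 21632529)) (BT.leaf (nat_lit 24922913)))) (BT.node (nat_lit 6556032) (BT.node (nat_lit 6555904) (BT.leaf (nat_lit 35592981)) (BT.leaf (nat_lit 21634065))) (BT.node (nat_lit 6556544) (BT.leaf (nat_lit 33917457)) (BT.leaf (nat_lit 21636889))))) (BT.node (nat_lit 6557376) (BT.node (nat_lit 6556928) (BT.node (nat_lit 6556864) (BT.leaf (nat_lit 26324505)) (BT.leaf (nat_lit 21637905))) (BT.node (nat_lit 6556992) (BT.leaf (nat_lit 34348549)) (BT.leaf (nat_lit 21637661)))) (BT.node (nat_lit 6557696) (BT.node (nat_lit 6557632) (BT.leaf (nat_lit 34125597)) (BT.leaf (nat_lit 26896669))) (BT.node (nat_lit 6557760) (BT.leaf (nat_lit 22140437)) (BT.leaf (nat_lit 36638737))))))) (BT.node (nat_lit 6560128) (BT.node (nat_lit 6558720) (BT.node (nat_lit 6558144) (BT.node (nat_lit 6557952) (BT.node (nat_lit 6557888) (BT.leaf (nat_lit 21639957)) (BT.leaf (nat_lit 26231837))) (BT.node (nat_lit 6558016) (BT.leaf (nat_lit 36640529)) (BT.leaf (nat_lit 26138905)))) (BT.node (nat_lit 6558464) (BT.node (nat_lit 6558400) (BT.leaf (nat_lit 33112589)) (BT.leaf (nat_lit 36642065))) (BT.node (nat_lit 6558528) (BT.leaf (nat_lit 33757717)) (BT.leaf (nat_lit 26821657))))) (BT.node (nat_lit 6559808) (BT.node (nat_lit 6559168) (BT.node (nat_lit 6558848) (BT.leaf (nat_lit 27057925)) (BT.leaf (nat_lit 36644893))) (BT.node (nat_lit 6559744) (BT.leaf (nat_lit 21643537)) (BT.leaf (nat_lit 36648985)))) (BT.node (nat_lit 6559936) (BT.node (nat_lit 6559872) (BT.leaf (nat_lit 21644565)) (BT.leaf (nat_lit 26220549))) (BT.node (nat_lit 6560000) (BT.leaf (nat_lit 21644821)) (BT.leaf (nat_lit 25278485)))))) (BT.node (nat_lit 6561152) (BT.node (nat_lit 6560576) (BT.node (nat_lit 6560384) (BT.node (nat_lit 6560192) (BT.leaf (nat_lit 36651537)) (BT.leaf (nat_lit 36544529))) (BT.node (nat_lit 6560512) (BT.leaf (nat_lit 21646613)) (BT.leaf (nat_lit 35603473)))) (BT.node (nat_lit 6560704) (BT.node (nat_lit 6560640) (BT.leaf (nat_lit 21646869)) (BT.leaf (nat_lit 36656145))) (BT.node (nat_lit 6560832) (BT.leaf (nat_lit 36656645)) (BT.leaf (nat_lit 21647637))))) (BT.node (nat_lit 6561792) (BT.node (nat_lit 6561472) (BT.node (nat_lit 6561216) (BT.leaf (nat_lit 21648145)) (BT.leaf (nat_lit 21648149))) (BT.node (nat_lit 6561536) (BT.leaf (nat_lit 21648665)) (BT.leaf (nat_lit 21648669)))) (BT.node (nat_lit 6562048) (BT.node (nat_lit 6561920) (BT.leaf (nat_lit 21649169)) (BT.leaf (nat_lit 21649425))) (BT.node (nat_lit 6562112) (BT.leaf (nat_lit 22038545)) (BT.leaf (nat_lit 21649689)))))))) (BT.node (nat_lit 6566272) (BT.node (nat_lit 6564160) (BT.node (nat_lit 6563392) (BT.node (nat_lit 6563008) (BT.node (nat_lit 6562560) (BT.node (nat_lit 6562496) (BT.leaf (nat_lit 22039569)) (BT.leaf (nat_lit 22039313))) (BT.node (nat_lit 6562944) (BT.leaf (nat_lit 21650201)) (BT.leaf (nat_lit 27047705)))) (BT.node (nat_lit 6563264) (BT.node (nat_lit 6563072) (BT.leaf (nat_lit 21650965)) (BT.leaf (nat_lit 27267101))) (BT.node (nat_lit 6563328) (BT.leaf (nat_lit 21651469)) (BT.leaf (nat_lit 21651733))))) (BT.node (nat_lit 6563776) (BT.node (nat_lit 6563584) (BT.node (nat_lit 6563456) (BT.leaf (nat_lit 27087133)) (BT.leaf (nat_lit 36659729))) (BT.node (nat_lit 6563648) (BT.leaf (nat_lit 34818069)) (BT.leaf (nat_lit 27131397)))) (BT.node (nat_lit 6563968) (BT.node (nat_lit 6563904) (BT.leaf (nat_lit 27001613)) (BT.leaf (nat_lit 36671505))) (BT.node (nat_lit 6564032) (BT.leaf (nat_lit 36672017)) (BT.leaf (nat_lit 22208029)))))) (BT.node (nat_lit 6565504) (BT.node (nat_lit 6564544) (BT.node (nat_lit 6564288) (BT.node (nat_lit 6564224) (BT.leaf (nat_lit 21654033)) (BT.leaf (nat_lit 22152985))) (BT.node (nat_lit 6564480) (BT.leaf (nat_lit 33408785)) (BT.leaf (nat_lit 21654545)))) (BT.node (nat_lit 6564736) (BT.node (nat_lit 6564672) (BT.leaf (nat_lit 21654561)) (BT.leaf (nat_lit 36674833))) (BT.node (nat_lit 6565184) (BT.leaf (nat_lit 21655069)) (BT.leaf (nat_lit 36678173))))) (BT.node (nat_lit 6565824) (BT.node (nat_lit 6565696) (BT.node (nat_lit 6565632) (BT.leaf (nat_lit 36679697)) (BT.leaf (nat_lit 21657105))) (BT.node (nat_lit 6565760) (BT.leaf (nat_lit 21657121)) (BT.leaf (nat_lit 21657365)))) (BT.node (nat_lit 6566016) (BT.node (nat_lit 6565888) (BT.leaf (nat_lit 21657369)) (BT.leaf (nat_lit 21657373))) (BT.node (nat_lit 6566080) (BT.leaf (nat_lit 21657877)) (BT.leaf (nat_lit 21657881))))))) (BT.node (nat_lit 6568064) (BT.node (nat_lit 6567360) (BT.node (nat_lit 6566784) (BT.node (nat_lit 6566592) (BT.node (nat_lit 6566464) (BT.leaf (nat_lit 21658901)) (BT.leaf (nat_lit 26586141))) (BT.node (nat_lit 6566656) (BT.leaf (nat_lit 26266653)) (BT.leaf (nat_lit 36685841)))) (BT.node (nat_lit 6567232) (BT.node (nat_lit 6566912) (BT.leaf (nat_lit 22235929)) (BT.leaf (nat_lit 26600473))) (BT.node (nat_lit 6567296) (BT.leaf (nat_lit 21660165)) (BT.leaf (nat_lit 21660177))))) (BT.node (nat_lit 6567616) (BT.node (nat_lit 6567488) (BT.node (nat_lit 6567424) (BT.leaf (nat_lit 21660181)) (BT.leaf (nat_lit 36690193))) (BT.node (nat_lit 6567552) (BT.leaf (nat_lit 37415181)) (BT.leaf (nat_lit 21660437)))) (BT.node (nat_lit 6567872) (BT.node (nat_lit 6567808) (BT.leaf (nat_lit 21660949)) (BT.leaf (nat_lit 21661457))) (BT.node (nat_lit 6567936) (BT.leaf (nat_lit 21661973)) (BT.leaf (nat_lit 37415953)))))) (BT.node (nat_lit 6568768) (BT.node (nat_lit 6568384) (BT.node (nat_lit 6568256) (BT.node (nat_lit 6568128) (BT.leaf (nat_lit 21662241)) (BT.leaf (nat_lit 37640453))) (BT.node (nat_lit 6568320) (BT.leaf (nat_lit 36492305)) (BT.leaf (nat_lit 36694293)))) (BT.node (nat_lit 6568640) (BT.node (nat_lit 6568576) (BT.leaf (nat_lit 21970973)) (BT.leaf (nat_lit 21663765))) (BT.node (nat_lit 6568704) (BT.leaf (nat_lit 36697617)) (BT.leaf (nat_lit 26274585))))) (BT.node (nat_lit 6569024) (BT.node (nat_lit 6568896) (BT.node (nat_lit 6568832) (BT.leaf (nat_lit 21664017)) (BT.leaf (nat_lit 21664033))) (BT.node (nat_lit 6568960) (BT.leaf (nat_lit 21664277)) (BT.leaf (nat_lit 26727961)))) (BT.node (nat_lit 6569152) (BT.node (nat_lit 6569088) (BT.leaf (nat_lit 36699665)) (BT.leaf (nat_lit 21872389))) (BT.node (nat_lit 6569216) (BT.leaf (nat_lit 21664529)) (BT.leaf (nat_lit 21664789)))))))))))))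
noncomputable def big0_e36864 : BT Nat := (BT.node (nat_lit 6687616) (BT.node (nat_lit 6633152) (BT.node (nat_lit 6603648) (BT.node (nat_lit 6586880) (BT.node (nat_lit 6577792) (BT.node (nat_lit 6572608) (BT.node (nat_lit 6570688) (BT.node (nat_lit 6570112) (BT.node (nat_lit 6569728) (BT.node (nat_lit 6569408) (BT.node (nat_lit 6569344) (BT.leaf (nat_lit 22188057)) (BT.leaf (nat_lit 22188061))) (BT.node (nat_lit 6569664) (BT.leaf (nat_lit 21665041)) (BT.leaf (nat_lit 21666581)))) (BT.node (nat_lit 6569856) (BT.node (nat_lit 6569792) (BT.leaf (nat_lit 27021585)) (BT.leaf (nat_lit 36347165))) (BT.node (nat_lit 6569920) (BT.leaf (nat_lit 26270233)) (BT.leaf (nat_lit 26267669))))) (BT.node (nat_lit 6570432) (BT.node (nat_lit 6570304) (BT.node (nat_lit 6570176) (BT.leaf (nat_lit 21861381)) (BT.leaf (nat_lit 21861393))) (BT.node (nat_lit 6570368) (BT.leaf (nat_lit 36702737)) (BT.leaf (nat_lit 36923397)))) (BT.node (nat_lit 6570560) (BT.node (nat_lit 6570496) (BT.leaf (nat_lit 26992417)) (BT.leaf (nat_lit 21667605))) (BT.node (nat_lit 6570624) (BT.leaf (nat_lit 21667609)) (BT.leaf (nat_lit 26192669)))))) (BT.node (nat_lit 6571456) (BT.node (nat_lit 6570944) (BT.node (nat_lit 6570816) (BT.node (nat_lit 6570752) (BT.leaf (nat_lit 26653469)) (BT.leaf (nat_lit 21668625))) (BT.node (nat_lit 6570880) (BT.leaf (nat_lit 36705305)) (BT.leaf (nat_lit 36705041)))) (BT.node (nat_lit 6571264) (BT.node (nat_lit 6571008) (BT.leaf (nat_lit 21669653)) (BT.leaf (nat_lit 36706077))) (BT.node (nat_lit 6571328) (BT.leaf (nat_lit 29679877)) (BT.leaf (nat_lit 35535109))))) (BT.node (nat_lit 6572224) (BT.node (nat_lit 6571840) (BT.node (nat_lit 6571584) (BT.leaf (nat_lit 25293329)) (BT.leaf (nat_lit 21671445))) (BT.node (nat_lit 6571968) (BT.leaf (nat_lit 27214109)) (BT.leaf (nat_lit 26062877)))) (BT.node (nat_lit 6572416) (BT.node (nat_lit 6572288) (BT.leaf (nat_lit 35415305)) (BT.leaf (nat_lit 22026777))) (BT.node (nat_lit 6572480) (BT.leaf (nat_lit 36710421)) (BT.leaf (nat_lit 36710673))))))) (BT.node (nat_lit 6575040) (BT.node (nat_lit 6573760) (BT.node (nat_lit 6573056) (BT.node (nat_lit 6572800) (BT.node (nat_lit 6572736) (BT.leaf (nat_lit 21674781)) (BT.leaf (nat_lit 22014237))) (BT.node (nat_lit 6572992) (BT.leaf (nat_lit 36008481)) (BT.leaf (nat_lit 21675793)))) (BT.node (nat_lit 6573248) (BT.node (nat_lit 6573184) (BT.leaf (nat_lit 21676305)) (BT.leaf (nat_lit 21676309))) (BT.node (nat_lit 6573312) (BT.leaf (nat_lit 21676569)) (BT.leaf (nat_lit 21676573))))) (BT.node (nat_lit 6574208) (BT.node (nat_lit 6573888) (BT.node (nat_lit 6573824) (BT.leaf (nat_lit 21677341)) (BT.leaf (nat_lit 21677593))) (BT.node (nat_lit 6574144) (BT.leaf (nat_lit 21677597)) (BT.leaf (nat_lit 21679121)))) (BT.node (nat_lit 6574400) (BT.node (nat_lit 6574272) (BT.leaf (nat_lit 24529937)) (BT.leaf (nat_lit 21679389))) (BT.node (nat_lit 6574976) (BT.leaf (nat_lit 36718869)) (BT.leaf (nat_lit 21680661)))))) (BT.node (nat_lit 6576256) (BT.node (nat_lit 6575616) (BT.node (nat_lit 6575488) (BT.node (nat_lit 6575104) (BT.leaf (nat_lit 21680665)) (BT.leaf (nat_lit 36389645))) (BT.node (nat_lit 6575552) (BT.leaf (nat_lit 21682965)) (BT.leaf (nat_lit 23908637)))) (BT.node (nat_lit 6576064) (BT.node (nat_lit 6575680) (BT.leaf (nat_lit 36285201)) (BT.leaf (nat_lit 21683217))) (BT.node (nat_lit 6576192) (BT.leaf (nat_lit 26597637)) (BT.leaf (nat_lit 21684241))))) (BT.node (nat_lit 6576768) (BT.node (nat_lit 6576576) (BT.node (nat_lit 6576320) (BT.leaf (nat_lit 25048597)) (BT.leaf (nat_lit 33920793))) (BT.node (nat_lit 6576640) (BT.leaf (nat_lit 36729361)) (BT.leaf (nat_lit 26306329)))) (BT.node (nat_lit 6577152) (BT.node (nat_lit 6577024) (BT.leaf (nat_lit 21685521)) (BT.leaf (nat_lit 21685785))) (BT.node (nat_lit 6577344) (BT.leaf (nat_lit 36499461)) (BT.leaf (nat_lit 21686809)))))))) (BT.node (nat_lit 6582592) (BT.node (nat_lit 6580800) (BT.node (nat_lit 6579520) (BT.node (nat_lit 6578944) (BT.node (nat_lit 6578304) (BT.node (nat_lit 6577856) (BT.leaf (nat_lit 21687313)) (BT.leaf (nat_lit 35571993))) (BT.node (nat_lit 6578432) (BT.leaf (nat_lit 23214353)) (BT.leaf (nat_lit 21936417)))) (BT.node (nat_lit 6579200) (BT.node (nat_lit 6579136) (BT.leaf (nat_lit 36741141)) (BT.leaf (nat_lit 27855625))) (BT.node (nat_lit 6579328) (BT.leaf (nat_lit 27856653)) (BT.leaf (nat_lit 25453589))))) (BT.node (nat_lit 6580032) (BT.node (nat_lit 6579648) (BT.node (nat_lit 6579584) (BT.leaf (nat_lit 24101393)) (BT.leaf (nat_lit 21692189))) (BT.node (nat_lit 6579840) (BT.leaf (nat_lit 21744409)) (BT.leaf (nat_lit 26351125)))) (BT.node (nat_lit 6580416) (BT.node (nat_lit 6580096) (BT.leaf (nat_lit 36744469)) (BT.leaf (nat_lit 21694225))) (BT.node (nat_lit 6580736) (BT.leaf (nat_lit 36747285)) (BT.leaf (nat_lit 21695505)))))) (BT.node (nat_lit 6581824) (BT.node (nat_lit 6581312) (BT.node (nat_lit 6581056) (BT.node (nat_lit 6580864) (BT.leaf (nat_lit 36749073)) (BT.leaf (nat_lit 21695761))) (BT.node (nat_lit 6581120) (BT.leaf (nat_lit 21696029)) (BT.leaf (nat_lit 21697045)))) (BT.node (nat_lit 6581568) (BT.node (nat_lit 6581376) (BT.leaf (nat_lit 27146001)) (BT.leaf (nat_lit 29194525))) (BT.node (nat_lit 6581696) (BT.leaf (nat_lit 26328853)) (BT.leaf (nat_lit 21698321))))) (BT.node (nat_lit 6582336) (BT.node (nat_lit 6582208) (BT.node (nat_lit 6581952) (BT.leaf (nat_lit 35907093)) (BT.leaf (nat_lit 33430305))) (BT.node (nat_lit 6582272) (BT.leaf (nat_lit 36752657)) (BT.leaf (nat_lit 36753169)))) (BT.node (nat_lit 6582464) (BT.node (nat_lit 6582400) (BT.leaf (nat_lit 36753689)) (BT.leaf (nat_lit 21699865))) (BT.node (nat_lit 6582528) (BT.leaf (nat_lit 21699869)) (BT.leaf (nat_lit 27221265))))))) (BT.node (nat_lit 6584960) (BT.node (nat_lit 6583936) (BT.node (nat_lit 6583424) (BT.node (nat_lit 6582848) (BT.node (nat_lit 6582720) (BT.leaf (nat_lit 21700113)) (BT.leaf (nat_lit 21700369))) (BT.node (nat_lit 6583104) (BT.leaf (nat_lit 21700625)) (BT.leaf (nat_lit 26329877)))) (BT.node (nat_lit 6583808) (BT.node (nat_lit 6583744) (BT.leaf (nat_lit 26328857)) (BT.leaf (nat_lit 21702165))) (BT.node (nat_lit 6583872) (BT.leaf (nat_lit 46579469)) (BT.leaf (nat_lit 46580253))))) (BT.node (nat_lit 6584448) (BT.node (nat_lit 6584256) (BT.node (nat_lit 6584192) (BT.leaf (nat_lit 21702681)) (BT.leaf (nat_lit 25103893))) (BT.node (nat_lit 6584384) (BT.leaf (nat_lit 26989325)) (BT.leaf (nat_lit 36762129)))) (BT.node (nat_lit 6584832) (BT.node (nat_lit 6584640) (BT.leaf (nat_lit 35780633)) (BT.leaf (nat_lit 26938649))) (BT.node (nat_lit 6584896) (BT.leaf (nat_lit 26901021)) (BT.leaf (nat_lit 26339869)))))) (BT.node (nat_lit 6585792) (BT.node (nat_lit 6585408) (BT.node (nat_lit 6585280) (BT.node (nat_lit 6585152) (BT.leaf (nat_lit 26900241)) (BT.leaf (nat_lit 21706261))) (BT.node (nat_lit 6585344) (BT.leaf (nat_lit 33383173)) (BT.leaf (nat_lit 33384453)))) (BT.node (nat_lit 6585600) (BT.node (nat_lit 6585536) (BT.leaf (nat_lit 35730721)) (BT.leaf (nat_lit 25155865))) (BT.node (nat_lit 6585728) (BT.leaf (nat_lit 21708049)) (BT.leaf (nat_lit 35625221))))) (BT.node (nat_lit 6586304) (BT.node (nat_lit 6586176) (BT.node (nat_lit 6586112) (BT.leaf (nat_lit 21708565)) (BT.leaf (nat_lit 21710857))) (BT.node (nat_lit 6586240) (BT.leaf (nat_lit 26139421)) (BT.leaf (nat_lit 21710353)))) (BT.node (nat_lit 6586752) (BT.node (nat_lit 6586496) (BT.leaf (nat_lit 21711389)) (BT.leaf (nat_lit 25164805))) (BT.node (nat_lit 6586816) (BT.leaf (nat_lit 36768021)) (BT.leaf (nat_lit 25381909))))))))) (BT.node (nat_lit 6595072) (BT.node (nat_lit 6591104) (BT.node (nat_lit 6588608) (BT.node (nat_lit 6587456) (BT.node (nat_lit 6587136) (BT.node (nat_lit 6587008) (BT.node (nat_lit 6586944) (BT.leaf (nat_lit 36768541)) (BT.leaf (nat_lit 36768273))) (BT.node (nat_lit 6587072) (BT.leaf (nat_lit 27100693)) (BT.leaf (nat_lit 33361429)))) (BT.node (nat_lit 6587328) (BT.node (nat_lit 6587264) (BT.leaf (nat_lit 26202897)) (BT.leaf (nat_lit 22894869))) (BT.node (nat_lit 6587392) (BT.leaf (nat_lit 21712145)) (BT.leaf (nat_lit 21712401))))) (BT.node (nat_lit 6587840) (BT.node (nat_lit 6587648) (BT.node (nat_lit 6587520) (BT.leaf (nat_lit 35448081)) (BT.leaf (nat_lit 26901017))) (BT.node (nat_lit 6587776) (BT.leaf (nat_lit 35848985)) (BT.leaf (nat_lit 25466385)))) (BT.node (nat_lit 6588352) (BT.node (nat_lit 6588032) (BT.leaf (nat_lit 21713937)) (BT.leaf (nat_lit 21714457))) (BT.node (nat_lit 6588544) (BT.leaf (nat_lit 21714973)) (BT.leaf (nat_lit 36775441)))))) (BT.node (nat_lit 6589568) (BT.node (nat_lit 6589120) (BT.node (nat_lit 6588864) (BT.node (nat_lit 6588800) (BT.leaf (nat_lit 36775709)) (BT.leaf (nat_lit 27077905))) (BT.node (nat_lit 6589056) (BT.leaf (nat_lit 21715729)) (BT.leaf (nat_lit 21715993)))) (BT.node (nat_lit 6589312) (BT.node (nat_lit 6589184) (BT.leaf (nat_lit 25436697)) (BT.leaf (nat_lit 21716241))) (BT.node (nat_lit 6589440) (BT.leaf (nat_lit 36778001)) (BT.leaf (nat_lit 36778517))))) (BT.node (nat_lit 6590272) (BT.node (nat_lit 6589952) (BT.node (nat_lit 6589888) (BT.leaf (nat_lit 36779029)) (BT.leaf (nat_lit 36780565))) (BT.node (nat_lit 6590208) (BT.leaf (nat_lit 36780305)) (BT.leaf (nat_lit 26471177)))) (BT.node (nat_lit 6590656) (BT.node (nat_lit 6590336) (BT.leaf (nat_lit 26361373)) (BT.leaf (nat_lit 22059025))) (BT.node (nat_lit 6590976) (BT.leaf (nat_lit 26752517)) (BT.leaf (nat_lit 27224853))))))) (BT.node (nat_lit 6593152) (BT.node (nat_lit 6592320) (BT.node (nat_lit 6591744) (BT.node (nat_lit 6591296) (BT.node (nat_lit 6591232) (BT.leaf (nat_lit 21720593)) (BT.leaf (nat_lit 26845717))) (BT.node (nat_lit 6591488) (BT.leaf (nat_lit 21721113)) (BT.leaf (nat_lit 25407517)))) (BT.node (nat_lit 6591936) (BT.node (nat_lit 6591872) (BT.leaf (nat_lit 36786461)) (BT.leaf (nat_lit 26571013))) (BT.node (nat_lit 6592256) (BT.leaf (nat_lit 26389777)) (BT.leaf (nat_lit 29231901))))) (BT.node (nat_lit 6592576) (BT.node (nat_lit 6592448) (BT.node (nat_lit 6592384) (BT.leaf (nat_lit 21724181)) (BT.leaf (nat_lit 26369821))) (BT.node (nat_lit 6592512) (BT.leaf (nat_lit 27722513)) (BT.leaf (nat_lit 21724433)))) (BT.node (nat_lit 6592704) (BT.node (nat_lit 6592640) (BT.leaf (nat_lit 25376801)) (BT.leaf (nat_lit 21724697))) (BT.node (nat_lit 6592896) (BT.leaf (nat_lit 28336925)) (BT.leaf (nat_lit 21725213)))))) (BT.node (nat_lit 6594112) (BT.node (nat_lit 6593536) (BT.node (nat_lit 6593408) (BT.node (nat_lit 6593344) (BT.leaf (nat_lit 36673301)) (BT.leaf (nat_lit 22271509))) (BT.node (nat_lit 6593472) (BT.leaf (nat_lit 36793605)) (BT.leaf (nat_lit 35981853)))) (BT.node (nat_lit 6593920) (BT.node (nat_lit 6593856) (BT.leaf (nat_lit 35647005)) (BT.leaf (nat_lit 36795909))) (BT.node (nat_lit 6594048) (BT.leaf (nat_lit 26542357)) (BT.leaf (nat_lit 21729041))))) (BT.node (nat_lit 6594624) (BT.node (nat_lit 6594240) (BT.node (nat_lit 6594176) (BT.leaf (nat_lit 21729301)) (BT.leaf (nat_lit 21729305))) (BT.node (nat_lit 6594304) (BT.leaf (nat_lit 21729553)) (BT.leaf (nat_lit 21729809)))) (BT.node (nat_lit 6594880) (BT.node (nat_lit 6594816) (BT.leaf (nat_lit 21730577)) (BT.leaf (nat_lit 21733153))) (BT.node (nat_lit 6594944) (BT.leaf (nat_lit 24973577)) (BT.leaf (nat_lit 25199905)))))))) (BT.node (nat_lit 6599808) (BT.node (nat_lit 6597184) (BT.node (nat_lit 6596032) (BT.node (nat_lit 6595712) (BT.node (nat_lit 6595520) (BT.node (nat_lit 6595136) (BT.leaf (nat_lit 25200929)) (BT.leaf (nat_lit 21731601))) (BT.node (nat_lit 6595648) (BT.leaf (nat_lit 26989321)) (BT.leaf (nat_lit 36801297)))) (BT.node (nat_lit 6595840) (BT.node (nat_lit 6595776) (BT.leaf (nat_lit 36802065)) (BT.leaf (nat_lit 21733145))) (BT.node (nat_lit 6595968) (BT.leaf (nat_lit 21733149)) (BT.leaf (nat_lit 36794125))))) (BT.node (nat_lit 6596800) (BT.node (nat_lit 6596608) (BT.node (nat_lit 6596480) (BT.leaf (nat_lit 26133513)) (BT.leaf (nat_lit 49928481))) (BT.node (nat_lit 6596672) (BT.leaf (nat_lit 21735185)) (BT.leaf (nat_lit 21734937)))) (BT.node (nat_lit 6597056) (BT.node (nat_lit 6596992) (BT.leaf (nat_lit 36215329)) (BT.leaf (nat_lit 21735453))) (BT.node (nat_lit 6597120) (BT.leaf (nat_lit 30636049)) (BT.leaf (nat_lit 34255129)))))) (BT.node (nat_lit 6598912) (BT.node (nat_lit 6598528) (BT.node (nat_lit 6597824) (BT.node (nat_lit 6597440) (BT.leaf (nat_lit 35946501)) (BT.leaf (nat_lit 21736477))) (BT.node (nat_lit 6598144) (BT.leaf (nat_lit 21737745)) (BT.leaf (nat_lit 21738513)))) (BT.node (nat_lit 6598656) (BT.node (nat_lit 6598592) (BT.leaf (nat_lit 21739537)) (BT.leaf (nat_lit 26740769))) (BT.node (nat_lit 6598720) (BT.leaf (nat_lit 36799001)) (BT.leaf (nat_lit 26379797))))) (BT.node (nat_lit 6599296) (BT.node (nat_lit 6599104) (BT.node (nat_lit 6599040) (BT.leaf (nat_lit 21740561)) (BT.leaf (nat_lit 25772833))) (BT.node (nat_lit 6599232) (BT.leaf (nat_lit 27145493)) (BT.leaf (nat_lit 26896665)))) (BT.node (nat_lit 6599616) (BT.node (nat_lit 6599424) (BT.leaf (nat_lit 22240533)) (BT.leaf (nat_lit 33836049))) (BT.node (nat_lit 6599680) (BT.leaf (nat_lit 21742609)) (BT.leaf (nat_lit 27125025))))))) (BT.node (nat_lit 6601472) (BT.node (nat_lit 6600704) (BT.node (nat_lit 6600064) (BT.node (nat_lit 6599936) (BT.node (nat_lit 6599872) (BT.leaf (nat_lit 27235105)) (BT.leaf (nat_lit 21743129))) (BT.node (nat_lit 6600000) (BT.leaf (nat_lit 21743133)) (BT.leaf (nat_lit 22050337)))) (BT.node (nat_lit 6600320) (BT.node (nat_lit 6600256) (BT.leaf (nat_lit 25772321)) (BT.leaf (nat_lit 21744665))) (BT.node (nat_lit 6600384) (BT.leaf (nat_lit 49919241)) (BT.leaf (nat_lit 21745937))))) (BT.node (nat_lit 6601152) (BT.node (nat_lit 6601024) (BT.node (nat_lit 6600896) (BT.leaf (nat_lit 34294037)) (BT.leaf (nat_lit 21746717))) (BT.node (nat_lit 6601088) (BT.leaf (nat_lit 21748245)) (BT.leaf (nat_lit 25486365)))) (BT.node (nat_lit 6601280) (BT.node (nat_lit 6601216) (BT.leaf (nat_lit 21748497)) (BT.leaf (nat_lit 36818965))) (BT.node (nat_lit 6601408) (BT.leaf (nat_lit 21749777)) (BT.leaf (nat_lit 21750533)))))) (BT.node (nat_lit 6602752) (BT.node (nat_lit 6602112) (BT.node (nat_lit 6601920) (BT.node (nat_lit 6601600) (BT.leaf (nat_lit 21750545)) (BT.leaf (nat_lit 22090769))) (BT.node (nat_lit 6601984) (BT.leaf (nat_lit 24336133)) (BT.leaf (nat_lit 21751825)))) (BT.node (nat_lit 6602496) (BT.node (nat_lit 6602240) (BT.leaf (nat_lit 21752081)) (BT.leaf (nat_lit 21752345))) (BT.node (nat_lit 6602560) (BT.leaf (nat_lit 36822033)) (BT.leaf (nat_lit 26410009))))) (BT.node (nat_lit 6603008) (BT.node (nat_lit 6602880) (BT.node (nat_lit 6602816) (BT.leaf (nat_lit 26498821)) (BT.leaf (nat_lit 21754385))) (BT.node (nat_lit 6602944) (BT.leaf (nat_lit 21754909)) (BT.leaf (nat_lit 21754641)))) (BT.node (nat_lit 6603328) (BT.node (nat_lit 6603200) (BT.leaf (nat_lit 21754905)) (BT.leaf (nat_lit 35773717))) (BT.node (nat_lit 6603584) (BT.leaf (nat_lit 21755665)) (BT.leaf (nat_lit 21756433)))))))))) (BT.node (nat_lit 6615552) (BT.node (nat_lit 6609792) (BT.node (nat_lit 6607296) (BT.node (nat_lit 6605632) (BT.node (nat_lit 6604544) (BT.node (nat_lit 6604160) (BT.node (nat_lit 6603840) (BT.node (nat_lit 6603712) (BT.leaf (nat_lit 25228037)) (BT.leaf (nat_lit 25952289))) (BT.node (nat_lit 6603904) (BT.leaf (nat_lit 26192661)) (BT.leaf (nat_lit 26746389)))) (BT.node (nat_lit 6604416) (BT.node (nat_lit 6604352) (BT.leaf (nat_lit 34264081)) (BT.leaf (nat_lit 26347805))) (BT.node (nat_lit 6604480) (BT.leaf (nat_lit 35618077)) (BT.leaf (nat_lit 36827413))))) (BT.node (nat_lit 6604928) (BT.node (nat_lit 6604736) (BT.node (nat_lit 6604672) (BT.leaf (nat_lit 36827153)) (BT.leaf (nat_lit 35860489))) (BT.node (nat_lit 6604800) (BT.leaf (nat_lit 21761561)) (BT.leaf (nat_lit 21761565)))) (BT.node (nat_lit 6605376) (BT.node (nat_lit 6605248) (BT.leaf (nat_lit 27094545)) (BT.leaf (nat_lit 21763345))) (BT.node (nat_lit 6605568) (BT.leaf (nat_lit 21763349)) (BT.leaf (nat_lit 36475161)))))) (BT.node (nat_lit 6606528) (BT.node (nat_lit 6605952) (BT.node (nat_lit 6605760) (BT.node (nat_lit 6605696) (BT.leaf (nat_lit 21763865)) (BT.leaf (nat_lit 21764121))) (BT.node (nat_lit 6605888) (BT.leaf (nat_lit 23751173)) (BT.leaf (nat_lit 22396933)))) (BT.node (nat_lit 6606336) (BT.node (nat_lit 6606208) (BT.leaf (nat_lit 21764893)) (BT.leaf (nat_lit 22105101))) (BT.node (nat_lit 6606400) (BT.leaf (nat_lit 21766417)) (BT.leaf (nat_lit 21766673))))) (BT.node (nat_lit 6606912) (BT.node (nat_lit 6606784) (BT.node (nat_lit 6606592) (BT.leaf (nat_lit 21766929)) (BT.leaf (nat_lit 27148833))) (BT.node (nat_lit 6606848) (BT.leaf (nat_lit 21767705)) (BT.leaf (nat_lit 21767709)))) (BT.node (nat_lit 6607104) (BT.node (nat_lit 6606976) (BT.leaf (nat_lit 33655825)) (BT.leaf (nat_lit 33437201))) (BT.node (nat_lit 6607168) (BT.leaf (nat_lit 21767961)) (BT.leaf (nat_lit 24960277))))))) (BT.node (nat_lit 6608512) (BT.node (nat_lit 6607936) (BT.node (nat_lit 6607616) (BT.node (nat_lit 6607488) (BT.node (nat_lit 6607424) (BT.leaf (nat_lit 36836373)) (BT.leaf (nat_lit 36836869))) (BT.node (nat_lit 6607552) (BT.leaf (nat_lit 36837397)) (BT.leaf (nat_lit 36838689)))) (BT.node (nat_lit 6607808) (BT.node (nat_lit 6607680) (BT.leaf (nat_lit 35518241)) (BT.leaf (nat_lit 31745569))) (BT.node (nat_lit 6607872) (BT.leaf (nat_lit 35480341)) (BT.leaf (nat_lit 36839961))))) (BT.node (nat_lit 6608192) (BT.node (nat_lit 6608064) (BT.node (nat_lit 6608000) (BT.leaf (nat_lit 35535133)) (BT.leaf (nat_lit 21770265))) (BT.node (nat_lit 6608128) (BT.leaf (nat_lit 36840477)) (BT.leaf (nat_lit 21770525)))) (BT.node (nat_lit 6608320) (BT.node (nat_lit 6608256) (BT.leaf (nat_lit 25373205)) (BT.leaf (nat_lit 21771025))) (BT.node (nat_lit 6608384) (BT.leaf (nat_lit 21771549)) (BT.leaf (nat_lit 21771281)))))) (BT.node (nat_lit 6609280) (BT.node (nat_lit 6608768) (BT.node (nat_lit 6608640) (BT.node (nat_lit 6608576) (BT.leaf (nat_lit 21772305)) (BT.leaf (nat_lit 21772309))) (BT.node (nat_lit 6608704) (BT.leaf (nat_lit 36737817)) (BT.leaf (nat_lit 21772565)))) (BT.node (nat_lit 6608896) (BT.node (nat_lit 6608832) (BT.leaf (nat_lit 21772817)) (BT.leaf (nat_lit 36458769))) (BT.node (nat_lit 6608960) (BT.leaf (nat_lit 21773081)) (BT.leaf (nat_lit 21773085))))) (BT.node (nat_lit 6609536) (BT.node (nat_lit 6609408) (BT.node (nat_lit 6609344) (BT.leaf (nat_lit 36452101)) (BT.leaf (nat_lit 21774101))) (BT.node (nat_lit 6609472) (BT.leaf (nat_lit 21774105)) (BT.leaf (nat_lit 21774109)))) (BT.node (nat_lit 6609664) (BT.node (nat_lit 6609600) (BT.leaf (nat_lit 21774353)) (BT.leaf (nat_lit 21774369))) (BT.node (nat_lit 6609728) (BT.leaf (nat_lit 26071313)) (BT.leaf (nat_lit 22597653)))))))) (BT.node (nat_lit 6612096) (BT.node (nat_lit 6610944) (BT.node (nat_lit 6610432) (BT.node (nat_lit 6610048) (BT.node (nat_lit 6609920) (BT.node (nat_lit 6609856) (BT.leaf (nat_lit 21774865)) (BT.leaf (nat_lit 21775121))) (BT.node (nat_lit 6609984) (BT.leaf (nat_lit 24949021)) (BT.leaf (nat_lit 21775633)))) (BT.node (nat_lit 6610176) (BT.node (nat_lit 6610112) (BT.leaf (nat_lit 22277909)) (BT.leaf (nat_lit 51872541))) (BT.node (nat_lit 6610304) (BT.leaf (nat_lit 52225549)) (BT.leaf (nat_lit 21776657))))) (BT.node (nat_lit 6610688) (BT.node (nat_lit 6610560) (BT.node (nat_lit 6610496) (BT.leaf (nat_lit 21776913)) (BT.leaf (nat_lit 34076701))) (BT.node (nat_lit 6610624) (BT.leaf (nat_lit 27082001)) (BT.leaf (nat_lit 33799693)))) (BT.node (nat_lit 6610816) (BT.node (nat_lit 6610752) (BT.leaf (nat_lit 26755333)) (BT.leaf (nat_lit 25017881))) (BT.node (nat_lit 6610880) (BT.leaf (nat_lit 36852757)) (BT.leaf (nat_lit 36852497)))))) (BT.node (nat_lit 6611456) (BT.node (nat_lit 6611200) (BT.node (nat_lit 6611072) (BT.node (nat_lit 6611008) (BT.leaf (nat_lit 21778193)) (BT.leaf (nat_lit 21778705))) (BT.node (nat_lit 6611136) (BT.leaf (nat_lit 35520541)) (BT.leaf (nat_lit 35718173)))) (BT.node (nat_lit 6611328) (BT.node (nat_lit 6611264) (BT.leaf (nat_lit 33516049)) (BT.leaf (nat_lit 36854805))) (BT.node (nat_lit 6611392) (BT.leaf (nat_lit 32633097)) (BT.leaf (nat_lit 21779485))))) (BT.node (nat_lit 6611712) (BT.node (nat_lit 6611584) (BT.node (nat_lit 6611520) (BT.leaf (nat_lit 35571741)) (BT.leaf (nat_lit 21779993))) (BT.node (nat_lit 6611648) (BT.leaf (nat_lit 21779997)) (BT.leaf (nat_lit 36856089)))) (BT.node (nat_lit 6611904) (BT.node (nat_lit 6611776) (BT.leaf (nat_lit 21780249)) (BT.leaf (nat_lit 25153297))) (BT.node (nat_lit 6611968) (BT.leaf (nat_lit 35657489)) (BT.leaf (nat_lit 35658265))))))) (BT.node (nat_lit 6614208) (BT.node (nat_lit 6612736) (BT.node (nat_lit 6612416) (BT.node (nat_lit 6612224) (BT.node (nat_lit 6612160) (BT.leaf (nat_lit 25190929)) (BT.leaf (nat_lit 21781009))) (BT.node (nat_lit 6612352) (BT.leaf (nat_lit 21781533)) (BT.leaf (nat_lit 21781529)))) (BT.node (nat_lit 6612544) (BT.node (nat_lit 6612480) (BT.leaf (nat_lit 21781765)) (BT.leaf (nat_lit 21782033))) (BT.node (nat_lit 6612672) (BT.leaf (nat_lit 21782037)) (BT.leaf (nat_lit 36859925))))) (BT.node (nat_lit 6613120) (BT.node (nat_lit 6612992) (BT.node (nat_lit 6612928) (BT.leaf (nat_lit 36860433)) (BT.leaf (nat_lit 36861205))) (BT.node (nat_lit 6613056) (BT.leaf (nat_lit 36862225)) (BT.leaf (nat_lit 36862469)))) (BT.node (nat_lit 6613504) (BT.node (nat_lit 6613248) (BT.leaf (nat_lit 34243613)) (BT.leaf (nat_lit 30599941))) (BT.node (nat_lit 6614144) (BT.leaf (nat_lit 21857561)) (BT.leaf (nat_lit 25772549)))))) (BT.node (nat_lit 6614976) (BT.node (nat_lit 6614464) (BT.node (nat_lit 6614336) (BT.node (nat_lit 6614272) (BT.leaf (nat_lit 24828933)) (BT.leaf (nat_lit 21787409))) (BT.node (nat_lit 6614400) (BT.leaf (nat_lit 22670605)) (BT.leaf (nat_lit 21787665)))) (BT.node (nat_lit 6614592) (BT.node (nat_lit 6614528) (BT.leaf (nat_lit 24005405)) (BT.leaf (nat_lit 21787921))) (BT.node (nat_lit 6614656) (BT.leaf (nat_lit 33110305)) (BT.leaf (nat_lit 36196373))))) (BT.node (nat_lit 6615296) (BT.node (nat_lit 6615168) (BT.node (nat_lit 6615104) (BT.leaf (nat_lit 21788693)) (BT.leaf (nat_lit 21788701))) (BT.node (nat_lit 6615232) (BT.leaf (nat_lit 33398281)) (BT.leaf (nat_lit 23604501)))) (BT.node (nat_lit 6615424) (BT.node (nat_lit 6615360) (BT.leaf (nat_lit 27482117)) (BT.leaf (nat_lit 21789213))) (BT.node (nat_lit 6615488) (BT.leaf (nat_lit 32348697)) (BT.leaf (nat_lit 36102677))))))))) (BT.node (nat_lit 6623936) (BT.node (nat_lit 6618496) (BT.node (nat_lit 6616960) (BT.node (nat_lit 6616320) (BT.node (nat_lit 6616000) (BT.node (nat_lit 6615680) (BT.node (nat_lit 6615616) (BT.leaf (nat_lit 21789469)) (BT.leaf (nat_lit 26577669))) (BT.node (nat_lit 6615744) (BT.leaf (nat_lit 21789721)) (BT.leaf (nat_lit 21789725)))) (BT.node (nat_lit 6616192) (BT.node (nat_lit 6616128) (BT.leaf (nat_lit 36877833)) (BT.leaf (nat_lit 21790481))) (BT.node (nat_lit 6616256) (BT.leaf (nat_lit 36511261)) (BT.leaf (nat_lit 27103749))))) (BT.node (nat_lit 6616576) (BT.node (nat_lit 6616448) (BT.node (nat_lit 6616384) (BT.leaf (nat_lit 21790745)) (BT.leaf (nat_lit 21790749))) (BT.node (nat_lit 6616512) (BT.leaf (nat_lit 21790985)) (BT.leaf (nat_lit 34508817)))) (BT.node (nat_lit 6616704) (BT.node (nat_lit 6616640) (BT.leaf (nat_lit 36881425)) (BT.leaf (nat_lit 21791005))) (BT.node (nat_lit 6616768) (BT.leaf (nat_lit 35444997)) (BT.leaf (nat_lit 21791253)))))) (BT.node (nat_lit 6617728) (BT.node (nat_lit 6617408) (BT.node (nat_lit 6617152) (BT.node (nat_lit 6617024) (BT.leaf (nat_lit 21792025)) (BT.leaf (nat_lit 21792029))) (BT.node (nat_lit 6617280) (BT.leaf (nat_lit 27919877)) (BT.leaf (nat_lit 21793045)))) (BT.node (nat_lit 6617600) (BT.node (nat_lit 6617536) (BT.leaf (nat_lit 26895121)) (BT.leaf (nat_lit 35745029))) (BT.node (nat_lit 6617664) (BT.leaf (nat_lit 35745053)) (BT.leaf (nat_lit 21793553))))) (BT.node (nat_lit 6618240) (BT.node (nat_lit 6618048) (BT.node (nat_lit 6617792) (BT.leaf (nat_lit 36654617)) (BT.leaf (nat_lit 21793813))) (BT.node (nat_lit 6618112) (BT.leaf (nat_lit 24236037)) (BT.leaf (nat_lit 33029909)))) (BT.node (nat_lit 6618368) (BT.node (nat_lit 6618304) (BT.leaf (nat_lit 27860229)) (BT.leaf (nat_lit 29744133))) (BT.node (nat_lit 6618432) (BT.leaf (nat_lit 21794845)) (BT.leaf (nat_lit 36887825))))))) (BT.node (nat_lit 6620928) (BT.node (nat_lit 6619904) (BT.node (nat_lit 6619392) (BT.node (nat_lit 6619200) (BT.node (nat_lit 6618560) (BT.leaf (nat_lit 36888081)) (BT.leaf (nat_lit 36600605))) (BT.node (nat_lit 6619264) (BT.leaf (nat_lit 21796369)) (BT.leaf (nat_lit 26473753)))) (BT.node (nat_lit 6619520) (BT.node (nat_lit 6619456) (BT.leaf (nat_lit 36892433)) (BT.leaf (nat_lit 48198153))) (BT.node (nat_lit 6619648) (BT.leaf (nat_lit 21797149)) (BT.leaf (nat_lit 21797393))))) (BT.node (nat_lit 6620416) (BT.node (nat_lit 6620288) (BT.node (nat_lit 6619968) (BT.leaf (nat_lit 21798417)) (BT.leaf (nat_lit 35810845))) (BT.node (nat_lit 6620352) (BT.leaf (nat_lit 26503969)) (BT.leaf (nat_lit 36088581)))) (BT.node (nat_lit 6620736) (BT.node (nat_lit 6620672) (BT.leaf (nat_lit 35529501)) (BT.leaf (nat_lit 37319969))) (BT.node (nat_lit 6620864) (BT.leaf (nat_lit 24512517)) (BT.leaf (nat_lit 24782597)))))) (BT.node (nat_lit 6621888) (BT.node (nat_lit 6621440) (BT.node (nat_lit 6621120) (BT.node (nat_lit 6621056) (BT.leaf (nat_lit 35289377)) (BT.leaf (nat_lit 22386713))) (BT.node (nat_lit 6621248) (BT.leaf (nat_lit 21802257)) (BT.leaf (nat_lit 36900625)))) (BT.node (nat_lit 6621632) (BT.node (nat_lit 6621568) (BT.leaf (nat_lit 36901909)) (BT.leaf (nat_lit 36902425))) (BT.node (nat_lit 6621696) (BT.leaf (nat_lit 36903713)) (BT.leaf (nat_lit 21803801))))) (BT.node (nat_lit 6622784) (BT.node (nat_lit 6622592) (BT.node (nat_lit 6622528) (BT.leaf (nat_lit 22041365)) (BT.leaf (nat_lit 21806361))) (BT.node (nat_lit 6622656) (BT.leaf (nat_lit 21806365)) (BT.leaf (nat_lit 26528005)))) (BT.node (nat_lit 6623104) (BT.node (nat_lit 6622912) (BT.leaf (nat_lit 36514845)) (BT.leaf (nat_lit 21806877))) (BT.node (nat_lit 6623872) (BT.leaf (nat_lit 26511877)) (BT.leaf (nat_lit 34103569)))))))) (BT.node (nat_lit 6628544) (BT.node (nat_lit 6627008) (BT.node (nat_lit 6625088) (BT.node (nat_lit 6624832) (BT.node (nat_lit 6624192) (BT.node (nat_lit 6624128) (BT.leaf (nat_lit 26495513)) (BT.leaf (nat_lit 23314949))) (BT.node (nat_lit 6624704) (BT.leaf (nat_lit 21809693)) (BT.leaf (nat_lit 22109201)))) (BT.node (nat_lit 6624960) (BT.node (nat_lit 6624896) (BT.leaf (nat_lit 21811217)) (BT.leaf (nat_lit 36915221))) (BT.node (nat_lit 6625024) (BT.leaf (nat_lit 33664033)) (BT.leaf (nat_lit 21811737))))) (BT.node (nat_lit 6625984) (BT.node (nat_lit 6625216) (BT.node (nat_lit 6625152) (BT.leaf (nat_lit 21811993)) (BT.leaf (nat_lit 21811997))) (BT.node (nat_lit 6625920) (BT.leaf (nat_lit 21812249)) (BT.leaf (nat_lit 24529413)))) (BT.node (nat_lit 6626816) (BT.node (nat_lit 6626176) (BT.leaf (nat_lit 24529685)) (BT.leaf (nat_lit 52164897))) (BT.node (nat_lit 6626944) (BT.leaf (nat_lit 36923413)) (BT.leaf (nat_lit 26508061)))))) (BT.node (nat_lit 6627712) (BT.node (nat_lit 6627392) (BT.node (nat_lit 6627264) (BT.node (nat_lit 6627200) (BT.leaf (nat_lit 24100881)) (BT.leaf (nat_lit 27211541))) (BT.node (nat_lit 6627328) (BT.leaf (nat_lit 24100113)) (BT.leaf (nat_lit 21818393)))) (BT.node (nat_lit 6627520) (BT.node (nat_lit 6627456) (BT.leaf (nat_lit 30317345)) (BT.leaf (nat_lit 47978005))) (BT.node (nat_lit 6627648) (BT.leaf (nat_lit 25702149)) (BT.leaf (nat_lit 36926737))))) (BT.node (nat_lit 6628096) (BT.node (nat_lit 6627840) (BT.node (nat_lit 6627776) (BT.leaf (nat_lit 36926993)) (BT.leaf (nat_lit 36927257))) (BT.node (nat_lit 6627968) (BT.leaf (nat_lit 21819673)) (BT.leaf (nat_lit 21819921)))) (BT.node (nat_lit 6628288) (BT.node (nat_lit 6628160) (BT.leaf (nat_lit 21820177)) (BT.leaf (nat_lit 26511381))) (BT.node (nat_lit 6628480) (BT.leaf (nat_lit 21820945)) (BT.leaf (nat_lit 36929297))))))) (BT.node (nat_lit 6630464) (BT.node (nat_lit 6629504) (BT.node (nat_lit 6628864) (BT.node (nat_lit 6628736) (BT.node (nat_lit 6628608) (BT.leaf (nat_lit 21821465)) (BT.leaf (nat_lit 21821469))) (BT.node (nat_lit 6628800) (BT.leaf (nat_lit 21821713)) (BT.leaf (nat_lit 36499229)))) (BT.node (nat_lit 6629120) (BT.node (nat_lit 6628928) (BT.leaf (nat_lit 36931089)) (BT.leaf (nat_lit 26515481))) (BT.node (nat_lit 6629440) (BT.leaf (nat_lit 27012357)) (BT.leaf (nat_lit 21823257))))) (BT.node (nat_lit 6630144) (BT.node (nat_lit 6629632) (BT.node (nat_lit 6629568) (BT.leaf (nat_lit 21823261)) (BT.leaf (nat_lit 35897093))) (BT.node (nat_lit 6630080) (BT.leaf (nat_lit 21823517)) (BT.leaf (nat_lit 22290973)))) (BT.node (nat_lit 6630272) (BT.node (nat_lit 6630208) (BT.leaf (nat_lit 27196689)) (BT.leaf (nat_lit 26520601))) (BT.node (nat_lit 6630400) (BT.leaf (nat_lit 36933917)) (BT.leaf (nat_lit 21825297)))))) (BT.node (nat_lit 6632064) (BT.node (nat_lit 6631040) (BT.node (nat_lit 6630912) (BT.node (nat_lit 6630784) (BT.leaf (nat_lit 27197977)) (BT.leaf (nat_lit 21826321))) (BT.node (nat_lit 6630976) (BT.leaf (nat_lit 23600921)) (BT.leaf (nat_lit 23600925)))) (BT.node (nat_lit 6631872) (BT.node (nat_lit 6631808) (BT.leaf (nat_lit 37100805)) (BT.leaf (nat_lit 36940565))) (BT.node (nat_lit 6632000) (BT.leaf (nat_lit 36941077)) (BT.leaf (nat_lit 36941841))))) (BT.node (nat_lit 6632704) (BT.node (nat_lit 6632256) (BT.node (nat_lit 6632128) (BT.leaf (nat_lit 36899353)) (BT.leaf (nat_lit 21830941))) (BT.node (nat_lit 6632512) (BT.leaf (nat_lit 35571733)) (BT.leaf (nat_lit 21832209)))) (BT.node (nat_lit 6632960) (BT.node (nat_lit 6632832) (BT.leaf (nat_lit 35574805)) (BT.leaf (nat_lit 36777749))) (BT.node (nat_lit 6633024) (BT.leaf (nat_lit 21833233)) (BT.leaf (nat_lit 36944665))))))))))) (BT.node (nat_lit 6662016) (BT.node (nat_lit 6646208) (BT.node (nat_lit 6640448) (BT.node (nat_lit 6636992) (BT.node (nat_lit 6635008) (BT.node (nat_lit 6634048) (BT.node (nat_lit 6633536) (BT.node (nat_lit 6633280) (BT.node (nat_lit 6633216) (BT.leaf (nat_lit 35575837)) (BT.leaf (nat_lit 28502561))) (BT.node (nat_lit 6633344) (BT.leaf (nat_lit 28513557)) (BT.leaf (nat_lit 22123281)))) (BT.node (nat_lit 6633728) (BT.node (nat_lit 6633600) (BT.leaf (nat_lit 27057429)) (BT.leaf (nat_lit 21881113))) (BT.node (nat_lit 6633984) (BT.leaf (nat_lit 21881097)) (BT.leaf (nat_lit 25373189))))) (BT.node (nat_lit 6634496) (BT.node (nat_lit 6634240) (BT.node (nat_lit 6634176) (BT.leaf (nat_lit 21836049)) (BT.leaf (nat_lit 21836305))) (BT.node (nat_lit 6634304) (BT.leaf (nat_lit 35536917)) (BT.leaf (nat_lit 26770437)))) (BT.node (nat_lit 6634816) (BT.node (nat_lit 6634560) (BT.leaf (nat_lit 35538453)) (BT.leaf (nat_lit 21837841))) (BT.node (nat_lit 6634944) (BT.leaf (nat_lit 22547737)) (BT.leaf (nat_lit 31548937)))))) (BT.node (nat_lit 6635904) (BT.node (nat_lit 6635520) (BT.node (nat_lit 6635392) (BT.node (nat_lit 6635328) (BT.leaf (nat_lit 34648077)) (BT.leaf (nat_lit 36017693))) (BT.node (nat_lit 6635456) (BT.leaf (nat_lit 21839897)) (BT.leaf (nat_lit 35838749)))) (BT.node (nat_lit 6635712) (BT.node (nat_lit 6635584) (BT.leaf (nat_lit 21840157)) (BT.leaf (nat_lit 36017169))) (BT.node (nat_lit 6635776) (BT.leaf (nat_lit 21840657)) (BT.leaf (nat_lit 21840913))))) (BT.node (nat_lit 6636288) (BT.node (nat_lit 6636032) (BT.node (nat_lit 6635968) (BT.leaf (nat_lit 26375705)) (BT.leaf (nat_lit 35752197))) (BT.node (nat_lit 6636160) (BT.leaf (nat_lit 26707717)) (BT.leaf (nat_lit 36957205)))) (BT.node (nat_lit 6636736) (BT.node (nat_lit 6636352) (BT.leaf (nat_lit 21842193)) (BT.leaf (nat_lit 26709509))) (BT.node (nat_lit 6636800) (BT.leaf (nat_lit 21842965)) (BT.leaf (nat_lit 21843217))))))) (BT.node (nat_lit 6638592) (BT.node (nat_lit 6637760) (BT.node (nat_lit 6637504) (BT.node (nat_lit 6637248) (BT.node (nat_lit 6637056) (BT.leaf (nat_lit 21844241)) (BT.leaf (nat_lit 21843737))) (BT.node (nat_lit 6637440) (BT.leaf (nat_lit 27055389)) (BT.leaf (nat_lit 21844509)))) (BT.node (nat_lit 6637632) (BT.node (nat_lit 6637568) (BT.leaf (nat_lit 21844753)) (BT.leaf (nat_lit 21844757))) (BT.node (nat_lit 6637696) (BT.leaf (nat_lit 21845017)) (BT.leaf (nat_lit 23450885))))) (BT.node (nat_lit 6638208) (BT.node (nat_lit 6638080) (BT.node (nat_lit 6637824) (BT.leaf (nat_lit 47835921)) (BT.leaf (nat_lit 21845777))) (BT.node (nat_lit 6638144) (BT.leaf (nat_lit 22135313)) (BT.leaf (nat_lit 21846297)))) (BT.node (nat_lit 6638400) (BT.node (nat_lit 6638272) (BT.leaf (nat_lit 29209621)) (BT.leaf (nat_lit 21846557))) (BT.node (nat_lit 6638464) (BT.leaf (nat_lit 21846801)) (BT.leaf (nat_lit 21847057)))))) (BT.node (nat_lit 6639744) (BT.node (nat_lit 6639488) (BT.node (nat_lit 6638912) (BT.node (nat_lit 6638656) (BT.leaf (nat_lit 36967685)) (BT.leaf (nat_lit 36968725))) (BT.node (nat_lit 6639424) (BT.leaf (nat_lit 34471197)) (BT.leaf (nat_lit 22860313)))) (BT.node (nat_lit 6639616) (BT.node (nat_lit 6639552) (BT.leaf (nat_lit 21849109)) (BT.leaf (nat_lit 21849369))) (BT.node (nat_lit 6639680) (BT.leaf (nat_lit 21849373)) (BT.leaf (nat_lit 36971537))))) (BT.node (nat_lit 6640064) (BT.node (nat_lit 6639872) (BT.node (nat_lit 6639808) (BT.leaf (nat_lit 36972057)) (BT.leaf (nat_lit 21849625))) (BT.node (nat_lit 6639936) (BT.leaf (nat_lit 21849873)) (BT.leaf (nat_lit 21850137)))) (BT.node (nat_lit 6640192) (BT.node (nat_lit 6640128) (BT.leaf (nat_lit 21850653)) (BT.leaf (nat_lit 21850897))) (BT.node (nat_lit 6640256) (BT.leaf (nat_lit 21850901)) (BT.leaf (nat_lit 21851153)))))))) (BT.node (nat_lit 6643456) (BT.node (nat_lit 6641920) (BT.node (nat_lit 6641216) (BT.node (nat_lit 6640832) (BT.node (nat_lit 6640640) (BT.node (nat_lit 6640512) (BT.leaf (nat_lit 22072085)) (BT.leaf (nat_lit 36184597))) (BT.node (nat_lit 6640704) (BT.leaf (nat_lit 26828829)) (BT.leaf (nat_lit 26138901)))) (BT.node (nat_lit 6641024) (BT.node (nat_lit 6640896) (BT.leaf (nat_lit 27241497)) (BT.leaf (nat_lit 26537997))) (BT.node (nat_lit 6641088) (BT.leaf (nat_lit 21854481)) (BT.leaf (nat_lit 36975365))))) (BT.node (nat_lit 6641472) (BT.node (nat_lit 6641344) (BT.node (nat_lit 6641280) (BT.leaf (nat_lit 35537177)) (BT.leaf (nat_lit 21854737))) (BT.node (nat_lit 6641408) (BT.leaf (nat_lit 24731681)) (BT.leaf (nat_lit 21854993)))) (BT.node (nat_lit 6641792) (BT.node (nat_lit 6641664) (BT.leaf (nat_lit 30775329)) (BT.leaf (nat_lit 25269793))) (BT.node (nat_lit 6641856) (BT.leaf (nat_lit 21855761)) (BT.leaf (nat_lit 22143769)))))) (BT.node (nat_lit 6642816) (BT.node (nat_lit 6642368) (BT.node (nat_lit 6642048) (BT.node (nat_lit 6641984) (BT.leaf (nat_lit 21856017)) (BT.leaf (nat_lit 36389665))) (BT.node (nat_lit 6642304) (BT.leaf (nat_lit 21856281)) (BT.leaf (nat_lit 21857041)))) (BT.node (nat_lit 6642688) (BT.node (nat_lit 6642624) (BT.leaf (nat_lit 21857297)) (BT.leaf (nat_lit 21858565))) (BT.node (nat_lit 6642752) (BT.leaf (nat_lit 36980753)) (BT.leaf (nat_lit 26570777))))) (BT.node (nat_lit 6643136) (BT.node (nat_lit 6642944) (BT.node (nat_lit 6642880) (BT.leaf (nat_lit 21858837)) (BT.leaf (nat_lit 25020441))) (BT.node (nat_lit 6643072) (BT.leaf (nat_lit 36982557)) (BT.leaf (nat_lit 25409029)))) (BT.node (nat_lit 6643328) (BT.node (nat_lit 6643200) (BT.leaf (nat_lit 21859861)) (BT.leaf (nat_lit 33620753))) (BT.node (nat_lit 6643392) (BT.leaf (nat_lit 21860629)) (BT.leaf (nat_lit 28166929))))))) (BT.node (nat_lit 6644928) (BT.node (nat_lit 6644288) (BT.node (nat_lit 6643904) (BT.node (nat_lit 6643712) (BT.node (nat_lit 6643520) (BT.leaf (nat_lit 27720197)) (BT.leaf (nat_lit 21860881))) (BT.node (nat_lit 6643776) (BT.leaf (nat_lit 27109905)) (BT.leaf (nat_lit 36986641)))) (BT.node (nat_lit 6644160) (BT.node (nat_lit 6644096) (BT.leaf (nat_lit 36987665)) (BT.leaf (nat_lit 37669125))) (BT.node (nat_lit 6644224) (BT.leaf (nat_lit 21862161)) (BT.leaf (nat_lit 27173661))))) (BT.node (nat_lit 6644544) (BT.node (nat_lit 6644416) (BT.node (nat_lit 6644352) (BT.leaf (nat_lit 21862421)) (BT.leaf (nat_lit 27045149))) (BT.node (nat_lit 6644480) (BT.leaf (nat_lit 22129937)) (BT.leaf (nat_lit 21862937)))) (BT.node (nat_lit 6644800) (BT.node (nat_lit 6644736) (BT.leaf (nat_lit 21862941)) (BT.leaf (nat_lit 21863441))) (BT.node (nat_lit 6644864) (BT.leaf (nat_lit 21863697)) (BT.leaf (nat_lit 36069405)))))) (BT.node (nat_lit 6645376) (BT.node (nat_lit 6645124) (BT.node (nat_lit 6645120) (BT.node (nat_lit 6645056) (BT.leaf (nat_lit 21863941)) (BT.leaf (nat_lit 26580509))) (BT.node (nat_lit 6645122) (BT.leaf (nat_lit 22054161)) (BT.leaf (nat_lit 420104)))) (BT.node (nat_lit 6645248) (BT.node (nat_lit 6645184) (BT.leaf (nat_lit 420104)) (BT.leaf (nat_lit 27092757))) (BT.node (nat_lit 6645312) (BT.leaf (nat_lit 21864737)) (BT.leaf (nat_lit 21864469))))) (BT.node (nat_lit 6645632) (BT.node (nat_lit 6645504) (BT.node (nat_lit 6645440) (BT.leaf (nat_lit 21864713)) (BT.leaf (nat_lit 21864717))) (BT.node (nat_lit 6645568) (BT.leaf (nat_lit 21864729)) (BT.leaf (nat_lit 22152465)))) (BT.node (nat_lit 6645888) (BT.node (nat_lit 6645824) (BT.leaf (nat_lit 22152209)) (BT.leaf (nat_lit 21865489))) (BT.node (nat_lit 6646144) (BT.leaf (nat_lit 21865989)) (BT.leaf (nat_lit 26221341))))))))) (BT.node (nat_lit 6652288) (BT.node (nat_lit 6649216) (BT.node (nat_lit 6647488) (BT.node (nat_lit 6646848) (BT.node (nat_lit 6646528) (BT.node (nat_lit 6646336) (BT.node (nat_lit 6646272) (BT.leaf (nat_lit 21866261)) (BT.leaf (nat_lit 21866265))) (BT.node (nat_lit 6646400) (BT.leaf (nat_lit 21866269)) (BT.leaf (nat_lit 21866513)))) (BT.node (nat_lit 6646720) (BT.node (nat_lit 6646656) (BT.leaf (nat_lit 27256337)) (BT.leaf (nat_lit 36685341))) (BT.node (nat_lit 6646784) (BT.leaf (nat_lit 26281757)) (BT.leaf (nat_lit 26281737))))) (BT.node (nat_lit 6647168) (BT.node (nat_lit 6647040) (BT.node (nat_lit 6646976) (BT.leaf (nat_lit 26587161)) (BT.leaf (nat_lit 26886173))) (BT.node (nat_lit 6647104) (BT.leaf (nat_lit 21867285)) (BT.leaf (nat_lit 26859289)))) (BT.node (nat_lit 6647360) (BT.node (nat_lit 6647232) (BT.leaf (nat_lit 21867541)) (BT.leaf (nat_lit 21868049))) (BT.node (nat_lit 6647424) (BT.leaf (nat_lit 37003025)) (BT.leaf (nat_lit 37003537)))))) (BT.node (nat_lit 6648576) (BT.node (nat_lit 6647936) (BT.node (nat_lit 6647616) (BT.node (nat_lit 6647552) (BT.leaf (nat_lit 21868829)) (BT.leaf (nat_lit 37004317))) (BT.node (nat_lit 6647744) (BT.leaf (nat_lit 37004817)) (BT.leaf (nat_lit 21869841)))) (BT.node (nat_lit 6648192) (BT.node (nat_lit 6648064) (BT.leaf (nat_lit 27259921)) (BT.leaf (nat_lit 21870369))) (BT.node (nat_lit 6648512) (BT.leaf (nat_lit 37008913)) (BT.leaf (nat_lit 21871633))))) (BT.node (nat_lit 6648960) (BT.node (nat_lit 6648768) (BT.node (nat_lit 6648704) (BT.leaf (nat_lit 21871889)) (BT.leaf (nat_lit 21872153))) (BT.node (nat_lit 6648832) (BT.leaf (nat_lit 21872157)) (BT.leaf (nat_lit 21872401)))) (BT.node (nat_lit 6649088) (BT.node (nat_lit 6649024) (BT.leaf (nat_lit 21872661)) (BT.leaf (nat_lit 36143377))) (BT.node (nat_lit 6649152) (BT.leaf (nat_lit 26596121)) (BT.leaf (nat_lit 21872913))))))) (BT.node (nat_lit 6650624) (BT.node (nat_lit 6650048) (BT.node (nat_lit 6649536) (BT.node (nat_lit 6649344) (BT.node (nat_lit 6649280) (BT.leaf (nat_lit 21872929)) (BT.leaf (nat_lit 21873173))) (BT.node (nat_lit 6649408) (BT.leaf (nat_lit 37014545)) (BT.leaf (nat_lit 21873425)))) (BT.node (nat_lit 6649792) (BT.node (nat_lit 6649664) (BT.leaf (nat_lit 36865561)) (BT.leaf (nat_lit 36626193))) (BT.node (nat_lit 6649984) (BT.leaf (nat_lit 26270237)) (BT.leaf (nat_lit 25506581))))) (BT.node (nat_lit 6650304) (BT.node (nat_lit 6650176) (BT.node (nat_lit 6650112) (BT.leaf (nat_lit 37415177)) (BT.leaf (nat_lit 21874197))) (BT.node (nat_lit 6650240) (BT.leaf (nat_lit 26917657)) (BT.leaf (nat_lit 21874453)))) (BT.node (nat_lit 6650432) (BT.node (nat_lit 6650368) (BT.leaf (nat_lit 21875217)) (BT.leaf (nat_lit 21875473))) (BT.node (nat_lit 6650496) (BT.leaf (nat_lit 21875733)) (BT.leaf (nat_lit 21875737)))))) (BT.node (nat_lit 6651136) (BT.node (nat_lit 6650880) (BT.node (nat_lit 6650752) (BT.node (nat_lit 6650688) (BT.leaf (nat_lit 21875985)) (BT.leaf (nat_lit 21876241))) (BT.node (nat_lit 6650816) (BT.leaf (nat_lit 21876501)) (BT.leaf (nat_lit 26603549)))) (BT.node (nat_lit 6651008) (BT.node (nat_lit 6650944) (BT.leaf (nat_lit 37021201)) (BT.leaf (nat_lit 21876753))) (BT.node (nat_lit 6651072) (BT.leaf (nat_lit 21876769)) (BT.leaf (nat_lit 21877013))))) (BT.node (nat_lit 6651648) (BT.node (nat_lit 6651264) (BT.node (nat_lit 6651200) (BT.leaf (nat_lit 37022737)) (BT.leaf (nat_lit 26604569))) (BT.node (nat_lit 6651328) (BT.leaf (nat_lit 21877265)) (BT.leaf (nat_lit 21877281)))) (BT.node (nat_lit 6652096) (BT.node (nat_lit 6651904) (BT.leaf (nat_lit 21878813)) (BT.leaf (nat_lit 25329693))) (BT.node (nat_lit 6652224) (BT.leaf (nat_lit 21881361)) (BT.leaf (nat_lit 21882129)))))))) (BT.node (nat_lit 6658240) (BT.node (nat_lit 6655232) (BT.node (nat_lit 6653504) (BT.node (nat_lit 6652864) (BT.node (nat_lit 6652544) (BT.node (nat_lit 6652352) (BT.leaf (nat_lit 21881625)) (BT.leaf (nat_lit 21881629))) (BT.node (nat_lit 6652800) (BT.leaf (nat_lit 21883153)) (BT.leaf (nat_lit 26042653)))) (BT.node (nat_lit 6652992) (BT.node (nat_lit 6652928) (BT.leaf (nat_lit 34866453)) (BT.leaf (nat_lit 35562273))) (BT.node (nat_lit 6653056) (BT.leaf (nat_lit 37029137)) (BT.leaf (nat_lit 26611993))))) (BT.node (nat_lit 6654080) (BT.node (nat_lit 6653952) (BT.node (nat_lit 6653632) (BT.leaf (nat_lit 36970525)) (BT.leaf (nat_lit 33561109))) (BT.node (nat_lit 6654016) (BT.leaf (nat_lit 27070753)) (BT.leaf (nat_lit 25208593)))) (BT.node (nat_lit 6654208) (BT.node (nat_lit 6654144) (BT.leaf (nat_lit 37032709)) (BT.leaf (nat_lit 27070485))) (BT.node (nat_lit 6654912) (BT.leaf (nat_lit 25207825)) (BT.leaf (nat_lit 21891349)))))) (BT.node (nat_lit 6656896) (BT.node (nat_lit 6655872) (BT.node (nat_lit 6655360) (BT.node (nat_lit 6655296) (BT.leaf (nat_lit 21891357)) (BT.leaf (nat_lit 36590597))) (BT.node (nat_lit 6655744) (BT.leaf (nat_lit 37390085)) (BT.leaf (nat_lit 26875425)))) (BT.node (nat_lit 6656704) (BT.node (nat_lit 6656128) (BT.leaf (nat_lit 21893397)) (BT.leaf (nat_lit 21894165))) (BT.node (nat_lit 6656768) (BT.leaf (nat_lit 47683333)) (BT.leaf (nat_lit 25917701))))) (BT.node (nat_lit 6657792) (BT.node (nat_lit 6657536) (BT.node (nat_lit 6657152) (BT.leaf (nat_lit 21896217)) (BT.leaf (nat_lit 21897489))) (BT.node (nat_lit 6657728) (BT.leaf (nat_lit 21898513)) (BT.leaf (nat_lit 37038613)))) (BT.node (nat_lit 6657984) (BT.node (nat_lit 6657920) (BT.leaf (nat_lit 37038853)) (BT.leaf (nat_lit 26622997))) (BT.node (nat_lit 6658112) (BT.leaf (nat_lit 26748181)) (BT.leaf (nat_lit 22222613))))))) (BT.node (nat_lit 6659840) (BT.node (nat_lit 6659200) (BT.node (nat_lit 6658560) (BT.node (nat_lit 6658368) (BT.node (nat_lit 6658304) (BT.leaf (nat_lit 21902353)) (BT.leaf (nat_lit 37040901))) (BT.node (nat_lit 6658496) (BT.leaf (nat_lit 30906117)) (BT.leaf (nat_lit 26273569)))) (BT.node (nat_lit 6658816) (BT.node (nat_lit 6658688) (BT.leaf (nat_lit 23827465)) (BT.leaf (nat_lit 34946325))) (BT.node (nat_lit 6658880) (BT.leaf (nat_lit 21903633)) (BT.leaf (nat_lit 36230685))))) (BT.node (nat_lit 6659456) (BT.node (nat_lit 6659328) (BT.node (nat_lit 6659264) (BT.leaf (nat_lit 21904405)) (BT.leaf (nat_lit 22071581))) (BT.node (nat_lit 6659392) (BT.leaf (nat_lit 27098117)) (BT.leaf (nat_lit 26920473)))) (BT.node (nat_lit 6659712) (BT.node (nat_lit 6659584) (BT.leaf (nat_lit 21905169)) (BT.leaf (nat_lit 36586765))) (BT.node (nat_lit 6659776) (BT.leaf (nat_lit 22208033)) (BT.leaf (nat_lit 22169105)))))) (BT.node (nat_lit 6660928) (BT.node (nat_lit 6660416) (BT.node (nat_lit 6660096) (BT.node (nat_lit 6660032) (BT.leaf (nat_lit 22168849)) (BT.leaf (nat_lit 21906193))) (BT.node (nat_lit 6660160) (BT.leaf (nat_lit 21906197)) (BT.leaf (nat_lit 21906449)))) (BT.node (nat_lit 6660544) (BT.node (nat_lit 6660480) (BT.leaf (nat_lit 34848777)) (BT.leaf (nat_lit 21907737))) (BT.node (nat_lit 6660864) (BT.leaf (nat_lit 21907741)) (BT.leaf (nat_lit 26643741))))) (BT.node (nat_lit 6661632) (BT.node (nat_lit 6661120) (BT.node (nat_lit 6660992) (BT.leaf (nat_lit 36139281)) (BT.leaf (nat_lit 25283857))) (BT.node (nat_lit 6661440) (BT.leaf (nat_lit 35989509)) (BT.leaf (nat_lit 27919133)))) (BT.node (nat_lit 6661760) (BT.node (nat_lit 6661696) (BT.leaf (nat_lit 21910545)) (BT.leaf (nat_lit 37447689))) (BT.node (nat_lit 6661824) (BT.leaf (nat_lit 51487001)) (BT.leaf (nat_lit 28728089)))))))))) (BT.node (nat_lit 6675456) (BT.node (nat_lit 6668352) (BT.node (nat_lit 6665536) (BT.node (nat_lit 6663872) (BT.node (nat_lit 6662848) (BT.node (nat_lit 6662592) (BT.node (nat_lit 6662400) (BT.node (nat_lit 6662336) (BT.leaf (nat_lit 35906837)) (BT.leaf (nat_lit 37053721))) (BT.node (nat_lit 6662464) (BT.leaf (nat_lit 29881109)) (BT.leaf (nat_lit 31176725)))) (BT.node (nat_lit 6662720) (BT.node (nat_lit 6662656) (BT.leaf (nat_lit 21912349)) (BT.leaf (nat_lit 21912585))) (BT.node (nat_lit 6662784) (BT.leaf (nat_lit 21912589)) (BT.leaf (nat_lit 21912601))))) (BT.node (nat_lit 6663232) (BT.node (nat_lit 6663104) (BT.node (nat_lit 6662976) (BT.leaf (nat_lit 34307077)) (BT.leaf (nat_lit 21912853))) (BT.node (nat_lit 6663168) (BT.leaf (nat_lit 21913373)) (BT.leaf (nat_lit 25400865)))) (BT.node (nat_lit 6663424) (BT.node (nat_lit 6663360) (BT.leaf (nat_lit 21913861)) (BT.leaf (nat_lit 21913877))) (BT.node (nat_lit 6663488) (BT.leaf (nat_lit 25340421)) (BT.leaf (nat_lit 21914133)))))) (BT.node (nat_lit 6664640) (BT.node (nat_lit 6664256) (BT.node (nat_lit 6664064) (BT.node (nat_lit 6664000) (BT.leaf (nat_lit 25961489)) (BT.leaf (nat_lit 33997585))) (BT.node (nat_lit 6664192) (BT.leaf (nat_lit 26656025)) (BT.leaf (nat_lit 21916437)))) (BT.node (nat_lit 6664384) (BT.node (nat_lit 6664320) (BT.leaf (nat_lit 21916441)) (BT.leaf (nat_lit 21916445))) (BT.node (nat_lit 6664512) (BT.leaf (nat_lit 21916689)) (BT.leaf (nat_lit 37063441))))) (BT.node (nat_lit 6665216) (BT.node (nat_lit 6665088) (BT.node (nat_lit 6664704) (BT.leaf (nat_lit 37063437)) (BT.leaf (nat_lit 26920985))) (BT.node (nat_lit 6665152) (BT.leaf (nat_lit 27148817)) (BT.leaf (nat_lit 24925213)))) (BT.node (nat_lit 6665408) (BT.node (nat_lit 6665280) (BT.leaf (nat_lit 21918481)) (BT.leaf (nat_lit 21918737))) (BT.node (nat_lit 6665472) (BT.leaf (nat_lit 37066257)) (BT.leaf (nat_lit 21919769))))))) (BT.node (nat_lit 6666688) (BT.node (nat_lit 6666112) (BT.node (nat_lit 6665856) (BT.node (nat_lit 6665728) (BT.node (nat_lit 6665600) (BT.leaf (nat_lit 21919773)) (BT.leaf (nat_lit 21920017))) (BT.node (nat_lit 6665792) (BT.leaf (nat_lit 21920285)) (BT.leaf (nat_lit 35165701)))) (BT.node (nat_lit 6665984) (BT.node (nat_lit 6665920) (BT.leaf (nat_lit 27986693)) (BT.leaf (nat_lit 21920797))) (BT.node (nat_lit 6666048) (BT.leaf (nat_lit 21921297)) (BT.leaf (nat_lit 30154269))))) (BT.node (nat_lit 6666368) (BT.node (nat_lit 6666240) (BT.node (nat_lit 6666176) (BT.leaf (nat_lit 22184465)) (BT.leaf (nat_lit 22184209))) (BT.node (nat_lit 6666304) (BT.leaf (nat_lit 21921561)) (BT.leaf (nat_lit 21921565)))) (BT.node (nat_lit 6666496) (BT.node (nat_lit 6666432) (BT.leaf (nat_lit 21921809)) (BT.leaf (nat_lit 27978529))) (BT.node (nat_lit 6666560) (BT.leaf (nat_lit 21922065)) (BT.leaf (nat_lit 21922069)))))) (BT.node (nat_lit 6667392) (BT.node (nat_lit 6667136) (BT.node (nat_lit 6666944) (BT.node (nat_lit 6666816) (BT.leaf (nat_lit 25358881)) (BT.leaf (nat_lit 49868549))) (BT.node (nat_lit 6667008) (BT.leaf (nat_lit 21922833)) (BT.leaf (nat_lit 26668569)))) (BT.node (nat_lit 6667264) (BT.node (nat_lit 6667200) (BT.leaf (nat_lit 37073937)) (BT.leaf (nat_lit 21923609))) (BT.node (nat_lit 6667328) (BT.leaf (nat_lit 21923613)) (BT.leaf (nat_lit 21923865))))) (BT.node (nat_lit 6667648) (BT.node (nat_lit 6667520) (BT.node (nat_lit 6667456) (BT.leaf (nat_lit 37077013)) (BT.leaf (nat_lit 21924125))) (BT.node (nat_lit 6667584) (BT.leaf (nat_lit 26357777)) (BT.leaf (nat_lit 21925137)))) (BT.node (nat_lit 6668032) (BT.node (nat_lit 6667840) (BT.leaf (nat_lit 28206089)) (BT.leaf (nat_lit 26577925))) (BT.node (nat_lit 6668288) (BT.leaf (nat_lit 21926417)) (BT.leaf (nat_lit 26208265)))))))) (BT.node (nat_lit 6672640) (BT.node (nat_lit 6670336) (BT.node (nat_lit 6669184) (BT.node (nat_lit 6668736) (BT.node (nat_lit 6668608) (BT.node (nat_lit 6668416) (BT.leaf (nat_lit 21927185)) (BT.leaf (nat_lit 21927441))) (BT.node (nat_lit 6668672) (BT.leaf (nat_lit 26213661)) (BT.leaf (nat_lit 35611925)))) (BT.node (nat_lit 6668992) (BT.node (nat_lit 6668928) (BT.leaf (nat_lit 26213645)) (BT.leaf (nat_lit 26723089))) (BT.node (nat_lit 6669056) (BT.leaf (nat_lit 21928729)) (BT.leaf (nat_lit 21928733))))) (BT.node (nat_lit 6669824) (BT.node (nat_lit 6669632) (BT.node (nat_lit 6669248) (BT.leaf (nat_lit 21929241)) (BT.leaf (nat_lit 23104005))) (BT.node (nat_lit 6669760) (BT.leaf (nat_lit 21930261)) (BT.leaf (nat_lit 21930513)))) (BT.node (nat_lit 6670016) (BT.node (nat_lit 6669952) (BT.leaf (nat_lit 21932313)) (BT.leaf (nat_lit 27012113))) (BT.node (nat_lit 6670272) (BT.leaf (nat_lit 26679833)) (BT.leaf (nat_lit 37086481)))))) (BT.node (nat_lit 6671360) (BT.node (nat_lit 6670720) (BT.node (nat_lit 6670592) (BT.node (nat_lit 6670464) (BT.leaf (nat_lit 37087517)) (BT.leaf (nat_lit 37088789))) (BT.node (nat_lit 6670656) (BT.leaf (nat_lit 21932561)) (BT.leaf (nat_lit 21932565)))) (BT.node (nat_lit 6671168) (BT.node (nat_lit 6670784) (BT.leaf (nat_lit 21932817)) (BT.leaf (nat_lit 21932821))) (BT.node (nat_lit 6671232) (BT.leaf (nat_lit 21934613)) (BT.leaf (nat_lit 36370461))))) (BT.node (nat_lit 6671936) (BT.node (nat_lit 6671680) (BT.node (nat_lit 6671616) (BT.leaf (nat_lit 21936413)) (BT.leaf (nat_lit 26279185))) (BT.node (nat_lit 6671872) (BT.leaf (nat_lit 26686489)) (BT.leaf (nat_lit 36633361)))) (BT.node (nat_lit 6672128) (BT.node (nat_lit 6672064) (BT.leaf (nat_lit 26603281)) (BT.leaf (nat_lit 21936401))) (BT.node (nat_lit 6672256) (BT.leaf (nat_lit 36327945)) (BT.leaf (nat_lit 21936665))))))) (BT.node (nat_lit 6674240) (BT.node (nat_lit 6673536) (BT.node (nat_lit 6673024) (BT.node (nat_lit 6672768) (BT.node (nat_lit 6672704) (BT.leaf (nat_lit 37098781)) (BT.leaf (nat_lit 26050069))) (BT.node (nat_lit 6672832) (BT.leaf (nat_lit 33669145)) (BT.leaf (nat_lit 37099549)))) (BT.node (nat_lit 6673280) (BT.node (nat_lit 6673152) (BT.leaf (nat_lit 25228049)) (BT.leaf (nat_lit 37101061))) (BT.node (nat_lit 6673344) (BT.leaf (nat_lit 26555653)) (BT.leaf (nat_lit 21938713))))) (BT.node (nat_lit 6673856) (BT.node (nat_lit 6673664) (BT.node (nat_lit 6673600) (BT.leaf (nat_lit 37103385)) (BT.leaf (nat_lit 25155861))) (BT.node (nat_lit 6673792) (BT.leaf (nat_lit 35985177)) (BT.leaf (nat_lit 37103893)))) (BT.node (nat_lit 6674112) (BT.node (nat_lit 6673984) (BT.leaf (nat_lit 25530649)) (BT.leaf (nat_lit 25530633))) (BT.node (nat_lit 6674176) (BT.leaf (nat_lit 26446097)) (BT.leaf (nat_lit 21940485)))))) (BT.node (nat_lit 6674880) (BT.node (nat_lit 6674560) (BT.node (nat_lit 6674368) (BT.node (nat_lit 6674304) (BT.leaf (nat_lit 26697245)) (BT.leaf (nat_lit 37105425))) (BT.node (nat_lit 6674432) (BT.leaf (nat_lit 21940757)) (BT.leaf (nat_lit 37106713)))) (BT.node (nat_lit 6674752) (BT.node (nat_lit 6674688) (BT.leaf (nat_lit 21941521)) (BT.leaf (nat_lit 35819781))) (BT.node (nat_lit 6674816) (BT.leaf (nat_lit 21942545)) (BT.leaf (nat_lit 21942041))))) (BT.node (nat_lit 6675200) (BT.node (nat_lit 6675072) (BT.node (nat_lit 6675008) (BT.leaf (nat_lit 21942045)) (BT.leaf (nat_lit 27181341))) (BT.node (nat_lit 6675136) (BT.leaf (nat_lit 22200337)) (BT.leaf (nat_lit 22200081)))) (BT.node (nat_lit 6675328) (BT.node (nat_lit 6675264) (BT.leaf (nat_lit 21943057)) (BT.leaf (nat_lit 31976481))) (BT.node (nat_lit 6675392) (BT.leaf (nat_lit 21943825)) (BT.leaf (nat_lit 21944081))))))))) (BT.node (nat_lit 6680896) (BT.node (nat_lit 6678080) (BT.node (nat_lit 6676800) (BT.node (nat_lit 6676096) (BT.node (nat_lit 6675776) (BT.node (nat_lit 6675584) (BT.node (nat_lit 6675520) (BT.leaf (nat_lit 34887713)) (BT.leaf (nat_lit 23855365))) (BT.node (nat_lit 6675648) (BT.leaf (nat_lit 33325573)) (BT.leaf (nat_lit 48459809)))) (BT.node (nat_lit 6675968) (BT.node (nat_lit 6675840) (BT.leaf (nat_lit 21945873)) (BT.leaf (nat_lit 21946133))) (BT.node (nat_lit 6676032) (BT.leaf (nat_lit 37113361)) (BT.leaf (nat_lit 37114141))))) (BT.node (nat_lit 6676544) (BT.node (nat_lit 6676416) (BT.node (nat_lit 6676224) (BT.leaf (nat_lit 21946645)) (BT.leaf (nat_lit 37115921))) (BT.node (nat_lit 6676480) (BT.leaf (nat_lit 37117713)) (BT.leaf (nat_lit 21947157)))) (BT.node (nat_lit 6676672) (BT.node (nat_lit 6676608) (BT.leaf (nat_lit 30033169)) (BT.leaf (nat_lit 26706201))) (BT.node (nat_lit 6676736) (BT.leaf (nat_lit 21947413)) (BT.leaf (nat_lit 26707229)))))) (BT.node (nat_lit 6677376) (BT.node (nat_lit 6677120) (BT.node (nat_lit 6676928) (BT.node (nat_lit 6676864) (BT.leaf (nat_lit 37017617)) (BT.leaf (nat_lit 22194961))) (BT.node (nat_lit 6676992) (BT.leaf (nat_lit 21947673)) (BT.leaf (nat_lit 21947677)))) (BT.node (nat_lit 6677248) (BT.node (nat_lit 6677184) (BT.leaf (nat_lit 37123349)) (BT.leaf (nat_lit 21948681))) (BT.node (nat_lit 6677312) (BT.leaf (nat_lit 21948189)) (BT.leaf (nat_lit 21948433))))) (BT.node (nat_lit 6677632) (BT.node (nat_lit 6677504) (BT.node (nat_lit 6677440) (BT.leaf (nat_lit 35916313)) (BT.leaf (nat_lit 21948689))) (BT.node (nat_lit 6677568) (BT.leaf (nat_lit 37121053)) (BT.leaf (nat_lit 21948949)))) (BT.node (nat_lit 6677760) (BT.node (nat_lit 6677696) (BT.leaf (nat_lit 25764125)) (BT.leaf (nat_lit 21949201))) (BT.node (nat_lit 6677888) (BT.leaf (nat_lit 21949217)) (BT.leaf (nat_lit 25255189))))))) (BT.node (nat_lit 6679360) (BT.node (nat_lit 6678848) (BT.node (nat_lit 6678400) (BT.node (nat_lit 6678272) (BT.node (nat_lit 6678208) (BT.leaf (nat_lit 21950225)) (BT.leaf (nat_lit 37128973))) (BT.node (nat_lit 6678336) (BT.leaf (nat_lit 21950489)) (BT.leaf (nat_lit 21950493)))) (BT.node (nat_lit 6678592) (BT.node (nat_lit 6678464) (BT.leaf (nat_lit 21950737)) (BT.leaf (nat_lit 21950753))) (BT.node (nat_lit 6678784) (BT.leaf (nat_lit 26863633)) (BT.leaf (nat_lit 21951265))))) (BT.node (nat_lit 6679104) (BT.node (nat_lit 6678976) (BT.node (nat_lit 6678912) (BT.leaf (nat_lit 21952273)) (BT.leaf (nat_lit 21952277))) (BT.node (nat_lit 6679040) (BT.leaf (nat_lit 21952533)) (BT.leaf (nat_lit 21952537)))) (BT.node (nat_lit 6679232) (BT.node (nat_lit 6679168) (BT.leaf (nat_lit 21952541)) (BT.leaf (nat_lit 21952785))) (BT.node (nat_lit 6679296) (BT.leaf (nat_lit 21953041)) (BT.leaf (nat_lit 21953305)))))) (BT.node (nat_lit 6680384) (BT.node (nat_lit 6679936) (BT.node (nat_lit 6679680) (BT.node (nat_lit 6679616) (BT.leaf (nat_lit 21953309)) (BT.leaf (nat_lit 21954585))) (BT.node (nat_lit 6679808) (BT.leaf (nat_lit 37134605)) (BT.leaf (nat_lit 21954845)))) (BT.node (nat_lit 6680128) (BT.node (nat_lit 6680000) (BT.leaf (nat_lit 21955345)) (BT.leaf (nat_lit 21955605))) (BT.node (nat_lit 6680192) (BT.leaf (nat_lit 21955857)) (BT.leaf (nat_lit 21955873))))) (BT.node (nat_lit 6680640) (BT.node (nat_lit 6680512) (BT.node (nat_lit 6680448) (BT.leaf (nat_lit 21956385)) (BT.leaf (nat_lit 21956629))) (BT.node (nat_lit 6680576) (BT.leaf (nat_lit 37139729)) (BT.leaf (nat_lit 26722073)))) (BT.node (nat_lit 6680768) (BT.node (nat_lit 6680704) (BT.leaf (nat_lit 21956881)) (BT.leaf (nat_lit 21956897))) (BT.node (nat_lit 6680832) (BT.leaf (nat_lit 21957401)) (BT.leaf (nat_lit 21957405)))))))) (BT.node (nat_lit 6684224) (BT.node (nat_lit 6682944) (BT.node (nat_lit 6682048) (BT.node (nat_lit 6681280) (BT.node (nat_lit 6681152) (BT.node (nat_lit 6681024) (BT.leaf (nat_lit 26655509)) (BT.leaf (nat_lit 21958417))) (BT.node (nat_lit 6681216) (BT.leaf (nat_lit 21958173)) (BT.leaf (nat_lit 21958421)))) (BT.node (nat_lit 6681472) (BT.node (nat_lit 6681344) (BT.leaf (nat_lit 21958937)) (BT.leaf (nat_lit 37143841))) (BT.node (nat_lit 6681984) (BT.leaf (nat_lit 26611741)) (BT.leaf (nat_lit 37146641))))) (BT.node (nat_lit 6682560) (BT.node (nat_lit 6682176) (BT.node (nat_lit 6682112) (BT.leaf (nat_lit 21960725)) (BT.leaf (nat_lit 24673821))) (BT.node (nat_lit 6682496) (BT.leaf (nat_lit 27018769)) (BT.leaf (nat_lit 26706949)))) (BT.node (nat_lit 6682816) (BT.node (nat_lit 6682688) (BT.leaf (nat_lit 37149969)) (BT.leaf (nat_lit 21961753))) (BT.node (nat_lit 6682880) (BT.leaf (nat_lit 21962257)) (BT.leaf (nat_lit 37151761)))))) (BT.node (nat_lit 6683648) (BT.node (nat_lit 6683328) (BT.node (nat_lit 6683072) (BT.node (nat_lit 6683008) (BT.leaf (nat_lit 21962513)) (BT.leaf (nat_lit 21963281))) (BT.node (nat_lit 6683264) (BT.leaf (nat_lit 21962773)) (BT.leaf (nat_lit 25884957)))) (BT.node (nat_lit 6683456) (BT.node (nat_lit 6683392) (BT.leaf (nat_lit 21963025)) (BT.leaf (nat_lit 21963041))) (BT.node (nat_lit 6683584) (BT.leaf (nat_lit 21963285)) (BT.leaf (nat_lit 26734621))))) (BT.node (nat_lit 6683904) (BT.node (nat_lit 6683776) (BT.node (nat_lit 6683712) (BT.leaf (nat_lit 26580485)) (BT.leaf (nat_lit 21963785))) (BT.node (nat_lit 6683840) (BT.leaf (nat_lit 21963809)) (BT.leaf (nat_lit 21964041)))) (BT.node (nat_lit 6684096) (BT.node (nat_lit 6683968) (BT.leaf (nat_lit 22250013)) (BT.leaf (nat_lit 21964061))) (BT.node (nat_lit 6684160) (BT.leaf (nat_lit 21964561)) (BT.leaf (nat_lit 22047005))))))) (BT.node (nat_lit 6686144) (BT.node (nat_lit 6685376) (BT.node (nat_lit 6684864) (BT.node (nat_lit 6684352) (BT.node (nat_lit 6684288) (BT.leaf (nat_lit 27919113)) (BT.leaf (nat_lit 37158677))) (BT.node (nat_lit 6684416) (BT.leaf (nat_lit 21964829)) (BT.leaf (nat_lit 21965073)))) (BT.node (nat_lit 6685120) (BT.node (nat_lit 6684992) (BT.leaf (nat_lit 35764513)) (BT.leaf (nat_lit 22209289))) (BT.node (nat_lit 6685184) (BT.leaf (nat_lit 21967633)) (BT.leaf (nat_lit 22057245))))) (BT.node (nat_lit 6685888) (BT.node (nat_lit 6685760) (BT.node (nat_lit 6685504) (BT.leaf (nat_lit 21967897)) (BT.leaf (nat_lit 21968161))) (BT.node (nat_lit 6685824) (BT.leaf (nat_lit 21969429)) (BT.leaf (nat_lit 26743581)))) (BT.node (nat_lit 6686016) (BT.node (nat_lit 6685952) (BT.leaf (nat_lit 37165329)) (BT.leaf (nat_lit 21969685))) (BT.node (nat_lit 6686080) (BT.leaf (nat_lit 37166865)) (BT.leaf (nat_lit 26744089)))))) (BT.node (nat_lit 6686848) (BT.node (nat_lit 6686400) (BT.node (nat_lit 6686272) (BT.node (nat_lit 6686208) (BT.leaf (nat_lit 21969941)) (BT.leaf (nat_lit 37168913))) (BT.node (nat_lit 6686336) (BT.leaf (nat_lit 26744857)) (BT.leaf (nat_lit 52173833)))) (BT.node (nat_lit 6686592) (BT.node (nat_lit 6686464) (BT.leaf (nat_lit 27170845)) (BT.leaf (nat_lit 27170825))) (BT.node (nat_lit 6686720) (BT.leaf (nat_lit 22197281)) (BT.leaf (nat_lit 22204181))))) (BT.node (nat_lit 6687104) (BT.node (nat_lit 6686976) (BT.node (nat_lit 6686912) (BT.leaf (nat_lit 22032661)) (BT.leaf (nat_lit 21970961))) (BT.node (nat_lit 6687040) (BT.leaf (nat_lit 21970969)) (BT.leaf (nat_lit 21970977)))) (BT.node (nat_lit 6687296) (BT.node (nat_lit 6687168) (BT.leaf (nat_lit 21971217)) (BT.leaf (nat_lit 21973261))) (BT.node (nat_lit 6687552) (BT.leaf (nat_lit 21973265)) (BT.leaf (nat_lit 21973529)))))))))))) (BT.node (nat_lit 6754368) (BT.node (nat_lit 6720320) (BT.node (nat_lit 6704832) (BT.node (nat_lit 6694464) (BT.node (nat_lit 6691328) (BT.node (nat_lit 6689408) (BT.node (nat_lit 6688768) (BT.node (nat_lit 6688064) (BT.node (nat_lit 6687744) (BT.node (nat_lit 6687680) (BT.leaf (nat_lit 21973533)) (BT.leaf (nat_lit 33896453))) (BT.node (nat_lit 6687872) (BT.leaf (nat_lit 21974557)) (BT.leaf (nat_lit 22202137)))) (BT.node (nat_lit 6688192) (BT.node (nat_lit 6688128) (BT.leaf (nat_lit 37176853)) (BT.leaf (nat_lit 37177105))) (BT.node (nat_lit 6688256) (BT.leaf (nat_lit 21976085)) (BT.leaf (nat_lit 21976089))))) (BT.node (nat_lit 6689152) (BT.node (nat_lit 6688896) (BT.node (nat_lit 6688832) (BT.leaf (nat_lit 21978641)) (BT.leaf (nat_lit 26752537))) (BT.node (nat_lit 6688960) (BT.leaf (nat_lit 21978645)) (BT.leaf (nat_lit 33605397)))) (BT.node (nat_lit 6689280) (BT.node (nat_lit 6689216) (BT.leaf (nat_lit 36006677)) (BT.leaf (nat_lit 25928969))) (BT.node (nat_lit 6689344) (BT.leaf (nat_lit 24666641)) (BT.leaf (nat_lit 36344845)))))) (BT.node (nat_lit 6690240) (BT.node (nat_lit 6689984) (BT.node (nat_lit 6689856) (BT.node (nat_lit 6689472) (BT.leaf (nat_lit 33245461)) (BT.leaf (nat_lit 51464221))) (BT.node (nat_lit 6689920) (BT.leaf (nat_lit 31448593)) (BT.leaf (nat_lit 29117209)))) (BT.node (nat_lit 6690112) (BT.node (nat_lit 6690048) (BT.leaf (nat_lit 26760221)) (BT.leaf (nat_lit 47298821))) (BT.node (nat_lit 6690176) (BT.leaf (nat_lit 31191837)) (BT.leaf (nat_lit 21980945))))) (BT.node (nat_lit 6690688) (BT.node (nat_lit 6690368) (BT.node (nat_lit 6690304) (BT.leaf (nat_lit 31525897)) (BT.leaf (nat_lit 26761501))) (BT.node (nat_lit 6690560) (BT.leaf (nat_lit 22220305)) (BT.leaf (nat_lit 25366809)))) (BT.node (nat_lit 6690944) (BT.node (nat_lit 6690752) (BT.leaf (nat_lit 21982481)) (BT.leaf (nat_lit 21982745))) (BT.node (nat_lit 6691008) (BT.leaf (nat_lit 21983005)) (BT.leaf (nat_lit 33119001))))))) (BT.node (nat_lit 6693120) (BT.node (nat_lit 6692480) (BT.node (nat_lit 6692032) (BT.node (nat_lit 6691584) (BT.node (nat_lit 6691392) (BT.leaf (nat_lit 21984273)) (BT.leaf (nat_lit 22668317))) (BT.node (nat_lit 6691648) (BT.leaf (nat_lit 21984785)) (BT.leaf (nat_lit 50118677)))) (BT.node (nat_lit 6692224) (BT.node (nat_lit 6692160) (BT.leaf (nat_lit 21986065)) (BT.leaf (nat_lit 21986585))) (BT.node (nat_lit 6692416) (BT.leaf (nat_lit 28349957)) (BT.leaf (nat_lit 21987097))))) (BT.node (nat_lit 6692736) (BT.node (nat_lit 6692608) (BT.node (nat_lit 6692544) (BT.leaf (nat_lit 21987101)) (BT.leaf (nat_lit 35841557))) (BT.node (nat_lit 6692672) (BT.leaf (nat_lit 35667229)) (BT.leaf (nat_lit 37198085)))) (BT.node (nat_lit 6692864) (BT.node (nat_lit 6692800) (BT.leaf (nat_lit 26771225)) (BT.leaf (nat_lit 37198613))) (BT.node (nat_lit 6692992) (BT.leaf (nat_lit 21988625)) (BT.leaf (nat_lit 36499985)))))) (BT.node (nat_lit 6693824) (BT.node (nat_lit 6693440) (BT.node (nat_lit 6693248) (BT.node (nat_lit 6693184) (BT.leaf (nat_lit 51281929)) (BT.leaf (nat_lit 51281933))) (BT.node (nat_lit 6693376) (BT.leaf (nat_lit 37199381)) (BT.leaf (nat_lit 21989649)))) (BT.node (nat_lit 6693696) (BT.node (nat_lit 6693504) (BT.leaf (nat_lit 34640397)) (BT.leaf (nat_lit 50002977))) (BT.node (nat_lit 6693760) (BT.leaf (nat_lit 21990433)) (BT.leaf (nat_lit 21990673))))) (BT.node (nat_lit 6694208) (BT.node (nat_lit 6694080) (BT.node (nat_lit 6693888) (BT.leaf (nat_lit 26694177)) (BT.leaf (nat_lit 21990933))) (BT.node (nat_lit 6694144) (BT.leaf (nat_lit 50755077)) (BT.leaf (nat_lit 36634889)))) (BT.node (nat_lit 6694336) (BT.node (nat_lit 6694272) (BT.leaf (nat_lit 22990613)) (BT.leaf (nat_lit 36132621))) (BT.node (nat_lit 6694400) (BT.leaf (nat_lit 26584597)) (BT.leaf (nat_lit 21992965)))))))) (BT.node (nat_lit 6698944) (BT.node (nat_lit 6696000) (BT.node (nat_lit 6695488) (BT.node (nat_lit 6695168) (BT.node (nat_lit 6694784) (BT.node (nat_lit 6694528) (BT.leaf (nat_lit 21992977)) (BT.leaf (nat_lit 21992981))) (BT.node (nat_lit 6694912) (BT.leaf (nat_lit 21993753)) (BT.leaf (nat_lit 33754905)))) (BT.node (nat_lit 6695360) (BT.node (nat_lit 6695232) (BT.leaf (nat_lit 21994769)) (BT.leaf (nat_lit 26452485))) (BT.node (nat_lit 6695424) (BT.leaf (nat_lit 21995281)) (BT.leaf (nat_lit 24601101))))) (BT.node (nat_lit 6695744) (BT.node (nat_lit 6695616) (BT.node (nat_lit 6695552) (BT.leaf (nat_lit 21995541)) (BT.leaf (nat_lit 21995545))) (BT.node (nat_lit 6695680) (BT.leaf (nat_lit 21995549)) (BT.leaf (nat_lit 23672341)))) (BT.node (nat_lit 6695872) (BT.node (nat_lit 6695808) (BT.leaf (nat_lit 24303109)) (BT.leaf (nat_lit 21996061))) (BT.node (nat_lit 6695936) (BT.leaf (nat_lit 32651549)) (BT.leaf (nat_lit 35395345)))))) (BT.node (nat_lit 6696896) (BT.node (nat_lit 6696448) (BT.node (nat_lit 6696192) (BT.node (nat_lit 6696128) (BT.leaf (nat_lit 37210385)) (BT.leaf (nat_lit 37211417))) (BT.node (nat_lit 6696384) (BT.leaf (nat_lit 21996565)) (BT.leaf (nat_lit 22694417)))) (BT.node (nat_lit 6696576) (BT.node (nat_lit 6696512) (BT.leaf (nat_lit 21997337)) (BT.leaf (nat_lit 26649633))) (BT.node (nat_lit 6696640) (BT.leaf (nat_lit 35750661)) (BT.leaf (nat_lit 21997849))))) (BT.node (nat_lit 6698304) (BT.node (nat_lit 6697408) (BT.node (nat_lit 6697344) (BT.leaf (nat_lit 21998109)) (BT.leaf (nat_lit 27203077))) (BT.node (nat_lit 6697472) (BT.leaf (nat_lit 27105285)) (BT.leaf (nat_lit 21999133)))) (BT.node (nat_lit 6698688) (BT.node (nat_lit 6698624) (BT.leaf (nat_lit 37222421)) (BT.leaf (nat_lit 37223957))) (BT.node (nat_lit 6698816) (BT.leaf (nat_lit 37224465)) (BT.leaf (nat_lit 50468105))))))) (BT.node (nat_lit 6701440) (BT.node (nat_lit 6700416) (BT.node (nat_lit 6700096) (BT.node (nat_lit 6699264) (BT.node (nat_lit 6699136) (BT.leaf (nat_lit 37225493)) (BT.leaf (nat_lit 50855961))) (BT.node (nat_lit 6699392) (BT.leaf (nat_lit 36417297)) (BT.leaf (nat_lit 24103457)))) (BT.node (nat_lit 6700224) (BT.node (nat_lit 6700160) (BT.leaf (nat_lit 37230597)) (BT.leaf (nat_lit 25281813))) (BT.node (nat_lit 6700352) (BT.leaf (nat_lit 26093601)) (BT.leaf (nat_lit 22209309))))) (BT.node (nat_lit 6701184) (BT.node (nat_lit 6700800) (BT.node (nat_lit 6700480) (BT.leaf (nat_lit 22006289)) (BT.leaf (nat_lit 36673285))) (BT.node (nat_lit 6701120) (BT.leaf (nat_lit 29889813)) (BT.leaf (nat_lit 30876957)))) (BT.node (nat_lit 6701312) (BT.node (nat_lit 6701248) (BT.leaf (nat_lit 29889821)) (BT.leaf (nat_lit 29889801))) (BT.node (nat_lit 6701376) (BT.leaf (nat_lit 50137093)) (BT.leaf (nat_lit 35882005)))))) (BT.node (nat_lit 6703808) (BT.node (nat_lit 6702528) (BT.node (nat_lit 6702016) (BT.node (nat_lit 6701632) (BT.leaf (nat_lit 37221893)) (BT.leaf (nat_lit 22265633))) (BT.node (nat_lit 6702336) (BT.leaf (nat_lit 22009361)) (BT.leaf (nat_lit 22010133)))) (BT.node (nat_lit 6702656) (BT.node (nat_lit 6702592) (BT.leaf (nat_lit 37165069)) (BT.leaf (nat_lit 37242129))) (BT.node (nat_lit 6703744) (BT.leaf (nat_lit 22010649)) (BT.leaf (nat_lit 37247253))))) (BT.node (nat_lit 6704192) (BT.node (nat_lit 6704000) (BT.node (nat_lit 6703872) (BT.leaf (nat_lit 37247773)) (BT.leaf (nat_lit 26239265))) (BT.node (nat_lit 6704128) (BT.leaf (nat_lit 22046985)) (BT.leaf (nat_lit 26793225)))) (BT.node (nat_lit 6704512) (BT.node (nat_lit 6704448) (BT.leaf (nat_lit 26834973)) (BT.leaf (nat_lit 22015765))) (BT.node (nat_lit 6704576) (BT.leaf (nat_lit 36495877)) (BT.leaf (nat_lit 22016281))))))))) (BT.node (nat_lit 6713280) (BT.node (nat_lit 6709120) (BT.node (nat_lit 6706368) (BT.node (nat_lit 6705856) (BT.node (nat_lit 6705216) (BT.node (nat_lit 6705024) (BT.node (nat_lit 6704896) (BT.leaf (nat_lit 26533153)) (BT.leaf (nat_lit 22017053))) (BT.node (nat_lit 6705088) (BT.leaf (nat_lit 37251857)) (BT.leaf (nat_lit 37252125)))) (BT.node (nat_lit 6705472) (BT.node (nat_lit 6705408) (BT.leaf (nat_lit 22017309)) (BT.leaf (nat_lit 37253137))) (BT.node (nat_lit 6705792) (BT.leaf (nat_lit 37253405)) (BT.leaf (nat_lit 22018321))))) (BT.node (nat_lit 6706112) (BT.node (nat_lit 6705984) (BT.node (nat_lit 6705920) (BT.leaf (nat_lit 36579097)) (BT.leaf (nat_lit 22018577))) (BT.node (nat_lit 6706048) (BT.leaf (nat_lit 28348957)) (BT.leaf (nat_lit 22018841)))) (BT.node (nat_lit 6706240) (BT.node (nat_lit 6706176) (BT.leaf (nat_lit 22018845)) (BT.leaf (nat_lit 37257745))) (BT.node (nat_lit 6706304) (BT.leaf (nat_lit 37258001)) (BT.leaf (nat_lit 37087513)))))) (BT.node (nat_lit 6708096) (BT.node (nat_lit 6707072) (BT.node (nat_lit 6706752) (BT.node (nat_lit 6706624) (BT.leaf (nat_lit 22019601)) (BT.leaf (nat_lit 50856201))) (BT.node (nat_lit 6706880) (BT.leaf (nat_lit 35987745)) (BT.leaf (nat_lit 36871201)))) (BT.node (nat_lit 6707200) (BT.node (nat_lit 6707136) (BT.leaf (nat_lit 26175749)) (BT.leaf (nat_lit 26138117))) (BT.node (nat_lit 6707648) (BT.leaf (nat_lit 35564037)) (BT.leaf (nat_lit 37263125))))) (BT.node (nat_lit 6708800) (BT.node (nat_lit 6708480) (BT.node (nat_lit 6708288) (BT.leaf (nat_lit 37264409)) (BT.leaf (nat_lit 22024473))) (BT.node (nat_lit 6708736) (BT.leaf (nat_lit 22040861)) (BT.leaf (nat_lit 27095045)))) (BT.node (nat_lit 6708992) (BT.node (nat_lit 6708928) (BT.leaf (nat_lit 26917637)) (BT.leaf (nat_lit 25192461))) (BT.node (nat_lit 6709056) (BT.leaf (nat_lit 26820885)) (BT.leaf (nat_lit 50682121))))))) (BT.node (nat_lit 6711168) (BT.node (nat_lit 6709888) (BT.node (nat_lit 6709632) (BT.node (nat_lit 6709440) (BT.node (nat_lit 6709376) (BT.leaf (nat_lit 37266453)) (BT.leaf (nat_lit 37267997))) (BT.node (nat_lit 6709568) (BT.leaf (nat_lit 37269013)) (BT.leaf (nat_lit 52107025)))) (BT.node (nat_lit 6709760) (BT.node (nat_lit 6709696) (BT.leaf (nat_lit 37283097)) (BT.leaf (nat_lit 36656401))) (BT.node (nat_lit 6709824) (BT.leaf (nat_lit 37341197)) (BT.leaf (nat_lit 36655385))))) (BT.node (nat_lit 6710464) (BT.node (nat_lit 6710208) (BT.node (nat_lit 6710016) (BT.leaf (nat_lit 26856473)) (BT.leaf (nat_lit 22030341))) (BT.node (nat_lit 6710272) (BT.leaf (nat_lit 26204425)) (BT.leaf (nat_lit 26577161)))) (BT.node (nat_lit 6711040) (BT.node (nat_lit 6710656) (BT.leaf (nat_lit 22043401)) (BT.leaf (nat_lit 37690909))) (BT.node (nat_lit 6711104) (BT.leaf (nat_lit 22030357)) (BT.leaf (nat_lit 26266385)))))) (BT.node (nat_lit 6712640) (BT.node (nat_lit 6711744) (BT.node (nat_lit 6711424) (BT.node (nat_lit 6711296) (BT.leaf (nat_lit 26844441)) (BT.leaf (nat_lit 22030609))) (BT.node (nat_lit 6711616) (BT.leaf (nat_lit 37322525)) (BT.leaf (nat_lit 37674781)))) (BT.node (nat_lit 6712064) (BT.node (nat_lit 6711808) (BT.leaf (nat_lit 37279765)) (BT.leaf (nat_lit 37280021))) (BT.node (nat_lit 6712576) (BT.leaf (nat_lit 52204805)) (BT.leaf (nat_lit 22034709))))) (BT.node (nat_lit 6712960) (BT.node (nat_lit 6712768) (BT.node (nat_lit 6712704) (BT.leaf (nat_lit 37283857)) (BT.leaf (nat_lit 26850585))) (BT.node (nat_lit 6712832) (BT.leaf (nat_lit 22034961)) (BT.leaf (nat_lit 22034977)))) (BT.node (nat_lit 6713152) (BT.node (nat_lit 6713024) (BT.leaf (nat_lit 36312081)) (BT.leaf (nat_lit 22035489))) (BT.node (nat_lit 6713216) (BT.leaf (nat_lit 37287701)) (BT.leaf (nat_lit 22054153)))))))) (BT.node (nat_lit 6717568) (BT.node (nat_lit 6715008) (BT.node (nat_lit 6714048) (BT.node (nat_lit 6713536) (BT.node (nat_lit 6713408) (BT.node (nat_lit 6713344) (BT.leaf (nat_lit 36608537)) (BT.leaf (nat_lit 27055641))) (BT.node (nat_lit 6713472) (BT.leaf (nat_lit 22035985)) (BT.leaf (nat_lit 26854173)))) (BT.node (nat_lit 6713728) (BT.node (nat_lit 6713600) (BT.leaf (nat_lit 37290001)) (BT.leaf (nat_lit 22036241))) (BT.node (nat_lit 6713920) (BT.leaf (nat_lit 37290261)) (BT.leaf (nat_lit 37291033))))) (BT.node (nat_lit 6714368) (BT.node (nat_lit 6714176) (BT.node (nat_lit 6714112) (BT.leaf (nat_lit 37291801)) (BT.leaf (nat_lit 22037269))) (BT.node (nat_lit 6714304) (BT.leaf (nat_lit 27159325)) (BT.leaf (nat_lit 52348169)))) (BT.node (nat_lit 6714816) (BT.node (nat_lit 6714688) (BT.leaf (nat_lit 22286597)) (BT.leaf (nat_lit 37286677))) (BT.node (nat_lit 6714944) (BT.leaf (nat_lit 22038801)) (BT.leaf (nat_lit 37616925)))))) (BT.node (nat_lit 6716544) (BT.node (nat_lit 6715968) (BT.node (nat_lit 6715840) (BT.node (nat_lit 6715648) (BT.leaf (nat_lit 22039061)) (BT.leaf (nat_lit 36988697))) (BT.node (nat_lit 6715904) (BT.leaf (nat_lit 22041113)) (BT.leaf (nat_lit 22041117)))) (BT.node (nat_lit 6716288) (BT.node (nat_lit 6716160) (BT.leaf (nat_lit 36686877)) (BT.leaf (nat_lit 22042129))) (BT.node (nat_lit 6716416) (BT.leaf (nat_lit 22042645)) (BT.leaf (nat_lit 26871313))))) (BT.node (nat_lit 6716932) (BT.node (nat_lit 6716672) (BT.node (nat_lit 6716608) (BT.leaf (nat_lit 22043157)) (BT.leaf (nat_lit 26269209))) (BT.node (nat_lit 6716928) (BT.leaf (nat_lit 22043409)) (BT.leaf (nat_lit 22157585)))) (BT.node (nat_lit 6717376) (BT.node (nat_lit 6717056) (BT.leaf (nat_lit 422612)) (BT.leaf (nat_lit 22044949))) (BT.node (nat_lit 6717440) (BT.leaf (nat_lit 22057225)) (BT.leaf (nat_lit 22046229))))))) (BT.node (nat_lit 6719360) (BT.node (nat_lit 6718272) (BT.node (nat_lit 6717888) (BT.node (nat_lit 6717696) (BT.node (nat_lit 6717632) (BT.leaf (nat_lit 27260433)) (BT.leaf (nat_lit 22046497))) (BT.node (nat_lit 6717824) (BT.leaf (nat_lit 22046741)) (BT.leaf (nat_lit 22234629)))) (BT.node (nat_lit 6718080) (BT.node (nat_lit 6717952) (BT.leaf (nat_lit 26893337)) (BT.leaf (nat_lit 51923737))) (BT.node (nat_lit 6718208) (BT.leaf (nat_lit 36738589)) (BT.leaf (nat_lit 26857501))))) (BT.node (nat_lit 6718528) (BT.node (nat_lit 6718400) (BT.node (nat_lit 6718336) (BT.leaf (nat_lit 22047509)) (BT.leaf (nat_lit 27131161))) (BT.node (nat_lit 6718464) (BT.leaf (nat_lit 36988701)) (BT.leaf (nat_lit 22047765)))) (BT.node (nat_lit 6718784) (BT.node (nat_lit 6718720) (BT.leaf (nat_lit 22048273)) (BT.leaf (nat_lit 35753489))) (BT.node (nat_lit 6718848) (BT.leaf (nat_lit 27038725)) (BT.leaf (nat_lit 25199877)))))) (BT.node (nat_lit 6719936) (BT.node (nat_lit 6719616) (BT.node (nat_lit 6719488) (BT.node (nat_lit 6719424) (BT.leaf (nat_lit 22152993)) (BT.leaf (nat_lit 22050069))) (BT.node (nat_lit 6719552) (BT.leaf (nat_lit 27124485)) (BT.leaf (nat_lit 27226385)))) (BT.node (nat_lit 6719744) (BT.node (nat_lit 6719680) (BT.leaf (nat_lit 22050321)) (BT.leaf (nat_lit 26899225))) (BT.node (nat_lit 6719808) (BT.leaf (nat_lit 36656413)) (BT.leaf (nat_lit 22050577))))) (BT.node (nat_lit 6720192) (BT.node (nat_lit 6720064) (BT.node (nat_lit 6720000) (BT.leaf (nat_lit 37320725)) (BT.leaf (nat_lit 22050593))) (BT.node (nat_lit 6720128) (BT.leaf (nat_lit 27262493)) (BT.leaf (nat_lit 22050837)))) (BT.node (nat_lit 6720258) (BT.node (nat_lit 6720256) (BT.leaf (nat_lit 27123737)) (BT.leaf (nat_lit 22051089))) (BT.node (nat_lit 6720263) (BT.leaf (nat_lit 423764)) (BT.leaf (nat_lit 423764)))))))))) (BT.node (nat_lit 6736256) (BT.node (nat_lit 6727616) (BT.node (nat_lit 6724480) (BT.node (nat_lit 6722752) (BT.node (nat_lit 6721856) (BT.node (nat_lit 6721024) (BT.node (nat_lit 6720512) (BT.node (nat_lit 6720384) (BT.leaf (nat_lit 22051093)) (BT.leaf (nat_lit 22051333))) (BT.node (nat_lit 6720768) (BT.leaf (nat_lit 22052117)) (BT.leaf (nat_lit 22291461)))) (BT.node (nat_lit 6721728) (BT.node (nat_lit 6721536) (BT.leaf (nat_lit 22054177)) (BT.leaf (nat_lit 22053905))) (BT.node (nat_lit 6721792) (BT.leaf (nat_lit 37328657)) (BT.leaf (nat_lit 22054425))))) (BT.node (nat_lit 6722368) (BT.node (nat_lit 6722048) (BT.node (nat_lit 6721984) (BT.leaf (nat_lit 27140613)) (BT.leaf (nat_lit 22054929))) (BT.node (nat_lit 6722304) (BT.leaf (nat_lit 22054937)) (BT.leaf (nat_lit 26857497)))) (BT.node (nat_lit 6722624) (BT.node (nat_lit 6722432) (BT.leaf (nat_lit 22055445)) (BT.leaf (nat_lit 22056981))) (BT.node (nat_lit 6722688) (BT.leaf (nat_lit 22057233)) (BT.leaf (nat_lit 22057249)))))) (BT.node (nat_lit 6723584) (BT.node (nat_lit 6723072) (BT.node (nat_lit 6722880) (BT.node (nat_lit 6722816) (BT.leaf (nat_lit 37699077)) (BT.leaf (nat_lit 51823901))) (BT.node (nat_lit 6722944) (BT.leaf (nat_lit 22057489)) (BT.leaf (nat_lit 51823881)))) (BT.node (nat_lit 6723328) (BT.node (nat_lit 6723200) (BT.leaf (nat_lit 37640481)) (BT.leaf (nat_lit 27119377))) (BT.node (nat_lit 6723392) (BT.leaf (nat_lit 37335301)) (BT.leaf (nat_lit 37334293))))) (BT.node (nat_lit 6724160) (BT.node (nat_lit 6723712) (BT.node (nat_lit 6723648) (BT.leaf (nat_lit 22058773)) (BT.leaf (nat_lit 37338129))) (BT.node (nat_lit 6723776) (BT.leaf (nat_lit 26596357)) (BT.leaf (nat_lit 36653077)))) (BT.node (nat_lit 6724288) (BT.node (nat_lit 6724224) (BT.leaf (nat_lit 22060053)) (BT.leaf (nat_lit 36656921))) (BT.node (nat_lit 6724352) (BT.leaf (nat_lit 26880541)) (BT.leaf (nat_lit 22060305))))))) (BT.node (nat_lit 6726080) (BT.node (nat_lit 6725248) (BT.node (nat_lit 6724800) (BT.node (nat_lit 6724672) (BT.node (nat_lit 6724608) (BT.leaf (nat_lit 37168389)) (BT.leaf (nat_lit 27119133))) (BT.node (nat_lit 6724736) (BT.leaf (nat_lit 22060565)) (BT.leaf (nat_lit 22060817)))) (BT.node (nat_lit 6724992) (BT.node (nat_lit 6724928) (BT.leaf (nat_lit 22060821)) (BT.leaf (nat_lit 22061081))) (BT.node (nat_lit 6725056) (BT.leaf (nat_lit 31075589)) (BT.leaf (nat_lit 22061589))))) (BT.node (nat_lit 6725696) (BT.node (nat_lit 6725504) (BT.node (nat_lit 6725376) (BT.leaf (nat_lit 22061841)) (BT.leaf (nat_lit 22063137))) (BT.node (nat_lit 6725632) (BT.leaf (nat_lit 22062353)) (BT.leaf (nat_lit 26886937)))) (BT.node (nat_lit 6725888) (BT.node (nat_lit 6725760) (BT.leaf (nat_lit 26918429)) (BT.leaf (nat_lit 22062609))) (BT.node (nat_lit 6726016) (BT.leaf (nat_lit 37343505)) (BT.leaf (nat_lit 52280609)))))) (BT.node (nat_lit 6726592) (BT.node (nat_lit 6726336) (BT.node (nat_lit 6726208) (BT.node (nat_lit 6726144) (BT.leaf (nat_lit 22062869)) (BT.leaf (nat_lit 22063121))) (BT.node (nat_lit 6726272) (BT.leaf (nat_lit 37287177)) (BT.leaf (nat_lit 22063365)))) (BT.node (nat_lit 6726464) (BT.node (nat_lit 6726400) (BT.leaf (nat_lit 22063385)) (BT.leaf (nat_lit 22063389))) (BT.node (nat_lit 6726528) (BT.leaf (nat_lit 27163653)) (BT.leaf (nat_lit 22063885))))) (BT.node (nat_lit 6727168) (BT.node (nat_lit 6726976) (BT.node (nat_lit 6726656) (BT.leaf (nat_lit 22063889)) (BT.leaf (nat_lit 22063897))) (BT.node (nat_lit 6727040) (BT.leaf (nat_lit 22064645)) (BT.leaf (nat_lit 22064665)))) (BT.node (nat_lit 6727488) (BT.node (nat_lit 6727424) (BT.leaf (nat_lit 22064917)) (BT.leaf (nat_lit 26431241))) (BT.node (nat_lit 6727552) (BT.leaf (nat_lit 22065425)) (BT.leaf (nat_lit 22065681)))))))) (BT.node (nat_lit 6731776) (BT.node (nat_lit 6729792) (BT.node (nat_lit 6729152) (BT.node (nat_lit 6728128) (BT.node (nat_lit 6727808) (BT.node (nat_lit 6727744) (BT.leaf (nat_lit 37350417)) (BT.leaf (nat_lit 52010009))) (BT.node (nat_lit 6727936) (BT.leaf (nat_lit 22418953)) (BT.leaf (nat_lit 22067209)))) (BT.node (nat_lit 6729024) (BT.node (nat_lit 6728512) (BT.leaf (nat_lit 25121557)) (BT.leaf (nat_lit 37354773))) (BT.node (nat_lit 6729088) (BT.leaf (nat_lit 22069521)) (BT.leaf (nat_lit 36466969))))) (BT.node (nat_lit 6729472) (BT.node (nat_lit 6729280) (BT.node (nat_lit 6729216) (BT.leaf (nat_lit 26904345)) (BT.leaf (nat_lit 37326601))) (BT.node (nat_lit 6729408) (BT.leaf (nat_lit 37292821)) (BT.leaf (nat_lit 22070033)))) (BT.node (nat_lit 6729664) (BT.node (nat_lit 6729600) (BT.leaf (nat_lit 37287193)) (BT.leaf (nat_lit 22070293))) (BT.node (nat_lit 6729728) (BT.leaf (nat_lit 22070553)) (BT.leaf (nat_lit 22070557)))))) (BT.node (nat_lit 6730560) (BT.node (nat_lit 6730240) (BT.node (nat_lit 6730112) (BT.node (nat_lit 6730048) (BT.leaf (nat_lit 37358613)) (BT.leaf (nat_lit 36537629))) (BT.node (nat_lit 6730176) (BT.leaf (nat_lit 37359377)) (BT.leaf (nat_lit 37359877)))) (BT.node (nat_lit 6730368) (BT.node (nat_lit 6730304) (BT.leaf (nat_lit 37359889)) (BT.leaf (nat_lit 37360157))) (BT.node (nat_lit 6730496) (BT.leaf (nat_lit 37360657)) (BT.leaf (nat_lit 22072081))))) (BT.node (nat_lit 6731456) (BT.node (nat_lit 6731072) (BT.node (nat_lit 6730688) (BT.leaf (nat_lit 22072605)) (BT.leaf (nat_lit 22072601))) (BT.node (nat_lit 6731392) (BT.leaf (nat_lit 26740485)) (BT.leaf (nat_lit 22075933)))) (BT.node (nat_lit 6731584) (BT.node (nat_lit 6731520) (BT.leaf (nat_lit 24230177)) (BT.leaf (nat_lit 22076185))) (BT.node (nat_lit 6731712) (BT.leaf (nat_lit 22076189)) (BT.leaf (nat_lit 37367829))))))) (BT.node (nat_lit 6733632) (BT.node (nat_lit 6732352) (BT.node (nat_lit 6732032) (BT.node (nat_lit 6731904) (BT.node (nat_lit 6731840) (BT.leaf (nat_lit 22076697)) (BT.leaf (nat_lit 22076701))) (BT.node (nat_lit 6731968) (BT.leaf (nat_lit 37365781)) (BT.leaf (nat_lit 22076941)))) (BT.node (nat_lit 6732160) (BT.node (nat_lit 6732096) (BT.leaf (nat_lit 22077717)) (BT.leaf (nat_lit 22076953))) (BT.node (nat_lit 6732288) (BT.leaf (nat_lit 22076957)) (BT.leaf (nat_lit 22077457))))) (BT.node (nat_lit 6732800) (BT.node (nat_lit 6732480) (BT.node (nat_lit 6732416) (BT.leaf (nat_lit 34808097)) (BT.leaf (nat_lit 24100625))) (BT.node (nat_lit 6732672) (BT.leaf (nat_lit 22077725)) (BT.leaf (nat_lit 26046725)))) (BT.node (nat_lit 6733120) (BT.node (nat_lit 6732992) (BT.leaf (nat_lit 37372185)) (BT.leaf (nat_lit 36588549))) (BT.node (nat_lit 6733568) (BT.leaf (nat_lit 37373713)) (BT.leaf (nat_lit 37375765)))))) (BT.node (nat_lit 6734656) (BT.node (nat_lit 6734144) (BT.node (nat_lit 6733888) (BT.node (nat_lit 6733760) (BT.leaf (nat_lit 26926865)) (BT.leaf (nat_lit 37376533))) (BT.node (nat_lit 6734080) (BT.leaf (nat_lit 26226193)) (BT.leaf (nat_lit 27219733)))) (BT.node (nat_lit 6734272) (BT.node (nat_lit 6734208) (BT.leaf (nat_lit 26072837)) (BT.leaf (nat_lit 22081049))) (BT.node (nat_lit 6734592) (BT.leaf (nat_lit 51577101)) (BT.leaf (nat_lit 22284057))))) (BT.node (nat_lit 6735744) (BT.node (nat_lit 6735104) (BT.node (nat_lit 6734720) (BT.leaf (nat_lit 22082325)) (BT.leaf (nat_lit 37379613))) (BT.node (nat_lit 6735296) (BT.leaf (nat_lit 37380881)) (BT.leaf (nat_lit 37377049)))) (BT.node (nat_lit 6736000) (BT.node (nat_lit 6735808) (BT.leaf (nat_lit 36753413)) (BT.leaf (nat_lit 22085917))) (BT.node (nat_lit 6736192) (BT.leaf (nat_lit 22086417)) (BT.leaf (nat_lit 33905421))))))))) (BT.node (nat_lit 6745920) (BT.node (nat_lit 6740032) (BT.node (nat_lit 6738560) (BT.node (nat_lit 6737728) (BT.node (nat_lit 6737088) (BT.node (nat_lit 6736384) (BT.node (nat_lit 6736320) (BT.leaf (nat_lit 36631045)) (BT.leaf (nat_lit 34015265))) (BT.node (nat_lit 6737024) (BT.leaf (nat_lit 26567957)) (BT.leaf (nat_lit 25013005)))) (BT.node (nat_lit 6737536) (BT.node (nat_lit 6737216) (BT.leaf (nat_lit 22487817)) (BT.leaf (nat_lit 37086225))) (BT.node (nat_lit 6737664) (BT.leaf (nat_lit 50137625)) (BT.leaf (nat_lit 26805517))))) (BT.node (nat_lit 6738240) (BT.node (nat_lit 6737856) (BT.node (nat_lit 6737792) (BT.leaf (nat_lit 36055581)) (BT.leaf (nat_lit 49566725))) (BT.node (nat_lit 6738048) (BT.leaf (nat_lit 37391637)) (BT.leaf (nat_lit 36562441)))) (BT.node (nat_lit 6738432) (BT.node (nat_lit 6738368) (BT.leaf (nat_lit 23287557)) (BT.leaf (nat_lit 26953757))) (BT.node (nat_lit 6738496) (BT.leaf (nat_lit 26361349)) (BT.leaf (nat_lit 23382561)))))) (BT.node (nat_lit 6739072) (BT.node (nat_lit 6738816) (BT.node (nat_lit 6738688) (BT.node (nat_lit 6738624) (BT.leaf (nat_lit 33538081)) (BT.leaf (nat_lit 24887841))) (BT.node (nat_lit 6738752) (BT.leaf (nat_lit 24885793)) (BT.leaf (nat_lit 29066785)))) (BT.node (nat_lit 6738944) (BT.node (nat_lit 6738880) (BT.leaf (nat_lit 22093589)) (BT.leaf (nat_lit 22093845))) (BT.node (nat_lit 6739008) (BT.leaf (nat_lit 22094341)) (BT.leaf (nat_lit 22094353))))) (BT.node (nat_lit 6739776) (BT.node (nat_lit 6739584) (BT.node (nat_lit 6739200) (BT.leaf (nat_lit 22094357)) (BT.leaf (nat_lit 26984717))) (BT.node (nat_lit 6739712) (BT.leaf (nat_lit 37296157)) (BT.leaf (nat_lit 24123681)))) (BT.node (nat_lit 6739904) (BT.node (nat_lit 6739840) (BT.leaf (nat_lit 27103521)) (BT.leaf (nat_lit 24123937))) (BT.node (nat_lit 6739968) (BT.leaf (nat_lit 27104033)) (BT.leaf (nat_lit 37403157))))))) (BT.node (nat_lit 6743296) (BT.node (nat_lit 6740928) (BT.node (nat_lit 6740416) (BT.node (nat_lit 6740288) (BT.node (nat_lit 6740096) (BT.leaf (nat_lit 27351309)) (BT.leaf (nat_lit 32348681))) (BT.node (nat_lit 6740352) (BT.leaf (nat_lit 35518729)) (BT.leaf (nat_lit 22097169)))) (BT.node (nat_lit 6740544) (BT.node (nat_lit 6740480) (BT.leaf (nat_lit 37405969)) (BT.leaf (nat_lit 22653473))) (BT.node (nat_lit 6740672) (BT.leaf (nat_lit 22097689)) (BT.leaf (nat_lit 22097949))))) (BT.node (nat_lit 6742208) (BT.node (nat_lit 6741440) (BT.node (nat_lit 6741184) (BT.leaf (nat_lit 50031133)) (BT.leaf (nat_lit 33859849))) (BT.node (nat_lit 6742080) (BT.leaf (nat_lit 35631645)) (BT.leaf (nat_lit 27090965)))) (BT.node (nat_lit 6742400) (BT.node (nat_lit 6742336) (BT.leaf (nat_lit 22101789)) (BT.leaf (nat_lit 22102289))) (BT.node (nat_lit 6742464) (BT.leaf (nat_lit 22102293)) (BT.leaf (nat_lit 22102545)))))) (BT.node (nat_lit 6744320) (BT.node (nat_lit 6743808) (BT.node (nat_lit 6743552) (BT.node (nat_lit 6743488) (BT.leaf (nat_lit 37291553)) (BT.leaf (nat_lit 37418001))) (BT.node (nat_lit 6743744) (BT.leaf (nat_lit 22105625)) (BT.leaf (nat_lit 26880021)))) (BT.node (nat_lit 6744000) (BT.node (nat_lit 6743936) (BT.leaf (nat_lit 36828949)) (BT.leaf (nat_lit 25279509))) (BT.node (nat_lit 6744256) (BT.leaf (nat_lit 37063433)) (BT.leaf (nat_lit 29216529))))) (BT.node (nat_lit 6744896) (BT.node (nat_lit 6744640) (BT.node (nat_lit 6744384) (BT.leaf (nat_lit 22108185)) (BT.leaf (nat_lit 26926341))) (BT.node (nat_lit 6744704) (BT.leaf (nat_lit 22108689)) (BT.leaf (nat_lit 22108693)))) (BT.node (nat_lit 6745088) (BT.node (nat_lit 6744960) (BT.leaf (nat_lit 22109457)) (BT.leaf (nat_lit 26980377))) (BT.node (nat_lit 6745664) (BT.leaf (nat_lit 35769109)) (BT.leaf (nat_lit 26008337)))))))) (BT.node (nat_lit 6750144) (BT.node (nat_lit 6748672) (BT.node (nat_lit 6747264) (BT.node (nat_lit 6746304) (BT.node (nat_lit 6746176) (BT.node (nat_lit 6746048) (BT.leaf (nat_lit 22113565)) (BT.leaf (nat_lit 51764001))) (BT.node (nat_lit 6746240) (BT.leaf (nat_lit 37430805)) (BT.leaf (nat_lit 22114577)))) (BT.node (nat_lit 6746944) (BT.node (nat_lit 6746816) (BT.leaf (nat_lit 31278093)) (BT.leaf (nat_lit 22116373))) (BT.node (nat_lit 6747072) (BT.leaf (nat_lit 22116625)) (BT.leaf (nat_lit 22116885))))) (BT.node (nat_lit 6748096) (BT.node (nat_lit 6747520) (BT.node (nat_lit 6747328) (BT.leaf (nat_lit 36556577)) (BT.leaf (nat_lit 27125269))) (BT.node (nat_lit 6747584) (BT.leaf (nat_lit 25880853)) (BT.leaf (nat_lit 25881105)))) (BT.node (nat_lit 6748480) (BT.node (nat_lit 6748288) (BT.leaf (nat_lit 27123205)) (BT.leaf (nat_lit 22122269))) (BT.node (nat_lit 6748544) (BT.leaf (nat_lit 22123785)) (BT.leaf (nat_lit 35622937)))))) (BT.node (nat_lit 6749376) (BT.node (nat_lit 6749120) (BT.node (nat_lit 6748992) (BT.node (nat_lit 6748736) (BT.leaf (nat_lit 37441301)) (BT.leaf (nat_lit 37442329))) (BT.node (nat_lit 6749056) (BT.leaf (nat_lit 37443345)) (BT.leaf (nat_lit 48336133)))) (BT.node (nat_lit 6749248) (BT.node (nat_lit 6749184) (BT.leaf (nat_lit 50528517)) (BT.leaf (nat_lit 49566213))) (BT.node (nat_lit 6749312) (BT.leaf (nat_lit 47295753)) (BT.leaf (nat_lit 26304789))))) (BT.node (nat_lit 6749760) (BT.node (nat_lit 6749568) (BT.node (nat_lit 6749504) (BT.leaf (nat_lit 37225989)) (BT.leaf (nat_lit 24207129))) (BT.node (nat_lit 6749632) (BT.leaf (nat_lit 35539233)) (BT.leaf (nat_lit 22125089)))) (BT.node (nat_lit 6750016) (BT.node (nat_lit 6749952) (BT.leaf (nat_lit 23067157)) (BT.leaf (nat_lit 25598221))) (BT.node (nat_lit 6750080) (BT.leaf (nat_lit 22192149)) (BT.leaf (nat_lit 25280277))))))) (BT.node (nat_lit 6752192) (BT.node (nat_lit 6751552) (BT.node (nat_lit 6751168) (BT.node (nat_lit 6750336) (BT.node (nat_lit 6750272) (BT.leaf (nat_lit 22126621)) (BT.leaf (nat_lit 27001625))) (BT.node (nat_lit 6750400) (BT.leaf (nat_lit 37283605)) (BT.leaf (nat_lit 35768853)))) (BT.node (nat_lit 6751296) (BT.node (nat_lit 6751232) (BT.leaf (nat_lit 26213917)) (BT.leaf (nat_lit 22129929))) (BT.node (nat_lit 6751488) (BT.leaf (nat_lit 22266909)) (BT.leaf (nat_lit 37451029))))) (BT.node (nat_lit 6751872) (BT.node (nat_lit 6751744) (BT.node (nat_lit 6751680) (BT.leaf (nat_lit 37451281)) (BT.leaf (nat_lit 28904965))) (BT.node (nat_lit 6751808) (BT.leaf (nat_lit 32535045)) (BT.leaf (nat_lit 22130717)))) (BT.node (nat_lit 6752064) (BT.node (nat_lit 6751936) (BT.leaf (nat_lit 22130953)) (BT.leaf (nat_lit 32295429))) (BT.node (nat_lit 6752128) (BT.leaf (nat_lit 22130969)) (BT.leaf (nat_lit 22130973)))))) (BT.node (nat_lit 6752704) (BT.node (nat_lit 6752448) (BT.node (nat_lit 6752320) (BT.node (nat_lit 6752256) (BT.leaf (nat_lit 22131217)) (BT.leaf (nat_lit 44087301))) (BT.node (nat_lit 6752384) (BT.leaf (nat_lit 22131473)) (BT.leaf (nat_lit 22131477)))) (BT.node (nat_lit 6752576) (BT.node (nat_lit 6752512) (BT.leaf (nat_lit 22131741)) (BT.leaf (nat_lit 27225373))) (BT.node (nat_lit 6752640) (BT.leaf (nat_lit 27006237)) (BT.leaf (nat_lit 22131985))))) (BT.node (nat_lit 6753088) (BT.node (nat_lit 6752896) (BT.node (nat_lit 6752832) (BT.leaf (nat_lit 37456657)) (BT.leaf (nat_lit 27005965))) (BT.node (nat_lit 6753024) (BT.leaf (nat_lit 22132245)) (BT.leaf (nat_lit 22132501)))) (BT.node (nat_lit 6753728) (BT.node (nat_lit 6753280) (BT.leaf (nat_lit 22132761)) (BT.leaf (nat_lit 22133781))) (BT.node (nat_lit 6753920) (BT.leaf (nat_lit 37459725)) (BT.leaf (nat_lit 35780369))))))))))) (BT.node (nat_lit 6783808) (BT.node (nat_lit 6769728) (BT.node (nat_lit 6762176) (BT.node (nat_lit 6758016) (BT.node (nat_lit 6756288) (BT.node (nat_lit 6755456) (BT.node (nat_lit 6754752) (BT.node (nat_lit 6754624) (BT.node (nat_lit 6754560) (BT.leaf (nat_lit 27165213)) (BT.leaf (nat_lit 22243601))) (BT.node (nat_lit 6754688) (BT.leaf (nat_lit 22137621)) (BT.leaf (nat_lit 27019037)))) (BT.node (nat_lit 6755264) (BT.node (nat_lit 6755200) (BT.leaf (nat_lit 26280465)) (BT.leaf (nat_lit 37679625))) (BT.node (nat_lit 6755392) (BT.leaf (nat_lit 51332629)) (BT.leaf (nat_lit 27264033))))) (BT.node (nat_lit 6755840) (BT.node (nat_lit 6755712) (BT.node (nat_lit 6755648) (BT.leaf (nat_lit 36923417)) (BT.leaf (nat_lit 37100061))) (BT.node (nat_lit 6755776) (BT.leaf (nat_lit 37468689)) (BT.leaf (nat_lit 27022873)))) (BT.node (nat_lit 6755968) (BT.node (nat_lit 6755904) (BT.leaf (nat_lit 37469713)) (BT.leaf (nat_lit 37469977))) (BT.node (nat_lit 6756224) (BT.leaf (nat_lit 22140697)) (BT.leaf (nat_lit 51434017)))))) (BT.node (nat_lit 6757184) (BT.node (nat_lit 6756800) (BT.node (nat_lit 6756672) (BT.node (nat_lit 6756480) (BT.leaf (nat_lit 34473241)) (BT.leaf (nat_lit 36953609))) (BT.node (nat_lit 6756736) (BT.leaf (nat_lit 37472533)) (BT.leaf (nat_lit 26652693)))) (BT.node (nat_lit 6757056) (BT.node (nat_lit 6756928) (BT.leaf (nat_lit 37473049)) (BT.leaf (nat_lit 37473301))) (BT.node (nat_lit 6757120) (BT.leaf (nat_lit 25047301)) (BT.leaf (nat_lit 22144789))))) (BT.node (nat_lit 6757504) (BT.node (nat_lit 6757376) (BT.node (nat_lit 6757312) (BT.leaf (nat_lit 22144793)) (BT.leaf (nat_lit 22145041))) (BT.node (nat_lit 6757440) (BT.leaf (nat_lit 22525469)) (BT.leaf (nat_lit 22145297)))) (BT.node (nat_lit 6757632) (BT.node (nat_lit 6757568) (BT.leaf (nat_lit 22145557)) (BT.leaf (nat_lit 22145561))) (BT.node (nat_lit 6757888) (BT.leaf (nat_lit 22145565)) (BT.leaf (nat_lit 22146577))))))) (BT.node (nat_lit 6759616) (BT.node (nat_lit 6758720) (BT.node (nat_lit 6758336) (BT.node (nat_lit 6758144) (BT.node (nat_lit 6758080) (BT.leaf (nat_lit 37479953)) (BT.leaf (nat_lit 27032089))) (BT.node (nat_lit 6758208) (BT.leaf (nat_lit 22147349)) (BT.leaf (nat_lit 37481493)))) (BT.node (nat_lit 6758528) (BT.node (nat_lit 6758400) (BT.leaf (nat_lit 22147601)) (BT.leaf (nat_lit 37482005))) (BT.node (nat_lit 6758656) (BT.leaf (nat_lit 27268633)) (BT.leaf (nat_lit 22149137))))) (BT.node (nat_lit 6759040) (BT.node (nat_lit 6758912) (BT.node (nat_lit 6758784) (BT.leaf (nat_lit 22149397)) (BT.leaf (nat_lit 22209809))) (BT.node (nat_lit 6758976) (BT.leaf (nat_lit 22149909)) (BT.leaf (nat_lit 27036189)))) (BT.node (nat_lit 6759296) (BT.node (nat_lit 6759104) (BT.leaf (nat_lit 26268945)) (BT.leaf (nat_lit 22150161))) (BT.node (nat_lit 6759488) (BT.leaf (nat_lit 22270993)) (BT.leaf (nat_lit 26883089)))))) (BT.node (nat_lit 6760512) (BT.node (nat_lit 6759936) (BT.node (nat_lit 6759744) (BT.node (nat_lit 6759680) (BT.leaf (nat_lit 26580241)) (BT.leaf (nat_lit 27038489))) (BT.node (nat_lit 6759808) (BT.leaf (nat_lit 26152213)) (BT.leaf (nat_lit 22153745)))) (BT.node (nat_lit 6760128) (BT.node (nat_lit 6760064) (BT.leaf (nat_lit 22212889)) (BT.leaf (nat_lit 37489949))) (BT.node (nat_lit 6760448) (BT.leaf (nat_lit 27050781)) (BT.leaf (nat_lit 27259909))))) (BT.node (nat_lit 6761920) (BT.node (nat_lit 6761088) (BT.node (nat_lit 6760704) (BT.leaf (nat_lit 22154773)) (BT.leaf (nat_lit 27142689))) (BT.node (nat_lit 6761280) (BT.leaf (nat_lit 36693769)) (BT.leaf (nat_lit 22156305)))) (BT.node (nat_lit 6762048) (BT.node (nat_lit 6761984) (BT.leaf (nat_lit 22157841)) (BT.leaf (nat_lit 37497105))) (BT.node (nat_lit 6762112) (BT.leaf (nat_lit 22158357)) (BT.leaf (nat_lit 26705689)))))))) (BT.node (nat_lit 6766208) (BT.node (nat_lit 6763712) (BT.node (nat_lit 6763072) (BT.node (nat_lit 6762688) (BT.node (nat_lit 6762432) (BT.node (nat_lit 6762368) (BT.leaf (nat_lit 22158609)) (BT.leaf (nat_lit 36987933))) (BT.node (nat_lit 6762624) (BT.leaf (nat_lit 22158865)) (BT.leaf (nat_lit 37021189)))) (BT.node (nat_lit 6762944) (BT.node (nat_lit 6762880) (BT.leaf (nat_lit 22159125)) (BT.leaf (nat_lit 27166241))) (BT.node (nat_lit 6763008) (BT.leaf (nat_lit 22159641)) (BT.leaf (nat_lit 36698885))))) (BT.node (nat_lit 6763392) (BT.node (nat_lit 6763264) (BT.node (nat_lit 6763136) (BT.leaf (nat_lit 27196677)) (BT.leaf (nat_lit 27020829))) (BT.node (nat_lit 6763328) (BT.leaf (nat_lit 25258513)) (BT.leaf (nat_lit 22160901)))) (BT.node (nat_lit 6763584) (BT.node (nat_lit 6763456) (BT.leaf (nat_lit 26214173)) (BT.leaf (nat_lit 22161429))) (BT.node (nat_lit 6763648) (BT.leaf (nat_lit 22161681)) (BT.leaf (nat_lit 35747853)))))) (BT.node (nat_lit 6764352) (BT.node (nat_lit 6763968) (BT.node (nat_lit 6763840) (BT.node (nat_lit 6763776) (BT.leaf (nat_lit 27047961)) (BT.leaf (nat_lit 36608541))) (BT.node (nat_lit 6763904) (BT.leaf (nat_lit 22161937)) (BT.leaf (nat_lit 37502993)))) (BT.node (nat_lit 6764160) (BT.node (nat_lit 6764096) (BT.leaf (nat_lit 37503505)) (BT.leaf (nat_lit 26838809))) (BT.node (nat_lit 6764288) (BT.leaf (nat_lit 22162197)) (BT.leaf (nat_lit 22162961))))) (BT.node (nat_lit 6765120) (BT.node (nat_lit 6764480) (BT.node (nat_lit 6764416) (BT.leaf (nat_lit 22162713)) (BT.leaf (nat_lit 22162717))) (BT.node (nat_lit 6764544) (BT.leaf (nat_lit 36707609)) (BT.leaf (nat_lit 50735369)))) (BT.node (nat_lit 6765312) (BT.node (nat_lit 6765248) (BT.leaf (nat_lit 22164753)) (BT.leaf (nat_lit 22165017))) (BT.node (nat_lit 6765760) (BT.leaf (nat_lit 22165021)) (BT.leaf (nat_lit 37510417))))))) (BT.node (nat_lit 6767877) (BT.node (nat_lit 6767296) (BT.node (nat_lit 6767040) (BT.node (nat_lit 6766848) (BT.node (nat_lit 6766592) (BT.leaf (nat_lit 22167569)) (BT.leaf (nat_lit 37513501))) (BT.node (nat_lit 6766976) (BT.leaf (nat_lit 27027721)) (BT.leaf (nat_lit 22170389)))) (BT.node (nat_lit 6767168) (BT.node (nat_lit 6767104) (BT.leaf (nat_lit 22170397)) (BT.leaf (nat_lit 22170649))) (BT.node (nat_lit 6767232) (BT.leaf (nat_lit 22170653)) (BT.leaf (nat_lit 22810641))))) (BT.node (nat_lit 6767616) (BT.node (nat_lit 6767424) (BT.node (nat_lit 6767360) (BT.leaf (nat_lit 22170893)) (BT.leaf (nat_lit 22170905))) (BT.node (nat_lit 6767488) (BT.leaf (nat_lit 22170909)) (BT.leaf (nat_lit 25573401)))) (BT.node (nat_lit 6767744) (BT.node (nat_lit 6767680) (BT.leaf (nat_lit 22171409)) (BT.leaf (nat_lit 22171413))) (BT.node (nat_lit 6767808) (BT.leaf (nat_lit 27054609)) (BT.leaf (nat_lit 27158553)))))) (BT.node (nat_lit 6768960) (BT.node (nat_lit 6768320) (BT.node (nat_lit 6767940) (BT.node (nat_lit 6767936) (BT.leaf (nat_lit 555948)) (BT.leaf (nat_lit 36839945))) (BT.node (nat_lit 6768192) (BT.leaf (nat_lit 555952)) (BT.leaf (nat_lit 52202013)))) (BT.node (nat_lit 6768832) (BT.node (nat_lit 6768576) (BT.leaf (nat_lit 22173469)) (BT.leaf (nat_lit 49998369))) (BT.node (nat_lit 6768896) (BT.leaf (nat_lit 26222353)) (BT.leaf (nat_lit 22989593))))) (BT.node (nat_lit 6769344) (BT.node (nat_lit 6769088) (BT.node (nat_lit 6769024) (BT.leaf (nat_lit 35512853)) (BT.leaf (nat_lit 35512857))) (BT.node (nat_lit 6769152) (BT.leaf (nat_lit 37525253)) (BT.leaf (nat_lit 23961629)))) (BT.node (nat_lit 6769600) (BT.node (nat_lit 6769472) (BT.leaf (nat_lit 22175773)) (BT.leaf (nat_lit 36541981))) (BT.node (nat_lit 6769664) (BT.leaf (nat_lit 22176521)) (BT.leaf (nat_lit 22176525))))))))) (BT.node (nat_lit 6776064) (BT.node (nat_lit 6773120) (BT.node (nat_lit 6771712) (BT.node (nat_lit 6770752) (BT.node (nat_lit 6769984) (BT.node (nat_lit 6769856) (BT.node (nat_lit 6769792) (BT.leaf (nat_lit 22176537)) (BT.leaf (nat_lit 22176541))) (BT.node (nat_lit 6769920) (BT.leaf (nat_lit 22176785)) (BT.leaf (nat_lit 22176789)))) (BT.node (nat_lit 6770496) (BT.node (nat_lit 6770368) (BT.leaf (nat_lit 22177041)) (BT.leaf (nat_lit 37531921))) (BT.node (nat_lit 6770624) (BT.leaf (nat_lit 34151181)) (BT.leaf (nat_lit 36494357))))) (BT.node (nat_lit 6771200) (BT.node (nat_lit 6771072) (BT.node (nat_lit 6771008) (BT.leaf (nat_lit 37393173)) (BT.leaf (nat_lit 37421077))) (BT.node (nat_lit 6771136) (BT.leaf (nat_lit 27084041)) (BT.leaf (nat_lit 23493653)))) (BT.node (nat_lit 6771328) (BT.node (nat_lit 6771264) (BT.leaf (nat_lit 22179869)) (BT.leaf (nat_lit 23981081))) (BT.node (nat_lit 6771392) (BT.leaf (nat_lit 22180369)) (BT.leaf (nat_lit 34592797)))))) (BT.node (nat_lit 6772480) (BT.node (nat_lit 6772224) (BT.node (nat_lit 6771968) (BT.node (nat_lit 6771776) (BT.leaf (nat_lit 37536785)) (BT.leaf (nat_lit 36544005))) (BT.node (nat_lit 6772160) (BT.leaf (nat_lit 37539613)) (BT.leaf (nat_lit 25128197)))) (BT.node (nat_lit 6772352) (BT.node (nat_lit 6772288) (BT.leaf (nat_lit 22183197)) (BT.leaf (nat_lit 26330885))) (BT.node (nat_lit 6772416) (BT.leaf (nat_lit 26330373)) (BT.leaf (nat_lit 37459721))))) (BT.node (nat_lit 6772800) (BT.node (nat_lit 6772608) (BT.node (nat_lit 6772544) (BT.leaf (nat_lit 26183453)) (BT.leaf (nat_lit 35457821))) (BT.node (nat_lit 6772736) (BT.leaf (nat_lit 22184721)) (BT.leaf (nat_lit 37379845)))) (BT.node (nat_lit 6772992) (BT.node (nat_lit 6772928) (BT.leaf (nat_lit 37379857)) (BT.leaf (nat_lit 27167765))) (BT.node (nat_lit 6773056) (BT.leaf (nat_lit 22185993)) (BT.leaf (nat_lit 22185997))))))) (BT.node (nat_lit 6774528) (BT.node (nat_lit 6773824) (BT.node (nat_lit 6773504) (BT.node (nat_lit 6773248) (BT.node (nat_lit 6773184) (BT.leaf (nat_lit 22186009)) (BT.leaf (nat_lit 22186013))) (BT.node (nat_lit 6773312) (BT.leaf (nat_lit 32668189)) (BT.leaf (nat_lit 22186261)))) (BT.node (nat_lit 6773696) (BT.node (nat_lit 6773632) (BT.leaf (nat_lit 22186769)) (BT.leaf (nat_lit 27256597))) (BT.node (nat_lit 6773760) (BT.leaf (nat_lit 37547285)) (BT.leaf (nat_lit 37547537))))) (BT.node (nat_lit 6774208) (BT.node (nat_lit 6774080) (BT.node (nat_lit 6773952) (BT.leaf (nat_lit 36485125)) (BT.leaf (nat_lit 22287385))) (BT.node (nat_lit 6774144) (BT.leaf (nat_lit 22188049)) (BT.leaf (nat_lit 36496133)))) (BT.node (nat_lit 6774400) (BT.node (nat_lit 6774272) (BT.leaf (nat_lit 26277137)) (BT.leaf (nat_lit 22188309))) (BT.node (nat_lit 6774464) (BT.leaf (nat_lit 37548305)) (BT.leaf (nat_lit 37549081)))))) (BT.node (nat_lit 6775232) (BT.node (nat_lit 6774784) (BT.node (nat_lit 6774656) (BT.node (nat_lit 6774592) (BT.leaf (nat_lit 22189081)) (BT.leaf (nat_lit 36718873))) (BT.node (nat_lit 6774720) (BT.leaf (nat_lit 22189341)) (BT.leaf (nat_lit 37550097)))) (BT.node (nat_lit 6775104) (BT.node (nat_lit 6774912) (BT.leaf (nat_lit 22189841)) (BT.leaf (nat_lit 22190097))) (BT.node (nat_lit 6775168) (BT.leaf (nat_lit 26209309)) (BT.leaf (nat_lit 51115533))))) (BT.node (nat_lit 6775808) (BT.node (nat_lit 6775616) (BT.node (nat_lit 6775296) (BT.leaf (nat_lit 26250261)) (BT.leaf (nat_lit 37552921))) (BT.node (nat_lit 6775680) (BT.leaf (nat_lit 37554205)) (BT.leaf (nat_lit 37553937)))) (BT.node (nat_lit 6775936) (BT.node (nat_lit 6775872) (BT.leaf (nat_lit 26582021)) (BT.leaf (nat_lit 22193933))) (BT.node (nat_lit 6776000) (BT.leaf (nat_lit 22193937)) (BT.leaf (nat_lit 22193945)))))))) (BT.node (nat_lit 6780416) (BT.node (nat_lit 6778112) (BT.node (nat_lit 6776704) (BT.node (nat_lit 6776384) (BT.node (nat_lit 6776192) (BT.node (nat_lit 6776128) (BT.leaf (nat_lit 22281229)) (BT.leaf (nat_lit 29557533))) (BT.node (nat_lit 6776320) (BT.leaf (nat_lit 22194197)) (BT.leaf (nat_lit 22194713)))) (BT.node (nat_lit 6776512) (BT.node (nat_lit 6776448) (BT.leaf (nat_lit 22194717)) (BT.leaf (nat_lit 27254301))) (BT.node (nat_lit 6776640) (BT.leaf (nat_lit 27095069)) (BT.leaf (nat_lit 27094797))))) (BT.node (nat_lit 6777088) (BT.node (nat_lit 6776832) (BT.node (nat_lit 6776768) (BT.leaf (nat_lit 22195221)) (BT.leaf (nat_lit 36539397))) (BT.node (nat_lit 6776960) (BT.leaf (nat_lit 22195477)) (BT.leaf (nat_lit 22195985)))) (BT.node (nat_lit 6777472) (BT.node (nat_lit 6777280) (BT.leaf (nat_lit 22196489)) (BT.leaf (nat_lit 35490053))) (BT.node (nat_lit 6777792) (BT.leaf (nat_lit 36496413)) (BT.leaf (nat_lit 27097113)))))) (BT.node (nat_lit 6779264) (BT.node (nat_lit 6778880) (BT.node (nat_lit 6778368) (BT.node (nat_lit 6778304) (BT.leaf (nat_lit 26107921)) (BT.leaf (nat_lit 22199573))) (BT.node (nat_lit 6778816) (BT.leaf (nat_lit 22199837)) (BT.leaf (nat_lit 37565701)))) (BT.node (nat_lit 6779008) (BT.node (nat_lit 6778944) (BT.leaf (nat_lit 22201117)) (BT.leaf (nat_lit 37268509))) (BT.node (nat_lit 6779136) (BT.leaf (nat_lit 37566485)) (BT.leaf (nat_lit 34151201))))) (BT.node (nat_lit 6779776) (BT.node (nat_lit 6779584) (BT.node (nat_lit 6779392) (BT.leaf (nat_lit 37566997)) (BT.leaf (nat_lit 50017553))) (BT.node (nat_lit 6779648) (BT.leaf (nat_lit 52200737)) (BT.leaf (nat_lit 37335577)))) (BT.node (nat_lit 6779968) (BT.node (nat_lit 6779840) (BT.leaf (nat_lit 36492037)) (BT.leaf (nat_lit 27094809))) (BT.node (nat_lit 6780032) (BT.leaf (nat_lit 52204569)) (BT.leaf (nat_lit 26745105))))))) (BT.node (nat_lit 6781888) (BT.node (nat_lit 6781056) (BT.node (nat_lit 6780800) (BT.node (nat_lit 6780544) (BT.node (nat_lit 6780480) (BT.leaf (nat_lit 22206229)) (BT.leaf (nat_lit 26265873))) (BT.node (nat_lit 6780672) (BT.leaf (nat_lit 22206481)) (BT.leaf (nat_lit 27038737)))) (BT.node (nat_lit 6780928) (BT.node (nat_lit 6780864) (BT.leaf (nat_lit 22206993)) (BT.leaf (nat_lit 22207765))) (BT.node (nat_lit 6780992) (BT.leaf (nat_lit 36690705)) (BT.leaf (nat_lit 22208017))))) (BT.node (nat_lit 6781312) (BT.node (nat_lit 6781184) (BT.node (nat_lit 6781120) (BT.leaf (nat_lit 22208533)) (BT.leaf (nat_lit 27124765))) (BT.node (nat_lit 6781248) (BT.leaf (nat_lit 37494545)) (BT.leaf (nat_lit 22208781)))) (BT.node (nat_lit 6781568) (BT.node (nat_lit 6781440) (BT.leaf (nat_lit 22208801)) (BT.leaf (nat_lit 27250193))) (BT.node (nat_lit 6781824) (BT.leaf (nat_lit 22209549)) (BT.leaf (nat_lit 22209813)))))) (BT.node (nat_lit 6782656) (BT.node (nat_lit 6782272) (BT.node (nat_lit 6782016) (BT.node (nat_lit 6781952) (BT.leaf (nat_lit 26580229)) (BT.leaf (nat_lit 22210069))) (BT.node (nat_lit 6782080) (BT.leaf (nat_lit 27150617)) (BT.leaf (nat_lit 22210573)))) (BT.node (nat_lit 6782528) (BT.node (nat_lit 6782336) (BT.leaf (nat_lit 27150605)) (BT.leaf (nat_lit 22210593))) (BT.node (nat_lit 6782592) (BT.leaf (nat_lit 36690693)) (BT.leaf (nat_lit 22211093))))) (BT.node (nat_lit 6783232) (BT.node (nat_lit 6782848) (BT.node (nat_lit 6782784) (BT.leaf (nat_lit 22211333)) (BT.leaf (nat_lit 37296913))) (BT.node (nat_lit 6783168) (BT.leaf (nat_lit 22212129)) (BT.leaf (nat_lit 22212629)))) (BT.node (nat_lit 6783616) (BT.node (nat_lit 6783296) (BT.leaf (nat_lit 22212885)) (BT.leaf (nat_lit 37587729))) (BT.node (nat_lit 6783744) (BT.leaf (nat_lit 26873117)) (BT.leaf (nat_lit 22213909)))))))))) (BT.node (nat_lit 6794944) (BT.node (nat_lit 6789440) (BT.node (nat_lit 6786880) (BT.node (nat_lit 6785536) (BT.node (nat_lit 6784704) (BT.node (nat_lit 6784448) (BT.node (nat_lit 6784320) (BT.node (nat_lit 6784256) (BT.leaf (nat_lit 22214161)) (BT.leaf (nat_lit 22214933))) (BT.node (nat_lit 6784384) (BT.leaf (nat_lit 22215185)) (BT.leaf (nat_lit 22215689)))) (BT.node (nat_lit 6784576) (BT.node (nat_lit 6784512) (BT.leaf (nat_lit 27162141)) (BT.leaf (nat_lit 22215697))) (BT.node (nat_lit 6784640) (BT.leaf (nat_lit 27162121)) (BT.leaf (nat_lit 37592597))))) (BT.node (nat_lit 6785024) (BT.node (nat_lit 6784832) (BT.node (nat_lit 6784768) (BT.leaf (nat_lit 22215713)) (BT.leaf (nat_lit 23089177))) (BT.node (nat_lit 6784960) (BT.leaf (nat_lit 22215957)) (BT.leaf (nat_lit 22216453)))) (BT.node (nat_lit 6785152) (BT.node (nat_lit 6785088) (BT.leaf (nat_lit 22216473)) (BT.leaf (nat_lit 22216477))) (BT.node (nat_lit 6785216) (BT.leaf (nat_lit 37120793)) (BT.leaf (nat_lit 37119509)))))) (BT.node (nat_lit 6786176) (BT.node (nat_lit 6785920) (BT.node (nat_lit 6785664) (BT.node (nat_lit 6785600) (BT.leaf (nat_lit 26859293)) (BT.leaf (nat_lit 22217493))) (BT.node (nat_lit 6785856) (BT.leaf (nat_lit 22217733)) (BT.leaf (nat_lit 22219025)))) (BT.node (nat_lit 6786048) (BT.node (nat_lit 6785984) (BT.leaf (nat_lit 22219285)) (BT.leaf (nat_lit 27144221))) (BT.node (nat_lit 6786112) (BT.leaf (nat_lit 37598225)) (BT.leaf (nat_lit 22219537))))) (BT.node (nat_lit 6786432) (BT.node (nat_lit 6786304) (BT.node (nat_lit 6786240) (BT.leaf (nat_lit 22219797)) (BT.leaf (nat_lit 37546257))) (BT.node (nat_lit 6786368) (BT.leaf (nat_lit 22220049)) (BT.leaf (nat_lit 22220065)))) (BT.node (nat_lit 6786688) (BT.node (nat_lit 6786496) (BT.leaf (nat_lit 37113625)) (BT.leaf (nat_lit 37111829))) (BT.node (nat_lit 6786816) (BT.leaf (nat_lit 22220561)) (BT.leaf (nat_lit 36143365))))))) (BT.node (nat_lit 6788096) (BT.node (nat_lit 6787520) (BT.node (nat_lit 6787136) (BT.node (nat_lit 6787008) (BT.node (nat_lit 6786944) (BT.leaf (nat_lit 22220821)) (BT.leaf (nat_lit 22221061))) (BT.node (nat_lit 6787072) (BT.leaf (nat_lit 22221081)) (BT.leaf (nat_lit 22221085)))) (BT.node (nat_lit 6787264) (BT.node (nat_lit 6787200) (BT.leaf (nat_lit 37116185)) (BT.leaf (nat_lit 37114389))) (BT.node (nat_lit 6787456) (BT.leaf (nat_lit 22221585)) (BT.leaf (nat_lit 22221601))))) (BT.node (nat_lit 6787776) (BT.node (nat_lit 6787648) (BT.node (nat_lit 6787584) (BT.leaf (nat_lit 22221845)) (BT.leaf (nat_lit 37168901))) (BT.node (nat_lit 6787712) (BT.leaf (nat_lit 22222101)) (BT.leaf (nat_lit 22222341)))) (BT.node (nat_lit 6787904) (BT.node (nat_lit 6787840) (BT.leaf (nat_lit 22222361)) (BT.leaf (nat_lit 22222365))) (BT.node (nat_lit 6787968) (BT.leaf (nat_lit 22222869)) (BT.leaf (nat_lit 37601809)))))) (BT.node (nat_lit 6788928) (BT.node (nat_lit 6788416) (BT.node (nat_lit 6788224) (BT.node (nat_lit 6788160) (BT.leaf (nat_lit 23007509)) (BT.leaf (nat_lit 22223369))) (BT.node (nat_lit 6788288) (BT.leaf (nat_lit 27132701)) (BT.leaf (nat_lit 22223377)))) (BT.node (nat_lit 6788736) (BT.node (nat_lit 6788544) (BT.leaf (nat_lit 37489173)) (BT.leaf (nat_lit 37603601))) (BT.node (nat_lit 6788800) (BT.leaf (nat_lit 22224133)) (BT.leaf (nat_lit 22224153))))) (BT.node (nat_lit 6789184) (BT.node (nat_lit 6789056) (BT.node (nat_lit 6788992) (BT.leaf (nat_lit 22224661)) (BT.leaf (nat_lit 37559825))) (BT.node (nat_lit 6789120) (BT.leaf (nat_lit 22224913)) (BT.leaf (nat_lit 36651785)))) (BT.node (nat_lit 6789312) (BT.node (nat_lit 6789248) (BT.leaf (nat_lit 26893341)) (BT.leaf (nat_lit 37245465))) (BT.node (nat_lit 6789376) (BT.leaf (nat_lit 37244949)) (BT.leaf (nat_lit 22225681)))))))) (BT.node (nat_lit 6791936) (BT.node (nat_lit 6790784) (BT.node (nat_lit 6790272) (BT.node (nat_lit 6789888) (BT.node (nat_lit 6789760) (BT.node (nat_lit 6789632) (BT.leaf (nat_lit 22225945)) (BT.leaf (nat_lit 22226449))) (BT.node (nat_lit 6789824) (BT.leaf (nat_lit 37559833)) (BT.leaf (nat_lit 22226965)))) (BT.node (nat_lit 6790144) (BT.node (nat_lit 6790080) (BT.leaf (nat_lit 22227473)) (BT.leaf (nat_lit 22227721))) (BT.node (nat_lit 6790208) (BT.leaf (nat_lit 22227725)) (BT.leaf (nat_lit 22227729))))) (BT.node (nat_lit 6790528) (BT.node (nat_lit 6790400) (BT.node (nat_lit 6790336) (BT.leaf (nat_lit 22227737)) (BT.leaf (nat_lit 22227741))) (BT.node (nat_lit 6790464) (BT.leaf (nat_lit 22227745)) (BT.leaf (nat_lit 28468249)))) (BT.node (nat_lit 6790656) (BT.node (nat_lit 6790592) (BT.leaf (nat_lit 22227989)) (BT.leaf (nat_lit 35794713))) (BT.node (nat_lit 6790720) (BT.leaf (nat_lit 22228245)) (BT.leaf (nat_lit 22228485)))))) (BT.node (nat_lit 6791296) (BT.node (nat_lit 6791040) (BT.node (nat_lit 6790912) (BT.node (nat_lit 6790848) (BT.leaf (nat_lit 22228505)) (BT.leaf (nat_lit 22228509))) (BT.node (nat_lit 6790976) (BT.leaf (nat_lit 27142425)) (BT.leaf (nat_lit 22229005)))) (BT.node (nat_lit 6791104) (BT.node (nat_lit 6791047) (BT.leaf (nat_lit 22229009)) (BT.leaf (nat_lit 565984))) (BT.node (nat_lit 6791232) (BT.leaf (nat_lit 37596181)) (BT.leaf (nat_lit 22229025))))) (BT.node (nat_lit 6791616) (BT.node (nat_lit 6791488) (BT.node (nat_lit 6791424) (BT.leaf (nat_lit 22229265)) (BT.leaf (nat_lit 36495901))) (BT.node (nat_lit 6791552) (BT.leaf (nat_lit 22229525)) (BT.leaf (nat_lit 22229765)))) (BT.node (nat_lit 6791744) (BT.node (nat_lit 6791680) (BT.leaf (nat_lit 22229785)) (BT.leaf (nat_lit 22229789))) (BT.node (nat_lit 6791808) (BT.leaf (nat_lit 22231061)) (BT.leaf (nat_lit 37614097))))))) (BT.node (nat_lit 6793472) (BT.node (nat_lit 6792640) (BT.node (nat_lit 6792320) (BT.node (nat_lit 6792128) (BT.node (nat_lit 6792064) (BT.leaf (nat_lit 22231569)) (BT.leaf (nat_lit 37614869))) (BT.node (nat_lit 6792256) (BT.leaf (nat_lit 22291721)) (BT.leaf (nat_lit 27151901)))) (BT.node (nat_lit 6792512) (BT.node (nat_lit 6792384) (BT.leaf (nat_lit 22233097)) (BT.leaf (nat_lit 37167133))) (BT.node (nat_lit 6792576) (BT.leaf (nat_lit 37167113)) (BT.leaf (nat_lit 37170197))))) (BT.node (nat_lit 6792960) (BT.node (nat_lit 6792832) (BT.node (nat_lit 6792704) (BT.leaf (nat_lit 22233121)) (BT.leaf (nat_lit 22233365))) (BT.node (nat_lit 6792896) (BT.leaf (nat_lit 22233621)) (BT.leaf (nat_lit 22234121)))) (BT.node (nat_lit 6793344) (BT.node (nat_lit 6793280) (BT.leaf (nat_lit 37614365)) (BT.leaf (nat_lit 27267097))) (BT.node (nat_lit 6793408) (BT.leaf (nat_lit 22234389)) (BT.leaf (nat_lit 22234641)))))) (BT.node (nat_lit 6794304) (BT.node (nat_lit 6794048) (BT.node (nat_lit 6793920) (BT.node (nat_lit 6793856) (BT.leaf (nat_lit 22234645)) (BT.leaf (nat_lit 27033629))) (BT.node (nat_lit 6793984) (BT.leaf (nat_lit 22235669)) (BT.leaf (nat_lit 22286621)))) (BT.node (nat_lit 6794176) (BT.node (nat_lit 6794112) (BT.leaf (nat_lit 22235925)) (BT.leaf (nat_lit 22236425))) (BT.node (nat_lit 6794240) (BT.leaf (nat_lit 22236429)) (BT.leaf (nat_lit 22236433))))) (BT.node (nat_lit 6794560) (BT.node (nat_lit 6794432) (BT.node (nat_lit 6794368) (BT.leaf (nat_lit 22236441)) (BT.leaf (nat_lit 22236445))) (BT.node (nat_lit 6794496) (BT.leaf (nat_lit 22236449)) (BT.leaf (nat_lit 22236693)))) (BT.node (nat_lit 6794688) (BT.node (nat_lit 6794624) (BT.leaf (nat_lit 22236949)) (BT.leaf (nat_lit 22237189))) (BT.node (nat_lit 6794752) (BT.leaf (nat_lit 22237209)) (BT.leaf (nat_lit 22237213))))))))) (BT.node (nat_lit 6799872) (BT.node (nat_lit 6797440) (BT.node (nat_lit 6796224) (BT.node (nat_lit 6795584) (BT.node (nat_lit 6795200) (BT.node (nat_lit 6795072) (BT.node (nat_lit 6795008) (BT.leaf (nat_lit 22237973)) (BT.leaf (nat_lit 22284317))) (BT.node (nat_lit 6795136) (BT.leaf (nat_lit 22238229)) (BT.leaf (nat_lit 22514977)))) (BT.node (nat_lit 6795328) (BT.node (nat_lit 6795264) (BT.leaf (nat_lit 37619229)) (BT.leaf (nat_lit 27173405))) (BT.node (nat_lit 6795520) (BT.leaf (nat_lit 22239505)) (BT.leaf (nat_lit 37615129))))) (BT.node (nat_lit 6795840) (BT.node (nat_lit 6795712) (BT.node (nat_lit 6795648) (BT.leaf (nat_lit 22239765)) (BT.leaf (nat_lit 22240017))) (BT.node (nat_lit 6795776) (BT.leaf (nat_lit 22240021)) (BT.leaf (nat_lit 22240261)))) (BT.node (nat_lit 6795968) (BT.node (nat_lit 6795904) (BT.leaf (nat_lit 22240777)) (BT.leaf (nat_lit 27175709))) (BT.node (nat_lit 6796096) (BT.leaf (nat_lit 22240785)) (BT.leaf (nat_lit 36686357)))))) (BT.node (nat_lit 6796800) (BT.node (nat_lit 6796480) (BT.node (nat_lit 6796352) (BT.node (nat_lit 6796288) (BT.leaf (nat_lit 37629973)) (BT.leaf (nat_lit 22241045))) (BT.node (nat_lit 6796416) (BT.leaf (nat_lit 27112477)) (BT.leaf (nat_lit 22241541)))) (BT.node (nat_lit 6796672) (BT.node (nat_lit 6796608) (BT.leaf (nat_lit 22241565)) (BT.leaf (nat_lit 32665881))) (BT.node (nat_lit 6796736) (BT.leaf (nat_lit 22242061)) (BT.leaf (nat_lit 22242065))))) (BT.node (nat_lit 6797056) (BT.node (nat_lit 6796928) (BT.node (nat_lit 6796864) (BT.leaf (nat_lit 22242073)) (BT.leaf (nat_lit 32665869))) (BT.node (nat_lit 6796992) (BT.leaf (nat_lit 22242081)) (BT.leaf (nat_lit 32668185)))) (BT.node (nat_lit 6797312) (BT.node (nat_lit 6797248) (BT.leaf (nat_lit 22242325)) (BT.leaf (nat_lit 22242821))) (BT.node (nat_lit 6797376) (BT.leaf (nat_lit 22242841)) (BT.leaf (nat_lit 22242845))))))) (BT.node (nat_lit 6798656) (BT.node (nat_lit 6798016) (BT.node (nat_lit 6797760) (BT.node (nat_lit 6797568) (BT.node (nat_lit 6797504) (BT.leaf (nat_lit 27180313)) (BT.leaf (nat_lit 22243341))) (BT.node (nat_lit 6797632) (BT.leaf (nat_lit 22243345)) (BT.leaf (nat_lit 37627413)))) (BT.node (nat_lit 6797888) (BT.node (nat_lit 6797824) (BT.leaf (nat_lit 27164933)) (BT.leaf (nat_lit 22243605))) (BT.node (nat_lit 6797952) (BT.leaf (nat_lit 27107101)) (BT.leaf (nat_lit 22243861))))) (BT.node (nat_lit 6798272) (BT.node (nat_lit 6798144) (BT.node (nat_lit 6798080) (BT.leaf (nat_lit 33740821)) (BT.leaf (nat_lit 22244121))) (BT.node (nat_lit 6798208) (BT.leaf (nat_lit 22244125)) (BT.leaf (nat_lit 27222813)))) (BT.node (nat_lit 6798400) (BT.node (nat_lit 6798336) (BT.leaf (nat_lit 36485661)) (BT.leaf (nat_lit 22244625))) (BT.node (nat_lit 6798464) (BT.leaf (nat_lit 36485641)) (BT.leaf (nat_lit 27193625)))))) (BT.node (nat_lit 6799232) (BT.node (nat_lit 6798976) (BT.node (nat_lit 6798848) (BT.node (nat_lit 6798720) (BT.leaf (nat_lit 22244885)) (BT.leaf (nat_lit 22245137))) (BT.node (nat_lit 6798912) (BT.leaf (nat_lit 22245393)) (BT.leaf (nat_lit 26084637)))) (BT.node (nat_lit 6799104) (BT.node (nat_lit 6799040) (BT.leaf (nat_lit 22245637)) (BT.leaf (nat_lit 22245657))) (BT.node (nat_lit 6799168) (BT.leaf (nat_lit 22245661)) (BT.leaf (nat_lit 37335325))))) (BT.node (nat_lit 6799616) (BT.node (nat_lit 6799488) (BT.node (nat_lit 6799360) (BT.leaf (nat_lit 37298957)) (BT.leaf (nat_lit 24976401))) (BT.node (nat_lit 6799552) (BT.leaf (nat_lit 22246929)) (BT.leaf (nat_lit 22247173)))) (BT.node (nat_lit 6799744) (BT.node (nat_lit 6799680) (BT.leaf (nat_lit 22247193)) (BT.leaf (nat_lit 22247197))) (BT.node (nat_lit 6799808) (BT.leaf (nat_lit 22247697)) (BT.leaf (nat_lit 22247701)))))))) (BT.node (nat_lit 6802944) (BT.node (nat_lit 6801280) (BT.node (nat_lit 6800768) (BT.node (nat_lit 6800512) (BT.node (nat_lit 6800384) (BT.node (nat_lit 6800256) (BT.leaf (nat_lit 27157261)) (BT.leaf (nat_lit 27032605))) (BT.node (nat_lit 6800448) (BT.leaf (nat_lit 22249489)) (BT.leaf (nat_lit 27055897)))) (BT.node (nat_lit 6800640) (BT.node (nat_lit 6800576) (BT.leaf (nat_lit 22249745)) (BT.leaf (nat_lit 36496645))) (BT.node (nat_lit 6800704) (BT.leaf (nat_lit 26253337)) (BT.leaf (nat_lit 22249997))))) (BT.node (nat_lit 6801024) (BT.node (nat_lit 6800896) (BT.node (nat_lit 6800832) (BT.leaf (nat_lit 22250001)) (BT.leaf (nat_lit 22250009))) (BT.node (nat_lit 6800960) (BT.leaf (nat_lit 26253325)) (BT.leaf (nat_lit 25990681)))) (BT.node (nat_lit 6801152) (BT.node (nat_lit 6801088) (BT.leaf (nat_lit 22250261)) (BT.leaf (nat_lit 27194909))) (BT.node (nat_lit 6801216) (BT.leaf (nat_lit 22250517)) (BT.leaf (nat_lit 22250777)))))) (BT.node (nat_lit 6802240) (BT.node (nat_lit 6801984) (BT.node (nat_lit 6801408) (BT.node (nat_lit 6801344) (BT.leaf (nat_lit 22250781)) (BT.leaf (nat_lit 22251281))) (BT.node (nat_lit 6801856) (BT.leaf (nat_lit 22251285)) (BT.leaf (nat_lit 33229841)))) (BT.node (nat_lit 6802112) (BT.node (nat_lit 6802048) (BT.leaf (nat_lit 22253597)) (BT.leaf (nat_lit 50202885))) (BT.node (nat_lit 6802176) (BT.leaf (nat_lit 47337221)) (BT.leaf (nat_lit 50861325))))) (BT.node (nat_lit 6802688) (BT.node (nat_lit 6802496) (BT.node (nat_lit 6802304) (BT.leaf (nat_lit 22254353)) (BT.leaf (nat_lit 37653777))) (BT.node (nat_lit 6802624) (BT.leaf (nat_lit 25816849)) (BT.leaf (nat_lit 36891413)))) (BT.node (nat_lit 6802816) (BT.node (nat_lit 6802752) (BT.leaf (nat_lit 27202593)) (BT.leaf (nat_lit 27202849))) (BT.node (nat_lit 6802880) (BT.leaf (nat_lit 27203617)) (BT.leaf (nat_lit 27203361))))))) (BT.node (nat_lit 6804480) (BT.node (nat_lit 6803840) (BT.node (nat_lit 6803392) (BT.node (nat_lit 6803072) (BT.node (nat_lit 6803008) (BT.leaf (nat_lit 36152333)) (BT.leaf (nat_lit 31278089))) (BT.node (nat_lit 6803200) (BT.leaf (nat_lit 37655825)) (BT.leaf (nat_lit 37656349)))) (BT.node (nat_lit 6803648) (BT.node (nat_lit 6803520) (BT.leaf (nat_lit 51406365)) (BT.leaf (nat_lit 37288725))) (BT.node (nat_lit 6803776) (BT.leaf (nat_lit 37657877)) (BT.leaf (nat_lit 36642309))))) (BT.node (nat_lit 6804096) (BT.node (nat_lit 6803968) (BT.node (nat_lit 6803904) (BT.leaf (nat_lit 37658117)) (BT.leaf (nat_lit 25132053))) (BT.node (nat_lit 6804032) (BT.leaf (nat_lit 37658901)) (BT.leaf (nat_lit 22259481)))) (BT.node (nat_lit 6804352) (BT.node (nat_lit 6804224) (BT.leaf (nat_lit 36470805)) (BT.leaf (nat_lit 37659157))) (BT.node (nat_lit 6804416) (BT.leaf (nat_lit 37659409)) (BT.leaf (nat_lit 26113813)))))) (BT.node (nat_lit 6805312) (BT.node (nat_lit 6804800) (BT.node (nat_lit 6804672) (BT.node (nat_lit 6804608) (BT.leaf (nat_lit 37659665)) (BT.leaf (nat_lit 37660953))) (BT.node (nat_lit 6804736) (BT.leaf (nat_lit 26934289)) (BT.leaf (nat_lit 37659165)))) (BT.node (nat_lit 6804928) (BT.node (nat_lit 6804864) (BT.leaf (nat_lit 37661457)) (BT.leaf (nat_lit 37661717))) (BT.node (nat_lit 6804992) (BT.leaf (nat_lit 22262041)) (BT.leaf (nat_lit 37367057))))) (BT.node (nat_lit 6805696) (BT.node (nat_lit 6805504) (BT.node (nat_lit 6805440) (BT.leaf (nat_lit 37661977)) (BT.leaf (nat_lit 36485657))) (BT.node (nat_lit 6805632) (BT.leaf (nat_lit 26903557)) (BT.leaf (nat_lit 27267353)))) (BT.node (nat_lit 6805888) (BT.node (nat_lit 6805760) (BT.leaf (nat_lit 36485645)) (BT.leaf (nat_lit 22264593))) (BT.node (nat_lit 6806080) (BT.leaf (nat_lit 37663765)) (BT.leaf (nat_lit 22265361)))))))))))))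
noncomputable def big0_e38912 : BT Nat := (BT.node (nat_lit 6875392) (BT.node (nat_lit 6842624) (BT.node (nat_lit 6826240) (BT.node (nat_lit 6818048) (BT.node (nat_lit 6811904) (BT.node (nat_lit 6809344) (BT.node (nat_lit 6807936) (BT.node (nat_lit 6807232) (BT.node (nat_lit 6806592) (BT.node (nat_lit 6806336) (BT.node (nat_lit 6806208) (BT.leaf (nat_lit 22265617)) (BT.leaf (nat_lit 22265881))) (BT.node (nat_lit 6806464) (BT.leaf (nat_lit 37664529)) (BT.leaf (nat_lit 37664793)))) (BT.node (nat_lit 6806976) (BT.node (nat_lit 6806912) (BT.leaf (nat_lit 37303325)) (BT.leaf (nat_lit 22268177))) (BT.node (nat_lit 6807168) (BT.leaf (nat_lit 22268193)) (BT.leaf (nat_lit 22268933))))) (BT.node (nat_lit 6807680) (BT.node (nat_lit 6807488) (BT.node (nat_lit 6807296) (BT.leaf (nat_lit 22268953)) (BT.leaf (nat_lit 22269201))) (BT.node (nat_lit 6807616) (BT.leaf (nat_lit 22269969)) (BT.leaf (nat_lit 22270473)))) (BT.node (nat_lit 6807808) (BT.node (nat_lit 6807744) (BT.leaf (nat_lit 37284125)) (BT.leaf (nat_lit 22270481))) (BT.node (nat_lit 6807872) (BT.leaf (nat_lit 37284105)) (BT.leaf (nat_lit 37669909)))))) (BT.node (nat_lit 6808768) (BT.node (nat_lit 6808192) (BT.node (nat_lit 6808064) (BT.node (nat_lit 6808000) (BT.leaf (nat_lit 22270497)) (BT.leaf (nat_lit 26867741))) (BT.node (nat_lit 6808128) (BT.leaf (nat_lit 22270741)) (BT.leaf (nat_lit 22270997)))) (BT.node (nat_lit 6808576) (BT.node (nat_lit 6808256) (BT.leaf (nat_lit 27241241)) (BT.leaf (nat_lit 22271757))) (BT.node (nat_lit 6808704) (BT.leaf (nat_lit 22272017)) (BT.leaf (nat_lit 22272277))))) (BT.node (nat_lit 6809088) (BT.node (nat_lit 6808960) (BT.node (nat_lit 6808896) (BT.leaf (nat_lit 37672457)) (BT.leaf (nat_lit 22273309))) (BT.node (nat_lit 6809024) (BT.leaf (nat_lit 37673485)) (BT.leaf (nat_lit 37670429)))) (BT.node (nat_lit 6809216) (BT.node (nat_lit 6809152) (BT.leaf (nat_lit 27232285)) (BT.leaf (nat_lit 22273809))) (BT.node (nat_lit 6809280) (BT.leaf (nat_lit 27232265)) (BT.leaf (nat_lit 27236889))))))) (BT.node (nat_lit 6810752) (BT.node (nat_lit 6809920) (BT.node (nat_lit 6809664) (BT.node (nat_lit 6809472) (BT.node (nat_lit 6809408) (BT.leaf (nat_lit 22273825)) (BT.leaf (nat_lit 36608285))) (BT.node (nat_lit 6809600) (BT.leaf (nat_lit 22274069)) (BT.leaf (nat_lit 22274325)))) (BT.node (nat_lit 6809792) (BT.node (nat_lit 6809728) (BT.leaf (nat_lit 22274565)) (BT.leaf (nat_lit 22274585))) (BT.node (nat_lit 6809856) (BT.leaf (nat_lit 22274589)) (BT.leaf (nat_lit 22274837))))) (BT.node (nat_lit 6810432) (BT.node (nat_lit 6810304) (BT.node (nat_lit 6810240) (BT.leaf (nat_lit 37285397)) (BT.leaf (nat_lit 36335645))) (BT.node (nat_lit 6810368) (BT.leaf (nat_lit 22275605)) (BT.leaf (nat_lit 22275845)))) (BT.node (nat_lit 6810624) (BT.node (nat_lit 6810496) (BT.leaf (nat_lit 22275865)) (BT.leaf (nat_lit 22275869))) (BT.node (nat_lit 6810688) (BT.leaf (nat_lit 22276889)) (BT.leaf (nat_lit 24099845)))))) (BT.node (nat_lit 6811392) (BT.node (nat_lit 6811072) (BT.node (nat_lit 6810880) (BT.node (nat_lit 6810816) (BT.leaf (nat_lit 22277137)) (BT.leaf (nat_lit 25121293))) (BT.node (nat_lit 6810944) (BT.leaf (nat_lit 22277397)) (BT.leaf (nat_lit 26706961)))) (BT.node (nat_lit 6811264) (BT.node (nat_lit 6811136) (BT.leaf (nat_lit 36205853)) (BT.leaf (nat_lit 22278165))) (BT.node (nat_lit 6811328) (BT.leaf (nat_lit 26410257)) (BT.leaf (nat_lit 22278417))))) (BT.node (nat_lit 6811648) (BT.node (nat_lit 6811520) (BT.node (nat_lit 6811456) (BT.leaf (nat_lit 22278673)) (BT.leaf (nat_lit 22368797))) (BT.node (nat_lit 6811584) (BT.leaf (nat_lit 22278929)) (BT.leaf (nat_lit 52088345)))) (BT.node (nat_lit 6811776) (BT.node (nat_lit 6811712) (BT.leaf (nat_lit 22852637)) (BT.leaf (nat_lit 52391201))) (BT.node (nat_lit 6811840) (BT.leaf (nat_lit 22852617)) (BT.leaf (nat_lit 31848469)))))))) (BT.node (nat_lit 6814720) (BT.node (nat_lit 6812992) (BT.node (nat_lit 6812416) (BT.node (nat_lit 6812160) (BT.node (nat_lit 6812032) (BT.node (nat_lit 6811968) (BT.leaf (nat_lit 22279709)) (BT.leaf (nat_lit 22279953))) (BT.node (nat_lit 6812096) (BT.leaf (nat_lit 36393221)) (BT.leaf (nat_lit 22280209)))) (BT.node (nat_lit 6812288) (BT.node (nat_lit 6812224) (BT.leaf (nat_lit 27092253)) (BT.leaf (nat_lit 22280469))) (BT.node (nat_lit 6812352) (BT.leaf (nat_lit 23130129)) (BT.leaf (nat_lit 29465093))))) (BT.node (nat_lit 6812672) (BT.node (nat_lit 6812544) (BT.node (nat_lit 6812480) (BT.leaf (nat_lit 27091993)) (BT.leaf (nat_lit 22280737))) (BT.node (nat_lit 6812608) (BT.leaf (nat_lit 27173125)) (BT.leaf (nat_lit 22281225)))) (BT.node (nat_lit 6812800) (BT.node (nat_lit 6812736) (BT.leaf (nat_lit 26580997)) (BT.leaf (nat_lit 22281493))) (BT.node (nat_lit 6812864) (BT.leaf (nat_lit 22281501)) (BT.leaf (nat_lit 22281745)))))) (BT.node (nat_lit 6813824) (BT.node (nat_lit 6813376) (BT.node (nat_lit 6813120) (BT.node (nat_lit 6813056) (BT.leaf (nat_lit 22282001)) (BT.leaf (nat_lit 37474325))) (BT.node (nat_lit 6813312) (BT.leaf (nat_lit 22282257)) (BT.leaf (nat_lit 22282513)))) (BT.node (nat_lit 6813568) (BT.node (nat_lit 6813504) (BT.leaf (nat_lit 22282529)) (BT.leaf (nat_lit 22282781))) (BT.node (nat_lit 6813696) (BT.leaf (nat_lit 37689873)) (BT.leaf (nat_lit 27107337))))) (BT.node (nat_lit 6814080) (BT.node (nat_lit 6813952) (BT.node (nat_lit 6813888) (BT.leaf (nat_lit 37690905)) (BT.leaf (nat_lit 37691413))) (BT.node (nat_lit 6814016) (BT.leaf (nat_lit 37690389)) (BT.leaf (nat_lit 37691665)))) (BT.node (nat_lit 6814400) (BT.node (nat_lit 6814144) (BT.leaf (nat_lit 26588421)) (BT.leaf (nat_lit 27095065))) (BT.node (nat_lit 6814592) (BT.leaf (nat_lit 22285073)) (BT.leaf (nat_lit 27113245))))))) (BT.node (nat_lit 6816832) (BT.node (nat_lit 6816000) (BT.node (nat_lit 6815424) (BT.node (nat_lit 6814976) (BT.node (nat_lit 6814848) (BT.leaf (nat_lit 22285849)) (BT.leaf (nat_lit 22286097))) (BT.node (nat_lit 6815104) (BT.leaf (nat_lit 22286617)) (BT.leaf (nat_lit 27037977)))) (BT.node (nat_lit 6815680) (BT.node (nat_lit 6815616) (BT.leaf (nat_lit 22287889)) (BT.leaf (nat_lit 27266821))) (BT.node (nat_lit 6815936) (BT.leaf (nat_lit 27262489)) (BT.leaf (nat_lit 22289681))))) (BT.node (nat_lit 6816320) (BT.node (nat_lit 6816192) (BT.node (nat_lit 6816064) (BT.leaf (nat_lit 22289941)) (BT.leaf (nat_lit 22290193))) (BT.node (nat_lit 6816256) (BT.leaf (nat_lit 27135261)) (BT.leaf (nat_lit 22290705)))) (BT.node (nat_lit 6816704) (BT.node (nat_lit 6816384) (BT.leaf (nat_lit 22290965)) (BT.leaf (nat_lit 22290969))) (BT.node (nat_lit 6816768) (BT.leaf (nat_lit 22291473)) (BT.leaf (nat_lit 22291729)))))) (BT.node (nat_lit 6817536) (BT.node (nat_lit 6817280) (BT.node (nat_lit 6817152) (BT.node (nat_lit 6817088) (BT.leaf (nat_lit 26886917)) (BT.leaf (nat_lit 22292501))) (BT.node (nat_lit 6817216) (BT.leaf (nat_lit 22292753)) (BT.leaf (nat_lit 22292757)))) (BT.node (nat_lit 6817408) (BT.node (nat_lit 6817344) (BT.leaf (nat_lit 23412245)) (BT.leaf (nat_lit 29861141))) (BT.node (nat_lit 6817472) (BT.leaf (nat_lit 35444745)) (BT.leaf (nat_lit 27494157))))) (BT.node (nat_lit 6817792) (BT.node (nat_lit 6817664) (BT.node (nat_lit 6817600) (BT.leaf (nat_lit 51739657)) (BT.leaf (nat_lit 26299921))) (BT.node (nat_lit 6817728) (BT.leaf (nat_lit 34192149)) (BT.leaf (nat_lit 28754961)))) (BT.node (nat_lit 6817920) (BT.node (nat_lit 6817856) (BT.leaf (nat_lit 23594273)) (BT.leaf (nat_lit 29155077))) (BT.node (nat_lit 6817984) (BT.leaf (nat_lit 22598405)) (BT.leaf (nat_lit 24236293))))))))) (BT.node (nat_lit 6822144) (BT.node (nat_lit 6820096) (BT.node (nat_lit 6819072) (BT.node (nat_lit 6818560) (BT.node (nat_lit 6818304) (BT.node (nat_lit 6818176) (BT.node (nat_lit 6818112) (BT.leaf (nat_lit 22921761)) (BT.leaf (nat_lit 22402849))) (BT.node (nat_lit 6818240) (BT.leaf (nat_lit 24828949)) (BT.leaf (nat_lit 24274949)))) (BT.node (nat_lit 6818432) (BT.node (nat_lit 6818368) (BT.leaf (nat_lit 24828445)) (BT.leaf (nat_lit 22969861))) (BT.node (nat_lit 6818496) (BT.leaf (nat_lit 27274013)) (BT.leaf (nat_lit 26733589))))) (BT.node (nat_lit 6818816) (BT.node (nat_lit 6818688) (BT.node (nat_lit 6818624) (BT.leaf (nat_lit 46320917)) (BT.leaf (nat_lit 46321185))) (BT.node (nat_lit 6818752) (BT.leaf (nat_lit 28856865)) (BT.leaf (nat_lit 35204881)))) (BT.node (nat_lit 6818944) (BT.node (nat_lit 6818880) (BT.leaf (nat_lit 47564805)) (BT.leaf (nat_lit 33553173))) (BT.node (nat_lit 6819008) (BT.leaf (nat_lit 24824589)) (BT.leaf (nat_lit 28898593)))))) (BT.node (nat_lit 6819584) (BT.node (nat_lit 6819328) (BT.node (nat_lit 6819200) (BT.node (nat_lit 6819136) (BT.leaf (nat_lit 52352533)) (BT.leaf (nat_lit 23634181))) (BT.node (nat_lit 6819264) (BT.leaf (nat_lit 22397201)) (BT.leaf (nat_lit 30012689)))) (BT.node (nat_lit 6819456) (BT.node (nat_lit 6819392) (BT.leaf (nat_lit 27956749)) (BT.leaf (nat_lit 27582737))) (BT.node (nat_lit 6819520) (BT.leaf (nat_lit 22518793)) (BT.leaf (nat_lit 23066897))))) (BT.node (nat_lit 6819840) (BT.node (nat_lit 6819712) (BT.node (nat_lit 6819648) (BT.leaf (nat_lit 33083141)) (BT.leaf (nat_lit 23068681))) (BT.node (nat_lit 6819776) (BT.leaf (nat_lit 36720161)) (BT.leaf (nat_lit 36720417)))) (BT.node (nat_lit 6819968) (BT.node (nat_lit 6819904) (BT.leaf (nat_lit 28516125)) (BT.leaf (nat_lit 33517601))) (BT.node (nat_lit 6820032) (BT.leaf (nat_lit 36720673)) (BT.leaf (nat_lit 27697689))))))) (BT.node (nat_lit 6821120) (BT.node (nat_lit 6820608) (BT.node (nat_lit 6820352) (BT.node (nat_lit 6820224) (BT.node (nat_lit 6820160) (BT.leaf (nat_lit 33039881)) (BT.leaf (nat_lit 31568401))) (BT.node (nat_lit 6820288) (BT.leaf (nat_lit 47086857)) (BT.leaf (nat_lit 34695201)))) (BT.node (nat_lit 6820480) (BT.node (nat_lit 6820416) (BT.leaf (nat_lit 28198161)) (BT.leaf (nat_lit 25716245))) (BT.node (nat_lit 6820544) (BT.leaf (nat_lit 28437273)) (BT.leaf (nat_lit 25716497))))) (BT.node (nat_lit 6820864) (BT.node (nat_lit 6820736) (BT.node (nat_lit 6820672) (BT.leaf (nat_lit 31191573)) (BT.leaf (nat_lit 27641881))) (BT.node (nat_lit 6820800) (BT.leaf (nat_lit 27283209)) (BT.leaf (nat_lit 27650581)))) (BT.node (nat_lit 6820992) (BT.node (nat_lit 6820928) (BT.leaf (nat_lit 27443717)) (BT.leaf (nat_lit 27515161))) (BT.node (nat_lit 6821056) (BT.leaf (nat_lit 46327317)) (BT.leaf (nat_lit 36917521)))))) (BT.node (nat_lit 6821632) (BT.node (nat_lit 6821376) (BT.node (nat_lit 6821248) (BT.node (nat_lit 6821184) (BT.leaf (nat_lit 27754773)) (BT.leaf (nat_lit 31762181))) (BT.node (nat_lit 6821312) (BT.leaf (nat_lit 28919061)) (BT.leaf (nat_lit 35375377)))) (BT.node (nat_lit 6821504) (BT.node (nat_lit 6821440) (BT.leaf (nat_lit 28101141)) (BT.leaf (nat_lit 27671053))) (BT.node (nat_lit 6821568) (BT.leaf (nat_lit 31084569)) (BT.leaf (nat_lit 33156621))))) (BT.node (nat_lit 6821888) (BT.node (nat_lit 6821760) (BT.node (nat_lit 6821696) (BT.leaf (nat_lit 31240713)) (BT.leaf (nat_lit 46327321))) (BT.node (nat_lit 6821824) (BT.leaf (nat_lit 52232721)) (BT.leaf (nat_lit 29243169)))) (BT.node (nat_lit 6822016) (BT.node (nat_lit 6821952) (BT.leaf (nat_lit 33453081)) (BT.leaf (nat_lit 27559953))) (BT.node (nat_lit 6822080) (BT.leaf (nat_lit 29706769)) (BT.leaf (nat_lit 24585489)))))))) (BT.node (nat_lit 6824192) (BT.node (nat_lit 6823168) (BT.node (nat_lit 6822656) (BT.node (nat_lit 6822400) (BT.node (nat_lit 6822272) (BT.node (nat_lit 6822208) (BT.leaf (nat_lit 28682013)) (BT.leaf (nat_lit 48601365))) (BT.node (nat_lit 6822336) (BT.leaf (nat_lit 35329541)) (BT.leaf (nat_lit 46330385)))) (BT.node (nat_lit 6822528) (BT.node (nat_lit 6822464) (BT.leaf (nat_lit 30978593)) (BT.leaf (nat_lit 35533085))) (BT.node (nat_lit 6822592) (BT.leaf (nat_lit 33295381)) (BT.leaf (nat_lit 50263317))))) (BT.node (nat_lit 6822912) (BT.node (nat_lit 6822784) (BT.node (nat_lit 6822720) (BT.leaf (nat_lit 36308497)) (BT.leaf (nat_lit 33418001))) (BT.node (nat_lit 6822848) (BT.leaf (nat_lit 50263569)) (BT.leaf (nat_lit 36522261)))) (BT.node (nat_lit 6823040) (BT.node (nat_lit 6822976) (BT.leaf (nat_lit 22330913)) (BT.leaf (nat_lit 28154125))) (BT.node (nat_lit 6823104) (BT.leaf (nat_lit 35563537)) (BT.leaf (nat_lit 23531281)))))) (BT.node (nat_lit 6823680) (BT.node (nat_lit 6823424) (BT.node (nat_lit 6823296) (BT.node (nat_lit 6823232) (BT.leaf (nat_lit 46335505)) (BT.leaf (nat_lit 37815329))) (BT.node (nat_lit 6823360) (BT.leaf (nat_lit 34460677)) (BT.leaf (nat_lit 24866333)))) (BT.node (nat_lit 6823552) (BT.node (nat_lit 6823488) (BT.leaf (nat_lit 24830213)) (BT.leaf (nat_lit 24830497))) (BT.node (nat_lit 6823616) (BT.leaf (nat_lit 31059485)) (BT.leaf (nat_lit 32277013))))) (BT.node (nat_lit 6823936) (BT.node (nat_lit 6823808) (BT.node (nat_lit 6823744) (BT.leaf (nat_lit 34870037)) (BT.leaf (nat_lit 30159621))) (BT.node (nat_lit 6823872) (BT.leaf (nat_lit 46336789)) (BT.leaf (nat_lit 46338065)))) (BT.node (nat_lit 6824064) (BT.node (nat_lit 6824000) (BT.leaf (nat_lit 27546885)) (BT.leaf (nat_lit 33646877))) (BT.node (nat_lit 6824128) (BT.leaf (nat_lit 34990341)) (BT.leaf (nat_lit 23239453))))))) (BT.node (nat_lit 6825216) (BT.node (nat_lit 6824704) (BT.node (nat_lit 6824448) (BT.node (nat_lit 6824320) (BT.node (nat_lit 6824256) (BT.leaf (nat_lit 23341845)) (BT.leaf (nat_lit 23241225))) (BT.node (nat_lit 6824384) (BT.leaf (nat_lit 50817805)) (BT.leaf (nat_lit 29781001)))) (BT.node (nat_lit 6824576) (BT.node (nat_lit 6824512) (BT.leaf (nat_lit 35038225)) (BT.leaf (nat_lit 24795677))) (BT.node (nat_lit 6824640) (BT.leaf (nat_lit 35550481)) (BT.leaf (nat_lit 22943505))))) (BT.node (nat_lit 6824960) (BT.node (nat_lit 6824832) (BT.node (nat_lit 6824768) (BT.leaf (nat_lit 25922565)) (BT.leaf (nat_lit 46916109))) (BT.node (nat_lit 6824896) (BT.leaf (nat_lit 51457049)) (BT.leaf (nat_lit 51457053)))) (BT.node (nat_lit 6825088) (BT.node (nat_lit 6825024) (BT.leaf (nat_lit 27410705)) (BT.leaf (nat_lit 22460945))) (BT.node (nat_lit 6825152) (BT.leaf (nat_lit 24043541)) (BT.leaf (nat_lit 24335641)))))) (BT.node (nat_lit 6825728) (BT.node (nat_lit 6825472) (BT.node (nat_lit 6825344) (BT.node (nat_lit 6825280) (BT.leaf (nat_lit 24335645)) (BT.leaf (nat_lit 23876613))) (BT.node (nat_lit 6825408) (BT.leaf (nat_lit 36044549)) (BT.leaf (nat_lit 23454493)))) (BT.node (nat_lit 6825600) (BT.node (nat_lit 6825536) (BT.leaf (nat_lit 33049101)) (BT.leaf (nat_lit 22885897))) (BT.node (nat_lit 6825664) (BT.leaf (nat_lit 23889689)) (BT.leaf (nat_lit 24799761))))) (BT.node (nat_lit 6825984) (BT.node (nat_lit 6825856) (BT.node (nat_lit 6825792) (BT.leaf (nat_lit 25838113)) (BT.leaf (nat_lit 46343173))) (BT.node (nat_lit 6825920) (BT.leaf (nat_lit 24629257)) (BT.leaf (nat_lit 29989905)))) (BT.node (nat_lit 6826112) (BT.node (nat_lit 6826048) (BT.leaf (nat_lit 46343441)) (BT.leaf (nat_lit 29196305))) (BT.node (nat_lit 6826176) (BT.leaf (nat_lit 22395929)) (BT.leaf (nat_lit 28608781)))))))))) (BT.node (nat_lit 6834432) (BT.node (nat_lit 6830336) (BT.node (nat_lit 6828288) (BT.node (nat_lit 6827264) (BT.node (nat_lit 6826752) (BT.node (nat_lit 6826496) (BT.node (nat_lit 6826368) (BT.node (nat_lit 6826304) (BT.leaf (nat_lit 23173129)) (BT.leaf (nat_lit 23497749))) (BT.node (nat_lit 6826432) (BT.leaf (nat_lit 22304273)) (BT.leaf (nat_lit 22303505)))) (BT.node (nat_lit 6826624) (BT.node (nat_lit 6826560) (BT.leaf (nat_lit 22303249)) (BT.leaf (nat_lit 25218841))) (BT.node (nat_lit 6826688) (BT.leaf (nat_lit 23418117)) (BT.leaf (nat_lit 46344981))))) (BT.node (nat_lit 6827008) (BT.node (nat_lit 6826880) (BT.node (nat_lit 6826816) (BT.leaf (nat_lit 31162641)) (BT.leaf (nat_lit 33556501))) (BT.node (nat_lit 6826944) (BT.leaf (nat_lit 35670557)) (BT.leaf (nat_lit 35855621)))) (BT.node (nat_lit 6827136) (BT.node (nat_lit 6827072) (BT.leaf (nat_lit 36313093)) (BT.leaf (nat_lit 28041505))) (BT.node (nat_lit 6827200) (BT.leaf (nat_lit 22361373)) (BT.leaf (nat_lit 32425745)))))) (BT.node (nat_lit 6827776) (BT.node (nat_lit 6827520) (BT.node (nat_lit 6827392) (BT.node (nat_lit 6827328) (BT.leaf (nat_lit 34327061)) (BT.leaf (nat_lit 40487689))) (BT.node (nat_lit 6827456) (BT.leaf (nat_lit 27935773)) (BT.leaf (nat_lit 26571553)))) (BT.node (nat_lit 6827648) (BT.node (nat_lit 6827584) (BT.leaf (nat_lit 47347469)) (BT.leaf (nat_lit 46346517))) (BT.node (nat_lit 6827712) (BT.leaf (nat_lit 46346769)) (BT.leaf (nat_lit 24080901))))) (BT.node (nat_lit 6828032) (BT.node (nat_lit 6827904) (BT.node (nat_lit 6827840) (BT.leaf (nat_lit 46347293)) (BT.leaf (nat_lit 24905745))) (BT.node (nat_lit 6827968) (BT.leaf (nat_lit 27828997)) (BT.leaf (nat_lit 22305813)))) (BT.node (nat_lit 6828160) (BT.node (nat_lit 6828096) (BT.leaf (nat_lit 46348049)) (BT.leaf (nat_lit 46348305))) (BT.node (nat_lit 6828224) (BT.leaf (nat_lit 46348825)) (BT.leaf (nat_lit 24399637))))))) (BT.node (nat_lit 6829312) (BT.node (nat_lit 6828800) (BT.node (nat_lit 6828544) (BT.node (nat_lit 6828416) (BT.node (nat_lit 6828352) (BT.leaf (nat_lit 24595733)) (BT.leaf (nat_lit 22323733))) (BT.node (nat_lit 6828480) (BT.leaf (nat_lit 26692121)) (BT.leaf (nat_lit 30290709)))) (BT.node (nat_lit 6828672) (BT.node (nat_lit 6828608) (BT.leaf (nat_lit 30290961)) (BT.leaf (nat_lit 24739349))) (BT.node (nat_lit 6828736) (BT.leaf (nat_lit 35881749)) (BT.leaf (nat_lit 22736393))))) (BT.node (nat_lit 6829056) (BT.node (nat_lit 6828928) (BT.node (nat_lit 6828864) (BT.leaf (nat_lit 23369733)) (BT.leaf (nat_lit 23841825))) (BT.node (nat_lit 6828992) (BT.leaf (nat_lit 25120029)) (BT.leaf (nat_lit 37687057)))) (BT.node (nat_lit 6829184) (BT.node (nat_lit 6829120) (BT.leaf (nat_lit 31642125)) (BT.leaf (nat_lit 23861777))) (BT.node (nat_lit 6829248) (BT.leaf (nat_lit 27747337)) (BT.leaf (nat_lit 30395681)))))) (BT.node (nat_lit 6829824) (BT.node (nat_lit 6829568) (BT.node (nat_lit 6829440) (BT.node (nat_lit 6829376) (BT.leaf (nat_lit 36029713)) (BT.leaf (nat_lit 27317273))) (BT.node (nat_lit 6829504) (BT.leaf (nat_lit 29090593)) (BT.leaf (nat_lit 23401237)))) (BT.node (nat_lit 6829696) (BT.node (nat_lit 6829632) (BT.leaf (nat_lit 24719629)) (BT.leaf (nat_lit 27976965))) (BT.node (nat_lit 6829760) (BT.leaf (nat_lit 25874437)) (BT.leaf (nat_lit 36459013))))) (BT.node (nat_lit 6830080) (BT.node (nat_lit 6829952) (BT.node (nat_lit 6829888) (BT.leaf (nat_lit 22844185)) (BT.leaf (nat_lit 22844189))) (BT.node (nat_lit 6830016) (BT.leaf (nat_lit 35705093)) (BT.leaf (nat_lit 30132501)))) (BT.node (nat_lit 6830208) (BT.node (nat_lit 6830144) (BT.leaf (nat_lit 24395029)) (BT.leaf (nat_lit 24395033))) (BT.node (nat_lit 6830272) (BT.leaf (nat_lit 24395037)) (BT.leaf (nat_lit 23486213)))))))) (BT.node (nat_lit 6832384) (BT.node (nat_lit 6831360) (BT.node (nat_lit 6830848) (BT.node (nat_lit 6830592) (BT.node (nat_lit 6830464) (BT.node (nat_lit 6830400) (BT.leaf (nat_lit 25416465)) (BT.leaf (nat_lit 23378717))) (BT.node (nat_lit 6830528) (BT.leaf (nat_lit 26387985)) (BT.leaf (nat_lit 30326049)))) (BT.node (nat_lit 6830720) (BT.node (nat_lit 6830656) (BT.leaf (nat_lit 22308125)) (BT.leaf (nat_lit 28948513))) (BT.node (nat_lit 6830784) (BT.leaf (nat_lit 22308121)) (BT.leaf (nat_lit 28395297))))) (BT.node (nat_lit 6831104) (BT.node (nat_lit 6830976) (BT.node (nat_lit 6830912) (BT.leaf (nat_lit 35452693)) (BT.leaf (nat_lit 28323857))) (BT.node (nat_lit 6831040) (BT.leaf (nat_lit 28414753)) (BT.leaf (nat_lit 29363217)))) (BT.node (nat_lit 6831232) (BT.node (nat_lit 6831168) (BT.leaf (nat_lit 46354197)) (BT.leaf (nat_lit 31728657))) (BT.node (nat_lit 6831296) (BT.leaf (nat_lit 34587169)) (BT.leaf (nat_lit 46354453)))))) (BT.node (nat_lit 6831872) (BT.node (nat_lit 6831616) (BT.node (nat_lit 6831488) (BT.node (nat_lit 6831424) (BT.leaf (nat_lit 24566545)) (BT.leaf (nat_lit 33167377))) (BT.node (nat_lit 6831552) (BT.leaf (nat_lit 27321369)) (BT.leaf (nat_lit 27321373)))) (BT.node (nat_lit 6831744) (BT.node (nat_lit 6831680) (BT.leaf (nat_lit 46356761)) (BT.leaf (nat_lit 28842525))) (BT.node (nat_lit 6831808) (BT.leaf (nat_lit 34083617)) (BT.leaf (nat_lit 37399569))))) (BT.node (nat_lit 6832128) (BT.node (nat_lit 6832000) (BT.node (nat_lit 6831936) (BT.leaf (nat_lit 24293657)) (BT.leaf (nat_lit 46357781))) (BT.node (nat_lit 6832064) (BT.leaf (nat_lit 31699469)) (BT.leaf (nat_lit 24171537)))) (BT.node (nat_lit 6832256) (BT.node (nat_lit 6832192) (BT.leaf (nat_lit 34701585)) (BT.leaf (nat_lit 27328537))) (BT.node (nat_lit 6832320) (BT.leaf (nat_lit 32442377)) (BT.leaf (nat_lit 32754193))))))) (BT.node (nat_lit 6833408) (BT.node (nat_lit 6832896) (BT.node (nat_lit 6832640) (BT.node (nat_lit 6832512) (BT.node (nat_lit 6832448) (BT.leaf (nat_lit 23223829)) (BT.leaf (nat_lit 36169745))) (BT.node (nat_lit 6832576) (BT.leaf (nat_lit 23835909)) (BT.leaf (nat_lit 23305993)))) (BT.node (nat_lit 6832768) (BT.node (nat_lit 6832704) (BT.leaf (nat_lit 27870989)) (BT.leaf (nat_lit 30508561))) (BT.node (nat_lit 6832832) (BT.leaf (nat_lit 29901581)) (BT.leaf (nat_lit 28304161))))) (BT.node (nat_lit 6833152) (BT.node (nat_lit 6833024) (BT.node (nat_lit 6832960) (BT.leaf (nat_lit 31115269)) (BT.leaf (nat_lit 29545493))) (BT.node (nat_lit 6833088) (BT.leaf (nat_lit 35937817)) (BT.leaf (nat_lit 29804549)))) (BT.node (nat_lit 6833280) (BT.node (nat_lit 6833216) (BT.leaf (nat_lit 25905177)) (BT.leaf (nat_lit 23998225))) (BT.node (nat_lit 6833344) (BT.leaf (nat_lit 33618709)) (BT.leaf (nat_lit 22314769)))))) (BT.node (nat_lit 6833920) (BT.node (nat_lit 6833664) (BT.node (nat_lit 6833536) (BT.node (nat_lit 6833472) (BT.leaf (nat_lit 30272801)) (BT.leaf (nat_lit 26441733))) (BT.node (nat_lit 6833600) (BT.leaf (nat_lit 23843077)) (BT.leaf (nat_lit 25617953)))) (BT.node (nat_lit 6833792) (BT.node (nat_lit 6833728) (BT.leaf (nat_lit 23885345)) (BT.leaf (nat_lit 27992089))) (BT.node (nat_lit 6833856) (BT.leaf (nat_lit 46361877)) (BT.leaf (nat_lit 30928405))))) (BT.node (nat_lit 6834176) (BT.node (nat_lit 6834048) (BT.node (nat_lit 6833984) (BT.leaf (nat_lit 24455453)) (BT.leaf (nat_lit 33198873))) (BT.node (nat_lit 6834112) (BT.leaf (nat_lit 27820053)) (BT.leaf (nat_lit 27832841)))) (BT.node (nat_lit 6834304) (BT.node (nat_lit 6834240) (BT.leaf (nat_lit 27823885)) (BT.leaf (nat_lit 23669273))) (BT.node (nat_lit 6834368) (BT.leaf (nat_lit 27819805)) (BT.leaf (nat_lit 52088341))))))))) (BT.node (nat_lit 6838528) (BT.node (nat_lit 6836480) (BT.node (nat_lit 6835456) (BT.node (nat_lit 6834944) (BT.node (nat_lit 6834688) (BT.node (nat_lit 6834560) (BT.node (nat_lit 6834496) (BT.leaf (nat_lit 22404113)) (BT.leaf (nat_lit 22404129))) (BT.node (nat_lit 6834624) (BT.leaf (nat_lit 51243281)) (BT.leaf (nat_lit 33147653)))) (BT.node (nat_lit 6834816) (BT.node (nat_lit 6834752) (BT.leaf (nat_lit 30088965)) (BT.leaf (nat_lit 24758045))) (BT.node (nat_lit 6834880) (BT.leaf (nat_lit 27957269)) (BT.leaf (nat_lit 39298837))))) (BT.node (nat_lit 6835200) (BT.node (nat_lit 6835072) (BT.node (nat_lit 6835008) (BT.leaf (nat_lit 27783449)) (BT.leaf (nat_lit 27783453))) (BT.node (nat_lit 6835136) (BT.leaf (nat_lit 27573277)) (BT.leaf (nat_lit 22317581)))) (BT.node (nat_lit 6835328) (BT.node (nat_lit 6835264) (BT.leaf (nat_lit 34614033)) (BT.leaf (nat_lit 24092689))) (BT.node (nat_lit 6835392) (BT.leaf (nat_lit 29226001)) (BT.leaf (nat_lit 22317345)))))) (BT.node (nat_lit 6835968) (BT.node (nat_lit 6835712) (BT.node (nat_lit 6835584) (BT.node (nat_lit 6835520) (BT.leaf (nat_lit 49842693)) (BT.leaf (nat_lit 49842705))) (BT.node (nat_lit 6835648) (BT.leaf (nat_lit 28248085)) (BT.leaf (nat_lit 31095057)))) (BT.node (nat_lit 6835840) (BT.node (nat_lit 6835776) (BT.leaf (nat_lit 47312917)) (BT.leaf (nat_lit 31323153))) (BT.node (nat_lit 6835904) (BT.leaf (nat_lit 31323169)) (BT.leaf (nat_lit 29922065))))) (BT.node (nat_lit 6836224) (BT.node (nat_lit 6836096) (BT.node (nat_lit 6836032) (BT.leaf (nat_lit 24418841)) (BT.leaf (nat_lit 24418845))) (BT.node (nat_lit 6836160) (BT.leaf (nat_lit 33948433)) (BT.leaf (nat_lit 23289617)))) (BT.node (nat_lit 6836352) (BT.node (nat_lit 6836288) (BT.leaf (nat_lit 27528477)) (BT.leaf (nat_lit 25237781))) (BT.node (nat_lit 6836416) (BT.leaf (nat_lit 29082145)) (BT.leaf (nat_lit 24538645))))))) (BT.node (nat_lit 6837504) (BT.node (nat_lit 6836992) (BT.node (nat_lit 6836736) (BT.node (nat_lit 6836608) (BT.node (nat_lit 6836544) (BT.leaf (nat_lit 24489997)) (BT.leaf (nat_lit 24490009))) (BT.node (nat_lit 6836672) (BT.leaf (nat_lit 24490013)) (BT.leaf (nat_lit 33632785)))) (BT.node (nat_lit 6836864) (BT.node (nat_lit 6836800) (BT.leaf (nat_lit 24721433)) (BT.leaf (nat_lit 27505421))) (BT.node (nat_lit 6836928) (BT.leaf (nat_lit 29866005)) (BT.leaf (nat_lit 33105941))))) (BT.node (nat_lit 6837248) (BT.node (nat_lit 6837120) (BT.node (nat_lit 6837056) (BT.leaf (nat_lit 27347721)) (BT.leaf (nat_lit 29361421))) (BT.node (nat_lit 6837184) (BT.leaf (nat_lit 24116741)) (BT.leaf (nat_lit 27517189)))) (BT.node (nat_lit 6837376) (BT.node (nat_lit 6837312) (BT.leaf (nat_lit 30328849)) (BT.leaf (nat_lit 31196185))) (BT.node (nat_lit 6837440) (BT.leaf (nat_lit 23649041)) (BT.leaf (nat_lit 23649045)))))) (BT.node (nat_lit 6838016) (BT.node (nat_lit 6837760) (BT.node (nat_lit 6837632) (BT.node (nat_lit 6837568) (BT.leaf (nat_lit 35640333)) (BT.leaf (nat_lit 52063265))) (BT.node (nat_lit 6837696) (BT.leaf (nat_lit 46370337)) (BT.leaf (nat_lit 31168273)))) (BT.node (nat_lit 6837888) (BT.node (nat_lit 6837824) (BT.leaf (nat_lit 32352533)) (BT.leaf (nat_lit 26581013))) (BT.node (nat_lit 6837952) (BT.leaf (nat_lit 27351321)) (BT.leaf (nat_lit 22756113))))) (BT.node (nat_lit 6838272) (BT.node (nat_lit 6838144) (BT.node (nat_lit 6838080) (BT.leaf (nat_lit 22757133)) (BT.leaf (nat_lit 27377941))) (BT.node (nat_lit 6838208) (BT.leaf (nat_lit 46371089)) (BT.leaf (nat_lit 34394657)))) (BT.node (nat_lit 6838400) (BT.node (nat_lit 6838336) (BT.leaf (nat_lit 30886669)) (BT.leaf (nat_lit 28476697))) (BT.node (nat_lit 6838464) (BT.leaf (nat_lit 36424457)) (BT.leaf (nat_lit 34514197)))))))) (BT.node (nat_lit 6840576) (BT.node (nat_lit 6839552) (BT.node (nat_lit 6839040) (BT.node (nat_lit 6838784) (BT.node (nat_lit 6838656) (BT.node (nat_lit 6838592) (BT.leaf (nat_lit 36424473)) (BT.leaf (nat_lit 36424477))) (BT.node (nat_lit 6838720) (BT.leaf (nat_lit 34514457)) (BT.leaf (nat_lit 30751493)))) (BT.node (nat_lit 6838912) (BT.node (nat_lit 6838848) (BT.leaf (nat_lit 24113173)) (BT.leaf (nat_lit 26466069))) (BT.node (nat_lit 6838976) (BT.leaf (nat_lit 28915989)) (BT.leaf (nat_lit 34070037))))) (BT.node (nat_lit 6839296) (BT.node (nat_lit 6839168) (BT.node (nat_lit 6839104) (BT.leaf (nat_lit 25100829)) (BT.leaf (nat_lit 23893005))) (BT.node (nat_lit 6839232) (BT.leaf (nat_lit 34198037)) (BT.leaf (nat_lit 30306081)))) (BT.node (nat_lit 6839424) (BT.node (nat_lit 6839360) (BT.leaf (nat_lit 22706705)) (BT.leaf (nat_lit 22706721))) (BT.node (nat_lit 6839488) (BT.leaf (nat_lit 22942481)) (BT.leaf (nat_lit 23895321)))))) (BT.node (nat_lit 6840064) (BT.node (nat_lit 6839808) (BT.node (nat_lit 6839680) (BT.node (nat_lit 6839616) (BT.leaf (nat_lit 24555553)) (BT.leaf (nat_lit 32202257))) (BT.node (nat_lit 6839744) (BT.leaf (nat_lit 23092769)) (BT.leaf (nat_lit 22668321)))) (BT.node (nat_lit 6839936) (BT.node (nat_lit 6839872) (BT.leaf (nat_lit 25081889)) (BT.leaf (nat_lit 25480737))) (BT.node (nat_lit 6840000) (BT.leaf (nat_lit 48156693)) (BT.leaf (nat_lit 34978333))))) (BT.node (nat_lit 6840320) (BT.node (nat_lit 6840192) (BT.node (nat_lit 6840128) (BT.leaf (nat_lit 33689873)) (BT.leaf (nat_lit 22854673))) (BT.node (nat_lit 6840256) (BT.leaf (nat_lit 28323609)) (BT.leaf (nat_lit 30442005)))) (BT.node (nat_lit 6840448) (BT.node (nat_lit 6840384) (BT.leaf (nat_lit 27575325)) (BT.leaf (nat_lit 31942685))) (BT.node (nat_lit 6840512) (BT.leaf (nat_lit 22321685)) (BT.leaf (nat_lit 22735133))))))) (BT.node (nat_lit 6841600) (BT.node (nat_lit 6841088) (BT.node (nat_lit 6840832) (BT.node (nat_lit 6840704) (BT.node (nat_lit 6840640) (BT.leaf (nat_lit 23562257)) (BT.leaf (nat_lit 23562261))) (BT.node (nat_lit 6840768) (BT.leaf (nat_lit 31118085)) (BT.leaf (nat_lit 27502861)))) (BT.node (nat_lit 6840960) (BT.node (nat_lit 6840896) (BT.leaf (nat_lit 52069137)) (BT.leaf (nat_lit 27632405))) (BT.node (nat_lit 6841024) (BT.leaf (nat_lit 33139217)) (BT.leaf (nat_lit 25917457))))) (BT.node (nat_lit 6841344) (BT.node (nat_lit 6841216) (BT.node (nat_lit 6841152) (BT.leaf (nat_lit 22322205)) (BT.leaf (nat_lit 22322201))) (BT.node (nat_lit 6841280) (BT.leaf (nat_lit 46375969)) (BT.leaf (nat_lit 34975249)))) (BT.node (nat_lit 6841472) (BT.node (nat_lit 6841408) (BT.leaf (nat_lit 32706593)) (BT.leaf (nat_lit 22791701))) (BT.node (nat_lit 6841536) (BT.leaf (nat_lit 27366173)) (BT.leaf (nat_lit 34659601)))))) (BT.node (nat_lit 6842112) (BT.node (nat_lit 6841856) (BT.node (nat_lit 6841728) (BT.node (nat_lit 6841664) (BT.leaf (nat_lit 31107849)) (BT.leaf (nat_lit 32189197))) (BT.node (nat_lit 6841792) (BT.leaf (nat_lit 27642385)) (BT.leaf (nat_lit 33299209)))) (BT.node (nat_lit 6841984) (BT.node (nat_lit 6841920) (BT.leaf (nat_lit 30369565)) (BT.leaf (nat_lit 33320469))) (BT.node (nat_lit 6842048) (BT.leaf (nat_lit 23900433)) (BT.leaf (nat_lit 28204313))))) (BT.node (nat_lit 6842368) (BT.node (nat_lit 6842240) (BT.node (nat_lit 6842176) (BT.leaf (nat_lit 33259537)) (BT.leaf (nat_lit 35051793))) (BT.node (nat_lit 6842304) (BT.leaf (nat_lit 27701781)) (BT.leaf (nat_lit 50106133)))) (BT.node (nat_lit 6842496) (BT.node (nat_lit 6842432) (BT.leaf (nat_lit 24098061)) (BT.leaf (nat_lit 25045525))) (BT.node (nat_lit 6842560) (BT.leaf (nat_lit 27641873)) (BT.leaf (nat_lit 27369741))))))))))) (BT.node (nat_lit 6859008) (BT.node (nat_lit 6850816) (BT.node (nat_lit 6846720) (BT.node (nat_lit 6844672) (BT.node (nat_lit 6843648) (BT.node (nat_lit 6843136) (BT.node (nat_lit 6842880) (BT.node (nat_lit 6842752) (BT.node (nat_lit 6842688) (BT.leaf (nat_lit 23228697)) (BT.leaf (nat_lit 34431765))) (BT.node (nat_lit 6842816) (BT.leaf (nat_lit 27323409)) (BT.leaf (nat_lit 33443089)))) (BT.node (nat_lit 6843008) (BT.node (nat_lit 6842944) (BT.leaf (nat_lit 29443349)) (BT.leaf (nat_lit 46595601))) (BT.node (nat_lit 6843072) (BT.leaf (nat_lit 46595617)) (BT.leaf (nat_lit 28198173))))) (BT.node (nat_lit 6843392) (BT.node (nat_lit 6843264) (BT.node (nat_lit 6843200) (BT.leaf (nat_lit 25596189)) (BT.leaf (nat_lit 33305869))) (BT.node (nat_lit 6843328) (BT.leaf (nat_lit 47698449)) (BT.leaf (nat_lit 28436257)))) (BT.node (nat_lit 6843520) (BT.node (nat_lit 6843456) (BT.leaf (nat_lit 24887573)) (BT.leaf (nat_lit 22562325))) (BT.node (nat_lit 6843584) (BT.leaf (nat_lit 32499489)) (BT.leaf (nat_lit 22562825)))))) (BT.node (nat_lit 6844160) (BT.node (nat_lit 6843904) (BT.node (nat_lit 6843776) (BT.node (nat_lit 6843712) (BT.leaf (nat_lit 31736329)) (BT.leaf (nat_lit 29350689))) (BT.node (nat_lit 6843840) (BT.leaf (nat_lit 28681505)) (BT.leaf (nat_lit 22565661)))) (BT.node (nat_lit 6844032) (BT.node (nat_lit 6843968) (BT.leaf (nat_lit 46378517)) (BT.leaf (nat_lit 32044045))) (BT.node (nat_lit 6844096) (BT.leaf (nat_lit 36732173)) (BT.leaf (nat_lit 46379285))))) (BT.node (nat_lit 6844416) (BT.node (nat_lit 6844288) (BT.node (nat_lit 6844224) (BT.leaf (nat_lit 37875973)) (BT.leaf (nat_lit 30163217))) (BT.node (nat_lit 6844352) (BT.leaf (nat_lit 46379541)) (BT.leaf (nat_lit 28454421)))) (BT.node (nat_lit 6844544) (BT.node (nat_lit 6844480) (BT.leaf (nat_lit 27352337)) (BT.leaf (nat_lit 33678085))) (BT.node (nat_lit 6844608) (BT.leaf (nat_lit 25615377)) (BT.leaf (nat_lit 22598153))))))) (BT.node (nat_lit 6845696) (BT.node (nat_lit 6845184) (BT.node (nat_lit 6844928) (BT.node (nat_lit 6844800) (BT.node (nat_lit 6844736) (BT.leaf (nat_lit 30781717)) (BT.leaf (nat_lit 29804065))) (BT.node (nat_lit 6844864) (BT.leaf (nat_lit 25754897)) (BT.leaf (nat_lit 24364297)))) (BT.node (nat_lit 6845056) (BT.node (nat_lit 6844992) (BT.leaf (nat_lit 48175893)) (BT.leaf (nat_lit 34442261))) (BT.node (nat_lit 6845120) (BT.leaf (nat_lit 27379981)) (BT.leaf (nat_lit 25853473))))) (BT.node (nat_lit 6845440) (BT.node (nat_lit 6845312) (BT.node (nat_lit 6845248) (BT.leaf (nat_lit 34086677)) (BT.leaf (nat_lit 27525657))) (BT.node (nat_lit 6845376) (BT.leaf (nat_lit 24171281)) (BT.leaf (nat_lit 33712413)))) (BT.node (nat_lit 6845568) (BT.node (nat_lit 6845504) (BT.leaf (nat_lit 30009877)) (BT.leaf (nat_lit 29198869))) (BT.node (nat_lit 6845632) (BT.leaf (nat_lit 30661649)) (BT.leaf (nat_lit 24408085)))))) (BT.node (nat_lit 6846208) (BT.node (nat_lit 6845952) (BT.node (nat_lit 6845824) (BT.node (nat_lit 6845760) (BT.leaf (nat_lit 34783761)) (BT.leaf (nat_lit 23821597))) (BT.node (nat_lit 6845888) (BT.leaf (nat_lit 22368529)) (BT.leaf (nat_lit 27525145)))) (BT.node (nat_lit 6846080) (BT.node (nat_lit 6846016) (BT.leaf (nat_lit 34127629)) (BT.leaf (nat_lit 48060961))) (BT.node (nat_lit 6846144) (BT.leaf (nat_lit 34540305)) (BT.leaf (nat_lit 34540321))))) (BT.node (nat_lit 6846464) (BT.node (nat_lit 6846336) (BT.node (nat_lit 6846272) (BT.leaf (nat_lit 23858193)) (BT.leaf (nat_lit 23858209))) (BT.node (nat_lit 6846400) (BT.leaf (nat_lit 47338245)) (BT.leaf (nat_lit 23494685)))) (BT.node (nat_lit 6846592) (BT.node (nat_lit 6846528) (BT.leaf (nat_lit 49517589)) (BT.leaf (nat_lit 23858197))) (BT.node (nat_lit 6846656) (BT.leaf (nat_lit 34974493)) (BT.leaf (nat_lit 22330129)))))))) (BT.node (nat_lit 6848768) (BT.node (nat_lit 6847744) (BT.node (nat_lit 6847232) (BT.node (nat_lit 6846976) (BT.node (nat_lit 6846848) (BT.node (nat_lit 6846784) (BT.leaf (nat_lit 23972369)) (BT.leaf (nat_lit 24329493))) (BT.node (nat_lit 6846912) (BT.leaf (nat_lit 24142873)) (BT.leaf (nat_lit 27469061)))) (BT.node (nat_lit 6847104) (BT.node (nat_lit 6847040) (BT.leaf (nat_lit 31149073)) (BT.leaf (nat_lit 31184657))) (BT.node (nat_lit 6847168) (BT.leaf (nat_lit 36233237)) (BT.leaf (nat_lit 25329941))))) (BT.node (nat_lit 6847488) (BT.node (nat_lit 6847360) (BT.node (nat_lit 6847296) (BT.leaf (nat_lit 34423829)) (BT.leaf (nat_lit 22639633))) (BT.node (nat_lit 6847424) (BT.leaf (nat_lit 22639649)) (BT.leaf (nat_lit 30122765)))) (BT.node (nat_lit 6847616) (BT.node (nat_lit 6847552) (BT.leaf (nat_lit 46387737)) (BT.leaf (nat_lit 24542737))) (BT.node (nat_lit 6847680) (BT.leaf (nat_lit 24542753)) (BT.leaf (nat_lit 35090193)))))) (BT.node (nat_lit 6848256) (BT.node (nat_lit 6848000) (BT.node (nat_lit 6847872) (BT.node (nat_lit 6847808) (BT.leaf (nat_lit 24542469)) (BT.leaf (nat_lit 24542489))) (BT.node (nat_lit 6847936) (BT.leaf (nat_lit 24614417)) (BT.leaf (nat_lit 24614433)))) (BT.node (nat_lit 6848128) (BT.node (nat_lit 6848064) (BT.leaf (nat_lit 30798877)) (BT.leaf (nat_lit 23566097))) (BT.node (nat_lit 6848192) (BT.leaf (nat_lit 27675925)) (BT.leaf (nat_lit 31360273))))) (BT.node (nat_lit 6848512) (BT.node (nat_lit 6848384) (BT.node (nat_lit 6848320) (BT.leaf (nat_lit 31360277)) (BT.leaf (nat_lit 24450337))) (BT.node (nat_lit 6848448) (BT.leaf (nat_lit 28134429)) (BT.leaf (nat_lit 25389845)))) (BT.node (nat_lit 6848640) (BT.node (nat_lit 6848576) (BT.leaf (nat_lit 22388749)) (BT.leaf (nat_lit 22388761))) (BT.node (nat_lit 6848704) (BT.leaf (nat_lit 22388765)) (BT.leaf (nat_lit 29820437))))))) (BT.node (nat_lit 6849792) (BT.node (nat_lit 6849280) (BT.node (nat_lit 6849024) (BT.node (nat_lit 6848896) (BT.node (nat_lit 6848832) (BT.leaf (nat_lit 29222937)) (BT.leaf (nat_lit 23259669))) (BT.node (nat_lit 6848960) (BT.leaf (nat_lit 32608789)) (BT.leaf (nat_lit 24660745)))) (BT.node (nat_lit 6849152) (BT.node (nat_lit 6849088) (BT.leaf (nat_lit 50543637)) (BT.leaf (nat_lit 24660761))) (BT.node (nat_lit 6849216) (BT.leaf (nat_lit 27509009)) (BT.leaf (nat_lit 27509013))))) (BT.node (nat_lit 6849536) (BT.node (nat_lit 6849408) (BT.node (nat_lit 6849344) (BT.leaf (nat_lit 34706713)) (BT.leaf (nat_lit 33362193))) (BT.node (nat_lit 6849472) (BT.leaf (nat_lit 29002253)) (BT.leaf (nat_lit 51833105)))) (BT.node (nat_lit 6849664) (BT.node (nat_lit 6849600) (BT.leaf (nat_lit 27832581)) (BT.leaf (nat_lit 27198725))) (BT.node (nat_lit 6849728) (BT.leaf (nat_lit 27198737)) (BT.leaf (nat_lit 33793309)))))) (BT.node (nat_lit 6850304) (BT.node (nat_lit 6850048) (BT.node (nat_lit 6849920) (BT.node (nat_lit 6849856) (BT.leaf (nat_lit 33090833)) (BT.leaf (nat_lit 28563729))) (BT.node (nat_lit 6849984) (BT.leaf (nat_lit 22332445)) (BT.leaf (nat_lit 22332441)))) (BT.node (nat_lit 6850176) (BT.node (nat_lit 6850112) (BT.leaf (nat_lit 22789909)) (BT.leaf (nat_lit 23294725))) (BT.node (nat_lit 6850240) (BT.leaf (nat_lit 36302865)) (BT.leaf (nat_lit 31489557))))) (BT.node (nat_lit 6850560) (BT.node (nat_lit 6850432) (BT.node (nat_lit 6850368) (BT.leaf (nat_lit 31489565)) (BT.leaf (nat_lit 31488537))) (BT.node (nat_lit 6850496) (BT.leaf (nat_lit 29750301)) (BT.leaf (nat_lit 27587597)))) (BT.node (nat_lit 6850688) (BT.node (nat_lit 6850624) (BT.leaf (nat_lit 28758025)) (BT.leaf (nat_lit 28941577))) (BT.node (nat_lit 6850752) (BT.leaf (nat_lit 33102341)) (BT.leaf (nat_lit 33102597))))))))) (BT.node (nat_lit 6854912) (BT.node (nat_lit 6852864) (BT.node (nat_lit 6851840) (BT.node (nat_lit 6851328) (BT.node (nat_lit 6851072) (BT.node (nat_lit 6850944) (BT.node (nat_lit 6850880) (BT.leaf (nat_lit 23690777)) (BT.leaf (nat_lit 23690781))) (BT.node (nat_lit 6851008) (BT.leaf (nat_lit 46392085)) (BT.leaf (nat_lit 30800401)))) (BT.node (nat_lit 6851200) (BT.node (nat_lit 6851136) (BT.leaf (nat_lit 27403785)) (BT.leaf (nat_lit 27952657))) (BT.node (nat_lit 6851264) (BT.leaf (nat_lit 27952673)) (BT.leaf (nat_lit 34682657))))) (BT.node (nat_lit 6851584) (BT.node (nat_lit 6851456) (BT.node (nat_lit 6851392) (BT.leaf (nat_lit 23348497)) (BT.leaf (nat_lit 50530849))) (BT.node (nat_lit 6851520) (BT.leaf (nat_lit 34855189)) (BT.leaf (nat_lit 35835153)))) (BT.node (nat_lit 6851712) (BT.node (nat_lit 6851648) (BT.leaf (nat_lit 26027289)) (BT.leaf (nat_lit 33379097))) (BT.node (nat_lit 6851776) (BT.leaf (nat_lit 23277089)) (BT.leaf (nat_lit 33380889)))))) (BT.node (nat_lit 6852352) (BT.node (nat_lit 6852096) (BT.node (nat_lit 6851968) (BT.node (nat_lit 6851904) (BT.leaf (nat_lit 34635537)) (BT.leaf (nat_lit 22661913))) (BT.node (nat_lit 6852032) (BT.leaf (nat_lit 34635281)) (BT.leaf (nat_lit 27408413)))) (BT.node (nat_lit 6852224) (BT.node (nat_lit 6852160) (BT.leaf (nat_lit 28039429)) (BT.leaf (nat_lit 29080853))) (BT.node (nat_lit 6852288) (BT.leaf (nat_lit 50583053)) (BT.leaf (nat_lit 46366229))))) (BT.node (nat_lit 6852608) (BT.node (nat_lit 6852480) (BT.node (nat_lit 6852416) (BT.leaf (nat_lit 46394641)) (BT.leaf (nat_lit 23261209))) (BT.node (nat_lit 6852544) (BT.leaf (nat_lit 30063137)) (BT.leaf (nat_lit 48471841)))) (BT.node (nat_lit 6852736) (BT.node (nat_lit 6852672) (BT.leaf (nat_lit 23439129)) (BT.leaf (nat_lit 24377609))) (BT.node (nat_lit 6852800) (BT.leaf (nat_lit 22929689)) (BT.leaf (nat_lit 23304977))))))) (BT.node (nat_lit 6853888) (BT.node (nat_lit 6853376) (BT.node (nat_lit 6853120) (BT.node (nat_lit 6852992) (BT.node (nat_lit 6852928) (BT.leaf (nat_lit 27330321)) (BT.leaf (nat_lit 22483233))) (BT.node (nat_lit 6853056) (BT.leaf (nat_lit 35257105)) (BT.leaf (nat_lit 30849285)))) (BT.node (nat_lit 6853248) (BT.node (nat_lit 6853184) (BT.leaf (nat_lit 24477721)) (BT.leaf (nat_lit 33366541))) (BT.node (nat_lit 6853312) (BT.leaf (nat_lit 24163077)) (BT.leaf (nat_lit 28326921))))) (BT.node (nat_lit 6853632) (BT.node (nat_lit 6853504) (BT.node (nat_lit 6853440) (BT.leaf (nat_lit 24334113)) (BT.leaf (nat_lit 25554709))) (BT.node (nat_lit 6853568) (BT.leaf (nat_lit 25554713)) (BT.leaf (nat_lit 25554717)))) (BT.node (nat_lit 6853760) (BT.node (nat_lit 6853696) (BT.leaf (nat_lit 25554721)) (BT.leaf (nat_lit 29932053))) (BT.node (nat_lit 6853824) (BT.leaf (nat_lit 27414797)) (BT.leaf (nat_lit 34522893)))))) (BT.node (nat_lit 6854400) (BT.node (nat_lit 6854144) (BT.node (nat_lit 6854016) (BT.node (nat_lit 6853952) (BT.leaf (nat_lit 28083473)) (BT.leaf (nat_lit 46397197))) (BT.node (nat_lit 6854080) (BT.leaf (nat_lit 23709981)) (BT.leaf (nat_lit 22627101)))) (BT.node (nat_lit 6854272) (BT.node (nat_lit 6854208) (BT.leaf (nat_lit 28266253)) (BT.leaf (nat_lit 28269325))) (BT.node (nat_lit 6854336) (BT.leaf (nat_lit 23646737)) (BT.leaf (nat_lit 23057421))))) (BT.node (nat_lit 6854656) (BT.node (nat_lit 6854528) (BT.node (nat_lit 6854464) (BT.leaf (nat_lit 27297553)) (BT.leaf (nat_lit 22625805))) (BT.node (nat_lit 6854592) (BT.leaf (nat_lit 25605389)) (BT.leaf (nat_lit 33377053)))) (BT.node (nat_lit 6854784) (BT.node (nat_lit 6854720) (BT.leaf (nat_lit 27306009)) (BT.leaf (nat_lit 24958745))) (BT.node (nat_lit 6854848) (BT.leaf (nat_lit 22337041)) (BT.leaf (nat_lit 27525641)))))))) (BT.node (nat_lit 6856960) (BT.node (nat_lit 6855936) (BT.node (nat_lit 6855424) (BT.node (nat_lit 6855168) (BT.node (nat_lit 6855040) (BT.node (nat_lit 6854976) (BT.leaf (nat_lit 23332117)) (BT.leaf (nat_lit 51954437))) (BT.node (nat_lit 6855104) (BT.leaf (nat_lit 31719713)) (BT.leaf (nat_lit 28887585)))) (BT.node (nat_lit 6855296) (BT.node (nat_lit 6855232) (BT.leaf (nat_lit 37939477)) (BT.leaf (nat_lit 30745109))) (BT.node (nat_lit 6855360) (BT.leaf (nat_lit 23446281)) (BT.leaf (nat_lit 23446285))))) (BT.node (nat_lit 6855680) (BT.node (nat_lit 6855552) (BT.node (nat_lit 6855488) (BT.leaf (nat_lit 23446297)) (BT.leaf (nat_lit 23446301))) (BT.node (nat_lit 6855616) (BT.leaf (nat_lit 23870985)) (BT.leaf (nat_lit 29568537)))) (BT.node (nat_lit 6855808) (BT.node (nat_lit 6855744) (BT.leaf (nat_lit 33362953)) (BT.leaf (nat_lit 46401817))) (BT.node (nat_lit 6855872) (BT.leaf (nat_lit 46402321)) (BT.leaf (nat_lit 30633233)))))) (BT.node (nat_lit 6856448) (BT.node (nat_lit 6856192) (BT.node (nat_lit 6856064) (BT.node (nat_lit 6856000) (BT.leaf (nat_lit 46402837)) (BT.leaf (nat_lit 23664917))) (BT.node (nat_lit 6856128) (BT.leaf (nat_lit 27424525)) (BT.leaf (nat_lit 25022997)))) (BT.node (nat_lit 6856320) (BT.node (nat_lit 6856256) (BT.leaf (nat_lit 33963789)) (BT.leaf (nat_lit 32510725))) (BT.node (nat_lit 6856384) (BT.leaf (nat_lit 31613469)) (BT.leaf (nat_lit 30055685))))) (BT.node (nat_lit 6856704) (BT.node (nat_lit 6856576) (BT.node (nat_lit 6856512) (BT.leaf (nat_lit 24048413)) (BT.leaf (nat_lit 27372561))) (BT.node (nat_lit 6856640) (BT.leaf (nat_lit 24160773)) (BT.leaf (nat_lit 23627285)))) (BT.node (nat_lit 6856832) (BT.node (nat_lit 6856768) (BT.leaf (nat_lit 31613453)) (BT.leaf (nat_lit 46405405))) (BT.node (nat_lit 6856896) (BT.leaf (nat_lit 22340629)) (BT.leaf (nat_lit 28080141))))))) (BT.node (nat_lit 6857984) (BT.node (nat_lit 6857472) (BT.node (nat_lit 6857216) (BT.node (nat_lit 6857088) (BT.node (nat_lit 6857024) (BT.leaf (nat_lit 47891489)) (BT.leaf (nat_lit 24283165))) (BT.node (nat_lit 6857152) (BT.leaf (nat_lit 24283145)) (BT.leaf (nat_lit 51500037)))) (BT.node (nat_lit 6857344) (BT.node (nat_lit 6857280) (BT.leaf (nat_lit 30005281)) (BT.leaf (nat_lit 22341137))) (BT.node (nat_lit 6857408) (BT.leaf (nat_lit 34521861)) (BT.leaf (nat_lit 28149273))))) (BT.node (nat_lit 6857728) (BT.node (nat_lit 6857600) (BT.node (nat_lit 6857536) (BT.leaf (nat_lit 22454033)) (BT.leaf (nat_lit 33081881))) (BT.node (nat_lit 6857664) (BT.leaf (nat_lit 33722913)) (BT.leaf (nat_lit 30408713)))) (BT.node (nat_lit 6857856) (BT.node (nat_lit 6857792) (BT.leaf (nat_lit 32513549)) (BT.leaf (nat_lit 28083465))) (BT.node (nat_lit 6857920) (BT.leaf (nat_lit 23589897)) (BT.leaf (nat_lit 33930517)))))) (BT.node (nat_lit 6858496) (BT.node (nat_lit 6858240) (BT.node (nat_lit 6858112) (BT.node (nat_lit 6858048) (BT.leaf (nat_lit 24505889)) (BT.leaf (nat_lit 28073737))) (BT.node (nat_lit 6858176) (BT.leaf (nat_lit 29513733)) (BT.leaf (nat_lit 29310725)))) (BT.node (nat_lit 6858368) (BT.node (nat_lit 6858304) (BT.leaf (nat_lit 46410521)) (BT.leaf (nat_lit 25862165))) (BT.node (nat_lit 6858432) (BT.leaf (nat_lit 36479521)) (BT.leaf (nat_lit 34723361))))) (BT.node (nat_lit 6858752) (BT.node (nat_lit 6858624) (BT.node (nat_lit 6858560) (BT.leaf (nat_lit 22902033)) (BT.leaf (nat_lit 22902037))) (BT.node (nat_lit 6858688) (BT.leaf (nat_lit 30260509)) (BT.leaf (nat_lit 32386065)))) (BT.node (nat_lit 6858880) (BT.node (nat_lit 6858816) (BT.leaf (nat_lit 22343701)) (BT.leaf (nat_lit 52314897))) (BT.node (nat_lit 6858944) (BT.leaf (nat_lit 34136597)) (BT.leaf (nat_lit 30715653)))))))))) (BT.node (nat_lit 6867200) (BT.node (nat_lit 6863104) (BT.node (nat_lit 6861056) (BT.node (nat_lit 6860032) (BT.node (nat_lit 6859520) (BT.node (nat_lit 6859264) (BT.node (nat_lit 6859136) (BT.node (nat_lit 6859072) (BT.leaf (nat_lit 30954005)) (BT.leaf (nat_lit 24878357))) (BT.node (nat_lit 6859200) (BT.leaf (nat_lit 27436829)) (BT.leaf (nat_lit 24809221)))) (BT.node (nat_lit 6859392) (BT.node (nat_lit 6859328) (BT.leaf (nat_lit 23173645)) (BT.leaf (nat_lit 24148753))) (BT.node (nat_lit 6859456) (BT.leaf (nat_lit 27289605)) (BT.leaf (nat_lit 30062625))))) (BT.node (nat_lit 6859776) (BT.node (nat_lit 6859648) (BT.node (nat_lit 6859584) (BT.leaf (nat_lit 23426577)) (BT.leaf (nat_lit 36516637))) (BT.node (nat_lit 6859712) (BT.leaf (nat_lit 33325073)) (BT.leaf (nat_lit 22344221)))) (BT.node (nat_lit 6859904) (BT.node (nat_lit 6859840) (BT.leaf (nat_lit 22344217)) (BT.leaf (nat_lit 50791697))) (BT.node (nat_lit 6859968) (BT.leaf (nat_lit 50791713)) (BT.leaf (nat_lit 28411669)))))) (BT.node (nat_lit 6860544) (BT.node (nat_lit 6860288) (BT.node (nat_lit 6860160) (BT.node (nat_lit 6860096) (BT.leaf (nat_lit 33037581)) (BT.leaf (nat_lit 46414101))) (BT.node (nat_lit 6860224) (BT.leaf (nat_lit 48738577)) (BT.leaf (nat_lit 32706565)))) (BT.node (nat_lit 6860416) (BT.node (nat_lit 6860352) (BT.leaf (nat_lit 47630617)) (BT.leaf (nat_lit 46414349))) (BT.node (nat_lit 6860480) (BT.leaf (nat_lit 33335045)) (BT.leaf (nat_lit 33335557))))) (BT.node (nat_lit 6860800) (BT.node (nat_lit 6860672) (BT.node (nat_lit 6860608) (BT.leaf (nat_lit 25709601)) (BT.leaf (nat_lit 30088729))) (BT.node (nat_lit 6860736) (BT.leaf (nat_lit 22927889)) (BT.leaf (nat_lit 28830497)))) (BT.node (nat_lit 6860928) (BT.node (nat_lit 6860864) (BT.leaf (nat_lit 22844945)) (BT.leaf (nat_lit 28831009))) (BT.node (nat_lit 6860992) (BT.leaf (nat_lit 30132497)) (BT.leaf (nat_lit 27515425))))))) (BT.node (nat_lit 6862080) (BT.node (nat_lit 6861568) (BT.node (nat_lit 6861312) (BT.node (nat_lit 6861184) (BT.node (nat_lit 6861120) (BT.leaf (nat_lit 29052165)) (BT.leaf (nat_lit 32416021))) (BT.node (nat_lit 6861248) (BT.leaf (nat_lit 46412305)) (BT.leaf (nat_lit 46416661)))) (BT.node (nat_lit 6861440) (BT.node (nat_lit 6861376) (BT.leaf (nat_lit 22843909)) (BT.leaf (nat_lit 48048657))) (BT.node (nat_lit 6861504) (BT.leaf (nat_lit 46415637)) (BT.leaf (nat_lit 46417425))))) (BT.node (nat_lit 6861824) (BT.node (nat_lit 6861696) (BT.node (nat_lit 6861632) (BT.leaf (nat_lit 24814853)) (BT.leaf (nat_lit 24094749))) (BT.node (nat_lit 6861760) (BT.leaf (nat_lit 33932045)) (BT.leaf (nat_lit 22306325)))) (BT.node (nat_lit 6861952) (BT.node (nat_lit 6861888) (BT.leaf (nat_lit 22347017)) (BT.leaf (nat_lit 22347025))) (BT.node (nat_lit 6862016) (BT.leaf (nat_lit 46417941)) (BT.leaf (nat_lit 37704993)))))) (BT.node (nat_lit 6862592) (BT.node (nat_lit 6862336) (BT.node (nat_lit 6862208) (BT.node (nat_lit 6862144) (BT.leaf (nat_lit 33932057)) (BT.leaf (nat_lit 27269393))) (BT.node (nat_lit 6862272) (BT.leaf (nat_lit 22347033)) (BT.leaf (nat_lit 38367517)))) (BT.node (nat_lit 6862464) (BT.node (nat_lit 6862400) (BT.leaf (nat_lit 23063829)) (BT.leaf (nat_lit 36452369))) (BT.node (nat_lit 6862528) (BT.leaf (nat_lit 27449625)) (BT.leaf (nat_lit 35071517))))) (BT.node (nat_lit 6862848) (BT.node (nat_lit 6862720) (BT.node (nat_lit 6862656) (BT.leaf (nat_lit 24930833)) (BT.leaf (nat_lit 24930849))) (BT.node (nat_lit 6862784) (BT.leaf (nat_lit 22936069)) (BT.leaf (nat_lit 29679893)))) (BT.node (nat_lit 6862976) (BT.node (nat_lit 6862912) (BT.leaf (nat_lit 37993745)) (BT.leaf (nat_lit 27424545))) (BT.node (nat_lit 6863040) (BT.leaf (nat_lit 33038361)) (BT.leaf (nat_lit 23218205)))))))) (BT.node (nat_lit 6865152) (BT.node (nat_lit 6864128) (BT.node (nat_lit 6863616) (BT.node (nat_lit 6863360) (BT.node (nat_lit 6863232) (BT.node (nat_lit 6863168) (BT.leaf (nat_lit 28150789)) (BT.leaf (nat_lit 27306005))) (BT.node (nat_lit 6863296) (BT.leaf (nat_lit 22671381)) (BT.leaf (nat_lit 30030341)))) (BT.node (nat_lit 6863488) (BT.node (nat_lit 6863424) (BT.leaf (nat_lit 27305757)) (BT.leaf (nat_lit 30176801))) (BT.node (nat_lit 6863552) (BT.leaf (nat_lit 24704005)) (BT.leaf (nat_lit 30887445))))) (BT.node (nat_lit 6863872) (BT.node (nat_lit 6863744) (BT.node (nat_lit 6863680) (BT.leaf (nat_lit 28304913)) (BT.leaf (nat_lit 34993413))) (BT.node (nat_lit 6863808) (BT.leaf (nat_lit 24553505)) (BT.leaf (nat_lit 46421781)))) (BT.node (nat_lit 6864000) (BT.node (nat_lit 6863936) (BT.leaf (nat_lit 27306013)) (BT.leaf (nat_lit 29573905))) (BT.node (nat_lit 6864064) (BT.leaf (nat_lit 30587161)) (BT.leaf (nat_lit 51175445)))))) (BT.node (nat_lit 6864640) (BT.node (nat_lit 6864384) (BT.node (nat_lit 6864256) (BT.node (nat_lit 6864192) (BT.leaf (nat_lit 37998597)) (BT.leaf (nat_lit 46473989))) (BT.node (nat_lit 6864320) (BT.leaf (nat_lit 40814625)) (BT.leaf (nat_lit 37936145)))) (BT.node (nat_lit 6864512) (BT.node (nat_lit 6864448) (BT.leaf (nat_lit 23173133)) (BT.leaf (nat_lit 38005021))) (BT.node (nat_lit 6864576) (BT.leaf (nat_lit 45676053)) (BT.leaf (nat_lit 40386069))))) (BT.node (nat_lit 6864896) (BT.node (nat_lit 6864768) (BT.node (nat_lit 6864704) (BT.leaf (nat_lit 27621141)) (BT.leaf (nat_lit 30487841))) (BT.node (nat_lit 6864832) (BT.leaf (nat_lit 34161953)) (BT.leaf (nat_lit 29509401)))) (BT.node (nat_lit 6865024) (BT.node (nat_lit 6864960) (BT.leaf (nat_lit 29991945)) (BT.leaf (nat_lit 22349073))) (BT.node (nat_lit 6865088) (BT.leaf (nat_lit 29094149)) (BT.leaf (nat_lit 22350353))))))) (BT.node (nat_lit 6866176) (BT.node (nat_lit 6865664) (BT.node (nat_lit 6865408) (BT.node (nat_lit 6865280) (BT.node (nat_lit 6865216) (BT.leaf (nat_lit 22348561)) (BT.leaf (nat_lit 38016517))) (BT.node (nat_lit 6865344) (BT.leaf (nat_lit 32237837)) (BT.leaf (nat_lit 24210209)))) (BT.node (nat_lit 6865536) (BT.node (nat_lit 6865472) (BT.leaf (nat_lit 27626785)) (BT.leaf (nat_lit 24210721))) (BT.node (nat_lit 6865600) (BT.leaf (nat_lit 32237853)) (BT.leaf (nat_lit 34439449))))) (BT.node (nat_lit 6865920) (BT.node (nat_lit 6865792) (BT.node (nat_lit 6865728) (BT.leaf (nat_lit 27306761)) (BT.leaf (nat_lit 28005893))) (BT.node (nat_lit 6865856) (BT.leaf (nat_lit 28498465)) (BT.leaf (nat_lit 46424337)))) (BT.node (nat_lit 6866048) (BT.node (nat_lit 6865984) (BT.leaf (nat_lit 32355865)) (BT.leaf (nat_lit 22351125))) (BT.node (nat_lit 6866112) (BT.leaf (nat_lit 23795481)) (BT.leaf (nat_lit 32355853)))))) (BT.node (nat_lit 6866688) (BT.node (nat_lit 6866432) (BT.node (nat_lit 6866304) (BT.node (nat_lit 6866240) (BT.leaf (nat_lit 50931213)) (BT.leaf (nat_lit 23498005))) (BT.node (nat_lit 6866368) (BT.leaf (nat_lit 46376965)) (BT.leaf (nat_lit 24155925)))) (BT.node (nat_lit 6866560) (BT.node (nat_lit 6866496) (BT.leaf (nat_lit 22352145)) (BT.leaf (nat_lit 30200853))) (BT.node (nat_lit 6866624) (BT.leaf (nat_lit 30200857)) (BT.leaf (nat_lit 22302993))))) (BT.node (nat_lit 6866944) (BT.node (nat_lit 6866816) (BT.node (nat_lit 6866752) (BT.leaf (nat_lit 34075653)) (BT.leaf (nat_lit 36442393))) (BT.node (nat_lit 6866880) (BT.leaf (nat_lit 36442397)) (BT.leaf (nat_lit 34628641)))) (BT.node (nat_lit 6867072) (BT.node (nat_lit 6867008) (BT.leaf (nat_lit 32355857)) (BT.leaf (nat_lit 26034721))) (BT.node (nat_lit 6867136) (BT.leaf (nat_lit 24857617)) (BT.leaf (nat_lit 27470109))))))))) (BT.node (nat_lit 6871296) (BT.node (nat_lit 6869248) (BT.node (nat_lit 6868224) (BT.node (nat_lit 6867712) (BT.node (nat_lit 6867456) (BT.node (nat_lit 6867328) (BT.node (nat_lit 6867264) (BT.leaf (nat_lit 27426577)) (BT.leaf (nat_lit 31957533))) (BT.node (nat_lit 6867392) (BT.leaf (nat_lit 48507921)) (BT.leaf (nat_lit 22634257)))) (BT.node (nat_lit 6867584) (BT.node (nat_lit 6867520) (BT.leaf (nat_lit 24840989)) (BT.leaf (nat_lit 23068685))) (BT.node (nat_lit 6867648) (BT.leaf (nat_lit 37429269)) (BT.leaf (nat_lit 33514001))))) (BT.node (nat_lit 6867968) (BT.node (nat_lit 6867840) (BT.node (nat_lit 6867776) (BT.leaf (nat_lit 23299605)) (BT.leaf (nat_lit 27927065))) (BT.node (nat_lit 6867904) (BT.leaf (nat_lit 46427917)) (BT.leaf (nat_lit 28518425)))) (BT.node (nat_lit 6868096) (BT.node (nat_lit 6868032) (BT.leaf (nat_lit 28518429)) (BT.leaf (nat_lit 22580753))) (BT.node (nat_lit 6868160) (BT.leaf (nat_lit 34243609)) (BT.leaf (nat_lit 49004573)))))) (BT.node (nat_lit 6868736) (BT.node (nat_lit 6868480) (BT.node (nat_lit 6868352) (BT.node (nat_lit 6868288) (BT.leaf (nat_lit 22528785)) (BT.leaf (nat_lit 30849553))) (BT.node (nat_lit 6868416) (BT.leaf (nat_lit 28030737)) (BT.leaf (nat_lit 24371217)))) (BT.node (nat_lit 6868608) (BT.node (nat_lit 6868544) (BT.leaf (nat_lit 24370961)) (BT.leaf (nat_lit 46429205))) (BT.node (nat_lit 6868672) (BT.leaf (nat_lit 46429469)) (BT.leaf (nat_lit 31205409))))) (BT.node (nat_lit 6868992) (BT.node (nat_lit 6868864) (BT.node (nat_lit 6868800) (BT.leaf (nat_lit 27617553)) (BT.leaf (nat_lit 46429701))) (BT.node (nat_lit 6868928) (BT.leaf (nat_lit 25326357)) (BT.leaf (nat_lit 23075353)))) (BT.node (nat_lit 6869120) (BT.node (nat_lit 6869056) (BT.leaf (nat_lit 23075357)) (BT.leaf (nat_lit 24874005))) (BT.node (nat_lit 6869184) (BT.leaf (nat_lit 24409873)) (BT.leaf (nat_lit 35103257))))))) (BT.node (nat_lit 6870272) (BT.node (nat_lit 6869760) (BT.node (nat_lit 6869504) (BT.node (nat_lit 6869376) (BT.node (nat_lit 6869312) (BT.leaf (nat_lit 46431001)) (BT.leaf (nat_lit 28992261))) (BT.node (nat_lit 6869440) (BT.leaf (nat_lit 27990277)) (BT.leaf (nat_lit 23644437)))) (BT.node (nat_lit 6869632) (BT.node (nat_lit 6869568) (BT.leaf (nat_lit 22803473)) (BT.leaf (nat_lit 27478041))) (BT.node (nat_lit 6869696) (BT.leaf (nat_lit 48551965)) (BT.leaf (nat_lit 22354973))))) (BT.node (nat_lit 6870016) (BT.node (nat_lit 6869888) (BT.node (nat_lit 6869824) (BT.leaf (nat_lit 22393877)) (BT.leaf (nat_lit 46431777))) (BT.node (nat_lit 6869952) (BT.leaf (nat_lit 33045781)) (BT.leaf (nat_lit 24795925)))) (BT.node (nat_lit 6870144) (BT.node (nat_lit 6870080) (BT.leaf (nat_lit 22355993)) (BT.leaf (nat_lit 25326361))) (BT.node (nat_lit 6870208) (BT.leaf (nat_lit 28626721)) (BT.leaf (nat_lit 27475485)))))) (BT.node (nat_lit 6870784) (BT.node (nat_lit 6870528) (BT.node (nat_lit 6870400) (BT.node (nat_lit 6870336) (BT.leaf (nat_lit 22355217)) (BT.leaf (nat_lit 29382689))) (BT.node (nat_lit 6870464) (BT.leaf (nat_lit 35388445)) (BT.leaf (nat_lit 29685017)))) (BT.node (nat_lit 6870656) (BT.node (nat_lit 6870592) (BT.leaf (nat_lit 24795929)) (BT.leaf (nat_lit 28134165))) (BT.node (nat_lit 6870720) (BT.leaf (nat_lit 22860569)) (BT.leaf (nat_lit 22860573))))) (BT.node (nat_lit 6871040) (BT.node (nat_lit 6870912) (BT.node (nat_lit 6870848) (BT.leaf (nat_lit 30186253)) (BT.leaf (nat_lit 51092497))) (BT.node (nat_lit 6870976) (BT.leaf (nat_lit 46432789)) (BT.leaf (nat_lit 22637585)))) (BT.node (nat_lit 6871168) (BT.node (nat_lit 6871104) (BT.leaf (nat_lit 33348637)) (BT.leaf (nat_lit 33073173))) (BT.node (nat_lit 6871232) (BT.leaf (nat_lit 30840073)) (BT.leaf (nat_lit 33650953)))))))) (BT.node (nat_lit 6873344) (BT.node (nat_lit 6872320) (BT.node (nat_lit 6871808) (BT.node (nat_lit 6871552) (BT.node (nat_lit 6871424) (BT.node (nat_lit 6871360) (BT.leaf (nat_lit 34150945)) (BT.leaf (nat_lit 34774297))) (BT.node (nat_lit 6871488) (BT.leaf (nat_lit 23168025)) (BT.leaf (nat_lit 23168029)))) (BT.node (nat_lit 6871680) (BT.node (nat_lit 6871616) (BT.leaf (nat_lit 30953233)) (BT.leaf (nat_lit 24813849))) (BT.node (nat_lit 6871744) (BT.leaf (nat_lit 24813853)) (BT.leaf (nat_lit 27487245))))) (BT.node (nat_lit 6872064) (BT.node (nat_lit 6871936) (BT.node (nat_lit 6871872) (BT.leaf (nat_lit 34697749)) (BT.leaf (nat_lit 46435345))) (BT.node (nat_lit 6872000) (BT.leaf (nat_lit 33099797)) (BT.leaf (nat_lit 22858513)))) (BT.node (nat_lit 6872192) (BT.node (nat_lit 6872128) (BT.leaf (nat_lit 38655001)) (BT.leaf (nat_lit 24812817))) (BT.node (nat_lit 6872256) (BT.leaf (nat_lit 25847301)) (BT.leaf (nat_lit 46436373)))))) (BT.node (nat_lit 6872832) (BT.node (nat_lit 6872576) (BT.node (nat_lit 6872448) (BT.node (nat_lit 6872384) (BT.leaf (nat_lit 46436621)) (BT.leaf (nat_lit 27820297))) (BT.node (nat_lit 6872512) (BT.leaf (nat_lit 34309909)) (BT.leaf (nat_lit 24371477)))) (BT.node (nat_lit 6872704) (BT.node (nat_lit 6872640) (BT.leaf (nat_lit 34510349)) (BT.leaf (nat_lit 27487261))) (BT.node (nat_lit 6872768) (BT.leaf (nat_lit 24871701)) (BT.leaf (nat_lit 23166497))))) (BT.node (nat_lit 6873088) (BT.node (nat_lit 6872960) (BT.node (nat_lit 6872896) (BT.leaf (nat_lit 30774561)) (BT.leaf (nat_lit 29578785))) (BT.node (nat_lit 6873024) (BT.leaf (nat_lit 27617801)) (BT.leaf (nat_lit 32177441)))) (BT.node (nat_lit 6873216) (BT.node (nat_lit 6873152) (BT.leaf (nat_lit 32178181)) (BT.leaf (nat_lit 31777569))) (BT.node (nat_lit 6873280) (BT.leaf (nat_lit 34457109)) (BT.leaf (nat_lit 25915669))))))) (BT.node (nat_lit 6874368) (BT.node (nat_lit 6873856) (BT.node (nat_lit 6873600) (BT.node (nat_lit 6873472) (BT.node (nat_lit 6873408) (BT.leaf (nat_lit 23276313)) (BT.leaf (nat_lit 35089941))) (BT.node (nat_lit 6873536) (BT.leaf (nat_lit 36337941)) (BT.leaf (nat_lit 35860757)))) (BT.node (nat_lit 6873728) (BT.node (nat_lit 6873664) (BT.leaf (nat_lit 27408405)) (BT.leaf (nat_lit 25518869))) (BT.node (nat_lit 6873792) (BT.leaf (nat_lit 27580701)) (BT.leaf (nat_lit 34007329))))) (BT.node (nat_lit 6874112) (BT.node (nat_lit 6873984) (BT.node (nat_lit 6873920) (BT.leaf (nat_lit 27495693)) (BT.leaf (nat_lit 22363937))) (BT.node (nat_lit 6874048) (BT.leaf (nat_lit 27983893)) (BT.leaf (nat_lit 22364449)))) (BT.node (nat_lit 6874240) (BT.node (nat_lit 6874176) (BT.leaf (nat_lit 46438673)) (BT.leaf (nat_lit 23569941))) (BT.node (nat_lit 6874304) (BT.leaf (nat_lit 41452573)) (BT.leaf (nat_lit 28372253)))))) (BT.node (nat_lit 6874880) (BT.node (nat_lit 6874624) (BT.node (nat_lit 6874496) (BT.node (nat_lit 6874432) (BT.leaf (nat_lit 23767049)) (BT.leaf (nat_lit 24931605))) (BT.node (nat_lit 6874560) (BT.leaf (nat_lit 30405125)) (BT.leaf (nat_lit 27777029)))) (BT.node (nat_lit 6874752) (BT.node (nat_lit 6874688) (BT.leaf (nat_lit 30415621)) (BT.leaf (nat_lit 34499861))) (BT.node (nat_lit 6874816) (BT.leaf (nat_lit 25616925)) (BT.leaf (nat_lit 26483721))))) (BT.node (nat_lit 6875136) (BT.node (nat_lit 6875008) (BT.node (nat_lit 6874944) (BT.leaf (nat_lit 33430301)) (BT.leaf (nat_lit 32409869))) (BT.node (nat_lit 6875072) (BT.leaf (nat_lit 22585617)) (BT.leaf (nat_lit 28209669)))) (BT.node (nat_lit 6875264) (BT.node (nat_lit 6875200) (BT.leaf (nat_lit 23145745)) (BT.leaf (nat_lit 49566481))) (BT.node (nat_lit 6875328) (BT.leaf (nat_lit 27338501)) (BT.leaf (nat_lit 22375177)))))))))))) (BT.node (nat_lit 6908160) (BT.node (nat_lit 6891776) (BT.node (nat_lit 6883584) (BT.node (nat_lit 6879488) (BT.node (nat_lit 6877440) (BT.node (nat_lit 6876416) (BT.node (nat_lit 6875904) (BT.node (nat_lit 6875648) (BT.node (nat_lit 6875520) (BT.node (nat_lit 6875456) (BT.leaf (nat_lit 22375181)) (BT.leaf (nat_lit 22375193))) (BT.node (nat_lit 6875584) (BT.leaf (nat_lit 22375197)) (BT.leaf (nat_lit 22374161)))) (BT.node (nat_lit 6875776) (BT.node (nat_lit 6875712) (BT.leaf (nat_lit 22374165)) (BT.leaf (nat_lit 31830549))) (BT.node (nat_lit 6875840) (BT.leaf (nat_lit 27472397)) (BT.leaf (nat_lit 28630293))))) (BT.node (nat_lit 6876160) (BT.node (nat_lit 6876032) (BT.node (nat_lit 6875968) (BT.leaf (nat_lit 36715277)) (BT.leaf (nat_lit 34147093))) (BT.node (nat_lit 6876096) (BT.leaf (nat_lit 29864201)) (BT.leaf (nat_lit 28030753)))) (BT.node (nat_lit 6876288) (BT.node (nat_lit 6876224) (BT.leaf (nat_lit 29864217)) (BT.leaf (nat_lit 22937617))) (BT.node (nat_lit 6876352) (BT.leaf (nat_lit 22937621)) (BT.leaf (nat_lit 46441237)))))) (BT.node (nat_lit 6876928) (BT.node (nat_lit 6876672) (BT.node (nat_lit 6876544) (BT.node (nat_lit 6876480) (BT.leaf (nat_lit 46441489)) (BT.leaf (nat_lit 51818513))) (BT.node (nat_lit 6876608) (BT.leaf (nat_lit 31513349)) (BT.leaf (nat_lit 49200161)))) (BT.node (nat_lit 6876800) (BT.node (nat_lit 6876736) (BT.leaf (nat_lit 46442517)) (BT.leaf (nat_lit 33987101))) (BT.node (nat_lit 6876864) (BT.leaf (nat_lit 27346961)) (BT.leaf (nat_lit 33072925))))) (BT.node (nat_lit 6877184) (BT.node (nat_lit 6877056) (BT.node (nat_lit 6876992) (BT.leaf (nat_lit 46443801)) (BT.leaf (nat_lit 27508253))) (BT.node (nat_lit 6877120) (BT.leaf (nat_lit 46444053)) (BT.leaf (nat_lit 30018317)))) (BT.node (nat_lit 6877312) (BT.node (nat_lit 6877248) (BT.leaf (nat_lit 36271889)) (BT.leaf (nat_lit 35197465))) (BT.node (nat_lit 6877376) (BT.leaf (nat_lit 24279317)) (BT.leaf (nat_lit 46445333))))))) (BT.node (nat_lit 6878464) (BT.node (nat_lit 6877952) (BT.node (nat_lit 6877696) (BT.node (nat_lit 6877568) (BT.node (nat_lit 6877504) (BT.leaf (nat_lit 24489993)) (BT.leaf (nat_lit 46444061))) (BT.node (nat_lit 6877632) (BT.leaf (nat_lit 24660749)) (BT.leaf (nat_lit 47896097)))) (BT.node (nat_lit 6877824) (BT.node (nat_lit 6877760) (BT.leaf (nat_lit 47866381)) (BT.leaf (nat_lit 30771729))) (BT.node (nat_lit 6877888) (BT.leaf (nat_lit 22675717)) (BT.leaf (nat_lit 31153933))))) (BT.node (nat_lit 6878208) (BT.node (nat_lit 6878080) (BT.node (nat_lit 6878016) (BT.leaf (nat_lit 24111109)) (BT.leaf (nat_lit 27989013))) (BT.node (nat_lit 6878144) (BT.leaf (nat_lit 34661137)) (BT.leaf (nat_lit 27512345)))) (BT.node (nat_lit 6878336) (BT.node (nat_lit 6878272) (BT.leaf (nat_lit 23333405)) (BT.leaf (nat_lit 24442137))) (BT.node (nat_lit 6878400) (BT.leaf (nat_lit 32260885)) (BT.leaf (nat_lit 46424353)))))) (BT.node (nat_lit 6878976) (BT.node (nat_lit 6878720) (BT.node (nat_lit 6878592) (BT.node (nat_lit 6878528) (BT.leaf (nat_lit 22399265)) (BT.leaf (nat_lit 27513609))) (BT.node (nat_lit 6878656) (BT.leaf (nat_lit 23056661)) (BT.leaf (nat_lit 24117253)))) (BT.node (nat_lit 6878848) (BT.node (nat_lit 6878784) (BT.leaf (nat_lit 24117509)) (BT.leaf (nat_lit 28442133))) (BT.node (nat_lit 6878912) (BT.leaf (nat_lit 46326813)) (BT.leaf (nat_lit 33270305))))) (BT.node (nat_lit 6879232) (BT.node (nat_lit 6879104) (BT.node (nat_lit 6879040) (BT.leaf (nat_lit 46328853)) (BT.leaf (nat_lit 29096721))) (BT.node (nat_lit 6879168) (BT.leaf (nat_lit 25362453)) (BT.leaf (nat_lit 27516425)))) (BT.node (nat_lit 6879360) (BT.node (nat_lit 6879296) (BT.leaf (nat_lit 24286489)) (BT.leaf (nat_lit 25362205))) (BT.node (nat_lit 6879424) (BT.leaf (nat_lit 29806605)) (BT.leaf (nat_lit 22398489)))))))) (BT.node (nat_lit 6881536) (BT.node (nat_lit 6880512) (BT.node (nat_lit 6880000) (BT.node (nat_lit 6879744) (BT.node (nat_lit 6879616) (BT.node (nat_lit 6879552) (BT.leaf (nat_lit 22398493)) (BT.leaf (nat_lit 22367757))) (BT.node (nat_lit 6879680) (BT.leaf (nat_lit 35923217)) (BT.leaf (nat_lit 46448409)))) (BT.node (nat_lit 6879872) (BT.node (nat_lit 6879808) (BT.leaf (nat_lit 30463509)) (BT.leaf (nat_lit 22368029))) (BT.node (nat_lit 6879936) (BT.leaf (nat_lit 22368025)) (BT.leaf (nat_lit 46448929))))) (BT.node (nat_lit 6880256) (BT.node (nat_lit 6880128) (BT.node (nat_lit 6880064) (BT.leaf (nat_lit 24553989)) (BT.leaf (nat_lit 36303121))) (BT.node (nat_lit 6880192) (BT.leaf (nat_lit 24847893)) (BT.leaf (nat_lit 24473109)))) (BT.node (nat_lit 6880384) (BT.node (nat_lit 6880320) (BT.leaf (nat_lit 24410885)) (BT.leaf (nat_lit 46389521))) (BT.node (nat_lit 6880448) (BT.leaf (nat_lit 27366433)) (BT.leaf (nat_lit 37888273)))))) (BT.node (nat_lit 6881024) (BT.node (nat_lit 6880768) (BT.node (nat_lit 6880640) (BT.node (nat_lit 6880576) (BT.leaf (nat_lit 31106061)) (BT.leaf (nat_lit 32103445))) (BT.node (nat_lit 6880704) (BT.leaf (nat_lit 37797153)) (BT.leaf (nat_lit 22369289)))) (BT.node (nat_lit 6880896) (BT.node (nat_lit 6880832) (BT.leaf (nat_lit 23332121)) (BT.leaf (nat_lit 24734753))) (BT.node (nat_lit 6880960) (BT.leaf (nat_lit 33753369)) (BT.leaf (nat_lit 28749089))))) (BT.node (nat_lit 6881280) (BT.node (nat_lit 6881152) (BT.node (nat_lit 6881088) (BT.leaf (nat_lit 27383573)) (BT.leaf (nat_lit 24293661))) (BT.node (nat_lit 6881216) (BT.leaf (nat_lit 46449681)) (BT.leaf (nat_lit 31838485)))) (BT.node (nat_lit 6881408) (BT.node (nat_lit 6881344) (BT.leaf (nat_lit 32184081)) (BT.leaf (nat_lit 33989141))) (BT.node (nat_lit 6881472) (BT.leaf (nat_lit 25782037)) (BT.leaf (nat_lit 27525645))))))) (BT.node (nat_lit 6882560) (BT.node (nat_lit 6882048) (BT.node (nat_lit 6881792) (BT.node (nat_lit 6881664) (BT.node (nat_lit 6881600) (BT.leaf (nat_lit 25722133)) (BT.leaf (nat_lit 24563461))) (BT.node (nat_lit 6881728) (BT.leaf (nat_lit 31066393)) (BT.leaf (nat_lit 31066397)))) (BT.node (nat_lit 6881920) (BT.node (nat_lit 6881856) (BT.leaf (nat_lit 30015757)) (BT.leaf (nat_lit 25782297))) (BT.node (nat_lit 6881984) (BT.leaf (nat_lit 24207649)) (BT.leaf (nat_lit 23329565))))) (BT.node (nat_lit 6882304) (BT.node (nat_lit 6882176) (BT.node (nat_lit 6882112) (BT.leaf (nat_lit 51015445)) (BT.leaf (nat_lit 33948449))) (BT.node (nat_lit 6882240) (BT.leaf (nat_lit 23370781)) (BT.leaf (nat_lit 24296217)))) (BT.node (nat_lit 6882432) (BT.node (nat_lit 6882368) (BT.leaf (nat_lit 28588321)) (BT.leaf (nat_lit 22541589))) (BT.node (nat_lit 6882496) (BT.leaf (nat_lit 34447365)) (BT.leaf (nat_lit 23827737)))))) (BT.node (nat_lit 6883072) (BT.node (nat_lit 6882816) (BT.node (nat_lit 6882688) (BT.node (nat_lit 6882624) (BT.leaf (nat_lit 27409413)) (BT.leaf (nat_lit 27855629))) (BT.node (nat_lit 6882752) (BT.leaf (nat_lit 34944517)) (BT.leaf (nat_lit 27409433)))) (BT.node (nat_lit 6882944) (BT.node (nat_lit 6882880) (BT.leaf (nat_lit 27409437)) (BT.leaf (nat_lit 37843473))) (BT.node (nat_lit 6883008) (BT.leaf (nat_lit 23303953)) (BT.leaf (nat_lit 46955525))))) (BT.node (nat_lit 6883328) (BT.node (nat_lit 6883200) (BT.node (nat_lit 6883136) (BT.leaf (nat_lit 34396193)) (BT.leaf (nat_lit 34395937))) (BT.node (nat_lit 6883264) (BT.leaf (nat_lit 28831505)) (BT.leaf (nat_lit 28831509)))) (BT.node (nat_lit 6883456) (BT.node (nat_lit 6883392) (BT.leaf (nat_lit 29897745)) (BT.leaf (nat_lit 28231941))) (BT.node (nat_lit 6883520) (BT.leaf (nat_lit 31084557)) (BT.leaf (nat_lit 24309009))))))))) (BT.node (nat_lit 6887680) (BT.node (nat_lit 6885632) (BT.node (nat_lit 6884608) (BT.node (nat_lit 6884096) (BT.node (nat_lit 6883840) (BT.node (nat_lit 6883712) (BT.node (nat_lit 6883648) (BT.leaf (nat_lit 46658593)) (BT.leaf (nat_lit 27528473))) (BT.node (nat_lit 6883776) (BT.leaf (nat_lit 27940369)) (BT.leaf (nat_lit 34033437)))) (BT.node (nat_lit 6883968) (BT.node (nat_lit 6883904) (BT.leaf (nat_lit 37517593)) (BT.leaf (nat_lit 27361301))) (BT.node (nat_lit 6884032) (BT.leaf (nat_lit 26008353)) (BT.leaf (nat_lit 24811541))))) (BT.node (nat_lit 6884352) (BT.node (nat_lit 6884224) (BT.node (nat_lit 6884160) (BT.leaf (nat_lit 22372377)) (BT.leaf (nat_lit 22372633))) (BT.node (nat_lit 6884288) (BT.leaf (nat_lit 22372637)) (BT.leaf (nat_lit 23469317)))) (BT.node (nat_lit 6884480) (BT.node (nat_lit 6884416) (BT.leaf (nat_lit 22372881)) (BT.leaf (nat_lit 23469337))) (BT.node (nat_lit 6884544) (BT.leaf (nat_lit 23469341)) (BT.leaf (nat_lit 22372373)))))) (BT.node (nat_lit 6885120) (BT.node (nat_lit 6884864) (BT.node (nat_lit 6884736) (BT.node (nat_lit 6884672) (BT.leaf (nat_lit 29574161)) (BT.leaf (nat_lit 24419857))) (BT.node (nat_lit 6884800) (BT.leaf (nat_lit 32882465)) (BT.leaf (nat_lit 24471577)))) (BT.node (nat_lit 6884992) (BT.node (nat_lit 6884928) (BT.leaf (nat_lit 24471581)) (BT.leaf (nat_lit 22829585))) (BT.node (nat_lit 6885056) (BT.leaf (nat_lit 46457373)) (BT.leaf (nat_lit 46457629))))) (BT.node (nat_lit 6885376) (BT.node (nat_lit 6885248) (BT.node (nat_lit 6885184) (BT.leaf (nat_lit 28737813)) (BT.leaf (nat_lit 24552453))) (BT.node (nat_lit 6885312) (BT.leaf (nat_lit 38001697)) (BT.leaf (nat_lit 46459161)))) (BT.node (nat_lit 6885504) (BT.node (nat_lit 6885440) (BT.leaf (nat_lit 23312917)) (BT.leaf (nat_lit 26030869))) (BT.node (nat_lit 6885568) (BT.leaf (nat_lit 30765841)) (BT.leaf (nat_lit 30284045))))))) (BT.node (nat_lit 6886656) (BT.node (nat_lit 6886144) (BT.node (nat_lit 6885888) (BT.node (nat_lit 6885760) (BT.node (nat_lit 6885696) (BT.leaf (nat_lit 46460181)) (BT.leaf (nat_lit 25987601))) (BT.node (nat_lit 6885824) (BT.leaf (nat_lit 27542809)) (BT.leaf (nat_lit 22629909)))) (BT.node (nat_lit 6886016) (BT.node (nat_lit 6885952) (BT.leaf (nat_lit 28268305)) (BT.leaf (nat_lit 27543577))) (BT.node (nat_lit 6886080) (BT.leaf (nat_lit 32994833)) (BT.leaf (nat_lit 33993245))))) (BT.node (nat_lit 6886400) (BT.node (nat_lit 6886272) (BT.node (nat_lit 6886208) (BT.leaf (nat_lit 25997317)) (BT.leaf (nat_lit 23335957))) (BT.node (nat_lit 6886336) (BT.leaf (nat_lit 24324617)) (BT.leaf (nat_lit 27545113)))) (BT.node (nat_lit 6886528) (BT.node (nat_lit 6886464) (BT.leaf (nat_lit 35712281)) (BT.leaf (nat_lit 22630165))) (BT.node (nat_lit 6886592) (BT.leaf (nat_lit 40389381)) (BT.leaf (nat_lit 30216737)))))) (BT.node (nat_lit 6887168) (BT.node (nat_lit 6886912) (BT.node (nat_lit 6886784) (BT.node (nat_lit 6886720) (BT.leaf (nat_lit 46462489)) (BT.leaf (nat_lit 46463249))) (BT.node (nat_lit 6886848) (BT.leaf (nat_lit 25979421)) (BT.leaf (nat_lit 35191569)))) (BT.node (nat_lit 6887040) (BT.node (nat_lit 6886976) (BT.leaf (nat_lit 27429145)) (BT.leaf (nat_lit 28083717))) (BT.node (nat_lit 6887104) (BT.leaf (nat_lit 24037385)) (BT.leaf (nat_lit 29377541))))) (BT.node (nat_lit 6887424) (BT.node (nat_lit 6887296) (BT.node (nat_lit 6887232) (BT.leaf (nat_lit 22374149)) (BT.leaf (nat_lit 28663585))) (BT.node (nat_lit 6887360) (BT.leaf (nat_lit 22785057)) (BT.leaf (nat_lit 38154261)))) (BT.node (nat_lit 6887552) (BT.node (nat_lit 6887488) (BT.leaf (nat_lit 28281369)) (BT.leaf (nat_lit 28281373))) (BT.node (nat_lit 6887616) (BT.leaf (nat_lit 31692817)) (BT.leaf (nat_lit 23679253)))))))) (BT.node (nat_lit 6889728) (BT.node (nat_lit 6888704) (BT.node (nat_lit 6888192) (BT.node (nat_lit 6887936) (BT.node (nat_lit 6887808) (BT.node (nat_lit 6887744) (BT.leaf (nat_lit 30810389)) (BT.leaf (nat_lit 22373653))) (BT.node (nat_lit 6887872) (BT.leaf (nat_lit 27554329)) (BT.leaf (nat_lit 33115413)))) (BT.node (nat_lit 6888064) (BT.node (nat_lit 6888000) (BT.leaf (nat_lit 27554313)) (BT.leaf (nat_lit 23063569))) (BT.node (nat_lit 6888128) (BT.leaf (nat_lit 35445265)) (BT.leaf (nat_lit 32842017))))) (BT.node (nat_lit 6888448) (BT.node (nat_lit 6888320) (BT.node (nat_lit 6888256) (BT.leaf (nat_lit 34374177)) (BT.leaf (nat_lit 31729937))) (BT.node (nat_lit 6888384) (BT.leaf (nat_lit 23234821)) (BT.leaf (nat_lit 38162449)))) (BT.node (nat_lit 6888576) (BT.node (nat_lit 6888512) (BT.leaf (nat_lit 22699801)) (BT.leaf (nat_lit 46418717))) (BT.node (nat_lit 6888640) (BT.leaf (nat_lit 22374933)) (BT.leaf (nat_lit 33064473)))))) (BT.node (nat_lit 6889216) (BT.node (nat_lit 6888960) (BT.node (nat_lit 6888832) (BT.node (nat_lit 6888768) (BT.leaf (nat_lit 46466069)) (BT.leaf (nat_lit 32553749))) (BT.node (nat_lit 6888896) (BT.leaf (nat_lit 32553757)) (BT.leaf (nat_lit 38164497)))) (BT.node (nat_lit 6889088) (BT.node (nat_lit 6889024) (BT.leaf (nat_lit 22374677)) (BT.leaf (nat_lit 24440585))) (BT.node (nat_lit 6889152) (BT.leaf (nat_lit 22376977)) (BT.leaf (nat_lit 22376721))))) (BT.node (nat_lit 6889472) (BT.node (nat_lit 6889344) (BT.node (nat_lit 6889280) (BT.leaf (nat_lit 30688517)) (BT.leaf (nat_lit 30245381))) (BT.node (nat_lit 6889408) (BT.leaf (nat_lit 29793041)) (BT.leaf (nat_lit 37736453)))) (BT.node (nat_lit 6889600) (BT.node (nat_lit 6889536) (BT.leaf (nat_lit 32168469)) (BT.leaf (nat_lit 22376465))) (BT.node (nat_lit 6889664) (BT.leaf (nat_lit 22375953)) (BT.leaf (nat_lit 23388433))))))) (BT.node (nat_lit 6890752) (BT.node (nat_lit 6890240) (BT.node (nat_lit 6889984) (BT.node (nat_lit 6889856) (BT.node (nat_lit 6889792) (BT.leaf (nat_lit 23388449)) (BT.leaf (nat_lit 28481553))) (BT.node (nat_lit 6889920) (BT.leaf (nat_lit 24227341)) (BT.leaf (nat_lit 29796641)))) (BT.node (nat_lit 6890112) (BT.node (nat_lit 6890048) (BT.leaf (nat_lit 31993865)) (BT.leaf (nat_lit 46467345))) (BT.node (nat_lit 6890176) (BT.leaf (nat_lit 36435721)) (BT.leaf (nat_lit 27069973))))) (BT.node (nat_lit 6890496) (BT.node (nat_lit 6890368) (BT.node (nat_lit 6890304) (BT.leaf (nat_lit 26023441)) (BT.leaf (nat_lit 27290905))) (BT.node (nat_lit 6890432) (BT.leaf (nat_lit 27290909)) (BT.leaf (nat_lit 28437781)))) (BT.node (nat_lit 6890624) (BT.node (nat_lit 6890560) (BT.leaf (nat_lit 33418257)) (BT.leaf (nat_lit 31490077))) (BT.node (nat_lit 6890688) (BT.leaf (nat_lit 25681425)) (BT.leaf (nat_lit 28772365)))))) (BT.node (nat_lit 6891264) (BT.node (nat_lit 6891008) (BT.node (nat_lit 6890880) (BT.node (nat_lit 6890816) (BT.leaf (nat_lit 25681441)) (BT.leaf (nat_lit 31493133))) (BT.node (nat_lit 6890944) (BT.leaf (nat_lit 46469393)) (BT.leaf (nat_lit 27720481)))) (BT.node (nat_lit 6891136) (BT.node (nat_lit 6891072) (BT.leaf (nat_lit 22630929)) (BT.leaf (nat_lit 36017949))) (BT.node (nat_lit 6891200) (BT.leaf (nat_lit 27564829)) (BT.leaf (nat_lit 23837969))))) (BT.node (nat_lit 6891520) (BT.node (nat_lit 6891392) (BT.node (nat_lit 6891328) (BT.leaf (nat_lit 22843157)) (BT.leaf (nat_lit 22843161))) (BT.node (nat_lit 6891456) (BT.leaf (nat_lit 22843165)) (BT.leaf (nat_lit 32583953)))) (BT.node (nat_lit 6891648) (BT.node (nat_lit 6891584) (BT.leaf (nat_lit 46469909)) (BT.leaf (nat_lit 22582049))) (BT.node (nat_lit 6891712) (BT.leaf (nat_lit 23860497)) (BT.leaf (nat_lit 22380809)))))))))) (BT.node (nat_lit 6899968) (BT.node (nat_lit 6895872) (BT.node (nat_lit 6893824) (BT.node (nat_lit 6892800) (BT.node (nat_lit 6892288) (BT.node (nat_lit 6892032) (BT.node (nat_lit 6891904) (BT.node (nat_lit 6891840) (BT.leaf (nat_lit 23704593)) (BT.leaf (nat_lit 23704609))) (BT.node (nat_lit 6891968) (BT.leaf (nat_lit 45018633)) (BT.leaf (nat_lit 49566477)))) (BT.node (nat_lit 6892160) (BT.node (nat_lit 6892096) (BT.leaf (nat_lit 24399893)) (BT.leaf (nat_lit 34711317))) (BT.node (nat_lit 6892224) (BT.leaf (nat_lit 27568409)) (BT.leaf (nat_lit 33253409))))) (BT.node (nat_lit 6892544) (BT.node (nat_lit 6892416) (BT.node (nat_lit 6892352) (BT.leaf (nat_lit 34970649)) (BT.leaf (nat_lit 24589321))) (BT.node (nat_lit 6892480) (BT.leaf (nat_lit 22937873)) (BT.leaf (nat_lit 27570701)))) (BT.node (nat_lit 6892672) (BT.node (nat_lit 6892608) (BT.leaf (nat_lit 50610465)) (BT.leaf (nat_lit 28559637))) (BT.node (nat_lit 6892736) (BT.leaf (nat_lit 22381585)) (BT.leaf (nat_lit 50609945)))))) (BT.node (nat_lit 6893312) (BT.node (nat_lit 6893056) (BT.node (nat_lit 6892928) (BT.node (nat_lit 6892864) (BT.leaf (nat_lit 50609949)) (BT.leaf (nat_lit 46471701))) (BT.node (nat_lit 6892992) (BT.leaf (nat_lit 28559389)) (BT.leaf (nat_lit 29516049)))) (BT.node (nat_lit 6893184) (BT.node (nat_lit 6893120) (BT.leaf (nat_lit 24093473)) (BT.leaf (nat_lit 22381601))) (BT.node (nat_lit 6893248) (BT.leaf (nat_lit 28522265)) (BT.leaf (nat_lit 27345693))))) (BT.node (nat_lit 6893568) (BT.node (nat_lit 6893440) (BT.node (nat_lit 6893376) (BT.leaf (nat_lit 31385361)) (BT.leaf (nat_lit 24538133))) (BT.node (nat_lit 6893504) (BT.leaf (nat_lit 28917277)) (BT.leaf (nat_lit 51024909)))) (BT.node (nat_lit 6893696) (BT.node (nat_lit 6893632) (BT.leaf (nat_lit 35085845)) (BT.leaf (nat_lit 29756705))) (BT.node (nat_lit 6893760) (BT.leaf (nat_lit 27345677)) (BT.leaf (nat_lit 23774993))))))) (BT.node (nat_lit 6894848) (BT.node (nat_lit 6894336) (BT.node (nat_lit 6894080) (BT.node (nat_lit 6893952) (BT.node (nat_lit 6893888) (BT.leaf (nat_lit 23775009)) (BT.leaf (nat_lit 24556577))) (BT.node (nat_lit 6894016) (BT.leaf (nat_lit 32448033)) (BT.leaf (nat_lit 34566677)))) (BT.node (nat_lit 6894208) (BT.node (nat_lit 6894144) (BT.leaf (nat_lit 24556317)) (BT.leaf (nat_lit 23366425))) (BT.node (nat_lit 6894272) (BT.leaf (nat_lit 33432601)) (BT.leaf (nat_lit 31046433))))) (BT.node (nat_lit 6894592) (BT.node (nat_lit 6894464) (BT.node (nat_lit 6894400) (BT.leaf (nat_lit 24938773)) (BT.leaf (nat_lit 22385685))) (BT.node (nat_lit 6894528) (BT.leaf (nat_lit 27577609)) (BT.leaf (nat_lit 24578081)))) (BT.node (nat_lit 6894720) (BT.node (nat_lit 6894656) (BT.leaf (nat_lit 27591701)) (BT.leaf (nat_lit 27395077))) (BT.node (nat_lit 6894784) (BT.leaf (nat_lit 23256601)) (BT.leaf (nat_lit 22385437)))))) (BT.node (nat_lit 6895360) (BT.node (nat_lit 6895104) (BT.node (nat_lit 6894976) (BT.node (nat_lit 6894912) (BT.leaf (nat_lit 46476053)) (BT.leaf (nat_lit 29873157))) (BT.node (nat_lit 6895040) (BT.leaf (nat_lit 37898245)) (BT.leaf (nat_lit 23275805)))) (BT.node (nat_lit 6895232) (BT.node (nat_lit 6895168) (BT.leaf (nat_lit 27596829)) (BT.leaf (nat_lit 28030469))) (BT.node (nat_lit 6895296) (BT.leaf (nat_lit 27580697)) (BT.leaf (nat_lit 38192133))))) (BT.node (nat_lit 6895616) (BT.node (nat_lit 6895488) (BT.node (nat_lit 6895424) (BT.leaf (nat_lit 24721681)) (BT.leaf (nat_lit 27595801))) (BT.node (nat_lit 6895552) (BT.leaf (nat_lit 23248405)) (BT.leaf (nat_lit 22390809)))) (BT.node (nat_lit 6895744) (BT.node (nat_lit 6895680) (BT.leaf (nat_lit 25860621)) (BT.leaf (nat_lit 22384925))) (BT.node (nat_lit 6895808) (BT.leaf (nat_lit 27964949)) (BT.leaf (nat_lit 52029457)))))))) (BT.node (nat_lit 6897920) (BT.node (nat_lit 6896896) (BT.node (nat_lit 6896384) (BT.node (nat_lit 6896128) (BT.node (nat_lit 6896000) (BT.node (nat_lit 6895936) (BT.leaf (nat_lit 52425229)) (BT.leaf (nat_lit 33028641))) (BT.node (nat_lit 6896064) (BT.leaf (nat_lit 46478101)) (BT.leaf (nat_lit 34363665)))) (BT.node (nat_lit 6896256) (BT.node (nat_lit 6896192) (BT.leaf (nat_lit 45044997)) (BT.leaf (nat_lit 24788249))) (BT.node (nat_lit 6896320) (BT.leaf (nat_lit 24028421)) (BT.leaf (nat_lit 24786705))))) (BT.node (nat_lit 6896640) (BT.node (nat_lit 6896512) (BT.node (nat_lit 6896448) (BT.leaf (nat_lit 37877537)) (BT.leaf (nat_lit 38206229))) (BT.node (nat_lit 6896576) (BT.leaf (nat_lit 23644945)) (BT.leaf (nat_lit 24631829)))) (BT.node (nat_lit 6896768) (BT.node (nat_lit 6896704) (BT.leaf (nat_lit 22978837)) (BT.leaf (nat_lit 23947549))) (BT.node (nat_lit 6896832) (BT.leaf (nat_lit 31007761)) (BT.leaf (nat_lit 31007777)))))) (BT.node (nat_lit 6897408) (BT.node (nat_lit 6897152) (BT.node (nat_lit 6897024) (BT.node (nat_lit 6896960) (BT.leaf (nat_lit 31220757)) (BT.leaf (nat_lit 28946453))) (BT.node (nat_lit 6897088) (BT.leaf (nat_lit 38281753)) (BT.leaf (nat_lit 32721429)))) (BT.node (nat_lit 6897280) (BT.node (nat_lit 6897216) (BT.leaf (nat_lit 33810721)) (BT.leaf (nat_lit 22383121))) (BT.node (nat_lit 6897344) (BT.leaf (nat_lit 27629573)) (BT.leaf (nat_lit 22981913))))) (BT.node (nat_lit 6897664) (BT.node (nat_lit 6897536) (BT.node (nat_lit 6897472) (BT.leaf (nat_lit 30152209)) (BT.leaf (nat_lit 22538757))) (BT.node (nat_lit 6897600) (BT.leaf (nat_lit 28018449)) (BT.leaf (nat_lit 24205849)))) (BT.node (nat_lit 6897792) (BT.node (nat_lit 6897728) (BT.leaf (nat_lit 34714645)) (BT.leaf (nat_lit 22389785))) (BT.node (nat_lit 6897856) (BT.leaf (nat_lit 22422033)) (BT.leaf (nat_lit 23715613))))))) (BT.node (nat_lit 6898944) (BT.node (nat_lit 6898432) (BT.node (nat_lit 6898176) (BT.node (nat_lit 6898048) (BT.node (nat_lit 6897984) (BT.leaf (nat_lit 22385433)) (BT.leaf (nat_lit 22386205))) (BT.node (nat_lit 6898112) (BT.leaf (nat_lit 22385693)) (BT.leaf (nat_lit 22386201)))) (BT.node (nat_lit 6898304) (BT.node (nat_lit 6898240) (BT.leaf (nat_lit 30092053)) (BT.leaf (nat_lit 27577625))) (BT.node (nat_lit 6898368) (BT.leaf (nat_lit 31634977)) (BT.leaf (nat_lit 23256605))))) (BT.node (nat_lit 6898688) (BT.node (nat_lit 6898560) (BT.node (nat_lit 6898496) (BT.leaf (nat_lit 29863953)) (BT.leaf (nat_lit 27596825))) (BT.node (nat_lit 6898624) (BT.leaf (nat_lit 22339357)) (BT.leaf (nat_lit 27715605)))) (BT.node (nat_lit 6898816) (BT.node (nat_lit 6898752) (BT.leaf (nat_lit 27594505)) (BT.leaf (nat_lit 23666693))) (BT.node (nat_lit 6898880) (BT.leaf (nat_lit 46543629)) (BT.leaf (nat_lit 28588297)))))) (BT.node (nat_lit 6899456) (BT.node (nat_lit 6899200) (BT.node (nat_lit 6899072) (BT.node (nat_lit 6899008) (BT.leaf (nat_lit 27580693)) (BT.leaf (nat_lit 25881121))) (BT.node (nat_lit 6899136) (BT.leaf (nat_lit 22382609)) (BT.leaf (nat_lit 46432273)))) (BT.node (nat_lit 6899328) (BT.node (nat_lit 6899264) (BT.leaf (nat_lit 46483985)) (BT.leaf (nat_lit 35804697))) (BT.node (nat_lit 6899392) (BT.leaf (nat_lit 23275801)) (BT.leaf (nat_lit 46484241))))) (BT.node (nat_lit 6899712) (BT.node (nat_lit 6899584) (BT.node (nat_lit 6899520) (BT.leaf (nat_lit 28229893)) (BT.leaf (nat_lit 34062609))) (BT.node (nat_lit 6899648) (BT.leaf (nat_lit 38219781)) (BT.leaf (nat_lit 22388753)))) (BT.node (nat_lit 6899840) (BT.node (nat_lit 6899776) (BT.leaf (nat_lit 23257625)) (BT.leaf (nat_lit 33128989))) (BT.node (nat_lit 6899904) (BT.leaf (nat_lit 39235589)) (BT.leaf (nat_lit 23257861))))))))) (BT.node (nat_lit 6904064) (BT.node (nat_lit 6902016) (BT.node (nat_lit 6900992) (BT.node (nat_lit 6900480) (BT.node (nat_lit 6900224) (BT.node (nat_lit 6900096) (BT.node (nat_lit 6900032) (BT.leaf (nat_lit 33129493)) (BT.leaf (nat_lit 33889817))) (BT.node (nat_lit 6900160) (BT.leaf (nat_lit 23248413)) (BT.leaf (nat_lit 23635997)))) (BT.node (nat_lit 6900352) (BT.node (nat_lit 6900288) (BT.leaf (nat_lit 31721761)) (BT.leaf (nat_lit 30895389))) (BT.node (nat_lit 6900416) (BT.leaf (nat_lit 24646681)) (BT.leaf (nat_lit 32100613))))) (BT.node (nat_lit 6900736) (BT.node (nat_lit 6900608) (BT.node (nat_lit 6900544) (BT.leaf (nat_lit 27667233)) (BT.leaf (nat_lit 27590669))) (BT.node (nat_lit 6900672) (BT.leaf (nat_lit 34258977)) (BT.leaf (nat_lit 22422545)))) (BT.node (nat_lit 6900864) (BT.node (nat_lit 6900800) (BT.leaf (nat_lit 23674905)) (BT.leaf (nat_lit 27531545))) (BT.node (nat_lit 6900928) (BT.leaf (nat_lit 24143637)) (BT.leaf (nat_lit 31675921)))))) (BT.node (nat_lit 6901504) (BT.node (nat_lit 6901248) (BT.node (nat_lit 6901120) (BT.node (nat_lit 6901056) (BT.leaf (nat_lit 46451729)) (BT.leaf (nat_lit 24296709))) (BT.node (nat_lit 6901184) (BT.leaf (nat_lit 37747217)) (BT.leaf (nat_lit 34294301)))) (BT.node (nat_lit 6901376) (BT.node (nat_lit 6901312) (BT.leaf (nat_lit 34714629)) (BT.leaf (nat_lit 23714849))) (BT.node (nat_lit 6901440) (BT.leaf (nat_lit 27715865)) (BT.leaf (nat_lit 33131541))))) (BT.node (nat_lit 6901760) (BT.node (nat_lit 6901632) (BT.node (nat_lit 6901568) (BT.leaf (nat_lit 34723601)) (BT.leaf (nat_lit 23739169))) (BT.node (nat_lit 6901696) (BT.leaf (nat_lit 24532241)) (BT.leaf (nat_lit 27591429)))) (BT.node (nat_lit 6901888) (BT.node (nat_lit 6901824) (BT.leaf (nat_lit 22649093)) (BT.leaf (nat_lit 24474909))) (BT.node (nat_lit 6901952) (BT.leaf (nat_lit 22649105)) (BT.leaf (nat_lit 31676173))))))) (BT.node (nat_lit 6903040) (BT.node (nat_lit 6902528) (BT.node (nat_lit 6902272) (BT.node (nat_lit 6902144) (BT.node (nat_lit 6902080) (BT.leaf (nat_lit 29202721)) (BT.leaf (nat_lit 25665561))) (BT.node (nat_lit 6902208) (BT.leaf (nat_lit 29814805)) (BT.leaf (nat_lit 37912325)))) (BT.node (nat_lit 6902400) (BT.node (nat_lit 6902336) (BT.leaf (nat_lit 47640073)) (BT.leaf (nat_lit 24790813))) (BT.node (nat_lit 6902464) (BT.leaf (nat_lit 46490129)) (BT.leaf (nat_lit 22391313))))) (BT.node (nat_lit 6902784) (BT.node (nat_lit 6902656) (BT.node (nat_lit 6902592) (BT.leaf (nat_lit 22391825)) (BT.leaf (nat_lit 23258633))) (BT.node (nat_lit 6902720) (BT.leaf (nat_lit 22391577)) (BT.leaf (nat_lit 29278733)))) (BT.node (nat_lit 6902912) (BT.node (nat_lit 6902848) (BT.leaf (nat_lit 29278753)) (BT.leaf (nat_lit 23889693))) (BT.node (nat_lit 6902976) (BT.leaf (nat_lit 23889673)) (BT.leaf (nat_lit 31726625)))))) (BT.node (nat_lit 6903552) (BT.node (nat_lit 6903296) (BT.node (nat_lit 6903168) (BT.node (nat_lit 6903104) (BT.leaf (nat_lit 31727621)) (BT.leaf (nat_lit 24512789))) (BT.node (nat_lit 6903232) (BT.leaf (nat_lit 25664541)) (BT.leaf (nat_lit 24467741)))) (BT.node (nat_lit 6903424) (BT.node (nat_lit 6903360) (BT.leaf (nat_lit 24467481)) (BT.leaf (nat_lit 32444193))) (BT.node (nat_lit 6903488) (BT.leaf (nat_lit 38195477)) (BT.leaf (nat_lit 29222665))))) (BT.node (nat_lit 6903808) (BT.node (nat_lit 6903680) (BT.node (nat_lit 6903616) (BT.leaf (nat_lit 29823245)) (BT.leaf (nat_lit 27520545))) (BT.node (nat_lit 6903744) (BT.leaf (nat_lit 51634453)) (BT.leaf (nat_lit 28253469)))) (BT.node (nat_lit 6903936) (BT.node (nat_lit 6903872) (BT.leaf (nat_lit 31242249)) (BT.leaf (nat_lit 33895965))) (BT.node (nat_lit 6904000) (BT.leaf (nat_lit 33895949)) (BT.leaf (nat_lit 28100877)))))))) (BT.node (nat_lit 6906112) (BT.node (nat_lit 6905088) (BT.node (nat_lit 6904576) (BT.node (nat_lit 6904320) (BT.node (nat_lit 6904192) (BT.node (nat_lit 6904128) (BT.leaf (nat_lit 29439265)) (BT.leaf (nat_lit 23268369))) (BT.node (nat_lit 6904256) (BT.leaf (nat_lit 38255893)) (BT.leaf (nat_lit 23298065)))) (BT.node (nat_lit 6904448) (BT.node (nat_lit 6904384) (BT.leaf (nat_lit 33729029)) (BT.leaf (nat_lit 33040917))) (BT.node (nat_lit 6904512) (BT.leaf (nat_lit 34867477)) (BT.leaf (nat_lit 48749837))))) (BT.node (nat_lit 6904832) (BT.node (nat_lit 6904704) (BT.node (nat_lit 6904640) (BT.leaf (nat_lit 29781005)) (BT.leaf (nat_lit 25513233))) (BT.node (nat_lit 6904768) (BT.leaf (nat_lit 46496017)) (BT.leaf (nat_lit 23648793)))) (BT.node (nat_lit 6904960) (BT.node (nat_lit 6904896) (BT.leaf (nat_lit 47676677)) (BT.leaf (nat_lit 29975825))) (BT.node (nat_lit 6905024) (BT.leaf (nat_lit 33041177)) (BT.leaf (nat_lit 29771549)))))) (BT.node (nat_lit 6905600) (BT.node (nat_lit 6905344) (BT.node (nat_lit 6905216) (BT.node (nat_lit 6905152) (BT.leaf (nat_lit 23664657)) (BT.leaf (nat_lit 48268817))) (BT.node (nat_lit 6905280) (BT.leaf (nat_lit 32434453)) (BT.leaf (nat_lit 23528993)))) (BT.node (nat_lit 6905472) (BT.node (nat_lit 6905408) (BT.leaf (nat_lit 38267913)) (BT.leaf (nat_lit 23022101))) (BT.node (nat_lit 6905536) (BT.leaf (nat_lit 30104353)) (BT.leaf (nat_lit 34474001))))) (BT.node (nat_lit 6905856) (BT.node (nat_lit 6905728) (BT.node (nat_lit 6905664) (BT.leaf (nat_lit 31088145)) (BT.leaf (nat_lit 24292625))) (BT.node (nat_lit 6905792) (BT.leaf (nat_lit 30243593)) (BT.leaf (nat_lit 46499349)))) (BT.node (nat_lit 6905984) (BT.node (nat_lit 6905920) (BT.leaf (nat_lit 29711881)) (BT.leaf (nat_lit 37749513))) (BT.node (nat_lit 6906048) (BT.leaf (nat_lit 36892941)) (BT.leaf (nat_lit 51218193))))))) (BT.node (nat_lit 6907136) (BT.node (nat_lit 6906624) (BT.node (nat_lit 6906368) (BT.node (nat_lit 6906240) (BT.node (nat_lit 6906176) (BT.leaf (nat_lit 27984145)) (BT.leaf (nat_lit 30736389))) (BT.node (nat_lit 6906304) (BT.leaf (nat_lit 23780129)) (BT.leaf (nat_lit 32573705)))) (BT.node (nat_lit 6906496) (BT.node (nat_lit 6906432) (BT.leaf (nat_lit 24631837)) (BT.leaf (nat_lit 24216349))) (BT.node (nat_lit 6906560) (BT.leaf (nat_lit 29369605)) (BT.leaf (nat_lit 29601293))))) (BT.node (nat_lit 6906880) (BT.node (nat_lit 6906752) (BT.node (nat_lit 6906688) (BT.leaf (nat_lit 31018517)) (BT.leaf (nat_lit 31010325))) (BT.node (nat_lit 6906816) (BT.leaf (nat_lit 51016205)) (BT.leaf (nat_lit 38263301)))) (BT.node (nat_lit 6907008) (BT.node (nat_lit 6906944) (BT.leaf (nat_lit 28046101)) (BT.leaf (nat_lit 34964769))) (BT.node (nat_lit 6907072) (BT.leaf (nat_lit 51016217)) (BT.leaf (nat_lit 51016221)))))) (BT.node (nat_lit 6907648) (BT.node (nat_lit 6907392) (BT.node (nat_lit 6907264) (BT.node (nat_lit 6907200) (BT.leaf (nat_lit 32149253)) (BT.leaf (nat_lit 27585805))) (BT.node (nat_lit 6907328) (BT.leaf (nat_lit 30340381)) (BT.leaf (nat_lit 28127773)))) (BT.node (nat_lit 6907520) (BT.node (nat_lit 6907456) (BT.leaf (nat_lit 50789137)) (BT.leaf (nat_lit 46502149))) (BT.node (nat_lit 6907584) (BT.leaf (nat_lit 24587293)) (BT.leaf (nat_lit 36024597))))) (BT.node (nat_lit 6907904) (BT.node (nat_lit 6907776) (BT.node (nat_lit 6907712) (BT.leaf (nat_lit 46502433)) (BT.leaf (nat_lit 46502677))) (BT.node (nat_lit 6907840) (BT.leaf (nat_lit 46502409)) (BT.leaf (nat_lit 27916805)))) (BT.node (nat_lit 6908032) (BT.node (nat_lit 6907968) (BT.leaf (nat_lit 28012817)) (BT.leaf (nat_lit 24034333))) (BT.node (nat_lit 6908096) (BT.leaf (nat_lit 46503185)) (BT.leaf (nat_lit 26434841))))))))))) (BT.node (nat_lit 6924544) (BT.node (nat_lit 6916352) (BT.node (nat_lit 6912256) (BT.node (nat_lit 6910208) (BT.node (nat_lit 6909184) (BT.node (nat_lit 6908672) (BT.node (nat_lit 6908416) (BT.node (nat_lit 6908288) (BT.node (nat_lit 6908224) (BT.leaf (nat_lit 28011281)) (BT.leaf (nat_lit 23292165))) (BT.node (nat_lit 6908352) (BT.leaf (nat_lit 23292181)) (BT.leaf (nat_lit 23292185)))) (BT.node (nat_lit 6908544) (BT.node (nat_lit 6908480) (BT.leaf (nat_lit 23292189)) (BT.leaf (nat_lit 46479113))) (BT.node (nat_lit 6908608) (BT.leaf (nat_lit 36189969)) (BT.leaf (nat_lit 34605853))))) (BT.node (nat_lit 6908928) (BT.node (nat_lit 6908800) (BT.node (nat_lit 6908736) (BT.leaf (nat_lit 34558745)) (BT.leaf (nat_lit 46503961))) (BT.node (nat_lit 6908864) (BT.leaf (nat_lit 27635485)) (BT.leaf (nat_lit 34558733)))) (BT.node (nat_lit 6909056) (BT.node (nat_lit 6908992) (BT.leaf (nat_lit 37334805)) (BT.leaf (nat_lit 25317909))) (BT.node (nat_lit 6909120) (BT.leaf (nat_lit 37334801)) (BT.leaf (nat_lit 32741137)))))) (BT.node (nat_lit 6909696) (BT.node (nat_lit 6909440) (BT.node (nat_lit 6909312) (BT.node (nat_lit 6909248) (BT.leaf (nat_lit 46505505)) (BT.leaf (nat_lit 38319109))) (BT.node (nat_lit 6909376) (BT.leaf (nat_lit 24520213)) (BT.leaf (nat_lit 27637789)))) (BT.node (nat_lit 6909568) (BT.node (nat_lit 6909504) (BT.leaf (nat_lit 46321681)) (BT.leaf (nat_lit 23364881))) (BT.node (nat_lit 6909632) (BT.leaf (nat_lit 33453077)) (BT.leaf (nat_lit 46507029))))) (BT.node (nat_lit 6909952) (BT.node (nat_lit 6909824) (BT.node (nat_lit 6909760) (BT.leaf (nat_lit 29043729)) (BT.leaf (nat_lit 29659657))) (BT.node (nat_lit 6909888) (BT.leaf (nat_lit 31993873)) (BT.leaf (nat_lit 23320349)))) (BT.node (nat_lit 6910080) (BT.node (nat_lit 6910016) (BT.leaf (nat_lit 28098325)) (BT.leaf (nat_lit 28612369))) (BT.node (nat_lit 6910144) (BT.leaf (nat_lit 22846741)) (BT.leaf (nat_lit 27650837))))))) (BT.node (nat_lit 6911232) (BT.node (nat_lit 6910720) (BT.node (nat_lit 6910464) (BT.node (nat_lit 6910336) (BT.node (nat_lit 6910272) (BT.leaf (nat_lit 33550609)) (BT.leaf (nat_lit 27654665))) (BT.node (nat_lit 6910400) (BT.leaf (nat_lit 29096481)) (BT.leaf (nat_lit 27641869)))) (BT.node (nat_lit 6910592) (BT.node (nat_lit 6910528) (BT.leaf (nat_lit 24947221)) (BT.leaf (nat_lit 27650317))) (BT.node (nat_lit 6910656) (BT.leaf (nat_lit 25624853)) (BT.leaf (nat_lit 33039901))))) (BT.node (nat_lit 6910976) (BT.node (nat_lit 6910848) (BT.node (nat_lit 6910784) (BT.leaf (nat_lit 31513633)) (BT.leaf (nat_lit 33392901))) (BT.node (nat_lit 6910912) (BT.leaf (nat_lit 34640673)) (BT.leaf (nat_lit 31040021)))) (BT.node (nat_lit 6911104) (BT.node (nat_lit 6911040) (BT.leaf (nat_lit 22846481)) (BT.leaf (nat_lit 36092177))) (BT.node (nat_lit 6911168) (BT.leaf (nat_lit 47158033)) (BT.leaf (nat_lit 34434585)))))) (BT.node (nat_lit 6911744) (BT.node (nat_lit 6911488) (BT.node (nat_lit 6911360) (BT.node (nat_lit 6911296) (BT.leaf (nat_lit 22459153)) (BT.leaf (nat_lit 22459169))) (BT.node (nat_lit 6911424) (BT.leaf (nat_lit 27801617)) (BT.leaf (nat_lit 30489885)))) (BT.node (nat_lit 6911616) (BT.node (nat_lit 6911552) (BT.leaf (nat_lit 22543645)) (BT.leaf (nat_lit 28201477))) (BT.node (nat_lit 6911680) (BT.leaf (nat_lit 35671585)) (BT.leaf (nat_lit 32146709))))) (BT.node (nat_lit 6912000) (BT.node (nat_lit 6911872) (BT.node (nat_lit 6911808) (BT.leaf (nat_lit 35093261)) (BT.leaf (nat_lit 22399249))) (BT.node (nat_lit 6911936) (BT.leaf (nat_lit 31076369)) (BT.leaf (nat_lit 47419937)))) (BT.node (nat_lit 6912128) (BT.node (nat_lit 6912064) (BT.leaf (nat_lit 33289237)) (BT.leaf (nat_lit 35094789))) (BT.node (nat_lit 6912192) (BT.leaf (nat_lit 24948245)) (BT.leaf (nat_lit 24638241)))))))) (BT.node (nat_lit 6914304) (BT.node (nat_lit 6913280) (BT.node (nat_lit 6912768) (BT.node (nat_lit 6912512) (BT.node (nat_lit 6912384) (BT.node (nat_lit 6912320) (BT.leaf (nat_lit 29596449)) (BT.leaf (nat_lit 31097873))) (BT.node (nat_lit 6912448) (BT.leaf (nat_lit 47582481)) (BT.leaf (nat_lit 22400789)))) (BT.node (nat_lit 6912640) (BT.node (nat_lit 6912576) (BT.leaf (nat_lit 27641885)) (BT.leaf (nat_lit 24947989))) (BT.node (nat_lit 6912704) (BT.leaf (nat_lit 33157149)) (BT.leaf (nat_lit 25645073))))) (BT.node (nat_lit 6913024) (BT.node (nat_lit 6912896) (BT.node (nat_lit 6912832) (BT.leaf (nat_lit 46327325)) (BT.leaf (nat_lit 48431885))) (BT.node (nat_lit 6912960) (BT.leaf (nat_lit 35072785)) (BT.leaf (nat_lit 36154657)))) (BT.node (nat_lit 6913152) (BT.node (nat_lit 6913088) (BT.leaf (nat_lit 38335761)) (BT.leaf (nat_lit 22610201))) (BT.node (nat_lit 6913216) (BT.leaf (nat_lit 22610205)) (BT.leaf (nat_lit 36155141)))))) (BT.node (nat_lit 6913792) (BT.node (nat_lit 6913536) (BT.node (nat_lit 6913408) (BT.node (nat_lit 6913344) (BT.leaf (nat_lit 22401557)) (BT.leaf (nat_lit 33058073))) (BT.node (nat_lit 6913472) (BT.leaf (nat_lit 25706501)) (BT.leaf (nat_lit 42233113)))) (BT.node (nat_lit 6913664) (BT.node (nat_lit 6913600) (BT.leaf (nat_lit 28881677)) (BT.leaf (nat_lit 46508045))) (BT.node (nat_lit 6913728) (BT.leaf (nat_lit 22401301)) (BT.leaf (nat_lit 34640393))))) (BT.node (nat_lit 6914048) (BT.node (nat_lit 6913920) (BT.node (nat_lit 6913856) (BT.leaf (nat_lit 25841949)) (BT.leaf (nat_lit 27682329))) (BT.node (nat_lit 6913984) (BT.leaf (nat_lit 31240729)) (BT.leaf (nat_lit 22597409)))) (BT.node (nat_lit 6914176) (BT.node (nat_lit 6914112) (BT.leaf (nat_lit 22972449)) (BT.leaf (nat_lit 22597665))) (BT.node (nat_lit 6914240) (BT.leaf (nat_lit 22405137)) (BT.leaf (nat_lit 31105821))))))) (BT.node (nat_lit 6915328) (BT.node (nat_lit 6914816) (BT.node (nat_lit 6914560) (BT.node (nat_lit 6914432) (BT.node (nat_lit 6914368) (BT.leaf (nat_lit 46479117)) (BT.leaf (nat_lit 46515489))) (BT.node (nat_lit 6914496) (BT.leaf (nat_lit 46516257)) (BT.leaf (nat_lit 32083985)))) (BT.node (nat_lit 6914688) (BT.node (nat_lit 6914624) (BT.leaf (nat_lit 46516769)) (BT.leaf (nat_lit 46517025))) (BT.node (nat_lit 6914752) (BT.leaf (nat_lit 36253717)) (BT.leaf (nat_lit 23962393))))) (BT.node (nat_lit 6915072) (BT.node (nat_lit 6914944) (BT.node (nat_lit 6914880) (BT.leaf (nat_lit 22405401)) (BT.leaf (nat_lit 22298393))) (BT.node (nat_lit 6915008) (BT.leaf (nat_lit 22870801)) (BT.leaf (nat_lit 31428117)))) (BT.node (nat_lit 6915200) (BT.node (nat_lit 6915136) (BT.leaf (nat_lit 22403357)) (BT.leaf (nat_lit 22405405))) (BT.node (nat_lit 6915264) (BT.leaf (nat_lit 22298397)) (BT.leaf (nat_lit 24881685)))))) (BT.node (nat_lit 6915840) (BT.node (nat_lit 6915584) (BT.node (nat_lit 6915456) (BT.node (nat_lit 6915392) (BT.leaf (nat_lit 45018645)) (BT.leaf (nat_lit 46518289))) (BT.node (nat_lit 6915520) (BT.leaf (nat_lit 24365073)) (BT.leaf (nat_lit 23021329)))) (BT.node (nat_lit 6915712) (BT.node (nat_lit 6915648) (BT.leaf (nat_lit 32470021)) (BT.leaf (nat_lit 28213253))) (BT.node (nat_lit 6915776) (BT.leaf (nat_lit 38345733)) (BT.leaf (nat_lit 23053585))))) (BT.node (nat_lit 6916096) (BT.node (nat_lit 6915968) (BT.node (nat_lit 6915904) (BT.leaf (nat_lit 22688273)) (BT.leaf (nat_lit 22693393))) (BT.node (nat_lit 6916032) (BT.leaf (nat_lit 23905049)) (BT.leaf (nat_lit 30832649)))) (BT.node (nat_lit 6916224) (BT.node (nat_lit 6916160) (BT.leaf (nat_lit 23631637)) (BT.leaf (nat_lit 22449681))) (BT.node (nat_lit 6916288) (BT.leaf (nat_lit 36465177)) (BT.leaf (nat_lit 22457377))))))))) (BT.node (nat_lit 6920448) (BT.node (nat_lit 6918400) (BT.node (nat_lit 6917376) (BT.node (nat_lit 6916864) (BT.node (nat_lit 6916608) (BT.node (nat_lit 6916480) (BT.node (nat_lit 6916416) (BT.leaf (nat_lit 22457885)) (BT.leaf (nat_lit 22450185))) (BT.node (nat_lit 6916544) (BT.leaf (nat_lit 22450189)) (BT.leaf (nat_lit 46521349)))) (BT.node (nat_lit 6916736) (BT.node (nat_lit 6916672) (BT.leaf (nat_lit 22450205)) (BT.leaf (nat_lit 22410001))) (BT.node (nat_lit 6916800) (BT.leaf (nat_lit 31072273)) (BT.leaf (nat_lit 38360597))))) (BT.node (nat_lit 6917120) (BT.node (nat_lit 6916992) (BT.node (nat_lit 6916928) (BT.leaf (nat_lit 49360401)) (BT.leaf (nat_lit 23788037))) (BT.node (nat_lit 6917056) (BT.leaf (nat_lit 23788049)) (BT.leaf (nat_lit 22830865)))) (BT.node (nat_lit 6917248) (BT.node (nat_lit 6917184) (BT.leaf (nat_lit 23120389)) (BT.leaf (nat_lit 22410521))) (BT.node (nat_lit 6917312) (BT.leaf (nat_lit 46522901)) (BT.leaf (nat_lit 23122437)))))) (BT.node (nat_lit 6917888) (BT.node (nat_lit 6917632) (BT.node (nat_lit 6917504) (BT.node (nat_lit 6917440) (BT.leaf (nat_lit 47574809)) (BT.leaf (nat_lit 47574813))) (BT.node (nat_lit 6917568) (BT.leaf (nat_lit 50071049)) (BT.leaf (nat_lit 24504089)))) (BT.node (nat_lit 6917760) (BT.node (nat_lit 6917696) (BT.leaf (nat_lit 50072841)) (BT.leaf (nat_lit 27682845))) (BT.node (nat_lit 6917824) (BT.leaf (nat_lit 46523413)) (BT.leaf (nat_lit 27671065))))) (BT.node (nat_lit 6918144) (BT.node (nat_lit 6918016) (BT.node (nat_lit 6917952) (BT.leaf (nat_lit 25715473)) (BT.leaf (nat_lit 52121881))) (BT.node (nat_lit 6918080) (BT.leaf (nat_lit 51802645)) (BT.leaf (nat_lit 50733069)))) (BT.node (nat_lit 6918272) (BT.node (nat_lit 6918208) (BT.leaf (nat_lit 31374853)) (BT.leaf (nat_lit 32611605))) (BT.node (nat_lit 6918336) (BT.leaf (nat_lit 46525205)) (BT.leaf (nat_lit 23960845))))))) (BT.node (nat_lit 6919424) (BT.node (nat_lit 6918912) (BT.node (nat_lit 6918656) (BT.node (nat_lit 6918528) (BT.node (nat_lit 6918464) (BT.leaf (nat_lit 35153941)) (BT.leaf (nat_lit 30125849))) (BT.node (nat_lit 6918592) (BT.leaf (nat_lit 46318357)) (BT.leaf (nat_lit 35157257)))) (BT.node (nat_lit 6918784) (BT.node (nat_lit 6918720) (BT.leaf (nat_lit 38794009)) (BT.leaf (nat_lit 34003221))) (BT.node (nat_lit 6918848) (BT.leaf (nat_lit 33947681)) (BT.leaf (nat_lit 29124625))))) (BT.node (nat_lit 6919168) (BT.node (nat_lit 6919040) (BT.node (nat_lit 6918976) (BT.leaf (nat_lit 29124641)) (BT.leaf (nat_lit 35091481))) (BT.node (nat_lit 6919104) (BT.leaf (nat_lit 28987665)) (BT.leaf (nat_lit 24542493)))) (BT.node (nat_lit 6919296) (BT.node (nat_lit 6919232) (BT.leaf (nat_lit 24193313)) (BT.leaf (nat_lit 31516961))) (BT.node (nat_lit 6919360) (BT.leaf (nat_lit 46527765)) (BT.leaf (nat_lit 31517217)))))) (BT.node (nat_lit 6919936) (BT.node (nat_lit 6919680) (BT.node (nat_lit 6919552) (BT.node (nat_lit 6919488) (BT.leaf (nat_lit 29099553)) (BT.leaf (nat_lit 29373973))) (BT.node (nat_lit 6919616) (BT.leaf (nat_lit 33533201)) (BT.leaf (nat_lit 47866397)))) (BT.node (nat_lit 6919808) (BT.node (nat_lit 6919744) (BT.leaf (nat_lit 24091169)) (BT.leaf (nat_lit 35183121))) (BT.node (nat_lit 6919872) (BT.leaf (nat_lit 37055237)) (BT.leaf (nat_lit 33636129))))) (BT.node (nat_lit 6920192) (BT.node (nat_lit 6920064) (BT.node (nat_lit 6920000) (BT.leaf (nat_lit 51452689)) (BT.leaf (nat_lit 51452705))) (BT.node (nat_lit 6920128) (BT.leaf (nat_lit 37987873)) (BT.leaf (nat_lit 22414361)))) (BT.node (nat_lit 6920320) (BT.node (nat_lit 6920256) (BT.leaf (nat_lit 22832657)) (BT.leaf (nat_lit 46445849))) (BT.node (nat_lit 6920384) (BT.leaf (nat_lit 47428873)) (BT.leaf (nat_lit 50071045)))))))) (BT.node (nat_lit 6922496) (BT.node (nat_lit 6921472) (BT.node (nat_lit 6920960) (BT.node (nat_lit 6920704) (BT.node (nat_lit 6920576) (BT.node (nat_lit 6920512) (BT.leaf (nat_lit 30182177)) (BT.leaf (nat_lit 33607709))) (BT.node (nat_lit 6920640) (BT.leaf (nat_lit 26021129)) (BT.leaf (nat_lit 46530069)))) (BT.node (nat_lit 6920832) (BT.node (nat_lit 6920768) (BT.leaf (nat_lit 35408657)) (BT.leaf (nat_lit 31533345))) (BT.node (nat_lit 6920896) (BT.leaf (nat_lit 30751505)) (BT.leaf (nat_lit 30792197))))) (BT.node (nat_lit 6921216) (BT.node (nat_lit 6921088) (BT.node (nat_lit 6921024) (BT.leaf (nat_lit 51256589)) (BT.leaf (nat_lit 27695125))) (BT.node (nat_lit 6921152) (BT.leaf (nat_lit 34642209)) (BT.leaf (nat_lit 34195729)))) (BT.node (nat_lit 6921344) (BT.node (nat_lit 6921280) (BT.leaf (nat_lit 23939869)) (BT.leaf (nat_lit 47661593))) (BT.node (nat_lit 6921408) (BT.leaf (nat_lit 47661597)) (BT.leaf (nat_lit 27695901)))))) (BT.node (nat_lit 6921984) (BT.node (nat_lit 6921728) (BT.node (nat_lit 6921600) (BT.node (nat_lit 6921536) (BT.leaf (nat_lit 27355409)) (BT.leaf (nat_lit 28906769))) (BT.node (nat_lit 6921664) (BT.leaf (nat_lit 24372501)) (BT.leaf (nat_lit 24372505)))) (BT.node (nat_lit 6921856) (BT.node (nat_lit 6921792) (BT.leaf (nat_lit 24372509)) (BT.leaf (nat_lit 33625881))) (BT.node (nat_lit 6921920) (BT.leaf (nat_lit 31527969)) (BT.leaf (nat_lit 28887317))))) (BT.node (nat_lit 6922240) (BT.node (nat_lit 6922112) (BT.node (nat_lit 6922048) (BT.leaf (nat_lit 28887321)) (BT.leaf (nat_lit 28887325))) (BT.node (nat_lit 6922176) (BT.leaf (nat_lit 50733065)) (BT.leaf (nat_lit 25622033)))) (BT.node (nat_lit 6922368) (BT.node (nat_lit 6922304) (BT.leaf (nat_lit 25622049)) (BT.leaf (nat_lit 31568145))) (BT.node (nat_lit 6922432) (BT.leaf (nat_lit 38372385)) (BT.leaf (nat_lit 37716253))))))) (BT.node (nat_lit 6923520) (BT.node (nat_lit 6923008) (BT.node (nat_lit 6922752) (BT.node (nat_lit 6922624) (BT.node (nat_lit 6922560) (BT.leaf (nat_lit 29389601)) (BT.leaf (nat_lit 33947653))) (BT.node (nat_lit 6922688) (BT.leaf (nat_lit 22884637)) (BT.leaf (nat_lit 22699029)))) (BT.node (nat_lit 6922880) (BT.node (nat_lit 6922816) (BT.leaf (nat_lit 29388037)) (BT.leaf (nat_lit 29388053))) (BT.node (nat_lit 6922944) (BT.leaf (nat_lit 48116493)) (BT.leaf (nat_lit 48129569))))) (BT.node (nat_lit 6923264) (BT.node (nat_lit 6923136) (BT.node (nat_lit 6923072) (BT.leaf (nat_lit 48116485)) (BT.leaf (nat_lit 29546525))) (BT.node (nat_lit 6923200) (BT.leaf (nat_lit 50071053)) (BT.leaf (nat_lit 28363041)))) (BT.node (nat_lit 6923392) (BT.node (nat_lit 6923328) (BT.leaf (nat_lit 27897873)) (BT.leaf (nat_lit 27675909))) (BT.node (nat_lit 6923456) (BT.leaf (nat_lit 24817953)) (BT.leaf (nat_lit 30798609)))))) (BT.node (nat_lit 6924032) (BT.node (nat_lit 6923776) (BT.node (nat_lit 6923648) (BT.node (nat_lit 6923584) (BT.leaf (nat_lit 22940165)) (BT.leaf (nat_lit 24503573))) (BT.node (nat_lit 6923712) (BT.leaf (nat_lit 24503577)) (BT.leaf (nat_lit 24503581)))) (BT.node (nat_lit 6923904) (BT.node (nat_lit 6923840) (BT.leaf (nat_lit 22940169)) (BT.leaf (nat_lit 27682841))) (BT.node (nat_lit 6923968) (BT.leaf (nat_lit 22940177)) (BT.leaf (nat_lit 35408401))))) (BT.node (nat_lit 6924288) (BT.node (nat_lit 6924160) (BT.node (nat_lit 6924096) (BT.leaf (nat_lit 34514461)) (BT.leaf (nat_lit 28668181))) (BT.node (nat_lit 6924224) (BT.leaf (nat_lit 28668185)) (BT.leaf (nat_lit 28668189)))) (BT.node (nat_lit 6924416) (BT.node (nat_lit 6924352) (BT.leaf (nat_lit 35084553)) (BT.leaf (nat_lit 27673097))) (BT.node (nat_lit 6924480) (BT.leaf (nat_lit 28231685)) (BT.leaf (nat_lit 28225561)))))))))) (BT.node (nat_lit 6932736) (BT.node (nat_lit 6928640) (BT.node (nat_lit 6926592) (BT.node (nat_lit 6925568) (BT.node (nat_lit 6925056) (BT.node (nat_lit 6924800) (BT.node (nat_lit 6924672) (BT.node (nat_lit 6924608) (BT.leaf (nat_lit 29248789)) (BT.leaf (nat_lit 46532889))) (BT.node (nat_lit 6924736) (BT.leaf (nat_lit 46533149)) (BT.leaf (nat_lit 47992341)))) (BT.node (nat_lit 6924928) (BT.node (nat_lit 6924864) (BT.leaf (nat_lit 31386373)) (BT.leaf (nat_lit 37181981))) (BT.node (nat_lit 6924992) (BT.leaf (nat_lit 35200789)) (BT.leaf (nat_lit 31520517))))) (BT.node (nat_lit 6925312) (BT.node (nat_lit 6925184) (BT.node (nat_lit 6925120) (BT.leaf (nat_lit 46534429)) (BT.leaf (nat_lit 46328605))) (BT.node (nat_lit 6925248) (BT.leaf (nat_lit 46328585)) (BT.leaf (nat_lit 27700761)))) (BT.node (nat_lit 6925440) (BT.node (nat_lit 6925376) (BT.leaf (nat_lit 22915361)) (BT.leaf (nat_lit 28482845))) (BT.node (nat_lit 6925504) (BT.leaf (nat_lit 27368729)) (BT.leaf (nat_lit 27368733)))))) (BT.node (nat_lit 6926080) (BT.node (nat_lit 6925824) (BT.node (nat_lit 6925696) (BT.node (nat_lit 6925632) (BT.leaf (nat_lit 34976017)) (BT.leaf (nat_lit 33017377))) (BT.node (nat_lit 6925760) (BT.leaf (nat_lit 38418949)) (BT.leaf (nat_lit 31388165)))) (BT.node (nat_lit 6925952) (BT.node (nat_lit 6925888) (BT.leaf (nat_lit 27697693)) (BT.leaf (nat_lit 24296201))) (BT.node (nat_lit 6926016) (BT.leaf (nat_lit 24296221)) (BT.leaf (nat_lit 31077409))))) (BT.node (nat_lit 6926336) (BT.node (nat_lit 6926208) (BT.node (nat_lit 6926144) (BT.leaf (nat_lit 36872481)) (BT.leaf (nat_lit 29458453))) (BT.node (nat_lit 6926272) (BT.leaf (nat_lit 35470109)) (BT.leaf (nat_lit 22419229)))) (BT.node (nat_lit 6926464) (BT.node (nat_lit 6926400) (BT.leaf (nat_lit 50362629)) (BT.leaf (nat_lit 24956953))) (BT.node (nat_lit 6926528) (BT.leaf (nat_lit 23242509)) (BT.leaf (nat_lit 27352097))))))) (BT.node (nat_lit 6927616) (BT.node (nat_lit 6927104) (BT.node (nat_lit 6926848) (BT.node (nat_lit 6926720) (BT.node (nat_lit 6926656) (BT.leaf (nat_lit 24752161)) (BT.leaf (nat_lit 47117589))) (BT.node (nat_lit 6926784) (BT.leaf (nat_lit 26005005)) (BT.leaf (nat_lit 28092193)))) (BT.node (nat_lit 6926976) (BT.node (nat_lit 6926912) (BT.leaf (nat_lit 26348305)) (BT.leaf (nat_lit 23473937))) (BT.node (nat_lit 6927040) (BT.leaf (nat_lit 30262817)) (BT.leaf (nat_lit 47346709))))) (BT.node (nat_lit 6927360) (BT.node (nat_lit 6927232) (BT.node (nat_lit 6927168) (BT.leaf (nat_lit 52125213)) (BT.leaf (nat_lit 23206417))) (BT.node (nat_lit 6927296) (BT.leaf (nat_lit 46537249)) (BT.leaf (nat_lit 46537477)))) (BT.node (nat_lit 6927488) (BT.node (nat_lit 6927424) (BT.leaf (nat_lit 23001629)) (BT.leaf (nat_lit 24650245))) (BT.node (nat_lit 6927552) (BT.leaf (nat_lit 22419985)) (BT.leaf (nat_lit 22712597)))))) (BT.node (nat_lit 6928128) (BT.node (nat_lit 6927872) (BT.node (nat_lit 6927744) (BT.node (nat_lit 6927680) (BT.leaf (nat_lit 42328325)) (BT.leaf (nat_lit 46537733))) (BT.node (nat_lit 6927808) (BT.leaf (nat_lit 22919185)) (BT.leaf (nat_lit 22807573)))) (BT.node (nat_lit 6928000) (BT.node (nat_lit 6927936) (BT.leaf (nat_lit 22807577)) (BT.leaf (nat_lit 22807581))) (BT.node (nat_lit 6928064) (BT.leaf (nat_lit 28154393)) (BT.leaf (nat_lit 28551953))))) (BT.node (nat_lit 6928384) (BT.node (nat_lit 6928256) (BT.node (nat_lit 6928192) (BT.leaf (nat_lit 28675077)) (BT.leaf (nat_lit 37241625))) (BT.node (nat_lit 6928320) (BT.leaf (nat_lit 25410309)) (BT.leaf (nat_lit 34723617)))) (BT.node (nat_lit 6928512) (BT.node (nat_lit 6928448) (BT.leaf (nat_lit 31680797)) (BT.leaf (nat_lit 48481045))) (BT.node (nat_lit 6928576) (BT.leaf (nat_lit 48481049)) (BT.leaf (nat_lit 22423057)))))))) (BT.node (nat_lit 6930688) (BT.node (nat_lit 6929664) (BT.node (nat_lit 6929152) (BT.node (nat_lit 6928896) (BT.node (nat_lit 6928768) (BT.node (nat_lit 6928704) (BT.leaf (nat_lit 46540821)) (BT.leaf (nat_lit 26342941))) (BT.node (nat_lit 6928832) (BT.leaf (nat_lit 30612745)) (BT.leaf (nat_lit 27955993)))) (BT.node (nat_lit 6929024) (BT.node (nat_lit 6928960) (BT.leaf (nat_lit 46757905)) (BT.leaf (nat_lit 23876373))) (BT.node (nat_lit 6929088) (BT.leaf (nat_lit 23715601)) (BT.leaf (nat_lit 24132885))))) (BT.node (nat_lit 6929408) (BT.node (nat_lit 6929280) (BT.node (nat_lit 6929216) (BT.leaf (nat_lit 35640077)) (BT.leaf (nat_lit 51819273))) (BT.node (nat_lit 6929344) (BT.leaf (nat_lit 51345953)) (BT.leaf (nat_lit 28894485)))) (BT.node (nat_lit 6929536) (BT.node (nat_lit 6929472) (BT.leaf (nat_lit 37474065)) (BT.leaf (nat_lit 28328965))) (BT.node (nat_lit 6929600) (BT.leaf (nat_lit 25241109)) (BT.leaf (nat_lit 33499165)))))) (BT.node (nat_lit 6930176) (BT.node (nat_lit 6929920) (BT.node (nat_lit 6929792) (BT.node (nat_lit 6929728) (BT.leaf (nat_lit 34177297)) (BT.leaf (nat_lit 23978777))) (BT.node (nat_lit 6929856) (BT.leaf (nat_lit 24622113)) (BT.leaf (nat_lit 22929953)))) (BT.node (nat_lit 6930048) (BT.node (nat_lit 6929984) (BT.leaf (nat_lit 46547741)) (BT.leaf (nat_lit 23931913))) (BT.node (nat_lit 6930112) (BT.leaf (nat_lit 29231897)) (BT.leaf (nat_lit 51819277))))) (BT.node (nat_lit 6930432) (BT.node (nat_lit 6930304) (BT.node (nat_lit 6930240) (BT.leaf (nat_lit 46547477)) (BT.leaf (nat_lit 51819293))) (BT.node (nat_lit 6930368) (BT.leaf (nat_lit 51819297)) (BT.leaf (nat_lit 28680473)))) (BT.node (nat_lit 6930560) (BT.node (nat_lit 6930496) (BT.leaf (nat_lit 33367837)) (BT.leaf (nat_lit 26369553))) (BT.node (nat_lit 6930624) (BT.leaf (nat_lit 28685333)) (BT.leaf (nat_lit 36973597))))))) (BT.node (nat_lit 6931712) (BT.node (nat_lit 6931200) (BT.node (nat_lit 6930944) (BT.node (nat_lit 6930816) (BT.node (nat_lit 6930752) (BT.leaf (nat_lit 51950093)) (BT.leaf (nat_lit 22425873))) (BT.node (nat_lit 6930880) (BT.leaf (nat_lit 46547205)) (BT.leaf (nat_lit 46758173)))) (BT.node (nat_lit 6931072) (BT.node (nat_lit 6931008) (BT.leaf (nat_lit 24646173)) (BT.leaf (nat_lit 23303701))) (BT.node (nat_lit 6931136) (BT.leaf (nat_lit 23304213)) (BT.leaf (nat_lit 35144729))))) (BT.node (nat_lit 6931456) (BT.node (nat_lit 6931328) (BT.node (nat_lit 6931264) (BT.leaf (nat_lit 35640329)) (BT.leaf (nat_lit 31505941))) (BT.node (nat_lit 6931392) (BT.leaf (nat_lit 31505945)) (BT.leaf (nat_lit 32940569)))) (BT.node (nat_lit 6931584) (BT.node (nat_lit 6931520) (BT.leaf (nat_lit 32940573)) (BT.leaf (nat_lit 22583577))) (BT.node (nat_lit 6931648) (BT.leaf (nat_lit 23229969)) (BT.leaf (nat_lit 23229973)))))) (BT.node (nat_lit 6932224) (BT.node (nat_lit 6931968) (BT.node (nat_lit 6931840) (BT.node (nat_lit 6931776) (BT.leaf (nat_lit 23180061)) (BT.leaf (nat_lit 30656017))) (BT.node (nat_lit 6931904) (BT.leaf (nat_lit 28961813)) (BT.leaf (nat_lit 46552609)))) (BT.node (nat_lit 6932096) (BT.node (nat_lit 6932032) (BT.leaf (nat_lit 33215005)) (BT.leaf (nat_lit 23281929))) (BT.node (nat_lit 6932160) (BT.leaf (nat_lit 23344161)) (BT.leaf (nat_lit 27888657))))) (BT.node (nat_lit 6932480) (BT.node (nat_lit 6932352) (BT.node (nat_lit 6932288) (BT.leaf (nat_lit 22449429)) (BT.leaf (nat_lit 22429449))) (BT.node (nat_lit 6932416) (BT.leaf (nat_lit 22429453)) (BT.leaf (nat_lit 29786637)))) (BT.node (nat_lit 6932608) (BT.node (nat_lit 6932544) (BT.leaf (nat_lit 22429469)) (BT.leaf (nat_lit 37407509))) (BT.node (nat_lit 6932672) (BT.leaf (nat_lit 28428313)) (BT.leaf (nat_lit 22434577))))))))) (BT.node (nat_lit 6936832) (BT.node (nat_lit 6934784) (BT.node (nat_lit 6933760) (BT.node (nat_lit 6933248) (BT.node (nat_lit 6932992) (BT.node (nat_lit 6932864) (BT.node (nat_lit 6932800) (BT.leaf (nat_lit 23244829)) (BT.leaf (nat_lit 22591765))) (BT.node (nat_lit 6932928) (BT.leaf (nat_lit 29787153)) (BT.leaf (nat_lit 32350981)))) (BT.node (nat_lit 6933120) (BT.node (nat_lit 6933056) (BT.leaf (nat_lit 23242505)) (BT.leaf (nat_lit 26734881))) (BT.node (nat_lit 6933184) (BT.leaf (nat_lit 28432929)) (BT.leaf (nat_lit 31078177))))) (BT.node (nat_lit 6933504) (BT.node (nat_lit 6933376) (BT.node (nat_lit 6933312) (BT.leaf (nat_lit 22431245)) (BT.leaf (nat_lit 22431241))) (BT.node (nat_lit 6933440) (BT.leaf (nat_lit 31401233)) (BT.leaf (nat_lit 22434837)))) (BT.node (nat_lit 6933632) (BT.node (nat_lit 6933568) (BT.leaf (nat_lit 24488981)) (BT.leaf (nat_lit 42785553))) (BT.node (nat_lit 6933696) (BT.leaf (nat_lit 29877533)) (BT.leaf (nat_lit 46554657)))))) (BT.node (nat_lit 6934272) (BT.node (nat_lit 6934016) (BT.node (nat_lit 6933888) (BT.node (nat_lit 6933824) (BT.leaf (nat_lit 24965909)) (BT.leaf (nat_lit 46554897))) (BT.node (nat_lit 6933952) (BT.leaf (nat_lit 34138909)) (BT.leaf (nat_lit 28799773)))) (BT.node (nat_lit 6934144) (BT.node (nat_lit 6934080) (BT.leaf (nat_lit 35076881)) (BT.leaf (nat_lit 34650653))) (BT.node (nat_lit 6934208) (BT.leaf (nat_lit 33171485)) (BT.leaf (nat_lit 23090965))))) (BT.node (nat_lit 6934528) (BT.node (nat_lit 6934400) (BT.node (nat_lit 6934336) (BT.leaf (nat_lit 33171993)) (BT.leaf (nat_lit 22433553))) (BT.node (nat_lit 6934464) (BT.leaf (nat_lit 22433041)) (BT.leaf (nat_lit 46555909)))) (BT.node (nat_lit 6934656) (BT.node (nat_lit 6934592) (BT.leaf (nat_lit 37654533)) (BT.leaf (nat_lit 22434321))) (BT.node (nat_lit 6934720) (BT.leaf (nat_lit 36591877)) (BT.leaf (nat_lit 24892953))))))) (BT.node (nat_lit 6935808) (BT.node (nat_lit 6935296) (BT.node (nat_lit 6935040) (BT.node (nat_lit 6934912) (BT.node (nat_lit 6934848) (BT.leaf (nat_lit 26531845)) (BT.leaf (nat_lit 24748301))) (BT.node (nat_lit 6934976) (BT.leaf (nat_lit 46350597)) (BT.leaf (nat_lit 24674841)))) (BT.node (nat_lit 6935168) (BT.node (nat_lit 6935104) (BT.leaf (nat_lit 22752797)) (BT.leaf (nat_lit 36122373))) (BT.node (nat_lit 6935232) (BT.leaf (nat_lit 38448665)) (BT.leaf (nat_lit 22694929))))) (BT.node (nat_lit 6935552) (BT.node (nat_lit 6935424) (BT.node (nat_lit 6935360) (BT.leaf (nat_lit 26962197)) (BT.leaf (nat_lit 32534541))) (BT.node (nat_lit 6935488) (BT.leaf (nat_lit 22783777)) (BT.leaf (nat_lit 32348189)))) (BT.node (nat_lit 6935680) (BT.node (nat_lit 6935616) (BT.leaf (nat_lit 32071449)) (BT.leaf (nat_lit 22783761))) (BT.node (nat_lit 6935744) (BT.leaf (nat_lit 47011605)) (BT.leaf (nat_lit 35874057)))))) (BT.node (nat_lit 6936320) (BT.node (nat_lit 6936064) (BT.node (nat_lit 6935936) (BT.node (nat_lit 6935872) (BT.leaf (nat_lit 33370913)) (BT.leaf (nat_lit 46557205))) (BT.node (nat_lit 6936000) (BT.leaf (nat_lit 38486537)) (BT.leaf (nat_lit 47811845)))) (BT.node (nat_lit 6936192) (BT.node (nat_lit 6936128) (BT.leaf (nat_lit 50856469)) (BT.leaf (nat_lit 23244821))) (BT.node (nat_lit 6936256) (BT.leaf (nat_lit 36151569)) (BT.leaf (nat_lit 27745557))))) (BT.node (nat_lit 6936576) (BT.node (nat_lit 6936448) (BT.node (nat_lit 6936384) (BT.leaf (nat_lit 27744797)) (BT.leaf (nat_lit 28906245))) (BT.node (nat_lit 6936512) (BT.leaf (nat_lit 32384269)) (BT.leaf (nat_lit 31740677)))) (BT.node (nat_lit 6936704) (BT.node (nat_lit 6936640) (BT.leaf (nat_lit 22434845)) (BT.leaf (nat_lit 36662289))) (BT.node (nat_lit 6936768) (BT.leaf (nat_lit 35133957)) (BT.leaf (nat_lit 22435089)))))))) (BT.node (nat_lit 6938880) (BT.node (nat_lit 6937856) (BT.node (nat_lit 6937344) (BT.node (nat_lit 6937088) (BT.node (nat_lit 6936960) (BT.node (nat_lit 6936896) (BT.leaf (nat_lit 22435093)) (BT.leaf (nat_lit 27879173))) (BT.node (nat_lit 6937024) (BT.leaf (nat_lit 24086801)) (BT.leaf (nat_lit 22435345)))) (BT.node (nat_lit 6937216) (BT.node (nat_lit 6937152) (BT.leaf (nat_lit 22435349)) (BT.leaf (nat_lit 23122705))) (BT.node (nat_lit 6937280) (BT.leaf (nat_lit 24770317)) (BT.leaf (nat_lit 47276049))))) (BT.node (nat_lit 6937600) (BT.node (nat_lit 6937472) (BT.node (nat_lit 6937408) (BT.leaf (nat_lit 22515233)) (BT.leaf (nat_lit 24378897))) (BT.node (nat_lit 6937536) (BT.leaf (nat_lit 51068177)) (BT.leaf (nat_lit 29128733)))) (BT.node (nat_lit 6937728) (BT.node (nat_lit 6937664) (BT.leaf (nat_lit 46561301)) (BT.leaf (nat_lit 37051153))) (BT.node (nat_lit 6937792) (BT.leaf (nat_lit 24681493)) (BT.leaf (nat_lit 46843409)))))) (BT.node (nat_lit 6938368) (BT.node (nat_lit 6938112) (BT.node (nat_lit 6937984) (BT.node (nat_lit 6937920) (BT.leaf (nat_lit 46843413)) (BT.leaf (nat_lit 30839557))) (BT.node (nat_lit 6938048) (BT.leaf (nat_lit 25235989)) (BT.leaf (nat_lit 27961881)))) (BT.node (nat_lit 6938240) (BT.node (nat_lit 6938176) (BT.leaf (nat_lit 23091717)) (BT.leaf (nat_lit 32516869))) (BT.node (nat_lit 6938304) (BT.leaf (nat_lit 22680857)) (BT.leaf (nat_lit 49441285))))) (BT.node (nat_lit 6938624) (BT.node (nat_lit 6938496) (BT.node (nat_lit 6938432) (BT.leaf (nat_lit 46562565)) (BT.leaf (nat_lit 29185045))) (BT.node (nat_lit 6938560) (BT.leaf (nat_lit 27753757)) (BT.leaf (nat_lit 22680585)))) (BT.node (nat_lit 6938752) (BT.node (nat_lit 6938688) (BT.leaf (nat_lit 32056093)) (BT.leaf (nat_lit 32611857))) (BT.node (nat_lit 6938816) (BT.leaf (nat_lit 28079637)) (BT.leaf (nat_lit 27973649))))))) (BT.node (nat_lit 6939904) (BT.node (nat_lit 6939392) (BT.node (nat_lit 6939136) (BT.node (nat_lit 6939008) (BT.node (nat_lit 6938944) (BT.leaf (nat_lit 27973653)) (BT.leaf (nat_lit 23001885))) (BT.node (nat_lit 6939072) (BT.leaf (nat_lit 50339077)) (BT.leaf (nat_lit 24229921)))) (BT.node (nat_lit 6939264) (BT.node (nat_lit 6939200) (BT.leaf (nat_lit 46632737)) (BT.leaf (nat_lit 35348241))) (BT.node (nat_lit 6939328) (BT.leaf (nat_lit 38509601)) (BT.leaf (nat_lit 22718477))))) (BT.node (nat_lit 6939648) (BT.node (nat_lit 6939520) (BT.node (nat_lit 6939456) (BT.leaf (nat_lit 35376389)) (BT.leaf (nat_lit 34326805))) (BT.node (nat_lit 6939584) (BT.leaf (nat_lit 33060369)) (BT.leaf (nat_lit 34776337)))) (BT.node (nat_lit 6939776) (BT.node (nat_lit 6939712) (BT.leaf (nat_lit 34659089)) (BT.leaf (nat_lit 23985441))) (BT.node (nat_lit 6939840) (BT.leaf (nat_lit 49011733)) (BT.leaf (nat_lit 35804701)))))) (BT.node (nat_lit 6940416) (BT.node (nat_lit 6940160) (BT.node (nat_lit 6940032) (BT.node (nat_lit 6939968) (BT.leaf (nat_lit 23335701)) (BT.leaf (nat_lit 23335705))) (BT.node (nat_lit 6940096) (BT.leaf (nat_lit 25791509)) (BT.leaf (nat_lit 30568737)))) (BT.node (nat_lit 6940288) (BT.node (nat_lit 6940224) (BT.leaf (nat_lit 24762897)) (BT.leaf (nat_lit 28412433))) (BT.node (nat_lit 6940352) (BT.leaf (nat_lit 37132293)) (BT.leaf (nat_lit 28854033))))) (BT.node (nat_lit 6940672) (BT.node (nat_lit 6940544) (BT.node (nat_lit 6940480) (BT.leaf (nat_lit 33682209)) (BT.leaf (nat_lit 24451345))) (BT.node (nat_lit 6940608) (BT.leaf (nat_lit 24676381)) (BT.leaf (nat_lit 31864097)))) (BT.node (nat_lit 6940800) (BT.node (nat_lit 6940736) (BT.leaf (nat_lit 46568981)) (BT.leaf (nat_lit 30526993))) (BT.node (nat_lit 6940864) (BT.leaf (nat_lit 28018437)) (BT.leaf (nat_lit 34550301)))))))))))))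
noncomputable def big0_e40960 : BT Nat := (BT.node (nat_lit 7006336) (BT.node (nat_lit 6973696) (BT.node (nat_lit 6957312) (BT.node (nat_lit 6949120) (BT.node (nat_lit 6945024) (BT.node (nat_lit 6942976) (BT.node (nat_lit 6941952) (BT.node (nat_lit 6941440) (BT.node (nat_lit 6941184) (BT.node (nat_lit 6941056) (BT.node (nat_lit 6940992) (BT.leaf (nat_lit 33242913)) (BT.leaf (nat_lit 27961617))) (BT.node (nat_lit 6941120) (BT.leaf (nat_lit 22984989)) (BT.leaf (nat_lit 28411925)))) (BT.node (nat_lit 6941312) (BT.node (nat_lit 6941248) (BT.leaf (nat_lit 28411933)) (BT.leaf (nat_lit 32187921))) (BT.node (nat_lit 6941376) (BT.leaf (nat_lit 25485085)) (BT.leaf (nat_lit 48185109))))) (BT.node (nat_lit 6941696) (BT.node (nat_lit 6941568) (BT.node (nat_lit 6941504) (BT.leaf (nat_lit 48185113)) (BT.leaf (nat_lit 32630045))) (BT.node (nat_lit 6941632) (BT.leaf (nat_lit 22721305)) (BT.leaf (nat_lit 33428505)))) (BT.node (nat_lit 6941824) (BT.node (nat_lit 6941760) (BT.leaf (nat_lit 29194769)) (BT.leaf (nat_lit 23725841))) (BT.node (nat_lit 6941888) (BT.leaf (nat_lit 25941013)) (BT.leaf (nat_lit 29185297)))))) (BT.node (nat_lit 6942464) (BT.node (nat_lit 6942208) (BT.node (nat_lit 6942080) (BT.node (nat_lit 6942016) (BT.leaf (nat_lit 33671185)) (BT.leaf (nat_lit 28836121))) (BT.node (nat_lit 6942144) (BT.leaf (nat_lit 28836125)) (BT.leaf (nat_lit 24412177)))) (BT.node (nat_lit 6942336) (BT.node (nat_lit 6942272) (BT.leaf (nat_lit 25949721)) (BT.leaf (nat_lit 24672517))) (BT.node (nat_lit 6942400) (BT.leaf (nat_lit 33408801)) (BT.leaf (nat_lit 33408545))))) (BT.node (nat_lit 6942720) (BT.node (nat_lit 6942592) (BT.node (nat_lit 6942528) (BT.leaf (nat_lit 46574101)) (BT.leaf (nat_lit 22622753))) (BT.node (nat_lit 6942656) (BT.leaf (nat_lit 50425357)) (BT.leaf (nat_lit 33880593)))) (BT.node (nat_lit 6942848) (BT.node (nat_lit 6942784) (BT.leaf (nat_lit 46579489)) (BT.leaf (nat_lit 22449433))) (BT.node (nat_lit 6942912) (BT.leaf (nat_lit 31681569)) (BT.leaf (nat_lit 51556889))))))) (BT.node (nat_lit 6944000) (BT.node (nat_lit 6943488) (BT.node (nat_lit 6943232) (BT.node (nat_lit 6943104) (BT.node (nat_lit 6943040) (BT.leaf (nat_lit 36161565)) (BT.leaf (nat_lit 23313929))) (BT.node (nat_lit 6943168) (BT.leaf (nat_lit 38538757)) (BT.leaf (nat_lit 50246165)))) (BT.node (nat_lit 6943360) (BT.node (nat_lit 6943296) (BT.leaf (nat_lit 26760977)) (BT.leaf (nat_lit 23302933))) (BT.node (nat_lit 6943424) (BT.leaf (nat_lit 38356741)) (BT.leaf (nat_lit 28824853))))) (BT.node (nat_lit 6943744) (BT.node (nat_lit 6943616) (BT.node (nat_lit 6943552) (BT.leaf (nat_lit 22450465)) (BT.leaf (nat_lit 29272865))) (BT.node (nat_lit 6943680) (BT.leaf (nat_lit 24576529)) (BT.leaf (nat_lit 46575389)))) (BT.node (nat_lit 6943872) (BT.node (nat_lit 6943808) (BT.leaf (nat_lit 22463241)) (BT.leaf (nat_lit 22463245))) (BT.node (nat_lit 6943936) (BT.leaf (nat_lit 22463261)) (BT.leaf (nat_lit 28405017)))))) (BT.node (nat_lit 6944512) (BT.node (nat_lit 6944256) (BT.node (nat_lit 6944128) (BT.node (nat_lit 6944064) (BT.leaf (nat_lit 22624773)) (BT.leaf (nat_lit 33199381))) (BT.node (nat_lit 6944192) (BT.leaf (nat_lit 49865489)) (BT.leaf (nat_lit 27820057)))) (BT.node (nat_lit 6944384) (BT.node (nat_lit 6944320) (BT.leaf (nat_lit 46576145)) (BT.leaf (nat_lit 46576141))) (BT.node (nat_lit 6944448) (BT.leaf (nat_lit 27824661)) (BT.leaf (nat_lit 22465817))))) (BT.node (nat_lit 6944768) (BT.node (nat_lit 6944640) (BT.node (nat_lit 6944576) (BT.leaf (nat_lit 27544325)) (BT.leaf (nat_lit 23843613))) (BT.node (nat_lit 6944704) (BT.leaf (nat_lit 28272417)) (BT.leaf (nat_lit 27544341)))) (BT.node (nat_lit 6944896) (BT.node (nat_lit 6944832) (BT.leaf (nat_lit 22467613)) (BT.leaf (nat_lit 24730913))) (BT.node (nat_lit 6944960) (BT.leaf (nat_lit 34542101)) (BT.leaf (nat_lit 27779597)))))))) (BT.node (nat_lit 6947072) (BT.node (nat_lit 6946048) (BT.node (nat_lit 6945536) (BT.node (nat_lit 6945280) (BT.node (nat_lit 6945152) (BT.node (nat_lit 6945088) (BT.leaf (nat_lit 23928597)) (BT.leaf (nat_lit 33200661))) (BT.node (nat_lit 6945216) (BT.leaf (nat_lit 23343381)) (BT.leaf (nat_lit 27192073)))) (BT.node (nat_lit 6945408) (BT.node (nat_lit 6945344) (BT.leaf (nat_lit 22452497)) (BT.leaf (nat_lit 22436881))) (BT.node (nat_lit 6945472) (BT.leaf (nat_lit 29560593)) (BT.leaf (nat_lit 28248841))))) (BT.node (nat_lit 6945792) (BT.node (nat_lit 6945664) (BT.node (nat_lit 6945600) (BT.leaf (nat_lit 22437649)) (BT.leaf (nat_lit 34079505))) (BT.node (nat_lit 6945728) (BT.leaf (nat_lit 22685201)) (BT.leaf (nat_lit 47948809)))) (BT.node (nat_lit 6945920) (BT.node (nat_lit 6945856) (BT.leaf (nat_lit 47948813)) (BT.leaf (nat_lit 46578449))) (BT.node (nat_lit 6945984) (BT.leaf (nat_lit 35263001)) (BT.leaf (nat_lit 34134277)))))) (BT.node (nat_lit 6946560) (BT.node (nat_lit 6946304) (BT.node (nat_lit 6946176) (BT.node (nat_lit 6946112) (BT.leaf (nat_lit 23921429)) (BT.leaf (nat_lit 44940821))) (BT.node (nat_lit 6946240) (BT.leaf (nat_lit 38160149)) (BT.leaf (nat_lit 33400597)))) (BT.node (nat_lit 6946432) (BT.node (nat_lit 6946368) (BT.leaf (nat_lit 33293601)) (BT.leaf (nat_lit 46579473))) (BT.node (nat_lit 6946496) (BT.leaf (nat_lit 33487121)) (BT.leaf (nat_lit 28403733))))) (BT.node (nat_lit 6946816) (BT.node (nat_lit 6946688) (BT.node (nat_lit 6946624) (BT.leaf (nat_lit 34274053)) (BT.leaf (nat_lit 23221277))) (BT.node (nat_lit 6946752) (BT.leaf (nat_lit 32288273)) (BT.leaf (nat_lit 36760593)))) (BT.node (nat_lit 6946944) (BT.node (nat_lit 6946880) (BT.leaf (nat_lit 23030037)) (BT.leaf (nat_lit 37163553))) (BT.node (nat_lit 6947008) (BT.leaf (nat_lit 31075105)) (BT.leaf (nat_lit 23356437))))))) (BT.node (nat_lit 6948096) (BT.node (nat_lit 6947584) (BT.node (nat_lit 6947328) (BT.node (nat_lit 6947200) (BT.node (nat_lit 6947136) (BT.leaf (nat_lit 25878545)) (BT.leaf (nat_lit 25878289))) (BT.node (nat_lit 6947264) (BT.leaf (nat_lit 23745049)) (BT.leaf (nat_lit 23834637)))) (BT.node (nat_lit 6947456) (BT.node (nat_lit 6947392) (BT.leaf (nat_lit 29414673)) (BT.leaf (nat_lit 31702293))) (BT.node (nat_lit 6947520) (BT.leaf (nat_lit 34663953)) (BT.leaf (nat_lit 26334989))))) (BT.node (nat_lit 6947840) (BT.node (nat_lit 6947712) (BT.node (nat_lit 6947648) (BT.leaf (nat_lit 26335001)) (BT.leaf (nat_lit 33185565))) (BT.node (nat_lit 6947776) (BT.leaf (nat_lit 36025605)) (BT.leaf (nat_lit 51321889)))) (BT.node (nat_lit 6947968) (BT.node (nat_lit 6947904) (BT.leaf (nat_lit 46582037)) (BT.leaf (nat_lit 35263009))) (BT.node (nat_lit 6948032) (BT.leaf (nat_lit 28938525)) (BT.leaf (nat_lit 36161557)))))) (BT.node (nat_lit 6948608) (BT.node (nat_lit 6948352) (BT.node (nat_lit 6948224) (BT.node (nat_lit 6948160) (BT.leaf (nat_lit 35136013)) (BT.leaf (nat_lit 46582801))) (BT.node (nat_lit 6948288) (BT.leaf (nat_lit 34137873)) (BT.leaf (nat_lit 28131593)))) (BT.node (nat_lit 6948480) (BT.node (nat_lit 6948416) (BT.leaf (nat_lit 27788573)) (BT.leaf (nat_lit 46583817))) (BT.node (nat_lit 6948544) (BT.leaf (nat_lit 46584085)) (BT.leaf (nat_lit 23834653))))) (BT.node (nat_lit 6948864) (BT.node (nat_lit 6948736) (BT.node (nat_lit 6948672) (BT.leaf (nat_lit 27788313)) (BT.leaf (nat_lit 22929169))) (BT.node (nat_lit 6948800) (BT.leaf (nat_lit 23930909)) (BT.leaf (nat_lit 22803737)))) (BT.node (nat_lit 6948992) (BT.node (nat_lit 6948928) (BT.leaf (nat_lit 22803741)) (BT.leaf (nat_lit 46584605))) (BT.node (nat_lit 6949056) (BT.leaf (nat_lit 23302941)) (BT.leaf (nat_lit 24073221))))))))) (BT.node (nat_lit 6953216) (BT.node (nat_lit 6951168) (BT.node (nat_lit 6950144) (BT.node (nat_lit 6949632) (BT.node (nat_lit 6949376) (BT.node (nat_lit 6949248) (BT.node (nat_lit 6949184) (BT.leaf (nat_lit 24313121)) (BT.leaf (nat_lit 23313685))) (BT.node (nat_lit 6949312) (BT.leaf (nat_lit 46585109)) (BT.leaf (nat_lit 28493833)))) (BT.node (nat_lit 6949504) (BT.node (nat_lit 6949440) (BT.leaf (nat_lit 30231313)) (BT.leaf (nat_lit 41040661))) (BT.node (nat_lit 6949568) (BT.leaf (nat_lit 23313933)) (BT.leaf (nat_lit 29951777))))) (BT.node (nat_lit 6949888) (BT.node (nat_lit 6949760) (BT.node (nat_lit 6949696) (BT.leaf (nat_lit 29759009)) (BT.leaf (nat_lit 38582033))) (BT.node (nat_lit 6949824) (BT.leaf (nat_lit 28493849)) (BT.leaf (nat_lit 28493853)))) (BT.node (nat_lit 6950016) (BT.node (nat_lit 6949952) (BT.leaf (nat_lit 38583329)) (BT.leaf (nat_lit 30450961))) (BT.node (nat_lit 6950080) (BT.leaf (nat_lit 35093265)) (BT.leaf (nat_lit 46586385)))))) (BT.node (nat_lit 6950656) (BT.node (nat_lit 6950400) (BT.node (nat_lit 6950272) (BT.node (nat_lit 6950208) (BT.leaf (nat_lit 35058185)) (BT.leaf (nat_lit 22562329))) (BT.node (nat_lit 6950336) (BT.leaf (nat_lit 32002053)) (BT.leaf (nat_lit 22562337)))) (BT.node (nat_lit 6950528) (BT.node (nat_lit 6950464) (BT.leaf (nat_lit 26747673)) (BT.leaf (nat_lit 47293985))) (BT.node (nat_lit 6950592) (BT.leaf (nat_lit 22565917)) (BT.leaf (nat_lit 23905053))))) (BT.node (nat_lit 6950912) (BT.node (nat_lit 6950784) (BT.node (nat_lit 6950720) (BT.leaf (nat_lit 30231569)) (BT.leaf (nat_lit 22565913))) (BT.node (nat_lit 6950848) (BT.leaf (nat_lit 22457881)) (BT.leaf (nat_lit 46587669)))) (BT.node (nat_lit 6951040) (BT.node (nat_lit 6950976) (BT.leaf (nat_lit 33284881)) (BT.leaf (nat_lit 26703133))) (BT.node (nat_lit 6951104) (BT.leaf (nat_lit 44819997)) (BT.leaf (nat_lit 46588449))))))) (BT.node (nat_lit 6952192) (BT.node (nat_lit 6951680) (BT.node (nat_lit 6951424) (BT.node (nat_lit 6951296) (BT.node (nat_lit 6951232) (BT.leaf (nat_lit 46589217)) (BT.leaf (nat_lit 46589729))) (BT.node (nat_lit 6951360) (BT.leaf (nat_lit 46590241)) (BT.leaf (nat_lit 24738325)))) (BT.node (nat_lit 6951552) (BT.node (nat_lit 6951488) (BT.leaf (nat_lit 46590741)) (BT.leaf (nat_lit 46590997))) (BT.node (nat_lit 6951616) (BT.leaf (nat_lit 27919893)) (BT.leaf (nat_lit 36969237))))) (BT.node (nat_lit 6951936) (BT.node (nat_lit 6951808) (BT.node (nat_lit 6951744) (BT.leaf (nat_lit 46591765)) (BT.leaf (nat_lit 22459409))) (BT.node (nat_lit 6951872) (BT.leaf (nat_lit 22460177)) (BT.leaf (nat_lit 46592521)))) (BT.node (nat_lit 6952064) (BT.node (nat_lit 6952000) (BT.leaf (nat_lit 46593041)) (BT.leaf (nat_lit 24154381))) (BT.node (nat_lit 6952128) (BT.leaf (nat_lit 24154377)) (BT.leaf (nat_lit 24638725)))))) (BT.node (nat_lit 6952704) (BT.node (nat_lit 6952448) (BT.node (nat_lit 6952320) (BT.node (nat_lit 6952256) (BT.leaf (nat_lit 24154397)) (BT.leaf (nat_lit 46593557))) (BT.node (nat_lit 6952384) (BT.leaf (nat_lit 38609429)) (BT.leaf (nat_lit 37886229)))) (BT.node (nat_lit 6952576) (BT.node (nat_lit 6952512) (BT.leaf (nat_lit 27981077)) (BT.leaf (nat_lit 27981841))) (BT.node (nat_lit 6952640) (BT.leaf (nat_lit 27810073)) (BT.leaf (nat_lit 50940449))))) (BT.node (nat_lit 6952960) (BT.node (nat_lit 6952832) (BT.node (nat_lit 6952768) (BT.leaf (nat_lit 24072725)) (BT.leaf (nat_lit 46595857))) (BT.node (nat_lit 6952896) (BT.leaf (nat_lit 27811097)) (BT.leaf (nat_lit 28416529)))) (BT.node (nat_lit 6953088) (BT.node (nat_lit 6953024) (BT.leaf (nat_lit 37790473)) (BT.leaf (nat_lit 31941153))) (BT.node (nat_lit 6953152) (BT.leaf (nat_lit 31551005)) (BT.leaf (nat_lit 22637829)))))))) (BT.node (nat_lit 6955264) (BT.node (nat_lit 6954240) (BT.node (nat_lit 6953728) (BT.node (nat_lit 6953472) (BT.node (nat_lit 6953344) (BT.node (nat_lit 6953280) (BT.leaf (nat_lit 22461981)) (BT.leaf (nat_lit 22461469))) (BT.node (nat_lit 6953408) (BT.leaf (nat_lit 22461977)) (BT.leaf (nat_lit 28405525)))) (BT.node (nat_lit 6953600) (BT.node (nat_lit 6953536) (BT.leaf (nat_lit 27818509)) (BT.leaf (nat_lit 24461321))) (BT.node (nat_lit 6953664) (BT.leaf (nat_lit 24461345)) (BT.leaf (nat_lit 50307593))))) (BT.node (nat_lit 6953984) (BT.node (nat_lit 6953856) (BT.node (nat_lit 6953792) (BT.leaf (nat_lit 48129293)) (BT.leaf (nat_lit 35231241))) (BT.node (nat_lit 6953920) (BT.leaf (nat_lit 50375177)) (BT.leaf (nat_lit 46597397)))) (BT.node (nat_lit 6954112) (BT.node (nat_lit 6954048) (BT.leaf (nat_lit 22573857)) (BT.leaf (nat_lit 26562065))) (BT.node (nat_lit 6954176) (BT.leaf (nat_lit 46347549)) (BT.leaf (nat_lit 22463509)))))) (BT.node (nat_lit 6954752) (BT.node (nat_lit 6954496) (BT.node (nat_lit 6954368) (BT.node (nat_lit 6954304) (BT.leaf (nat_lit 33051413)) (BT.leaf (nat_lit 22463257))) (BT.node (nat_lit 6954432) (BT.leaf (nat_lit 33199897)) (BT.leaf (nat_lit 32846369)))) (BT.node (nat_lit 6954624) (BT.node (nat_lit 6954560) (BT.leaf (nat_lit 28304673)) (BT.leaf (nat_lit 22463505))) (BT.node (nat_lit 6954688) (BT.leaf (nat_lit 35490581)) (BT.leaf (nat_lit 25617949))))) (BT.node (nat_lit 6955008) (BT.node (nat_lit 6954880) (BT.node (nat_lit 6954816) (BT.leaf (nat_lit 22463761)) (BT.leaf (nat_lit 46599201))) (BT.node (nat_lit 6954944) (BT.leaf (nat_lit 24730401)) (BT.leaf (nat_lit 22464529)))) (BT.node (nat_lit 6955136) (BT.node (nat_lit 6955072) (BT.leaf (nat_lit 22464273)) (BT.leaf (nat_lit 36856597))) (BT.node (nat_lit 6955200) (BT.leaf (nat_lit 46599713)) (BT.leaf (nat_lit 46599957))))))) (BT.node (nat_lit 6956288) (BT.node (nat_lit 6955776) (BT.node (nat_lit 6955520) (BT.node (nat_lit 6955392) (BT.node (nat_lit 6955328) (BT.leaf (nat_lit 23442973)) (BT.leaf (nat_lit 24813329))) (BT.node (nat_lit 6955456) (BT.leaf (nat_lit 46435609)) (BT.leaf (nat_lit 23928337)))) (BT.node (nat_lit 6955648) (BT.node (nat_lit 6955584) (BT.leaf (nat_lit 34541073)) (BT.leaf (nat_lit 24813593))) (BT.node (nat_lit 6955712) (BT.leaf (nat_lit 24813597)) (BT.leaf (nat_lit 27779613))))) (BT.node (nat_lit 6956032) (BT.node (nat_lit 6955904) (BT.node (nat_lit 6955840) (BT.leaf (nat_lit 36275229)) (BT.leaf (nat_lit 25847829))) (BT.node (nat_lit 6955968) (BT.leaf (nat_lit 26955277)) (BT.leaf (nat_lit 46600469)))) (BT.node (nat_lit 6956160) (BT.node (nat_lit 6956096) (BT.leaf (nat_lit 22465561)) (BT.leaf (nat_lit 39342101))) (BT.node (nat_lit 6956224) (BT.leaf (nat_lit 22465821)) (BT.leaf (nat_lit 33301509)))))) (BT.node (nat_lit 6956800) (BT.node (nat_lit 6956544) (BT.node (nat_lit 6956416) (BT.node (nat_lit 6956352) (BT.leaf (nat_lit 36615441)) (BT.leaf (nat_lit 46601745))) (BT.node (nat_lit 6956480) (BT.leaf (nat_lit 46602009)) (BT.leaf (nat_lit 23843609)))) (BT.node (nat_lit 6956672) (BT.node (nat_lit 6956608) (BT.leaf (nat_lit 30048277)) (BT.leaf (nat_lit 22452241))) (BT.node (nat_lit 6956736) (BT.leaf (nat_lit 32531745)) (BT.leaf (nat_lit 24548373))))) (BT.node (nat_lit 6957056) (BT.node (nat_lit 6956928) (BT.node (nat_lit 6956864) (BT.leaf (nat_lit 22468113)) (BT.leaf (nat_lit 22467857))) (BT.node (nat_lit 6956992) (BT.leaf (nat_lit 30148385)) (BT.leaf (nat_lit 24658197)))) (BT.node (nat_lit 6957184) (BT.node (nat_lit 6957120) (BT.leaf (nat_lit 22316561)) (BT.leaf (nat_lit 46602525))) (BT.node (nat_lit 6957248) (BT.leaf (nat_lit 22468377)) (BT.leaf (nat_lit 46602769)))))))))) (BT.node (nat_lit 6965504) (BT.node (nat_lit 6961408) (BT.node (nat_lit 6959360) (BT.node (nat_lit 6958336) (BT.node (nat_lit 6957824) (BT.node (nat_lit 6957568) (BT.node (nat_lit 6957440) (BT.node (nat_lit 6957376) (BT.leaf (nat_lit 28897557)) (BT.leaf (nat_lit 24474373))) (BT.node (nat_lit 6957504) (BT.leaf (nat_lit 22638357)) (BT.leaf (nat_lit 23890709)))) (BT.node (nat_lit 6957696) (BT.node (nat_lit 6957632) (BT.leaf (nat_lit 37818901)) (BT.leaf (nat_lit 28260105))) (BT.node (nat_lit 6957760) (BT.leaf (nat_lit 31276805)) (BT.leaf (nat_lit 23335445))))) (BT.node (nat_lit 6958080) (BT.node (nat_lit 6957952) (BT.node (nat_lit 6957888) (BT.leaf (nat_lit 46604561)) (BT.leaf (nat_lit 24455449))) (BT.node (nat_lit 6958016) (BT.leaf (nat_lit 25313817)) (BT.leaf (nat_lit 25213205)))) (BT.node (nat_lit 6958208) (BT.node (nat_lit 6958144) (BT.leaf (nat_lit 25856529)) (BT.leaf (nat_lit 30183713))) (BT.node (nat_lit 6958272) (BT.leaf (nat_lit 46605077)) (BT.leaf (nat_lit 38102293)))))) (BT.node (nat_lit 6958848) (BT.node (nat_lit 6958592) (BT.node (nat_lit 6958464) (BT.node (nat_lit 6958400) (BT.leaf (nat_lit 23001361)) (BT.leaf (nat_lit 23001377))) (BT.node (nat_lit 6958528) (BT.leaf (nat_lit 34279173)) (BT.leaf (nat_lit 28308769)))) (BT.node (nat_lit 6958720) (BT.node (nat_lit 6958656) (BT.leaf (nat_lit 35014169)) (BT.leaf (nat_lit 46605333))) (BT.node (nat_lit 6958784) (BT.leaf (nat_lit 38654753)) (BT.leaf (nat_lit 46605573))))) (BT.node (nat_lit 6959104) (BT.node (nat_lit 6958976) (BT.node (nat_lit 6958912) (BT.leaf (nat_lit 22471433)) (BT.leaf (nat_lit 50223373))) (BT.node (nat_lit 6959040) (BT.leaf (nat_lit 36012821)) (BT.leaf (nat_lit 22573345)))) (BT.node (nat_lit 6959232) (BT.node (nat_lit 6959168) (BT.leaf (nat_lit 33861153)) (BT.leaf (nat_lit 46606613))) (BT.node (nat_lit 6959296) (BT.leaf (nat_lit 23436057)) (BT.leaf (nat_lit 46608149))))))) (BT.node (nat_lit 6960384) (BT.node (nat_lit 6959872) (BT.node (nat_lit 6959616) (BT.node (nat_lit 6959488) (BT.node (nat_lit 6959424) (BT.leaf (nat_lit 46608661)) (BT.leaf (nat_lit 23317525))) (BT.node (nat_lit 6959552) (BT.leaf (nat_lit 49766169)) (BT.leaf (nat_lit 46608917)))) (BT.node (nat_lit 6959744) (BT.node (nat_lit 6959680) (BT.leaf (nat_lit 23445521)) (BT.leaf (nat_lit 24209173))) (BT.node (nat_lit 6959808) (BT.leaf (nat_lit 24209177)) (BT.leaf (nat_lit 23778053))))) (BT.node (nat_lit 6960128) (BT.node (nat_lit 6960000) (BT.node (nat_lit 6959936) (BT.leaf (nat_lit 32872981)) (BT.leaf (nat_lit 23317277))) (BT.node (nat_lit 6960064) (BT.leaf (nat_lit 28315681)) (BT.leaf (nat_lit 33362465)))) (BT.node (nat_lit 6960256) (BT.node (nat_lit 6960192) (BT.leaf (nat_lit 30914593)) (BT.leaf (nat_lit 34370081))) (BT.node (nat_lit 6960320) (BT.leaf (nat_lit 23763489)) (BT.leaf (nat_lit 30142737)))))) (BT.node (nat_lit 6960896) (BT.node (nat_lit 6960640) (BT.node (nat_lit 6960512) (BT.node (nat_lit 6960448) (BT.leaf (nat_lit 24852241)) (BT.leaf (nat_lit 33701917))) (BT.node (nat_lit 6960576) (BT.leaf (nat_lit 24101137)) (BT.leaf (nat_lit 46611477)))) (BT.node (nat_lit 6960768) (BT.node (nat_lit 6960704) (BT.leaf (nat_lit 27246625)) (BT.leaf (nat_lit 24294165))) (BT.node (nat_lit 6960832) (BT.leaf (nat_lit 24294169)) (BT.leaf (nat_lit 24294173))))) (BT.node (nat_lit 6961152) (BT.node (nat_lit 6961024) (BT.node (nat_lit 6960960) (BT.leaf (nat_lit 31613217)) (BT.leaf (nat_lit 33211669))) (BT.node (nat_lit 6961088) (BT.leaf (nat_lit 24100369)) (BT.leaf (nat_lit 27247137)))) (BT.node (nat_lit 6961280) (BT.node (nat_lit 6961216) (BT.leaf (nat_lit 32351505)) (BT.leaf (nat_lit 33211673))) (BT.node (nat_lit 6961344) (BT.leaf (nat_lit 28505121)) (BT.leaf (nat_lit 27505949)))))))) (BT.node (nat_lit 6963456) (BT.node (nat_lit 6962432) (BT.node (nat_lit 6961920) (BT.node (nat_lit 6961664) (BT.node (nat_lit 6961536) (BT.node (nat_lit 6961472) (BT.leaf (nat_lit 24196625)) (BT.leaf (nat_lit 35141893))) (BT.node (nat_lit 6961600) (BT.leaf (nat_lit 24797717)) (BT.leaf (nat_lit 22474001)))) (BT.node (nat_lit 6961792) (BT.node (nat_lit 6961728) (BT.leaf (nat_lit 25929745)) (BT.leaf (nat_lit 38052121))) (BT.node (nat_lit 6961856) (BT.leaf (nat_lit 36102917)) (BT.leaf (nat_lit 23088161))))) (BT.node (nat_lit 6962176) (BT.node (nat_lit 6962048) (BT.node (nat_lit 6961984) (BT.leaf (nat_lit 27103265)) (BT.leaf (nat_lit 28609821))) (BT.node (nat_lit 6962112) (BT.leaf (nat_lit 46613269)) (BT.leaf (nat_lit 22755097)))) (BT.node (nat_lit 6962304) (BT.node (nat_lit 6962240) (BT.leaf (nat_lit 34809349)) (BT.leaf (nat_lit 33211677))) (BT.node (nat_lit 6962368) (BT.leaf (nat_lit 26693137)) (BT.leaf (nat_lit 26503961)))))) (BT.node (nat_lit 6962944) (BT.node (nat_lit 6962688) (BT.node (nat_lit 6962560) (BT.node (nat_lit 6962496) (BT.leaf (nat_lit 38669069)) (BT.leaf (nat_lit 22475545))) (BT.node (nat_lit 6962624) (BT.leaf (nat_lit 31596057)) (BT.leaf (nat_lit 28174093)))) (BT.node (nat_lit 6962816) (BT.node (nat_lit 6962752) (BT.leaf (nat_lit 28174089)) (BT.leaf (nat_lit 30874657))) (BT.node (nat_lit 6962880) (BT.leaf (nat_lit 31680777)) (BT.leaf (nat_lit 22476309))))) (BT.node (nat_lit 6963200) (BT.node (nat_lit 6963072) (BT.node (nat_lit 6963008) (BT.leaf (nat_lit 23393309)) (BT.leaf (nat_lit 34723873))) (BT.node (nat_lit 6963136) (BT.leaf (nat_lit 46614561)) (BT.leaf (nat_lit 40485893)))) (BT.node (nat_lit 6963328) (BT.node (nat_lit 6963264) (BT.leaf (nat_lit 46614789)) (BT.leaf (nat_lit 22477329))) (BT.node (nat_lit 6963392) (BT.leaf (nat_lit 46615325)) (BT.leaf (nat_lit 36764181))))))) (BT.node (nat_lit 6964480) (BT.node (nat_lit 6963968) (BT.node (nat_lit 6963712) (BT.node (nat_lit 6963584) (BT.node (nat_lit 6963520) (BT.leaf (nat_lit 48599057)) (BT.leaf (nat_lit 46616353))) (BT.node (nat_lit 6963648) (BT.leaf (nat_lit 22477853)) (BT.leaf (nat_lit 24985629)))) (BT.node (nat_lit 6963840) (BT.node (nat_lit 6963776) (BT.leaf (nat_lit 37795869)) (BT.leaf (nat_lit 22477849))) (BT.node (nat_lit 6963904) (BT.leaf (nat_lit 22677765)) (BT.leaf (nat_lit 32515861))))) (BT.node (nat_lit 6964224) (BT.node (nat_lit 6964096) (BT.node (nat_lit 6964032) (BT.leaf (nat_lit 36217121)) (BT.leaf (nat_lit 27856413))) (BT.node (nat_lit 6964160) (BT.leaf (nat_lit 49731077)) (BT.leaf (nat_lit 27531541)))) (BT.node (nat_lit 6964352) (BT.node (nat_lit 6964288) (BT.leaf (nat_lit 30207245)) (BT.leaf (nat_lit 23716625))) (BT.node (nat_lit 6964416) (BT.leaf (nat_lit 27321617)) (BT.leaf (nat_lit 27321877)))))) (BT.node (nat_lit 6964992) (BT.node (nat_lit 6964736) (BT.node (nat_lit 6964608) (BT.node (nat_lit 6964544) (BT.leaf (nat_lit 30944005)) (BT.leaf (nat_lit 27321885))) (BT.node (nat_lit 6964672) (BT.leaf (nat_lit 25354513)) (BT.leaf (nat_lit 46621721)))) (BT.node (nat_lit 6964864) (BT.node (nat_lit 6964800) (BT.leaf (nat_lit 22981909)) (BT.leaf (nat_lit 27589393))) (BT.node (nat_lit 6964928) (BT.leaf (nat_lit 27597073)) (BT.leaf (nat_lit 27759377))))) (BT.node (nat_lit 6965248) (BT.node (nat_lit 6965120) (BT.node (nat_lit 6965056) (BT.leaf (nat_lit 23203093)) (BT.leaf (nat_lit 23203097))) (BT.node (nat_lit 6965184) (BT.leaf (nat_lit 28648985)) (BT.leaf (nat_lit 24496145)))) (BT.node (nat_lit 6965376) (BT.node (nat_lit 6965312) (BT.leaf (nat_lit 28648721)) (BT.leaf (nat_lit 31954193))) (BT.node (nat_lit 6965440) (BT.leaf (nat_lit 23308305)) (BT.leaf (nat_lit 23034393))))))))) (BT.node (nat_lit 6969600) (BT.node (nat_lit 6967552) (BT.node (nat_lit 6966528) (BT.node (nat_lit 6966016) (BT.node (nat_lit 6965760) (BT.node (nat_lit 6965632) (BT.node (nat_lit 6965568) (BT.leaf (nat_lit 23034397)) (BT.leaf (nat_lit 47347485))) (BT.node (nat_lit 6965696) (BT.leaf (nat_lit 46624289)) (BT.leaf (nat_lit 29141785)))) (BT.node (nat_lit 6965888) (BT.node (nat_lit 6965824) (BT.leaf (nat_lit 29141789)) (BT.leaf (nat_lit 25459993))) (BT.node (nat_lit 6965952) (BT.leaf (nat_lit 22479133)) (BT.leaf (nat_lit 26002193))))) (BT.node (nat_lit 6966272) (BT.node (nat_lit 6966144) (BT.node (nat_lit 6966080) (BT.leaf (nat_lit 26002197)) (BT.leaf (nat_lit 22479129))) (BT.node (nat_lit 6966208) (BT.leaf (nat_lit 23918345)) (BT.leaf (nat_lit 23918349)))) (BT.node (nat_lit 6966400) (BT.node (nat_lit 6966336) (BT.leaf (nat_lit 23918361)) (BT.leaf (nat_lit 23918365))) (BT.node (nat_lit 6966464) (BT.leaf (nat_lit 23918369)) (BT.leaf (nat_lit 22765585)))))) (BT.node (nat_lit 6967040) (BT.node (nat_lit 6966784) (BT.node (nat_lit 6966656) (BT.node (nat_lit 6966592) (BT.leaf (nat_lit 22765849)) (BT.leaf (nat_lit 22765853))) (BT.node (nat_lit 6966720) (BT.leaf (nat_lit 37984281)) (BT.leaf (nat_lit 23709201)))) (BT.node (nat_lit 6966912) (BT.node (nat_lit 6966848) (BT.leaf (nat_lit 31271185)) (BT.leaf (nat_lit 24474121))) (BT.node (nat_lit 6966976) (BT.leaf (nat_lit 46625297)) (BT.leaf (nat_lit 22537233))))) (BT.node (nat_lit 6967296) (BT.node (nat_lit 6967168) (BT.node (nat_lit 6967104) (BT.leaf (nat_lit 46625549)) (BT.leaf (nat_lit 46625813))) (BT.node (nat_lit 6967232) (BT.leaf (nat_lit 46626069)) (BT.leaf (nat_lit 46626325)))) (BT.node (nat_lit 6967424) (BT.node (nat_lit 6967360) (BT.leaf (nat_lit 27414793)) (BT.leaf (nat_lit 29105933))) (BT.node (nat_lit 6967488) (BT.leaf (nat_lit 33076001)) (BT.leaf (nat_lit 23920665))))))) (BT.node (nat_lit 6968576) (BT.node (nat_lit 6968064) (BT.node (nat_lit 6967808) (BT.node (nat_lit 6967680) (BT.node (nat_lit 6967616) (BT.leaf (nat_lit 24257553)) (BT.leaf (nat_lit 33964825))) (BT.node (nat_lit 6967744) (BT.leaf (nat_lit 36118537)) (BT.leaf (nat_lit 32941333)))) (BT.node (nat_lit 6967936) (BT.node (nat_lit 6967872) (BT.leaf (nat_lit 46628129)) (BT.leaf (nat_lit 22482965))) (BT.node (nat_lit 6968000) (BT.leaf (nat_lit 43949829)) (BT.leaf (nat_lit 46629665))))) (BT.node (nat_lit 6968320) (BT.node (nat_lit 6968192) (BT.node (nat_lit 6968128) (BT.leaf (nat_lit 50699533)) (BT.leaf (nat_lit 46629405))) (BT.node (nat_lit 6968256) (BT.leaf (nat_lit 27415057)) (BT.leaf (nat_lit 38689033)))) (BT.node (nat_lit 6968448) (BT.node (nat_lit 6968384) (BT.leaf (nat_lit 28093445)) (BT.leaf (nat_lit 33010465))) (BT.node (nat_lit 6968512) (BT.leaf (nat_lit 31467809)) (BT.leaf (nat_lit 22839829)))))) (BT.node (nat_lit 6969088) (BT.node (nat_lit 6968832) (BT.node (nat_lit 6968704) (BT.node (nat_lit 6968640) (BT.leaf (nat_lit 22839833)) (BT.leaf (nat_lit 22839837))) (BT.node (nat_lit 6968768) (BT.leaf (nat_lit 29210373)) (BT.leaf (nat_lit 23919625)))) (BT.node (nat_lit 6968960) (BT.node (nat_lit 6968896) (BT.leaf (nat_lit 23979809)) (BT.leaf (nat_lit 46631177))) (BT.node (nat_lit 6969024) (BT.leaf (nat_lit 27422485)) (BT.leaf (nat_lit 46632209))))) (BT.node (nat_lit 6969344) (BT.node (nat_lit 6969216) (BT.node (nat_lit 6969152) (BT.leaf (nat_lit 29621261)) (BT.leaf (nat_lit 38693141))) (BT.node (nat_lit 6969280) (BT.leaf (nat_lit 27876617)) (BT.leaf (nat_lit 24388897)))) (BT.node (nat_lit 6969472) (BT.node (nat_lit 6969408) (BT.leaf (nat_lit 51302421)) (BT.leaf (nat_lit 23559701))) (BT.node (nat_lit 6969536) (BT.leaf (nat_lit 22589461)) (BT.leaf (nat_lit 23819025)))))))) (BT.node (nat_lit 6971648) (BT.node (nat_lit 6970624) (BT.node (nat_lit 6970112) (BT.node (nat_lit 6969856) (BT.node (nat_lit 6969728) (BT.node (nat_lit 6969664) (BT.leaf (nat_lit 27878169)) (BT.leaf (nat_lit 46633233))) (BT.node (nat_lit 6969792) (BT.leaf (nat_lit 26929425)) (BT.leaf (nat_lit 34478601)))) (BT.node (nat_lit 6969984) (BT.node (nat_lit 6969920) (BT.leaf (nat_lit 22485517)) (BT.leaf (nat_lit 31232021))) (BT.node (nat_lit 6970048) (BT.leaf (nat_lit 38703893)) (BT.leaf (nat_lit 22557705))))) (BT.node (nat_lit 6970368) (BT.node (nat_lit 6970240) (BT.node (nat_lit 6970176) (BT.leaf (nat_lit 35841293)) (BT.leaf (nat_lit 46634257))) (BT.node (nat_lit 6970304) (BT.leaf (nat_lit 46634273)) (BT.leaf (nat_lit 23528737)))) (BT.node (nat_lit 6970496) (BT.node (nat_lit 6970432) (BT.leaf (nat_lit 46634517)) (BT.leaf (nat_lit 22486297))) (BT.node (nat_lit 6970560) (BT.leaf (nat_lit 46635029)) (BT.leaf (nat_lit 48198945)))))) (BT.node (nat_lit 6971136) (BT.node (nat_lit 6970880) (BT.node (nat_lit 6970752) (BT.node (nat_lit 6970688) (BT.leaf (nat_lit 22486301)) (BT.leaf (nat_lit 29214489))) (BT.node (nat_lit 6970816) (BT.leaf (nat_lit 26477829)) (BT.leaf (nat_lit 23925281)))) (BT.node (nat_lit 6971008) (BT.node (nat_lit 6970944) (BT.leaf (nat_lit 36972293)) (BT.leaf (nat_lit 22487321))) (BT.node (nat_lit 6971072) (BT.leaf (nat_lit 22824725)) (BT.leaf (nat_lit 22487837))))) (BT.node (nat_lit 6971392) (BT.node (nat_lit 6971264) (BT.node (nat_lit 6971200) (BT.leaf (nat_lit 22593825)) (BT.leaf (nat_lit 23523089))) (BT.node (nat_lit 6971328) (BT.leaf (nat_lit 22487325)) (BT.leaf (nat_lit 24555545)))) (BT.node (nat_lit 6971520) (BT.node (nat_lit 6971456) (BT.leaf (nat_lit 46636317)) (BT.leaf (nat_lit 22487833))) (BT.node (nat_lit 6971584) (BT.leaf (nat_lit 22488077)) (BT.leaf (nat_lit 34692885))))))) (BT.node (nat_lit 6972672) (BT.node (nat_lit 6972160) (BT.node (nat_lit 6971904) (BT.node (nat_lit 6971776) (BT.node (nat_lit 6971712) (BT.leaf (nat_lit 22489365)) (BT.leaf (nat_lit 27897365))) (BT.node (nat_lit 6971840) (BT.leaf (nat_lit 22488073)) (BT.leaf (nat_lit 32625441)))) (BT.node (nat_lit 6972032) (BT.node (nat_lit 6971968) (BT.leaf (nat_lit 49276165)) (BT.leaf (nat_lit 22489877))) (BT.node (nat_lit 6972096) (BT.leaf (nat_lit 33314849)) (BT.leaf (nat_lit 30165793))))) (BT.node (nat_lit 6972416) (BT.node (nat_lit 6972288) (BT.node (nat_lit 6972224) (BT.leaf (nat_lit 23479581)) (BT.leaf (nat_lit 22589725))) (BT.node (nat_lit 6972352) (BT.leaf (nat_lit 22589721)) (BT.leaf (nat_lit 46559493)))) (BT.node (nat_lit 6972544) (BT.node (nat_lit 6972480) (BT.leaf (nat_lit 47118101)) (BT.leaf (nat_lit 36880901))) (BT.node (nat_lit 6972608) (BT.leaf (nat_lit 29882913)) (BT.leaf (nat_lit 33047833)))))) (BT.node (nat_lit 6973184) (BT.node (nat_lit 6972928) (BT.node (nat_lit 6972800) (BT.node (nat_lit 6972736) (BT.leaf (nat_lit 46785813)) (BT.leaf (nat_lit 28340765))) (BT.node (nat_lit 6972864) (BT.leaf (nat_lit 22488337)) (BT.leaf (nat_lit 24674845)))) (BT.node (nat_lit 6973056) (BT.node (nat_lit 6972992) (BT.leaf (nat_lit 34373905)) (BT.leaf (nat_lit 30395661))) (BT.node (nat_lit 6973120) (BT.leaf (nat_lit 38726921)) (BT.leaf (nat_lit 25580573))))) (BT.node (nat_lit 6973440) (BT.node (nat_lit 6973312) (BT.node (nat_lit 6973248) (BT.leaf (nat_lit 28000537)) (BT.leaf (nat_lit 26977301))) (BT.node (nat_lit 6973376) (BT.leaf (nat_lit 22489361)) (BT.leaf (nat_lit 22489105)))) (BT.node (nat_lit 6973568) (BT.node (nat_lit 6973504) (BT.leaf (nat_lit 22694677)) (BT.leaf (nat_lit 22694681))) (BT.node (nat_lit 6973632) (BT.leaf (nat_lit 22694685)) (BT.leaf (nat_lit 22488849))))))))))) (BT.node (nat_lit 6990080) (BT.node (nat_lit 6981888) (BT.node (nat_lit 6977792) (BT.node (nat_lit 6975744) (BT.node (nat_lit 6974720) (BT.node (nat_lit 6974208) (BT.node (nat_lit 6973952) (BT.node (nat_lit 6973824) (BT.node (nat_lit 6973760) (BT.leaf (nat_lit 22488853)) (BT.leaf (nat_lit 24995609))) (BT.node (nat_lit 6973888) (BT.leaf (nat_lit 24995597)) (BT.leaf (nat_lit 22490129)))) (BT.node (nat_lit 6974080) (BT.node (nat_lit 6974016) (BT.leaf (nat_lit 22489873)) (BT.leaf (nat_lit 32072469))) (BT.node (nat_lit 6974144) (BT.leaf (nat_lit 23399449)) (BT.leaf (nat_lit 22489617))))) (BT.node (nat_lit 6974464) (BT.node (nat_lit 6974336) (BT.node (nat_lit 6974272) (BT.leaf (nat_lit 22489621)) (BT.leaf (nat_lit 35207457))) (BT.node (nat_lit 6974400) (BT.leaf (nat_lit 36350241)) (BT.leaf (nat_lit 32629537)))) (BT.node (nat_lit 6974592) (BT.node (nat_lit 6974528) (BT.leaf (nat_lit 50269209)) (BT.leaf (nat_lit 32193289))) (BT.node (nat_lit 6974656) (BT.leaf (nat_lit 33391393)) (BT.leaf (nat_lit 33391137)))))) (BT.node (nat_lit 6975232) (BT.node (nat_lit 6974976) (BT.node (nat_lit 6974848) (BT.node (nat_lit 6974784) (BT.leaf (nat_lit 24996373)) (BT.leaf (nat_lit 34035205))) (BT.node (nat_lit 6974912) (BT.leaf (nat_lit 28829729)) (BT.leaf (nat_lit 23182613)))) (BT.node (nat_lit 6975104) (BT.node (nat_lit 6975040) (BT.leaf (nat_lit 23182369)) (BT.leaf (nat_lit 32925201))) (BT.node (nat_lit 6975168) (BT.leaf (nat_lit 30611477)) (BT.leaf (nat_lit 31147269))))) (BT.node (nat_lit 6975488) (BT.node (nat_lit 6975360) (BT.node (nat_lit 6975296) (BT.leaf (nat_lit 22491153)) (BT.leaf (nat_lit 22723093))) (BT.node (nat_lit 6975424) (BT.leaf (nat_lit 25544197)) (BT.leaf (nat_lit 22492693)))) (BT.node (nat_lit 6975616) (BT.node (nat_lit 6975552) (BT.leaf (nat_lit 34302753)) (BT.leaf (nat_lit 27905813))) (BT.node (nat_lit 6975680) (BT.leaf (nat_lit 31732001)) (BT.leaf (nat_lit 33876253))))))) (BT.node (nat_lit 6976768) (BT.node (nat_lit 6976256) (BT.node (nat_lit 6976000) (BT.node (nat_lit 6975872) (BT.node (nat_lit 6975808) (BT.leaf (nat_lit 23855377)) (BT.leaf (nat_lit 23855393))) (BT.node (nat_lit 6975936) (BT.leaf (nat_lit 33714969)) (BT.leaf (nat_lit 47190281)))) (BT.node (nat_lit 6976128) (BT.node (nat_lit 6976064) (BT.leaf (nat_lit 24540701)) (BT.leaf (nat_lit 35008273))) (BT.node (nat_lit 6976192) (BT.leaf (nat_lit 50742025)) (BT.leaf (nat_lit 50743841))))) (BT.node (nat_lit 6976512) (BT.node (nat_lit 6976384) (BT.node (nat_lit 6976320) (BT.leaf (nat_lit 50742809)) (BT.leaf (nat_lit 37056781))) (BT.node (nat_lit 6976448) (BT.leaf (nat_lit 25337861)) (BT.leaf (nat_lit 33870597)))) (BT.node (nat_lit 6976640) (BT.node (nat_lit 6976576) (BT.leaf (nat_lit 34439709)) (BT.leaf (nat_lit 35433761))) (BT.node (nat_lit 6976704) (BT.leaf (nat_lit 34971149)) (BT.leaf (nat_lit 51668741)))))) (BT.node (nat_lit 6977280) (BT.node (nat_lit 6977024) (BT.node (nat_lit 6976896) (BT.node (nat_lit 6976832) (BT.leaf (nat_lit 35433737)) (BT.leaf (nat_lit 35084809))) (BT.node (nat_lit 6976960) (BT.leaf (nat_lit 27898645)) (BT.leaf (nat_lit 31316745)))) (BT.node (nat_lit 6977152) (BT.node (nat_lit 6977088) (BT.leaf (nat_lit 32194077)) (BT.leaf (nat_lit 27927321))) (BT.node (nat_lit 6977216) (BT.leaf (nat_lit 33381145)) (BT.leaf (nat_lit 38334725))))) (BT.node (nat_lit 6977536) (BT.node (nat_lit 6977408) (BT.node (nat_lit 6977344) (BT.leaf (nat_lit 31360773)) (BT.leaf (nat_lit 27899657))) (BT.node (nat_lit 6977472) (BT.leaf (nat_lit 24996885)) (BT.leaf (nat_lit 49790213)))) (BT.node (nat_lit 6977664) (BT.node (nat_lit 6977600) (BT.leaf (nat_lit 38330629)) (BT.leaf (nat_lit 27899673))) (BT.node (nat_lit 6977728) (BT.leaf (nat_lit 24996629)) (BT.leaf (nat_lit 25933325)))))))) (BT.node (nat_lit 6979840) (BT.node (nat_lit 6978816) (BT.node (nat_lit 6978304) (BT.node (nat_lit 6978048) (BT.node (nat_lit 6977920) (BT.node (nat_lit 6977856) (BT.leaf (nat_lit 23151893)) (BT.leaf (nat_lit 25933341))) (BT.node (nat_lit 6977984) (BT.leaf (nat_lit 22362137)) (BT.leaf (nat_lit 33521925)))) (BT.node (nat_lit 6978176) (BT.node (nat_lit 6978112) (BT.leaf (nat_lit 35716369)) (BT.leaf (nat_lit 23997721))) (BT.node (nat_lit 6978240) (BT.leaf (nat_lit 28399125)) (BT.leaf (nat_lit 22494469))))) (BT.node (nat_lit 6978560) (BT.node (nat_lit 6978432) (BT.node (nat_lit 6978368) (BT.leaf (nat_lit 22614037)) (BT.leaf (nat_lit 23961605))) (BT.node (nat_lit 6978496) (BT.leaf (nat_lit 22495505)) (BT.leaf (nat_lit 24768033)))) (BT.node (nat_lit 6978688) (BT.node (nat_lit 6978624) (BT.leaf (nat_lit 50369541)) (BT.leaf (nat_lit 38654745))) (BT.node (nat_lit 6978752) (BT.leaf (nat_lit 34944021)) (BT.leaf (nat_lit 34943761)))))) (BT.node (nat_lit 6979328) (BT.node (nat_lit 6979072) (BT.node (nat_lit 6978944) (BT.node (nat_lit 6978880) (BT.leaf (nat_lit 38587665)) (BT.leaf (nat_lit 38587421))) (BT.node (nat_lit 6979008) (BT.leaf (nat_lit 27657477)) (BT.leaf (nat_lit 27657733)))) (BT.node (nat_lit 6979200) (BT.node (nat_lit 6979136) (BT.leaf (nat_lit 27338777)) (BT.leaf (nat_lit 35226133))) (BT.node (nat_lit 6979264) (BT.leaf (nat_lit 22403353)) (BT.leaf (nat_lit 35992837))))) (BT.node (nat_lit 6979584) (BT.node (nat_lit 6979456) (BT.node (nat_lit 6979392) (BT.leaf (nat_lit 46648353)) (BT.leaf (nat_lit 27631381))) (BT.node (nat_lit 6979520) (BT.leaf (nat_lit 23962397)) (BT.leaf (nat_lit 22315293)))) (BT.node (nat_lit 6979712) (BT.node (nat_lit 6979648) (BT.leaf (nat_lit 24842517)) (BT.leaf (nat_lit 22497553))) (BT.node (nat_lit 6979776) (BT.leaf (nat_lit 22497297)) (BT.leaf (nat_lit 33723669))))))) (BT.node (nat_lit 6980864) (BT.node (nat_lit 6980352) (BT.node (nat_lit 6980096) (BT.node (nat_lit 6979968) (BT.node (nat_lit 6979904) (BT.leaf (nat_lit 36088597)) (BT.leaf (nat_lit 28567837))) (BT.node (nat_lit 6980032) (BT.leaf (nat_lit 22498589)) (BT.leaf (nat_lit 52273157)))) (BT.node (nat_lit 6980224) (BT.node (nat_lit 6980160) (BT.leaf (nat_lit 33741601)) (BT.leaf (nat_lit 37687829))) (BT.node (nat_lit 6980288) (BT.leaf (nat_lit 30408737)) (BT.leaf (nat_lit 26762261))))) (BT.node (nat_lit 6980608) (BT.node (nat_lit 6980480) (BT.node (nat_lit 6980416) (BT.leaf (nat_lit 30408993)) (BT.leaf (nat_lit 22499345))) (BT.node (nat_lit 6980544) (BT.leaf (nat_lit 24463889)) (BT.leaf (nat_lit 46798605)))) (BT.node (nat_lit 6980736) (BT.node (nat_lit 6980672) (BT.leaf (nat_lit 28115233)) (BT.leaf (nat_lit 28572945))) (BT.node (nat_lit 6980800) (BT.leaf (nat_lit 29855509)) (BT.leaf (nat_lit 22501393)))))) (BT.node (nat_lit 6981376) (BT.node (nat_lit 6981120) (BT.node (nat_lit 6980992) (BT.node (nat_lit 6980928) (BT.leaf (nat_lit 31168785)) (BT.leaf (nat_lit 23855133))) (BT.node (nat_lit 6981056) (BT.leaf (nat_lit 22406929)) (BT.leaf (nat_lit 23966489)))) (BT.node (nat_lit 6981248) (BT.node (nat_lit 6981184) (BT.leaf (nat_lit 29595409)) (BT.leaf (nat_lit 31654149))) (BT.node (nat_lit 6981312) (BT.leaf (nat_lit 22546201)) (BT.leaf (nat_lit 23350801))))) (BT.node (nat_lit 6981632) (BT.node (nat_lit 6981504) (BT.node (nat_lit 6981440) (BT.leaf (nat_lit 33534725)) (BT.leaf (nat_lit 26485789))) (BT.node (nat_lit 6981568) (BT.leaf (nat_lit 33230105)) (BT.leaf (nat_lit 23122441)))) (BT.node (nat_lit 6981760) (BT.node (nat_lit 6981696) (BT.leaf (nat_lit 23122445)) (BT.leaf (nat_lit 33155613))) (BT.node (nat_lit 6981824) (BT.leaf (nat_lit 27927309)) (BT.leaf (nat_lit 28100869))))))))) (BT.node (nat_lit 6985984) (BT.node (nat_lit 6983936) (BT.node (nat_lit 6982912) (BT.node (nat_lit 6982400) (BT.node (nat_lit 6982144) (BT.node (nat_lit 6982016) (BT.node (nat_lit 6981952) (BT.leaf (nat_lit 32878353)) (BT.leaf (nat_lit 24859681))) (BT.node (nat_lit 6982080) (BT.leaf (nat_lit 22739221)) (BT.leaf (nat_lit 35660049)))) (BT.node (nat_lit 6982272) (BT.node (nat_lit 6982208) (BT.leaf (nat_lit 22673433)) (BT.leaf (nat_lit 22673437))) (BT.node (nat_lit 6982336) (BT.leaf (nat_lit 32164881)) (BT.leaf (nat_lit 32164885))))) (BT.node (nat_lit 6982656) (BT.node (nat_lit 6982528) (BT.node (nat_lit 6982464) (BT.leaf (nat_lit 31357457)) (BT.leaf (nat_lit 28527637))) (BT.node (nat_lit 6982592) (BT.leaf (nat_lit 30017797)) (BT.leaf (nat_lit 46655765)))) (BT.node (nat_lit 6982784) (BT.node (nat_lit 6982720) (BT.leaf (nat_lit 22506525)) (BT.leaf (nat_lit 31173137))) (BT.node (nat_lit 6982848) (BT.leaf (nat_lit 22506521)) (BT.leaf (nat_lit 22732561)))))) (BT.node (nat_lit 6983424) (BT.node (nat_lit 6983168) (BT.node (nat_lit 6983040) (BT.node (nat_lit 6982976) (BT.leaf (nat_lit 22732577)) (BT.leaf (nat_lit 23506453))) (BT.node (nat_lit 6983104) (BT.leaf (nat_lit 27932445)) (BT.leaf (nat_lit 25910545)))) (BT.node (nat_lit 6983296) (BT.node (nat_lit 6983232) (BT.leaf (nat_lit 24469265)) (BT.leaf (nat_lit 46891281))) (BT.node (nat_lit 6983360) (BT.leaf (nat_lit 28810773)) (BT.leaf (nat_lit 46658577))))) (BT.node (nat_lit 6983680) (BT.node (nat_lit 6983552) (BT.node (nat_lit 6983488) (BT.leaf (nat_lit 30891541)) (BT.leaf (nat_lit 24856841))) (BT.node (nat_lit 6983616) (BT.leaf (nat_lit 36317461)) (BT.leaf (nat_lit 24308757)))) (BT.node (nat_lit 6983808) (BT.node (nat_lit 6983744) (BT.leaf (nat_lit 28827157)) (BT.leaf (nat_lit 24864017))) (BT.node (nat_lit 6983872) (BT.leaf (nat_lit 28533265)) (BT.leaf (nat_lit 27309589))))))) (BT.node (nat_lit 6984960) (BT.node (nat_lit 6984448) (BT.node (nat_lit 6984192) (BT.node (nat_lit 6984064) (BT.node (nat_lit 6984000) (BT.leaf (nat_lit 25613073)) (BT.leaf (nat_lit 36061977))) (BT.node (nat_lit 6984128) (BT.leaf (nat_lit 24006673)) (BT.leaf (nat_lit 24006689)))) (BT.node (nat_lit 6984320) (BT.node (nat_lit 6984256) (BT.leaf (nat_lit 24308241)) (BT.leaf (nat_lit 35156509))) (BT.node (nat_lit 6984384) (BT.leaf (nat_lit 32928545)) (BT.leaf (nat_lit 27507225))))) (BT.node (nat_lit 6984704) (BT.node (nat_lit 6984576) (BT.node (nat_lit 6984512) (BT.leaf (nat_lit 28789269)) (BT.leaf (nat_lit 31445777))) (BT.node (nat_lit 6984640) (BT.leaf (nat_lit 28385041)) (BT.leaf (nat_lit 27930381)))) (BT.node (nat_lit 6984832) (BT.node (nat_lit 6984768) (BT.leaf (nat_lit 22507809)) (BT.leaf (nat_lit 46660629))) (BT.node (nat_lit 6984896) (BT.leaf (nat_lit 31442205)) (BT.leaf (nat_lit 38791433)))))) (BT.node (nat_lit 6985472) (BT.node (nat_lit 6985216) (BT.node (nat_lit 6985088) (BT.node (nat_lit 6985024) (BT.leaf (nat_lit 28827413)) (BT.leaf (nat_lit 28524061))) (BT.node (nat_lit 6985152) (BT.leaf (nat_lit 34033433)) (BT.leaf (nat_lit 28382229)))) (BT.node (nat_lit 6985344) (BT.node (nat_lit 6985280) (BT.leaf (nat_lit 46655509)) (BT.leaf (nat_lit 29923085))) (BT.node (nat_lit 6985408) (BT.leaf (nat_lit 29922841)) (BT.leaf (nat_lit 25964817))))) (BT.node (nat_lit 6985728) (BT.node (nat_lit 6985600) (BT.node (nat_lit 6985536) (BT.leaf (nat_lit 34853893)) (BT.leaf (nat_lit 46655261))) (BT.node (nat_lit 6985664) (BT.leaf (nat_lit 24814361)) (BT.leaf (nat_lit 24814365)))) (BT.node (nat_lit 6985856) (BT.node (nat_lit 6985792) (BT.leaf (nat_lit 32548625)) (BT.leaf (nat_lit 29756185))) (BT.node (nat_lit 6985920) (BT.leaf (nat_lit 46663945)) (BT.leaf (nat_lit 27938073)))))))) (BT.node (nat_lit 6988032) (BT.node (nat_lit 6987008) (BT.node (nat_lit 6986496) (BT.node (nat_lit 6986240) (BT.node (nat_lit 6986112) (BT.node (nat_lit 6986048) (BT.leaf (nat_lit 38796065)) (BT.leaf (nat_lit 27942677))) (BT.node (nat_lit 6986176) (BT.leaf (nat_lit 28444181)) (BT.leaf (nat_lit 46664197)))) (BT.node (nat_lit 6986368) (BT.node (nat_lit 6986304) (BT.leaf (nat_lit 23897621)) (BT.leaf (nat_lit 28531985))) (BT.node (nat_lit 6986432) (BT.leaf (nat_lit 37199645)) (BT.leaf (nat_lit 29108761))))) (BT.node (nat_lit 6986752) (BT.node (nat_lit 6986624) (BT.node (nat_lit 6986560) (BT.leaf (nat_lit 31153937)) (BT.leaf (nat_lit 37199641))) (BT.node (nat_lit 6986688) (BT.leaf (nat_lit 28373521)) (BT.leaf (nat_lit 23669785)))) (BT.node (nat_lit 6986880) (BT.node (nat_lit 6986816) (BT.leaf (nat_lit 46665221)) (BT.leaf (nat_lit 46665485))) (BT.node (nat_lit 6986944) (BT.leaf (nat_lit 24043793)) (BT.leaf (nat_lit 24043809)))))) (BT.node (nat_lit 6987520) (BT.node (nat_lit 6987264) (BT.node (nat_lit 6987136) (BT.node (nat_lit 6987072) (BT.leaf (nat_lit 27506449)) (BT.leaf (nat_lit 36283921))) (BT.node (nat_lit 6987200) (BT.leaf (nat_lit 25001745)) (BT.leaf (nat_lit 27311905)))) (BT.node (nat_lit 6987392) (BT.node (nat_lit 6987328) (BT.leaf (nat_lit 22915861)) (BT.leaf (nat_lit 47899421))) (BT.node (nat_lit 6987456) (BT.leaf (nat_lit 36315409)) (BT.leaf (nat_lit 28224277))))) (BT.node (nat_lit 6987776) (BT.node (nat_lit 6987648) (BT.node (nat_lit 6987584) (BT.leaf (nat_lit 34738449)) (BT.leaf (nat_lit 27950105))) (BT.node (nat_lit 6987712) (BT.leaf (nat_lit 28366085)) (BT.leaf (nat_lit 29927193)))) (BT.node (nat_lit 6987904) (BT.node (nat_lit 6987840) (BT.leaf (nat_lit 46666521)) (BT.leaf (nat_lit 27951645))) (BT.node (nat_lit 6987968) (BT.leaf (nat_lit 29927181)) (BT.leaf (nat_lit 50968597))))))) (BT.node (nat_lit 6989056) (BT.node (nat_lit 6988544) (BT.node (nat_lit 6988288) (BT.node (nat_lit 6988160) (BT.node (nat_lit 6988096) (BT.leaf (nat_lit 28378629)) (BT.leaf (nat_lit 39463173))) (BT.node (nat_lit 6988224) (BT.leaf (nat_lit 27448353)) (BT.leaf (nat_lit 22776089)))) (BT.node (nat_lit 6988416) (BT.node (nat_lit 6988352) (BT.leaf (nat_lit 31513377)) (BT.leaf (nat_lit 50937117))) (BT.node (nat_lit 6988480) (BT.leaf (nat_lit 22510341)) (BT.leaf (nat_lit 31513353))))) (BT.node (nat_lit 6988800) (BT.node (nat_lit 6988672) (BT.node (nat_lit 6988608) (BT.leaf (nat_lit 31513357)) (BT.leaf (nat_lit 31513365))) (BT.node (nat_lit 6988736) (BT.leaf (nat_lit 31513369)) (BT.leaf (nat_lit 22511377)))) (BT.node (nat_lit 6988928) (BT.node (nat_lit 6988864) (BT.leaf (nat_lit 28245253)) (BT.leaf (nat_lit 31172893))) (BT.node (nat_lit 6988992) (BT.leaf (nat_lit 30720773)) (BT.leaf (nat_lit 46542613)))))) (BT.node (nat_lit 6989568) (BT.node (nat_lit 6989312) (BT.node (nat_lit 6989184) (BT.node (nat_lit 6989120) (BT.leaf (nat_lit 23099921)) (BT.leaf (nat_lit 46667269))) (BT.node (nat_lit 6989248) (BT.leaf (nat_lit 29092373)) (BT.leaf (nat_lit 38675973)))) (BT.node (nat_lit 6989440) (BT.node (nat_lit 6989376) (BT.leaf (nat_lit 27339025)) (BT.leaf (nat_lit 37817865))) (BT.node (nat_lit 6989504) (BT.leaf (nat_lit 30592533)) (BT.leaf (nat_lit 25767957))))) (BT.node (nat_lit 6989824) (BT.node (nat_lit 6989696) (BT.node (nat_lit 6989632) (BT.leaf (nat_lit 46668565)) (BT.leaf (nat_lit 37962001))) (BT.node (nat_lit 6989760) (BT.leaf (nat_lit 23632657)) (BT.leaf (nat_lit 50474253)))) (BT.node (nat_lit 6989952) (BT.node (nat_lit 6989888) (BT.leaf (nat_lit 23138309)) (BT.leaf (nat_lit 28114713))) (BT.node (nat_lit 6990016) (BT.leaf (nat_lit 23700757)) (BT.leaf (nat_lit 22849297)))))))))) (BT.node (nat_lit 6998272) (BT.node (nat_lit 6994176) (BT.node (nat_lit 6992128) (BT.node (nat_lit 6991104) (BT.node (nat_lit 6990592) (BT.node (nat_lit 6990336) (BT.node (nat_lit 6990208) (BT.node (nat_lit 6990144) (BT.leaf (nat_lit 30062613)) (BT.leaf (nat_lit 51710229))) (BT.node (nat_lit 6990272) (BT.leaf (nat_lit 22513937)) (BT.leaf (nat_lit 22513941)))) (BT.node (nat_lit 6990464) (BT.node (nat_lit 6990400) (BT.leaf (nat_lit 23350025)) (BT.leaf (nat_lit 23475981))) (BT.node (nat_lit 6990528) (BT.leaf (nat_lit 24250901)) (BT.leaf (nat_lit 46669845))))) (BT.node (nat_lit 6990848) (BT.node (nat_lit 6990720) (BT.node (nat_lit 6990656) (BT.leaf (nat_lit 50363937)) (BT.leaf (nat_lit 38603525))) (BT.node (nat_lit 6990784) (BT.leaf (nat_lit 33186065)) (BT.leaf (nat_lit 30817805)))) (BT.node (nat_lit 6990976) (BT.node (nat_lit 6990912) (BT.leaf (nat_lit 27962121)) (BT.leaf (nat_lit 38405129))) (BT.node (nat_lit 6991040) (BT.leaf (nat_lit 38403357)) (BT.leaf (nat_lit 22436369)))))) (BT.node (nat_lit 6991616) (BT.node (nat_lit 6991360) (BT.node (nat_lit 6991232) (BT.node (nat_lit 6991168) (BT.leaf (nat_lit 36491281)) (BT.leaf (nat_lit 27964441))) (BT.node (nat_lit 6991296) (BT.leaf (nat_lit 52352537)) (BT.leaf (nat_lit 24757769)))) (BT.node (nat_lit 6991488) (BT.node (nat_lit 6991424) (BT.leaf (nat_lit 29765393)) (BT.leaf (nat_lit 25934365))) (BT.node (nat_lit 6991552) (BT.leaf (nat_lit 28518661)) (BT.leaf (nat_lit 35539745))))) (BT.node (nat_lit 6991872) (BT.node (nat_lit 6991744) (BT.node (nat_lit 6991680) (BT.leaf (nat_lit 32064533)) (BT.leaf (nat_lit 24858885))) (BT.node (nat_lit 6991808) (BT.leaf (nat_lit 31406369)) (BT.leaf (nat_lit 30865953)))) (BT.node (nat_lit 6992000) (BT.node (nat_lit 6991936) (BT.leaf (nat_lit 34335493)) (BT.leaf (nat_lit 24842257))) (BT.node (nat_lit 6992064) (BT.leaf (nat_lit 46674453)) (BT.leaf (nat_lit 29284117))))))) (BT.node (nat_lit 6993152) (BT.node (nat_lit 6992640) (BT.node (nat_lit 6992384) (BT.node (nat_lit 6992256) (BT.node (nat_lit 6992192) (BT.leaf (nat_lit 33827861)) (BT.leaf (nat_lit 31458069))) (BT.node (nat_lit 6992320) (BT.leaf (nat_lit 27762965)) (BT.leaf (nat_lit 22971937)))) (BT.node (nat_lit 6992512) (BT.node (nat_lit 6992448) (BT.leaf (nat_lit 32220185)) (BT.leaf (nat_lit 22383377))) (BT.node (nat_lit 6992576) (BT.leaf (nat_lit 24085269)) (BT.leaf (nat_lit 46675997))))) (BT.node (nat_lit 6992896) (BT.node (nat_lit 6992768) (BT.node (nat_lit 6992704) (BT.leaf (nat_lit 23101985)) (BT.leaf (nat_lit 38877713))) (BT.node (nat_lit 6992832) (BT.leaf (nat_lit 25941785)) (BT.leaf (nat_lit 25541661)))) (BT.node (nat_lit 6993024) (BT.node (nat_lit 6992960) (BT.leaf (nat_lit 51152905)) (BT.leaf (nat_lit 23018009))) (BT.node (nat_lit 6993088) (BT.leaf (nat_lit 33070357)) (BT.leaf (nat_lit 34974489)))))) (BT.node (nat_lit 6993664) (BT.node (nat_lit 6993408) (BT.node (nat_lit 6993280) (BT.node (nat_lit 6993216) (BT.leaf (nat_lit 34073365)) (BT.leaf (nat_lit 34974473))) (BT.node (nat_lit 6993344) (BT.leaf (nat_lit 33738001)) (BT.leaf (nat_lit 30273297)))) (BT.node (nat_lit 6993536) (BT.node (nat_lit 6993472) (BT.leaf (nat_lit 37674525)) (BT.leaf (nat_lit 33535753))) (BT.node (nat_lit 6993600) (BT.leaf (nat_lit 25835277)) (BT.leaf (nat_lit 31579153))))) (BT.node (nat_lit 6993920) (BT.node (nat_lit 6993792) (BT.node (nat_lit 6993728) (BT.leaf (nat_lit 51682829)) (BT.leaf (nat_lit 25704993))) (BT.node (nat_lit 6993856) (BT.leaf (nat_lit 25749789)) (BT.leaf (nat_lit 23369489)))) (BT.node (nat_lit 6994048) (BT.node (nat_lit 6993984) (BT.leaf (nat_lit 34548001)) (BT.leaf (nat_lit 33759253))) (BT.node (nat_lit 6994112) (BT.leaf (nat_lit 27975945)) (BT.leaf (nat_lit 22708245)))))))) (BT.node (nat_lit 6996224) (BT.node (nat_lit 6995200) (BT.node (nat_lit 6994688) (BT.node (nat_lit 6994432) (BT.node (nat_lit 6994304) (BT.node (nat_lit 6994240) (BT.leaf (nat_lit 24500257)) (BT.leaf (nat_lit 33759005))) (BT.node (nat_lit 6994368) (BT.leaf (nat_lit 22708249)) (BT.leaf (nat_lit 22708253)))) (BT.node (nat_lit 6994560) (BT.node (nat_lit 6994496) (BT.leaf (nat_lit 27397153)) (BT.leaf (nat_lit 26285077))) (BT.node (nat_lit 6994624) (BT.leaf (nat_lit 23324185)) (BT.leaf (nat_lit 25010197))))) (BT.node (nat_lit 6994944) (BT.node (nat_lit 6994816) (BT.node (nat_lit 6994752) (BT.leaf (nat_lit 26665237)) (BT.leaf (nat_lit 32237829))) (BT.node (nat_lit 6994880) (BT.leaf (nat_lit 25009941)) (BT.leaf (nat_lit 30758689)))) (BT.node (nat_lit 6995072) (BT.node (nat_lit 6995008) (BT.leaf (nat_lit 24132869)) (BT.leaf (nat_lit 24132881))) (BT.node (nat_lit 6995136) (BT.leaf (nat_lit 38210581)) (BT.leaf (nat_lit 46681621)))))) (BT.node (nat_lit 6995712) (BT.node (nat_lit 6995456) (BT.node (nat_lit 6995328) (BT.node (nat_lit 6995264) (BT.leaf (nat_lit 32064777)) (BT.leaf (nat_lit 27810077))) (BT.node (nat_lit 6995392) (BT.leaf (nat_lit 23758101)) (BT.leaf (nat_lit 33145105)))) (BT.node (nat_lit 6995584) (BT.node (nat_lit 6995520) (BT.leaf (nat_lit 30553373)) (BT.leaf (nat_lit 32751633))) (BT.node (nat_lit 6995648) (BT.leaf (nat_lit 33364753)) (BT.leaf (nat_lit 23827489))))) (BT.node (nat_lit 6995968) (BT.node (nat_lit 6995840) (BT.node (nat_lit 6995776) (BT.leaf (nat_lit 24367633)) (BT.leaf (nat_lit 23684373))) (BT.node (nat_lit 6995904) (BT.leaf (nat_lit 33638929)) (BT.leaf (nat_lit 27495953)))) (BT.node (nat_lit 6996096) (BT.node (nat_lit 6996032) (BT.leaf (nat_lit 27496473)) (BT.leaf (nat_lit 33289757))) (BT.node (nat_lit 6996160) (BT.leaf (nat_lit 23279629)) (BT.leaf (nat_lit 49510677))))))) (BT.node (nat_lit 6997248) (BT.node (nat_lit 6996736) (BT.node (nat_lit 6996480) (BT.node (nat_lit 6996352) (BT.node (nat_lit 6996288) (BT.leaf (nat_lit 33437217)) (BT.leaf (nat_lit 22524437))) (BT.node (nat_lit 6996416) (BT.leaf (nat_lit 51774241)) (BT.leaf (nat_lit 35841305)))) (BT.node (nat_lit 6996608) (BT.node (nat_lit 6996544) (BT.leaf (nat_lit 27986205)) (BT.leaf (nat_lit 46349585))) (BT.node (nat_lit 6996672) (BT.leaf (nat_lit 33287957)) (BT.leaf (nat_lit 23489561))))) (BT.node (nat_lit 6996992) (BT.node (nat_lit 6996864) (BT.node (nat_lit 6996800) (BT.leaf (nat_lit 28598809)) (BT.leaf (nat_lit 33734169))) (BT.node (nat_lit 6996928) (BT.leaf (nat_lit 46683929)) (BT.leaf (nat_lit 22524689)))) (BT.node (nat_lit 6997120) (BT.node (nat_lit 6997056) (BT.leaf (nat_lit 34869765)) (BT.leaf (nat_lit 23191313))) (BT.node (nat_lit 6997184) (BT.leaf (nat_lit 46684181)) (BT.leaf (nat_lit 46684953)))))) (BT.node (nat_lit 6997760) (BT.node (nat_lit 6997504) (BT.node (nat_lit 6997376) (BT.node (nat_lit 6997312) (BT.leaf (nat_lit 27512349)) (BT.leaf (nat_lit 25643781))) (BT.node (nat_lit 6997440) (BT.leaf (nat_lit 23602185)) (BT.leaf (nat_lit 23601685)))) (BT.node (nat_lit 6997632) (BT.node (nat_lit 6997568) (BT.leaf (nat_lit 28739101)) (BT.leaf (nat_lit 30020381))) (BT.node (nat_lit 6997696) (BT.leaf (nat_lit 31252501)) (BT.leaf (nat_lit 38039301))))) (BT.node (nat_lit 6998016) (BT.node (nat_lit 6997888) (BT.node (nat_lit 6997824) (BT.leaf (nat_lit 23846933)) (BT.leaf (nat_lit 27819801))) (BT.node (nat_lit 6997952) (BT.leaf (nat_lit 30929173)) (BT.leaf (nat_lit 34374685)))) (BT.node (nat_lit 6998144) (BT.node (nat_lit 6998080) (BT.leaf (nat_lit 25603605)) (BT.leaf (nat_lit 27992077))) (BT.node (nat_lit 6998208) (BT.leaf (nat_lit 30928653)) (BT.leaf (nat_lit 23504917))))))))) (BT.node (nat_lit 7002240) (BT.node (nat_lit 7000320) (BT.node (nat_lit 6999296) (BT.node (nat_lit 6998784) (BT.node (nat_lit 6998528) (BT.node (nat_lit 6998400) (BT.node (nat_lit 6998336) (BT.leaf (nat_lit 29847833)) (BT.leaf (nat_lit 29038853))) (BT.node (nat_lit 6998464) (BT.leaf (nat_lit 38190113)) (BT.leaf (nat_lit 25581853)))) (BT.node (nat_lit 6998656) (BT.node (nat_lit 6998592) (BT.leaf (nat_lit 37175813)) (BT.leaf (nat_lit 25603865))) (BT.node (nat_lit 6998720) (BT.leaf (nat_lit 30148129)) (BT.leaf (nat_lit 46687505))))) (BT.node (nat_lit 6999040) (BT.node (nat_lit 6998912) (BT.node (nat_lit 6998848) (BT.leaf (nat_lit 33198089)) (BT.leaf (nat_lit 23192085))) (BT.node (nat_lit 6998976) (BT.leaf (nat_lit 38910725)) (BT.leaf (nat_lit 33567509)))) (BT.node (nat_lit 6999168) (BT.node (nat_lit 6999104) (BT.leaf (nat_lit 27997965)) (BT.leaf (nat_lit 46688289))) (BT.node (nat_lit 6999232) (BT.leaf (nat_lit 25135637)) (BT.leaf (nat_lit 50082069)))))) (BT.node (nat_lit 6999808) (BT.node (nat_lit 6999552) (BT.node (nat_lit 6999424) (BT.node (nat_lit 6999360) (BT.leaf (nat_lit 28052757)) (BT.leaf (nat_lit 31765765))) (BT.node (nat_lit 6999488) (BT.leaf (nat_lit 28052765)) (BT.leaf (nat_lit 33565717)))) (BT.node (nat_lit 6999680) (BT.node (nat_lit 6999616) (BT.leaf (nat_lit 28534817)) (BT.leaf (nat_lit 27490565))) (BT.node (nat_lit 6999744) (BT.leaf (nat_lit 29897237)) (BT.leaf (nat_lit 22530329))))) (BT.node (nat_lit 7000064) (BT.node (nat_lit 6999936) (BT.node (nat_lit 6999872) (BT.leaf (nat_lit 22530585)) (BT.leaf (nat_lit 46689045))) (BT.node (nat_lit 7000000) (BT.leaf (nat_lit 22530325)) (BT.leaf (nat_lit 38282501)))) (BT.node (nat_lit 7000192) (BT.node (nat_lit 7000128) (BT.leaf (nat_lit 34537245)) (BT.leaf (nat_lit 30073617))) (BT.node (nat_lit 7000256) (BT.leaf (nat_lit 30680337)) (BT.leaf (nat_lit 50494733))))))) (BT.node (nat_lit 7001282) (BT.node (nat_lit 7000832) (BT.node (nat_lit 7000576) (BT.node (nat_lit 7000448) (BT.node (nat_lit 7000384) (BT.leaf (nat_lit 30167557)) (BT.leaf (nat_lit 36843273))) (BT.node (nat_lit 7000512) (BT.leaf (nat_lit 24038665)) (BT.leaf (nat_lit 36844309)))) (BT.node (nat_lit 7000704) (BT.node (nat_lit 7000640) (BT.leaf (nat_lit 37851397)) (BT.leaf (nat_lit 29901857))) (BT.node (nat_lit 7000768) (BT.leaf (nat_lit 38292245)) (BT.leaf (nat_lit 22533645))))) (BT.node (nat_lit 7001088) (BT.node (nat_lit 7000960) (BT.node (nat_lit 7000896) (BT.leaf (nat_lit 24704273)) (BT.leaf (nat_lit 24704277))) (BT.node (nat_lit 7001024) (BT.leaf (nat_lit 31270673)) (BT.leaf (nat_lit 31109409)))) (BT.node (nat_lit 7001216) (BT.node (nat_lit 7001152) (BT.leaf (nat_lit 22533401)) (BT.leaf (nat_lit 33309461))) (BT.node (nat_lit 7001280) (BT.leaf (nat_lit 24038681)) (BT.leaf (nat_lit 46693653)))))) (BT.node (nat_lit 7001728) (BT.node (nat_lit 7001472) (BT.node (nat_lit 7001344) (BT.node (nat_lit 7001284) (BT.leaf (nat_lit 448180)) (BT.leaf (nat_lit 448180))) (BT.node (nat_lit 7001408) (BT.leaf (nat_lit 24626437)) (BT.leaf (nat_lit 46694421)))) (BT.node (nat_lit 7001600) (BT.node (nat_lit 7001536) (BT.leaf (nat_lit 28981777)) (BT.leaf (nat_lit 24370445))) (BT.node (nat_lit 7001664) (BT.leaf (nat_lit 24629281)) (BT.leaf (nat_lit 23771153))))) (BT.node (nat_lit 7001984) (BT.node (nat_lit 7001856) (BT.node (nat_lit 7001792) (BT.leaf (nat_lit 32564229)) (BT.leaf (nat_lit 22367509))) (BT.node (nat_lit 7001920) (BT.leaf (nat_lit 29984273)) (BT.leaf (nat_lit 23780617)))) (BT.node (nat_lit 7002112) (BT.node (nat_lit 7002048) (BT.leaf (nat_lit 23022369)) (BT.leaf (nat_lit 46694941))) (BT.node (nat_lit 7002176) (BT.leaf (nat_lit 22533921)) (BT.leaf (nat_lit 22349849)))))))) (BT.node (nat_lit 7004288) (BT.node (nat_lit 7003264) (BT.node (nat_lit 7002752) (BT.node (nat_lit 7002496) (BT.node (nat_lit 7002368) (BT.node (nat_lit 7002304) (BT.leaf (nat_lit 27198469)) (BT.leaf (nat_lit 33426437))) (BT.node (nat_lit 7002432) (BT.leaf (nat_lit 46695189)) (BT.leaf (nat_lit 33426453)))) (BT.node (nat_lit 7002624) (BT.node (nat_lit 7002560) (BT.leaf (nat_lit 33426457)) (BT.leaf (nat_lit 35560981))) (BT.node (nat_lit 7002688) (BT.leaf (nat_lit 51299845)) (BT.leaf (nat_lit 28887301))))) (BT.node (nat_lit 7003008) (BT.node (nat_lit 7002880) (BT.node (nat_lit 7002816) (BT.leaf (nat_lit 24590113)) (BT.leaf (nat_lit 27339273))) (BT.node (nat_lit 7002944) (BT.leaf (nat_lit 27792645)) (BT.leaf (nat_lit 27282449)))) (BT.node (nat_lit 7003136) (BT.node (nat_lit 7003072) (BT.leaf (nat_lit 23853581)) (BT.leaf (nat_lit 38020117))) (BT.node (nat_lit 7003200) (BT.leaf (nat_lit 46695689)) (BT.leaf (nat_lit 31007757)))))) (BT.node (nat_lit 7003776) (BT.node (nat_lit 7003520) (BT.node (nat_lit 7003392) (BT.node (nat_lit 7003328) (BT.leaf (nat_lit 31162633)) (BT.leaf (nat_lit 32833057))) (BT.node (nat_lit 7003456) (BT.leaf (nat_lit 34790405)) (BT.leaf (nat_lit 30240265)))) (BT.node (nat_lit 7003648) (BT.node (nat_lit 7003584) (BT.leaf (nat_lit 46696725)) (BT.leaf (nat_lit 23340049))) (BT.node (nat_lit 7003712) (BT.leaf (nat_lit 51944981)) (BT.leaf (nat_lit 24071953))))) (BT.node (nat_lit 7004032) (BT.node (nat_lit 7003904) (BT.node (nat_lit 7003840) (BT.leaf (nat_lit 24071957)) (BT.leaf (nat_lit 30241041))) (BT.node (nat_lit 7003968) (BT.leaf (nat_lit 51256853)) (BT.leaf (nat_lit 31704325)))) (BT.node (nat_lit 7004160) (BT.node (nat_lit 7004096) (BT.leaf (nat_lit 30202133)) (BT.leaf (nat_lit 30202141))) (BT.node (nat_lit 7004224) (BT.leaf (nat_lit 34506273)) (BT.leaf (nat_lit 30237713))))))) (BT.node (nat_lit 7005312) (BT.node (nat_lit 7004800) (BT.node (nat_lit 7004544) (BT.node (nat_lit 7004416) (BT.node (nat_lit 7004352) (BT.leaf (nat_lit 50939933)) (BT.leaf (nat_lit 22709781))) (BT.node (nat_lit 7004480) (BT.leaf (nat_lit 25549849)) (BT.leaf (nat_lit 22538249)))) (BT.node (nat_lit 7004672) (BT.node (nat_lit 7004608) (BT.leaf (nat_lit 22649617)) (BT.leaf (nat_lit 46698009))) (BT.node (nat_lit 7004736) (BT.leaf (nat_lit 22719513)) (BT.leaf (nat_lit 22719517))))) (BT.node (nat_lit 7005056) (BT.node (nat_lit 7004928) (BT.node (nat_lit 7004864) (BT.leaf (nat_lit 22539021)) (BT.leaf (nat_lit 23089673))) (BT.node (nat_lit 7004992) (BT.leaf (nat_lit 22539017)) (BT.leaf (nat_lit 27765781)))) (BT.node (nat_lit 7005184) (BT.node (nat_lit 7005120) (BT.leaf (nat_lit 22691089)) (BT.leaf (nat_lit 28419845))) (BT.node (nat_lit 7005248) (BT.leaf (nat_lit 22539285)) (BT.leaf (nat_lit 30458385)))))) (BT.node (nat_lit 7005824) (BT.node (nat_lit 7005568) (BT.node (nat_lit 7005440) (BT.node (nat_lit 7005376) (BT.leaf (nat_lit 51261729)) (BT.leaf (nat_lit 25263897))) (BT.node (nat_lit 7005504) (BT.leaf (nat_lit 33338649)) (BT.leaf (nat_lit 23607061)))) (BT.node (nat_lit 7005696) (BT.node (nat_lit 7005632) (BT.leaf (nat_lit 31834645)) (BT.leaf (nat_lit 24837129))) (BT.node (nat_lit 7005760) (BT.leaf (nat_lit 23969817)) (BT.leaf (nat_lit 23969293))))) (BT.node (nat_lit 7006080) (BT.node (nat_lit 7005952) (BT.node (nat_lit 7005888) (BT.leaf (nat_lit 35868949)) (BT.leaf (nat_lit 23969805))) (BT.node (nat_lit 7006016) (BT.leaf (nat_lit 32998161)) (BT.leaf (nat_lit 34423061)))) (BT.node (nat_lit 7006208) (BT.node (nat_lit 7006144) (BT.leaf (nat_lit 33596949)) (BT.leaf (nat_lit 27388685))) (BT.node (nat_lit 7006272) (BT.leaf (nat_lit 46960389)) (BT.leaf (nat_lit 27563017)))))))))))) (BT.node (nat_lit 7039104) (BT.node (nat_lit 7022720) (BT.node (nat_lit 7014528) (BT.node (nat_lit 7010432) (BT.node (nat_lit 7008384) (BT.node (nat_lit 7007360) (BT.node (nat_lit 7006848) (BT.node (nat_lit 7006592) (BT.node (nat_lit 7006464) (BT.node (nat_lit 7006400) (BT.leaf (nat_lit 46701589)) (BT.leaf (nat_lit 26444053))) (BT.node (nat_lit 7006528) (BT.leaf (nat_lit 28039445)) (BT.leaf (nat_lit 24613393)))) (BT.node (nat_lit 7006720) (BT.node (nat_lit 7006656) (BT.leaf (nat_lit 24613409)) (BT.leaf (nat_lit 22540833))) (BT.node (nat_lit 7006784) (BT.leaf (nat_lit 24616225)) (BT.leaf (nat_lit 29909009))))) (BT.node (nat_lit 7007104) (BT.node (nat_lit 7006976) (BT.node (nat_lit 7006912) (BT.leaf (nat_lit 37211677)) (BT.leaf (nat_lit 23678729))) (BT.node (nat_lit 7007040) (BT.leaf (nat_lit 23678733)) (BT.leaf (nat_lit 30186005)))) (BT.node (nat_lit 7007232) (BT.node (nat_lit 7007168) (BT.leaf (nat_lit 30553617)) (BT.leaf (nat_lit 30553621))) (BT.node (nat_lit 7007296) (BT.leaf (nat_lit 22541585)) (BT.leaf (nat_lit 23235333)))))) (BT.node (nat_lit 7007872) (BT.node (nat_lit 7007616) (BT.node (nat_lit 7007488) (BT.node (nat_lit 7007424) (BT.leaf (nat_lit 30932509)) (BT.leaf (nat_lit 30886665))) (BT.node (nat_lit 7007552) (BT.leaf (nat_lit 33271829)) (BT.leaf (nat_lit 23382537)))) (BT.node (nat_lit 7007744) (BT.node (nat_lit 7007680) (BT.leaf (nat_lit 47867665)) (BT.leaf (nat_lit 49069333))) (BT.node (nat_lit 7007808) (BT.leaf (nat_lit 23382553)) (BT.leaf (nat_lit 32264965))))) (BT.node (nat_lit 7008128) (BT.node (nat_lit 7008000) (BT.node (nat_lit 7007936) (BT.leaf (nat_lit 46703889)) (BT.leaf (nat_lit 23891461))) (BT.node (nat_lit 7008064) (BT.leaf (nat_lit 32605457)) (BT.leaf (nat_lit 34037785)))) (BT.node (nat_lit 7008256) (BT.node (nat_lit 7008192) (BT.leaf (nat_lit 25163277)) (BT.leaf (nat_lit 46704917))) (BT.node (nat_lit 7008320) (BT.leaf (nat_lit 34037773)) (BT.leaf (nat_lit 25893409))))))) (BT.node (nat_lit 7009408) (BT.node (nat_lit 7008896) (BT.node (nat_lit 7008640) (BT.node (nat_lit 7008512) (BT.node (nat_lit 7008448) (BT.leaf (nat_lit 25876741)) (BT.leaf (nat_lit 27369989))) (BT.node (nat_lit 7008576) (BT.leaf (nat_lit 24540705)) (BT.leaf (nat_lit 34302729)))) (BT.node (nat_lit 7008768) (BT.node (nat_lit 7008704) (BT.leaf (nat_lit 27683861)) (BT.leaf (nat_lit 23686673))) (BT.node (nat_lit 7008832) (BT.leaf (nat_lit 35076109)) (BT.leaf (nat_lit 28035865))))) (BT.node (nat_lit 7009152) (BT.node (nat_lit 7009024) (BT.node (nat_lit 7008960) (BT.leaf (nat_lit 28480289)) (BT.leaf (nat_lit 29876485))) (BT.node (nat_lit 7009088) (BT.leaf (nat_lit 49067793)) (BT.leaf (nat_lit 31975957)))) (BT.node (nat_lit 7009280) (BT.node (nat_lit 7009216) (BT.leaf (nat_lit 46440465)) (BT.leaf (nat_lit 50516749))) (BT.node (nat_lit 7009344) (BT.leaf (nat_lit 50516753)) (BT.leaf (nat_lit 28480281)))))) (BT.node (nat_lit 7009920) (BT.node (nat_lit 7009664) (BT.node (nat_lit 7009536) (BT.node (nat_lit 7009472) (BT.leaf (nat_lit 46388249)) (BT.leaf (nat_lit 38959125))) (BT.node (nat_lit 7009600) (BT.leaf (nat_lit 46706457)) (BT.leaf (nat_lit 34681873)))) (BT.node (nat_lit 7009792) (BT.node (nat_lit 7009728) (BT.leaf (nat_lit 33380377)) (BT.leaf (nat_lit 46415121))) (BT.node (nat_lit 7009856) (BT.leaf (nat_lit 28039453)) (BT.leaf (nat_lit 35872785))))) (BT.node (nat_lit 7010176) (BT.node (nat_lit 7010048) (BT.node (nat_lit 7009984) (BT.leaf (nat_lit 33016597)) (BT.leaf (nat_lit 46455313))) (BT.node (nat_lit 7010112) (BT.leaf (nat_lit 46535445)) (BT.leaf (nat_lit 46707481)))) (BT.node (nat_lit 7010304) (BT.node (nat_lit 7010240) (BT.leaf (nat_lit 36302097)) (BT.leaf (nat_lit 34636321))) (BT.node (nat_lit 7010368) (BT.leaf (nat_lit 48712225)) (BT.leaf (nat_lit 27617545)))))))) (BT.node (nat_lit 7012480) (BT.node (nat_lit 7011456) (BT.node (nat_lit 7010944) (BT.node (nat_lit 7010688) (BT.node (nat_lit 7010560) (BT.node (nat_lit 7010496) (BT.leaf (nat_lit 27617549)) (BT.leaf (nat_lit 29773333))) (BT.node (nat_lit 7010624) (BT.leaf (nat_lit 23328521)) (BT.leaf (nat_lit 23328525)))) (BT.node (nat_lit 7010816) (BT.node (nat_lit 7010752) (BT.leaf (nat_lit 23328537)) (BT.leaf (nat_lit 23328541))) (BT.node (nat_lit 7010880) (BT.leaf (nat_lit 46443025)) (BT.leaf (nat_lit 46443029))))) (BT.node (nat_lit 7011200) (BT.node (nat_lit 7011072) (BT.node (nat_lit 7011008) (BT.leaf (nat_lit 23900705)) (BT.leaf (nat_lit 32267029))) (BT.node (nat_lit 7011136) (BT.leaf (nat_lit 31172889)) (BT.leaf (nat_lit 23793177)))) (BT.node (nat_lit 7011328) (BT.node (nat_lit 7011264) (BT.leaf (nat_lit 30519049)) (BT.leaf (nat_lit 28098581))) (BT.node (nat_lit 7011392) (BT.leaf (nat_lit 49200917)) (BT.leaf (nat_lit 28974113)))))) (BT.node (nat_lit 7011968) (BT.node (nat_lit 7011712) (BT.node (nat_lit 7011584) (BT.node (nat_lit 7011520) (BT.leaf (nat_lit 46709781)) (BT.leaf (nat_lit 46710289))) (BT.node (nat_lit 7011648) (BT.leaf (nat_lit 46492177)) (BT.leaf (nat_lit 32232465)))) (BT.node (nat_lit 7011840) (BT.node (nat_lit 7011776) (BT.leaf (nat_lit 24409633)) (BT.leaf (nat_lit 28973573))) (BT.node (nat_lit 7011904) (BT.leaf (nat_lit 25315605)) (BT.leaf (nat_lit 46711829))))) (BT.node (nat_lit 7012224) (BT.node (nat_lit 7012096) (BT.node (nat_lit 7012032) (BT.leaf (nat_lit 33952797)) (BT.leaf (nat_lit 36363029))) (BT.node (nat_lit 7012160) (BT.leaf (nat_lit 33044757)) (BT.leaf (nat_lit 46712341)))) (BT.node (nat_lit 7012352) (BT.node (nat_lit 7012288) (BT.leaf (nat_lit 33727261)) (BT.leaf (nat_lit 23306005))) (BT.node (nat_lit 7012416) (BT.leaf (nat_lit 25718533)) (BT.leaf (nat_lit 36272145))))))) (BT.node (nat_lit 7013504) (BT.node (nat_lit 7012992) (BT.node (nat_lit 7012736) (BT.node (nat_lit 7012608) (BT.node (nat_lit 7012544) (BT.leaf (nat_lit 24553489)) (BT.leaf (nat_lit 35439645))) (BT.node (nat_lit 7012672) (BT.leaf (nat_lit 46712593)) (BT.leaf (nat_lit 33091093)))) (BT.node (nat_lit 7012864) (BT.node (nat_lit 7012800) (BT.leaf (nat_lit 24412961)) (BT.leaf (nat_lit 38212129))) (BT.node (nat_lit 7012928) (BT.leaf (nat_lit 36363033)) (BT.leaf (nat_lit 23670549))))) (BT.node (nat_lit 7013248) (BT.node (nat_lit 7013120) (BT.node (nat_lit 7013056) (BT.leaf (nat_lit 28745501)) (BT.leaf (nat_lit 29995545))) (BT.node (nat_lit 7013184) (BT.leaf (nat_lit 23670301)) (BT.leaf (nat_lit 27996937)))) (BT.node (nat_lit 7013376) (BT.node (nat_lit 7013312) (BT.leaf (nat_lit 49939989)) (BT.leaf (nat_lit 24124933))) (BT.node (nat_lit 7013440) (BT.leaf (nat_lit 26466849)) (BT.leaf (nat_lit 27919129)))))) (BT.node (nat_lit 7014016) (BT.node (nat_lit 7013760) (BT.node (nat_lit 7013632) (BT.node (nat_lit 7013568) (BT.leaf (nat_lit 29622789)) (BT.leaf (nat_lit 30064393))) (BT.node (nat_lit 7013696) (BT.leaf (nat_lit 38987533)) (BT.leaf (nat_lit 33872389)))) (BT.node (nat_lit 7013888) (BT.node (nat_lit 7013824) (BT.leaf (nat_lit 28055305)) (BT.leaf (nat_lit 34280725))) (BT.node (nat_lit 7013952) (BT.leaf (nat_lit 24564757)) (BT.leaf (nat_lit 34280969))))) (BT.node (nat_lit 7014272) (BT.node (nat_lit 7014144) (BT.node (nat_lit 7014080) (BT.leaf (nat_lit 47092493)) (BT.leaf (nat_lit 23670557))) (BT.node (nat_lit 7014208) (BT.leaf (nat_lit 29281561)) (BT.leaf (nat_lit 34225425)))) (BT.node (nat_lit 7014400) (BT.node (nat_lit 7014336) (BT.leaf (nat_lit 32131333)) (BT.leaf (nat_lit 34998553))) (BT.node (nat_lit 7014464) (BT.leaf (nat_lit 23662873)) (BT.leaf (nat_lit 34279453))))))))) (BT.node (nat_lit 7018624) (BT.node (nat_lit 7016576) (BT.node (nat_lit 7015552) (BT.node (nat_lit 7015040) (BT.node (nat_lit 7014784) (BT.node (nat_lit 7014656) (BT.node (nat_lit 7014592) (BT.leaf (nat_lit 31489545)) (BT.leaf (nat_lit 34288137))) (BT.node (nat_lit 7014720) (BT.leaf (nat_lit 35298069)) (BT.leaf (nat_lit 46716693)))) (BT.node (nat_lit 7014912) (BT.node (nat_lit 7014848) (BT.leaf (nat_lit 30282501)) (BT.leaf (nat_lit 28052761))) (BT.node (nat_lit 7014976) (BT.leaf (nat_lit 38944533)) (BT.leaf (nat_lit 24576021))))) (BT.node (nat_lit 7015296) (BT.node (nat_lit 7015168) (BT.node (nat_lit 7015104) (BT.leaf (nat_lit 25959701)) (BT.leaf (nat_lit 27424537))) (BT.node (nat_lit 7015232) (BT.leaf (nat_lit 46717969)) (BT.leaf (nat_lit 30692125)))) (BT.node (nat_lit 7015424) (BT.node (nat_lit 7015360) (BT.leaf (nat_lit 22546961)) (BT.leaf (nat_lit 22546965))) (BT.node (nat_lit 7015488) (BT.leaf (nat_lit 23303445)) (BT.leaf (nat_lit 29792533)))))) (BT.node (nat_lit 7016064) (BT.node (nat_lit 7015808) (BT.node (nat_lit 7015680) (BT.node (nat_lit 7015616) (BT.leaf (nat_lit 35659285)) (BT.leaf (nat_lit 27424541))) (BT.node (nat_lit 7015744) (BT.leaf (nat_lit 28794129)) (BT.leaf (nat_lit 24577301)))) (BT.node (nat_lit 7015936) (BT.node (nat_lit 7015872) (BT.leaf (nat_lit 33038869)) (BT.leaf (nat_lit 22547473))) (BT.node (nat_lit 7016000) (BT.leaf (nat_lit 35953945)) (BT.leaf (nat_lit 35953949))))) (BT.node (nat_lit 7016320) (BT.node (nat_lit 7016192) (BT.node (nat_lit 7016128) (BT.leaf (nat_lit 26211601)) (BT.leaf (nat_lit 22578705))) (BT.node (nat_lit 7016256) (BT.leaf (nat_lit 51486481)) (BT.leaf (nat_lit 28517901)))) (BT.node (nat_lit 7016448) (BT.node (nat_lit 7016384) (BT.leaf (nat_lit 35082005)) (BT.leaf (nat_lit 31613465))) (BT.node (nat_lit 7016512) (BT.leaf (nat_lit 37514529)) (BT.leaf (nat_lit 22547733))))))) (BT.node (nat_lit 7017600) (BT.node (nat_lit 7017088) (BT.node (nat_lit 7016832) (BT.node (nat_lit 7016704) (BT.node (nat_lit 7016640) (BT.leaf (nat_lit 37515041)) (BT.leaf (nat_lit 25497109))) (BT.node (nat_lit 7016768) (BT.leaf (nat_lit 22859793)) (BT.leaf (nat_lit 46720801)))) (BT.node (nat_lit 7016960) (BT.node (nat_lit 7016896) (BT.leaf (nat_lit 24299269)) (BT.leaf (nat_lit 27988245))) (BT.node (nat_lit 7017024) (BT.leaf (nat_lit 27988249)) (BT.leaf (nat_lit 27988253))))) (BT.node (nat_lit 7017344) (BT.node (nat_lit 7017216) (BT.node (nat_lit 7017152) (BT.leaf (nat_lit 36829473)) (BT.leaf (nat_lit 24525585))) (BT.node (nat_lit 7017280) (BT.leaf (nat_lit 22548757)) (BT.leaf (nat_lit 36829453)))) (BT.node (nat_lit 7017472) (BT.node (nat_lit 7017408) (BT.leaf (nat_lit 37965857)) (BT.leaf (nat_lit 29346581))) (BT.node (nat_lit 7017536) (BT.leaf (nat_lit 47635229)) (BT.leaf (nat_lit 24281873)))))) (BT.node (nat_lit 7018112) (BT.node (nat_lit 7017856) (BT.node (nat_lit 7017728) (BT.node (nat_lit 7017664) (BT.leaf (nat_lit 23237649)) (BT.leaf (nat_lit 35015441))) (BT.node (nat_lit 7017792) (BT.leaf (nat_lit 28069397)) (BT.leaf (nat_lit 36298273)))) (BT.node (nat_lit 7017984) (BT.node (nat_lit 7017920) (BT.leaf (nat_lit 46722581)) (BT.leaf (nat_lit 22356497))) (BT.node (nat_lit 7018048) (BT.leaf (nat_lit 24851217)) (BT.leaf (nat_lit 25314073))))) (BT.node (nat_lit 7018368) (BT.node (nat_lit 7018240) (BT.node (nat_lit 7018176) (BT.leaf (nat_lit 46431505)) (BT.leaf (nat_lit 39730949))) (BT.node (nat_lit 7018304) (BT.leaf (nat_lit 46723077)) (BT.leaf (nat_lit 39013381)))) (BT.node (nat_lit 7018496) (BT.node (nat_lit 7018432) (BT.leaf (nat_lit 28563745)) (BT.leaf (nat_lit 37745173))) (BT.node (nat_lit 7018560) (BT.leaf (nat_lit 29351177)) (BT.leaf (nat_lit 23237137)))))))) (BT.node (nat_lit 7020672) (BT.node (nat_lit 7019648) (BT.node (nat_lit 7019136) (BT.node (nat_lit 7018880) (BT.node (nat_lit 7018752) (BT.node (nat_lit 7018688) (BT.leaf (nat_lit 46724113)) (BT.leaf (nat_lit 30475013))) (BT.node (nat_lit 7018816) (BT.leaf (nat_lit 46725137)) (BT.leaf (nat_lit 29389345)))) (BT.node (nat_lit 7019008) (BT.node (nat_lit 7018944) (BT.leaf (nat_lit 36663057)) (BT.leaf (nat_lit 23952673))) (BT.node (nat_lit 7019072) (BT.leaf (nat_lit 32004373)) (BT.leaf (nat_lit 27293213))))) (BT.node (nat_lit 7019392) (BT.node (nat_lit 7019264) (BT.node (nat_lit 7019200) (BT.leaf (nat_lit 33085461)) (BT.leaf (nat_lit 22552849))) (BT.node (nat_lit 7019328) (BT.leaf (nat_lit 23251229)) (BT.leaf (nat_lit 22741785)))) (BT.node (nat_lit 7019520) (BT.node (nat_lit 7019456) (BT.leaf (nat_lit 29666325)) (BT.leaf (nat_lit 23248913))) (BT.node (nat_lit 7019584) (BT.leaf (nat_lit 39025157)) (BT.leaf (nat_lit 39025413)))))) (BT.node (nat_lit 7020160) (BT.node (nat_lit 7019904) (BT.node (nat_lit 7019776) (BT.node (nat_lit 7019712) (BT.leaf (nat_lit 33284633)) (BT.leaf (nat_lit 51654417))) (BT.node (nat_lit 7019840) (BT.leaf (nat_lit 51654433)) (BT.leaf (nat_lit 50667025)))) (BT.node (nat_lit 7020032) (BT.node (nat_lit 7019968) (BT.leaf (nat_lit 37674521)) (BT.leaf (nat_lit 30408717))) (BT.node (nat_lit 7020096) (BT.leaf (nat_lit 46477589)) (BT.leaf (nat_lit 46726933))))) (BT.node (nat_lit 7020416) (BT.node (nat_lit 7020288) (BT.node (nat_lit 7020224) (BT.leaf (nat_lit 32251921)) (BT.leaf (nat_lit 50199557))) (BT.node (nat_lit 7020352) (BT.leaf (nat_lit 48975645)) (BT.leaf (nat_lit 28116765)))) (BT.node (nat_lit 7020544) (BT.node (nat_lit 7020480) (BT.leaf (nat_lit 28662561)) (BT.leaf (nat_lit 49947917))) (BT.node (nat_lit 7020608) (BT.leaf (nat_lit 34054929)) (BT.leaf (nat_lit 49947913))))))) (BT.node (nat_lit 7021696) (BT.node (nat_lit 7021184) (BT.node (nat_lit 7020928) (BT.node (nat_lit 7020800) (BT.node (nat_lit 7020736) (BT.leaf (nat_lit 25142553)) (BT.leaf (nat_lit 28546309))) (BT.node (nat_lit 7020864) (BT.leaf (nat_lit 28664353)) (BT.leaf (nat_lit 39037461)))) (BT.node (nat_lit 7021056) (BT.node (nat_lit 7020992) (BT.leaf (nat_lit 46728721)) (BT.leaf (nat_lit 46729233))) (BT.node (nat_lit 7021120) (BT.leaf (nat_lit 23240985)) (BT.leaf (nat_lit 23240989))))) (BT.node (nat_lit 7021440) (BT.node (nat_lit 7021312) (BT.node (nat_lit 7021248) (BT.leaf (nat_lit 27431693)) (BT.leaf (nat_lit 24590369))) (BT.node (nat_lit 7021376) (BT.leaf (nat_lit 29289237)) (BT.leaf (nat_lit 31605013)))) (BT.node (nat_lit 7021568) (BT.node (nat_lit 7021504) (BT.leaf (nat_lit 49424905)) (BT.leaf (nat_lit 28090141))) (BT.node (nat_lit 7021632) (BT.leaf (nat_lit 22554389)) (BT.leaf (nat_lit 28090125)))))) (BT.node (nat_lit 7022208) (BT.node (nat_lit 7021952) (BT.node (nat_lit 7021824) (BT.node (nat_lit 7021760) (BT.leaf (nat_lit 33285909)) (BT.leaf (nat_lit 50372105))) (BT.node (nat_lit 7021888) (BT.leaf (nat_lit 39050017)) (BT.leaf (nat_lit 46731797)))) (BT.node (nat_lit 7022080) (BT.node (nat_lit 7022016) (BT.leaf (nat_lit 46732297)) (BT.leaf (nat_lit 35261449))) (BT.node (nat_lit 7022144) (BT.leaf (nat_lit 24282377)) (BT.leaf (nat_lit 22554901))))) (BT.node (nat_lit 7022464) (BT.node (nat_lit 7022336) (BT.node (nat_lit 7022272) (BT.leaf (nat_lit 24399373)) (BT.leaf (nat_lit 22555409))) (BT.node (nat_lit 7022400) (BT.leaf (nat_lit 46392601)) (BT.leaf (nat_lit 46392605)))) (BT.node (nat_lit 7022592) (BT.node (nat_lit 7022528) (BT.leaf (nat_lit 30732065)) (BT.leaf (nat_lit 22554645))) (BT.node (nat_lit 7022656) (BT.leaf (nat_lit 25574677)) (BT.leaf (nat_lit 29230349)))))))))) (BT.node (nat_lit 7030912) (BT.node (nat_lit 7026816) (BT.node (nat_lit 7024768) (BT.node (nat_lit 7023744) (BT.node (nat_lit 7023232) (BT.node (nat_lit 7022976) (BT.node (nat_lit 7022848) (BT.node (nat_lit 7022784) (BT.leaf (nat_lit 22324757)) (BT.leaf (nat_lit 22635281))) (BT.node (nat_lit 7022912) (BT.leaf (nat_lit 23775253)) (BT.leaf (nat_lit 28091933)))) (BT.node (nat_lit 7023104) (BT.node (nat_lit 7023040) (BT.leaf (nat_lit 34455057)) (BT.leaf (nat_lit 48150793))) (BT.node (nat_lit 7023168) (BT.leaf (nat_lit 29230357)) (BT.leaf (nat_lit 29230361))))) (BT.node (nat_lit 7023488) (BT.node (nat_lit 7023360) (BT.node (nat_lit 7023296) (BT.leaf (nat_lit 29230365)) (BT.leaf (nat_lit 46733337))) (BT.node (nat_lit 7023424) (BT.leaf (nat_lit 50401041)) (BT.leaf (nat_lit 28093981)))) (BT.node (nat_lit 7023616) (BT.node (nat_lit 7023552) (BT.leaf (nat_lit 29254421)) (BT.leaf (nat_lit 25756429))) (BT.node (nat_lit 7023680) (BT.leaf (nat_lit 32462609)) (BT.leaf (nat_lit 30859021)))))) (BT.node (nat_lit 7024256) (BT.node (nat_lit 7024000) (BT.node (nat_lit 7023872) (BT.node (nat_lit 7023808) (BT.leaf (nat_lit 46734609)) (BT.leaf (nat_lit 27858693))) (BT.node (nat_lit 7023936) (BT.leaf (nat_lit 34883093)) (BT.leaf (nat_lit 22557709)))) (BT.node (nat_lit 7024128) (BT.node (nat_lit 7024064) (BT.leaf (nat_lit 30658081)) (BT.leaf (nat_lit 30628625))) (BT.node (nat_lit 7024192) (BT.leaf (nat_lit 30628373)) (BT.leaf (nat_lit 34760465))))) (BT.node (nat_lit 7024512) (BT.node (nat_lit 7024384) (BT.node (nat_lit 7024320) (BT.leaf (nat_lit 27250973)) (BT.leaf (nat_lit 23052565))) (BT.node (nat_lit 7024448) (BT.leaf (nat_lit 23085849)) (BT.leaf (nat_lit 23855125)))) (BT.node (nat_lit 7024640) (BT.node (nat_lit 7024576) (BT.leaf (nat_lit 48970253)) (BT.leaf (nat_lit 23856665))) (BT.node (nat_lit 7024704) (BT.leaf (nat_lit 34415385)) (BT.leaf (nat_lit 28099101))))))) (BT.node (nat_lit 7025792) (BT.node (nat_lit 7025280) (BT.node (nat_lit 7025024) (BT.node (nat_lit 7024896) (BT.node (nat_lit 7024832) (BT.leaf (nat_lit 23498245)) (BT.leaf (nat_lit 46736665))) (BT.node (nat_lit 7024960) (BT.leaf (nat_lit 23498529)) (BT.leaf (nat_lit 27461397)))) (BT.node (nat_lit 7025152) (BT.node (nat_lit 7025088) (BT.leaf (nat_lit 28924949)) (BT.leaf (nat_lit 28231705))) (BT.node (nat_lit 7025216) (BT.leaf (nat_lit 33959449)) (BT.leaf (nat_lit 29920021))))) (BT.node (nat_lit 7025536) (BT.node (nat_lit 7025408) (BT.node (nat_lit 7025344) (BT.leaf (nat_lit 22859545)) (BT.leaf (nat_lit 22859549))) (BT.node (nat_lit 7025472) (BT.leaf (nat_lit 36456717)) (BT.leaf (nat_lit 46737173)))) (BT.node (nat_lit 7025664) (BT.node (nat_lit 7025600) (BT.leaf (nat_lit 23893513)) (BT.leaf (nat_lit 46737685))) (BT.node (nat_lit 7025728) (BT.leaf (nat_lit 23991825)) (BT.leaf (nat_lit 23991841)))))) (BT.node (nat_lit 7026304) (BT.node (nat_lit 7026048) (BT.node (nat_lit 7025920) (BT.node (nat_lit 7025856) (BT.leaf (nat_lit 25325589)) (BT.leaf (nat_lit 33562901))) (BT.node (nat_lit 7025984) (BT.leaf (nat_lit 22557985)) (BT.leaf (nat_lit 22558241)))) (BT.node (nat_lit 7026176) (BT.node (nat_lit 7026112) (BT.leaf (nat_lit 22558753)) (BT.leaf (nat_lit 28554001))) (BT.node (nat_lit 7026240) (BT.leaf (nat_lit 22562829)) (BT.leaf (nat_lit 22562333))))) (BT.node (nat_lit 7026560) (BT.node (nat_lit 7026432) (BT.node (nat_lit 7026368) (BT.leaf (nat_lit 30703393)) (BT.leaf (nat_lit 30213665))) (BT.node (nat_lit 7026496) (BT.leaf (nat_lit 22559509)) (BT.leaf (nat_lit 30202401)))) (BT.node (nat_lit 7026688) (BT.node (nat_lit 7026624) (BT.leaf (nat_lit 37945365)) (BT.leaf (nat_lit 27773217))) (BT.node (nat_lit 7026752) (BT.leaf (nat_lit 39034125)) (BT.leaf (nat_lit 32482581)))))))) (BT.node (nat_lit 7028864) (BT.node (nat_lit 7027840) (BT.node (nat_lit 7027328) (BT.node (nat_lit 7027072) (BT.node (nat_lit 7026944) (BT.node (nat_lit 7026880) (BT.leaf (nat_lit 30416417)) (BT.leaf (nat_lit 46741025))) (BT.node (nat_lit 7027008) (BT.leaf (nat_lit 34659105)) (BT.leaf (nat_lit 46740501)))) (BT.node (nat_lit 7027200) (BT.node (nat_lit 7027136) (BT.leaf (nat_lit 32001557)) (BT.leaf (nat_lit 28116761))) (BT.node (nat_lit 7027264) (BT.leaf (nat_lit 27376393)) (BT.leaf (nat_lit 37751069))))) (BT.node (nat_lit 7027584) (BT.node (nat_lit 7027456) (BT.node (nat_lit 7027392) (BT.leaf (nat_lit 39072021)) (BT.leaf (nat_lit 24494353))) (BT.node (nat_lit 7027520) (BT.leaf (nat_lit 36250381)) (BT.leaf (nat_lit 27959833)))) (BT.node (nat_lit 7027712) (BT.node (nat_lit 7027648) (BT.leaf (nat_lit 24266017)) (BT.leaf (nat_lit 50456849))) (BT.node (nat_lit 7027776) (BT.leaf (nat_lit 33290249)) (BT.leaf (nat_lit 30218005)))))) (BT.node (nat_lit 7028352) (BT.node (nat_lit 7028096) (BT.node (nat_lit 7027968) (BT.node (nat_lit 7027904) (BT.leaf (nat_lit 31257373)) (BT.leaf (nat_lit 27588361))) (BT.node (nat_lit 7028032) (BT.leaf (nat_lit 28135961)) (BT.leaf (nat_lit 25599517)))) (BT.node (nat_lit 7028224) (BT.node (nat_lit 7028160) (BT.leaf (nat_lit 22570261)) (BT.leaf (nat_lit 23687189))) (BT.node (nat_lit 7028288) (BT.leaf (nat_lit 46743317)) (BT.leaf (nat_lit 23691281))))) (BT.node (nat_lit 7028608) (BT.node (nat_lit 7028480) (BT.node (nat_lit 7028416) (BT.leaf (nat_lit 31941665)) (BT.leaf (nat_lit 28128261))) (BT.node (nat_lit 7028544) (BT.leaf (nat_lit 24266273)) (BT.leaf (nat_lit 33798661)))) (BT.node (nat_lit 7028736) (BT.node (nat_lit 7028672) (BT.leaf (nat_lit 24266757)) (BT.leaf (nat_lit 23700501))) (BT.node (nat_lit 7028800) (BT.leaf (nat_lit 27959837)) (BT.leaf (nat_lit 49952789))))))) (BT.node (nat_lit 7029888) (BT.node (nat_lit 7029376) (BT.node (nat_lit 7029120) (BT.node (nat_lit 7028992) (BT.node (nat_lit 7028928) (BT.leaf (nat_lit 24590609)) (BT.leaf (nat_lit 23416609))) (BT.node (nat_lit 7029056) (BT.leaf (nat_lit 30703137)) (BT.leaf (nat_lit 46744341)))) (BT.node (nat_lit 7029248) (BT.node (nat_lit 7029184) (BT.leaf (nat_lit 28276741)) (BT.leaf (nat_lit 28080137))) (BT.node (nat_lit 7029312) (BT.leaf (nat_lit 30690325)) (BT.leaf (nat_lit 23645473))))) (BT.node (nat_lit 7029632) (BT.node (nat_lit 7029504) (BT.node (nat_lit 7029440) (BT.leaf (nat_lit 27556377)) (BT.leaf (nat_lit 46744853))) (BT.node (nat_lit 7029568) (BT.leaf (nat_lit 23320345)) (BT.leaf (nat_lit 36732169)))) (BT.node (nat_lit 7029760) (BT.node (nat_lit 7029696) (BT.leaf (nat_lit 38104085)) (BT.leaf (nat_lit 33064477))) (BT.node (nat_lit 7029824) (BT.leaf (nat_lit 33064457)) (BT.leaf (nat_lit 47379993)))))) (BT.node (nat_lit 7030400) (BT.node (nat_lit 7030144) (BT.node (nat_lit 7030016) (BT.node (nat_lit 7029952) (BT.leaf (nat_lit 39086345)) (BT.leaf (nat_lit 30777617))) (BT.node (nat_lit 7030080) (BT.leaf (nat_lit 28652817)) (BT.leaf (nat_lit 35150357)))) (BT.node (nat_lit 7030272) (BT.node (nat_lit 7030208) (BT.leaf (nat_lit 34990349)) (BT.leaf (nat_lit 22563613))) (BT.node (nat_lit 7030336) (BT.leaf (nat_lit 30312977)) (BT.leaf (nat_lit 23040789))))) (BT.node (nat_lit 7030656) (BT.node (nat_lit 7030528) (BT.node (nat_lit 7030464) (BT.leaf (nat_lit 22565149)) (BT.leaf (nat_lit 51515669))) (BT.node (nat_lit 7030592) (BT.leaf (nat_lit 46747921)) (BT.leaf (nat_lit 29338657)))) (BT.node (nat_lit 7030784) (BT.node (nat_lit 7030720) (BT.leaf (nat_lit 46741257)) (BT.leaf (nat_lit 32006433))) (BT.node (nat_lit 7030848) (BT.leaf (nat_lit 46748421)) (BT.leaf (nat_lit 24590877))))))))) (BT.node (nat_lit 7035008) (BT.node (nat_lit 7032960) (BT.node (nat_lit 7031936) (BT.node (nat_lit 7031424) (BT.node (nat_lit 7031168) (BT.node (nat_lit 7031040) (BT.node (nat_lit 7030976) (BT.leaf (nat_lit 39104033)) (BT.leaf (nat_lit 46749729))) (BT.node (nat_lit 7031104) (BT.leaf (nat_lit 46750241)) (BT.leaf (nat_lit 46750753)))) (BT.node (nat_lit 7031296) (BT.node (nat_lit 7031232) (BT.leaf (nat_lit 46751265)) (BT.leaf (nat_lit 37637153))) (BT.node (nat_lit 7031360) (BT.leaf (nat_lit 29327637)) (BT.leaf (nat_lit 46752021))))) (BT.node (nat_lit 7031680) (BT.node (nat_lit 7031552) (BT.node (nat_lit 7031488) (BT.leaf (nat_lit 38234901)) (BT.leaf (nat_lit 28109325))) (BT.node (nat_lit 7031616) (BT.leaf (nat_lit 24185105)) (BT.leaf (nat_lit 27376397)))) (BT.node (nat_lit 7031808) (BT.node (nat_lit 7031744) (BT.leaf (nat_lit 38581537)) (BT.leaf (nat_lit 23257377))) (BT.node (nat_lit 7031872) (BT.leaf (nat_lit 23257369)) (BT.leaf (nat_lit 23257373)))))) (BT.node (nat_lit 7032448) (BT.node (nat_lit 7032192) (BT.node (nat_lit 7032064) (BT.node (nat_lit 7032000) (BT.leaf (nat_lit 41201425)) (BT.leaf (nat_lit 28127769))) (BT.node (nat_lit 7032128) (BT.leaf (nat_lit 31924257)) (BT.leaf (nat_lit 46753813)))) (BT.node (nat_lit 7032320) (BT.node (nat_lit 7032256) (BT.leaf (nat_lit 31736073)) (BT.leaf (nat_lit 46754069))) (BT.node (nat_lit 7032384) (BT.leaf (nat_lit 24076825)) (BT.leaf (nat_lit 46754325))))) (BT.node (nat_lit 7032704) (BT.node (nat_lit 7032576) (BT.node (nat_lit 7032512) (BT.leaf (nat_lit 24216597)) (BT.leaf (nat_lit 23220757))) (BT.node (nat_lit 7032640) (BT.leaf (nat_lit 46754577)) (BT.leaf (nat_lit 28130329)))) (BT.node (nat_lit 7032832) (BT.node (nat_lit 7032768) (BT.leaf (nat_lit 23432981)) (BT.leaf (nat_lit 46371601))) (BT.node (nat_lit 7032896) (BT.leaf (nat_lit 24306705)) (BT.leaf (nat_lit 47994897))))))) (BT.node (nat_lit 7033984) (BT.node (nat_lit 7033472) (BT.node (nat_lit 7033216) (BT.node (nat_lit 7033088) (BT.node (nat_lit 7033024) (BT.leaf (nat_lit 27502857)) (BT.leaf (nat_lit 24216345))) (BT.node (nat_lit 7033152) (BT.leaf (nat_lit 31702537)) (BT.leaf (nat_lit 34787845)))) (BT.node (nat_lit 7033344) (BT.node (nat_lit 7033280) (BT.leaf (nat_lit 30013717)) (BT.leaf (nat_lit 28133405))) (BT.node (nat_lit 7033408) (BT.leaf (nat_lit 34859793)) (BT.leaf (nat_lit 22622993))))) (BT.node (nat_lit 7033728) (BT.node (nat_lit 7033600) (BT.node (nat_lit 7033536) (BT.leaf (nat_lit 24003613)) (BT.leaf (nat_lit 33934113))) (BT.node (nat_lit 7033664) (BT.leaf (nat_lit 24942353)) (BT.leaf (nat_lit 27507745)))) (BT.node (nat_lit 7033856) (BT.node (nat_lit 7033792) (BT.leaf (nat_lit 34297629)) (BT.leaf (nat_lit 50076705))) (BT.node (nat_lit 7033920) (BT.leaf (nat_lit 51747361)) (BT.leaf (nat_lit 23705633)))))) (BT.node (nat_lit 7034496) (BT.node (nat_lit 7034240) (BT.node (nat_lit 7034112) (BT.node (nat_lit 7034048) (BT.leaf (nat_lit 25599509)) (BT.leaf (nat_lit 26536977))) (BT.node (nat_lit 7034176) (BT.leaf (nat_lit 28135949)) (BT.leaf (nat_lit 22569493)))) (BT.node (nat_lit 7034368) (BT.node (nat_lit 7034304) (BT.leaf (nat_lit 30942997)) (BT.leaf (nat_lit 34860821))) (BT.node (nat_lit 7034432) (BT.leaf (nat_lit 22569489)) (BT.leaf (nat_lit 31139861))))) (BT.node (nat_lit 7034752) (BT.node (nat_lit 7034624) (BT.node (nat_lit 7034560) (BT.leaf (nat_lit 30406933)) (BT.leaf (nat_lit 22569745))) (BT.node (nat_lit 7034688) (BT.leaf (nat_lit 28136221)) (BT.leaf (nat_lit 25028893)))) (BT.node (nat_lit 7034880) (BT.node (nat_lit 7034816) (BT.leaf (nat_lit 29516301)) (BT.leaf (nat_lit 26537233))) (BT.node (nat_lit 7034944) (BT.leaf (nat_lit 28139289)) (BT.leaf (nat_lit 36445465)))))))) (BT.node (nat_lit 7037056) (BT.node (nat_lit 7036032) (BT.node (nat_lit 7035520) (BT.node (nat_lit 7035264) (BT.node (nat_lit 7035136) (BT.node (nat_lit 7035072) (BT.leaf (nat_lit 33290269)) (BT.leaf (nat_lit 27515937))) (BT.node (nat_lit 7035200) (BT.leaf (nat_lit 31941893)) (BT.leaf (nat_lit 35491345)))) (BT.node (nat_lit 7035392) (BT.node (nat_lit 7035328) (BT.leaf (nat_lit 24618269)) (BT.leaf (nat_lit 34303769))) (BT.node (nat_lit 7035456) (BT.leaf (nat_lit 23687953)) (BT.leaf (nat_lit 33136921))))) (BT.node (nat_lit 7035776) (BT.node (nat_lit 7035648) (BT.node (nat_lit 7035584) (BT.leaf (nat_lit 51137557)) (BT.leaf (nat_lit 29715481))) (BT.node (nat_lit 7035712) (BT.leaf (nat_lit 28112413)) (BT.leaf (nat_lit 22570517)))) (BT.node (nat_lit 7035904) (BT.node (nat_lit 7035840) (BT.leaf (nat_lit 30078241)) (BT.leaf (nat_lit 32484369))) (BT.node (nat_lit 7035968) (BT.leaf (nat_lit 32486169)) (BT.leaf (nat_lit 29684769)))))) (BT.node (nat_lit 7036544) (BT.node (nat_lit 7036288) (BT.node (nat_lit 7036160) (BT.node (nat_lit 7036096) (BT.leaf (nat_lit 22560529)) (BT.leaf (nat_lit 22571025))) (BT.node (nat_lit 7036224) (BT.leaf (nat_lit 24506389)) (BT.leaf (nat_lit 46763025)))) (BT.node (nat_lit 7036416) (BT.node (nat_lit 7036352) (BT.leaf (nat_lit 30082849)) (BT.leaf (nat_lit 22570769))) (BT.node (nat_lit 7036480) (BT.leaf (nat_lit 22571805)) (BT.leaf (nat_lit 22572061))))) (BT.node (nat_lit 7036800) (BT.node (nat_lit 7036672) (BT.node (nat_lit 7036608) (BT.leaf (nat_lit 22571281)) (BT.leaf (nat_lit 30764569))) (BT.node (nat_lit 7036736) (BT.leaf (nat_lit 22572057)) (BT.leaf (nat_lit 25616921)))) (BT.node (nat_lit 7036928) (BT.node (nat_lit 7036864) (BT.leaf (nat_lit 23912725)) (BT.leaf (nat_lit 24189469))) (BT.node (nat_lit 7036992) (BT.leaf (nat_lit 28638725)) (BT.leaf (nat_lit 30850329))))))) (BT.node (nat_lit 7038080) (BT.node (nat_lit 7037568) (BT.node (nat_lit 7037312) (BT.node (nat_lit 7037184) (BT.node (nat_lit 7037120) (BT.leaf (nat_lit 46741781)) (BT.leaf (nat_lit 30850317))) (BT.node (nat_lit 7037248) (BT.leaf (nat_lit 34382357)) (BT.leaf (nat_lit 24474389)))) (BT.node (nat_lit 7037440) (BT.node (nat_lit 7037376) (BT.leaf (nat_lit 22561041)) (BT.leaf (nat_lit 23905557))) (BT.node (nat_lit 7037504) (BT.leaf (nat_lit 39075853)) (BT.leaf (nat_lit 24225045))))) (BT.node (nat_lit 7037824) (BT.node (nat_lit 7037696) (BT.node (nat_lit 7037632) (BT.leaf (nat_lit 24194585)) (BT.leaf (nat_lit 24624905))) (BT.node (nat_lit 7037760) (BT.leaf (nat_lit 49004309)) (BT.leaf (nat_lit 27814937)))) (BT.node (nat_lit 7037952) (BT.node (nat_lit 7037888) (BT.leaf (nat_lit 31917089)) (BT.leaf (nat_lit 28263957))) (BT.node (nat_lit 7038016) (BT.leaf (nat_lit 31898913)) (BT.leaf (nat_lit 33008149)))))) (BT.node (nat_lit 7038592) (BT.node (nat_lit 7038336) (BT.node (nat_lit 7038208) (BT.node (nat_lit 7038144) (BT.leaf (nat_lit 28112909)) (BT.leaf (nat_lit 28552197))) (BT.node (nat_lit 7038272) (BT.leaf (nat_lit 33302805)) (BT.leaf (nat_lit 34774285)))) (BT.node (nat_lit 7038464) (BT.node (nat_lit 7038400) (BT.leaf (nat_lit 46767381)) (BT.leaf (nat_lit 22573833))) (BT.node (nat_lit 7038528) (BT.leaf (nat_lit 46768153)) (BT.leaf (nat_lit 46768405))))) (BT.node (nat_lit 7038848) (BT.node (nat_lit 7038720) (BT.node (nat_lit 7038656) (BT.leaf (nat_lit 27100945)) (BT.leaf (nat_lit 24808729))) (BT.node (nat_lit 7038784) (BT.leaf (nat_lit 24861193)) (BT.leaf (nat_lit 33067541)))) (BT.node (nat_lit 7038976) (BT.node (nat_lit 7038912) (BT.leaf (nat_lit 33881109)) (BT.leaf (nat_lit 28786717))) (BT.node (nat_lit 7039040) (BT.leaf (nat_lit 31939077)) (BT.leaf (nat_lit 28318725))))))))))) (BT.node (nat_lit 7055488) (BT.node (nat_lit 7047296) (BT.node (nat_lit 7043200) (BT.node (nat_lit 7041152) (BT.node (nat_lit 7040128) (BT.node (nat_lit 7039616) (BT.node (nat_lit 7039360) (BT.node (nat_lit 7039232) (BT.node (nat_lit 7039168) (BT.leaf (nat_lit 24384517)) (BT.leaf (nat_lit 30930949))) (BT.node (nat_lit 7039296) (BT.leaf (nat_lit 30918661)) (BT.leaf (nat_lit 32125473)))) (BT.node (nat_lit 7039488) (BT.node (nat_lit 7039424) (BT.leaf (nat_lit 30916385)) (BT.leaf (nat_lit 33067293))) (BT.node (nat_lit 7039552) (BT.leaf (nat_lit 34738721)) (BT.leaf (nat_lit 46955533))))) (BT.node (nat_lit 7039872) (BT.node (nat_lit 7039744) (BT.node (nat_lit 7039680) (BT.leaf (nat_lit 34393377)) (BT.leaf (nat_lit 46771985))) (BT.node (nat_lit 7039808) (BT.leaf (nat_lit 23833617)) (BT.leaf (nat_lit 51597853)))) (BT.node (nat_lit 7040000) (BT.node (nat_lit 7039936) (BT.leaf (nat_lit 27283729)) (BT.leaf (nat_lit 31084573))) (BT.node (nat_lit 7040064) (BT.leaf (nat_lit 24800005)) (BT.leaf (nat_lit 24716821)))))) (BT.node (nat_lit 7040640) (BT.node (nat_lit 7040384) (BT.node (nat_lit 7040256) (BT.node (nat_lit 7040192) (BT.leaf (nat_lit 24716825)) (BT.leaf (nat_lit 23408145))) (BT.node (nat_lit 7040320) (BT.leaf (nat_lit 24798737)) (BT.leaf (nat_lit 24518677)))) (BT.node (nat_lit 7040512) (BT.node (nat_lit 7040448) (BT.leaf (nat_lit 24518681)) (BT.leaf (nat_lit 24518685))) (BT.node (nat_lit 7040576) (BT.leaf (nat_lit 28639493)) (BT.leaf (nat_lit 24193813))))) (BT.node (nat_lit 7040896) (BT.node (nat_lit 7040768) (BT.node (nat_lit 7040704) (BT.leaf (nat_lit 28727829)) (BT.leaf (nat_lit 23482389))) (BT.node (nat_lit 7040832) (BT.leaf (nat_lit 23673353)) (BT.leaf (nat_lit 23673357)))) (BT.node (nat_lit 7041024) (BT.node (nat_lit 7040960) (BT.leaf (nat_lit 35816209)) (BT.leaf (nat_lit 23673377))) (BT.node (nat_lit 7041088) (BT.leaf (nat_lit 27716101)) (BT.leaf (nat_lit 37392669))))))) (BT.node (nat_lit 7042176) (BT.node (nat_lit 7041664) (BT.node (nat_lit 7041408) (BT.node (nat_lit 7041280) (BT.node (nat_lit 7041216) (BT.leaf (nat_lit 28168201)) (BT.leaf (nat_lit 50966561))) (BT.node (nat_lit 7041344) (BT.leaf (nat_lit 47900933)) (BT.leaf (nat_lit 22581025)))) (BT.node (nat_lit 7041536) (BT.node (nat_lit 7041472) (BT.leaf (nat_lit 34801697)) (BT.leaf (nat_lit 35465233))) (BT.node (nat_lit 7041600) (BT.leaf (nat_lit 32345861)) (BT.leaf (nat_lit 34176529))))) (BT.node (nat_lit 7041920) (BT.node (nat_lit 7041792) (BT.node (nat_lit 7041728) (BT.leaf (nat_lit 46778385)) (BT.leaf (nat_lit 46546181))) (BT.node (nat_lit 7041856) (BT.leaf (nat_lit 29829893)) (BT.leaf (nat_lit 26573841)))) (BT.node (nat_lit 7042048) (BT.node (nat_lit 7041984) (BT.leaf (nat_lit 46780185)) (BT.leaf (nat_lit 30223633))) (BT.node (nat_lit 7042112) (BT.leaf (nat_lit 22582033)) (BT.leaf (nat_lit 22581777)))))) (BT.node (nat_lit 7042688) (BT.node (nat_lit 7042432) (BT.node (nat_lit 7042304) (BT.node (nat_lit 7042240) (BT.leaf (nat_lit 24622105)) (BT.leaf (nat_lit 46781453))) (BT.node (nat_lit 7042368) (BT.leaf (nat_lit 30222625)) (BT.leaf (nat_lit 22380049)))) (BT.node (nat_lit 7042560) (BT.node (nat_lit 7042496) (BT.leaf (nat_lit 46783769)) (BT.leaf (nat_lit 22799129))) (BT.node (nat_lit 7042624) (BT.leaf (nat_lit 28004357)) (BT.leaf (nat_lit 22583065))))) (BT.node (nat_lit 7042944) (BT.node (nat_lit 7042816) (BT.node (nat_lit 7042752) (BT.leaf (nat_lit 34469385)) (BT.leaf (nat_lit 28004373))) (BT.node (nat_lit 7042880) (BT.leaf (nat_lit 22583581)) (BT.leaf (nat_lit 22583069)))) (BT.node (nat_lit 7043072) (BT.node (nat_lit 7043008) (BT.leaf (nat_lit 23851281)) (BT.leaf (nat_lit 23851285))) (BT.node (nat_lit 7043136) (BT.leaf (nat_lit 22585117)) (BT.leaf (nat_lit 38485789)))))))) (BT.node (nat_lit 7045248) (BT.node (nat_lit 7044224) (BT.node (nat_lit 7043712) (BT.node (nat_lit 7043456) (BT.node (nat_lit 7043328) (BT.node (nat_lit 7043264) (BT.leaf (nat_lit 24675333)) (BT.leaf (nat_lit 28173329))) (BT.node (nat_lit 7043392) (BT.leaf (nat_lit 29882389)) (BT.leaf (nat_lit 23816981)))) (BT.node (nat_lit 7043584) (BT.node (nat_lit 7043520) (BT.leaf (nat_lit 22585357)) (BT.leaf (nat_lit 31077653))) (BT.node (nat_lit 7043648) (BT.leaf (nat_lit 37368861)) (BT.leaf (nat_lit 22585373))))) (BT.node (nat_lit 7043968) (BT.node (nat_lit 7043840) (BT.node (nat_lit 7043776) (BT.leaf (nat_lit 22585369)) (BT.leaf (nat_lit 27747361))) (BT.node (nat_lit 7043904) (BT.leaf (nat_lit 36105749)) (BT.leaf (nat_lit 23493905)))) (BT.node (nat_lit 7044096) (BT.node (nat_lit 7044032) (BT.leaf (nat_lit 28175641)) (BT.leaf (nat_lit 22586129))) (BT.node (nat_lit 7044160) (BT.leaf (nat_lit 27891221)) (BT.leaf (nat_lit 24104201)))))) (BT.node (nat_lit 7044736) (BT.node (nat_lit 7044480) (BT.node (nat_lit 7044352) (BT.node (nat_lit 7044288) (BT.leaf (nat_lit 37371669)) (BT.leaf (nat_lit 33449237))) (BT.node (nat_lit 7044416) (BT.leaf (nat_lit 30049553)) (BT.leaf (nat_lit 30031393)))) (BT.node (nat_lit 7044608) (BT.node (nat_lit 7044544) (BT.leaf (nat_lit 22586393)) (BT.leaf (nat_lit 39222537))) (BT.node (nat_lit 7044672) (BT.leaf (nat_lit 47005725)) (BT.leaf (nat_lit 22587657))))) (BT.node (nat_lit 7044992) (BT.node (nat_lit 7044864) (BT.node (nat_lit 7044800) (BT.leaf (nat_lit 31596809)) (BT.leaf (nat_lit 22821909))) (BT.node (nat_lit 7044928) (BT.leaf (nat_lit 23925025)) (BT.leaf (nat_lit 24631581)))) (BT.node (nat_lit 7045120) (BT.node (nat_lit 7045056) (BT.leaf (nat_lit 46785565)) (BT.leaf (nat_lit 23854093))) (BT.node (nat_lit 7045184) (BT.leaf (nat_lit 22588681)) (BT.leaf (nat_lit 22588425))))))) (BT.node (nat_lit 7046272) (BT.node (nat_lit 7045760) (BT.node (nat_lit 7045504) (BT.node (nat_lit 7045376) (BT.node (nat_lit 7045312) (BT.leaf (nat_lit 22586133)) (BT.leaf (nat_lit 22588685))) (BT.node (nat_lit 7045440) (BT.leaf (nat_lit 28183577)) (BT.leaf (nat_lit 22588701)))) (BT.node (nat_lit 7045632) (BT.node (nat_lit 7045568) (BT.leaf (nat_lit 22588697)) (BT.leaf (nat_lit 25581585))) (BT.node (nat_lit 7045696) (BT.leaf (nat_lit 36835869)) (BT.leaf (nat_lit 36501281))))) (BT.node (nat_lit 7046016) (BT.node (nat_lit 7045888) (BT.node (nat_lit 7045824) (BT.leaf (nat_lit 23854109)) (BT.leaf (nat_lit 52320017))) (BT.node (nat_lit 7045952) (BT.leaf (nat_lit 26427925)) (BT.leaf (nat_lit 36501261)))) (BT.node (nat_lit 7046144) (BT.node (nat_lit 7046080) (BT.leaf (nat_lit 22589197)) (BT.leaf (nat_lit 27248389))) (BT.node (nat_lit 7046208) (BT.leaf (nat_lit 23245333)) (BT.leaf (nat_lit 22589705)))))) (BT.node (nat_lit 7046784) (BT.node (nat_lit 7046528) (BT.node (nat_lit 7046400) (BT.node (nat_lit 7046336) (BT.leaf (nat_lit 22589193)) (BT.leaf (nat_lit 22589709))) (BT.node (nat_lit 7046464) (BT.leaf (nat_lit 24438281)) (BT.leaf (nat_lit 23086105)))) (BT.node (nat_lit 7046656) (BT.node (nat_lit 7046592) (BT.leaf (nat_lit 27744021)) (BT.leaf (nat_lit 22587677))) (BT.node (nat_lit 7046720) (BT.leaf (nat_lit 38486557)) (BT.leaf (nat_lit 28173341))))) (BT.node (nat_lit 7047040) (BT.node (nat_lit 7046912) (BT.node (nat_lit 7046848) (BT.leaf (nat_lit 32242205)) (BT.leaf (nat_lit 46789905))) (BT.node (nat_lit 7046976) (BT.leaf (nat_lit 32955929)) (BT.leaf (nat_lit 28818193)))) (BT.node (nat_lit 7047168) (BT.node (nat_lit 7047104) (BT.leaf (nat_lit 37422357)) (BT.leaf (nat_lit 22590481))) (BT.node (nat_lit 7047232) (BT.leaf (nat_lit 22589969)) (BT.leaf (nat_lit 38723333))))))))) (BT.node (nat_lit 7051392) (BT.node (nat_lit 7049344) (BT.node (nat_lit 7048320) (BT.node (nat_lit 7047808) (BT.node (nat_lit 7047552) (BT.node (nat_lit 7047424) (BT.node (nat_lit 7047360) (BT.leaf (nat_lit 31080969)) (BT.leaf (nat_lit 39183629))) (BT.node (nat_lit 7047488) (BT.leaf (nat_lit 46791957)) (BT.leaf (nat_lit 48346901)))) (BT.node (nat_lit 7047680) (BT.node (nat_lit 7047616) (BT.leaf (nat_lit 34373921)) (BT.leaf (nat_lit 23286293))) (BT.node (nat_lit 7047744) (BT.leaf (nat_lit 22590737)) (BT.leaf (nat_lit 38487813))))) (BT.node (nat_lit 7048064) (BT.node (nat_lit 7047936) (BT.node (nat_lit 7047872) (BT.leaf (nat_lit 27730965)) (BT.leaf (nat_lit 26160901))) (BT.node (nat_lit 7048000) (BT.leaf (nat_lit 24675077)) (BT.leaf (nat_lit 29457157)))) (BT.node (nat_lit 7048192) (BT.node (nat_lit 7048128) (BT.leaf (nat_lit 23087389)) (BT.leaf (nat_lit 22591249))) (BT.node (nat_lit 7048256) (BT.leaf (nat_lit 38487073)) (BT.leaf (nat_lit 22592017)))))) (BT.node (nat_lit 7048832) (BT.node (nat_lit 7048576) (BT.node (nat_lit 7048448) (BT.node (nat_lit 7048384) (BT.leaf (nat_lit 46793745)) (BT.leaf (nat_lit 27009309))) (BT.node (nat_lit 7048512) (BT.leaf (nat_lit 22591505)) (BT.leaf (nat_lit 22593041)))) (BT.node (nat_lit 7048704) (BT.node (nat_lit 7048640) (BT.leaf (nat_lit 46794757)) (BT.leaf (nat_lit 22592529))) (BT.node (nat_lit 7048768) (BT.leaf (nat_lit 22592273)) (BT.leaf (nat_lit 27457809))))) (BT.node (nat_lit 7049088) (BT.node (nat_lit 7048960) (BT.node (nat_lit 7048896) (BT.leaf (nat_lit 27457825)) (BT.leaf (nat_lit 22485785))) (BT.node (nat_lit 7049024) (BT.leaf (nat_lit 46795029)) (BT.leaf (nat_lit 48210197)))) (BT.node (nat_lit 7049216) (BT.node (nat_lit 7049152) (BT.leaf (nat_lit 22593305)) (BT.leaf (nat_lit 22595861))) (BT.node (nat_lit 7049280) (BT.leaf (nat_lit 24727317)) (BT.leaf (nat_lit 36117009))))))) (BT.node (nat_lit 7050368) (BT.node (nat_lit 7049856) (BT.node (nat_lit 7049600) (BT.node (nat_lit 7049472) (BT.node (nat_lit 7049408) (BT.leaf (nat_lit 51633169)) (BT.leaf (nat_lit 28203529))) (BT.node (nat_lit 7049536) (BT.leaf (nat_lit 22595613)) (BT.leaf (nat_lit 25045781)))) (BT.node (nat_lit 7049728) (BT.node (nat_lit 7049664) (BT.leaf (nat_lit 28198153)) (BT.leaf (nat_lit 33930773))) (BT.node (nat_lit 7049792) (BT.leaf (nat_lit 28206869)) (BT.leaf (nat_lit 27369753))))) (BT.node (nat_lit 7050112) (BT.node (nat_lit 7049984) (BT.node (nat_lit 7049920) (BT.leaf (nat_lit 22403093)) (BT.leaf (nat_lit 27363601))) (BT.node (nat_lit 7050048) (BT.leaf (nat_lit 24236317)) (BT.leaf (nat_lit 28203549)))) (BT.node (nat_lit 7050240) (BT.node (nat_lit 7050176) (BT.leaf (nat_lit 22595605)) (BT.leaf (nat_lit 28203533))) (BT.node (nat_lit 7050304) (BT.leaf (nat_lit 33736725)) (BT.leaf (nat_lit 31532553)))))) (BT.node (nat_lit 7050880) (BT.node (nat_lit 7050624) (BT.node (nat_lit 7050496) (BT.node (nat_lit 7050432) (BT.leaf (nat_lit 31526161)) (BT.leaf (nat_lit 37212193))) (BT.node (nat_lit 7050560) (BT.leaf (nat_lit 25846817)) (BT.leaf (nat_lit 22596629)))) (BT.node (nat_lit 7050752) (BT.node (nat_lit 7050688) (BT.leaf (nat_lit 34542617)) (BT.leaf (nat_lit 46593301))) (BT.node (nat_lit 7050816) (BT.leaf (nat_lit 31532565)) (BT.leaf (nat_lit 46796813))))) (BT.node (nat_lit 7051136) (BT.node (nat_lit 7051008) (BT.node (nat_lit 7050944) (BT.leaf (nat_lit 22596373)) (BT.leaf (nat_lit 36149257))) (BT.node (nat_lit 7051072) (BT.leaf (nat_lit 24098077)) (BT.leaf (nat_lit 33061641)))) (BT.node (nat_lit 7051264) (BT.node (nat_lit 7051200) (BT.leaf (nat_lit 22323473)) (BT.leaf (nat_lit 46800161))) (BT.node (nat_lit 7051328) (BT.leaf (nat_lit 22597137)) (BT.leaf (nat_lit 22597141)))))))) (BT.node (nat_lit 7053440) (BT.node (nat_lit 7052416) (BT.node (nat_lit 7051904) (BT.node (nat_lit 7051648) (BT.node (nat_lit 7051520) (BT.node (nat_lit 7051456) (BT.leaf (nat_lit 28198169)) (BT.leaf (nat_lit 25046549))) (BT.node (nat_lit 7051584) (BT.leaf (nat_lit 32427809)) (BT.leaf (nat_lit 38333729)))) (BT.node (nat_lit 7051776) (BT.node (nat_lit 7051712) (BT.leaf (nat_lit 38333445)) (BT.leaf (nat_lit 27369757))) (BT.node (nat_lit 7051840) (BT.leaf (nat_lit 25046293)) (BT.leaf (nat_lit 22405141))))) (BT.node (nat_lit 7052160) (BT.node (nat_lit 7052032) (BT.node (nat_lit 7051968) (BT.leaf (nat_lit 22921757)) (BT.leaf (nat_lit 22972685))) (BT.node (nat_lit 7052096) (BT.leaf (nat_lit 22597905)) (BT.leaf (nat_lit 25222929)))) (BT.node (nat_lit 7052288) (BT.node (nat_lit 7052224) (BT.leaf (nat_lit 28309537)) (BT.leaf (nat_lit 28021269))) (BT.node (nat_lit 7052352) (BT.leaf (nat_lit 22598673)) (BT.leaf (nat_lit 30658581)))))) (BT.node (nat_lit 7052928) (BT.node (nat_lit 7052672) (BT.node (nat_lit 7052544) (BT.node (nat_lit 7052480) (BT.leaf (nat_lit 33148193)) (BT.leaf (nat_lit 36243233))) (BT.node (nat_lit 7052608) (BT.leaf (nat_lit 25420057)) (BT.leaf (nat_lit 46806305)))) (BT.node (nat_lit 7052800) (BT.node (nat_lit 7052736) (BT.leaf (nat_lit 46806561)) (BT.leaf (nat_lit 46806817))) (BT.node (nat_lit 7052864) (BT.leaf (nat_lit 36369429)) (BT.leaf (nat_lit 22594841))))) (BT.node (nat_lit 7053184) (BT.node (nat_lit 7053056) (BT.node (nat_lit 7052992) (BT.leaf (nat_lit 27304469)) (BT.leaf (nat_lit 22594845))) (BT.node (nat_lit 7053120) (BT.leaf (nat_lit 46648325)) (BT.leaf (nat_lit 23836437)))) (BT.node (nat_lit 7053312) (BT.node (nat_lit 7053248) (BT.leaf (nat_lit 27663109)) (BT.leaf (nat_lit 24948765))) (BT.node (nat_lit 7053376) (BT.leaf (nat_lit 22636049)) (BT.leaf (nat_lit 30788121))))))) (BT.node (nat_lit 7054464) (BT.node (nat_lit 7053952) (BT.node (nat_lit 7053696) (BT.node (nat_lit 7053568) (BT.node (nat_lit 7053504) (BT.leaf (nat_lit 22849553)) (BT.leaf (nat_lit 34076705))) (BT.node (nat_lit 7053632) (BT.leaf (nat_lit 36390413)) (BT.leaf (nat_lit 33083937)))) (BT.node (nat_lit 7053824) (BT.node (nat_lit 7053760) (BT.leaf (nat_lit 51324681)) (BT.leaf (nat_lit 23385881))) (BT.node (nat_lit 7053888) (BT.leaf (nat_lit 31304457)) (BT.leaf (nat_lit 28893473))))) (BT.node (nat_lit 7054208) (BT.node (nat_lit 7054080) (BT.node (nat_lit 7054016) (BT.leaf (nat_lit 29156101)) (BT.leaf (nat_lit 46809097))) (BT.node (nat_lit 7054144) (BT.leaf (nat_lit 29156885)) (BT.leaf (nat_lit 23004433)))) (BT.node (nat_lit 7054336) (BT.node (nat_lit 7054272) (BT.leaf (nat_lit 51542561)) (BT.leaf (nat_lit 46811157))) (BT.node (nat_lit 7054400) (BT.leaf (nat_lit 37111301)) (BT.leaf (nat_lit 31010577)))))) (BT.node (nat_lit 7054976) (BT.node (nat_lit 7054720) (BT.node (nat_lit 7054592) (BT.node (nat_lit 7054528) (BT.leaf (nat_lit 23966493)) (BT.leaf (nat_lit 22604829))) (BT.node (nat_lit 7054656) (BT.leaf (nat_lit 46521861)) (BT.leaf (nat_lit 29854989)))) (BT.node (nat_lit 7054848) (BT.node (nat_lit 7054784) (BT.leaf (nat_lit 29854993)) (BT.leaf (nat_lit 29855001))) (BT.node (nat_lit 7054912) (BT.leaf (nat_lit 29855005)) (BT.leaf (nat_lit 22328601))))) (BT.node (nat_lit 7055232) (BT.node (nat_lit 7055104) (BT.node (nat_lit 7055040) (BT.leaf (nat_lit 46509573)) (BT.leaf (nat_lit 46813973))) (BT.node (nat_lit 7055168) (BT.leaf (nat_lit 23271957)) (BT.leaf (nat_lit 22328605)))) (BT.node (nat_lit 7055360) (BT.node (nat_lit 7055296) (BT.leaf (nat_lit 22605085)) (BT.leaf (nat_lit 27375381))) (BT.node (nat_lit 7055424) (BT.leaf (nat_lit 22605329)) (BT.leaf (nat_lit 50175757)))))))))) (BT.node (nat_lit 7063680) (BT.node (nat_lit 7059584) (BT.node (nat_lit 7057536) (BT.node (nat_lit 7056512) (BT.node (nat_lit 7056000) (BT.node (nat_lit 7055744) (BT.node (nat_lit 7055616) (BT.node (nat_lit 7055552) (BT.leaf (nat_lit 24998169)) (BT.leaf (nat_lit 36725281))) (BT.node (nat_lit 7055680) (BT.leaf (nat_lit 46816277)) (BT.leaf (nat_lit 36725261)))) (BT.node (nat_lit 7055872) (BT.node (nat_lit 7055808) (BT.leaf (nat_lit 33319957)) (BT.leaf (nat_lit 24098073))) (BT.node (nat_lit 7055936) (BT.leaf (nat_lit 46329109)) (BT.leaf (nat_lit 24098057))))) (BT.node (nat_lit 7056256) (BT.node (nat_lit 7056128) (BT.node (nat_lit 7056064) (BT.leaf (nat_lit 36273681)) (BT.leaf (nat_lit 28235033))) (BT.node (nat_lit 7056192) (BT.leaf (nat_lit 24113693)) (BT.leaf (nat_lit 27368477)))) (BT.node (nat_lit 7056384) (BT.node (nat_lit 7056320) (BT.leaf (nat_lit 27697941)) (BT.leaf (nat_lit 28225565))) (BT.node (nat_lit 7056448) (BT.leaf (nat_lit 30155277)) (BT.leaf (nat_lit 35076105)))))) (BT.node (nat_lit 7057024) (BT.node (nat_lit 7056768) (BT.node (nat_lit 7056640) (BT.node (nat_lit 7056576) (BT.leaf (nat_lit 22608669)) (BT.leaf (nat_lit 22608665))) (BT.node (nat_lit 7056704) (BT.leaf (nat_lit 30427157)) (BT.leaf (nat_lit 23327249)))) (BT.node (nat_lit 7056896) (BT.node (nat_lit 7056832) (BT.leaf (nat_lit 35335429)) (BT.leaf (nat_lit 34307845))) (BT.node (nat_lit 7056960) (BT.leaf (nat_lit 34506501)) (BT.leaf (nat_lit 28364833))))) (BT.node (nat_lit 7057280) (BT.node (nat_lit 7057152) (BT.node (nat_lit 7057088) (BT.leaf (nat_lit 36300821)) (BT.leaf (nat_lit 27353889))) (BT.node (nat_lit 7057216) (BT.leaf (nat_lit 27311889)) (BT.leaf (nat_lit 22367257)))) (BT.node (nat_lit 7057408) (BT.node (nat_lit 7057344) (BT.leaf (nat_lit 34881553)) (BT.leaf (nat_lit 27952645))) (BT.node (nat_lit 7057472) (BT.leaf (nat_lit 31623201)) (BT.leaf (nat_lit 27367965))))))) (BT.node (nat_lit 7058560) (BT.node (nat_lit 7058048) (BT.node (nat_lit 7057792) (BT.node (nat_lit 7057664) (BT.node (nat_lit 7057600) (BT.leaf (nat_lit 37865241)) (BT.leaf (nat_lit 28386053))) (BT.node (nat_lit 7057728) (BT.leaf (nat_lit 37865229)) (BT.leaf (nat_lit 33394209)))) (BT.node (nat_lit 7057920) (BT.node (nat_lit 7057856) (BT.leaf (nat_lit 46819345)) (BT.leaf (nat_lit 27703317))) (BT.node (nat_lit 7057984) (BT.leaf (nat_lit 33440017)) (BT.leaf (nat_lit 35140633))))) (BT.node (nat_lit 7058304) (BT.node (nat_lit 7058176) (BT.node (nat_lit 7058112) (BT.leaf (nat_lit 27697685)) (BT.leaf (nat_lit 27368473))) (BT.node (nat_lit 7058240) (BT.leaf (nat_lit 22609425)) (BT.leaf (nat_lit 28222993)))) (BT.node (nat_lit 7058432) (BT.node (nat_lit 7058368) (BT.leaf (nat_lit 32268065)) (BT.leaf (nat_lit 39278089))) (BT.node (nat_lit 7058496) (BT.leaf (nat_lit 39280161)) (BT.leaf (nat_lit 33162529)))))) (BT.node (nat_lit 7059072) (BT.node (nat_lit 7058816) (BT.node (nat_lit 7058688) (BT.node (nat_lit 7058624) (BT.leaf (nat_lit 46820117)) (BT.leaf (nat_lit 28444677))) (BT.node (nat_lit 7058752) (BT.leaf (nat_lit 36145429)) (BT.leaf (nat_lit 35426065)))) (BT.node (nat_lit 7058944) (BT.node (nat_lit 7058880) (BT.leaf (nat_lit 47899417)) (BT.leaf (nat_lit 24523293))) (BT.node (nat_lit 7059008) (BT.leaf (nat_lit 22733073)) (BT.leaf (nat_lit 24327445))))) (BT.node (nat_lit 7059328) (BT.node (nat_lit 7059200) (BT.node (nat_lit 7059136) (BT.leaf (nat_lit 34187029)) (BT.leaf (nat_lit 34554657))) (BT.node (nat_lit 7059264) (BT.leaf (nat_lit 28247833)) (BT.leaf (nat_lit 24149537)))) (BT.node (nat_lit 7059456) (BT.node (nat_lit 7059392) (BT.leaf (nat_lit 46819849)) (BT.leaf (nat_lit 24149525))) (BT.node (nat_lit 7059520) (BT.leaf (nat_lit 24149529)) (BT.leaf (nat_lit 24149533)))))))) (BT.node (nat_lit 7061632) (BT.node (nat_lit 7060608) (BT.node (nat_lit 7060096) (BT.node (nat_lit 7059840) (BT.node (nat_lit 7059712) (BT.node (nat_lit 7059648) (BT.leaf (nat_lit 29997073)) (BT.leaf (nat_lit 33335577))) (BT.node (nat_lit 7059776) (BT.leaf (nat_lit 22609953)) (BT.leaf (nat_lit 22611461)))) (BT.node (nat_lit 7059968) (BT.node (nat_lit 7059904) (BT.leaf (nat_lit 24328477)) (BT.leaf (nat_lit 31149845))) (BT.node (nat_lit 7060032) (BT.leaf (nat_lit 28514833)) (BT.leaf (nat_lit 28033565))))) (BT.node (nat_lit 7060352) (BT.node (nat_lit 7060224) (BT.node (nat_lit 7060160) (BT.leaf (nat_lit 27441949)) (BT.leaf (nat_lit 37868569))) (BT.node (nat_lit 7060288) (BT.leaf (nat_lit 31912213)) (BT.leaf (nat_lit 28644885)))) (BT.node (nat_lit 7060480) (BT.node (nat_lit 7060416) (BT.leaf (nat_lit 28514821)) (BT.leaf (nat_lit 37207569))) (BT.node (nat_lit 7060544) (BT.leaf (nat_lit 22611985)) (BT.leaf (nat_lit 30921997)))))) (BT.node (nat_lit 7061120) (BT.node (nat_lit 7060864) (BT.node (nat_lit 7060736) (BT.node (nat_lit 7060672) (BT.leaf (nat_lit 32392985)) (BT.leaf (nat_lit 33985809))) (BT.node (nat_lit 7060800) (BT.leaf (nat_lit 22612229)) (BT.leaf (nat_lit 50443793)))) (BT.node (nat_lit 7060992) (BT.node (nat_lit 7060928) (BT.leaf (nat_lit 38080017)) (BT.leaf (nat_lit 46425105))) (BT.node (nat_lit 7061056) (BT.leaf (nat_lit 36071201)) (BT.leaf (nat_lit 50929937))))) (BT.node (nat_lit 7061376) (BT.node (nat_lit 7061248) (BT.node (nat_lit 7061184) (BT.leaf (nat_lit 46821401)) (BT.leaf (nat_lit 28717841))) (BT.node (nat_lit 7061312) (BT.leaf (nat_lit 34553633)) (BT.leaf (nat_lit 27687713)))) (BT.node (nat_lit 7061504) (BT.node (nat_lit 7061440) (BT.leaf (nat_lit 24401177)) (BT.leaf (nat_lit 24401181))) (BT.node (nat_lit 7061568) (BT.leaf (nat_lit 50716677)) (BT.leaf (nat_lit 22607633))))))) (BT.node (nat_lit 7062656) (BT.node (nat_lit 7062144) (BT.node (nat_lit 7061888) (BT.node (nat_lit 7061760) (BT.node (nat_lit 7061696) (BT.leaf (nat_lit 27506201)) (BT.leaf (nat_lit 27506205))) (BT.node (nat_lit 7061824) (BT.leaf (nat_lit 28235037)) (BT.leaf (nat_lit 22612509)))) (BT.node (nat_lit 7062016) (BT.node (nat_lit 7061952) (BT.leaf (nat_lit 22915857)) (BT.leaf (nat_lit 35426321))) (BT.node (nat_lit 7062080) (BT.leaf (nat_lit 34677785)) (BT.leaf (nat_lit 26015761))))) (BT.node (nat_lit 7062400) (BT.node (nat_lit 7062272) (BT.node (nat_lit 7062208) (BT.leaf (nat_lit 46822165)) (BT.leaf (nat_lit 30591765))) (BT.node (nat_lit 7062336) (BT.leaf (nat_lit 27416081)) (BT.leaf (nat_lit 23594001)))) (BT.node (nat_lit 7062528) (BT.node (nat_lit 7062464) (BT.leaf (nat_lit 23006993)) (BT.leaf (nat_lit 23006997))) (BT.node (nat_lit 7062592) (BT.leaf (nat_lit 27966477)) (BT.leaf (nat_lit 30203409)))))) (BT.node (nat_lit 7063168) (BT.node (nat_lit 7062912) (BT.node (nat_lit 7062784) (BT.node (nat_lit 7062720) (BT.leaf (nat_lit 22445333)) (BT.leaf (nat_lit 22614801))) (BT.node (nat_lit 7062848) (BT.leaf (nat_lit 47979285)) (BT.leaf (nat_lit 24680985)))) (BT.node (nat_lit 7063040) (BT.node (nat_lit 7062976) (BT.leaf (nat_lit 24680989)) (BT.leaf (nat_lit 22318609))) (BT.node (nat_lit 7063104) (BT.leaf (nat_lit 22615313)) (BT.leaf (nat_lit 23016989))))) (BT.node (nat_lit 7063424) (BT.node (nat_lit 7063296) (BT.node (nat_lit 7063232) (BT.leaf (nat_lit 50141701)) (BT.leaf (nat_lit 29534481))) (BT.node (nat_lit 7063360) (BT.leaf (nat_lit 32834837)) (BT.leaf (nat_lit 39301385)))) (BT.node (nat_lit 7063552) (BT.node (nat_lit 7063488) (BT.leaf (nat_lit 28253465)) (BT.leaf (nat_lit 23714577))) (BT.node (nat_lit 7063616) (BT.leaf (nat_lit 31282977)) (BT.leaf (nat_lit 22977561))))))))) (BT.node (nat_lit 7067776) (BT.node (nat_lit 7065728) (BT.node (nat_lit 7064704) (BT.node (nat_lit 7064192) (BT.node (nat_lit 7063936) (BT.node (nat_lit 7063808) (BT.node (nat_lit 7063744) (BT.leaf (nat_lit 34627333)) (BT.leaf (nat_lit 30907153))) (BT.node (nat_lit 7063872) (BT.leaf (nat_lit 24260897)) (BT.leaf (nat_lit 22973457)))) (BT.node (nat_lit 7064064) (BT.node (nat_lit 7064000) (BT.leaf (nat_lit 24237329)) (BT.leaf (nat_lit 24237577))) (BT.node (nat_lit 7064128) (BT.leaf (nat_lit 22618385)) (BT.leaf (nat_lit 23366165))))) (BT.node (nat_lit 7064448) (BT.node (nat_lit 7064320) (BT.node (nat_lit 7064256) (BT.leaf (nat_lit 29493765)) (BT.leaf (nat_lit 23429905))) (BT.node (nat_lit 7064384) (BT.leaf (nat_lit 23429909)) (BT.leaf (nat_lit 24471825)))) (BT.node (nat_lit 7064576) (BT.node (nat_lit 7064512) (BT.leaf (nat_lit 24471829)) (BT.leaf (nat_lit 22618897))) (BT.node (nat_lit 7064640) (BT.leaf (nat_lit 22619153)) (BT.leaf (nat_lit 46828833)))))) (BT.node (nat_lit 7065216) (BT.node (nat_lit 7064960) (BT.node (nat_lit 7064832) (BT.node (nat_lit 7064768) (BT.leaf (nat_lit 51502085)) (BT.leaf (nat_lit 28258841))) (BT.node (nat_lit 7064896) (BT.leaf (nat_lit 33081109)) (BT.leaf (nat_lit 28389153)))) (BT.node (nat_lit 7065088) (BT.node (nat_lit 7065024) (BT.leaf (nat_lit 24250381)) (BT.leaf (nat_lit 30028565))) (BT.node (nat_lit 7065152) (BT.leaf (nat_lit 22750993)) (BT.leaf (nat_lit 52065809))))) (BT.node (nat_lit 7065472) (BT.node (nat_lit 7065344) (BT.node (nat_lit 7065280) (BT.leaf (nat_lit 29590049)) (BT.leaf (nat_lit 52085009))) (BT.node (nat_lit 7065408) (BT.leaf (nat_lit 22768409)) (BT.leaf (nat_lit 22768413)))) (BT.node (nat_lit 7065600) (BT.node (nat_lit 7065536) (BT.leaf (nat_lit 30845957)) (BT.leaf (nat_lit 28563217))) (BT.node (nat_lit 7065664) (BT.leaf (nat_lit 24268313)) (BT.leaf (nat_lit 28248589))))))) (BT.node (nat_lit 7066752) (BT.node (nat_lit 7066240) (BT.node (nat_lit 7065984) (BT.node (nat_lit 7065856) (BT.node (nat_lit 7065792) (BT.leaf (nat_lit 46821897)) (BT.leaf (nat_lit 23132953))) (BT.node (nat_lit 7065920) (BT.leaf (nat_lit 41695765)) (BT.leaf (nat_lit 41067541)))) (BT.node (nat_lit 7066112) (BT.node (nat_lit 7066048) (BT.leaf (nat_lit 24267277)) (BT.leaf (nat_lit 28323077))) (BT.node (nat_lit 7066176) (BT.leaf (nat_lit 28154397)) (BT.leaf (nat_lit 34389785))))) (BT.node (nat_lit 7066496) (BT.node (nat_lit 7066368) (BT.node (nat_lit 7066304) (BT.leaf (nat_lit 33901849)) (BT.leaf (nat_lit 46832917))) (BT.node (nat_lit 7066432) (BT.leaf (nat_lit 22954765)) (BT.leaf (nat_lit 33117713)))) (BT.node (nat_lit 7066624) (BT.node (nat_lit 7066560) (BT.leaf (nat_lit 39064609)) (BT.leaf (nat_lit 50482449))) (BT.node (nat_lit 7066688) (BT.leaf (nat_lit 27414809)) (BT.leaf (nat_lit 50482705)))))) (BT.node (nat_lit 7067264) (BT.node (nat_lit 7067008) (BT.node (nat_lit 7066880) (BT.node (nat_lit 7066816) (BT.leaf (nat_lit 36178445)) (BT.leaf (nat_lit 29879829))) (BT.node (nat_lit 7066944) (BT.leaf (nat_lit 46834197)) (BT.leaf (nat_lit 39726613)))) (BT.node (nat_lit 7067136) (BT.node (nat_lit 7067072) (BT.leaf (nat_lit 25677593)) (BT.leaf (nat_lit 31092761))) (BT.node (nat_lit 7067200) (BT.leaf (nat_lit 37891097)) (BT.leaf (nat_lit 31092749))))) (BT.node (nat_lit 7067520) (BT.node (nat_lit 7067392) (BT.node (nat_lit 7067328) (BT.leaf (nat_lit 27540241)) (BT.leaf (nat_lit 39322389))) (BT.node (nat_lit 7067456) (BT.leaf (nat_lit 48094737)) (BT.leaf (nat_lit 33361173)))) (BT.node (nat_lit 7067648) (BT.node (nat_lit 7067584) (BT.leaf (nat_lit 48150553)) (BT.leaf (nat_lit 33362197))) (BT.node (nat_lit 7067712) (BT.leaf (nat_lit 28154121)) (BT.leaf (nat_lit 33267997)))))))) (BT.node (nat_lit 7069824) (BT.node (nat_lit 7068800) (BT.node (nat_lit 7068288) (BT.node (nat_lit 7068032) (BT.node (nat_lit 7067904) (BT.node (nat_lit 7067840) (BT.leaf (nat_lit 23801621)) (BT.leaf (nat_lit 22623757))) (BT.node (nat_lit 7067968) (BT.leaf (nat_lit 28103177)) (BT.leaf (nat_lit 26954517)))) (BT.node (nat_lit 7068160) (BT.node (nat_lit 7068096) (BT.leaf (nat_lit 46649629)) (BT.leaf (nat_lit 33357845))) (BT.node (nat_lit 7068224) (BT.leaf (nat_lit 22712085)) (BT.leaf (nat_lit 33357333))))) (BT.node (nat_lit 7068544) (BT.node (nat_lit 7068416) (BT.node (nat_lit 7068352) (BT.leaf (nat_lit 28304137)) (BT.leaf (nat_lit 34765333))) (BT.node (nat_lit 7068480) (BT.leaf (nat_lit 23077145)) (BT.leaf (nat_lit 23077129)))) (BT.node (nat_lit 7068672) (BT.node (nat_lit 7068608) (BT.leaf (nat_lit 22624289)) (BT.leaf (nat_lit 46835733))) (BT.node (nat_lit 7068736) (BT.leaf (nat_lit 22632985)) (BT.leaf (nat_lit 33356829)))))) (BT.node (nat_lit 7069312) (BT.node (nat_lit 7069056) (BT.node (nat_lit 7068928) (BT.node (nat_lit 7068864) (BT.leaf (nat_lit 27782677)) (BT.leaf (nat_lit 23156253))) (BT.node (nat_lit 7068992) (BT.leaf (nat_lit 24772637)) (BT.leaf (nat_lit 30159117)))) (BT.node (nat_lit 7069184) (BT.node (nat_lit 7069120) (BT.leaf (nat_lit 28288781)) (BT.leaf (nat_lit 28288785))) (BT.node (nat_lit 7069248) (BT.leaf (nat_lit 29781009)) (BT.leaf (nat_lit 32833029))))) (BT.node (nat_lit 7069568) (BT.node (nat_lit 7069440) (BT.node (nat_lit 7069376) (BT.leaf (nat_lit 27872289)) (BT.leaf (nat_lit 31505173))) (BT.node (nat_lit 7069504) (BT.leaf (nat_lit 28266249)) (BT.leaf (nat_lit 34522905)))) (BT.node (nat_lit 7069696) (BT.node (nat_lit 7069632) (BT.leaf (nat_lit 31702553)) (BT.leaf (nat_lit 31702541))) (BT.node (nat_lit 7069760) (BT.leaf (nat_lit 34767133)) (BT.leaf (nat_lit 37932045))))))) (BT.node (nat_lit 7070848) (BT.node (nat_lit 7070336) (BT.node (nat_lit 7070080) (BT.node (nat_lit 7069952) (BT.node (nat_lit 7069888) (BT.leaf (nat_lit 30716937)) (BT.leaf (nat_lit 24311557))) (BT.node (nat_lit 7070016) (BT.leaf (nat_lit 30068753)) (BT.leaf (nat_lit 26031381)))) (BT.node (nat_lit 7070208) (BT.node (nat_lit 7070144) (BT.leaf (nat_lit 27089433)) (BT.leaf (nat_lit 22627097))) (BT.node (nat_lit 7070272) (BT.leaf (nat_lit 28636177)) (BT.leaf (nat_lit 39041045))))) (BT.node (nat_lit 7070592) (BT.node (nat_lit 7070464) (BT.node (nat_lit 7070400) (BT.leaf (nat_lit 35816977)) (BT.leaf (nat_lit 28557853))) (BT.node (nat_lit 7070528) (BT.leaf (nat_lit 28267529)) (BT.leaf (nat_lit 27431201)))) (BT.node (nat_lit 7070720) (BT.node (nat_lit 7070656) (BT.leaf (nat_lit 30980897)) (BT.leaf (nat_lit 25123613))) (BT.node (nat_lit 7070784) (BT.leaf (nat_lit 35626781)) (BT.leaf (nat_lit 46841633)))))) (BT.node (nat_lit 7071360) (BT.node (nat_lit 7071104) (BT.node (nat_lit 7070976) (BT.node (nat_lit 7070912) (BT.leaf (nat_lit 37135393)) (BT.leaf (nat_lit 46842913))) (BT.node (nat_lit 7071040) (BT.leaf (nat_lit 37612577)) (BT.leaf (nat_lit 37134881)))) (BT.node (nat_lit 7071232) (BT.node (nat_lit 7071168) (BT.leaf (nat_lit 25792277)) (BT.leaf (nat_lit 39036677))) (BT.node (nat_lit 7071296) (BT.leaf (nat_lit 38457885)) (BT.leaf (nat_lit 46843925))))) (BT.node (nat_lit 7071616) (BT.node (nat_lit 7071488) (BT.node (nat_lit 7071424) (BT.leaf (nat_lit 22818585)) (BT.leaf (nat_lit 38564357))) (BT.node (nat_lit 7071552) (BT.leaf (nat_lit 51390217)) (BT.leaf (nat_lit 46844433)))) (BT.node (nat_lit 7071744) (BT.node (nat_lit 7071680) (BT.leaf (nat_lit 46844689)) (BT.leaf (nat_lit 24484613))) (BT.node (nat_lit 7071808) (BT.leaf (nat_lit 24484885)) (BT.leaf (nat_lit 24313605)))))))))))))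
noncomputable def big0_e43008 : BT Nat := (BT.node (nat_lit 7137408) (BT.node (nat_lit 7104640) (BT.node (nat_lit 7088256) (BT.node (nat_lit 7080064) (BT.node (nat_lit 7075968) (BT.node (nat_lit 7073920) (BT.node (nat_lit 7072896) (BT.node (nat_lit 7072384) (BT.node (nat_lit 7072128) (BT.node (nat_lit 7072000) (BT.node (nat_lit 7071936) (BT.leaf (nat_lit 33744417)) (BT.leaf (nat_lit 31747097))) (BT.node (nat_lit 7072064) (BT.leaf (nat_lit 30453013)) (BT.leaf (nat_lit 32114709)))) (BT.node (nat_lit 7072256) (BT.node (nat_lit 7072192) (BT.leaf (nat_lit 28657937)) (BT.leaf (nat_lit 36166165))) (BT.node (nat_lit 7072320) (BT.leaf (nat_lit 46845973)) (BT.leaf (nat_lit 46846229))))) (BT.node (nat_lit 7072640) (BT.node (nat_lit 7072512) (BT.node (nat_lit 7072448) (BT.leaf (nat_lit 39449109)) (BT.leaf (nat_lit 46846485))) (BT.node (nat_lit 7072576) (BT.leaf (nat_lit 22797589)) (BT.leaf (nat_lit 33196293)))) (BT.node (nat_lit 7072768) (BT.node (nat_lit 7072704) (BT.leaf (nat_lit 35140113)) (BT.leaf (nat_lit 23218965))) (BT.node (nat_lit 7072832) (BT.leaf (nat_lit 34288141)) (BT.leaf (nat_lit 33440785)))))) (BT.node (nat_lit 7073408) (BT.node (nat_lit 7073152) (BT.node (nat_lit 7073024) (BT.node (nat_lit 7072960) (BT.leaf (nat_lit 27398681)) (BT.leaf (nat_lit 38009365))) (BT.node (nat_lit 7073088) (BT.leaf (nat_lit 29002249)) (BT.leaf (nat_lit 32166157)))) (BT.node (nat_lit 7073280) (BT.node (nat_lit 7073216) (BT.leaf (nat_lit 32504853)) (BT.leaf (nat_lit 32166173))) (BT.node (nat_lit 7073344) (BT.leaf (nat_lit 30766353)) (BT.leaf (nat_lit 31416597))))) (BT.node (nat_lit 7073664) (BT.node (nat_lit 7073536) (BT.node (nat_lit 7073472) (BT.leaf (nat_lit 30359581)) (BT.leaf (nat_lit 46848005))) (BT.node (nat_lit 7073600) (BT.leaf (nat_lit 31221517)) (BT.leaf (nat_lit 51747337)))) (BT.node (nat_lit 7073792) (BT.node (nat_lit 7073728) (BT.leaf (nat_lit 32587809)) (BT.leaf (nat_lit 38651141))) (BT.node (nat_lit 7073856) (BT.leaf (nat_lit 22636065)) (BT.leaf (nat_lit 27429653))))))) (BT.node (nat_lit 7074944) (BT.node (nat_lit 7074432) (BT.node (nat_lit 7074176) (BT.node (nat_lit 7074048) (BT.node (nat_lit 7073984) (BT.leaf (nat_lit 28149277)) (BT.leaf (nat_lit 27498269))) (BT.node (nat_lit 7074112) (BT.leaf (nat_lit 28269841)) (BT.leaf (nat_lit 29600025)))) (BT.node (nat_lit 7074304) (BT.node (nat_lit 7074240) (BT.leaf (nat_lit 47037197)) (BT.leaf (nat_lit 30907169))) (BT.node (nat_lit 7074368) (BT.leaf (nat_lit 28772385)) (BT.leaf (nat_lit 23665173))))) (BT.node (nat_lit 7074688) (BT.node (nat_lit 7074560) (BT.node (nat_lit 7074496) (BT.leaf (nat_lit 25378837)) (BT.leaf (nat_lit 31204637))) (BT.node (nat_lit 7074624) (BT.leaf (nat_lit 26954261)) (BT.leaf (nat_lit 22632713)))) (BT.node (nat_lit 7074816) (BT.node (nat_lit 7074752) (BT.leaf (nat_lit 23268881)) (BT.leaf (nat_lit 33870349))) (BT.node (nat_lit 7074880) (BT.leaf (nat_lit 47037461)) (BT.leaf (nat_lit 23750173)))))) (BT.node (nat_lit 7075456) (BT.node (nat_lit 7075200) (BT.node (nat_lit 7075072) (BT.node (nat_lit 7075008) (BT.leaf (nat_lit 32308753)) (BT.leaf (nat_lit 29023749))) (BT.node (nat_lit 7075136) (BT.leaf (nat_lit 33357077)) (BT.leaf (nat_lit 24301345)))) (BT.node (nat_lit 7075328) (BT.node (nat_lit 7075264) (BT.leaf (nat_lit 33899285)) (BT.leaf (nat_lit 33762325))) (BT.node (nat_lit 7075392) (BT.leaf (nat_lit 22893085)) (BT.leaf (nat_lit 22912789))))) (BT.node (nat_lit 7075712) (BT.node (nat_lit 7075584) (BT.node (nat_lit 7075520) (BT.leaf (nat_lit 31248929)) (BT.leaf (nat_lit 22632989))) (BT.node (nat_lit 7075648) (BT.leaf (nat_lit 38912801)) (BT.leaf (nat_lit 33357853)))) (BT.node (nat_lit 7075840) (BT.node (nat_lit 7075776) (BT.leaf (nat_lit 22633233)) (BT.leaf (nat_lit 46835981))) (BT.node (nat_lit 7075904) (BT.leaf (nat_lit 30908677)) (BT.leaf (nat_lit 25569301)))))))) (BT.node (nat_lit 7078016) (BT.node (nat_lit 7076992) (BT.node (nat_lit 7076480) (BT.node (nat_lit 7076224) (BT.node (nat_lit 7076096) (BT.node (nat_lit 7076032) (BT.leaf (nat_lit 22633745)) (BT.leaf (nat_lit 34780949))) (BT.node (nat_lit 7076160) (BT.leaf (nat_lit 29663505)) (BT.leaf (nat_lit 25617945)))) (BT.node (nat_lit 7076352) (BT.node (nat_lit 7076288) (BT.leaf (nat_lit 48343325)) (BT.leaf (nat_lit 46850845))) (BT.node (nat_lit 7076416) (BT.leaf (nat_lit 34528005)) (BT.leaf (nat_lit 27815201))))) (BT.node (nat_lit 7076736) (BT.node (nat_lit 7076608) (BT.node (nat_lit 7076544) (BT.leaf (nat_lit 38901281)) (BT.leaf (nat_lit 23756317))) (BT.node (nat_lit 7076672) (BT.leaf (nat_lit 46680853)) (BT.leaf (nat_lit 35398149)))) (BT.node (nat_lit 7076864) (BT.node (nat_lit 7076800) (BT.leaf (nat_lit 22635533)) (BT.leaf (nat_lit 24117265))) (BT.node (nat_lit 7076928) (BT.leaf (nat_lit 33691417)) (BT.leaf (nat_lit 22635529)))))) (BT.node (nat_lit 7077504) (BT.node (nat_lit 7077248) (BT.node (nat_lit 7077120) (BT.node (nat_lit 7077056) (BT.leaf (nat_lit 41882389)) (BT.leaf (nat_lit 31631637))) (BT.node (nat_lit 7077184) (BT.leaf (nat_lit 37267733)) (BT.leaf (nat_lit 46851341)))) (BT.node (nat_lit 7077376) (BT.node (nat_lit 7077312) (BT.leaf (nat_lit 22636053)) (BT.leaf (nat_lit 22636045))) (BT.node (nat_lit 7077440) (BT.leaf (nat_lit 39324429)) (BT.leaf (nat_lit 37267741))))) (BT.node (nat_lit 7077760) (BT.node (nat_lit 7077632) (BT.node (nat_lit 7077568) (BT.leaf (nat_lit 22635025)) (BT.leaf (nat_lit 48150289))) (BT.node (nat_lit 7077696) (BT.leaf (nat_lit 46853137)) (BT.leaf (nat_lit 43508741)))) (BT.node (nat_lit 7077888) (BT.node (nat_lit 7077824) (BT.leaf (nat_lit 22638097)) (BT.leaf (nat_lit 22624785))) (BT.node (nat_lit 7077952) (BT.leaf (nat_lit 22637841)) (BT.leaf (nat_lit 22638865))))))) (BT.node (nat_lit 7079040) (BT.node (nat_lit 7078528) (BT.node (nat_lit 7078272) (BT.node (nat_lit 7078144) (BT.node (nat_lit 7078080) (BT.leaf (nat_lit 22638609)) (BT.leaf (nat_lit 22638353))) (BT.node (nat_lit 7078208) (BT.leaf (nat_lit 31152929)) (BT.leaf (nat_lit 46855193)))) (BT.node (nat_lit 7078400) (BT.node (nat_lit 7078336) (BT.leaf (nat_lit 34502941)) (BT.leaf (nat_lit 34502921))) (BT.node (nat_lit 7078464) (BT.leaf (nat_lit 46855713)) (BT.leaf (nat_lit 46855449))))) (BT.node (nat_lit 7078784) (BT.node (nat_lit 7078656) (BT.node (nat_lit 7078592) (BT.leaf (nat_lit 30219525)) (BT.leaf (nat_lit 23342613))) (BT.node (nat_lit 7078720) (BT.leaf (nat_lit 22639365)) (BT.leaf (nat_lit 25314581)))) (BT.node (nat_lit 7078912) (BT.node (nat_lit 7078848) (BT.leaf (nat_lit 22639377)) (BT.leaf (nat_lit 22639393))) (BT.node (nat_lit 7078976) (BT.leaf (nat_lit 22639629)) (BT.leaf (nat_lit 36479509)))))) (BT.node (nat_lit 7079552) (BT.node (nat_lit 7079296) (BT.node (nat_lit 7079168) (BT.node (nat_lit 7079104) (BT.leaf (nat_lit 24386337)) (BT.leaf (nat_lit 41119517))) (BT.node (nat_lit 7079232) (BT.leaf (nat_lit 46856965)) (BT.leaf (nat_lit 31460869)))) (BT.node (nat_lit 7079424) (BT.node (nat_lit 7079360) (BT.leaf (nat_lit 49334541)) (BT.leaf (nat_lit 49334537))) (BT.node (nat_lit 7079488) (BT.leaf (nat_lit 49334553)) (BT.leaf (nat_lit 49334557))))) (BT.node (nat_lit 7079808) (BT.node (nat_lit 7079680) (BT.node (nat_lit 7079616) (BT.leaf (nat_lit 22834197)) (BT.leaf (nat_lit 22834201))) (BT.node (nat_lit 7079744) (BT.leaf (nat_lit 36026385)) (BT.leaf (nat_lit 48640793)))) (BT.node (nat_lit 7079936) (BT.node (nat_lit 7079872) (BT.leaf (nat_lit 23065877)) (BT.leaf (nat_lit 23450645))) (BT.node (nat_lit 7080000) (BT.leaf (nat_lit 25787401)) (BT.leaf (nat_lit 27605525))))))))) (BT.node (nat_lit 7084160) (BT.node (nat_lit 7082112) (BT.node (nat_lit 7081088) (BT.node (nat_lit 7080576) (BT.node (nat_lit 7080320) (BT.node (nat_lit 7080192) (BT.node (nat_lit 7080128) (BT.leaf (nat_lit 34745605)) (BT.leaf (nat_lit 34661637))) (BT.node (nat_lit 7080256) (BT.leaf (nat_lit 35938837)) (BT.leaf (nat_lit 23200793)))) (BT.node (nat_lit 7080448) (BT.node (nat_lit 7080384) (BT.leaf (nat_lit 36332549)) (BT.leaf (nat_lit 29695493))) (BT.node (nat_lit 7080512) (BT.leaf (nat_lit 23590677)) (BT.leaf (nat_lit 31210261))))) (BT.node (nat_lit 7080832) (BT.node (nat_lit 7080704) (BT.node (nat_lit 7080640) (BT.leaf (nat_lit 31210265)) (BT.leaf (nat_lit 31210269))) (BT.node (nat_lit 7080768) (BT.leaf (nat_lit 22645777)) (BT.leaf (nat_lit 31898897)))) (BT.node (nat_lit 7080960) (BT.node (nat_lit 7080896) (BT.leaf (nat_lit 37417753)) (BT.leaf (nat_lit 24163845))) (BT.node (nat_lit 7081024) (BT.leaf (nat_lit 25613849)) (BT.leaf (nat_lit 22422789)))))) (BT.node (nat_lit 7081600) (BT.node (nat_lit 7081344) (BT.node (nat_lit 7081216) (BT.node (nat_lit 7081152) (BT.leaf (nat_lit 25613837)) (BT.leaf (nat_lit 23878665))) (BT.node (nat_lit 7081280) (BT.leaf (nat_lit 30203933)) (BT.leaf (nat_lit 22647057)))) (BT.node (nat_lit 7081472) (BT.node (nat_lit 7081408) (BT.leaf (nat_lit 28408085)) (BT.leaf (nat_lit 22422289))) (BT.node (nat_lit 7081536) (BT.leaf (nat_lit 24164129)) (BT.leaf (nat_lit 22806805))))) (BT.node (nat_lit 7081856) (BT.node (nat_lit 7081728) (BT.node (nat_lit 7081664) (BT.leaf (nat_lit 46860549)) (BT.leaf (nat_lit 28326425))) (BT.node (nat_lit 7081792) (BT.leaf (nat_lit 46861333)) (BT.leaf (nat_lit 46861589)))) (BT.node (nat_lit 7081984) (BT.node (nat_lit 7081920) (BT.leaf (nat_lit 27979793)) (BT.leaf (nat_lit 27979797))) (BT.node (nat_lit 7082048) (BT.leaf (nat_lit 28576017)) (BT.leaf (nat_lit 29496593))))))) (BT.node (nat_lit 7083136) (BT.node (nat_lit 7082624) (BT.node (nat_lit 7082368) (BT.node (nat_lit 7082240) (BT.node (nat_lit 7082176) (BT.leaf (nat_lit 23745553)) (BT.leaf (nat_lit 46777885))) (BT.node (nat_lit 7082304) (BT.leaf (nat_lit 46776861)) (BT.leaf (nat_lit 46864157)))) (BT.node (nat_lit 7082496) (BT.node (nat_lit 7082432) (BT.leaf (nat_lit 30268697)) (BT.leaf (nat_lit 46864921))) (BT.node (nat_lit 7082560) (BT.leaf (nat_lit 46865945)) (BT.leaf (nat_lit 46866205))))) (BT.node (nat_lit 7082880) (BT.node (nat_lit 7082752) (BT.node (nat_lit 7082688) (BT.leaf (nat_lit 28330781)) (BT.leaf (nat_lit 46864909))) (BT.node (nat_lit 7082816) (BT.leaf (nat_lit 46341393)) (BT.leaf (nat_lit 28356369)))) (BT.node (nat_lit 7083008) (BT.node (nat_lit 7082944) (BT.leaf (nat_lit 30638609)) (BT.leaf (nat_lit 23883285))) (BT.node (nat_lit 7083072) (BT.leaf (nat_lit 49870877)) (BT.leaf (nat_lit 51457029)))))) (BT.node (nat_lit 7083648) (BT.node (nat_lit 7083392) (BT.node (nat_lit 7083264) (BT.node (nat_lit 7083200) (BT.leaf (nat_lit 33308421)) (BT.leaf (nat_lit 23541789))) (BT.node (nat_lit 7083328) (BT.leaf (nat_lit 23180053)) (BT.leaf (nat_lit 24427781)))) (BT.node (nat_lit 7083520) (BT.node (nat_lit 7083456) (BT.leaf (nat_lit 25612569)) (BT.leaf (nat_lit 46868489))) (BT.node (nat_lit 7083584) (BT.leaf (nat_lit 30814237)) (BT.leaf (nat_lit 24428817))))) (BT.node (nat_lit 7083904) (BT.node (nat_lit 7083776) (BT.node (nat_lit 7083712) (BT.leaf (nat_lit 24428821)) (BT.leaf (nat_lit 30222609))) (BT.node (nat_lit 7083840) (BT.leaf (nat_lit 49870857)) (BT.leaf (nat_lit 24422417)))) (BT.node (nat_lit 7084032) (BT.node (nat_lit 7083968) (BT.leaf (nat_lit 46870813)) (BT.leaf (nat_lit 46871301))) (BT.node (nat_lit 7084096) (BT.leaf (nat_lit 46871829)) (BT.leaf (nat_lit 23859485)))))))) (BT.node (nat_lit 7086208) (BT.node (nat_lit 7085184) (BT.node (nat_lit 7084672) (BT.node (nat_lit 7084416) (BT.node (nat_lit 7084288) (BT.node (nat_lit 7084224) (BT.leaf (nat_lit 28503829)) (BT.leaf (nat_lit 46872081))) (BT.node (nat_lit 7084352) (BT.leaf (nat_lit 28336921)) (BT.leaf (nat_lit 36122385)))) (BT.node (nat_lit 7084544) (BT.node (nat_lit 7084480) (BT.leaf (nat_lit 28344341)) (BT.leaf (nat_lit 27747349))) (BT.node (nat_lit 7084608) (BT.leaf (nat_lit 31642121)) (BT.leaf (nat_lit 37683217))))) (BT.node (nat_lit 7084928) (BT.node (nat_lit 7084800) (BT.node (nat_lit 7084736) (BT.leaf (nat_lit 22585621)) (BT.leaf (nat_lit 37052945))) (BT.node (nat_lit 7084864) (BT.leaf (nat_lit 46873109)) (BT.leaf (nat_lit 32625941)))) (BT.node (nat_lit 7085056) (BT.node (nat_lit 7084992) (BT.leaf (nat_lit 22653973)) (BT.leaf (nat_lit 50687505))) (BT.node (nat_lit 7085120) (BT.leaf (nat_lit 22653449)) (BT.leaf (nat_lit 22755853)))))) (BT.node (nat_lit 7085696) (BT.node (nat_lit 7085440) (BT.node (nat_lit 7085312) (BT.node (nat_lit 7085248) (BT.leaf (nat_lit 24230153)) (BT.leaf (nat_lit 33314073))) (BT.node (nat_lit 7085376) (BT.leaf (nat_lit 22588445)) (BT.leaf (nat_lit 46873621)))) (BT.node (nat_lit 7085568) (BT.node (nat_lit 7085504) (BT.leaf (nat_lit 46873605)) (BT.leaf (nat_lit 23923993))) (BT.node (nat_lit 7085632) (BT.leaf (nat_lit 34538757)) (BT.leaf (nat_lit 28183581))))) (BT.node (nat_lit 7085952) (BT.node (nat_lit 7085824) (BT.node (nat_lit 7085760) (BT.leaf (nat_lit 34807581)) (BT.leaf (nat_lit 27892513))) (BT.node (nat_lit 7085888) (BT.leaf (nat_lit 24077081)) (BT.leaf (nat_lit 38166037)))) (BT.node (nat_lit 7086080) (BT.node (nat_lit 7086016) (BT.leaf (nat_lit 46872857)) (BT.leaf (nat_lit 46872845))) (BT.node (nat_lit 7086144) (BT.leaf (nat_lit 31640609)) (BT.leaf (nat_lit 31642133))))))) (BT.node (nat_lit 7087232) (BT.node (nat_lit 7086720) (BT.node (nat_lit 7086464) (BT.node (nat_lit 7086336) (BT.node (nat_lit 7086272) (BT.leaf (nat_lit 27890977)) (BT.leaf (nat_lit 26567193))) (BT.node (nat_lit 7086400) (BT.leaf (nat_lit 28340757)) (BT.leaf (nat_lit 26925833)))) (BT.node (nat_lit 7086592) (BT.node (nat_lit 7086528) (BT.leaf (nat_lit 28181793)) (BT.leaf (nat_lit 22853657))) (BT.node (nat_lit 7086656) (BT.leaf (nat_lit 22653969)) (BT.leaf (nat_lit 26823193))))) (BT.node (nat_lit 7086976) (BT.node (nat_lit 7086848) (BT.node (nat_lit 7086784) (BT.leaf (nat_lit 46876421)) (BT.leaf (nat_lit 22653713))) (BT.node (nat_lit 7086912) (BT.leaf (nat_lit 22653717)) (BT.leaf (nat_lit 39436817)))) (BT.node (nat_lit 7087104) (BT.node (nat_lit 7087040) (BT.leaf (nat_lit 22654481)) (BT.leaf (nat_lit 22654225))) (BT.node (nat_lit 7087168) (BT.leaf (nat_lit 28544029)) (BT.leaf (nat_lit 22755869)))))) (BT.node (nat_lit 7087744) (BT.node (nat_lit 7087488) (BT.node (nat_lit 7087360) (BT.node (nat_lit 7087296) (BT.leaf (nat_lit 37233681)) (BT.leaf (nat_lit 25073173))) (BT.node (nat_lit 7087424) (BT.leaf (nat_lit 46877457)) (BT.leaf (nat_lit 47372569)))) (BT.node (nat_lit 7087616) (BT.node (nat_lit 7087552) (BT.leaf (nat_lit 22485789)) (BT.leaf (nat_lit 47371525))) (BT.node (nat_lit 7087680) (BT.leaf (nat_lit 22984473)) (BT.leaf (nat_lit 31483925))))) (BT.node (nat_lit 7088000) (BT.node (nat_lit 7087872) (BT.node (nat_lit 7087808) (BT.leaf (nat_lit 23278113)) (BT.leaf (nat_lit 30807317))) (BT.node (nat_lit 7087936) (BT.leaf (nat_lit 50062101)) (BT.leaf (nat_lit 23276825)))) (BT.node (nat_lit 7088128) (BT.node (nat_lit 7088064) (BT.leaf (nat_lit 50002973)) (BT.leaf (nat_lit 34295837))) (BT.node (nat_lit 7088192) (BT.leaf (nat_lit 48258065)) (BT.leaf (nat_lit 50062345)))))))))) (BT.node (nat_lit 7096448) (BT.node (nat_lit 7092352) (BT.node (nat_lit 7090304) (BT.node (nat_lit 7089280) (BT.node (nat_lit 7088768) (BT.node (nat_lit 7088512) (BT.node (nat_lit 7088384) (BT.node (nat_lit 7088320) (BT.leaf (nat_lit 50062601)) (BT.leaf (nat_lit 50911497))) (BT.node (nat_lit 7088448) (BT.leaf (nat_lit 22661917)) (BT.leaf (nat_lit 24486421)))) (BT.node (nat_lit 7088640) (BT.node (nat_lit 7088576) (BT.leaf (nat_lit 24335385)) (BT.leaf (nat_lit 24486429))) (BT.node (nat_lit 7088704) (BT.leaf (nat_lit 34498069)) (BT.leaf (nat_lit 24584717))))) (BT.node (nat_lit 7089024) (BT.node (nat_lit 7088896) (BT.node (nat_lit 7088832) (BT.leaf (nat_lit 33143329)) (BT.leaf (nat_lit 46881029))) (BT.node (nat_lit 7088960) (BT.leaf (nat_lit 24584733)) (BT.leaf (nat_lit 25686813)))) (BT.node (nat_lit 7089152) (BT.node (nat_lit 7089088) (BT.leaf (nat_lit 22666269)) (BT.leaf (nat_lit 48449305))) (BT.node (nat_lit 7089216) (BT.leaf (nat_lit 34497821)) (BT.leaf (nat_lit 22336785)))))) (BT.node (nat_lit 7089792) (BT.node (nat_lit 7089536) (BT.node (nat_lit 7089408) (BT.node (nat_lit 7089344) (BT.leaf (nat_lit 22659857)) (BT.leaf (nat_lit 23852053))) (BT.node (nat_lit 7089472) (BT.leaf (nat_lit 22533389)) (BT.leaf (nat_lit 23852061)))) (BT.node (nat_lit 7089664) (BT.node (nat_lit 7089600) (BT.leaf (nat_lit 22975249)) (BT.leaf (nat_lit 22709529))) (BT.node (nat_lit 7089728) (BT.leaf (nat_lit 22709533)) (BT.leaf (nat_lit 22670877))))) (BT.node (nat_lit 7090048) (BT.node (nat_lit 7089920) (BT.node (nat_lit 7089856) (BT.leaf (nat_lit 37759501)) (BT.leaf (nat_lit 27453461))) (BT.node (nat_lit 7089984) (BT.leaf (nat_lit 22672145)) (BT.leaf (nat_lit 22671633)))) (BT.node (nat_lit 7090176) (BT.node (nat_lit 7090112) (BT.leaf (nat_lit 23172117)) (BT.leaf (nat_lit 23172121))) (BT.node (nat_lit 7090240) (BT.leaf (nat_lit 22670609)) (BT.leaf (nat_lit 37992989))))))) (BT.node (nat_lit 7091328) (BT.node (nat_lit 7090816) (BT.node (nat_lit 7090560) (BT.node (nat_lit 7090432) (BT.node (nat_lit 7090368) (BT.leaf (nat_lit 33378845)) (BT.leaf (nat_lit 46887449))) (BT.node (nat_lit 7090496) (BT.leaf (nat_lit 46732561)) (BT.leaf (nat_lit 38036501)))) (BT.node (nat_lit 7090688) (BT.node (nat_lit 7090624) (BT.leaf (nat_lit 31953689)) (BT.leaf (nat_lit 25711633))) (BT.node (nat_lit 7090752) (BT.leaf (nat_lit 33932565)) (BT.leaf (nat_lit 27907097))))) (BT.node (nat_lit 7091072) (BT.node (nat_lit 7090944) (BT.node (nat_lit 7090880) (BT.leaf (nat_lit 35433753)) (BT.leaf (nat_lit 24523797))) (BT.node (nat_lit 7091008) (BT.leaf (nat_lit 29080089)) (BT.leaf (nat_lit 27407901)))) (BT.node (nat_lit 7091200) (BT.node (nat_lit 7091136) (BT.leaf (nat_lit 46888465)) (BT.leaf (nat_lit 28228109))) (BT.node (nat_lit 7091264) (BT.leaf (nat_lit 28228105)) (BT.leaf (nat_lit 28228121)))))) (BT.node (nat_lit 7091840) (BT.node (nat_lit 7091584) (BT.node (nat_lit 7091456) (BT.node (nat_lit 7091392) (BT.leaf (nat_lit 24932897)) (BT.leaf (nat_lit 28654865))) (BT.node (nat_lit 7091520) (BT.leaf (nat_lit 47202593)) (BT.leaf (nat_lit 36132897)))) (BT.node (nat_lit 7091712) (BT.node (nat_lit 7091648) (BT.leaf (nat_lit 29439249)) (BT.leaf (nat_lit 46499605))) (BT.node (nat_lit 7091776) (BT.leaf (nat_lit 22867473)) (BT.leaf (nat_lit 26466081))))) (BT.node (nat_lit 7092096) (BT.node (nat_lit 7091968) (BT.node (nat_lit 7091904) (BT.leaf (nat_lit 22858005)) (BT.leaf (nat_lit 28100373))) (BT.node (nat_lit 7092032) (BT.leaf (nat_lit 22859297)) (BT.leaf (nat_lit 28368649)))) (BT.node (nat_lit 7092224) (BT.node (nat_lit 7092160) (BT.leaf (nat_lit 22340373)) (BT.leaf (nat_lit 27934241))) (BT.node (nat_lit 7092288) (BT.leaf (nat_lit 34555141)) (BT.leaf (nat_lit 30794525)))))))) (BT.node (nat_lit 7094400) (BT.node (nat_lit 7093376) (BT.node (nat_lit 7092864) (BT.node (nat_lit 7092608) (BT.node (nat_lit 7092480) (BT.node (nat_lit 7092416) (BT.leaf (nat_lit 30792209)) (BT.leaf (nat_lit 25889809))) (BT.node (nat_lit 7092544) (BT.leaf (nat_lit 25889825)) (BT.leaf (nat_lit 52142353)))) (BT.node (nat_lit 7092736) (BT.node (nat_lit 7092672) (BT.leaf (nat_lit 32195349)) (BT.leaf (nat_lit 33852945))) (BT.node (nat_lit 7092800) (BT.leaf (nat_lit 33273885)) (BT.leaf (nat_lit 50128645))))) (BT.node (nat_lit 7093120) (BT.node (nat_lit 7092992) (BT.node (nat_lit 7092928) (BT.leaf (nat_lit 23411477)) (BT.leaf (nat_lit 30060561))) (BT.node (nat_lit 7093056) (BT.leaf (nat_lit 23889937)) (BT.leaf (nat_lit 25358353)))) (BT.node (nat_lit 7093248) (BT.node (nat_lit 7093184) (BT.leaf (nat_lit 27353869)) (BT.leaf (nat_lit 27675669))) (BT.node (nat_lit 7093312) (BT.leaf (nat_lit 27353885)) (BT.leaf (nat_lit 23889945)))))) (BT.node (nat_lit 7093888) (BT.node (nat_lit 7093632) (BT.node (nat_lit 7093504) (BT.node (nat_lit 7093440) (BT.leaf (nat_lit 27944969)) (BT.leaf (nat_lit 27944973))) (BT.node (nat_lit 7093568) (BT.leaf (nat_lit 38052885)) (BT.leaf (nat_lit 31600921)))) (BT.node (nat_lit 7093760) (BT.node (nat_lit 7093696) (BT.leaf (nat_lit 31600925)) (BT.leaf (nat_lit 24094225))) (BT.node (nat_lit 7093824) (BT.leaf (nat_lit 27403805)) (BT.leaf (nat_lit 33932317))))) (BT.node (nat_lit 7094144) (BT.node (nat_lit 7094016) (BT.node (nat_lit 7093952) (BT.leaf (nat_lit 23413265)) (BT.leaf (nat_lit 27598105))) (BT.node (nat_lit 7094080) (BT.leaf (nat_lit 27598109)) (BT.leaf (nat_lit 36149265)))) (BT.node (nat_lit 7094272) (BT.node (nat_lit 7094208) (BT.leaf (nat_lit 33103129)) (BT.leaf (nat_lit 23810053))) (BT.node (nat_lit 7094336) (BT.leaf (nat_lit 22675729)) (BT.leaf (nat_lit 25085969))))))) (BT.node (nat_lit 7095424) (BT.node (nat_lit 7094912) (BT.node (nat_lit 7094656) (BT.node (nat_lit 7094528) (BT.node (nat_lit 7094464) (BT.leaf (nat_lit 39457309)) (BT.leaf (nat_lit 39457289))) (BT.node (nat_lit 7094592) (BT.leaf (nat_lit 28090649)) (BT.leaf (nat_lit 27309333)))) (BT.node (nat_lit 7094784) (BT.node (nat_lit 7094720) (BT.leaf (nat_lit 47814177)) (BT.leaf (nat_lit 47813637))) (BT.node (nat_lit 7094848) (BT.leaf (nat_lit 47813657)) (BT.leaf (nat_lit 46980369))))) (BT.node (nat_lit 7095168) (BT.node (nat_lit 7095040) (BT.node (nat_lit 7094976) (BT.leaf (nat_lit 27403033)) (BT.leaf (nat_lit 29575945))) (BT.node (nat_lit 7095104) (BT.leaf (nat_lit 22702101)) (BT.leaf (nat_lit 23349521)))) (BT.node (nat_lit 7095296) (BT.node (nat_lit 7095232) (BT.leaf (nat_lit 23349525)) (BT.leaf (nat_lit 22332689))) (BT.node (nat_lit 7095360) (BT.leaf (nat_lit 23748121)) (BT.leaf (nat_lit 46892293)))))) (BT.node (nat_lit 7095936) (BT.node (nat_lit 7095680) (BT.node (nat_lit 7095552) (BT.node (nat_lit 7095488) (BT.leaf (nat_lit 23363601)) (BT.leaf (nat_lit 38127377))) (BT.node (nat_lit 7095616) (BT.leaf (nat_lit 27343109)) (BT.leaf (nat_lit 37953293)))) (BT.node (nat_lit 7095808) (BT.node (nat_lit 7095744) (BT.leaf (nat_lit 39481117)) (BT.leaf (nat_lit 46893849))) (BT.node (nat_lit 7095872) (BT.leaf (nat_lit 27939617)) (BT.leaf (nat_lit 37834261))))) (BT.node (nat_lit 7096192) (BT.node (nat_lit 7096064) (BT.node (nat_lit 7096000) (BT.leaf (nat_lit 46893857)) (BT.leaf (nat_lit 38793733))) (BT.node (nat_lit 7096128) (BT.leaf (nat_lit 37832473)) (BT.leaf (nat_lit 32395293)))) (BT.node (nat_lit 7096320) (BT.node (nat_lit 7096256) (BT.leaf (nat_lit 30797597)) (BT.leaf (nat_lit 34738717))) (BT.node (nat_lit 7096384) (BT.leaf (nat_lit 27938325)) (BT.leaf (nat_lit 32392213))))))))) (BT.node (nat_lit 7100544) (BT.node (nat_lit 7098496) (BT.node (nat_lit 7097472) (BT.node (nat_lit 7096960) (BT.node (nat_lit 7096704) (BT.node (nat_lit 7096576) (BT.node (nat_lit 7096512) (BT.leaf (nat_lit 32091405)) (BT.leaf (nat_lit 32091417))) (BT.node (nat_lit 7096640) (BT.leaf (nat_lit 27407897)) (BT.leaf (nat_lit 35432977)))) (BT.node (nat_lit 7096832) (BT.node (nat_lit 7096768) (BT.leaf (nat_lit 24860957)) (BT.leaf (nat_lit 31337497))) (BT.node (nat_lit 7096896) (BT.leaf (nat_lit 24860953)) (BT.leaf (nat_lit 38957833))))) (BT.node (nat_lit 7097216) (BT.node (nat_lit 7097088) (BT.node (nat_lit 7097024) (BT.leaf (nat_lit 32525341)) (BT.leaf (nat_lit 24449041))) (BT.node (nat_lit 7097152) (BT.leaf (nat_lit 34824977)) (BT.leaf (nat_lit 34824981)))) (BT.node (nat_lit 7097344) (BT.node (nat_lit 7097280) (BT.leaf (nat_lit 28394245)) (BT.leaf (nat_lit 23814933))) (BT.node (nat_lit 7097408) (BT.leaf (nat_lit 25640977)) (BT.leaf (nat_lit 25640981)))))) (BT.node (nat_lit 7097984) (BT.node (nat_lit 7097728) (BT.node (nat_lit 7097600) (BT.node (nat_lit 7097536) (BT.leaf (nat_lit 22678033)) (BT.leaf (nat_lit 23303189))) (BT.node (nat_lit 7097664) (BT.leaf (nat_lit 23303193)) (BT.leaf (nat_lit 22678545)))) (BT.node (nat_lit 7097856) (BT.node (nat_lit 7097792) (BT.leaf (nat_lit 36523285)) (BT.leaf (nat_lit 31847197))) (BT.node (nat_lit 7097920) (BT.leaf (nat_lit 36523293)) (BT.leaf (nat_lit 22436117))))) (BT.node (nat_lit 7098240) (BT.node (nat_lit 7098112) (BT.node (nat_lit 7098048) (BT.leaf (nat_lit 28264709)) (BT.leaf (nat_lit 34527761))) (BT.node (nat_lit 7098176) (BT.leaf (nat_lit 34529041)) (BT.leaf (nat_lit 33473309)))) (BT.node (nat_lit 7098368) (BT.node (nat_lit 7098304) (BT.leaf (nat_lit 22679309)) (BT.leaf (nat_lit 24284421))) (BT.node (nat_lit 7098432) (BT.leaf (nat_lit 28264993)) (BT.leaf (nat_lit 37965853))))))) (BT.node (nat_lit 7099520) (BT.node (nat_lit 7099008) (BT.node (nat_lit 7098752) (BT.node (nat_lit 7098624) (BT.node (nat_lit 7098560) (BT.leaf (nat_lit 28567573)) (BT.leaf (nat_lit 30064401))) (BT.node (nat_lit 7098688) (BT.leaf (nat_lit 30064405)) (BT.leaf (nat_lit 37758481)))) (BT.node (nat_lit 7098880) (BT.node (nat_lit 7098816) (BT.leaf (nat_lit 22337809)) (BT.leaf (nat_lit 28521477))) (BT.node (nat_lit 7098944) (BT.leaf (nat_lit 22680861)) (BT.leaf (nat_lit 25932805))))) (BT.node (nat_lit 7099264) (BT.node (nat_lit 7099136) (BT.node (nat_lit 7099072) (BT.leaf (nat_lit 23106581)) (BT.leaf (nat_lit 24523525))) (BT.node (nat_lit 7099200) (BT.leaf (nat_lit 23100437)) (BT.leaf (nat_lit 28396061)))) (BT.node (nat_lit 7099392) (BT.node (nat_lit 7099328) (BT.leaf (nat_lit 23752725)) (BT.leaf (nat_lit 46353185))) (BT.node (nat_lit 7099456) (BT.leaf (nat_lit 29190433)) (BT.leaf (nat_lit 38084633)))))) (BT.node (nat_lit 7100032) (BT.node (nat_lit 7099776) (BT.node (nat_lit 7099648) (BT.node (nat_lit 7099584) (BT.leaf (nat_lit 29190661)) (BT.leaf (nat_lit 34444301))) (BT.node (nat_lit 7099712) (BT.leaf (nat_lit 46899989)) (BT.leaf (nat_lit 31342869)))) (BT.node (nat_lit 7099904) (BT.node (nat_lit 7099840) (BT.leaf (nat_lit 24237089)) (BT.leaf (nat_lit 25198877))) (BT.node (nat_lit 7099968) (BT.leaf (nat_lit 23957009)) (BT.leaf (nat_lit 25258785))))) (BT.node (nat_lit 7100288) (BT.node (nat_lit 7100160) (BT.node (nat_lit 7100096) (BT.leaf (nat_lit 23082513)) (BT.leaf (nat_lit 31559457))) (BT.node (nat_lit 7100224) (BT.leaf (nat_lit 28326925)) (BT.leaf (nat_lit 28961041)))) (BT.node (nat_lit 7100416) (BT.node (nat_lit 7100352) (BT.leaf (nat_lit 46901265)) (BT.leaf (nat_lit 34371857))) (BT.node (nat_lit 7100480) (BT.leaf (nat_lit 26391325)) (BT.leaf (nat_lit 46901521)))))))) (BT.node (nat_lit 7102592) (BT.node (nat_lit 7101568) (BT.node (nat_lit 7101056) (BT.node (nat_lit 7100800) (BT.node (nat_lit 7100672) (BT.node (nat_lit 7100608) (BT.leaf (nat_lit 36362781)) (BT.leaf (nat_lit 29317409))) (BT.node (nat_lit 7100736) (BT.leaf (nat_lit 28719905)) (BT.leaf (nat_lit 33741073)))) (BT.node (nat_lit 7100928) (BT.node (nat_lit 7100864) (BT.leaf (nat_lit 25120025)) (BT.leaf (nat_lit 27786001))) (BT.node (nat_lit 7100992) (BT.leaf (nat_lit 23256353)) (BT.leaf (nat_lit 30331937))))) (BT.node (nat_lit 7101312) (BT.node (nat_lit 7101184) (BT.node (nat_lit 7101120) (BT.leaf (nat_lit 31254277)) (BT.leaf (nat_lit 37814789))) (BT.node (nat_lit 7101248) (BT.leaf (nat_lit 28568589)) (BT.leaf (nat_lit 22684433)))) (BT.node (nat_lit 7101440) (BT.node (nat_lit 7101376) (BT.leaf (nat_lit 22684177)) (BT.leaf (nat_lit 26673433))) (BT.node (nat_lit 7101504) (BT.leaf (nat_lit 26673437)) (BT.leaf (nat_lit 23027725)))))) (BT.node (nat_lit 7102080) (BT.node (nat_lit 7101824) (BT.node (nat_lit 7101696) (BT.node (nat_lit 7101632) (BT.leaf (nat_lit 24073761)) (BT.leaf (nat_lit 29788941))) (BT.node (nat_lit 7101760) (BT.leaf (nat_lit 24506373)) (BT.leaf (nat_lit 25118997)))) (BT.node (nat_lit 7101952) (BT.node (nat_lit 7101888) (BT.leaf (nat_lit 34987533)) (BT.leaf (nat_lit 24031253))) (BT.node (nat_lit 7102016) (BT.leaf (nat_lit 22686737)) (BT.leaf (nat_lit 22686481))))) (BT.node (nat_lit 7102336) (BT.node (nat_lit 7102208) (BT.node (nat_lit 7102144) (BT.leaf (nat_lit 29283865)) (BT.leaf (nat_lit 23378201))) (BT.node (nat_lit 7102272) (BT.leaf (nat_lit 28323613)) (BT.leaf (nat_lit 46902289)))) (BT.node (nat_lit 7102464) (BT.node (nat_lit 7102400) (BT.leaf (nat_lit 46902545)) (BT.leaf (nat_lit 24778513))) (BT.node (nat_lit 7102528) (BT.leaf (nat_lit 39545361)) (BT.leaf (nat_lit 33122309))))))) (BT.node (nat_lit 7103616) (BT.node (nat_lit 7103104) (BT.node (nat_lit 7102848) (BT.node (nat_lit 7102720) (BT.node (nat_lit 7102656) (BT.leaf (nat_lit 28521489)) (BT.leaf (nat_lit 28410393))) (BT.node (nat_lit 7102784) (BT.leaf (nat_lit 23488005)) (BT.leaf (nat_lit 46704673)))) (BT.node (nat_lit 7102976) (BT.node (nat_lit 7102912) (BT.leaf (nat_lit 27439889)) (BT.leaf (nat_lit 33336081))) (BT.node (nat_lit 7103040) (BT.leaf (nat_lit 46903825)) (BT.leaf (nat_lit 33825297))))) (BT.node (nat_lit 7103360) (BT.node (nat_lit 7103232) (BT.node (nat_lit 7103168) (BT.leaf (nat_lit 28854045)) (BT.leaf (nat_lit 24412941))) (BT.node (nat_lit 7103296) (BT.leaf (nat_lit 28854293)) (BT.leaf (nat_lit 33003809)))) (BT.node (nat_lit 7103488) (BT.node (nat_lit 7103424) (BT.leaf (nat_lit 33004065)) (BT.leaf (nat_lit 24892949))) (BT.node (nat_lit 7103552) (BT.leaf (nat_lit 33004321)) (BT.leaf (nat_lit 31098145)))))) (BT.node (nat_lit 7104128) (BT.node (nat_lit 7103872) (BT.node (nat_lit 7103744) (BT.node (nat_lit 7103680) (BT.leaf (nat_lit 34344453)) (BT.leaf (nat_lit 29543685))) (BT.node (nat_lit 7103808) (BT.leaf (nat_lit 23235105)) (BT.leaf (nat_lit 35206161)))) (BT.node (nat_lit 7104000) (BT.node (nat_lit 7103936) (BT.leaf (nat_lit 35100689)) (BT.leaf (nat_lit 24780049))) (BT.node (nat_lit 7104064) (BT.leaf (nat_lit 41067273)) (BT.leaf (nat_lit 46913545))))) (BT.node (nat_lit 7104384) (BT.node (nat_lit 7104256) (BT.node (nat_lit 7104192) (BT.leaf (nat_lit 40007189)) (BT.leaf (nat_lit 39823373))) (BT.node (nat_lit 7104320) (BT.leaf (nat_lit 46905621)) (BT.leaf (nat_lit 27048733)))) (BT.node (nat_lit 7104512) (BT.node (nat_lit 7104448) (BT.leaf (nat_lit 37010209)) (BT.leaf (nat_lit 35391493))) (BT.node (nat_lit 7104576) (BT.leaf (nat_lit 28669725)) (BT.leaf (nat_lit 26039057))))))))))) (BT.node (nat_lit 7121024) (BT.node (nat_lit 7112832) (BT.node (nat_lit 7108736) (BT.node (nat_lit 7106688) (BT.node (nat_lit 7105664) (BT.node (nat_lit 7105152) (BT.node (nat_lit 7104896) (BT.node (nat_lit 7104768) (BT.node (nat_lit 7104704) (BT.leaf (nat_lit 31808517)) (BT.leaf (nat_lit 27630369))) (BT.node (nat_lit 7104832) (BT.leaf (nat_lit 27621393)) (BT.leaf (nat_lit 50207517)))) (BT.node (nat_lit 7105024) (BT.node (nat_lit 7104960) (BT.leaf (nat_lit 24427041)) (BT.leaf (nat_lit 48141337))) (BT.node (nat_lit 7105088) (BT.leaf (nat_lit 25018137)) (BT.leaf (nat_lit 23234053))))) (BT.node (nat_lit 7105408) (BT.node (nat_lit 7105280) (BT.node (nat_lit 7105216) (BT.leaf (nat_lit 50870305)) (BT.leaf (nat_lit 23660825))) (BT.node (nat_lit 7105344) (BT.leaf (nat_lit 50556165)) (BT.leaf (nat_lit 39528453)))) (BT.node (nat_lit 7105536) (BT.node (nat_lit 7105472) (BT.leaf (nat_lit 32874513)) (BT.leaf (nat_lit 31658505))) (BT.node (nat_lit 7105600) (BT.leaf (nat_lit 32253969)) (BT.leaf (nat_lit 39904529)))))) (BT.node (nat_lit 7106176) (BT.node (nat_lit 7105920) (BT.node (nat_lit 7105792) (BT.node (nat_lit 7105728) (BT.leaf (nat_lit 30005273)) (BT.leaf (nat_lit 46470685))) (BT.node (nat_lit 7105856) (BT.leaf (nat_lit 22692113)) (BT.leaf (nat_lit 22692369)))) (BT.node (nat_lit 7106048) (BT.node (nat_lit 7105984) (BT.leaf (nat_lit 47151137)) (BT.leaf (nat_lit 30148625))) (BT.node (nat_lit 7106112) (BT.leaf (nat_lit 29496609)) (BT.leaf (nat_lit 48859681))))) (BT.node (nat_lit 7106432) (BT.node (nat_lit 7106304) (BT.node (nat_lit 7106240) (BT.leaf (nat_lit 38435101)) (BT.leaf (nat_lit 32705041))) (BT.node (nat_lit 7106368) (BT.leaf (nat_lit 28729353)) (BT.leaf (nat_lit 46911253)))) (BT.node (nat_lit 7106560) (BT.node (nat_lit 7106496) (BT.leaf (nat_lit 46911509)) (BT.leaf (nat_lit 28680713))) (BT.node (nat_lit 7106624) (BT.leaf (nat_lit 32342533)) (BT.leaf (nat_lit 35380757))))))) (BT.node (nat_lit 7107712) (BT.node (nat_lit 7107200) (BT.node (nat_lit 7106944) (BT.node (nat_lit 7106816) (BT.node (nat_lit 7106752) (BT.leaf (nat_lit 28561933)) (BT.leaf (nat_lit 46911749))) (BT.node (nat_lit 7106880) (BT.leaf (nat_lit 46829845)) (BT.leaf (nat_lit 28427289)))) (BT.node (nat_lit 7107072) (BT.node (nat_lit 7107008) (BT.leaf (nat_lit 46409249)) (BT.leaf (nat_lit 28428317))) (BT.node (nat_lit 7107136) (BT.leaf (nat_lit 33175569)) (BT.leaf (nat_lit 32344609))))) (BT.node (nat_lit 7107456) (BT.node (nat_lit 7107328) (BT.node (nat_lit 7107264) (BT.leaf (nat_lit 46410017)) (BT.leaf (nat_lit 46409761))) (BT.node (nat_lit 7107392) (BT.leaf (nat_lit 24481569)) (BT.leaf (nat_lit 35379717)))) (BT.node (nat_lit 7107584) (BT.node (nat_lit 7107520) (BT.leaf (nat_lit 46913809)) (BT.leaf (nat_lit 28429849))) (BT.node (nat_lit 7107648) (BT.leaf (nat_lit 50031137)) (BT.leaf (nat_lit 22694413)))))) (BT.node (nat_lit 7108224) (BT.node (nat_lit 7107968) (BT.node (nat_lit 7107840) (BT.node (nat_lit 7107776) (BT.leaf (nat_lit 32348701)) (BT.leaf (nat_lit 22694429))) (BT.node (nat_lit 7107904) (BT.leaf (nat_lit 22694425)) (BT.leaf (nat_lit 46914321)))) (BT.node (nat_lit 7108096) (BT.node (nat_lit 7108032) (BT.leaf (nat_lit 38474769)) (BT.leaf (nat_lit 31164689))) (BT.node (nat_lit 7108160) (BT.leaf (nat_lit 36876037)) (BT.leaf (nat_lit 28507157))))) (BT.node (nat_lit 7108480) (BT.node (nat_lit 7108352) (BT.node (nat_lit 7108288) (BT.leaf (nat_lit 22757129)) (BT.leaf (nat_lit 33464089))) (BT.node (nat_lit 7108416) (BT.leaf (nat_lit 31174933)) (BT.leaf (nat_lit 24050193)))) (BT.node (nat_lit 7108608) (BT.node (nat_lit 7108544) (BT.leaf (nat_lit 28224261)) (BT.leaf (nat_lit 22939157))) (BT.node (nat_lit 7108672) (BT.leaf (nat_lit 29125141)) (BT.leaf (nat_lit 28434973)))))))) (BT.node (nat_lit 7110784) (BT.node (nat_lit 7109760) (BT.node (nat_lit 7109248) (BT.node (nat_lit 7108992) (BT.node (nat_lit 7108864) (BT.node (nat_lit 7108800) (BT.leaf (nat_lit 24129545)) (BT.leaf (nat_lit 36847117))) (BT.node (nat_lit 7108928) (BT.leaf (nat_lit 27927829)) (BT.leaf (nat_lit 23297805)))) (BT.node (nat_lit 7109120) (BT.node (nat_lit 7109056) (BT.leaf (nat_lit 24620805)) (BT.leaf (nat_lit 27832341))) (BT.node (nat_lit 7109184) (BT.leaf (nat_lit 24860693)) (BT.leaf (nat_lit 24860697))))) (BT.node (nat_lit 7109504) (BT.node (nat_lit 7109376) (BT.node (nat_lit 7109312) (BT.leaf (nat_lit 24860701)) (BT.leaf (nat_lit 22698769))) (BT.node (nat_lit 7109440) (BT.leaf (nat_lit 22892049)) (BT.leaf (nat_lit 28772381)))) (BT.node (nat_lit 7109632) (BT.node (nat_lit 7109568) (BT.leaf (nat_lit 27679001)) (BT.leaf (nat_lit 46917661))) (BT.node (nat_lit 7109696) (BT.leaf (nat_lit 33120265)) (BT.leaf (nat_lit 35652113)))))) (BT.node (nat_lit 7110272) (BT.node (nat_lit 7110016) (BT.node (nat_lit 7109888) (BT.node (nat_lit 7109824) (BT.leaf (nat_lit 34377741)) (BT.leaf (nat_lit 46561557))) (BT.node (nat_lit 7109952) (BT.leaf (nat_lit 29900305)) (BT.leaf (nat_lit 24205857)))) (BT.node (nat_lit 7110144) (BT.node (nat_lit 7110080) (BT.leaf (nat_lit 28750361)) (BT.leaf (nat_lit 23675917))) (BT.node (nat_lit 7110208) (BT.leaf (nat_lit 47124229)) (BT.leaf (nat_lit 38161925))))) (BT.node (nat_lit 7110528) (BT.node (nat_lit 7110400) (BT.node (nat_lit 7110336) (BT.leaf (nat_lit 22767897)) (BT.leaf (nat_lit 35056929))) (BT.node (nat_lit 7110464) (BT.leaf (nat_lit 23331865)) (BT.leaf (nat_lit 23772177)))) (BT.node (nat_lit 7110656) (BT.node (nat_lit 7110592) (BT.leaf (nat_lit 23772193)) (BT.leaf (nat_lit 29909537))) (BT.node (nat_lit 7110720) (BT.leaf (nat_lit 27592469)) (BT.leaf (nat_lit 32956181))))))) (BT.node (nat_lit 7111808) (BT.node (nat_lit 7111296) (BT.node (nat_lit 7111040) (BT.node (nat_lit 7110912) (BT.node (nat_lit 7110848) (BT.leaf (nat_lit 28838409)) (BT.leaf (nat_lit 32956189))) (BT.node (nat_lit 7110976) (BT.leaf (nat_lit 26449429)) (BT.leaf (nat_lit 34542621)))) (BT.node (nat_lit 7111168) (BT.node (nat_lit 7111104) (BT.leaf (nat_lit 28444953)) (BT.leaf (nat_lit 34900769))) (BT.node (nat_lit 7111232) (BT.leaf (nat_lit 23691029)) (BT.leaf (nat_lit 29297169))))) (BT.node (nat_lit 7111552) (BT.node (nat_lit 7111424) (BT.node (nat_lit 7111360) (BT.leaf (nat_lit 25213969)) (BT.leaf (nat_lit 33943569))) (BT.node (nat_lit 7111488) (BT.leaf (nat_lit 24570897)) (BT.leaf (nat_lit 31917073)))) (BT.node (nat_lit 7111680) (BT.node (nat_lit 7111616) (BT.leaf (nat_lit 23910417)) (BT.leaf (nat_lit 31888661))) (BT.node (nat_lit 7111744) (BT.leaf (nat_lit 31889169)) (BT.leaf (nat_lit 24509961)))))) (BT.node (nat_lit 7112320) (BT.node (nat_lit 7112064) (BT.node (nat_lit 7111936) (BT.node (nat_lit 7111872) (BT.leaf (nat_lit 24508693)) (BT.leaf (nat_lit 24508697))) (BT.node (nat_lit 7112000) (BT.leaf (nat_lit 24508701)) (BT.leaf (nat_lit 46923541)))) (BT.node (nat_lit 7112192) (BT.node (nat_lit 7112128) (BT.leaf (nat_lit 46923809)) (BT.leaf (nat_lit 24857349))) (BT.node (nat_lit 7112256) (BT.leaf (nat_lit 51753221)) (BT.leaf (nat_lit 46455841))))) (BT.node (nat_lit 7112576) (BT.node (nat_lit 7112448) (BT.node (nat_lit 7112384) (BT.leaf (nat_lit 31242245)) (BT.leaf (nat_lit 25573397))) (BT.node (nat_lit 7112512) (BT.leaf (nat_lit 51107357)) (BT.leaf (nat_lit 30811909)))) (BT.node (nat_lit 7112704) (BT.node (nat_lit 7112640) (BT.leaf (nat_lit 31715101)) (BT.leaf (nat_lit 50685193))) (BT.node (nat_lit 7112768) (BT.leaf (nat_lit 46925601)) (BT.leaf (nat_lit 26158357))))))))) (BT.node (nat_lit 7116928) (BT.node (nat_lit 7114880) (BT.node (nat_lit 7113856) (BT.node (nat_lit 7113344) (BT.node (nat_lit 7113088) (BT.node (nat_lit 7112960) (BT.node (nat_lit 7112896) (BT.leaf (nat_lit 23456025)) (BT.leaf (nat_lit 22706697))) (BT.node (nat_lit 7113024) (BT.leaf (nat_lit 24069653)) (BT.leaf (nat_lit 22706701)))) (BT.node (nat_lit 7113216) (BT.node (nat_lit 7113152) (BT.leaf (nat_lit 34744337)) (BT.leaf (nat_lit 22706717))) (BT.node (nat_lit 7113280) (BT.leaf (nat_lit 31242257)) (BT.leaf (nat_lit 22706713))))) (BT.node (nat_lit 7113600) (BT.node (nat_lit 7113472) (BT.node (nat_lit 7113408) (BT.leaf (nat_lit 22342425)) (BT.leaf (nat_lit 22708765))) (BT.node (nat_lit 7113536) (BT.leaf (nat_lit 47296517)) (BT.leaf (nat_lit 47296529)))) (BT.node (nat_lit 7113728) (BT.node (nat_lit 7113664) (BT.leaf (nat_lit 47296545)) (BT.leaf (nat_lit 33084945))) (BT.node (nat_lit 7113792) (BT.leaf (nat_lit 28784921)) (BT.leaf (nat_lit 28601629)))))) (BT.node (nat_lit 7114368) (BT.node (nat_lit 7114112) (BT.node (nat_lit 7113984) (BT.node (nat_lit 7113920) (BT.leaf (nat_lit 51919121)) (BT.leaf (nat_lit 28003089))) (BT.node (nat_lit 7114048) (BT.leaf (nat_lit 39596293)) (BT.leaf (nat_lit 30183709)))) (BT.node (nat_lit 7114240) (BT.node (nat_lit 7114176) (BT.leaf (nat_lit 23163161)) (BT.leaf (nat_lit 23163165))) (BT.node (nat_lit 7114304) (BT.leaf (nat_lit 28999693)) (BT.leaf (nat_lit 45636641))))) (BT.node (nat_lit 7114624) (BT.node (nat_lit 7114496) (BT.node (nat_lit 7114432) (BT.leaf (nat_lit 31630085)) (BT.leaf (nat_lit 23403533))) (BT.node (nat_lit 7114560) (BT.leaf (nat_lit 39603233)) (BT.leaf (nat_lit 28938517)))) (BT.node (nat_lit 7114752) (BT.node (nat_lit 7114688) (BT.leaf (nat_lit 31004169)) (BT.leaf (nat_lit 30097937))) (BT.node (nat_lit 7114816) (BT.leaf (nat_lit 37071389)) (BT.leaf (nat_lit 34706197))))))) (BT.node (nat_lit 7115904) (BT.node (nat_lit 7115392) (BT.node (nat_lit 7115136) (BT.node (nat_lit 7115008) (BT.node (nat_lit 7114944) (BT.leaf (nat_lit 46929429)) (BT.leaf (nat_lit 30096417))) (BT.node (nat_lit 7115072) (BT.leaf (nat_lit 24029193)) (BT.leaf (nat_lit 29199117)))) (BT.node (nat_lit 7115264) (BT.node (nat_lit 7115200) (BT.leaf (nat_lit 28981261)) (BT.leaf (nat_lit 33705493))) (BT.node (nat_lit 7115328) (BT.leaf (nat_lit 27370785)) (BT.leaf (nat_lit 24846597))))) (BT.node (nat_lit 7115648) (BT.node (nat_lit 7115520) (BT.node (nat_lit 7115456) (BT.leaf (nat_lit 34027297)) (BT.leaf (nat_lit 51774221))) (BT.node (nat_lit 7115584) (BT.leaf (nat_lit 52317709)) (BT.leaf (nat_lit 27878685)))) (BT.node (nat_lit 7115776) (BT.node (nat_lit 7115712) (BT.leaf (nat_lit 31722773)) (BT.leaf (nat_lit 46931229))) (BT.node (nat_lit 7115840) (BT.leaf (nat_lit 24243229)) (BT.leaf (nat_lit 36199185)))))) (BT.node (nat_lit 7116416) (BT.node (nat_lit 7116160) (BT.node (nat_lit 7116032) (BT.node (nat_lit 7115968) (BT.leaf (nat_lit 31636741)) (BT.leaf (nat_lit 22709265))) (BT.node (nat_lit 7116096) (BT.leaf (nat_lit 22710033)) (BT.leaf (nat_lit 24224537)))) (BT.node (nat_lit 7116288) (BT.node (nat_lit 7116224) (BT.leaf (nat_lit 24224541)) (BT.leaf (nat_lit 31505949))) (BT.node (nat_lit 7116352) (BT.leaf (nat_lit 46932501)) (BT.leaf (nat_lit 50611213))))) (BT.node (nat_lit 7116672) (BT.node (nat_lit 7116544) (BT.node (nat_lit 7116480) (BT.leaf (nat_lit 46933765)) (BT.leaf (nat_lit 30927637))) (BT.node (nat_lit 7116608) (BT.leaf (nat_lit 39618849)) (BT.leaf (nat_lit 24752673)))) (BT.node (nat_lit 7116800) (BT.node (nat_lit 7116736) (BT.leaf (nat_lit 24612129)) (BT.leaf (nat_lit 24611081))) (BT.node (nat_lit 7116864) (BT.leaf (nat_lit 24611361)) (BT.leaf (nat_lit 25720349)))))))) (BT.node (nat_lit 7118976) (BT.node (nat_lit 7117952) (BT.node (nat_lit 7117440) (BT.node (nat_lit 7117184) (BT.node (nat_lit 7117056) (BT.node (nat_lit 7116992) (BT.leaf (nat_lit 31851041)) (BT.leaf (nat_lit 25884189))) (BT.node (nat_lit 7117120) (BT.leaf (nat_lit 22711569)) (BT.leaf (nat_lit 22711573)))) (BT.node (nat_lit 7117312) (BT.node (nat_lit 7117248) (BT.leaf (nat_lit 31641633)) (BT.leaf (nat_lit 24124189))) (BT.node (nat_lit 7117376) (BT.leaf (nat_lit 46934813)) (BT.leaf (nat_lit 28908049))))) (BT.node (nat_lit 7117696) (BT.node (nat_lit 7117568) (BT.node (nat_lit 7117504) (BT.leaf (nat_lit 28907793)) (BT.leaf (nat_lit 33568281))) (BT.node (nat_lit 7117632) (BT.leaf (nat_lit 35155745)) (BT.leaf (nat_lit 23276045)))) (BT.node (nat_lit 7117824) (BT.node (nat_lit 7117760) (BT.leaf (nat_lit 22711813)) (BT.leaf (nat_lit 22712069))) (BT.node (nat_lit 7117888) (BT.leaf (nat_lit 25176349)) (BT.leaf (nat_lit 29299977)))))) (BT.node (nat_lit 7118464) (BT.node (nat_lit 7118208) (BT.node (nat_lit 7118080) (BT.node (nat_lit 7118016) (BT.leaf (nat_lit 31148321)) (BT.leaf (nat_lit 28272929))) (BT.node (nat_lit 7118144) (BT.leaf (nat_lit 37267737)) (BT.leaf (nat_lit 22712849)))) (BT.node (nat_lit 7118336) (BT.node (nat_lit 7118272) (BT.leaf (nat_lit 46935573)) (BT.leaf (nat_lit 46936097))) (BT.node (nat_lit 7118400) (BT.leaf (nat_lit 52332057)) (BT.leaf (nat_lit 34669345))))) (BT.node (nat_lit 7118720) (BT.node (nat_lit 7118592) (BT.node (nat_lit 7118528) (BT.leaf (nat_lit 34693661)) (BT.leaf (nat_lit 31374881))) (BT.node (nat_lit 7118656) (BT.leaf (nat_lit 46732805)) (BT.leaf (nat_lit 46937117)))) (BT.node (nat_lit 7118848) (BT.node (nat_lit 7118784) (BT.leaf (nat_lit 38887697)) (BT.leaf (nat_lit 22713869))) (BT.node (nat_lit 7118912) (BT.leaf (nat_lit 24416033)) (BT.leaf (nat_lit 22713865))))))) (BT.node (nat_lit 7120000) (BT.node (nat_lit 7119488) (BT.node (nat_lit 7119232) (BT.node (nat_lit 7119104) (BT.node (nat_lit 7119040) (BT.leaf (nat_lit 46663445)) (BT.leaf (nat_lit 27353365))) (BT.node (nat_lit 7119168) (BT.leaf (nat_lit 28476701)) (BT.leaf (nat_lit 29010193)))) (BT.node (nat_lit 7119360) (BT.node (nat_lit 7119296) (BT.leaf (nat_lit 31514885)) (BT.leaf (nat_lit 46938645))) (BT.node (nat_lit 7119424) (BT.leaf (nat_lit 22858009)) (BT.leaf (nat_lit 25799693))))) (BT.node (nat_lit 7119744) (BT.node (nat_lit 7119616) (BT.node (nat_lit 7119552) (BT.leaf (nat_lit 29123089)) (BT.leaf (nat_lit 24559637))) (BT.node (nat_lit 7119680) (BT.leaf (nat_lit 32963589)) (BT.leaf (nat_lit 29388293)))) (BT.node (nat_lit 7119872) (BT.node (nat_lit 7119808) (BT.leaf (nat_lit 33058065)) (BT.leaf (nat_lit 33058081))) (BT.node (nat_lit 7119936) (BT.leaf (nat_lit 27273237)) (BT.leaf (nat_lit 32966169)))))) (BT.node (nat_lit 7120512) (BT.node (nat_lit 7120256) (BT.node (nat_lit 7120128) (BT.node (nat_lit 7120064) (BT.leaf (nat_lit 26784797)) (BT.leaf (nat_lit 50998037))) (BT.node (nat_lit 7120192) (BT.leaf (nat_lit 47609097)) (BT.leaf (nat_lit 28480537)))) (BT.node (nat_lit 7120384) (BT.node (nat_lit 7120320) (BT.leaf (nat_lit 34542341)) (BT.leaf (nat_lit 23208457))) (BT.node (nat_lit 7120448) (BT.leaf (nat_lit 50014493)) (BT.leaf (nat_lit 27768837))))) (BT.node (nat_lit 7120768) (BT.node (nat_lit 7120640) (BT.node (nat_lit 7120576) (BT.leaf (nat_lit 22721565)) (BT.leaf (nat_lit 30980369))) (BT.node (nat_lit 7120704) (BT.leaf (nat_lit 26451993)) (BT.leaf (nat_lit 26646801)))) (BT.node (nat_lit 7120896) (BT.node (nat_lit 7120832) (BT.leaf (nat_lit 28728093)) (BT.leaf (nat_lit 29407509))) (BT.node (nat_lit 7120960) (BT.leaf (nat_lit 22949397)) (BT.leaf (nat_lit 46942233)))))))))) (BT.node (nat_lit 7129216) (BT.node (nat_lit 7125120) (BT.node (nat_lit 7123072) (BT.node (nat_lit 7122048) (BT.node (nat_lit 7121536) (BT.node (nat_lit 7121280) (BT.node (nat_lit 7121152) (BT.node (nat_lit 7121088) (BT.leaf (nat_lit 27755021)) (BT.leaf (nat_lit 27755529))) (BT.node (nat_lit 7121216) (BT.leaf (nat_lit 22848785)) (BT.leaf (nat_lit 34053397)))) (BT.node (nat_lit 7121408) (BT.node (nat_lit 7121344) (BT.leaf (nat_lit 30872861)) (BT.leaf (nat_lit 26503945))) (BT.node (nat_lit 7121472) (BT.leaf (nat_lit 25192729)) (BT.leaf (nat_lit 27973141))))) (BT.node (nat_lit 7121792) (BT.node (nat_lit 7121664) (BT.node (nat_lit 7121600) (BT.leaf (nat_lit 31927813)) (BT.leaf (nat_lit 22948885))) (BT.node (nat_lit 7121728) (BT.leaf (nat_lit 23049249)) (BT.leaf (nat_lit 46834961)))) (BT.node (nat_lit 7121920) (BT.node (nat_lit 7121856) (BT.leaf (nat_lit 46944261)) (BT.leaf (nat_lit 46944773))) (BT.node (nat_lit 7121984) (BT.leaf (nat_lit 33817093)) (BT.leaf (nat_lit 24088085)))))) (BT.node (nat_lit 7122560) (BT.node (nat_lit 7122304) (BT.node (nat_lit 7122176) (BT.node (nat_lit 7122112) (BT.leaf (nat_lit 50682885)) (BT.leaf (nat_lit 33176085))) (BT.node (nat_lit 7122240) (BT.leaf (nat_lit 38019093)) (BT.leaf (nat_lit 35653137)))) (BT.node (nat_lit 7122432) (BT.node (nat_lit 7122368) (BT.leaf (nat_lit 32091425)) (BT.leaf (nat_lit 46946065))) (BT.node (nat_lit 7122496) (BT.leaf (nat_lit 23480069)) (BT.leaf (nat_lit 23480089))))) (BT.node (nat_lit 7122816) (BT.node (nat_lit 7122688) (BT.node (nat_lit 7122624) (BT.leaf (nat_lit 23480093)) (BT.leaf (nat_lit 25796897))) (BT.node (nat_lit 7122752) (BT.leaf (nat_lit 35764245)) (BT.leaf (nat_lit 30670853)))) (BT.node (nat_lit 7122944) (BT.node (nat_lit 7122880) (BT.leaf (nat_lit 30657285)) (BT.leaf (nat_lit 30612485))) (BT.node (nat_lit 7123008) (BT.leaf (nat_lit 23144221)) (BT.leaf (nat_lit 46947617))))))) (BT.node (nat_lit 7124096) (BT.node (nat_lit 7123584) (BT.node (nat_lit 7123328) (BT.node (nat_lit 7123200) (BT.node (nat_lit 7123136) (BT.leaf (nat_lit 32792069)) (BT.leaf (nat_lit 32124433))) (BT.node (nat_lit 7123264) (BT.leaf (nat_lit 34155013)) (BT.leaf (nat_lit 29257249)))) (BT.node (nat_lit 7123456) (BT.node (nat_lit 7123392) (BT.leaf (nat_lit 46567693)) (BT.leaf (nat_lit 32660253))) (BT.node (nat_lit 7123520) (BT.leaf (nat_lit 27798805)) (BT.leaf (nat_lit 23354641))))) (BT.node (nat_lit 7123840) (BT.node (nat_lit 7123712) (BT.node (nat_lit 7123648) (BT.leaf (nat_lit 34449697)) (BT.leaf (nat_lit 34640149))) (BT.node (nat_lit 7123776) (BT.leaf (nat_lit 37827861)) (BT.leaf (nat_lit 27769869)))) (BT.node (nat_lit 7123968) (BT.node (nat_lit 7123904) (BT.leaf (nat_lit 31184161)) (BT.leaf (nat_lit 23161349))) (BT.node (nat_lit 7124032) (BT.leaf (nat_lit 51232525)) (BT.leaf (nat_lit 47611921)))))) (BT.node (nat_lit 7124608) (BT.node (nat_lit 7124352) (BT.node (nat_lit 7124224) (BT.node (nat_lit 7124160) (BT.leaf (nat_lit 22723101)) (BT.leaf (nat_lit 38764321))) (BT.node (nat_lit 7124288) (BT.leaf (nat_lit 30373921)) (BT.leaf (nat_lit 31582733)))) (BT.node (nat_lit 7124480) (BT.node (nat_lit 7124416) (BT.leaf (nat_lit 31144209)) (BT.leaf (nat_lit 32725025))) (BT.node (nat_lit 7124544) (BT.leaf (nat_lit 42580505)) (BT.leaf (nat_lit 24782341))))) (BT.node (nat_lit 7124864) (BT.node (nat_lit 7124736) (BT.node (nat_lit 7124672) (BT.leaf (nat_lit 40611861)) (BT.leaf (nat_lit 32493077))) (BT.node (nat_lit 7124800) (BT.leaf (nat_lit 38447125)) (BT.leaf (nat_lit 23366677)))) (BT.node (nat_lit 7124992) (BT.node (nat_lit 7124928) (BT.leaf (nat_lit 28256285)) (BT.leaf (nat_lit 32448545))) (BT.node (nat_lit 7125056) (BT.leaf (nat_lit 33432605)) (BT.leaf (nat_lit 22722589)))))))) (BT.node (nat_lit 7127168) (BT.node (nat_lit 7126144) (BT.node (nat_lit 7125632) (BT.node (nat_lit 7125376) (BT.node (nat_lit 7125248) (BT.node (nat_lit 7125184) (BT.leaf (nat_lit 33432589)) (BT.leaf (nat_lit 23954453))) (BT.node (nat_lit 7125312) (BT.leaf (nat_lit 24561697)) (BT.leaf (nat_lit 29202461)))) (BT.node (nat_lit 7125504) (BT.node (nat_lit 7125440) (BT.leaf (nat_lit 29254429)) (BT.leaf (nat_lit 46953493))) (BT.node (nat_lit 7125568) (BT.leaf (nat_lit 31174665)) (BT.leaf (nat_lit 27249941))))) (BT.node (nat_lit 7125888) (BT.node (nat_lit 7125760) (BT.node (nat_lit 7125696) (BT.leaf (nat_lit 31176217)) (BT.leaf (nat_lit 29177617))) (BT.node (nat_lit 7125824) (BT.leaf (nat_lit 28432913)) (BT.leaf (nat_lit 46954269)))) (BT.node (nat_lit 7126016) (BT.node (nat_lit 7125952) (BT.leaf (nat_lit 46954773)) (BT.leaf (nat_lit 33771297))) (BT.node (nat_lit 7126080) (BT.leaf (nat_lit 29679393)) (BT.leaf (nat_lit 26036749)))))) (BT.node (nat_lit 7126656) (BT.node (nat_lit 7126400) (BT.node (nat_lit 7126272) (BT.node (nat_lit 7126208) (BT.leaf (nat_lit 33944849)) (BT.leaf (nat_lit 46955549))) (BT.node (nat_lit 7126336) (BT.leaf (nat_lit 50349845)) (BT.leaf (nat_lit 46469637)))) (BT.node (nat_lit 7126528) (BT.node (nat_lit 7126464) (BT.leaf (nat_lit 22848521)) (BT.leaf (nat_lit 22726417))) (BT.node (nat_lit 7126592) (BT.leaf (nat_lit 27092001)) (BT.leaf (nat_lit 26996241))))) (BT.node (nat_lit 7126912) (BT.node (nat_lit 7126784) (BT.node (nat_lit 7126720) (BT.leaf (nat_lit 30876945)) (BT.leaf (nat_lit 49030433))) (BT.node (nat_lit 7126848) (BT.leaf (nat_lit 22726673)) (BT.leaf (nat_lit 29458721)))) (BT.node (nat_lit 7127040) (BT.node (nat_lit 7126976) (BT.leaf (nat_lit 26996497)) (BT.leaf (nat_lit 31176733))) (BT.node (nat_lit 7127104) (BT.leaf (nat_lit 33147665)) (BT.leaf (nat_lit 26523157))))))) (BT.node (nat_lit 7128192) (BT.node (nat_lit 7127680) (BT.node (nat_lit 7127424) (BT.node (nat_lit 7127296) (BT.node (nat_lit 7127232) (BT.leaf (nat_lit 46956573)) (BT.leaf (nat_lit 46363661))) (BT.node (nat_lit 7127360) (BT.leaf (nat_lit 49566225)) (BT.leaf (nat_lit 51346701)))) (BT.node (nat_lit 7127552) (BT.node (nat_lit 7127488) (BT.leaf (nat_lit 46825225)) (BT.leaf (nat_lit 23704337))) (BT.node (nat_lit 7127616) (BT.leaf (nat_lit 22881809)) (BT.leaf (nat_lit 24326161))))) (BT.node (nat_lit 7127936) (BT.node (nat_lit 7127808) (BT.node (nat_lit 7127744) (BT.leaf (nat_lit 52217605)) (BT.leaf (nat_lit 31848465))) (BT.node (nat_lit 7127872) (BT.leaf (nat_lit 31538961)) (BT.leaf (nat_lit 24055825)))) (BT.node (nat_lit 7128064) (BT.node (nat_lit 7128000) (BT.leaf (nat_lit 37685025)) (BT.leaf (nat_lit 46958113))) (BT.node (nat_lit 7128128) (BT.leaf (nat_lit 46958369)) (BT.leaf (nat_lit 46958613)))))) (BT.node (nat_lit 7128704) (BT.node (nat_lit 7128448) (BT.node (nat_lit 7128320) (BT.node (nat_lit 7128256) (BT.leaf (nat_lit 27248673)) (BT.leaf (nat_lit 27092769))) (BT.node (nat_lit 7128384) (BT.leaf (nat_lit 31174405)) (BT.leaf (nat_lit 27092257)))) (BT.node (nat_lit 7128576) (BT.node (nat_lit 7128512) (BT.leaf (nat_lit 35938053)) (BT.leaf (nat_lit 24166169))) (BT.node (nat_lit 7128640) (BT.leaf (nat_lit 22958357)) (BT.leaf (nat_lit 27472405))))) (BT.node (nat_lit 7128960) (BT.node (nat_lit 7128832) (BT.node (nat_lit 7128768) (BT.leaf (nat_lit 27472409)) (BT.leaf (nat_lit 27472413))) (BT.node (nat_lit 7128896) (BT.leaf (nat_lit 23622161)) (BT.leaf (nat_lit 29383185)))) (BT.node (nat_lit 7129088) (BT.node (nat_lit 7129024) (BT.leaf (nat_lit 28627217)) (BT.leaf (nat_lit 27969037))) (BT.node (nat_lit 7129152) (BT.leaf (nat_lit 27562785)) (BT.leaf (nat_lit 37948177))))))))) (BT.node (nat_lit 7133312) (BT.node (nat_lit 7131264) (BT.node (nat_lit 7130240) (BT.node (nat_lit 7129728) (BT.node (nat_lit 7129472) (BT.node (nat_lit 7129344) (BT.node (nat_lit 7129280) (BT.leaf (nat_lit 37948181)) (BT.leaf (nat_lit 27969041))) (BT.node (nat_lit 7129408) (BT.leaf (nat_lit 24032785)) (BT.leaf (nat_lit 49435157)))) (BT.node (nat_lit 7129600) (BT.node (nat_lit 7129536) (BT.leaf (nat_lit 32792341)) (BT.leaf (nat_lit 46961673))) (BT.node (nat_lit 7129664) (BT.leaf (nat_lit 46961937)) (BT.leaf (nat_lit 46962193))))) (BT.node (nat_lit 7129984) (BT.node (nat_lit 7129856) (BT.node (nat_lit 7129792) (BT.leaf (nat_lit 23866129)) (BT.leaf (nat_lit 39481101))) (BT.node (nat_lit 7129920) (BT.leaf (nat_lit 34430493)) (BT.leaf (nat_lit 31322373)))) (BT.node (nat_lit 7130112) (BT.node (nat_lit 7130048) (BT.leaf (nat_lit 46892565)) (BT.leaf (nat_lit 35452433))) (BT.node (nat_lit 7130176) (BT.leaf (nat_lit 33442321)) (BT.leaf (nat_lit 28528405)))))) (BT.node (nat_lit 7130752) (BT.node (nat_lit 7130496) (BT.node (nat_lit 7130368) (BT.node (nat_lit 7130304) (BT.leaf (nat_lit 27343129)) (BT.leaf (nat_lit 30855693))) (BT.node (nat_lit 7130432) (BT.leaf (nat_lit 46963741)) (BT.leaf (nat_lit 28411677)))) (BT.node (nat_lit 7130624) (BT.node (nat_lit 7130560) (BT.leaf (nat_lit 24091149)) (BT.leaf (nat_lit 35421201))) (BT.node (nat_lit 7130688) (BT.leaf (nat_lit 24091145)) (BT.leaf (nat_lit 24091161))))) (BT.node (nat_lit 7131008) (BT.node (nat_lit 7130880) (BT.node (nat_lit 7130816) (BT.leaf (nat_lit 28525849)) (BT.leaf (nat_lit 47831817))) (BT.node (nat_lit 7130944) (BT.leaf (nat_lit 27570717)) (BT.leaf (nat_lit 29922317)))) (BT.node (nat_lit 7131136) (BT.node (nat_lit 7131072) (BT.leaf (nat_lit 46962957)) (BT.leaf (nat_lit 28524057))) (BT.node (nat_lit 7131200) (BT.leaf (nat_lit 23826709)) (BT.leaf (nat_lit 34446877))))))) (BT.node (nat_lit 7132288) (BT.node (nat_lit 7131776) (BT.node (nat_lit 7131520) (BT.node (nat_lit 7131392) (BT.node (nat_lit 7131328) (BT.leaf (nat_lit 28522269)) (BT.leaf (nat_lit 50332429))) (BT.node (nat_lit 7131456) (BT.leaf (nat_lit 23826961)) (BT.leaf (nat_lit 35421457)))) (BT.node (nat_lit 7131648) (BT.node (nat_lit 7131584) (BT.leaf (nat_lit 35156505)) (BT.leaf (nat_lit 22937361))) (BT.node (nat_lit 7131712) (BT.leaf (nat_lit 33122073)) (BT.leaf (nat_lit 28653073))))) (BT.node (nat_lit 7132032) (BT.node (nat_lit 7131904) (BT.node (nat_lit 7131840) (BT.leaf (nat_lit 33055773)) (BT.leaf (nat_lit 35006733))) (BT.node (nat_lit 7131968) (BT.leaf (nat_lit 37832477)) (BT.leaf (nat_lit 27938821)))) (BT.node (nat_lit 7132160) (BT.node (nat_lit 7132096) (BT.leaf (nat_lit 46967057)) (BT.leaf (nat_lit 27343133))) (BT.node (nat_lit 7132224) (BT.leaf (nat_lit 23939345)) (BT.leaf (nat_lit 31570201)))))) (BT.node (nat_lit 7132800) (BT.node (nat_lit 7132544) (BT.node (nat_lit 7132416) (BT.node (nat_lit 7132352) (BT.leaf (nat_lit 46967325)) (BT.leaf (nat_lit 28529693))) (BT.node (nat_lit 7132480) (BT.leaf (nat_lit 42866965)) (BT.leaf (nat_lit 23683613)))) (BT.node (nat_lit 7132672) (BT.node (nat_lit 7132608) (BT.leaf (nat_lit 22732065)) (BT.leaf (nat_lit 34254865))) (BT.node (nat_lit 7132736) (BT.leaf (nat_lit 24332049)) (BT.leaf (nat_lit 46727701))))) (BT.node (nat_lit 7133056) (BT.node (nat_lit 7132928) (BT.node (nat_lit 7132864) (BT.leaf (nat_lit 22955037)) (BT.leaf (nat_lit 23573013))) (BT.node (nat_lit 7132992) (BT.leaf (nat_lit 22732321)) (BT.leaf (nat_lit 22732557)))) (BT.node (nat_lit 7133184) (BT.node (nat_lit 7133120) (BT.leaf (nat_lit 30445317)) (BT.leaf (nat_lit 34173453))) (BT.node (nat_lit 7133248) (BT.leaf (nat_lit 47463713)) (BT.leaf (nat_lit 27345161)))))))) (BT.node (nat_lit 7135360) (BT.node (nat_lit 7134336) (BT.node (nat_lit 7133824) (BT.node (nat_lit 7133568) (BT.node (nat_lit 7133440) (BT.node (nat_lit 7133376) (BT.leaf (nat_lit 26759445)) (BT.leaf (nat_lit 34610969))) (BT.node (nat_lit 7133504) (BT.leaf (nat_lit 23767053)) (BT.leaf (nat_lit 37183261)))) (BT.node (nat_lit 7133696) (BT.node (nat_lit 7133632) (BT.leaf (nat_lit 50406177)) (BT.leaf (nat_lit 28444705))) (BT.node (nat_lit 7133760) (BT.leaf (nat_lit 37833229)) (BT.leaf (nat_lit 46969097))))) (BT.node (nat_lit 7134080) (BT.node (nat_lit 7133952) (BT.node (nat_lit 7133888) (BT.leaf (nat_lit 46969877)) (BT.leaf (nat_lit 30969361))) (BT.node (nat_lit 7134016) (BT.leaf (nat_lit 29100037)) (BT.leaf (nat_lit 24003097)))) (BT.node (nat_lit 7134208) (BT.node (nat_lit 7134144) (BT.leaf (nat_lit 30953225)) (BT.leaf (nat_lit 46970913))) (BT.node (nat_lit 7134272) (BT.leaf (nat_lit 32398113)) (BT.leaf (nat_lit 36745493)))))) (BT.node (nat_lit 7134848) (BT.node (nat_lit 7134592) (BT.node (nat_lit 7134464) (BT.node (nat_lit 7134400) (BT.leaf (nat_lit 28789025)) (BT.leaf (nat_lit 27345673))) (BT.node (nat_lit 7134528) (BT.leaf (nat_lit 29118497)) (BT.leaf (nat_lit 25429529)))) (BT.node (nat_lit 7134720) (BT.node (nat_lit 7134656) (BT.leaf (nat_lit 23475977)) (BT.leaf (nat_lit 24579873))) (BT.node (nat_lit 7134784) (BT.leaf (nat_lit 51589381)) (BT.leaf (nat_lit 23630361))))) (BT.node (nat_lit 7135104) (BT.node (nat_lit 7134976) (BT.node (nat_lit 7134912) (BT.leaf (nat_lit 31212805)) (BT.leaf (nat_lit 22736913))) (BT.node (nat_lit 7135040) (BT.leaf (nat_lit 25967633)) (BT.leaf (nat_lit 36968737)))) (BT.node (nat_lit 7135232) (BT.node (nat_lit 7135168) (BT.leaf (nat_lit 28538401)) (BT.leaf (nat_lit 35723529))) (BT.node (nat_lit 7135296) (BT.leaf (nat_lit 28541449)) (BT.leaf (nat_lit 24344089))))))) (BT.node (nat_lit 7136384) (BT.node (nat_lit 7135872) (BT.node (nat_lit 7135616) (BT.node (nat_lit 7135488) (BT.node (nat_lit 7135424) (BT.leaf (nat_lit 33143061)) (BT.leaf (nat_lit 26764037))) (BT.node (nat_lit 7135552) (BT.leaf (nat_lit 23428893)) (BT.leaf (nat_lit 27919905)))) (BT.node (nat_lit 7135744) (BT.node (nat_lit 7135680) (BT.leaf (nat_lit 30071573)) (BT.leaf (nat_lit 30071581))) (BT.node (nat_lit 7135808) (BT.leaf (nat_lit 46975253)) (BT.leaf (nat_lit 33312017))))) (BT.node (nat_lit 7136128) (BT.node (nat_lit 7136000) (BT.node (nat_lit 7135936) (BT.leaf (nat_lit 46976033)) (BT.leaf (nat_lit 33436933))) (BT.node (nat_lit 7136064) (BT.leaf (nat_lit 33436945)) (BT.leaf (nat_lit 37222169)))) (BT.node (nat_lit 7136256) (BT.node (nat_lit 7136192) (BT.leaf (nat_lit 46976529)) (BT.leaf (nat_lit 22738973))) (BT.node (nat_lit 7136320) (BT.leaf (nat_lit 36350213)) (BT.leaf (nat_lit 22754581)))))) (BT.node (nat_lit 7136896) (BT.node (nat_lit 7136640) (BT.node (nat_lit 7136512) (BT.node (nat_lit 7136448) (BT.leaf (nat_lit 28545821)) (BT.leaf (nat_lit 46907153))) (BT.node (nat_lit 7136576) (BT.leaf (nat_lit 28664097)) (BT.leaf (nat_lit 28607777)))) (BT.node (nat_lit 7136768) (BT.node (nat_lit 7136704) (BT.leaf (nat_lit 27728153)) (BT.leaf (nat_lit 29002517))) (BT.node (nat_lit 7136832) (BT.leaf (nat_lit 23031317)) (BT.leaf (nat_lit 29277205))))) (BT.node (nat_lit 7137152) (BT.node (nat_lit 7137024) (BT.node (nat_lit 7136960) (BT.leaf (nat_lit 33724437)) (BT.leaf (nat_lit 33577761))) (BT.node (nat_lit 7137088) (BT.leaf (nat_lit 46977817)) (BT.leaf (nat_lit 29285901)))) (BT.node (nat_lit 7137280) (BT.node (nat_lit 7137216) (BT.leaf (nat_lit 23297297)) (BT.leaf (nat_lit 33598217))) (BT.node (nat_lit 7137344) (BT.leaf (nat_lit 33987333)) (BT.leaf (nat_lit 28549645)))))))))))) (BT.node (nat_lit 7170112) (BT.node (nat_lit 7153728) (BT.node (nat_lit 7145536) (BT.node (nat_lit 7141440) (BT.node (nat_lit 7139456) (BT.node (nat_lit 7138432) (BT.node (nat_lit 7137920) (BT.node (nat_lit 7137664) (BT.node (nat_lit 7137536) (BT.node (nat_lit 7137472) (BT.leaf (nat_lit 36005141)) (BT.leaf (nat_lit 30148101))) (BT.node (nat_lit 7137600) (BT.leaf (nat_lit 46978069)) (BT.leaf (nat_lit 22299929)))) (BT.node (nat_lit 7137792) (BT.node (nat_lit 7137728) (BT.leaf (nat_lit 24865801)) (BT.leaf (nat_lit 36005401))) (BT.node (nat_lit 7137856) (BT.leaf (nat_lit 22299933)) (BT.leaf (nat_lit 46336029))))) (BT.node (nat_lit 7138176) (BT.node (nat_lit 7138048) (BT.node (nat_lit 7137984) (BT.leaf (nat_lit 51115545)) (BT.leaf (nat_lit 51089185))) (BT.node (nat_lit 7138112) (BT.leaf (nat_lit 28552477)) (BT.leaf (nat_lit 27100433)))) (BT.node (nat_lit 7138304) (BT.node (nat_lit 7138240) (BT.leaf (nat_lit 28628257)) (BT.leaf (nat_lit 29668637))) (BT.node (nat_lit 7138368) (BT.leaf (nat_lit 30802465)) (BT.leaf (nat_lit 29257233)))))) (BT.node (nat_lit 7138944) (BT.node (nat_lit 7138688) (BT.node (nat_lit 7138560) (BT.node (nat_lit 7138496) (BT.leaf (nat_lit 24866329)) (BT.leaf (nat_lit 30554897))) (BT.node (nat_lit 7138624) (BT.leaf (nat_lit 23747613)) (BT.leaf (nat_lit 31150101)))) (BT.node (nat_lit 7138816) (BT.node (nat_lit 7138752) (BT.leaf (nat_lit 28153377)) (BT.leaf (nat_lit 29046809))) (BT.node (nat_lit 7138880) (BT.leaf (nat_lit 46597129)) (BT.leaf (nat_lit 23435273))))) (BT.node (nat_lit 7139200) (BT.node (nat_lit 7139072) (BT.node (nat_lit 7139008) (BT.leaf (nat_lit 31933729)) (BT.leaf (nat_lit 31061257))) (BT.node (nat_lit 7139136) (BT.leaf (nat_lit 22740253)) (BT.leaf (nat_lit 22739741)))) (BT.node (nat_lit 7139328) (BT.node (nat_lit 7139264) (BT.leaf (nat_lit 23767573)) (BT.leaf (nat_lit 22740249))) (BT.node (nat_lit 7139392) (BT.leaf (nat_lit 46912261)) (BT.leaf (nat_lit 51065629))))))) (BT.node (nat_lit 7140480) (BT.node (nat_lit 7139968) (BT.node (nat_lit 7139712) (BT.node (nat_lit 7139584) (BT.node (nat_lit 7139520) (BT.leaf (nat_lit 35595537)) (BT.leaf (nat_lit 28557849))) (BT.node (nat_lit 7139648) (BT.leaf (nat_lit 29098777)) (BT.leaf (nat_lit 38186265)))) (BT.node (nat_lit 7139840) (BT.node (nat_lit 7139776) (BT.leaf (nat_lit 25232409)) (BT.leaf (nat_lit 29096457))) (BT.node (nat_lit 7139904) (BT.leaf (nat_lit 31067145)) (BT.leaf (nat_lit 47525405))))) (BT.node (nat_lit 7140224) (BT.node (nat_lit 7140096) (BT.node (nat_lit 7140032) (BT.leaf (nat_lit 29855009)) (BT.leaf (nat_lit 23028497))) (BT.node (nat_lit 7140160) (BT.leaf (nat_lit 23028241)) (BT.leaf (nat_lit 29338145)))) (BT.node (nat_lit 7140352) (BT.node (nat_lit 7140288) (BT.leaf (nat_lit 29339161)) (BT.leaf (nat_lit 28552209))) (BT.node (nat_lit 7140416) (BT.leaf (nat_lit 31476997)) (BT.leaf (nat_lit 23027993)))))) (BT.node (nat_lit 7140928) (BT.node (nat_lit 7140736) (BT.node (nat_lit 7140608) (BT.node (nat_lit 7140544) (BT.leaf (nat_lit 29344789)) (BT.leaf (nat_lit 46626581))) (BT.node (nat_lit 7140672) (BT.leaf (nat_lit 28709393)) (BT.leaf (nat_lit 51316505)))) (BT.node (nat_lit 7140805) (BT.node (nat_lit 7140800) (BT.leaf (nat_lit 29509137)) (BT.leaf (nat_lit 46983193))) (BT.node (nat_lit 7140864) (BT.leaf (nat_lit 498308)) (BT.leaf (nat_lit 46982929))))) (BT.node (nat_lit 7141184) (BT.node (nat_lit 7141056) (BT.node (nat_lit 7140992) (BT.leaf (nat_lit 31679237)) (BT.leaf (nat_lit 30922773))) (BT.node (nat_lit 7141120) (BT.leaf (nat_lit 35130133)) (BT.leaf (nat_lit 28107041)))) (BT.node (nat_lit 7141312) (BT.node (nat_lit 7141248) (BT.leaf (nat_lit 46983953)) (BT.leaf (nat_lit 38267141))) (BT.node (nat_lit 7141376) (BT.leaf (nat_lit 31721741)) (BT.leaf (nat_lit 37079825)))))))) (BT.node (nat_lit 7143488) (BT.node (nat_lit 7142464) (BT.node (nat_lit 7141952) (BT.node (nat_lit 7141696) (BT.node (nat_lit 7141568) (BT.node (nat_lit 7141504) (BT.leaf (nat_lit 31258373)) (BT.leaf (nat_lit 22742045))) (BT.node (nat_lit 7141632) (BT.leaf (nat_lit 22742301)) (BT.leaf (nat_lit 24464657)))) (BT.node (nat_lit 7141824) (BT.node (nat_lit 7141760) (BT.leaf (nat_lit 29302033)) (BT.leaf (nat_lit 26736921))) (BT.node (nat_lit 7141888) (BT.leaf (nat_lit 50313489)) (BT.leaf (nat_lit 30064413))))) (BT.node (nat_lit 7142208) (BT.node (nat_lit 7142080) (BT.node (nat_lit 7142016) (BT.leaf (nat_lit 27919117)) (BT.leaf (nat_lit 22742293))) (BT.node (nat_lit 7142144) (BT.leaf (nat_lit 29601797)) (BT.leaf (nat_lit 42561301)))) (BT.node (nat_lit 7142336) (BT.node (nat_lit 7142272) (BT.leaf (nat_lit 38173457)) (BT.leaf (nat_lit 32403737))) (BT.node (nat_lit 7142400) (BT.leaf (nat_lit 28702497)) (BT.leaf (nat_lit 39742993)))))) (BT.node (nat_lit 7142976) (BT.node (nat_lit 7142720) (BT.node (nat_lit 7142592) (BT.node (nat_lit 7142528) (BT.leaf (nat_lit 24186137)) (BT.leaf (nat_lit 24186141))) (BT.node (nat_lit 7142656) (BT.leaf (nat_lit 49924101)) (BT.leaf (nat_lit 46985489)))) (BT.node (nat_lit 7142848) (BT.node (nat_lit 7142784) (BT.leaf (nat_lit 46985745)) (BT.leaf (nat_lit 25846545))) (BT.node (nat_lit 7142912) (BT.leaf (nat_lit 38599949)) (BT.leaf (nat_lit 24591365))))) (BT.node (nat_lit 7143232) (BT.node (nat_lit 7143104) (BT.node (nat_lit 7143040) (BT.leaf (nat_lit 25846537)) (BT.leaf (nat_lit 25907745))) (BT.node (nat_lit 7143168) (BT.leaf (nat_lit 25727009)) (BT.leaf (nat_lit 25726753)))) (BT.node (nat_lit 7143360) (BT.node (nat_lit 7143296) (BT.leaf (nat_lit 46987029)) (BT.leaf (nat_lit 46987013))) (BT.node (nat_lit 7143424) (BT.leaf (nat_lit 46986253)) (BT.leaf (nat_lit 38500117))))))) (BT.node (nat_lit 7144512) (BT.node (nat_lit 7144000) (BT.node (nat_lit 7143744) (BT.node (nat_lit 7143616) (BT.node (nat_lit 7143552) (BT.leaf (nat_lit 23028501)) (BT.leaf (nat_lit 22546709))) (BT.node (nat_lit 7143680) (BT.leaf (nat_lit 27772705)) (BT.leaf (nat_lit 24596001)))) (BT.node (nat_lit 7143872) (BT.node (nat_lit 7143808) (BT.leaf (nat_lit 28835605)) (BT.leaf (nat_lit 28839965))) (BT.node (nat_lit 7143936) (BT.leaf (nat_lit 23029013)) (BT.leaf (nat_lit 28849169))))) (BT.node (nat_lit 7144256) (BT.node (nat_lit 7144128) (BT.node (nat_lit 7144064) (BT.leaf (nat_lit 50701085)) (BT.leaf (nat_lit 28576541))) (BT.node (nat_lit 7144192) (BT.leaf (nat_lit 48763665)) (BT.leaf (nat_lit 34364441)))) (BT.node (nat_lit 7144384) (BT.node (nat_lit 7144320) (BT.leaf (nat_lit 23740177)) (BT.leaf (nat_lit 23544593))) (BT.node (nat_lit 7144448) (BT.leaf (nat_lit 23212053)) (BT.leaf (nat_lit 36771101)))))) (BT.node (nat_lit 7145024) (BT.node (nat_lit 7144768) (BT.node (nat_lit 7144640) (BT.node (nat_lit 7144576) (BT.leaf (nat_lit 23481109)) (BT.leaf (nat_lit 32716809))) (BT.node (nat_lit 7144704) (BT.leaf (nat_lit 32716813)) (BT.leaf (nat_lit 42507029)))) (BT.node (nat_lit 7144896) (BT.node (nat_lit 7144832) (BT.leaf (nat_lit 39415301)) (BT.leaf (nat_lit 46990873))) (BT.node (nat_lit 7144960) (BT.leaf (nat_lit 26031649)) (BT.leaf (nat_lit 29076741))))) (BT.node (nat_lit 7145280) (BT.node (nat_lit 7145152) (BT.node (nat_lit 7145088) (BT.leaf (nat_lit 25713697)) (BT.leaf (nat_lit 22298141))) (BT.node (nat_lit 7145216) (BT.leaf (nat_lit 28889873)) (BT.leaf (nat_lit 39758093)))) (BT.node (nat_lit 7145408) (BT.node (nat_lit 7145344) (BT.leaf (nat_lit 33403157)) (BT.leaf (nat_lit 33508373))) (BT.node (nat_lit 7145472) (BT.leaf (nat_lit 46680325)) (BT.leaf (nat_lit 46714913))))))))) (BT.node (nat_lit 7149632) (BT.node (nat_lit 7147584) (BT.node (nat_lit 7146560) (BT.node (nat_lit 7146048) (BT.node (nat_lit 7145792) (BT.node (nat_lit 7145664) (BT.node (nat_lit 7145600) (BT.leaf (nat_lit 23071261)) (BT.leaf (nat_lit 36021281))) (BT.node (nat_lit 7145728) (BT.leaf (nat_lit 23032601)) (BT.leaf (nat_lit 33402909)))) (BT.node (nat_lit 7145920) (BT.node (nat_lit 7145856) (BT.leaf (nat_lit 33727241)) (BT.leaf (nat_lit 46992925))) (BT.node (nat_lit 7145984) (BT.leaf (nat_lit 29353989)) (BT.leaf (nat_lit 32256289))))) (BT.node (nat_lit 7146304) (BT.node (nat_lit 7146176) (BT.node (nat_lit 7146112) (BT.leaf (nat_lit 29432077)) (BT.leaf (nat_lit 24778261))) (BT.node (nat_lit 7146240) (BT.leaf (nat_lit 24778265)) (BT.leaf (nat_lit 24778269)))) (BT.node (nat_lit 7146432) (BT.node (nat_lit 7146368) (BT.leaf (nat_lit 39658265)) (BT.leaf (nat_lit 47679761))) (BT.node (nat_lit 7146496) (BT.leaf (nat_lit 25119253)) (BT.leaf (nat_lit 33752085)))))) (BT.node (nat_lit 7147072) (BT.node (nat_lit 7146816) (BT.node (nat_lit 7146688) (BT.node (nat_lit 7146624) (BT.leaf (nat_lit 28407065)) (BT.leaf (nat_lit 25119005))) (BT.node (nat_lit 7146752) (BT.leaf (nat_lit 22746897)) (BT.leaf (nat_lit 22746901)))) (BT.node (nat_lit 7146944) (BT.node (nat_lit 7146880) (BT.leaf (nat_lit 24419861)) (BT.leaf (nat_lit 39405341))) (BT.node (nat_lit 7147008) (BT.leaf (nat_lit 25119509)) (BT.leaf (nat_lit 33420309))))) (BT.node (nat_lit 7147328) (BT.node (nat_lit 7147200) (BT.node (nat_lit 7147136) (BT.leaf (nat_lit 50749205)) (BT.leaf (nat_lit 24539937))) (BT.node (nat_lit 7147264) (BT.leaf (nat_lit 36103953)) (BT.leaf (nat_lit 31045665)))) (BT.node (nat_lit 7147456) (BT.node (nat_lit 7147392) (BT.leaf (nat_lit 46996485)) (BT.leaf (nat_lit 28040729))) (BT.node (nat_lit 7147520) (BT.leaf (nat_lit 28040733)) (BT.leaf (nat_lit 24472849))))))) (BT.node (nat_lit 7148608) (BT.node (nat_lit 7148096) (BT.node (nat_lit 7147840) (BT.node (nat_lit 7147712) (BT.node (nat_lit 7147648) (BT.leaf (nat_lit 42581537)) (BT.leaf (nat_lit 46999073))) (BT.node (nat_lit 7147776) (BT.leaf (nat_lit 46999585)) (BT.leaf (nat_lit 24299013)))) (BT.node (nat_lit 7147968) (BT.node (nat_lit 7147904) (BT.leaf (nat_lit 25424917)) (BT.leaf (nat_lit 22749713))) (BT.node (nat_lit 7148032) (BT.leaf (nat_lit 31667745)) (BT.leaf (nat_lit 24142597))))) (BT.node (nat_lit 7148352) (BT.node (nat_lit 7148224) (BT.node (nat_lit 7148160) (BT.leaf (nat_lit 24496401)) (BT.leaf (nat_lit 37516321))) (BT.node (nat_lit 7148288) (BT.leaf (nat_lit 36828173)) (BT.leaf (nat_lit 50207001)))) (BT.node (nat_lit 7148480) (BT.node (nat_lit 7148416) (BT.leaf (nat_lit 25713157)) (BT.leaf (nat_lit 34760473))) (BT.node (nat_lit 7148544) (BT.leaf (nat_lit 28615941)) (BT.leaf (nat_lit 50865429)))))) (BT.node (nat_lit 7149120) (BT.node (nat_lit 7148864) (BT.node (nat_lit 7148736) (BT.node (nat_lit 7148672) (BT.leaf (nat_lit 33992977)) (BT.leaf (nat_lit 28096277))) (BT.node (nat_lit 7148800) (BT.leaf (nat_lit 22752777)) (BT.leaf (nat_lit 30160673)))) (BT.node (nat_lit 7148992) (BT.node (nat_lit 7148928) (BT.leaf (nat_lit 24376093)) (BT.leaf (nat_lit 34503189))) (BT.node (nat_lit 7149056) (BT.leaf (nat_lit 32107809)) (BT.leaf (nat_lit 36465937))))) (BT.node (nat_lit 7149376) (BT.node (nat_lit 7149248) (BT.node (nat_lit 7149184) (BT.leaf (nat_lit 28821525)) (BT.leaf (nat_lit 47002393))) (BT.node (nat_lit 7149312) (BT.leaf (nat_lit 33471257)) (BT.leaf (nat_lit 47158289)))) (BT.node (nat_lit 7149504) (BT.node (nat_lit 7149440) (BT.leaf (nat_lit 39783957)) (BT.leaf (nat_lit 46483461))) (BT.node (nat_lit 7149568) (BT.leaf (nat_lit 28594193)) (BT.leaf (nat_lit 39785749)))))))) (BT.node (nat_lit 7151680) (BT.node (nat_lit 7150656) (BT.node (nat_lit 7150144) (BT.node (nat_lit 7149888) (BT.node (nat_lit 7149760) (BT.node (nat_lit 7149696) (BT.leaf (nat_lit 48874773)) (BT.leaf (nat_lit 48141325))) (BT.node (nat_lit 7149824) (BT.leaf (nat_lit 48141321)) (BT.leaf (nat_lit 27734301)))) (BT.node (nat_lit 7150016) (BT.node (nat_lit 7149952) (BT.leaf (nat_lit 32242961)) (BT.leaf (nat_lit 28607237))) (BT.node (nat_lit 7150080) (BT.leaf (nat_lit 50912789)) (BT.leaf (nat_lit 28455173))))) (BT.node (nat_lit 7150400) (BT.node (nat_lit 7150272) (BT.node (nat_lit 7150208) (BT.leaf (nat_lit 23245857)) (BT.leaf (nat_lit 23245601))) (BT.node (nat_lit 7150336) (BT.leaf (nat_lit 39790613)) (BT.leaf (nat_lit 38454281)))) (BT.node (nat_lit 7150528) (BT.node (nat_lit 7150464) (BT.leaf (nat_lit 29763601)) (BT.leaf (nat_lit 28601625))) (BT.node (nat_lit 7150592) (BT.leaf (nat_lit 34505749)) (BT.leaf (nat_lit 47004701)))))) (BT.node (nat_lit 7151168) (BT.node (nat_lit 7150912) (BT.node (nat_lit 7150784) (BT.node (nat_lit 7150720) (BT.leaf (nat_lit 22755101)) (BT.leaf (nat_lit 23850017))) (BT.node (nat_lit 7150848) (BT.leaf (nat_lit 24451101)) (BT.leaf (nat_lit 24451081)))) (BT.node (nat_lit 7151040) (BT.node (nat_lit 7150976) (BT.leaf (nat_lit 23850529)) (BT.leaf (nat_lit 47004953))) (BT.node (nat_lit 7151104) (BT.leaf (nat_lit 28990497)) (BT.leaf (nat_lit 36790789))))) (BT.node (nat_lit 7151424) (BT.node (nat_lit 7151296) (BT.node (nat_lit 7151232) (BT.leaf (nat_lit 36791045)) (BT.leaf (nat_lit 27249697))) (BT.node (nat_lit 7151360) (BT.leaf (nat_lit 27307809)) (BT.leaf (nat_lit 22757137)))) (BT.node (nat_lit 7151552) (BT.node (nat_lit 7151488) (BT.leaf (nat_lit 36791841)) (BT.leaf (nat_lit 26996245))) (BT.node (nat_lit 7151616) (BT.leaf (nat_lit 22755593)) (BT.leaf (nat_lit 22755865))))))) (BT.node (nat_lit 7152704) (BT.node (nat_lit 7152192) (BT.node (nat_lit 7151936) (BT.node (nat_lit 7151808) (BT.node (nat_lit 7151744) (BT.leaf (nat_lit 47005721)) (BT.leaf (nat_lit 33406481))) (BT.node (nat_lit 7151872) (BT.leaf (nat_lit 28607001)) (BT.leaf (nat_lit 47006485)))) (BT.node (nat_lit 7152064) (BT.node (nat_lit 7152000) (BT.leaf (nat_lit 51398413)) (BT.leaf (nat_lit 34172949))) (BT.node (nat_lit 7152128) (BT.leaf (nat_lit 26401557)) (BT.leaf (nat_lit 23448081))))) (BT.node (nat_lit 7152448) (BT.node (nat_lit 7152320) (BT.node (nat_lit 7152256) (BT.leaf (nat_lit 50174481)) (BT.leaf (nat_lit 50390557))) (BT.node (nat_lit 7152384) (BT.leaf (nat_lit 39610145)) (BT.leaf (nat_lit 27250713)))) (BT.node (nat_lit 7152576) (BT.node (nat_lit 7152512) (BT.leaf (nat_lit 26959125)) (BT.leaf (nat_lit 46370069))) (BT.node (nat_lit 7152640) (BT.leaf (nat_lit 33734173)) (BT.leaf (nat_lit 39801869)))))) (BT.node (nat_lit 7153216) (BT.node (nat_lit 7152960) (BT.node (nat_lit 7152832) (BT.node (nat_lit 7152768) (BT.leaf (nat_lit 31167765)) (BT.leaf (nat_lit 37842973))) (BT.node (nat_lit 7152896) (BT.leaf (nat_lit 37402393)) (BT.leaf (nat_lit 22757405)))) (BT.node (nat_lit 7153088) (BT.node (nat_lit 7153024) (BT.leaf (nat_lit 46384161)) (BT.leaf (nat_lit 22757401))) (BT.node (nat_lit 7153152) (BT.leaf (nat_lit 25127957)) (BT.leaf (nat_lit 39641881))))) (BT.node (nat_lit 7153472) (BT.node (nat_lit 7153344) (BT.node (nat_lit 7153280) (BT.leaf (nat_lit 47008273)) (BT.leaf (nat_lit 48402713))) (BT.node (nat_lit 7153408) (BT.leaf (nat_lit 31027465)) (BT.leaf (nat_lit 31027469)))) (BT.node (nat_lit 7153600) (BT.node (nat_lit 7153536) (BT.leaf (nat_lit 22758941)) (BT.leaf (nat_lit 34651937))) (BT.node (nat_lit 7153664) (BT.leaf (nat_lit 24058401)) (BT.leaf (nat_lit 23234073)))))))))) (BT.node (nat_lit 7161920) (BT.node (nat_lit 7157824) (BT.node (nat_lit 7155776) (BT.node (nat_lit 7154752) (BT.node (nat_lit 7154240) (BT.node (nat_lit 7153984) (BT.node (nat_lit 7153856) (BT.node (nat_lit 7153792) (BT.leaf (nat_lit 31681309)) (BT.leaf (nat_lit 34137861))) (BT.node (nat_lit 7153920) (BT.leaf (nat_lit 23344401)) (BT.leaf (nat_lit 33531677)))) (BT.node (nat_lit 7154112) (BT.node (nat_lit 7154048) (BT.leaf (nat_lit 36174105)) (BT.leaf (nat_lit 40006689))) (BT.node (nat_lit 7154176) (BT.leaf (nat_lit 24058905)) (BT.leaf (nat_lit 29470237))))) (BT.node (nat_lit 7154496) (BT.node (nat_lit 7154368) (BT.node (nat_lit 7154304) (BT.leaf (nat_lit 24058909)) (BT.leaf (nat_lit 23222033))) (BT.node (nat_lit 7154432) (BT.leaf (nat_lit 47059225)) (BT.leaf (nat_lit 47059229)))) (BT.node (nat_lit 7154624) (BT.node (nat_lit 7154560) (BT.leaf (nat_lit 31471625)) (BT.leaf (nat_lit 28401181))) (BT.node (nat_lit 7154688) (BT.leaf (nat_lit 22689565)) (BT.leaf (nat_lit 30699033)))))) (BT.node (nat_lit 7155264) (BT.node (nat_lit 7155008) (BT.node (nat_lit 7154880) (BT.node (nat_lit 7154816) (BT.leaf (nat_lit 25932317)) (BT.leaf (nat_lit 22761489))) (BT.node (nat_lit 7154944) (BT.leaf (nat_lit 22761233)) (BT.leaf (nat_lit 22760465)))) (BT.node (nat_lit 7155136) (BT.node (nat_lit 7155072) (BT.leaf (nat_lit 24220437)) (BT.leaf (nat_lit 47012881))) (BT.node (nat_lit 7155200) (BT.leaf (nat_lit 34789653)) (BT.leaf (nat_lit 28416525))))) (BT.node (nat_lit 7155520) (BT.node (nat_lit 7155392) (BT.node (nat_lit 7155328) (BT.leaf (nat_lit 47013913)) (BT.leaf (nat_lit 39316245))) (BT.node (nat_lit 7155456) (BT.leaf (nat_lit 34001937)) (BT.leaf (nat_lit 24755217)))) (BT.node (nat_lit 7155648) (BT.node (nat_lit 7155584) (BT.leaf (nat_lit 45983777)) (BT.leaf (nat_lit 29672969))) (BT.node (nat_lit 7155712) (BT.leaf (nat_lit 38263829)) (BT.leaf (nat_lit 28987925))))))) (BT.node (nat_lit 7156800) (BT.node (nat_lit 7156288) (BT.node (nat_lit 7156032) (BT.node (nat_lit 7155904) (BT.node (nat_lit 7155840) (BT.leaf (nat_lit 47124497)) (BT.leaf (nat_lit 36909073))) (BT.node (nat_lit 7155968) (BT.leaf (nat_lit 47036961)) (BT.leaf (nat_lit 31482389)))) (BT.node (nat_lit 7156160) (BT.node (nat_lit 7156096) (BT.leaf (nat_lit 30535713)) (BT.leaf (nat_lit 30775073))) (BT.node (nat_lit 7156224) (BT.leaf (nat_lit 37766945)) (BT.leaf (nat_lit 38062881))))) (BT.node (nat_lit 7156544) (BT.node (nat_lit 7156416) (BT.node (nat_lit 7156352) (BT.leaf (nat_lit 37733921)) (BT.leaf (nat_lit 33100573))) (BT.node (nat_lit 7156480) (BT.leaf (nat_lit 29087509)) (BT.leaf (nat_lit 33995793)))) (BT.node (nat_lit 7156672) (BT.node (nat_lit 7156608) (BT.leaf (nat_lit 28285973)) (BT.leaf (nat_lit 50799901))) (BT.node (nat_lit 7156736) (BT.leaf (nat_lit 30406157)) (BT.leaf (nat_lit 24582661)))))) (BT.node (nat_lit 7157312) (BT.node (nat_lit 7157056) (BT.node (nat_lit 7156928) (BT.node (nat_lit 7156864) (BT.leaf (nat_lit 47638293)) (BT.leaf (nat_lit 29048593))) (BT.node (nat_lit 7156992) (BT.leaf (nat_lit 34389789)) (BT.leaf (nat_lit 34510101)))) (BT.node (nat_lit 7157184) (BT.node (nat_lit 7157120) (BT.leaf (nat_lit 24877581)) (BT.leaf (nat_lit 31781905))) (BT.node (nat_lit 7157248) (BT.leaf (nat_lit 33870341)) (BT.leaf (nat_lit 46897165))))) (BT.node (nat_lit 7157568) (BT.node (nat_lit 7157440) (BT.node (nat_lit 7157376) (BT.leaf (nat_lit 30146565)) (BT.leaf (nat_lit 46345745))) (BT.node (nat_lit 7157504) (BT.leaf (nat_lit 35385869)) (BT.leaf (nat_lit 34844953)))) (BT.node (nat_lit 7157696) (BT.node (nat_lit 7157632) (BT.leaf (nat_lit 34466057)) (BT.leaf (nat_lit 22936857))) (BT.node (nat_lit 7157760) (BT.leaf (nat_lit 33471245)) (BT.leaf (nat_lit 24497953)))))))) (BT.node (nat_lit 7159872) (BT.node (nat_lit 7158848) (BT.node (nat_lit 7158336) (BT.node (nat_lit 7158080) (BT.node (nat_lit 7157952) (BT.node (nat_lit 7157888) (BT.leaf (nat_lit 25748761)) (BT.leaf (nat_lit 38062625))) (BT.node (nat_lit 7158016) (BT.leaf (nat_lit 30185761)) (BT.leaf (nat_lit 47019541)))) (BT.node (nat_lit 7158208) (BT.node (nat_lit 7158144) (BT.leaf (nat_lit 30157857)) (BT.leaf (nat_lit 23678749))) (BT.node (nat_lit 7158272) (BT.leaf (nat_lit 25245721)) (BT.leaf (nat_lit 24376341))))) (BT.node (nat_lit 7158592) (BT.node (nat_lit 7158464) (BT.node (nat_lit 7158400) (BT.leaf (nat_lit 29581577)) (BT.leaf (nat_lit 24197409))) (BT.node (nat_lit 7158528) (BT.leaf (nat_lit 35049749)) (BT.leaf (nat_lit 24797725)))) (BT.node (nat_lit 7158720) (BT.node (nat_lit 7158656) (BT.leaf (nat_lit 23649557)) (BT.leaf (nat_lit 23649561))) (BT.node (nat_lit 7158784) (BT.leaf (nat_lit 23649565)) (BT.leaf (nat_lit 29377041)))))) (BT.node (nat_lit 7159360) (BT.node (nat_lit 7159104) (BT.node (nat_lit 7158976) (BT.node (nat_lit 7158912) (BT.leaf (nat_lit 28266761)) (BT.leaf (nat_lit 28266765))) (BT.node (nat_lit 7159040) (BT.leaf (nat_lit 39857413)) (BT.leaf (nat_lit 34687261)))) (BT.node (nat_lit 7159232) (BT.node (nat_lit 7159168) (BT.leaf (nat_lit 48125213)) (BT.leaf (nat_lit 34953753))) (BT.node (nat_lit 7159296) (BT.leaf (nat_lit 46627361)) (BT.leaf (nat_lit 42959385))))) (BT.node (nat_lit 7159616) (BT.node (nat_lit 7159488) (BT.node (nat_lit 7159424) (BT.leaf (nat_lit 47020821)) (BT.leaf (nat_lit 24314129))) (BT.node (nat_lit 7159552) (BT.leaf (nat_lit 48147221)) (BT.leaf (nat_lit 30598161)))) (BT.node (nat_lit 7159744) (BT.node (nat_lit 7159680) (BT.leaf (nat_lit 30598165)) (BT.leaf (nat_lit 22764817))) (BT.node (nat_lit 7159808) (BT.leaf (nat_lit 35256069)) (BT.leaf (nat_lit 35075093))))))) (BT.node (nat_lit 7160896) (BT.node (nat_lit 7160384) (BT.node (nat_lit 7160128) (BT.node (nat_lit 7160000) (BT.node (nat_lit 7159936) (BT.leaf (nat_lit 34774289)) (BT.leaf (nat_lit 29657117))) (BT.node (nat_lit 7160064) (BT.leaf (nat_lit 24825625)) (BT.leaf (nat_lit 47263249)))) (BT.node (nat_lit 7160256) (BT.node (nat_lit 7160192) (BT.leaf (nat_lit 26004497)) (BT.leaf (nat_lit 35075589))) (BT.node (nat_lit 7160320) (BT.leaf (nat_lit 48728841)) (BT.leaf (nat_lit 30593553))))) (BT.node (nat_lit 7160640) (BT.node (nat_lit 7160512) (BT.node (nat_lit 7160448) (BT.leaf (nat_lit 23512597)) (BT.leaf (nat_lit 28630049))) (BT.node (nat_lit 7160576) (BT.leaf (nat_lit 27995669)) (BT.leaf (nat_lit 26022681)))) (BT.node (nat_lit 7160768) (BT.node (nat_lit 7160704) (BT.leaf (nat_lit 50963209)) (BT.leaf (nat_lit 51744009))) (BT.node (nat_lit 7160832) (BT.leaf (nat_lit 22766361)) (BT.leaf (nat_lit 47088141)))))) (BT.node (nat_lit 7161408) (BT.node (nat_lit 7161152) (BT.node (nat_lit 7161024) (BT.node (nat_lit 7160960) (BT.leaf (nat_lit 23038997)) (BT.leaf (nat_lit 23039005))) (BT.node (nat_lit 7161088) (BT.leaf (nat_lit 24725533)) (BT.leaf (nat_lit 29444105)))) (BT.node (nat_lit 7161280) (BT.node (nat_lit 7161216) (BT.leaf (nat_lit 34696473)) (BT.leaf (nat_lit 47205381))) (BT.node (nat_lit 7161344) (BT.leaf (nat_lit 22767649)) (BT.leaf (nat_lit 41824541))))) (BT.node (nat_lit 7161664) (BT.node (nat_lit 7161536) (BT.node (nat_lit 7161472) (BT.leaf (nat_lit 47023381)) (BT.leaf (nat_lit 47002649))) (BT.node (nat_lit 7161600) (BT.leaf (nat_lit 47024153)) (BT.leaf (nat_lit 23577873)))) (BT.node (nat_lit 7161792) (BT.node (nat_lit 7161728) (BT.leaf (nat_lit 39453461)) (BT.leaf (nat_lit 47024137))) (BT.node (nat_lit 7161856) (BT.leaf (nat_lit 23577889)) (BT.leaf (nat_lit 36761373))))))))) (BT.node (nat_lit 7166016) (BT.node (nat_lit 7163968) (BT.node (nat_lit 7162944) (BT.node (nat_lit 7162432) (BT.node (nat_lit 7162176) (BT.node (nat_lit 7162048) (BT.node (nat_lit 7161984) (BT.leaf (nat_lit 28402973)) (BT.leaf (nat_lit 35641109))) (BT.node (nat_lit 7162112) (BT.leaf (nat_lit 50845201)) (BT.leaf (nat_lit 47024661)))) (BT.node (nat_lit 7162304) (BT.node (nat_lit 7162240) (BT.leaf (nat_lit 33862421)) (BT.leaf (nat_lit 50731537))) (BT.node (nat_lit 7162368) (BT.leaf (nat_lit 30135301)) (BT.leaf (nat_lit 29385225))))) (BT.node (nat_lit 7162688) (BT.node (nat_lit 7162560) (BT.node (nat_lit 7162496) (BT.leaf (nat_lit 29052949)) (BT.leaf (nat_lit 27505929))) (BT.node (nat_lit 7162624) (BT.leaf (nat_lit 23226129)) (BT.leaf (nat_lit 28650785)))) (BT.node (nat_lit 7162816) (BT.node (nat_lit 7162752) (BT.leaf (nat_lit 25629709)) (BT.leaf (nat_lit 24014877))) (BT.node (nat_lit 7162880) (BT.leaf (nat_lit 29552649)) (BT.leaf (nat_lit 28200209)))))) (BT.node (nat_lit 7163456) (BT.node (nat_lit 7163200) (BT.node (nat_lit 7163072) (BT.node (nat_lit 7163008) (BT.leaf (nat_lit 31308833)) (BT.leaf (nat_lit 22937109))) (BT.node (nat_lit 7163136) (BT.leaf (nat_lit 29116437)) (BT.leaf (nat_lit 33633045)))) (BT.node (nat_lit 7163328) (BT.node (nat_lit 7163264) (BT.leaf (nat_lit 35721241)) (BT.leaf (nat_lit 49843485))) (BT.node (nat_lit 7163392) (BT.leaf (nat_lit 33055761)) (BT.leaf (nat_lit 49032477))))) (BT.node (nat_lit 7163712) (BT.node (nat_lit 7163584) (BT.node (nat_lit 7163520) (BT.leaf (nat_lit 31248409)) (BT.leaf (nat_lit 29112085))) (BT.node (nat_lit 7163648) (BT.leaf (nat_lit 25827357)) (BT.leaf (nat_lit 28826893)))) (BT.node (nat_lit 7163840) (BT.node (nat_lit 7163776) (BT.leaf (nat_lit 51733277)) (BT.leaf (nat_lit 29108493))) (BT.node (nat_lit 7163904) (BT.leaf (nat_lit 35061789)) (BT.leaf (nat_lit 23057417))))))) (BT.node (nat_lit 7164992) (BT.node (nat_lit 7164480) (BT.node (nat_lit 7164224) (BT.node (nat_lit 7164096) (BT.node (nat_lit 7164032) (BT.leaf (nat_lit 39178765)) (BT.leaf (nat_lit 39178781))) (BT.node (nat_lit 7164160) (BT.leaf (nat_lit 24486425)) (BT.leaf (nat_lit 47029277)))) (BT.node (nat_lit 7164352) (BT.node (nat_lit 7164288) (BT.leaf (nat_lit 31490577)) (BT.leaf (nat_lit 47029789))) (BT.node (nat_lit 7164416) (BT.leaf (nat_lit 27541793)) (BT.leaf (nat_lit 47030293))))) (BT.node (nat_lit 7164736) (BT.node (nat_lit 7164608) (BT.node (nat_lit 7164544) (BT.leaf (nat_lit 23057433)) (BT.leaf (nat_lit 31098129))) (BT.node (nat_lit 7164672) (BT.leaf (nat_lit 24146693)) (BT.leaf (nat_lit 29658117)))) (BT.node (nat_lit 7164864) (BT.node (nat_lit 7164800) (BT.leaf (nat_lit 31691033)) (BT.leaf (nat_lit 28166429))) (BT.node (nat_lit 7164928) (BT.leaf (nat_lit 32593681)) (BT.leaf (nat_lit 22777877)))))) (BT.node (nat_lit 7165504) (BT.node (nat_lit 7165248) (BT.node (nat_lit 7165120) (BT.node (nat_lit 7165056) (BT.leaf (nat_lit 28167701)) (BT.leaf (nat_lit 29752837))) (BT.node (nat_lit 7165184) (BT.leaf (nat_lit 23418885)) (BT.leaf (nat_lit 51121681)))) (BT.node (nat_lit 7165376) (BT.node (nat_lit 7165312) (BT.leaf (nat_lit 36983317)) (BT.leaf (nat_lit 44494097))) (BT.node (nat_lit 7165440) (BT.leaf (nat_lit 28661273)) (BT.leaf (nat_lit 28877601))))) (BT.node (nat_lit 7165760) (BT.node (nat_lit 7165632) (BT.node (nat_lit 7165568) (BT.leaf (nat_lit 22777885)) (BT.leaf (nat_lit 39346961))) (BT.node (nat_lit 7165696) (BT.leaf (nat_lit 47816985)) (BT.leaf (nat_lit 35340825)))) (BT.node (nat_lit 7165888) (BT.node (nat_lit 7165824) (BT.leaf (nat_lit 33846041)) (BT.leaf (nat_lit 33115653))) (BT.node (nat_lit 7165952) (BT.leaf (nat_lit 47033369)) (BT.leaf (nat_lit 47033617)))))))) (BT.node (nat_lit 7168064) (BT.node (nat_lit 7167040) (BT.node (nat_lit 7166528) (BT.node (nat_lit 7166272) (BT.node (nat_lit 7166144) (BT.node (nat_lit 7166080) (BT.leaf (nat_lit 43169293)) (BT.leaf (nat_lit 42383373))) (BT.node (nat_lit 7166208) (BT.leaf (nat_lit 28083489)) (BT.leaf (nat_lit 35011345)))) (BT.node (nat_lit 7166400) (BT.node (nat_lit 7166336) (BT.leaf (nat_lit 47035921)) (BT.leaf (nat_lit 24461593))) (BT.node (nat_lit 7166464) (BT.leaf (nat_lit 24461597)) (BT.leaf (nat_lit 24485389))))) (BT.node (nat_lit 7166784) (BT.node (nat_lit 7166656) (BT.node (nat_lit 7166592) (BT.leaf (nat_lit 24149281)) (BT.leaf (nat_lit 28085281))) (BT.node (nat_lit 7166720) (BT.leaf (nat_lit 46373141)) (BT.leaf (nat_lit 48866313)))) (BT.node (nat_lit 7166912) (BT.node (nat_lit 7166848) (BT.leaf (nat_lit 30807825)) (BT.leaf (nat_lit 22772245))) (BT.node (nat_lit 7166976) (BT.leaf (nat_lit 23048725)) (BT.leaf (nat_lit 30914577)))))) (BT.node (nat_lit 7167552) (BT.node (nat_lit 7167296) (BT.node (nat_lit 7167168) (BT.node (nat_lit 7167104) (BT.leaf (nat_lit 33537553)) (BT.leaf (nat_lit 34971681))) (BT.node (nat_lit 7167232) (BT.leaf (nat_lit 29999893)) (BT.leaf (nat_lit 29999897)))) (BT.node (nat_lit 7167424) (BT.node (nat_lit 7167360) (BT.leaf (nat_lit 29999901)) (BT.leaf (nat_lit 48097029))) (BT.node (nat_lit 7167488) (BT.leaf (nat_lit 22773013)) (BT.leaf (nat_lit 25580833))))) (BT.node (nat_lit 7167808) (BT.node (nat_lit 7167680) (BT.node (nat_lit 7167616) (BT.leaf (nat_lit 22772757)) (BT.leaf (nat_lit 33252873))) (BT.node (nat_lit 7167744) (BT.leaf (nat_lit 47038233)) (BT.leaf (nat_lit 22564629)))) (BT.node (nat_lit 7167936) (BT.node (nat_lit 7167872) (BT.leaf (nat_lit 33489937)) (BT.leaf (nat_lit 27661573))) (BT.node (nat_lit 7168000) (BT.leaf (nat_lit 27661325)) (BT.leaf (nat_lit 25912853))))))) (BT.node (nat_lit 7169088) (BT.node (nat_lit 7168576) (BT.node (nat_lit 7168320) (BT.node (nat_lit 7168192) (BT.node (nat_lit 7168128) (BT.leaf (nat_lit 36403229)) (BT.leaf (nat_lit 32893217))) (BT.node (nat_lit 7168256) (BT.leaf (nat_lit 23911441)) (BT.leaf (nat_lit 28518681)))) (BT.node (nat_lit 7168448) (BT.node (nat_lit 7168384) (BT.leaf (nat_lit 22928905)) (BT.leaf (nat_lit 47039517))) (BT.node (nat_lit 7168512) (BT.leaf (nat_lit 38571013)) (BT.leaf (nat_lit 22848529))))) (BT.node (nat_lit 7168832) (BT.node (nat_lit 7168704) (BT.node (nat_lit 7168640) (BT.leaf (nat_lit 33423633)) (BT.leaf (nat_lit 28824089))) (BT.node (nat_lit 7168768) (BT.leaf (nat_lit 31622425)) (BT.leaf (nat_lit 23589393)))) (BT.node (nat_lit 7168960) (BT.node (nat_lit 7168896) (BT.leaf (nat_lit 26282017)) (BT.leaf (nat_lit 29503509))) (BT.node (nat_lit 7169024) (BT.leaf (nat_lit 29343761)) (BT.leaf (nat_lit 23622417)))))) (BT.node (nat_lit 7169600) (BT.node (nat_lit 7169344) (BT.node (nat_lit 7169216) (BT.node (nat_lit 7169152) (BT.leaf (nat_lit 47042073)) (BT.leaf (nat_lit 29325845))) (BT.node (nat_lit 7169280) (BT.leaf (nat_lit 47043077)) (BT.leaf (nat_lit 23039001)))) (BT.node (nat_lit 7169472) (BT.node (nat_lit 7169408) (BT.leaf (nat_lit 47043601)) (BT.leaf (nat_lit 28152593))) (BT.node (nat_lit 7169536) (BT.leaf (nat_lit 29047045)) (BT.leaf (nat_lit 24249105))))) (BT.node (nat_lit 7169856) (BT.node (nat_lit 7169728) (BT.node (nat_lit 7169664) (BT.leaf (nat_lit 28153105)) (BT.leaf (nat_lit 28505097))) (BT.node (nat_lit 7169792) (BT.leaf (nat_lit 47044893)) (BT.leaf (nat_lit 37635609)))) (BT.node (nat_lit 7169984) (BT.node (nat_lit 7169920) (BT.leaf (nat_lit 47045393)) (BT.leaf (nat_lit 32565265))) (BT.node (nat_lit 7170048) (BT.leaf (nat_lit 28861973)) (BT.leaf (nat_lit 28680477))))))))))) (BT.node (nat_lit 7186560) (BT.node (nat_lit 7178368) (BT.node (nat_lit 7174272) (BT.node (nat_lit 7172224) (BT.node (nat_lit 7171200) (BT.node (nat_lit 7170624) (BT.node (nat_lit 7170368) (BT.node (nat_lit 7170240) (BT.node (nat_lit 7170176) (BT.leaf (nat_lit 51949333)) (BT.leaf (nat_lit 47031573))) (BT.node (nat_lit 7170304) (BT.leaf (nat_lit 28863249)) (BT.leaf (nat_lit 32984849)))) (BT.node (nat_lit 7170496) (BT.node (nat_lit 7170432) (BT.leaf (nat_lit 30416397)) (BT.leaf (nat_lit 47046921))) (BT.node (nat_lit 7170560) (BT.leaf (nat_lit 39145493)) (BT.leaf (nat_lit 47047429))))) (BT.node (nat_lit 7170944) (BT.node (nat_lit 7170752) (BT.node (nat_lit 7170688) (BT.leaf (nat_lit 47047965)) (BT.leaf (nat_lit 29295901))) (BT.node (nat_lit 7170816) (BT.leaf (nat_lit 22777621)) (BT.leaf (nat_lit 47048465)))) (BT.node (nat_lit 7171072) (BT.node (nat_lit 7171008) (BT.leaf (nat_lit 27647509)) (BT.leaf (nat_lit 35038981))) (BT.node (nat_lit 7171136) (BT.leaf (nat_lit 27458073)) (BT.leaf (nat_lit 43759137)))))) (BT.node (nat_lit 7171712) (BT.node (nat_lit 7171456) (BT.node (nat_lit 7171328) (BT.node (nat_lit 7171264) (BT.leaf (nat_lit 27516433)) (BT.leaf (nat_lit 31679265))) (BT.node (nat_lit 7171392) (BT.leaf (nat_lit 47050001)) (BT.leaf (nat_lit 24120345)))) (BT.node (nat_lit 7171584) (BT.node (nat_lit 7171520) (BT.leaf (nat_lit 47254557)) (BT.leaf (nat_lit 32987909))) (BT.node (nat_lit 7171648) (BT.leaf (nat_lit 32287009)) (BT.leaf (nat_lit 31736333))))) (BT.node (nat_lit 7171968) (BT.node (nat_lit 7171840) (BT.node (nat_lit 7171776) (BT.leaf (nat_lit 24455697)) (BT.leaf (nat_lit 31918361))) (BT.node (nat_lit 7171904) (BT.leaf (nat_lit 30419989)) (BT.leaf (nat_lit 28865553)))) (BT.node (nat_lit 7172096) (BT.node (nat_lit 7172032) (BT.leaf (nat_lit 24482053)) (BT.leaf (nat_lit 39889413))) (BT.node (nat_lit 7172160) (BT.leaf (nat_lit 28550673)) (BT.leaf (nat_lit 23314965))))))) (BT.node (nat_lit 7173248) (BT.node (nat_lit 7172736) (BT.node (nat_lit 7172480) (BT.node (nat_lit 7172352) (BT.node (nat_lit 7172288) (BT.leaf (nat_lit 47042333)) (BT.leaf (nat_lit 47042057))) (BT.node (nat_lit 7172416) (BT.leaf (nat_lit 34524941)) (BT.leaf (nat_lit 47051025)))) (BT.node (nat_lit 7172608) (BT.node (nat_lit 7172544) (BT.leaf (nat_lit 29389333)) (BT.leaf (nat_lit 47051281))) (BT.node (nat_lit 7172672) (BT.leaf (nat_lit 47051793)) (BT.leaf (nat_lit 47052057))))) (BT.node (nat_lit 7172992) (BT.node (nat_lit 7172864) (BT.node (nat_lit 7172800) (BT.leaf (nat_lit 29389325)) (BT.leaf (nat_lit 32342285))) (BT.node (nat_lit 7172928) (BT.leaf (nat_lit 47052565)) (BT.leaf (nat_lit 28691481)))) (BT.node (nat_lit 7173120) (BT.node (nat_lit 7173056) (BT.leaf (nat_lit 51258897)) (BT.leaf (nat_lit 33745421))) (BT.node (nat_lit 7173184) (BT.leaf (nat_lit 51344657)) (BT.leaf (nat_lit 47053321)))))) (BT.node (nat_lit 7173760) (BT.node (nat_lit 7173504) (BT.node (nat_lit 7173376) (BT.node (nat_lit 7173312) (BT.leaf (nat_lit 47053845)) (BT.leaf (nat_lit 23952669))) (BT.node (nat_lit 7173440) (BT.leaf (nat_lit 49208081)) (BT.leaf (nat_lit 31169045)))) (BT.node (nat_lit 7173632) (BT.node (nat_lit 7173568) (BT.leaf (nat_lit 32488225)) (BT.leaf (nat_lit 32488481))) (BT.node (nat_lit 7173696) (BT.leaf (nat_lit 22779153)) (BT.leaf (nat_lit 39982857))))) (BT.node (nat_lit 7174016) (BT.node (nat_lit 7173888) (BT.node (nat_lit 7173824) (BT.leaf (nat_lit 30586401)) (BT.leaf (nat_lit 50466069))) (BT.node (nat_lit 7173952) (BT.leaf (nat_lit 50466321)) (BT.leaf (nat_lit 32376597)))) (BT.node (nat_lit 7174144) (BT.node (nat_lit 7174080) (BT.leaf (nat_lit 35061009)) (BT.leaf (nat_lit 30682129))) (BT.node (nat_lit 7174208) (BT.leaf (nat_lit 24156953)) (BT.leaf (nat_lit 24156957)))))))) (BT.node (nat_lit 7176320) (BT.node (nat_lit 7175296) (BT.node (nat_lit 7174784) (BT.node (nat_lit 7174528) (BT.node (nat_lit 7174400) (BT.node (nat_lit 7174336) (BT.leaf (nat_lit 23052309)) (BT.leaf (nat_lit 23520529))) (BT.node (nat_lit 7174464) (BT.leaf (nat_lit 23888921)) (BT.leaf (nat_lit 47055125)))) (BT.node (nat_lit 7174656) (BT.node (nat_lit 7174592) (BT.leaf (nat_lit 32550417)) (BT.leaf (nat_lit 39430165))) (BT.node (nat_lit 7174720) (BT.leaf (nat_lit 30255133)) (BT.leaf (nat_lit 51837213))))) (BT.node (nat_lit 7175040) (BT.node (nat_lit 7174912) (BT.node (nat_lit 7174848) (BT.leaf (nat_lit 35133985)) (BT.leaf (nat_lit 39992337))) (BT.node (nat_lit 7174976) (BT.leaf (nat_lit 47055893)) (BT.leaf (nat_lit 47056149)))) (BT.node (nat_lit 7175168) (BT.node (nat_lit 7175104) (BT.leaf (nat_lit 47670789)) (BT.leaf (nat_lit 28700169))) (BT.node (nat_lit 7175232) (BT.leaf (nat_lit 35325461)) (BT.leaf (nat_lit 23430173)))))) (BT.node (nat_lit 7175808) (BT.node (nat_lit 7175552) (BT.node (nat_lit 7175424) (BT.node (nat_lit 7175360) (BT.leaf (nat_lit 46329357)) (BT.leaf (nat_lit 47057685))) (BT.node (nat_lit 7175488) (BT.leaf (nat_lit 22782489)) (BT.leaf (nat_lit 28117005)))) (BT.node (nat_lit 7175680) (BT.node (nat_lit 7175616) (BT.leaf (nat_lit 35323929)) (BT.leaf (nat_lit 28080409))) (BT.node (nat_lit 7175744) (BT.leaf (nat_lit 22978065)) (BT.leaf (nat_lit 39558157))))) (BT.node (nat_lit 7176064) (BT.node (nat_lit 7175936) (BT.node (nat_lit 7175872) (BT.leaf (nat_lit 50199325)) (BT.leaf (nat_lit 23086865))) (BT.node (nat_lit 7176000) (BT.leaf (nat_lit 49264665)) (BT.leaf (nat_lit 22373909)))) (BT.node (nat_lit 7176192) (BT.node (nat_lit 7176128) (BT.leaf (nat_lit 46738465)) (BT.leaf (nat_lit 28596249))) (BT.node (nat_lit 7176256) (BT.leaf (nat_lit 28596253)) (BT.leaf (nat_lit 31259141))))))) (BT.node (nat_lit 7177344) (BT.node (nat_lit 7176832) (BT.node (nat_lit 7176576) (BT.node (nat_lit 7176448) (BT.node (nat_lit 7176384) (BT.leaf (nat_lit 22772753)) (BT.leaf (nat_lit 48702225))) (BT.node (nat_lit 7176512) (BT.leaf (nat_lit 31578401)) (BT.leaf (nat_lit 27807769)))) (BT.node (nat_lit 7176704) (BT.node (nat_lit 7176640) (BT.leaf (nat_lit 27807773)) (BT.leaf (nat_lit 22554897))) (BT.node (nat_lit 7176768) (BT.leaf (nat_lit 28200969)) (BT.leaf (nat_lit 49264141))))) (BT.node (nat_lit 7177088) (BT.node (nat_lit 7176960) (BT.node (nat_lit 7176896) (BT.leaf (nat_lit 39566349)) (BT.leaf (nat_lit 32908561))) (BT.node (nat_lit 7177024) (BT.leaf (nat_lit 34044689)) (BT.leaf (nat_lit 40005153)))) (BT.node (nat_lit 7177216) (BT.node (nat_lit 7177152) (BT.leaf (nat_lit 23059737)) (BT.leaf (nat_lit 23059741))) (BT.node (nat_lit 7177280) (BT.leaf (nat_lit 47033373)) (BT.leaf (nat_lit 47058965)))))) (BT.node (nat_lit 7177856) (BT.node (nat_lit 7177600) (BT.node (nat_lit 7177472) (BT.node (nat_lit 7177408) (BT.leaf (nat_lit 28561929)) (BT.leaf (nat_lit 46728737))) (BT.node (nat_lit 7177536) (BT.leaf (nat_lit 27547937)) (BT.leaf (nat_lit 33473285)))) (BT.node (nat_lit 7177728) (BT.node (nat_lit 7177664) (BT.leaf (nat_lit 27549701)) (BT.leaf (nat_lit 23410461))) (BT.node (nat_lit 7177792) (BT.leaf (nat_lit 47036449)) (BT.leaf (nat_lit 30651937))))) (BT.node (nat_lit 7178112) (BT.node (nat_lit 7177984) (BT.node (nat_lit 7177920) (BT.leaf (nat_lit 39934225)) (BT.leaf (nat_lit 29335057))) (BT.node (nat_lit 7178048) (BT.leaf (nat_lit 47061793)) (BT.leaf (nat_lit 47062033)))) (BT.node (nat_lit 7178240) (BT.node (nat_lit 7178176) (BT.leaf (nat_lit 28683785)) (BT.leaf (nat_lit 32330773))) (BT.node (nat_lit 7178304) (BT.leaf (nat_lit 47063065)) (BT.leaf (nat_lit 23301909))))))))) (BT.node (nat_lit 7182464) (BT.node (nat_lit 7180416) (BT.node (nat_lit 7179392) (BT.node (nat_lit 7178880) (BT.node (nat_lit 7178624) (BT.node (nat_lit 7178496) (BT.node (nat_lit 7178432) (BT.leaf (nat_lit 25893665)) (BT.leaf (nat_lit 29115937))) (BT.node (nat_lit 7178560) (BT.leaf (nat_lit 47063317)) (BT.leaf (nat_lit 46730785)))) (BT.node (nat_lit 7178752) (BT.node (nat_lit 7178688) (BT.leaf (nat_lit 46731013)) (BT.leaf (nat_lit 30807569))) (BT.node (nat_lit 7178816) (BT.leaf (nat_lit 46738721)) (BT.leaf (nat_lit 46738977))))) (BT.node (nat_lit 7179136) (BT.node (nat_lit 7179008) (BT.node (nat_lit 7178944) (BT.leaf (nat_lit 29986309)) (BT.leaf (nat_lit 27988753))) (BT.node (nat_lit 7179072) (BT.leaf (nat_lit 47063825)) (BT.leaf (nat_lit 24430609)))) (BT.node (nat_lit 7179264) (BT.node (nat_lit 7179200) (BT.leaf (nat_lit 46987781)) (BT.leaf (nat_lit 30718497))) (BT.node (nat_lit 7179328) (BT.leaf (nat_lit 47129865)) (BT.leaf (nat_lit 47065365)))))) (BT.node (nat_lit 7179904) (BT.node (nat_lit 7179648) (BT.node (nat_lit 7179520) (BT.node (nat_lit 7179456) (BT.leaf (nat_lit 28088589)) (BT.leaf (nat_lit 28200973))) (BT.node (nat_lit 7179584) (BT.leaf (nat_lit 47065621)) (BT.leaf (nat_lit 40912157)))) (BT.node (nat_lit 7179776) (BT.node (nat_lit 7179712) (BT.leaf (nat_lit 28715285)) (BT.leaf (nat_lit 30519073))) (BT.node (nat_lit 7179840) (BT.leaf (nat_lit 30519065)) (BT.leaf (nat_lit 47066117))))) (BT.node (nat_lit 7180160) (BT.node (nat_lit 7180032) (BT.node (nat_lit 7179968) (BT.leaf (nat_lit 36825377)) (BT.leaf (nat_lit 36825373))) (BT.node (nat_lit 7180096) (BT.leaf (nat_lit 47066889)) (BT.leaf (nat_lit 29319177)))) (BT.node (nat_lit 7180288) (BT.node (nat_lit 7180224) (BT.leaf (nat_lit 47064085)) (BT.leaf (nat_lit 33737225))) (BT.node (nat_lit 7180352) (BT.leaf (nat_lit 40029969)) (BT.leaf (nat_lit 40026885))))))) (BT.node (nat_lit 7181440) (BT.node (nat_lit 7180928) (BT.node (nat_lit 7180672) (BT.node (nat_lit 7180544) (BT.node (nat_lit 7180480) (BT.leaf (nat_lit 47067401)) (BT.leaf (nat_lit 41863445))) (BT.node (nat_lit 7180608) (BT.leaf (nat_lit 40037153)) (BT.leaf (nat_lit 23479829)))) (BT.node (nat_lit 7180800) (BT.node (nat_lit 7180736) (BT.leaf (nat_lit 47068421)) (BT.leaf (nat_lit 40038149))) (BT.node (nat_lit 7180864) (BT.leaf (nat_lit 50841873)) (BT.leaf (nat_lit 23479833))))) (BT.node (nat_lit 7181184) (BT.node (nat_lit 7181056) (BT.node (nat_lit 7180992) (BT.leaf (nat_lit 23479837)) (BT.leaf (nat_lit 23231509))) (BT.node (nat_lit 7181120) (BT.leaf (nat_lit 28732685)) (BT.leaf (nat_lit 46410513)))) (BT.node (nat_lit 7181312) (BT.node (nat_lit 7181248) (BT.leaf (nat_lit 35739653)) (BT.leaf (nat_lit 47070753))) (BT.node (nat_lit 7181376) (BT.leaf (nat_lit 25218845)) (BT.leaf (nat_lit 33455621)))))) (BT.node (nat_lit 7181952) (BT.node (nat_lit 7181696) (BT.node (nat_lit 7181568) (BT.node (nat_lit 7181504) (BT.leaf (nat_lit 23415577)) (BT.leaf (nat_lit 30154005))) (BT.node (nat_lit 7181632) (BT.leaf (nat_lit 33455109)) (BT.leaf (nat_lit 38571025)))) (BT.node (nat_lit 7181824) (BT.node (nat_lit 7181760) (BT.leaf (nat_lit 23745053)) (BT.leaf (nat_lit 28327177))) (BT.node (nat_lit 7181888) (BT.leaf (nat_lit 23415305)) (BT.leaf (nat_lit 27980305))))) (BT.node (nat_lit 7182208) (BT.node (nat_lit 7182080) (BT.node (nat_lit 7182016) (BT.leaf (nat_lit 26027033)) (BT.leaf (nat_lit 24510213))) (BT.node (nat_lit 7182144) (BT.leaf (nat_lit 47072273)) (BT.leaf (nat_lit 47072533)))) (BT.node (nat_lit 7182336) (BT.node (nat_lit 7182272) (BT.leaf (nat_lit 22794769)) (BT.leaf (nat_lit 22792977))) (BT.node (nat_lit 7182400) (BT.leaf (nat_lit 31231253)) (BT.leaf (nat_lit 22790673)))))))) (BT.node (nat_lit 7184512) (BT.node (nat_lit 7183488) (BT.node (nat_lit 7182976) (BT.node (nat_lit 7182720) (BT.node (nat_lit 7182592) (BT.node (nat_lit 7182528) (BT.leaf (nat_lit 28164641)) (BT.leaf (nat_lit 47226385))) (BT.node (nat_lit 7182656) (BT.leaf (nat_lit 50161169)) (BT.leaf (nat_lit 50445601)))) (BT.node (nat_lit 7182848) (BT.node (nat_lit 7182784) (BT.leaf (nat_lit 50445857)) (BT.leaf (nat_lit 34801669))) (BT.node (nat_lit 7182912) (BT.leaf (nat_lit 50446369)) (BT.leaf (nat_lit 50446113))))) (BT.node (nat_lit 7183232) (BT.node (nat_lit 7183104) (BT.node (nat_lit 7183040) (BT.leaf (nat_lit 34801681)) (BT.leaf (nat_lit 50880261))) (BT.node (nat_lit 7183168) (BT.leaf (nat_lit 28327429)) (BT.leaf (nat_lit 47076885)))) (BT.node (nat_lit 7183360) (BT.node (nat_lit 7183296) (BT.leaf (nat_lit 30357793)) (BT.leaf (nat_lit 29007901))) (BT.node (nat_lit 7183424) (BT.leaf (nat_lit 28938273)) (BT.leaf (nat_lit 32324101)))))) (BT.node (nat_lit 7184000) (BT.node (nat_lit 7183744) (BT.node (nat_lit 7183616) (BT.node (nat_lit 7183552) (BT.leaf (nat_lit 47077133)) (BT.leaf (nat_lit 23627545))) (BT.node (nat_lit 7183680) (BT.leaf (nat_lit 23627549)) (BT.leaf (nat_lit 31206405)))) (BT.node (nat_lit 7183872) (BT.node (nat_lit 7183808) (BT.leaf (nat_lit 23833361)) (BT.leaf (nat_lit 22650645))) (BT.node (nat_lit 7183936) (BT.leaf (nat_lit 22798865)) (BT.leaf (nat_lit 36016649))))) (BT.node (nat_lit 7184256) (BT.node (nat_lit 7184128) (BT.node (nat_lit 7184064) (BT.leaf (nat_lit 23827221)) (BT.leaf (nat_lit 23827225))) (BT.node (nat_lit 7184192) (BT.leaf (nat_lit 23827229)) (BT.leaf (nat_lit 36016673)))) (BT.node (nat_lit 7184384) (BT.node (nat_lit 7184320) (BT.leaf (nat_lit 22929673)) (BT.leaf (nat_lit 28171013))) (BT.node (nat_lit 7184448) (BT.leaf (nat_lit 27540489)) (BT.leaf (nat_lit 47079193))))))) (BT.node (nat_lit 7185536) (BT.node (nat_lit 7185024) (BT.node (nat_lit 7184768) (BT.node (nat_lit 7184640) (BT.node (nat_lit 7184576) (BT.leaf (nat_lit 27540505)) (BT.leaf (nat_lit 27540509))) (BT.node (nat_lit 7184704) (BT.leaf (nat_lit 27540513)) (BT.leaf (nat_lit 22525461)))) (BT.node (nat_lit 7184896) (BT.node (nat_lit 7184832) (BT.leaf (nat_lit 30620173)) (BT.leaf (nat_lit 30620185))) (BT.node (nat_lit 7184960) (BT.leaf (nat_lit 34550277)) (BT.leaf (nat_lit 36847121))))) (BT.node (nat_lit 7185280) (BT.node (nat_lit 7185152) (BT.node (nat_lit 7185088) (BT.leaf (nat_lit 32614669)) (BT.leaf (nat_lit 28873733))) (BT.node (nat_lit 7185216) (BT.leaf (nat_lit 23678217)) (BT.leaf (nat_lit 23678221)))) (BT.node (nat_lit 7185408) (BT.node (nat_lit 7185344) (BT.leaf (nat_lit 23416097)) (BT.leaf (nat_lit 47079693))) (BT.node (nat_lit 7185472) (BT.leaf (nat_lit 51012377)) (BT.leaf (nat_lit 47080213)))))) (BT.node (nat_lit 7186048) (BT.node (nat_lit 7185792) (BT.node (nat_lit 7185664) (BT.node (nat_lit 7185600) (BT.leaf (nat_lit 34703121)) (BT.leaf (nat_lit 28761629))) (BT.node (nat_lit 7185728) (BT.leaf (nat_lit 27590433)) (BT.leaf (nat_lit 23484421)))) (BT.node (nat_lit 7185920) (BT.node (nat_lit 7185856) (BT.leaf (nat_lit 28743437)) (BT.leaf (nat_lit 26664469))) (BT.node (nat_lit 7185984) (BT.leaf (nat_lit 23987225)) (BT.leaf (nat_lit 33507861))))) (BT.node (nat_lit 7186304) (BT.node (nat_lit 7186176) (BT.node (nat_lit 7186112) (BT.leaf (nat_lit 26664729)) (BT.leaf (nat_lit 27978273))) (BT.node (nat_lit 7186240) (BT.leaf (nat_lit 28761621)) (BT.leaf (nat_lit 27523077)))) (BT.node (nat_lit 7186432) (BT.node (nat_lit 7186368) (BT.leaf (nat_lit 28051721)) (BT.leaf (nat_lit 26447125))) (BT.node (nat_lit 7186496) (BT.leaf (nat_lit 28057361)) (BT.leaf (nat_lit 33363477)))))))))) (BT.node (nat_lit 7194688) (BT.node (nat_lit 7190592) (BT.node (nat_lit 7188544) (BT.node (nat_lit 7187520) (BT.node (nat_lit 7187072) (BT.node (nat_lit 7186816) (BT.node (nat_lit 7186688) (BT.node (nat_lit 7186624) (BT.leaf (nat_lit 28051737)) (BT.leaf (nat_lit 33989145))) (BT.node (nat_lit 7186752) (BT.leaf (nat_lit 32877061)) (BT.leaf (nat_lit 33747485)))) (BT.node (nat_lit 7186944) (BT.node (nat_lit 7186880) (BT.leaf (nat_lit 40047365)) (BT.leaf (nat_lit 47650325))) (BT.node (nat_lit 7187008) (BT.leaf (nat_lit 32422433)) (BT.leaf (nat_lit 29477909))))) (BT.node (nat_lit 7187328) (BT.node (nat_lit 7187200) (BT.node (nat_lit 7187136) (BT.leaf (nat_lit 22801169)) (BT.leaf (nat_lit 41415173))) (BT.node (nat_lit 7187264) (BT.leaf (nat_lit 22802449)) (BT.leaf (nat_lit 51840005)))) (BT.node (nat_lit 7187396) (BT.node (nat_lit 7187392) (BT.leaf (nat_lit 30852113)) (BT.leaf (nat_lit 24313113))) (BT.node (nat_lit 7187456) (BT.leaf (nat_lit 453696)) (BT.leaf (nat_lit 24313117)))))) (BT.node (nat_lit 7188032) (BT.node (nat_lit 7187776) (BT.node (nat_lit 7187648) (BT.node (nat_lit 7187584) (BT.leaf (nat_lit 34493457)) (BT.leaf (nat_lit 37716233))) (BT.node (nat_lit 7187712) (BT.leaf (nat_lit 31760145)) (BT.leaf (nat_lit 38385693)))) (BT.node (nat_lit 7187904) (BT.node (nat_lit 7187840) (BT.leaf (nat_lit 40061217)) (BT.leaf (nat_lit 40060425))) (BT.node (nat_lit 7187968) (BT.leaf (nat_lit 31751705)) (BT.leaf (nat_lit 47085857))))) (BT.node (nat_lit 7188288) (BT.node (nat_lit 7188160) (BT.node (nat_lit 7188096) (BT.leaf (nat_lit 35181853)) (BT.leaf (nat_lit 22803489))) (BT.node (nat_lit 7188224) (BT.leaf (nat_lit 35181589)) (BT.leaf (nat_lit 31838497)))) (BT.node (nat_lit 7188416) (BT.node (nat_lit 7188352) (BT.leaf (nat_lit 47086613)) (BT.leaf (nat_lit 30150945))) (BT.node (nat_lit 7188480) (BT.leaf (nat_lit 23675913)) (BT.leaf (nat_lit 28437533))))))) (BT.node (nat_lit 7189568) (BT.node (nat_lit 7189056) (BT.node (nat_lit 7188800) (BT.node (nat_lit 7188672) (BT.node (nat_lit 7188608) (BT.leaf (nat_lit 47087373)) (BT.leaf (nat_lit 35105313))) (BT.node (nat_lit 7188736) (BT.leaf (nat_lit 35105057)) (BT.leaf (nat_lit 47088413)))) (BT.node (nat_lit 7188928) (BT.node (nat_lit 7188864) (BT.leaf (nat_lit 47088669)) (BT.leaf (nat_lit 31332885))) (BT.node (nat_lit 7188992) (BT.leaf (nat_lit 36300061)) (BT.leaf (nat_lit 33078793))))) (BT.node (nat_lit 7189312) (BT.node (nat_lit 7189184) (BT.node (nat_lit 7189120) (BT.leaf (nat_lit 23070997)) (BT.leaf (nat_lit 31269125))) (BT.node (nat_lit 7189248) (BT.leaf (nat_lit 24126497)) (BT.leaf (nat_lit 26664473)))) (BT.node (nat_lit 7189440) (BT.node (nat_lit 7189376) (BT.leaf (nat_lit 28743453)) (BT.leaf (nat_lit 26664981))) (BT.node (nat_lit 7189504) (BT.leaf (nat_lit 23987745)) (BT.leaf (nat_lit 31420949)))))) (BT.node (nat_lit 7190080) (BT.node (nat_lit 7189824) (BT.node (nat_lit 7189696) (BT.node (nat_lit 7189632) (BT.leaf (nat_lit 32693281)) (BT.leaf (nat_lit 48689673))) (BT.node (nat_lit 7189760) (BT.leaf (nat_lit 24207621)) (BT.leaf (nat_lit 23071257)))) (BT.node (nat_lit 7189952) (BT.node (nat_lit 7189888) (BT.leaf (nat_lit 33126677)) (BT.leaf (nat_lit 25092881))) (BT.node (nat_lit 7190016) (BT.leaf (nat_lit 28759309)) (BT.leaf (nat_lit 28761625))))) (BT.node (nat_lit 7190336) (BT.node (nat_lit 7190208) (BT.node (nat_lit 7190144) (BT.leaf (nat_lit 28838677)) (BT.leaf (nat_lit 27526945))) (BT.node (nat_lit 7190272) (BT.leaf (nat_lit 27526689)) (BT.leaf (nat_lit 28759581)))) (BT.node (nat_lit 7190464) (BT.node (nat_lit 7190400) (BT.leaf (nat_lit 22700061)) (BT.leaf (nat_lit 25093137))) (BT.node (nat_lit 7190528) (BT.leaf (nat_lit 31947289)) (BT.leaf (nat_lit 33508621)))))))) (BT.node (nat_lit 7192640) (BT.node (nat_lit 7191616) (BT.node (nat_lit 7191104) (BT.node (nat_lit 7190848) (BT.node (nat_lit 7190720) (BT.node (nat_lit 7190656) (BT.leaf (nat_lit 41803541)) (BT.leaf (nat_lit 33915157))) (BT.node (nat_lit 7190784) (BT.leaf (nat_lit 28442637)) (BT.leaf (nat_lit 23822353)))) (BT.node (nat_lit 7190976) (BT.node (nat_lit 7190912) (BT.leaf (nat_lit 47091973)) (BT.leaf (nat_lit 51232029))) (BT.node (nat_lit 7191040) (BT.leaf (nat_lit 28745497)) (BT.leaf (nat_lit 48635413))))) (BT.node (nat_lit 7191360) (BT.node (nat_lit 7191232) (BT.node (nat_lit 7191168) (BT.leaf (nat_lit 28717321)) (BT.leaf (nat_lit 28837641))) (BT.node (nat_lit 7191296) (BT.leaf (nat_lit 47089185)) (BT.leaf (nat_lit 28837661)))) (BT.node (nat_lit 7191488) (BT.node (nat_lit 7191424) (BT.leaf (nat_lit 47092501)) (BT.leaf (nat_lit 28838417))) (BT.node (nat_lit 7191552) (BT.leaf (nat_lit 28838421)) (BT.leaf (nat_lit 26518037)))))) (BT.node (nat_lit 7192128) (BT.node (nat_lit 7191872) (BT.node (nat_lit 7191744) (BT.node (nat_lit 7191680) (BT.leaf (nat_lit 28051985)) (BT.leaf (nat_lit 28942361))) (BT.node (nat_lit 7191808) (BT.leaf (nat_lit 28942365)) (BT.leaf (nat_lit 23230493)))) (BT.node (nat_lit 7192000) (BT.node (nat_lit 7191936) (BT.leaf (nat_lit 40099593)) (BT.leaf (nat_lit 42278917))) (BT.node (nat_lit 7192064) (BT.leaf (nat_lit 31812621)) (BT.leaf (nat_lit 22806033))))) (BT.node (nat_lit 7192384) (BT.node (nat_lit 7192256) (BT.node (nat_lit 7192192) (BT.leaf (nat_lit 47094037)) (BT.leaf (nat_lit 47094277))) (BT.node (nat_lit 7192320) (BT.leaf (nat_lit 47094549)) (BT.leaf (nat_lit 24170269)))) (BT.node (nat_lit 7192512) (BT.node (nat_lit 7192448) (BT.leaf (nat_lit 22329361)) (BT.leaf (nat_lit 41800737))) (BT.node (nat_lit 7192576) (BT.leaf (nat_lit 24207641)) (BT.leaf (nat_lit 24207645))))))) (BT.node (nat_lit 7193664) (BT.node (nat_lit 7193152) (BT.node (nat_lit 7192896) (BT.node (nat_lit 7192768) (BT.node (nat_lit 7192704) (BT.leaf (nat_lit 33127193)) (BT.leaf (nat_lit 40046365))) (BT.node (nat_lit 7192832) (BT.leaf (nat_lit 22811657)) (BT.leaf (nat_lit 25148689)))) (BT.node (nat_lit 7193024) (BT.node (nat_lit 7192960) (BT.leaf (nat_lit 31900693)) (BT.leaf (nat_lit 25249037))) (BT.node (nat_lit 7193088) (BT.leaf (nat_lit 26998033)) (BT.leaf (nat_lit 24033045))))) (BT.node (nat_lit 7193408) (BT.node (nat_lit 7193280) (BT.node (nat_lit 7193216) (BT.leaf (nat_lit 28772361)) (BT.leaf (nat_lit 31490325))) (BT.node (nat_lit 7193344) (BT.leaf (nat_lit 28351761)) (BT.leaf (nat_lit 27597589)))) (BT.node (nat_lit 7193536) (BT.node (nat_lit 7193472) (BT.leaf (nat_lit 24454933)) (BT.leaf (nat_lit 22472465))) (BT.node (nat_lit 7193600) (BT.leaf (nat_lit 30180889)) (BT.leaf (nat_lit 30180893)))))) (BT.node (nat_lit 7194176) (BT.node (nat_lit 7193920) (BT.node (nat_lit 7193792) (BT.node (nat_lit 7193728) (BT.leaf (nat_lit 47097889)) (BT.leaf (nat_lit 23676689))) (BT.node (nat_lit 7193856) (BT.leaf (nat_lit 37516065)) (BT.leaf (nat_lit 30914077)))) (BT.node (nat_lit 7194048) (BT.node (nat_lit 7193984) (BT.leaf (nat_lit 24117525)) (BT.leaf (nat_lit 47099425))) (BT.node (nat_lit 7194112) (BT.leaf (nat_lit 28860957)) (BT.leaf (nat_lit 36855841))))) (BT.node (nat_lit 7194432) (BT.node (nat_lit 7194304) (BT.node (nat_lit 7194240) (BT.leaf (nat_lit 47099653)) (BT.leaf (nat_lit 24568341))) (BT.node (nat_lit 7194368) (BT.leaf (nat_lit 36479765)) (BT.leaf (nat_lit 31056649)))) (BT.node (nat_lit 7194560) (BT.node (nat_lit 7194496) (BT.leaf (nat_lit 46915861)) (BT.leaf (nat_lit 47100685))) (BT.node (nat_lit 7194624) (BT.leaf (nat_lit 47101461)) (BT.leaf (nat_lit 47101973))))))))) (BT.node (nat_lit 7198784) (BT.node (nat_lit 7196736) (BT.node (nat_lit 7195712) (BT.node (nat_lit 7195200) (BT.node (nat_lit 7194944) (BT.node (nat_lit 7194816) (BT.node (nat_lit 7194752) (BT.leaf (nat_lit 31629081)) (BT.leaf (nat_lit 46916121))) (BT.node (nat_lit 7194880) (BT.leaf (nat_lit 47097117)) (BT.leaf (nat_lit 23675665)))) (BT.node (nat_lit 7195072) (BT.node (nat_lit 7195008) (BT.leaf (nat_lit 26518549)) (BT.leaf (nat_lit 22813457))) (BT.node (nat_lit 7195136) (BT.leaf (nat_lit 47102213)) (BT.leaf (nat_lit 23675421))))) (BT.node (nat_lit 7195456) (BT.node (nat_lit 7195328) (BT.node (nat_lit 7195264) (BT.leaf (nat_lit 27533337)) (BT.leaf (nat_lit 22812185))) (BT.node (nat_lit 7195392) (BT.leaf (nat_lit 28387349)) (BT.leaf (nat_lit 22812189)))) (BT.node (nat_lit 7195584) (BT.node (nat_lit 7195520) (BT.leaf (nat_lit 28386837)) (BT.leaf (nat_lit 23297809))) (BT.node (nat_lit 7195648) (BT.leaf (nat_lit 22815261)) (BT.leaf (nat_lit 28784925)))))) (BT.node (nat_lit 7196224) (BT.node (nat_lit 7195968) (BT.node (nat_lit 7195840) (BT.node (nat_lit 7195776) (BT.leaf (nat_lit 22814997)) (BT.leaf (nat_lit 29664273))) (BT.node (nat_lit 7195904) (BT.leaf (nat_lit 35117573)) (BT.leaf (nat_lit 23302681)))) (BT.node (nat_lit 7196096) (BT.node (nat_lit 7196032) (BT.leaf (nat_lit 35122181)) (BT.leaf (nat_lit 33082389))) (BT.node (nat_lit 7196160) (BT.leaf (nat_lit 24579105)) (BT.leaf (nat_lit 28782877))))) (BT.node (nat_lit 7196480) (BT.node (nat_lit 7196352) (BT.node (nat_lit 7196288) (BT.leaf (nat_lit 35240453)) (BT.leaf (nat_lit 35844629))) (BT.node (nat_lit 7196416) (BT.leaf (nat_lit 30673173)) (BT.leaf (nat_lit 23638537)))) (BT.node (nat_lit 7196608) (BT.node (nat_lit 7196544) (BT.leaf (nat_lit 34976785)) (BT.leaf (nat_lit 28407317))) (BT.node (nat_lit 7196672) (BT.leaf (nat_lit 28059917)) (BT.leaf (nat_lit 33423893))))))) (BT.node (nat_lit 7197760) (BT.node (nat_lit 7197248) (BT.node (nat_lit 7196992) (BT.node (nat_lit 7196864) (BT.node (nat_lit 7196800) (BT.leaf (nat_lit 33113881)) (BT.leaf (nat_lit 22816273))) (BT.node (nat_lit 7196928) (BT.leaf (nat_lit 22816277)) (BT.leaf (nat_lit 36130065)))) (BT.node (nat_lit 7197120) (BT.node (nat_lit 7197056) (BT.leaf (nat_lit 30970909)) (BT.leaf (nat_lit 38134817))) (BT.node (nat_lit 7197184) (BT.leaf (nat_lit 52372241)) (BT.leaf (nat_lit 22816521))))) (BT.node (nat_lit 7197504) (BT.node (nat_lit 7197376) (BT.node (nat_lit 7197312) (BT.leaf (nat_lit 29082125)) (BT.leaf (nat_lit 27701521))) (BT.node (nat_lit 7197440) (BT.leaf (nat_lit 26647045)) (BT.leaf (nat_lit 22817305)))) (BT.node (nat_lit 7197632) (BT.node (nat_lit 7197568) (BT.leaf (nat_lit 22817561)) (BT.leaf (nat_lit 26647057))) (BT.node (nat_lit 7197696) (BT.leaf (nat_lit 26647061)) (BT.leaf (nat_lit 28059913)))))) (BT.node (nat_lit 7198272) (BT.node (nat_lit 7198016) (BT.node (nat_lit 7197888) (BT.node (nat_lit 7197824) (BT.leaf (nat_lit 28059929)) (BT.leaf (nat_lit 28059933))) (BT.node (nat_lit 7197952) (BT.leaf (nat_lit 27424789)) (BT.leaf (nat_lit 27795729)))) (BT.node (nat_lit 7198144) (BT.node (nat_lit 7198080) (BT.leaf (nat_lit 27795733)) (BT.leaf (nat_lit 28786701))) (BT.node (nat_lit 7198208) (BT.leaf (nat_lit 28585753)) (BT.leaf (nat_lit 28285197))))) (BT.node (nat_lit 7198528) (BT.node (nat_lit 7198400) (BT.node (nat_lit 7198336) (BT.leaf (nat_lit 23187225)) (BT.leaf (nat_lit 23187229))) (BT.node (nat_lit 7198464) (BT.leaf (nat_lit 38135073)) (BT.leaf (nat_lit 28062989)))) (BT.node (nat_lit 7198656) (BT.node (nat_lit 7198592) (BT.leaf (nat_lit 28063001)) (BT.leaf (nat_lit 28063009))) (BT.node (nat_lit 7198720) (BT.leaf (nat_lit 28061705)) (BT.leaf (nat_lit 28061725)))))))) (BT.node (nat_lit 7200832) (BT.node (nat_lit 7199808) (BT.node (nat_lit 7199296) (BT.node (nat_lit 7199040) (BT.node (nat_lit 7198912) (BT.node (nat_lit 7198848) (BT.leaf (nat_lit 22818321)) (BT.leaf (nat_lit 22818593))) (BT.node (nat_lit 7198976) (BT.leaf (nat_lit 28587789)) (BT.leaf (nat_lit 33114133)))) (BT.node (nat_lit 7199168) (BT.node (nat_lit 7199104) (BT.leaf (nat_lit 28407053)) (BT.leaf (nat_lit 28587809))) (BT.node (nat_lit 7199232) (BT.leaf (nat_lit 28919569)) (BT.leaf (nat_lit 41146893))))) (BT.node (nat_lit 7199552) (BT.node (nat_lit 7199424) (BT.node (nat_lit 7199360) (BT.leaf (nat_lit 47105301)) (BT.leaf (nat_lit 30254361))) (BT.node (nat_lit 7199488) (BT.leaf (nat_lit 24578841)) (BT.leaf (nat_lit 23662101)))) (BT.node (nat_lit 7199680) (BT.node (nat_lit 7199616) (BT.leaf (nat_lit 29443845)) (BT.leaf (nat_lit 47528197))) (BT.node (nat_lit 7199744) (BT.leaf (nat_lit 24274965)) (BT.leaf (nat_lit 24276241)))))) (BT.node (nat_lit 7200320) (BT.node (nat_lit 7200064) (BT.node (nat_lit 7199936) (BT.node (nat_lit 7199872) (BT.leaf (nat_lit 50664473)) (BT.leaf (nat_lit 37225221))) (BT.node (nat_lit 7200000) (BT.leaf (nat_lit 22820613)) (BT.leaf (nat_lit 22690065)))) (BT.node (nat_lit 7200192) (BT.node (nat_lit 7200128) (BT.leaf (nat_lit 23235349)) (BT.leaf (nat_lit 22532625))) (BT.node (nat_lit 7200256) (BT.leaf (nat_lit 46651425)) (BT.leaf (nat_lit 28598813))))) (BT.node (nat_lit 7200576) (BT.node (nat_lit 7200448) (BT.node (nat_lit 7200384) (BT.leaf (nat_lit 37068573)) (BT.leaf (nat_lit 23778845))) (BT.node (nat_lit 7200512) (BT.leaf (nat_lit 22823953)) (BT.leaf (nat_lit 22690577)))) (BT.node (nat_lit 7200704) (BT.node (nat_lit 7200640) (BT.leaf (nat_lit 22823697)) (BT.leaf (nat_lit 30091541))) (BT.node (nat_lit 7200768) (BT.leaf (nat_lit 30091545)) (BT.leaf (nat_lit 30091549))))))) (BT.node (nat_lit 7201856) (BT.node (nat_lit 7201344) (BT.node (nat_lit 7201088) (BT.node (nat_lit 7200960) (BT.node (nat_lit 7200896) (BT.leaf (nat_lit 22823441)) (BT.leaf (nat_lit 22824977))) (BT.node (nat_lit 7201024) (BT.leaf (nat_lit 22824465)) (BT.leaf (nat_lit 22819601)))) (BT.node (nat_lit 7201216) (BT.node (nat_lit 7201152) (BT.leaf (nat_lit 26499613)) (BT.leaf (nat_lit 22824209))) (BT.node (nat_lit 7201280) (BT.leaf (nat_lit 23807765)) (BT.leaf (nat_lit 22752537))))) (BT.node (nat_lit 7201600) (BT.node (nat_lit 7201472) (BT.node (nat_lit 7201408) (BT.leaf (nat_lit 23661845)) (BT.leaf (nat_lit 25378069))) (BT.node (nat_lit 7201536) (BT.leaf (nat_lit 29269521)) (BT.leaf (nat_lit 22914837)))) (BT.node (nat_lit 7201728) (BT.node (nat_lit 7201664) (BT.leaf (nat_lit 34427409)) (BT.leaf (nat_lit 32767509))) (BT.node (nat_lit 7201792) (BT.leaf (nat_lit 32767517)) (BT.leaf (nat_lit 25736453)))))) (BT.node (nat_lit 7202368) (BT.node (nat_lit 7202112) (BT.node (nat_lit 7201984) (BT.node (nat_lit 7201920) (BT.leaf (nat_lit 31070241)) (BT.leaf (nat_lit 36031517))) (BT.node (nat_lit 7202048) (BT.leaf (nat_lit 24156677)) (BT.leaf (nat_lit 22826769)))) (BT.node (nat_lit 7202240) (BT.node (nat_lit 7202176) (BT.leaf (nat_lit 22820113)) (BT.leaf (nat_lit 25160977))) (BT.node (nat_lit 7202304) (BT.leaf (nat_lit 24156697)) (BT.leaf (nat_lit 24156701))))) (BT.node (nat_lit 7202624) (BT.node (nat_lit 7202496) (BT.node (nat_lit 7202432) (BT.leaf (nat_lit 33487633)) (BT.leaf (nat_lit 29077537))) (BT.node (nat_lit 7202560) (BT.leaf (nat_lit 22827281)) (BT.leaf (nat_lit 36330249)))) (BT.node (nat_lit 7202752) (BT.node (nat_lit 7202688) (BT.leaf (nat_lit 32540949)) (BT.leaf (nat_lit 27933465))) (BT.node (nat_lit 7202816) (BT.leaf (nat_lit 29112841)) (BT.leaf (nat_lit 35061765)))))))))))))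
noncomputable def big0_e45056 : BT Nat := (BT.node (nat_lit 7268480) (BT.node (nat_lit 7235648) (BT.node (nat_lit 7219264) (BT.node (nat_lit 7211072) (BT.node (nat_lit 7206976) (BT.node (nat_lit 7204928) (BT.node (nat_lit 7203904) (BT.node (nat_lit 7203392) (BT.node (nat_lit 7203136) (BT.node (nat_lit 7203008) (BT.node (nat_lit 7202944) (BT.leaf (nat_lit 28832537)) (BT.leaf (nat_lit 49350945))) (BT.node (nat_lit 7203072) (BT.leaf (nat_lit 28298257)) (BT.leaf (nat_lit 27389957)))) (BT.node (nat_lit 7203264) (BT.node (nat_lit 7203200) (BT.leaf (nat_lit 27641617)) (BT.leaf (nat_lit 31315985))) (BT.node (nat_lit 7203328) (BT.leaf (nat_lit 22828817)) (BT.leaf (nat_lit 27370009))))) (BT.node (nat_lit 7203648) (BT.node (nat_lit 7203520) (BT.node (nat_lit 7203456) (BT.leaf (nat_lit 29997089)) (BT.leaf (nat_lit 27650065))) (BT.node (nat_lit 7203584) (BT.leaf (nat_lit 22828833)) (BT.leaf (nat_lit 27648033)))) (BT.node (nat_lit 7203776) (BT.node (nat_lit 7203712) (BT.leaf (nat_lit 29575941)) (BT.leaf (nat_lit 51639321))) (BT.node (nat_lit 7203840) (BT.leaf (nat_lit 23065353)) (BT.leaf (nat_lit 40046353)))))) (BT.node (nat_lit 7204416) (BT.node (nat_lit 7204160) (BT.node (nat_lit 7204032) (BT.node (nat_lit 7203968) (BT.leaf (nat_lit 23065369)) (BT.leaf (nat_lit 23065373))) (BT.node (nat_lit 7204096) (BT.leaf (nat_lit 26024729)) (BT.leaf (nat_lit 33221905)))) (BT.node (nat_lit 7204288) (BT.node (nat_lit 7204224) (BT.leaf (nat_lit 24857369)) (BT.leaf (nat_lit 24808717))) (BT.node (nat_lit 7204352) (BT.leaf (nat_lit 23299349)) (BT.leaf (nat_lit 24183565))))) (BT.node (nat_lit 7204672) (BT.node (nat_lit 7204544) (BT.node (nat_lit 7204480) (BT.leaf (nat_lit 27384069)) (BT.leaf (nat_lit 34041873))) (BT.node (nat_lit 7204608) (BT.leaf (nat_lit 27384581)) (BT.leaf (nat_lit 32151825)))) (BT.node (nat_lit 7204800) (BT.node (nat_lit 7204736) (BT.leaf (nat_lit 32151841)) (BT.leaf (nat_lit 37787665))) (BT.node (nat_lit 7204864) (BT.leaf (nat_lit 23085845)) (BT.leaf (nat_lit 25375765))))))) (BT.node (nat_lit 7205952) (BT.node (nat_lit 7205440) (BT.node (nat_lit 7205184) (BT.node (nat_lit 7205056) (BT.node (nat_lit 7204992) (BT.leaf (nat_lit 48752921)) (BT.leaf (nat_lit 34760469))) (BT.node (nat_lit 7205120) (BT.leaf (nat_lit 23905045)) (BT.leaf (nat_lit 51715097)))) (BT.node (nat_lit 7205312) (BT.node (nat_lit 7205248) (BT.leaf (nat_lit 32329229)) (BT.leaf (nat_lit 24249349))) (BT.node (nat_lit 7205376) (BT.leaf (nat_lit 28883233)) (BT.leaf (nat_lit 25744657))))) (BT.node (nat_lit 7205696) (BT.node (nat_lit 7205568) (BT.node (nat_lit 7205504) (BT.leaf (nat_lit 34371089)) (BT.leaf (nat_lit 47119893))) (BT.node (nat_lit 7205632) (BT.leaf (nat_lit 34736913)) (BT.leaf (nat_lit 34182417)))) (BT.node (nat_lit 7205824) (BT.node (nat_lit 7205760) (BT.leaf (nat_lit 39618337)) (BT.leaf (nat_lit 51987469))) (BT.node (nat_lit 7205888) (BT.leaf (nat_lit 28844805)) (BT.leaf (nat_lit 33868305)))))) (BT.node (nat_lit 7206464) (BT.node (nat_lit 7206208) (BT.node (nat_lit 7206080) (BT.node (nat_lit 7206016) (BT.leaf (nat_lit 35374353)) (BT.leaf (nat_lit 35330577))) (BT.node (nat_lit 7206144) (BT.leaf (nat_lit 50115341)) (BT.leaf (nat_lit 27291169)))) (BT.node (nat_lit 7206336) (BT.node (nat_lit 7206272) (BT.leaf (nat_lit 32223009)) (BT.leaf (nat_lit 40175877))) (BT.node (nat_lit 7206400) (BT.leaf (nat_lit 38600981)) (BT.leaf (nat_lit 38597657))))) (BT.node (nat_lit 7206720) (BT.node (nat_lit 7206592) (BT.node (nat_lit 7206528) (BT.leaf (nat_lit 29843977)) (BT.leaf (nat_lit 36307729))) (BT.node (nat_lit 7206656) (BT.leaf (nat_lit 35059473)) (BT.leaf (nat_lit 39043361)))) (BT.node (nat_lit 7206848) (BT.node (nat_lit 7206784) (BT.leaf (nat_lit 41502485)) (BT.leaf (nat_lit 26037281))) (BT.node (nat_lit 7206912) (BT.leaf (nat_lit 28100357)) (BT.leaf (nat_lit 47896073)))))))) (BT.node (nat_lit 7209024) (BT.node (nat_lit 7208000) (BT.node (nat_lit 7207488) (BT.node (nat_lit 7207232) (BT.node (nat_lit 7207104) (BT.node (nat_lit 7207040) (BT.leaf (nat_lit 33022229)) (BT.leaf (nat_lit 46705185))) (BT.node (nat_lit 7207168) (BT.leaf (nat_lit 30130449)) (BT.leaf (nat_lit 27441173)))) (BT.node (nat_lit 7207360) (BT.node (nat_lit 7207296) (BT.leaf (nat_lit 29390869)) (BT.leaf (nat_lit 35059217))) (BT.node (nat_lit 7207424) (BT.leaf (nat_lit 28829209)) (BT.leaf (nat_lit 31814917))))) (BT.node (nat_lit 7207744) (BT.node (nat_lit 7207616) (BT.node (nat_lit 7207552) (BT.leaf (nat_lit 40873733)) (BT.leaf (nat_lit 24784417))) (BT.node (nat_lit 7207680) (BT.leaf (nat_lit 28830985)) (BT.leaf (nat_lit 34879249)))) (BT.node (nat_lit 7207872) (BT.node (nat_lit 7207808) (BT.leaf (nat_lit 46529301)) (BT.leaf (nat_lit 24307985))) (BT.node (nat_lit 7207936) (BT.leaf (nat_lit 33269785)) (BT.leaf (nat_lit 37024533)))))) (BT.node (nat_lit 7208512) (BT.node (nat_lit 7208256) (BT.node (nat_lit 7208128) (BT.node (nat_lit 7208064) (BT.leaf (nat_lit 28831769)) (BT.leaf (nat_lit 28832541))) (BT.node (nat_lit 7208192) (BT.leaf (nat_lit 35329797)) (BT.leaf (nat_lit 28811541)))) (BT.node (nat_lit 7208384) (BT.node (nat_lit 7208320) (BT.leaf (nat_lit 24373005)) (BT.leaf (nat_lit 37024537))) (BT.node (nat_lit 7208448) (BT.leaf (nat_lit 23168777)) (BT.leaf (nat_lit 26006037))))) (BT.node (nat_lit 7208768) (BT.node (nat_lit 7208640) (BT.node (nat_lit 7208576) (BT.leaf (nat_lit 29726753)) (BT.leaf (nat_lit 26006297))) (BT.node (nat_lit 7208704) (BT.leaf (nat_lit 23168797)) (BT.leaf (nat_lit 30015257)))) (BT.node (nat_lit 7208896) (BT.node (nat_lit 7208832) (BT.leaf (nat_lit 30015261)) (BT.leaf (nat_lit 29908513))) (BT.node (nat_lit 7208960) (BT.leaf (nat_lit 30389537)) (BT.leaf (nat_lit 30390049))))))) (BT.node (nat_lit 7210048) (BT.node (nat_lit 7209536) (BT.node (nat_lit 7209280) (BT.node (nat_lit 7209152) (BT.node (nat_lit 7209088) (BT.leaf (nat_lit 28620293)) (BT.leaf (nat_lit 29568533))) (BT.node (nat_lit 7209216) (BT.leaf (nat_lit 29568541)) (BT.leaf (nat_lit 24684049)))) (BT.node (nat_lit 7209408) (BT.node (nat_lit 7209344) (BT.leaf (nat_lit 33747221)) (BT.leaf (nat_lit 28720653))) (BT.node (nat_lit 7209472) (BT.leaf (nat_lit 28758021)) (BT.leaf (nat_lit 28837657))))) (BT.node (nat_lit 7209792) (BT.node (nat_lit 7209664) (BT.node (nat_lit 7209600) (BT.leaf (nat_lit 47129625)) (BT.leaf (nat_lit 47129869))) (BT.node (nat_lit 7209728) (BT.leaf (nat_lit 31066401)) (BT.leaf (nat_lit 28952605)))) (BT.node (nat_lit 7209920) (BT.node (nat_lit 7209856) (BT.leaf (nat_lit 46461201)) (BT.leaf (nat_lit 38219525))) (BT.node (nat_lit 7209984) (BT.leaf (nat_lit 28950021)) (BT.leaf (nat_lit 31331873)))))) (BT.node (nat_lit 7210560) (BT.node (nat_lit 7210304) (BT.node (nat_lit 7210176) (BT.node (nat_lit 7210112) (BT.leaf (nat_lit 40193037)) (BT.leaf (nat_lit 31331853))) (BT.node (nat_lit 7210240) (BT.leaf (nat_lit 37150993)) (BT.leaf (nat_lit 28947489)))) (BT.node (nat_lit 7210432) (BT.node (nat_lit 7210368) (BT.leaf (nat_lit 32148489)) (BT.leaf (nat_lit 38466593))) (BT.node (nat_lit 7210496) (BT.leaf (nat_lit 34086673)) (BT.leaf (nat_lit 27875857))))) (BT.node (nat_lit 7210816) (BT.node (nat_lit 7210688) (BT.node (nat_lit 7210624) (BT.leaf (nat_lit 23950113)) (BT.leaf (nat_lit 31197457))) (BT.node (nat_lit 7210752) (BT.leaf (nat_lit 48605721)) (BT.leaf (nat_lit 24627221)))) (BT.node (nat_lit 7210944) (BT.node (nat_lit 7210880) (BT.leaf (nat_lit 47132425)) (BT.leaf (nat_lit 22834205))) (BT.node (nat_lit 7211008) (BT.leaf (nat_lit 29201925)) (BT.leaf (nat_lit 31794181))))))))) (BT.node (nat_lit 7215168) (BT.node (nat_lit 7213120) (BT.node (nat_lit 7212096) (BT.node (nat_lit 7211584) (BT.node (nat_lit 7211328) (BT.node (nat_lit 7211200) (BT.node (nat_lit 7211136) (BT.leaf (nat_lit 47132949)) (BT.leaf (nat_lit 27750433))) (BT.node (nat_lit 7211264) (BT.leaf (nat_lit 31803681)) (BT.leaf (nat_lit 24847385)))) (BT.node (nat_lit 7211456) (BT.node (nat_lit 7211392) (BT.leaf (nat_lit 29222685)) (BT.leaf (nat_lit 28570885))) (BT.node (nat_lit 7211520) (BT.leaf (nat_lit 28575497)) (BT.leaf (nat_lit 28847369))))) (BT.node (nat_lit 7211840) (BT.node (nat_lit 7211712) (BT.node (nat_lit 7211648) (BT.leaf (nat_lit 38307849)) (BT.leaf (nat_lit 34027553))) (BT.node (nat_lit 7211776) (BT.leaf (nat_lit 23029509)) (BT.leaf (nat_lit 28849429)))) (BT.node (nat_lit 7211968) (BT.node (nat_lit 7211904) (BT.leaf (nat_lit 23028757)) (BT.leaf (nat_lit 47134229))) (BT.node (nat_lit 7212032) (BT.leaf (nat_lit 28967713)) (BT.leaf (nat_lit 31111445)))))) (BT.node (nat_lit 7212608) (BT.node (nat_lit 7212352) (BT.node (nat_lit 7212224) (BT.node (nat_lit 7212160) (BT.leaf (nat_lit 31111449)) (BT.leaf (nat_lit 47134997))) (BT.node (nat_lit 7212288) (BT.leaf (nat_lit 31099401)) (BT.leaf (nat_lit 28575501)))) (BT.node (nat_lit 7212480) (BT.node (nat_lit 7212416) (BT.leaf (nat_lit 28575513)) (BT.leaf (nat_lit 28575517))) (BT.node (nat_lit 7212544) (BT.leaf (nat_lit 28053265)) (BT.leaf (nat_lit 22835729))))) (BT.node (nat_lit 7212864) (BT.node (nat_lit 7212736) (BT.node (nat_lit 7212672) (BT.leaf (nat_lit 28560149)) (BT.leaf (nat_lit 28560153))) (BT.node (nat_lit 7212800) (BT.leaf (nat_lit 28560157)) (BT.leaf (nat_lit 51450637)))) (BT.node (nat_lit 7212992) (BT.node (nat_lit 7212928) (BT.leaf (nat_lit 28573969)) (BT.leaf (nat_lit 51450649))) (BT.node (nat_lit 7213056) (BT.leaf (nat_lit 51785733)) (BT.leaf (nat_lit 25369605))))))) (BT.node (nat_lit 7214144) (BT.node (nat_lit 7213632) (BT.node (nat_lit 7213376) (BT.node (nat_lit 7213248) (BT.node (nat_lit 7213184) (BT.leaf (nat_lit 24632325)) (BT.leaf (nat_lit 29971973))) (BT.node (nat_lit 7213312) (BT.leaf (nat_lit 22837521)) (BT.leaf (nat_lit 38519045)))) (BT.node (nat_lit 7213504) (BT.node (nat_lit 7213440) (BT.leaf (nat_lit 34550281)) (BT.leaf (nat_lit 23475985))) (BT.node (nat_lit 7213568) (BT.leaf (nat_lit 34550293)) (BT.leaf (nat_lit 34550297))))) (BT.node (nat_lit 7213888) (BT.node (nat_lit 7213760) (BT.node (nat_lit 7213696) (BT.leaf (nat_lit 24634377)) (BT.leaf (nat_lit 32926485))) (BT.node (nat_lit 7213824) (BT.leaf (nat_lit 47136289)) (BT.leaf (nat_lit 34906897)))) (BT.node (nat_lit 7214016) (BT.node (nat_lit 7213952) (BT.leaf (nat_lit 31832581)) (BT.leaf (nat_lit 29130009))) (BT.node (nat_lit 7214080) (BT.leaf (nat_lit 31831557)) (BT.leaf (nat_lit 24221473)))))) (BT.node (nat_lit 7214656) (BT.node (nat_lit 7214400) (BT.node (nat_lit 7214272) (BT.node (nat_lit 7214208) (BT.leaf (nat_lit 24646169)) (BT.leaf (nat_lit 24810253))) (BT.node (nat_lit 7214336) (BT.leaf (nat_lit 50161165)) (BT.leaf (nat_lit 28307473)))) (BT.node (nat_lit 7214528) (BT.node (nat_lit 7214464) (BT.leaf (nat_lit 23734545)) (BT.leaf (nat_lit 22839569))) (BT.node (nat_lit 7214592) (BT.leaf (nat_lit 23591701)) (BT.leaf (nat_lit 24295953))))) (BT.node (nat_lit 7214912) (BT.node (nat_lit 7214784) (BT.node (nat_lit 7214720) (BT.leaf (nat_lit 23190545)) (BT.leaf (nat_lit 28504341))) (BT.node (nat_lit 7214848) (BT.leaf (nat_lit 28504345)) (BT.leaf (nat_lit 28504349)))) (BT.node (nat_lit 7215040) (BT.node (nat_lit 7214976) (BT.leaf (nat_lit 31943685)) (BT.leaf (nat_lit 38901277))) (BT.node (nat_lit 7215104) (BT.leaf (nat_lit 29313809)) (BT.leaf (nat_lit 47138321)))))))) (BT.node (nat_lit 7217216) (BT.node (nat_lit 7216192) (BT.node (nat_lit 7215680) (BT.node (nat_lit 7215424) (BT.node (nat_lit 7215296) (BT.node (nat_lit 7215232) (BT.leaf (nat_lit 26022429)) (BT.leaf (nat_lit 24851985))) (BT.node (nat_lit 7215360) (BT.leaf (nat_lit 24851729)) (BT.leaf (nat_lit 36445461)))) (BT.node (nat_lit 7215552) (BT.node (nat_lit 7215488) (BT.leaf (nat_lit 36445721)) (BT.leaf (nat_lit 24586501))) (BT.node (nat_lit 7215616) (BT.leaf (nat_lit 28145941)) (BT.leaf (nat_lit 28862729))))) (BT.node (nat_lit 7215936) (BT.node (nat_lit 7215808) (BT.node (nat_lit 7215744) (BT.leaf (nat_lit 25314325)) (BT.leaf (nat_lit 30676257))) (BT.node (nat_lit 7215872) (BT.leaf (nat_lit 47138317)) (BT.leaf (nat_lit 26022685)))) (BT.node (nat_lit 7216064) (BT.node (nat_lit 7216000) (BT.leaf (nat_lit 47139353)) (BT.leaf (nat_lit 26022425))) (BT.node (nat_lit 7216128) (BT.leaf (nat_lit 47716105)) (BT.leaf (nat_lit 29685021)))))) (BT.node (nat_lit 7216704) (BT.node (nat_lit 7216448) (BT.node (nat_lit 7216320) (BT.node (nat_lit 7216256) (BT.leaf (nat_lit 40230417)) (BT.leaf (nat_lit 23789841))) (BT.node (nat_lit 7216384) (BT.leaf (nat_lit 38901537)) (BT.leaf (nat_lit 47140373)))) (BT.node (nat_lit 7216576) (BT.node (nat_lit 7216512) (BT.leaf (nat_lit 24850457)) (BT.leaf (nat_lit 25314077))) (BT.node (nat_lit 7216640) (BT.leaf (nat_lit 30288413)) (BT.leaf (nat_lit 31649285))))) (BT.node (nat_lit 7216960) (BT.node (nat_lit 7216832) (BT.node (nat_lit 7216768) (BT.leaf (nat_lit 30425349)) (BT.leaf (nat_lit 40111125))) (BT.node (nat_lit 7216896) (BT.leaf (nat_lit 27832349)) (BT.leaf (nat_lit 24785173)))) (BT.node (nat_lit 7217088) (BT.node (nat_lit 7217024) (BT.leaf (nat_lit 28868125)) (BT.leaf (nat_lit 32945425))) (BT.node (nat_lit 7217152) (BT.leaf (nat_lit 31187233)) (BT.leaf (nat_lit 31308057))))))) (BT.node (nat_lit 7218240) (BT.node (nat_lit 7217728) (BT.node (nat_lit 7217472) (BT.node (nat_lit 7217344) (BT.node (nat_lit 7217280) (BT.leaf (nat_lit 25166101)) (BT.leaf (nat_lit 29068301))) (BT.node (nat_lit 7217408) (BT.leaf (nat_lit 31346705)) (BT.leaf (nat_lit 29899553)))) (BT.node (nat_lit 7217600) (BT.node (nat_lit 7217536) (BT.leaf (nat_lit 25165853)) (BT.leaf (nat_lit 23808025))) (BT.node (nat_lit 7217664) (BT.leaf (nat_lit 23808029)) (BT.leaf (nat_lit 22633237))))) (BT.node (nat_lit 7217984) (BT.node (nat_lit 7217856) (BT.node (nat_lit 7217792) (BT.leaf (nat_lit 30674717)) (BT.leaf (nat_lit 29072929))) (BT.node (nat_lit 7217920) (BT.leaf (nat_lit 25362965)) (BT.leaf (nat_lit 50363913)))) (BT.node (nat_lit 7218112) (BT.node (nat_lit 7218048) (BT.leaf (nat_lit 28309777)) (BT.leaf (nat_lit 29552917))) (BT.node (nat_lit 7218176) (BT.leaf (nat_lit 33260821)) (BT.leaf (nat_lit 34035733)))))) (BT.node (nat_lit 7218752) (BT.node (nat_lit 7218496) (BT.node (nat_lit 7218368) (BT.node (nat_lit 7218304) (BT.leaf (nat_lit 33362721)) (BT.leaf (nat_lit 33548309))) (BT.node (nat_lit 7218432) (BT.leaf (nat_lit 28873241)) (BT.leaf (nat_lit 50693409)))) (BT.node (nat_lit 7218624) (BT.node (nat_lit 7218560) (BT.leaf (nat_lit 29997845)) (BT.leaf (nat_lit 24559137))) (BT.node (nat_lit 7218688) (BT.leaf (nat_lit 23517473)) (BT.leaf (nat_lit 36453397))))) (BT.node (nat_lit 7219008) (BT.node (nat_lit 7218880) (BT.node (nat_lit 7218816) (BT.leaf (nat_lit 47143193)) (BT.leaf (nat_lit 28873225))) (BT.node (nat_lit 7218944) (BT.leaf (nat_lit 23382305)) (BT.leaf (nat_lit 25792017)))) (BT.node (nat_lit 7219136) (BT.node (nat_lit 7219072) (BT.leaf (nat_lit 25902597)) (BT.leaf (nat_lit 28077577))) (BT.node (nat_lit 7219200) (BT.leaf (nat_lit 23270177)) (BT.leaf (nat_lit 47144469)))))))))) (BT.node (nat_lit 7227456) (BT.node (nat_lit 7223360) (BT.node (nat_lit 7221312) (BT.node (nat_lit 7220288) (BT.node (nat_lit 7219776) (BT.node (nat_lit 7219520) (BT.node (nat_lit 7219392) (BT.node (nat_lit 7219328) (BT.leaf (nat_lit 27994905)) (BT.leaf (nat_lit 27994909))) (BT.node (nat_lit 7219456) (BT.leaf (nat_lit 24317705)) (BT.leaf (nat_lit 24833809)))) (BT.node (nat_lit 7219648) (BT.node (nat_lit 7219584) (BT.leaf (nat_lit 35329549)) (BT.leaf (nat_lit 49702945))) (BT.node (nat_lit 7219712) (BT.leaf (nat_lit 31970317)) (BT.leaf (nat_lit 31970837))))) (BT.node (nat_lit 7220032) (BT.node (nat_lit 7219904) (BT.node (nat_lit 7219840) (BT.leaf (nat_lit 24113685)) (BT.leaf (nat_lit 35081233))) (BT.node (nat_lit 7219968) (BT.leaf (nat_lit 37821705)) (BT.leaf (nat_lit 24114465)))) (BT.node (nat_lit 7220160) (BT.node (nat_lit 7220096) (BT.leaf (nat_lit 36882449)) (BT.leaf (nat_lit 24501525))) (BT.node (nat_lit 7220224) (BT.leaf (nat_lit 35080721)) (BT.leaf (nat_lit 36071953)))))) (BT.node (nat_lit 7220800) (BT.node (nat_lit 7220544) (BT.node (nat_lit 7220416) (BT.node (nat_lit 7220352) (BT.leaf (nat_lit 36071969)) (BT.leaf (nat_lit 27651345))) (BT.node (nat_lit 7220480) (BT.leaf (nat_lit 22856985)) (BT.leaf (nat_lit 36329745)))) (BT.node (nat_lit 7220672) (BT.node (nat_lit 7220608) (BT.leaf (nat_lit 47147029)) (BT.leaf (nat_lit 33732625))) (BT.node (nat_lit 7220736) (BT.leaf (nat_lit 27765537)) (BT.leaf (nat_lit 27796257))))) (BT.node (nat_lit 7221056) (BT.node (nat_lit 7220928) (BT.node (nat_lit 7220864) (BT.leaf (nat_lit 23653645)) (BT.leaf (nat_lit 34011409))) (BT.node (nat_lit 7220992) (BT.leaf (nat_lit 47147285)) (BT.leaf (nat_lit 24482333)))) (BT.node (nat_lit 7221184) (BT.node (nat_lit 7221120) (BT.leaf (nat_lit 28286489)) (BT.leaf (nat_lit 28286493))) (BT.node (nat_lit 7221248) (BT.leaf (nat_lit 47147545)) (BT.leaf (nat_lit 28876041))))))) (BT.node (nat_lit 7222336) (BT.node (nat_lit 7221824) (BT.node (nat_lit 7221568) (BT.node (nat_lit 7221440) (BT.node (nat_lit 7221376) (BT.leaf (nat_lit 28077581)) (BT.leaf (nat_lit 22847505))) (BT.node (nat_lit 7221504) (BT.leaf (nat_lit 22847249)) (BT.leaf (nat_lit 29672973)))) (BT.node (nat_lit 7221696) (BT.node (nat_lit 7221632) (BT.leaf (nat_lit 47148553)) (BT.leaf (nat_lit 30041377))) (BT.node (nat_lit 7221760) (BT.leaf (nat_lit 23419653)) (BT.leaf (nat_lit 33998881))))) (BT.node (nat_lit 7222080) (BT.node (nat_lit 7221952) (BT.node (nat_lit 7221888) (BT.leaf (nat_lit 22848021)) (BT.leaf (nat_lit 24821509))) (BT.node (nat_lit 7222016) (BT.leaf (nat_lit 30240281)) (BT.leaf (nat_lit 28623117)))) (BT.node (nat_lit 7222208) (BT.node (nat_lit 7222144) (BT.leaf (nat_lit 27420437)) (BT.leaf (nat_lit 33992197))) (BT.node (nat_lit 7222272) (BT.leaf (nat_lit 47149345)) (BT.leaf (nat_lit 22847765)))))) (BT.node (nat_lit 7222848) (BT.node (nat_lit 7222592) (BT.node (nat_lit 7222464) (BT.node (nat_lit 7222400) (BT.leaf (nat_lit 47150365)) (BT.leaf (nat_lit 37894945))) (BT.node (nat_lit 7222528) (BT.leaf (nat_lit 32320789)) (BT.leaf (nat_lit 34183433)))) (BT.node (nat_lit 7222720) (BT.node (nat_lit 7222656) (BT.leaf (nat_lit 27228701)) (BT.leaf (nat_lit 23207445))) (BT.node (nat_lit 7222784) (BT.leaf (nat_lit 23207449)) (BT.leaf (nat_lit 23207453))))) (BT.node (nat_lit 7223104) (BT.node (nat_lit 7222976) (BT.node (nat_lit 7222912) (BT.leaf (nat_lit 28824353)) (BT.leaf (nat_lit 25243161))) (BT.node (nat_lit 7223040) (BT.leaf (nat_lit 36727073)) (BT.leaf (nat_lit 33285409)))) (BT.node (nat_lit 7223232) (BT.node (nat_lit 7223168) (BT.leaf (nat_lit 35532321)) (BT.leaf (nat_lit 35343109))) (BT.node (nat_lit 7223296) (BT.leaf (nat_lit 34078241)) (BT.leaf (nat_lit 29161993)))))))) (BT.node (nat_lit 7225408) (BT.node (nat_lit 7224384) (BT.node (nat_lit 7223872) (BT.node (nat_lit 7223616) (BT.node (nat_lit 7223488) (BT.node (nat_lit 7223424) (BT.leaf (nat_lit 33084185)) (BT.leaf (nat_lit 32932129))) (BT.node (nat_lit 7223552) (BT.leaf (nat_lit 29849633)) (BT.leaf (nat_lit 28824581)))) (BT.node (nat_lit 7223744) (BT.node (nat_lit 7223680) (BT.leaf (nat_lit 28824597)) (BT.leaf (nat_lit 46333217))) (BT.node (nat_lit 7223808) (BT.leaf (nat_lit 46332961)) (BT.leaf (nat_lit 27830025))))) (BT.node (nat_lit 7224128) (BT.node (nat_lit 7224000) (BT.node (nat_lit 7223936) (BT.leaf (nat_lit 39294497)) (BT.leaf (nat_lit 27830041))) (BT.node (nat_lit 7224064) (BT.leaf (nat_lit 27830045)) (BT.leaf (nat_lit 47152917)))) (BT.node (nat_lit 7224256) (BT.node (nat_lit 7224192) (BT.leaf (nat_lit 22297629)) (BT.leaf (nat_lit 47153173))) (BT.node (nat_lit 7224320) (BT.leaf (nat_lit 39511577)) (BT.leaf (nat_lit 42281249)))))) (BT.node (nat_lit 7224896) (BT.node (nat_lit 7224640) (BT.node (nat_lit 7224512) (BT.node (nat_lit 7224448) (BT.leaf (nat_lit 27782681)) (BT.leaf (nat_lit 36355605))) (BT.node (nat_lit 7224576) (BT.leaf (nat_lit 33535513)) (BT.leaf (nat_lit 36388893)))) (BT.node (nat_lit 7224768) (BT.node (nat_lit 7224704) (BT.leaf (nat_lit 28898053)) (BT.leaf (nat_lit 46971665))) (BT.node (nat_lit 7224832) (BT.leaf (nat_lit 35155729)) (BT.leaf (nat_lit 34092561))))) (BT.node (nat_lit 7225152) (BT.node (nat_lit 7225024) (BT.node (nat_lit 7224960) (BT.leaf (nat_lit 47155477)) (BT.leaf (nat_lit 23748625))) (BT.node (nat_lit 7225088) (BT.leaf (nat_lit 30339341)) (BT.leaf (nat_lit 30339085)))) (BT.node (nat_lit 7225280) (BT.node (nat_lit 7225216) (BT.leaf (nat_lit 33421341)) (BT.leaf (nat_lit 30341909))) (BT.node (nat_lit 7225344) (BT.leaf (nat_lit 24797217)) (BT.leaf (nat_lit 28877585))))))) (BT.node (nat_lit 7226432) (BT.node (nat_lit 7225920) (BT.node (nat_lit 7225664) (BT.node (nat_lit 7225536) (BT.node (nat_lit 7225472) (BT.leaf (nat_lit 29671445)) (BT.leaf (nat_lit 22852373))) (BT.node (nat_lit 7225600) (BT.leaf (nat_lit 40249353)) (BT.leaf (nat_lit 28883217)))) (BT.node (nat_lit 7225792) (BT.node (nat_lit 7225728) (BT.leaf (nat_lit 22852357)) (BT.leaf (nat_lit 30139917))) (BT.node (nat_lit 7225856) (BT.leaf (nat_lit 38589729)) (BT.leaf (nat_lit 39042593))))) (BT.node (nat_lit 7226176) (BT.node (nat_lit 7226048) (BT.node (nat_lit 7225984) (BT.leaf (nat_lit 47155741)) (BT.leaf (nat_lit 39040545))) (BT.node (nat_lit 7226112) (BT.leaf (nat_lit 47156245)) (BT.leaf (nat_lit 35753757)))) (BT.node (nat_lit 7226304) (BT.node (nat_lit 7226240) (BT.leaf (nat_lit 32765449)) (BT.leaf (nat_lit 22852625))) (BT.node (nat_lit 7226368) (BT.leaf (nat_lit 30032673)) (BT.leaf (nat_lit 35273497)))))) (BT.node (nat_lit 7226944) (BT.node (nat_lit 7226688) (BT.node (nat_lit 7226560) (BT.node (nat_lit 7226496) (BT.leaf (nat_lit 25913369)) (BT.leaf (nat_lit 30033697))) (BT.node (nat_lit 7226624) (BT.leaf (nat_lit 31399961)) (BT.leaf (nat_lit 24675845)))) (BT.node (nat_lit 7226816) (BT.node (nat_lit 7226752) (BT.leaf (nat_lit 25171737)) (BT.leaf (nat_lit 30751521))) (BT.node (nat_lit 7226880) (BT.leaf (nat_lit 52121885)) (BT.leaf (nat_lit 28967173))))) (BT.node (nat_lit 7227200) (BT.node (nat_lit 7227072) (BT.node (nat_lit 7227008) (BT.leaf (nat_lit 22856981)) (BT.leaf (nat_lit 28907785))) (BT.node (nat_lit 7227136) (BT.leaf (nat_lit 27640601)) (BT.leaf (nat_lit 31532805)))) (BT.node (nat_lit 7227328) (BT.node (nat_lit 7227264) (BT.leaf (nat_lit 37978629)) (BT.leaf (nat_lit 27641365))) (BT.node (nat_lit 7227392) (BT.leaf (nat_lit 26517765)) (BT.leaf (nat_lit 33727257))))))))) (BT.node (nat_lit 7231552) (BT.node (nat_lit 7229504) (BT.node (nat_lit 7228480) (BT.node (nat_lit 7227968) (BT.node (nat_lit 7227712) (BT.node (nat_lit 7227584) (BT.node (nat_lit 7227520) (BT.leaf (nat_lit 24712985)) (BT.leaf (nat_lit 32395281))) (BT.node (nat_lit 7227648) (BT.leaf (nat_lit 28910621)) (BT.leaf (nat_lit 41419553)))) (BT.node (nat_lit 7227840) (BT.node (nat_lit 7227776) (BT.leaf (nat_lit 30088209)) (BT.leaf (nat_lit 32261149))) (BT.node (nat_lit 7227904) (BT.leaf (nat_lit 35071777)) (BT.leaf (nat_lit 31189777))))) (BT.node (nat_lit 7228224) (BT.node (nat_lit 7228096) (BT.node (nat_lit 7228032) (BT.leaf (nat_lit 32539425)) (BT.leaf (nat_lit 24113689))) (BT.node (nat_lit 7228160) (BT.leaf (nat_lit 27905041)) (BT.leaf (nat_lit 27905045)))) (BT.node (nat_lit 7228352) (BT.node (nat_lit 7228288) (BT.leaf (nat_lit 35043857)) (BT.leaf (nat_lit 47157781))) (BT.node (nat_lit 7228416) (BT.leaf (nat_lit 36070945)) (BT.leaf (nat_lit 51545365)))))) (BT.node (nat_lit 7228992) (BT.node (nat_lit 7228736) (BT.node (nat_lit 7228608) (BT.node (nat_lit 7228544) (BT.leaf (nat_lit 24550937)) (BT.leaf (nat_lit 24550941))) (BT.node (nat_lit 7228672) (BT.leaf (nat_lit 28907801)) (BT.leaf (nat_lit 47158029)))) (BT.node (nat_lit 7228864) (BT.node (nat_lit 7228800) (BT.leaf (nat_lit 24328457)) (BT.leaf (nat_lit 22858013))) (BT.node (nat_lit 7228928) (BT.leaf (nat_lit 28477197)) (BT.leaf (nat_lit 34190353))))) (BT.node (nat_lit 7229248) (BT.node (nat_lit 7229120) (BT.node (nat_lit 7229056) (BT.leaf (nat_lit 34698013)) (BT.leaf (nat_lit 37846045))) (BT.node (nat_lit 7229184) (BT.leaf (nat_lit 38056457)) (BT.leaf (nat_lit 34195985)))) (BT.node (nat_lit 7229376) (BT.node (nat_lit 7229312) (BT.leaf (nat_lit 27573781)) (BT.leaf (nat_lit 35059729))) (BT.node (nat_lit 7229440) (BT.leaf (nat_lit 28917273)) (BT.leaf (nat_lit 47146009))))))) (BT.node (nat_lit 7230528) (BT.node (nat_lit 7230016) (BT.node (nat_lit 7229760) (BT.node (nat_lit 7229632) (BT.node (nat_lit 7229568) (BT.leaf (nat_lit 46937629)) (BT.leaf (nat_lit 46937609))) (BT.node (nat_lit 7229696) (BT.leaf (nat_lit 47145997)) (BT.leaf (nat_lit 47159061)))) (BT.node (nat_lit 7229888) (BT.node (nat_lit 7229824) (BT.leaf (nat_lit 27285277)) (BT.leaf (nat_lit 32970501))) (BT.node (nat_lit 7229952) (BT.leaf (nat_lit 40254729)) (BT.leaf (nat_lit 47159825))))) (BT.node (nat_lit 7230272) (BT.node (nat_lit 7230144) (BT.node (nat_lit 7230080) (BT.leaf (nat_lit 39315221)) (BT.leaf (nat_lit 39314453))) (BT.node (nat_lit 7230208) (BT.leaf (nat_lit 31053337)) (BT.leaf (nat_lit 24666393)))) (BT.node (nat_lit 7230400) (BT.node (nat_lit 7230336) (BT.leaf (nat_lit 36045077)) (BT.leaf (nat_lit 22858773))) (BT.node (nat_lit 7230464) (BT.leaf (nat_lit 28198433)) (BT.leaf (nat_lit 35155233)))))) (BT.node (nat_lit 7231040) (BT.node (nat_lit 7230784) (BT.node (nat_lit 7230656) (BT.node (nat_lit 7230592) (BT.leaf (nat_lit 28205345)) (BT.leaf (nat_lit 48826897))) (BT.node (nat_lit 7230720) (BT.leaf (nat_lit 25706773)) (BT.leaf (nat_lit 36071185)))) (BT.node (nat_lit 7230912) (BT.node (nat_lit 7230848) (BT.leaf (nat_lit 28198177)) (BT.leaf (nat_lit 28198945))) (BT.node (nat_lit 7230976) (BT.leaf (nat_lit 35093537)) (BT.leaf (nat_lit 35156001))))) (BT.node (nat_lit 7231296) (BT.node (nat_lit 7231168) (BT.node (nat_lit 7231104) (BT.leaf (nat_lit 33569817)) (BT.leaf (nat_lit 28198689))) (BT.node (nat_lit 7231232) (BT.leaf (nat_lit 47162133)) (BT.leaf (nat_lit 47162401)))) (BT.node (nat_lit 7231424) (BT.node (nat_lit 7231360) (BT.leaf (nat_lit 28925469)) (BT.leaf (nat_lit 32541445))) (BT.node (nat_lit 7231488) (BT.leaf (nat_lit 36145437)) (BT.leaf (nat_lit 28645649)))))))) (BT.node (nat_lit 7233600) (BT.node (nat_lit 7232576) (BT.node (nat_lit 7232064) (BT.node (nat_lit 7231808) (BT.node (nat_lit 7231680) (BT.node (nat_lit 7231616) (BT.leaf (nat_lit 33337865)) (BT.leaf (nat_lit 25799685))) (BT.node (nat_lit 7231744) (BT.leaf (nat_lit 50453509)) (BT.leaf (nat_lit 25799705)))) (BT.node (nat_lit 7231936) (BT.node (nat_lit 7231872) (BT.leaf (nat_lit 22863633)) (BT.leaf (nat_lit 33416729))) (BT.node (nat_lit 7232000) (BT.leaf (nat_lit 24500757)) (BT.leaf (nat_lit 25920017))))) (BT.node (nat_lit 7232320) (BT.node (nat_lit 7232192) (BT.node (nat_lit 7232128) (BT.leaf (nat_lit 25920033)) (BT.leaf (nat_lit 32543521))) (BT.node (nat_lit 7232256) (BT.leaf (nat_lit 22864145)) (BT.leaf (nat_lit 23419929)))) (BT.node (nat_lit 7232448) (BT.node (nat_lit 7232384) (BT.leaf (nat_lit 46326021)) (BT.leaf (nat_lit 25800465))) (BT.node (nat_lit 7232512) (BT.leaf (nat_lit 22874913)) (BT.leaf (nat_lit 24614689)))))) (BT.node (nat_lit 7233088) (BT.node (nat_lit 7232832) (BT.node (nat_lit 7232704) (BT.node (nat_lit 7232640) (BT.leaf (nat_lit 25799965)) (BT.leaf (nat_lit 32975121))) (BT.node (nat_lit 7232768) (BT.leaf (nat_lit 51551777)) (BT.leaf (nat_lit 29627937)))) (BT.node (nat_lit 7232960) (BT.node (nat_lit 7232896) (BT.leaf (nat_lit 31496989)) (BT.leaf (nat_lit 40327181))) (BT.node (nat_lit 7233024) (BT.leaf (nat_lit 23194385)) (BT.leaf (nat_lit 28448537))))) (BT.node (nat_lit 7233344) (BT.node (nat_lit 7233216) (BT.node (nat_lit 7233152) (BT.leaf (nat_lit 23211273)) (BT.leaf (nat_lit 28407073))) (BT.node (nat_lit 7233280) (BT.leaf (nat_lit 23211289)) (BT.leaf (nat_lit 33419801)))) (BT.node (nat_lit 7233472) (BT.node (nat_lit 7233408) (BT.leaf (nat_lit 23211293)) (BT.leaf (nat_lit 23213325))) (BT.node (nat_lit 7233536) (BT.leaf (nat_lit 48598817)) (BT.leaf (nat_lit 33851681))))))) (BT.node (nat_lit 7234624) (BT.node (nat_lit 7234112) (BT.node (nat_lit 7233856) (BT.node (nat_lit 7233728) (BT.node (nat_lit 7233664) (BT.leaf (nat_lit 32446497)) (BT.leaf (nat_lit 50314253))) (BT.node (nat_lit 7233792) (BT.leaf (nat_lit 28452621)) (BT.leaf (nat_lit 23298821)))) (BT.node (nat_lit 7233984) (BT.node (nat_lit 7233920) (BT.leaf (nat_lit 47164949)) (BT.leaf (nat_lit 37964825))) (BT.node (nat_lit 7234048) (BT.leaf (nat_lit 23756557)) (BT.leaf (nat_lit 23756553))))) (BT.node (nat_lit 7234368) (BT.node (nat_lit 7234240) (BT.node (nat_lit 7234176) (BT.leaf (nat_lit 23756569)) (BT.leaf (nat_lit 23756573))) (BT.node (nat_lit 7234304) (BT.leaf (nat_lit 47165721)) (BT.leaf (nat_lit 33424413)))) (BT.node (nat_lit 7234496) (BT.node (nat_lit 7234432) (BT.leaf (nat_lit 28784909)) (BT.leaf (nat_lit 29983253))) (BT.node (nat_lit 7234560) (BT.leaf (nat_lit 23324437)) (BT.leaf (nat_lit 28941065)))))) (BT.node (nat_lit 7235136) (BT.node (nat_lit 7234880) (BT.node (nat_lit 7234752) (BT.node (nat_lit 7234688) (BT.leaf (nat_lit 27791369)) (BT.leaf (nat_lit 27791373))) (BT.node (nat_lit 7234816) (BT.leaf (nat_lit 50986785)) (BT.leaf (nat_lit 38310417)))) (BT.node (nat_lit 7235008) (BT.node (nat_lit 7234944) (BT.leaf (nat_lit 52145685)) (BT.leaf (nat_lit 30724385))) (BT.node (nat_lit 7235072) (BT.leaf (nat_lit 39496709)) (BT.leaf (nat_lit 24242705))))) (BT.node (nat_lit 7235392) (BT.node (nat_lit 7235264) (BT.node (nat_lit 7235200) (BT.leaf (nat_lit 47167249)) (BT.leaf (nat_lit 28459533))) (BT.node (nat_lit 7235328) (BT.leaf (nat_lit 47168021)) (BT.leaf (nat_lit 23184661)))) (BT.node (nat_lit 7235520) (BT.node (nat_lit 7235456) (BT.leaf (nat_lit 29906709)) (BT.leaf (nat_lit 28955401))) (BT.node (nat_lit 7235584) (BT.leaf (nat_lit 26601761)) (BT.leaf (nat_lit 34998801))))))))))) (BT.node (nat_lit 7252032) (BT.node (nat_lit 7243840) (BT.node (nat_lit 7239744) (BT.node (nat_lit 7237696) (BT.node (nat_lit 7236672) (BT.node (nat_lit 7236160) (BT.node (nat_lit 7235904) (BT.node (nat_lit 7235776) (BT.node (nat_lit 7235712) (BT.leaf (nat_lit 30677521)) (BT.leaf (nat_lit 30677537))) (BT.node (nat_lit 7235840) (BT.leaf (nat_lit 23172125)) (BT.leaf (nat_lit 38523653)))) (BT.node (nat_lit 7236032) (BT.node (nat_lit 7235968) (BT.leaf (nat_lit 39896085)) (BT.leaf (nat_lit 30206753))) (BT.node (nat_lit 7236096) (BT.leaf (nat_lit 24683809)) (BT.leaf (nat_lit 24502533))))) (BT.node (nat_lit 7236416) (BT.node (nat_lit 7236288) (BT.node (nat_lit 7236224) (BT.leaf (nat_lit 24683797)) (BT.leaf (nat_lit 24683801))) (BT.node (nat_lit 7236352) (BT.leaf (nat_lit 24683805)) (BT.leaf (nat_lit 40354065)))) (BT.node (nat_lit 7236544) (BT.node (nat_lit 7236480) (BT.leaf (nat_lit 29276437)) (BT.leaf (nat_lit 32460833))) (BT.node (nat_lit 7236608) (BT.leaf (nat_lit 28758033)) (BT.leaf (nat_lit 28350753)))))) (BT.node (nat_lit 7237184) (BT.node (nat_lit 7236928) (BT.node (nat_lit 7236800) (BT.node (nat_lit 7236736) (BT.leaf (nat_lit 47129605)) (BT.leaf (nat_lit 28350749))) (BT.node (nat_lit 7236864) (BT.leaf (nat_lit 51129873)) (BT.leaf (nat_lit 32587785)))) (BT.node (nat_lit 7237056) (BT.node (nat_lit 7236992) (BT.leaf (nat_lit 39898125)) (BT.leaf (nat_lit 23822609))) (BT.node (nat_lit 7237120) (BT.leaf (nat_lit 32794373)) (BT.leaf (nat_lit 50600201))))) (BT.node (nat_lit 7237440) (BT.node (nat_lit 7237312) (BT.node (nat_lit 7237248) (BT.leaf (nat_lit 46618913)) (BT.leaf (nat_lit 31788065))) (BT.node (nat_lit 7237376) (BT.leaf (nat_lit 30353925)) (BT.leaf (nat_lit 28758801)))) (BT.node (nat_lit 7237568) (BT.node (nat_lit 7237504) (BT.leaf (nat_lit 27318289)) (BT.leaf (nat_lit 37276689))) (BT.node (nat_lit 7237632) (BT.leaf (nat_lit 28950041)) (BT.leaf (nat_lit 47171345))))))) (BT.node (nat_lit 7238720) (BT.node (nat_lit 7238208) (BT.node (nat_lit 7237952) (BT.node (nat_lit 7237824) (BT.node (nat_lit 7237760) (BT.leaf (nat_lit 47171341)) (BT.leaf (nat_lit 47129629))) (BT.node (nat_lit 7237888) (BT.leaf (nat_lit 37276677)) (BT.leaf (nat_lit 28459277)))) (BT.node (nat_lit 7238080) (BT.node (nat_lit 7238016) (BT.leaf (nat_lit 23750169)) (BT.leaf (nat_lit 28952349))) (BT.node (nat_lit 7238144) (BT.leaf (nat_lit 47172117)) (BT.leaf (nat_lit 27543825))))) (BT.node (nat_lit 7238464) (BT.node (nat_lit 7238336) (BT.node (nat_lit 7238272) (BT.leaf (nat_lit 39496217)) (BT.leaf (nat_lit 28308233))) (BT.node (nat_lit 7238400) (BT.leaf (nat_lit 26322973)) (BT.leaf (nat_lit 47172877)))) (BT.node (nat_lit 7238592) (BT.node (nat_lit 7238528) (BT.leaf (nat_lit 23662617)) (BT.leaf (nat_lit 47173141))) (BT.node (nat_lit 7238656) (BT.leaf (nat_lit 23833881)) (BT.leaf (nat_lit 23833885)))))) (BT.node (nat_lit 7239232) (BT.node (nat_lit 7238976) (BT.node (nat_lit 7238848) (BT.node (nat_lit 7238784) (BT.leaf (nat_lit 28762377)) (BT.leaf (nat_lit 40388105))) (BT.node (nat_lit 7238912) (BT.leaf (nat_lit 22869277)) (BT.leaf (nat_lit 47173649)))) (BT.node (nat_lit 7239104) (BT.node (nat_lit 7239040) (BT.leaf (nat_lit 35764497)) (BT.leaf (nat_lit 47092229))) (BT.node (nat_lit 7239168) (BT.leaf (nat_lit 34440977)) (BT.leaf (nat_lit 34440721))))) (BT.node (nat_lit 7239488) (BT.node (nat_lit 7239360) (BT.node (nat_lit 7239296) (BT.leaf (nat_lit 29745685)) (BT.leaf (nat_lit 47174689))) (BT.node (nat_lit 7239424) (BT.leaf (nat_lit 38208265)) (BT.leaf (nat_lit 32185373)))) (BT.node (nat_lit 7239616) (BT.node (nat_lit 7239552) (BT.leaf (nat_lit 40391457)) (BT.leaf (nat_lit 48209681))) (BT.node (nat_lit 7239680) (BT.leaf (nat_lit 25853201)) (BT.leaf (nat_lit 34999569)))))))) (BT.node (nat_lit 7241792) (BT.node (nat_lit 7240768) (BT.node (nat_lit 7240256) (BT.node (nat_lit 7240000) (BT.node (nat_lit 7239872) (BT.node (nat_lit 7239808) (BT.leaf (nat_lit 51967509)) (BT.leaf (nat_lit 47480861))) (BT.node (nat_lit 7239936) (BT.leaf (nat_lit 47177241)) (BT.leaf (nat_lit 47176977)))) (BT.node (nat_lit 7240128) (BT.node (nat_lit 7240064) (BT.leaf (nat_lit 47177489)) (BT.leaf (nat_lit 47177745))) (BT.node (nat_lit 7240192) (BT.leaf (nat_lit 22869781)) (BT.leaf (nat_lit 27649301))))) (BT.node (nat_lit 7240512) (BT.node (nat_lit 7240384) (BT.node (nat_lit 7240320) (BT.leaf (nat_lit 47178781)) (BT.leaf (nat_lit 47179025))) (BT.node (nat_lit 7240448) (BT.leaf (nat_lit 47179293)) (BT.leaf (nat_lit 34802205)))) (BT.node (nat_lit 7240640) (BT.node (nat_lit 7240576) (BT.leaf (nat_lit 44671749)) (BT.leaf (nat_lit 31723789))) (BT.node (nat_lit 7240704) (BT.leaf (nat_lit 47180569)) (BT.leaf (nat_lit 47180577)))))) (BT.node (nat_lit 7241280) (BT.node (nat_lit 7241024) (BT.node (nat_lit 7240896) (BT.node (nat_lit 7240832) (BT.leaf (nat_lit 47180805)) (BT.leaf (nat_lit 31633413))) (BT.node (nat_lit 7240960) (BT.leaf (nat_lit 47485969)) (BT.leaf (nat_lit 28669705)))) (BT.node (nat_lit 7241152) (BT.node (nat_lit 7241088) (BT.leaf (nat_lit 28669709)) (BT.leaf (nat_lit 28669721))) (BT.node (nat_lit 7241216) (BT.leaf (nat_lit 38529557)) (BT.leaf (nat_lit 51558177))))) (BT.node (nat_lit 7241536) (BT.node (nat_lit 7241408) (BT.node (nat_lit 7241344) (BT.leaf (nat_lit 50715157)) (BT.leaf (nat_lit 30530569))) (BT.node (nat_lit 7241472) (BT.leaf (nat_lit 47181329)) (BT.leaf (nat_lit 30506001)))) (BT.node (nat_lit 7241664) (BT.node (nat_lit 7241600) (BT.leaf (nat_lit 22870277)) (BT.leaf (nat_lit 22834693))) (BT.node (nat_lit 7241728) (BT.leaf (nat_lit 28571677)) (BT.leaf (nat_lit 22871573))))))) (BT.node (nat_lit 7242816) (BT.node (nat_lit 7242304) (BT.node (nat_lit 7242048) (BT.node (nat_lit 7241920) (BT.node (nat_lit 7241856) (BT.leaf (nat_lit 46968849)) (BT.leaf (nat_lit 28968477))) (BT.node (nat_lit 7241984) (BT.leaf (nat_lit 29624077)) (BT.leaf (nat_lit 28013089)))) (BT.node (nat_lit 7242176) (BT.node (nat_lit 7242112) (BT.leaf (nat_lit 29115413)) (BT.leaf (nat_lit 47266081))) (BT.node (nat_lit 7242240) (BT.leaf (nat_lit 27791129)) (BT.leaf (nat_lit 40658209))))) (BT.node (nat_lit 7242560) (BT.node (nat_lit 7242432) (BT.node (nat_lit 7242368) (BT.leaf (nat_lit 30057489)) (BT.leaf (nat_lit 24594709))) (BT.node (nat_lit 7242496) (BT.leaf (nat_lit 46840581)) (BT.leaf (nat_lit 36759317)))) (BT.node (nat_lit 7242688) (BT.node (nat_lit 7242624) (BT.leaf (nat_lit 36759321)) (BT.leaf (nat_lit 36759325))) (BT.node (nat_lit 7242752) (BT.leaf (nat_lit 36759329)) (BT.leaf (nat_lit 22835989)))))) (BT.node (nat_lit 7243328) (BT.node (nat_lit 7243072) (BT.node (nat_lit 7242944) (BT.node (nat_lit 7242880) (BT.leaf (nat_lit 28964889)) (BT.leaf (nat_lit 27771665))) (BT.node (nat_lit 7243008) (BT.leaf (nat_lit 50716449)) (BT.leaf (nat_lit 30069269)))) (BT.node (nat_lit 7243200) (BT.node (nat_lit 7243136) (BT.leaf (nat_lit 24844293)) (BT.leaf (nat_lit 32164105))) (BT.node (nat_lit 7243264) (BT.leaf (nat_lit 27423237)) (BT.leaf (nat_lit 50393113))))) (BT.node (nat_lit 7243584) (BT.node (nat_lit 7243456) (BT.node (nat_lit 7243392) (BT.leaf (nat_lit 50393117)) (BT.leaf (nat_lit 47183121))) (BT.node (nat_lit 7243520) (BT.leaf (nat_lit 51774217)) (BT.leaf (nat_lit 51538697)))) (BT.node (nat_lit 7243712) (BT.node (nat_lit 7243648) (BT.leaf (nat_lit 51538721)) (BT.leaf (nat_lit 35389189))) (BT.node (nat_lit 7243776) (BT.leaf (nat_lit 35389197)) (BT.leaf (nat_lit 35389205))))))))) (BT.node (nat_lit 7247936) (BT.node (nat_lit 7245888) (BT.node (nat_lit 7244864) (BT.node (nat_lit 7244352) (BT.node (nat_lit 7244096) (BT.node (nat_lit 7243968) (BT.node (nat_lit 7243904) (BT.leaf (nat_lit 35389209)) (BT.leaf (nat_lit 31363089))) (BT.node (nat_lit 7244032) (BT.leaf (nat_lit 31436053)) (BT.leaf (nat_lit 31087877)))) (BT.node (nat_lit 7244224) (BT.node (nat_lit 7244160) (BT.leaf (nat_lit 23824413)) (BT.leaf (nat_lit 46401557))) (BT.node (nat_lit 7244288) (BT.leaf (nat_lit 23960337)) (BT.leaf (nat_lit 36814853))))) (BT.node (nat_lit 7244608) (BT.node (nat_lit 7244480) (BT.node (nat_lit 7244416) (BT.leaf (nat_lit 23871761)) (BT.leaf (nat_lit 50668053))) (BT.node (nat_lit 7244544) (BT.leaf (nat_lit 23960581)) (BT.leaf (nat_lit 23960601)))) (BT.node (nat_lit 7244736) (BT.node (nat_lit 7244672) (BT.leaf (nat_lit 41796885)) (BT.leaf (nat_lit 47184661))) (BT.node (nat_lit 7244800) (BT.leaf (nat_lit 51774233)) (BT.leaf (nat_lit 51774237)))))) (BT.node (nat_lit 7245376) (BT.node (nat_lit 7245120) (BT.node (nat_lit 7244992) (BT.node (nat_lit 7244928) (BT.leaf (nat_lit 40421125)) (BT.leaf (nat_lit 40421665))) (BT.node (nat_lit 7245056) (BT.leaf (nat_lit 38726941)) (BT.leaf (nat_lit 52317701)))) (BT.node (nat_lit 7245248) (BT.node (nat_lit 7245184) (BT.leaf (nat_lit 52317705)) (BT.leaf (nat_lit 27317521))) (BT.node (nat_lit 7245312) (BT.leaf (nat_lit 24029197)) (BT.leaf (nat_lit 33673493))))) (BT.node (nat_lit 7245632) (BT.node (nat_lit 7245504) (BT.node (nat_lit 7245440) (BT.leaf (nat_lit 47186453)) (BT.leaf (nat_lit 34607373))) (BT.node (nat_lit 7245568) (BT.leaf (nat_lit 33989645)) (BT.leaf (nat_lit 24329237)))) (BT.node (nat_lit 7245760) (BT.node (nat_lit 7245696) (BT.leaf (nat_lit 40775457)) (BT.leaf (nat_lit 27527185))) (BT.node (nat_lit 7245824) (BT.leaf (nat_lit 30510597)) (BT.leaf (nat_lit 28924177))))))) (BT.node (nat_lit 7246912) (BT.node (nat_lit 7246400) (BT.node (nat_lit 7246144) (BT.node (nat_lit 7246016) (BT.node (nat_lit 7245952) (BT.leaf (nat_lit 47187221)) (BT.leaf (nat_lit 28460305))) (BT.node (nat_lit 7246080) (BT.leaf (nat_lit 31814433)) (BT.leaf (nat_lit 31814945)))) (BT.node (nat_lit 7246272) (BT.node (nat_lit 7246208) (BT.leaf (nat_lit 39168281)) (BT.leaf (nat_lit 31815173))) (BT.node (nat_lit 7246336) (BT.leaf (nat_lit 29197853)) (BT.leaf (nat_lit 32164109))))) (BT.node (nat_lit 7246656) (BT.node (nat_lit 7246528) (BT.node (nat_lit 7246464) (BT.leaf (nat_lit 32164121)) (BT.leaf (nat_lit 32164125))) (BT.node (nat_lit 7246592) (BT.leaf (nat_lit 23217937)) (BT.leaf (nat_lit 24818449)))) (BT.node (nat_lit 7246784) (BT.node (nat_lit 7246720) (BT.leaf (nat_lit 23791877)) (BT.leaf (nat_lit 48430869))) (BT.node (nat_lit 7246848) (BT.leaf (nat_lit 23443217)) (BT.leaf (nat_lit 23803153)))))) (BT.node (nat_lit 7247424) (BT.node (nat_lit 7247168) (BT.node (nat_lit 7247040) (BT.node (nat_lit 7246976) (BT.leaf (nat_lit 34574365)) (BT.leaf (nat_lit 36025889))) (BT.node (nat_lit 7247104) (BT.leaf (nat_lit 35626517)) (BT.leaf (nat_lit 23217669)))) (BT.node (nat_lit 7247296) (BT.node (nat_lit 7247232) (BT.leaf (nat_lit 23217689)) (BT.leaf (nat_lit 23217693))) (BT.node (nat_lit 7247360) (BT.leaf (nat_lit 32163849)) (BT.leaf (nat_lit 50270745))))) (BT.node (nat_lit 7247680) (BT.node (nat_lit 7247552) (BT.node (nat_lit 7247488) (BT.leaf (nat_lit 23238177)) (BT.leaf (nat_lit 22875153))) (BT.node (nat_lit 7247616) (BT.leaf (nat_lit 32162581)) (BT.leaf (nat_lit 46643465)))) (BT.node (nat_lit 7247808) (BT.node (nat_lit 7247744) (BT.leaf (nat_lit 46643485)) (BT.leaf (nat_lit 27568161))) (BT.node (nat_lit 7247872) (BT.leaf (nat_lit 22876449)) (BT.leaf (nat_lit 35887113)))))))) (BT.node (nat_lit 7249984) (BT.node (nat_lit 7248960) (BT.node (nat_lit 7248448) (BT.node (nat_lit 7248192) (BT.node (nat_lit 7248064) (BT.node (nat_lit 7248000) (BT.leaf (nat_lit 34005281)) (BT.leaf (nat_lit 22871829))) (BT.node (nat_lit 7248128) (BT.leaf (nat_lit 31565577)) (BT.leaf (nat_lit 31565581)))) (BT.node (nat_lit 7248320) (BT.node (nat_lit 7248256) (BT.leaf (nat_lit 46994185)) (BT.leaf (nat_lit 31565593))) (BT.node (nat_lit 7248384) (BT.leaf (nat_lit 31565597)) (BT.leaf (nat_lit 28986893))))) (BT.node (nat_lit 7248704) (BT.node (nat_lit 7248576) (BT.node (nat_lit 7248512) (BT.leaf (nat_lit 40442645)) (BT.leaf (nat_lit 33918749))) (BT.node (nat_lit 7248640) (BT.leaf (nat_lit 23873301)) (BT.leaf (nat_lit 51526921)))) (BT.node (nat_lit 7248832) (BT.node (nat_lit 7248768) (BT.leaf (nat_lit 29949713)) (BT.leaf (nat_lit 29949729))) (BT.node (nat_lit 7248896) (BT.leaf (nat_lit 38555401)) (BT.leaf (nat_lit 27824401)))))) (BT.node (nat_lit 7249472) (BT.node (nat_lit 7249216) (BT.node (nat_lit 7249088) (BT.node (nat_lit 7249024) (BT.leaf (nat_lit 37970453)) (BT.leaf (nat_lit 46601237))) (BT.node (nat_lit 7249152) (BT.leaf (nat_lit 32340769)) (BT.leaf (nat_lit 29949957)))) (BT.node (nat_lit 7249344) (BT.node (nat_lit 7249280) (BT.leaf (nat_lit 47193621)) (BT.leaf (nat_lit 23630853))) (BT.node (nat_lit 7249408) (BT.leaf (nat_lit 47194657)) (BT.leaf (nat_lit 24837397))))) (BT.node (nat_lit 7249728) (BT.node (nat_lit 7249600) (BT.node (nat_lit 7249536) (BT.leaf (nat_lit 22877965)) (BT.leaf (nat_lit 32015373))) (BT.node (nat_lit 7249664) (BT.leaf (nat_lit 40452897)) (BT.leaf (nat_lit 31779093)))) (BT.node (nat_lit 7249856) (BT.node (nat_lit 7249792) (BT.leaf (nat_lit 22877985)) (BT.leaf (nat_lit 22349853))) (BT.node (nat_lit 7249920) (BT.leaf (nat_lit 30499861)) (BT.leaf (nat_lit 47197205))))))) (BT.node (nat_lit 7251008) (BT.node (nat_lit 7250496) (BT.node (nat_lit 7250240) (BT.node (nat_lit 7250112) (BT.node (nat_lit 7250048) (BT.leaf (nat_lit 25670917)) (BT.leaf (nat_lit 48317473))) (BT.node (nat_lit 7250176) (BT.leaf (nat_lit 23185941)) (BT.leaf (nat_lit 30836757)))) (BT.node (nat_lit 7250368) (BT.node (nat_lit 7250304) (BT.leaf (nat_lit 45947169)) (BT.leaf (nat_lit 46875677))) (BT.node (nat_lit 7250432) (BT.leaf (nat_lit 23403529)) (BT.leaf (nat_lit 28999689))))) (BT.node (nat_lit 7250752) (BT.node (nat_lit 7250624) (BT.node (nat_lit 7250560) (BT.leaf (nat_lit 30111005)) (BT.leaf (nat_lit 47198997))) (BT.node (nat_lit 7250688) (BT.leaf (nat_lit 47200033)) (BT.leaf (nat_lit 28546845)))) (BT.node (nat_lit 7250880) (BT.node (nat_lit 7250816) (BT.leaf (nat_lit 46876185)) (BT.leaf (nat_lit 45947149))) (BT.node (nat_lit 7250944) (BT.leaf (nat_lit 47201057)) (BT.leaf (nat_lit 23403545)))))) (BT.node (nat_lit 7251520) (BT.node (nat_lit 7251264) (BT.node (nat_lit 7251136) (BT.node (nat_lit 7251072) (BT.leaf (nat_lit 23403549)) (BT.leaf (nat_lit 40477473))) (BT.node (nat_lit 7251200) (BT.leaf (nat_lit 40477729)) (BT.leaf (nat_lit 40478241)))) (BT.node (nat_lit 7251392) (BT.node (nat_lit 7251328) (BT.leaf (nat_lit 40477985)) (BT.leaf (nat_lit 29002269))) (BT.node (nat_lit 7251456) (BT.leaf (nat_lit 47201557)) (BT.leaf (nat_lit 22709021))))) (BT.node (nat_lit 7251776) (BT.node (nat_lit 7251648) (BT.node (nat_lit 7251584) (BT.leaf (nat_lit 47201817)) (BT.leaf (nat_lit 32856353))) (BT.node (nat_lit 7251712) (BT.leaf (nat_lit 28648989)) (BT.leaf (nat_lit 31840529)))) (BT.node (nat_lit 7251904) (BT.node (nat_lit 7251840) (BT.leaf (nat_lit 24447505)) (BT.leaf (nat_lit 47564817))) (BT.node (nat_lit 7251968) (BT.leaf (nat_lit 24164897)) (BT.leaf (nat_lit 22981381)))))))))) (BT.node (nat_lit 7260288) (BT.node (nat_lit 7256128) (BT.node (nat_lit 7254080) (BT.node (nat_lit 7253056) (BT.node (nat_lit 7252544) (BT.node (nat_lit 7252288) (BT.node (nat_lit 7252160) (BT.node (nat_lit 7252096) (BT.leaf (nat_lit 47347977)) (BT.leaf (nat_lit 33093409))) (BT.node (nat_lit 7252224) (BT.leaf (nat_lit 37919505)) (BT.leaf (nat_lit 23708949)))) (BT.node (nat_lit 7252416) (BT.node (nat_lit 7252352) (BT.leaf (nat_lit 27396113)) (BT.leaf (nat_lit 28737569))) (BT.node (nat_lit 7252480) (BT.leaf (nat_lit 28452117)) (BT.leaf (nat_lit 28452121))))) (BT.node (nat_lit 7252800) (BT.node (nat_lit 7252672) (BT.node (nat_lit 7252608) (BT.leaf (nat_lit 28452125)) (BT.leaf (nat_lit 25700613))) (BT.node (nat_lit 7252736) (BT.leaf (nat_lit 37472281)) (BT.leaf (nat_lit 37472285)))) (BT.node (nat_lit 7252928) (BT.node (nat_lit 7252864) (BT.leaf (nat_lit 23735057)) (BT.leaf (nat_lit 34217493))) (BT.node (nat_lit 7252992) (BT.leaf (nat_lit 34989065)) (BT.leaf (nat_lit 23362577)))))) (BT.node (nat_lit 7253568) (BT.node (nat_lit 7253312) (BT.node (nat_lit 7253184) (BT.node (nat_lit 7253120) (BT.leaf (nat_lit 22335765)) (BT.leaf (nat_lit 29552665))) (BT.node (nat_lit 7253248) (BT.leaf (nat_lit 24770833)) (BT.leaf (nat_lit 30084357)))) (BT.node (nat_lit 7253440) (BT.node (nat_lit 7253376) (BT.leaf (nat_lit 22703633)) (BT.leaf (nat_lit 31205381))) (BT.node (nat_lit 7253504) (BT.leaf (nat_lit 30084381)) (BT.leaf (nat_lit 23910673))))) (BT.node (nat_lit 7253824) (BT.node (nat_lit 7253696) (BT.node (nat_lit 7253632) (BT.leaf (nat_lit 38499089)) (BT.leaf (nat_lit 28392217))) (BT.node (nat_lit 7253760) (BT.leaf (nat_lit 28392221)) (BT.leaf (nat_lit 29697809)))) (BT.node (nat_lit 7253952) (BT.node (nat_lit 7253888) (BT.leaf (nat_lit 22888709)) (BT.leaf (nat_lit 46869269))) (BT.node (nat_lit 7254016) (BT.leaf (nat_lit 29015561)) (BT.leaf (nat_lit 24474385))))))) (BT.node (nat_lit 7255104) (BT.node (nat_lit 7254592) (BT.node (nat_lit 7254336) (BT.node (nat_lit 7254208) (BT.node (nat_lit 7254144) (BT.leaf (nat_lit 34301709)) (BT.leaf (nat_lit 47207189))) (BT.node (nat_lit 7254272) (BT.leaf (nat_lit 22890785)) (BT.leaf (nat_lit 47076625)))) (BT.node (nat_lit 7254464) (BT.node (nat_lit 7254400) (BT.leaf (nat_lit 25574165)) (BT.leaf (nat_lit 24129053))) (BT.node (nat_lit 7254528) (BT.leaf (nat_lit 24644633)) (BT.leaf (nat_lit 22884121))))) (BT.node (nat_lit 7254848) (BT.node (nat_lit 7254720) (BT.node (nat_lit 7254656) (BT.leaf (nat_lit 28434197)) (BT.leaf (nat_lit 22884125))) (BT.node (nat_lit 7254784) (BT.leaf (nat_lit 24808981)) (BT.leaf (nat_lit 27605521)))) (BT.node (nat_lit 7254976) (BT.node (nat_lit 7254912) (BT.leaf (nat_lit 23481621)) (BT.leaf (nat_lit 24714785))) (BT.node (nat_lit 7255040) (BT.leaf (nat_lit 23068445)) (BT.leaf (nat_lit 46428449)))))) (BT.node (nat_lit 7255616) (BT.node (nat_lit 7255360) (BT.node (nat_lit 7255232) (BT.node (nat_lit 7255168) (BT.leaf (nat_lit 35539213)) (BT.leaf (nat_lit 24714773))) (BT.node (nat_lit 7255296) (BT.leaf (nat_lit 24420105)) (BT.leaf (nat_lit 30934289)))) (BT.node (nat_lit 7255488) (BT.node (nat_lit 7255424) (BT.leaf (nat_lit 39170837)) (BT.leaf (nat_lit 47209757))) (BT.node (nat_lit 7255552) (BT.leaf (nat_lit 38796309)) (BT.leaf (nat_lit 47209989))))) (BT.node (nat_lit 7255872) (BT.node (nat_lit 7255744) (BT.node (nat_lit 7255680) (BT.leaf (nat_lit 40051217)) (BT.leaf (nat_lit 48101393))) (BT.node (nat_lit 7255808) (BT.leaf (nat_lit 36420641)) (BT.leaf (nat_lit 29410321)))) (BT.node (nat_lit 7256000) (BT.node (nat_lit 7255936) (BT.leaf (nat_lit 32075797)) (BT.leaf (nat_lit 24116497))) (BT.node (nat_lit 7256064) (BT.leaf (nat_lit 24116241)) (BT.leaf (nat_lit 22899989)))))))) (BT.node (nat_lit 7258176) (BT.node (nat_lit 7257152) (BT.node (nat_lit 7256640) (BT.node (nat_lit 7256384) (BT.node (nat_lit 7256256) (BT.node (nat_lit 7256192) (BT.leaf (nat_lit 23207193)) (BT.leaf (nat_lit 34520597))) (BT.node (nat_lit 7256320) (BT.leaf (nat_lit 22893089)) (BT.leaf (nat_lit 30929177)))) (BT.node (nat_lit 7256512) (BT.node (nat_lit 7256448) (BT.leaf (nat_lit 47210769)) (BT.leaf (nat_lit 29329937))) (BT.node (nat_lit 7256576) (BT.leaf (nat_lit 23553813)) (BT.leaf (nat_lit 27398929))))) (BT.node (nat_lit 7256896) (BT.node (nat_lit 7256768) (BT.node (nat_lit 7256704) (BT.leaf (nat_lit 22983445)) (BT.leaf (nat_lit 22894085))) (BT.node (nat_lit 7256832) (BT.leaf (nat_lit 32008717)) (BT.leaf (nat_lit 22894097)))) (BT.node (nat_lit 7257024) (BT.node (nat_lit 7256960) (BT.leaf (nat_lit 22893841)) (BT.leaf (nat_lit 48023053))) (BT.node (nat_lit 7257088) (BT.leaf (nat_lit 22893585)) (BT.leaf (nat_lit 22894865)))))) (BT.node (nat_lit 7257664) (BT.node (nat_lit 7257408) (BT.node (nat_lit 7257280) (BT.node (nat_lit 7257216) (BT.leaf (nat_lit 22894609)) (BT.leaf (nat_lit 27399193))) (BT.node (nat_lit 7257344) (BT.leaf (nat_lit 27399197)) (BT.leaf (nat_lit 30190857)))) (BT.node (nat_lit 7257536) (BT.node (nat_lit 7257472) (BT.leaf (nat_lit 47067397)) (BT.leaf (nat_lit 31585817))) (BT.node (nat_lit 7257600) (BT.leaf (nat_lit 47215637)) (BT.leaf (nat_lit 32283401))))) (BT.node (nat_lit 7257920) (BT.node (nat_lit 7257792) (BT.node (nat_lit 7257728) (BT.leaf (nat_lit 35354117)) (BT.leaf (nat_lit 47215365))) (BT.node (nat_lit 7257856) (BT.leaf (nat_lit 47215893)) (BT.leaf (nat_lit 30282245)))) (BT.node (nat_lit 7258048) (BT.node (nat_lit 7257984) (BT.leaf (nat_lit 47216925)) (BT.leaf (nat_lit 29023501))) (BT.node (nat_lit 7258112) (BT.leaf (nat_lit 24633889)) (BT.leaf (nat_lit 23401989))))))) (BT.node (nat_lit 7259264) (BT.node (nat_lit 7258688) (BT.node (nat_lit 7258432) (BT.node (nat_lit 7258304) (BT.node (nat_lit 7258240) (BT.leaf (nat_lit 40525841)) (BT.leaf (nat_lit 40525585))) (BT.node (nat_lit 7258368) (BT.leaf (nat_lit 23402009)) (BT.leaf (nat_lit 23402013)))) (BT.node (nat_lit 7258560) (BT.node (nat_lit 7258496) (BT.leaf (nat_lit 40525329)) (BT.leaf (nat_lit 48231941))) (BT.node (nat_lit 7258624) (BT.leaf (nat_lit 29034525)) (BT.leaf (nat_lit 47217429))))) (BT.node (nat_lit 7258944) (BT.node (nat_lit 7258816) (BT.node (nat_lit 7258752) (BT.leaf (nat_lit 47210265)) (BT.leaf (nat_lit 28095501))) (BT.node (nat_lit 7258880) (BT.leaf (nat_lit 47217941)) (BT.leaf (nat_lit 47210253)))) (BT.node (nat_lit 7259072) (BT.node (nat_lit 7259008) (BT.leaf (nat_lit 28095521)) (BT.leaf (nat_lit 31574805))) (BT.node (nat_lit 7259200) (BT.leaf (nat_lit 31681029)) (BT.leaf (nat_lit 48095253)))))) (BT.node (nat_lit 7259776) (BT.node (nat_lit 7259520) (BT.node (nat_lit 7259392) (BT.node (nat_lit 7259328) (BT.leaf (nat_lit 47218437)) (BT.leaf (nat_lit 40078093))) (BT.node (nat_lit 7259456) (BT.leaf (nat_lit 47219729)) (BT.leaf (nat_lit 46845709)))) (BT.node (nat_lit 7259648) (BT.node (nat_lit 7259584) (BT.leaf (nat_lit 25399061)) (BT.leaf (nat_lit 29038093))) (BT.node (nat_lit 7259712) (BT.leaf (nat_lit 27993121)) (BT.leaf (nat_lit 23206937))))) (BT.node (nat_lit 7260032) (BT.node (nat_lit 7259904) (BT.node (nat_lit 7259840) (BT.leaf (nat_lit 39398665)) (BT.leaf (nat_lit 29024029))) (BT.node (nat_lit 7259968) (BT.leaf (nat_lit 36930593)) (BT.leaf (nat_lit 22897413)))) (BT.node (nat_lit 7260160) (BT.node (nat_lit 7260096) (BT.leaf (nat_lit 34374681)) (BT.leaf (nat_lit 23187461))) (BT.node (nat_lit 7260224) (BT.leaf (nat_lit 23187477)) (BT.leaf (nat_lit 40535585))))))))) (BT.node (nat_lit 7264384) (BT.node (nat_lit 7262336) (BT.node (nat_lit 7261312) (BT.node (nat_lit 7260800) (BT.node (nat_lit 7260544) (BT.node (nat_lit 7260416) (BT.node (nat_lit 7260352) (BT.leaf (nat_lit 40535329)) (BT.leaf (nat_lit 38623237))) (BT.node (nat_lit 7260480) (BT.leaf (nat_lit 27991585)) (BT.leaf (nat_lit 25581845)))) (BT.node (nat_lit 7260672) (BT.node (nat_lit 7260608) (BT.leaf (nat_lit 29266437)) (BT.leaf (nat_lit 23207701))) (BT.node (nat_lit 7260736) (BT.leaf (nat_lit 23898641)) (BT.leaf (nat_lit 39851797))))) (BT.node (nat_lit 7261056) (BT.node (nat_lit 7260928) (BT.node (nat_lit 7260864) (BT.leaf (nat_lit 47224093)) (BT.leaf (nat_lit 47224593))) (BT.node (nat_lit 7260992) (BT.leaf (nat_lit 22899221)) (BT.leaf (nat_lit 40540961)))) (BT.node (nat_lit 7261184) (BT.node (nat_lit 7261120) (BT.leaf (nat_lit 23764505)) (BT.leaf (nat_lit 34204961))) (BT.node (nat_lit 7261248) (BT.leaf (nat_lit 47225105)) (BT.leaf (nat_lit 29024517)))))) (BT.node (nat_lit 7261824) (BT.node (nat_lit 7261568) (BT.node (nat_lit 7261440) (BT.node (nat_lit 7261376) (BT.leaf (nat_lit 23409177)) (BT.leaf (nat_lit 30134285))) (BT.node (nat_lit 7261504) (BT.leaf (nat_lit 24826901)) (BT.leaf (nat_lit 23204361)))) (BT.node (nat_lit 7261696) (BT.node (nat_lit 7261632) (BT.leaf (nat_lit 33888033)) (BT.leaf (nat_lit 33450005))) (BT.node (nat_lit 7261760) (BT.leaf (nat_lit 48129289)) (BT.leaf (nat_lit 47117597))))) (BT.node (nat_lit 7262080) (BT.node (nat_lit 7261952) (BT.node (nat_lit 7261888) (BT.leaf (nat_lit 35200289)) (BT.leaf (nat_lit 25832721))) (BT.node (nat_lit 7262016) (BT.leaf (nat_lit 34774049)) (BT.leaf (nat_lit 31764257)))) (BT.node (nat_lit 7262208) (BT.node (nat_lit 7262144) (BT.leaf (nat_lit 24808721)) (BT.leaf (nat_lit 34387733))) (BT.node (nat_lit 7262272) (BT.leaf (nat_lit 37549845)) (BT.leaf (nat_lit 26209809))))))) (BT.node (nat_lit 7263360) (BT.node (nat_lit 7262848) (BT.node (nat_lit 7262592) (BT.node (nat_lit 7262464) (BT.node (nat_lit 7262400) (BT.leaf (nat_lit 47227921)) (BT.leaf (nat_lit 35200545))) (BT.node (nat_lit 7262528) (BT.leaf (nat_lit 42960389)) (BT.leaf (nat_lit 46831633)))) (BT.node (nat_lit 7262720) (BT.node (nat_lit 7262656) (BT.leaf (nat_lit 23205909)) (BT.leaf (nat_lit 36139029))) (BT.node (nat_lit 7262784) (BT.leaf (nat_lit 27284769)) (BT.leaf (nat_lit 50308381))))) (BT.node (nat_lit 7263104) (BT.node (nat_lit 7262976) (BT.node (nat_lit 7262912) (BT.leaf (nat_lit 35202081)) (BT.leaf (nat_lit 50308365))) (BT.node (nat_lit 7263040) (BT.leaf (nat_lit 46850841)) (BT.leaf (nat_lit 24861217)))) (BT.node (nat_lit 7263232) (BT.node (nat_lit 7263168) (BT.leaf (nat_lit 48129305)) (BT.leaf (nat_lit 23840545))) (BT.node (nat_lit 7263296) (BT.leaf (nat_lit 28649489)) (BT.leaf (nat_lit 31889185)))))) (BT.node (nat_lit 7263872) (BT.node (nat_lit 7263616) (BT.node (nat_lit 7263488) (BT.node (nat_lit 7263424) (BT.leaf (nat_lit 31840545)) (BT.leaf (nat_lit 28648965))) (BT.node (nat_lit 7263552) (BT.leaf (nat_lit 36479777)) (BT.leaf (nat_lit 29057293)))) (BT.node (nat_lit 7263744) (BT.node (nat_lit 7263680) (BT.leaf (nat_lit 30811917)) (BT.leaf (nat_lit 23803921))) (BT.node (nat_lit 7263808) (BT.leaf (nat_lit 34977057)) (BT.leaf (nat_lit 29866529))))) (BT.node (nat_lit 7264128) (BT.node (nat_lit 7264000) (BT.node (nat_lit 7263936) (BT.leaf (nat_lit 27493409)) (BT.leaf (nat_lit 29865733))) (BT.node (nat_lit 7264064) (BT.leaf (nat_lit 35347221)) (BT.leaf (nat_lit 36797713)))) (BT.node (nat_lit 7264256) (BT.node (nat_lit 7264192) (BT.leaf (nat_lit 23803413)) (BT.leaf (nat_lit 23803417))) (BT.node (nat_lit 7264320) (BT.leaf (nat_lit 23803421)) (BT.leaf (nat_lit 23192853)))))))) (BT.node (nat_lit 7266432) (BT.node (nat_lit 7265408) (BT.node (nat_lit 7264896) (BT.node (nat_lit 7264640) (BT.node (nat_lit 7264512) (BT.node (nat_lit 7264448) (BT.leaf (nat_lit 30134301)) (BT.leaf (nat_lit 37394965))) (BT.node (nat_lit 7264576) (BT.leaf (nat_lit 47231765)) (BT.leaf (nat_lit 34173985)))) (BT.node (nat_lit 7264768) (BT.node (nat_lit 7264704) (BT.leaf (nat_lit 24407073)) (BT.leaf (nat_lit 24723737))) (BT.node (nat_lit 7264832) (BT.leaf (nat_lit 35346965)) (BT.leaf (nat_lit 24617221))))) (BT.node (nat_lit 7265152) (BT.node (nat_lit 7265024) (BT.node (nat_lit 7264960) (BT.leaf (nat_lit 22907929)) (BT.leaf (nat_lit 24617237))) (BT.node (nat_lit 7265088) (BT.leaf (nat_lit 22907933)) (BT.leaf (nat_lit 45433621)))) (BT.node (nat_lit 7265280) (BT.node (nat_lit 7265216) (BT.leaf (nat_lit 24521237)) (BT.leaf (nat_lit 32535557))) (BT.node (nat_lit 7265344) (BT.leaf (nat_lit 22908689)) (BT.leaf (nat_lit 22908433)))))) (BT.node (nat_lit 7265920) (BT.node (nat_lit 7265664) (BT.node (nat_lit 7265536) (BT.node (nat_lit 7265472) (BT.leaf (nat_lit 32535577)) (BT.leaf (nat_lit 51844369))) (BT.node (nat_lit 7265600) (BT.leaf (nat_lit 29061897)) (BT.leaf (nat_lit 47232265)))) (BT.node (nat_lit 7265792) (BT.node (nat_lit 7265728) (BT.leaf (nat_lit 31558933)) (BT.leaf (nat_lit 27489561))) (BT.node (nat_lit 7265856) (BT.leaf (nat_lit 29682713)) (BT.leaf (nat_lit 31772165))))) (BT.node (nat_lit 7266176) (BT.node (nat_lit 7266048) (BT.node (nat_lit 7265984) (BT.leaf (nat_lit 47230749)) (BT.leaf (nat_lit 31984645))) (BT.node (nat_lit 7266112) (BT.leaf (nat_lit 22910225)) (BT.leaf (nat_lit 22909969)))) (BT.node (nat_lit 7266304) (BT.node (nat_lit 7266240) (BT.leaf (nat_lit 24836633)) (BT.leaf (nat_lit 24836637))) (BT.node (nat_lit 7266368) (BT.leaf (nat_lit 22909713)) (BT.leaf (nat_lit 22909717))))))) (BT.node (nat_lit 7267456) (BT.node (nat_lit 7266944) (BT.node (nat_lit 7266688) (BT.node (nat_lit 7266560) (BT.node (nat_lit 7266496) (BT.leaf (nat_lit 22910481)) (BT.leaf (nat_lit 22712337))) (BT.node (nat_lit 7266624) (BT.leaf (nat_lit 38249241)) (BT.leaf (nat_lit 35396361)))) (BT.node (nat_lit 7266816) (BT.node (nat_lit 7266752) (BT.leaf (nat_lit 22911513)) (BT.leaf (nat_lit 25176341))) (BT.node (nat_lit 7266880) (BT.leaf (nat_lit 34380309)) (BT.leaf (nat_lit 25176601))))) (BT.node (nat_lit 7267200) (BT.node (nat_lit 7267072) (BT.node (nat_lit 7267008) (BT.leaf (nat_lit 30676997)) (BT.leaf (nat_lit 28272673))) (BT.node (nat_lit 7267136) (BT.leaf (nat_lit 29071893)) (BT.leaf (nat_lit 35255573)))) (BT.node (nat_lit 7267328) (BT.node (nat_lit 7267264) (BT.leaf (nat_lit 34457621)) (BT.leaf (nat_lit 29068573))) (BT.node (nat_lit 7267392) (BT.leaf (nat_lit 33260057)) (BT.leaf (nat_lit 40589829)))))) (BT.node (nat_lit 7267968) (BT.node (nat_lit 7267712) (BT.node (nat_lit 7267584) (BT.node (nat_lit 7267520) (BT.leaf (nat_lit 38078753)) (BT.leaf (nat_lit 24723489))) (BT.node (nat_lit 7267648) (BT.leaf (nat_lit 38078981)) (BT.leaf (nat_lit 29072389)))) (BT.node (nat_lit 7267840) (BT.node (nat_lit 7267776) (BT.leaf (nat_lit 33106709)) (BT.leaf (nat_lit 25176853))) (BT.node (nat_lit 7267904) (BT.leaf (nat_lit 22912529)) (BT.leaf (nat_lit 38058245))))) (BT.node (nat_lit 7268224) (BT.node (nat_lit 7268096) (BT.node (nat_lit 7268032) (BT.leaf (nat_lit 24287009)) (BT.leaf (nat_lit 47235093))) (BT.node (nat_lit 7268160) (BT.leaf (nat_lit 28871457)) (BT.leaf (nat_lit 27516705)))) (BT.node (nat_lit 7268352) (BT.node (nat_lit 7268288) (BT.leaf (nat_lit 25363221)) (BT.leaf (nat_lit 40582945))) (BT.node (nat_lit 7268416) (BT.leaf (nat_lit 40583201)) (BT.leaf (nat_lit 40583429)))))))))))) (BT.node (nat_lit 7301056) (BT.node (nat_lit 7284864) (BT.node (nat_lit 7276672) (BT.node (nat_lit 7272576) (BT.node (nat_lit 7270528) (BT.node (nat_lit 7269504) (BT.node (nat_lit 7268992) (BT.node (nat_lit 7268736) (BT.node (nat_lit 7268608) (BT.node (nat_lit 7268544) (BT.leaf (nat_lit 40583969)) (BT.leaf (nat_lit 40583713))) (BT.node (nat_lit 7268672) (BT.leaf (nat_lit 39634185)) (BT.leaf (nat_lit 25790469)))) (BT.node (nat_lit 7268864) (BT.node (nat_lit 7268800) (BT.leaf (nat_lit 47236869)) (BT.leaf (nat_lit 24451869))) (BT.node (nat_lit 7268928) (BT.leaf (nat_lit 40590113)) (BT.leaf (nat_lit 30986001))))) (BT.node (nat_lit 7269248) (BT.node (nat_lit 7269120) (BT.node (nat_lit 7269056) (BT.leaf (nat_lit 35097109)) (BT.leaf (nat_lit 22912017))) (BT.node (nat_lit 7269184) (BT.leaf (nat_lit 25842977)) (BT.leaf (nat_lit 33148953)))) (BT.node (nat_lit 7269376) (BT.node (nat_lit 7269312) (BT.leaf (nat_lit 29323025)) (BT.leaf (nat_lit 28079901))) (BT.node (nat_lit 7269440) (BT.leaf (nat_lit 23582725)) (BT.leaf (nat_lit 22913553)))))) (BT.node (nat_lit 7270016) (BT.node (nat_lit 7269760) (BT.node (nat_lit 7269632) (BT.node (nat_lit 7269568) (BT.leaf (nat_lit 37677089)) (BT.leaf (nat_lit 25985041))) (BT.node (nat_lit 7269696) (BT.leaf (nat_lit 33989641)) (BT.leaf (nat_lit 31532549)))) (BT.node (nat_lit 7269888) (BT.node (nat_lit 7269824) (BT.leaf (nat_lit 33989661)) (BT.leaf (nat_lit 31533089))) (BT.node (nat_lit 7269952) (BT.leaf (nat_lit 33990421)) (BT.leaf (nat_lit 24526365))))) (BT.node (nat_lit 7270272) (BT.node (nat_lit 7270144) (BT.node (nat_lit 7270080) (BT.leaf (nat_lit 24167953)) (BT.leaf (nat_lit 29096725))) (BT.node (nat_lit 7270208) (BT.leaf (nat_lit 27408921)) (BT.leaf (nat_lit 27344133)))) (BT.node (nat_lit 7270400) (BT.node (nat_lit 7270336) (BT.leaf (nat_lit 30967057)) (BT.leaf (nat_lit 47238165))) (BT.node (nat_lit 7270464) (BT.leaf (nat_lit 36011805)) (BT.leaf (nat_lit 24526349))))))) (BT.node (nat_lit 7271552) (BT.node (nat_lit 7271040) (BT.node (nat_lit 7270784) (BT.node (nat_lit 7270656) (BT.node (nat_lit 7270592) (BT.leaf (nat_lit 26771477)) (BT.leaf (nat_lit 23298325))) (BT.node (nat_lit 7270720) (BT.leaf (nat_lit 47239961)) (BT.leaf (nat_lit 35071753)))) (BT.node (nat_lit 7270912) (BT.node (nat_lit 7270848) (BT.leaf (nat_lit 34343429)) (BT.leaf (nat_lit 33664801))) (BT.node (nat_lit 7270976) (BT.leaf (nat_lit 28543761)) (BT.leaf (nat_lit 31128069))))) (BT.node (nat_lit 7271296) (BT.node (nat_lit 7271168) (BT.node (nat_lit 7271104) (BT.leaf (nat_lit 29084697)) (BT.leaf (nat_lit 28207889))) (BT.node (nat_lit 7271232) (BT.leaf (nat_lit 28207905)) (BT.leaf (nat_lit 49031457)))) (BT.node (nat_lit 7271424) (BT.node (nat_lit 7271360) (BT.leaf (nat_lit 29128729)) (BT.leaf (nat_lit 23682337))) (BT.node (nat_lit 7271488) (BT.leaf (nat_lit 27661317)) (BT.leaf (nat_lit 24255001)))))) (BT.node (nat_lit 7272064) (BT.node (nat_lit 7271808) (BT.node (nat_lit 7271680) (BT.node (nat_lit 7271616) (BT.leaf (nat_lit 25947681)) (BT.leaf (nat_lit 28270865))) (BT.node (nat_lit 7271744) (BT.leaf (nat_lit 27749913)) (BT.leaf (nat_lit 33803025)))) (BT.node (nat_lit 7271936) (BT.node (nat_lit 7271872) (BT.leaf (nat_lit 35019013)) (BT.leaf (nat_lit 50896397))) (BT.node (nat_lit 7272000) (BT.leaf (nat_lit 33103369)) (BT.leaf (nat_lit 27496205))))) (BT.node (nat_lit 7272320) (BT.node (nat_lit 7272192) (BT.node (nat_lit 7272128) (BT.leaf (nat_lit 40306969)) (BT.leaf (nat_lit 29145609))) (BT.node (nat_lit 7272256) (BT.leaf (nat_lit 22755609)) (BT.leaf (nat_lit 47243285)))) (BT.node (nat_lit 7272448) (BT.node (nat_lit 7272384) (BT.leaf (nat_lit 47243797)) (BT.leaf (nat_lit 29939981))) (BT.node (nat_lit 7272512) (BT.leaf (nat_lit 34007313)) (BT.leaf (nat_lit 22923809)))))))) (BT.node (nat_lit 7274624) (BT.node (nat_lit 7273600) (BT.node (nat_lit 7273088) (BT.node (nat_lit 7272832) (BT.node (nat_lit 7272704) (BT.node (nat_lit 7272640) (BT.leaf (nat_lit 27518737)) (BT.leaf (nat_lit 22972681))) (BT.node (nat_lit 7272768) (BT.leaf (nat_lit 31155729)) (BT.leaf (nat_lit 30541857)))) (BT.node (nat_lit 7272960) (BT.node (nat_lit 7272896) (BT.leaf (nat_lit 24646665)) (BT.leaf (nat_lit 28046109))) (BT.node (nat_lit 7273024) (BT.leaf (nat_lit 34119941)) (BT.leaf (nat_lit 47246877))))) (BT.node (nat_lit 7273344) (BT.node (nat_lit 7273216) (BT.node (nat_lit 7273152) (BT.leaf (nat_lit 47246353)) (BT.leaf (nat_lit 37786145))) (BT.node (nat_lit 7273280) (BT.leaf (nat_lit 31407113)) (BT.leaf (nat_lit 29232901)))) (BT.node (nat_lit 7273472) (BT.node (nat_lit 7273408) (BT.leaf (nat_lit 47799305)) (BT.leaf (nat_lit 32384281))) (BT.node (nat_lit 7273536) (BT.leaf (nat_lit 22924049)) (BT.leaf (nat_lit 22337297)))))) (BT.node (nat_lit 7274112) (BT.node (nat_lit 7273856) (BT.node (nat_lit 7273728) (BT.node (nat_lit 7273664) (BT.leaf (nat_lit 27460117)) (BT.leaf (nat_lit 25210385))) (BT.node (nat_lit 7273792) (BT.leaf (nat_lit 29781265)) (BT.leaf (nat_lit 47248649)))) (BT.node (nat_lit 7273984) (BT.node (nat_lit 7273920) (BT.leaf (nat_lit 23228933)) (BT.leaf (nat_lit 43281425))) (BT.node (nat_lit 7274048) (BT.leaf (nat_lit 38095133)) (BT.leaf (nat_lit 46523421))))) (BT.node (nat_lit 7274368) (BT.node (nat_lit 7274240) (BT.node (nat_lit 7274176) (BT.leaf (nat_lit 28410389)) (BT.leaf (nat_lit 47249693))) (BT.node (nat_lit 7274304) (BT.leaf (nat_lit 33991441)) (BT.leaf (nat_lit 30855689)))) (BT.node (nat_lit 7274496) (BT.node (nat_lit 7274432) (BT.leaf (nat_lit 47250453)) (BT.leaf (nat_lit 28521241))) (BT.node (nat_lit 7274560) (BT.leaf (nat_lit 28521249)) (BT.leaf (nat_lit 31067157))))))) (BT.node (nat_lit 7275648) (BT.node (nat_lit 7275136) (BT.node (nat_lit 7274880) (BT.node (nat_lit 7274752) (BT.node (nat_lit 7274688) (BT.leaf (nat_lit 31067161)) (BT.leaf (nat_lit 28410645))) (BT.node (nat_lit 7274816) (BT.leaf (nat_lit 47251461)) (BT.leaf (nat_lit 46964501)))) (BT.node (nat_lit 7275008) (BT.node (nat_lit 7274944) (BT.leaf (nat_lit 34037789)) (BT.leaf (nat_lit 46326797))) (BT.node (nat_lit 7275072) (BT.leaf (nat_lit 24526361)) (BT.leaf (nat_lit 23422753))))) (BT.node (nat_lit 7275392) (BT.node (nat_lit 7275264) (BT.node (nat_lit 7275200) (BT.leaf (nat_lit 47252245)) (BT.leaf (nat_lit 27650337))) (BT.node (nat_lit 7275328) (BT.leaf (nat_lit 23834385)) (BT.leaf (nat_lit 33216533)))) (BT.node (nat_lit 7275520) (BT.node (nat_lit 7275456) (BT.leaf (nat_lit 22929937)) (BT.leaf (nat_lit 47092001))) (BT.node (nat_lit 7275584) (BT.leaf (nat_lit 34907169)) (BT.leaf (nat_lit 24628509)))))) (BT.node (nat_lit 7276160) (BT.node (nat_lit 7275904) (BT.node (nat_lit 7275776) (BT.node (nat_lit 7275712) (BT.leaf (nat_lit 35697181)) (BT.leaf (nat_lit 23045909))) (BT.node (nat_lit 7275840) (BT.leaf (nat_lit 22931217)) (BT.leaf (nat_lit 22930705)))) (BT.node (nat_lit 7276032) (BT.node (nat_lit 7275968) (BT.leaf (nat_lit 41588749)) (BT.leaf (nat_lit 49889569))) (BT.node (nat_lit 7276096) (BT.leaf (nat_lit 49889541)) (BT.leaf (nat_lit 24643857))))) (BT.node (nat_lit 7276416) (BT.node (nat_lit 7276288) (BT.node (nat_lit 7276224) (BT.leaf (nat_lit 48015109)) (BT.leaf (nat_lit 27545621))) (BT.node (nat_lit 7276352) (BT.leaf (nat_lit 50447137)) (BT.leaf (nat_lit 36843525)))) (BT.node (nat_lit 7276544) (BT.node (nat_lit 7276480) (BT.leaf (nat_lit 47256085)) (BT.leaf (nat_lit 47256341))) (BT.node (nat_lit 7276608) (BT.leaf (nat_lit 29105929)) (BT.leaf (nat_lit 28562201))))))))) (BT.node (nat_lit 7280768) (BT.node (nat_lit 7278720) (BT.node (nat_lit 7277696) (BT.node (nat_lit 7277184) (BT.node (nat_lit 7276928) (BT.node (nat_lit 7276800) (BT.node (nat_lit 7276736) (BT.leaf (nat_lit 47256581)) (BT.leaf (nat_lit 31319069))) (BT.node (nat_lit 7276864) (BT.leaf (nat_lit 50404885)) (BT.leaf (nat_lit 29018129)))) (BT.node (nat_lit 7277056) (BT.node (nat_lit 7276992) (BT.leaf (nat_lit 28434193)) (BT.leaf (nat_lit 24861465))) (BT.node (nat_lit 7277120) (BT.leaf (nat_lit 50268421)) (BT.leaf (nat_lit 29867269))))) (BT.node (nat_lit 7277440) (BT.node (nat_lit 7277312) (BT.node (nat_lit 7277248) (BT.leaf (nat_lit 23364117)) (BT.leaf (nat_lit 28444701))) (BT.node (nat_lit 7277376) (BT.leaf (nat_lit 23668497)) (BT.leaf (nat_lit 22935837)))) (BT.node (nat_lit 7277568) (BT.node (nat_lit 7277504) (BT.leaf (nat_lit 23945221)) (BT.leaf (nat_lit 23945237))) (BT.node (nat_lit 7277632) (BT.leaf (nat_lit 38995221)) (BT.leaf (nat_lit 34901537)))))) (BT.node (nat_lit 7278208) (BT.node (nat_lit 7277952) (BT.node (nat_lit 7277824) (BT.node (nat_lit 7277760) (BT.leaf (nat_lit 24727057)) (BT.leaf (nat_lit 33479453))) (BT.node (nat_lit 7277888) (BT.leaf (nat_lit 40643085)) (BT.leaf (nat_lit 30125061)))) (BT.node (nat_lit 7278080) (BT.node (nat_lit 7278016) (BT.leaf (nat_lit 48760841)) (BT.leaf (nat_lit 29107481))) (BT.node (nat_lit 7278144) (BT.leaf (nat_lit 24044049)) (BT.leaf (nat_lit 27939333))))) (BT.node (nat_lit 7278464) (BT.node (nat_lit 7278336) (BT.node (nat_lit 7278272) (BT.leaf (nat_lit 33018389)) (BT.leaf (nat_lit 27909665))) (BT.node (nat_lit 7278400) (BT.leaf (nat_lit 47259925)) (BT.leaf (nat_lit 23894049)))) (BT.node (nat_lit 7278592) (BT.node (nat_lit 7278528) (BT.leaf (nat_lit 22936601)) (BT.leaf (nat_lit 22936605))) (BT.node (nat_lit 7278656) (BT.leaf (nat_lit 22936861)) (BT.leaf (nat_lit 35093025))))))) (BT.node (nat_lit 7279744) (BT.node (nat_lit 7279232) (BT.node (nat_lit 7278976) (BT.node (nat_lit 7278848) (BT.node (nat_lit 7278784) (BT.leaf (nat_lit 31532305)) (BT.leaf (nat_lit 35093281))) (BT.node (nat_lit 7278912) (BT.leaf (nat_lit 47260449)) (BT.leaf (nat_lit 28968221)))) (BT.node (nat_lit 7279104) (BT.node (nat_lit 7279040) (BT.leaf (nat_lit 26165525)) (BT.leaf (nat_lit 47260961))) (BT.node (nat_lit 7279168) (BT.leaf (nat_lit 49032473)) (BT.leaf (nat_lit 48337421))))) (BT.node (nat_lit 7279488) (BT.node (nat_lit 7279360) (BT.node (nat_lit 7279296) (BT.leaf (nat_lit 22938133)) (BT.leaf (nat_lit 32261393))) (BT.node (nat_lit 7279424) (BT.leaf (nat_lit 33931553)) (BT.leaf (nat_lit 28522513)))) (BT.node (nat_lit 7279616) (BT.node (nat_lit 7279552) (BT.leaf (nat_lit 22937877)) (BT.leaf (nat_lit 31377181))) (BT.node (nat_lit 7279680) (BT.leaf (nat_lit 46443785)) (BT.leaf (nat_lit 34304289)))))) (BT.node (nat_lit 7280256) (BT.node (nat_lit 7280000) (BT.node (nat_lit 7279872) (BT.node (nat_lit 7279808) (BT.leaf (nat_lit 33443105)) (BT.leaf (nat_lit 34008581))) (BT.node (nat_lit 7279936) (BT.leaf (nat_lit 33870605)) (BT.leaf (nat_lit 46413073)))) (BT.node (nat_lit 7280128) (BT.node (nat_lit 7280064) (BT.leaf (nat_lit 30432777)) (BT.leaf (nat_lit 46682145))) (BT.node (nat_lit 7280192) (BT.leaf (nat_lit 30432789)) (BT.leaf (nat_lit 30432793))))) (BT.node (nat_lit 7280512) (BT.node (nat_lit 7280384) (BT.node (nat_lit 7280320) (BT.leaf (nat_lit 30432797)) (BT.leaf (nat_lit 29720337))) (BT.node (nat_lit 7280448) (BT.leaf (nat_lit 22941205)) (BT.leaf (nat_lit 28826889)))) (BT.node (nat_lit 7280640) (BT.node (nat_lit 7280576) (BT.leaf (nat_lit 36629269)) (BT.leaf (nat_lit 27496477))) (BT.node (nat_lit 7280704) (BT.leaf (nat_lit 32651297)) (BT.leaf (nat_lit 25871129)))))))) (BT.node (nat_lit 7282816) (BT.node (nat_lit 7281792) (BT.node (nat_lit 7281280) (BT.node (nat_lit 7281024) (BT.node (nat_lit 7280896) (BT.node (nat_lit 7280832) (BT.leaf (nat_lit 47265297)) (BT.leaf (nat_lit 22324501))) (BT.node (nat_lit 7280960) (BT.leaf (nat_lit 47770885)) (BT.leaf (nat_lit 30818849)))) (BT.node (nat_lit 7281152) (BT.node (nat_lit 7281088) (BT.leaf (nat_lit 32651277)) (BT.leaf (nat_lit 47267605))) (BT.node (nat_lit 7281216) (BT.leaf (nat_lit 26037525)) (BT.leaf (nat_lit 32651545))))) (BT.node (nat_lit 7281536) (BT.node (nat_lit 7281408) (BT.node (nat_lit 7281344) (BT.leaf (nat_lit 33636893)) (BT.leaf (nat_lit 33411357))) (BT.node (nat_lit 7281472) (BT.leaf (nat_lit 35642129)) (BT.leaf (nat_lit 29125657)))) (BT.node (nat_lit 7281664) (BT.node (nat_lit 7281600) (BT.leaf (nat_lit 47268113)) (BT.leaf (nat_lit 35052041))) (BT.node (nat_lit 7281728) (BT.leaf (nat_lit 35043077)) (BT.leaf (nat_lit 47268877)))))) (BT.node (nat_lit 7282304) (BT.node (nat_lit 7282048) (BT.node (nat_lit 7281920) (BT.node (nat_lit 7281856) (BT.leaf (nat_lit 47269141)) (BT.leaf (nat_lit 35399181))) (BT.node (nat_lit 7281984) (BT.leaf (nat_lit 24806661)) (BT.leaf (nat_lit 33959201)))) (BT.node (nat_lit 7282176) (BT.node (nat_lit 7282112) (BT.leaf (nat_lit 47269921)) (BT.leaf (nat_lit 47269897))) (BT.node (nat_lit 7282240) (BT.leaf (nat_lit 23118101)) (BT.leaf (nat_lit 23116833))))) (BT.node (nat_lit 7282560) (BT.node (nat_lit 7282432) (BT.node (nat_lit 7282368) (BT.leaf (nat_lit 29147169)) (BT.leaf (nat_lit 39106309))) (BT.node (nat_lit 7282496) (BT.leaf (nat_lit 29130013)) (BT.leaf (nat_lit 47270933)))) (BT.node (nat_lit 7282688) (BT.node (nat_lit 7282624) (BT.leaf (nat_lit 24338705)) (BT.leaf (nat_lit 47271953))) (BT.node (nat_lit 7282752) (BT.leaf (nat_lit 39103509)) (BT.leaf (nat_lit 51515153))))))) (BT.node (nat_lit 7283840) (BT.node (nat_lit 7283328) (BT.node (nat_lit 7283072) (BT.node (nat_lit 7282944) (BT.node (nat_lit 7282880) (BT.leaf (nat_lit 22948881)) (BT.leaf (nat_lit 22948369))) (BT.node (nat_lit 7283008) (BT.leaf (nat_lit 31593761)) (BT.leaf (nat_lit 24609309)))) (BT.node (nat_lit 7283200) (BT.node (nat_lit 7283136) (BT.leaf (nat_lit 22949393)) (BT.leaf (nat_lit 22947857))) (BT.node (nat_lit 7283264) (BT.leaf (nat_lit 22918417)) (BT.leaf (nat_lit 23763985))))) (BT.node (nat_lit 7283584) (BT.node (nat_lit 7283456) (BT.node (nat_lit 7283392) (BT.leaf (nat_lit 22949905)) (BT.leaf (nat_lit 22949649))) (BT.node (nat_lit 7283520) (BT.leaf (nat_lit 47979277)) (BT.leaf (nat_lit 33029661)))) (BT.node (nat_lit 7283712) (BT.node (nat_lit 7283648) (BT.leaf (nat_lit 24688417)) (BT.leaf (nat_lit 23697941))) (BT.node (nat_lit 7283776) (BT.leaf (nat_lit 24337185)) (BT.leaf (nat_lit 23619337)))))) (BT.node (nat_lit 7284352) (BT.node (nat_lit 7284096) (BT.node (nat_lit 7283968) (BT.node (nat_lit 7283904) (BT.leaf (nat_lit 24688661)) (BT.leaf (nat_lit 24701973))) (BT.node (nat_lit 7284032) (BT.leaf (nat_lit 23122453)) (BT.leaf (nat_lit 29234973)))) (BT.node (nat_lit 7284224) (BT.node (nat_lit 7284160) (BT.leaf (nat_lit 24247073)) (BT.leaf (nat_lit 22951697))) (BT.node (nat_lit 7284288) (BT.leaf (nat_lit 47275297)) (BT.leaf (nat_lit 27748633))))) (BT.node (nat_lit 7284608) (BT.node (nat_lit 7284480) (BT.node (nat_lit 7284416) (BT.leaf (nat_lit 27748637)) (BT.leaf (nat_lit 31874309))) (BT.node (nat_lit 7284544) (BT.leaf (nat_lit 30653961)) (BT.leaf (nat_lit 23153937)))) (BT.node (nat_lit 7284736) (BT.node (nat_lit 7284672) (BT.leaf (nat_lit 40686357)) (BT.leaf (nat_lit 51501577))) (BT.node (nat_lit 7284800) (BT.leaf (nat_lit 47277341)) (BT.leaf (nat_lit 22438425)))))))))) (BT.node (nat_lit 7292992) (BT.node (nat_lit 7288960) (BT.node (nat_lit 7286912) (BT.node (nat_lit 7285888) (BT.node (nat_lit 7285376) (BT.node (nat_lit 7285120) (BT.node (nat_lit 7284992) (BT.node (nat_lit 7284928) (BT.leaf (nat_lit 23153429)) (BT.leaf (nat_lit 40516369))) (BT.node (nat_lit 7285056) (BT.leaf (nat_lit 22954513)) (BT.leaf (nat_lit 22954257)))) (BT.node (nat_lit 7285248) (BT.node (nat_lit 7285184) (BT.leaf (nat_lit 25663517)) (BT.leaf (nat_lit 22946577))) (BT.node (nat_lit 7285312) (BT.leaf (nat_lit 22954761)) (BT.leaf (nat_lit 23769369))))) (BT.node (nat_lit 7285632) (BT.node (nat_lit 7285504) (BT.node (nat_lit 7285440) (BT.leaf (nat_lit 25957909)) (BT.leaf (nat_lit 25958161))) (BT.node (nat_lit 7285568) (BT.leaf (nat_lit 29142285)) (BT.leaf (nat_lit 32739861)))) (BT.node (nat_lit 7285760) (BT.node (nat_lit 7285696) (BT.leaf (nat_lit 23464989)) (BT.leaf (nat_lit 27296281))) (BT.node (nat_lit 7285824) (BT.leaf (nat_lit 27296285)) (BT.leaf (nat_lit 30572293)))))) (BT.node (nat_lit 7286400) (BT.node (nat_lit 7286144) (BT.node (nat_lit 7286016) (BT.node (nat_lit 7285952) (BT.leaf (nat_lit 30708513)) (BT.leaf (nat_lit 47279877))) (BT.node (nat_lit 7286080) (BT.leaf (nat_lit 30444577)) (BT.leaf (nat_lit 24507937)))) (BT.node (nat_lit 7286272) (BT.node (nat_lit 7286208) (BT.leaf (nat_lit 23001097)) (BT.leaf (nat_lit 29144601))) (BT.node (nat_lit 7286336) (BT.leaf (nat_lit 39100677)) (BT.leaf (nat_lit 29145629))))) (BT.node (nat_lit 7286656) (BT.node (nat_lit 7286528) (BT.node (nat_lit 7286464) (BT.leaf (nat_lit 40829957)) (BT.leaf (nat_lit 28249093))) (BT.node (nat_lit 7286592) (BT.leaf (nat_lit 30837793)) (BT.leaf (nat_lit 32684301)))) (BT.node (nat_lit 7286784) (BT.node (nat_lit 7286720) (BT.leaf (nat_lit 40829965)) (BT.leaf (nat_lit 24220945))) (BT.node (nat_lit 7286848) (BT.leaf (nat_lit 41577229)) (BT.leaf (nat_lit 33475873))))))) (BT.node (nat_lit 7287936) (BT.node (nat_lit 7287424) (BT.node (nat_lit 7287168) (BT.node (nat_lit 7287040) (BT.node (nat_lit 7286976) (BT.leaf (nat_lit 35804449)) (BT.leaf (nat_lit 31116061))) (BT.node (nat_lit 7287104) (BT.leaf (nat_lit 48483873)) (BT.leaf (nat_lit 33861129)))) (BT.node (nat_lit 7287296) (BT.node (nat_lit 7287232) (BT.leaf (nat_lit 22958353)) (BT.leaf (nat_lit 30444553))) (BT.node (nat_lit 7287360) (BT.leaf (nat_lit 47284245)) (BT.leaf (nat_lit 31762721))))) (BT.node (nat_lit 7287680) (BT.node (nat_lit 7287552) (BT.node (nat_lit 7287488) (BT.leaf (nat_lit 37900049)) (BT.leaf (nat_lit 38511365))) (BT.node (nat_lit 7287616) (BT.leaf (nat_lit 27758109)) (BT.leaf (nat_lit 32988177)))) (BT.node (nat_lit 7287808) (BT.node (nat_lit 7287744) (BT.leaf (nat_lit 35709461)) (BT.leaf (nat_lit 29429785))) (BT.node (nat_lit 7287872) (BT.leaf (nat_lit 30778641)) (BT.leaf (nat_lit 29150733)))))) (BT.node (nat_lit 7288448) (BT.node (nat_lit 7288192) (BT.node (nat_lit 7288064) (BT.node (nat_lit 7288000) (BT.leaf (nat_lit 28625949)) (BT.leaf (nat_lit 24426253))) (BT.node (nat_lit 7288128) (BT.leaf (nat_lit 47287585)) (BT.leaf (nat_lit 47286541)))) (BT.node (nat_lit 7288320) (BT.node (nat_lit 7288256) (BT.leaf (nat_lit 47288085)) (BT.leaf (nat_lit 47288337))) (BT.node (nat_lit 7288384) (BT.leaf (nat_lit 47004957)) (BT.leaf (nat_lit 46977553))))) (BT.node (nat_lit 7288704) (BT.node (nat_lit 7288576) (BT.node (nat_lit 7288512) (BT.leaf (nat_lit 28801553)) (BT.leaf (nat_lit 30161693))) (BT.node (nat_lit 7288640) (BT.leaf (nat_lit 23932437)) (BT.leaf (nat_lit 24152341)))) (BT.node (nat_lit 7288832) (BT.node (nat_lit 7288768) (BT.leaf (nat_lit 47290905)) (BT.leaf (nat_lit 31811345))) (BT.node (nat_lit 7288896) (BT.leaf (nat_lit 24152849)) (BT.leaf (nat_lit 22958613)))))))) (BT.node (nat_lit 7290944) (BT.node (nat_lit 7289920) (BT.node (nat_lit 7289472) (BT.node (nat_lit 7289216) (BT.node (nat_lit 7289088) (BT.node (nat_lit 7289024) (BT.leaf (nat_lit 24152865)) (BT.leaf (nat_lit 22960401))) (BT.node (nat_lit 7289152) (BT.leaf (nat_lit 34822661)) (BT.leaf (nat_lit 22960661)))) (BT.node (nat_lit 7289344) (BT.node (nat_lit 7289280) (BT.leaf (nat_lit 40853777)) (BT.leaf (nat_lit 47291425))) (BT.node (nat_lit 7289408) (BT.leaf (nat_lit 36201733)) (BT.leaf (nat_lit 30483729))))) (BT.node (nat_lit 7289664) (BT.node (nat_lit 7289541) (BT.node (nat_lit 7289536) (BT.leaf (nat_lit 32311045)) (BT.leaf (nat_lit 27600917))) (BT.node (nat_lit 7289600) (BT.leaf (nat_lit 508128)) (BT.leaf (nat_lit 29327377)))) (BT.node (nat_lit 7289792) (BT.node (nat_lit 7289728) (BT.leaf (nat_lit 22962197)) (BT.leaf (nat_lit 23269897))) (BT.node (nat_lit 7289856) (BT.leaf (nat_lit 23269901)) (BT.leaf (nat_lit 22962965)))))) (BT.node (nat_lit 7290432) (BT.node (nat_lit 7290176) (BT.node (nat_lit 7290048) (BT.node (nat_lit 7289984) (BT.leaf (nat_lit 30580249)) (BT.leaf (nat_lit 22962457))) (BT.node (nat_lit 7290112) (BT.leaf (nat_lit 28108301)) (BT.leaf (nat_lit 24312593)))) (BT.node (nat_lit 7290304) (BT.node (nat_lit 7290240) (BT.leaf (nat_lit 22961693)) (BT.leaf (nat_lit 22962461))) (BT.node (nat_lit 7290368) (BT.leaf (nat_lit 22962717)) (BT.leaf (nat_lit 28121621))))) (BT.node (nat_lit 7290688) (BT.node (nat_lit 7290560) (BT.node (nat_lit 7290496) (BT.leaf (nat_lit 22961689)) (BT.leaf (nat_lit 47294485))) (BT.node (nat_lit 7290624) (BT.leaf (nat_lit 34677509)) (BT.leaf (nat_lit 47294469)))) (BT.node (nat_lit 7290816) (BT.node (nat_lit 7290752) (BT.leaf (nat_lit 31304473)) (BT.leaf (nat_lit 27438353))) (BT.node (nat_lit 7290880) (BT.leaf (nat_lit 24528661)) (BT.leaf (nat_lit 29089037))))))) (BT.node (nat_lit 7291968) (BT.node (nat_lit 7291456) (BT.node (nat_lit 7291200) (BT.node (nat_lit 7291072) (BT.node (nat_lit 7291008) (BT.leaf (nat_lit 37444629)) (BT.leaf (nat_lit 38668309))) (BT.node (nat_lit 7291136) (BT.leaf (nat_lit 35936281)) (BT.leaf (nat_lit 22964761)))) (BT.node (nat_lit 7291328) (BT.node (nat_lit 7291264) (BT.leaf (nat_lit 22965277)) (BT.leaf (nat_lit 25472285))) (BT.node (nat_lit 7291392) (BT.leaf (nat_lit 22964765)) (BT.leaf (nat_lit 27377169))))) (BT.node (nat_lit 7291712) (BT.node (nat_lit 7291584) (BT.node (nat_lit 7291520) (BT.leaf (nat_lit 40151573)) (BT.leaf (nat_lit 22965273))) (BT.node (nat_lit 7291648) (BT.leaf (nat_lit 28405013)) (BT.leaf (nat_lit 28405021)))) (BT.node (nat_lit 7291840) (BT.node (nat_lit 7291776) (BT.leaf (nat_lit 22437393)) (BT.leaf (nat_lit 22969625))) (BT.node (nat_lit 7291904) (BT.leaf (nat_lit 28528153)) (BT.leaf (nat_lit 28528157)))))) (BT.node (nat_lit 7292480) (BT.node (nat_lit 7292224) (BT.node (nat_lit 7292096) (BT.node (nat_lit 7292032) (BT.leaf (nat_lit 23007765)) (BT.leaf (nat_lit 23096585))) (BT.node (nat_lit 7292160) (BT.leaf (nat_lit 33339413)) (BT.leaf (nat_lit 47299093)))) (BT.node (nat_lit 7292352) (BT.node (nat_lit 7292288) (BT.leaf (nat_lit 29906453)) (BT.leaf (nat_lit 28360453))) (BT.node (nat_lit 7292416) (BT.leaf (nat_lit 23292433)) (BT.leaf (nat_lit 22970121))))) (BT.node (nat_lit 7292736) (BT.node (nat_lit 7292608) (BT.node (nat_lit 7292544) (BT.leaf (nat_lit 22978081)) (BT.leaf (nat_lit 28080417))) (BT.node (nat_lit 7292672) (BT.leaf (nat_lit 24061217)) (BT.leaf (nat_lit 23556641)))) (BT.node (nat_lit 7292864) (BT.node (nat_lit 7292800) (BT.leaf (nat_lit 22970389)) (BT.leaf (nat_lit 33629981))) (BT.node (nat_lit 7292928) (BT.leaf (nat_lit 29245193)) (BT.leaf (nat_lit 23989777))))))))) (BT.node (nat_lit 7296960) (BT.node (nat_lit 7295040) (BT.node (nat_lit 7294016) (BT.node (nat_lit 7293504) (BT.node (nat_lit 7293248) (BT.node (nat_lit 7293120) (BT.node (nat_lit 7293056) (BT.leaf (nat_lit 24843537)) (BT.leaf (nat_lit 23378697))) (BT.node (nat_lit 7293184) (BT.leaf (nat_lit 23378701)) (BT.leaf (nat_lit 25900313)))) (BT.node (nat_lit 7293376) (BT.node (nat_lit 7293312) (BT.leaf (nat_lit 47301665)) (BT.leaf (nat_lit 28518677))) (BT.node (nat_lit 7293440) (BT.leaf (nat_lit 28961553)) (BT.leaf (nat_lit 31715349))))) (BT.node (nat_lit 7293760) (BT.node (nat_lit 7293632) (BT.node (nat_lit 7293568) (BT.leaf (nat_lit 31715601)) (BT.leaf (nat_lit 38177309))) (BT.node (nat_lit 7293696) (BT.leaf (nat_lit 28955669)) (BT.leaf (nat_lit 25777413)))) (BT.node (nat_lit 7293888) (BT.node (nat_lit 7293824) (BT.leaf (nat_lit 28955677)) (BT.leaf (nat_lit 22971409))) (BT.node (nat_lit 7293952) (BT.leaf (nat_lit 22922513)) (BT.leaf (nat_lit 22971153)))))) (BT.node (nat_lit 7294528) (BT.node (nat_lit 7294272) (BT.node (nat_lit 7294144) (BT.node (nat_lit 7294080) (BT.leaf (nat_lit 46479133)) (BT.leaf (nat_lit 27587333))) (BT.node (nat_lit 7294208) (BT.leaf (nat_lit 27518225)) (BT.leaf (nat_lit 22972177)))) (BT.node (nat_lit 7294400) (BT.node (nat_lit 7294336) (BT.leaf (nat_lit 22971665)) (BT.leaf (nat_lit 29292297))) (BT.node (nat_lit 7294464) (BT.leaf (nat_lit 47306517)) (BT.leaf (nat_lit 23947809))))) (BT.node (nat_lit 7294784) (BT.node (nat_lit 7294656) (BT.node (nat_lit 7294592) (BT.leaf (nat_lit 31838213)) (BT.leaf (nat_lit 23094037))) (BT.node (nat_lit 7294720) (BT.leaf (nat_lit 39693081)) (BT.leaf (nat_lit 30797841)))) (BT.node (nat_lit 7294912) (BT.node (nat_lit 7294848) (BT.leaf (nat_lit 23592985)) (BT.leaf (nat_lit 33660961))) (BT.node (nat_lit 7294976) (BT.leaf (nat_lit 29167621)) (BT.leaf (nat_lit 23013397))))))) (BT.node (nat_lit 7295936) (BT.node (nat_lit 7295424) (BT.node (nat_lit 7295236) (BT.node (nat_lit 7295168) (BT.node (nat_lit 7295104) (BT.leaf (nat_lit 26893577)) (BT.leaf (nat_lit 23945737))) (BT.node (nat_lit 7295232) (BT.leaf (nat_lit 34819361)) (BT.leaf (nat_lit 47308321)))) (BT.node (nat_lit 7295296) (BT.node (nat_lit 7295237) (BT.leaf (nat_lit 660892)) (BT.leaf (nat_lit 660892))) (BT.node (nat_lit 7295360) (BT.leaf (nat_lit 47308065)) (BT.leaf (nat_lit 35217433))))) (BT.node (nat_lit 7295680) (BT.node (nat_lit 7295552) (BT.node (nat_lit 7295488) (BT.leaf (nat_lit 24523537)) (BT.leaf (nat_lit 47309841))) (BT.node (nat_lit 7295616) (BT.leaf (nat_lit 28524305)) (BT.leaf (nat_lit 28524321)))) (BT.node (nat_lit 7295808) (BT.node (nat_lit 7295744) (BT.leaf (nat_lit 38812181)) (BT.leaf (nat_lit 22974993))) (BT.node (nat_lit 7295872) (BT.leaf (nat_lit 34186501)) (BT.leaf (nat_lit 48365573)))))) (BT.node (nat_lit 7296448) (BT.node (nat_lit 7296192) (BT.node (nat_lit 7296064) (BT.node (nat_lit 7296000) (BT.leaf (nat_lit 29000457)) (BT.leaf (nat_lit 25205525))) (BT.node (nat_lit 7296128) (BT.leaf (nat_lit 30878481)) (BT.leaf (nat_lit 36995609)))) (BT.node (nat_lit 7296320) (BT.node (nat_lit 7296256) (BT.leaf (nat_lit 34446881)) (BT.leaf (nat_lit 47313681))) (BT.node (nat_lit 7296384) (BT.leaf (nat_lit 47314205)) (BT.leaf (nat_lit 47314461))))) (BT.node (nat_lit 7296704) (BT.node (nat_lit 7296576) (BT.node (nat_lit 7296512) (BT.leaf (nat_lit 25997829)) (BT.leaf (nat_lit 32641569))) (BT.node (nat_lit 7296640) (BT.leaf (nat_lit 28771349)) (BT.leaf (nat_lit 30329605)))) (BT.node (nat_lit 7296832) (BT.node (nat_lit 7296768) (BT.leaf (nat_lit 31501061)) (BT.leaf (nat_lit 22979361))) (BT.node (nat_lit 7296896) (BT.leaf (nat_lit 23325721)) (BT.leaf (nat_lit 23325725)))))))) (BT.node (nat_lit 7299008) (BT.node (nat_lit 7297984) (BT.node (nat_lit 7297472) (BT.node (nat_lit 7297216) (BT.node (nat_lit 7297088) (BT.node (nat_lit 7297024) (BT.leaf (nat_lit 34166021)) (BT.leaf (nat_lit 32659717))) (BT.node (nat_lit 7297152) (BT.leaf (nat_lit 47316501)) (BT.leaf (nat_lit 47371293)))) (BT.node (nat_lit 7297344) (BT.node (nat_lit 7297280) (BT.leaf (nat_lit 28094981)) (BT.leaf (nat_lit 23717893))) (BT.node (nat_lit 7297408) (BT.leaf (nat_lit 28959765)) (BT.leaf (nat_lit 28959769))))) (BT.node (nat_lit 7297728) (BT.node (nat_lit 7297600) (BT.node (nat_lit 7297536) (BT.leaf (nat_lit 28959773)) (BT.leaf (nat_lit 25980701))) (BT.node (nat_lit 7297664) (BT.leaf (nat_lit 24135189)) (BT.leaf (nat_lit 24135697)))) (BT.node (nat_lit 7297856) (BT.node (nat_lit 7297792) (BT.leaf (nat_lit 28698381)) (BT.leaf (nat_lit 40770309))) (BT.node (nat_lit 7297920) (BT.leaf (nat_lit 24589581)) (BT.leaf (nat_lit 22977809)))))) (BT.node (nat_lit 7298496) (BT.node (nat_lit 7298240) (BT.node (nat_lit 7298112) (BT.node (nat_lit 7298048) (BT.leaf (nat_lit 29091361)) (BT.leaf (nat_lit 24493589))) (BT.node (nat_lit 7298176) (BT.leaf (nat_lit 24061445)) (BT.leaf (nat_lit 24589601)))) (BT.node (nat_lit 7298368) (BT.node (nat_lit 7298304) (BT.leaf (nat_lit 27745825)) (BT.leaf (nat_lit 24061189))) (BT.node (nat_lit 7298432) (BT.leaf (nat_lit 47318805)) (BT.leaf (nat_lit 40624653))))) (BT.node (nat_lit 7298752) (BT.node (nat_lit 7298624) (BT.node (nat_lit 7298560) (BT.leaf (nat_lit 27745809)) (BT.leaf (nat_lit 24589585))) (BT.node (nat_lit 7298688) (BT.leaf (nat_lit 31713553)) (BT.leaf (nat_lit 47319577)))) (BT.node (nat_lit 7298880) (BT.node (nat_lit 7298816) (BT.leaf (nat_lit 47319829)) (BT.leaf (nat_lit 23014409))) (BT.node (nat_lit 7298944) (BT.leaf (nat_lit 29492241)) (BT.leaf (nat_lit 47320337))))))) (BT.node (nat_lit 7300032) (BT.node (nat_lit 7299520) (BT.node (nat_lit 7299264) (BT.node (nat_lit 7299136) (BT.node (nat_lit 7299072) (BT.leaf (nat_lit 47320593)) (BT.leaf (nat_lit 22979093))) (BT.node (nat_lit 7299200) (BT.leaf (nat_lit 50888201)) (BT.leaf (nat_lit 22979341)))) (BT.node (nat_lit 7299392) (BT.node (nat_lit 7299328) (BT.leaf (nat_lit 50692101)) (BT.leaf (nat_lit 22979337))) (BT.node (nat_lit 7299456) (BT.leaf (nat_lit 47799309)) (BT.leaf (nat_lit 31501089))))) (BT.node (nat_lit 7299776) (BT.node (nat_lit 7299648) (BT.node (nat_lit 7299584) (BT.leaf (nat_lit 47783969)) (BT.leaf (nat_lit 27382301))) (BT.node (nat_lit 7299712) (BT.leaf (nat_lit 47799313)) (BT.leaf (nat_lit 47799329)))) (BT.node (nat_lit 7299904) (BT.node (nat_lit 7299840) (BT.leaf (nat_lit 22979861)) (BT.leaf (nat_lit 27271445))) (BT.node (nat_lit 7299968) (BT.leaf (nat_lit 48948753)) (BT.leaf (nat_lit 50444549)))))) (BT.node (nat_lit 7300544) (BT.node (nat_lit 7300288) (BT.node (nat_lit 7300160) (BT.node (nat_lit 7300096) (BT.leaf (nat_lit 29612053)) (BT.leaf (nat_lit 40484117))) (BT.node (nat_lit 7300224) (BT.leaf (nat_lit 22980625)) (BT.leaf (nat_lit 22980369)))) (BT.node (nat_lit 7300416) (BT.node (nat_lit 7300352) (BT.leaf (nat_lit 27750661)) (BT.leaf (nat_lit 34944533))) (BT.node (nat_lit 7300480) (BT.leaf (nat_lit 32063505)) (BT.leaf (nat_lit 28960529))))) (BT.node (nat_lit 7300800) (BT.node (nat_lit 7300672) (BT.node (nat_lit 7300608) (BT.leaf (nat_lit 33435409)) (BT.leaf (nat_lit 28095249))) (BT.node (nat_lit 7300736) (BT.leaf (nat_lit 32928517)) (BT.leaf (nat_lit 24136213)))) (BT.node (nat_lit 7300928) (BT.node (nat_lit 7300864) (BT.leaf (nat_lit 24539929)) (BT.leaf (nat_lit 24539933))) (BT.node (nat_lit 7300992) (BT.leaf (nat_lit 24134945)) (BT.leaf (nat_lit 34835741))))))))))) (BT.node (nat_lit 7317312) (BT.node (nat_lit 7309120) (BT.node (nat_lit 7305024) (BT.node (nat_lit 7302976) (BT.node (nat_lit 7302080) (BT.node (nat_lit 7301568) (BT.node (nat_lit 7301312) (BT.node (nat_lit 7301184) (BT.node (nat_lit 7301120) (BT.leaf (nat_lit 23714833)) (BT.leaf (nat_lit 24136197))) (BT.node (nat_lit 7301248) (BT.leaf (nat_lit 27421969)) (BT.leaf (nat_lit 47327237)))) (BT.node (nat_lit 7301440) (BT.node (nat_lit 7301376) (BT.leaf (nat_lit 28961305)) (BT.leaf (nat_lit 37808149))) (BT.node (nat_lit 7301504) (BT.leaf (nat_lit 29173533)) (BT.leaf (nat_lit 29591569))))) (BT.node (nat_lit 7301824) (BT.node (nat_lit 7301696) (BT.node (nat_lit 7301632) (BT.leaf (nat_lit 29591573)) (BT.leaf (nat_lit 23496977))) (BT.node (nat_lit 7301760) (BT.leaf (nat_lit 30619653)) (BT.leaf (nat_lit 22924817)))) (BT.node (nat_lit 7301952) (BT.node (nat_lit 7301888) (BT.leaf (nat_lit 22982929)) (BT.leaf (nat_lit 22982681))) (BT.node (nat_lit 7302016) (BT.leaf (nat_lit 47330337)) (BT.leaf (nat_lit 22982685)))))) (BT.node (nat_lit 7302592) (BT.node (nat_lit 7302336) (BT.node (nat_lit 7302208) (BT.node (nat_lit 7302144) (BT.leaf (nat_lit 34682641)) (BT.leaf (nat_lit 22680337))) (BT.node (nat_lit 7302272) (BT.leaf (nat_lit 27460377)) (BT.leaf (nat_lit 22982417)))) (BT.node (nat_lit 7302464) (BT.node (nat_lit 7302400) (BT.leaf (nat_lit 25484829)) (BT.leaf (nat_lit 25949725))) (BT.node (nat_lit 7302528) (BT.leaf (nat_lit 23151889)) (BT.leaf (nat_lit 25933337))))) (BT.node (nat_lit 7302720) (BT.node (nat_lit 7302660) (BT.node (nat_lit 7302656) (BT.leaf (nat_lit 31397393)) (BT.leaf (nat_lit 24551705))) (BT.node (nat_lit 7302661) (BT.leaf (nat_lit 473128)) (BT.leaf (nat_lit 473128)))) (BT.node (nat_lit 7302848) (BT.node (nat_lit 7302784) (BT.leaf (nat_lit 24551709)) (BT.leaf (nat_lit 24882697))) (BT.node (nat_lit 7302912) (BT.leaf (nat_lit 24882701)) (BT.leaf (nat_lit 24882705))))))) (BT.node (nat_lit 7304000) (BT.node (nat_lit 7303488) (BT.node (nat_lit 7303232) (BT.node (nat_lit 7303104) (BT.node (nat_lit 7303040) (BT.leaf (nat_lit 29356805)) (BT.leaf (nat_lit 34961413))) (BT.node (nat_lit 7303168) (BT.leaf (nat_lit 38697745)) (BT.leaf (nat_lit 22984217)))) (BT.node (nat_lit 7303360) (BT.node (nat_lit 7303296) (BT.leaf (nat_lit 22983709)) (BT.leaf (nat_lit 47333393))) (BT.node (nat_lit 7303424) (BT.leaf (nat_lit 22984221)) (BT.leaf (nat_lit 47333409))))) (BT.node (nat_lit 7303744) (BT.node (nat_lit 7303616) (BT.node (nat_lit 7303552) (BT.leaf (nat_lit 29369877)) (BT.leaf (nat_lit 22983705))) (BT.node (nat_lit 7303680) (BT.leaf (nat_lit 23956753)) (BT.leaf (nat_lit 29568785)))) (BT.node (nat_lit 7303872) (BT.node (nat_lit 7303808) (BT.leaf (nat_lit 24102677)) (BT.leaf (nat_lit 30401809))) (BT.node (nat_lit 7303936) (BT.leaf (nat_lit 46803477)) (BT.leaf (nat_lit 30398489)))))) (BT.node (nat_lit 7304512) (BT.node (nat_lit 7304256) (BT.node (nat_lit 7304128) (BT.node (nat_lit 7304064) (BT.leaf (nat_lit 30312213)) (BT.leaf (nat_lit 47337249))) (BT.node (nat_lit 7304192) (BT.leaf (nat_lit 47338017)) (BT.leaf (nat_lit 47338529)))) (BT.node (nat_lit 7304384) (BT.node (nat_lit 7304320) (BT.leaf (nat_lit 22985233)) (BT.leaf (nat_lit 46900749))) (BT.node (nat_lit 7304448) (BT.leaf (nat_lit 37227037)) (BT.leaf (nat_lit 22987537))))) (BT.node (nat_lit 7304768) (BT.node (nat_lit 7304640) (BT.node (nat_lit 7304576) (BT.leaf (nat_lit 23605017)) (BT.leaf (nat_lit 33316369))) (BT.node (nat_lit 7304704) (BT.leaf (nat_lit 27384597)) (BT.leaf (nat_lit 47337997)))) (BT.node (nat_lit 7304896) (BT.node (nat_lit 7304832) (BT.leaf (nat_lit 48485385)) (BT.leaf (nat_lit 30115605))) (BT.node (nat_lit 7304960) (BT.leaf (nat_lit 29257481)) (BT.leaf (nat_lit 22988561)))))))) (BT.node (nat_lit 7307072) (BT.node (nat_lit 7306048) (BT.node (nat_lit 7305536) (BT.node (nat_lit 7305280) (BT.node (nat_lit 7305152) (BT.node (nat_lit 7305088) (BT.leaf (nat_lit 35694881)) (BT.leaf (nat_lit 36806917))) (BT.node (nat_lit 7305216) (BT.leaf (nat_lit 23477533)) (BT.leaf (nat_lit 22667537)))) (BT.node (nat_lit 7305408) (BT.node (nat_lit 7305344) (BT.leaf (nat_lit 47342341)) (BT.leaf (nat_lit 28291873))) (BT.node (nat_lit 7305472) (BT.leaf (nat_lit 35585305)) (BT.leaf (nat_lit 28008725))))) (BT.node (nat_lit 7305792) (BT.node (nat_lit 7305664) (BT.node (nat_lit 7305600) (BT.leaf (nat_lit 26386721)) (BT.leaf (nat_lit 28998917))) (BT.node (nat_lit 7305728) (BT.leaf (nat_lit 24847381)) (BT.leaf (nat_lit 22512913)))) (BT.node (nat_lit 7305920) (BT.node (nat_lit 7305856) (BT.leaf (nat_lit 22614281)) (BT.leaf (nat_lit 22358805))) (BT.node (nat_lit 7305984) (BT.leaf (nat_lit 38589709)) (BT.leaf (nat_lit 28411417)))))) (BT.node (nat_lit 7306560) (BT.node (nat_lit 7306304) (BT.node (nat_lit 7306176) (BT.node (nat_lit 7306112) (BT.leaf (nat_lit 32744469)) (BT.leaf (nat_lit 24257809))) (BT.node (nat_lit 7306240) (BT.leaf (nat_lit 28890385)) (BT.leaf (nat_lit 30146053)))) (BT.node (nat_lit 7306432) (BT.node (nat_lit 7306368) (BT.leaf (nat_lit 38402841)) (BT.leaf (nat_lit 38259481))) (BT.node (nat_lit 7306496) (BT.leaf (nat_lit 36982553)) (BT.leaf (nat_lit 24494877))))) (BT.node (nat_lit 7306816) (BT.node (nat_lit 7306688) (BT.node (nat_lit 7306624) (BT.leaf (nat_lit 29142045)) (BT.leaf (nat_lit 33944853))) (BT.node (nat_lit 7306752) (BT.leaf (nat_lit 34021141)) (BT.leaf (nat_lit 34389773)))) (BT.node (nat_lit 7306944) (BT.node (nat_lit 7306880) (BT.leaf (nat_lit 34821137)) (BT.leaf (nat_lit 23710229))) (BT.node (nat_lit 7307008) (BT.leaf (nat_lit 29227533)) (BT.leaf (nat_lit 27781145))))))) (BT.node (nat_lit 7308096) (BT.node (nat_lit 7307584) (BT.node (nat_lit 7307328) (BT.node (nat_lit 7307200) (BT.node (nat_lit 7307136) (BT.leaf (nat_lit 27781149)) (BT.leaf (nat_lit 22997265))) (BT.node (nat_lit 7307264) (BT.leaf (nat_lit 23588125)) (BT.leaf (nat_lit 33303301)))) (BT.node (nat_lit 7307456) (BT.node (nat_lit 7307392) (BT.leaf (nat_lit 23407897)) (BT.leaf (nat_lit 47346977))) (BT.node (nat_lit 7307520) (BT.leaf (nat_lit 35231253)) (BT.leaf (nat_lit 34912285))))) (BT.node (nat_lit 7307840) (BT.node (nat_lit 7307712) (BT.node (nat_lit 7307648) (BT.leaf (nat_lit 29230605)) (BT.leaf (nat_lit 47347733))) (BT.node (nat_lit 7307776) (BT.leaf (nat_lit 33361437)) (BT.leaf (nat_lit 47347213)))) (BT.node (nat_lit 7307968) (BT.node (nat_lit 7307904) (BT.leaf (nat_lit 47349013)) (BT.leaf (nat_lit 28167685))) (BT.node (nat_lit 7308032) (BT.leaf (nat_lit 46548497)) (BT.leaf (nat_lit 34007321)))))) (BT.node (nat_lit 7308608) (BT.node (nat_lit 7308352) (BT.node (nat_lit 7308224) (BT.node (nat_lit 7308160) (BT.leaf (nat_lit 46596369)) (BT.leaf (nat_lit 37985797))) (BT.node (nat_lit 7308288) (BT.leaf (nat_lit 31622929)) (BT.leaf (nat_lit 29377565)))) (BT.node (nat_lit 7308480) (BT.node (nat_lit 7308416) (BT.leaf (nat_lit 34990857)) (BT.leaf (nat_lit 39363849))) (BT.node (nat_lit 7308544) (BT.leaf (nat_lit 47350817)) (BT.leaf (nat_lit 27749145))))) (BT.node (nat_lit 7308864) (BT.node (nat_lit 7308736) (BT.node (nat_lit 7308672) (BT.leaf (nat_lit 51501573)) (BT.leaf (nat_lit 29138193))) (BT.node (nat_lit 7308800) (BT.leaf (nat_lit 24246805)) (BT.leaf (nat_lit 35293473)))) (BT.node (nat_lit 7308992) (BT.node (nat_lit 7308928) (BT.leaf (nat_lit 33645077)) (BT.leaf (nat_lit 47351045))) (BT.node (nat_lit 7309056) (BT.leaf (nat_lit 47345441)) (BT.leaf (nat_lit 47351829))))))))) (BT.node (nat_lit 7313216) (BT.node (nat_lit 7311168) (BT.node (nat_lit 7310144) (BT.node (nat_lit 7309632) (BT.node (nat_lit 7309376) (BT.node (nat_lit 7309248) (BT.node (nat_lit 7309184) (BT.leaf (nat_lit 47351561)) (BT.leaf (nat_lit 47352097))) (BT.node (nat_lit 7309312) (BT.leaf (nat_lit 51501601)) (BT.leaf (nat_lit 23001873)))) (BT.node (nat_lit 7309504) (BT.node (nat_lit 7309440) (BT.leaf (nat_lit 47352341)) (BT.leaf (nat_lit 33644297))) (BT.node (nat_lit 7309568) (BT.leaf (nat_lit 31987217)) (BT.leaf (nat_lit 29495813))))) (BT.node (nat_lit 7309888) (BT.node (nat_lit 7309760) (BT.node (nat_lit 7309696) (BT.leaf (nat_lit 23002129)) (BT.leaf (nat_lit 22920977))) (BT.node (nat_lit 7309824) (BT.leaf (nat_lit 22960145)) (BT.leaf (nat_lit 31364617)))) (BT.node (nat_lit 7310016) (BT.node (nat_lit 7309952) (BT.leaf (nat_lit 35002885)) (BT.leaf (nat_lit 47296273))) (BT.node (nat_lit 7310080) (BT.leaf (nat_lit 35002897)) (BT.leaf (nat_lit 39672845)))))) (BT.node (nat_lit 7310656) (BT.node (nat_lit 7310400) (BT.node (nat_lit 7310272) (BT.node (nat_lit 7310208) (BT.leaf (nat_lit 23002649)) (BT.leaf (nat_lit 23002905))) (BT.node (nat_lit 7310336) (BT.leaf (nat_lit 47353881)) (BT.leaf (nat_lit 23002653)))) (BT.node (nat_lit 7310528) (BT.node (nat_lit 7310464) (BT.leaf (nat_lit 30879237)) (BT.leaf (nat_lit 31927329))) (BT.node (nat_lit 7310592) (BT.leaf (nat_lit 28218889)) (BT.leaf (nat_lit 28218893))))) (BT.node (nat_lit 7310912) (BT.node (nat_lit 7310784) (BT.node (nat_lit 7310720) (BT.leaf (nat_lit 28218897)) (BT.leaf (nat_lit 38773025))) (BT.node (nat_lit 7310848) (BT.leaf (nat_lit 24774421)) (BT.leaf (nat_lit 30638873)))) (BT.node (nat_lit 7311040) (BT.node (nat_lit 7310976) (BT.leaf (nat_lit 28118037)) (BT.leaf (nat_lit 23003421))) (BT.node (nat_lit 7311104) (BT.leaf (nat_lit 27639569)) (BT.leaf (nat_lit 27639573))))))) (BT.node (nat_lit 7312192) (BT.node (nat_lit 7311680) (BT.node (nat_lit 7311424) (BT.node (nat_lit 7311296) (BT.node (nat_lit 7311232) (BT.leaf (nat_lit 23003417)) (BT.leaf (nat_lit 31812617))) (BT.node (nat_lit 7311360) (BT.leaf (nat_lit 40740629)) (BT.leaf (nat_lit 33503005)))) (BT.node (nat_lit 7311552) (BT.node (nat_lit 7311488) (BT.leaf (nat_lit 33288721)) (BT.leaf (nat_lit 23279381))) (BT.node (nat_lit 7311616) (BT.leaf (nat_lit 39687453)) (BT.leaf (nat_lit 22313233))))) (BT.node (nat_lit 7311936) (BT.node (nat_lit 7311808) (BT.node (nat_lit 7311744) (BT.leaf (nat_lit 23010321)) (BT.leaf (nat_lit 28851989))) (BT.node (nat_lit 7311872) (BT.leaf (nat_lit 38546437)) (BT.leaf (nat_lit 22312977)))) (BT.node (nat_lit 7312064) (BT.node (nat_lit 7312000) (BT.leaf (nat_lit 22971921)) (BT.leaf (nat_lit 22923025))) (BT.node (nat_lit 7312128) (BT.leaf (nat_lit 47360533)) (BT.leaf (nat_lit 47313937)))))) (BT.node (nat_lit 7312704) (BT.node (nat_lit 7312448) (BT.node (nat_lit 7312320) (BT.node (nat_lit 7312256) (BT.leaf (nat_lit 28489221)) (BT.leaf (nat_lit 32659233))) (BT.node (nat_lit 7312384) (BT.leaf (nat_lit 23738913)) (BT.leaf (nat_lit 24474913)))) (BT.node (nat_lit 7312576) (BT.node (nat_lit 7312512) (BT.leaf (nat_lit 47315733)) (BT.leaf (nat_lit 24082461))) (BT.node (nat_lit 7312640) (BT.leaf (nat_lit 29186841)) (BT.leaf (nat_lit 31863557))))) (BT.node (nat_lit 7312960) (BT.node (nat_lit 7312832) (BT.node (nat_lit 7312768) (BT.leaf (nat_lit 47362829)) (BT.leaf (nat_lit 47363349))) (BT.node (nat_lit 7312896) (BT.leaf (nat_lit 47363865)) (BT.leaf (nat_lit 47364373)))) (BT.node (nat_lit 7313088) (BT.node (nat_lit 7313024) (BT.leaf (nat_lit 47363849)) (BT.leaf (nat_lit 46738193))) (BT.node (nat_lit 7313152) (BT.leaf (nat_lit 25836573)) (BT.leaf (nat_lit 30917905)))))))) (BT.node (nat_lit 7315264) (BT.node (nat_lit 7314240) (BT.node (nat_lit 7313728) (BT.node (nat_lit 7313472) (BT.node (nat_lit 7313344) (BT.node (nat_lit 7313280) (BT.leaf (nat_lit 24844309)) (BT.leaf (nat_lit 33298449))) (BT.node (nat_lit 7313408) (BT.leaf (nat_lit 46405141)) (BT.leaf (nat_lit 23014945)))) (BT.node (nat_lit 7313600) (BT.node (nat_lit 7313536) (BT.leaf (nat_lit 24502285)) (BT.leaf (nat_lit 24643089))) (BT.node (nat_lit 7313664) (BT.leaf (nat_lit 30206481)) (BT.leaf (nat_lit 24502297))))) (BT.node (nat_lit 7313984) (BT.node (nat_lit 7313856) (BT.node (nat_lit 7313792) (BT.leaf (nat_lit 23015713)) (BT.leaf (nat_lit 24163349))) (BT.node (nat_lit 7313920) (BT.leaf (nat_lit 29473541)) (BT.leaf (nat_lit 23945489)))) (BT.node (nat_lit 7314112) (BT.node (nat_lit 7314048) (BT.leaf (nat_lit 47365913)) (BT.leaf (nat_lit 24769305))) (BT.node (nat_lit 7314176) (BT.leaf (nat_lit 24769309)) (BT.leaf (nat_lit 23010065)))))) (BT.node (nat_lit 7314752) (BT.node (nat_lit 7314496) (BT.node (nat_lit 7314368) (BT.node (nat_lit 7314304) (BT.leaf (nat_lit 23019281)) (BT.leaf (nat_lit 23374357))) (BT.node (nat_lit 7314432) (BT.leaf (nat_lit 33804053)) (BT.leaf (nat_lit 29257497)))) (BT.node (nat_lit 7314624) (BT.node (nat_lit 7314560) (BT.leaf (nat_lit 38754577)) (BT.leaf (nat_lit 36523801))) (BT.node (nat_lit 7314688) (BT.leaf (nat_lit 23019793)) (BT.leaf (nat_lit 36770053))))) (BT.node (nat_lit 7315008) (BT.node (nat_lit 7314880) (BT.node (nat_lit 7314816) (BT.leaf (nat_lit 36770065)) (BT.leaf (nat_lit 48485389))) (BT.node (nat_lit 7314944) (BT.leaf (nat_lit 24259345)) (BT.leaf (nat_lit 23020305)))) (BT.node (nat_lit 7315136) (BT.node (nat_lit 7315072) (BT.leaf (nat_lit 22983953)) (BT.leaf (nat_lit 22926097))) (BT.node (nat_lit 7315200) (BT.leaf (nat_lit 24036889)) (BT.leaf (nat_lit 24036893))))))) (BT.node (nat_lit 7316288) (BT.node (nat_lit 7315776) (BT.node (nat_lit 7315520) (BT.node (nat_lit 7315392) (BT.node (nat_lit 7315328) (BT.leaf (nat_lit 23020565)) (BT.leaf (nat_lit 24028681))) (BT.node (nat_lit 7315456) (BT.leaf (nat_lit 24028685)) (BT.leaf (nat_lit 24028697)))) (BT.node (nat_lit 7315648) (BT.node (nat_lit 7315584) (BT.leaf (nat_lit 24028701)) (BT.leaf (nat_lit 25395733))) (BT.node (nat_lit 7315712) (BT.leaf (nat_lit 28539673)) (BT.leaf (nat_lit 22926361))))) (BT.node (nat_lit 7316032) (BT.node (nat_lit 7315904) (BT.node (nat_lit 7315840) (BT.leaf (nat_lit 36770577)) (BT.leaf (nat_lit 24036117))) (BT.node (nat_lit 7315968) (BT.leaf (nat_lit 23022353)) (BT.leaf (nat_lit 47373061)))) (BT.node (nat_lit 7316160) (BT.node (nat_lit 7316096) (BT.leaf (nat_lit 50028053)) (BT.leaf (nat_lit 23630873))) (BT.node (nat_lit 7316224) (BT.leaf (nat_lit 40805913)) (BT.leaf (nat_lit 30143769)))))) (BT.node (nat_lit 7316800) (BT.node (nat_lit 7316544) (BT.node (nat_lit 7316416) (BT.node (nat_lit 7316352) (BT.leaf (nat_lit 23023389)) (BT.leaf (nat_lit 27399685))) (BT.node (nat_lit 7316480) (BT.leaf (nat_lit 34702625)) (BT.leaf (nat_lit 23023385)))) (BT.node (nat_lit 7316672) (BT.node (nat_lit 7316608) (BT.leaf (nat_lit 33140001)) (BT.leaf (nat_lit 31760657))) (BT.node (nat_lit 7316736) (BT.leaf (nat_lit 47375901)) (BT.leaf (nat_lit 31396129))))) (BT.node (nat_lit 7317056) (BT.node (nat_lit 7316928) (BT.node (nat_lit 7316864) (BT.leaf (nat_lit 33502229)) (BT.leaf (nat_lit 47376913))) (BT.node (nat_lit 7316992) (BT.leaf (nat_lit 28750105)) (BT.leaf (nat_lit 28750109)))) (BT.node (nat_lit 7317184) (BT.node (nat_lit 7317120) (BT.leaf (nat_lit 46598161)) (BT.leaf (nat_lit 47377937))) (BT.node (nat_lit 7317248) (BT.leaf (nat_lit 28835353)) (BT.leaf (nat_lit 44860961)))))))))) (BT.node (nat_lit 7325504) (BT.node (nat_lit 7321408) (BT.node (nat_lit 7319360) (BT.node (nat_lit 7318336) (BT.node (nat_lit 7317824) (BT.node (nat_lit 7317568) (BT.node (nat_lit 7317440) (BT.node (nat_lit 7317376) (BT.leaf (nat_lit 36403741)) (BT.leaf (nat_lit 46722845))) (BT.node (nat_lit 7317504) (BT.leaf (nat_lit 51316493)) (BT.leaf (nat_lit 51390473)))) (BT.node (nat_lit 7317696) (BT.node (nat_lit 7317632) (BT.leaf (nat_lit 50313745)) (BT.leaf (nat_lit 25984025))) (BT.node (nat_lit 7317760) (BT.leaf (nat_lit 25235733)) (BT.leaf (nat_lit 27636485))))) (BT.node (nat_lit 7318080) (BT.node (nat_lit 7317952) (BT.node (nat_lit 7317888) (BT.leaf (nat_lit 47379477)) (BT.leaf (nat_lit 49451793))) (BT.node (nat_lit 7318016) (BT.leaf (nat_lit 32531981)) (BT.leaf (nat_lit 40897813)))) (BT.node (nat_lit 7318208) (BT.node (nat_lit 7318144) (BT.leaf (nat_lit 29788953)) (BT.leaf (nat_lit 39538185))) (BT.node (nat_lit 7318272) (BT.leaf (nat_lit 46736149)) (BT.leaf (nat_lit 27800865)))))) (BT.node (nat_lit 7318848) (BT.node (nat_lit 7318592) (BT.node (nat_lit 7318464) (BT.node (nat_lit 7318400) (BT.leaf (nat_lit 38599965)) (BT.leaf (nat_lit 37217041))) (BT.node (nat_lit 7318528) (BT.leaf (nat_lit 29815321)) (BT.leaf (nat_lit 28546829)))) (BT.node (nat_lit 7318720) (BT.node (nat_lit 7318656) (BT.leaf (nat_lit 28546841)) (BT.leaf (nat_lit 47046165))) (BT.node (nat_lit 7318784) (BT.leaf (nat_lit 38441505)) (BT.leaf (nat_lit 47381257))))) (BT.node (nat_lit 7319104) (BT.node (nat_lit 7318976) (BT.node (nat_lit 7318912) (BT.leaf (nat_lit 31879189)) (BT.leaf (nat_lit 38200077))) (BT.node (nat_lit 7319040) (BT.leaf (nat_lit 37752589)) (BT.leaf (nat_lit 28718089)))) (BT.node (nat_lit 7319232) (BT.node (nat_lit 7319168) (BT.leaf (nat_lit 28718093)) (BT.leaf (nat_lit 31337761))) (BT.node (nat_lit 7319296) (BT.leaf (nat_lit 27737105)) (BT.leaf (nat_lit 32879137))))))) (BT.node (nat_lit 7320384) (BT.node (nat_lit 7319872) (BT.node (nat_lit 7319616) (BT.node (nat_lit 7319488) (BT.node (nat_lit 7319424) (BT.leaf (nat_lit 28105761)) (BT.leaf (nat_lit 27639841))) (BT.node (nat_lit 7319552) (BT.leaf (nat_lit 23046417)) (BT.leaf (nat_lit 23031829)))) (BT.node (nat_lit 7319744) (BT.node (nat_lit 7319680) (BT.leaf (nat_lit 27639821)) (BT.leaf (nat_lit 33403413))) (BT.node (nat_lit 7319808) (BT.leaf (nat_lit 39369249)) (BT.leaf (nat_lit 28581145))))) (BT.node (nat_lit 7320128) (BT.node (nat_lit 7320000) (BT.node (nat_lit 7319936) (BT.leaf (nat_lit 23032605)) (BT.leaf (nat_lit 33403165))) (BT.node (nat_lit 7320064) (BT.leaf (nat_lit 22686225)) (BT.leaf (nat_lit 47383313)))) (BT.node (nat_lit 7320256) (BT.node (nat_lit 7320192) (BT.leaf (nat_lit 23032849)) (BT.leaf (nat_lit 33403669))) (BT.node (nat_lit 7320320) (BT.leaf (nat_lit 39758105)) (BT.leaf (nat_lit 47384337)))))) (BT.node (nat_lit 7320896) (BT.node (nat_lit 7320640) (BT.node (nat_lit 7320512) (BT.node (nat_lit 7320448) (BT.leaf (nat_lit 23212037)) (BT.leaf (nat_lit 23035665))) (BT.node (nat_lit 7320576) (BT.leaf (nat_lit 38107909)) (BT.leaf (nat_lit 34566933)))) (BT.node (nat_lit 7320768) (BT.node (nat_lit 7320704) (BT.leaf (nat_lit 38194441)) (BT.leaf (nat_lit 23036945))) (BT.node (nat_lit 7320832) (BT.leaf (nat_lit 23037201)) (BT.leaf (nat_lit 47385109))))) (BT.node (nat_lit 7321152) (BT.node (nat_lit 7321024) (BT.node (nat_lit 7320960) (BT.leaf (nat_lit 23066393)) (BT.leaf (nat_lit 23719173))) (BT.node (nat_lit 7321088) (BT.leaf (nat_lit 47385625)) (BT.leaf (nat_lit 23378205)))) (BT.node (nat_lit 7321280) (BT.node (nat_lit 7321216) (BT.leaf (nat_lit 27542021)) (BT.leaf (nat_lit 47386133))) (BT.node (nat_lit 7321344) (BT.leaf (nat_lit 47386901)) (BT.leaf (nat_lit 29438753)))))))) (BT.node (nat_lit 7323456) (BT.node (nat_lit 7322432) (BT.node (nat_lit 7321920) (BT.node (nat_lit 7321664) (BT.node (nat_lit 7321536) (BT.node (nat_lit 7321472) (BT.leaf (nat_lit 33450261)) (BT.leaf (nat_lit 34854677))) (BT.node (nat_lit 7321600) (BT.leaf (nat_lit 29285913)) (BT.leaf (nat_lit 33891601)))) (BT.node (nat_lit 7321792) (BT.node (nat_lit 7321728) (BT.leaf (nat_lit 23232017)) (BT.leaf (nat_lit 38220049))) (BT.node (nat_lit 7321856) (BT.leaf (nat_lit 38058501)) (BT.leaf (nat_lit 46333461))))) (BT.node (nat_lit 7322176) (BT.node (nat_lit 7322048) (BT.node (nat_lit 7321984) (BT.leaf (nat_lit 23038745)) (BT.leaf (nat_lit 28070677))) (BT.node (nat_lit 7322112) (BT.leaf (nat_lit 28070685)) (BT.leaf (nat_lit 30333209)))) (BT.node (nat_lit 7322304) (BT.node (nat_lit 7322240) (BT.leaf (nat_lit 39040537)) (BT.leaf (nat_lit 33522449))) (BT.node (nat_lit 7322368) (BT.leaf (nat_lit 29377297)) (BT.leaf (nat_lit 34850069)))))) (BT.node (nat_lit 7322944) (BT.node (nat_lit 7322688) (BT.node (nat_lit 7322560) (BT.node (nat_lit 7322496) (BT.leaf (nat_lit 31932449)) (BT.leaf (nat_lit 30771233))) (BT.node (nat_lit 7322624) (BT.leaf (nat_lit 39604489)) (BT.leaf (nat_lit 29475605)))) (BT.node (nat_lit 7322816) (BT.node (nat_lit 7322752) (BT.leaf (nat_lit 47390481)) (BT.leaf (nat_lit 47391521))) (BT.node (nat_lit 7322880) (BT.leaf (nat_lit 33349381)) (BT.leaf (nat_lit 33292805))))) (BT.node (nat_lit 7323200) (BT.node (nat_lit 7323072) (BT.node (nat_lit 7323008) (BT.leaf (nat_lit 32098565)) (BT.leaf (nat_lit 23815697))) (BT.node (nat_lit 7323136) (BT.leaf (nat_lit 45451541)) (BT.leaf (nat_lit 39232781)))) (BT.node (nat_lit 7323328) (BT.node (nat_lit 7323264) (BT.leaf (nat_lit 31936801)) (BT.leaf (nat_lit 34856737))) (BT.node (nat_lit 7323392) (BT.leaf (nat_lit 34856481)) (BT.leaf (nat_lit 29233169))))))) (BT.node (nat_lit 7324480) (BT.node (nat_lit 7323968) (BT.node (nat_lit 7323712) (BT.node (nat_lit 7323584) (BT.node (nat_lit 7323520) (BT.leaf (nat_lit 29232413)) (BT.leaf (nat_lit 29949977))) (BT.node (nat_lit 7323648) (BT.leaf (nat_lit 30694945)) (BT.leaf (nat_lit 47392785)))) (BT.node (nat_lit 7323840) (BT.node (nat_lit 7323776) (BT.leaf (nat_lit 37886993)) (BT.leaf (nat_lit 26031113))) (BT.node (nat_lit 7323904) (BT.leaf (nat_lit 33486101)) (BT.leaf (nat_lit 36466449))))) (BT.node (nat_lit 7324224) (BT.node (nat_lit 7324096) (BT.node (nat_lit 7324032) (BT.leaf (nat_lit 23040017)) (BT.leaf (nat_lit 23040273))) (BT.node (nat_lit 7324160) (BT.leaf (nat_lit 23041297)) (BT.leaf (nat_lit 22774033)))) (BT.node (nat_lit 7324352) (BT.node (nat_lit 7324288) (BT.leaf (nat_lit 46956301)) (BT.leaf (nat_lit 30802709))) (BT.node (nat_lit 7324416) (BT.leaf (nat_lit 50336289)) (BT.leaf (nat_lit 40181009)))))) (BT.node (nat_lit 7324992) (BT.node (nat_lit 7324736) (BT.node (nat_lit 7324608) (BT.node (nat_lit 7324544) (BT.leaf (nat_lit 47394317)) (BT.leaf (nat_lit 47032077))) (BT.node (nat_lit 7324672) (BT.leaf (nat_lit 47394581)) (BT.leaf (nat_lit 29606405)))) (BT.node (nat_lit 7324864) (BT.node (nat_lit 7324800) (BT.leaf (nat_lit 46448161)) (BT.leaf (nat_lit 32271625))) (BT.node (nat_lit 7324928) (BT.leaf (nat_lit 46448137)) (BT.leaf (nat_lit 35341589))))) (BT.node (nat_lit 7325248) (BT.node (nat_lit 7325120) (BT.node (nat_lit 7325056) (BT.leaf (nat_lit 39378197)) (BT.leaf (nat_lit 48015117))) (BT.node (nat_lit 7325184) (BT.leaf (nat_lit 23448353)) (BT.leaf (nat_lit 32097285)))) (BT.node (nat_lit 7325376) (BT.node (nat_lit 7325312) (BT.leaf (nat_lit 30769681)) (BT.leaf (nat_lit 24837661))) (BT.node (nat_lit 7325440) (BT.leaf (nat_lit 40173841)) (BT.leaf (nat_lit 25689117))))))))) (BT.node (nat_lit 7329600) (BT.node (nat_lit 7327552) (BT.node (nat_lit 7326528) (BT.node (nat_lit 7326016) (BT.node (nat_lit 7325760) (BT.node (nat_lit 7325632) (BT.node (nat_lit 7325568) (BT.leaf (nat_lit 34299161)) (BT.leaf (nat_lit 27273221))) (BT.node (nat_lit 7325696) (BT.leaf (nat_lit 40532241)) (BT.leaf (nat_lit 40035349)))) (BT.node (nat_lit 7325888) (BT.node (nat_lit 7325824) (BT.leaf (nat_lit 33952521)) (BT.leaf (nat_lit 23043089))) (BT.node (nat_lit 7325952) (BT.leaf (nat_lit 23044369)) (BT.leaf (nat_lit 39831821))))) (BT.node (nat_lit 7326272) (BT.node (nat_lit 7326144) (BT.node (nat_lit 7326080) (BT.leaf (nat_lit 36264981)) (BT.leaf (nat_lit 39831309))) (BT.node (nat_lit 7326208) (BT.leaf (nat_lit 29043217)) (BT.leaf (nat_lit 29043221)))) (BT.node (nat_lit 7326400) (BT.node (nat_lit 7326336) (BT.leaf (nat_lit 29042201)) (BT.leaf (nat_lit 29042205))) (BT.node (nat_lit 7326464) (BT.leaf (nat_lit 38267921)) (BT.leaf (nat_lit 31159557)))))) (BT.node (nat_lit 7327040) (BT.node (nat_lit 7326784) (BT.node (nat_lit 7326656) (BT.node (nat_lit 7326592) (BT.leaf (nat_lit 30408469)) (BT.leaf (nat_lit 27524633))) (BT.node (nat_lit 7326720) (BT.leaf (nat_lit 27524637)) (BT.leaf (nat_lit 34134289)))) (BT.node (nat_lit 7326912) (BT.node (nat_lit 7326848) (BT.leaf (nat_lit 23046149)) (BT.leaf (nat_lit 46723341))) (BT.node (nat_lit 7326976) (BT.leaf (nat_lit 38556933)) (BT.leaf (nat_lit 52218905))))) (BT.node (nat_lit 7327296) (BT.node (nat_lit 7327168) (BT.node (nat_lit 7327104) (BT.leaf (nat_lit 33721377)) (BT.leaf (nat_lit 32162333))) (BT.node (nat_lit 7327232) (BT.leaf (nat_lit 29572613)) (BT.leaf (nat_lit 38435861)))) (BT.node (nat_lit 7327424) (BT.node (nat_lit 7327360) (BT.leaf (nat_lit 47398673)) (BT.leaf (nat_lit 47398929))) (BT.node (nat_lit 7327488) (BT.leaf (nat_lit 47049741)) (BT.leaf (nat_lit 24558873))))))) (BT.node (nat_lit 7328576) (BT.node (nat_lit 7328064) (BT.node (nat_lit 7327808) (BT.node (nat_lit 7327680) (BT.node (nat_lit 7327616) (BT.leaf (nat_lit 24558877)) (BT.leaf (nat_lit 40226321))) (BT.node (nat_lit 7327744) (BT.leaf (nat_lit 32051217)) (BT.leaf (nat_lit 28686089)))) (BT.node (nat_lit 7327936) (BT.node (nat_lit 7327872) (BT.leaf (nat_lit 47399173)) (BT.leaf (nat_lit 47399941))) (BT.node (nat_lit 7328000) (BT.leaf (nat_lit 47398149)) (BT.leaf (nat_lit 37974805))))) (BT.node (nat_lit 7328320) (BT.node (nat_lit 7328192) (BT.node (nat_lit 7328128) (BT.leaf (nat_lit 39764765)) (BT.leaf (nat_lit 31289625))) (BT.node (nat_lit 7328256) (BT.leaf (nat_lit 24119569)) (BT.leaf (nat_lit 31632661)))) (BT.node (nat_lit 7328448) (BT.node (nat_lit 7328384) (BT.leaf (nat_lit 47400209)) (BT.leaf (nat_lit 47400465))) (BT.node (nat_lit 7328512) (BT.leaf (nat_lit 28860437)) (BT.leaf (nat_lit 32451097)))))) (BT.node (nat_lit 7329088) (BT.node (nat_lit 7328832) (BT.node (nat_lit 7328704) (BT.node (nat_lit 7328640) (BT.leaf (nat_lit 35258629)) (BT.leaf (nat_lit 27523349))) (BT.node (nat_lit 7328768) (BT.leaf (nat_lit 32728581)) (BT.leaf (nat_lit 32289041)))) (BT.node (nat_lit 7328960) (BT.node (nat_lit 7328896) (BT.leaf (nat_lit 28860441)) (BT.leaf (nat_lit 28860445))) (BT.node (nat_lit 7329024) (BT.leaf (nat_lit 29664517)) (BT.leaf (nat_lit 32463377))))) (BT.node (nat_lit 7329344) (BT.node (nat_lit 7329216) (BT.node (nat_lit 7329152) (BT.leaf (nat_lit 31169565)) (BT.leaf (nat_lit 27311897))) (BT.node (nat_lit 7329280) (BT.leaf (nat_lit 35261473)) (BT.leaf (nat_lit 40912141)))) (BT.node (nat_lit 7329472) (BT.node (nat_lit 7329408) (BT.leaf (nat_lit 36825353)) (BT.leaf (nat_lit 47402773))) (BT.node (nat_lit 7329536) (BT.leaf (nat_lit 47403025)) (BT.leaf (nat_lit 47403793)))))))) (BT.node (nat_lit 7331648) (BT.node (nat_lit 7330624) (BT.node (nat_lit 7330112) (BT.node (nat_lit 7329856) (BT.node (nat_lit 7329728) (BT.node (nat_lit 7329664) (BT.leaf (nat_lit 34640389)) (BT.leaf (nat_lit 47404813))) (BT.node (nat_lit 7329792) (BT.leaf (nat_lit 28196125)) (BT.leaf (nat_lit 47405077)))) (BT.node (nat_lit 7329984) (BT.node (nat_lit 7329920) (BT.leaf (nat_lit 25142549)) (BT.leaf (nat_lit 31092745))) (BT.node (nat_lit 7330048) (BT.leaf (nat_lit 47064341)) (BT.leaf (nat_lit 47377953))))) (BT.node (nat_lit 7330368) (BT.node (nat_lit 7330240) (BT.node (nat_lit 7330176) (BT.leaf (nat_lit 47405333)) (BT.leaf (nat_lit 40998661))) (BT.node (nat_lit 7330304) (BT.leaf (nat_lit 32953113)) (BT.leaf (nat_lit 26041349)))) (BT.node (nat_lit 7330496) (BT.node (nat_lit 7330432) (BT.leaf (nat_lit 39636745)) (BT.leaf (nat_lit 26041369))) (BT.node (nat_lit 7330560) (BT.leaf (nat_lit 26041373)) (BT.leaf (nat_lit 26041377)))))) (BT.node (nat_lit 7331136) (BT.node (nat_lit 7330880) (BT.node (nat_lit 7330752) (BT.node (nat_lit 7330688) (BT.leaf (nat_lit 38532361)) (BT.leaf (nat_lit 23049233))) (BT.node (nat_lit 7330816) (BT.leaf (nat_lit 27238685)) (BT.leaf (nat_lit 27831825)))) (BT.node (nat_lit 7331008) (BT.node (nat_lit 7330944) (BT.leaf (nat_lit 50800133)) (BT.leaf (nat_lit 31916577))) (BT.node (nat_lit 7331072) (BT.leaf (nat_lit 23049477)) (BT.leaf (nat_lit 29270533))))) (BT.node (nat_lit 7331392) (BT.node (nat_lit 7331264) (BT.node (nat_lit 7331200) (BT.leaf (nat_lit 24453397)) (BT.leaf (nat_lit 23050513))) (BT.node (nat_lit 7331328) (BT.leaf (nat_lit 22553105)) (BT.leaf (nat_lit 47406597)))) (BT.node (nat_lit 7331520) (BT.node (nat_lit 7331456) (BT.leaf (nat_lit 25477917)) (BT.leaf (nat_lit 47407393))) (BT.node (nat_lit 7331584) (BT.leaf (nat_lit 41003013)) (BT.leaf (nat_lit 34524193))))))) (BT.node (nat_lit 7332672) (BT.node (nat_lit 7332160) (BT.node (nat_lit 7331904) (BT.node (nat_lit 7331776) (BT.node (nat_lit 7331712) (BT.leaf (nat_lit 39294485)) (BT.leaf (nat_lit 33297953))) (BT.node (nat_lit 7331840) (BT.leaf (nat_lit 35881733)) (BT.leaf (nat_lit 22564885)))) (BT.node (nat_lit 7332032) (BT.node (nat_lit 7331968) (BT.leaf (nat_lit 27190297)) (BT.leaf (nat_lit 37611037))) (BT.node (nat_lit 7332096) (BT.leaf (nat_lit 23040541)) (BT.leaf (nat_lit 23051793))))) (BT.node (nat_lit 7332416) (BT.node (nat_lit 7332288) (BT.node (nat_lit 7332224) (BT.leaf (nat_lit 23051281)) (BT.leaf (nat_lit 47408909))) (BT.node (nat_lit 7332352) (BT.leaf (nat_lit 48116489)) (BT.leaf (nat_lit 23888149)))) (BT.node (nat_lit 7332544) (BT.node (nat_lit 7332480) (BT.leaf (nat_lit 29329417)) (BT.leaf (nat_lit 22781973))) (BT.node (nat_lit 7332608) (BT.leaf (nat_lit 47410965)) (BT.leaf (nat_lit 30540821)))))) (BT.node (nat_lit 7333184) (BT.node (nat_lit 7332928) (BT.node (nat_lit 7332800) (BT.node (nat_lit 7332736) (BT.leaf (nat_lit 24316441)) (BT.leaf (nat_lit 23052313))) (BT.node (nat_lit 7332864) (BT.leaf (nat_lit 23052569)) (BT.leaf (nat_lit 49567249)))) (BT.node (nat_lit 7333056) (BT.node (nat_lit 7332992) (BT.leaf (nat_lit 23052317)) (BT.leaf (nat_lit 23052573))) (BT.node (nat_lit 7333120) (BT.leaf (nat_lit 36299289)) (BT.leaf (nat_lit 29549597))))) (BT.node (nat_lit 7333440) (BT.node (nat_lit 7333312) (BT.node (nat_lit 7333248) (BT.leaf (nat_lit 31684113)) (BT.leaf (nat_lit 31684117))) (BT.node (nat_lit 7333376) (BT.leaf (nat_lit 47412501)) (BT.leaf (nat_lit 37973777)))) (BT.node (nat_lit 7333568) (BT.node (nat_lit 7333504) (BT.leaf (nat_lit 47222553)) (BT.leaf (nat_lit 24869921))) (BT.node (nat_lit 7333632) (BT.leaf (nat_lit 24608017)) (BT.leaf (nat_lit 47412753)))))))))))))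
noncomputable def big0_e47104 : BT Nat := (BT.node (nat_lit 7399104) (BT.node (nat_lit 7366464) (BT.node (nat_lit 7350080) (BT.node (nat_lit 7341888) (BT.node (nat_lit 7337792) (BT.node (nat_lit 7335744) (BT.node (nat_lit 7334720) (BT.node (nat_lit 7334208) (BT.node (nat_lit 7333952) (BT.node (nat_lit 7333824) (BT.node (nat_lit 7333760) (BT.leaf (nat_lit 47413009)) (BT.leaf (nat_lit 47413005))) (BT.node (nat_lit 7333888) (BT.leaf (nat_lit 28683789)) (BT.leaf (nat_lit 28280853)))) (BT.node (nat_lit 7334080) (BT.node (nat_lit 7334016) (BT.leaf (nat_lit 46667797)) (BT.leaf (nat_lit 28005129))) (BT.node (nat_lit 7334144) (BT.leaf (nat_lit 51119885)) (BT.leaf (nat_lit 39745297))))) (BT.node (nat_lit 7334464) (BT.node (nat_lit 7334336) (BT.node (nat_lit 7334272) (BT.leaf (nat_lit 39745301)) (BT.leaf (nat_lit 32740641))) (BT.node (nat_lit 7334400) (BT.leaf (nat_lit 47414049)) (BT.leaf (nat_lit 39146017)))) (BT.node (nat_lit 7334592) (BT.node (nat_lit 7334528) (BT.leaf (nat_lit 39145229)) (BT.leaf (nat_lit 39145993))) (BT.node (nat_lit 7334656) (BT.leaf (nat_lit 47414557)) (BT.leaf (nat_lit 30416393)))))) (BT.node (nat_lit 7335232) (BT.node (nat_lit 7334976) (BT.node (nat_lit 7334848) (BT.node (nat_lit 7334784) (BT.leaf (nat_lit 29339165)) (BT.leaf (nat_lit 47415061))) (BT.node (nat_lit 7334912) (BT.leaf (nat_lit 32062997)) (BT.leaf (nat_lit 33019397)))) (BT.node (nat_lit 7335104) (BT.node (nat_lit 7335040) (BT.leaf (nat_lit 33152773)) (BT.leaf (nat_lit 23053601))) (BT.node (nat_lit 7335168) (BT.leaf (nat_lit 27550477)) (BT.leaf (nat_lit 41036833))))) (BT.node (nat_lit 7335488) (BT.node (nat_lit 7335360) (BT.node (nat_lit 7335296) (BT.leaf (nat_lit 29334557)) (BT.leaf (nat_lit 22783765))) (BT.node (nat_lit 7335424) (BT.leaf (nat_lit 47416589)) (BT.leaf (nat_lit 30532629)))) (BT.node (nat_lit 7335616) (BT.node (nat_lit 7335552) (BT.leaf (nat_lit 29341705)) (BT.leaf (nat_lit 47417365))) (BT.node (nat_lit 7335680) (BT.leaf (nat_lit 47417097)) (BT.leaf (nat_lit 25908769))))))) (BT.node (nat_lit 7336768) (BT.node (nat_lit 7336256) (BT.node (nat_lit 7336000) (BT.node (nat_lit 7335872) (BT.node (nat_lit 7335808) (BT.leaf (nat_lit 47413789)) (BT.leaf (nat_lit 41018129))) (BT.node (nat_lit 7335936) (BT.leaf (nat_lit 33742369)) (BT.leaf (nat_lit 30784277)))) (BT.node (nat_lit 7336128) (BT.node (nat_lit 7336064) (BT.leaf (nat_lit 29893409)) (BT.leaf (nat_lit 47418901))) (BT.node (nat_lit 7336192) (BT.leaf (nat_lit 30025993)) (BT.leaf (nat_lit 39727633))))) (BT.node (nat_lit 7336512) (BT.node (nat_lit 7336384) (BT.node (nat_lit 7336320) (BT.leaf (nat_lit 28393761)) (BT.leaf (nat_lit 37966113))) (BT.node (nat_lit 7336448) (BT.leaf (nat_lit 28561945)) (BT.leaf (nat_lit 28561949)))) (BT.node (nat_lit 7336640) (BT.node (nat_lit 7336576) (BT.leaf (nat_lit 28561953)) (BT.leaf (nat_lit 33345301))) (BT.node (nat_lit 7336704) (BT.leaf (nat_lit 47419425)) (BT.leaf (nat_lit 23055633)))))) (BT.node (nat_lit 7337280) (BT.node (nat_lit 7337024) (BT.node (nat_lit 7336896) (BT.node (nat_lit 7336832) (BT.leaf (nat_lit 27618585)) (BT.leaf (nat_lit 27618589))) (BT.node (nat_lit 7336960) (BT.leaf (nat_lit 27513625)) (BT.leaf (nat_lit 25894917)))) (BT.node (nat_lit 7337152) (BT.node (nat_lit 7337088) (BT.leaf (nat_lit 23055889)) (BT.leaf (nat_lit 47419913))) (BT.node (nat_lit 7337216) (BT.leaf (nat_lit 25893921)) (BT.leaf (nat_lit 23679257))))) (BT.node (nat_lit 7337536) (BT.node (nat_lit 7337408) (BT.node (nat_lit 7337344) (BT.leaf (nat_lit 23679261)) (BT.leaf (nat_lit 29289245))) (BT.node (nat_lit 7337472) (BT.leaf (nat_lit 23078161)) (BT.leaf (nat_lit 23224341)))) (BT.node (nat_lit 7337664) (BT.node (nat_lit 7337600) (BT.leaf (nat_lit 29674785)) (BT.leaf (nat_lit 29354757))) (BT.node (nat_lit 7337728) (BT.leaf (nat_lit 23416589)) (BT.leaf (nat_lit 23416593)))))))) (BT.node (nat_lit 7339840) (BT.node (nat_lit 7338816) (BT.node (nat_lit 7338304) (BT.node (nat_lit 7338048) (BT.node (nat_lit 7337920) (BT.node (nat_lit 7337856) (BT.leaf (nat_lit 23031061)) (BT.leaf (nat_lit 26031117))) (BT.node (nat_lit 7337984) (BT.leaf (nat_lit 26031121)) (BT.leaf (nat_lit 26031129)))) (BT.node (nat_lit 7338176) (BT.node (nat_lit 7338112) (BT.leaf (nat_lit 26031133)) (BT.leaf (nat_lit 30694929))) (BT.node (nat_lit 7338240) (BT.leaf (nat_lit 23058437)) (BT.leaf (nat_lit 39021325))))) (BT.node (nat_lit 7338560) (BT.node (nat_lit 7338432) (BT.node (nat_lit 7338368) (BT.leaf (nat_lit 46908949)) (BT.leaf (nat_lit 47421461))) (BT.node (nat_lit 7338496) (BT.leaf (nat_lit 41043209)) (BT.leaf (nat_lit 23327009)))) (BT.node (nat_lit 7338688) (BT.node (nat_lit 7338624) (BT.leaf (nat_lit 23951889)) (BT.leaf (nat_lit 47053337))) (BT.node (nat_lit 7338752) (BT.leaf (nat_lit 23951905)) (BT.leaf (nat_lit 46908701)))))) (BT.node (nat_lit 7339328) (BT.node (nat_lit 7339072) (BT.node (nat_lit 7338944) (BT.node (nat_lit 7338880) (BT.leaf (nat_lit 23328033)) (BT.leaf (nat_lit 32316957))) (BT.node (nat_lit 7339008) (BT.leaf (nat_lit 33823765)) (BT.leaf (nat_lit 27348257)))) (BT.node (nat_lit 7339200) (BT.node (nat_lit 7339136) (BT.leaf (nat_lit 24697349)) (BT.leaf (nat_lit 28411929))) (BT.node (nat_lit 7339264) (BT.leaf (nat_lit 32187673)) (BT.leaf (nat_lit 23058973))))) (BT.node (nat_lit 7339584) (BT.node (nat_lit 7339456) (BT.node (nat_lit 7339392) (BT.leaf (nat_lit 38467873)) (BT.leaf (nat_lit 34994953))) (BT.node (nat_lit 7339520) (BT.leaf (nat_lit 24430101)) (BT.leaf (nat_lit 36750865)))) (BT.node (nat_lit 7339712) (BT.node (nat_lit 7339648) (BT.leaf (nat_lit 28837645)) (BT.leaf (nat_lit 28620045))) (BT.node (nat_lit 7339776) (BT.leaf (nat_lit 28620057)) (BT.leaf (nat_lit 32585761))))))) (BT.node (nat_lit 7340864) (BT.node (nat_lit 7340352) (BT.node (nat_lit 7340096) (BT.node (nat_lit 7339968) (BT.node (nat_lit 7339904) (BT.leaf (nat_lit 24220177)) (BT.leaf (nat_lit 47423513))) (BT.node (nat_lit 7340032) (BT.leaf (nat_lit 28414489)) (BT.leaf (nat_lit 29443857)))) (BT.node (nat_lit 7340224) (BT.node (nat_lit 7340160) (BT.leaf (nat_lit 27626017)) (BT.leaf (nat_lit 47695637))) (BT.node (nat_lit 7340288) (BT.leaf (nat_lit 27399189)) (BT.leaf (nat_lit 48015137))))) (BT.node (nat_lit 7340608) (BT.node (nat_lit 7340480) (BT.node (nat_lit 7340416) (BT.leaf (nat_lit 47423765)) (BT.leaf (nat_lit 28291605))) (BT.node (nat_lit 7340544) (BT.leaf (nat_lit 38694157)) (BT.leaf (nat_lit 23448593)))) (BT.node (nat_lit 7340736) (BT.node (nat_lit 7340672) (BT.leaf (nat_lit 23448337)) (BT.leaf (nat_lit 47394821))) (BT.node (nat_lit 7340800) (BT.leaf (nat_lit 41062433)) (BT.leaf (nat_lit 28416521)))))) (BT.node (nat_lit 7341376) (BT.node (nat_lit 7341120) (BT.node (nat_lit 7340992) (BT.node (nat_lit 7340928) (BT.leaf (nat_lit 27459869)) (BT.leaf (nat_lit 41061901))) (BT.node (nat_lit 7341056) (BT.leaf (nat_lit 47424529)) (BT.leaf (nat_lit 27348249)))) (BT.node (nat_lit 7341248) (BT.node (nat_lit 7341184) (BT.leaf (nat_lit 27348253)) (BT.leaf (nat_lit 24697361))) (BT.node (nat_lit 7341312) (BT.leaf (nat_lit 40006417)) (BT.leaf (nat_lit 27745297))))) (BT.node (nat_lit 7341632) (BT.node (nat_lit 7341504) (BT.node (nat_lit 7341440) (BT.leaf (nat_lit 47425041)) (BT.leaf (nat_lit 32924957))) (BT.node (nat_lit 7341568) (BT.leaf (nat_lit 22785045)) (BT.leaf (nat_lit 34626077)))) (BT.node (nat_lit 7341760) (BT.node (nat_lit 7341696) (BT.leaf (nat_lit 38452245)) (BT.leaf (nat_lit 39825173))) (BT.node (nat_lit 7341824) (BT.leaf (nat_lit 39876121)) (BT.leaf (nat_lit 41073417))))))))) (BT.node (nat_lit 7345984) (BT.node (nat_lit 7343936) (BT.node (nat_lit 7342912) (BT.node (nat_lit 7342400) (BT.node (nat_lit 7342144) (BT.node (nat_lit 7342016) (BT.node (nat_lit 7341952) (BT.leaf (nat_lit 41076753)) (BT.leaf (nat_lit 25677597))) (BT.node (nat_lit 7342080) (BT.leaf (nat_lit 39825681)) (BT.leaf (nat_lit 37522721)))) (BT.node (nat_lit 7342272) (BT.node (nat_lit 7342208) (BT.leaf (nat_lit 29371157)) (BT.leaf (nat_lit 24733473))) (BT.node (nat_lit 7342336) (BT.leaf (nat_lit 28608777)) (BT.leaf (nat_lit 24882713))))) (BT.node (nat_lit 7342656) (BT.node (nat_lit 7342528) (BT.node (nat_lit 7342464) (BT.leaf (nat_lit 29213969)) (BT.leaf (nat_lit 27398685))) (BT.node (nat_lit 7342592) (BT.leaf (nat_lit 31199257)) (BT.leaf (nat_lit 31199261)))) (BT.node (nat_lit 7342784) (BT.node (nat_lit 7342720) (BT.leaf (nat_lit 38467865)) (BT.leaf (nat_lit 38467869))) (BT.node (nat_lit 7342848) (BT.leaf (nat_lit 47600393)) (BT.leaf (nat_lit 28424465)))))) (BT.node (nat_lit 7343424) (BT.node (nat_lit 7343168) (BT.node (nat_lit 7343040) (BT.node (nat_lit 7342976) (BT.leaf (nat_lit 27551253)) (BT.leaf (nat_lit 31815941))) (BT.node (nat_lit 7343104) (BT.leaf (nat_lit 27539733)) (BT.leaf (nat_lit 23059985)))) (BT.node (nat_lit 7343296) (BT.node (nat_lit 7343232) (BT.leaf (nat_lit 27670805)) (BT.leaf (nat_lit 50941717))) (BT.node (nat_lit 7343360) (BT.leaf (nat_lit 47429665)) (BT.leaf (nat_lit 46406169))))) (BT.node (nat_lit 7343680) (BT.node (nat_lit 7343552) (BT.node (nat_lit 7343488) (BT.leaf (nat_lit 46704909)) (BT.leaf (nat_lit 47429153))) (BT.node (nat_lit 7343616) (BT.leaf (nat_lit 27551769)) (BT.leaf (nat_lit 27550993)))) (BT.node (nat_lit 7343808) (BT.node (nat_lit 7343744) (BT.leaf (nat_lit 23334941)) (BT.leaf (nat_lit 33992733))) (BT.node (nat_lit 7343872) (BT.leaf (nat_lit 23032341)) (BT.leaf (nat_lit 41090073))))))) (BT.node (nat_lit 7344960) (BT.node (nat_lit 7344448) (BT.node (nat_lit 7344192) (BT.node (nat_lit 7344064) (BT.node (nat_lit 7344000) (BT.leaf (nat_lit 28704013)) (BT.leaf (nat_lit 23164949))) (BT.node (nat_lit 7344128) (BT.leaf (nat_lit 41093653)) (BT.leaf (nat_lit 23655705)))) (BT.node (nat_lit 7344320) (BT.node (nat_lit 7344256) (BT.leaf (nat_lit 29377821)) (BT.leaf (nat_lit 22689561))) (BT.node (nat_lit 7344384) (BT.leaf (nat_lit 23060509)) (BT.leaf (nat_lit 39891473))))) (BT.node (nat_lit 7344704) (BT.node (nat_lit 7344576) (BT.node (nat_lit 7344512) (BT.leaf (nat_lit 47004933)) (BT.leaf (nat_lit 27548437))) (BT.node (nat_lit 7344640) (BT.leaf (nat_lit 23060505)) (BT.leaf (nat_lit 47431941)))) (BT.node (nat_lit 7344832) (BT.node (nat_lit 7344768) (BT.leaf (nat_lit 24028437)) (BT.leaf (nat_lit 24786961))) (BT.node (nat_lit 7344896) (BT.leaf (nat_lit 23164953)) (BT.leaf (nat_lit 23164957)))))) (BT.node (nat_lit 7345472) (BT.node (nat_lit 7345216) (BT.node (nat_lit 7345088) (BT.node (nat_lit 7345024) (BT.leaf (nat_lit 29999381)) (BT.leaf (nat_lit 24057361))) (BT.node (nat_lit 7345152) (BT.leaf (nat_lit 39830809)) (BT.leaf (nat_lit 39555337)))) (BT.node (nat_lit 7345344) (BT.node (nat_lit 7345280) (BT.leaf (nat_lit 23061265)) (BT.leaf (nat_lit 23061009))) (BT.node (nat_lit 7345408) (BT.leaf (nat_lit 28888089)) (BT.leaf (nat_lit 28888093))))) (BT.node (nat_lit 7345728) (BT.node (nat_lit 7345600) (BT.node (nat_lit 7345536) (BT.leaf (nat_lit 23060753)) (BT.leaf (nat_lit 24550177))) (BT.node (nat_lit 7345664) (BT.leaf (nat_lit 47432209)) (BT.leaf (nat_lit 33046293)))) (BT.node (nat_lit 7345856) (BT.node (nat_lit 7345792) (BT.leaf (nat_lit 24248853)) (BT.leaf (nat_lit 23589381))) (BT.node (nat_lit 7345920) (BT.leaf (nat_lit 30336533)) (BT.leaf (nat_lit 24376077)))))))) (BT.node (nat_lit 7348032) (BT.node (nat_lit 7347008) (BT.node (nat_lit 7346496) (BT.node (nat_lit 7346240) (BT.node (nat_lit 7346112) (BT.node (nat_lit 7346048) (BT.leaf (nat_lit 25246485)) (BT.leaf (nat_lit 22753809))) (BT.node (nat_lit 7346176) (BT.leaf (nat_lit 32112405)) (BT.leaf (nat_lit 41104161)))) (BT.node (nat_lit 7346368) (BT.node (nat_lit 7346304) (BT.leaf (nat_lit 41103905)) (BT.leaf (nat_lit 22439701))) (BT.node (nat_lit 7346432) (BT.leaf (nat_lit 31840517)) (BT.leaf (nat_lit 47027729))))) (BT.node (nat_lit 7346752) (BT.node (nat_lit 7346624) (BT.node (nat_lit 7346560) (BT.leaf (nat_lit 23799569)) (BT.leaf (nat_lit 48481053))) (BT.node (nat_lit 7346688) (BT.leaf (nat_lit 34601249)) (BT.leaf (nat_lit 22811661)))) (BT.node (nat_lit 7346880) (BT.node (nat_lit 7346816) (BT.leaf (nat_lit 45115933)) (BT.leaf (nat_lit 40342029))) (BT.node (nat_lit 7346944) (BT.leaf (nat_lit 28316165)) (BT.leaf (nat_lit 30272033)))))) (BT.node (nat_lit 7347520) (BT.node (nat_lit 7347264) (BT.node (nat_lit 7347136) (BT.node (nat_lit 7347072) (BT.leaf (nat_lit 22699033)) (BT.leaf (nat_lit 28437529))) (BT.node (nat_lit 7347200) (BT.leaf (nat_lit 46468641)) (BT.leaf (nat_lit 34600965)))) (BT.node (nat_lit 7347392) (BT.node (nat_lit 7347328) (BT.leaf (nat_lit 23675929)) (BT.leaf (nat_lit 23675933))) (BT.node (nat_lit 7347456) (BT.leaf (nat_lit 33413141)) (BT.leaf (nat_lit 31719685))))) (BT.node (nat_lit 7347776) (BT.node (nat_lit 7347648) (BT.node (nat_lit 7347584) (BT.leaf (nat_lit 47437577)) (BT.leaf (nat_lit 33747721))) (BT.node (nat_lit 7347712) (BT.leaf (nat_lit 28829457)) (BT.leaf (nat_lit 46468869)))) (BT.node (nat_lit 7347904) (BT.node (nat_lit 7347840) (BT.leaf (nat_lit 24501009)) (BT.leaf (nat_lit 30054685))) (BT.node (nat_lit 7347968) (BT.leaf (nat_lit 41122053)) (BT.leaf (nat_lit 37744917))))))) (BT.node (nat_lit 7349056) (BT.node (nat_lit 7348544) (BT.node (nat_lit 7348288) (BT.node (nat_lit 7348160) (BT.node (nat_lit 7348096) (BT.leaf (nat_lit 23318033)) (BT.leaf (nat_lit 51051025))) (BT.node (nat_lit 7348224) (BT.leaf (nat_lit 46624781)) (BT.leaf (nat_lit 46624793)))) (BT.node (nat_lit 7348416) (BT.node (nat_lit 7348352) (BT.leaf (nat_lit 46624797)) (BT.leaf (nat_lit 39472413))) (BT.node (nat_lit 7348480) (BT.leaf (nat_lit 39564045)) (BT.leaf (nat_lit 36378629))))) (BT.node (nat_lit 7348800) (BT.node (nat_lit 7348672) (BT.node (nat_lit 7348608) (BT.leaf (nat_lit 24728853)) (BT.leaf (nat_lit 41228809))) (BT.node (nat_lit 7348736) (BT.leaf (nat_lit 47441937)) (BT.leaf (nat_lit 30541317)))) (BT.node (nat_lit 7348928) (BT.node (nat_lit 7348864) (BT.leaf (nat_lit 47442453)) (BT.leaf (nat_lit 31254049))) (BT.node (nat_lit 7348992) (BT.leaf (nat_lit 32696353)) (BT.leaf (nat_lit 34599173)))))) (BT.node (nat_lit 7349568) (BT.node (nat_lit 7349312) (BT.node (nat_lit 7349184) (BT.node (nat_lit 7349120) (BT.leaf (nat_lit 46679069)) (BT.leaf (nat_lit 27536389))) (BT.node (nat_lit 7349248) (BT.leaf (nat_lit 28407069)) (BT.leaf (nat_lit 28586513)))) (BT.node (nat_lit 7349440) (BT.node (nat_lit 7349376) (BT.leaf (nat_lit 33113885)) (BT.leaf (nat_lit 23430681))) (BT.node (nat_lit 7349504) (BT.leaf (nat_lit 23430685)) (BT.leaf (nat_lit 29587461))))) (BT.node (nat_lit 7349824) (BT.node (nat_lit 7349696) (BT.node (nat_lit 7349632) (BT.leaf (nat_lit 31073313)) (BT.leaf (nat_lit 24157973))) (BT.node (nat_lit 7349760) (BT.leaf (nat_lit 41143329)) (BT.leaf (nat_lit 41143073)))) (BT.node (nat_lit 7349952) (BT.node (nat_lit 7349888) (BT.leaf (nat_lit 26024473)) (BT.leaf (nat_lit 28587273))) (BT.node (nat_lit 7350016) (BT.leaf (nat_lit 33113877)) (BT.leaf (nat_lit 37904925)))))))))) (BT.node (nat_lit 7358272) (BT.node (nat_lit 7354176) (BT.node (nat_lit 7352128) (BT.node (nat_lit 7351104) (BT.node (nat_lit 7350592) (BT.node (nat_lit 7350336) (BT.node (nat_lit 7350208) (BT.node (nat_lit 7350144) (BT.leaf (nat_lit 28796953)) (BT.leaf (nat_lit 41146889))) (BT.node (nat_lit 7350272) (BT.leaf (nat_lit 28285201)) (BT.leaf (nat_lit 40254737)))) (BT.node (nat_lit 7350464) (BT.node (nat_lit 7350400) (BT.leaf (nat_lit 40145421)) (BT.leaf (nat_lit 39265053))) (BT.node (nat_lit 7350528) (BT.leaf (nat_lit 30916129)) (BT.leaf (nat_lit 28821785))))) (BT.node (nat_lit 7350848) (BT.node (nat_lit 7350720) (BT.node (nat_lit 7350656) (BT.leaf (nat_lit 28821789)) (BT.leaf (nat_lit 30366985))) (BT.node (nat_lit 7350784) (BT.leaf (nat_lit 30367253)) (BT.leaf (nat_lit 30367005)))) (BT.node (nat_lit 7350976) (BT.node (nat_lit 7350912) (BT.leaf (nat_lit 23990809)) (BT.leaf (nat_lit 28885281))) (BT.node (nat_lit 7351040) (BT.leaf (nat_lit 23065873)) (BT.leaf (nat_lit 31657733)))))) (BT.node (nat_lit 7351616) (BT.node (nat_lit 7351360) (BT.node (nat_lit 7351232) (BT.node (nat_lit 7351168) (BT.leaf (nat_lit 23212061)) (BT.leaf (nat_lit 33889821))) (BT.node (nat_lit 7351296) (BT.leaf (nat_lit 28407049)) (BT.leaf (nat_lit 39562245)))) (BT.node (nat_lit 7351488) (BT.node (nat_lit 7351424) (BT.leaf (nat_lit 29410081)) (BT.leaf (nat_lit 30418453))) (BT.node (nat_lit 7351552) (BT.leaf (nat_lit 37955361)) (BT.leaf (nat_lit 34118429))))) (BT.node (nat_lit 7351872) (BT.node (nat_lit 7351744) (BT.node (nat_lit 7351680) (BT.leaf (nat_lit 23067141)) (BT.leaf (nat_lit 23141393))) (BT.node (nat_lit 7351808) (BT.leaf (nat_lit 29406745)) (BT.leaf (nat_lit 28483345)))) (BT.node (nat_lit 7352000) (BT.node (nat_lit 7351936) (BT.leaf (nat_lit 27606817)) (BT.leaf (nat_lit 41164297))) (BT.node (nat_lit 7352064) (BT.leaf (nat_lit 33676809)) (BT.leaf (nat_lit 30761505))))))) (BT.node (nat_lit 7353152) (BT.node (nat_lit 7352640) (BT.node (nat_lit 7352384) (BT.node (nat_lit 7352256) (BT.node (nat_lit 7352192) (BT.leaf (nat_lit 47361301)) (BT.leaf (nat_lit 27698193))) (BT.node (nat_lit 7352320) (BT.leaf (nat_lit 28488985)) (BT.leaf (nat_lit 24598033)))) (BT.node (nat_lit 7352512) (BT.node (nat_lit 7352448) (BT.leaf (nat_lit 27762969)) (BT.leaf (nat_lit 23069957))) (BT.node (nat_lit 7352576) (BT.leaf (nat_lit 28749069)) (BT.leaf (nat_lit 47447573))))) (BT.node (nat_lit 7352896) (BT.node (nat_lit 7352768) (BT.node (nat_lit 7352704) (BT.leaf (nat_lit 24145437)) (BT.leaf (nat_lit 32615429))) (BT.node (nat_lit 7352832) (BT.leaf (nat_lit 47447825)) (BT.leaf (nat_lit 25530905)))) (BT.node (nat_lit 7353024) (BT.node (nat_lit 7352960) (BT.leaf (nat_lit 23416341)) (BT.leaf (nat_lit 23070497))) (BT.node (nat_lit 7353088) (BT.leaf (nat_lit 23070241)) (BT.leaf (nat_lit 47267853)))))) (BT.node (nat_lit 7353664) (BT.node (nat_lit 7353408) (BT.node (nat_lit 7353280) (BT.node (nat_lit 7353216) (BT.leaf (nat_lit 47448585)) (BT.leaf (nat_lit 29413133))) (BT.node (nat_lit 7353344) (BT.leaf (nat_lit 29532693)) (BT.leaf (nat_lit 23417369)))) (BT.node (nat_lit 7353536) (BT.node (nat_lit 7353472) (BT.leaf (nat_lit 47448853)) (BT.leaf (nat_lit 23417377))) (BT.node (nat_lit 7353600) (BT.leaf (nat_lit 33507597)) (BT.leaf (nat_lit 32369185))))) (BT.node (nat_lit 7353920) (BT.node (nat_lit 7353792) (BT.node (nat_lit 7353728) (BT.leaf (nat_lit 32705029)) (BT.leaf (nat_lit 24379929))) (BT.node (nat_lit 7353856) (BT.leaf (nat_lit 43910929)) (BT.leaf (nat_lit 23071001)))) (BT.node (nat_lit 7354048) (BT.node (nat_lit 7353984) (BT.leaf (nat_lit 32707617)) (BT.leaf (nat_lit 47208197))) (BT.node (nat_lit 7354112) (BT.leaf (nat_lit 30155545)) (BT.leaf (nat_lit 24601625)))))))) (BT.node (nat_lit 7356224) (BT.node (nat_lit 7355200) (BT.node (nat_lit 7354688) (BT.node (nat_lit 7354432) (BT.node (nat_lit 7354304) (BT.node (nat_lit 7354240) (BT.leaf (nat_lit 24601629)) (BT.leaf (nat_lit 23360273))) (BT.node (nat_lit 7354368) (BT.leaf (nat_lit 23393801)) (BT.leaf (nat_lit 22806545)))) (BT.node (nat_lit 7354560) (BT.node (nat_lit 7354496) (BT.leaf (nat_lit 23072529)) (BT.leaf (nat_lit 35862289))) (BT.node (nat_lit 7354624) (BT.leaf (nat_lit 32237849)) (BT.leaf (nat_lit 23072273))))) (BT.node (nat_lit 7354944) (BT.node (nat_lit 7354816) (BT.node (nat_lit 7354752) (BT.leaf (nat_lit 23072277)) (BT.leaf (nat_lit 28761365))) (BT.node (nat_lit 7354880) (BT.leaf (nat_lit 28591377)) (BT.leaf (nat_lit 33061397)))) (BT.node (nat_lit 7355072) (BT.node (nat_lit 7355008) (BT.leaf (nat_lit 37833249)) (BT.leaf (nat_lit 38910481))) (BT.node (nat_lit 7355136) (BT.leaf (nat_lit 38910497)) (BT.leaf (nat_lit 26608921)))))) (BT.node (nat_lit 7355712) (BT.node (nat_lit 7355456) (BT.node (nat_lit 7355328) (BT.node (nat_lit 7355264) (BT.leaf (nat_lit 23073817)) (BT.leaf (nat_lit 23074077))) (BT.node (nat_lit 7355392) (BT.leaf (nat_lit 23073821)) (BT.leaf (nat_lit 23074073)))) (BT.node (nat_lit 7355584) (BT.node (nat_lit 7355520) (BT.leaf (nat_lit 22806289)) (BT.leaf (nat_lit 30009605))) (BT.node (nat_lit 7355648) (BT.leaf (nat_lit 25252373)) (BT.leaf (nat_lit 30016033))))) (BT.node (nat_lit 7355968) (BT.node (nat_lit 7355840) (BT.node (nat_lit 7355776) (BT.leaf (nat_lit 23291673)) (BT.leaf (nat_lit 23291677))) (BT.node (nat_lit 7355904) (BT.leaf (nat_lit 23074321)) (BT.leaf (nat_lit 27380745)))) (BT.node (nat_lit 7356096) (BT.node (nat_lit 7356032) (BT.leaf (nat_lit 33508637)) (BT.leaf (nat_lit 34088725))) (BT.node (nat_lit 7356160) (BT.leaf (nat_lit 34379297)) (BT.leaf (nat_lit 34601749))))))) (BT.node (nat_lit 7357248) (BT.node (nat_lit 7356736) (BT.node (nat_lit 7356480) (BT.node (nat_lit 7356352) (BT.node (nat_lit 7356288) (BT.leaf (nat_lit 22697745)) (BT.leaf (nat_lit 39579169))) (BT.node (nat_lit 7356416) (BT.leaf (nat_lit 23836697)) (BT.leaf (nat_lit 23836701)))) (BT.node (nat_lit 7356608) (BT.node (nat_lit 7356544) (BT.leaf (nat_lit 27525661)) (BT.leaf (nat_lit 25782549))) (BT.node (nat_lit 7356672) (BT.leaf (nat_lit 23955221)) (BT.leaf (nat_lit 24207365))))) (BT.node (nat_lit 7356992) (BT.node (nat_lit 7356864) (BT.node (nat_lit 7356800) (BT.leaf (nat_lit 22698269)) (BT.leaf (nat_lit 31799069))) (BT.node (nat_lit 7356928) (BT.leaf (nat_lit 23075089)) (BT.leaf (nat_lit 41199109)))) (BT.node (nat_lit 7357120) (BT.node (nat_lit 7357056) (BT.leaf (nat_lit 28759321)) (BT.leaf (nat_lit 28041761))) (BT.node (nat_lit 7357184) (BT.leaf (nat_lit 27617569)) (BT.leaf (nat_lit 27617825)))))) (BT.node (nat_lit 7357760) (BT.node (nat_lit 7357504) (BT.node (nat_lit 7357376) (BT.node (nat_lit 7357312) (BT.leaf (nat_lit 31931937)) (BT.leaf (nat_lit 29150997))) (BT.node (nat_lit 7357440) (BT.leaf (nat_lit 29429789)) (BT.leaf (nat_lit 34102033)))) (BT.node (nat_lit 7357632) (BT.node (nat_lit 7357568) (BT.leaf (nat_lit 28071701)) (BT.leaf (nat_lit 51390237))) (BT.node (nat_lit 7357696) (BT.leaf (nat_lit 33100825)) (BT.leaf (nat_lit 30939681))))) (BT.node (nat_lit 7358016) (BT.node (nat_lit 7357888) (BT.node (nat_lit 7357824) (BT.leaf (nat_lit 24870677)) (BT.leaf (nat_lit 23076617))) (BT.node (nat_lit 7357952) (BT.leaf (nat_lit 31360269)) (BT.leaf (nat_lit 30674181)))) (BT.node (nat_lit 7358144) (BT.node (nat_lit 7358080) (BT.leaf (nat_lit 47457813)) (BT.leaf (nat_lit 47195673))) (BT.node (nat_lit 7358208) (BT.leaf (nat_lit 37706257)) (BT.leaf (nat_lit 29671969))))))))) (BT.node (nat_lit 7362368) (BT.node (nat_lit 7360320) (BT.node (nat_lit 7359296) (BT.node (nat_lit 7358784) (BT.node (nat_lit 7358528) (BT.node (nat_lit 7358400) (BT.node (nat_lit 7358336) (BT.leaf (nat_lit 30706709)) (BT.leaf (nat_lit 50818073))) (BT.node (nat_lit 7358464) (BT.leaf (nat_lit 30706717)) (BT.leaf (nat_lit 35017753)))) (BT.node (nat_lit 7358656) (BT.node (nat_lit 7358592) (BT.leaf (nat_lit 38060577)) (BT.leaf (nat_lit 25749021))) (BT.node (nat_lit 7358720) (BT.leaf (nat_lit 25744153)) (BT.leaf (nat_lit 50772257))))) (BT.node (nat_lit 7359040) (BT.node (nat_lit 7358912) (BT.node (nat_lit 7358848) (BT.leaf (nat_lit 33473305)) (BT.leaf (nat_lit 32694293))) (BT.node (nat_lit 7358976) (BT.leaf (nat_lit 33473293)) (BT.leaf (nat_lit 23078673)))) (BT.node (nat_lit 7359168) (BT.node (nat_lit 7359104) (BT.leaf (nat_lit 22764561)) (BT.leaf (nat_lit 25254165))) (BT.node (nat_lit 7359232) (BT.leaf (nat_lit 31760409)) (BT.leaf (nat_lit 50818333)))))) (BT.node (nat_lit 7359808) (BT.node (nat_lit 7359552) (BT.node (nat_lit 7359424) (BT.node (nat_lit 7359360) (BT.leaf (nat_lit 47462421)) (BT.leaf (nat_lit 28072473))) (BT.node (nat_lit 7359488) (BT.leaf (nat_lit 24276245)) (BT.leaf (nat_lit 30227477)))) (BT.node (nat_lit 7359680) (BT.node (nat_lit 7359616) (BT.leaf (nat_lit 30440717)) (BT.leaf (nat_lit 28998665))) (BT.node (nat_lit 7359744) (BT.leaf (nat_lit 29895957)) (BT.leaf (nat_lit 29438733))))) (BT.node (nat_lit 7360064) (BT.node (nat_lit 7359936) (BT.node (nat_lit 7359872) (BT.leaf (nat_lit 46682129)) (BT.leaf (nat_lit 23228433))) (BT.node (nat_lit 7360000) (BT.leaf (nat_lit 27616801)) (BT.leaf (nat_lit 30131745)))) (BT.node (nat_lit 7360192) (BT.node (nat_lit 7360128) (BT.leaf (nat_lit 28223777)) (BT.leaf (nat_lit 25256469))) (BT.node (nat_lit 7360256) (BT.leaf (nat_lit 23079949)) (BT.leaf (nat_lit 31714065))))))) (BT.node (nat_lit 7361344) (BT.node (nat_lit 7360832) (BT.node (nat_lit 7360576) (BT.node (nat_lit 7360448) (BT.node (nat_lit 7360384) (BT.leaf (nat_lit 28872737)) (BT.leaf (nat_lit 37868557))) (BT.node (nat_lit 7360512) (BT.leaf (nat_lit 30445597)) (BT.leaf (nat_lit 32356629)))) (BT.node (nat_lit 7360704) (BT.node (nat_lit 7360640) (BT.leaf (nat_lit 29858829)) (BT.leaf (nat_lit 28689937))) (BT.node (nat_lit 7360768) (BT.leaf (nat_lit 24836105)) (BT.leaf (nat_lit 27371797))))) (BT.node (nat_lit 7361088) (BT.node (nat_lit 7360960) (BT.node (nat_lit 7360896) (BT.leaf (nat_lit 31204633)) (BT.leaf (nat_lit 28798225))) (BT.node (nat_lit 7361024) (BT.leaf (nat_lit 28414745)) (BT.leaf (nat_lit 41226517)))) (BT.node (nat_lit 7361216) (BT.node (nat_lit 7361152) (BT.leaf (nat_lit 23638561)) (BT.leaf (nat_lit 24709905))) (BT.node (nat_lit 7361280) (BT.leaf (nat_lit 41007905)) (BT.leaf (nat_lit 28647949)))))) (BT.node (nat_lit 7361856) (BT.node (nat_lit 7361600) (BT.node (nat_lit 7361472) (BT.node (nat_lit 7361408) (BT.leaf (nat_lit 41228813)) (BT.leaf (nat_lit 47024157))) (BT.node (nat_lit 7361536) (BT.leaf (nat_lit 28594189)) (BT.leaf (nat_lit 36542993)))) (BT.node (nat_lit 7361728) (BT.node (nat_lit 7361664) (BT.leaf (nat_lit 37608721)) (BT.leaf (nat_lit 28940313))) (BT.node (nat_lit 7361792) (BT.leaf (nat_lit 28940317)) (BT.leaf (nat_lit 22448913))))) (BT.node (nat_lit 7362112) (BT.node (nat_lit 7361984) (BT.node (nat_lit 7361920) (BT.leaf (nat_lit 22974745)) (BT.leaf (nat_lit 34558753))) (BT.node (nat_lit 7362048) (BT.leaf (nat_lit 29488397)) (BT.leaf (nat_lit 47466773)))) (BT.node (nat_lit 7362240) (BT.node (nat_lit 7362176) (BT.leaf (nat_lit 23081233)) (BT.leaf (nat_lit 23082773))) (BT.node (nat_lit 7362304) (BT.leaf (nat_lit 25274137)) (BT.leaf (nat_lit 25274125)))))))) (BT.node (nat_lit 7364416) (BT.node (nat_lit 7363392) (BT.node (nat_lit 7362880) (BT.node (nat_lit 7362624) (BT.node (nat_lit 7362496) (BT.node (nat_lit 7362432) (BT.leaf (nat_lit 25884185)) (BT.leaf (nat_lit 29449489))) (BT.node (nat_lit 7362560) (BT.leaf (nat_lit 23083537)) (BT.leaf (nat_lit 24703509)))) (BT.node (nat_lit 7362752) (BT.node (nat_lit 7362688) (BT.leaf (nat_lit 26705953)) (BT.leaf (nat_lit 24693509))) (BT.node (nat_lit 7362816) (BT.leaf (nat_lit 30033925)) (BT.leaf (nat_lit 25169941))))) (BT.node (nat_lit 7363136) (BT.node (nat_lit 7363008) (BT.node (nat_lit 7362944) (BT.leaf (nat_lit 22304789)) (BT.leaf (nat_lit 29451545))) (BT.node (nat_lit 7363072) (BT.leaf (nat_lit 37445397)) (BT.leaf (nat_lit 24123665)))) (BT.node (nat_lit 7363264) (BT.node (nat_lit 7363200) (BT.leaf (nat_lit 27103253)) (BT.leaf (nat_lit 30033673))) (BT.node (nat_lit 7363328) (BT.leaf (nat_lit 25265433)) (BT.leaf (nat_lit 22524441)))))) (BT.node (nat_lit 7363904) (BT.node (nat_lit 7363648) (BT.node (nat_lit 7363520) (BT.node (nat_lit 7363456) (BT.leaf (nat_lit 37445405)) (BT.leaf (nat_lit 22524445))) (BT.node (nat_lit 7363584) (BT.leaf (nat_lit 23085853)) (BT.leaf (nat_lit 32850693)))) (BT.node (nat_lit 7363776) (BT.node (nat_lit 7363712) (BT.leaf (nat_lit 23086093)) (BT.leaf (nat_lit 23086089))) (BT.node (nat_lit 7363840) (BT.leaf (nat_lit 30380573)) (BT.leaf (nat_lit 23086609))))) (BT.node (nat_lit 7364160) (BT.node (nat_lit 7364032) (BT.node (nat_lit 7363968) (BT.leaf (nat_lit 23086353)) (BT.leaf (nat_lit 23086357))) (BT.node (nat_lit 7364096) (BT.leaf (nat_lit 37432861)) (BT.leaf (nat_lit 47470873)))) (BT.node (nat_lit 7364288) (BT.node (nat_lit 7364224) (BT.leaf (nat_lit 37545241)) (BT.leaf (nat_lit 49621273))) (BT.node (nat_lit 7364352) (BT.leaf (nat_lit 32350749)) (BT.leaf (nat_lit 47818521))))))) (BT.node (nat_lit 7365440) (BT.node (nat_lit 7364928) (BT.node (nat_lit 7364672) (BT.node (nat_lit 7364544) (BT.node (nat_lit 7364480) (BT.leaf (nat_lit 48141829)) (BT.leaf (nat_lit 47136017))) (BT.node (nat_lit 7364608) (BT.leaf (nat_lit 36667673)) (BT.leaf (nat_lit 24514593)))) (BT.node (nat_lit 7364800) (BT.node (nat_lit 7364736) (BT.leaf (nat_lit 27732245)) (BT.leaf (nat_lit 47978009))) (BT.node (nat_lit 7364864) (BT.leaf (nat_lit 22828061)) (BT.leaf (nat_lit 48185117))))) (BT.node (nat_lit 7365184) (BT.node (nat_lit 7365056) (BT.node (nat_lit 7364992) (BT.leaf (nat_lit 26581789)) (BT.leaf (nat_lit 31641121))) (BT.node (nat_lit 7365120) (BT.leaf (nat_lit 24514849)) (BT.leaf (nat_lit 23087649)))) (BT.node (nat_lit 7365312) (BT.node (nat_lit 7365248) (BT.leaf (nat_lit 23466005)) (BT.leaf (nat_lit 48141833))) (BT.node (nat_lit 7365376) (BT.leaf (nat_lit 35832085)) (BT.leaf (nat_lit 22821137)))))) (BT.node (nat_lit 7365952) (BT.node (nat_lit 7365696) (BT.node (nat_lit 7365568) (BT.node (nat_lit 7365504) (BT.leaf (nat_lit 35438865)) (BT.leaf (nat_lit 32383749))) (BT.node (nat_lit 7365632) (BT.leaf (nat_lit 47473429)) (BT.leaf (nat_lit 32383765)))) (BT.node (nat_lit 7365824) (BT.node (nat_lit 7365760) (BT.leaf (nat_lit 23087889)) (BT.leaf (nat_lit 24611085))) (BT.node (nat_lit 7365888) (BT.leaf (nat_lit 24611601)) (BT.leaf (nat_lit 26582049))))) (BT.node (nat_lit 7366208) (BT.node (nat_lit 7366080) (BT.node (nat_lit 7366016) (BT.leaf (nat_lit 23242005)) (BT.leaf (nat_lit 37843233))) (BT.node (nat_lit 7366144) (BT.leaf (nat_lit 27706389)) (BT.leaf (nat_lit 23088917)))) (BT.node (nat_lit 7366336) (BT.node (nat_lit 7366272) (BT.leaf (nat_lit 28508689)) (BT.leaf (nat_lit 23089181))) (BT.node (nat_lit 7366400) (BT.leaf (nat_lit 23089417)) (BT.leaf (nat_lit 31577121))))))))))) (BT.node (nat_lit 7382720) (BT.node (nat_lit 7374528) (BT.node (nat_lit 7370432) (BT.node (nat_lit 7368512) (BT.node (nat_lit 7367488) (BT.node (nat_lit 7366976) (BT.node (nat_lit 7366720) (BT.node (nat_lit 7366592) (BT.node (nat_lit 7366528) (BT.leaf (nat_lit 24611873)) (BT.leaf (nat_lit 34813217))) (BT.node (nat_lit 7366656) (BT.leaf (nat_lit 34813729)) (BT.leaf (nat_lit 34813473)))) (BT.node (nat_lit 7366848) (BT.node (nat_lit 7366784) (BT.leaf (nat_lit 23089425)) (BT.leaf (nat_lit 25265953))) (BT.node (nat_lit 7366912) (BT.leaf (nat_lit 22754845)) (BT.leaf (nat_lit 29161997))))) (BT.node (nat_lit 7367232) (BT.node (nat_lit 7367104) (BT.node (nat_lit 7367040) (BT.leaf (nat_lit 23466009)) (BT.leaf (nat_lit 23089937))) (BT.node (nat_lit 7367168) (BT.leaf (nat_lit 23090449)) (BT.leaf (nat_lit 23090193)))) (BT.node (nat_lit 7367360) (BT.node (nat_lit 7367296) (BT.leaf (nat_lit 31069725)) (BT.leaf (nat_lit 22828057))) (BT.node (nat_lit 7367424) (BT.leaf (nat_lit 48184597)) (BT.leaf (nat_lit 41217553)))))) (BT.node (nat_lit 7368000) (BT.node (nat_lit 7367744) (BT.node (nat_lit 7367616) (BT.node (nat_lit 7367552) (BT.leaf (nat_lit 29461533)) (BT.leaf (nat_lit 49131029))) (BT.node (nat_lit 7367680) (BT.leaf (nat_lit 23091217)) (BT.leaf (nat_lit 28423189)))) (BT.node (nat_lit 7367872) (BT.node (nat_lit 7367808) (BT.leaf (nat_lit 28423193)) (BT.leaf (nat_lit 28423197))) (BT.node (nat_lit 7367936) (BT.leaf (nat_lit 34829585)) (BT.leaf (nat_lit 23625745))))) (BT.node (nat_lit 7368256) (BT.node (nat_lit 7368128) (BT.node (nat_lit 7368064) (BT.leaf (nat_lit 23095573)) (BT.leaf (nat_lit 31645973))) (BT.node (nat_lit 7368192) (BT.leaf (nat_lit 39686425)) (BT.leaf (nat_lit 24671249)))) (BT.node (nat_lit 7368384) (BT.node (nat_lit 7368320) (BT.leaf (nat_lit 35210757)) (BT.leaf (nat_lit 36205337))) (BT.node (nat_lit 7368448) (BT.leaf (nat_lit 23096337)) (BT.leaf (nat_lit 37835037))))))) (BT.node (nat_lit 7369536) (BT.node (nat_lit 7369024) (BT.node (nat_lit 7368768) (BT.node (nat_lit 7368640) (BT.node (nat_lit 7368576) (BT.leaf (nat_lit 24295441)) (BT.leaf (nat_lit 23099665))) (BT.node (nat_lit 7368704) (BT.leaf (nat_lit 23100433)) (BT.leaf (nat_lit 30791697)))) (BT.node (nat_lit 7368896) (BT.node (nat_lit 7368832) (BT.leaf (nat_lit 31682077)) (BT.leaf (nat_lit 23737873))) (BT.node (nat_lit 7368960) (BT.leaf (nat_lit 47176721)) (BT.leaf (nat_lit 32214049))))) (BT.node (nat_lit 7369280) (BT.node (nat_lit 7369152) (BT.node (nat_lit 7369088) (BT.leaf (nat_lit 32212769)) (BT.leaf (nat_lit 29906193))) (BT.node (nat_lit 7369216) (BT.leaf (nat_lit 29906713)) (BT.leaf (nat_lit 29906717)))) (BT.node (nat_lit 7369408) (BT.node (nat_lit 7369344) (BT.leaf (nat_lit 29173769)) (BT.leaf (nat_lit 29526025))) (BT.node (nat_lit 7369472) (BT.leaf (nat_lit 47337241)) (BT.leaf (nat_lit 33662725)))))) (BT.node (nat_lit 7370048) (BT.node (nat_lit 7369792) (BT.node (nat_lit 7369664) (BT.node (nat_lit 7369600) (BT.leaf (nat_lit 46677269)) (BT.leaf (nat_lit 35012625))) (BT.node (nat_lit 7369728) (BT.leaf (nat_lit 37190405)) (BT.leaf (nat_lit 24265497)))) (BT.node (nat_lit 7369920) (BT.node (nat_lit 7369856) (BT.leaf (nat_lit 24265501)) (BT.leaf (nat_lit 47484173))) (BT.node (nat_lit 7369984) (BT.leaf (nat_lit 29479965)) (BT.leaf (nat_lit 36246293))))) (BT.node (nat_lit 7370244) (BT.node (nat_lit 7370176) (BT.node (nat_lit 7370112) (BT.leaf (nat_lit 23292689)) (BT.leaf (nat_lit 32552481))) (BT.node (nat_lit 7370240) (BT.leaf (nat_lit 30788869)) (BT.leaf (nat_lit 47486213)))) (BT.node (nat_lit 7370304) (BT.node (nat_lit 7370245) (BT.leaf (nat_lit 618328)) (BT.leaf (nat_lit 618328))) (BT.node (nat_lit 7370368) (BT.leaf (nat_lit 36196613)) (BT.leaf (nat_lit 47588101)))))))) (BT.node (nat_lit 7372480) (BT.node (nat_lit 7371456) (BT.node (nat_lit 7370944) (BT.node (nat_lit 7370688) (BT.node (nat_lit 7370560) (BT.node (nat_lit 7370496) (BT.leaf (nat_lit 29481997)) (BT.leaf (nat_lit 29539093))) (BT.node (nat_lit 7370624) (BT.leaf (nat_lit 23103509)) (BT.leaf (nat_lit 52328977)))) (BT.node (nat_lit 7370816) (BT.node (nat_lit 7370752) (BT.leaf (nat_lit 29097489)) (BT.leaf (nat_lit 23290133))) (BT.node (nat_lit 7370880) (BT.leaf (nat_lit 23290137)) (BT.leaf (nat_lit 25761049))))) (BT.node (nat_lit 7371200) (BT.node (nat_lit 7371072) (BT.node (nat_lit 7371008) (BT.leaf (nat_lit 25317653)) (BT.leaf (nat_lit 24346645))) (BT.node (nat_lit 7371136) (BT.leaf (nat_lit 34935045)) (BT.leaf (nat_lit 23105041)))) (BT.node (nat_lit 7371328) (BT.node (nat_lit 7371264) (BT.leaf (nat_lit 34175517)) (BT.leaf (nat_lit 41403653))) (BT.node (nat_lit 7371392) (BT.leaf (nat_lit 31839005)) (BT.leaf (nat_lit 23106321)))))) (BT.node (nat_lit 7371968) (BT.node (nat_lit 7371712) (BT.node (nat_lit 7371584) (BT.node (nat_lit 7371520) (BT.leaf (nat_lit 34714389)) (BT.leaf (nat_lit 24408341))) (BT.node (nat_lit 7371648) (BT.leaf (nat_lit 24263941)) (BT.leaf (nat_lit 47478789)))) (BT.node (nat_lit 7371840) (BT.node (nat_lit 7371776) (BT.leaf (nat_lit 24146461)) (BT.leaf (nat_lit 48315145))) (BT.node (nat_lit 7371904) (BT.leaf (nat_lit 23139605)) (BT.leaf (nat_lit 24684313))))) (BT.node (nat_lit 7372224) (BT.node (nat_lit 7372096) (BT.node (nat_lit 7372032) (BT.leaf (nat_lit 26893581)) (BT.leaf (nat_lit 47492617))) (BT.node (nat_lit 7372160) (BT.leaf (nat_lit 47493397)) (BT.leaf (nat_lit 46504213)))) (BT.node (nat_lit 7372352) (BT.node (nat_lit 7372288) (BT.leaf (nat_lit 23095313)) (BT.leaf (nat_lit 35784473))) (BT.node (nat_lit 7372416) (BT.leaf (nat_lit 25301277)) (BT.leaf (nat_lit 23109901))))))) (BT.node (nat_lit 7373504) (BT.node (nat_lit 7372992) (BT.node (nat_lit 7372736) (BT.node (nat_lit 7372608) (BT.node (nat_lit 7372544) (BT.leaf (nat_lit 25301257)) (BT.leaf (nat_lit 23109905))) (BT.node (nat_lit 7372672) (BT.leaf (nat_lit 25274141)) (BT.leaf (nat_lit 23111697)))) (BT.node (nat_lit 7372864) (BT.node (nat_lit 7372800) (BT.leaf (nat_lit 23137553)) (BT.leaf (nat_lit 34818585))) (BT.node (nat_lit 7372928) (BT.leaf (nat_lit 32647685)) (BT.leaf (nat_lit 23111449))))) (BT.node (nat_lit 7373248) (BT.node (nat_lit 7373120) (BT.node (nat_lit 7373056) (BT.leaf (nat_lit 23593993)) (BT.leaf (nat_lit 47494169))) (BT.node (nat_lit 7373184) (BT.leaf (nat_lit 39701273)) (BT.leaf (nat_lit 28411421)))) (BT.node (nat_lit 7373376) (BT.node (nat_lit 7373312) (BT.leaf (nat_lit 39190021)) (BT.leaf (nat_lit 22512657))) (BT.node (nat_lit 7373440) (BT.leaf (nat_lit 24512533)) (BT.leaf (nat_lit 24512541)))))) (BT.node (nat_lit 7374016) (BT.node (nat_lit 7373760) (BT.node (nat_lit 7373632) (BT.node (nat_lit 7373568) (BT.leaf (nat_lit 23113737)) (BT.leaf (nat_lit 22613269))) (BT.node (nat_lit 7373696) (BT.leaf (nat_lit 36669709)) (BT.leaf (nat_lit 36399389)))) (BT.node (nat_lit 7373888) (BT.node (nat_lit 7373824) (BT.leaf (nat_lit 23574037)) (BT.leaf (nat_lit 39927825))) (BT.node (nat_lit 7373952) (BT.leaf (nat_lit 23116817)) (BT.leaf (nat_lit 23117329))))) (BT.node (nat_lit 7374272) (BT.node (nat_lit 7374144) (BT.node (nat_lit 7374080) (BT.leaf (nat_lit 24770581)) (BT.leaf (nat_lit 35019033))) (BT.node (nat_lit 7374208) (BT.leaf (nat_lit 48763653)) (BT.leaf (nat_lit 28891665)))) (BT.node (nat_lit 7374400) (BT.node (nat_lit 7374336) (BT.leaf (nat_lit 28891669)) (BT.leaf (nat_lit 49511941))) (BT.node (nat_lit 7374464) (BT.leaf (nat_lit 24077577)) (BT.leaf (nat_lit 23578645))))))))) (BT.node (nat_lit 7378624) (BT.node (nat_lit 7376576) (BT.node (nat_lit 7375552) (BT.node (nat_lit 7375040) (BT.node (nat_lit 7374784) (BT.node (nat_lit 7374656) (BT.node (nat_lit 7374592) (BT.leaf (nat_lit 23389713)) (BT.leaf (nat_lit 38365193))) (BT.node (nat_lit 7374720) (BT.leaf (nat_lit 23591949)) (BT.leaf (nat_lit 23122449)))) (BT.node (nat_lit 7374912) (BT.node (nat_lit 7374848) (BT.leaf (nat_lit 23122193)) (BT.leaf (nat_lit 23121937))) (BT.node (nat_lit 7374976) (BT.leaf (nat_lit 23619341)) (BT.leaf (nat_lit 25555465))))) (BT.node (nat_lit 7375296) (BT.node (nat_lit 7375168) (BT.node (nat_lit 7375104) (BT.leaf (nat_lit 47496737)) (BT.leaf (nat_lit 47496965))) (BT.node (nat_lit 7375232) (BT.leaf (nat_lit 47497221)) (BT.leaf (nat_lit 47497493)))) (BT.node (nat_lit 7375424) (BT.node (nat_lit 7375360) (BT.leaf (nat_lit 23127573)) (BT.leaf (nat_lit 23579413))) (BT.node (nat_lit 7375488) (BT.leaf (nat_lit 24354065)) (BT.leaf (nat_lit 24088849)))))) (BT.node (nat_lit 7376064) (BT.node (nat_lit 7375808) (BT.node (nat_lit 7375680) (BT.node (nat_lit 7375616) (BT.leaf (nat_lit 27389985)) (BT.leaf (nat_lit 27389969))) (BT.node (nat_lit 7375744) (BT.leaf (nat_lit 29503005)) (BT.leaf (nat_lit 47498773)))) (BT.node (nat_lit 7375936) (BT.node (nat_lit 7375872) (BT.leaf (nat_lit 23153433)) (BT.leaf (nat_lit 39933713))) (BT.node (nat_lit 7376000) (BT.leaf (nat_lit 40546065)) (BT.leaf (nat_lit 24885009))))) (BT.node (nat_lit 7376320) (BT.node (nat_lit 7376192) (BT.node (nat_lit 7376128) (BT.leaf (nat_lit 28651289)) (BT.leaf (nat_lit 32478225))) (BT.node (nat_lit 7376256) (BT.leaf (nat_lit 24073493)) (BT.leaf (nat_lit 24073497)))) (BT.node (nat_lit 7376448) (BT.node (nat_lit 7376384) (BT.leaf (nat_lit 24073501)) (BT.leaf (nat_lit 37799969))) (BT.node (nat_lit 7376512) (BT.leaf (nat_lit 36346129)) (BT.leaf (nat_lit 23150101))))))) (BT.node (nat_lit 7377600) (BT.node (nat_lit 7377088) (BT.node (nat_lit 7376832) (BT.node (nat_lit 7376704) (BT.node (nat_lit 7376640) (BT.leaf (nat_lit 24694533)) (BT.leaf (nat_lit 24694549))) (BT.node (nat_lit 7376768) (BT.leaf (nat_lit 23124505)) (BT.leaf (nat_lit 24629001)))) (BT.node (nat_lit 7376960) (BT.node (nat_lit 7376896) (BT.leaf (nat_lit 23125521)) (BT.leaf (nat_lit 47503137))) (BT.node (nat_lit 7377024) (BT.leaf (nat_lit 31760397)) (BT.leaf (nat_lit 24266769))))) (BT.node (nat_lit 7377344) (BT.node (nat_lit 7377216) (BT.node (nat_lit 7377152) (BT.leaf (nat_lit 34820869)) (BT.leaf (nat_lit 24629025))) (BT.node (nat_lit 7377280) (BT.leaf (nat_lit 32565281)) (BT.leaf (nat_lit 29509405)))) (BT.node (nat_lit 7377472) (BT.node (nat_lit 7377408) (BT.leaf (nat_lit 47503381)) (BT.leaf (nat_lit 23157013))) (BT.node (nat_lit 7377536) (BT.leaf (nat_lit 36364037)) (BT.leaf (nat_lit 40721429)))))) (BT.node (nat_lit 7378112) (BT.node (nat_lit 7377856) (BT.node (nat_lit 7377728) (BT.node (nat_lit 7377664) (BT.leaf (nat_lit 47504149)) (BT.leaf (nat_lit 25297933))) (BT.node (nat_lit 7377792) (BT.leaf (nat_lit 25297945)) (BT.leaf (nat_lit 23130385)))) (BT.node (nat_lit 7377984) (BT.node (nat_lit 7377920) (BT.leaf (nat_lit 39539741)) (BT.leaf (nat_lit 23085333))) (BT.node (nat_lit 7378048) (BT.leaf (nat_lit 29558029)) (BT.leaf (nat_lit 25297949))))) (BT.node (nat_lit 7378368) (BT.node (nat_lit 7378240) (BT.node (nat_lit 7378176) (BT.leaf (nat_lit 41362453)) (BT.leaf (nat_lit 27139077))) (BT.node (nat_lit 7378304) (BT.leaf (nat_lit 34812701)) (BT.leaf (nat_lit 47506197)))) (BT.node (nat_lit 7378496) (BT.node (nat_lit 7378432) (BT.leaf (nat_lit 23130885)) (BT.leaf (nat_lit 32374041))) (BT.node (nat_lit 7378560) (BT.leaf (nat_lit 32372997)) (BT.leaf (nat_lit 23130905)))))))) (BT.node (nat_lit 7380672) (BT.node (nat_lit 7379648) (BT.node (nat_lit 7379136) (BT.node (nat_lit 7378880) (BT.node (nat_lit 7378752) (BT.node (nat_lit 7378688) (BT.leaf (nat_lit 32373009)) (BT.leaf (nat_lit 27140357))) (BT.node (nat_lit 7378816) (BT.leaf (nat_lit 23130909)) (BT.leaf (nat_lit 23709705)))) (BT.node (nat_lit 7379008) (BT.node (nat_lit 7378944) (BT.leaf (nat_lit 23620381)) (BT.leaf (nat_lit 23620361))) (BT.node (nat_lit 7379072) (BT.leaf (nat_lit 30656281)) (BT.leaf (nat_lit 29782549))))) (BT.node (nat_lit 7379392) (BT.node (nat_lit 7379264) (BT.node (nat_lit 7379200) (BT.leaf (nat_lit 27957773)) (BT.leaf (nat_lit 30784009))) (BT.node (nat_lit 7379328) (BT.leaf (nat_lit 23709961)) (BT.leaf (nat_lit 24705801)))) (BT.node (nat_lit 7379520) (BT.node (nat_lit 7379456) (BT.leaf (nat_lit 35230213)) (BT.leaf (nat_lit 26495761))) (BT.node (nat_lit 7379584) (BT.leaf (nat_lit 34656289)) (BT.leaf (nat_lit 23582241)))))) (BT.node (nat_lit 7380160) (BT.node (nat_lit 7379904) (BT.node (nat_lit 7379776) (BT.node (nat_lit 7379712) (BT.leaf (nat_lit 30047769)) (BT.leaf (nat_lit 23094545))) (BT.node (nat_lit 7379840) (BT.leaf (nat_lit 36669705)) (BT.leaf (nat_lit 26254349)))) (BT.node (nat_lit 7380032) (BT.node (nat_lit 7379968) (BT.leaf (nat_lit 47508749)) (BT.leaf (nat_lit 29520157))) (BT.node (nat_lit 7380096) (BT.leaf (nat_lit 47509013)) (BT.leaf (nat_lit 41231125))))) (BT.node (nat_lit 7380416) (BT.node (nat_lit 7380288) (BT.node (nat_lit 7380224) (BT.leaf (nat_lit 33774089)) (BT.leaf (nat_lit 24370197))) (BT.node (nat_lit 7380352) (BT.leaf (nat_lit 24370201)) (BT.leaf (nat_lit 24370205)))) (BT.node (nat_lit 7380544) (BT.node (nat_lit 7380480) (BT.leaf (nat_lit 47510545)) (BT.leaf (nat_lit 40790817))) (BT.node (nat_lit 7380608) (BT.leaf (nat_lit 47511325)) (BT.leaf (nat_lit 24369685))))))) (BT.node (nat_lit 7381696) (BT.node (nat_lit 7381184) (BT.node (nat_lit 7380928) (BT.node (nat_lit 7380800) (BT.node (nat_lit 7380736) (BT.leaf (nat_lit 24369689)) (BT.leaf (nat_lit 24369693))) (BT.node (nat_lit 7380864) (BT.leaf (nat_lit 51261713)) (BT.leaf (nat_lit 38187801)))) (BT.node (nat_lit 7381056) (BT.node (nat_lit 7380992) (BT.leaf (nat_lit 27541265)) (BT.leaf (nat_lit 29592081))) (BT.node (nat_lit 7381120) (BT.leaf (nat_lit 47514897)) (BT.leaf (nat_lit 30891781))))) (BT.node (nat_lit 7381440) (BT.node (nat_lit 7381312) (BT.node (nat_lit 7381248) (BT.leaf (nat_lit 27636245)) (BT.leaf (nat_lit 27636249))) (BT.node (nat_lit 7381376) (BT.leaf (nat_lit 27636253)) (BT.leaf (nat_lit 22977557)))) (BT.node (nat_lit 7381568) (BT.node (nat_lit 7381504) (BT.leaf (nat_lit 25980677)) (BT.leaf (nat_lit 34294293))) (BT.node (nat_lit 7381632) (BT.leaf (nat_lit 30613789)) (BT.leaf (nat_lit 30619169)))))) (BT.node (nat_lit 7382208) (BT.node (nat_lit 7381952) (BT.node (nat_lit 7381824) (BT.node (nat_lit 7381760) (BT.leaf (nat_lit 28094753)) (BT.leaf (nat_lit 34293781))) (BT.node (nat_lit 7381888) (BT.leaf (nat_lit 31563025)) (BT.leaf (nat_lit 23139345)))) (BT.node (nat_lit 7382080) (BT.node (nat_lit 7382016) (BT.leaf (nat_lit 23107345)) (BT.leaf (nat_lit 23138321))) (BT.node (nat_lit 7382144) (BT.leaf (nat_lit 41389089)) (BT.leaf (nat_lit 23139609))))) (BT.node (nat_lit 7382464) (BT.node (nat_lit 7382336) (BT.node (nat_lit 7382272) (BT.leaf (nat_lit 23139613)) (BT.leaf (nat_lit 23139089))) (BT.node (nat_lit 7382400) (BT.leaf (nat_lit 34345237)) (BT.leaf (nat_lit 23608089)))) (BT.node (nat_lit 7382592) (BT.node (nat_lit 7382528) (BT.leaf (nat_lit 23608093)) (BT.leaf (nat_lit 35229217))) (BT.node (nat_lit 7382656) (BT.leaf (nat_lit 24360981)) (BT.leaf (nat_lit 29530905)))))))))) (BT.node (nat_lit 7390912) (BT.node (nat_lit 7386816) (BT.node (nat_lit 7384768) (BT.node (nat_lit 7383744) (BT.node (nat_lit 7383232) (BT.node (nat_lit 7382976) (BT.node (nat_lit 7382848) (BT.node (nat_lit 7382784) (BT.leaf (nat_lit 23083029)) (BT.leaf (nat_lit 31839257))) (BT.node (nat_lit 7382912) (BT.leaf (nat_lit 29531153)) (BT.leaf (nat_lit 29406749)))) (BT.node (nat_lit 7383104) (BT.node (nat_lit 7383040) (BT.leaf (nat_lit 25274121)) (BT.leaf (nat_lit 25913373))) (BT.node (nat_lit 7383168) (BT.leaf (nat_lit 23141917)) (BT.leaf (nat_lit 23414545))))) (BT.node (nat_lit 7383488) (BT.node (nat_lit 7383360) (BT.node (nat_lit 7383296) (BT.leaf (nat_lit 23141913)) (BT.leaf (nat_lit 23184917))) (BT.node (nat_lit 7383424) (BT.leaf (nat_lit 23184921)) (BT.leaf (nat_lit 23184925)))) (BT.node (nat_lit 7383616) (BT.node (nat_lit 7383552) (BT.leaf (nat_lit 47518993)) (BT.leaf (nat_lit 27856149))) (BT.node (nat_lit 7383680) (BT.leaf (nat_lit 29185285)) (BT.leaf (nat_lit 29591829)))))) (BT.node (nat_lit 7384256) (BT.node (nat_lit 7384000) (BT.node (nat_lit 7383872) (BT.node (nat_lit 7383808) (BT.leaf (nat_lit 29591833)) (BT.leaf (nat_lit 29591837))) (BT.node (nat_lit 7383936) (BT.leaf (nat_lit 27635977)) (BT.leaf (nat_lit 27635981)))) (BT.node (nat_lit 7384128) (BT.node (nat_lit 7384064) (BT.leaf (nat_lit 27635993)) (BT.leaf (nat_lit 27635997))) (BT.node (nat_lit 7384192) (BT.leaf (nat_lit 27636001)) (BT.leaf (nat_lit 47521301))))) (BT.node (nat_lit 7384512) (BT.node (nat_lit 7384384) (BT.node (nat_lit 7384320) (BT.leaf (nat_lit 50757137)) (BT.leaf (nat_lit 47313697))) (BT.node (nat_lit 7384448) (BT.leaf (nat_lit 24828693)) (BT.leaf (nat_lit 23102481)))) (BT.node (nat_lit 7384640) (BT.node (nat_lit 7384576) (BT.leaf (nat_lit 47000593)) (BT.leaf (nat_lit 32262173))) (BT.node (nat_lit 7384704) (BT.leaf (nat_lit 47523357)) (BT.leaf (nat_lit 23145761))))))) (BT.node (nat_lit 7385792) (BT.node (nat_lit 7385280) (BT.node (nat_lit 7385024) (BT.node (nat_lit 7384896) (BT.node (nat_lit 7384832) (BT.leaf (nat_lit 47672329)) (BT.leaf (nat_lit 47672333))) (BT.node (nat_lit 7384960) (BT.leaf (nat_lit 51243297)) (BT.leaf (nat_lit 35076113)))) (BT.node (nat_lit 7385152) (BT.node (nat_lit 7385088) (BT.leaf (nat_lit 47249937)) (BT.leaf (nat_lit 30251541))) (BT.node (nat_lit 7385216) (BT.leaf (nat_lit 29905173)) (BT.leaf (nat_lit 29905177))))) (BT.node (nat_lit 7385536) (BT.node (nat_lit 7385408) (BT.node (nat_lit 7385344) (BT.leaf (nat_lit 28955425)) (BT.leaf (nat_lit 34337033))) (BT.node (nat_lit 7385472) (BT.leaf (nat_lit 38074657)) (BT.leaf (nat_lit 47526917)))) (BT.node (nat_lit 7385664) (BT.node (nat_lit 7385600) (BT.leaf (nat_lit 34337049)) (BT.leaf (nat_lit 34337053))) (BT.node (nat_lit 7385728) (BT.leaf (nat_lit 29259797)) (BT.leaf (nat_lit 28955397)))))) (BT.node (nat_lit 7386304) (BT.node (nat_lit 7386048) (BT.node (nat_lit 7385920) (BT.node (nat_lit 7385856) (BT.leaf (nat_lit 38109453)) (BT.leaf (nat_lit 28955413))) (BT.node (nat_lit 7385984) (BT.leaf (nat_lit 23146513)) (BT.leaf (nat_lit 23102737)))) (BT.node (nat_lit 7386176) (BT.node (nat_lit 7386112) (BT.leaf (nat_lit 31608345)) (BT.leaf (nat_lit 28414749))) (BT.node (nat_lit 7386240) (BT.leaf (nat_lit 23146001)) (BT.leaf (nat_lit 25869589))))) (BT.node (nat_lit 7386560) (BT.node (nat_lit 7386432) (BT.node (nat_lit 7386368) (BT.leaf (nat_lit 28151057)) (BT.leaf (nat_lit 34458629))) (BT.node (nat_lit 7386496) (BT.leaf (nat_lit 47531793)) (BT.leaf (nat_lit 30649113)))) (BT.node (nat_lit 7386688) (BT.node (nat_lit 7386624) (BT.leaf (nat_lit 46668301)) (BT.leaf (nat_lit 30558733))) (BT.node (nat_lit 7386752) (BT.leaf (nat_lit 29546521)) (BT.leaf (nat_lit 49543189)))))))) (BT.node (nat_lit 7388864) (BT.node (nat_lit 7387840) (BT.node (nat_lit 7387328) (BT.node (nat_lit 7387072) (BT.node (nat_lit 7386944) (BT.node (nat_lit 7386880) (BT.leaf (nat_lit 26749213)) (BT.leaf (nat_lit 23150109))) (BT.node (nat_lit 7387008) (BT.leaf (nat_lit 23150365)) (BT.leaf (nat_lit 22799133)))) (BT.node (nat_lit 7387200) (BT.node (nat_lit 7387136) (BT.leaf (nat_lit 24427541)) (BT.leaf (nat_lit 23151129))) (BT.node (nat_lit 7387264) (BT.leaf (nat_lit 24316949)) (BT.leaf (nat_lit 30558985))))) (BT.node (nat_lit 7387584) (BT.node (nat_lit 7387456) (BT.node (nat_lit 7387392) (BT.leaf (nat_lit 34900513)) (BT.leaf (nat_lit 23888141))) (BT.node (nat_lit 7387520) (BT.leaf (nat_lit 28097293)) (BT.leaf (nat_lit 28097297)))) (BT.node (nat_lit 7387712) (BT.node (nat_lit 7387648) (BT.leaf (nat_lit 28598041)) (BT.leaf (nat_lit 28598045))) (BT.node (nat_lit 7387776) (BT.leaf (nat_lit 30457105)) (BT.leaf (nat_lit 34200077)))))) (BT.node (nat_lit 7388352) (BT.node (nat_lit 7388096) (BT.node (nat_lit 7387968) (BT.node (nat_lit 7387904) (BT.leaf (nat_lit 47537953)) (BT.leaf (nat_lit 36144409))) (BT.node (nat_lit 7388032) (BT.leaf (nat_lit 36376337)) (BT.leaf (nat_lit 23153437)))) (BT.node (nat_lit 7388224) (BT.node (nat_lit 7388160) (BT.leaf (nat_lit 23153441)) (BT.leaf (nat_lit 47868689))) (BT.node (nat_lit 7388288) (BT.leaf (nat_lit 51609093)) (BT.leaf (nat_lit 41430817))))) (BT.node (nat_lit 7388608) (BT.node (nat_lit 7388480) (BT.node (nat_lit 7388416) (BT.leaf (nat_lit 24772357)) (BT.leaf (nat_lit 31873541))) (BT.node (nat_lit 7388544) (BT.leaf (nat_lit 23128849)) (BT.leaf (nat_lit 23156757)))) (BT.node (nat_lit 7388736) (BT.node (nat_lit 7388672) (BT.leaf (nat_lit 23130901)) (BT.leaf (nat_lit 23157017))) (BT.node (nat_lit 7388800) (BT.leaf (nat_lit 45818633)) (BT.leaf (nat_lit 23157021))))))) (BT.node (nat_lit 7389888) (BT.node (nat_lit 7389376) (BT.node (nat_lit 7389120) (BT.node (nat_lit 7388992) (BT.node (nat_lit 7388928) (BT.leaf (nat_lit 25312009)) (BT.leaf (nat_lit 46672413))) (BT.node (nat_lit 7389056) (BT.leaf (nat_lit 46672393)) (BT.leaf (nat_lit 25312029)))) (BT.node (nat_lit 7389248) (BT.node (nat_lit 7389184) (BT.leaf (nat_lit 32554529)) (BT.leaf (nat_lit 25297929))) (BT.node (nat_lit 7389312) (BT.leaf (nat_lit 41353993)) (BT.leaf (nat_lit 27161349))))) (BT.node (nat_lit 7389632) (BT.node (nat_lit 7389504) (BT.node (nat_lit 7389440) (BT.leaf (nat_lit 23158289)) (BT.leaf (nat_lit 47542557))) (BT.node (nat_lit 7389568) (BT.leaf (nat_lit 47542293)) (BT.leaf (nat_lit 29509389)))) (BT.node (nat_lit 7389760) (BT.node (nat_lit 7389696) (BT.leaf (nat_lit 27163397)) (BT.leaf (nat_lit 29510409))) (BT.node (nat_lit 7389824) (BT.leaf (nat_lit 24707605)) (BT.leaf (nat_lit 30590469)))))) (BT.node (nat_lit 7390400) (BT.node (nat_lit 7390144) (BT.node (nat_lit 7390016) (BT.node (nat_lit 7389952) (BT.leaf (nat_lit 47407889)) (BT.leaf (nat_lit 47544337))) (BT.node (nat_lit 7390080) (BT.leaf (nat_lit 23588617)) (BT.leaf (nat_lit 46852629)))) (BT.node (nat_lit 7390272) (BT.node (nat_lit 7390208) (BT.leaf (nat_lit 47545373)) (BT.leaf (nat_lit 41454613))) (BT.node (nat_lit 7390336) (BT.leaf (nat_lit 41344265)) (BT.leaf (nat_lit 47546133))))) (BT.node (nat_lit 7390656) (BT.node (nat_lit 7390528) (BT.node (nat_lit 7390464) (BT.leaf (nat_lit 47546629)) (BT.leaf (nat_lit 47546901))) (BT.node (nat_lit 7390592) (BT.leaf (nat_lit 39343621)) (BT.leaf (nat_lit 23159313)))) (BT.node (nat_lit 7390784) (BT.node (nat_lit 7390720) (BT.leaf (nat_lit 47548189)) (BT.leaf (nat_lit 28560405))) (BT.node (nat_lit 7390848) (BT.leaf (nat_lit 28560409)) (BT.leaf (nat_lit 35192605))))))))) (BT.node (nat_lit 7395008) (BT.node (nat_lit 7392960) (BT.node (nat_lit 7391936) (BT.node (nat_lit 7391424) (BT.node (nat_lit 7391168) (BT.node (nat_lit 7391040) (BT.node (nat_lit 7390976) (BT.leaf (nat_lit 42902049)) (BT.leaf (nat_lit 24846873))) (BT.node (nat_lit 7391104) (BT.leaf (nat_lit 28842013)) (BT.leaf (nat_lit 27877141)))) (BT.node (nat_lit 7391296) (BT.node (nat_lit 7391232) (BT.leaf (nat_lit 34960929)) (BT.leaf (nat_lit 47548945))) (BT.node (nat_lit 7391360) (BT.leaf (nat_lit 30425369)) (BT.leaf (nat_lit 47550233))))) (BT.node (nat_lit 7391680) (BT.node (nat_lit 7391552) (BT.node (nat_lit 7391488) (BT.leaf (nat_lit 31006497)) (BT.leaf (nat_lit 34573345))) (BT.node (nat_lit 7391616) (BT.leaf (nat_lit 30542621)) (BT.leaf (nat_lit 38307865)))) (BT.node (nat_lit 7391808) (BT.node (nat_lit 7391744) (BT.leaf (nat_lit 47552021)) (BT.leaf (nat_lit 23162897))) (BT.node (nat_lit 7391872) (BT.leaf (nat_lit 27833101)) (BT.leaf (nat_lit 51160593)))))) (BT.node (nat_lit 7392448) (BT.node (nat_lit 7392192) (BT.node (nat_lit 7392064) (BT.node (nat_lit 7392000) (BT.leaf (nat_lit 23883797)) (BT.leaf (nat_lit 29625633))) (BT.node (nat_lit 7392128) (BT.leaf (nat_lit 31756577)) (BT.leaf (nat_lit 25412369)))) (BT.node (nat_lit 7392320) (BT.node (nat_lit 7392256) (BT.leaf (nat_lit 23151877)) (BT.leaf (nat_lit 35224353))) (BT.node (nat_lit 7392384) (BT.leaf (nat_lit 33135121)) (BT.leaf (nat_lit 32150049))))) (BT.node (nat_lit 7392704) (BT.node (nat_lit 7392576) (BT.node (nat_lit 7392512) (BT.leaf (nat_lit 23164177)) (BT.leaf (nat_lit 47554337))) (BT.node (nat_lit 7392640) (BT.leaf (nat_lit 23354905)) (BT.leaf (nat_lit 23354909)))) (BT.node (nat_lit 7392832) (BT.node (nat_lit 7392768) (BT.leaf (nat_lit 24397589)) (BT.leaf (nat_lit 49379085))) (BT.node (nat_lit 7392896) (BT.leaf (nat_lit 31679505)) (BT.leaf (nat_lit 27306769))))))) (BT.node (nat_lit 7393984) (BT.node (nat_lit 7393472) (BT.node (nat_lit 7393216) (BT.node (nat_lit 7393088) (BT.node (nat_lit 7393024) (BT.leaf (nat_lit 34866965)) (BT.leaf (nat_lit 30993937))) (BT.node (nat_lit 7393152) (BT.leaf (nat_lit 35026453)) (BT.leaf (nat_lit 33617173)))) (BT.node (nat_lit 7393344) (BT.node (nat_lit 7393280) (BT.leaf (nat_lit 23764757)) (BT.leaf (nat_lit 23764761))) (BT.node (nat_lit 7393408) (BT.leaf (nat_lit 23764765)) (BT.leaf (nat_lit 30927641))))) (BT.node (nat_lit 7393728) (BT.node (nat_lit 7393600) (BT.node (nat_lit 7393536) (BT.leaf (nat_lit 47556373)) (BT.leaf (nat_lit 47556637))) (BT.node (nat_lit 7393664) (BT.leaf (nat_lit 35026205)) (BT.leaf (nat_lit 24879649)))) (BT.node (nat_lit 7393856) (BT.node (nat_lit 7393792) (BT.leaf (nat_lit 38596113)) (BT.leaf (nat_lit 47558945))) (BT.node (nat_lit 7393920) (BT.leaf (nat_lit 41478405)) (BT.leaf (nat_lit 32387605)))))) (BT.node (nat_lit 7394496) (BT.node (nat_lit 7394240) (BT.node (nat_lit 7394112) (BT.node (nat_lit 7394048) (BT.leaf (nat_lit 29576221)) (BT.leaf (nat_lit 35145489))) (BT.node (nat_lit 7394176) (BT.leaf (nat_lit 23227157)) (BT.leaf (nat_lit 24841233)))) (BT.node (nat_lit 7394368) (BT.node (nat_lit 7394304) (BT.leaf (nat_lit 28441621)) (BT.leaf (nat_lit 29072645))) (BT.node (nat_lit 7394432) (BT.leaf (nat_lit 23392005)) (BT.leaf (nat_lit 23846425))))) (BT.node (nat_lit 7394752) (BT.node (nat_lit 7394624) (BT.node (nat_lit 7394560) (BT.leaf (nat_lit 47561237)) (BT.leaf (nat_lit 35667993))) (BT.node (nat_lit 7394688) (BT.leaf (nat_lit 47561493)) (BT.leaf (nat_lit 30677013)))) (BT.node (nat_lit 7394880) (BT.node (nat_lit 7394816) (BT.leaf (nat_lit 23950361)) (BT.leaf (nat_lit 23950365))) (BT.node (nat_lit 7394944) (BT.leaf (nat_lit 30771485)) (BT.leaf (nat_lit 49216785)))))))) (BT.node (nat_lit 7397056) (BT.node (nat_lit 7396032) (BT.node (nat_lit 7395520) (BT.node (nat_lit 7395264) (BT.node (nat_lit 7395136) (BT.node (nat_lit 7395072) (BT.leaf (nat_lit 49216777)) (BT.leaf (nat_lit 48550413))) (BT.node (nat_lit 7395200) (BT.leaf (nat_lit 29442565)) (BT.leaf (nat_lit 39737369)))) (BT.node (nat_lit 7395392) (BT.node (nat_lit 7395328) (BT.leaf (nat_lit 24854037)) (BT.leaf (nat_lit 39404065))) (BT.node (nat_lit 7395456) (BT.leaf (nat_lit 25312789)) (BT.leaf (nat_lit 23166997))))) (BT.node (nat_lit 7395776) (BT.node (nat_lit 7395648) (BT.node (nat_lit 7395584) (BT.leaf (nat_lit 28862745)) (BT.leaf (nat_lit 32982561))) (BT.node (nat_lit 7395712) (BT.leaf (nat_lit 31941409)) (BT.leaf (nat_lit 24850461)))) (BT.node (nat_lit 7395904) (BT.node (nat_lit 7395840) (BT.leaf (nat_lit 51437573)) (BT.leaf (nat_lit 30839573))) (BT.node (nat_lit 7395968) (BT.leaf (nat_lit 46936345)) (BT.leaf (nat_lit 47563281)))))) (BT.node (nat_lit 7396544) (BT.node (nat_lit 7396288) (BT.node (nat_lit 7396160) (BT.node (nat_lit 7396096) (BT.leaf (nat_lit 25629973)) (BT.leaf (nat_lit 47563797))) (BT.node (nat_lit 7396224) (BT.leaf (nat_lit 22631953)) (BT.leaf (nat_lit 46771997)))) (BT.node (nat_lit 7396416) (BT.node (nat_lit 7396352) (BT.leaf (nat_lit 34950689)) (BT.leaf (nat_lit 47565085))) (BT.node (nat_lit 7396480) (BT.leaf (nat_lit 39615749)) (BT.leaf (nat_lit 30962693))))) (BT.node (nat_lit 7396800) (BT.node (nat_lit 7396672) (BT.node (nat_lit 7396608) (BT.leaf (nat_lit 29586461)) (BT.leaf (nat_lit 41734673))) (BT.node (nat_lit 7396736) (BT.leaf (nat_lit 23168793)) (BT.leaf (nat_lit 26006041)))) (BT.node (nat_lit 7396928) (BT.node (nat_lit 7396864) (BT.leaf (nat_lit 30254881)) (BT.leaf (nat_lit 30918945))) (BT.node (nat_lit 7396992) (BT.leaf (nat_lit 24199433)) (BT.leaf (nat_lit 24199437))))))) (BT.node (nat_lit 7398080) (BT.node (nat_lit 7397568) (BT.node (nat_lit 7397312) (BT.node (nat_lit 7397184) (BT.node (nat_lit 7397120) (BT.leaf (nat_lit 47566369)) (BT.leaf (nat_lit 36828449))) (BT.node (nat_lit 7397248) (BT.leaf (nat_lit 34369557)) (BT.leaf (nat_lit 47123977)))) (BT.node (nat_lit 7397440) (BT.node (nat_lit 7397376) (BT.leaf (nat_lit 43115553)) (BT.leaf (nat_lit 28205585))) (BT.node (nat_lit 7397504) (BT.leaf (nat_lit 32471557)) (BT.leaf (nat_lit 30980101))))) (BT.node (nat_lit 7397824) (BT.node (nat_lit 7397696) (BT.node (nat_lit 7397632) (BT.leaf (nat_lit 31249681)) (BT.leaf (nat_lit 47567393))) (BT.node (nat_lit 7397760) (BT.leaf (nat_lit 23664153)) (BT.leaf (nat_lit 23664157)))) (BT.node (nat_lit 7397952) (BT.node (nat_lit 7397888) (BT.leaf (nat_lit 30326817)) (BT.leaf (nat_lit 23171601))) (BT.node (nat_lit 7398016) (BT.leaf (nat_lit 47567633)) (BT.leaf (nat_lit 37334301)))))) (BT.node (nat_lit 7398592) (BT.node (nat_lit 7398336) (BT.node (nat_lit 7398208) (BT.node (nat_lit 7398144) (BT.leaf (nat_lit 23172625)) (BT.leaf (nat_lit 22304529))) (BT.node (nat_lit 7398272) (BT.leaf (nat_lit 22350097)) (BT.leaf (nat_lit 23843093)))) (BT.node (nat_lit 7398464) (BT.node (nat_lit 7398400) (BT.leaf (nat_lit 28395033)) (BT.leaf (nat_lit 29093893))) (BT.node (nat_lit 7398528) (BT.leaf (nat_lit 28216601)) (BT.leaf (nat_lit 28045837))))) (BT.node (nat_lit 7398848) (BT.node (nat_lit 7398720) (BT.node (nat_lit 7398656) (BT.leaf (nat_lit 38000141)) (BT.leaf (nat_lit 29901601))) (BT.node (nat_lit 7398784) (BT.leaf (nat_lit 32186641)) (BT.leaf (nat_lit 47569673)))) (BT.node (nat_lit 7398976) (BT.node (nat_lit 7398912) (BT.leaf (nat_lit 23023129)) (BT.leaf (nat_lit 23788321))) (BT.node (nat_lit 7399040) (BT.leaf (nat_lit 38333961)) (BT.leaf (nat_lit 47569941)))))))))))) (BT.node (nat_lit 7431872) (BT.node (nat_lit 7415488) (BT.node (nat_lit 7407296) (BT.node (nat_lit 7403200) (BT.node (nat_lit 7401152) (BT.node (nat_lit 7400128) (BT.node (nat_lit 7399616) (BT.node (nat_lit 7399360) (BT.node (nat_lit 7399232) (BT.node (nat_lit 7399168) (BT.leaf (nat_lit 34946581)) (BT.leaf (nat_lit 47451165))) (BT.node (nat_lit 7399296) (BT.leaf (nat_lit 23958541)) (BT.leaf (nat_lit 23809057)))) (BT.node (nat_lit 7399488) (BT.node (nat_lit 7399424) (BT.leaf (nat_lit 24845333)) (BT.leaf (nat_lit 31015201))) (BT.node (nat_lit 7399552) (BT.leaf (nat_lit 31014945)) (BT.leaf (nat_lit 27458313))))) (BT.node (nat_lit 7399872) (BT.node (nat_lit 7399744) (BT.node (nat_lit 7399680) (BT.leaf (nat_lit 32041241)) (BT.leaf (nat_lit 37997325))) (BT.node (nat_lit 7399808) (BT.leaf (nat_lit 47150361)) (BT.leaf (nat_lit 47150349)))) (BT.node (nat_lit 7400000) (BT.node (nat_lit 7399936) (BT.leaf (nat_lit 28296469)) (BT.leaf (nat_lit 29600029))) (BT.node (nat_lit 7400064) (BT.leaf (nat_lit 35062277)) (BT.leaf (nat_lit 46723589)))))) (BT.node (nat_lit 7400640) (BT.node (nat_lit 7400384) (BT.node (nat_lit 7400256) (BT.node (nat_lit 7400192) (BT.leaf (nat_lit 34008093)) (BT.leaf (nat_lit 23413009))) (BT.node (nat_lit 7400320) (BT.leaf (nat_lit 39944209)) (BT.leaf (nat_lit 47076369)))) (BT.node (nat_lit 7400512) (BT.node (nat_lit 7400448) (BT.leaf (nat_lit 40540689)) (BT.leaf (nat_lit 47572753))) (BT.node (nat_lit 7400576) (BT.leaf (nat_lit 31023633)) (BT.leaf (nat_lit 26661149))))) (BT.node (nat_lit 7400896) (BT.node (nat_lit 7400768) (BT.node (nat_lit 7400704) (BT.leaf (nat_lit 24076053)) (BT.leaf (nat_lit 33822981))) (BT.node (nat_lit 7400832) (BT.leaf (nat_lit 28214045)) (BT.leaf (nat_lit 35277585)))) (BT.node (nat_lit 7401024) (BT.node (nat_lit 7400960) (BT.leaf (nat_lit 31971601)) (BT.leaf (nat_lit 46385689))) (BT.node (nat_lit 7401088) (BT.leaf (nat_lit 23447833)) (BT.leaf (nat_lit 23447837))))))) (BT.node (nat_lit 7402176) (BT.node (nat_lit 7401664) (BT.node (nat_lit 7401408) (BT.node (nat_lit 7401280) (BT.node (nat_lit 7401216) (BT.leaf (nat_lit 23506193)) (BT.leaf (nat_lit 36759573))) (BT.node (nat_lit 7401344) (BT.leaf (nat_lit 36759577)) (BT.leaf (nat_lit 36759581)))) (BT.node (nat_lit 7401536) (BT.node (nat_lit 7401472) (BT.leaf (nat_lit 34708765)) (BT.leaf (nat_lit 50426389))) (BT.node (nat_lit 7401600) (BT.leaf (nat_lit 25722913)) (BT.leaf (nat_lit 27568657))))) (BT.node (nat_lit 7401920) (BT.node (nat_lit 7401792) (BT.node (nat_lit 7401728) (BT.leaf (nat_lit 47830793)) (BT.leaf (nat_lit 30337565))) (BT.node (nat_lit 7401856) (BT.leaf (nat_lit 48425997)) (BT.leaf (nat_lit 31357973)))) (BT.node (nat_lit 7402048) (BT.node (nat_lit 7401984) (BT.leaf (nat_lit 47183881)) (BT.leaf (nat_lit 31357981))) (BT.node (nat_lit 7402112) (BT.leaf (nat_lit 27987717)) (BT.leaf (nat_lit 27987733)))))) (BT.node (nat_lit 7402688) (BT.node (nat_lit 7402432) (BT.node (nat_lit 7402304) (BT.node (nat_lit 7402240) (BT.leaf (nat_lit 38169605)) (BT.leaf (nat_lit 38169621))) (BT.node (nat_lit 7402368) (BT.leaf (nat_lit 23178769)) (BT.leaf (nat_lit 27435529)))) (BT.node (nat_lit 7402560) (BT.node (nat_lit 7402496) (BT.leaf (nat_lit 27435533)) (BT.leaf (nat_lit 27435553))) (BT.node (nat_lit 7402624) (BT.leaf (nat_lit 23501585)) (BT.leaf (nat_lit 29952789))))) (BT.node (nat_lit 7402944) (BT.node (nat_lit 7402816) (BT.node (nat_lit 7402752) (BT.leaf (nat_lit 31025437)) (BT.leaf (nat_lit 40436233))) (BT.node (nat_lit 7402880) (BT.leaf (nat_lit 22876689)) (BT.leaf (nat_lit 31076121)))) (BT.node (nat_lit 7403072) (BT.node (nat_lit 7403008) (BT.leaf (nat_lit 48198421)) (BT.leaf (nat_lit 24336153))) (BT.node (nat_lit 7403136) (BT.leaf (nat_lit 31268613)) (BT.leaf (nat_lit 29653773)))))))) (BT.node (nat_lit 7405248) (BT.node (nat_lit 7404224) (BT.node (nat_lit 7403712) (BT.node (nat_lit 7403456) (BT.node (nat_lit 7403328) (BT.node (nat_lit 7403264) (BT.leaf (nat_lit 41556997)) (BT.leaf (nat_lit 34908437))) (BT.node (nat_lit 7403392) (BT.leaf (nat_lit 34908441)) (BT.leaf (nat_lit 34908445)))) (BT.node (nat_lit 7403584) (BT.node (nat_lit 7403520) (BT.leaf (nat_lit 48754197)) (BT.leaf (nat_lit 23833097))) (BT.node (nat_lit 7403648) (BT.leaf (nat_lit 28358405)) (BT.leaf (nat_lit 47783709))))) (BT.node (nat_lit 7403968) (BT.node (nat_lit 7403840) (BT.node (nat_lit 7403776) (BT.leaf (nat_lit 23833121)) (BT.leaf (nat_lit 28956941))) (BT.node (nat_lit 7403904) (BT.leaf (nat_lit 34891525)) (BT.leaf (nat_lit 23833113)))) (BT.node (nat_lit 7404096) (BT.node (nat_lit 7404032) (BT.leaf (nat_lit 23833117)) (BT.leaf (nat_lit 47576609))) (BT.node (nat_lit 7404160) (BT.leaf (nat_lit 31345669)) (BT.leaf (nat_lit 30919941)))))) (BT.node (nat_lit 7404736) (BT.node (nat_lit 7404480) (BT.node (nat_lit 7404352) (BT.node (nat_lit 7404288) (BT.leaf (nat_lit 34997265)) (BT.leaf (nat_lit 31511057))) (BT.node (nat_lit 7404416) (BT.leaf (nat_lit 32940557)) (BT.leaf (nat_lit 46949397)))) (BT.node (nat_lit 7404608) (BT.node (nat_lit 7404544) (BT.leaf (nat_lit 29823501)) (BT.leaf (nat_lit 47548961))) (BT.node (nat_lit 7404672) (BT.leaf (nat_lit 41195797)) (BT.leaf (nat_lit 28866577))))) (BT.node (nat_lit 7404992) (BT.node (nat_lit 7404864) (BT.node (nat_lit 7404800) (BT.leaf (nat_lit 41182481)) (BT.leaf (nat_lit 41182497))) (BT.node (nat_lit 7404928) (BT.leaf (nat_lit 28762385)) (BT.leaf (nat_lit 27380505)))) (BT.node (nat_lit 7405120) (BT.node (nat_lit 7405056) (BT.leaf (nat_lit 27380509)) (BT.leaf (nat_lit 48286989))) (BT.node (nat_lit 7405184) (BT.leaf (nat_lit 47577613)) (BT.leaf (nat_lit 34960901))))))) (BT.node (nat_lit 7406272) (BT.node (nat_lit 7405760) (BT.node (nat_lit 7405504) (BT.node (nat_lit 7405376) (BT.node (nat_lit 7405312) (BT.leaf (nat_lit 29613573)) (BT.leaf (nat_lit 34450705))) (BT.node (nat_lit 7405440) (BT.leaf (nat_lit 29621257)) (BT.leaf (nat_lit 23180309)))) (BT.node (nat_lit 7405632) (BT.node (nat_lit 7405568) (BT.leaf (nat_lit 47577861)) (BT.leaf (nat_lit 47578117))) (BT.node (nat_lit 7405696) (BT.leaf (nat_lit 37930261)) (BT.leaf (nat_lit 29613345))))) (BT.node (nat_lit 7406016) (BT.node (nat_lit 7405888) (BT.node (nat_lit 7405824) (BT.leaf (nat_lit 47578401)) (BT.leaf (nat_lit 24747041))) (BT.node (nat_lit 7405952) (BT.leaf (nat_lit 24837657)) (BT.leaf (nat_lit 32144645)))) (BT.node (nat_lit 7406144) (BT.node (nat_lit 7406080) (BT.leaf (nat_lit 29171733)) (BT.leaf (nat_lit 47579653))) (BT.node (nat_lit 7406208) (BT.leaf (nat_lit 30530589)) (BT.leaf (nat_lit 23844357)))))) (BT.node (nat_lit 7406784) (BT.node (nat_lit 7406528) (BT.node (nat_lit 7406400) (BT.node (nat_lit 7406336) (BT.leaf (nat_lit 23163157)) (BT.leaf (nat_lit 39598601))) (BT.node (nat_lit 7406464) (BT.leaf (nat_lit 34499357)) (BT.leaf (nat_lit 47194137)))) (BT.node (nat_lit 7406656) (BT.node (nat_lit 7406592) (BT.leaf (nat_lit 38350613)) (BT.leaf (nat_lit 41023777))) (BT.node (nat_lit 7406720) (BT.leaf (nat_lit 27914269)) (BT.leaf (nat_lit 28997405))))) (BT.node (nat_lit 7407040) (BT.node (nat_lit 7406912) (BT.node (nat_lit 7406848) (BT.leaf (nat_lit 23630869)) (BT.leaf (nat_lit 33263633))) (BT.node (nat_lit 7406976) (BT.leaf (nat_lit 47581449)) (BT.leaf (nat_lit 30680085)))) (BT.node (nat_lit 7407168) (BT.node (nat_lit 7407104) (BT.leaf (nat_lit 47581717)) (BT.leaf (nat_lit 47581973))) (BT.node (nat_lit 7407232) (BT.leaf (nat_lit 31353377)) (BT.leaf (nat_lit 32068373))))))))) (BT.node (nat_lit 7411392) (BT.node (nat_lit 7409344) (BT.node (nat_lit 7408320) (BT.node (nat_lit 7407808) (BT.node (nat_lit 7407552) (BT.node (nat_lit 7407424) (BT.node (nat_lit 7407360) (BT.leaf (nat_lit 32146209)) (BT.leaf (nat_lit 22873621))) (BT.node (nat_lit 7407488) (BT.leaf (nat_lit 39166485)) (BT.leaf (nat_lit 40430625)))) (BT.node (nat_lit 7407680) (BT.node (nat_lit 7407616) (BT.leaf (nat_lit 28985109)) (BT.leaf (nat_lit 28206093))) (BT.node (nat_lit 7407744) (BT.leaf (nat_lit 28206105)) (BT.leaf (nat_lit 28206109))))) (BT.node (nat_lit 7408064) (BT.node (nat_lit 7407936) (BT.node (nat_lit 7407872) (BT.leaf (nat_lit 28198673)) (BT.leaf (nat_lit 32067589))) (BT.node (nat_lit 7408000) (BT.leaf (nat_lit 28985117)) (BT.leaf (nat_lit 30632977)))) (BT.node (nat_lit 7408192) (BT.node (nat_lit 7408128) (BT.leaf (nat_lit 24029209)) (BT.leaf (nat_lit 24029213))) (BT.node (nat_lit 7408256) (BT.leaf (nat_lit 28022041)) (BT.leaf (nat_lit 46929945)))))) (BT.node (nat_lit 7408832) (BT.node (nat_lit 7408576) (BT.node (nat_lit 7408448) (BT.node (nat_lit 7408384) (BT.leaf (nat_lit 39380513)) (BT.leaf (nat_lit 47584033))) (BT.node (nat_lit 7408512) (BT.leaf (nat_lit 47584265)) (BT.leaf (nat_lit 31756549)))) (BT.node (nat_lit 7408704) (BT.node (nat_lit 7408640) (BT.leaf (nat_lit 23884829)) (BT.leaf (nat_lit 23528969))) (BT.node (nat_lit 7408768) (BT.leaf (nat_lit 51189777)) (BT.leaf (nat_lit 23844373))))) (BT.node (nat_lit 7409088) (BT.node (nat_lit 7408960) (BT.node (nat_lit 7408896) (BT.leaf (nat_lit 23662369)) (BT.leaf (nat_lit 30160417))) (BT.node (nat_lit 7409024) (BT.leaf (nat_lit 29636109)) (BT.leaf (nat_lit 46927637)))) (BT.node (nat_lit 7409216) (BT.node (nat_lit 7409152) (BT.leaf (nat_lit 47585045)) (BT.leaf (nat_lit 30158369))) (BT.node (nat_lit 7409280) (BT.leaf (nat_lit 47585301)) (BT.leaf (nat_lit 46927897))))))) (BT.node (nat_lit 7410368) (BT.node (nat_lit 7409856) (BT.node (nat_lit 7409600) (BT.node (nat_lit 7409472) (BT.node (nat_lit 7409408) (BT.leaf (nat_lit 23662353)) (BT.leaf (nat_lit 47172893))) (BT.node (nat_lit 7409536) (BT.leaf (nat_lit 32604445)) (BT.leaf (nat_lit 23180821)))) (BT.node (nat_lit 7409728) (BT.node (nat_lit 7409664) (BT.leaf (nat_lit 28007177)) (BT.leaf (nat_lit 28007185))) (BT.node (nat_lit 7409792) (BT.leaf (nat_lit 28007197)) (BT.leaf (nat_lit 28007201))))) (BT.node (nat_lit 7410112) (BT.node (nat_lit 7409984) (BT.node (nat_lit 7409920) (BT.leaf (nat_lit 23787793)) (BT.leaf (nat_lit 33834265))) (BT.node (nat_lit 7410048) (BT.leaf (nat_lit 23185429)) (BT.leaf (nat_lit 36995597)))) (BT.node (nat_lit 7410240) (BT.node (nat_lit 7410176) (BT.leaf (nat_lit 26584845)) (BT.leaf (nat_lit 29482273))) (BT.node (nat_lit 7410304) (BT.leaf (nat_lit 47586317)) (BT.leaf (nat_lit 34991633)))))) (BT.node (nat_lit 7410880) (BT.node (nat_lit 7410624) (BT.node (nat_lit 7410496) (BT.node (nat_lit 7410432) (BT.leaf (nat_lit 26585093)) (BT.leaf (nat_lit 23185689))) (BT.node (nat_lit 7410560) (BT.leaf (nat_lit 23185945)) (BT.leaf (nat_lit 47587873)))) (BT.node (nat_lit 7410752) (BT.node (nat_lit 7410688) (BT.leaf (nat_lit 23186205)) (BT.leaf (nat_lit 23185693))) (BT.node (nat_lit 7410816) (BT.leaf (nat_lit 23185949)) (BT.leaf (nat_lit 34678797))))) (BT.node (nat_lit 7411136) (BT.node (nat_lit 7411008) (BT.node (nat_lit 7410944) (BT.leaf (nat_lit 23186201)) (BT.leaf (nat_lit 29593633))) (BT.node (nat_lit 7411072) (BT.leaf (nat_lit 36950293)) (BT.leaf (nat_lit 29593625)))) (BT.node (nat_lit 7411264) (BT.node (nat_lit 7411200) (BT.leaf (nat_lit 36198165)) (BT.leaf (nat_lit 23476513))) (BT.node (nat_lit 7411328) (BT.leaf (nat_lit 23630101)) (BT.leaf (nat_lit 23477025)))))))) (BT.node (nat_lit 7413440) (BT.node (nat_lit 7412416) (BT.node (nat_lit 7411904) (BT.node (nat_lit 7411648) (BT.node (nat_lit 7411520) (BT.node (nat_lit 7411456) (BT.leaf (nat_lit 40388109)) (BT.leaf (nat_lit 39712265))) (BT.node (nat_lit 7411584) (BT.leaf (nat_lit 47589137)) (BT.leaf (nat_lit 27402513)))) (BT.node (nat_lit 7411776) (BT.node (nat_lit 7411712) (BT.leaf (nat_lit 42784521)) (BT.leaf (nat_lit 40094737))) (BT.node (nat_lit 7411840) (BT.leaf (nat_lit 38208269)) (BT.leaf (nat_lit 24409365))))) (BT.node (nat_lit 7412160) (BT.node (nat_lit 7412032) (BT.node (nat_lit 7411968) (BT.leaf (nat_lit 28958985)) (BT.leaf (nat_lit 47590937))) (BT.node (nat_lit 7412096) (BT.leaf (nat_lit 31413773)) (BT.leaf (nat_lit 24409369)))) (BT.node (nat_lit 7412288) (BT.node (nat_lit 7412224) (BT.leaf (nat_lit 40095009)) (BT.leaf (nat_lit 47591185))) (BT.node (nat_lit 7412352) (BT.leaf (nat_lit 38111761)) (BT.leaf (nat_lit 28960277)))))) (BT.node (nat_lit 7412928) (BT.node (nat_lit 7412672) (BT.node (nat_lit 7412544) (BT.node (nat_lit 7412480) (BT.leaf (nat_lit 28960797)) (BT.leaf (nat_lit 38025745))) (BT.node (nat_lit 7412608) (BT.leaf (nat_lit 28960777)) (BT.leaf (nat_lit 38025761)))) (BT.node (nat_lit 7412800) (BT.node (nat_lit 7412736) (BT.leaf (nat_lit 32145669)) (BT.leaf (nat_lit 47591961))) (BT.node (nat_lit 7412864) (BT.leaf (nat_lit 46511117)) (BT.leaf (nat_lit 46458641))))) (BT.node (nat_lit 7413184) (BT.node (nat_lit 7413056) (BT.node (nat_lit 7412992) (BT.leaf (nat_lit 30224901)) (BT.leaf (nat_lit 31488021))) (BT.node (nat_lit 7413120) (BT.leaf (nat_lit 24123409)) (BT.leaf (nat_lit 24123161)))) (BT.node (nat_lit 7413312) (BT.node (nat_lit 7413248) (BT.leaf (nat_lit 24123165)) (BT.leaf (nat_lit 33885725))) (BT.node (nat_lit 7413376) (BT.leaf (nat_lit 33885705)) (BT.leaf (nat_lit 29759765))))))) (BT.node (nat_lit 7414464) (BT.node (nat_lit 7413952) (BT.node (nat_lit 7413696) (BT.node (nat_lit 7413568) (BT.node (nat_lit 7413504) (BT.leaf (nat_lit 47592981)) (BT.leaf (nat_lit 31537441))) (BT.node (nat_lit 7413632) (BT.leaf (nat_lit 24279061)) (BT.leaf (nat_lit 24279065)))) (BT.node (nat_lit 7413824) (BT.node (nat_lit 7413760) (BT.leaf (nat_lit 24279069)) (BT.leaf (nat_lit 28077601))) (BT.node (nat_lit 7413888) (BT.leaf (nat_lit 28990997)) (BT.leaf (nat_lit 29655309))))) (BT.node (nat_lit 7414208) (BT.node (nat_lit 7414080) (BT.node (nat_lit 7414016) (BT.leaf (nat_lit 35341333)) (BT.leaf (nat_lit 32271137))) (BT.node (nat_lit 7414144) (BT.leaf (nat_lit 41016081)) (BT.leaf (nat_lit 32875541)))) (BT.node (nat_lit 7414336) (BT.node (nat_lit 7414272) (BT.leaf (nat_lit 28639765)) (BT.leaf (nat_lit 46534929))) (BT.node (nat_lit 7414400) (BT.leaf (nat_lit 50270473)) (BT.leaf (nat_lit 24386321)))))) (BT.node (nat_lit 7414976) (BT.node (nat_lit 7414720) (BT.node (nat_lit 7414592) (BT.node (nat_lit 7414528) (BT.leaf (nat_lit 33878817)) (BT.leaf (nat_lit 29572641))) (BT.node (nat_lit 7414656) (BT.leaf (nat_lit 34874897)) (BT.leaf (nat_lit 50633237)))) (BT.node (nat_lit 7414848) (BT.node (nat_lit 7414784) (BT.leaf (nat_lit 31613969)) (BT.leaf (nat_lit 23216657))) (BT.node (nat_lit 7414912) (BT.leaf (nat_lit 33370373)) (BT.leaf (nat_lit 47599637))))) (BT.node (nat_lit 7415232) (BT.node (nat_lit 7415104) (BT.node (nat_lit 7415040) (BT.leaf (nat_lit 24575769)) (BT.leaf (nat_lit 37871137))) (BT.node (nat_lit 7415168) (BT.leaf (nat_lit 33400849)) (BT.leaf (nat_lit 47152401)))) (BT.node (nat_lit 7415360) (BT.node (nat_lit 7415296) (BT.leaf (nat_lit 50674185)) (BT.leaf (nat_lit 34589981))) (BT.node (nat_lit 7415424) (BT.leaf (nat_lit 31036677)) (BT.leaf (nat_lit 39749145)))))))))) (BT.node (nat_lit 7423680) (BT.node (nat_lit 7419584) (BT.node (nat_lit 7417536) (BT.node (nat_lit 7416512) (BT.node (nat_lit 7416000) (BT.node (nat_lit 7415744) (BT.node (nat_lit 7415616) (BT.node (nat_lit 7415552) (BT.leaf (nat_lit 32985121)) (BT.leaf (nat_lit 50989573))) (BT.node (nat_lit 7415680) (BT.leaf (nat_lit 30814981)) (BT.leaf (nat_lit 23188241)))) (BT.node (nat_lit 7415872) (BT.node (nat_lit 7415808) (BT.leaf (nat_lit 40082969)) (BT.leaf (nat_lit 40082973))) (BT.node (nat_lit 7415936) (BT.leaf (nat_lit 22399005)) (BT.leaf (nat_lit 24298261))))) (BT.node (nat_lit 7416256) (BT.node (nat_lit 7416128) (BT.node (nat_lit 7416064) (BT.leaf (nat_lit 47597601)) (BT.leaf (nat_lit 24711173))) (BT.node (nat_lit 7416192) (BT.leaf (nat_lit 31074833)) (BT.leaf (nat_lit 33962013)))) (BT.node (nat_lit 7416384) (BT.node (nat_lit 7416320) (BT.leaf (nat_lit 25119261)) (BT.leaf (nat_lit 28783381))) (BT.node (nat_lit 7416448) (BT.leaf (nat_lit 47401733)) (BT.leaf (nat_lit 28783389)))))) (BT.node (nat_lit 7417024) (BT.node (nat_lit 7416768) (BT.node (nat_lit 7416640) (BT.node (nat_lit 7416576) (BT.leaf (nat_lit 28783125)) (BT.leaf (nat_lit 31298577))) (BT.node (nat_lit 7416704) (BT.leaf (nat_lit 28077593)) (BT.leaf (nat_lit 28077597)))) (BT.node (nat_lit 7416896) (BT.node (nat_lit 7416832) (BT.leaf (nat_lit 31298321)) (BT.leaf (nat_lit 30238241))) (BT.node (nat_lit 7416960) (BT.leaf (nat_lit 37937677)) (BT.leaf (nat_lit 47604485))))) (BT.node (nat_lit 7417280) (BT.node (nat_lit 7417152) (BT.node (nat_lit 7417088) (BT.leaf (nat_lit 24317713)) (BT.leaf (nat_lit 28552981))) (BT.node (nat_lit 7417216) (BT.leaf (nat_lit 46425873)) (BT.leaf (nat_lit 29668633)))) (BT.node (nat_lit 7417408) (BT.node (nat_lit 7417344) (BT.leaf (nat_lit 47145497)) (BT.leaf (nat_lit 40247061))) (BT.node (nat_lit 7417472) (BT.leaf (nat_lit 28900873)) (BT.leaf (nat_lit 40289557))))))) (BT.node (nat_lit 7418560) (BT.node (nat_lit 7418048) (BT.node (nat_lit 7417792) (BT.node (nat_lit 7417664) (BT.node (nat_lit 7417600) (BT.leaf (nat_lit 23353121)) (BT.leaf (nat_lit 23213853))) (BT.node (nat_lit 7417728) (BT.leaf (nat_lit 28899593)) (BT.leaf (nat_lit 29735445)))) (BT.node (nat_lit 7417920) (BT.node (nat_lit 7417856) (BT.leaf (nat_lit 24657425)) (BT.leaf (nat_lit 47607329))) (BT.node (nat_lit 7417984) (BT.leaf (nat_lit 47558433)) (BT.leaf (nat_lit 40934933))))) (BT.node (nat_lit 7418304) (BT.node (nat_lit 7418176) (BT.node (nat_lit 7418112) (BT.leaf (nat_lit 31061265)) (BT.leaf (nat_lit 23472153))) (BT.node (nat_lit 7418240) (BT.leaf (nat_lit 23472157)) (BT.leaf (nat_lit 47607573)))) (BT.node (nat_lit 7418432) (BT.node (nat_lit 7418368) (BT.leaf (nat_lit 47608337)) (BT.leaf (nat_lit 36266261))) (BT.node (nat_lit 7418496) (BT.leaf (nat_lit 29657605)) (BT.leaf (nat_lit 28316181)))))) (BT.node (nat_lit 7419072) (BT.node (nat_lit 7418816) (BT.node (nat_lit 7418688) (BT.node (nat_lit 7418624) (BT.leaf (nat_lit 47609093)) (BT.leaf (nat_lit 32543765))) (BT.node (nat_lit 7418752) (BT.leaf (nat_lit 41045269)) (BT.leaf (nat_lit 23951877)))) (BT.node (nat_lit 7418944) (BT.node (nat_lit 7418880) (BT.leaf (nat_lit 29831713)) (BT.leaf (nat_lit 29848861))) (BT.node (nat_lit 7419008) (BT.leaf (nat_lit 32616225)) (BT.leaf (nat_lit 29255181))))) (BT.node (nat_lit 7419328) (BT.node (nat_lit 7419200) (BT.node (nat_lit 7419136) (BT.leaf (nat_lit 29674777)) (BT.leaf (nat_lit 23995397))) (BT.node (nat_lit 7419264) (BT.leaf (nat_lit 27912221)) (BT.leaf (nat_lit 47609361)))) (BT.node (nat_lit 7419456) (BT.node (nat_lit 7419392) (BT.leaf (nat_lit 28053017)) (BT.leaf (nat_lit 28053021))) (BT.node (nat_lit 7419520) (BT.leaf (nat_lit 24524817)) (BT.leaf (nat_lit 38910489)))))))) (BT.node (nat_lit 7421632) (BT.node (nat_lit 7420608) (BT.node (nat_lit 7420096) (BT.node (nat_lit 7419840) (BT.node (nat_lit 7419712) (BT.node (nat_lit 7419648) (BT.leaf (nat_lit 23803669)) (BT.leaf (nat_lit 23803673))) (BT.node (nat_lit 7419776) (BT.leaf (nat_lit 23803677)) (BT.leaf (nat_lit 31187733)))) (BT.node (nat_lit 7419968) (BT.node (nat_lit 7419904) (BT.leaf (nat_lit 47609605)) (BT.leaf (nat_lit 28025377))) (BT.node (nat_lit 7420032) (BT.leaf (nat_lit 47610641)) (BT.leaf (nat_lit 23192597))))) (BT.node (nat_lit 7420352) (BT.node (nat_lit 7420224) (BT.node (nat_lit 7420160) (BT.leaf (nat_lit 24520713)) (BT.leaf (nat_lit 24520717))) (BT.node (nat_lit 7420288) (BT.leaf (nat_lit 28475169)) (BT.leaf (nat_lit 24520729)))) (BT.node (nat_lit 7420480) (BT.node (nat_lit 7420416) (BT.leaf (nat_lit 24520733)) (BT.leaf (nat_lit 24520737))) (BT.node (nat_lit 7420544) (BT.leaf (nat_lit 29060365)) (BT.leaf (nat_lit 24617493)))))) (BT.node (nat_lit 7421120) (BT.node (nat_lit 7420864) (BT.node (nat_lit 7420736) (BT.node (nat_lit 7420672) (BT.leaf (nat_lit 29682701)) (BT.leaf (nat_lit 47230741))) (BT.node (nat_lit 7420800) (BT.leaf (nat_lit 47609377)) (BT.leaf (nat_lit 47232525)))) (BT.node (nat_lit 7420992) (BT.node (nat_lit 7420928) (BT.leaf (nat_lit 47232789)) (BT.leaf (nat_lit 29866773))) (BT.node (nat_lit 7421056) (BT.leaf (nat_lit 52380677)) (BT.leaf (nat_lit 49295621))))) (BT.node (nat_lit 7421376) (BT.node (nat_lit 7421248) (BT.node (nat_lit 7421184) (BT.leaf (nat_lit 29061917)) (BT.leaf (nat_lit 47612181))) (BT.node (nat_lit 7421312) (BT.leaf (nat_lit 30774789)) (BT.leaf (nat_lit 47612437)))) (BT.node (nat_lit 7421504) (BT.node (nat_lit 7421440) (BT.leaf (nat_lit 33045785)) (BT.leaf (nat_lit 32849953))) (BT.node (nat_lit 7421568) (BT.leaf (nat_lit 34851617)) (BT.leaf (nat_lit 33046037))))))) (BT.node (nat_lit 7422656) (BT.node (nat_lit 7422144) (BT.node (nat_lit 7421888) (BT.node (nat_lit 7421760) (BT.node (nat_lit 7421696) (BT.leaf (nat_lit 34850325)) (BT.leaf (nat_lit 23196689))) (BT.node (nat_lit 7421824) (BT.leaf (nat_lit 23196433)) (BT.leaf (nat_lit 23197457)))) (BT.node (nat_lit 7422016) (BT.node (nat_lit 7421952) (BT.leaf (nat_lit 23197201)) (BT.leaf (nat_lit 23197969))) (BT.node (nat_lit 7422080) (BT.leaf (nat_lit 23198481)) (BT.leaf (nat_lit 25604373))))) (BT.node (nat_lit 7422400) (BT.node (nat_lit 7422272) (BT.node (nat_lit 7422208) (BT.leaf (nat_lit 34868257)) (BT.leaf (nat_lit 23198225))) (BT.node (nat_lit 7422336) (BT.leaf (nat_lit 22899729)) (BT.leaf (nat_lit 34501137)))) (BT.node (nat_lit 7422528) (BT.node (nat_lit 7422464) (BT.leaf (nat_lit 31163413)) (BT.leaf (nat_lit 23199257))) (BT.node (nat_lit 7422592) (BT.leaf (nat_lit 40552977)) (BT.leaf (nat_lit 23199261)))))) (BT.node (nat_lit 7423168) (BT.node (nat_lit 7422912) (BT.node (nat_lit 7422784) (BT.node (nat_lit 7422720) (BT.leaf (nat_lit 23199761)) (BT.leaf (nat_lit 23199505))) (BT.node (nat_lit 7422848) (BT.leaf (nat_lit 22897937)) (BT.leaf (nat_lit 32225045)))) (BT.node (nat_lit 7423040) (BT.node (nat_lit 7422976) (BT.leaf (nat_lit 33151497)) (BT.leaf (nat_lit 33151501))) (BT.node (nat_lit 7423104) (BT.leaf (nat_lit 33151505)) (BT.leaf (nat_lit 23200281))))) (BT.node (nat_lit 7423424) (BT.node (nat_lit 7423296) (BT.node (nat_lit 7423232) (BT.leaf (nat_lit 29845793)) (BT.leaf (nat_lit 23200285))) (BT.node (nat_lit 7423360) (BT.leaf (nat_lit 41678085)) (BT.leaf (nat_lit 30938913)))) (BT.node (nat_lit 7423552) (BT.node (nat_lit 7423488) (BT.leaf (nat_lit 29805601)) (BT.leaf (nat_lit 24731413))) (BT.node (nat_lit 7423616) (BT.leaf (nat_lit 47238405)) (BT.leaf (nat_lit 33829153))))))))) (BT.node (nat_lit 7427776) (BT.node (nat_lit 7425728) (BT.node (nat_lit 7424704) (BT.node (nat_lit 7424192) (BT.node (nat_lit 7423936) (BT.node (nat_lit 7423808) (BT.node (nat_lit 7423744) (BT.leaf (nat_lit 23201553)) (BT.leaf (nat_lit 23200797))) (BT.node (nat_lit 7423872) (BT.leaf (nat_lit 38806533)) (BT.leaf (nat_lit 23201297)))) (BT.node (nat_lit 7424064) (BT.node (nat_lit 7424000) (BT.leaf (nat_lit 36013317)) (BT.leaf (nat_lit 47283489))) (BT.node (nat_lit 7424128) (BT.leaf (nat_lit 47617301)) (BT.leaf (nat_lit 23202065))))) (BT.node (nat_lit 7424448) (BT.node (nat_lit 7424320) (BT.node (nat_lit 7424256) (BT.leaf (nat_lit 46845705)) (BT.leaf (nat_lit 23202577))) (BT.node (nat_lit 7424384) (BT.leaf (nat_lit 23202581)) (BT.leaf (nat_lit 46440709)))) (BT.node (nat_lit 7424576) (BT.node (nat_lit 7424512) (BT.leaf (nat_lit 23910421)) (BT.leaf (nat_lit 23203101))) (BT.node (nat_lit 7424640) (BT.leaf (nat_lit 46845721)) (BT.leaf (nat_lit 24294673)))))) (BT.node (nat_lit 7425216) (BT.node (nat_lit 7424960) (BT.node (nat_lit 7424832) (BT.node (nat_lit 7424768) (BT.leaf (nat_lit 28388373)) (BT.leaf (nat_lit 41694741))) (BT.node (nat_lit 7424896) (BT.leaf (nat_lit 34776609)) (BT.leaf (nat_lit 47619101)))) (BT.node (nat_lit 7425088) (BT.node (nat_lit 7425024) (BT.leaf (nat_lit 50471445)) (BT.leaf (nat_lit 32844317))) (BT.node (nat_lit 7425152) (BT.leaf (nat_lit 38285077)) (BT.leaf (nat_lit 47619865))))) (BT.node (nat_lit 7425472) (BT.node (nat_lit 7425344) (BT.node (nat_lit 7425280) (BT.leaf (nat_lit 23768081)) (BT.leaf (nat_lit 40079637))) (BT.node (nat_lit 7425408) (BT.leaf (nat_lit 41702157)) (BT.leaf (nat_lit 41705749)))) (BT.node (nat_lit 7425600) (BT.node (nat_lit 7425536) (BT.leaf (nat_lit 39972117)) (BT.leaf (nat_lit 32413713))) (BT.node (nat_lit 7425664) (BT.leaf (nat_lit 32413729)) (BT.leaf (nat_lit 28119301))))))) (BT.node (nat_lit 7426752) (BT.node (nat_lit 7426240) (BT.node (nat_lit 7425984) (BT.node (nat_lit 7425856) (BT.node (nat_lit 7425792) (BT.leaf (nat_lit 28119313)) (BT.leaf (nat_lit 39629837))) (BT.node (nat_lit 7425920) (BT.leaf (nat_lit 31144225)) (BT.leaf (nat_lit 32413957)))) (BT.node (nat_lit 7426112) (BT.node (nat_lit 7426048) (BT.leaf (nat_lit 32118305)) (BT.leaf (nat_lit 32118049))) (BT.node (nat_lit 7426176) (BT.leaf (nat_lit 41714197)) (BT.leaf (nat_lit 22638869))))) (BT.node (nat_lit 7426496) (BT.node (nat_lit 7426368) (BT.node (nat_lit 7426304) (BT.leaf (nat_lit 22893329)) (BT.leaf (nat_lit 22898449))) (BT.node (nat_lit 7426432) (BT.leaf (nat_lit 32375833)) (BT.leaf (nat_lit 23207697)))) (BT.node (nat_lit 7426624) (BT.node (nat_lit 7426560) (BT.leaf (nat_lit 23208461)) (BT.leaf (nat_lit 30301201))) (BT.node (nat_lit 7426688) (BT.leaf (nat_lit 27823373)) (BT.leaf (nat_lit 47621145)))))) (BT.node (nat_lit 7427264) (BT.node (nat_lit 7427008) (BT.node (nat_lit 7426880) (BT.node (nat_lit 7426816) (BT.leaf (nat_lit 23208977)) (BT.leaf (nat_lit 47621393))) (BT.node (nat_lit 7426944) (BT.leaf (nat_lit 36927517)) (BT.leaf (nat_lit 29042973)))) (BT.node (nat_lit 7427136) (BT.node (nat_lit 7427072) (BT.leaf (nat_lit 23209237)) (BT.leaf (nat_lit 40538901))) (BT.node (nat_lit 7427200) (BT.leaf (nat_lit 39896093)) (BT.leaf (nat_lit 47622673))))) (BT.node (nat_lit 7427520) (BT.node (nat_lit 7427392) (BT.node (nat_lit 7427328) (BT.leaf (nat_lit 27828513)) (BT.leaf (nat_lit 47622929))) (BT.node (nat_lit 7427456) (BT.leaf (nat_lit 33301525)) (BT.leaf (nat_lit 47623441)))) (BT.node (nat_lit 7427648) (BT.node (nat_lit 7427584) (BT.leaf (nat_lit 47623709)) (BT.leaf (nat_lit 32422409))) (BT.node (nat_lit 7427712) (BT.leaf (nat_lit 32422413)) (BT.leaf (nat_lit 28449293)))))))) (BT.node (nat_lit 7429824) (BT.node (nat_lit 7428800) (BT.node (nat_lit 7428288) (BT.node (nat_lit 7428032) (BT.node (nat_lit 7427904) (BT.node (nat_lit 7427840) (BT.leaf (nat_lit 23217185)) (BT.leaf (nat_lit 36017953))) (BT.node (nat_lit 7427968) (BT.leaf (nat_lit 34395925)) (BT.leaf (nat_lit 47624469)))) (BT.node (nat_lit 7428160) (BT.node (nat_lit 7428096) (BT.leaf (nat_lit 47625245)) (BT.leaf (nat_lit 29995541))) (BT.node (nat_lit 7428224) (BT.leaf (nat_lit 33210133)) (BT.leaf (nat_lit 30926341))))) (BT.node (nat_lit 7428544) (BT.node (nat_lit 7428416) (BT.node (nat_lit 7428352) (BT.leaf (nat_lit 30925601)) (BT.leaf (nat_lit 33419545))) (BT.node (nat_lit 7428480) (BT.leaf (nat_lit 30256133)) (BT.leaf (nat_lit 28586273)))) (BT.node (nat_lit 7428672) (BT.node (nat_lit 7428608) (BT.leaf (nat_lit 30253061)) (BT.leaf (nat_lit 28056593))) (BT.node (nat_lit 7428736) (BT.leaf (nat_lit 33983513)) (BT.leaf (nat_lit 39758109)))))) (BT.node (nat_lit 7429312) (BT.node (nat_lit 7429056) (BT.node (nat_lit 7428928) (BT.node (nat_lit 7428864) (BT.leaf (nat_lit 28142089)) (BT.leaf (nat_lit 28142093))) (BT.node (nat_lit 7428992) (BT.leaf (nat_lit 47626785)) (BT.leaf (nat_lit 37141793)))) (BT.node (nat_lit 7429184) (BT.node (nat_lit 7429120) (BT.leaf (nat_lit 35114005)) (BT.leaf (nat_lit 24400389))) (BT.node (nat_lit 7429248) (BT.leaf (nat_lit 30054681)) (BT.leaf (nat_lit 24069649))))) (BT.node (nat_lit 7429568) (BT.node (nat_lit 7429440) (BT.node (nat_lit 7429376) (BT.leaf (nat_lit 27616781)) (BT.leaf (nat_lit 23217685))) (BT.node (nat_lit 7429504) (BT.leaf (nat_lit 28449301)) (BT.leaf (nat_lit 47628565)))) (BT.node (nat_lit 7429696) (BT.node (nat_lit 7429632) (BT.leaf (nat_lit 47628813)) (BT.leaf (nat_lit 23210257))) (BT.node (nat_lit 7429760) (BT.leaf (nat_lit 23213845)) (BT.leaf (nat_lit 27983113))))))) (BT.node (nat_lit 7430848) (BT.node (nat_lit 7430336) (BT.node (nat_lit 7430080) (BT.node (nat_lit 7429952) (BT.node (nat_lit 7429888) (BT.leaf (nat_lit 27983117)) (BT.leaf (nat_lit 47630625))) (BT.node (nat_lit 7430016) (BT.leaf (nat_lit 27983133)) (BT.leaf (nat_lit 34958101)))) (BT.node (nat_lit 7430208) (BT.node (nat_lit 7430144) (BT.leaf (nat_lit 22706973)) (BT.leaf (nat_lit 23684125))) (BT.node (nat_lit 7430272) (BT.leaf (nat_lit 33635605)) (BT.leaf (nat_lit 23215385))))) (BT.node (nat_lit 7430592) (BT.node (nat_lit 7430464) (BT.node (nat_lit 7430400) (BT.leaf (nat_lit 23216401)) (BT.leaf (nat_lit 23216145))) (BT.node (nat_lit 7430528) (BT.leaf (nat_lit 22866961)) (BT.leaf (nat_lit 23297561)))) (BT.node (nat_lit 7430720) (BT.node (nat_lit 7430656) (BT.leaf (nat_lit 23297565)) (BT.leaf (nat_lit 23215633))) (BT.node (nat_lit 7430784) (BT.leaf (nat_lit 47633693)) (BT.leaf (nat_lit 47632901)))))) (BT.node (nat_lit 7431360) (BT.node (nat_lit 7431104) (BT.node (nat_lit 7430976) (BT.node (nat_lit 7430912) (BT.leaf (nat_lit 23237389)) (BT.leaf (nat_lit 23237393))) (BT.node (nat_lit 7431040) (BT.leaf (nat_lit 34821649)) (BT.leaf (nat_lit 29723929)))) (BT.node (nat_lit 7431232) (BT.node (nat_lit 7431168) (BT.leaf (nat_lit 47637273)) (BT.leaf (nat_lit 35321885))) (BT.node (nat_lit 7431296) (BT.leaf (nat_lit 47635733)) (BT.leaf (nat_lit 47639065))))) (BT.node (nat_lit 7431616) (BT.node (nat_lit 7431488) (BT.node (nat_lit 7431424) (BT.leaf (nat_lit 31223821)) (BT.leaf (nat_lit 47640353))) (BT.node (nat_lit 7431552) (BT.leaf (nat_lit 49893913)) (BT.leaf (nat_lit 23992341)))) (BT.node (nat_lit 7431744) (BT.node (nat_lit 7431680) (BT.leaf (nat_lit 47640597)) (BT.leaf (nat_lit 35513621))) (BT.node (nat_lit 7431808) (BT.leaf (nat_lit 34375701)) (BT.leaf (nat_lit 23218201))))))))))) (BT.node (nat_lit 7448256) (BT.node (nat_lit 7440064) (BT.node (nat_lit 7435968) (BT.node (nat_lit 7433920) (BT.node (nat_lit 7432896) (BT.node (nat_lit 7432384) (BT.node (nat_lit 7432128) (BT.node (nat_lit 7432000) (BT.node (nat_lit 7431936) (BT.leaf (nat_lit 33038105)) (BT.leaf (nat_lit 47443229))) (BT.node (nat_lit 7432064) (BT.leaf (nat_lit 28060449)) (BT.leaf (nat_lit 33846801)))) (BT.node (nat_lit 7432256) (BT.node (nat_lit 7432192) (BT.leaf (nat_lit 28291089)) (BT.leaf (nat_lit 38987549))) (BT.node (nat_lit 7432320) (BT.leaf (nat_lit 41748513)) (BT.leaf (nat_lit 28782357))))) (BT.node (nat_lit 7432640) (BT.node (nat_lit 7432512) (BT.node (nat_lit 7432448) (BT.leaf (nat_lit 24492041)) (BT.leaf (nat_lit 32872481))) (BT.node (nat_lit 7432576) (BT.leaf (nat_lit 32457249)) (BT.leaf (nat_lit 26682657)))) (BT.node (nat_lit 7432768) (BT.node (nat_lit 7432704) (BT.leaf (nat_lit 23987465)) (BT.leaf (nat_lit 28743457))) (BT.node (nat_lit 7432832) (BT.leaf (nat_lit 24492057)) (BT.leaf (nat_lit 24492061)))))) (BT.node (nat_lit 7433408) (BT.node (nat_lit 7433152) (BT.node (nat_lit 7433024) (BT.node (nat_lit 7432960) (BT.leaf (nat_lit 24556569)) (BT.leaf (nat_lit 32706069))) (BT.node (nat_lit 7433088) (BT.leaf (nat_lit 28160285)) (BT.leaf (nat_lit 23219229)))) (BT.node (nat_lit 7433280) (BT.node (nat_lit 7433216) (BT.leaf (nat_lit 29872153)) (BT.leaf (nat_lit 32873733))) (BT.node (nat_lit 7433344) (BT.leaf (nat_lit 33520649)) (BT.leaf (nat_lit 49766173))))) (BT.node (nat_lit 7433664) (BT.node (nat_lit 7433536) (BT.node (nat_lit 7433472) (BT.leaf (nat_lit 23219729)) (BT.leaf (nat_lit 46973725))) (BT.node (nat_lit 7433600) (BT.leaf (nat_lit 26550305)) (BT.leaf (nat_lit 26550281)))) (BT.node (nat_lit 7433792) (BT.node (nat_lit 7433728) (BT.leaf (nat_lit 40646173)) (BT.leaf (nat_lit 40646433))) (BT.node (nat_lit 7433856) (BT.leaf (nat_lit 29573125)) (BT.leaf (nat_lit 35193873))))))) (BT.node (nat_lit 7434944) (BT.node (nat_lit 7434432) (BT.node (nat_lit 7434176) (BT.node (nat_lit 7434048) (BT.node (nat_lit 7433984) (BT.leaf (nat_lit 34583313)) (BT.leaf (nat_lit 31133205))) (BT.node (nat_lit 7434112) (BT.leaf (nat_lit 40857093)) (BT.leaf (nat_lit 40857105)))) (BT.node (nat_lit 7434304) (BT.node (nat_lit 7434240) (BT.leaf (nat_lit 40857121)) (BT.leaf (nat_lit 23220241))) (BT.node (nat_lit 7434368) (BT.leaf (nat_lit 31133209)) (BT.leaf (nat_lit 31133213))))) (BT.node (nat_lit 7434688) (BT.node (nat_lit 7434560) (BT.node (nat_lit 7434496) (BT.leaf (nat_lit 23219985)) (BT.leaf (nat_lit 25732117))) (BT.node (nat_lit 7434624) (BT.leaf (nat_lit 29982489)) (BT.leaf (nat_lit 23231001)))) (BT.node (nat_lit 7434816) (BT.node (nat_lit 7434752) (BT.leaf (nat_lit 35959581)) (BT.leaf (nat_lit 25731613))) (BT.node (nat_lit 7434880) (BT.leaf (nat_lit 28759061)) (BT.leaf (nat_lit 31267589)))))) (BT.node (nat_lit 7435456) (BT.node (nat_lit 7435200) (BT.node (nat_lit 7435072) (BT.node (nat_lit 7435008) (BT.leaf (nat_lit 24565269)) (BT.leaf (nat_lit 40957445))) (BT.node (nat_lit 7435136) (BT.leaf (nat_lit 31976729)) (BT.leaf (nat_lit 31976733)))) (BT.node (nat_lit 7435328) (BT.node (nat_lit 7435264) (BT.leaf (nat_lit 25731609)) (BT.leaf (nat_lit 47644949))) (BT.node (nat_lit 7435392) (BT.leaf (nat_lit 29988373)) (BT.leaf (nat_lit 25733397))))) (BT.node (nat_lit 7435712) (BT.node (nat_lit 7435584) (BT.node (nat_lit 7435520) (BT.leaf (nat_lit 50667017)) (BT.leaf (nat_lit 33860113))) (BT.node (nat_lit 7435648) (BT.leaf (nat_lit 25323037)) (BT.leaf (nat_lit 46482961)))) (BT.node (nat_lit 7435840) (BT.node (nat_lit 7435776) (BT.leaf (nat_lit 47645977)) (BT.leaf (nat_lit 29698825))) (BT.node (nat_lit 7435904) (BT.leaf (nat_lit 30318341)) (BT.leaf (nat_lit 23466013)))))))) (BT.node (nat_lit 7438016) (BT.node (nat_lit 7436992) (BT.node (nat_lit 7436480) (BT.node (nat_lit 7436224) (BT.node (nat_lit 7436096) (BT.node (nat_lit 7436032) (BT.leaf (nat_lit 23246597)) (BT.leaf (nat_lit 50912793))) (BT.node (nat_lit 7436160) (BT.leaf (nat_lit 32785681)) (BT.leaf (nat_lit 47979273)))) (BT.node (nat_lit 7436352) (BT.node (nat_lit 7436288) (BT.leaf (nat_lit 26473489)) (BT.leaf (nat_lit 30069525))) (BT.node (nat_lit 7436416) (BT.leaf (nat_lit 30069529)) (BT.leaf (nat_lit 22533409))))) (BT.node (nat_lit 7436736) (BT.node (nat_lit 7436608) (BT.node (nat_lit 7436544) (BT.leaf (nat_lit 28581129)) (BT.leaf (nat_lit 28581133))) (BT.node (nat_lit 7436672) (BT.leaf (nat_lit 28581137)) (BT.leaf (nat_lit 28581149)))) (BT.node (nat_lit 7436864) (BT.node (nat_lit 7436800) (BT.leaf (nat_lit 32140061)) (BT.leaf (nat_lit 29279765))) (BT.node (nat_lit 7436928) (BT.leaf (nat_lit 28756233)) (BT.leaf (nat_lit 28756237)))))) (BT.node (nat_lit 7437504) (BT.node (nat_lit 7437248) (BT.node (nat_lit 7437120) (BT.node (nat_lit 7437056) (BT.leaf (nat_lit 28756249)) (BT.leaf (nat_lit 28756253))) (BT.node (nat_lit 7437184) (BT.leaf (nat_lit 23955733)) (BT.leaf (nat_lit 29415445)))) (BT.node (nat_lit 7437376) (BT.node (nat_lit 7437312) (BT.leaf (nat_lit 23224093)) (BT.leaf (nat_lit 24429845))) (BT.node (nat_lit 7437440) (BT.leaf (nat_lit 43009293)) (BT.leaf (nat_lit 22613521))))) (BT.node (nat_lit 7437760) (BT.node (nat_lit 7437632) (BT.node (nat_lit 7437568) (BT.leaf (nat_lit 23992585)) (BT.leaf (nat_lit 37914641))) (BT.node (nat_lit 7437696) (BT.leaf (nat_lit 47652125)) (BT.leaf (nat_lit 47652369)))) (BT.node (nat_lit 7437888) (BT.node (nat_lit 7437824) (BT.leaf (nat_lit 35028229)) (BT.leaf (nat_lit 47652629))) (BT.node (nat_lit 7437952) (BT.leaf (nat_lit 35803925)) (BT.leaf (nat_lit 23309829))))))) (BT.node (nat_lit 7439040) (BT.node (nat_lit 7438528) (BT.node (nat_lit 7438272) (BT.node (nat_lit 7438144) (BT.node (nat_lit 7438080) (BT.leaf (nat_lit 30996229)) (BT.leaf (nat_lit 26569237))) (BT.node (nat_lit 7438208) (BT.leaf (nat_lit 28595729)) (BT.leaf (nat_lit 49129233)))) (BT.node (nat_lit 7438400) (BT.node (nat_lit 7438336) (BT.leaf (nat_lit 30812945)) (BT.leaf (nat_lit 23236885))) (BT.node (nat_lit 7438464) (BT.leaf (nat_lit 23236889)) (BT.leaf (nat_lit 23236893))))) (BT.node (nat_lit 7438784) (BT.node (nat_lit 7438656) (BT.node (nat_lit 7438592) (BT.leaf (nat_lit 24317961)) (BT.leaf (nat_lit 29295897))) (BT.node (nat_lit 7438720) (BT.leaf (nat_lit 38155281)) (BT.leaf (nat_lit 39068433)))) (BT.node (nat_lit 7438912) (BT.node (nat_lit 7438848) (BT.leaf (nat_lit 47621905)) (BT.leaf (nat_lit 27370257))) (BT.node (nat_lit 7438976) (BT.leaf (nat_lit 27370273)) (BT.leaf (nat_lit 23228705)))))) (BT.node (nat_lit 7439552) (BT.node (nat_lit 7439296) (BT.node (nat_lit 7439168) (BT.node (nat_lit 7439104) (BT.leaf (nat_lit 38029329)) (BT.leaf (nat_lit 27285273))) (BT.node (nat_lit 7439232) (BT.leaf (nat_lit 29082121)) (BT.leaf (nat_lit 30835473)))) (BT.node (nat_lit 7439424) (BT.node (nat_lit 7439360) (BT.leaf (nat_lit 24738837)) (BT.leaf (nat_lit 30876933))) (BT.node (nat_lit 7439488) (BT.leaf (nat_lit 33889801)) (BT.leaf (nat_lit 33278737))))) (BT.node (nat_lit 7439808) (BT.node (nat_lit 7439680) (BT.node (nat_lit 7439616) (BT.leaf (nat_lit 23231005)) (BT.leaf (nat_lit 26447133))) (BT.node (nat_lit 7439744) (BT.leaf (nat_lit 41805333)) (BT.leaf (nat_lit 29354005)))) (BT.node (nat_lit 7439936) (BT.node (nat_lit 7439872) (BT.leaf (nat_lit 24479265)) (BT.leaf (nat_lit 47655445))) (BT.node (nat_lit 7440000) (BT.leaf (nat_lit 23853329)) (BT.leaf (nat_lit 25620245))))))))) (BT.node (nat_lit 7444160) (BT.node (nat_lit 7442112) (BT.node (nat_lit 7441088) (BT.node (nat_lit 7440576) (BT.node (nat_lit 7440320) (BT.node (nat_lit 7440192) (BT.node (nat_lit 7440128) (BT.leaf (nat_lit 25620249)) (BT.leaf (nat_lit 25620253))) (BT.node (nat_lit 7440256) (BT.leaf (nat_lit 47017501)) (BT.leaf (nat_lit 25420313)))) (BT.node (nat_lit 7440448) (BT.node (nat_lit 7440384) (BT.leaf (nat_lit 28414497)) (BT.leaf (nat_lit 28401173))) (BT.node (nat_lit 7440512) (BT.leaf (nat_lit 28401177)) (BT.leaf (nat_lit 27271965))))) (BT.node (nat_lit 7440832) (BT.node (nat_lit 7440704) (BT.node (nat_lit 7440640) (BT.leaf (nat_lit 36339217)) (BT.leaf (nat_lit 27766549))) (BT.node (nat_lit 7440768) (BT.leaf (nat_lit 35832337)) (BT.leaf (nat_lit 32737813)))) (BT.node (nat_lit 7440960) (BT.node (nat_lit 7440896) (BT.leaf (nat_lit 32737817)) (BT.leaf (nat_lit 32737821))) (BT.node (nat_lit 7441024) (BT.leaf (nat_lit 27551249)) (BT.leaf (nat_lit 23243537)))))) (BT.node (nat_lit 7441600) (BT.node (nat_lit 7441344) (BT.node (nat_lit 7441216) (BT.node (nat_lit 7441152) (BT.leaf (nat_lit 31025953)) (BT.leaf (nat_lit 50349061))) (BT.node (nat_lit 7441280) (BT.leaf (nat_lit 32273697)) (BT.leaf (nat_lit 47657489)))) (BT.node (nat_lit 7441472) (BT.node (nat_lit 7441408) (BT.leaf (nat_lit 23236117)) (BT.leaf (nat_lit 40583961))) (BT.node (nat_lit 7441536) (BT.leaf (nat_lit 40583445)) (BT.leaf (nat_lit 24512021))))) (BT.node (nat_lit 7441856) (BT.node (nat_lit 7441728) (BT.node (nat_lit 7441664) (BT.leaf (nat_lit 34344481)) (BT.leaf (nat_lit 37105945))) (BT.node (nat_lit 7441792) (BT.leaf (nat_lit 29543713)) (BT.leaf (nat_lit 51972897)))) (BT.node (nat_lit 7441984) (BT.node (nat_lit 7441920) (BT.leaf (nat_lit 51973153)) (BT.leaf (nat_lit 47657733))) (BT.node (nat_lit 7442048) (BT.leaf (nat_lit 26657041)) (BT.leaf (nat_lit 47658517))))))) (BT.node (nat_lit 7443136) (BT.node (nat_lit 7442624) (BT.node (nat_lit 7442368) (BT.node (nat_lit 7442240) (BT.node (nat_lit 7442176) (BT.leaf (nat_lit 30493453)) (BT.leaf (nat_lit 30039329))) (BT.node (nat_lit 7442304) (BT.leaf (nat_lit 36309261)) (BT.leaf (nat_lit 25995029)))) (BT.node (nat_lit 7442496) (BT.node (nat_lit 7442432) (BT.leaf (nat_lit 31041809)) (BT.leaf (nat_lit 26483745))) (BT.node (nat_lit 7442560) (BT.leaf (nat_lit 33640981)) (BT.leaf (nat_lit 47267873))))) (BT.node (nat_lit 7442880) (BT.node (nat_lit 7442752) (BT.node (nat_lit 7442688) (BT.leaf (nat_lit 28934421)) (BT.leaf (nat_lit 41817633))) (BT.node (nat_lit 7442816) (BT.leaf (nat_lit 41817377)) (BT.leaf (nat_lit 29771529)))) (BT.node (nat_lit 7443008) (BT.node (nat_lit 7442944) (BT.leaf (nat_lit 33041173)) (BT.leaf (nat_lit 34516245))) (BT.node (nat_lit 7443072) (BT.leaf (nat_lit 24795933)) (BT.leaf (nat_lit 35218961)))))) (BT.node (nat_lit 7443648) (BT.node (nat_lit 7443392) (BT.node (nat_lit 7443264) (BT.node (nat_lit 7443200) (BT.leaf (nat_lit 38044193)) (BT.leaf (nat_lit 30491153))) (BT.node (nat_lit 7443328) (BT.leaf (nat_lit 27617561)) (BT.leaf (nat_lit 33040925)))) (BT.node (nat_lit 7443520) (BT.node (nat_lit 7443456) (BT.leaf (nat_lit 27295241)) (BT.leaf (nat_lit 27616777))) (BT.node (nat_lit 7443584) (BT.leaf (nat_lit 32505353)) (BT.leaf (nat_lit 30487321))))) (BT.node (nat_lit 7443904) (BT.node (nat_lit 7443776) (BT.node (nat_lit 7443712) (BT.leaf (nat_lit 47661329)) (BT.leaf (nat_lit 41824797))) (BT.node (nat_lit 7443840) (BT.leaf (nat_lit 38256925)) (BT.leaf (nat_lit 27902481)))) (BT.node (nat_lit 7444032) (BT.node (nat_lit 7443968) (BT.leaf (nat_lit 39880453)) (BT.leaf (nat_lit 24607761))) (BT.node (nat_lit 7444096) (BT.leaf (nat_lit 46980385)) (BT.leaf (nat_lit 27902745)))))))) (BT.node (nat_lit 7446208) (BT.node (nat_lit 7445184) (BT.node (nat_lit 7444672) (BT.node (nat_lit 7444416) (BT.node (nat_lit 7444288) (BT.node (nat_lit 7444224) (BT.leaf (nat_lit 27902749)) (BT.leaf (nat_lit 41832225))) (BT.node (nat_lit 7444352) (BT.leaf (nat_lit 32845321)) (BT.leaf (nat_lit 28239897)))) (BT.node (nat_lit 7444544) (BT.node (nat_lit 7444480) (BT.leaf (nat_lit 47663897)) (BT.leaf (nat_lit 34508065))) (BT.node (nat_lit 7444608) (BT.leaf (nat_lit 46765837)) (BT.leaf (nat_lit 36313889))))) (BT.node (nat_lit 7444928) (BT.node (nat_lit 7444800) (BT.node (nat_lit 7444736) (BT.leaf (nat_lit 28270617)) (BT.leaf (nat_lit 47664149))) (BT.node (nat_lit 7444864) (BT.leaf (nat_lit 33573393)) (BT.leaf (nat_lit 23239449)))) (BT.node (nat_lit 7445056) (BT.node (nat_lit 7444992) (BT.leaf (nat_lit 23239953)) (BT.leaf (nat_lit 23239697))) (BT.node (nat_lit 7445120) (BT.leaf (nat_lit 24380185)) (BT.leaf (nat_lit 23240209)))))) (BT.node (nat_lit 7445696) (BT.node (nat_lit 7445440) (BT.node (nat_lit 7445312) (BT.node (nat_lit 7445248) (BT.leaf (nat_lit 22393873)) (BT.leaf (nat_lit 30716693))) (BT.node (nat_lit 7445376) (BT.leaf (nat_lit 50747673)) (BT.leaf (nat_lit 48763661)))) (BT.node (nat_lit 7445568) (BT.node (nat_lit 7445504) (BT.leaf (nat_lit 49574417)) (BT.leaf (nat_lit 47666197))) (BT.node (nat_lit 7445632) (BT.leaf (nat_lit 50747661)) (BT.leaf (nat_lit 28265249))))) (BT.node (nat_lit 7445952) (BT.node (nat_lit 7445824) (BT.node (nat_lit 7445760) (BT.leaf (nat_lit 23234077)) (BT.leaf (nat_lit 32815125))) (BT.node (nat_lit 7445888) (BT.leaf (nat_lit 50959109)) (BT.leaf (nat_lit 35386397)))) (BT.node (nat_lit 7446080) (BT.node (nat_lit 7446016) (BT.leaf (nat_lit 48749853)) (BT.leaf (nat_lit 23653897))) (BT.node (nat_lit 7446144) (BT.leaf (nat_lit 23653901)) (BT.leaf (nat_lit 23653913))))))) (BT.node (nat_lit 7447232) (BT.node (nat_lit 7446720) (BT.node (nat_lit 7446464) (BT.node (nat_lit 7446336) (BT.node (nat_lit 7446272) (BT.leaf (nat_lit 23653917)) (BT.leaf (nat_lit 36343061))) (BT.node (nat_lit 7446400) (BT.leaf (nat_lit 23241745)) (BT.leaf (nat_lit 25913633)))) (BT.node (nat_lit 7446592) (BT.node (nat_lit 7446528) (BT.leaf (nat_lit 28610593)) (BT.leaf (nat_lit 29460245))) (BT.node (nat_lit 7446656) (BT.leaf (nat_lit 29463837)) (BT.leaf (nat_lit 23242261))))) (BT.node (nat_lit 7446976) (BT.node (nat_lit 7446848) (BT.node (nat_lit 7446784) (BT.leaf (nat_lit 29786649)) (BT.leaf (nat_lit 36031513))) (BT.node (nat_lit 7446912) (BT.leaf (nat_lit 40893977)) (BT.leaf (nat_lit 40893981)))) (BT.node (nat_lit 7447104) (BT.node (nat_lit 7447040) (BT.leaf (nat_lit 39810829)) (BT.leaf (nat_lit 29366041))) (BT.node (nat_lit 7447168) (BT.leaf (nat_lit 38453517)) (BT.leaf (nat_lit 29788957)))))) (BT.node (nat_lit 7447744) (BT.node (nat_lit 7447488) (BT.node (nat_lit 7447360) (BT.node (nat_lit 7447296) (BT.leaf (nat_lit 38476821)) (BT.leaf (nat_lit 24748317))) (BT.node (nat_lit 7447424) (BT.leaf (nat_lit 46554137)) (BT.leaf (nat_lit 27744541)))) (BT.node (nat_lit 7447616) (BT.node (nat_lit 7447552) (BT.leaf (nat_lit 27744521)) (BT.leaf (nat_lit 47004165))) (BT.node (nat_lit 7447680) (BT.leaf (nat_lit 28184609)) (BT.leaf (nat_lit 23246609))))) (BT.node (nat_lit 7448000) (BT.node (nat_lit 7447872) (BT.node (nat_lit 7447808) (BT.leaf (nat_lit 31656985)) (BT.leaf (nat_lit 33977625))) (BT.node (nat_lit 7447936) (BT.leaf (nat_lit 50388489)) (BT.leaf (nat_lit 23414033)))) (BT.node (nat_lit 7448128) (BT.node (nat_lit 7448064) (BT.leaf (nat_lit 23247877)) (BT.leaf (nat_lit 25860625))) (BT.node (nat_lit 7448192) (BT.leaf (nat_lit 25860381)) (BT.leaf (nat_lit 23249165)))))))))) (BT.node (nat_lit 7456448) (BT.node (nat_lit 7452352) (BT.node (nat_lit 7450304) (BT.node (nat_lit 7449280) (BT.node (nat_lit 7448768) (BT.node (nat_lit 7448512) (BT.node (nat_lit 7448384) (BT.node (nat_lit 7448320) (BT.leaf (nat_lit 23427077)) (BT.leaf (nat_lit 33067797))) (BT.node (nat_lit 7448448) (BT.leaf (nat_lit 37788701)) (BT.leaf (nat_lit 23249169)))) (BT.node (nat_lit 7448640) (BT.node (nat_lit 7448576) (BT.leaf (nat_lit 23249173)) (BT.leaf (nat_lit 30248197))) (BT.node (nat_lit 7448704) (BT.leaf (nat_lit 31372293)) (BT.leaf (nat_lit 47672865))))) (BT.node (nat_lit 7449024) (BT.node (nat_lit 7448896) (BT.node (nat_lit 7448832) (BT.leaf (nat_lit 23727641)) (BT.leaf (nat_lit 31929097))) (BT.node (nat_lit 7448960) (BT.leaf (nat_lit 31929101)) (BT.leaf (nat_lit 25653537)))) (BT.node (nat_lit 7449152) (BT.node (nat_lit 7449088) (BT.leaf (nat_lit 42131973)) (BT.leaf (nat_lit 31929117))) (BT.node (nat_lit 7449216) (BT.leaf (nat_lit 46653205)) (BT.leaf (nat_lit 23426841)))))) (BT.node (nat_lit 7449792) (BT.node (nat_lit 7449536) (BT.node (nat_lit 7449408) (BT.node (nat_lit 7449344) (BT.leaf (nat_lit 47675425)) (BT.leaf (nat_lit 47675653))) (BT.node (nat_lit 7449472) (BT.leaf (nat_lit 27556885)) (BT.leaf (nat_lit 31331333)))) (BT.node (nat_lit 7449664) (BT.node (nat_lit 7449600) (BT.leaf (nat_lit 23320861)) (BT.leaf (nat_lit 23250973))) (BT.node (nat_lit 7449728) (BT.leaf (nat_lit 23645717)) (BT.leaf (nat_lit 23251225))))) (BT.node (nat_lit 7450048) (BT.node (nat_lit 7449920) (BT.node (nat_lit 7449856) (BT.leaf (nat_lit 23251985)) (BT.leaf (nat_lit 36342533))) (BT.node (nat_lit 7449984) (BT.leaf (nat_lit 33610757)) (BT.leaf (nat_lit 24314393)))) (BT.node (nat_lit 7450176) (BT.node (nat_lit 7450112) (BT.leaf (nat_lit 24314397)) (BT.leaf (nat_lit 23251473))) (BT.node (nat_lit 7450240) (BT.leaf (nat_lit 49131285)) (BT.leaf (nat_lit 28819469))))))) (BT.node (nat_lit 7451328) (BT.node (nat_lit 7450816) (BT.node (nat_lit 7450560) (BT.node (nat_lit 7450432) (BT.node (nat_lit 7450368) (BT.leaf (nat_lit 25349909)) (BT.leaf (nat_lit 24877337))) (BT.node (nat_lit 7450496) (BT.leaf (nat_lit 24877341)) (BT.leaf (nat_lit 35585045)))) (BT.node (nat_lit 7450688) (BT.node (nat_lit 7450624) (BT.leaf (nat_lit 26660889)) (BT.leaf (nat_lit 23252249))) (BT.node (nat_lit 7450752) (BT.leaf (nat_lit 29794589)) (BT.leaf (nat_lit 23252253))))) (BT.node (nat_lit 7451072) (BT.node (nat_lit 7450944) (BT.node (nat_lit 7450880) (BT.leaf (nat_lit 32751905)) (BT.leaf (nat_lit 23252497))) (BT.node (nat_lit 7451008) (BT.leaf (nat_lit 24632085)) (BT.leaf (nat_lit 24632089)))) (BT.node (nat_lit 7451200) (BT.node (nat_lit 7451136) (BT.leaf (nat_lit 24632093)) (BT.leaf (nat_lit 23253265))) (BT.node (nat_lit 7451264) (BT.leaf (nat_lit 23253009)) (BT.leaf (nat_lit 28202781)))))) (BT.node (nat_lit 7451840) (BT.node (nat_lit 7451584) (BT.node (nat_lit 7451456) (BT.node (nat_lit 7451392) (BT.leaf (nat_lit 22599697)) (BT.leaf (nat_lit 30780933))) (BT.node (nat_lit 7451520) (BT.leaf (nat_lit 28852253)) (BT.leaf (nat_lit 23779849)))) (BT.node (nat_lit 7451712) (BT.node (nat_lit 7451648) (BT.leaf (nat_lit 23779853)) (BT.leaf (nat_lit 31832085))) (BT.node (nat_lit 7451776) (BT.leaf (nat_lit 28414485)) (BT.leaf (nat_lit 34936069))))) (BT.node (nat_lit 7452096) (BT.node (nat_lit 7451968) (BT.node (nat_lit 7451904) (BT.leaf (nat_lit 23254041)) (BT.leaf (nat_lit 23254297))) (BT.node (nat_lit 7452032) (BT.leaf (nat_lit 23254045)) (BT.leaf (nat_lit 23254301)))) (BT.node (nat_lit 7452224) (BT.node (nat_lit 7452160) (BT.leaf (nat_lit 47682565)) (BT.leaf (nat_lit 30491925))) (BT.node (nat_lit 7452288) (BT.leaf (nat_lit 23254545)) (BT.leaf (nat_lit 22403601)))))))) (BT.node (nat_lit 7454400) (BT.node (nat_lit 7453376) (BT.node (nat_lit 7452864) (BT.node (nat_lit 7452608) (BT.node (nat_lit 7452480) (BT.node (nat_lit 7452416) (BT.leaf (nat_lit 23253777)) (BT.leaf (nat_lit 23254809))) (BT.node (nat_lit 7452544) (BT.leaf (nat_lit 37882373)) (BT.leaf (nat_lit 47685145)))) (BT.node (nat_lit 7452736) (BT.node (nat_lit 7452672) (BT.leaf (nat_lit 36849413)) (BT.leaf (nat_lit 32088073))) (BT.node (nat_lit 7452800) (BT.leaf (nat_lit 36523017)) (BT.leaf (nat_lit 36523021))))) (BT.node (nat_lit 7453120) (BT.node (nat_lit 7452992) (BT.node (nat_lit 7452928) (BT.leaf (nat_lit 25351445)) (BT.leaf (nat_lit 51845905))) (BT.node (nat_lit 7453056) (BT.leaf (nat_lit 30489617)) (BT.leaf (nat_lit 30489621)))) (BT.node (nat_lit 7453248) (BT.node (nat_lit 7453184) (BT.leaf (nat_lit 38190101)) (BT.leaf (nat_lit 41884693))) (BT.node (nat_lit 7453312) (BT.leaf (nat_lit 31153929)) (BT.leaf (nat_lit 32910853)))))) (BT.node (nat_lit 7453888) (BT.node (nat_lit 7453632) (BT.node (nat_lit 7453504) (BT.node (nat_lit 7453440) (BT.leaf (nat_lit 23256593)) (BT.leaf (nat_lit 23230997))) (BT.node (nat_lit 7453568) (BT.leaf (nat_lit 30468629)) (BT.leaf (nat_lit 30739717)))) (BT.node (nat_lit 7453760) (BT.node (nat_lit 7453696) (BT.leaf (nat_lit 27975961)) (BT.leaf (nat_lit 31947293))) (BT.node (nat_lit 7453824) (BT.leaf (nat_lit 47688197)) (BT.leaf (nat_lit 31721737))))) (BT.node (nat_lit 7454144) (BT.node (nat_lit 7454016) (BT.node (nat_lit 7453952) (BT.leaf (nat_lit 30799649)) (BT.leaf (nat_lit 24806677))) (BT.node (nat_lit 7454080) (BT.leaf (nat_lit 47131409)) (BT.leaf (nat_lit 40510481)))) (BT.node (nat_lit 7454272) (BT.node (nat_lit 7454208) (BT.leaf (nat_lit 28751621)) (BT.leaf (nat_lit 30005277))) (BT.node (nat_lit 7454336) (BT.leaf (nat_lit 38583569)) (BT.leaf (nat_lit 39535369))))))) (BT.node (nat_lit 7455424) (BT.node (nat_lit 7454912) (BT.node (nat_lit 7454656) (BT.node (nat_lit 7454528) (BT.node (nat_lit 7454464) (BT.leaf (nat_lit 38209289)) (BT.leaf (nat_lit 25817113))) (BT.node (nat_lit 7454592) (BT.leaf (nat_lit 32536077)) (BT.leaf (nat_lit 23481629)))) (BT.node (nat_lit 7454784) (BT.node (nat_lit 7454720) (BT.leaf (nat_lit 47688453)) (BT.leaf (nat_lit 23567129))) (BT.node (nat_lit 7454848) (BT.leaf (nat_lit 47689733)) (BT.leaf (nat_lit 31565601))))) (BT.node (nat_lit 7455168) (BT.node (nat_lit 7455040) (BT.node (nat_lit 7454976) (BT.leaf (nat_lit 28553749)) (BT.leaf (nat_lit 47690513))) (BT.node (nat_lit 7455104) (BT.leaf (nat_lit 38972961)) (BT.leaf (nat_lit 33128729)))) (BT.node (nat_lit 7455296) (BT.node (nat_lit 7455232) (BT.leaf (nat_lit 24467997)) (BT.leaf (nat_lit 29995029))) (BT.node (nat_lit 7455360) (BT.leaf (nat_lit 28294177)) (BT.leaf (nat_lit 41801221)))))) (BT.node (nat_lit 7455936) (BT.node (nat_lit 7455680) (BT.node (nat_lit 7455552) (BT.node (nat_lit 7455488) (BT.leaf (nat_lit 37839133)) (BT.leaf (nat_lit 23257873))) (BT.node (nat_lit 7455616) (BT.leaf (nat_lit 23258385)) (BT.leaf (nat_lit 23258129)))) (BT.node (nat_lit 7455808) (BT.node (nat_lit 7455744) (BT.leaf (nat_lit 24626709)) (BT.leaf (nat_lit 24846869))) (BT.node (nat_lit 7455872) (BT.leaf (nat_lit 29563925)) (BT.leaf (nat_lit 29564933))))) (BT.node (nat_lit 7456192) (BT.node (nat_lit 7456064) (BT.node (nat_lit 7456000) (BT.leaf (nat_lit 23258897)) (BT.leaf (nat_lit 23258641))) (BT.node (nat_lit 7456128) (BT.leaf (nat_lit 24626453)) (BT.leaf (nat_lit 30686993)))) (BT.node (nat_lit 7456320) (BT.node (nat_lit 7456256) (BT.leaf (nat_lit 23259409)) (BT.leaf (nat_lit 51450657))) (BT.node (nat_lit 7456384) (BT.leaf (nat_lit 33279265)) (BT.leaf (nat_lit 23488017))))))))) (BT.node (nat_lit 7460544) (BT.node (nat_lit 7458496) (BT.node (nat_lit 7457472) (BT.node (nat_lit 7456960) (BT.node (nat_lit 7456704) (BT.node (nat_lit 7456576) (BT.node (nat_lit 7456512) (BT.leaf (nat_lit 31042845)) (BT.leaf (nat_lit 34628621))) (BT.node (nat_lit 7456640) (BT.leaf (nat_lit 33836313)) (BT.leaf (nat_lit 50023713)))) (BT.node (nat_lit 7456832) (BT.node (nat_lit 7456768) (BT.leaf (nat_lit 23816481)) (BT.leaf (nat_lit 33836301))) (BT.node (nat_lit 7456896) (BT.leaf (nat_lit 23259925)) (BT.leaf (nat_lit 32016401))))) (BT.node (nat_lit 7457216) (BT.node (nat_lit 7457088) (BT.node (nat_lit 7457024) (BT.leaf (nat_lit 22944021)) (BT.leaf (nat_lit 24450577))) (BT.node (nat_lit 7457152) (BT.leaf (nat_lit 24450593)) (BT.leaf (nat_lit 22928405)))) (BT.node (nat_lit 7457344) (BT.node (nat_lit 7457280) (BT.leaf (nat_lit 47250465)) (BT.leaf (nat_lit 47695389))) (BT.node (nat_lit 7457408) (BT.leaf (nat_lit 26404369)) (BT.leaf (nat_lit 29309205)))))) (BT.node (nat_lit 7457984) (BT.node (nat_lit 7457728) (BT.node (nat_lit 7457600) (BT.node (nat_lit 7457536) (BT.leaf (nat_lit 33921561)) (BT.leaf (nat_lit 23262737))) (BT.node (nat_lit 7457664) (BT.leaf (nat_lit 50390541)) (BT.leaf (nat_lit 44417797)))) (BT.node (nat_lit 7457856) (BT.node (nat_lit 7457792) (BT.leaf (nat_lit 27815185)) (BT.leaf (nat_lit 27600657))) (BT.node (nat_lit 7457920) (BT.leaf (nat_lit 23635985)) (BT.leaf (nat_lit 33366557))))) (BT.node (nat_lit 7458240) (BT.node (nat_lit 7458112) (BT.node (nat_lit 7458048) (BT.leaf (nat_lit 23636497)) (BT.leaf (nat_lit 33688861))) (BT.node (nat_lit 7458176) (BT.leaf (nat_lit 23406609)) (BT.leaf (nat_lit 47281685)))) (BT.node (nat_lit 7458368) (BT.node (nat_lit 7458304) (BT.leaf (nat_lit 32375073)) (BT.leaf (nat_lit 35060741))) (BT.node (nat_lit 7458432) (BT.leaf (nat_lit 22300689)) (BT.leaf (nat_lit 22421009))))))) (BT.node (nat_lit 7459520) (BT.node (nat_lit 7459008) (BT.node (nat_lit 7458752) (BT.node (nat_lit 7458624) (BT.node (nat_lit 7458560) (BT.leaf (nat_lit 33947937)) (BT.leaf (nat_lit 24002073))) (BT.node (nat_lit 7458688) (BT.leaf (nat_lit 24002077)) (BT.leaf (nat_lit 22326801)))) (BT.node (nat_lit 7458880) (BT.node (nat_lit 7458816) (BT.leaf (nat_lit 33688837)) (BT.leaf (nat_lit 47798789))) (BT.node (nat_lit 7458944) (BT.leaf (nat_lit 23917593)) (BT.leaf (nat_lit 23805201))))) (BT.node (nat_lit 7459264) (BT.node (nat_lit 7459136) (BT.node (nat_lit 7459072) (BT.leaf (nat_lit 24225557)) (BT.leaf (nat_lit 23267089))) (BT.node (nat_lit 7459200) (BT.leaf (nat_lit 23839253)) (BT.leaf (nat_lit 47698693)))) (BT.node (nat_lit 7459392) (BT.node (nat_lit 7459328) (BT.leaf (nat_lit 23839261)) (BT.leaf (nat_lit 47698949))) (BT.node (nat_lit 7459456) (BT.leaf (nat_lit 47798817)) (BT.leaf (nat_lit 28364293)))))) (BT.node (nat_lit 7460032) (BT.node (nat_lit 7459776) (BT.node (nat_lit 7459648) (BT.node (nat_lit 7459584) (BT.leaf (nat_lit 47699725)) (BT.leaf (nat_lit 28364313))) (BT.node (nat_lit 7459712) (BT.leaf (nat_lit 27856397)) (BT.leaf (nat_lit 23415581)))) (BT.node (nat_lit 7459904) (BT.node (nat_lit 7459840) (BT.leaf (nat_lit 27530005)) (BT.leaf (nat_lit 47701013))) (BT.node (nat_lit 7459968) (BT.leaf (nat_lit 28565281)) (BT.leaf (nat_lit 51342609))))) (BT.node (nat_lit 7460288) (BT.node (nat_lit 7460160) (BT.node (nat_lit 7460096) (BT.leaf (nat_lit 40699669)) (BT.leaf (nat_lit 32816137))) (BT.node (nat_lit 7460224) (BT.leaf (nat_lit 52093205)) (BT.leaf (nat_lit 23405845)))) (BT.node (nat_lit 7460416) (BT.node (nat_lit 7460352) (BT.leaf (nat_lit 23405849)) (BT.leaf (nat_lit 35032069))) (BT.node (nat_lit 7460480) (BT.leaf (nat_lit 36191505)) (BT.leaf (nat_lit 46632985)))))))) (BT.node (nat_lit 7462592) (BT.node (nat_lit 7461568) (BT.node (nat_lit 7461056) (BT.node (nat_lit 7460800) (BT.node (nat_lit 7460672) (BT.node (nat_lit 7460608) (BT.leaf (nat_lit 23464985)) (BT.leaf (nat_lit 30077473))) (BT.node (nat_lit 7460736) (BT.leaf (nat_lit 23406097)) (BT.leaf (nat_lit 27435545)))) (BT.node (nat_lit 7460928) (BT.node (nat_lit 7460864) (BT.leaf (nat_lit 41045017)) (BT.leaf (nat_lit 24740625))) (BT.node (nat_lit 7460992) (BT.leaf (nat_lit 27287061)) (BT.leaf (nat_lit 47703317))))) (BT.node (nat_lit 7461312) (BT.node (nat_lit 7461184) (BT.node (nat_lit 7461120) (BT.leaf (nat_lit 47704097)) (BT.leaf (nat_lit 47703841))) (BT.node (nat_lit 7461248) (BT.leaf (nat_lit 47703585)) (BT.leaf (nat_lit 41933317)))) (BT.node (nat_lit 7461440) (BT.node (nat_lit 7461376) (BT.leaf (nat_lit 41717521)) (BT.leaf (nat_lit 40538653))) (BT.node (nat_lit 7461504) (BT.leaf (nat_lit 41717773)) (BT.leaf (nat_lit 47705113)))))) (BT.node (nat_lit 7462080) (BT.node (nat_lit 7461824) (BT.node (nat_lit 7461696) (BT.node (nat_lit 7461632) (BT.leaf (nat_lit 47704325)) (BT.leaf (nat_lit 28161549))) (BT.node (nat_lit 7461760) (BT.leaf (nat_lit 39374625)) (BT.leaf (nat_lit 40247813)))) (BT.node (nat_lit 7461952) (BT.node (nat_lit 7461888) (BT.leaf (nat_lit 46330637)) (BT.leaf (nat_lit 28161569))) (BT.node (nat_lit 7462016) (BT.leaf (nat_lit 31027477)) (BT.leaf (nat_lit 41925145))))) (BT.node (nat_lit 7462336) (BT.node (nat_lit 7462208) (BT.node (nat_lit 7462144) (BT.leaf (nat_lit 29023257)) (BT.leaf (nat_lit 47706653))) (BT.node (nat_lit 7462272) (BT.leaf (nat_lit 47706901)) (BT.leaf (nat_lit 40904709)))) (BT.node (nat_lit 7462464) (BT.node (nat_lit 7462400) (BT.leaf (nat_lit 41168393)) (BT.leaf (nat_lit 47224849))) (BT.node (nat_lit 7462528) (BT.leaf (nat_lit 33295637)) (BT.leaf (nat_lit 25702673))))))) (BT.node (nat_lit 7463616) (BT.node (nat_lit 7463104) (BT.node (nat_lit 7462848) (BT.node (nat_lit 7462720) (BT.node (nat_lit 7462656) (BT.leaf (nat_lit 29854985)) (BT.leaf (nat_lit 35714833))) (BT.node (nat_lit 7462784) (BT.leaf (nat_lit 29957397)) (BT.leaf (nat_lit 23269913)))) (BT.node (nat_lit 7462976) (BT.node (nat_lit 7462912) (BT.leaf (nat_lit 23269917)) (BT.leaf (nat_lit 31134489))) (BT.node (nat_lit 7463040) (BT.leaf (nat_lit 28956937)) (BT.leaf (nat_lit 23270149))))) (BT.node (nat_lit 7463360) (BT.node (nat_lit 7463232) (BT.node (nat_lit 7463168) (BT.leaf (nat_lit 29043485)) (BT.leaf (nat_lit 47016209))) (BT.node (nat_lit 7463296) (BT.leaf (nat_lit 36042501)) (BT.leaf (nat_lit 23270417)))) (BT.node (nat_lit 7463488) (BT.node (nat_lit 7463424) (BT.leaf (nat_lit 48178185)) (BT.leaf (nat_lit 29095197))) (BT.node (nat_lit 7463552) (BT.leaf (nat_lit 23800853)) (BT.leaf (nat_lit 35031813)))))) (BT.node (nat_lit 7464128) (BT.node (nat_lit 7463872) (BT.node (nat_lit 7463744) (BT.node (nat_lit 7463680) (BT.leaf (nat_lit 23800861)) (BT.leaf (nat_lit 40507669))) (BT.node (nat_lit 7463808) (BT.leaf (nat_lit 22565653)) (BT.leaf (nat_lit 28108309)))) (BT.node (nat_lit 7464000) (BT.node (nat_lit 7463936) (BT.leaf (nat_lit 37960453)) (BT.leaf (nat_lit 48970269))) (BT.node (nat_lit 7464064) (BT.leaf (nat_lit 23562513)) (BT.leaf (nat_lit 23562517))))) (BT.node (nat_lit 7464384) (BT.node (nat_lit 7464256) (BT.node (nat_lit 7464192) (BT.leaf (nat_lit 23272481)) (BT.leaf (nat_lit 23272737))) (BT.node (nat_lit 7464320) (BT.leaf (nat_lit 23273505)) (BT.leaf (nat_lit 23273249)))) (BT.node (nat_lit 7464512) (BT.node (nat_lit 7464448) (BT.leaf (nat_lit 31448581)) (BT.leaf (nat_lit 34678041))) (BT.node (nat_lit 7464576) (BT.leaf (nat_lit 29538309)) (BT.leaf (nat_lit 24091165)))))))))))))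
noncomputable def big0_e49152 : BT Nat := (BT.node (nat_lit 7530112) (BT.node (nat_lit 7497344) (BT.node (nat_lit 7480960) (BT.node (nat_lit 7472832) (BT.node (nat_lit 7468736) (BT.node (nat_lit 7466688) (BT.node (nat_lit 7465664) (BT.node (nat_lit 7465152) (BT.node (nat_lit 7464896) (BT.node (nat_lit 7464768) (BT.node (nat_lit 7464704) (BT.leaf (nat_lit 24097805)) (BT.leaf (nat_lit 25372949))) (BT.node (nat_lit 7464832) (BT.leaf (nat_lit 23749921)) (BT.leaf (nat_lit 24449057)))) (BT.node (nat_lit 7465024) (BT.node (nat_lit 7464960) (BT.leaf (nat_lit 28317217)) (BT.leaf (nat_lit 49334561))) (BT.node (nat_lit 7465088) (BT.leaf (nat_lit 35888153)) (BT.leaf (nat_lit 47124001))))) (BT.node (nat_lit 7465408) (BT.node (nat_lit 7465280) (BT.node (nat_lit 7465216) (BT.leaf (nat_lit 32869149)) (BT.leaf (nat_lit 29861129))) (BT.node (nat_lit 7465344) (BT.leaf (nat_lit 50062085)) (BT.leaf (nat_lit 51094305)))) (BT.node (nat_lit 7465536) (BT.node (nat_lit 7465472) (BT.leaf (nat_lit 35445261)) (BT.leaf (nat_lit 40183301))) (BT.node (nat_lit 7465600) (BT.leaf (nat_lit 49514269)) (BT.leaf (nat_lit 40250641)))))) (BT.node (nat_lit 7466176) (BT.node (nat_lit 7465920) (BT.node (nat_lit 7465792) (BT.node (nat_lit 7465728) (BT.leaf (nat_lit 47710725)) (BT.leaf (nat_lit 29864205))) (BT.node (nat_lit 7465856) (BT.leaf (nat_lit 47711257)) (BT.leaf (nat_lit 27494669)))) (BT.node (nat_lit 7466048) (BT.node (nat_lit 7465984) (BT.leaf (nat_lit 29864221)) (BT.leaf (nat_lit 27507461))) (BT.node (nat_lit 7466112) (BT.leaf (nat_lit 33633557)) (BT.leaf (nat_lit 27494153))))) (BT.node (nat_lit 7466432) (BT.node (nat_lit 7466304) (BT.node (nat_lit 7466240) (BT.leaf (nat_lit 50749201)) (BT.leaf (nat_lit 47712269))) (BT.node (nat_lit 7466368) (BT.leaf (nat_lit 47712789)) (BT.leaf (nat_lit 47713045)))) (BT.node (nat_lit 7466560) (BT.node (nat_lit 7466496) (BT.leaf (nat_lit 51127841)) (BT.leaf (nat_lit 35043357))) (BT.node (nat_lit 7466624) (BT.leaf (nat_lit 23276041)) (BT.leaf (nat_lit 23691797))))))) (BT.node (nat_lit 7467712) (BT.node (nat_lit 7467200) (BT.node (nat_lit 7466944) (BT.node (nat_lit 7466816) (BT.node (nat_lit 7466752) (BT.leaf (nat_lit 48258053)) (BT.leaf (nat_lit 37717793))) (BT.node (nat_lit 7466880) (BT.leaf (nat_lit 47714073)) (BT.leaf (nat_lit 28233221)))) (BT.node (nat_lit 7467072) (BT.node (nat_lit 7467008) (BT.leaf (nat_lit 39506181)) (BT.leaf (nat_lit 46387745))) (BT.node (nat_lit 7467136) (BT.leaf (nat_lit 46387489)) (BT.leaf (nat_lit 29252369))))) (BT.node (nat_lit 7467456) (BT.node (nat_lit 7467328) (BT.node (nat_lit 7467264) (BT.leaf (nat_lit 23278097)) (BT.leaf (nat_lit 49095457))) (BT.node (nat_lit 7467392) (BT.leaf (nat_lit 39063585)) (BT.leaf (nat_lit 33378841)))) (BT.node (nat_lit 7467584) (BT.node (nat_lit 7467520) (BT.leaf (nat_lit 23279137)) (BT.leaf (nat_lit 34963489))) (BT.node (nat_lit 7467648) (BT.leaf (nat_lit 23278369)) (BT.leaf (nat_lit 29575949)))))) (BT.node (nat_lit 7468224) (BT.node (nat_lit 7467968) (BT.node (nat_lit 7467840) (BT.node (nat_lit 7467776) (BT.leaf (nat_lit 29575961)) (BT.leaf (nat_lit 29575965))) (BT.node (nat_lit 7467904) (BT.leaf (nat_lit 29575969)) (BT.leaf (nat_lit 29871881)))) (BT.node (nat_lit 7468096) (BT.node (nat_lit 7468032) (BT.leaf (nat_lit 35312917)) (BT.leaf (nat_lit 37381905))) (BT.node (nat_lit 7468160) (BT.leaf (nat_lit 23663897)) (BT.leaf (nat_lit 23663901))))) (BT.node (nat_lit 7468480) (BT.node (nat_lit 7468352) (BT.node (nat_lit 7468288) (BT.leaf (nat_lit 46410761)) (BT.leaf (nat_lit 29873437))) (BT.node (nat_lit 7468416) (BT.leaf (nat_lit 37542929)) (BT.leaf (nat_lit 36288285)))) (BT.node (nat_lit 7468608) (BT.node (nat_lit 7468544) (BT.leaf (nat_lit 30744341)) (BT.leaf (nat_lit 35312669))) (BT.node (nat_lit 7468672) (BT.leaf (nat_lit 23213597)) (BT.leaf (nat_lit 27434249)))))))) (BT.node (nat_lit 7470784) (BT.node (nat_lit 7469760) (BT.node (nat_lit 7469248) (BT.node (nat_lit 7468992) (BT.node (nat_lit 7468864) (BT.node (nat_lit 7468800) (BT.leaf (nat_lit 33851661)) (BT.leaf (nat_lit 22347797))) (BT.node (nat_lit 7468928) (BT.leaf (nat_lit 35565601)) (BT.leaf (nat_lit 28024849)))) (BT.node (nat_lit 7469120) (BT.node (nat_lit 7469056) (BT.leaf (nat_lit 36855585)) (BT.leaf (nat_lit 36479517))) (BT.node (nat_lit 7469184) (BT.leaf (nat_lit 32425233)) (BT.leaf (nat_lit 24482833))))) (BT.node (nat_lit 7469504) (BT.node (nat_lit 7469376) (BT.node (nat_lit 7469312) (BT.leaf (nat_lit 36099857)) (BT.leaf (nat_lit 22833681))) (BT.node (nat_lit 7469440) (BT.leaf (nat_lit 23281933)) (BT.leaf (nat_lit 29880841)))) (BT.node (nat_lit 7469632) (BT.node (nat_lit 7469568) (BT.leaf (nat_lit 28339233)) (BT.leaf (nat_lit 26733089))) (BT.node (nat_lit 7469696) (BT.leaf (nat_lit 36732165)) (BT.leaf (nat_lit 37871129)))))) (BT.node (nat_lit 7470272) (BT.node (nat_lit 7470016) (BT.node (nat_lit 7469888) (BT.node (nat_lit 7469824) (BT.leaf (nat_lit 47433745)) (BT.leaf (nat_lit 47433749))) (BT.node (nat_lit 7469952) (BT.leaf (nat_lit 47720213)) (BT.leaf (nat_lit 47720465)))) (BT.node (nat_lit 7470144) (BT.node (nat_lit 7470080) (BT.leaf (nat_lit 25884961)) (BT.leaf (nat_lit 24531477))) (BT.node (nat_lit 7470208) (BT.leaf (nat_lit 31577377)) (BT.leaf (nat_lit 28466709))))) (BT.node (nat_lit 7470528) (BT.node (nat_lit 7470400) (BT.node (nat_lit 7470336) (BT.leaf (nat_lit 27092513)) (BT.leaf (nat_lit 31175201))) (BT.node (nat_lit 7470464) (BT.leaf (nat_lit 29465877)) (BT.leaf (nat_lit 28505885)))) (BT.node (nat_lit 7470656) (BT.node (nat_lit 7470592) (BT.leaf (nat_lit 27273993)) (BT.leaf (nat_lit 23522321))) (BT.node (nat_lit 7470720) (BT.leaf (nat_lit 47369761)) (BT.leaf (nat_lit 33220113))))))) (BT.node (nat_lit 7471808) (BT.node (nat_lit 7471296) (BT.node (nat_lit 7471040) (BT.node (nat_lit 7470912) (BT.node (nat_lit 7470848) (BT.leaf (nat_lit 47338785)) (BT.leaf (nat_lit 25585937))) (BT.node (nat_lit 7470976) (BT.leaf (nat_lit 25585953)) (BT.leaf (nat_lit 30901257)))) (BT.node (nat_lit 7471168) (BT.node (nat_lit 7471104) (BT.leaf (nat_lit 46900761)) (BT.leaf (nat_lit 28097313))) (BT.node (nat_lit 7471232) (BT.leaf (nat_lit 26427909)) (BT.leaf (nat_lit 26427929))))) (BT.node (nat_lit 7471552) (BT.node (nat_lit 7471424) (BT.node (nat_lit 7471360) (BT.leaf (nat_lit 26427933)) (BT.leaf (nat_lit 24689425))) (BT.node (nat_lit 7471488) (BT.leaf (nat_lit 47004697)) (BT.leaf (nat_lit 27984657)))) (BT.node (nat_lit 7471680) (BT.node (nat_lit 7471616) (BT.leaf (nat_lit 28181281)) (BT.leaf (nat_lit 26427673))) (BT.node (nat_lit 7471744) (BT.leaf (nat_lit 26987289)) (BT.leaf (nat_lit 39187489)))))) (BT.node (nat_lit 7472320) (BT.node (nat_lit 7472064) (BT.node (nat_lit 7471936) (BT.node (nat_lit 7471872) (BT.leaf (nat_lit 22380829)) (BT.leaf (nat_lit 49149965))) (BT.node (nat_lit 7472000) (BT.leaf (nat_lit 29547025)) (BT.leaf (nat_lit 37068569)))) (BT.node (nat_lit 7472192) (BT.node (nat_lit 7472128) (BT.leaf (nat_lit 33252113)) (BT.leaf (nat_lit 37735189))) (BT.node (nat_lit 7472256) (BT.leaf (nat_lit 48141837)) (BT.leaf (nat_lit 25578513))))) (BT.node (nat_lit 7472576) (BT.node (nat_lit 7472448) (BT.node (nat_lit 7472384) (BT.leaf (nat_lit 41291293)) (BT.leaf (nat_lit 49854993))) (BT.node (nat_lit 7472512) (BT.leaf (nat_lit 49855009)) (BT.leaf (nat_lit 47768609)))) (BT.node (nat_lit 7472704) (BT.node (nat_lit 7472640) (BT.leaf (nat_lit 23285265)) (BT.leaf (nat_lit 23285009))) (BT.node (nat_lit 7472768) (BT.leaf (nat_lit 47725345)) (BT.leaf (nat_lit 23820317))))))))) (BT.node (nat_lit 7476928) (BT.node (nat_lit 7474880) (BT.node (nat_lit 7473856) (BT.node (nat_lit 7473344) (BT.node (nat_lit 7473088) (BT.node (nat_lit 7472960) (BT.node (nat_lit 7472896) (BT.leaf (nat_lit 23284753)) (BT.leaf (nat_lit 23284757))) (BT.node (nat_lit 7473024) (BT.leaf (nat_lit 23285525)) (BT.leaf (nat_lit 37646113)))) (BT.node (nat_lit 7473216) (BT.node (nat_lit 7473152) (BT.leaf (nat_lit 28182049)) (BT.leaf (nat_lit 28180513))) (BT.node (nat_lit 7473280) (BT.leaf (nat_lit 23495189)) (BT.leaf (nat_lit 47726101))))) (BT.node (nat_lit 7473600) (BT.node (nat_lit 7473472) (BT.node (nat_lit 7473408) (BT.leaf (nat_lit 38849557)) (BT.leaf (nat_lit 30313233))) (BT.node (nat_lit 7473536) (BT.leaf (nat_lit 40659721)) (BT.leaf (nat_lit 40659741)))) (BT.node (nat_lit 7473728) (BT.node (nat_lit 7473664) (BT.leaf (nat_lit 47726357)) (BT.leaf (nat_lit 29950729))) (BT.node (nat_lit 7473792) (BT.leaf (nat_lit 47726861)) (BT.leaf (nat_lit 28109345)))))) (BT.node (nat_lit 7474368) (BT.node (nat_lit 7474112) (BT.node (nat_lit 7473984) (BT.node (nat_lit 7473920) (BT.leaf (nat_lit 35075077)) (BT.leaf (nat_lit 29081357))) (BT.node (nat_lit 7474048) (BT.leaf (nat_lit 35075361)) (BT.leaf (nat_lit 24285461)))) (BT.node (nat_lit 7474240) (BT.node (nat_lit 7474176) (BT.leaf (nat_lit 29081889)) (BT.leaf (nat_lit 46955537))) (BT.node (nat_lit 7474304) (BT.leaf (nat_lit 24284953)) (BT.leaf (nat_lit 29100065))))) (BT.node (nat_lit 7474624) (BT.node (nat_lit 7474496) (BT.node (nat_lit 7474432) (BT.leaf (nat_lit 38801937)) (BT.leaf (nat_lit 25448453))) (BT.node (nat_lit 7474560) (BT.leaf (nat_lit 29079841)) (BT.leaf (nat_lit 34858509)))) (BT.node (nat_lit 7474752) (BT.node (nat_lit 7474688) (BT.leaf (nat_lit 47729689)) (BT.leaf (nat_lit 23294225))) (BT.node (nat_lit 7474816) (BT.leaf (nat_lit 27516441)) (BT.leaf (nat_lit 47730189))))))) (BT.node (nat_lit 7475904) (BT.node (nat_lit 7475392) (BT.node (nat_lit 7475136) (BT.node (nat_lit 7475008) (BT.node (nat_lit 7474944) (BT.leaf (nat_lit 24286493)) (BT.leaf (nat_lit 47730709))) (BT.node (nat_lit 7475072) (BT.leaf (nat_lit 24032529)) (BT.leaf (nat_lit 47732509)))) (BT.node (nat_lit 7475264) (BT.node (nat_lit 7475200) (BT.leaf (nat_lit 47733005)) (BT.leaf (nat_lit 28772625))) (BT.node (nat_lit 7475328) (BT.leaf (nat_lit 28294417)) (BT.leaf (nat_lit 24519697))))) (BT.node (nat_lit 7475648) (BT.node (nat_lit 7475520) (BT.node (nat_lit 7475456) (BT.leaf (nat_lit 47733781)) (BT.leaf (nat_lit 24154121))) (BT.node (nat_lit 7475584) (BT.leaf (nat_lit 24154125)) (BT.leaf (nat_lit 32053005)))) (BT.node (nat_lit 7475776) (BT.node (nat_lit 7475712) (BT.leaf (nat_lit 28598553)) (BT.leaf (nat_lit 28598557))) (BT.node (nat_lit 7475840) (BT.leaf (nat_lit 30557217)) (BT.leaf (nat_lit 34447905)))))) (BT.node (nat_lit 7476416) (BT.node (nat_lit 7476160) (BT.node (nat_lit 7476032) (BT.node (nat_lit 7475968) (BT.leaf (nat_lit 30557193)) (BT.leaf (nat_lit 22460689))) (BT.node (nat_lit 7476096) (BT.leaf (nat_lit 24143893)) (BT.leaf (nat_lit 24143897)))) (BT.node (nat_lit 7476288) (BT.node (nat_lit 7476224) (BT.leaf (nat_lit 24143901)) (BT.leaf (nat_lit 41840401))) (BT.node (nat_lit 7476352) (BT.leaf (nat_lit 24369669)) (BT.leaf (nat_lit 29906461))))) (BT.node (nat_lit 7476672) (BT.node (nat_lit 7476544) (BT.node (nat_lit 7476480) (BT.leaf (nat_lit 30508313)) (BT.leaf (nat_lit 30508317))) (BT.node (nat_lit 7476608) (BT.leaf (nat_lit 47735833)) (BT.leaf (nat_lit 25829905)))) (BT.node (nat_lit 7476800) (BT.node (nat_lit 7476736) (BT.leaf (nat_lit 47735569)) (BT.leaf (nat_lit 24121881))) (BT.node (nat_lit 7476864) (BT.leaf (nat_lit 47736085)) (BT.leaf (nat_lit 28620817)))))))) (BT.node (nat_lit 7478912) (BT.node (nat_lit 7477888) (BT.node (nat_lit 7477440) (BT.node (nat_lit 7477184) (BT.node (nat_lit 7477056) (BT.node (nat_lit 7476992) (BT.leaf (nat_lit 27324429)) (BT.leaf (nat_lit 29359905))) (BT.node (nat_lit 7477120) (BT.leaf (nat_lit 35157009)) (BT.leaf (nat_lit 24595977)))) (BT.node (nat_lit 7477312) (BT.node (nat_lit 7477248) (BT.leaf (nat_lit 27370769)) (BT.leaf (nat_lit 33103893))) (BT.node (nat_lit 7477376) (BT.leaf (nat_lit 41190165)) (BT.leaf (nat_lit 35139861))))) (BT.node (nat_lit 7477696) (BT.node (nat_lit 7477568) (BT.node (nat_lit 7477504) (BT.leaf (nat_lit 31450137)) (BT.leaf (nat_lit 27809037))) (BT.node (nat_lit 7477632) (BT.leaf (nat_lit 34402569)) (BT.leaf (nat_lit 23528217)))) (BT.node (nat_lit 7477824) (BT.node (nat_lit 7477760) (BT.leaf (nat_lit 23528221)) (BT.leaf (nat_lit 46374929))) (BT.node (nat_lit 7477830) (BT.leaf (nat_lit 46512405)) (BT.leaf (nat_lit 541572)))))) (BT.node (nat_lit 7478400) (BT.node (nat_lit 7478144) (BT.node (nat_lit 7478016) (BT.node (nat_lit 7477952) (BT.leaf (nat_lit 27981589)) (BT.leaf (nat_lit 34706721))) (BT.node (nat_lit 7478080) (BT.leaf (nat_lit 23757845)) (BT.leaf (nat_lit 23291921)))) (BT.node (nat_lit 7478272) (BT.node (nat_lit 7478208) (BT.leaf (nat_lit 49141525)) (BT.leaf (nat_lit 39407645))) (BT.node (nat_lit 7478336) (BT.leaf (nat_lit 40417045)) (BT.leaf (nat_lit 32545557))))) (BT.node (nat_lit 7478656) (BT.node (nat_lit 7478528) (BT.node (nat_lit 7478464) (BT.leaf (nat_lit 47987733)) (BT.leaf (nat_lit 49351453))) (BT.node (nat_lit 7478592) (BT.leaf (nat_lit 49684761)) (BT.leaf (nat_lit 38613513)))) (BT.node (nat_lit 7478784) (BT.node (nat_lit 7478720) (BT.leaf (nat_lit 44023329)) (BT.leaf (nat_lit 32174105))) (BT.node (nat_lit 7478848) (BT.leaf (nat_lit 32174109)) (BT.leaf (nat_lit 27870985))))))) (BT.node (nat_lit 7479936) (BT.node (nat_lit 7479424) (BT.node (nat_lit 7479168) (BT.node (nat_lit 7479040) (BT.node (nat_lit 7478976) (BT.leaf (nat_lit 47738401)) (BT.leaf (nat_lit 46596125))) (BT.node (nat_lit 7479104) (BT.leaf (nat_lit 46596105)) (BT.leaf (nat_lit 47738657)))) (BT.node (nat_lit 7479296) (BT.node (nat_lit 7479232) (BT.leaf (nat_lit 47738901)) (BT.leaf (nat_lit 23994397))) (BT.node (nat_lit 7479360) (BT.leaf (nat_lit 33308433)) (BT.leaf (nat_lit 23294481))))) (BT.node (nat_lit 7479680) (BT.node (nat_lit 7479552) (BT.node (nat_lit 7479488) (BT.leaf (nat_lit 31835417)) (BT.leaf (nat_lit 48158477))) (BT.node (nat_lit 7479616) (BT.leaf (nat_lit 23295761)) (BT.leaf (nat_lit 29303557)))) (BT.node (nat_lit 7479808) (BT.node (nat_lit 7479744) (BT.leaf (nat_lit 47739665)) (BT.leaf (nat_lit 45310997))) (BT.node (nat_lit 7479872) (BT.leaf (nat_lit 30122781)) (BT.leaf (nat_lit 47741201)))))) (BT.node (nat_lit 7480448) (BT.node (nat_lit 7480192) (BT.node (nat_lit 7480064) (BT.node (nat_lit 7480000) (BT.leaf (nat_lit 32419105)) (BT.leaf (nat_lit 47741469))) (BT.node (nat_lit 7480128) (BT.leaf (nat_lit 47741709)) (BT.leaf (nat_lit 31388181)))) (BT.node (nat_lit 7480320) (BT.node (nat_lit 7480256) (BT.leaf (nat_lit 46662429)) (BT.leaf (nat_lit 27940637))) (BT.node (nat_lit 7480384) (BT.leaf (nat_lit 27940617)) (BT.leaf (nat_lit 29921305))))) (BT.node (nat_lit 7480704) (BT.node (nat_lit 7480576) (BT.node (nat_lit 7480512) (BT.leaf (nat_lit 27409185)) (BT.leaf (nat_lit 34978329))) (BT.node (nat_lit 7480640) (BT.leaf (nat_lit 27343637)) (BT.leaf (nat_lit 27940873)))) (BT.node (nat_lit 7480832) (BT.node (nat_lit 7480768) (BT.leaf (nat_lit 46655253)) (BT.leaf (nat_lit 28588565))) (BT.node (nat_lit 7480896) (BT.leaf (nat_lit 46655513)) (BT.leaf (nat_lit 35088389)))))))))) (BT.node (nat_lit 7489152) (BT.node (nat_lit 7485056) (BT.node (nat_lit 7483008) (BT.node (nat_lit 7481984) (BT.node (nat_lit 7481472) (BT.node (nat_lit 7481216) (BT.node (nat_lit 7481088) (BT.node (nat_lit 7481024) (BT.leaf (nat_lit 27940893)) (BT.leaf (nat_lit 37057801))) (BT.node (nat_lit 7481152) (BT.leaf (nat_lit 38029589)) (BT.leaf (nat_lit 38029593)))) (BT.node (nat_lit 7481344) (BT.node (nat_lit 7481280) (BT.leaf (nat_lit 25391893)) (BT.leaf (nat_lit 40420629))) (BT.node (nat_lit 7481408) (BT.leaf (nat_lit 23381009)) (BT.leaf (nat_lit 34613537))))) (BT.node (nat_lit 7481728) (BT.node (nat_lit 7481600) (BT.node (nat_lit 7481536) (BT.leaf (nat_lit 42068245)) (BT.leaf (nat_lit 23300881))) (BT.node (nat_lit 7481664) (BT.leaf (nat_lit 25364497)) (BT.leaf (nat_lit 24443933)))) (BT.node (nat_lit 7481856) (BT.node (nat_lit 7481792) (BT.leaf (nat_lit 25873949)) (BT.leaf (nat_lit 30423301))) (BT.node (nat_lit 7481920) (BT.leaf (nat_lit 23385101)) (BT.leaf (nat_lit 28026901)))))) (BT.node (nat_lit 7482496) (BT.node (nat_lit 7482240) (BT.node (nat_lit 7482112) (BT.node (nat_lit 7482048) (BT.leaf (nat_lit 24783905)) (BT.leaf (nat_lit 47743253))) (BT.node (nat_lit 7482176) (BT.leaf (nat_lit 29928217)) (BT.leaf (nat_lit 40004629)))) (BT.node (nat_lit 7482368) (BT.node (nat_lit 7482304) (BT.leaf (nat_lit 23302937)) (BT.leaf (nat_lit 23303197))) (BT.node (nat_lit 7482432) (BT.leaf (nat_lit 37896977)) (BT.leaf (nat_lit 32203269))))) (BT.node (nat_lit 7482752) (BT.node (nat_lit 7482624) (BT.node (nat_lit 7482560) (BT.leaf (nat_lit 47143685)) (BT.leaf (nat_lit 28568349))) (BT.node (nat_lit 7482688) (BT.leaf (nat_lit 24576785)) (BT.leaf (nat_lit 47743761)))) (BT.node (nat_lit 7482880) (BT.node (nat_lit 7482816) (BT.leaf (nat_lit 37926689)) (BT.leaf (nat_lit 47744021))) (BT.node (nat_lit 7482944) (BT.leaf (nat_lit 47744289)) (BT.leaf (nat_lit 27414801))))))) (BT.node (nat_lit 7484032) (BT.node (nat_lit 7483520) (BT.node (nat_lit 7483264) (BT.node (nat_lit 7483136) (BT.node (nat_lit 7483072) (BT.leaf (nat_lit 47744545)) (BT.leaf (nat_lit 29750561))) (BT.node (nat_lit 7483200) (BT.leaf (nat_lit 35144733)) (BT.leaf (nat_lit 23825937)))) (BT.node (nat_lit 7483392) (BT.node (nat_lit 7483328) (BT.leaf (nat_lit 24284173)) (BT.leaf (nat_lit 47745569))) (BT.node (nat_lit 7483456) (BT.leaf (nat_lit 47384581)) (BT.leaf (nat_lit 33213201))))) (BT.node (nat_lit 7483776) (BT.node (nat_lit 7483648) (BT.node (nat_lit 7483584) (BT.leaf (nat_lit 47746081)) (BT.leaf (nat_lit 34745349))) (BT.node (nat_lit 7483712) (BT.leaf (nat_lit 23948061)) (BT.leaf (nat_lit 34744837)))) (BT.node (nat_lit 7483904) (BT.node (nat_lit 7483840) (BT.leaf (nat_lit 22311453)) (BT.leaf (nat_lit 28754449))) (BT.node (nat_lit 7483968) (BT.leaf (nat_lit 23308057)) (BT.leaf (nat_lit 27698957)))))) (BT.node (nat_lit 7484544) (BT.node (nat_lit 7484288) (BT.node (nat_lit 7484160) (BT.node (nat_lit 7484096) (BT.leaf (nat_lit 27698969)) (BT.leaf (nat_lit 36079633))) (BT.node (nat_lit 7484224) (BT.leaf (nat_lit 27698977)) (BT.leaf (nat_lit 42088737)))) (BT.node (nat_lit 7484416) (BT.node (nat_lit 7484352) (BT.leaf (nat_lit 24161809)) (BT.leaf (nat_lit 32325153))) (BT.node (nat_lit 7484480) (BT.leaf (nat_lit 29091093)) (BT.leaf (nat_lit 29091345))))) (BT.node (nat_lit 7484800) (BT.node (nat_lit 7484672) (BT.node (nat_lit 7484608) (BT.leaf (nat_lit 27322885)) (BT.leaf (nat_lit 31494409))) (BT.node (nat_lit 7484736) (BT.leaf (nat_lit 38053653)) (BT.leaf (nat_lit 23309341)))) (BT.node (nat_lit 7484928) (BT.node (nat_lit 7484864) (BT.leaf (nat_lit 23308829)) (BT.leaf (nat_lit 47748117))) (BT.node (nat_lit 7484992) (BT.leaf (nat_lit 23309337)) (BT.leaf (nat_lit 46620693)))))))) (BT.node (nat_lit 7487104) (BT.node (nat_lit 7486080) (BT.node (nat_lit 7485568) (BT.node (nat_lit 7485312) (BT.node (nat_lit 7485184) (BT.node (nat_lit 7485120) (BT.leaf (nat_lit 29939977)) (BT.leaf (nat_lit 29089553))) (BT.node (nat_lit 7485248) (BT.leaf (nat_lit 29089569)) (BT.leaf (nat_lit 47748881)))) (BT.node (nat_lit 7485440) (BT.node (nat_lit 7485376) (BT.leaf (nat_lit 29697297)) (BT.leaf (nat_lit 24378133))) (BT.node (nat_lit 7485504) (BT.leaf (nat_lit 24378137)) (BT.leaf (nat_lit 24378141))))) (BT.node (nat_lit 7485824) (BT.node (nat_lit 7485696) (BT.node (nat_lit 7485632) (BT.leaf (nat_lit 37998085)) (BT.leaf (nat_lit 50025737))) (BT.node (nat_lit 7485760) (BT.leaf (nat_lit 50025741)) (BT.leaf (nat_lit 50025745)))) (BT.node (nat_lit 7485952) (BT.node (nat_lit 7485888) (BT.leaf (nat_lit 27369241)) (BT.leaf (nat_lit 28003861))) (BT.node (nat_lit 7486016) (BT.leaf (nat_lit 32600085)) (BT.leaf (nat_lit 24658449)))))) (BT.node (nat_lit 7486592) (BT.node (nat_lit 7486336) (BT.node (nat_lit 7486208) (BT.node (nat_lit 7486144) (BT.leaf (nat_lit 24658453)) (BT.leaf (nat_lit 37180177))) (BT.node (nat_lit 7486272) (BT.leaf (nat_lit 47750677)) (BT.leaf (nat_lit 24495901)))) (BT.node (nat_lit 7486464) (BT.node (nat_lit 7486400) (BT.leaf (nat_lit 23390225)) (BT.leaf (nat_lit 47750933))) (BT.node (nat_lit 7486528) (BT.leaf (nat_lit 28269589)) (BT.leaf (nat_lit 47751709))))) (BT.node (nat_lit 7486848) (BT.node (nat_lit 7486720) (BT.node (nat_lit 7486656) (BT.leaf (nat_lit 34651153)) (BT.leaf (nat_lit 47140121))) (BT.node (nat_lit 7486784) (BT.leaf (nat_lit 34651409)) (BT.leaf (nat_lit 35150625)))) (BT.node (nat_lit 7486976) (BT.node (nat_lit 7486912) (BT.leaf (nat_lit 31287317)) (BT.leaf (nat_lit 39038993))) (BT.node (nat_lit 7487040) (BT.leaf (nat_lit 47752965)) (BT.leaf (nat_lit 27785757))))))) (BT.node (nat_lit 7488128) (BT.node (nat_lit 7487616) (BT.node (nat_lit 7487360) (BT.node (nat_lit 7487232) (BT.node (nat_lit 7487168) (BT.leaf (nat_lit 31289609)) (BT.leaf (nat_lit 23313421))) (BT.node (nat_lit 7487296) (BT.leaf (nat_lit 48566037)) (BT.leaf (nat_lit 27782173)))) (BT.node (nat_lit 7487488) (BT.node (nat_lit 7487424) (BT.leaf (nat_lit 29352453)) (BT.leaf (nat_lit 34413845))) (BT.node (nat_lit 7487552) (BT.leaf (nat_lit 33252625)) (BT.leaf (nat_lit 51526925))))) (BT.node (nat_lit 7487872) (BT.node (nat_lit 7487744) (BT.node (nat_lit 7487680) (BT.leaf (nat_lit 34136341)) (BT.leaf (nat_lit 47753749))) (BT.node (nat_lit 7487808) (BT.leaf (nat_lit 47754005)) (BT.leaf (nat_lit 32339489)))) (BT.node (nat_lit 7488000) (BT.node (nat_lit 7487936) (BT.leaf (nat_lit 23314209)) (BT.leaf (nat_lit 42875157))) (BT.node (nat_lit 7488064) (BT.leaf (nat_lit 23314181)) (BT.leaf (nat_lit 47755013)))))) (BT.node (nat_lit 7488640) (BT.node (nat_lit 7488384) (BT.node (nat_lit 7488256) (BT.node (nat_lit 7488192) (BT.leaf (nat_lit 28268049)) (BT.leaf (nat_lit 28268053))) (BT.node (nat_lit 7488320) (BT.leaf (nat_lit 49754377)) (BT.leaf (nat_lit 29367825)))) (BT.node (nat_lit 7488512) (BT.node (nat_lit 7488448) (BT.leaf (nat_lit 27435549)) (BT.leaf (nat_lit 24058389))) (BT.node (nat_lit 7488576) (BT.leaf (nat_lit 38532365)) (BT.leaf (nat_lit 27770389))))) (BT.node (nat_lit 7488896) (BT.node (nat_lit 7488768) (BT.node (nat_lit 7488704) (BT.leaf (nat_lit 38532877)) (BT.leaf (nat_lit 38533133))) (BT.node (nat_lit 7488832) (BT.leaf (nat_lit 23314961)) (BT.leaf (nat_lit 23661593)))) (BT.node (nat_lit 7489024) (BT.node (nat_lit 7488960) (BT.leaf (nat_lit 23661597)) (BT.leaf (nat_lit 34081045))) (BT.node (nat_lit 7489088) (BT.leaf (nat_lit 40225041)) (BT.leaf (nat_lit 32475141))))))))) (BT.node (nat_lit 7493248) (BT.node (nat_lit 7491200) (BT.node (nat_lit 7490176) (BT.node (nat_lit 7489664) (BT.node (nat_lit 7489408) (BT.node (nat_lit 7489280) (BT.node (nat_lit 7489216) (BT.leaf (nat_lit 30234645)) (BT.leaf (nat_lit 33151521))) (BT.node (nat_lit 7489344) (BT.leaf (nat_lit 27803677)) (BT.leaf (nat_lit 33296413)))) (BT.node (nat_lit 7489536) (BT.node (nat_lit 7489472) (BT.leaf (nat_lit 33151493)) (BT.leaf (nat_lit 24873489))) (BT.node (nat_lit 7489600) (BT.leaf (nat_lit 47758613)) (BT.leaf (nat_lit 30218773))))) (BT.node (nat_lit 7489920) (BT.node (nat_lit 7489792) (BT.node (nat_lit 7489728) (BT.leaf (nat_lit 47758869)) (BT.leaf (nat_lit 47758853))) (BT.node (nat_lit 7489856) (BT.leaf (nat_lit 40832033)) (BT.leaf (nat_lit 28742169)))) (BT.node (nat_lit 7490048) (BT.node (nat_lit 7489984) (BT.leaf (nat_lit 28742173)) (BT.leaf (nat_lit 47050017))) (BT.node (nat_lit 7490112) (BT.leaf (nat_lit 30651669)) (BT.leaf (nat_lit 27602437)))))) (BT.node (nat_lit 7490688) (BT.node (nat_lit 7490432) (BT.node (nat_lit 7490304) (BT.node (nat_lit 7490240) (BT.leaf (nat_lit 31330309)) (BT.leaf (nat_lit 28160273))) (BT.node (nat_lit 7490368) (BT.leaf (nat_lit 33975061)) (BT.leaf (nat_lit 46476037)))) (BT.node (nat_lit 7490560) (BT.node (nat_lit 7490496) (BT.leaf (nat_lit 31720453)) (BT.leaf (nat_lit 46680581))) (BT.node (nat_lit 7490624) (BT.leaf (nat_lit 23247129)) (BT.leaf (nat_lit 23317273))))) (BT.node (nat_lit 7490944) (BT.node (nat_lit 7490816) (BT.node (nat_lit 7490752) (BT.leaf (nat_lit 22705181)) (BT.leaf (nat_lit 34662405))) (BT.node (nat_lit 7490880) (BT.leaf (nat_lit 23453217)) (BT.leaf (nat_lit 26549781)))) (BT.node (nat_lit 7491072) (BT.node (nat_lit 7491008) (BT.leaf (nat_lit 29964061)) (BT.leaf (nat_lit 25049361))) (BT.node (nat_lit 7491136) (BT.leaf (nat_lit 34039325)) (BT.leaf (nat_lit 28784929))))))) (BT.node (nat_lit 7492224) (BT.node (nat_lit 7491712) (BT.node (nat_lit 7491456) (BT.node (nat_lit 7491328) (BT.node (nat_lit 7491264) (BT.leaf (nat_lit 22502161)) (BT.leaf (nat_lit 28078101))) (BT.node (nat_lit 7491392) (BT.leaf (nat_lit 23320081)) (BT.leaf (nat_lit 22502417)))) (BT.node (nat_lit 7491584) (BT.node (nat_lit 7491520) (BT.leaf (nat_lit 32469537)) (BT.leaf (nat_lit 26673689))) (BT.node (nat_lit 7491648) (BT.leaf (nat_lit 26673693)) (BT.leaf (nat_lit 29241865))))) (BT.node (nat_lit 7491968) (BT.node (nat_lit 7491840) (BT.node (nat_lit 7491776) (BT.leaf (nat_lit 29241869)) (BT.leaf (nat_lit 29241881))) (BT.node (nat_lit 7491904) (BT.leaf (nat_lit 29241885)) (BT.leaf (nat_lit 42136069)))) (BT.node (nat_lit 7492096) (BT.node (nat_lit 7492032) (BT.leaf (nat_lit 23645973)) (BT.leaf (nat_lit 47763985))) (BT.node (nat_lit 7492160) (BT.leaf (nat_lit 47765021)) (BT.leaf (nat_lit 28566037)))))) (BT.node (nat_lit 7492736) (BT.node (nat_lit 7492480) (BT.node (nat_lit 7492352) (BT.node (nat_lit 7492288) (BT.leaf (nat_lit 23320857)) (BT.leaf (nat_lit 38180385))) (BT.node (nat_lit 7492416) (BT.leaf (nat_lit 24438537)) (BT.leaf (nat_lit 41416977)))) (BT.node (nat_lit 7492608) (BT.node (nat_lit 7492544) (BT.leaf (nat_lit 25369109)) (BT.leaf (nat_lit 36161297))) (BT.node (nat_lit 7492672) (BT.leaf (nat_lit 33375253)) (BT.leaf (nat_lit 24464921))))) (BT.node (nat_lit 7492992) (BT.node (nat_lit 7492864) (BT.node (nat_lit 7492800) (BT.leaf (nat_lit 47768865)) (BT.leaf (nat_lit 29168673))) (BT.node (nat_lit 7492928) (BT.leaf (nat_lit 38781957)) (BT.leaf (nat_lit 26439429)))) (BT.node (nat_lit 7493120) (BT.node (nat_lit 7493056) (BT.leaf (nat_lit 22497809)) (BT.leaf (nat_lit 49362697))) (BT.node (nat_lit 7493184) (BT.leaf (nat_lit 29804805)) (BT.leaf (nat_lit 29805061)))))))) (BT.node (nat_lit 7495296) (BT.node (nat_lit 7494272) (BT.node (nat_lit 7493760) (BT.node (nat_lit 7493504) (BT.node (nat_lit 7493376) (BT.node (nat_lit 7493312) (BT.leaf (nat_lit 40527129)) (BT.leaf (nat_lit 23322137))) (BT.node (nat_lit 7493440) (BT.leaf (nat_lit 42141473)) (BT.leaf (nat_lit 48330017)))) (BT.node (nat_lit 7493632) (BT.node (nat_lit 7493568) (BT.leaf (nat_lit 42140193)) (BT.leaf (nat_lit 23322649))) (BT.node (nat_lit 7493696) (BT.leaf (nat_lit 23322905)) (BT.leaf (nat_lit 47773721))))) (BT.node (nat_lit 7494016) (BT.node (nat_lit 7493888) (BT.node (nat_lit 7493824) (BT.leaf (nat_lit 50155553)) (BT.leaf (nat_lit 23322653))) (BT.node (nat_lit 7493952) (BT.leaf (nat_lit 47773957)) (BT.leaf (nat_lit 47774997)))) (BT.node (nat_lit 7494144) (BT.node (nat_lit 7494080) (BT.leaf (nat_lit 23531029)) (BT.leaf (nat_lit 22314001))) (BT.node (nat_lit 7494208) (BT.leaf (nat_lit 23366421)) (BT.leaf (nat_lit 25817625)))))) (BT.node (nat_lit 7494784) (BT.node (nat_lit 7494528) (BT.node (nat_lit 7494400) (BT.node (nat_lit 7494336) (BT.leaf (nat_lit 38196741)) (BT.leaf (nat_lit 23881733))) (BT.node (nat_lit 7494464) (BT.leaf (nat_lit 34667033)) (BT.leaf (nat_lit 34667037)))) (BT.node (nat_lit 7494656) (BT.node (nat_lit 7494592) (BT.leaf (nat_lit 24466201)) (BT.leaf (nat_lit 39744017))) (BT.node (nat_lit 7494720) (BT.leaf (nat_lit 27802901)) (BT.leaf (nat_lit 23255325))))) (BT.node (nat_lit 7495040) (BT.node (nat_lit 7494912) (BT.node (nat_lit 7494848) (BT.leaf (nat_lit 23256093)) (BT.leaf (nat_lit 23255321))) (BT.node (nat_lit 7494976) (BT.leaf (nat_lit 48099593)) (BT.leaf (nat_lit 32292885)))) (BT.node (nat_lit 7495168) (BT.node (nat_lit 7495104) (BT.leaf (nat_lit 37824537)) (BT.leaf (nat_lit 38006545))) (BT.node (nat_lit 7495232) (BT.leaf (nat_lit 47775749)) (BT.leaf (nat_lit 42151705))))))) (BT.node (nat_lit 7496320) (BT.node (nat_lit 7495808) (BT.node (nat_lit 7495552) (BT.node (nat_lit 7495424) (BT.node (nat_lit 7495360) (BT.leaf (nat_lit 23323921)) (BT.leaf (nat_lit 22500881))) (BT.node (nat_lit 7495488) (BT.leaf (nat_lit 27384085)) (BT.leaf (nat_lit 32292893)))) (BT.node (nat_lit 7495680) (BT.node (nat_lit 7495616) (BT.leaf (nat_lit 24125969)) (BT.leaf (nat_lit 23324177))) (BT.node (nat_lit 7495744) (BT.leaf (nat_lit 29738009)) (BT.leaf (nat_lit 46679829))))) (BT.node (nat_lit 7496064) (BT.node (nat_lit 7495936) (BT.node (nat_lit 7495872) (BT.leaf (nat_lit 25009177)) (BT.leaf (nat_lit 24510741))) (BT.node (nat_lit 7496000) (BT.leaf (nat_lit 24510745)) (BT.leaf (nat_lit 29989637)))) (BT.node (nat_lit 7496192) (BT.node (nat_lit 7496128) (BT.leaf (nat_lit 30758413)) (BT.leaf (nat_lit 31155985))) (BT.node (nat_lit 7496256) (BT.leaf (nat_lit 40766229)) (BT.leaf (nat_lit 31064069)))))) (BT.node (nat_lit 7496832) (BT.node (nat_lit 7496576) (BT.node (nat_lit 7496448) (BT.node (nat_lit 7496384) (BT.leaf (nat_lit 27975965)) (BT.leaf (nat_lit 47779093))) (BT.node (nat_lit 7496512) (BT.leaf (nat_lit 47780113)) (BT.leaf (nat_lit 45687577)))) (BT.node (nat_lit 7496704) (BT.node (nat_lit 7496640) (BT.leaf (nat_lit 47781653)) (BT.leaf (nat_lit 28715537))) (BT.node (nat_lit 7496768) (BT.leaf (nat_lit 34790425)) (BT.leaf (nat_lit 24352273))))) (BT.node (nat_lit 7497088) (BT.node (nat_lit 7496960) (BT.node (nat_lit 7496896) (BT.leaf (nat_lit 37884933)) (BT.leaf (nat_lit 29823497))) (BT.node (nat_lit 7497024) (BT.leaf (nat_lit 24383261)) (BT.leaf (nat_lit 34116113)))) (BT.node (nat_lit 7497216) (BT.node (nat_lit 7497152) (BT.leaf (nat_lit 24716829)) (BT.leaf (nat_lit 46716421))) (BT.node (nat_lit 7497280) (BT.leaf (nat_lit 27456789)) (BT.leaf (nat_lit 46884877))))))))))) (BT.node (nat_lit 7513728) (BT.node (nat_lit 7505536) (BT.node (nat_lit 7501440) (BT.node (nat_lit 7499392) (BT.node (nat_lit 7498368) (BT.node (nat_lit 7497856) (BT.node (nat_lit 7497600) (BT.node (nat_lit 7497472) (BT.node (nat_lit 7497408) (BT.leaf (nat_lit 24549653)) (BT.leaf (nat_lit 23523345))) (BT.node (nat_lit 7497536) (BT.leaf (nat_lit 27303957)) (BT.leaf (nat_lit 28620553)))) (BT.node (nat_lit 7497728) (BT.node (nat_lit 7497664) (BT.leaf (nat_lit 28620569)) (BT.leaf (nat_lit 28620573))) (BT.node (nat_lit 7497792) (BT.leaf (nat_lit 23523333)) (BT.leaf (nat_lit 24394005))))) (BT.node (nat_lit 7498112) (BT.node (nat_lit 7497984) (BT.node (nat_lit 7497920) (BT.leaf (nat_lit 49561109)) (BT.leaf (nat_lit 24292641))) (BT.node (nat_lit 7498048) (BT.leaf (nat_lit 37762581)) (BT.leaf (nat_lit 34281737)))) (BT.node (nat_lit 7498240) (BT.node (nat_lit 7498176) (BT.leaf (nat_lit 29992733)) (BT.leaf (nat_lit 47785493))) (BT.node (nat_lit 7498304) (BT.leaf (nat_lit 40617501)) (BT.leaf (nat_lit 47786261)))))) (BT.node (nat_lit 7498880) (BT.node (nat_lit 7498624) (BT.node (nat_lit 7498496) (BT.node (nat_lit 7498432) (BT.leaf (nat_lit 23606301)) (BT.leaf (nat_lit 47786529))) (BT.node (nat_lit 7498560) (BT.leaf (nat_lit 23326225)) (BT.leaf (nat_lit 23325969)))) (BT.node (nat_lit 7498752) (BT.node (nat_lit 7498688) (BT.leaf (nat_lit 30276361)) (BT.leaf (nat_lit 23324433))) (BT.node (nat_lit 7498816) (BT.leaf (nat_lit 26447129)) (BT.leaf (nat_lit 24909593))))) (BT.node (nat_lit 7499136) (BT.node (nat_lit 7499008) (BT.node (nat_lit 7498944) (BT.leaf (nat_lit 47787281)) (BT.leaf (nat_lit 29415429))) (BT.node (nat_lit 7499072) (BT.leaf (nat_lit 32022301)) (BT.leaf (nat_lit 29281565)))) (BT.node (nat_lit 7499264) (BT.node (nat_lit 7499200) (BT.leaf (nat_lit 29353225)) (BT.leaf (nat_lit 35084561))) (BT.node (nat_lit 7499328) (BT.leaf (nat_lit 25109277)) (BT.leaf (nat_lit 28408337))))))) (BT.node (nat_lit 7500416) (BT.node (nat_lit 7499904) (BT.node (nat_lit 7499648) (BT.node (nat_lit 7499520) (BT.node (nat_lit 7499456) (BT.leaf (nat_lit 32616713)) (BT.leaf (nat_lit 24556065))) (BT.node (nat_lit 7499584) (BT.leaf (nat_lit 22941461)) (BT.leaf (nat_lit 47262737)))) (BT.node (nat_lit 7499776) (BT.node (nat_lit 7499712) (BT.leaf (nat_lit 47262753)) (BT.leaf (nat_lit 31650081))) (BT.node (nat_lit 7499840) (BT.leaf (nat_lit 39764741)) (BT.leaf (nat_lit 39706125))))) (BT.node (nat_lit 7500160) (BT.node (nat_lit 7500032) (BT.node (nat_lit 7499968) (BT.leaf (nat_lit 24217621)) (BT.leaf (nat_lit 50731025))) (BT.node (nat_lit 7500096) (BT.leaf (nat_lit 47791897)) (BT.leaf (nat_lit 47791377)))) (BT.node (nat_lit 7500288) (BT.node (nat_lit 7500224) (BT.leaf (nat_lit 24153361)) (BT.leaf (nat_lit 37889313))) (BT.node (nat_lit 7500352) (BT.leaf (nat_lit 51583509)) (BT.leaf (nat_lit 34249489)))))) (BT.node (nat_lit 7500928) (BT.node (nat_lit 7500672) (BT.node (nat_lit 7500544) (BT.node (nat_lit 7500480) (BT.leaf (nat_lit 22672405)) (BT.leaf (nat_lit 48442133))) (BT.node (nat_lit 7500608) (BT.leaf (nat_lit 47793421)) (BT.leaf (nat_lit 29389857)))) (BT.node (nat_lit 7500800) (BT.node (nat_lit 7500736) (BT.leaf (nat_lit 29985797)) (BT.leaf (nat_lit 47793685))) (BT.node (nat_lit 7500864) (BT.leaf (nat_lit 37888289)) (BT.leaf (nat_lit 41991961))))) (BT.node (nat_lit 7501184) (BT.node (nat_lit 7501056) (BT.node (nat_lit 7500992) (BT.leaf (nat_lit 47794721)) (BT.leaf (nat_lit 24203805))) (BT.node (nat_lit 7501120) (BT.leaf (nat_lit 31729185)) (BT.leaf (nat_lit 27321881)))) (BT.node (nat_lit 7501312) (BT.node (nat_lit 7501248) (BT.leaf (nat_lit 30095385)) (BT.leaf (nat_lit 24555809))) (BT.node (nat_lit 7501376) (BT.leaf (nat_lit 28422421)) (BT.leaf (nat_lit 40954397)))))))) (BT.node (nat_lit 7503488) (BT.node (nat_lit 7502464) (BT.node (nat_lit 7501952) (BT.node (nat_lit 7501696) (BT.node (nat_lit 7501568) (BT.node (nat_lit 7501504) (BT.leaf (nat_lit 38382869)) (BT.leaf (nat_lit 29316625))) (BT.node (nat_lit 7501632) (BT.leaf (nat_lit 29316629)) (BT.leaf (nat_lit 22833161)))) (BT.node (nat_lit 7501824) (BT.node (nat_lit 7501760) (BT.leaf (nat_lit 24810773)) (BT.leaf (nat_lit 22522649))) (BT.node (nat_lit 7501888) (BT.leaf (nat_lit 23351057)) (BT.leaf (nat_lit 29588245))))) (BT.node (nat_lit 7502208) (BT.node (nat_lit 7502080) (BT.node (nat_lit 7502016) (BT.leaf (nat_lit 30067985)) (BT.leaf (nat_lit 28831257))) (BT.node (nat_lit 7502144) (BT.leaf (nat_lit 28831261)) (BT.leaf (nat_lit 22522897)))) (BT.node (nat_lit 7502336) (BT.node (nat_lit 7502272) (BT.leaf (nat_lit 47798289)) (BT.leaf (nat_lit 33547013))) (BT.node (nat_lit 7502400) (BT.leaf (nat_lit 37517581)) (BT.leaf (nat_lit 23329561)))))) (BT.node (nat_lit 7502976) (BT.node (nat_lit 7502720) (BT.node (nat_lit 7502592) (BT.node (nat_lit 7502528) (BT.leaf (nat_lit 25782041)) (BT.leaf (nat_lit 34748961))) (BT.node (nat_lit 7502656) (BT.leaf (nat_lit 36094749)) (BT.leaf (nat_lit 50290193)))) (BT.node (nat_lit 7502848) (BT.node (nat_lit 7502784) (BT.leaf (nat_lit 48481029)) (BT.leaf (nat_lit 47768849))) (BT.node (nat_lit 7502912) (BT.leaf (nat_lit 32354593)) (BT.leaf (nat_lit 46826777))))) (BT.node (nat_lit 7503232) (BT.node (nat_lit 7503104) (BT.node (nat_lit 7503040) (BT.leaf (nat_lit 29525513)) (BT.leaf (nat_lit 35738893))) (BT.node (nat_lit 7503168) (BT.leaf (nat_lit 46826761)) (BT.leaf (nat_lit 47800341)))) (BT.node (nat_lit 7503360) (BT.node (nat_lit 7503296) (BT.leaf (nat_lit 29189137)) (BT.leaf (nat_lit 32354821))) (BT.node (nat_lit 7503424) (BT.leaf (nat_lit 27466785)) (BT.leaf (nat_lit 28133401))))))) (BT.node (nat_lit 7504512) (BT.node (nat_lit 7504000) (BT.node (nat_lit 7503744) (BT.node (nat_lit 7503616) (BT.node (nat_lit 7503552) (BT.leaf (nat_lit 23992589)) (BT.leaf (nat_lit 47801121))) (BT.node (nat_lit 7503680) (BT.leaf (nat_lit 47800865)) (BT.leaf (nat_lit 42206741)))) (BT.node (nat_lit 7503872) (BT.node (nat_lit 7503808) (BT.leaf (nat_lit 23909649)) (BT.leaf (nat_lit 23331601))) (BT.node (nat_lit 7503936) (BT.leaf (nat_lit 23760389)) (BT.leaf (nat_lit 40428565))))) (BT.node (nat_lit 7504256) (BT.node (nat_lit 7504128) (BT.node (nat_lit 7504064) (BT.leaf (nat_lit 29909525)) (BT.leaf (nat_lit 29909529))) (BT.node (nat_lit 7504192) (BT.leaf (nat_lit 29909533)) (BT.leaf (nat_lit 39385121)))) (BT.node (nat_lit 7504384) (BT.node (nat_lit 7504320) (BT.leaf (nat_lit 26352149)) (BT.leaf (nat_lit 31568161))) (BT.node (nat_lit 7504448) (BT.leaf (nat_lit 27904533)) (BT.leaf (nat_lit 47802909)))))) (BT.node (nat_lit 7505024) (BT.node (nat_lit 7504768) (BT.node (nat_lit 7504640) (BT.node (nat_lit 7504576) (BT.leaf (nat_lit 47803665)) (BT.leaf (nat_lit 47802645))) (BT.node (nat_lit 7504704) (BT.leaf (nat_lit 29095957)) (BT.leaf (nat_lit 38095129)))) (BT.node (nat_lit 7504896) (BT.node (nat_lit 7504832) (BT.leaf (nat_lit 47805205)) (BT.leaf (nat_lit 47065873))) (BT.node (nat_lit 7504960) (BT.leaf (nat_lit 36450065)) (BT.leaf (nat_lit 36450081))))) (BT.node (nat_lit 7505280) (BT.node (nat_lit 7505152) (BT.node (nat_lit 7505088) (BT.leaf (nat_lit 27990293)) (BT.leaf (nat_lit 24166929))) (BT.node (nat_lit 7505216) (BT.leaf (nat_lit 30020377)) (BT.leaf (nat_lit 29813009)))) (BT.node (nat_lit 7505408) (BT.node (nat_lit 7505344) (BT.leaf (nat_lit 31567877)) (BT.leaf (nat_lit 46573841))) (BT.node (nat_lit 7505472) (BT.leaf (nat_lit 47805969)) (BT.leaf (nat_lit 34109729))))))))) (BT.node (nat_lit 7509632) (BT.node (nat_lit 7507584) (BT.node (nat_lit 7506560) (BT.node (nat_lit 7506048) (BT.node (nat_lit 7505792) (BT.node (nat_lit 7505664) (BT.node (nat_lit 7505600) (BT.leaf (nat_lit 34109985)) (BT.leaf (nat_lit 47806485))) (BT.node (nat_lit 7505728) (BT.leaf (nat_lit 47806985)) (BT.leaf (nat_lit 32554009)))) (BT.node (nat_lit 7505920) (BT.node (nat_lit 7505856) (BT.leaf (nat_lit 32007181)) (BT.leaf (nat_lit 34665733))) (BT.node (nat_lit 7505984) (BT.leaf (nat_lit 27796249)) (BT.leaf (nat_lit 27796253))))) (BT.node (nat_lit 7506304) (BT.node (nat_lit 7506176) (BT.node (nat_lit 7506112) (BT.leaf (nat_lit 30979105)) (BT.leaf (nat_lit 47808021))) (BT.node (nat_lit 7506240) (BT.leaf (nat_lit 47808789)) (BT.leaf (nat_lit 30043425)))) (BT.node (nat_lit 7506432) (BT.node (nat_lit 7506368) (BT.leaf (nat_lit 38154761)) (BT.leaf (nat_lit 47809057))) (BT.node (nat_lit 7506496) (BT.leaf (nat_lit 30026013)) (BT.leaf (nat_lit 47809301)))))) (BT.node (nat_lit 7507072) (BT.node (nat_lit 7506816) (BT.node (nat_lit 7506688) (BT.node (nat_lit 7506624) (BT.leaf (nat_lit 35039777)) (BT.leaf (nat_lit 31470625))) (BT.node (nat_lit 7506752) (BT.leaf (nat_lit 28428321)) (BT.leaf (nat_lit 46409505)))) (BT.node (nat_lit 7506944) (BT.node (nat_lit 7506880) (BT.leaf (nat_lit 50960665)) (BT.leaf (nat_lit 50960669))) (BT.node (nat_lit 7507008) (BT.leaf (nat_lit 47122721)) (BT.leaf (nat_lit 47810309))))) (BT.node (nat_lit 7507328) (BT.node (nat_lit 7507200) (BT.node (nat_lit 7507136) (BT.leaf (nat_lit 27311645)) (BT.leaf (nat_lit 23335185))) (BT.node (nat_lit 7507264) (BT.leaf (nat_lit 27826457)) (BT.leaf (nat_lit 23914257)))) (BT.node (nat_lit 7507456) (BT.node (nat_lit 7507392) (BT.leaf (nat_lit 50322693)) (BT.leaf (nat_lit 38547725))) (BT.node (nat_lit 7507520) (BT.leaf (nat_lit 25865497)) (BT.leaf (nat_lit 50924037))))))) (BT.node (nat_lit 7508608) (BT.node (nat_lit 7508096) (BT.node (nat_lit 7507840) (BT.node (nat_lit 7507712) (BT.node (nat_lit 7507648) (BT.leaf (nat_lit 48944673)) (BT.leaf (nat_lit 50053665))) (BT.node (nat_lit 7507776) (BT.leaf (nat_lit 37626129)) (BT.leaf (nat_lit 23336969)))) (BT.node (nat_lit 7507968) (BT.node (nat_lit 7507904) (BT.leaf (nat_lit 26581261)) (BT.leaf (nat_lit 31849225))) (BT.node (nat_lit 7508032) (BT.leaf (nat_lit 35042581)) (BT.leaf (nat_lit 23336977))))) (BT.node (nat_lit 7508352) (BT.node (nat_lit 7508224) (BT.node (nat_lit 7508160) (BT.leaf (nat_lit 26581273)) (BT.leaf (nat_lit 31641609))) (BT.node (nat_lit 7508288) (BT.leaf (nat_lit 47812889)) (BT.leaf (nat_lit 24234265)))) (BT.node (nat_lit 7508480) (BT.node (nat_lit 7508416) (BT.leaf (nat_lit 24234269)) (BT.leaf (nat_lit 47812373))) (BT.node (nat_lit 7508544) (BT.leaf (nat_lit 26581529)) (BT.leaf (nat_lit 27093281)))))) (BT.node (nat_lit 7509120) (BT.node (nat_lit 7508864) (BT.node (nat_lit 7508736) (BT.node (nat_lit 7508672) (BT.leaf (nat_lit 28616453)) (BT.leaf (nat_lit 29319433))) (BT.node (nat_lit 7508800) (BT.leaf (nat_lit 29319437)) (BT.leaf (nat_lit 28413729)))) (BT.node (nat_lit 7508992) (BT.node (nat_lit 7508928) (BT.leaf (nat_lit 29319449)) (BT.leaf (nat_lit 28082709))) (BT.node (nat_lit 7509056) (BT.leaf (nat_lit 33918729)) (BT.leaf (nat_lit 42230561))))) (BT.node (nat_lit 7509376) (BT.node (nat_lit 7509248) (BT.node (nat_lit 7509184) (BT.leaf (nat_lit 47813645)) (BT.leaf (nat_lit 22758161))) (BT.node (nat_lit 7509312) (BT.leaf (nat_lit 22687765)) (BT.leaf (nat_lit 46799121)))) (BT.node (nat_lit 7509504) (BT.node (nat_lit 7509440) (BT.leaf (nat_lit 36527365)) (BT.leaf (nat_lit 34166805))) (BT.node (nat_lit 7509568) (BT.leaf (nat_lit 27492117)) (BT.leaf (nat_lit 26335505)))))))) (BT.node (nat_lit 7511680) (BT.node (nat_lit 7510656) (BT.node (nat_lit 7510144) (BT.node (nat_lit 7509888) (BT.node (nat_lit 7509760) (BT.node (nat_lit 7509696) (BT.leaf (nat_lit 39548961)) (BT.leaf (nat_lit 47816989))) (BT.node (nat_lit 7509824) (BT.leaf (nat_lit 28607249)) (BT.leaf (nat_lit 47816725)))) (BT.node (nat_lit 7510016) (BT.node (nat_lit 7509952) (BT.leaf (nat_lit 33882133)) (BT.leaf (nat_lit 47818517))) (BT.node (nat_lit 7510080) (BT.leaf (nat_lit 29763589)) (BT.leaf (nat_lit 23338769))))) (BT.node (nat_lit 7510400) (BT.node (nat_lit 7510272) (BT.node (nat_lit 7510208) (BT.leaf (nat_lit 29902113)) (BT.leaf (nat_lit 51557921))) (BT.node (nat_lit 7510336) (BT.leaf (nat_lit 47819529)) (BT.leaf (nat_lit 47820053)))) (BT.node (nat_lit 7510528) (BT.node (nat_lit 7510464) (BT.leaf (nat_lit 24623389)) (BT.leaf (nat_lit 47820293))) (BT.node (nat_lit 7510592) (BT.leaf (nat_lit 30243613)) (BT.leaf (nat_lit 28286745)))))) (BT.node (nat_lit 7511168) (BT.node (nat_lit 7510912) (BT.node (nat_lit 7510784) (BT.node (nat_lit 7510720) (BT.leaf (nat_lit 28286749)) (BT.leaf (nat_lit 47820829))) (BT.node (nat_lit 7510848) (BT.leaf (nat_lit 46429969)) (BT.leaf (nat_lit 47821845)))) (BT.node (nat_lit 7511040) (BT.node (nat_lit 7510976) (BT.leaf (nat_lit 47822101)) (BT.leaf (nat_lit 30683413))) (BT.node (nat_lit 7511104) (BT.leaf (nat_lit 47822621)) (BT.leaf (nat_lit 28204821))))) (BT.node (nat_lit 7511424) (BT.node (nat_lit 7511296) (BT.node (nat_lit 7511232) (BT.leaf (nat_lit 34069009)) (BT.leaf (nat_lit 28705057))) (BT.node (nat_lit 7511360) (BT.leaf (nat_lit 34666529)) (BT.leaf (nat_lit 35058721)))) (BT.node (nat_lit 7511552) (BT.node (nat_lit 7511488) (BT.leaf (nat_lit 35058465)) (BT.leaf (nat_lit 31586577))) (BT.node (nat_lit 7511616) (BT.leaf (nat_lit 24188933)) (BT.leaf (nat_lit 47823393))))))) (BT.node (nat_lit 7512704) (BT.node (nat_lit 7512192) (BT.node (nat_lit 7511936) (BT.node (nat_lit 7511808) (BT.node (nat_lit 7511744) (BT.leaf (nat_lit 27829017)) (BT.leaf (nat_lit 27829021))) (BT.node (nat_lit 7511872) (BT.leaf (nat_lit 38039325)) (BT.leaf (nat_lit 47824149)))) (BT.node (nat_lit 7512064) (BT.node (nat_lit 7512000) (BT.leaf (nat_lit 23342097)) (BT.leaf (nat_lit 23342353))) (BT.node (nat_lit 7512128) (BT.leaf (nat_lit 27826461)) (BT.leaf (nat_lit 37157921))))) (BT.node (nat_lit 7512448) (BT.node (nat_lit 7512320) (BT.node (nat_lit 7512256) (BT.leaf (nat_lit 30218509)) (BT.leaf (nat_lit 41674781))) (BT.node (nat_lit 7512384) (BT.leaf (nat_lit 33211421)) (BT.leaf (nat_lit 46976029)))) (BT.node (nat_lit 7512576) (BT.node (nat_lit 7512512) (BT.leaf (nat_lit 39566361)) (BT.leaf (nat_lit 27887889))) (BT.node (nat_lit 7512640) (BT.leaf (nat_lit 37452309)) (BT.leaf (nat_lit 30567197)))))) (BT.node (nat_lit 7513216) (BT.node (nat_lit 7512960) (BT.node (nat_lit 7512832) (BT.node (nat_lit 7512768) (BT.leaf (nat_lit 23572509)) (BT.leaf (nat_lit 30294029))) (BT.node (nat_lit 7512896) (BT.leaf (nat_lit 30363397)) (BT.leaf (nat_lit 23989017)))) (BT.node (nat_lit 7513088) (BT.node (nat_lit 7513024) (BT.leaf (nat_lit 23345169)) (BT.leaf (nat_lit 23345173))) (BT.node (nat_lit 7513152) (BT.leaf (nat_lit 39543301)) (BT.leaf (nat_lit 47825425))))) (BT.node (nat_lit 7513472) (BT.node (nat_lit 7513344) (BT.node (nat_lit 7513280) (BT.leaf (nat_lit 33134613)) (BT.leaf (nat_lit 23345937))) (BT.node (nat_lit 7513408) (BT.leaf (nat_lit 23345681)) (BT.leaf (nat_lit 32552205)))) (BT.node (nat_lit 7513600) (BT.node (nat_lit 7513536) (BT.leaf (nat_lit 26433301)) (BT.leaf (nat_lit 23346193))) (BT.node (nat_lit 7513664) (BT.leaf (nat_lit 49072917)) (BT.leaf (nat_lit 32889873)))))))))) (BT.node (nat_lit 7521920) (BT.node (nat_lit 7517824) (BT.node (nat_lit 7515776) (BT.node (nat_lit 7514752) (BT.node (nat_lit 7514240) (BT.node (nat_lit 7513984) (BT.node (nat_lit 7513856) (BT.node (nat_lit 7513792) (BT.leaf (nat_lit 29174045)) (BT.leaf (nat_lit 29715477))) (BT.node (nat_lit 7513920) (BT.leaf (nat_lit 29526045)) (BT.leaf (nat_lit 24008985)))) (BT.node (nat_lit 7514112) (BT.node (nat_lit 7514048) (BT.leaf (nat_lit 24008989)) (BT.leaf (nat_lit 24160785))) (BT.node (nat_lit 7514176) (BT.leaf (nat_lit 29477401)) (BT.leaf (nat_lit 28856849))))) (BT.node (nat_lit 7514496) (BT.node (nat_lit 7514368) (BT.node (nat_lit 7514304) (BT.leaf (nat_lit 47826705)) (BT.leaf (nat_lit 51704085))) (BT.node (nat_lit 7514432) (BT.leaf (nat_lit 47826973)) (BT.leaf (nat_lit 40566037)))) (BT.node (nat_lit 7514624) (BT.node (nat_lit 7514560) (BT.leaf (nat_lit 47827465)) (BT.leaf (nat_lit 27322901))) (BT.node (nat_lit 7514688) (BT.leaf (nat_lit 47827997)) (BT.leaf (nat_lit 47828513)))))) (BT.node (nat_lit 7515264) (BT.node (nat_lit 7515008) (BT.node (nat_lit 7514880) (BT.node (nat_lit 7514816) (BT.leaf (nat_lit 27570705)) (BT.leaf (nat_lit 25086481))) (BT.node (nat_lit 7514944) (BT.leaf (nat_lit 50530829)) (BT.leaf (nat_lit 23347985)))) (BT.node (nat_lit 7515136) (BT.node (nat_lit 7515072) (BT.leaf (nat_lit 30549001)) (BT.leaf (nat_lit 47829013))) (BT.node (nat_lit 7515200) (BT.leaf (nat_lit 34682645)) (BT.leaf (nat_lit 47829529))))) (BT.node (nat_lit 7515520) (BT.node (nat_lit 7515392) (BT.node (nat_lit 7515328) (BT.leaf (nat_lit 24817937)) (BT.leaf (nat_lit 31506721))) (BT.node (nat_lit 7515456) (BT.leaf (nat_lit 28363013)) (BT.leaf (nat_lit 28363025)))) (BT.node (nat_lit 7515648) (BT.node (nat_lit 7515584) (BT.leaf (nat_lit 28363029)) (BT.leaf (nat_lit 33552913))) (BT.node (nat_lit 7515712) (BT.leaf (nat_lit 36390425)) (BT.leaf (nat_lit 23815685))))))) (BT.node (nat_lit 7516800) (BT.node (nat_lit 7516288) (BT.node (nat_lit 7516032) (BT.node (nat_lit 7515904) (BT.node (nat_lit 7515840) (BT.leaf (nat_lit 23754005)) (BT.leaf (nat_lit 30924813))) (BT.node (nat_lit 7515968) (BT.leaf (nat_lit 33454869)) (BT.leaf (nat_lit 29269265)))) (BT.node (nat_lit 7516160) (BT.node (nat_lit 7516096) (BT.leaf (nat_lit 28054289)) (BT.leaf (nat_lit 25984541))) (BT.node (nat_lit 7516224) (BT.leaf (nat_lit 29655045)) (BT.leaf (nat_lit 27312153))))) (BT.node (nat_lit 7516544) (BT.node (nat_lit 7516416) (BT.node (nat_lit 7516352) (BT.leaf (nat_lit 27312157)) (BT.leaf (nat_lit 34112285))) (BT.node (nat_lit 7516480) (BT.leaf (nat_lit 23913237)) (BT.leaf (nat_lit 46762781)))) (BT.node (nat_lit 7516672) (BT.node (nat_lit 7516608) (BT.leaf (nat_lit 24809237)) (BT.leaf (nat_lit 23352593))) (BT.node (nat_lit 7516736) (BT.leaf (nat_lit 40289565)) (BT.leaf (nat_lit 47831317)))))) (BT.node (nat_lit 7517312) (BT.node (nat_lit 7517056) (BT.node (nat_lit 7516928) (BT.node (nat_lit 7516864) (BT.leaf (nat_lit 27698953)) (BT.leaf (nat_lit 31730193))) (BT.node (nat_lit 7516992) (BT.leaf (nat_lit 35432737)) (BT.leaf (nat_lit 28523029)))) (BT.node (nat_lit 7517184) (BT.node (nat_lit 7517120) (BT.leaf (nat_lit 35433249)) (BT.leaf (nat_lit 30554133))) (BT.node (nat_lit 7517248) (BT.leaf (nat_lit 35956509)) (BT.leaf (nat_lit 29385733))))) (BT.node (nat_lit 7517568) (BT.node (nat_lit 7517440) (BT.node (nat_lit 7517376) (BT.leaf (nat_lit 23353873)) (BT.leaf (nat_lit 23353617))) (BT.node (nat_lit 7517504) (BT.leaf (nat_lit 25825309)) (BT.leaf (nat_lit 35264785)))) (BT.node (nat_lit 7517696) (BT.node (nat_lit 7517632) (BT.leaf (nat_lit 28214041)) (BT.leaf (nat_lit 23369749))) (BT.node (nat_lit 7517760) (BT.leaf (nat_lit 31745553)) (BT.leaf (nat_lit 33962261)))))))) (BT.node (nat_lit 7519872) (BT.node (nat_lit 7518848) (BT.node (nat_lit 7518336) (BT.node (nat_lit 7518080) (BT.node (nat_lit 7517952) (BT.node (nat_lit 7517888) (BT.leaf (nat_lit 27770645)) (BT.leaf (nat_lit 36389137))) (BT.node (nat_lit 7518016) (BT.leaf (nat_lit 35851281)) (BT.leaf (nat_lit 35883037)))) (BT.node (nat_lit 7518208) (BT.node (nat_lit 7518144) (BT.leaf (nat_lit 39591953)) (BT.leaf (nat_lit 39591957))) (BT.node (nat_lit 7518272) (BT.leaf (nat_lit 23789845)) (BT.leaf (nat_lit 31026957))))) (BT.node (nat_lit 7518592) (BT.node (nat_lit 7518464) (BT.node (nat_lit 7518400) (BT.leaf (nat_lit 34411285)) (BT.leaf (nat_lit 34401301))) (BT.node (nat_lit 7518528) (BT.leaf (nat_lit 35884573)) (BT.leaf (nat_lit 33262353)))) (BT.node (nat_lit 7518720) (BT.node (nat_lit 7518656) (BT.leaf (nat_lit 33262609)) (BT.leaf (nat_lit 25586961))) (BT.node (nat_lit 7518784) (BT.leaf (nat_lit 31726865)) (BT.leaf (nat_lit 30246665)))))) (BT.node (nat_lit 7519360) (BT.node (nat_lit 7519104) (BT.node (nat_lit 7518976) (BT.node (nat_lit 7518912) (BT.leaf (nat_lit 47054113)) (BT.leaf (nat_lit 47054341))) (BT.node (nat_lit 7519040) (BT.leaf (nat_lit 34417933)) (BT.leaf (nat_lit 35354389)))) (BT.node (nat_lit 7519232) (BT.node (nat_lit 7519168) (BT.leaf (nat_lit 34439953)) (BT.leaf (nat_lit 22521873))) (BT.node (nat_lit 7519296) (BT.leaf (nat_lit 22521877)) (BT.leaf (nat_lit 27643657))))) (BT.node (nat_lit 7519616) (BT.node (nat_lit 7519488) (BT.node (nat_lit 7519424) (BT.leaf (nat_lit 24582153)) (BT.leaf (nat_lit 28112409))) (BT.node (nat_lit 7519552) (BT.leaf (nat_lit 28142861)) (BT.leaf (nat_lit 28142873)))) (BT.node (nat_lit 7519744) (BT.node (nat_lit 7519680) (BT.leaf (nat_lit 28112397)) (BT.leaf (nat_lit 34615301))) (BT.node (nat_lit 7519808) (BT.leaf (nat_lit 34615573)) (BT.leaf (nat_lit 28370961))))))) (BT.node (nat_lit 7520896) (BT.node (nat_lit 7520384) (BT.node (nat_lit 7520128) (BT.node (nat_lit 7520000) (BT.node (nat_lit 7519936) (BT.leaf (nat_lit 34126365)) (BT.leaf (nat_lit 40655109))) (BT.node (nat_lit 7520064) (BT.leaf (nat_lit 37175821)) (BT.leaf (nat_lit 29125393)))) (BT.node (nat_lit 7520256) (BT.node (nat_lit 7520192) (BT.leaf (nat_lit 26772497)) (BT.leaf (nat_lit 27407385))) (BT.node (nat_lit 7520320) (BT.leaf (nat_lit 27407389)) (BT.leaf (nat_lit 28351521))))) (BT.node (nat_lit 7520640) (BT.node (nat_lit 7520512) (BT.node (nat_lit 7520448) (BT.leaf (nat_lit 30445581)) (BT.leaf (nat_lit 24555797))) (BT.node (nat_lit 7520576) (BT.leaf (nat_lit 24555801)) (BT.leaf (nat_lit 24555805)))) (BT.node (nat_lit 7520768) (BT.node (nat_lit 7520704) (BT.leaf (nat_lit 47840521)) (BT.leaf (nat_lit 47841301))) (BT.node (nat_lit 7520832) (BT.leaf (nat_lit 26334985)) (BT.leaf (nat_lit 36446981)))))) (BT.node (nat_lit 7521408) (BT.node (nat_lit 7521152) (BT.node (nat_lit 7521024) (BT.node (nat_lit 7520960) (BT.leaf (nat_lit 23360789)) (BT.leaf (nat_lit 30406685))) (BT.node (nat_lit 7521088) (BT.leaf (nat_lit 23361041)) (BT.leaf (nat_lit 23361553)))) (BT.node (nat_lit 7521280) (BT.node (nat_lit 7521216) (BT.leaf (nat_lit 28365849)) (BT.leaf (nat_lit 52002081))) (BT.node (nat_lit 7521344) (BT.leaf (nat_lit 32387845)) (BT.leaf (nat_lit 31188501))))) (BT.node (nat_lit 7521664) (BT.node (nat_lit 7521536) (BT.node (nat_lit 7521472) (BT.leaf (nat_lit 30426893)) (BT.leaf (nat_lit 30945549))) (BT.node (nat_lit 7521600) (BT.leaf (nat_lit 23353105)) (BT.leaf (nat_lit 41633301)))) (BT.node (nat_lit 7521792) (BT.node (nat_lit 7521728) (BT.leaf (nat_lit 41636625)) (BT.leaf (nat_lit 24618261))) (BT.node (nat_lit 7521856) (BT.leaf (nat_lit 24618013)) (BT.leaf (nat_lit 28395273))))))))) (BT.node (nat_lit 7526016) (BT.node (nat_lit 7523968) (BT.node (nat_lit 7522944) (BT.node (nat_lit 7522432) (BT.node (nat_lit 7522176) (BT.node (nat_lit 7522048) (BT.node (nat_lit 7521984) (BT.leaf (nat_lit 32496929)) (BT.leaf (nat_lit 32261145))) (BT.node (nat_lit 7522112) (BT.leaf (nat_lit 32395277)) (BT.leaf (nat_lit 25889801)))) (BT.node (nat_lit 7522304) (BT.node (nat_lit 7522240) (BT.leaf (nat_lit 47525385)) (BT.leaf (nat_lit 27658785))) (BT.node (nat_lit 7522368) (BT.leaf (nat_lit 23837209)) (BT.leaf (nat_lit 47845397))))) (BT.node (nat_lit 7522688) (BT.node (nat_lit 7522560) (BT.node (nat_lit 7522496) (BT.leaf (nat_lit 27627289)) (BT.leaf (nat_lit 27627293))) (BT.node (nat_lit 7522624) (BT.leaf (nat_lit 47845913)) (BT.leaf (nat_lit 22302749)))) (BT.node (nat_lit 7522816) (BT.node (nat_lit 7522752) (BT.leaf (nat_lit 24043801)) (BT.leaf (nat_lit 38580757))) (BT.node (nat_lit 7522880) (BT.leaf (nat_lit 24836381)) (BT.leaf (nat_lit 23367441)))))) (BT.node (nat_lit 7523456) (BT.node (nat_lit 7523200) (BT.node (nat_lit 7523072) (BT.node (nat_lit 7523008) (BT.leaf (nat_lit 23367185)) (BT.leaf (nat_lit 24512773))) (BT.node (nat_lit 7523136) (BT.leaf (nat_lit 25647389)) (BT.leaf (nat_lit 28499473)))) (BT.node (nat_lit 7523328) (BT.node (nat_lit 7523264) (BT.leaf (nat_lit 23960069)) (BT.leaf (nat_lit 47847173))) (BT.node (nat_lit 7523392) (BT.leaf (nat_lit 23960089)) (BT.leaf (nat_lit 23960093))))) (BT.node (nat_lit 7523712) (BT.node (nat_lit 7523584) (BT.node (nat_lit 7523520) (BT.leaf (nat_lit 49186589)) (BT.leaf (nat_lit 47849489))) (BT.node (nat_lit 7523648) (BT.leaf (nat_lit 23791629)) (BT.leaf (nat_lit 35066401)))) (BT.node (nat_lit 7523840) (BT.node (nat_lit 7523776) (BT.leaf (nat_lit 23414801)) (BT.leaf (nat_lit 30095389))) (BT.node (nat_lit 7523904) (BT.leaf (nat_lit 30003221)) (BT.leaf (nat_lit 47850773))))))) (BT.node (nat_lit 7524992) (BT.node (nat_lit 7524480) (BT.node (nat_lit 7524224) (BT.node (nat_lit 7524096) (BT.node (nat_lit 7524032) (BT.leaf (nat_lit 32929029)) (BT.leaf (nat_lit 42307349))) (BT.node (nat_lit 7524160) (BT.leaf (nat_lit 49668877)) (BT.leaf (nat_lit 38978057)))) (BT.node (nat_lit 7524352) (BT.node (nat_lit 7524288) (BT.leaf (nat_lit 28022025)) (BT.leaf (nat_lit 30633229))) (BT.node (nat_lit 7524416) (BT.leaf (nat_lit 48547097)) (BT.leaf (nat_lit 34254101))))) (BT.node (nat_lit 7524736) (BT.node (nat_lit 7524608) (BT.node (nat_lit 7524544) (BT.leaf (nat_lit 47852053)) (BT.leaf (nat_lit 25893905))) (BT.node (nat_lit 7524672) (BT.leaf (nat_lit 51907357)) (BT.leaf (nat_lit 27622661)))) (BT.node (nat_lit 7524864) (BT.node (nat_lit 7524800) (BT.leaf (nat_lit 31162885)) (BT.leaf (nat_lit 32182021))) (BT.node (nat_lit 7524928) (BT.leaf (nat_lit 39136285)) (BT.leaf (nat_lit 31596061)))))) (BT.node (nat_lit 7525504) (BT.node (nat_lit 7525248) (BT.node (nat_lit 7525120) (BT.node (nat_lit 7525056) (BT.leaf (nat_lit 47852821)) (BT.leaf (nat_lit 27746069))) (BT.node (nat_lit 7525184) (BT.leaf (nat_lit 37646601)) (BT.leaf (nat_lit 28817681)))) (BT.node (nat_lit 7525376) (BT.node (nat_lit 7525312) (BT.leaf (nat_lit 40773385)) (BT.leaf (nat_lit 52421649))) (BT.node (nat_lit 7525440) (BT.leaf (nat_lit 47854609)) (BT.leaf (nat_lit 31737105))))) (BT.node (nat_lit 7525760) (BT.node (nat_lit 7525632) (BT.node (nat_lit 7525568) (BT.leaf (nat_lit 24750881)) (BT.leaf (nat_lit 23975945))) (BT.node (nat_lit 7525696) (BT.leaf (nat_lit 47852825)) (BT.leaf (nat_lit 47855389)))) (BT.node (nat_lit 7525888) (BT.node (nat_lit 7525824) (BT.leaf (nat_lit 31527709)) (BT.leaf (nat_lit 39185937))) (BT.node (nat_lit 7525952) (BT.leaf (nat_lit 36147225)) (BT.leaf (nat_lit 24036101)))))))) (BT.node (nat_lit 7528064) (BT.node (nat_lit 7527040) (BT.node (nat_lit 7526528) (BT.node (nat_lit 7526272) (BT.node (nat_lit 7526144) (BT.node (nat_lit 7526080) (BT.leaf (nat_lit 47658257)) (BT.leaf (nat_lit 25707029))) (BT.node (nat_lit 7526208) (BT.leaf (nat_lit 36309265)) (BT.leaf (nat_lit 31746065)))) (BT.node (nat_lit 7526400) (BT.node (nat_lit 7526336) (BT.leaf (nat_lit 23369757)) (BT.leaf (nat_lit 30376465))) (BT.node (nat_lit 7526464) (BT.leaf (nat_lit 23369753)) (BT.leaf (nat_lit 33834261))))) (BT.node (nat_lit 7526784) (BT.node (nat_lit 7526656) (BT.node (nat_lit 7526592) (BT.leaf (nat_lit 27620897)) (BT.leaf (nat_lit 34962949))) (BT.node (nat_lit 7526720) (BT.leaf (nat_lit 27598869)) (BT.leaf (nat_lit 37472269)))) (BT.node (nat_lit 7526912) (BT.node (nat_lit 7526848) (BT.leaf (nat_lit 42228997)) (BT.leaf (nat_lit 34756889))) (BT.node (nat_lit 7526976) (BT.leaf (nat_lit 25264409)) (BT.leaf (nat_lit 26558229)))))) (BT.node (nat_lit 7527552) (BT.node (nat_lit 7527296) (BT.node (nat_lit 7527168) (BT.node (nat_lit 7527104) (BT.leaf (nat_lit 33370389)) (BT.leaf (nat_lit 23927829))) (BT.node (nat_lit 7527232) (BT.leaf (nat_lit 31545861)) (BT.leaf (nat_lit 28178449)))) (BT.node (nat_lit 7527424) (BT.node (nat_lit 7527360) (BT.leaf (nat_lit 33313297)) (BT.leaf (nat_lit 28019737))) (BT.node (nat_lit 7527488) (BT.leaf (nat_lit 23371793)) (BT.leaf (nat_lit 23371797))))) (BT.node (nat_lit 7527808) (BT.node (nat_lit 7527680) (BT.node (nat_lit 7527616) (BT.leaf (nat_lit 34756873)) (BT.leaf (nat_lit 42320389))) (BT.node (nat_lit 7527744) (BT.leaf (nat_lit 36952841)) (BT.leaf (nat_lit 37124369)))) (BT.node (nat_lit 7527936) (BT.node (nat_lit 7527872) (BT.leaf (nat_lit 30111001)) (BT.leaf (nat_lit 28019229))) (BT.node (nat_lit 7528000) (BT.leaf (nat_lit 22539037)) (BT.leaf (nat_lit 27079441))))))) (BT.node (nat_lit 7529088) (BT.node (nat_lit 7528576) (BT.node (nat_lit 7528320) (BT.node (nat_lit 7528192) (BT.node (nat_lit 7528128) (BT.leaf (nat_lit 23887641)) (BT.leaf (nat_lit 25657353))) (BT.node (nat_lit 7528256) (BT.leaf (nat_lit 31389717)) (BT.leaf (nat_lit 37403681)))) (BT.node (nat_lit 7528448) (BT.node (nat_lit 7528384) (BT.leaf (nat_lit 34473225)) (BT.leaf (nat_lit 37471497))) (BT.node (nat_lit 7528512) (BT.leaf (nat_lit 37841669)) (BT.leaf (nat_lit 23373585))))) (BT.node (nat_lit 7528832) (BT.node (nat_lit 7528704) (BT.node (nat_lit 7528640) (BT.leaf (nat_lit 28553485)) (BT.leaf (nat_lit 46948621))) (BT.node (nat_lit 7528768) (BT.leaf (nat_lit 23374097)) (BT.leaf (nat_lit 31965217)))) (BT.node (nat_lit 7528960) (BT.node (nat_lit 7528896) (BT.leaf (nat_lit 39171857)) (BT.leaf (nat_lit 39171873))) (BT.node (nat_lit 7529024) (BT.leaf (nat_lit 30117909)) (BT.leaf (nat_lit 34029589)))))) (BT.node (nat_lit 7529600) (BT.node (nat_lit 7529344) (BT.node (nat_lit 7529216) (BT.node (nat_lit 7529152) (BT.leaf (nat_lit 47861013)) (BT.leaf (nat_lit 37402913))) (BT.node (nat_lit 7529280) (BT.leaf (nat_lit 31390225)) (BT.leaf (nat_lit 36667169)))) (BT.node (nat_lit 7529472) (BT.node (nat_lit 7529408) (BT.leaf (nat_lit 30032417)) (BT.leaf (nat_lit 33995297))) (BT.node (nat_lit 7529536) (BT.leaf (nat_lit 27204129)) (BT.leaf (nat_lit 27849761))))) (BT.node (nat_lit 7529856) (BT.node (nat_lit 7529728) (BT.node (nat_lit 7529664) (BT.leaf (nat_lit 26252065)) (BT.leaf (nat_lit 33995041))) (BT.node (nat_lit 7529792) (BT.leaf (nat_lit 26252057)) (BT.leaf (nat_lit 25656337)))) (BT.node (nat_lit 7529984) (BT.node (nat_lit 7529920) (BT.leaf (nat_lit 47862049)) (BT.leaf (nat_lit 23981849))) (BT.node (nat_lit 7530048) (BT.leaf (nat_lit 47862277)) (BT.leaf (nat_lit 24179733)))))))))))) (BT.node (nat_lit 7562880) (BT.node (nat_lit 7546496) (BT.node (nat_lit 7538304) (BT.node (nat_lit 7534208) (BT.node (nat_lit 7532160) (BT.node (nat_lit 7531136) (BT.node (nat_lit 7530624) (BT.node (nat_lit 7530368) (BT.node (nat_lit 7530240) (BT.node (nat_lit 7530176) (BT.leaf (nat_lit 47860749)) (BT.leaf (nat_lit 23373077))) (BT.node (nat_lit 7530304) (BT.leaf (nat_lit 30118677)) (BT.leaf (nat_lit 24622601)))) (BT.node (nat_lit 7530496) (BT.node (nat_lit 7530432) (BT.leaf (nat_lit 24337937)) (BT.leaf (nat_lit 23673621))) (BT.node (nat_lit 7530560) (BT.leaf (nat_lit 47697413)) (BT.leaf (nat_lit 28023057))))) (BT.node (nat_lit 7530880) (BT.node (nat_lit 7530752) (BT.node (nat_lit 7530688) (BT.leaf (nat_lit 30125593)) (BT.leaf (nat_lit 30124565))) (BT.node (nat_lit 7530816) (BT.leaf (nat_lit 30122777)) (BT.leaf (nat_lit 47863321)))) (BT.node (nat_lit 7531008) (BT.node (nat_lit 7530944) (BT.leaf (nat_lit 26783509)) (BT.leaf (nat_lit 30122761))) (BT.node (nat_lit 7531072) (BT.leaf (nat_lit 39392273)) (BT.leaf (nat_lit 32875037)))))) (BT.node (nat_lit 7531648) (BT.node (nat_lit 7531392) (BT.node (nat_lit 7531264) (BT.node (nat_lit 7531200) (BT.leaf (nat_lit 42051089)) (BT.leaf (nat_lit 37900041))) (BT.node (nat_lit 7531328) (BT.leaf (nat_lit 30125341)) (BT.leaf (nat_lit 40638981)))) (BT.node (nat_lit 7531520) (BT.node (nat_lit 7531456) (BT.leaf (nat_lit 38825237)) (BT.leaf (nat_lit 27673609))) (BT.node (nat_lit 7531584) (BT.leaf (nat_lit 27673613)) (BT.leaf (nat_lit 32424989))))) (BT.node (nat_lit 7531904) (BT.node (nat_lit 7531776) (BT.node (nat_lit 7531712) (BT.leaf (nat_lit 37901333)) (BT.leaf (nat_lit 28480269))) (BT.node (nat_lit 7531840) (BT.leaf (nat_lit 28480017)) (BT.leaf (nat_lit 28480021)))) (BT.node (nat_lit 7532032) (BT.node (nat_lit 7531968) (BT.leaf (nat_lit 46233625)) (BT.leaf (nat_lit 24885269))) (BT.node (nat_lit 7532096) (BT.leaf (nat_lit 47864581)) (BT.leaf (nat_lit 47864857))))))) (BT.node (nat_lit 7533184) (BT.node (nat_lit 7532672) (BT.node (nat_lit 7532416) (BT.node (nat_lit 7532288) (BT.node (nat_lit 7532224) (BT.leaf (nat_lit 37210381)) (BT.leaf (nat_lit 37210389))) (BT.node (nat_lit 7532352) (BT.leaf (nat_lit 48279045)) (BT.leaf (nat_lit 34901265)))) (BT.node (nat_lit 7532544) (BT.node (nat_lit 7532480) (BT.leaf (nat_lit 30558981)) (BT.leaf (nat_lit 29431569))) (BT.node (nat_lit 7532608) (BT.leaf (nat_lit 35004193)) (BT.leaf (nat_lit 50265365))))) (BT.node (nat_lit 7532928) (BT.node (nat_lit 7532800) (BT.node (nat_lit 7532736) (BT.leaf (nat_lit 33268249)) (BT.leaf (nat_lit 22539797))) (BT.node (nat_lit 7532864) (BT.leaf (nat_lit 30133257)) (BT.leaf (nat_lit 28025609)))) (BT.node (nat_lit 7533056) (BT.node (nat_lit 7532992) (BT.leaf (nat_lit 27446037)) (BT.leaf (nat_lit 48712209))) (BT.node (nat_lit 7533120) (BT.leaf (nat_lit 47866649)) (BT.leaf (nat_lit 24309509)))))) (BT.node (nat_lit 7533696) (BT.node (nat_lit 7533440) (BT.node (nat_lit 7533312) (BT.node (nat_lit 7533248) (BT.leaf (nat_lit 50535709)) (BT.leaf (nat_lit 50063877))) (BT.node (nat_lit 7533376) (BT.leaf (nat_lit 23383573)) (BT.leaf (nat_lit 33268233)))) (BT.node (nat_lit 7533568) (BT.node (nat_lit 7533504) (BT.leaf (nat_lit 22732569)) (BT.leaf (nat_lit 27388681))) (BT.node (nat_lit 7533632) (BT.leaf (nat_lit 23571477)) (BT.leaf (nat_lit 31184913))))) (BT.node (nat_lit 7533952) (BT.node (nat_lit 7533824) (BT.node (nat_lit 7533760) (BT.leaf (nat_lit 48343837)) (BT.leaf (nat_lit 23382541))) (BT.node (nat_lit 7533888) (BT.leaf (nat_lit 23382545)) (BT.leaf (nat_lit 47868421)))) (BT.node (nat_lit 7534080) (BT.node (nat_lit 7534016) (BT.leaf (nat_lit 35197189)) (BT.leaf (nat_lit 27563021))) (BT.node (nat_lit 7534144) (BT.leaf (nat_lit 29058325)) (BT.leaf (nat_lit 27563013)))))))) (BT.node (nat_lit 7536256) (BT.node (nat_lit 7535232) (BT.node (nat_lit 7534720) (BT.node (nat_lit 7534464) (BT.node (nat_lit 7534336) (BT.node (nat_lit 7534272) (BT.leaf (nat_lit 27563033)) (BT.leaf (nat_lit 27563037))) (BT.node (nat_lit 7534400) (BT.leaf (nat_lit 37947929)) (BT.leaf (nat_lit 30272273)))) (BT.node (nat_lit 7534592) (BT.node (nat_lit 7534528) (BT.leaf (nat_lit 34003473)) (BT.leaf (nat_lit 23449621))) (BT.node (nat_lit 7534656) (BT.leaf (nat_lit 23449625)) (BT.leaf (nat_lit 23449629))))) (BT.node (nat_lit 7534976) (BT.node (nat_lit 7534848) (BT.node (nat_lit 7534784) (BT.leaf (nat_lit 35004181)) (BT.leaf (nat_lit 46700301))) (BT.node (nat_lit 7534912) (BT.leaf (nat_lit 28205061)) (BT.leaf (nat_lit 23384337)))) (BT.node (nat_lit 7535104) (BT.node (nat_lit 7535040) (BT.leaf (nat_lit 28205077)) (BT.leaf (nat_lit 47419909))) (BT.node (nat_lit 7535168) (BT.leaf (nat_lit 28205329)) (BT.leaf (nat_lit 41521673)))))) (BT.node (nat_lit 7535744) (BT.node (nat_lit 7535488) (BT.node (nat_lit 7535360) (BT.node (nat_lit 7535296) (BT.leaf (nat_lit 49241357)) (BT.leaf (nat_lit 38021389))) (BT.node (nat_lit 7535424) (BT.leaf (nat_lit 46423829)) (BT.leaf (nat_lit 23384849)))) (BT.node (nat_lit 7535616) (BT.node (nat_lit 7535552) (BT.leaf (nat_lit 27649809)) (BT.leaf (nat_lit 23695125))) (BT.node (nat_lit 7535680) (BT.leaf (nat_lit 35792661)) (BT.leaf (nat_lit 24077085))))) (BT.node (nat_lit 7536000) (BT.node (nat_lit 7535872) (BT.node (nat_lit 7535808) (BT.leaf (nat_lit 47873549)) (BT.leaf (nat_lit 33373729))) (BT.node (nat_lit 7535936) (BT.leaf (nat_lit 32124421)) (BT.leaf (nat_lit 24410129)))) (BT.node (nat_lit 7536128) (BT.node (nat_lit 7536064) (BT.leaf (nat_lit 25949957)) (BT.leaf (nat_lit 22320669))) (BT.node (nat_lit 7536192) (BT.leaf (nat_lit 37777685)) (BT.leaf (nat_lit 33150745))))))) (BT.node (nat_lit 7537280) (BT.node (nat_lit 7536768) (BT.node (nat_lit 7536512) (BT.node (nat_lit 7536384) (BT.node (nat_lit 7536320) (BT.leaf (nat_lit 33150749)) (BT.leaf (nat_lit 23618569))) (BT.node (nat_lit 7536448) (BT.leaf (nat_lit 23618573)) (BT.leaf (nat_lit 35913745)))) (BT.node (nat_lit 7536640) (BT.node (nat_lit 7536576) (BT.leaf (nat_lit 30979873)) (BT.leaf (nat_lit 32071457))) (BT.node (nat_lit 7536704) (BT.leaf (nat_lit 47022097)) (BT.leaf (nat_lit 23120401))))) (BT.node (nat_lit 7537024) (BT.node (nat_lit 7536896) (BT.node (nat_lit 7536832) (BT.leaf (nat_lit 24762885)) (BT.leaf (nat_lit 40848401))) (BT.node (nat_lit 7536960) (BT.leaf (nat_lit 24069905)) (BT.leaf (nat_lit 33259805)))) (BT.node (nat_lit 7537152) (BT.node (nat_lit 7537088) (BT.leaf (nat_lit 23641113)) (BT.leaf (nat_lit 25396757))) (BT.node (nat_lit 7537216) (BT.leaf (nat_lit 40608533)) (BT.leaf (nat_lit 47430673)))))) (BT.node (nat_lit 7537792) (BT.node (nat_lit 7537536) (BT.node (nat_lit 7537408) (BT.node (nat_lit 7537344) (BT.leaf (nat_lit 34861345)) (BT.leaf (nat_lit 36412693))) (BT.node (nat_lit 7537472) (BT.leaf (nat_lit 24459541)) (BT.leaf (nat_lit 31985161)))) (BT.node (nat_lit 7537664) (BT.node (nat_lit 7537600) (BT.leaf (nat_lit 31985165)) (BT.leaf (nat_lit 27522849))) (BT.node (nat_lit 7537728) (BT.leaf (nat_lit 47879697)) (BT.leaf (nat_lit 30150681))))) (BT.node (nat_lit 7538048) (BT.node (nat_lit 7537920) (BT.node (nat_lit 7537856) (BT.leaf (nat_lit 27524897)) (BT.leaf (nat_lit 24118289))) (BT.node (nat_lit 7537984) (BT.leaf (nat_lit 29416469)) (BT.leaf (nat_lit 48473617)))) (BT.node (nat_lit 7538176) (BT.node (nat_lit 7538112) (BT.leaf (nat_lit 24133637)) (BT.leaf (nat_lit 31625489))) (BT.node (nat_lit 7538240) (BT.leaf (nat_lit 35929633)) (BT.leaf (nat_lit 47363089))))))))) (BT.node (nat_lit 7542400) (BT.node (nat_lit 7540352) (BT.node (nat_lit 7539328) (BT.node (nat_lit 7538816) (BT.node (nat_lit 7538560) (BT.node (nat_lit 7538432) (BT.node (nat_lit 7538368) (BT.leaf (nat_lit 27508761)) (BT.leaf (nat_lit 27508765))) (BT.node (nat_lit 7538496) (BT.leaf (nat_lit 23640601)) (BT.leaf (nat_lit 30200081)))) (BT.node (nat_lit 7538688) (BT.node (nat_lit 7538624) (BT.leaf (nat_lit 24136725)) (BT.leaf (nat_lit 24136977))) (BT.node (nat_lit 7538752) (BT.leaf (nat_lit 23394593)) (BT.leaf (nat_lit 36916513))))) (BT.node (nat_lit 7539072) (BT.node (nat_lit 7538944) (BT.node (nat_lit 7538880) (BT.leaf (nat_lit 28231953)) (BT.leaf (nat_lit 35140637))) (BT.node (nat_lit 7539008) (BT.leaf (nat_lit 31323141)) (BT.leaf (nat_lit 30409237)))) (BT.node (nat_lit 7539200) (BT.node (nat_lit 7539136) (BT.leaf (nat_lit 30409245)) (BT.leaf (nat_lit 28029205))) (BT.node (nat_lit 7539264) (BT.leaf (nat_lit 27835917)) (BT.leaf (nat_lit 35821585)))))) (BT.node (nat_lit 7539840) (BT.node (nat_lit 7539584) (BT.node (nat_lit 7539456) (BT.node (nat_lit 7539392) (BT.leaf (nat_lit 27378701)) (BT.leaf (nat_lit 29367329))) (BT.node (nat_lit 7539520) (BT.leaf (nat_lit 24300809)) (BT.leaf (nat_lit 40110625)))) (BT.node (nat_lit 7539712) (BT.node (nat_lit 7539648) (BT.leaf (nat_lit 29636105)) (BT.leaf (nat_lit 41593357))) (BT.node (nat_lit 7539776) (BT.leaf (nat_lit 38082057)) (BT.leaf (nat_lit 42359061))))) (BT.node (nat_lit 7540096) (BT.node (nat_lit 7539968) (BT.node (nat_lit 7539904) (BT.leaf (nat_lit 40179477)) (BT.leaf (nat_lit 47885341))) (BT.node (nat_lit 7540032) (BT.leaf (nat_lit 28819729)) (BT.leaf (nat_lit 47885077)))) (BT.node (nat_lit 7540224) (BT.node (nat_lit 7540160) (BT.leaf (nat_lit 29637141)) (BT.leaf (nat_lit 23764245))) (BT.node (nat_lit 7540288) (BT.leaf (nat_lit 43496977)) (BT.leaf (nat_lit 32111637))))))) (BT.node (nat_lit 7541376) (BT.node (nat_lit 7540864) (BT.node (nat_lit 7540608) (BT.node (nat_lit 7540480) (BT.node (nat_lit 7540416) (BT.leaf (nat_lit 50650141)) (BT.leaf (nat_lit 33529873))) (BT.node (nat_lit 7540544) (BT.leaf (nat_lit 30161689)) (BT.leaf (nat_lit 23409181)))) (BT.node (nat_lit 7540736) (BT.node (nat_lit 7540672) (BT.leaf (nat_lit 29269781)) (BT.leaf (nat_lit 51316749))) (BT.node (nat_lit 7540800) (BT.leaf (nat_lit 49897501)) (BT.leaf (nat_lit 23678989))))) (BT.node (nat_lit 7541120) (BT.node (nat_lit 7540992) (BT.node (nat_lit 7540928) (BT.leaf (nat_lit 28073761)) (BT.leaf (nat_lit 23764509))) (BT.node (nat_lit 7541056) (BT.leaf (nat_lit 23658265)) (BT.leaf (nat_lit 30721801)))) (BT.node (nat_lit 7541248) (BT.node (nat_lit 7541184) (BT.leaf (nat_lit 38069253)) (BT.leaf (nat_lit 30790149))) (BT.node (nat_lit 7541312) (BT.leaf (nat_lit 34053401)) (BT.leaf (nat_lit 33139985)))))) (BT.node (nat_lit 7541888) (BT.node (nat_lit 7541632) (BT.node (nat_lit 7541504) (BT.node (nat_lit 7541440) (BT.leaf (nat_lit 30165273)) (BT.leaf (nat_lit 25068309))) (BT.node (nat_lit 7541568) (BT.leaf (nat_lit 35207437)) (BT.leaf (nat_lit 31848477)))) (BT.node (nat_lit 7541760) (BT.node (nat_lit 7541696) (BT.leaf (nat_lit 35412497)) (BT.leaf (nat_lit 30166553))) (BT.node (nat_lit 7541824) (BT.leaf (nat_lit 46712081)) (BT.leaf (nat_lit 35460381))))) (BT.node (nat_lit 7542144) (BT.node (nat_lit 7542016) (BT.node (nat_lit 7541952) (BT.leaf (nat_lit 23812897)) (BT.leaf (nat_lit 33108497))) (BT.node (nat_lit 7542080) (BT.leaf (nat_lit 42152977)) (BT.leaf (nat_lit 36263185)))) (BT.node (nat_lit 7542272) (BT.node (nat_lit 7542208) (BT.leaf (nat_lit 30167837)) (BT.leaf (nat_lit 39798049))) (BT.node (nat_lit 7542336) (BT.leaf (nat_lit 23492117)) (BT.leaf (nat_lit 31577609)))))))) (BT.node (nat_lit 7544448) (BT.node (nat_lit 7543424) (BT.node (nat_lit 7542912) (BT.node (nat_lit 7542656) (BT.node (nat_lit 7542528) (BT.node (nat_lit 7542464) (BT.leaf (nat_lit 23397905)) (BT.leaf (nat_lit 47888401))) (BT.node (nat_lit 7542592) (BT.leaf (nat_lit 27886865)) (BT.leaf (nat_lit 26427157)))) (BT.node (nat_lit 7542784) (BT.node (nat_lit 7542720) (BT.leaf (nat_lit 27007253)) (BT.leaf (nat_lit 23399185))) (BT.node (nat_lit 7542848) (BT.leaf (nat_lit 23398673)) (BT.leaf (nat_lit 25398033))))) (BT.node (nat_lit 7543168) (BT.node (nat_lit 7543040) (BT.node (nat_lit 7542976) (BT.leaf (nat_lit 40961037)) (BT.leaf (nat_lit 23399453))) (BT.node (nat_lit 7543104) (BT.leaf (nat_lit 23491605)) (BT.leaf (nat_lit 25435417)))) (BT.node (nat_lit 7543296) (BT.node (nat_lit 7543232) (BT.leaf (nat_lit 26675985)) (BT.leaf (nat_lit 31847453))) (BT.node (nat_lit 7543360) (BT.leaf (nat_lit 24753169)) (BT.leaf (nat_lit 35190301)))))) (BT.node (nat_lit 7543936) (BT.node (nat_lit 7543680) (BT.node (nat_lit 7543552) (BT.node (nat_lit 7543488) (BT.leaf (nat_lit 23401233)) (BT.leaf (nat_lit 23400977))) (BT.node (nat_lit 7543616) (BT.leaf (nat_lit 36523541)) (BT.leaf (nat_lit 36132881)))) (BT.node (nat_lit 7543808) (BT.node (nat_lit 7543744) (BT.leaf (nat_lit 28082449)) (BT.leaf (nat_lit 28082453))) (BT.node (nat_lit 7543872) (BT.leaf (nat_lit 47891737)) (BT.leaf (nat_lit 39046421))))) (BT.node (nat_lit 7544192) (BT.node (nat_lit 7544064) (BT.node (nat_lit 7544000) (BT.leaf (nat_lit 40808981)) (BT.leaf (nat_lit 33465361))) (BT.node (nat_lit 7544128) (BT.leaf (nat_lit 40808989)) (BT.leaf (nat_lit 28086289)))) (BT.node (nat_lit 7544320) (BT.node (nat_lit 7544256) (BT.leaf (nat_lit 23528973)) (BT.leaf (nat_lit 29510157))) (BT.node (nat_lit 7544384) (BT.leaf (nat_lit 23642133)) (BT.leaf (nat_lit 39712289))))))) (BT.node (nat_lit 7545472) (BT.node (nat_lit 7544960) (BT.node (nat_lit 7544704) (BT.node (nat_lit 7544576) (BT.node (nat_lit 7544512) (BT.leaf (nat_lit 40092677)) (BT.leaf (nat_lit 39600673))) (BT.node (nat_lit 7544640) (BT.leaf (nat_lit 40475925)) (BT.leaf (nat_lit 36754449)))) (BT.node (nat_lit 7544832) (BT.node (nat_lit 7544768) (BT.leaf (nat_lit 28421137)) (BT.leaf (nat_lit 34277657))) (BT.node (nat_lit 7544896) (BT.leaf (nat_lit 34195989)) (BT.leaf (nat_lit 24198669))))) (BT.node (nat_lit 7545216) (BT.node (nat_lit 7545088) (BT.node (nat_lit 7545024) (BT.leaf (nat_lit 34197525)) (BT.leaf (nat_lit 24197389))) (BT.node (nat_lit 7545152) (BT.leaf (nat_lit 24008721)) (BT.leaf (nat_lit 24008725)))) (BT.node (nat_lit 7545344) (BT.node (nat_lit 7545280) (BT.leaf (nat_lit 23404817)) (BT.leaf (nat_lit 23404561))) (BT.node (nat_lit 7545408) (BT.leaf (nat_lit 27441169)) (BT.leaf (nat_lit 28038425)))))) (BT.node (nat_lit 7545984) (BT.node (nat_lit 7545728) (BT.node (nat_lit 7545600) (BT.node (nat_lit 7545536) (BT.leaf (nat_lit 24095753)) (BT.leaf (nat_lit 30130465))) (BT.node (nat_lit 7545664) (BT.leaf (nat_lit 33086485)) (BT.leaf (nat_lit 47896593)))) (BT.node (nat_lit 7545856) (BT.node (nat_lit 7545792) (BT.leaf (nat_lit 28740633)) (BT.leaf (nat_lit 28740637))) (BT.node (nat_lit 7545920) (BT.leaf (nat_lit 48317985)) (BT.leaf (nat_lit 28455957))))) (BT.node (nat_lit 7546240) (BT.node (nat_lit 7546112) (BT.node (nat_lit 7546048) (BT.leaf (nat_lit 30184201)) (BT.leaf (nat_lit 34049557))) (BT.node (nat_lit 7546176) (BT.leaf (nat_lit 34299413)) (BT.leaf (nat_lit 47897361)))) (BT.node (nat_lit 7546368) (BT.node (nat_lit 7546304) (BT.leaf (nat_lit 23764253)) (BT.leaf (nat_lit 47898129))) (BT.node (nat_lit 7546432) (BT.leaf (nat_lit 27378697)) (BT.leaf (nat_lit 23678745)))))))))) (BT.node (nat_lit 7554688) (BT.node (nat_lit 7550592) (BT.node (nat_lit 7548544) (BT.node (nat_lit 7547520) (BT.node (nat_lit 7547008) (BT.node (nat_lit 7546752) (BT.node (nat_lit 7546624) (BT.node (nat_lit 7546560) (BT.leaf (nat_lit 34049309)) (BT.leaf (nat_lit 47282977))) (BT.node (nat_lit 7546688) (BT.leaf (nat_lit 47282693)) (BT.leaf (nat_lit 34601505)))) (BT.node (nat_lit 7546880) (BT.node (nat_lit 7546816) (BT.leaf (nat_lit 29750033)) (BT.leaf (nat_lit 29750049))) (BT.node (nat_lit 7546944) (BT.leaf (nat_lit 24815121)) (BT.leaf (nat_lit 30682641))))) (BT.node (nat_lit 7547264) (BT.node (nat_lit 7547136) (BT.node (nat_lit 7547072) (BT.leaf (nat_lit 28275989)) (BT.leaf (nat_lit 30160141))) (BT.node (nat_lit 7547200) (BT.leaf (nat_lit 30942241)) (BT.leaf (nat_lit 43259145)))) (BT.node (nat_lit 7547392) (BT.node (nat_lit 7547328) (BT.leaf (nat_lit 39283989)) (BT.leaf (nat_lit 38743837))) (BT.node (nat_lit 7547456) (BT.leaf (nat_lit 38081809)) (BT.leaf (nat_lit 48353057)))))) (BT.node (nat_lit 7548032) (BT.node (nat_lit 7547776) (BT.node (nat_lit 7547648) (BT.node (nat_lit 7547584) (BT.leaf (nat_lit 48642593)) (BT.leaf (nat_lit 51679257))) (BT.node (nat_lit 7547712) (BT.leaf (nat_lit 38082061)) (BT.leaf (nat_lit 47898901)))) (BT.node (nat_lit 7547904) (BT.node (nat_lit 7547840) (BT.leaf (nat_lit 38082073)) (BT.leaf (nat_lit 38082077))) (BT.node (nat_lit 7547968) (BT.leaf (nat_lit 25794845)) (BT.leaf (nat_lit 47900189))))) (BT.node (nat_lit 7548288) (BT.node (nat_lit 7548160) (BT.node (nat_lit 7548096) (BT.leaf (nat_lit 25445389)) (BT.leaf (nat_lit 33299465))) (BT.node (nat_lit 7548224) (BT.leaf (nat_lit 29223433)) (BT.leaf (nat_lit 23829265)))) (BT.node (nat_lit 7548416) (BT.node (nat_lit 7548352) (BT.leaf (nat_lit 24338965)) (BT.leaf (nat_lit 51603981))) (BT.node (nat_lit 7548480) (BT.leaf (nat_lit 32413721)) (BT.leaf (nat_lit 23409937))))))) (BT.node (nat_lit 7549568) (BT.node (nat_lit 7549056) (BT.node (nat_lit 7548800) (BT.node (nat_lit 7548672) (BT.node (nat_lit 7548608) (BT.leaf (nat_lit 23409681)) (BT.leaf (nat_lit 24379909))) (BT.node (nat_lit 7548736) (BT.leaf (nat_lit 23409425)) (BT.leaf (nat_lit 23410193)))) (BT.node (nat_lit 7548928) (BT.node (nat_lit 7548864) (BT.leaf (nat_lit 40531221)) (BT.leaf (nat_lit 26640665))) (BT.node (nat_lit 7548992) (BT.leaf (nat_lit 29701897)) (BT.leaf (nat_lit 29781025))))) (BT.node (nat_lit 7549312) (BT.node (nat_lit 7549184) (BT.node (nat_lit 7549120) (BT.leaf (nat_lit 37893141)) (BT.leaf (nat_lit 25856281))) (BT.node (nat_lit 7549248) (BT.leaf (nat_lit 29152021)) (BT.leaf (nat_lit 27311389)))) (BT.node (nat_lit 7549440) (BT.node (nat_lit 7549376) (BT.leaf (nat_lit 46912265)) (BT.leaf (nat_lit 30779677))) (BT.node (nat_lit 7549504) (BT.leaf (nat_lit 38645025)) (BT.leaf (nat_lit 30779657)))))) (BT.node (nat_lit 7550080) (BT.node (nat_lit 7549824) (BT.node (nat_lit 7549696) (BT.node (nat_lit 7549632) (BT.leaf (nat_lit 46912285)) (BT.leaf (nat_lit 34139669))) (BT.node (nat_lit 7549760) (BT.leaf (nat_lit 23411217)) (BT.leaf (nat_lit 28915733)))) (BT.node (nat_lit 7549952) (BT.node (nat_lit 7549888) (BT.leaf (nat_lit 41976605)) (BT.leaf (nat_lit 28916765))) (BT.node (nat_lit 7550016) (BT.leaf (nat_lit 24331541)) (BT.leaf (nat_lit 47904797))))) (BT.node (nat_lit 7550336) (BT.node (nat_lit 7550208) (BT.node (nat_lit 7550144) (BT.leaf (nat_lit 38210577)) (BT.leaf (nat_lit 23497745))) (BT.node (nat_lit 7550272) (BT.leaf (nat_lit 23497489)) (BT.leaf (nat_lit 39083285)))) (BT.node (nat_lit 7550464) (BT.node (nat_lit 7550400) (BT.leaf (nat_lit 27428385)) (BT.leaf (nat_lit 23906837))) (BT.node (nat_lit 7550528) (BT.leaf (nat_lit 32334613)) (BT.leaf (nat_lit 33998097)))))))) (BT.node (nat_lit 7552640) (BT.node (nat_lit 7551616) (BT.node (nat_lit 7551104) (BT.node (nat_lit 7550848) (BT.node (nat_lit 7550720) (BT.node (nat_lit 7550656) (BT.leaf (nat_lit 23416585)) (BT.leaf (nat_lit 28106005))) (BT.node (nat_lit 7550784) (BT.leaf (nat_lit 47905825)) (BT.leaf (nat_lit 44344353)))) (BT.node (nat_lit 7550976) (BT.node (nat_lit 7550912) (BT.leaf (nat_lit 47906845)) (BT.leaf (nat_lit 27589905))) (BT.node (nat_lit 7551040) (BT.leaf (nat_lit 27589909)) (BT.leaf (nat_lit 30218261))))) (BT.node (nat_lit 7551360) (BT.node (nat_lit 7551232) (BT.node (nat_lit 7551168) (BT.leaf (nat_lit 47907613)) (BT.leaf (nat_lit 23885841))) (BT.node (nat_lit 7551296) (BT.leaf (nat_lit 23414817)) (BT.leaf (nat_lit 30028569)))) (BT.node (nat_lit 7551488) (BT.node (nat_lit 7551424) (BT.leaf (nat_lit 23418133)) (BT.leaf (nat_lit 41669653))) (BT.node (nat_lit 7551552) (BT.leaf (nat_lit 32330501)) (BT.leaf (nat_lit 28501521)))))) (BT.node (nat_lit 7552128) (BT.node (nat_lit 7551872) (BT.node (nat_lit 7551744) (BT.node (nat_lit 7551680) (BT.leaf (nat_lit 31680517)) (BT.leaf (nat_lit 28327181))) (BT.node (nat_lit 7551808) (BT.leaf (nat_lit 47911705)) (BT.leaf (nat_lit 23827733)))) (BT.node (nat_lit 7552000) (BT.node (nat_lit 7551936) (BT.leaf (nat_lit 47912221)) (BT.leaf (nat_lit 47732485))) (BT.node (nat_lit 7552064) (BT.leaf (nat_lit 30207769)) (BT.leaf (nat_lit 24133649))))) (BT.node (nat_lit 7552384) (BT.node (nat_lit 7552256) (BT.node (nat_lit 7552192) (BT.leaf (nat_lit 24133653)) (BT.leaf (nat_lit 40190997))) (BT.node (nat_lit 7552320) (BT.leaf (nat_lit 27589657)) (BT.leaf (nat_lit 27589661)))) (BT.node (nat_lit 7552512) (BT.node (nat_lit 7552448) (BT.leaf (nat_lit 28749065)) (BT.leaf (nat_lit 29410065))) (BT.node (nat_lit 7552576) (BT.leaf (nat_lit 31039249)) (BT.leaf (nat_lit 24146209))))))) (BT.node (nat_lit 7553664) (BT.node (nat_lit 7553152) (BT.node (nat_lit 7552896) (BT.node (nat_lit 7552768) (BT.node (nat_lit 7552704) (BT.leaf (nat_lit 47915025)) (BT.leaf (nat_lit 30200861))) (BT.node (nat_lit 7552832) (BT.leaf (nat_lit 27478021)) (BT.leaf (nat_lit 31986453)))) (BT.node (nat_lit 7553024) (BT.node (nat_lit 7552960) (BT.leaf (nat_lit 32337173)) (BT.leaf (nat_lit 23415825))) (BT.node (nat_lit 7553088) (BT.leaf (nat_lit 47916305)) (BT.leaf (nat_lit 42421281))))) (BT.node (nat_lit 7553408) (BT.node (nat_lit 7553280) (BT.node (nat_lit 7553216) (BT.leaf (nat_lit 51011853)) (BT.leaf (nat_lit 37746181))) (BT.node (nat_lit 7553344) (BT.leaf (nat_lit 47917061)) (BT.leaf (nat_lit 28105493)))) (BT.node (nat_lit 7553536) (BT.node (nat_lit 7553472) (BT.leaf (nat_lit 30036229)) (BT.leaf (nat_lit 42425629))) (BT.node (nat_lit 7553600) (BT.leaf (nat_lit 30202137)) (BT.leaf (nat_lit 32106769)))))) (BT.node (nat_lit 7554176) (BT.node (nat_lit 7553920) (BT.node (nat_lit 7553792) (BT.node (nat_lit 7553728) (BT.leaf (nat_lit 32894493)) (BT.leaf (nat_lit 35036705))) (BT.node (nat_lit 7553856) (BT.leaf (nat_lit 27297817)) (BT.leaf (nat_lit 27297821)))) (BT.node (nat_lit 7554048) (BT.node (nat_lit 7553984) (BT.leaf (nat_lit 35036933)) (BT.leaf (nat_lit 26496529))) (BT.node (nat_lit 7554112) (BT.leaf (nat_lit 47757085)) (BT.leaf (nat_lit 38549273))))) (BT.node (nat_lit 7554432) (BT.node (nat_lit 7554304) (BT.node (nat_lit 7554240) (BT.leaf (nat_lit 28661253)) (BT.leaf (nat_lit 27546657))) (BT.node (nat_lit 7554368) (BT.leaf (nat_lit 30047773)) (BT.leaf (nat_lit 48032273)))) (BT.node (nat_lit 7554560) (BT.node (nat_lit 7554496) (BT.leaf (nat_lit 23886353)) (BT.leaf (nat_lit 31257369))) (BT.node (nat_lit 7554624) (BT.leaf (nat_lit 24038689)) (BT.leaf (nat_lit 46469653))))))))) (BT.node (nat_lit 7558784) (BT.node (nat_lit 7556736) (BT.node (nat_lit 7555712) (BT.node (nat_lit 7555200) (BT.node (nat_lit 7554944) (BT.node (nat_lit 7554816) (BT.node (nat_lit 7554752) (BT.leaf (nat_lit 23590149)) (BT.leaf (nat_lit 30708745))) (BT.node (nat_lit 7554880) (BT.leaf (nat_lit 29759749)) (BT.leaf (nat_lit 33993241)))) (BT.node (nat_lit 7555072) (BT.node (nat_lit 7555008) (BT.leaf (nat_lit 47920145)) (BT.leaf (nat_lit 47702021))) (BT.node (nat_lit 7555136) (BT.leaf (nat_lit 47919393)) (BT.leaf (nat_lit 28314129))))) (BT.node (nat_lit 7555456) (BT.node (nat_lit 7555328) (BT.node (nat_lit 7555264) (BT.leaf (nat_lit 23418385)) (BT.leaf (nat_lit 47920417))) (BT.node (nat_lit 7555392) (BT.leaf (nat_lit 39913245)) (BT.leaf (nat_lit 23910165)))) (BT.node (nat_lit 7555584) (BT.node (nat_lit 7555520) (BT.leaf (nat_lit 24554501)) (BT.leaf (nat_lit 47920913))) (BT.node (nat_lit 7555648) (BT.leaf (nat_lit 33993493)) (BT.leaf (nat_lit 47921945)))))) (BT.node (nat_lit 7556224) (BT.node (nat_lit 7555968) (BT.node (nat_lit 7555840) (BT.node (nat_lit 7555776) (BT.leaf (nat_lit 47921425)) (BT.leaf (nat_lit 27566353))) (BT.node (nat_lit 7555904) (BT.leaf (nat_lit 47923229)) (BT.leaf (nat_lit 47923485)))) (BT.node (nat_lit 7556096) (BT.node (nat_lit 7556032) (BT.leaf (nat_lit 47923209)) (BT.leaf (nat_lit 51013913))) (BT.node (nat_lit 7556160) (BT.leaf (nat_lit 38439949)) (BT.leaf (nat_lit 34000921))))) (BT.node (nat_lit 7556480) (BT.node (nat_lit 7556352) (BT.node (nat_lit 7556288) (BT.leaf (nat_lit 34064921)) (BT.leaf (nat_lit 23525397))) (BT.node (nat_lit 7556416) (BT.leaf (nat_lit 28335113)) (BT.leaf (nat_lit 34740997)))) (BT.node (nat_lit 7556608) (BT.node (nat_lit 7556544) (BT.leaf (nat_lit 28335109)) (BT.leaf (nat_lit 47921953))) (BT.node (nat_lit 7556672) (BT.leaf (nat_lit 47925525)) (BT.leaf (nat_lit 51949593))))))) (BT.node (nat_lit 7557760) (BT.node (nat_lit 7557248) (BT.node (nat_lit 7556992) (BT.node (nat_lit 7556864) (BT.node (nat_lit 7556800) (BT.leaf (nat_lit 46362641)) (BT.leaf (nat_lit 42446877))) (BT.node (nat_lit 7556928) (BT.leaf (nat_lit 34848797)) (BT.leaf (nat_lit 47926025)))) (BT.node (nat_lit 7557120) (BT.node (nat_lit 7557056) (BT.leaf (nat_lit 27619345)) (BT.leaf (nat_lit 47927053))) (BT.node (nat_lit 7557184) (BT.leaf (nat_lit 30043405)) (BT.leaf (nat_lit 47927829))))) (BT.node (nat_lit 7557504) (BT.node (nat_lit 7557376) (BT.node (nat_lit 7557312) (BT.leaf (nat_lit 23778841)) (BT.leaf (nat_lit 30240285))) (BT.node (nat_lit 7557440) (BT.leaf (nat_lit 46856457)) (BT.leaf (nat_lit 30243609)))) (BT.node (nat_lit 7557632) (BT.node (nat_lit 7557568) (BT.leaf (nat_lit 46985477)) (BT.leaf (nat_lit 31692833))) (BT.node (nat_lit 7557696) (BT.leaf (nat_lit 28085013)) (BT.leaf (nat_lit 35134753)))))) (BT.node (nat_lit 7558272) (BT.node (nat_lit 7558016) (BT.node (nat_lit 7557888) (BT.node (nat_lit 7557824) (BT.leaf (nat_lit 35134497)) (BT.leaf (nat_lit 34071837))) (BT.node (nat_lit 7557952) (BT.leaf (nat_lit 30832653)) (BT.leaf (nat_lit 47928069)))) (BT.node (nat_lit 7558144) (BT.node (nat_lit 7558080) (BT.leaf (nat_lit 22943509)) (BT.leaf (nat_lit 23421205))) (BT.node (nat_lit 7558208) (BT.leaf (nat_lit 37973005)) (BT.leaf (nat_lit 47928333))))) (BT.node (nat_lit 7558528) (BT.node (nat_lit 7558400) (BT.node (nat_lit 7558336) (BT.leaf (nat_lit 40600085)) (BT.leaf (nat_lit 33743393))) (BT.node (nat_lit 7558464) (BT.leaf (nat_lit 30044429)) (BT.leaf (nat_lit 23421957)))) (BT.node (nat_lit 7558656) (BT.node (nat_lit 7558592) (BT.leaf (nat_lit 36413209)) (BT.leaf (nat_lit 36413213))) (BT.node (nat_lit 7558720) (BT.leaf (nat_lit 42451717)) (BT.leaf (nat_lit 27370529)))))))) (BT.node (nat_lit 7560832) (BT.node (nat_lit 7559808) (BT.node (nat_lit 7559296) (BT.node (nat_lit 7559040) (BT.node (nat_lit 7558912) (BT.node (nat_lit 7558848) (BT.leaf (nat_lit 32173601)) (BT.leaf (nat_lit 22928669))) (BT.node (nat_lit 7558976) (BT.leaf (nat_lit 42348309)) (BT.leaf (nat_lit 32500485)))) (BT.node (nat_lit 7559168) (BT.node (nat_lit 7559104) (BT.leaf (nat_lit 44984609)) (BT.leaf (nat_lit 28903941))) (BT.node (nat_lit 7559232) (BT.leaf (nat_lit 40975381)) (BT.leaf (nat_lit 39151117))))) (BT.node (nat_lit 7559552) (BT.node (nat_lit 7559424) (BT.node (nat_lit 7559360) (BT.leaf (nat_lit 31698437)) (BT.leaf (nat_lit 30983697))) (BT.node (nat_lit 7559488) (BT.leaf (nat_lit 33998101)) (BT.leaf (nat_lit 30240269)))) (BT.node (nat_lit 7559680) (BT.node (nat_lit 7559616) (BT.leaf (nat_lit 34074889)) (BT.leaf (nat_lit 30243597))) (BT.node (nat_lit 7559744) (BT.leaf (nat_lit 30231821)) (BT.leaf (nat_lit 23423265)))))) (BT.node (nat_lit 7560320) (BT.node (nat_lit 7560064) (BT.node (nat_lit 7559936) (BT.node (nat_lit 7559872) (BT.leaf (nat_lit 24154145)) (BT.leaf (nat_lit 28002581))) (BT.node (nat_lit 7560000) (BT.leaf (nat_lit 30240029)) (BT.leaf (nat_lit 47931157)))) (BT.node (nat_lit 7560192) (BT.node (nat_lit 7560128) (BT.leaf (nat_lit 33998357)) (BT.leaf (nat_lit 28013841))) (BT.node (nat_lit 7560256) (BT.leaf (nat_lit 37937673)) (BT.leaf (nat_lit 23867669))))) (BT.node (nat_lit 7560576) (BT.node (nat_lit 7560448) (BT.node (nat_lit 7560384) (BT.leaf (nat_lit 23867673)) (BT.leaf (nat_lit 23867677))) (BT.node (nat_lit 7560512) (BT.leaf (nat_lit 23424801)) (BT.leaf (nat_lit 47932181)))) (BT.node (nat_lit 7560704) (BT.node (nat_lit 7560640) (BT.leaf (nat_lit 23425313)) (BT.leaf (nat_lit 29827093))) (BT.node (nat_lit 7560768) (BT.leaf (nat_lit 24630277)) (BT.leaf (nat_lit 23423513))))))) (BT.node (nat_lit 7561856) (BT.node (nat_lit 7561344) (BT.node (nat_lit 7561088) (BT.node (nat_lit 7560960) (BT.node (nat_lit 7560896) (BT.leaf (nat_lit 47819545)) (BT.leaf (nat_lit 33289749))) (BT.node (nat_lit 7561024) (BT.leaf (nat_lit 27622929)) (BT.leaf (nat_lit 34264333)))) (BT.node (nat_lit 7561216) (BT.node (nat_lit 7561152) (BT.leaf (nat_lit 28440605)) (BT.leaf (nat_lit 23341597))) (BT.node (nat_lit 7561280) (BT.leaf (nat_lit 23424029)) (BT.leaf (nat_lit 24709141))))) (BT.node (nat_lit 7561600) (BT.node (nat_lit 7561472) (BT.node (nat_lit 7561408) (BT.leaf (nat_lit 26441753)) (BT.leaf (nat_lit 34862097))) (BT.node (nat_lit 7561536) (BT.leaf (nat_lit 38349345)) (BT.leaf (nat_lit 29968913)))) (BT.node (nat_lit 7561728) (BT.node (nat_lit 7561664) (BT.leaf (nat_lit 47933717)) (BT.leaf (nat_lit 31031317))) (BT.node (nat_lit 7561792) (BT.leaf (nat_lit 32306449)) (BT.leaf (nat_lit 29964293)))))) (BT.node (nat_lit 7562368) (BT.node (nat_lit 7562112) (BT.node (nat_lit 7561984) (BT.node (nat_lit 7561920) (BT.leaf (nat_lit 38676489)) (BT.leaf (nat_lit 28117001))) (BT.node (nat_lit 7562048) (BT.leaf (nat_lit 23428113)) (BT.leaf (nat_lit 23426321)))) (BT.node (nat_lit 7562240) (BT.node (nat_lit 7562176) (BT.leaf (nat_lit 36995349)) (BT.leaf (nat_lit 30854925))) (BT.node (nat_lit 7562304) (BT.leaf (nat_lit 47249941)) (BT.leaf (nat_lit 29517845))))) (BT.node (nat_lit 7562624) (BT.node (nat_lit 7562496) (BT.node (nat_lit 7562432) (BT.leaf (nat_lit 35619353)) (BT.leaf (nat_lit 23427609))) (BT.node (nat_lit 7562560) (BT.leaf (nat_lit 41292557)) (BT.leaf (nat_lit 29889561)))) (BT.node (nat_lit 7562752) (BT.node (nat_lit 7562688) (BT.leaf (nat_lit 25115421)) (BT.leaf (nat_lit 23427613))) (BT.node (nat_lit 7562816) (BT.leaf (nat_lit 41294101)) (BT.leaf (nat_lit 29802769))))))))))) (BT.node (nat_lit 7579328) (BT.node (nat_lit 7571136) (BT.node (nat_lit 7566976) (BT.node (nat_lit 7564928) (BT.node (nat_lit 7563904) (BT.node (nat_lit 7563392) (BT.node (nat_lit 7563136) (BT.node (nat_lit 7563008) (BT.node (nat_lit 7562944) (BT.leaf (nat_lit 47723805)) (BT.leaf (nat_lit 23427857))) (BT.node (nat_lit 7563072) (BT.leaf (nat_lit 26719769)) (BT.leaf (nat_lit 26503713)))) (BT.node (nat_lit 7563264) (BT.node (nat_lit 7563200) (BT.leaf (nat_lit 27272977)) (BT.leaf (nat_lit 39990049))) (BT.node (nat_lit 7563328) (BT.leaf (nat_lit 41767697)) (BT.leaf (nat_lit 30255129))))) (BT.node (nat_lit 7563648) (BT.node (nat_lit 7563520) (BT.node (nat_lit 7563456) (BT.leaf (nat_lit 25903885)) (BT.leaf (nat_lit 34862353))) (BT.node (nat_lit 7563584) (BT.leaf (nat_lit 30254365)) (BT.leaf (nat_lit 28797197)))) (BT.node (nat_lit 7563776) (BT.node (nat_lit 7563712) (BT.leaf (nat_lit 44692249)) (BT.leaf (nat_lit 40145929))) (BT.node (nat_lit 7563840) (BT.leaf (nat_lit 28697865)) (BT.leaf (nat_lit 27559969)))))) (BT.node (nat_lit 7564416) (BT.node (nat_lit 7564160) (BT.node (nat_lit 7564032) (BT.node (nat_lit 7563968) (BT.leaf (nat_lit 24589325)) (BT.leaf (nat_lit 42133017))) (BT.node (nat_lit 7564096) (BT.leaf (nat_lit 23430689)) (BT.leaf (nat_lit 23431201)))) (BT.node (nat_lit 7564288) (BT.node (nat_lit 7564224) (BT.leaf (nat_lit 31658509)) (BT.leaf (nat_lit 48849173))) (BT.node (nat_lit 7564352) (BT.leaf (nat_lit 28421905)) (BT.leaf (nat_lit 35303949))))) (BT.node (nat_lit 7564672) (BT.node (nat_lit 7564544) (BT.node (nat_lit 7564480) (BT.leaf (nat_lit 46467361)) (BT.leaf (nat_lit 42494993))) (BT.node (nat_lit 7564608) (BT.leaf (nat_lit 24221457)) (BT.leaf (nat_lit 29046801)))) (BT.node (nat_lit 7564800) (BT.node (nat_lit 7564736) (BT.leaf (nat_lit 29046805)) (BT.leaf (nat_lit 28555025))) (BT.node (nat_lit 7564864) (BT.leaf (nat_lit 23831313)) (BT.leaf (nat_lit 29658893))))))) (BT.node (nat_lit 7565952) (BT.node (nat_lit 7565440) (BT.node (nat_lit 7565184) (BT.node (nat_lit 7565056) (BT.node (nat_lit 7564992) (BT.leaf (nat_lit 30069781)) (BT.leaf (nat_lit 28464389))) (BT.node (nat_lit 7565120) (BT.leaf (nat_lit 48343569)) (BT.leaf (nat_lit 24812549)))) (BT.node (nat_lit 7565312) (BT.node (nat_lit 7565248) (BT.leaf (nat_lit 28673029)) (BT.leaf (nat_lit 23639057))) (BT.node (nat_lit 7565376) (BT.leaf (nat_lit 46395653)) (BT.leaf (nat_lit 30849297))))) (BT.node (nat_lit 7565696) (BT.node (nat_lit 7565568) (BT.node (nat_lit 7565504) (BT.leaf (nat_lit 23910929)) (BT.leaf (nat_lit 47117573))) (BT.node (nat_lit 7565632) (BT.leaf (nat_lit 22425365)) (BT.leaf (nat_lit 23433245)))) (BT.node (nat_lit 7565824) (BT.node (nat_lit 7565760) (BT.leaf (nat_lit 23435293)) (BT.leaf (nat_lit 33209621))) (BT.node (nat_lit 7565888) (BT.leaf (nat_lit 29658897)) (BT.leaf (nat_lit 33310469)))))) (BT.node (nat_lit 7566464) (BT.node (nat_lit 7566208) (BT.node (nat_lit 7566080) (BT.node (nat_lit 7566016) (BT.leaf (nat_lit 47120149)) (BT.leaf (nat_lit 49944585))) (BT.node (nat_lit 7566144) (BT.leaf (nat_lit 23437845)) (BT.leaf (nat_lit 27725573)))) (BT.node (nat_lit 7566336) (BT.node (nat_lit 7566272) (BT.leaf (nat_lit 31537925)) (BT.leaf (nat_lit 48286737))) (BT.node (nat_lit 7566400) (BT.leaf (nat_lit 28972309)) (BT.leaf (nat_lit 29836061))))) (BT.node (nat_lit 7566720) (BT.node (nat_lit 7566592) (BT.node (nat_lit 7566528) (BT.leaf (nat_lit 38618385)) (BT.leaf (nat_lit 29052433))) (BT.node (nat_lit 7566656) (BT.leaf (nat_lit 28150545)) (BT.leaf (nat_lit 34745121)))) (BT.node (nat_lit 7566848) (BT.node (nat_lit 7566784) (BT.leaf (nat_lit 29545241)) (BT.leaf (nat_lit 29545245))) (BT.node (nat_lit 7566912) (BT.leaf (nat_lit 23433745)) (BT.leaf (nat_lit 34465041)))))))) (BT.node (nat_lit 7569024) (BT.node (nat_lit 7568000) (BT.node (nat_lit 7567488) (BT.node (nat_lit 7567232) (BT.node (nat_lit 7567104) (BT.node (nat_lit 7567040) (BT.leaf (nat_lit 38571017)) (BT.leaf (nat_lit 38571021))) (BT.node (nat_lit 7567168) (BT.leaf (nat_lit 30546441)) (BT.leaf (nat_lit 46778129)))) (BT.node (nat_lit 7567360) (BT.node (nat_lit 7567296) (BT.leaf (nat_lit 36254981)) (BT.leaf (nat_lit 46989317))) (BT.node (nat_lit 7567424) (BT.leaf (nat_lit 47947541)) (BT.leaf (nat_lit 23442201))))) (BT.node (nat_lit 7567744) (BT.node (nat_lit 7567616) (BT.node (nat_lit 7567552) (BT.leaf (nat_lit 47947793)) (BT.leaf (nat_lit 47948049))) (BT.node (nat_lit 7567680) (BT.leaf (nat_lit 27489033)) (BT.leaf (nat_lit 24776473)))) (BT.node (nat_lit 7567872) (BT.node (nat_lit 7567808) (BT.leaf (nat_lit 41876497)) (BT.leaf (nat_lit 38051081))) (BT.node (nat_lit 7567936) (BT.leaf (nat_lit 27321365)) (BT.leaf (nat_lit 47948573)))))) (BT.node (nat_lit 7568512) (BT.node (nat_lit 7568256) (BT.node (nat_lit 7568128) (BT.node (nat_lit 7568064) (BT.leaf (nat_lit 30137605)) (BT.leaf (nat_lit 33751557))) (BT.node (nat_lit 7568192) (BT.leaf (nat_lit 32562973)) (BT.leaf (nat_lit 30408729)))) (BT.node (nat_lit 7568384) (BT.node (nat_lit 7568320) (BT.leaf (nat_lit 40266513)) (BT.leaf (nat_lit 33221661))) (BT.node (nat_lit 7568448) (BT.leaf (nat_lit 33609761)) (BT.leaf (nat_lit 36130593))))) (BT.node (nat_lit 7568768) (BT.node (nat_lit 7568640) (BT.node (nat_lit 7568576) (BT.leaf (nat_lit 46714373)) (BT.leaf (nat_lit 32142369))) (BT.node (nat_lit 7568704) (BT.leaf (nat_lit 33608453)) (BT.leaf (nat_lit 23444753)))) (BT.node (nat_lit 7568896) (BT.node (nat_lit 7568832) (BT.leaf (nat_lit 51471893)) (BT.leaf (nat_lit 30950681))) (BT.node (nat_lit 7568960) (BT.leaf (nat_lit 36454921)) (BT.leaf (nat_lit 23440913))))))) (BT.node (nat_lit 7570112) (BT.node (nat_lit 7569536) (BT.node (nat_lit 7569280) (BT.node (nat_lit 7569152) (BT.node (nat_lit 7569088) (BT.leaf (nat_lit 23441169)) (BT.leaf (nat_lit 47953425))) (BT.node (nat_lit 7569216) (BT.leaf (nat_lit 39173141)) (BT.leaf (nat_lit 38881029)))) (BT.node (nat_lit 7569408) (BT.node (nat_lit 7569344) (BT.leaf (nat_lit 47483917)) (BT.leaf (nat_lit 29747973))) (BT.node (nat_lit 7569472) (BT.leaf (nat_lit 31321349)) (BT.leaf (nat_lit 27979277))))) (BT.node (nat_lit 7569792) (BT.node (nat_lit 7569664) (BT.node (nat_lit 7569600) (BT.leaf (nat_lit 23442449)) (BT.leaf (nat_lit 31198213))) (BT.node (nat_lit 7569728) (BT.leaf (nat_lit 32319237)) (BT.leaf (nat_lit 39270429)))) (BT.node (nat_lit 7569920) (BT.node (nat_lit 7569856) (BT.leaf (nat_lit 35106821)) (BT.leaf (nat_lit 28899609))) (BT.node (nat_lit 7569984) (BT.leaf (nat_lit 28899613)) (BT.leaf (nat_lit 47955729)))))) (BT.node (nat_lit 7570624) (BT.node (nat_lit 7570368) (BT.node (nat_lit 7570240) (BT.node (nat_lit 7570176) (BT.leaf (nat_lit 47955997)) (BT.leaf (nat_lit 38992389))) (BT.node (nat_lit 7570304) (BT.leaf (nat_lit 39339025)) (BT.leaf (nat_lit 46065165)))) (BT.node (nat_lit 7570496) (BT.node (nat_lit 7570432) (BT.leaf (nat_lit 23448857)) (BT.leaf (nat_lit 35108385))) (BT.node (nat_lit 7570560) (BT.leaf (nat_lit 35336213)) (BT.leaf (nat_lit 28058913))))) (BT.node (nat_lit 7570880) (BT.node (nat_lit 7570752) (BT.node (nat_lit 7570688) (BT.leaf (nat_lit 31443737)) (BT.leaf (nat_lit 29715485))) (BT.node (nat_lit 7570816) (BT.leaf (nat_lit 30055701)) (BT.leaf (nat_lit 31187741)))) (BT.node (nat_lit 7571008) (BT.node (nat_lit 7570944) (BT.leaf (nat_lit 47957793)) (BT.leaf (nat_lit 31443473))) (BT.node (nat_lit 7571072) (BT.leaf (nat_lit 33506837)) (BT.leaf (nat_lit 32389653))))))))) (BT.node (nat_lit 7575232) (BT.node (nat_lit 7573184) (BT.node (nat_lit 7572160) (BT.node (nat_lit 7571648) (BT.node (nat_lit 7571392) (BT.node (nat_lit 7571264) (BT.node (nat_lit 7571200) (BT.leaf (nat_lit 23449605)) (BT.leaf (nat_lit 47959569))) (BT.node (nat_lit 7571328) (BT.leaf (nat_lit 47958817)) (BT.leaf (nat_lit 35298073)))) (BT.node (nat_lit 7571520) (BT.node (nat_lit 7571456) (BT.leaf (nat_lit 30270493)) (BT.leaf (nat_lit 38169633))) (BT.node (nat_lit 7571584) (BT.leaf (nat_lit 47959829)) (BT.leaf (nat_lit 23450129))))) (BT.node (nat_lit 7571904) (BT.node (nat_lit 7571776) (BT.node (nat_lit 7571712) (BT.leaf (nat_lit 39765537)) (BT.leaf (nat_lit 42539529))) (BT.node (nat_lit 7571840) (BT.leaf (nat_lit 28751125)) (BT.leaf (nat_lit 27623449)))) (BT.node (nat_lit 7572032) (BT.node (nat_lit 7571968) (BT.leaf (nat_lit 49072913)) (BT.leaf (nat_lit 47827481))) (BT.node (nat_lit 7572096) (BT.leaf (nat_lit 47961365)) (BT.leaf (nat_lit 32019729)))))) (BT.node (nat_lit 7572672) (BT.node (nat_lit 7572416) (BT.node (nat_lit 7572288) (BT.node (nat_lit 7572224) (BT.leaf (nat_lit 47961633)) (BT.leaf (nat_lit 30289181))) (BT.node (nat_lit 7572352) (BT.leaf (nat_lit 28816145)) (BT.leaf (nat_lit 52380433)))) (BT.node (nat_lit 7572544) (BT.node (nat_lit 7572480) (BT.leaf (nat_lit 30761225)) (BT.leaf (nat_lit 23344913))) (BT.node (nat_lit 7572608) (BT.leaf (nat_lit 35582481)) (BT.leaf (nat_lit 23452957))))) (BT.node (nat_lit 7572928) (BT.node (nat_lit 7572800) (BT.node (nat_lit 7572736) (BT.leaf (nat_lit 23450385)) (BT.leaf (nat_lit 23450389))) (BT.node (nat_lit 7572864) (BT.leaf (nat_lit 35582485)) (BT.leaf (nat_lit 23450897)))) (BT.node (nat_lit 7573056) (BT.node (nat_lit 7572992) (BT.leaf (nat_lit 23450641)) (BT.leaf (nat_lit 23451421))) (BT.node (nat_lit 7573120) (BT.leaf (nat_lit 23451677)) (BT.leaf (nat_lit 23869201))))))) (BT.node (nat_lit 7574208) (BT.node (nat_lit 7573696) (BT.node (nat_lit 7573440) (BT.node (nat_lit 7573312) (BT.node (nat_lit 7573248) (BT.leaf (nat_lit 23869205)) (BT.leaf (nat_lit 34095369))) (BT.node (nat_lit 7573376) (BT.leaf (nat_lit 28319249)) (BT.leaf (nat_lit 23452445)))) (BT.node (nat_lit 7573568) (BT.node (nat_lit 7573504) (BT.leaf (nat_lit 33831189)) (BT.leaf (nat_lit 42551829))) (BT.node (nat_lit 7573632) (BT.leaf (nat_lit 23452689)) (BT.leaf (nat_lit 26551061))))) (BT.node (nat_lit 7573952) (BT.node (nat_lit 7573824) (BT.node (nat_lit 7573760) (BT.leaf (nat_lit 24131597)) (BT.leaf (nat_lit 24131601))) (BT.node (nat_lit 7573888) (BT.leaf (nat_lit 25414677)) (BT.leaf (nat_lit 33975573)))) (BT.node (nat_lit 7574080) (BT.node (nat_lit 7574016) (BT.leaf (nat_lit 25414421)) (BT.leaf (nat_lit 27313929))) (BT.node (nat_lit 7574144) (BT.leaf (nat_lit 48233997)) (BT.leaf (nat_lit 27313937)))))) (BT.node (nat_lit 7574720) (BT.node (nat_lit 7574464) (BT.node (nat_lit 7574336) (BT.node (nat_lit 7574272) (BT.leaf (nat_lit 36290581)) (BT.leaf (nat_lit 32130581))) (BT.node (nat_lit 7574400) (BT.leaf (nat_lit 47966997)) (BT.leaf (nat_lit 42546181)))) (BT.node (nat_lit 7574592) (BT.node (nat_lit 7574528) (BT.leaf (nat_lit 23452953)) (BT.leaf (nat_lit 23453197))) (BT.node (nat_lit 7574656) (BT.leaf (nat_lit 29873173)) (BT.leaf (nat_lit 27433233))))) (BT.node (nat_lit 7574976) (BT.node (nat_lit 7574848) (BT.node (nat_lit 7574784) (BT.leaf (nat_lit 27314201)) (BT.leaf (nat_lit 27314205))) (BT.node (nat_lit 7574912) (BT.leaf (nat_lit 23453201)) (BT.leaf (nat_lit 42128417)))) (BT.node (nat_lit 7575104) (BT.node (nat_lit 7575040) (BT.leaf (nat_lit 47968277)) (BT.leaf (nat_lit 28586777))) (BT.node (nat_lit 7575168) (BT.leaf (nat_lit 26550045)) (BT.leaf (nat_lit 23453457)))))))) (BT.node (nat_lit 7577280) (BT.node (nat_lit 7576256) (BT.node (nat_lit 7575744) (BT.node (nat_lit 7575488) (BT.node (nat_lit 7575360) (BT.node (nat_lit 7575296) (BT.leaf (nat_lit 23454485)) (BT.leaf (nat_lit 34290197))) (BT.node (nat_lit 7575424) (BT.leaf (nat_lit 47385361)) (BT.leaf (nat_lit 28409113)))) (BT.node (nat_lit 7575616) (BT.node (nat_lit 7575552) (BT.leaf (nat_lit 47969045)) (BT.leaf (nat_lit 27490321))) (BT.node (nat_lit 7575680) (BT.leaf (nat_lit 23893273)) (BT.leaf (nat_lit 23893277))))) (BT.node (nat_lit 7576000) (BT.node (nat_lit 7575872) (BT.node (nat_lit 7575808) (BT.leaf (nat_lit 23457801)) (BT.leaf (nat_lit 24419345))) (BT.node (nat_lit 7575936) (BT.leaf (nat_lit 23457817)) (BT.leaf (nat_lit 24001809)))) (BT.node (nat_lit 7576128) (BT.node (nat_lit 7576064) (BT.leaf (nat_lit 33788441)) (BT.leaf (nat_lit 23457297))) (BT.node (nat_lit 7576192) (BT.leaf (nat_lit 47969825)) (BT.leaf (nat_lit 31150853)))))) (BT.node (nat_lit 7576768) (BT.node (nat_lit 7576512) (BT.node (nat_lit 7576384) (BT.node (nat_lit 7576320) (BT.leaf (nat_lit 27473949)) (BT.leaf (nat_lit 36018721))) (BT.node (nat_lit 7576448) (BT.leaf (nat_lit 47970565)) (BT.leaf (nat_lit 36715809)))) (BT.node (nat_lit 7576640) (BT.node (nat_lit 7576576) (BT.leaf (nat_lit 28453141)) (BT.leaf (nat_lit 24418069))) (BT.node (nat_lit 7576704) (BT.leaf (nat_lit 24141849)) (BT.leaf (nat_lit 23458073))))) (BT.node (nat_lit 7577024) (BT.node (nat_lit 7576896) (BT.node (nat_lit 7576832) (BT.leaf (nat_lit 23939089)) (BT.leaf (nat_lit 23939093))) (BT.node (nat_lit 7576960) (BT.leaf (nat_lit 23458333)) (BT.leaf (nat_lit 23458077)))) (BT.node (nat_lit 7577152) (BT.node (nat_lit 7577088) (BT.leaf (nat_lit 23944981)) (BT.leaf (nat_lit 23459601))) (BT.node (nat_lit 7577216) (BT.leaf (nat_lit 23459345)) (BT.leaf (nat_lit 23459089))))))) (BT.node (nat_lit 7578304) (BT.node (nat_lit 7577792) (BT.node (nat_lit 7577536) (BT.node (nat_lit 7577408) (BT.node (nat_lit 7577344) (BT.leaf (nat_lit 23458833)) (BT.leaf (nat_lit 27336201))) (BT.node (nat_lit 7577472) (BT.leaf (nat_lit 27336205)) (BT.leaf (nat_lit 27336209)))) (BT.node (nat_lit 7577664) (BT.node (nat_lit 7577600) (BT.leaf (nat_lit 51107589)) (BT.leaf (nat_lit 27336221))) (BT.node (nat_lit 7577728) (BT.leaf (nat_lit 47972373)) (BT.leaf (nat_lit 23459865))))) (BT.node (nat_lit 7578048) (BT.node (nat_lit 7577920) (BT.node (nat_lit 7577856) (BT.leaf (nat_lit 27776789)) (BT.leaf (nat_lit 31152389))) (BT.node (nat_lit 7577984) (BT.leaf (nat_lit 23459869)) (BT.leaf (nat_lit 34285597)))) (BT.node (nat_lit 7578176) (BT.node (nat_lit 7578112) (BT.leaf (nat_lit 29177633)) (BT.leaf (nat_lit 47973665))) (BT.node (nat_lit 7578240) (BT.leaf (nat_lit 48617237)) (BT.leaf (nat_lit 23338269)))))) (BT.node (nat_lit 7578816) (BT.node (nat_lit 7578560) (BT.node (nat_lit 7578432) (BT.node (nat_lit 7578368) (BT.leaf (nat_lit 23462173)) (BT.leaf (nat_lit 26492445))) (BT.node (nat_lit 7578496) (BT.leaf (nat_lit 28120853)) (BT.leaf (nat_lit 24776985)))) (BT.node (nat_lit 7578688) (BT.node (nat_lit 7578624) (BT.leaf (nat_lit 23465745)) (BT.leaf (nat_lit 23444241))) (BT.node (nat_lit 7578752) (BT.leaf (nat_lit 23461649)) (BT.leaf (nat_lit 28671253))))) (BT.node (nat_lit 7579072) (BT.node (nat_lit 7578944) (BT.node (nat_lit 7578880) (BT.leaf (nat_lit 47975185)) (BT.leaf (nat_lit 28671261))) (BT.node (nat_lit 7579008) (BT.leaf (nat_lit 23465233)) (BT.leaf (nat_lit 34930697)))) (BT.node (nat_lit 7579200) (BT.node (nat_lit 7579136) (BT.leaf (nat_lit 34930701)) (BT.leaf (nat_lit 31619333))) (BT.node (nat_lit 7579264) (BT.leaf (nat_lit 34930713)) (BT.leaf (nat_lit 34930717)))))))))) (BT.node (nat_lit 7587584) (BT.node (nat_lit 7583424) (BT.node (nat_lit 7581376) (BT.node (nat_lit 7580352) (BT.node (nat_lit 7579840) (BT.node (nat_lit 7579584) (BT.node (nat_lit 7579456) (BT.node (nat_lit 7579392) (BT.leaf (nat_lit 47776277)) (BT.leaf (nat_lit 33166105))) (BT.node (nat_lit 7579520) (BT.leaf (nat_lit 46470421)) (BT.leaf (nat_lit 23466269)))) (BT.node (nat_lit 7579712) (BT.node (nat_lit 7579648) (BT.leaf (nat_lit 28881949)) (BT.leaf (nat_lit 47656965))) (BT.node (nat_lit 7579776) (BT.leaf (nat_lit 29743377)) (BT.leaf (nat_lit 29743381))))) (BT.node (nat_lit 7580096) (BT.node (nat_lit 7579968) (BT.node (nat_lit 7579904) (BT.leaf (nat_lit 33165593)) (BT.leaf (nat_lit 23466769))) (BT.node (nat_lit 7580032) (BT.leaf (nat_lit 50077701)) (BT.leaf (nat_lit 31213573)))) (BT.node (nat_lit 7580224) (BT.node (nat_lit 7580160) (BT.leaf (nat_lit 23339537)) (BT.leaf (nat_lit 31213589))) (BT.node (nat_lit 7580288) (BT.leaf (nat_lit 26482969)) (BT.leaf (nat_lit 26482973)))))) (BT.node (nat_lit 7580864) (BT.node (nat_lit 7580608) (BT.node (nat_lit 7580480) (BT.node (nat_lit 7580416) (BT.leaf (nat_lit 23388177)) (BT.leaf (nat_lit 35303173))) (BT.node (nat_lit 7580544) (BT.leaf (nat_lit 23355921)) (BT.leaf (nat_lit 26483481)))) (BT.node (nat_lit 7580736) (BT.node (nat_lit 7580672) (BT.leaf (nat_lit 37932809)) (BT.leaf (nat_lit 23467281))) (BT.node (nat_lit 7580800) (BT.leaf (nat_lit 46999057)) (BT.leaf (nat_lit 32882461))))) (BT.node (nat_lit 7581120) (BT.node (nat_lit 7580992) (BT.node (nat_lit 7580928) (BT.leaf (nat_lit 35623701)) (BT.leaf (nat_lit 32882445))) (BT.node (nat_lit 7581056) (BT.leaf (nat_lit 24284701)) (BT.leaf (nat_lit 50316045)))) (BT.node (nat_lit 7581248) (BT.node (nat_lit 7581184) (BT.leaf (nat_lit 27536917)) (BT.leaf (nat_lit 47982869))) (BT.node (nat_lit 7581312) (BT.leaf (nat_lit 27321349)) (BT.leaf (nat_lit 51187229))))))) (BT.node (nat_lit 7582400) (BT.node (nat_lit 7581888) (BT.node (nat_lit 7581632) (BT.node (nat_lit 7581504) (BT.node (nat_lit 7581440) (BT.leaf (nat_lit 46962437)) (BT.leaf (nat_lit 36215057))) (BT.node (nat_lit 7581568) (BT.leaf (nat_lit 47262729)) (BT.leaf (nat_lit 23469085)))) (BT.node (nat_lit 7581760) (BT.node (nat_lit 7581696) (BT.leaf (nat_lit 51635233)) (BT.leaf (nat_lit 23469081))) (BT.node (nat_lit 7581824) (BT.leaf (nat_lit 29999625)) (BT.leaf (nat_lit 35084557))))) (BT.node (nat_lit 7582144) (BT.node (nat_lit 7582016) (BT.node (nat_lit 7581952) (BT.leaf (nat_lit 41851169)) (BT.leaf (nat_lit 27965981))) (BT.node (nat_lit 7582080) (BT.leaf (nat_lit 23796753)) (BT.leaf (nat_lit 35056161)))) (BT.node (nat_lit 7582272) (BT.node (nat_lit 7582208) (BT.leaf (nat_lit 47986193)) (BT.leaf (nat_lit 34118149))) (BT.node (nat_lit 7582336) (BT.leaf (nat_lit 27349013)) (BT.leaf (nat_lit 29093397)))))) (BT.node (nat_lit 7582912) (BT.node (nat_lit 7582656) (BT.node (nat_lit 7582528) (BT.node (nat_lit 7582464) (BT.leaf (nat_lit 33625361)) (BT.leaf (nat_lit 30329625))) (BT.node (nat_lit 7582592) (BT.leaf (nat_lit 30009621)) (BT.leaf (nat_lit 29426193)))) (BT.node (nat_lit 7582784) (BT.node (nat_lit 7582720) (BT.leaf (nat_lit 27526153)) (BT.leaf (nat_lit 33989397))) (BT.node (nat_lit 7582848) (BT.leaf (nat_lit 23750685)) (BT.leaf (nat_lit 23750425))))) (BT.node (nat_lit 7583168) (BT.node (nat_lit 7583040) (BT.node (nat_lit 7582976) (BT.leaf (nat_lit 23470097)) (BT.leaf (nat_lit 36327445))) (BT.node (nat_lit 7583104) (BT.leaf (nat_lit 30337045)) (BT.leaf (nat_lit 28300065)))) (BT.node (nat_lit 7583296) (BT.node (nat_lit 7583232) (BT.leaf (nat_lit 31943941)) (BT.leaf (nat_lit 28859909))) (BT.node (nat_lit 7583360) (BT.leaf (nat_lit 31139349)) (BT.leaf (nat_lit 28860677)))))))) (BT.node (nat_lit 7585536) (BT.node (nat_lit 7584512) (BT.node (nat_lit 7583936) (BT.node (nat_lit 7583680) (BT.node (nat_lit 7583552) (BT.node (nat_lit 7583488) (BT.leaf (nat_lit 37835781)) (BT.leaf (nat_lit 40657157))) (BT.node (nat_lit 7583616) (BT.leaf (nat_lit 47989013)) (BT.leaf (nat_lit 26022149)))) (BT.node (nat_lit 7583808) (BT.node (nat_lit 7583744) (BT.leaf (nat_lit 34651157)) (BT.leaf (nat_lit 34112265))) (BT.node (nat_lit 7583872) (BT.leaf (nat_lit 46833173)) (BT.leaf (nat_lit 40225285))))) (BT.node (nat_lit 7584256) (BT.node (nat_lit 7584128) (BT.node (nat_lit 7584064) (BT.leaf (nat_lit 28863493)) (BT.leaf (nat_lit 30418209))) (BT.node (nat_lit 7584192) (BT.leaf (nat_lit 36445957)) (BT.leaf (nat_lit 39043617)))) (BT.node (nat_lit 7584384) (BT.node (nat_lit 7584320) (BT.leaf (nat_lit 25381137)) (BT.leaf (nat_lit 32480021))) (BT.node (nat_lit 7584448) (BT.leaf (nat_lit 24399633)) (BT.leaf (nat_lit 32162841)))))) (BT.node (nat_lit 7585024) (BT.node (nat_lit 7584768) (BT.node (nat_lit 7584640) (BT.node (nat_lit 7584576) (BT.leaf (nat_lit 34013205)) (BT.leaf (nat_lit 28300825))) (BT.node (nat_lit 7584704) (BT.leaf (nat_lit 35195929)) (BT.leaf (nat_lit 29697053)))) (BT.node (nat_lit 7584896) (BT.node (nat_lit 7584832) (BT.leaf (nat_lit 23747605)) (BT.leaf (nat_lit 34368277))) (BT.node (nat_lit 7584960) (BT.leaf (nat_lit 40288021)) (BT.leaf (nat_lit 25867545))))) (BT.node (nat_lit 7585280) (BT.node (nat_lit 7585152) (BT.node (nat_lit 7585088) (BT.leaf (nat_lit 27629077)) (BT.leaf (nat_lit 38296081))) (BT.node (nat_lit 7585216) (BT.leaf (nat_lit 30340377)) (BT.leaf (nat_lit 38747681)))) (BT.node (nat_lit 7585408) (BT.node (nat_lit 7585344) (BT.leaf (nat_lit 38747657)) (BT.leaf (nat_lit 47991313))) (BT.node (nat_lit 7585472) (BT.leaf (nat_lit 34305809)) (BT.leaf (nat_lit 49703713))))))) (BT.node (nat_lit 7586560) (BT.node (nat_lit 7586048) (BT.node (nat_lit 7585792) (BT.node (nat_lit 7585664) (BT.node (nat_lit 7585600) (BT.leaf (nat_lit 25428757)) (BT.leaf (nat_lit 28471061))) (BT.node (nat_lit 7585728) (BT.leaf (nat_lit 34368021)) (BT.leaf (nat_lit 30345493)))) (BT.node (nat_lit 7585920) (BT.node (nat_lit 7585856) (BT.leaf (nat_lit 24747025)) (BT.leaf (nat_lit 32712225))) (BT.node (nat_lit 7585984) (BT.leaf (nat_lit 25428509)) (BT.leaf (nat_lit 24535833))))) (BT.node (nat_lit 7586304) (BT.node (nat_lit 7586176) (BT.node (nat_lit 7586112) (BT.leaf (nat_lit 24535837)) (BT.leaf (nat_lit 23472657))) (BT.node (nat_lit 7586240) (BT.leaf (nat_lit 23472661)) (BT.leaf (nat_lit 29070101)))) (BT.node (nat_lit 7586432) (BT.node (nat_lit 7586368) (BT.leaf (nat_lit 24200469)) (BT.leaf (nat_lit 34044165))) (BT.node (nat_lit 7586496) (BT.leaf (nat_lit 29070881)) (BT.leaf (nat_lit 33106453)))))) (BT.node (nat_lit 7587072) (BT.node (nat_lit 7586816) (BT.node (nat_lit 7586688) (BT.node (nat_lit 7586624) (BT.leaf (nat_lit 46769157)) (BT.leaf (nat_lit 27444245))) (BT.node (nat_lit 7586752) (BT.leaf (nat_lit 27444249)) (BT.leaf (nat_lit 36203797)))) (BT.node (nat_lit 7586944) (BT.node (nat_lit 7586880) (BT.leaf (nat_lit 29412373)) (BT.leaf (nat_lit 29412377))) (BT.node (nat_lit 7587008) (BT.leaf (nat_lit 29412381)) (BT.leaf (nat_lit 23474705))))) (BT.node (nat_lit 7587328) (BT.node (nat_lit 7587200) (BT.node (nat_lit 7587136) (BT.leaf (nat_lit 24538389)) (BT.leaf (nat_lit 24538393))) (BT.node (nat_lit 7587264) (BT.leaf (nat_lit 34012437)) (BT.leaf (nat_lit 34114329)))) (BT.node (nat_lit 7587456) (BT.node (nat_lit 7587392) (BT.leaf (nat_lit 28434449)) (BT.leaf (nat_lit 34011925))) (BT.node (nat_lit 7587520) (BT.leaf (nat_lit 34114313)) (BT.leaf (nat_lit 26954773))))))))) (BT.node (nat_lit 7591680) (BT.node (nat_lit 7589632) (BT.node (nat_lit 7588608) (BT.node (nat_lit 7588096) (BT.node (nat_lit 7587840) (BT.node (nat_lit 7587712) (BT.node (nat_lit 7587648) (BT.leaf (nat_lit 40046865)) (BT.leaf (nat_lit 47480857))) (BT.node (nat_lit 7587776) (BT.leaf (nat_lit 40197653)) (BT.leaf (nat_lit 28760329)))) (BT.node (nat_lit 7587968) (BT.node (nat_lit 7587904) (BT.leaf (nat_lit 40046361)) (BT.leaf (nat_lit 23476753))) (BT.node (nat_lit 7588032) (BT.leaf (nat_lit 33882885)) (BT.leaf (nat_lit 32081161))))) (BT.node (nat_lit 7588352) (BT.node (nat_lit 7588224) (BT.node (nat_lit 7588160) (BT.leaf (nat_lit 37455641)) (BT.leaf (nat_lit 37455645))) (BT.node (nat_lit 7588288) (BT.leaf (nat_lit 24829717)) (BT.leaf (nat_lit 23744785)))) (BT.node (nat_lit 7588480) (BT.node (nat_lit 7588416) (BT.leaf (nat_lit 29226513)) (BT.leaf (nat_lit 29583121))) (BT.node (nat_lit 7588544) (BT.leaf (nat_lit 47996689)) (BT.leaf (nat_lit 41754137)))))) (BT.node (nat_lit 7589120) (BT.node (nat_lit 7588864) (BT.node (nat_lit 7588736) (BT.node (nat_lit 7588672) (BT.leaf (nat_lit 37037593)) (BT.leaf (nat_lit 38433285))) (BT.node (nat_lit 7588800) (BT.leaf (nat_lit 23478801)) (BT.leaf (nat_lit 23478545)))) (BT.node (nat_lit 7588992) (BT.node (nat_lit 7588928) (BT.leaf (nat_lit 29983009)) (BT.leaf (nat_lit 33915413))) (BT.node (nat_lit 7589056) (BT.leaf (nat_lit 34166041)) (BT.leaf (nat_lit 30455569))))) (BT.node (nat_lit 7589376) (BT.node (nat_lit 7589248) (BT.node (nat_lit 7589184) (BT.leaf (nat_lit 34085149)) (BT.leaf (nat_lit 23479565))) (BT.node (nat_lit 7589312) (BT.leaf (nat_lit 23479561)) (BT.leaf (nat_lit 33754373)))) (BT.node (nat_lit 7589504) (BT.node (nat_lit 7589440) (BT.leaf (nat_lit 27980037)) (BT.leaf (nat_lit 28577029))) (BT.node (nat_lit 7589568) (BT.leaf (nat_lit 23826209)) (BT.leaf (nat_lit 50781969))))))) (BT.node (nat_lit 7590656) (BT.node (nat_lit 7590144) (BT.node (nat_lit 7589888) (BT.node (nat_lit 7589760) (BT.node (nat_lit 7589696) (BT.leaf (nat_lit 41757201)) (BT.leaf (nat_lit 47999761))) (BT.node (nat_lit 7589824) (BT.leaf (nat_lit 38352925)) (BT.leaf (nat_lit 24329761)))) (BT.node (nat_lit 7590016) (BT.node (nat_lit 7589952) (BT.leaf (nat_lit 34853137)) (BT.leaf (nat_lit 28727825))) (BT.node (nat_lit 7590080) (BT.leaf (nat_lit 47122969)) (BT.leaf (nat_lit 35157025))))) (BT.node (nat_lit 7590400) (BT.node (nat_lit 7590272) (BT.node (nat_lit 7590208) (BT.leaf (nat_lit 37945617)) (BT.leaf (nat_lit 23692573))) (BT.node (nat_lit 7590336) (BT.leaf (nat_lit 50497569)) (BT.leaf (nat_lit 23989021)))) (BT.node (nat_lit 7590528) (BT.node (nat_lit 7590464) (BT.leaf (nat_lit 52380425)) (BT.leaf (nat_lit 31682321))) (BT.node (nat_lit 7590592) (BT.leaf (nat_lit 23480337)) (BT.leaf (nat_lit 23480341)))))) (BT.node (nat_lit 7591168) (BT.node (nat_lit 7590912) (BT.node (nat_lit 7590784) (BT.node (nat_lit 7590720) (BT.leaf (nat_lit 34085129)) (BT.leaf (nat_lit 47975705))) (BT.node (nat_lit 7590848) (BT.leaf (nat_lit 25414173)) (BT.leaf (nat_lit 34374937)))) (BT.node (nat_lit 7591040) (BT.node (nat_lit 7590976) (BT.leaf (nat_lit 30863649)) (BT.leaf (nat_lit 24289045))) (BT.node (nat_lit 7591104) (BT.leaf (nat_lit 23481117)) (BT.leaf (nat_lit 25567773))))) (BT.node (nat_lit 7591424) (BT.node (nat_lit 7591296) (BT.node (nat_lit 7591232) (BT.leaf (nat_lit 23481113)) (BT.leaf (nat_lit 24081941))) (BT.node (nat_lit 7591360) (BT.leaf (nat_lit 48003857)) (BT.leaf (nat_lit 42443805)))) (BT.node (nat_lit 7591552) (BT.node (nat_lit 7591488) (BT.leaf (nat_lit 48004117)) (BT.leaf (nat_lit 47066653))) (BT.node (nat_lit 7591616) (BT.leaf (nat_lit 49508129)) (BT.leaf (nat_lit 41313557)))))))) (BT.node (nat_lit 7593728) (BT.node (nat_lit 7592704) (BT.node (nat_lit 7592192) (BT.node (nat_lit 7591936) (BT.node (nat_lit 7591808) (BT.node (nat_lit 7591744) (BT.leaf (nat_lit 42630157)) (BT.leaf (nat_lit 24820501))) (BT.node (nat_lit 7591872) (BT.leaf (nat_lit 26423057)) (BT.leaf (nat_lit 41313565)))) (BT.node (nat_lit 7592064) (BT.node (nat_lit 7592000) (BT.leaf (nat_lit 48006417)) (BT.leaf (nat_lit 47792669))) (BT.node (nat_lit 7592128) (BT.leaf (nat_lit 24329749)) (BT.leaf (nat_lit 47792649))))) (BT.node (nat_lit 7592448) (BT.node (nat_lit 7592320) (BT.node (nat_lit 7592256) (BT.leaf (nat_lit 46353157)) (BT.leaf (nat_lit 40879365))) (BT.node (nat_lit 7592384) (BT.leaf (nat_lit 48008469)) (BT.leaf (nat_lit 33946129)))) (BT.node (nat_lit 7592576) (BT.node (nat_lit 7592512) (BT.leaf (nat_lit 48008201)) (BT.leaf (nat_lit 24329753))) (BT.node (nat_lit 7592640) (BT.leaf (nat_lit 24329757)) (BT.leaf (nat_lit 31193861)))))) (BT.node (nat_lit 7593216) (BT.node (nat_lit 7592960) (BT.node (nat_lit 7592832) (BT.node (nat_lit 7592768) (BT.leaf (nat_lit 24534293)) (BT.leaf (nat_lit 35374625))) (BT.node (nat_lit 7592896) (BT.leaf (nat_lit 24534549)) (BT.leaf (nat_lit 48009989)))) (BT.node (nat_lit 7593088) (BT.node (nat_lit 7593024) (BT.leaf (nat_lit 48010245)) (BT.leaf (nat_lit 34119701))) (BT.node (nat_lit 7593152) (BT.leaf (nat_lit 28065297)) (BT.leaf (nat_lit 23801113))))) (BT.node (nat_lit 7593472) (BT.node (nat_lit 7593344) (BT.node (nat_lit 7593280) (BT.leaf (nat_lit 48011297)) (BT.leaf (nat_lit 42165789))) (BT.node (nat_lit 7593408) (BT.leaf (nat_lit 42165769)) (BT.leaf (nat_lit 48011553)))) (BT.node (nat_lit 7593600) (BT.node (nat_lit 7593536) (BT.leaf (nat_lit 48011797)) (BT.leaf (nat_lit 24780305))) (BT.node (nat_lit 7593664) (BT.leaf (nat_lit 24780309)) (BT.leaf (nat_lit 23485969))))))) (BT.node (nat_lit 7594752) (BT.node (nat_lit 7594240) (BT.node (nat_lit 7593984) (BT.node (nat_lit 7593856) (BT.node (nat_lit 7593792) (BT.leaf (nat_lit 23485457)) (BT.leaf (nat_lit 23555849))) (BT.node (nat_lit 7593920) (BT.leaf (nat_lit 47987205)) (BT.leaf (nat_lit 47998729)))) (BT.node (nat_lit 7594112) (BT.node (nat_lit 7594048) (BT.leaf (nat_lit 23555869)) (BT.leaf (nat_lit 23555873))) (BT.node (nat_lit 7594176) (BT.leaf (nat_lit 34489093)) (BT.leaf (nat_lit 30666529))))) (BT.node (nat_lit 7594496) (BT.node (nat_lit 7594368) (BT.node (nat_lit 7594304) (BT.leaf (nat_lit 25720849)) (BT.leaf (nat_lit 31201057))) (BT.node (nat_lit 7594432) (BT.leaf (nat_lit 48178205)) (BT.leaf (nat_lit 23486737)))) (BT.node (nat_lit 7594624) (BT.node (nat_lit 7594560) (BT.leaf (nat_lit 41970209)) (BT.leaf (nat_lit 38892065))) (BT.node (nat_lit 7594688) (BT.leaf (nat_lit 51311629)) (BT.leaf (nat_lit 33274641)))))) (BT.node (nat_lit 7595264) (BT.node (nat_lit 7595008) (BT.node (nat_lit 7594880) (BT.node (nat_lit 7594816) (BT.leaf (nat_lit 33274897)) (BT.leaf (nat_lit 34554629))) (BT.node (nat_lit 7594944) (BT.leaf (nat_lit 23469849)) (BT.leaf (nat_lit 29134101)))) (BT.node (nat_lit 7595136) (BT.node (nat_lit 7595072) (BT.leaf (nat_lit 23489033)) (BT.leaf (nat_lit 23860513))) (BT.node (nat_lit 7595200) (BT.leaf (nat_lit 23489037)) (BT.leaf (nat_lit 23489053))))) (BT.node (nat_lit 7595520) (BT.node (nat_lit 7595392) (BT.node (nat_lit 7595328) (BT.leaf (nat_lit 23489049)) (BT.leaf (nat_lit 48016657))) (BT.node (nat_lit 7595456) (BT.leaf (nat_lit 47725849)) (BT.leaf (nat_lit 37433109)))) (BT.node (nat_lit 7595648) (BT.node (nat_lit 7595584) (BT.leaf (nat_lit 33532693)) (BT.leaf (nat_lit 38180129))) (BT.node (nat_lit 7595712) (BT.leaf (nat_lit 38039321)) (BT.leaf (nat_lit 48017693)))))))))))))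
noncomputable def big0_e51200 : BT Nat := (BT.node (nat_lit 7661184) (BT.node (nat_lit 7628608) (BT.node (nat_lit 7612224) (BT.node (nat_lit 7603968) (BT.node (nat_lit 7599872) (BT.node (nat_lit 7597824) (BT.node (nat_lit 7596800) (BT.node (nat_lit 7596288) (BT.node (nat_lit 7596032) (BT.node (nat_lit 7595904) (BT.node (nat_lit 7595840) (BT.leaf (nat_lit 47852829)) (BT.leaf (nat_lit 25435401))) (BT.node (nat_lit 7595968) (BT.leaf (nat_lit 23983133)) (BT.leaf (nat_lit 23281945)))) (BT.node (nat_lit 7596160) (BT.node (nat_lit 7596096) (BT.leaf (nat_lit 23982613)) (BT.leaf (nat_lit 24995613))) (BT.node (nat_lit 7596224) (BT.leaf (nat_lit 27897093)) (BT.leaf (nat_lit 23982341))))) (BT.node (nat_lit 7596544) (BT.node (nat_lit 7596416) (BT.node (nat_lit 7596352) (BT.leaf (nat_lit 23491601)) (BT.leaf (nat_lit 23491345))) (BT.node (nat_lit 7596480) (BT.leaf (nat_lit 23982357)) (BT.leaf (nat_lit 23982361)))) (BT.node (nat_lit 7596672) (BT.node (nat_lit 7596608) (BT.leaf (nat_lit 23491089)) (BT.leaf (nat_lit 23491093))) (BT.node (nat_lit 7596736) (BT.leaf (nat_lit 24461837)) (BT.leaf (nat_lit 30528529)))))) (BT.node (nat_lit 7597312) (BT.node (nat_lit 7597056) (BT.node (nat_lit 7596928) (BT.node (nat_lit 7596864) (BT.leaf (nat_lit 23492369)) (BT.leaf (nat_lit 23492113))) (BT.node (nat_lit 7596992) (BT.leaf (nat_lit 23981321)) (BT.leaf (nat_lit 48675861)))) (BT.node (nat_lit 7597184) (BT.node (nat_lit 7597120) (BT.leaf (nat_lit 34756885)) (BT.leaf (nat_lit 23975949))) (BT.node (nat_lit 7597248) (BT.leaf (nat_lit 24749345)) (BT.leaf (nat_lit 48018465))))) (BT.node (nat_lit 7597568) (BT.node (nat_lit 7597440) (BT.node (nat_lit 7597376) (BT.leaf (nat_lit 48018721)) (BT.leaf (nat_lit 24595981))) (BT.node (nat_lit 7597504) (BT.leaf (nat_lit 25439253)) (BT.leaf (nat_lit 31066381)))) (BT.node (nat_lit 7597696) (BT.node (nat_lit 7597632) (BT.leaf (nat_lit 48020245)) (BT.leaf (nat_lit 23492889))) (BT.node (nat_lit 7597760) (BT.leaf (nat_lit 23493149)) (BT.leaf (nat_lit 36889121))))))) (BT.node (nat_lit 7598848) (BT.node (nat_lit 7598336) (BT.node (nat_lit 7598080) (BT.node (nat_lit 7597952) (BT.node (nat_lit 7597888) (BT.leaf (nat_lit 27315229)) (BT.leaf (nat_lit 25513749))) (BT.node (nat_lit 7598016) (BT.leaf (nat_lit 23493145)) (BT.leaf (nat_lit 32767513)))) (BT.node (nat_lit 7598208) (BT.node (nat_lit 7598144) (BT.leaf (nat_lit 37646621)) (BT.leaf (nat_lit 31642117))) (BT.node (nat_lit 7598272) (BT.leaf (nat_lit 23493893)) (BT.leaf (nat_lit 29462281))))) (BT.node (nat_lit 7598592) (BT.node (nat_lit 7598464) (BT.node (nat_lit 7598400) (BT.leaf (nat_lit 27250969)) (BT.leaf (nat_lit 34130973))) (BT.node (nat_lit 7598528) (BT.leaf (nat_lit 34130717)) (BT.leaf (nat_lit 27385617)))) (BT.node (nat_lit 7598720) (BT.node (nat_lit 7598656) (BT.leaf (nat_lit 25904657)) (BT.leaf (nat_lit 23493649))) (BT.node (nat_lit 7598784) (BT.leaf (nat_lit 30074649)) (BT.leaf (nat_lit 30074653)))))) (BT.node (nat_lit 7599360) (BT.node (nat_lit 7599104) (BT.node (nat_lit 7598976) (BT.node (nat_lit 7598912) (BT.leaf (nat_lit 32383773)) (BT.leaf (nat_lit 26926101))) (BT.node (nat_lit 7599040) (BT.leaf (nat_lit 29892877)) (BT.leaf (nat_lit 42663949)))) (BT.node (nat_lit 7599232) (BT.node (nat_lit 7599168) (BT.leaf (nat_lit 48021525)) (BT.leaf (nat_lit 23496209))) (BT.node (nat_lit 7599296) (BT.leaf (nat_lit 23495953)) (BT.leaf (nat_lit 23820313))))) (BT.node (nat_lit 7599616) (BT.node (nat_lit 7599488) (BT.node (nat_lit 7599424) (BT.leaf (nat_lit 30070041)) (BT.leaf (nat_lit 37781025))) (BT.node (nat_lit 7599552) (BT.leaf (nat_lit 23493909)) (BT.leaf (nat_lit 28567569)))) (BT.node (nat_lit 7599744) (BT.node (nat_lit 7599680) (BT.leaf (nat_lit 37204497)) (BT.leaf (nat_lit 23489565))) (BT.node (nat_lit 7599808) (BT.leaf (nat_lit 50494997)) (BT.leaf (nat_lit 48979221)))))))) (BT.node (nat_lit 7601920) (BT.node (nat_lit 7600896) (BT.node (nat_lit 7600384) (BT.node (nat_lit 7600128) (BT.node (nat_lit 7600000) (BT.node (nat_lit 7599936) (BT.leaf (nat_lit 23496721)) (BT.leaf (nat_lit 32298773))) (BT.node (nat_lit 7600064) (BT.leaf (nat_lit 52216353)) (BT.leaf (nat_lit 31127569)))) (BT.node (nat_lit 7600256) (BT.node (nat_lit 7600192) (BT.leaf (nat_lit 32290077)) (BT.leaf (nat_lit 37700885))) (BT.node (nat_lit 7600320) (BT.leaf (nat_lit 48023585)) (BT.leaf (nat_lit 48024085))))) (BT.node (nat_lit 7600640) (BT.node (nat_lit 7600512) (BT.node (nat_lit 7600448) (BT.leaf (nat_lit 48024337)) (BT.leaf (nat_lit 37204493))) (BT.node (nat_lit 7600576) (BT.leaf (nat_lit 34053405)) (BT.leaf (nat_lit 23778837)))) (BT.node (nat_lit 7600768) (BT.node (nat_lit 7600704) (BT.leaf (nat_lit 32521221)) (BT.leaf (nat_lit 28175889))) (BT.node (nat_lit 7600832) (BT.leaf (nat_lit 34432785)) (BT.leaf (nat_lit 43621133)))))) (BT.node (nat_lit 7601408) (BT.node (nat_lit 7601152) (BT.node (nat_lit 7601024) (BT.node (nat_lit 7600960) (BT.leaf (nat_lit 35389193)) (BT.leaf (nat_lit 39029781))) (BT.node (nat_lit 7601088) (BT.leaf (nat_lit 48026129)) (BT.leaf (nat_lit 42683909)))) (BT.node (nat_lit 7601280) (BT.node (nat_lit 7601216) (BT.leaf (nat_lit 23793421)) (BT.leaf (nat_lit 27777297))) (BT.node (nat_lit 7601344) (BT.leaf (nat_lit 38546193)) (BT.leaf (nat_lit 27777049))))) (BT.node (nat_lit 7601664) (BT.node (nat_lit 7601536) (BT.node (nat_lit 7601472) (BT.leaf (nat_lit 27777053)) (BT.leaf (nat_lit 35626521))) (BT.node (nat_lit 7601600) (BT.leaf (nat_lit 27824149)) (BT.leaf (nat_lit 23844117)))) (BT.node (nat_lit 7601792) (BT.node (nat_lit 7601728) (BT.leaf (nat_lit 31931397)) (BT.leaf (nat_lit 24516125))) (BT.node (nat_lit 7601856) (BT.leaf (nat_lit 24516121)) (BT.leaf (nat_lit 35353621))))))) (BT.node (nat_lit 7602944) (BT.node (nat_lit 7602432) (BT.node (nat_lit 7602176) (BT.node (nat_lit 7602048) (BT.node (nat_lit 7601984) (BT.leaf (nat_lit 48027405)) (BT.leaf (nat_lit 48027669))) (BT.node (nat_lit 7602112) (BT.leaf (nat_lit 34709265)) (BT.leaf (nat_lit 48028177)))) (BT.node (nat_lit 7602304) (BT.node (nat_lit 7602240) (BT.leaf (nat_lit 33739797)) (BT.leaf (nat_lit 26481429))) (BT.node (nat_lit 7602368) (BT.leaf (nat_lit 27655185)) (BT.leaf (nat_lit 32352789))))) (BT.node (nat_lit 7602688) (BT.node (nat_lit 7602560) (BT.node (nat_lit 7602496) (BT.leaf (nat_lit 48028953)) (BT.leaf (nat_lit 39921673))) (BT.node (nat_lit 7602624) (BT.leaf (nat_lit 47150609)) (BT.leaf (nat_lit 47988997)))) (BT.node (nat_lit 7602816) (BT.node (nat_lit 7602752) (BT.leaf (nat_lit 31565073)) (BT.leaf (nat_lit 30410777))) (BT.node (nat_lit 7602880) (BT.leaf (nat_lit 30774545)) (BT.leaf (nat_lit 39044101)))))) (BT.node (nat_lit 7603456) (BT.node (nat_lit 7603200) (BT.node (nat_lit 7603072) (BT.node (nat_lit 7603008) (BT.leaf (nat_lit 23323425)) (BT.leaf (nat_lit 23471377))) (BT.node (nat_lit 7603136) (BT.leaf (nat_lit 40278817)) (BT.leaf (nat_lit 48733197)))) (BT.node (nat_lit 7603328) (BT.node (nat_lit 7603264) (BT.leaf (nat_lit 23502101)) (BT.leaf (nat_lit 31134473))) (BT.node (nat_lit 7603392) (BT.leaf (nat_lit 30404889)) (BT.leaf (nat_lit 30405653))))) (BT.node (nat_lit 7603712) (BT.node (nat_lit 7603584) (BT.node (nat_lit 7603520) (BT.leaf (nat_lit 42438161)) (BT.leaf (nat_lit 34137117))) (BT.node (nat_lit 7603648) (BT.leaf (nat_lit 23502097)) (BT.leaf (nat_lit 32592929)))) (BT.node (nat_lit 7603840) (BT.node (nat_lit 7603776) (BT.leaf (nat_lit 30405149)) (BT.leaf (nat_lit 34870809))) (BT.node (nat_lit 7603904) (BT.leaf (nat_lit 23502609)) (BT.leaf (nat_lit 24729369))))))))) (BT.node (nat_lit 7608128) (BT.node (nat_lit 7606080) (BT.node (nat_lit 7605056) (BT.node (nat_lit 7604480) (BT.node (nat_lit 7604224) (BT.node (nat_lit 7604096) (BT.node (nat_lit 7604032) (BT.leaf (nat_lit 30407453)) (BT.leaf (nat_lit 32595233))) (BT.node (nat_lit 7604160) (BT.leaf (nat_lit 24586517)) (BT.leaf (nat_lit 36162833)))) (BT.node (nat_lit 7604352) (BT.node (nat_lit 7604288) (BT.leaf (nat_lit 24587041)) (BT.leaf (nat_lit 24587013))) (BT.node (nat_lit 7604416) (BT.leaf (nat_lit 48034333)) (BT.leaf (nat_lit 42705673))))) (BT.node (nat_lit 7604800) (BT.node (nat_lit 7604608) (BT.node (nat_lit 7604544) (BT.leaf (nat_lit 44993285)) (BT.leaf (nat_lit 46581525))) (BT.node (nat_lit 7604736) (BT.leaf (nat_lit 46581509)) (BT.leaf (nat_lit 23505169)))) (BT.node (nat_lit 7604928) (BT.node (nat_lit 7604864) (BT.leaf (nat_lit 42462497)) (BT.leaf (nat_lit 26467861))) (BT.node (nat_lit 7604992) (BT.leaf (nat_lit 24654617)) (BT.leaf (nat_lit 28612889)))))) (BT.node (nat_lit 7605568) (BT.node (nat_lit 7605312) (BT.node (nat_lit 7605184) (BT.node (nat_lit 7605120) (BT.leaf (nat_lit 35194145)) (BT.leaf (nat_lit 29573137))) (BT.node (nat_lit 7605248) (BT.leaf (nat_lit 30777877)) (BT.leaf (nat_lit 30889221)))) (BT.node (nat_lit 7605440) (BT.node (nat_lit 7605376) (BT.leaf (nat_lit 27816469)) (BT.leaf (nat_lit 30341381))) (BT.node (nat_lit 7605504) (BT.leaf (nat_lit 30421529)) (BT.leaf (nat_lit 30409241))))) (BT.node (nat_lit 7605824) (BT.node (nat_lit 7605696) (BT.node (nat_lit 7605632) (BT.leaf (nat_lit 38648349)) (BT.leaf (nat_lit 23787541))) (BT.node (nat_lit 7605760) (BT.leaf (nat_lit 24659461)) (BT.leaf (nat_lit 30288145)))) (BT.node (nat_lit 7605952) (BT.node (nat_lit 7605888) (BT.leaf (nat_lit 30084373)) (BT.leaf (nat_lit 30280465))) (BT.node (nat_lit 7606016) (BT.leaf (nat_lit 43480081)) (BT.leaf (nat_lit 39287573))))))) (BT.node (nat_lit 7607104) (BT.node (nat_lit 7606592) (BT.node (nat_lit 7606336) (BT.node (nat_lit 7606208) (BT.node (nat_lit 7606144) (BT.leaf (nat_lit 31927045)) (BT.leaf (nat_lit 30270233))) (BT.node (nat_lit 7606272) (BT.leaf (nat_lit 30270237)) (BT.leaf (nat_lit 30425373)))) (BT.node (nat_lit 7606464) (BT.node (nat_lit 7606400) (BT.leaf (nat_lit 48040209)) (BT.leaf (nat_lit 31085845))) (BT.node (nat_lit 7606528) (BT.leaf (nat_lit 23505681)) (BT.leaf (nat_lit 45992453))))) (BT.node (nat_lit 7606848) (BT.node (nat_lit 7606720) (BT.node (nat_lit 7606656) (BT.leaf (nat_lit 31567385)) (BT.leaf (nat_lit 24836377))) (BT.node (nat_lit 7606784) (BT.leaf (nat_lit 47037189)) (BT.leaf (nat_lit 29441049)))) (BT.node (nat_lit 7606976) (BT.node (nat_lit 7606912) (BT.leaf (nat_lit 48041233)) (BT.leaf (nat_lit 48041477))) (BT.node (nat_lit 7607040) (BT.leaf (nat_lit 42729733)) (BT.leaf (nat_lit 41525509)))))) (BT.node (nat_lit 7607616) (BT.node (nat_lit 7607360) (BT.node (nat_lit 7607232) (BT.node (nat_lit 7607168) (BT.leaf (nat_lit 35251469)) (BT.leaf (nat_lit 30284321))) (BT.node (nat_lit 7607296) (BT.leaf (nat_lit 26700313)) (BT.leaf (nat_lit 33027589)))) (BT.node (nat_lit 7607488) (BT.node (nat_lit 7607424) (BT.leaf (nat_lit 23506961)) (BT.leaf (nat_lit 27361057))) (BT.node (nat_lit 7607552) (BT.leaf (nat_lit 23507733)) (BT.leaf (nat_lit 48043297))))) (BT.node (nat_lit 7607872) (BT.node (nat_lit 7607744) (BT.node (nat_lit 7607680) (BT.leaf (nat_lit 32857621)) (BT.leaf (nat_lit 36273429))) (BT.node (nat_lit 7607808) (BT.leaf (nat_lit 26200089)) (BT.leaf (nat_lit 23507993)))) (BT.node (nat_lit 7608000) (BT.node (nat_lit 7607936) (BT.leaf (nat_lit 23508249)) (BT.leaf (nat_lit 45745433))) (BT.node (nat_lit 7608064) (BT.leaf (nat_lit 23507997)) (BT.leaf (nat_lit 23508253)))))))) (BT.node (nat_lit 7610176) (BT.node (nat_lit 7609152) (BT.node (nat_lit 7608640) (BT.node (nat_lit 7608384) (BT.node (nat_lit 7608256) (BT.node (nat_lit 7608192) (BT.leaf (nat_lit 32930321)) (BT.leaf (nat_lit 28826397))) (BT.node (nat_lit 7608320) (BT.leaf (nat_lit 31932193)) (BT.leaf (nat_lit 23796493)))) (BT.node (nat_lit 7608512) (BT.node (nat_lit 7608448) (BT.leaf (nat_lit 23506717)) (BT.leaf (nat_lit 28110881))) (BT.node (nat_lit 7608576) (BT.leaf (nat_lit 46576417)) (BT.leaf (nat_lit 30440713))))) (BT.node (nat_lit 7608896) (BT.node (nat_lit 7608768) (BT.node (nat_lit 7608704) (BT.leaf (nat_lit 23509009)) (BT.leaf (nat_lit 34871073))) (BT.node (nat_lit 7608832) (BT.leaf (nat_lit 42759957)) (BT.leaf (nat_lit 35197985)))) (BT.node (nat_lit 7609024) (BT.node (nat_lit 7608960) (BT.leaf (nat_lit 48044565)) (BT.leaf (nat_lit 38869009))) (BT.node (nat_lit 7609088) (BT.leaf (nat_lit 33290529)) (BT.leaf (nat_lit 28140065)))))) (BT.node (nat_lit 7609664) (BT.node (nat_lit 7609408) (BT.node (nat_lit 7609280) (BT.node (nat_lit 7609216) (BT.leaf (nat_lit 24663841)) (BT.leaf (nat_lit 25600277))) (BT.node (nat_lit 7609344) (BT.leaf (nat_lit 23796505)) (BT.leaf (nat_lit 23796509)))) (BT.node (nat_lit 7609536) (BT.node (nat_lit 7609472) (BT.leaf (nat_lit 29771809)) (BT.leaf (nat_lit 27395617))) (BT.node (nat_lit 7609600) (BT.leaf (nat_lit 29771289)) (BT.leaf (nat_lit 40572677))))) (BT.node (nat_lit 7609920) (BT.node (nat_lit 7609792) (BT.node (nat_lit 7609728) (BT.leaf (nat_lit 28303897)) (BT.leaf (nat_lit 42735109))) (BT.node (nat_lit 7609856) (BT.leaf (nat_lit 42757661)) (BT.leaf (nat_lit 23509277)))) (BT.node (nat_lit 7610048) (BT.node (nat_lit 7609984) (BT.leaf (nat_lit 38869025)) (BT.leaf (nat_lit 42061333))) (BT.node (nat_lit 7610112) (BT.leaf (nat_lit 23509273)) (BT.leaf (nat_lit 30781473))))))) (BT.node (nat_lit 7611200) (BT.node (nat_lit 7610688) (BT.node (nat_lit 7610432) (BT.node (nat_lit 7610304) (BT.node (nat_lit 7610240) (BT.leaf (nat_lit 43463957)) (BT.leaf (nat_lit 30783245))) (BT.node (nat_lit 7610368) (BT.leaf (nat_lit 29438233)) (BT.leaf (nat_lit 42752261)))) (BT.node (nat_lit 7610560) (BT.node (nat_lit 7610496) (BT.leaf (nat_lit 48047877)) (BT.leaf (nat_lit 23396893))) (BT.node (nat_lit 7610624) (BT.leaf (nat_lit 48048161)) (BT.leaf (nat_lit 31115285))))) (BT.node (nat_lit 7610944) (BT.node (nat_lit 7610816) (BT.node (nat_lit 7610752) (BT.leaf (nat_lit 24836869)) (BT.leaf (nat_lit 24836881))) (BT.node (nat_lit 7610880) (BT.leaf (nat_lit 32845341)) (BT.leaf (nat_lit 24002317)))) (BT.node (nat_lit 7611072) (BT.node (nat_lit 7611008) (BT.leaf (nat_lit 27482377)) (BT.leaf (nat_lit 35346453))) (BT.node (nat_lit 7611136) (BT.leaf (nat_lit 25445137)) (BT.leaf (nat_lit 48049429)))))) (BT.node (nat_lit 7611712) (BT.node (nat_lit 7611456) (BT.node (nat_lit 7611328) (BT.node (nat_lit 7611264) (BT.leaf (nat_lit 29694469)) (BT.leaf (nat_lit 34880021))) (BT.node (nat_lit 7611392) (BT.leaf (nat_lit 50936853)) (BT.leaf (nat_lit 31935765)))) (BT.node (nat_lit 7611584) (BT.node (nat_lit 7611520) (BT.leaf (nat_lit 24566033)) (BT.leaf (nat_lit 31254549))) (BT.node (nat_lit 7611648) (BT.leaf (nat_lit 28740889)) (BT.leaf (nat_lit 28740893))))) (BT.node (nat_lit 7611968) (BT.node (nat_lit 7611840) (BT.node (nat_lit 7611776) (BT.leaf (nat_lit 22844433)) (BT.leaf (nat_lit 28353557))) (BT.node (nat_lit 7611904) (BT.leaf (nat_lit 47896329)) (BT.leaf (nat_lit 48051489)))) (BT.node (nat_lit 7612096) (BT.node (nat_lit 7612032) (BT.leaf (nat_lit 48052001)) (BT.leaf (nat_lit 25448213))) (BT.node (nat_lit 7612160) (BT.leaf (nat_lit 34976277)) (BT.leaf (nat_lit 24669209)))))))))) (BT.node (nat_lit 7620416) (BT.node (nat_lit 7616320) (BT.node (nat_lit 7614272) (BT.node (nat_lit 7613248) (BT.node (nat_lit 7612736) (BT.node (nat_lit 7612480) (BT.node (nat_lit 7612352) (BT.node (nat_lit 7612288) (BT.leaf (nat_lit 23515929)) (BT.leaf (nat_lit 28386325))) (BT.node (nat_lit 7612416) (BT.leaf (nat_lit 23516957)) (BT.leaf (nat_lit 23515933)))) (BT.node (nat_lit 7612608) (BT.node (nat_lit 7612544) (BT.leaf (nat_lit 23516953)) (BT.leaf (nat_lit 24559109))) (BT.node (nat_lit 7612672) (BT.leaf (nat_lit 23516189)) (BT.leaf (nat_lit 24559125))))) (BT.node (nat_lit 7612992) (BT.node (nat_lit 7612864) (BT.node (nat_lit 7612800) (BT.leaf (nat_lit 48053261)) (BT.leaf (nat_lit 48053525))) (BT.node (nat_lit 7612928) (BT.leaf (nat_lit 48053781)) (BT.leaf (nat_lit 48053765)))) (BT.node (nat_lit 7613120) (BT.node (nat_lit 7613056) (BT.leaf (nat_lit 24032281)) (BT.leaf (nat_lit 24032285))) (BT.node (nat_lit 7613184) (BT.leaf (nat_lit 23520785)) (BT.leaf (nat_lit 48054549)))))) (BT.node (nat_lit 7613760) (BT.node (nat_lit 7613504) (BT.node (nat_lit 7613376) (BT.node (nat_lit 7613312) (BT.leaf (nat_lit 51010577)) (BT.leaf (nat_lit 28498201))) (BT.node (nat_lit 7613440) (BT.leaf (nat_lit 28498205)) (BT.leaf (nat_lit 23521297)))) (BT.node (nat_lit 7613632) (BT.node (nat_lit 7613568) (BT.leaf (nat_lit 23522069)) (BT.leaf (nat_lit 38074377))) (BT.node (nat_lit 7613696) (BT.leaf (nat_lit 29543701)) (BT.leaf (nat_lit 38074397))))) (BT.node (nat_lit 7614016) (BT.node (nat_lit 7613888) (BT.node (nat_lit 7613824) (BT.leaf (nat_lit 37677845)) (BT.leaf (nat_lit 31106821))) (BT.node (nat_lit 7613952) (BT.leaf (nat_lit 23521821)) (BT.leaf (nat_lit 48056597)))) (BT.node (nat_lit 7614144) (BT.node (nat_lit 7614080) (BT.leaf (nat_lit 31219221)) (BT.leaf (nat_lit 34245913))) (BT.node (nat_lit 7614208) (BT.leaf (nat_lit 50495501)) (BT.leaf (nat_lit 48057093))))))) (BT.node (nat_lit 7615296) (BT.node (nat_lit 7614784) (BT.node (nat_lit 7614528) (BT.node (nat_lit 7614400) (BT.node (nat_lit 7614336) (BT.leaf (nat_lit 48057349)) (BT.leaf (nat_lit 46439957))) (BT.node (nat_lit 7614464) (BT.leaf (nat_lit 48060449)) (BT.leaf (nat_lit 48060677)))) (BT.node (nat_lit 7614656) (BT.node (nat_lit 7614592) (BT.leaf (nat_lit 49636109)) (BT.leaf (nat_lit 31781657))) (BT.node (nat_lit 7614720) (BT.leaf (nat_lit 40880137)) (BT.leaf (nat_lit 47338501))))) (BT.node (nat_lit 7615040) (BT.node (nat_lit 7614912) (BT.node (nat_lit 7614848) (BT.leaf (nat_lit 51426581)) (BT.leaf (nat_lit 23522589))) (BT.node (nat_lit 7614976) (BT.leaf (nat_lit 26483729)) (BT.leaf (nat_lit 42233097)))) (BT.node (nat_lit 7615168) (BT.node (nat_lit 7615104) (BT.leaf (nat_lit 35354377)) (BT.leaf (nat_lit 47294481))) (BT.node (nat_lit 7615232) (BT.leaf (nat_lit 25919497)) (BT.leaf (nat_lit 25919501)))))) (BT.node (nat_lit 7615808) (BT.node (nat_lit 7615552) (BT.node (nat_lit 7615424) (BT.node (nat_lit 7615360) (BT.leaf (nat_lit 47294497)) (BT.leaf (nat_lit 25919513))) (BT.node (nat_lit 7615488) (BT.leaf (nat_lit 25919517)) (BT.leaf (nat_lit 35892501)))) (BT.node (nat_lit 7615680) (BT.node (nat_lit 7615616) (BT.leaf (nat_lit 41217541)) (BT.leaf (nat_lit 23523613))) (BT.node (nat_lit 7615744) (BT.leaf (nat_lit 24204573)) (BT.leaf (nat_lit 32202773))))) (BT.node (nat_lit 7616064) (BT.node (nat_lit 7615936) (BT.node (nat_lit 7615872) (BT.leaf (nat_lit 23523609)) (BT.leaf (nat_lit 36246561))) (BT.node (nat_lit 7616000) (BT.leaf (nat_lit 30473493)) (BT.leaf (nat_lit 47922701)))) (BT.node (nat_lit 7616192) (BT.node (nat_lit 7616128) (BT.leaf (nat_lit 30216729)) (BT.leaf (nat_lit 30030097))) (BT.node (nat_lit 7616256) (BT.leaf (nat_lit 23791625)) (BT.leaf (nat_lit 30030365)))))))) (BT.node (nat_lit 7618368) (BT.node (nat_lit 7617344) (BT.node (nat_lit 7616832) (BT.node (nat_lit 7616576) (BT.node (nat_lit 7616448) (BT.node (nat_lit 7616384) (BT.leaf (nat_lit 24401673)) (BT.leaf (nat_lit 24083489))) (BT.node (nat_lit 7616512) (BT.leaf (nat_lit 47172361)) (BT.leaf (nat_lit 33841685)))) (BT.node (nat_lit 7616704) (BT.node (nat_lit 7616640) (BT.leaf (nat_lit 24208649)) (BT.leaf (nat_lit 37997601))) (BT.node (nat_lit 7616768) (BT.leaf (nat_lit 24664849)) (BT.leaf (nat_lit 24266517))))) (BT.node (nat_lit 7617088) (BT.node (nat_lit 7616960) (BT.node (nat_lit 7616896) (BT.leaf (nat_lit 24266521)) (BT.leaf (nat_lit 24266525))) (BT.node (nat_lit 7617024) (BT.leaf (nat_lit 48070933)) (BT.leaf (nat_lit 48968969)))) (BT.node (nat_lit 7617216) (BT.node (nat_lit 7617152) (BT.leaf (nat_lit 31575825)) (BT.leaf (nat_lit 24626693))) (BT.node (nat_lit 7617280) (BT.leaf (nat_lit 27578641)) (BT.leaf (nat_lit 31342877)))))) (BT.node (nat_lit 7617856) (BT.node (nat_lit 7617600) (BT.node (nat_lit 7617472) (BT.node (nat_lit 7617408) (BT.leaf (nat_lit 28505361)) (BT.leaf (nat_lit 38439941))) (BT.node (nat_lit 7617536) (BT.leaf (nat_lit 30224913)) (BT.leaf (nat_lit 24408345)))) (BT.node (nat_lit 7617728) (BT.node (nat_lit 7617664) (BT.leaf (nat_lit 30470685)) (BT.leaf (nat_lit 32414469))) (BT.node (nat_lit 7617792) (BT.leaf (nat_lit 25721877)) (BT.leaf (nat_lit 30998541))))) (BT.node (nat_lit 7618112) (BT.node (nat_lit 7617984) (BT.node (nat_lit 7617920) (BT.leaf (nat_lit 40352785)) (BT.leaf (nat_lit 23525393))) (BT.node (nat_lit 7618048) (BT.leaf (nat_lit 48071713)) (BT.leaf (nat_lit 38552333)))) (BT.node (nat_lit 7618240) (BT.node (nat_lit 7618176) (BT.leaf (nat_lit 36246801)) (BT.leaf (nat_lit 30029329))) (BT.node (nat_lit 7618304) (BT.leaf (nat_lit 48072721)) (BT.leaf (nat_lit 24512281))))))) (BT.node (nat_lit 7619392) (BT.node (nat_lit 7618880) (BT.node (nat_lit 7618624) (BT.node (nat_lit 7618496) (BT.node (nat_lit 7618432) (BT.leaf (nat_lit 31213593)) (BT.leaf (nat_lit 24027153))) (BT.node (nat_lit 7618560) (BT.leaf (nat_lit 28256785)) (BT.leaf (nat_lit 24512017)))) (BT.node (nat_lit 7618752) (BT.node (nat_lit 7618688) (BT.leaf (nat_lit 31593501)) (BT.leaf (nat_lit 23527701))) (BT.node (nat_lit 7618816) (BT.leaf (nat_lit 32480541)) (BT.leaf (nat_lit 42789385))))) (BT.node (nat_lit 7619136) (BT.node (nat_lit 7619008) (BT.node (nat_lit 7618944) (BT.leaf (nat_lit 24469777)) (BT.leaf (nat_lit 23948561))) (BT.node (nat_lit 7619072) (BT.leaf (nat_lit 23791113)) (BT.leaf (nat_lit 23791117)))) (BT.node (nat_lit 7619264) (BT.node (nat_lit 7619200) (BT.leaf (nat_lit 35311637)) (BT.leaf (nat_lit 46552601))) (BT.node (nat_lit 7619328) (BT.leaf (nat_lit 48074773)) (BT.leaf (nat_lit 48075013)))))) (BT.node (nat_lit 7619904) (BT.node (nat_lit 7619648) (BT.node (nat_lit 7619520) (BT.node (nat_lit 7619456) (BT.leaf (nat_lit 48075285)) (BT.leaf (nat_lit 29154337))) (BT.node (nat_lit 7619584) (BT.leaf (nat_lit 35311629)) (BT.leaf (nat_lit 38439945)))) (BT.node (nat_lit 7619776) (BT.node (nat_lit 7619712) (BT.leaf (nat_lit 35311621)) (BT.leaf (nat_lit 35311625))) (BT.node (nat_lit 7619840) (BT.leaf (nat_lit 35311641)) (BT.leaf (nat_lit 35311645))))) (BT.node (nat_lit 7620160) (BT.node (nat_lit 7620032) (BT.node (nat_lit 7619968) (BT.leaf (nat_lit 32940577)) (BT.leaf (nat_lit 32415009))) (BT.node (nat_lit 7620096) (BT.leaf (nat_lit 48075793)) (BT.leaf (nat_lit 37857553)))) (BT.node (nat_lit 7620288) (BT.node (nat_lit 7620224) (BT.leaf (nat_lit 42638881)) (BT.leaf (nat_lit 37857041))) (BT.node (nat_lit 7620352) (BT.leaf (nat_lit 48076813)) (BT.leaf (nat_lit 48077333))))))))) (BT.node (nat_lit 7624512) (BT.node (nat_lit 7622464) (BT.node (nat_lit 7621440) (BT.node (nat_lit 7620928) (BT.node (nat_lit 7620672) (BT.node (nat_lit 7620544) (BT.node (nat_lit 7620480) (BT.leaf (nat_lit 30918417)) (BT.leaf (nat_lit 31099169))) (BT.node (nat_lit 7620608) (BT.leaf (nat_lit 23642141)) (BT.leaf (nat_lit 30482953)))) (BT.node (nat_lit 7620800) (BT.node (nat_lit 7620736) (BT.leaf (nat_lit 31017749)) (BT.leaf (nat_lit 38705173))) (BT.node (nat_lit 7620864) (BT.leaf (nat_lit 48078101)) (BT.leaf (nat_lit 29510169))))) (BT.node (nat_lit 7621184) (BT.node (nat_lit 7621056) (BT.node (nat_lit 7620992) (BT.leaf (nat_lit 48078617)) (BT.leaf (nat_lit 23529229))) (BT.node (nat_lit 7621120) (BT.leaf (nat_lit 31112965)) (BT.leaf (nat_lit 38707989)))) (BT.node (nat_lit 7621312) (BT.node (nat_lit 7621248) (BT.leaf (nat_lit 48078869)) (BT.leaf (nat_lit 48079125))) (BT.node (nat_lit 7621376) (BT.leaf (nat_lit 32844309)) (BT.leaf (nat_lit 48080145)))))) (BT.node (nat_lit 7621952) (BT.node (nat_lit 7621696) (BT.node (nat_lit 7621568) (BT.node (nat_lit 7621504) (BT.leaf (nat_lit 32996873)) (BT.leaf (nat_lit 48080401))) (BT.node (nat_lit 7621632) (BT.leaf (nat_lit 25838357)) (BT.leaf (nat_lit 24391713)))) (BT.node (nat_lit 7621824) (BT.node (nat_lit 7621760) (BT.leaf (nat_lit 24082977)) (BT.leaf (nat_lit 24629273))) (BT.node (nat_lit 7621888) (BT.leaf (nat_lit 24082961)) (BT.leaf (nat_lit 31017997))))) (BT.node (nat_lit 7622208) (BT.node (nat_lit 7622080) (BT.node (nat_lit 7622016) (BT.leaf (nat_lit 23528989)) (BT.leaf (nat_lit 48068893))) (BT.node (nat_lit 7622144) (BT.leaf (nat_lit 46375441)) (BT.leaf (nat_lit 39389457)))) (BT.node (nat_lit 7622336) (BT.node (nat_lit 7622272) (BT.leaf (nat_lit 39387665)) (BT.leaf (nat_lit 27458077))) (BT.node (nat_lit 7622400) (BT.leaf (nat_lit 48082457)) (BT.leaf (nat_lit 34052125))))))) (BT.node (nat_lit 7623488) (BT.node (nat_lit 7622976) (BT.node (nat_lit 7622720) (BT.node (nat_lit 7622592) (BT.node (nat_lit 7622528) (BT.leaf (nat_lit 23746061)) (BT.leaf (nat_lit 30489881))) (BT.node (nat_lit 7622656) (BT.leaf (nat_lit 30095625)) (BT.leaf (nat_lit 42823445)))) (BT.node (nat_lit 7622848) (BT.node (nat_lit 7622784) (BT.leaf (nat_lit 32083205)) (BT.leaf (nat_lit 29975821))) (BT.node (nat_lit 7622912) (BT.leaf (nat_lit 50552581)) (BT.leaf (nat_lit 40907277))))) (BT.node (nat_lit 7623232) (BT.node (nat_lit 7623104) (BT.node (nat_lit 7623040) (BT.leaf (nat_lit 29804293)) (BT.leaf (nat_lit 23530269))) (BT.node (nat_lit 7623168) (BT.leaf (nat_lit 31823877)) (BT.leaf (nat_lit 23530769)))) (BT.node (nat_lit 7623360) (BT.node (nat_lit 7623296) (BT.leaf (nat_lit 30038817)) (BT.leaf (nat_lit 39344665))) (BT.node (nat_lit 7623424) (BT.leaf (nat_lit 48084501)) (BT.leaf (nat_lit 42754081)))))) (BT.node (nat_lit 7624000) (BT.node (nat_lit 7623744) (BT.node (nat_lit 7623616) (BT.node (nat_lit 7623552) (BT.leaf (nat_lit 33979653)) (BT.leaf (nat_lit 38347013))) (BT.node (nat_lit 7623680) (BT.leaf (nat_lit 23786261)) (BT.leaf (nat_lit 40552461)))) (BT.node (nat_lit 7623872) (BT.node (nat_lit 7623808) (BT.leaf (nat_lit 23531801)) (BT.leaf (nat_lit 23532057))) (BT.node (nat_lit 7623936) (BT.leaf (nat_lit 29973513)) (BT.leaf (nat_lit 33980185))))) (BT.node (nat_lit 7624256) (BT.node (nat_lit 7624128) (BT.node (nat_lit 7624064) (BT.leaf (nat_lit 35175457)) (BT.leaf (nat_lit 35175713))) (BT.node (nat_lit 7624192) (BT.leaf (nat_lit 36074757)) (BT.leaf (nat_lit 29164049)))) (BT.node (nat_lit 7624384) (BT.node (nat_lit 7624320) (BT.leaf (nat_lit 23533329)) (BT.leaf (nat_lit 30491413))) (BT.node (nat_lit 7624448) (BT.leaf (nat_lit 23779865)) (BT.leaf (nat_lit 32925973)))))))) (BT.node (nat_lit 7626560) (BT.node (nat_lit 7625536) (BT.node (nat_lit 7625024) (BT.node (nat_lit 7624768) (BT.node (nat_lit 7624640) (BT.node (nat_lit 7624576) (BT.leaf (nat_lit 35370265)) (BT.leaf (nat_lit 28302341))) (BT.node (nat_lit 7624704) (BT.leaf (nat_lit 23779869)) (BT.leaf (nat_lit 27517457)))) (BT.node (nat_lit 7624896) (BT.node (nat_lit 7624832) (BT.leaf (nat_lit 39032597)) (BT.leaf (nat_lit 39032081))) (BT.node (nat_lit 7624960) (BT.leaf (nat_lit 48088085)) (BT.leaf (nat_lit 42852897))))) (BT.node (nat_lit 7625280) (BT.node (nat_lit 7625152) (BT.node (nat_lit 7625088) (BT.leaf (nat_lit 40450849)) (BT.leaf (nat_lit 42853381))) (BT.node (nat_lit 7625216) (BT.leaf (nat_lit 38912785)) (BT.leaf (nat_lit 48088337)))) (BT.node (nat_lit 7625408) (BT.node (nat_lit 7625344) (BT.leaf (nat_lit 48088353)) (BT.leaf (nat_lit 42853397))) (BT.node (nat_lit 7625472) (BT.leaf (nat_lit 51745285)) (BT.leaf (nat_lit 50738457)))))) (BT.node (nat_lit 7626048) (BT.node (nat_lit 7625792) (BT.node (nat_lit 7625664) (BT.node (nat_lit 7625600) (BT.leaf (nat_lit 50738461)) (BT.leaf (nat_lit 32186905))) (BT.node (nat_lit 7625728) (BT.leaf (nat_lit 24403725)) (BT.leaf (nat_lit 51761161)))) (BT.node (nat_lit 7625920) (BT.node (nat_lit 7625856) (BT.leaf (nat_lit 47725321)) (BT.leaf (nat_lit 37433629))) (BT.node (nat_lit 7625984) (BT.leaf (nat_lit 42022161)) (BT.leaf (nat_lit 23535377))))) (BT.node (nat_lit 7626304) (BT.node (nat_lit 7626176) (BT.node (nat_lit 7626112) (BT.leaf (nat_lit 23365905)) (BT.leaf (nat_lit 30076701))) (BT.node (nat_lit 7626240) (BT.leaf (nat_lit 22351893)) (BT.leaf (nat_lit 46514193)))) (BT.node (nat_lit 7626432) (BT.node (nat_lit 7626368) (BT.leaf (nat_lit 29993225)) (BT.leaf (nat_lit 51447833))) (BT.node (nat_lit 7626496) (BT.leaf (nat_lit 51447837)) (BT.leaf (nat_lit 30097929))))))) (BT.node (nat_lit 7627584) (BT.node (nat_lit 7627072) (BT.node (nat_lit 7626816) (BT.node (nat_lit 7626688) (BT.node (nat_lit 7626624) (BT.leaf (nat_lit 48089877)) (BT.leaf (nat_lit 51761181))) (BT.node (nat_lit 7626752) (BT.leaf (nat_lit 31350037)) (BT.leaf (nat_lit 42861601)))) (BT.node (nat_lit 7626944) (BT.node (nat_lit 7626880) (BT.leaf (nat_lit 30381585)) (BT.leaf (nat_lit 28022029))) (BT.node (nat_lit 7627008) (BT.leaf (nat_lit 34229013)) (BT.leaf (nat_lit 48545805))))) (BT.node (nat_lit 7627328) (BT.node (nat_lit 7627200) (BT.node (nat_lit 7627136) (BT.leaf (nat_lit 47481873)) (BT.leaf (nat_lit 47481869))) (BT.node (nat_lit 7627264) (BT.leaf (nat_lit 48091153)) (BT.leaf (nat_lit 30656525)))) (BT.node (nat_lit 7627456) (BT.node (nat_lit 7627392) (BT.leaf (nat_lit 49668873)) (BT.leaf (nat_lit 31724821))) (BT.node (nat_lit 7627520) (BT.leaf (nat_lit 48092181)) (BT.leaf (nat_lit 30935309)))))) (BT.node (nat_lit 7628096) (BT.node (nat_lit 7627840) (BT.node (nat_lit 7627712) (BT.node (nat_lit 7627648) (BT.leaf (nat_lit 42865941)) (BT.leaf (nat_lit 49668881))) (BT.node (nat_lit 7627776) (BT.leaf (nat_lit 46886929)) (BT.leaf (nat_lit 46402569)))) (BT.node (nat_lit 7627968) (BT.node (nat_lit 7627904) (BT.leaf (nat_lit 39407641)) (BT.leaf (nat_lit 47737373))) (BT.node (nat_lit 7628032) (BT.leaf (nat_lit 31064073)) (BT.leaf (nat_lit 38026273))))) (BT.node (nat_lit 7628352) (BT.node (nat_lit 7628224) (BT.node (nat_lit 7628160) (BT.leaf (nat_lit 46401301)) (BT.leaf (nat_lit 28292641))) (BT.node (nat_lit 7628288) (BT.leaf (nat_lit 27464197)) (BT.leaf (nat_lit 24403741)))) (BT.node (nat_lit 7628480) (BT.node (nat_lit 7628416) (BT.leaf (nat_lit 23676945)) (BT.leaf (nat_lit 24185365))) (BT.node (nat_lit 7628544) (BT.leaf (nat_lit 38201877)) (BT.leaf (nat_lit 32016929))))))))))) (BT.node (nat_lit 7644800) (BT.node (nat_lit 7636800) (BT.node (nat_lit 7632704) (BT.node (nat_lit 7630656) (BT.node (nat_lit 7629632) (BT.node (nat_lit 7629120) (BT.node (nat_lit 7628864) (BT.node (nat_lit 7628736) (BT.node (nat_lit 7628672) (BT.leaf (nat_lit 27386645)) (BT.leaf (nat_lit 39352853))) (BT.node (nat_lit 7628800) (BT.leaf (nat_lit 23538961)) (BT.leaf (nat_lit 46696709)))) (BT.node (nat_lit 7628992) (BT.node (nat_lit 7628928) (BT.leaf (nat_lit 50501665)) (BT.leaf (nat_lit 23762973))) (BT.node (nat_lit 7629056) (BT.leaf (nat_lit 37200145)) (BT.leaf (nat_lit 23538705))))) (BT.node (nat_lit 7629376) (BT.node (nat_lit 7629248) (BT.node (nat_lit 7629184) (BT.leaf (nat_lit 31746581)) (BT.leaf (nat_lit 31746585))) (BT.node (nat_lit 7629312) (BT.leaf (nat_lit 31746589)) (BT.leaf (nat_lit 34489633)))) (BT.node (nat_lit 7629504) (BT.node (nat_lit 7629440) (BT.leaf (nat_lit 24076561)) (BT.leaf (nat_lit 25611809))) (BT.node (nat_lit 7629568) (BT.leaf (nat_lit 27554581)) (BT.leaf (nat_lit 30703893)))))) (BT.node (nat_lit 7630144) (BT.node (nat_lit 7629888) (BT.node (nat_lit 7629760) (BT.node (nat_lit 7629696) (BT.leaf (nat_lit 30703897)) (BT.leaf (nat_lit 39805985))) (BT.node (nat_lit 7629824) (BT.leaf (nat_lit 28974357)) (BT.leaf (nat_lit 32334861)))) (BT.node (nat_lit 7630016) (BT.node (nat_lit 7629952) (BT.leaf (nat_lit 32334865)) (BT.leaf (nat_lit 32334873))) (BT.node (nat_lit 7630080) (BT.leaf (nat_lit 32334881)) (BT.leaf (nat_lit 28885785))))) (BT.node (nat_lit 7630400) (BT.node (nat_lit 7630272) (BT.node (nat_lit 7630208) (BT.leaf (nat_lit 29603861)) (BT.leaf (nat_lit 46460937))) (BT.node (nat_lit 7630336) (BT.leaf (nat_lit 30704149)) (BT.leaf (nat_lit 39805961)))) (BT.node (nat_lit 7630528) (BT.node (nat_lit 7630464) (BT.leaf (nat_lit 32158981)) (BT.leaf (nat_lit 39805965))) (BT.node (nat_lit 7630592) (BT.leaf (nat_lit 32159001)) (BT.leaf (nat_lit 22352417))))))) (BT.node (nat_lit 7631680) (BT.node (nat_lit 7631168) (BT.node (nat_lit 7630912) (BT.node (nat_lit 7630784) (BT.node (nat_lit 7630720) (BT.leaf (nat_lit 46376985)) (BT.leaf (nat_lit 28644629))) (BT.node (nat_lit 7630848) (BT.leaf (nat_lit 34168865)) (BT.leaf (nat_lit 23762705)))) (BT.node (nat_lit 7631040) (BT.node (nat_lit 7630976) (BT.leaf (nat_lit 42300445)) (BT.leaf (nat_lit 27584789))) (BT.node (nat_lit 7631104) (BT.leaf (nat_lit 50895877)) (BT.leaf (nat_lit 50895893))))) (BT.node (nat_lit 7631424) (BT.node (nat_lit 7631296) (BT.node (nat_lit 7631232) (BT.leaf (nat_lit 40556057)) (BT.leaf (nat_lit 40556061))) (BT.node (nat_lit 7631360) (BT.leaf (nat_lit 27554565)) (BT.leaf (nat_lit 24878613)))) (BT.node (nat_lit 7631552) (BT.node (nat_lit 7631488) (BT.leaf (nat_lit 28170517)) (BT.leaf (nat_lit 30055445))) (BT.node (nat_lit 7631616) (BT.leaf (nat_lit 28501265)) (BT.leaf (nat_lit 48097821)))))) (BT.node (nat_lit 7632192) (BT.node (nat_lit 7631936) (BT.node (nat_lit 7631808) (BT.node (nat_lit 7631744) (BT.leaf (nat_lit 27604753)) (BT.leaf (nat_lit 48098333))) (BT.node (nat_lit 7631872) (BT.leaf (nat_lit 27763221)) (BT.leaf (nat_lit 27763225)))) (BT.node (nat_lit 7632064) (BT.node (nat_lit 7632000) (BT.leaf (nat_lit 48099345)) (BT.leaf (nat_lit 30859025))) (BT.node (nat_lit 7632128) (BT.leaf (nat_lit 28606225)) (BT.leaf (nat_lit 36243745))))) (BT.node (nat_lit 7632448) (BT.node (nat_lit 7632320) (BT.node (nat_lit 7632256) (BT.leaf (nat_lit 28605969)) (BT.leaf (nat_lit 48099589))) (BT.node (nat_lit 7632384) (BT.leaf (nat_lit 28208921)) (BT.leaf (nat_lit 29538577)))) (BT.node (nat_lit 7632576) (BT.node (nat_lit 7632512) (BT.leaf (nat_lit 36116241)) (BT.leaf (nat_lit 36116257))) (BT.node (nat_lit 7632640) (BT.leaf (nat_lit 24243997)) (BT.leaf (nat_lit 24034329)))))))) (BT.node (nat_lit 7634752) (BT.node (nat_lit 7633728) (BT.node (nat_lit 7633216) (BT.node (nat_lit 7632960) (BT.node (nat_lit 7632832) (BT.node (nat_lit 7632768) (BT.leaf (nat_lit 48100629)) (BT.leaf (nat_lit 32540177))) (BT.node (nat_lit 7632896) (BT.leaf (nat_lit 32540193)) (BT.leaf (nat_lit 24544785)))) (BT.node (nat_lit 7633088) (BT.node (nat_lit 7633024) (BT.leaf (nat_lit 24544801)) (BT.leaf (nat_lit 24614169))) (BT.node (nat_lit 7633152) (BT.leaf (nat_lit 24614173)) (BT.leaf (nat_lit 35094801))))) (BT.node (nat_lit 7633472) (BT.node (nat_lit 7633344) (BT.node (nat_lit 7633280) (BT.leaf (nat_lit 35094817)) (BT.leaf (nat_lit 24545569))) (BT.node (nat_lit 7633408) (BT.leaf (nat_lit 51657485)) (BT.leaf (nat_lit 28526101)))) (BT.node (nat_lit 7633600) (BT.node (nat_lit 7633536) (BT.leaf (nat_lit 38832905)) (BT.leaf (nat_lit 48101905))) (BT.node (nat_lit 7633664) (BT.leaf (nat_lit 24448013)) (BT.leaf (nat_lit 34949153)))))) (BT.node (nat_lit 7634240) (BT.node (nat_lit 7633984) (BT.node (nat_lit 7633856) (BT.node (nat_lit 7633792) (BT.leaf (nat_lit 33017357)) (BT.leaf (nat_lit 27651089))) (BT.node (nat_lit 7633920) (BT.leaf (nat_lit 27651093)) (BT.leaf (nat_lit 30774537)))) (BT.node (nat_lit 7634112) (BT.node (nat_lit 7634048) (BT.leaf (nat_lit 38546709)) (BT.leaf (nat_lit 27437841))) (BT.node (nat_lit 7634176) (BT.leaf (nat_lit 50044677)) (BT.leaf (nat_lit 29572385))))) (BT.node (nat_lit 7634496) (BT.node (nat_lit 7634368) (BT.node (nat_lit 7634304) (BT.leaf (nat_lit 24588057)) (BT.leaf (nat_lit 22917905))) (BT.node (nat_lit 7634432) (BT.leaf (nat_lit 23549201)) (BT.leaf (nat_lit 23547921)))) (BT.node (nat_lit 7634624) (BT.node (nat_lit 7634560) (BT.leaf (nat_lit 33738273)) (BT.leaf (nat_lit 30538509))) (BT.node (nat_lit 7634688) (BT.leaf (nat_lit 23584533)) (BT.leaf (nat_lit 48103173))))))) (BT.node (nat_lit 7635776) (BT.node (nat_lit 7635264) (BT.node (nat_lit 7635008) (BT.node (nat_lit 7634880) (BT.node (nat_lit 7634816) (BT.leaf (nat_lit 34209301)) (BT.leaf (nat_lit 24761621))) (BT.node (nat_lit 7634944) (BT.leaf (nat_lit 23550481)) (BT.leaf (nat_lit 23550225)))) (BT.node (nat_lit 7635136) (BT.node (nat_lit 7635072) (BT.leaf (nat_lit 50379781)) (BT.leaf (nat_lit 27964933))) (BT.node (nat_lit 7635200) (BT.leaf (nat_lit 23554833)) (BT.leaf (nat_lit 48900361))))) (BT.node (nat_lit 7635520) (BT.node (nat_lit 7635392) (BT.node (nat_lit 7635328) (BT.leaf (nat_lit 29395225)) (BT.leaf (nat_lit 47211297))) (BT.node (nat_lit 7635456) (BT.leaf (nat_lit 23553809)) (BT.leaf (nat_lit 32325129)))) (BT.node (nat_lit 7635648) (BT.node (nat_lit 7635584) (BT.leaf (nat_lit 46620445)) (BT.leaf (nat_lit 34166045))) (BT.node (nat_lit 7635712) (BT.leaf (nat_lit 34228501)) (BT.leaf (nat_lit 30542617)))))) (BT.node (nat_lit 7636288) (BT.node (nat_lit 7636032) (BT.node (nat_lit 7635904) (BT.node (nat_lit 7635840) (BT.leaf (nat_lit 41572373)) (BT.leaf (nat_lit 24494873))) (BT.node (nat_lit 7635968) (BT.leaf (nat_lit 28080393)) (BT.leaf (nat_lit 48106517)))) (BT.node (nat_lit 7636160) (BT.node (nat_lit 7636096) (BT.leaf (nat_lit 48290325)) (BT.leaf (nat_lit 39866901))) (BT.node (nat_lit 7636224) (BT.leaf (nat_lit 31621649)) (BT.leaf (nat_lit 48107541))))) (BT.node (nat_lit 7636544) (BT.node (nat_lit 7636416) (BT.node (nat_lit 7636352) (BT.leaf (nat_lit 24006165)) (BT.leaf (nat_lit 31107093))) (BT.node (nat_lit 7636480) (BT.leaf (nat_lit 23559445)) (BT.leaf (nat_lit 32037893)))) (BT.node (nat_lit 7636672) (BT.node (nat_lit 7636608) (BT.leaf (nat_lit 42502933)) (BT.leaf (nat_lit 34907397))) (BT.node (nat_lit 7636736) (BT.leaf (nat_lit 48108297)) (BT.leaf (nat_lit 41502725))))))))) (BT.node (nat_lit 7640896) (BT.node (nat_lit 7638848) (BT.node (nat_lit 7637824) (BT.node (nat_lit 7637312) (BT.node (nat_lit 7637056) (BT.node (nat_lit 7636928) (BT.node (nat_lit 7636864) (BT.leaf (nat_lit 30179345)) (BT.leaf (nat_lit 30549005))) (BT.node (nat_lit 7636992) (BT.leaf (nat_lit 39481121)) (BT.leaf (nat_lit 34063129)))) (BT.node (nat_lit 7637184) (BT.node (nat_lit 7637120) (BT.leaf (nat_lit 48109337)) (BT.leaf (nat_lit 24331029))) (BT.node (nat_lit 7637248) (BT.leaf (nat_lit 28916757)) (BT.leaf (nat_lit 31243285))))) (BT.node (nat_lit 7637568) (BT.node (nat_lit 7637440) (BT.node (nat_lit 7637376) (BT.leaf (nat_lit 35073285)) (BT.leaf (nat_lit 30549273))) (BT.node (nat_lit 7637504) (BT.leaf (nat_lit 46901009)) (BT.leaf (nat_lit 28915737)))) (BT.node (nat_lit 7637696) (BT.node (nat_lit 7637632) (BT.leaf (nat_lit 23969313)) (BT.leaf (nat_lit 28523013))) (BT.node (nat_lit 7637760) (BT.leaf (nat_lit 23969825)) (BT.leaf (nat_lit 34670345)))))) (BT.node (nat_lit 7638336) (BT.node (nat_lit 7638080) (BT.node (nat_lit 7637952) (BT.node (nat_lit 7637888) (BT.leaf (nat_lit 23561241)) (BT.leaf (nat_lit 43281417))) (BT.node (nat_lit 7638016) (BT.leaf (nat_lit 24178709)) (BT.leaf (nat_lit 35073297)))) (BT.node (nat_lit 7638208) (BT.node (nat_lit 7638144) (BT.leaf (nat_lit 24009745)) (BT.leaf (nat_lit 24009749))) (BT.node (nat_lit 7638272) (BT.leaf (nat_lit 48110621)) (BT.leaf (nat_lit 33632517))))) (BT.node (nat_lit 7638592) (BT.node (nat_lit 7638464) (BT.node (nat_lit 7638400) (BT.leaf (nat_lit 46529297)) (BT.leaf (nat_lit 35968285))) (BT.node (nat_lit 7638528) (BT.leaf (nat_lit 39481105)) (BT.leaf (nat_lit 35590929)))) (BT.node (nat_lit 7638720) (BT.node (nat_lit 7638656) (BT.leaf (nat_lit 35396881)) (BT.leaf (nat_lit 46411281))) (BT.node (nat_lit 7638784) (BT.leaf (nat_lit 48111381)) (BT.leaf (nat_lit 30554889))))))) (BT.node (nat_lit 7639872) (BT.node (nat_lit 7639360) (BT.node (nat_lit 7639104) (BT.node (nat_lit 7638976) (BT.node (nat_lit 7638912) (BT.leaf (nat_lit 47690005)) (BT.leaf (nat_lit 28553753))) (BT.node (nat_lit 7639040) (BT.leaf (nat_lit 28553757)) (BT.leaf (nat_lit 48112145)))) (BT.node (nat_lit 7639232) (BT.node (nat_lit 7639168) (BT.leaf (nat_lit 27983129)) (BT.leaf (nat_lit 48112665))) (BT.node (nat_lit 7639296) (BT.leaf (nat_lit 46414345)) (BT.leaf (nat_lit 22333973))))) (BT.node (nat_lit 7639616) (BT.node (nat_lit 7639488) (BT.node (nat_lit 7639424) (BT.leaf (nat_lit 33918217)) (BT.leaf (nat_lit 48115229))) (BT.node (nat_lit 7639552) (BT.leaf (nat_lit 48115209)) (BT.leaf (nat_lit 48115989)))) (BT.node (nat_lit 7639744) (BT.node (nat_lit 7639680) (BT.leaf (nat_lit 33918241)) (BT.leaf (nat_lit 33980705))) (BT.node (nat_lit 7639808) (BT.leaf (nat_lit 48116757)) (BT.leaf (nat_lit 30801697)))))) (BT.node (nat_lit 7640384) (BT.node (nat_lit 7640128) (BT.node (nat_lit 7640000) (BT.node (nat_lit 7639936) (BT.leaf (nat_lit 30803233)) (BT.leaf (nat_lit 30802977))) (BT.node (nat_lit 7640064) (BT.leaf (nat_lit 27522313)) (BT.leaf (nat_lit 24372757)))) (BT.node (nat_lit 7640256) (BT.node (nat_lit 7640192) (BT.leaf (nat_lit 32102925)) (BT.leaf (nat_lit 48119045))) (BT.node (nat_lit 7640320) (BT.leaf (nat_lit 48119561)) (BT.leaf (nat_lit 48120341))))) (BT.node (nat_lit 7640640) (BT.node (nat_lit 7640512) (BT.node (nat_lit 7640448) (BT.leaf (nat_lit 23571729)) (BT.leaf (nat_lit 38132229))) (BT.node (nat_lit 7640576) (BT.leaf (nat_lit 30804769)) (BT.leaf (nat_lit 30805025)))) (BT.node (nat_lit 7640768) (BT.node (nat_lit 7640704) (BT.leaf (nat_lit 48121609)) (BT.leaf (nat_lit 48121877))) (BT.node (nat_lit 7640832) (BT.leaf (nat_lit 30805537)) (BT.leaf (nat_lit 34952457)))))))) (BT.node (nat_lit 7642816) (BT.node (nat_lit 7641920) (BT.node (nat_lit 7641408) (BT.node (nat_lit 7641152) (BT.node (nat_lit 7641024) (BT.node (nat_lit 7640960) (BT.leaf (nat_lit 22660889)) (BT.leaf (nat_lit 29857045))) (BT.node (nat_lit 7641088) (BT.leaf (nat_lit 23572761)) (BT.leaf (nat_lit 23572765)))) (BT.node (nat_lit 7641280) (BT.node (nat_lit 7641216) (BT.leaf (nat_lit 29856789)) (BT.leaf (nat_lit 30567193))) (BT.node (nat_lit 7641344) (BT.leaf (nat_lit 24593161)) (BT.leaf (nat_lit 24092705))))) (BT.node (nat_lit 7641664) (BT.node (nat_lit 7641536) (BT.node (nat_lit 7641472) (BT.leaf (nat_lit 31697169)) (BT.leaf (nat_lit 23896097))) (BT.node (nat_lit 7641600) (BT.leaf (nat_lit 36955169)) (BT.leaf (nat_lit 24593177)))) (BT.node (nat_lit 7641792) (BT.node (nat_lit 7641728) (BT.leaf (nat_lit 40420101)) (BT.leaf (nat_lit 42253833))) (BT.node (nat_lit 7641856) (BT.leaf (nat_lit 29857301)) (BT.leaf (nat_lit 31361553)))))) (BT.node (nat_lit 7642432) (BT.node (nat_lit 7642176) (BT.node (nat_lit 7642048) (BT.node (nat_lit 7641984) (BT.leaf (nat_lit 23385109)) (BT.leaf (nat_lit 47360517))) (BT.node (nat_lit 7642112) (BT.leaf (nat_lit 51717129)) (BT.leaf (nat_lit 32031005)))) (BT.node (nat_lit 7642304) (BT.node (nat_lit 7642240) (BT.leaf (nat_lit 23709709)) (BT.leaf (nat_lit 23575313))) (BT.node (nat_lit 7642368) (BT.leaf (nat_lit 34820613)) (BT.leaf (nat_lit 24868629))))) (BT.node (nat_lit 7642560) (BT.node (nat_lit 7642500) (BT.node (nat_lit 7642496) (BT.leaf (nat_lit 47272453)) (BT.leaf (nat_lit 41206289))) (BT.node (nat_lit 7642501) (BT.leaf (nat_lit 496244)) (BT.leaf (nat_lit 496244)))) (BT.node (nat_lit 7642688) (BT.node (nat_lit 7642624) (BT.leaf (nat_lit 23575569)) (BT.leaf (nat_lit 24246301))) (BT.node (nat_lit 7642752) (BT.leaf (nat_lit 28394525)) (BT.leaf (nat_lit 32761881))))))) (BT.node (nat_lit 7643840) (BT.node (nat_lit 7643328) (BT.node (nat_lit 7643072) (BT.node (nat_lit 7642944) (BT.node (nat_lit 7642880) (BT.leaf (nat_lit 29232409)) (BT.leaf (nat_lit 40898069))) (BT.node (nat_lit 7643008) (BT.leaf (nat_lit 30816545)) (BT.leaf (nat_lit 31061017)))) (BT.node (nat_lit 7643200) (BT.node (nat_lit 7643136) (BT.leaf (nat_lit 37929237)) (BT.leaf (nat_lit 23612681))) (BT.node (nat_lit 7643264) (BT.leaf (nat_lit 47545105)) (BT.leaf (nat_lit 29051921))))) (BT.node (nat_lit 7643584) (BT.node (nat_lit 7643456) (BT.node (nat_lit 7643392) (BT.leaf (nat_lit 39926289)) (BT.leaf (nat_lit 46607377))) (BT.node (nat_lit 7643520) (BT.leaf (nat_lit 48128773)) (BT.leaf (nat_lit 24195601)))) (BT.node (nat_lit 7643712) (BT.node (nat_lit 7643648) (BT.leaf (nat_lit 48129813)) (BT.leaf (nat_lit 28394529))) (BT.node (nat_lit 7643776) (BT.leaf (nat_lit 38945045)) (BT.leaf (nat_lit 34901281)))))) (BT.node (nat_lit 7644352) (BT.node (nat_lit 7644096) (BT.node (nat_lit 7643968) (BT.node (nat_lit 7643904) (BT.leaf (nat_lit 24328225)) (BT.leaf (nat_lit 41230369))) (BT.node (nat_lit 7644032) (BT.leaf (nat_lit 28697105)) (BT.leaf (nat_lit 32052513)))) (BT.node (nat_lit 7644224) (BT.node (nat_lit 7644160) (BT.leaf (nat_lit 34504981)) (BT.leaf (nat_lit 47393305))) (BT.node (nat_lit 7644288) (BT.leaf (nat_lit 31021585)) (BT.leaf (nat_lit 24336917))))) (BT.node (nat_lit 7644608) (BT.node (nat_lit 7644480) (BT.node (nat_lit 7644416) (BT.leaf (nat_lit 24089353)) (BT.leaf (nat_lit 24324117))) (BT.node (nat_lit 7644544) (BT.leaf (nat_lit 48131589)) (BT.leaf (nat_lit 48132373)))) (BT.node (nat_lit 7644736) (BT.node (nat_lit 7644672) (BT.leaf (nat_lit 25931781)) (BT.leaf (nat_lit 30578973))) (BT.node (nat_lit 7644744) (BT.leaf (nat_lit 29502985)) (BT.leaf (nat_lit 509440)))))))))) (BT.node (nat_lit 7652992) (BT.node (nat_lit 7648896) (BT.node (nat_lit 7646848) (BT.node (nat_lit 7645824) (BT.node (nat_lit 7645312) (BT.node (nat_lit 7645056) (BT.node (nat_lit 7644928) (BT.node (nat_lit 7644864) (BT.leaf (nat_lit 29507333)) (BT.leaf (nat_lit 37703197))) (BT.node (nat_lit 7644992) (BT.leaf (nat_lit 42942241)) (BT.leaf (nat_lit 38411029)))) (BT.node (nat_lit 7645184) (BT.node (nat_lit 7645120) (BT.leaf (nat_lit 23581457)) (BT.leaf (nat_lit 34839557))) (BT.node (nat_lit 7645248) (BT.leaf (nat_lit 48133893)) (BT.leaf (nat_lit 33654277))))) (BT.node (nat_lit 7645568) (BT.node (nat_lit 7645440) (BT.node (nat_lit 7645376) (BT.leaf (nat_lit 36333845)) (BT.leaf (nat_lit 23581725))) (BT.node (nat_lit 7645504) (BT.leaf (nat_lit 31593745)) (BT.leaf (nat_lit 24608789)))) (BT.node (nat_lit 7645696) (BT.node (nat_lit 7645632) (BT.leaf (nat_lit 24776709)) (BT.leaf (nat_lit 23582225))) (BT.node (nat_lit 7645760) (BT.leaf (nat_lit 24776729)) (BT.leaf (nat_lit 22948625)))))) (BT.node (nat_lit 7646336) (BT.node (nat_lit 7646080) (BT.node (nat_lit 7645952) (BT.node (nat_lit 7645888) (BT.leaf (nat_lit 23582741)) (BT.leaf (nat_lit 40595469))) (BT.node (nat_lit 7646016) (BT.leaf (nat_lit 44172297)) (BT.leaf (nat_lit 42945545)))) (BT.node (nat_lit 7646208) (BT.node (nat_lit 7646144) (BT.leaf (nat_lit 31454985)) (BT.leaf (nat_lit 23577617))) (BT.node (nat_lit 7646272) (BT.leaf (nat_lit 34199813)) (BT.leaf (nat_lit 23582993))))) (BT.node (nat_lit 7646592) (BT.node (nat_lit 7646464) (BT.node (nat_lit 7646400) (BT.leaf (nat_lit 52078085)) (BT.leaf (nat_lit 24588313))) (BT.node (nat_lit 7646528) (BT.leaf (nat_lit 24588317)) (BT.leaf (nat_lit 22993937)))) (BT.node (nat_lit 7646720) (BT.node (nat_lit 7646656) (BT.leaf (nat_lit 32850953)) (BT.leaf (nat_lit 48139809))) (BT.node (nat_lit 7646784) (BT.leaf (nat_lit 23584025)) (BT.leaf (nat_lit 23549457))))))) (BT.node (nat_lit 7647872) (BT.node (nat_lit 7647360) (BT.node (nat_lit 7647104) (BT.node (nat_lit 7646976) (BT.node (nat_lit 7646912) (BT.leaf (nat_lit 25689109)) (BT.leaf (nat_lit 23587601))) (BT.node (nat_lit 7647040) (BT.leaf (nat_lit 28800533)) (BT.leaf (nat_lit 28800541)))) (BT.node (nat_lit 7647232) (BT.node (nat_lit 7647168) (BT.leaf (nat_lit 23586845)) (BT.leaf (nat_lit 29469969))) (BT.node (nat_lit 7647296) (BT.leaf (nat_lit 48142621)) (BT.leaf (nat_lit 23587353))))) (BT.node (nat_lit 7647616) (BT.node (nat_lit 7647488) (BT.node (nat_lit 7647424) (BT.leaf (nat_lit 41090061)) (BT.leaf (nat_lit 38155013))) (BT.node (nat_lit 7647552) (BT.leaf (nat_lit 29235205)) (BT.leaf (nat_lit 41696289)))) (BT.node (nat_lit 7647744) (BT.node (nat_lit 7647680) (BT.leaf (nat_lit 52242441)) (BT.leaf (nat_lit 52241429))) (BT.node (nat_lit 7647808) (BT.leaf (nat_lit 52241433)) (BT.leaf (nat_lit 52241437)))))) (BT.node (nat_lit 7648384) (BT.node (nat_lit 7648128) (BT.node (nat_lit 7648000) (BT.node (nat_lit 7647936) (BT.leaf (nat_lit 48143381)) (BT.leaf (nat_lit 34529057))) (BT.node (nat_lit 7648064) (BT.leaf (nat_lit 30592773)) (BT.leaf (nat_lit 28248861)))) (BT.node (nat_lit 7648256) (BT.node (nat_lit 7648192) (BT.leaf (nat_lit 28151585)) (BT.leaf (nat_lit 52242457))) (BT.node (nat_lit 7648320) (BT.leaf (nat_lit 52242461)) (BT.leaf (nat_lit 23589409))))) (BT.node (nat_lit 7648640) (BT.node (nat_lit 7648512) (BT.node (nat_lit 7648448) (BT.leaf (nat_lit 52242189)) (BT.leaf (nat_lit 47432737))) (BT.node (nat_lit 7648576) (BT.leaf (nat_lit 52242205)) (BT.leaf (nat_lit 29236249)))) (BT.node (nat_lit 7648768) (BT.node (nat_lit 7648704) (BT.leaf (nat_lit 47047697)) (BT.leaf (nat_lit 48144921))) (BT.node (nat_lit 7648832) (BT.leaf (nat_lit 30715401)) (BT.leaf (nat_lit 35346197)))))))) (BT.node (nat_lit 7650944) (BT.node (nat_lit 7649920) (BT.node (nat_lit 7649408) (BT.node (nat_lit 7649152) (BT.node (nat_lit 7649024) (BT.node (nat_lit 7648960) (BT.leaf (nat_lit 30715405)) (BT.leaf (nat_lit 23590165))) (BT.node (nat_lit 7649088) (BT.leaf (nat_lit 51715085)) (BT.leaf (nat_lit 48144905)))) (BT.node (nat_lit 7649280) (BT.node (nat_lit 7649216) (BT.leaf (nat_lit 40824849)) (BT.leaf (nat_lit 23620365))) (BT.node (nat_lit 7649344) (BT.leaf (nat_lit 23589913)) (BT.leaf (nat_lit 23620377))))) (BT.node (nat_lit 7649664) (BT.node (nat_lit 7649536) (BT.node (nat_lit 7649472) (BT.leaf (nat_lit 42824981)) (BT.leaf (nat_lit 42239253))) (BT.node (nat_lit 7649600) (BT.leaf (nat_lit 34845701)) (BT.leaf (nat_lit 28638489)))) (BT.node (nat_lit 7649792) (BT.node (nat_lit 7649728) (BT.leaf (nat_lit 41347853)) (BT.leaf (nat_lit 34909701))) (BT.node (nat_lit 7649856) (BT.leaf (nat_lit 42434321)) (BT.leaf (nat_lit 37984277)))))) (BT.node (nat_lit 7650432) (BT.node (nat_lit 7650176) (BT.node (nat_lit 7650048) (BT.node (nat_lit 7649984) (BT.leaf (nat_lit 25473041)) (BT.leaf (nat_lit 35938065))) (BT.node (nat_lit 7650112) (BT.leaf (nat_lit 25571089)) (BT.leaf (nat_lit 34241049)))) (BT.node (nat_lit 7650304) (BT.node (nat_lit 7650240) (BT.leaf (nat_lit 48127493)) (BT.leaf (nat_lit 48150557))) (BT.node (nat_lit 7650368) (BT.leaf (nat_lit 36365073)) (BT.leaf (nat_lit 41344269))))) (BT.node (nat_lit 7650688) (BT.node (nat_lit 7650560) (BT.node (nat_lit 7650496) (BT.leaf (nat_lit 30572825)) (BT.leaf (nat_lit 23591197))) (BT.node (nat_lit 7650624) (BT.leaf (nat_lit 46852637)) (BT.leaf (nat_lit 23591193)))) (BT.node (nat_lit 7650816) (BT.node (nat_lit 7650752) (BT.leaf (nat_lit 35319313)) (BT.leaf (nat_lit 31875089))) (BT.node (nat_lit 7650880) (BT.leaf (nat_lit 24147209)) (BT.leaf (nat_lit 24147213))))))) (BT.node (nat_lit 7651968) (BT.node (nat_lit 7651456) (BT.node (nat_lit 7651200) (BT.node (nat_lit 7651072) (BT.node (nat_lit 7651008) (BT.leaf (nat_lit 24147225)) (BT.leaf (nat_lit 24147229))) (BT.node (nat_lit 7651136) (BT.leaf (nat_lit 24147233)) (BT.leaf (nat_lit 24148997)))) (BT.node (nat_lit 7651328) (BT.node (nat_lit 7651264) (BT.leaf (nat_lit 44947485)) (BT.leaf (nat_lit 24149013))) (BT.node (nat_lit 7651392) (BT.leaf (nat_lit 23592217)) (BT.leaf (nat_lit 35339025))))) (BT.node (nat_lit 7651712) (BT.node (nat_lit 7651584) (BT.node (nat_lit 7651520) (BT.leaf (nat_lit 27429141)) (BT.leaf (nat_lit 27429149))) (BT.node (nat_lit 7651648) (BT.leaf (nat_lit 30616581)) (BT.leaf (nat_lit 27753237)))) (BT.node (nat_lit 7651840) (BT.node (nat_lit 7651776) (BT.leaf (nat_lit 27753241)) (BT.leaf (nat_lit 27753245))) (BT.node (nat_lit 7651904) (BT.leaf (nat_lit 34344965)) (BT.leaf (nat_lit 28008209)))))) (BT.node (nat_lit 7652480) (BT.node (nat_lit 7652224) (BT.node (nat_lit 7652096) (BT.node (nat_lit 7652032) (BT.leaf (nat_lit 27302417)) (BT.leaf (nat_lit 29210629))) (BT.node (nat_lit 7652160) (BT.leaf (nat_lit 29522181)) (BT.leaf (nat_lit 23715617)))) (BT.node (nat_lit 7652352) (BT.node (nat_lit 7652288) (BT.leaf (nat_lit 39004181)) (BT.leaf (nat_lit 29195781))) (BT.node (nat_lit 7652416) (BT.leaf (nat_lit 29196321)) (BT.leaf (nat_lit 40098825))))) (BT.node (nat_lit 7652736) (BT.node (nat_lit 7652608) (BT.node (nat_lit 7652544) (BT.leaf (nat_lit 34183705)) (BT.leaf (nat_lit 32795397))) (BT.node (nat_lit 7652672) (BT.leaf (nat_lit 30471185)) (BT.leaf (nat_lit 48103949)))) (BT.node (nat_lit 7652864) (BT.node (nat_lit 7652800) (BT.leaf (nat_lit 31214369)) (BT.leaf (nat_lit 24554769))) (BT.node (nat_lit 7652928) (BT.leaf (nat_lit 33808409)) (BT.leaf (nat_lit 23632917))))))))) (BT.node (nat_lit 7657088) (BT.node (nat_lit 7655040) (BT.node (nat_lit 7654016) (BT.node (nat_lit 7653504) (BT.node (nat_lit 7653248) (BT.node (nat_lit 7653120) (BT.node (nat_lit 7653056) (BT.leaf (nat_lit 29526277)) (BT.leaf (nat_lit 25975557))) (BT.node (nat_lit 7653184) (BT.leaf (nat_lit 23551761)) (BT.leaf (nat_lit 51640857)))) (BT.node (nat_lit 7653376) (BT.node (nat_lit 7653312) (BT.leaf (nat_lit 48160033)) (BT.leaf (nat_lit 30606853))) (BT.node (nat_lit 7653440) (BT.leaf (nat_lit 30617349)) (BT.leaf (nat_lit 23596557))))) (BT.node (nat_lit 7653760) (BT.node (nat_lit 7653632) (BT.node (nat_lit 7653568) (BT.leaf (nat_lit 23596809)) (BT.leaf (nat_lit 23596305))) (BT.node (nat_lit 7653696) (BT.leaf (nat_lit 47880217)) (BT.leaf (nat_lit 42985237)))) (BT.node (nat_lit 7653888) (BT.node (nat_lit 7653824) (BT.leaf (nat_lit 49386505)) (BT.leaf (nat_lit 22974225))) (BT.node (nat_lit 7653952) (BT.leaf (nat_lit 23597585)) (BT.leaf (nat_lit 29749785)))))) (BT.node (nat_lit 7654528) (BT.node (nat_lit 7654272) (BT.node (nat_lit 7654144) (BT.node (nat_lit 7654080) (BT.leaf (nat_lit 29749789)) (BT.leaf (nat_lit 22519057))) (BT.node (nat_lit 7654208) (BT.leaf (nat_lit 23552273)) (BT.leaf (nat_lit 23714325)))) (BT.node (nat_lit 7654400) (BT.node (nat_lit 7654336) (BT.leaf (nat_lit 49441305)) (BT.leaf (nat_lit 49441309))) (BT.node (nat_lit 7654464) (BT.leaf (nat_lit 22519325)) (BT.leaf (nat_lit 23552541))))) (BT.node (nat_lit 7654784) (BT.node (nat_lit 7654656) (BT.node (nat_lit 7654592) (BT.leaf (nat_lit 34257181)) (BT.leaf (nat_lit 23598097))) (BT.node (nat_lit 7654720) (BT.leaf (nat_lit 49224729)) (BT.leaf (nat_lit 48162849)))) (BT.node (nat_lit 7654912) (BT.node (nat_lit 7654848) (BT.leaf (nat_lit 34831625)) (BT.leaf (nat_lit 26676241))) (BT.node (nat_lit 7654976) (BT.leaf (nat_lit 48163605)) (BT.leaf (nat_lit 23023633))))))) (BT.node (nat_lit 7656064) (BT.node (nat_lit 7655552) (BT.node (nat_lit 7655296) (BT.node (nat_lit 7655168) (BT.node (nat_lit 7655104) (BT.leaf (nat_lit 33808405)) (BT.leaf (nat_lit 33978657))) (BT.node (nat_lit 7655232) (BT.leaf (nat_lit 24754437)) (BT.leaf (nat_lit 32051745)))) (BT.node (nat_lit 7655424) (BT.node (nat_lit 7655360) (BT.leaf (nat_lit 41229337)) (BT.leaf (nat_lit 23631125))) (BT.node (nat_lit 7655488) (BT.leaf (nat_lit 29394449)) (BT.leaf (nat_lit 29493537))))) (BT.node (nat_lit 7655808) (BT.node (nat_lit 7655680) (BT.node (nat_lit 7655616) (BT.leaf (nat_lit 23834121)) (BT.leaf (nat_lit 23834125))) (BT.node (nat_lit 7655744) (BT.leaf (nat_lit 23834137)) (BT.leaf (nat_lit 23834141)))) (BT.node (nat_lit 7655936) (BT.node (nat_lit 7655872) (BT.leaf (nat_lit 47108641)) (BT.leaf (nat_lit 29209881))) (BT.node (nat_lit 7656000) (BT.leaf (nat_lit 46430469)) (BT.leaf (nat_lit 24120077)))))) (BT.node (nat_lit 7656576) (BT.node (nat_lit 7656320) (BT.node (nat_lit 7656192) (BT.node (nat_lit 7656128) (BT.leaf (nat_lit 24119829)) (BT.leaf (nat_lit 23602705))) (BT.node (nat_lit 7656256) (BT.leaf (nat_lit 48168977)) (BT.leaf (nat_lit 22985745)))) (BT.node (nat_lit 7656448) (BT.node (nat_lit 7656384) (BT.leaf (nat_lit 23605013)) (BT.leaf (nat_lit 37474581))) (BT.node (nat_lit 7656512) (BT.leaf (nat_lit 52088073)) (BT.leaf (nat_lit 52391181))))) (BT.node (nat_lit 7656832) (BT.node (nat_lit 7656704) (BT.node (nat_lit 7656640) (BT.leaf (nat_lit 31848209)) (BT.leaf (nat_lit 47335429))) (BT.node (nat_lit 7656768) (BT.leaf (nat_lit 23604753)) (BT.leaf (nat_lit 48490785)))) (BT.node (nat_lit 7656960) (BT.node (nat_lit 7656896) (BT.leaf (nat_lit 29644057)) (BT.leaf (nat_lit 29644061))) (BT.node (nat_lit 7657024) (BT.leaf (nat_lit 23604497)) (BT.leaf (nat_lit 28345105)))))))) (BT.node (nat_lit 7659136) (BT.node (nat_lit 7658112) (BT.node (nat_lit 7657600) (BT.node (nat_lit 7657344) (BT.node (nat_lit 7657216) (BT.node (nat_lit 7657152) (BT.leaf (nat_lit 49854497)) (BT.leaf (nat_lit 34540293))) (BT.node (nat_lit 7657280) (BT.leaf (nat_lit 30658317)) (BT.leaf (nat_lit 37474333)))) (BT.node (nat_lit 7657472) (BT.node (nat_lit 7657408) (BT.leaf (nat_lit 22736409)) (BT.leaf (nat_lit 42315269))) (BT.node (nat_lit 7657536) (BT.leaf (nat_lit 38288149)) (BT.leaf (nat_lit 28080397))))) (BT.node (nat_lit 7657856) (BT.node (nat_lit 7657728) (BT.node (nat_lit 7657664) (BT.leaf (nat_lit 24477729)) (BT.leaf (nat_lit 47301141))) (BT.node (nat_lit 7657792) (BT.leaf (nat_lit 24061201)) (BT.leaf (nat_lit 28080401)))) (BT.node (nat_lit 7657984) (BT.node (nat_lit 7657920) (BT.leaf (nat_lit 23808289)) (BT.leaf (nat_lit 23808261))) (BT.node (nat_lit 7658048) (BT.leaf (nat_lit 23808273)) (BT.leaf (nat_lit 23808277)))))) (BT.node (nat_lit 7658624) (BT.node (nat_lit 7658368) (BT.node (nat_lit 7658240) (BT.node (nat_lit 7658176) (BT.leaf (nat_lit 26019593)) (BT.leaf (nat_lit 23606285))) (BT.node (nat_lit 7658304) (BT.leaf (nat_lit 31064077)) (BT.leaf (nat_lit 23607317)))) (BT.node (nat_lit 7658496) (BT.node (nat_lit 7658432) (BT.leaf (nat_lit 26019597)) (BT.leaf (nat_lit 26019609))) (BT.node (nat_lit 7658560) (BT.leaf (nat_lit 26019613)) (BT.leaf (nat_lit 34570509))))) (BT.node (nat_lit 7658880) (BT.node (nat_lit 7658752) (BT.node (nat_lit 7658688) (BT.leaf (nat_lit 34570765)) (BT.leaf (nat_lit 23851805))) (BT.node (nat_lit 7658816) (BT.leaf (nat_lit 48178697)) (BT.leaf (nat_lit 23606037)))) (BT.node (nat_lit 7659008) (BT.node (nat_lit 7658944) (BT.leaf (nat_lit 30608929)) (BT.leaf (nat_lit 25507857))) (BT.node (nat_lit 7659072) (BT.leaf (nat_lit 31460117)) (BT.leaf (nat_lit 47748873))))))) (BT.node (nat_lit 7660160) (BT.node (nat_lit 7659648) (BT.node (nat_lit 7659392) (BT.node (nat_lit 7659264) (BT.node (nat_lit 7659200) (BT.leaf (nat_lit 40745989)) (BT.leaf (nat_lit 27958533))) (BT.node (nat_lit 7659328) (BT.leaf (nat_lit 36246533)) (BT.leaf (nat_lit 30091805)))) (BT.node (nat_lit 7659520) (BT.node (nat_lit 7659456) (BT.leaf (nat_lit 28803861)) (BT.leaf (nat_lit 23932945))) (BT.node (nat_lit 7659584) (BT.leaf (nat_lit 23611921)) (BT.leaf (nat_lit 38928149))))) (BT.node (nat_lit 7659904) (BT.node (nat_lit 7659776) (BT.node (nat_lit 7659712) (BT.leaf (nat_lit 35526173)) (BT.leaf (nat_lit 23614481))) (BT.node (nat_lit 7659840) (BT.leaf (nat_lit 23613969)) (BT.leaf (nat_lit 34839073)))) (BT.node (nat_lit 7660032) (BT.node (nat_lit 7659968) (BT.leaf (nat_lit 26661145)) (BT.leaf (nat_lit 35792161))) (BT.node (nat_lit 7660096) (BT.leaf (nat_lit 41918477)) (BT.leaf (nat_lit 41918489)))))) (BT.node (nat_lit 7660672) (BT.node (nat_lit 7660416) (BT.node (nat_lit 7660288) (BT.node (nat_lit 7660224) (BT.leaf (nat_lit 41918493)) (BT.leaf (nat_lit 32675861))) (BT.node (nat_lit 7660352) (BT.leaf (nat_lit 24355865)) (BT.leaf (nat_lit 23615513)))) (BT.node (nat_lit 7660544) (BT.node (nat_lit 7660480) (BT.leaf (nat_lit 29842193)) (BT.leaf (nat_lit 29842197))) (BT.node (nat_lit 7660608) (BT.leaf (nat_lit 23615773)) (BT.leaf (nat_lit 23615517))))) (BT.node (nat_lit 7660928) (BT.node (nat_lit 7660800) (BT.node (nat_lit 7660736) (BT.leaf (nat_lit 32814865)) (BT.leaf (nat_lit 32814869))) (BT.node (nat_lit 7660864) (BT.leaf (nat_lit 23615769)) (BT.leaf (nat_lit 34930457)))) (BT.node (nat_lit 7661056) (BT.node (nat_lit 7660992) (BT.leaf (nat_lit 23586841)) (BT.leaf (nat_lit 29469205))) (BT.node (nat_lit 7661120) (BT.leaf (nat_lit 23616541)) (BT.leaf (nat_lit 24357661)))))))))))) (BT.node (nat_lit 7693952) (BT.node (nat_lit 7677568) (BT.node (nat_lit 7669376) (BT.node (nat_lit 7665280) (BT.node (nat_lit 7663232) (BT.node (nat_lit 7662208) (BT.node (nat_lit 7661696) (BT.node (nat_lit 7661440) (BT.node (nat_lit 7661312) (BT.node (nat_lit 7661248) (BT.leaf (nat_lit 29459217)) (BT.leaf (nat_lit 29459221))) (BT.node (nat_lit 7661376) (BT.leaf (nat_lit 23616537)) (BT.leaf (nat_lit 23851797)))) (BT.node (nat_lit 7661568) (BT.node (nat_lit 7661504) (BT.leaf (nat_lit 25494801)) (BT.leaf (nat_lit 39680789))) (BT.node (nat_lit 7661632) (BT.leaf (nat_lit 22993693)) (BT.leaf (nat_lit 48186905))))) (BT.node (nat_lit 7661952) (BT.node (nat_lit 7661824) (BT.node (nat_lit 7661760) (BT.leaf (nat_lit 35294741)) (BT.leaf (nat_lit 43025681))) (BT.node (nat_lit 7661888) (BT.leaf (nat_lit 47816981)) (BT.leaf (nat_lit 30227473)))) (BT.node (nat_lit 7662080) (BT.node (nat_lit 7662016) (BT.leaf (nat_lit 28638233)) (BT.leaf (nat_lit 43024137))) (BT.node (nat_lit 7662144) (BT.leaf (nat_lit 32071453)) (BT.leaf (nat_lit 38482209)))))) (BT.node (nat_lit 7662720) (BT.node (nat_lit 7662464) (BT.node (nat_lit 7662336) (BT.node (nat_lit 7662272) (BT.leaf (nat_lit 42954761)) (BT.leaf (nat_lit 48142865))) (BT.node (nat_lit 7662400) (BT.leaf (nat_lit 23619589)) (BT.leaf (nat_lit 48709393)))) (BT.node (nat_lit 7662592) (BT.node (nat_lit 7662528) (BT.leaf (nat_lit 43327777)) (BT.leaf (nat_lit 49424921))) (BT.node (nat_lit 7662656) (BT.leaf (nat_lit 28085793)) (BT.leaf (nat_lit 34213389))))) (BT.node (nat_lit 7662976) (BT.node (nat_lit 7662848) (BT.node (nat_lit 7662784) (BT.leaf (nat_lit 27431457)) (BT.leaf (nat_lit 28139025))) (BT.node (nat_lit 7662912) (BT.leaf (nat_lit 28139041)) (BT.leaf (nat_lit 47344901)))) (BT.node (nat_lit 7663104) (BT.node (nat_lit 7663040) (BT.leaf (nat_lit 48190741)) (BT.leaf (nat_lit 48190985))) (BT.node (nat_lit 7663168) (BT.leaf (nat_lit 48191237)) (BT.leaf (nat_lit 48192033))))))) (BT.node (nat_lit 7664256) (BT.node (nat_lit 7663744) (BT.node (nat_lit 7663488) (BT.node (nat_lit 7663360) (BT.node (nat_lit 7663296) (BT.leaf (nat_lit 25957637)) (BT.leaf (nat_lit 41979677))) (BT.node (nat_lit 7663424) (BT.leaf (nat_lit 42966817)) (BT.leaf (nat_lit 30123281)))) (BT.node (nat_lit 7663616) (BT.node (nat_lit 7663552) (BT.leaf (nat_lit 23624465)) (BT.leaf (nat_lit 35794437))) (BT.node (nat_lit 7663680) (BT.leaf (nat_lit 48157201)) (BT.leaf (nat_lit 32795169))))) (BT.node (nat_lit 7664000) (BT.node (nat_lit 7663872) (BT.node (nat_lit 7663808) (BT.leaf (nat_lit 48193813)) (BT.leaf (nat_lit 41520917))) (BT.node (nat_lit 7663936) (BT.leaf (nat_lit 47851285)) (BT.leaf (nat_lit 30655513)))) (BT.node (nat_lit 7664128) (BT.node (nat_lit 7664064) (BT.leaf (nat_lit 34082329)) (BT.leaf (nat_lit 29566993))) (BT.node (nat_lit 7664192) (BT.leaf (nat_lit 29566997)) (BT.leaf (nat_lit 27752725)))))) (BT.node (nat_lit 7664768) (BT.node (nat_lit 7664512) (BT.node (nat_lit 7664384) (BT.node (nat_lit 7664320) (BT.leaf (nat_lit 27752729)) (BT.leaf (nat_lit 27752733))) (BT.node (nat_lit 7664448) (BT.leaf (nat_lit 27028753)) (BT.leaf (nat_lit 52391177)))) (BT.node (nat_lit 7664640) (BT.node (nat_lit 7664576) (BT.leaf (nat_lit 48060933)) (BT.leaf (nat_lit 31122721))) (BT.node (nat_lit 7664704) (BT.leaf (nat_lit 23599377)) (BT.leaf (nat_lit 25643285))))) (BT.node (nat_lit 7665024) (BT.node (nat_lit 7664896) (BT.node (nat_lit 7664832) (BT.leaf (nat_lit 23629845)) (BT.leaf (nat_lit 30659597))) (BT.node (nat_lit 7664960) (BT.leaf (nat_lit 52089109)) (BT.leaf (nat_lit 25502741)))) (BT.node (nat_lit 7665152) (BT.node (nat_lit 7665088) (BT.leaf (nat_lit 37018913)) (BT.leaf (nat_lit 52392725))) (BT.node (nat_lit 7665216) (BT.leaf (nat_lit 29259801)) (BT.leaf (nat_lit 30105605)))))))) (BT.node (nat_lit 7667328) (BT.node (nat_lit 7666304) (BT.node (nat_lit 7665792) (BT.node (nat_lit 7665536) (BT.node (nat_lit 7665408) (BT.node (nat_lit 7665344) (BT.leaf (nat_lit 27030289)) (BT.leaf (nat_lit 48477713))) (BT.node (nat_lit 7665472) (BT.leaf (nat_lit 23020805)) (BT.leaf (nat_lit 48198161)))) (BT.node (nat_lit 7665664) (BT.node (nat_lit 7665600) (BT.leaf (nat_lit 48198157)) (BT.leaf (nat_lit 48199709))) (BT.node (nat_lit 7665728) (BT.leaf (nat_lit 23624729)) (BT.leaf (nat_lit 23476497))))) (BT.node (nat_lit 7666048) (BT.node (nat_lit 7665920) (BT.node (nat_lit 7665856) (BT.leaf (nat_lit 22988305)) (BT.leaf (nat_lit 36195589))) (BT.node (nat_lit 7665984) (BT.leaf (nat_lit 25503249)) (BT.leaf (nat_lit 28694813)))) (BT.node (nat_lit 7666176) (BT.node (nat_lit 7666112) (BT.leaf (nat_lit 23022873)) (BT.leaf (nat_lit 23631129))) (BT.node (nat_lit 7666240) (BT.leaf (nat_lit 42810117)) (BT.leaf (nat_lit 40456473)))))) (BT.node (nat_lit 7666816) (BT.node (nat_lit 7666560) (BT.node (nat_lit 7666432) (BT.node (nat_lit 7666368) (BT.leaf (nat_lit 23631133)) (BT.leaf (nat_lit 43044385))) (BT.node (nat_lit 7666496) (BT.leaf (nat_lit 23995673)) (BT.leaf (nat_lit 23995677)))) (BT.node (nat_lit 7666688) (BT.node (nat_lit 7666624) (BT.leaf (nat_lit 23633425)) (BT.leaf (nat_lit 32156173))) (BT.node (nat_lit 7666752) (BT.leaf (nat_lit 42856465)) (BT.leaf (nat_lit 34166029))))) (BT.node (nat_lit 7667072) (BT.node (nat_lit 7666944) (BT.node (nat_lit 7666880) (BT.leaf (nat_lit 34993685)) (BT.leaf (nat_lit 23606293))) (BT.node (nat_lit 7667008) (BT.leaf (nat_lit 24295949)) (BT.leaf (nat_lit 34004501)))) (BT.node (nat_lit 7667200) (BT.node (nat_lit 7667136) (BT.leaf (nat_lit 23636513)) (BT.leaf (nat_lit 23636257))) (BT.node (nat_lit 7667264) (BT.leaf (nat_lit 48202773)) (BT.leaf (nat_lit 27590681))))))) (BT.node (nat_lit 7668352) (BT.node (nat_lit 7667840) (BT.node (nat_lit 7667584) (BT.node (nat_lit 7667456) (BT.node (nat_lit 7667392) (BT.leaf (nat_lit 27590685)) (BT.leaf (nat_lit 48203281))) (BT.node (nat_lit 7667520) (BT.leaf (nat_lit 30657029)) (BT.leaf (nat_lit 30671109)))) (BT.node (nat_lit 7667712) (BT.node (nat_lit 7667648) (BT.leaf (nat_lit 23637265)) (BT.leaf (nat_lit 32516885))) (BT.node (nat_lit 7667776) (BT.leaf (nat_lit 32516889)) (BT.leaf (nat_lit 32516893))))) (BT.node (nat_lit 7668096) (BT.node (nat_lit 7667968) (BT.node (nat_lit 7667904) (BT.leaf (nat_lit 23947025)) (BT.leaf (nat_lit 30657313))) (BT.node (nat_lit 7668032) (BT.leaf (nat_lit 23552537)) (BT.leaf (nat_lit 48203781)))) (BT.node (nat_lit 7668224) (BT.node (nat_lit 7668160) (BT.leaf (nat_lit 48205089)) (BT.leaf (nat_lit 26022933))) (BT.node (nat_lit 7668288) (BT.leaf (nat_lit 26023189)) (BT.leaf (nat_lit 28785945)))))) (BT.node (nat_lit 7668864) (BT.node (nat_lit 7668608) (BT.node (nat_lit 7668480) (BT.node (nat_lit 7668416) (BT.leaf (nat_lit 30970145)) (BT.leaf (nat_lit 24536081))) (BT.node (nat_lit 7668544) (BT.leaf (nat_lit 49386509)) (BT.leaf (nat_lit 41226781)))) (BT.node (nat_lit 7668736) (BT.node (nat_lit 7668672) (BT.leaf (nat_lit 48206865)) (BT.leaf (nat_lit 29072661))) (BT.node (nat_lit 7668800) (BT.leaf (nat_lit 33259797)) (BT.leaf (nat_lit 34381077))))) (BT.node (nat_lit 7669120) (BT.node (nat_lit 7668992) (BT.node (nat_lit 7668928) (BT.leaf (nat_lit 25395993)) (BT.leaf (nat_lit 40978961))) (BT.node (nat_lit 7669056) (BT.leaf (nat_lit 48208133)) (BT.leaf (nat_lit 28861469)))) (BT.node (nat_lit 7669248) (BT.node (nat_lit 7669184) (BT.leaf (nat_lit 40830997)) (BT.leaf (nat_lit 29376529))) (BT.node (nat_lit 7669312) (BT.leaf (nat_lit 29899041)) (BT.leaf (nat_lit 39215621))))))))) (BT.node (nat_lit 7673472) (BT.node (nat_lit 7671424) (BT.node (nat_lit 7670400) (BT.node (nat_lit 7669888) (BT.node (nat_lit 7669632) (BT.node (nat_lit 7669504) (BT.node (nat_lit 7669440) (BT.leaf (nat_lit 28400917)) (BT.leaf (nat_lit 32671493))) (BT.node (nat_lit 7669568) (BT.leaf (nat_lit 29113873)) (BT.leaf (nat_lit 48968973)))) (BT.node (nat_lit 7669760) (BT.node (nat_lit 7669696) (BT.leaf (nat_lit 39088673)) (BT.leaf (nat_lit 39088417))) (BT.node (nat_lit 7669824) (BT.leaf (nat_lit 38304005)) (BT.leaf (nat_lit 47815177))))) (BT.node (nat_lit 7670144) (BT.node (nat_lit 7670016) (BT.node (nat_lit 7669952) (BT.leaf (nat_lit 27904017)) (BT.leaf (nat_lit 25893405))) (BT.node (nat_lit 7670080) (BT.leaf (nat_lit 28206865)) (BT.leaf (nat_lit 23367445)))) (BT.node (nat_lit 7670272) (BT.node (nat_lit 7670208) (BT.leaf (nat_lit 28000797)) (BT.leaf (nat_lit 23642137))) (BT.node (nat_lit 7670336) (BT.leaf (nat_lit 34433553)) (BT.leaf (nat_lit 29645857)))))) (BT.node (nat_lit 7670912) (BT.node (nat_lit 7670656) (BT.node (nat_lit 7670528) (BT.node (nat_lit 7670464) (BT.leaf (nat_lit 34433809)) (BT.leaf (nat_lit 48211217))) (BT.node (nat_lit 7670592) (BT.leaf (nat_lit 39330337)) (BT.leaf (nat_lit 48211221)))) (BT.node (nat_lit 7670784) (BT.node (nat_lit 7670720) (BT.leaf (nat_lit 30159369)) (BT.leaf (nat_lit 48211989))) (BT.node (nat_lit 7670848) (BT.leaf (nat_lit 48212245)) (BT.leaf (nat_lit 30211101))))) (BT.node (nat_lit 7671168) (BT.node (nat_lit 7671040) (BT.node (nat_lit 7670976) (BT.leaf (nat_lit 28279073)) (BT.leaf (nat_lit 28901381))) (BT.node (nat_lit 7671104) (BT.leaf (nat_lit 32280845)) (BT.leaf (nat_lit 39963417)))) (BT.node (nat_lit 7671296) (BT.node (nat_lit 7671232) (BT.leaf (nat_lit 38282001)) (BT.leaf (nat_lit 48214049))) (BT.node (nat_lit 7671360) (BT.leaf (nat_lit 48214305)) (BT.leaf (nat_lit 48214561))))))) (BT.node (nat_lit 7672448) (BT.node (nat_lit 7671936) (BT.node (nat_lit 7671680) (BT.node (nat_lit 7671552) (BT.node (nat_lit 7671488) (BT.leaf (nat_lit 48190233)) (BT.leaf (nat_lit 48190237))) (BT.node (nat_lit 7671616) (BT.leaf (nat_lit 39729429)) (BT.leaf (nat_lit 41765893)))) (BT.node (nat_lit 7671808) (BT.node (nat_lit 7671744) (BT.leaf (nat_lit 48215569)) (BT.leaf (nat_lit 23644693))) (BT.node (nat_lit 7671872) (BT.leaf (nat_lit 29824537)) (BT.leaf (nat_lit 29824541))))) (BT.node (nat_lit 7672192) (BT.node (nat_lit 7672064) (BT.node (nat_lit 7672000) (BT.leaf (nat_lit 42243101)) (BT.leaf (nat_lit 42417677))) (BT.node (nat_lit 7672128) (BT.leaf (nat_lit 31993889)) (BT.leaf (nat_lit 33326617)))) (BT.node (nat_lit 7672320) (BT.node (nat_lit 7672256) (BT.leaf (nat_lit 30075153)) (BT.leaf (nat_lit 31994145))) (BT.node (nat_lit 7672384) (BT.leaf (nat_lit 48216337)) (BT.leaf (nat_lit 28076825)))))) (BT.node (nat_lit 7672960) (BT.node (nat_lit 7672704) (BT.node (nat_lit 7672576) (BT.node (nat_lit 7672512) (BT.leaf (nat_lit 28117025)) (BT.leaf (nat_lit 23430417))) (BT.node (nat_lit 7672640) (BT.leaf (nat_lit 31031301)) (BT.leaf (nat_lit 28117017)))) (BT.node (nat_lit 7672832) (BT.node (nat_lit 7672768) (BT.leaf (nat_lit 28117021)) (BT.leaf (nat_lit 31658521))) (BT.node (nat_lit 7672896) (BT.leaf (nat_lit 28797201)) (BT.leaf (nat_lit 28060933))))) (BT.node (nat_lit 7673216) (BT.node (nat_lit 7673088) (BT.node (nat_lit 7673024) (BT.leaf (nat_lit 23430161)) (BT.leaf (nat_lit 32874261))) (BT.node (nat_lit 7673152) (BT.leaf (nat_lit 30692121)) (BT.leaf (nat_lit 31834385)))) (BT.node (nat_lit 7673344) (BT.node (nat_lit 7673280) (BT.leaf (nat_lit 31834373)) (BT.leaf (nat_lit 23645969))) (BT.node (nat_lit 7673408) (BT.leaf (nat_lit 23645713)) (BT.leaf (nat_lit 39064585)))))))) (BT.node (nat_lit 7675520) (BT.node (nat_lit 7674496) (BT.node (nat_lit 7673984) (BT.node (nat_lit 7673728) (BT.node (nat_lit 7673600) (BT.node (nat_lit 7673536) (BT.leaf (nat_lit 23966233)) (BT.leaf (nat_lit 48219933))) (BT.node (nat_lit 7673664) (BT.leaf (nat_lit 23646481)) (BT.leaf (nat_lit 29289241)))) (BT.node (nat_lit 7673856) (BT.node (nat_lit 7673792) (BT.leaf (nat_lit 27541773)) (BT.leaf (nat_lit 32643093))) (BT.node (nat_lit 7673920) (BT.leaf (nat_lit 36406289)) (BT.leaf (nat_lit 30284049))))) (BT.node (nat_lit 7674240) (BT.node (nat_lit 7674112) (BT.node (nat_lit 7674048) (BT.leaf (nat_lit 27542541)) (BT.leaf (nat_lit 23417361))) (BT.node (nat_lit 7674176) (BT.leaf (nat_lit 48242973)) (BT.leaf (nat_lit 41918741)))) (BT.node (nat_lit 7674368) (BT.node (nat_lit 7674304) (BT.leaf (nat_lit 31998241)) (BT.leaf (nat_lit 30697485))) (BT.node (nat_lit 7674432) (BT.leaf (nat_lit 45195797)) (BT.leaf (nat_lit 28897305)))))) (BT.node (nat_lit 7675008) (BT.node (nat_lit 7674752) (BT.node (nat_lit 7674624) (BT.node (nat_lit 7674560) (BT.leaf (nat_lit 28897309)) (BT.leaf (nat_lit 28393493))) (BT.node (nat_lit 7674688) (BT.leaf (nat_lit 43117833)) (BT.leaf (nat_lit 30699037)))) (BT.node (nat_lit 7674880) (BT.node (nat_lit 7674816) (BT.leaf (nat_lit 41458709)) (BT.leaf (nat_lit 46670617))) (BT.node (nat_lit 7674944) (BT.leaf (nat_lit 32000261)) (BT.leaf (nat_lit 28204549))))) (BT.node (nat_lit 7675264) (BT.node (nat_lit 7675136) (BT.node (nat_lit 7675072) (BT.leaf (nat_lit 23182353)) (BT.leaf (nat_lit 47156257))) (BT.node (nat_lit 7675200) (BT.leaf (nat_lit 46799641)) (BT.leaf (nat_lit 47822601)))) (BT.node (nat_lit 7675392) (BT.node (nat_lit 7675328) (BT.leaf (nat_lit 37817617)) (BT.leaf (nat_lit 48223769))) (BT.node (nat_lit 7675456) (BT.leaf (nat_lit 30832665)) (BT.leaf (nat_lit 30832669))))))) (BT.node (nat_lit 7676544) (BT.node (nat_lit 7676032) (BT.node (nat_lit 7675776) (BT.node (nat_lit 7675648) (BT.node (nat_lit 7675584) (BT.leaf (nat_lit 32221217)) (BT.leaf (nat_lit 48224529))) (BT.node (nat_lit 7675712) (BT.leaf (nat_lit 28749073)) (BT.leaf (nat_lit 35268617)))) (BT.node (nat_lit 7675904) (BT.node (nat_lit 7675840) (BT.leaf (nat_lit 47701525)) (BT.leaf (nat_lit 48225045))) (BT.node (nat_lit 7675968) (BT.leaf (nat_lit 30703901)) (BT.leaf (nat_lit 28098321))))) (BT.node (nat_lit 7676288) (BT.node (nat_lit 7676160) (BT.node (nat_lit 7676096) (BT.leaf (nat_lit 46385693)) (BT.leaf (nat_lit 47393057))) (BT.node (nat_lit 7676224) (BT.leaf (nat_lit 44478753)) (BT.leaf (nat_lit 28076065)))) (BT.node (nat_lit 7676416) (BT.node (nat_lit 7676352) (BT.leaf (nat_lit 28115989)) (BT.leaf (nat_lit 23901445))) (BT.node (nat_lit 7676480) (BT.leaf (nat_lit 23901461)) (BT.leaf (nat_lit 48225301)))))) (BT.node (nat_lit 7677056) (BT.node (nat_lit 7676800) (BT.node (nat_lit 7676672) (BT.node (nat_lit 7676608) (BT.leaf (nat_lit 23901469)) (BT.leaf (nat_lit 34064409))) (BT.node (nat_lit 7676736) (BT.leaf (nat_lit 25745169)) (BT.leaf (nat_lit 28883485)))) (BT.node (nat_lit 7676928) (BT.node (nat_lit 7676864) (BT.leaf (nat_lit 47676685)) (BT.leaf (nat_lit 48225553))) (BT.node (nat_lit 7676992) (BT.leaf (nat_lit 28545553)) (BT.leaf (nat_lit 33902365))))) (BT.node (nat_lit 7677312) (BT.node (nat_lit 7677184) (BT.node (nat_lit 7677120) (BT.leaf (nat_lit 24274209)) (BT.leaf (nat_lit 24274437))) (BT.node (nat_lit 7677248) (BT.leaf (nat_lit 48225557)) (BT.leaf (nat_lit 32737797)))) (BT.node (nat_lit 7677440) (BT.node (nat_lit 7677376) (BT.leaf (nat_lit 23343377)) (BT.leaf (nat_lit 25679385))) (BT.node (nat_lit 7677504) (BT.leaf (nat_lit 25679389)) (BT.leaf (nat_lit 23652881)))))))))) (BT.node (nat_lit 7685760) (BT.node (nat_lit 7681664) (BT.node (nat_lit 7679616) (BT.node (nat_lit 7678592) (BT.node (nat_lit 7678080) (BT.node (nat_lit 7677824) (BT.node (nat_lit 7677696) (BT.node (nat_lit 7677632) (BT.leaf (nat_lit 25235741)) (BT.leaf (nat_lit 23652381))) (BT.node (nat_lit 7677760) (BT.leaf (nat_lit 29949201)) (BT.leaf (nat_lit 48227597)))) (BT.node (nat_lit 7677952) (BT.node (nat_lit 7677888) (BT.leaf (nat_lit 32333069)) (BT.leaf (nat_lit 32006689))) (BT.node (nat_lit 7678016) (BT.leaf (nat_lit 23653665)) (BT.leaf (nat_lit 30708505))))) (BT.node (nat_lit 7678336) (BT.node (nat_lit 7678208) (BT.node (nat_lit 7678144) (BT.leaf (nat_lit 48228125)) (BT.leaf (nat_lit 24318981))) (BT.node (nat_lit 7678272) (BT.leaf (nat_lit 48228373)) (BT.leaf (nat_lit 30595617)))) (BT.node (nat_lit 7678464) (BT.node (nat_lit 7678400) (BT.leaf (nat_lit 42234389)) (BT.leaf (nat_lit 30713353))) (BT.node (nat_lit 7678528) (BT.leaf (nat_lit 43141653)) (BT.leaf (nat_lit 24505629)))))) (BT.node (nat_lit 7679104) (BT.node (nat_lit 7678848) (BT.node (nat_lit 7678720) (BT.node (nat_lit 7678656) (BT.leaf (nat_lit 24505633)) (BT.leaf (nat_lit 42921757))) (BT.node (nat_lit 7678784) (BT.leaf (nat_lit 47926041)) (BT.leaf (nat_lit 39081489)))) (BT.node (nat_lit 7678976) (BT.node (nat_lit 7678912) (BT.leaf (nat_lit 48228629)) (BT.leaf (nat_lit 47010593))) (BT.node (nat_lit 7679040) (BT.leaf (nat_lit 24037401)) (BT.leaf (nat_lit 24037405))))) (BT.node (nat_lit 7679360) (BT.node (nat_lit 7679232) (BT.node (nat_lit 7679168) (BT.leaf (nat_lit 52039177)) (BT.leaf (nat_lit 30716941))) (BT.node (nat_lit 7679296) (BT.leaf (nat_lit 43145505)) (BT.leaf (nat_lit 30717469)))) (BT.node (nat_lit 7679488) (BT.node (nat_lit 7679424) (BT.leaf (nat_lit 43145761)) (BT.leaf (nat_lit 29702421))) (BT.node (nat_lit 7679552) (BT.leaf (nat_lit 28196121)) (BT.leaf (nat_lit 28717325))))))) (BT.node (nat_lit 7680640) (BT.node (nat_lit 7680128) (BT.node (nat_lit 7679872) (BT.node (nat_lit 7679744) (BT.node (nat_lit 7679680) (BT.leaf (nat_lit 28196109)) (BT.leaf (nat_lit 40526109))) (BT.node (nat_lit 7679808) (BT.leaf (nat_lit 29986069)) (BT.leaf (nat_lit 30034713)))) (BT.node (nat_lit 7680000) (BT.node (nat_lit 7679936) (BT.leaf (nat_lit 29986321)) (BT.leaf (nat_lit 30034973))) (BT.node (nat_lit 7680064) (BT.leaf (nat_lit 28268829)) (BT.leaf (nat_lit 23401757))))) (BT.node (nat_lit 7680384) (BT.node (nat_lit 7680256) (BT.node (nat_lit 7680192) (BT.leaf (nat_lit 23401737)) (BT.leaf (nat_lit 48431377))) (BT.node (nat_lit 7680320) (BT.leaf (nat_lit 22352397)) (BT.leaf (nat_lit 28195589)))) (BT.node (nat_lit 7680512) (BT.node (nat_lit 7680448) (BT.leaf (nat_lit 43148053)) (BT.leaf (nat_lit 48231445))) (BT.node (nat_lit 7680576) (BT.leaf (nat_lit 30105093)) (BT.leaf (nat_lit 46344469)))))) (BT.node (nat_lit 7681152) (BT.node (nat_lit 7680896) (BT.node (nat_lit 7680768) (BT.node (nat_lit 7680704) (BT.leaf (nat_lit 31980053)) (BT.leaf (nat_lit 23937045))) (BT.node (nat_lit 7680832) (BT.leaf (nat_lit 46065161)) (BT.leaf (nat_lit 31628561)))) (BT.node (nat_lit 7681024) (BT.node (nat_lit 7680960) (BT.leaf (nat_lit 26514193)) (BT.leaf (nat_lit 35364641))) (BT.node (nat_lit 7681088) (BT.leaf (nat_lit 31108125)) (BT.leaf (nat_lit 33991949))))) (BT.node (nat_lit 7681408) (BT.node (nat_lit 7681280) (BT.node (nat_lit 7681216) (BT.leaf (nat_lit 41904649)) (BT.leaf (nat_lit 40061461))) (BT.node (nat_lit 7681344) (BT.leaf (nat_lit 30661921)) (BT.leaf (nat_lit 48234009)))) (BT.node (nat_lit 7681536) (BT.node (nat_lit 7681472) (BT.leaf (nat_lit 41905941)) (BT.leaf (nat_lit 48231429))) (BT.node (nat_lit 7681600) (BT.leaf (nat_lit 34896149)) (BT.leaf (nat_lit 28755465)))))))) (BT.node (nat_lit 7683712) (BT.node (nat_lit 7682688) (BT.node (nat_lit 7682176) (BT.node (nat_lit 7681920) (BT.node (nat_lit 7681792) (BT.node (nat_lit 7681728) (BT.leaf (nat_lit 31337745)) (BT.leaf (nat_lit 23659025))) (BT.node (nat_lit 7681856) (BT.leaf (nat_lit 48234245)) (BT.leaf (nat_lit 48234501)))) (BT.node (nat_lit 7682048) (BT.node (nat_lit 7681984) (BT.leaf (nat_lit 48234757)) (BT.leaf (nat_lit 24281113))) (BT.node (nat_lit 7682112) (BT.leaf (nat_lit 24281117)) (BT.leaf (nat_lit 33823237))))) (BT.node (nat_lit 7682432) (BT.node (nat_lit 7682304) (BT.node (nat_lit 7682240) (BT.leaf (nat_lit 23658517)) (BT.leaf (nat_lit 51386385))) (BT.node (nat_lit 7682368) (BT.leaf (nat_lit 40057609)) (BT.leaf (nat_lit 40057613)))) (BT.node (nat_lit 7682560) (BT.node (nat_lit 7682496) (BT.leaf (nat_lit 40057617)) (BT.leaf (nat_lit 47814921))) (BT.node (nat_lit 7682624) (BT.leaf (nat_lit 29206813)) (BT.leaf (nat_lit 40057633)))))) (BT.node (nat_lit 7683200) (BT.node (nat_lit 7682944) (BT.node (nat_lit 7682816) (BT.node (nat_lit 7682752) (BT.leaf (nat_lit 36750853)) (BT.leaf (nat_lit 23931413))) (BT.node (nat_lit 7682880) (BT.leaf (nat_lit 47813661)) (BT.leaf (nat_lit 31236641)))) (BT.node (nat_lit 7683072) (BT.node (nat_lit 7683008) (BT.leaf (nat_lit 34642977)) (BT.leaf (nat_lit 24119317))) (BT.node (nat_lit 7683136) (BT.leaf (nat_lit 37890577)) (BT.leaf (nat_lit 23338001))))) (BT.node (nat_lit 7683456) (BT.node (nat_lit 7683328) (BT.node (nat_lit 7683264) (BT.leaf (nat_lit 24430873)) (BT.leaf (nat_lit 24430877))) (BT.node (nat_lit 7683392) (BT.leaf (nat_lit 23059217)) (BT.leaf (nat_lit 48236309)))) (BT.node (nat_lit 7683584) (BT.node (nat_lit 7683520) (BT.leaf (nat_lit 25512721)) (BT.leaf (nat_lit 28070169))) (BT.node (nat_lit 7683648) (BT.leaf (nat_lit 28070173)) (BT.leaf (nat_lit 23655965))))))) (BT.node (nat_lit 7684736) (BT.node (nat_lit 7684224) (BT.node (nat_lit 7683968) (BT.node (nat_lit 7683840) (BT.node (nat_lit 7683776) (BT.leaf (nat_lit 23660049)) (BT.leaf (nat_lit 31170333))) (BT.node (nat_lit 7683904) (BT.leaf (nat_lit 30039309)) (BT.leaf (nat_lit 42435597)))) (BT.node (nat_lit 7684096) (BT.node (nat_lit 7684032) (BT.leaf (nat_lit 34892053)) (BT.leaf (nat_lit 40465953))) (BT.node (nat_lit 7684160) (BT.leaf (nat_lit 30493457)) (BT.leaf (nat_lit 28798481))))) (BT.node (nat_lit 7684480) (BT.node (nat_lit 7684352) (BT.node (nat_lit 7684288) (BT.leaf (nat_lit 28420881)) (BT.leaf (nat_lit 40576017))) (BT.node (nat_lit 7684416) (BT.leaf (nat_lit 23661841)) (BT.leaf (nat_lit 29443609)))) (BT.node (nat_lit 7684608) (BT.node (nat_lit 7684544) (BT.leaf (nat_lit 29443613)) (BT.leaf (nat_lit 23807773))) (BT.node (nat_lit 7684672) (BT.leaf (nat_lit 34568209)) (BT.leaf (nat_lit 28664341)))))) (BT.node (nat_lit 7685248) (BT.node (nat_lit 7684992) (BT.node (nat_lit 7684864) (BT.node (nat_lit 7684800) (BT.leaf (nat_lit 28663829)) (BT.leaf (nat_lit 31687185))) (BT.node (nat_lit 7684928) (BT.leaf (nat_lit 30723845)) (BT.leaf (nat_lit 31213597)))) (BT.node (nat_lit 7685120) (BT.node (nat_lit 7685056) (BT.leaf (nat_lit 48239377)) (BT.leaf (nat_lit 49186573))) (BT.node (nat_lit 7685184) (BT.leaf (nat_lit 29326609)) (BT.leaf (nat_lit 29814289))))) (BT.node (nat_lit 7685504) (BT.node (nat_lit 7685376) (BT.node (nat_lit 7685312) (BT.leaf (nat_lit 25864965)) (BT.leaf (nat_lit 48239637))) (BT.node (nat_lit 7685440) (BT.leaf (nat_lit 31056665)) (BT.leaf (nat_lit 35014173)))) (BT.node (nat_lit 7685632) (BT.node (nat_lit 7685568) (BT.leaf (nat_lit 30183705)) (BT.leaf (nat_lit 23730201))) (BT.node (nat_lit 7685696) (BT.leaf (nat_lit 42476561)) (BT.leaf (nat_lit 34280213))))))))) (BT.node (nat_lit 7689856) (BT.node (nat_lit 7687808) (BT.node (nat_lit 7686784) (BT.node (nat_lit 7686272) (BT.node (nat_lit 7686016) (BT.node (nat_lit 7685888) (BT.node (nat_lit 7685824) (BT.leaf (nat_lit 23345941)) (BT.leaf (nat_lit 28055321))) (BT.node (nat_lit 7685952) (BT.leaf (nat_lit 42224405)) (BT.leaf (nat_lit 34087441)))) (BT.node (nat_lit 7686144) (BT.node (nat_lit 7686080) (BT.leaf (nat_lit 23345433)) (BT.leaf (nat_lit 34002457))) (BT.node (nat_lit 7686208) (BT.leaf (nat_lit 30935305)) (BT.leaf (nat_lit 30745117))))) (BT.node (nat_lit 7686528) (BT.node (nat_lit 7686400) (BT.node (nat_lit 7686336) (BT.leaf (nat_lit 23665413)) (BT.leaf (nat_lit 33989149))) (BT.node (nat_lit 7686464) (BT.leaf (nat_lit 40076833)) (BT.leaf (nat_lit 30054413)))) (BT.node (nat_lit 7686656) (BT.node (nat_lit 7686592) (BT.leaf (nat_lit 30930437)) (BT.leaf (nat_lit 32686853))) (BT.node (nat_lit 7686720) (BT.leaf (nat_lit 36160281)) (BT.leaf (nat_lit 36160285)))))) (BT.node (nat_lit 7687296) (BT.node (nat_lit 7687040) (BT.node (nat_lit 7686912) (BT.node (nat_lit 7686848) (BT.leaf (nat_lit 25700889)) (BT.leaf (nat_lit 30747677))) (BT.node (nat_lit 7686976) (BT.leaf (nat_lit 26534161)) (BT.leaf (nat_lit 47956505)))) (BT.node (nat_lit 7687168) (BT.node (nat_lit 7687104) (BT.leaf (nat_lit 47956493)) (BT.leaf (nat_lit 23665169))) (BT.node (nat_lit 7687232) (BT.leaf (nat_lit 48242437)) (BT.leaf (nat_lit 48242709))))) (BT.node (nat_lit 7687552) (BT.node (nat_lit 7687424) (BT.node (nat_lit 7687360) (BT.leaf (nat_lit 48242949)) (BT.leaf (nat_lit 29280537))) (BT.node (nat_lit 7687488) (BT.leaf (nat_lit 30281493)) (BT.leaf (nat_lit 29204741)))) (BT.node (nat_lit 7687680) (BT.node (nat_lit 7687616) (BT.leaf (nat_lit 29204761)) (BT.leaf (nat_lit 29204765))) (BT.node (nat_lit 7687744) (BT.leaf (nat_lit 31330073)) (BT.leaf (nat_lit 37815569))))))) (BT.node (nat_lit 7688832) (BT.node (nat_lit 7688320) (BT.node (nat_lit 7688064) (BT.node (nat_lit 7687936) (BT.node (nat_lit 7687872) (BT.leaf (nat_lit 25861405)) (BT.leaf (nat_lit 25716509))) (BT.node (nat_lit 7688000) (BT.leaf (nat_lit 36715785)) (BT.leaf (nat_lit 37767941)))) (BT.node (nat_lit 7688192) (BT.node (nat_lit 7688128) (BT.leaf (nat_lit 27473689)) (BT.leaf (nat_lit 27473693))) (BT.node (nat_lit 7688256) (BT.leaf (nat_lit 32263713)) (BT.leaf (nat_lit 24291589))))) (BT.node (nat_lit 7688576) (BT.node (nat_lit 7688448) (BT.node (nat_lit 7688384) (BT.leaf (nat_lit 24417821)) (BT.leaf (nat_lit 23034645))) (BT.node (nat_lit 7688512) (BT.leaf (nat_lit 23938569)) (BT.leaf (nat_lit 23938573)))) (BT.node (nat_lit 7688704) (BT.node (nat_lit 7688640) (BT.leaf (nat_lit 24046613)) (BT.leaf (nat_lit 23938585))) (BT.node (nat_lit 7688768) (BT.leaf (nat_lit 23938589)) (BT.leaf (nat_lit 34396693)))))) (BT.node (nat_lit 7689344) (BT.node (nat_lit 7689088) (BT.node (nat_lit 7688960) (BT.node (nat_lit 7688896) (BT.leaf (nat_lit 24290841)) (BT.leaf (nat_lit 23944721))) (BT.node (nat_lit 7689024) (BT.leaf (nat_lit 23944725)) (BT.leaf (nat_lit 31148805)))) (BT.node (nat_lit 7689216) (BT.node (nat_lit 7689152) (BT.leaf (nat_lit 27987993)) (BT.leaf (nat_lit 27987997))) (BT.node (nat_lit 7689280) (BT.leaf (nat_lit 38220577)) (BT.leaf (nat_lit 27991317))))) (BT.node (nat_lit 7689600) (BT.node (nat_lit 7689472) (BT.node (nat_lit 7689408) (BT.leaf (nat_lit 27337237)) (BT.leaf (nat_lit 23993109))) (BT.node (nat_lit 7689536) (BT.leaf (nat_lit 46492165)) (BT.leaf (nat_lit 48248593)))) (BT.node (nat_lit 7689728) (BT.node (nat_lit 7689664) (BT.leaf (nat_lit 32827413)) (BT.leaf (nat_lit 25784341))) (BT.node (nat_lit 7689792) (BT.leaf (nat_lit 41614881)) (BT.leaf (nat_lit 40204301)))))))) (BT.node (nat_lit 7691904) (BT.node (nat_lit 7690880) (BT.node (nat_lit 7690368) (BT.node (nat_lit 7690112) (BT.node (nat_lit 7689984) (BT.node (nat_lit 7689920) (BT.leaf (nat_lit 43215109)) (BT.leaf (nat_lit 23442205))) (BT.node (nat_lit 7690048) (BT.leaf (nat_lit 30054433)) (BT.leaf (nat_lit 31962117)))) (BT.node (nat_lit 7690240) (BT.node (nat_lit 7690176) (BT.leaf (nat_lit 40281885)) (BT.leaf (nat_lit 40643613))) (BT.node (nat_lit 7690304) (BT.leaf (nat_lit 27186969)) (BT.leaf (nat_lit 32145157))))) (BT.node (nat_lit 7690624) (BT.node (nat_lit 7690496) (BT.node (nat_lit 7690432) (BT.leaf (nat_lit 39003917)) (BT.leaf (nat_lit 48249609))) (BT.node (nat_lit 7690560) (BT.leaf (nat_lit 39175189)) (BT.leaf (nat_lit 25681937)))) (BT.node (nat_lit 7690752) (BT.node (nat_lit 7690688) (BT.leaf (nat_lit 24714777)) (BT.leaf (nat_lit 23673369))) (BT.node (nat_lit 7690816) (BT.leaf (nat_lit 39176965)) (BT.leaf (nat_lit 48251157)))))) (BT.node (nat_lit 7691392) (BT.node (nat_lit 7691136) (BT.node (nat_lit 7691008) (BT.node (nat_lit 7690944) (BT.leaf (nat_lit 28742165)) (BT.leaf (nat_lit 39702549))) (BT.node (nat_lit 7691072) (BT.leaf (nat_lit 37514513)) (BT.leaf (nat_lit 45101845)))) (BT.node (nat_lit 7691264) (BT.node (nat_lit 7691200) (BT.leaf (nat_lit 43237897)) (BT.leaf (nat_lit 28742149))) (BT.node (nat_lit 7691328) (BT.leaf (nat_lit 41893909)) (BT.leaf (nat_lit 48252437))))) (BT.node (nat_lit 7691648) (BT.node (nat_lit 7691520) (BT.node (nat_lit 7691456) (BT.leaf (nat_lit 48252689)) (BT.leaf (nat_lit 43246857))) (BT.node (nat_lit 7691584) (BT.leaf (nat_lit 48252945)) (BT.leaf (nat_lit 41610757)))) (BT.node (nat_lit 7691776) (BT.node (nat_lit 7691712) (BT.leaf (nat_lit 43250181)) (BT.leaf (nat_lit 30284041))) (BT.node (nat_lit 7691840) (BT.leaf (nat_lit 39350041)) (BT.leaf (nat_lit 48253717))))))) (BT.node (nat_lit 7692928) (BT.node (nat_lit 7692416) (BT.node (nat_lit 7692160) (BT.node (nat_lit 7692032) (BT.node (nat_lit 7691968) (BT.leaf (nat_lit 27542301)) (BT.leaf (nat_lit 33545493))) (BT.node (nat_lit 7692096) (BT.leaf (nat_lit 23676961)) (BT.leaf (nat_lit 41117461)))) (BT.node (nat_lit 7692288) (BT.node (nat_lit 7692224) (BT.leaf (nat_lit 34425877)) (BT.leaf (nat_lit 34872341))) (BT.node (nat_lit 7692352) (BT.leaf (nat_lit 29267461)) (BT.leaf (nat_lit 28072469))))) (BT.node (nat_lit 7692672) (BT.node (nat_lit 7692544) (BT.node (nat_lit 7692480) (BT.leaf (nat_lit 28072477)) (BT.leaf (nat_lit 48256009))) (BT.node (nat_lit 7692608) (BT.leaf (nat_lit 30770461)) (BT.leaf (nat_lit 35076625)))) (BT.node (nat_lit 7692800) (BT.node (nat_lit 7692736) (BT.leaf (nat_lit 34871317)) (BT.leaf (nat_lit 34871841))) (BT.node (nat_lit 7692864) (BT.leaf (nat_lit 27619589)) (BT.leaf (nat_lit 34851093)))))) (BT.node (nat_lit 7693440) (BT.node (nat_lit 7693184) (BT.node (nat_lit 7693056) (BT.node (nat_lit 7692992) (BT.leaf (nat_lit 33537049)) (BT.leaf (nat_lit 30445081))) (BT.node (nat_lit 7693120) (BT.leaf (nat_lit 47896333)) (BT.leaf (nat_lit 38505481)))) (BT.node (nat_lit 7693312) (BT.node (nat_lit 7693248) (BT.leaf (nat_lit 38929177)) (BT.leaf (nat_lit 32401681))) (BT.node (nat_lit 7693376) (BT.leaf (nat_lit 29766941)) (BT.leaf (nat_lit 49642249))))) (BT.node (nat_lit 7693696) (BT.node (nat_lit 7693568) (BT.node (nat_lit 7693504) (BT.leaf (nat_lit 31055633)) (BT.leaf (nat_lit 43264021))) (BT.node (nat_lit 7693632) (BT.leaf (nat_lit 31055649)) (BT.leaf (nat_lit 34456597)))) (BT.node (nat_lit 7693824) (BT.node (nat_lit 7693760) (BT.leaf (nat_lit 35414033)) (BT.leaf (nat_lit 30774541))) (BT.node (nat_lit 7693888) (BT.leaf (nat_lit 34049813)) (BT.leaf (nat_lit 31134477))))))))))) (BT.node (nat_lit 7710336) (BT.node (nat_lit 7702144) (BT.node (nat_lit 7698048) (BT.node (nat_lit 7696000) (BT.node (nat_lit 7694976) (BT.node (nat_lit 7694464) (BT.node (nat_lit 7694208) (BT.node (nat_lit 7694080) (BT.node (nat_lit 7694016) (BT.leaf (nat_lit 34874133)) (BT.leaf (nat_lit 32720161))) (BT.node (nat_lit 7694144) (BT.leaf (nat_lit 34874913)) (BT.leaf (nat_lit 34769945)))) (BT.node (nat_lit 7694336) (BT.node (nat_lit 7694272) (BT.leaf (nat_lit 28277253)) (BT.leaf (nat_lit 23075601))) (BT.node (nat_lit 7694400) (BT.leaf (nat_lit 31134493)) (BT.leaf (nat_lit 48262165))))) (BT.node (nat_lit 7694720) (BT.node (nat_lit 7694592) (BT.node (nat_lit 7694528) (BT.leaf (nat_lit 46347545)) (BT.leaf (nat_lit 43267849))) (BT.node (nat_lit 7694656) (BT.leaf (nat_lit 32411937)) (BT.leaf (nat_lit 28799769)))) (BT.node (nat_lit 7694848) (BT.node (nat_lit 7694784) (BT.leaf (nat_lit 38045473)) (BT.leaf (nat_lit 23076113))) (BT.node (nat_lit 7694912) (BT.leaf (nat_lit 23641369)) (BT.leaf (nat_lit 40006421)))))) (BT.node (nat_lit 7695488) (BT.node (nat_lit 7695232) (BT.node (nat_lit 7695104) (BT.node (nat_lit 7695040) (BT.leaf (nat_lit 23680017)) (BT.leaf (nat_lit 25742869))) (BT.node (nat_lit 7695168) (BT.leaf (nat_lit 25742873)) (BT.leaf (nat_lit 47932177)))) (BT.node (nat_lit 7695360) (BT.node (nat_lit 7695296) (BT.leaf (nat_lit 31822865)) (BT.leaf (nat_lit 34456857))) (BT.node (nat_lit 7695424) (BT.leaf (nat_lit 46576157)) (BT.leaf (nat_lit 37849873))))) (BT.node (nat_lit 7695744) (BT.node (nat_lit 7695616) (BT.node (nat_lit 7695552) (BT.leaf (nat_lit 38625541)) (BT.leaf (nat_lit 48263173))) (BT.node (nat_lit 7695680) (BT.leaf (nat_lit 22570001)) (BT.leaf (nat_lit 39784981)))) (BT.node (nat_lit 7695872) (BT.node (nat_lit 7695808) (BT.leaf (nat_lit 39873825)) (BT.leaf (nat_lit 48264469))) (BT.node (nat_lit 7695936) (BT.leaf (nat_lit 31870469)) (BT.leaf (nat_lit 28884753))))))) (BT.node (nat_lit 7697024) (BT.node (nat_lit 7696512) (BT.node (nat_lit 7696256) (BT.node (nat_lit 7696128) (BT.node (nat_lit 7696064) (BT.leaf (nat_lit 31877909)) (BT.leaf (nat_lit 28684049))) (BT.node (nat_lit 7696192) (BT.leaf (nat_lit 24484889)) (BT.leaf (nat_lit 24484893)))) (BT.node (nat_lit 7696384) (BT.node (nat_lit 7696320) (BT.leaf (nat_lit 29467681)) (BT.leaf (nat_lit 51324693))) (BT.node (nat_lit 7696448) (BT.leaf (nat_lit 32897553)) (BT.leaf (nat_lit 27438101))))) (BT.node (nat_lit 7696768) (BT.node (nat_lit 7696640) (BT.node (nat_lit 7696576) (BT.leaf (nat_lit 27438105)) (BT.leaf (nat_lit 33719577))) (BT.node (nat_lit 7696704) (BT.leaf (nat_lit 23766545)) (BT.leaf (nat_lit 23735581)))) (BT.node (nat_lit 7696896) (BT.node (nat_lit 7696832) (BT.leaf (nat_lit 23735561)) (BT.leaf (nat_lit 28424213))) (BT.node (nat_lit 7696960) (BT.leaf (nat_lit 39437337)) (BT.leaf (nat_lit 39437341)))))) (BT.node (nat_lit 7697536) (BT.node (nat_lit 7697280) (BT.node (nat_lit 7697152) (BT.node (nat_lit 7697088) (BT.leaf (nat_lit 25771525)) (BT.leaf (nat_lit 23683089))) (BT.node (nat_lit 7697216) (BT.leaf (nat_lit 43376929)) (BT.leaf (nat_lit 27364121)))) (BT.node (nat_lit 7697408) (BT.node (nat_lit 7697344) (BT.leaf (nat_lit 27364125)) (BT.leaf (nat_lit 23682833))) (BT.node (nat_lit 7697472) (BT.leaf (nat_lit 34051857)) (BT.leaf (nat_lit 37202977))))) (BT.node (nat_lit 7697792) (BT.node (nat_lit 7697664) (BT.node (nat_lit 7697600) (BT.leaf (nat_lit 30165277)) (BT.leaf (nat_lit 48271637))) (BT.node (nat_lit 7697728) (BT.leaf (nat_lit 30568453)) (BT.leaf (nat_lit 32391193)))) (BT.node (nat_lit 7697920) (BT.node (nat_lit 7697856) (BT.leaf (nat_lit 28112657)) (BT.leaf (nat_lit 30077713))) (BT.node (nat_lit 7697984) (BT.leaf (nat_lit 51311625)) (BT.leaf (nat_lit 29920545)))))))) (BT.node (nat_lit 7700096) (BT.node (nat_lit 7699072) (BT.node (nat_lit 7698560) (BT.node (nat_lit 7698304) (BT.node (nat_lit 7698176) (BT.node (nat_lit 7698112) (BT.leaf (nat_lit 28910101)) (BT.leaf (nat_lit 24618005))) (BT.node (nat_lit 7698240) (BT.leaf (nat_lit 38065429)) (BT.leaf (nat_lit 28528133)))) (BT.node (nat_lit 7698432) (BT.node (nat_lit 7698368) (BT.leaf (nat_lit 51311645)) (BT.leaf (nat_lit 24443929))) (BT.node (nat_lit 7698496) (BT.leaf (nat_lit 30378261)) (BT.leaf (nat_lit 24618265))))) (BT.node (nat_lit 7698816) (BT.node (nat_lit 7698688) (BT.node (nat_lit 7698624) (BT.leaf (nat_lit 31526177)) (BT.leaf (nat_lit 34126357))) (BT.node (nat_lit 7698752) (BT.leaf (nat_lit 28368665)) (BT.leaf (nat_lit 46532373)))) (BT.node (nat_lit 7698944) (BT.node (nat_lit 7698880) (BT.leaf (nat_lit 27671813)) (BT.leaf (nat_lit 28035601))) (BT.node (nat_lit 7699008) (BT.leaf (nat_lit 25889805)) (BT.leaf (nat_lit 38185989)))))) (BT.node (nat_lit 7699584) (BT.node (nat_lit 7699328) (BT.node (nat_lit 7699200) (BT.node (nat_lit 7699136) (BT.leaf (nat_lit 28395285)) (BT.leaf (nat_lit 42635297))) (BT.node (nat_lit 7699264) (BT.leaf (nat_lit 47855621)) (BT.leaf (nat_lit 39545353)))) (BT.node (nat_lit 7699456) (BT.node (nat_lit 7699392) (BT.leaf (nat_lit 48273421)) (BT.leaf (nat_lit 37922317))) (BT.node (nat_lit 7699520) (BT.leaf (nat_lit 30797593)) (BT.leaf (nat_lit 27450129))))) (BT.node (nat_lit 7699840) (BT.node (nat_lit 7699712) (BT.node (nat_lit 7699648) (BT.leaf (nat_lit 25916953)) (BT.leaf (nat_lit 33636101))) (BT.node (nat_lit 7699776) (BT.leaf (nat_lit 27637521)) (BT.leaf (nat_lit 33160721)))) (BT.node (nat_lit 7699968) (BT.node (nat_lit 7699904) (BT.leaf (nat_lit 34124809)) (BT.leaf (nat_lit 31329549))) (BT.node (nat_lit 7700032) (BT.leaf (nat_lit 32147225)) (BT.leaf (nat_lit 48275217))))))) (BT.node (nat_lit 7701120) (BT.node (nat_lit 7700608) (BT.node (nat_lit 7700352) (BT.node (nat_lit 7700224) (BT.node (nat_lit 7700160) (BT.leaf (nat_lit 23690261)) (BT.leaf (nat_lit 27404057))) (BT.node (nat_lit 7700288) (BT.leaf (nat_lit 48275985)) (BT.leaf (nat_lit 48275473)))) (BT.node (nat_lit 7700480) (BT.node (nat_lit 7700416) (BT.leaf (nat_lit 48277273)) (BT.leaf (nat_lit 33913869))) (BT.node (nat_lit 7700544) (BT.leaf (nat_lit 48277521)) (BT.leaf (nat_lit 46380317))))) (BT.node (nat_lit 7700864) (BT.node (nat_lit 7700736) (BT.node (nat_lit 7700672) (BT.leaf (nat_lit 33913865)) (BT.leaf (nat_lit 25525265))) (BT.node (nat_lit 7700800) (BT.leaf (nat_lit 33913881)) (BT.leaf (nat_lit 33913885)))) (BT.node (nat_lit 7700992) (BT.node (nat_lit 7700928) (BT.leaf (nat_lit 28140309)) (BT.leaf (nat_lit 37042437))) (BT.node (nat_lit 7701056) (BT.leaf (nat_lit 48280841)) (BT.leaf (nat_lit 48281365)))))) (BT.node (nat_lit 7701632) (BT.node (nat_lit 7701376) (BT.node (nat_lit 7701248) (BT.node (nat_lit 7701184) (BT.leaf (nat_lit 40558085)) (BT.leaf (nat_lit 40629765))) (BT.node (nat_lit 7701312) (BT.leaf (nat_lit 40630021)) (BT.leaf (nat_lit 28140565)))) (BT.node (nat_lit 7701504) (BT.node (nat_lit 7701440) (BT.leaf (nat_lit 48281621)) (BT.leaf (nat_lit 28140573))) (BT.node (nat_lit 7701568) (BT.leaf (nat_lit 35009289)) (BT.leaf (nat_lit 38958869))))) (BT.node (nat_lit 7701888) (BT.node (nat_lit 7701760) (BT.node (nat_lit 7701696) (BT.leaf (nat_lit 37945109)) (BT.leaf (nat_lit 23692825))) (BT.node (nat_lit 7701824) (BT.leaf (nat_lit 27649825)) (BT.leaf (nat_lit 22936093)))) (BT.node (nat_lit 7702016) (BT.node (nat_lit 7701952) (BT.leaf (nat_lit 23692829)) (BT.leaf (nat_lit 22936089))) (BT.node (nat_lit 7702080) (BT.leaf (nat_lit 35090209)) (BT.leaf (nat_lit 35091233))))))))) (BT.node (nat_lit 7706240) (BT.node (nat_lit 7704192) (BT.node (nat_lit 7703168) (BT.node (nat_lit 7702656) (BT.node (nat_lit 7702400) (BT.node (nat_lit 7702272) (BT.node (nat_lit 7702208) (BT.leaf (nat_lit 29909025)) (BT.leaf (nat_lit 35091745))) (BT.node (nat_lit 7702336) (BT.leaf (nat_lit 38959377)) (BT.leaf (nat_lit 24890657)))) (BT.node (nat_lit 7702528) (BT.node (nat_lit 7702464) (BT.leaf (nat_lit 30235409)) (BT.leaf (nat_lit 28207137))) (BT.node (nat_lit 7702592) (BT.leaf (nat_lit 47872277)) (BT.leaf (nat_lit 48282145))))) (BT.node (nat_lit 7702912) (BT.node (nat_lit 7702784) (BT.node (nat_lit 7702720) (BT.leaf (nat_lit 27550745)) (BT.leaf (nat_lit 27550749))) (BT.node (nat_lit 7702848) (BT.leaf (nat_lit 31715105)) (BT.leaf (nat_lit 28450337)))) (BT.node (nat_lit 7703040) (BT.node (nat_lit 7702976) (BT.leaf (nat_lit 48282389)) (BT.leaf (nat_lit 46955013))) (BT.node (nat_lit 7703104) (BT.leaf (nat_lit 23696149)) (BT.leaf (nat_lit 44183813)))))) (BT.node (nat_lit 7703680) (BT.node (nat_lit 7703424) (BT.node (nat_lit 7703296) (BT.node (nat_lit 7703232) (BT.leaf (nat_lit 48284177)) (BT.leaf (nat_lit 23696661))) (BT.node (nat_lit 7703360) (BT.leaf (nat_lit 26435353)) (BT.leaf (nat_lit 26435357)))) (BT.node (nat_lit 7703552) (BT.node (nat_lit 7703488) (BT.leaf (nat_lit 26435605)) (BT.leaf (nat_lit 46758161))) (BT.node (nat_lit 7703616) (BT.leaf (nat_lit 48285713)) (BT.leaf (nat_lit 34906657))))) (BT.node (nat_lit 7703936) (BT.node (nat_lit 7703808) (BT.node (nat_lit 7703744) (BT.leaf (nat_lit 22557201)) (BT.leaf (nat_lit 48286221))) (BT.node (nat_lit 7703872) (BT.leaf (nat_lit 47201313)) (BT.leaf (nat_lit 31843589)))) (BT.node (nat_lit 7704064) (BT.node (nat_lit 7704000) (BT.leaf (nat_lit 31696917)) (BT.leaf (nat_lit 47286305))) (BT.node (nat_lit 7704128) (BT.leaf (nat_lit 47287073)) (BT.leaf (nat_lit 38148117))))))) (BT.node (nat_lit 7705216) (BT.node (nat_lit 7704704) (BT.node (nat_lit 7704448) (BT.node (nat_lit 7704320) (BT.node (nat_lit 7704256) (BT.leaf (nat_lit 32909593)) (BT.leaf (nat_lit 43272201))) (BT.node (nat_lit 7704384) (BT.leaf (nat_lit 38148121)) (BT.leaf (nat_lit 48288785)))) (BT.node (nat_lit 7704576) (BT.node (nat_lit 7704512) (BT.leaf (nat_lit 36251397)) (BT.leaf (nat_lit 24316181))) (BT.node (nat_lit 7704640) (BT.leaf (nat_lit 47500569)) (BT.leaf (nat_lit 47500573))))) (BT.node (nat_lit 7704960) (BT.node (nat_lit 7704832) (BT.node (nat_lit 7704768) (BT.leaf (nat_lit 24328197)) (BT.leaf (nat_lit 24738069))) (BT.node (nat_lit 7704896) (BT.leaf (nat_lit 26376709)) (BT.leaf (nat_lit 34156305)))) (BT.node (nat_lit 7705088) (BT.node (nat_lit 7705024) (BT.leaf (nat_lit 23698965)) (BT.leaf (nat_lit 29752329))) (BT.node (nat_lit 7705152) (BT.leaf (nat_lit 29752333)) (BT.leaf (nat_lit 36979473)))))) (BT.node (nat_lit 7705728) (BT.node (nat_lit 7705472) (BT.node (nat_lit 7705344) (BT.node (nat_lit 7705280) (BT.leaf (nat_lit 29752345)) (BT.leaf (nat_lit 25469209))) (BT.node (nat_lit 7705408) (BT.leaf (nat_lit 32007445)) (BT.leaf (nat_lit 24820241)))) (BT.node (nat_lit 7705600) (BT.node (nat_lit 7705536) (BT.leaf (nat_lit 24820245)) (BT.leaf (nat_lit 39678213))) (BT.node (nat_lit 7705664) (BT.leaf (nat_lit 28509205)) (BT.leaf (nat_lit 47960597))))) (BT.node (nat_lit 7705984) (BT.node (nat_lit 7705856) (BT.node (nat_lit 7705792) (BT.leaf (nat_lit 47411985)) (BT.leaf (nat_lit 23700241))) (BT.node (nat_lit 7705920) (BT.leaf (nat_lit 25976069)) (BT.leaf (nat_lit 42722069)))) (BT.node (nat_lit 7706112) (BT.node (nat_lit 7706048) (BT.leaf (nat_lit 28110357)) (BT.leaf (nat_lit 40639001))) (BT.node (nat_lit 7706176) (BT.leaf (nat_lit 48293897)) (BT.leaf (nat_lit 28684053)))))))) (BT.node (nat_lit 7708288) (BT.node (nat_lit 7707264) (BT.node (nat_lit 7706752) (BT.node (nat_lit 7706496) (BT.node (nat_lit 7706368) (BT.node (nat_lit 7706304) (BT.leaf (nat_lit 23705373)) (BT.leaf (nat_lit 34806533))) (BT.node (nat_lit 7706432) (BT.leaf (nat_lit 24691729)) (BT.leaf (nat_lit 37844253)))) (BT.node (nat_lit 7706624) (BT.node (nat_lit 7706560) (BT.leaf (nat_lit 23085077)) (BT.leaf (nat_lit 36365333))) (BT.node (nat_lit 7706688) (BT.leaf (nat_lit 43314437)) (BT.leaf (nat_lit 31521557))))) (BT.node (nat_lit 7707008) (BT.node (nat_lit 7706880) (BT.node (nat_lit 7706816) (BT.leaf (nat_lit 32652041)) (BT.leaf (nat_lit 23701265))) (BT.node (nat_lit 7706944) (BT.leaf (nat_lit 37824261)) (BT.leaf (nat_lit 24466713)))) (BT.node (nat_lit 7707136) (BT.node (nat_lit 7707072) (BT.leaf (nat_lit 37824541)) (BT.leaf (nat_lit 33395717))) (BT.node (nat_lit 7707200) (BT.leaf (nat_lit 23703057)) (BT.leaf (nat_lit 30761229)))))) (BT.node (nat_lit 7707776) (BT.node (nat_lit 7707520) (BT.node (nat_lit 7707392) (BT.node (nat_lit 7707328) (BT.leaf (nat_lit 48297501)) (BT.leaf (nat_lit 47934993))) (BT.node (nat_lit 7707456) (BT.leaf (nat_lit 47935777)) (BT.leaf (nat_lit 48297485)))) (BT.node (nat_lit 7707648) (BT.node (nat_lit 7707584) (BT.leaf (nat_lit 29000221)) (BT.leaf (nat_lit 26719765))) (BT.node (nat_lit 7707712) (BT.leaf (nat_lit 22960665)) (BT.leaf (nat_lit 29625873))))) (BT.node (nat_lit 7708032) (BT.node (nat_lit 7707904) (BT.node (nat_lit 7707840) (BT.leaf (nat_lit 34349593)) (BT.leaf (nat_lit 48296965))) (BT.node (nat_lit 7707968) (BT.leaf (nat_lit 37391133)) (BT.leaf (nat_lit 23682065)))) (BT.node (nat_lit 7708160) (BT.node (nat_lit 7708096) (BT.leaf (nat_lit 23904789)) (BT.leaf (nat_lit 23904793))) (BT.node (nat_lit 7708224) (BT.leaf (nat_lit 23904797)) (BT.leaf (nat_lit 35267593))))))) (BT.node (nat_lit 7709312) (BT.node (nat_lit 7708800) (BT.node (nat_lit 7708544) (BT.node (nat_lit 7708416) (BT.node (nat_lit 7708352) (BT.leaf (nat_lit 35267597)) (BT.leaf (nat_lit 35267609))) (BT.node (nat_lit 7708480) (BT.leaf (nat_lit 35267613)) (BT.leaf (nat_lit 33653529)))) (BT.node (nat_lit 7708672) (BT.node (nat_lit 7708608) (BT.leaf (nat_lit 23703577)) (BT.leaf (nat_lit 23681817))) (BT.node (nat_lit 7708736) (BT.leaf (nat_lit 27800853)) (BT.leaf (nat_lit 27438617))))) (BT.node (nat_lit 7709056) (BT.node (nat_lit 7708928) (BT.node (nat_lit 7708864) (BT.leaf (nat_lit 27438621)) (BT.leaf (nat_lit 29757461))) (BT.node (nat_lit 7708992) (BT.leaf (nat_lit 34385157)) (BT.leaf (nat_lit 23705613)))) (BT.node (nat_lit 7709184) (BT.node (nat_lit 7709120) (BT.leaf (nat_lit 46670625)) (BT.leaf (nat_lit 48302613))) (BT.node (nat_lit 7709248) (BT.leaf (nat_lit 37825821)) (BT.leaf (nat_lit 23985433)))))) (BT.node (nat_lit 7709824) (BT.node (nat_lit 7709568) (BT.node (nat_lit 7709440) (BT.node (nat_lit 7709376) (BT.leaf (nat_lit 23985437)) (BT.leaf (nat_lit 30837789))) (BT.node (nat_lit 7709504) (BT.leaf (nat_lit 41067797)) (BT.leaf (nat_lit 42453769)))) (BT.node (nat_lit 7709696) (BT.node (nat_lit 7709632) (BT.leaf (nat_lit 30838541)) (BT.leaf (nat_lit 43329557))) (BT.node (nat_lit 7709760) (BT.leaf (nat_lit 27751701)) (BT.leaf (nat_lit 48303893))))) (BT.node (nat_lit 7710080) (BT.node (nat_lit 7709952) (BT.node (nat_lit 7709888) (BT.leaf (nat_lit 30839049)) (BT.leaf (nat_lit 29898257))) (BT.node (nat_lit 7710016) (BT.leaf (nat_lit 48305173)) (BT.leaf (nat_lit 48304649)))) (BT.node (nat_lit 7710208) (BT.node (nat_lit 7710144) (BT.leaf (nat_lit 48305941)) (BT.leaf (nat_lit 39277585))) (BT.node (nat_lit 7710272) (BT.leaf (nat_lit 34217501)) (BT.leaf (nat_lit 35997717)))))))))) (BT.node (nat_lit 7718528) (BT.node (nat_lit 7714432) (BT.node (nat_lit 7712384) (BT.node (nat_lit 7711360) (BT.node (nat_lit 7710848) (BT.node (nat_lit 7710592) (BT.node (nat_lit 7710464) (BT.node (nat_lit 7710400) (BT.leaf (nat_lit 48306705)) (BT.leaf (nat_lit 30231573))) (BT.node (nat_lit 7710528) (BT.leaf (nat_lit 23682581)) (BT.leaf (nat_lit 40832017)))) (BT.node (nat_lit 7710720) (BT.node (nat_lit 7710656) (BT.leaf (nat_lit 23735565)) (BT.leaf (nat_lit 23707677))) (BT.node (nat_lit 7710784) (BT.leaf (nat_lit 30889481)) (BT.leaf (nat_lit 30787337))))) (BT.node (nat_lit 7711104) (BT.node (nat_lit 7710976) (BT.node (nat_lit 7710912) (BT.leaf (nat_lit 23707673)) (BT.leaf (nat_lit 23735577))) (BT.node (nat_lit 7711040) (BT.leaf (nat_lit 40982033)) (BT.leaf (nat_lit 39915289)))) (BT.node (nat_lit 7711232) (BT.node (nat_lit 7711168) (BT.leaf (nat_lit 28679445)) (BT.leaf (nat_lit 23592453))) (BT.node (nat_lit 7711296) (BT.leaf (nat_lit 28679453)) (BT.leaf (nat_lit 48309777)))))) (BT.node (nat_lit 7711872) (BT.node (nat_lit 7711616) (BT.node (nat_lit 7711488) (BT.node (nat_lit 7711424) (BT.leaf (nat_lit 32043553)) (BT.leaf (nat_lit 39315205))) (BT.node (nat_lit 7711552) (BT.leaf (nat_lit 28683025)) (BT.leaf (nat_lit 28659721)))) (BT.node (nat_lit 7711744) (BT.node (nat_lit 7711680) (BT.leaf (nat_lit 28659725)) (BT.leaf (nat_lit 28659737))) (BT.node (nat_lit 7711808) (BT.leaf (nat_lit 28659741)) (BT.leaf (nat_lit 28659745))))) (BT.node (nat_lit 7712128) (BT.node (nat_lit 7712000) (BT.node (nat_lit 7711936) (BT.leaf (nat_lit 28662037)) (BT.leaf (nat_lit 30605317))) (BT.node (nat_lit 7712064) (BT.leaf (nat_lit 48312345)) (BT.leaf (nat_lit 40835861)))) (BT.node (nat_lit 7712256) (BT.node (nat_lit 7712192) (BT.leaf (nat_lit 48312601)) (BT.leaf (nat_lit 35235609))) (BT.node (nat_lit 7712320) (BT.leaf (nat_lit 28310301)) (BT.leaf (nat_lit 48313881))))))) (BT.node (nat_lit 7713408) (BT.node (nat_lit 7712896) (BT.node (nat_lit 7712640) (BT.node (nat_lit 7712512) (BT.node (nat_lit 7712448) (BT.leaf (nat_lit 48314133)) (BT.leaf (nat_lit 23904029))) (BT.node (nat_lit 7712576) (BT.leaf (nat_lit 35235333)) (BT.leaf (nat_lit 31257365)))) (BT.node (nat_lit 7712768) (BT.node (nat_lit 7712704) (BT.leaf (nat_lit 24369941)) (BT.leaf (nat_lit 24369945))) (BT.node (nat_lit 7712832) (BT.leaf (nat_lit 51612933)) (BT.leaf (nat_lit 23098389))))) (BT.node (nat_lit 7713152) (BT.node (nat_lit 7713024) (BT.node (nat_lit 7712960) (BT.leaf (nat_lit 23712277)) (BT.leaf (nat_lit 32003097))) (BT.node (nat_lit 7713088) (BT.leaf (nat_lit 32003101)) (BT.leaf (nat_lit 43344145)))) (BT.node (nat_lit 7713280) (BT.node (nat_lit 7713216) (BT.leaf (nat_lit 43344149)) (BT.leaf (nat_lit 48315421))) (BT.node (nat_lit 7713344) (BT.leaf (nat_lit 30854661)) (BT.leaf (nat_lit 33834009)))))) (BT.node (nat_lit 7713920) (BT.node (nat_lit 7713664) (BT.node (nat_lit 7713536) (BT.node (nat_lit 7713472) (BT.leaf (nat_lit 28046105)) (BT.leaf (nat_lit 28047377))) (BT.node (nat_lit 7713600) (BT.leaf (nat_lit 42007073)) (BT.leaf (nat_lit 48316949)))) (BT.node (nat_lit 7713792) (BT.node (nat_lit 7713728) (BT.leaf (nat_lit 30788125)) (BT.leaf (nat_lit 29539349))) (BT.node (nat_lit 7713856) (BT.leaf (nat_lit 30854921)) (BT.leaf (nat_lit 29184033))))) (BT.node (nat_lit 7714176) (BT.node (nat_lit 7714048) (BT.node (nat_lit 7713984) (BT.leaf (nat_lit 30368785)) (BT.leaf (nat_lit 29482009))) (BT.node (nat_lit 7714112) (BT.leaf (nat_lit 47855393)) (BT.leaf (nat_lit 29539101)))) (BT.node (nat_lit 7714304) (BT.node (nat_lit 7714240) (BT.leaf (nat_lit 37010949)) (BT.leaf (nat_lit 32452629))) (BT.node (nat_lit 7714368) (BT.leaf (nat_lit 43135257)) (BT.leaf (nat_lit 47735301)))))))) (BT.node (nat_lit 7716480) (BT.node (nat_lit 7715456) (BT.node (nat_lit 7714944) (BT.node (nat_lit 7714688) (BT.node (nat_lit 7714560) (BT.node (nat_lit 7714496) (BT.leaf (nat_lit 34335773)) (BT.leaf (nat_lit 48320793))) (BT.node (nat_lit 7714624) (BT.leaf (nat_lit 24026389)) (BT.leaf (nat_lit 47314721)))) (BT.node (nat_lit 7714816) (BT.node (nat_lit 7714752) (BT.leaf (nat_lit 47314465)) (BT.leaf (nat_lit 33434645))) (BT.node (nat_lit 7714880) (BT.leaf (nat_lit 51801633)) (BT.leaf (nat_lit 39183641))))) (BT.node (nat_lit 7715200) (BT.node (nat_lit 7715072) (BT.node (nat_lit 7715008) (BT.leaf (nat_lit 34357013)) (BT.leaf (nat_lit 31061793))) (BT.node (nat_lit 7715136) (BT.leaf (nat_lit 40793113)) (BT.leaf (nat_lit 29203477)))) (BT.node (nat_lit 7715328) (BT.node (nat_lit 7715264) (BT.leaf (nat_lit 40613909)) (BT.leaf (nat_lit 23716641))) (BT.node (nat_lit 7715392) (BT.leaf (nat_lit 23716385)) (BT.leaf (nat_lit 34835989)))))) (BT.node (nat_lit 7715968) (BT.node (nat_lit 7715712) (BT.node (nat_lit 7715584) (BT.node (nat_lit 7715520) (BT.leaf (nat_lit 43355681)) (BT.leaf (nat_lit 47326485))) (BT.node (nat_lit 7715648) (BT.leaf (nat_lit 34356765)) (BT.leaf (nat_lit 40739873)))) (BT.node (nat_lit 7715840) (BT.node (nat_lit 7715776) (BT.leaf (nat_lit 40740385)) (BT.leaf (nat_lit 47300641))) (BT.node (nat_lit 7715904) (BT.leaf (nat_lit 23528213)) (BT.leaf (nat_lit 30509849))))) (BT.node (nat_lit 7716224) (BT.node (nat_lit 7716096) (BT.node (nat_lit 7716032) (BT.leaf (nat_lit 42975009)) (BT.leaf (nat_lit 32795909))) (BT.node (nat_lit 7716160) (BT.leaf (nat_lit 30997785)) (BT.leaf (nat_lit 30997789)))) (BT.node (nat_lit 7716352) (BT.node (nat_lit 7716288) (BT.leaf (nat_lit 32414489)) (BT.leaf (nat_lit 32414493))) (BT.node (nat_lit 7716416) (BT.leaf (nat_lit 48325153)) (BT.leaf (nat_lit 40394513))))))) (BT.node (nat_lit 7717504) (BT.node (nat_lit 7716992) (BT.node (nat_lit 7716736) (BT.node (nat_lit 7716608) (BT.node (nat_lit 7716544) (BT.leaf (nat_lit 27530773)) (BT.leaf (nat_lit 28961301))) (BT.node (nat_lit 7716672) (BT.leaf (nat_lit 28961309)) (BT.leaf (nat_lit 23718161)))) (BT.node (nat_lit 7716864) (BT.node (nat_lit 7716800) (BT.leaf (nat_lit 49439769)) (BT.leaf (nat_lit 33806877))) (BT.node (nat_lit 7716928) (BT.leaf (nat_lit 30789649)) (BT.leaf (nat_lit 34372369))))) (BT.node (nat_lit 7717248) (BT.node (nat_lit 7717120) (BT.node (nat_lit 7717056) (BT.leaf (nat_lit 25543953)) (BT.leaf (nat_lit 27363865))) (BT.node (nat_lit 7717184) (BT.leaf (nat_lit 27363869)) (BT.leaf (nat_lit 23600401)))) (BT.node (nat_lit 7717376) (BT.node (nat_lit 7717312) (BT.leaf (nat_lit 34578969)) (BT.leaf (nat_lit 43372305))) (BT.node (nat_lit 7717440) (BT.leaf (nat_lit 48082709)) (BT.leaf (nat_lit 38143761)))))) (BT.node (nat_lit 7718016) (BT.node (nat_lit 7717760) (BT.node (nat_lit 7717632) (BT.node (nat_lit 7717568) (BT.leaf (nat_lit 50370565)) (BT.leaf (nat_lit 24350493))) (BT.node (nat_lit 7717696) (BT.leaf (nat_lit 39324433)) (BT.leaf (nat_lit 23113233)))) (BT.node (nat_lit 7717888) (BT.node (nat_lit 7717824) (BT.leaf (nat_lit 26041365)) (BT.leaf (nat_lit 23925265))) (BT.node (nat_lit 7717952) (BT.leaf (nat_lit 23720733)) (BT.leaf (nat_lit 48330781))))) (BT.node (nat_lit 7718272) (BT.node (nat_lit 7718144) (BT.node (nat_lit 7718080) (BT.leaf (nat_lit 25917717)) (BT.leaf (nat_lit 23721497))) (BT.node (nat_lit 7718208) (BT.leaf (nat_lit 23723285)) (BT.leaf (nat_lit 40879381)))) (BT.node (nat_lit 7718400) (BT.node (nat_lit 7718336) (BT.leaf (nat_lit 26503949)) (BT.leaf (nat_lit 48331533))) (BT.node (nat_lit 7718464) (BT.leaf (nat_lit 26503965)) (BT.leaf (nat_lit 47306785))))))))) (BT.node (nat_lit 7722624) (BT.node (nat_lit 7720576) (BT.node (nat_lit 7719552) (BT.node (nat_lit 7719040) (BT.node (nat_lit 7718784) (BT.node (nat_lit 7718656) (BT.node (nat_lit 7718592) (BT.leaf (nat_lit 46802465)) (BT.leaf (nat_lit 27851029))) (BT.node (nat_lit 7718720) (BT.leaf (nat_lit 22972701)) (BT.leaf (nat_lit 30474269)))) (BT.node (nat_lit 7718912) (BT.node (nat_lit 7718848) (BT.leaf (nat_lit 24346385)) (BT.leaf (nat_lit 24178201))) (BT.node (nat_lit 7718976) (BT.leaf (nat_lit 30816029)) (BT.leaf (nat_lit 34838277))))) (BT.node (nat_lit 7719296) (BT.node (nat_lit 7719168) (BT.node (nat_lit 7719104) (BT.leaf (nat_lit 29544993)) (BT.leaf (nat_lit 47723533))) (BT.node (nat_lit 7719232) (BT.leaf (nat_lit 29890061)) (BT.leaf (nat_lit 25607189)))) (BT.node (nat_lit 7719424) (BT.node (nat_lit 7719360) (BT.leaf (nat_lit 31912477)) (BT.leaf (nat_lit 23002393))) (BT.node (nat_lit 7719488) (BT.leaf (nat_lit 48561937)) (BT.leaf (nat_lit 23727897)))))) (BT.node (nat_lit 7720064) (BT.node (nat_lit 7719808) (BT.node (nat_lit 7719680) (BT.node (nat_lit 7719616) (BT.leaf (nat_lit 30011153)) (BT.leaf (nat_lit 50609177))) (BT.node (nat_lit 7719744) (BT.leaf (nat_lit 23728157)) (BT.leaf (nat_lit 36996121)))) (BT.node (nat_lit 7719936) (BT.node (nat_lit 7719872) (BT.leaf (nat_lit 23727901)) (BT.leaf (nat_lit 32304401))) (BT.node (nat_lit 7720000) (BT.leaf (nat_lit 41603605)) (BT.leaf (nat_lit 23728153))))) (BT.node (nat_lit 7720320) (BT.node (nat_lit 7720192) (BT.node (nat_lit 7720128) (BT.leaf (nat_lit 46369569)) (BT.leaf (nat_lit 30245897))) (BT.node (nat_lit 7720256) (BT.leaf (nat_lit 50972705)) (BT.leaf (nat_lit 32808453)))) (BT.node (nat_lit 7720448) (BT.node (nat_lit 7720384) (BT.leaf (nat_lit 30245913)) (BT.leaf (nat_lit 30245917))) (BT.node (nat_lit 7720512) (BT.leaf (nat_lit 33693209)) (BT.leaf (nat_lit 23728665))))))) (BT.node (nat_lit 7721600) (BT.node (nat_lit 7721088) (BT.node (nat_lit 7720832) (BT.node (nat_lit 7720704) (BT.node (nat_lit 7720640) (BT.leaf (nat_lit 29796881)) (BT.leaf (nat_lit 48339213))) (BT.node (nat_lit 7720768) (BT.leaf (nat_lit 31370501)) (BT.leaf (nat_lit 48297497)))) (BT.node (nat_lit 7720960) (BT.node (nat_lit 7720896) (BT.leaf (nat_lit 23730713)) (BT.leaf (nat_lit 33698585))) (BT.node (nat_lit 7721024) (BT.leaf (nat_lit 27439125)) (BT.leaf (nat_lit 23614749))))) (BT.node (nat_lit 7721344) (BT.node (nat_lit 7721216) (BT.node (nat_lit 7721152) (BT.leaf (nat_lit 23005981)) (BT.leaf (nat_lit 48467973))) (BT.node (nat_lit 7721280) (BT.leaf (nat_lit 23614745)) (BT.leaf (nat_lit 22458645)))) (BT.node (nat_lit 7721472) (BT.node (nat_lit 7721408) (BT.leaf (nat_lit 33351689)) (BT.leaf (nat_lit 33351693))) (BT.node (nat_lit 7721536) (BT.leaf (nat_lit 33351705)) (BT.leaf (nat_lit 33351709)))))) (BT.node (nat_lit 7722112) (BT.node (nat_lit 7721856) (BT.node (nat_lit 7721728) (BT.node (nat_lit 7721664) (BT.leaf (nat_lit 34021909)) (BT.leaf (nat_lit 48342301))) (BT.node (nat_lit 7721792) (BT.leaf (nat_lit 48342805)) (BT.leaf (nat_lit 26023429)))) (BT.node (nat_lit 7721984) (BT.node (nat_lit 7721920) (BT.leaf (nat_lit 35231265)) (BT.leaf (nat_lit 48342285))) (BT.node (nat_lit 7722048) (BT.leaf (nat_lit 48343829)) (BT.leaf (nat_lit 47716125))))) (BT.node (nat_lit 7722368) (BT.node (nat_lit 7722240) (BT.node (nat_lit 7722176) (BT.leaf (nat_lit 34324493)) (BT.leaf (nat_lit 39947541))) (BT.node (nat_lit 7722304) (BT.leaf (nat_lit 32909841)) (BT.leaf (nat_lit 35039521)))) (BT.node (nat_lit 7722496) (BT.node (nat_lit 7722432) (BT.leaf (nat_lit 39945745)) (BT.leaf (nat_lit 43388677))) (BT.node (nat_lit 7722560) (BT.leaf (nat_lit 28655121)) (BT.leaf (nat_lit 28690461)))))))) (BT.node (nat_lit 7724672) (BT.node (nat_lit 7723648) (BT.node (nat_lit 7723136) (BT.node (nat_lit 7722880) (BT.node (nat_lit 7722752) (BT.node (nat_lit 7722688) (BT.leaf (nat_lit 48345361)) (BT.leaf (nat_lit 34713877))) (BT.node (nat_lit 7722816) (BT.leaf (nat_lit 32091421)) (BT.leaf (nat_lit 39492897)))) (BT.node (nat_lit 7723008) (BT.node (nat_lit 7722944) (BT.leaf (nat_lit 29202717)) (BT.leaf (nat_lit 29522193))) (BT.node (nat_lit 7723072) (BT.leaf (nat_lit 31806997)) (BT.leaf (nat_lit 46683933))))) (BT.node (nat_lit 7723392) (BT.node (nat_lit 7723264) (BT.node (nat_lit 7723200) (BT.leaf (nat_lit 37778713)) (BT.leaf (nat_lit 37778717))) (BT.node (nat_lit 7723328) (BT.leaf (nat_lit 32093201)) (BT.leaf (nat_lit 33909269)))) (BT.node (nat_lit 7723520) (BT.node (nat_lit 7723456) (BT.leaf (nat_lit 24177165)) (BT.leaf (nat_lit 48347161))) (BT.node (nat_lit 7723584) (BT.leaf (nat_lit 29091353)) (BT.leaf (nat_lit 24177185)))))) (BT.node (nat_lit 7724160) (BT.node (nat_lit 7723904) (BT.node (nat_lit 7723776) (BT.node (nat_lit 7723712) (BT.leaf (nat_lit 33787677)) (BT.leaf (nat_lit 23112221))) (BT.node (nat_lit 7723840) (BT.leaf (nat_lit 27601169)) (BT.leaf (nat_lit 48347665)))) (BT.node (nat_lit 7724032) (BT.node (nat_lit 7723968) (BT.leaf (nat_lit 23878177)) (BT.leaf (nat_lit 42865173))) (BT.node (nat_lit 7724096) (BT.leaf (nat_lit 30744593)) (BT.leaf (nat_lit 30744609))))) (BT.node (nat_lit 7724416) (BT.node (nat_lit 7724288) (BT.node (nat_lit 7724224) (BT.leaf (nat_lit 30096145)) (BT.leaf (nat_lit 40868897))) (BT.node (nat_lit 7724352) (BT.leaf (nat_lit 31012629)) (BT.leaf (nat_lit 28559385)))) (BT.node (nat_lit 7724544) (BT.node (nat_lit 7724480) (BT.leaf (nat_lit 36024097)) (BT.leaf (nat_lit 32836885))) (BT.node (nat_lit 7724608) (BT.leaf (nat_lit 25556245)) (BT.leaf (nat_lit 30378513))))))) (BT.node (nat_lit 7725696) (BT.node (nat_lit 7725184) (BT.node (nat_lit 7724928) (BT.node (nat_lit 7724800) (BT.node (nat_lit 7724736) (BT.leaf (nat_lit 23742229)) (BT.leaf (nat_lit 27586313))) (BT.node (nat_lit 7724864) (BT.leaf (nat_lit 34340629)) (BT.leaf (nat_lit 46647841)))) (BT.node (nat_lit 7725056) (BT.node (nat_lit 7724992) (BT.leaf (nat_lit 27586329)) (BT.leaf (nat_lit 27586333))) (BT.node (nat_lit 7725120) (BT.leaf (nat_lit 32085281)) (BT.leaf (nat_lit 27625493))))) (BT.node (nat_lit 7725440) (BT.node (nat_lit 7725312) (BT.node (nat_lit 7725248) (BT.leaf (nat_lit 23742745)) (BT.leaf (nat_lit 23743249))) (BT.node (nat_lit 7725376) (BT.leaf (nat_lit 51426577)) (BT.leaf (nat_lit 39638041)))) (BT.node (nat_lit 7725568) (BT.node (nat_lit 7725504) (BT.leaf (nat_lit 48000529)) (BT.leaf (nat_lit 48351773))) (BT.node (nat_lit 7725632) (BT.leaf (nat_lit 24430361)) (BT.leaf (nat_lit 24430365)))))) (BT.node (nat_lit 7726208) (BT.node (nat_lit 7725952) (BT.node (nat_lit 7725824) (BT.node (nat_lit 7725760) (BT.leaf (nat_lit 23743001)) (BT.leaf (nat_lit 39636753))) (BT.node (nat_lit 7725888) (BT.leaf (nat_lit 39226389)) (BT.leaf (nat_lit 24363293)))) (BT.node (nat_lit 7726080) (BT.node (nat_lit 7726016) (BT.leaf (nat_lit 23743005)) (BT.leaf (nat_lit 41863949))) (BT.node (nat_lit 7726144) (BT.leaf (nat_lit 29358109)) (BT.leaf (nat_lit 24363545))))) (BT.node (nat_lit 7726464) (BT.node (nat_lit 7726336) (BT.node (nat_lit 7726272) (BT.leaf (nat_lit 39126025)) (BT.leaf (nat_lit 22598941))) (BT.node (nat_lit 7726400) (BT.leaf (nat_lit 22598937)) (BT.leaf (nat_lit 35956761)))) (BT.node (nat_lit 7726592) (BT.node (nat_lit 7726528) (BT.leaf (nat_lit 33152785)) (BT.leaf (nat_lit 23746333))) (BT.node (nat_lit 7726656) (BT.leaf (nat_lit 25499933)) (BT.leaf (nat_lit 47686153)))))))))))))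
noncomputable def big0_e53248 : BT Nat := (BT.node (nat_lit 7792256) (BT.node (nat_lit 7759488) (BT.node (nat_lit 7743104) (BT.node (nat_lit 7734912) (BT.node (nat_lit 7730816) (BT.node (nat_lit 7728768) (BT.node (nat_lit 7727744) (BT.node (nat_lit 7727232) (BT.node (nat_lit 7726976) (BT.node (nat_lit 7726848) (BT.node (nat_lit 7726784) (BT.leaf (nat_lit 23746329)) (BT.leaf (nat_lit 33670933))) (BT.node (nat_lit 7726912) (BT.leaf (nat_lit 30859041)) (BT.leaf (nat_lit 32712453)))) (BT.node (nat_lit 7727104) (BT.node (nat_lit 7727040) (BT.leaf (nat_lit 48355869)) (BT.leaf (nat_lit 29067797))) (BT.node (nat_lit 7727168) (BT.leaf (nat_lit 24549913)) (BT.leaf (nat_lit 24549917))))) (BT.node (nat_lit 7727488) (BT.node (nat_lit 7727360) (BT.node (nat_lit 7727296) (BT.leaf (nat_lit 39716377)) (BT.leaf (nat_lit 30511377))) (BT.node (nat_lit 7727424) (BT.leaf (nat_lit 30339097)) (BT.leaf (nat_lit 43423749)))) (BT.node (nat_lit 7727616) (BT.node (nat_lit 7727552) (BT.leaf (nat_lit 23748117)) (BT.leaf (nat_lit 30943749))) (BT.node (nat_lit 7727680) (BT.leaf (nat_lit 32859653)) (BT.leaf (nat_lit 47831053)))))) (BT.node (nat_lit 7728256) (BT.node (nat_lit 7728000) (BT.node (nat_lit 7727872) (BT.node (nat_lit 7727808) (BT.leaf (nat_lit 40248089)) (BT.leaf (nat_lit 23748373))) (BT.node (nat_lit 7727936) (BT.leaf (nat_lit 35351841)) (BT.leaf (nat_lit 34112281)))) (BT.node (nat_lit 7728128) (BT.node (nat_lit 7728064) (BT.leaf (nat_lit 48357141)) (BT.leaf (nat_lit 29582597))) (BT.node (nat_lit 7728192) (BT.leaf (nat_lit 23472401)) (BT.leaf (nat_lit 30817825))))) (BT.node (nat_lit 7728512) (BT.node (nat_lit 7728384) (BT.node (nat_lit 7728320) (BT.leaf (nat_lit 24378913)) (BT.leaf (nat_lit 24786181))) (BT.node (nat_lit 7728448) (BT.leaf (nat_lit 38986001)) (BT.leaf (nat_lit 30913561)))) (BT.node (nat_lit 7728640) (BT.node (nat_lit 7728576) (BT.leaf (nat_lit 23749901)) (BT.leaf (nat_lit 23749897))) (BT.node (nat_lit 7728704) (BT.leaf (nat_lit 48358425)) (BT.leaf (nat_lit 48480033))))))) (BT.node (nat_lit 7729792) (BT.node (nat_lit 7729280) (BT.node (nat_lit 7729024) (BT.node (nat_lit 7728896) (BT.node (nat_lit 7728832) (BT.leaf (nat_lit 32309013)) (BT.leaf (nat_lit 45317909))) (BT.node (nat_lit 7728960) (BT.leaf (nat_lit 27538185)) (BT.leaf (nat_lit 27538189)))) (BT.node (nat_lit 7729152) (BT.node (nat_lit 7729088) (BT.leaf (nat_lit 27538201)) (BT.leaf (nat_lit 27538205))) (BT.node (nat_lit 7729216) (BT.leaf (nat_lit 41556001)) (BT.leaf (nat_lit 39129121))))) (BT.node (nat_lit 7729536) (BT.node (nat_lit 7729408) (BT.node (nat_lit 7729344) (BT.leaf (nat_lit 29739809)) (BT.leaf (nat_lit 29197589))) (BT.node (nat_lit 7729472) (BT.leaf (nat_lit 33712397)) (BT.leaf (nat_lit 30917657)))) (BT.node (nat_lit 7729664) (BT.node (nat_lit 7729600) (BT.leaf (nat_lit 23782933)) (BT.leaf (nat_lit 23782937))) (BT.node (nat_lit 7729728) (BT.leaf (nat_lit 23782941)) (BT.leaf (nat_lit 27536405)))))) (BT.node (nat_lit 7730304) (BT.node (nat_lit 7730048) (BT.node (nat_lit 7729920) (BT.node (nat_lit 7729856) (BT.leaf (nat_lit 31648785)) (BT.leaf (nat_lit 30069273))) (BT.node (nat_lit 7729984) (BT.leaf (nat_lit 32449029)) (BT.leaf (nat_lit 32601629)))) (BT.node (nat_lit 7730176) (BT.node (nat_lit 7730112) (BT.leaf (nat_lit 48364309)) (BT.leaf (nat_lit 34335237))) (BT.node (nat_lit 7730240) (BT.leaf (nat_lit 47480837)) (BT.leaf (nat_lit 23753233))))) (BT.node (nat_lit 7730560) (BT.node (nat_lit 7730432) (BT.node (nat_lit 7730368) (BT.leaf (nat_lit 23751953)) (BT.leaf (nat_lit 23477777))) (BT.node (nat_lit 7730496) (BT.leaf (nat_lit 32026901)) (BT.leaf (nat_lit 39258901)))) (BT.node (nat_lit 7730688) (BT.node (nat_lit 7730624) (BT.leaf (nat_lit 48366609)) (BT.leaf (nat_lit 28760333))) (BT.node (nat_lit 7730752) (BT.leaf (nat_lit 23754257)) (BT.leaf (nat_lit 23754001)))))))) (BT.node (nat_lit 7732864) (BT.node (nat_lit 7731840) (BT.node (nat_lit 7731328) (BT.node (nat_lit 7731072) (BT.node (nat_lit 7730944) (BT.node (nat_lit 7730880) (BT.leaf (nat_lit 32163077)) (BT.leaf (nat_lit 23350545))) (BT.node (nat_lit 7731008) (BT.leaf (nat_lit 23470609)) (BT.leaf (nat_lit 48368161)))) (BT.node (nat_lit 7731200) (BT.node (nat_lit 7731136) (BT.leaf (nat_lit 30063629)) (BT.leaf (nat_lit 48367381))) (BT.node (nat_lit 7731264) (BT.leaf (nat_lit 23754517)) (BT.leaf (nat_lit 47043357))))) (BT.node (nat_lit 7731584) (BT.node (nat_lit 7731456) (BT.node (nat_lit 7731392) (BT.leaf (nat_lit 28054037)) (BT.leaf (nat_lit 41498393))) (BT.node (nat_lit 7731520) (BT.leaf (nat_lit 32107525)) (BT.leaf (nat_lit 48124949)))) (BT.node (nat_lit 7731712) (BT.node (nat_lit 7731648) (BT.leaf (nat_lit 41497617)) (BT.leaf (nat_lit 32161029))) (BT.node (nat_lit 7731776) (BT.leaf (nat_lit 32641813)) (BT.leaf (nat_lit 35026201)))))) (BT.node (nat_lit 7732352) (BT.node (nat_lit 7732096) (BT.node (nat_lit 7731968) (BT.node (nat_lit 7731904) (BT.leaf (nat_lit 48368917)) (BT.leaf (nat_lit 29131781))) (BT.node (nat_lit 7732032) (BT.leaf (nat_lit 24559121)) (BT.leaf (nat_lit 24850721)))) (BT.node (nat_lit 7732224) (BT.node (nat_lit 7732160) (BT.leaf (nat_lit 25603609)) (BT.leaf (nat_lit 25604117))) (BT.node (nat_lit 7732288) (BT.leaf (nat_lit 33901085)) (BT.leaf (nat_lit 23755793))))) (BT.node (nat_lit 7732608) (BT.node (nat_lit 7732480) (BT.node (nat_lit 7732416) (BT.leaf (nat_lit 31574801)) (BT.leaf (nat_lit 33466653))) (BT.node (nat_lit 7732544) (BT.leaf (nat_lit 34374921)) (BT.leaf (nat_lit 30758409)))) (BT.node (nat_lit 7732736) (BT.node (nat_lit 7732672) (BT.leaf (nat_lit 24126737)) (BT.leaf (nat_lit 25009437))) (BT.node (nat_lit 7732800) (BT.leaf (nat_lit 48370961)) (BT.leaf (nat_lit 24779801))))))) (BT.node (nat_lit 7733888) (BT.node (nat_lit 7733376) (BT.node (nat_lit 7733120) (BT.node (nat_lit 7732992) (BT.node (nat_lit 7732928) (BT.leaf (nat_lit 24779805)) (BT.leaf (nat_lit 40765725))) (BT.node (nat_lit 7733056) (BT.leaf (nat_lit 30632965)) (BT.leaf (nat_lit 31558929)))) (BT.node (nat_lit 7733248) (BT.node (nat_lit 7733184) (BT.leaf (nat_lit 23757841)) (BT.leaf (nat_lit 24306969))) (BT.node (nat_lit 7733312) (BT.leaf (nat_lit 34739229)) (BT.leaf (nat_lit 34701337))))) (BT.node (nat_lit 7733632) (BT.node (nat_lit 7733504) (BT.node (nat_lit 7733440) (BT.leaf (nat_lit 31659285)) (BT.leaf (nat_lit 46638097))) (BT.node (nat_lit 7733568) (BT.leaf (nat_lit 27379717)) (BT.leaf (nat_lit 47772181)))) (BT.node (nat_lit 7733760) (BT.node (nat_lit 7733696) (BT.leaf (nat_lit 48374817)) (BT.leaf (nat_lit 48375073))) (BT.node (nat_lit 7733824) (BT.leaf (nat_lit 23594005)) (BT.leaf (nat_lit 37786133)))))) (BT.node (nat_lit 7734400) (BT.node (nat_lit 7734144) (BT.node (nat_lit 7734016) (BT.node (nat_lit 7733952) (BT.leaf (nat_lit 29871641)) (BT.leaf (nat_lit 23760145))) (BT.node (nat_lit 7734080) (BT.leaf (nat_lit 23479313)) (BT.leaf (nat_lit 48375585)))) (BT.node (nat_lit 7734272) (BT.node (nat_lit 7734208) (BT.leaf (nat_lit 23760401)) (BT.leaf (nat_lit 30355229))) (BT.node (nat_lit 7734336) (BT.leaf (nat_lit 25568533)) (BT.leaf (nat_lit 24717333))))) (BT.node (nat_lit 7734656) (BT.node (nat_lit 7734528) (BT.node (nat_lit 7734464) (BT.leaf (nat_lit 32797969)) (BT.leaf (nat_lit 24408601))) (BT.node (nat_lit 7734592) (BT.leaf (nat_lit 48377365)) (BT.leaf (nat_lit 39833369)))) (BT.node (nat_lit 7734784) (BT.node (nat_lit 7734720) (BT.leaf (nat_lit 34871557)) (BT.leaf (nat_lit 30781461))) (BT.node (nat_lit 7734848) (BT.leaf (nat_lit 39877641)) (BT.leaf (nat_lit 38911777))))))))) (BT.node (nat_lit 7739008) (BT.node (nat_lit 7736960) (BT.node (nat_lit 7735936) (BT.node (nat_lit 7735424) (BT.node (nat_lit 7735168) (BT.node (nat_lit 7735040) (BT.node (nat_lit 7734976) (BT.leaf (nat_lit 35315477)) (BT.leaf (nat_lit 25569045))) (BT.node (nat_lit 7735104) (BT.leaf (nat_lit 32122909)) (BT.leaf (nat_lit 32147985)))) (BT.node (nat_lit 7735296) (BT.node (nat_lit 7735232) (BT.leaf (nat_lit 32797985)) (BT.leaf (nat_lit 48379169))) (BT.node (nat_lit 7735360) (BT.leaf (nat_lit 31829013)) (BT.leaf (nat_lit 30941193))))) (BT.node (nat_lit 7735680) (BT.node (nat_lit 7735552) (BT.node (nat_lit 7735488) (BT.leaf (nat_lit 43474693)) (BT.leaf (nat_lit 42759189))) (BT.node (nat_lit 7735616) (BT.leaf (nat_lit 47460101)) (BT.leaf (nat_lit 43473941)))) (BT.node (nat_lit 7735808) (BT.node (nat_lit 7735744) (BT.leaf (nat_lit 28022289)) (BT.leaf (nat_lit 33290265))) (BT.node (nat_lit 7735872) (BT.leaf (nat_lit 29735185)) (BT.leaf (nat_lit 24657685)))))) (BT.node (nat_lit 7736448) (BT.node (nat_lit 7736192) (BT.node (nat_lit 7736064) (BT.node (nat_lit 7736000) (BT.leaf (nat_lit 28316953)) (BT.leaf (nat_lit 28316957))) (BT.node (nat_lit 7736128) (BT.leaf (nat_lit 30084629)) (BT.leaf (nat_lit 39166981)))) (BT.node (nat_lit 7736320) (BT.node (nat_lit 7736256) (BT.leaf (nat_lit 24112145)) (BT.leaf (nat_lit 30084377))) (BT.node (nat_lit 7736384) (BT.leaf (nat_lit 29008665)) (BT.leaf (nat_lit 48379925))))) (BT.node (nat_lit 7736704) (BT.node (nat_lit 7736576) (BT.node (nat_lit 7736512) (BT.leaf (nat_lit 46684705)) (BT.leaf (nat_lit 24283417))) (BT.node (nat_lit 7736640) (BT.leaf (nat_lit 24283421)) (BT.leaf (nat_lit 31991301)))) (BT.node (nat_lit 7736832) (BT.node (nat_lit 7736768) (BT.leaf (nat_lit 39736849)) (BT.leaf (nat_lit 38567177))) (BT.node (nat_lit 7736896) (BT.leaf (nat_lit 34020629)) (BT.leaf (nat_lit 30275361))))))) (BT.node (nat_lit 7737984) (BT.node (nat_lit 7737472) (BT.node (nat_lit 7737216) (BT.node (nat_lit 7737088) (BT.node (nat_lit 7737024) (BT.leaf (nat_lit 43485713)) (BT.leaf (nat_lit 48380437))) (BT.node (nat_lit 7737152) (BT.leaf (nat_lit 48380677)) (BT.leaf (nat_lit 30271005)))) (BT.node (nat_lit 7737344) (BT.node (nat_lit 7737280) (BT.leaf (nat_lit 48381445)) (BT.leaf (nat_lit 47842565))) (BT.node (nat_lit 7737408) (BT.leaf (nat_lit 27857937)) (BT.leaf (nat_lit 27857941))))) (BT.node (nat_lit 7737728) (BT.node (nat_lit 7737600) (BT.node (nat_lit 7737536) (BT.leaf (nat_lit 23763481)) (BT.leaf (nat_lit 49200393))) (BT.node (nat_lit 7737664) (BT.leaf (nat_lit 30950685)) (BT.leaf (nat_lit 48382229)))) (BT.node (nat_lit 7737856) (BT.node (nat_lit 7737792) (BT.leaf (nat_lit 23764001)) (BT.leaf (nat_lit 42527765))) (BT.node (nat_lit 7737920) (BT.leaf (nat_lit 43450381)) (BT.leaf (nat_lit 43450901)))))) (BT.node (nat_lit 7738496) (BT.node (nat_lit 7738240) (BT.node (nat_lit 7738112) (BT.node (nat_lit 7738048) (BT.leaf (nat_lit 23362065)) (BT.leaf (nat_lit 32177693))) (BT.node (nat_lit 7738176) (BT.leaf (nat_lit 35031825)) (BT.leaf (nat_lit 37960729)))) (BT.node (nat_lit 7738368) (BT.node (nat_lit 7738304) (BT.leaf (nat_lit 37960733)) (BT.leaf (nat_lit 26421013))) (BT.node (nat_lit 7738432) (BT.leaf (nat_lit 23767313)) (BT.leaf (nat_lit 23166993))))) (BT.node (nat_lit 7738752) (BT.node (nat_lit 7738624) (BT.node (nat_lit 7738560) (BT.leaf (nat_lit 39342113)) (BT.leaf (nat_lit 47887113))) (BT.node (nat_lit 7738688) (BT.leaf (nat_lit 24797189)) (BT.leaf (nat_lit 23767569)))) (BT.node (nat_lit 7738880) (BT.node (nat_lit 7738816) (BT.leaf (nat_lit 40072205)) (BT.leaf (nat_lit 22638101))) (BT.node (nat_lit 7738944) (BT.leaf (nat_lit 40981281)) (BT.leaf (nat_lit 28556057)))))))) (BT.node (nat_lit 7741056) (BT.node (nat_lit 7740032) (BT.node (nat_lit 7739520) (BT.node (nat_lit 7739264) (BT.node (nat_lit 7739136) (BT.node (nat_lit 7739072) (BT.leaf (nat_lit 35069217)) (BT.leaf (nat_lit 32922145))) (BT.node (nat_lit 7739200) (BT.leaf (nat_lit 32922885)) (BT.leaf (nat_lit 24481797)))) (BT.node (nat_lit 7739392) (BT.node (nat_lit 7739328) (BT.leaf (nat_lit 35068961)) (BT.leaf (nat_lit 35318533))) (BT.node (nat_lit 7739456) (BT.leaf (nat_lit 48037129)) (BT.leaf (nat_lit 39567637))))) (BT.node (nat_lit 7739776) (BT.node (nat_lit 7739648) (BT.node (nat_lit 7739584) (BT.leaf (nat_lit 39955465)) (BT.leaf (nat_lit 32866081))) (BT.node (nat_lit 7739712) (BT.leaf (nat_lit 31240965)) (BT.leaf (nat_lit 48386585)))) (BT.node (nat_lit 7739904) (BT.node (nat_lit 7739840) (BT.leaf (nat_lit 48386837)) (BT.leaf (nat_lit 32802821))) (BT.node (nat_lit 7739968) (BT.leaf (nat_lit 46565133)) (BT.leaf (nat_lit 38508565)))))) (BT.node (nat_lit 7740544) (BT.node (nat_lit 7740288) (BT.node (nat_lit 7740160) (BT.node (nat_lit 7740096) (BT.leaf (nat_lit 29150485)) (BT.leaf (nat_lit 33859589))) (BT.node (nat_lit 7740224) (BT.leaf (nat_lit 29148961)) (BT.leaf (nat_lit 38805009)))) (BT.node (nat_lit 7740416) (BT.node (nat_lit 7740352) (BT.leaf (nat_lit 40824341)) (BT.leaf (nat_lit 51033097))) (BT.node (nat_lit 7740480) (BT.leaf (nat_lit 28767765)) (BT.leaf (nat_lit 31343365))))) (BT.node (nat_lit 7740800) (BT.node (nat_lit 7740672) (BT.node (nat_lit 7740608) (BT.leaf (nat_lit 38619397)) (BT.leaf (nat_lit 46702873))) (BT.node (nat_lit 7740736) (BT.leaf (nat_lit 48388369)) (BT.leaf (nat_lit 31962129)))) (BT.node (nat_lit 7740928) (BT.node (nat_lit 7740864) (BT.leaf (nat_lit 32458769)) (BT.leaf (nat_lit 34140169))) (BT.node (nat_lit 7740992) (BT.leaf (nat_lit 30963481)) (BT.leaf (nat_lit 32458785))))))) (BT.node (nat_lit 7742080) (BT.node (nat_lit 7741568) (BT.node (nat_lit 7741312) (BT.node (nat_lit 7741184) (BT.node (nat_lit 7741120) (BT.leaf (nat_lit 47945233)) (BT.leaf (nat_lit 47945249))) (BT.node (nat_lit 7741248) (BT.leaf (nat_lit 23771397)) (BT.leaf (nat_lit 24786185)))) (BT.node (nat_lit 7741440) (BT.node (nat_lit 7741376) (BT.leaf (nat_lit 24786189)) (BT.leaf (nat_lit 24786193))) (BT.node (nat_lit 7741504) (BT.leaf (nat_lit 24786201)) (BT.leaf (nat_lit 24786205))))) (BT.node (nat_lit 7741824) (BT.node (nat_lit 7741696) (BT.node (nat_lit 7741632) (BT.leaf (nat_lit 24786209)) (BT.leaf (nat_lit 39921693))) (BT.node (nat_lit 7741760) (BT.leaf (nat_lit 23772173)) (BT.leaf (nat_lit 23772169)))) (BT.node (nat_lit 7741952) (BT.node (nat_lit 7741888) (BT.leaf (nat_lit 23880721)) (BT.leaf (nat_lit 33319449))) (BT.node (nat_lit 7742016) (BT.leaf (nat_lit 41863701)) (BT.leaf (nat_lit 47111441)))))) (BT.node (nat_lit 7742592) (BT.node (nat_lit 7742336) (BT.node (nat_lit 7742208) (BT.node (nat_lit 7742144) (BT.leaf (nat_lit 40036897)) (BT.leaf (nat_lit 49141269))) (BT.node (nat_lit 7742272) (BT.leaf (nat_lit 32237833)) (BT.leaf (nat_lit 31087881)))) (BT.node (nat_lit 7742464) (BT.node (nat_lit 7742400) (BT.leaf (nat_lit 23774989)) (BT.leaf (nat_lit 23774985))) (BT.node (nat_lit 7742528) (BT.leaf (nat_lit 30369561)) (BT.leaf (nat_lit 48008205))))) (BT.node (nat_lit 7742848) (BT.node (nat_lit 7742720) (BT.node (nat_lit 7742656) (BT.leaf (nat_lit 42255393)) (BT.leaf (nat_lit 30367261))) (BT.node (nat_lit 7742784) (BT.leaf (nat_lit 25022737)) (BT.leaf (nat_lit 30970905)))) (BT.node (nat_lit 7742976) (BT.node (nat_lit 7742912) (BT.leaf (nat_lit 42559777)) (BT.leaf (nat_lit 30366989))) (BT.node (nat_lit 7743040) (BT.leaf (nat_lit 39737377)) (BT.leaf (nat_lit 39757077)))))))))) (BT.node (nat_lit 7751296) (BT.node (nat_lit 7747200) (BT.node (nat_lit 7745152) (BT.node (nat_lit 7744128) (BT.node (nat_lit 7743616) (BT.node (nat_lit 7743360) (BT.node (nat_lit 7743232) (BT.node (nat_lit 7743168) (BT.leaf (nat_lit 49200389)) (BT.leaf (nat_lit 41292053))) (BT.node (nat_lit 7743296) (BT.leaf (nat_lit 47068193)) (BT.leaf (nat_lit 24130577)))) (BT.node (nat_lit 7743488) (BT.node (nat_lit 7743424) (BT.leaf (nat_lit 25413913)) (BT.leaf (nat_lit 23756829))) (BT.node (nat_lit 7743552) (BT.leaf (nat_lit 29300505)) (BT.leaf (nat_lit 29300509))))) (BT.node (nat_lit 7743872) (BT.node (nat_lit 7743744) (BT.node (nat_lit 7743680) (BT.leaf (nat_lit 34089737)) (BT.leaf (nat_lit 30470925))) (BT.node (nat_lit 7743808) (BT.leaf (nat_lit 25576725)) (BT.leaf (nat_lit 30470937)))) (BT.node (nat_lit 7744000) (BT.node (nat_lit 7743936) (BT.leaf (nat_lit 30470941)) (BT.leaf (nat_lit 48396309))) (BT.node (nat_lit 7744064) (BT.leaf (nat_lit 49648405)) (BT.leaf (nat_lit 24779541)))))) (BT.node (nat_lit 7744640) (BT.node (nat_lit 7744384) (BT.node (nat_lit 7744256) (BT.node (nat_lit 7744192) (BT.leaf (nat_lit 23778321)) (BT.leaf (nat_lit 23485713))) (BT.node (nat_lit 7744320) (BT.leaf (nat_lit 23777553)) (BT.leaf (nat_lit 30279713)))) (BT.node (nat_lit 7744512) (BT.node (nat_lit 7744448) (BT.leaf (nat_lit 22640913)) (BT.leaf (nat_lit 23751185))) (BT.node (nat_lit 7744576) (BT.leaf (nat_lit 32467977)) (BT.leaf (nat_lit 47965709))))) (BT.node (nat_lit 7744896) (BT.node (nat_lit 7744768) (BT.node (nat_lit 7744704) (BT.leaf (nat_lit 24582157)) (BT.leaf (nat_lit 31915297))) (BT.node (nat_lit 7744832) (BT.leaf (nat_lit 31915525)) (BT.leaf (nat_lit 42281229)))) (BT.node (nat_lit 7745024) (BT.node (nat_lit 7744960) (BT.leaf (nat_lit 31870485)) (BT.leaf (nat_lit 48401429))) (BT.node (nat_lit 7745088) (BT.leaf (nat_lit 48402193)) (BT.leaf (nat_lit 25018901))))))) (BT.node (nat_lit 7746176) (BT.node (nat_lit 7745664) (BT.node (nat_lit 7745408) (BT.node (nat_lit 7745280) (BT.node (nat_lit 7745216) (BT.leaf (nat_lit 29954081)) (BT.leaf (nat_lit 48402717))) (BT.node (nat_lit 7745344) (BT.leaf (nat_lit 39853841)) (BT.leaf (nat_lit 48403217)))) (BT.node (nat_lit 7745536) (BT.node (nat_lit 7745472) (BT.leaf (nat_lit 48403221)) (BT.leaf (nat_lit 26656273))) (BT.node (nat_lit 7745600) (BT.leaf (nat_lit 23813397)) (BT.leaf (nat_lit 27648273))))) (BT.node (nat_lit 7745920) (BT.node (nat_lit 7745792) (BT.node (nat_lit 7745728) (BT.leaf (nat_lit 29495317)) (BT.leaf (nat_lit 31076125))) (BT.node (nat_lit 7745856) (BT.leaf (nat_lit 24582169)) (BT.leaf (nat_lit 24582173)))) (BT.node (nat_lit 7746048) (BT.node (nat_lit 7745984) (BT.leaf (nat_lit 44323605)) (BT.leaf (nat_lit 47041297))) (BT.node (nat_lit 7746112) (BT.leaf (nat_lit 24153113)) (BT.leaf (nat_lit 48404245)))))) (BT.node (nat_lit 7746688) (BT.node (nat_lit 7746432) (BT.node (nat_lit 7746304) (BT.node (nat_lit 7746240) (BT.leaf (nat_lit 33627677)) (BT.leaf (nat_lit 46390049))) (BT.node (nat_lit 7746368) (BT.leaf (nat_lit 31829521)) (BT.leaf (nat_lit 40689417)))) (BT.node (nat_lit 7746560) (BT.node (nat_lit 7746496) (BT.leaf (nat_lit 28851997)) (BT.leaf (nat_lit 42833677))) (BT.node (nat_lit 7746624) (BT.leaf (nat_lit 31409437)) (BT.leaf (nat_lit 28083221))))) (BT.node (nat_lit 7746944) (BT.node (nat_lit 7746816) (BT.node (nat_lit 7746752) (BT.leaf (nat_lit 31148305)) (BT.leaf (nat_lit 34984221))) (BT.node (nat_lit 7746880) (BT.leaf (nat_lit 38282017)) (BT.leaf (nat_lit 40455173)))) (BT.node (nat_lit 7747072) (BT.node (nat_lit 7747008) (BT.leaf (nat_lit 42753289)) (BT.leaf (nat_lit 48086789))) (BT.node (nat_lit 7747136) (BT.leaf (nat_lit 42085133)) (BT.leaf (nat_lit 30988313)))))))) (BT.node (nat_lit 7749248) (BT.node (nat_lit 7748224) (BT.node (nat_lit 7747712) (BT.node (nat_lit 7747456) (BT.node (nat_lit 7747328) (BT.node (nat_lit 7747264) (BT.leaf (nat_lit 46497541)) (BT.leaf (nat_lit 29662477))) (BT.node (nat_lit 7747392) (BT.leaf (nat_lit 43100957)) (BT.leaf (nat_lit 43559177)))) (BT.node (nat_lit 7747584) (BT.node (nat_lit 7747520) (BT.leaf (nat_lit 42444553)) (BT.leaf (nat_lit 40542749))) (BT.node (nat_lit 7747648) (BT.leaf (nat_lit 32813065)) (BT.leaf (nat_lit 38925833))))) (BT.node (nat_lit 7747968) (BT.node (nat_lit 7747840) (BT.node (nat_lit 7747776) (BT.leaf (nat_lit 32828193)) (BT.leaf (nat_lit 32945933))) (BT.node (nat_lit 7747904) (BT.leaf (nat_lit 32017157)) (BT.leaf (nat_lit 38109197)))) (BT.node (nat_lit 7748096) (BT.node (nat_lit 7748032) (BT.leaf (nat_lit 42180101)) (BT.leaf (nat_lit 47850509))) (BT.node (nat_lit 7748160) (BT.leaf (nat_lit 31047685)) (BT.leaf (nat_lit 24296993)))))) (BT.node (nat_lit 7748736) (BT.node (nat_lit 7748480) (BT.node (nat_lit 7748352) (BT.node (nat_lit 7748288) (BT.leaf (nat_lit 49077521)) (BT.leaf (nat_lit 48411153))) (BT.node (nat_lit 7748416) (BT.leaf (nat_lit 24296985)) (BT.leaf (nat_lit 24296989)))) (BT.node (nat_lit 7748608) (BT.node (nat_lit 7748544) (BT.leaf (nat_lit 30095629)) (BT.leaf (nat_lit 32699657))) (BT.node (nat_lit 7748672) (BT.leaf (nat_lit 30278677)) (BT.leaf (nat_lit 48411397))))) (BT.node (nat_lit 7748992) (BT.node (nat_lit 7748864) (BT.node (nat_lit 7748800) (BT.leaf (nat_lit 48407301)) (BT.leaf (nat_lit 30326805))) (BT.node (nat_lit 7748928) (BT.leaf (nat_lit 43563029)) (BT.leaf (nat_lit 41369617)))) (BT.node (nat_lit 7749120) (BT.node (nat_lit 7749056) (BT.leaf (nat_lit 46618885)) (BT.leaf (nat_lit 31589901))) (BT.node (nat_lit 7749184) (BT.leaf (nat_lit 48412437)) (BT.leaf (nat_lit 30326813))))))) (BT.node (nat_lit 7750272) (BT.node (nat_lit 7749760) (BT.node (nat_lit 7749504) (BT.node (nat_lit 7749376) (BT.node (nat_lit 7749312) (BT.leaf (nat_lit 48412689)) (BT.leaf (nat_lit 24779781))) (BT.node (nat_lit 7749440) (BT.leaf (nat_lit 35301921)) (BT.leaf (nat_lit 31002373)))) (BT.node (nat_lit 7749632) (BT.node (nat_lit 7749568) (BT.leaf (nat_lit 48413201)) (BT.leaf (nat_lit 31580185))) (BT.node (nat_lit 7749696) (BT.leaf (nat_lit 48413205)) (BT.leaf (nat_lit 34968601))))) (BT.node (nat_lit 7750016) (BT.node (nat_lit 7749888) (BT.node (nat_lit 7749824) (BT.leaf (nat_lit 23786265)) (BT.leaf (nat_lit 49164049))) (BT.node (nat_lit 7749952) (BT.leaf (nat_lit 47847705)) (BT.leaf (nat_lit 24397597)))) (BT.node (nat_lit 7750144) (BT.node (nat_lit 7750080) (BT.leaf (nat_lit 23786269)) (BT.leaf (nat_lit 23809809))) (BT.node (nat_lit 7750208) (BT.leaf (nat_lit 24408349)) (BT.leaf (nat_lit 38211361)))))) (BT.node (nat_lit 7750784) (BT.node (nat_lit 7750528) (BT.node (nat_lit 7750400) (BT.node (nat_lit 7750336) (BT.leaf (nat_lit 31429921)) (BT.leaf (nat_lit 32180493))) (BT.node (nat_lit 7750464) (BT.leaf (nat_lit 32826401)) (BT.leaf (nat_lit 35363081)))) (BT.node (nat_lit 7750656) (BT.node (nat_lit 7750592) (BT.leaf (nat_lit 30470921)) (BT.leaf (nat_lit 48414737))) (BT.node (nat_lit 7750720) (BT.leaf (nat_lit 34632225)) (BT.leaf (nat_lit 48415265))))) (BT.node (nat_lit 7751040) (BT.node (nat_lit 7750912) (BT.node (nat_lit 7750848) (BT.leaf (nat_lit 48415521)) (BT.leaf (nat_lit 48415777))) (BT.node (nat_lit 7750976) (BT.leaf (nat_lit 30681621)) (BT.leaf (nat_lit 31004173)))) (BT.node (nat_lit 7751168) (BT.node (nat_lit 7751104) (BT.leaf (nat_lit 42296597)) (BT.leaf (nat_lit 28458521))) (BT.node (nat_lit 7751232) (BT.leaf (nat_lit 43573781)) (BT.leaf (nat_lit 28458529))))))))) (BT.node (nat_lit 7755392) (BT.node (nat_lit 7753344) (BT.node (nat_lit 7752320) (BT.node (nat_lit 7751808) (BT.node (nat_lit 7751552) (BT.node (nat_lit 7751424) (BT.node (nat_lit 7751360) (BT.leaf (nat_lit 29594137)) (BT.leaf (nat_lit 27626769))) (BT.node (nat_lit 7751488) (BT.leaf (nat_lit 38089225)) (BT.leaf (nat_lit 48076829)))) (BT.node (nat_lit 7751680) (BT.node (nat_lit 7751616) (BT.leaf (nat_lit 48416021)) (BT.leaf (nat_lit 38873109))) (BT.node (nat_lit 7751744) (BT.leaf (nat_lit 48416533)) (BT.leaf (nat_lit 48416517))))) (BT.node (nat_lit 7752064) (BT.node (nat_lit 7751936) (BT.node (nat_lit 7751872) (BT.leaf (nat_lit 28253217)) (BT.leaf (nat_lit 43400725))) (BT.node (nat_lit 7752000) (BT.leaf (nat_lit 33672981)) (BT.leaf (nat_lit 27339289)))) (BT.node (nat_lit 7752192) (BT.node (nat_lit 7752128) (BT.leaf (nat_lit 27339293)) (BT.leaf (nat_lit 29870101))) (BT.node (nat_lit 7752256) (BT.leaf (nat_lit 43194141)) (BT.leaf (nat_lit 27303457)))))) (BT.node (nat_lit 7752832) (BT.node (nat_lit 7752576) (BT.node (nat_lit 7752448) (BT.node (nat_lit 7752384) (BT.leaf (nat_lit 39515157)) (BT.leaf (nat_lit 32840709))) (BT.node (nat_lit 7752512) (BT.leaf (nat_lit 24786721)) (BT.leaf (nat_lit 29901849)))) (BT.node (nat_lit 7752704) (BT.node (nat_lit 7752640) (BT.leaf (nat_lit 42296857)) (BT.leaf (nat_lit 31355413))) (BT.node (nat_lit 7752768) (BT.leaf (nat_lit 43580677)) (BT.leaf (nat_lit 41519905))))) (BT.node (nat_lit 7753088) (BT.node (nat_lit 7752960) (BT.node (nat_lit 7752896) (BT.leaf (nat_lit 32145953)) (BT.leaf (nat_lit 30632981))) (BT.node (nat_lit 7753024) (BT.leaf (nat_lit 48548377)) (BT.leaf (nat_lit 30634517)))) (BT.node (nat_lit 7753216) (BT.node (nat_lit 7753152) (BT.leaf (nat_lit 27422993)) (BT.leaf (nat_lit 23162913))) (BT.node (nat_lit 7753280) (BT.leaf (nat_lit 27839253)) (BT.leaf (nat_lit 30505481))))))) (BT.node (nat_lit 7754368) (BT.node (nat_lit 7753856) (BT.node (nat_lit 7753600) (BT.node (nat_lit 7753472) (BT.node (nat_lit 7753408) (BT.leaf (nat_lit 40765729)) (BT.leaf (nat_lit 28022045))) (BT.node (nat_lit 7753536) (BT.leaf (nat_lit 23809041)) (BT.leaf (nat_lit 47851545)))) (BT.node (nat_lit 7753728) (BT.node (nat_lit 7753664) (BT.leaf (nat_lit 48420897)) (BT.leaf (nat_lit 25837325))) (BT.node (nat_lit 7753792) (BT.leaf (nat_lit 48421909)) (BT.leaf (nat_lit 34789397))))) (BT.node (nat_lit 7754112) (BT.node (nat_lit 7753984) (BT.node (nat_lit 7753920) (BT.leaf (nat_lit 30483209)) (BT.leaf (nat_lit 48422161))) (BT.node (nat_lit 7754048) (BT.leaf (nat_lit 27302933)) (BT.leaf (nat_lit 24208673)))) (BT.node (nat_lit 7754240) (BT.node (nat_lit 7754176) (BT.leaf (nat_lit 24083233)) (BT.leaf (nat_lit 30484745))) (BT.node (nat_lit 7754304) (BT.leaf (nat_lit 48422413)) (BT.leaf (nat_lit 23183381)))))) (BT.node (nat_lit 7754880) (BT.node (nat_lit 7754624) (BT.node (nat_lit 7754496) (BT.node (nat_lit 7754432) (BT.leaf (nat_lit 31017225)) (BT.leaf (nat_lit 24207889))) (BT.node (nat_lit 7754560) (BT.leaf (nat_lit 47172629)) (BT.leaf (nat_lit 48081685)))) (BT.node (nat_lit 7754752) (BT.node (nat_lit 7754688) (BT.leaf (nat_lit 24207905)) (BT.leaf (nat_lit 27303449))) (BT.node (nat_lit 7754816) (BT.leaf (nat_lit 24083217)) (BT.leaf (nat_lit 47172377))))) (BT.node (nat_lit 7755136) (BT.node (nat_lit 7755008) (BT.node (nat_lit 7754944) (BT.leaf (nat_lit 28953373)) (BT.leaf (nat_lit 30485001))) (BT.node (nat_lit 7755072) (BT.leaf (nat_lit 30482713)) (BT.leaf (nat_lit 30482717)))) (BT.node (nat_lit 7755264) (BT.node (nat_lit 7755200) (BT.leaf (nat_lit 43588873)) (BT.leaf (nat_lit 42718233))) (BT.node (nat_lit 7755328) (BT.leaf (nat_lit 48424209)) (BT.leaf (nat_lit 48424465)))))))) (BT.node (nat_lit 7757440) (BT.node (nat_lit 7756416) (BT.node (nat_lit 7755904) (BT.node (nat_lit 7755648) (BT.node (nat_lit 7755520) (BT.node (nat_lit 7755456) (BT.leaf (nat_lit 48424729)) (BT.leaf (nat_lit 42790413))) (BT.node (nat_lit 7755584) (BT.leaf (nat_lit 48424981)) (BT.leaf (nat_lit 24876829)))) (BT.node (nat_lit 7755776) (BT.node (nat_lit 7755712) (BT.leaf (nat_lit 40499461)) (BT.leaf (nat_lit 46461461))) (BT.node (nat_lit 7755840) (BT.leaf (nat_lit 27557921)) (BT.leaf (nat_lit 30071577))))) (BT.node (nat_lit 7756160) (BT.node (nat_lit 7756032) (BT.node (nat_lit 7755968) (BT.leaf (nat_lit 48425237)) (BT.leaf (nat_lit 30072585))) (BT.node (nat_lit 7756096) (BT.leaf (nat_lit 39591705)) (BT.leaf (nat_lit 28542737)))) (BT.node (nat_lit 7756288) (BT.node (nat_lit 7756224) (BT.leaf (nat_lit 33962009)) (BT.leaf (nat_lit 28260125))) (BT.node (nat_lit 7756352) (BT.leaf (nat_lit 23790097)) (BT.leaf (nat_lit 33466893)))))) (BT.node (nat_lit 7756928) (BT.node (nat_lit 7756672) (BT.node (nat_lit 7756544) (BT.node (nat_lit 7756480) (BT.leaf (nat_lit 33466905)) (BT.leaf (nat_lit 23790613))) (BT.node (nat_lit 7756608) (BT.leaf (nat_lit 23357201)) (BT.leaf (nat_lit 50344965)))) (BT.node (nat_lit 7756800) (BT.node (nat_lit 7756736) (BT.leaf (nat_lit 28986913)) (BT.leaf (nat_lit 23790357))) (BT.node (nat_lit 7756864) (BT.leaf (nat_lit 32241673)) (BT.leaf (nat_lit 48402949))))) (BT.node (nat_lit 7757184) (BT.node (nat_lit 7757056) (BT.node (nat_lit 7756992) (BT.leaf (nat_lit 41143313)) (BT.leaf (nat_lit 41143321))) (BT.node (nat_lit 7757120) (BT.leaf (nat_lit 50658573)) (BT.leaf (nat_lit 23932693)))) (BT.node (nat_lit 7757312) (BT.node (nat_lit 7757248) (BT.leaf (nat_lit 38135057)) (BT.leaf (nat_lit 23855129))) (BT.node (nat_lit 7757376) (BT.leaf (nat_lit 38772769)) (BT.leaf (nat_lit 32648469))))))) (BT.node (nat_lit 7758464) (BT.node (nat_lit 7757952) (BT.node (nat_lit 7757696) (BT.node (nat_lit 7757568) (BT.node (nat_lit 7757504) (BT.leaf (nat_lit 31169561)) (BT.leaf (nat_lit 29850137))) (BT.node (nat_lit 7757632) (BT.leaf (nat_lit 50924041)) (BT.leaf (nat_lit 32493845)))) (BT.node (nat_lit 7757824) (BT.node (nat_lit 7757760) (BT.leaf (nat_lit 30246669)) (BT.leaf (nat_lit 30246689))) (BT.node (nat_lit 7757888) (BT.leaf (nat_lit 30246417)) (BT.leaf (nat_lit 30246681))))) (BT.node (nat_lit 7758208) (BT.node (nat_lit 7758080) (BT.node (nat_lit 7758016) (BT.leaf (nat_lit 30246685)) (BT.leaf (nat_lit 27892753))) (BT.node (nat_lit 7758144) (BT.leaf (nat_lit 32850181)) (BT.leaf (nat_lit 42668565)))) (BT.node (nat_lit 7758336) (BT.node (nat_lit 7758272) (BT.leaf (nat_lit 31797009)) (BT.leaf (nat_lit 23863825))) (BT.node (nat_lit 7758400) (BT.leaf (nat_lit 43608845)) (BT.leaf (nat_lit 23773981)))))) (BT.node (nat_lit 7758976) (BT.node (nat_lit 7758720) (BT.node (nat_lit 7758592) (BT.node (nat_lit 7758528) (BT.leaf (nat_lit 31798293)) (BT.leaf (nat_lit 34661909))) (BT.node (nat_lit 7758656) (BT.leaf (nat_lit 26478097)) (BT.leaf (nat_lit 36962585)))) (BT.node (nat_lit 7758848) (BT.node (nat_lit 7758784) (BT.leaf (nat_lit 34433041)) (BT.leaf (nat_lit 39406097))) (BT.node (nat_lit 7758912) (BT.leaf (nat_lit 30933785)) (BT.leaf (nat_lit 30933789))))) (BT.node (nat_lit 7759232) (BT.node (nat_lit 7759104) (BT.node (nat_lit 7759040) (BT.leaf (nat_lit 48430609)) (BT.leaf (nat_lit 30216717))) (BT.node (nat_lit 7759168) (BT.leaf (nat_lit 29518609)) (BT.leaf (nat_lit 34521885)))) (BT.node (nat_lit 7759360) (BT.node (nat_lit 7759296) (BT.leaf (nat_lit 41860117)) (BT.leaf (nat_lit 47885317))) (BT.node (nat_lit 7759424) (BT.leaf (nat_lit 31037209)) (BT.leaf (nat_lit 28282641))))))))))) (BT.node (nat_lit 7775872) (BT.node (nat_lit 7767680) (BT.node (nat_lit 7763584) (BT.node (nat_lit 7761536) (BT.node (nat_lit 7760512) (BT.node (nat_lit 7760000) (BT.node (nat_lit 7759744) (BT.node (nat_lit 7759616) (BT.node (nat_lit 7759552) (BT.leaf (nat_lit 23792657)) (BT.leaf (nat_lit 33070613))) (BT.node (nat_lit 7759680) (BT.leaf (nat_lit 27643661)) (BT.leaf (nat_lit 30035725)))) (BT.node (nat_lit 7759872) (BT.node (nat_lit 7759808) (BT.leaf (nat_lit 23793417)) (BT.leaf (nat_lit 29319453))) (BT.node (nat_lit 7759936) (BT.leaf (nat_lit 27640093)) (BT.leaf (nat_lit 28881669))))) (BT.node (nat_lit 7760256) (BT.node (nat_lit 7760128) (BT.node (nat_lit 7760064) (BT.leaf (nat_lit 35309345)) (BT.leaf (nat_lit 27643673))) (BT.node (nat_lit 7760192) (BT.leaf (nat_lit 27643677)) (BT.leaf (nat_lit 50696209)))) (BT.node (nat_lit 7760384) (BT.node (nat_lit 7760320) (BT.leaf (nat_lit 48536841)) (BT.leaf (nat_lit 32847365))) (BT.node (nat_lit 7760448) (BT.leaf (nat_lit 22594065)) (BT.leaf (nat_lit 33218821)))))) (BT.node (nat_lit 7761024) (BT.node (nat_lit 7760768) (BT.node (nat_lit 7760640) (BT.node (nat_lit 7760576) (BT.leaf (nat_lit 35355413)) (BT.leaf (nat_lit 29827361))) (BT.node (nat_lit 7760704) (BT.leaf (nat_lit 23795745)) (BT.leaf (nat_lit 24605973)))) (BT.node (nat_lit 7760896) (BT.node (nat_lit 7760832) (BT.leaf (nat_lit 31494673)) (BT.leaf (nat_lit 30980881))) (BT.node (nat_lit 7760960) (BT.leaf (nat_lit 30980885)) (BT.leaf (nat_lit 29767961))))) (BT.node (nat_lit 7761280) (BT.node (nat_lit 7761152) (BT.node (nat_lit 7761088) (BT.leaf (nat_lit 29767965)) (BT.leaf (nat_lit 23795989))) (BT.node (nat_lit 7761216) (BT.leaf (nat_lit 34404881)) (BT.leaf (nat_lit 23783185)))) (BT.node (nat_lit 7761408) (BT.node (nat_lit 7761344) (BT.leaf (nat_lit 27324165)) (BT.leaf (nat_lit 27324677))) (BT.node (nat_lit 7761472) (BT.leaf (nat_lit 48433673)) (BT.leaf (nat_lit 51634437))))))) (BT.node (nat_lit 7762560) (BT.node (nat_lit 7762048) (BT.node (nat_lit 7761792) (BT.node (nat_lit 7761664) (BT.node (nat_lit 7761600) (BT.leaf (nat_lit 23798033)) (BT.leaf (nat_lit 47909921))) (BT.node (nat_lit 7761728) (BT.leaf (nat_lit 33728017)) (BT.leaf (nat_lit 41328149)))) (BT.node (nat_lit 7761920) (BT.node (nat_lit 7761856) (BT.leaf (nat_lit 33205521)) (BT.leaf (nat_lit 48436501))) (BT.node (nat_lit 7761984) (BT.leaf (nat_lit 48534545)) (BT.leaf (nat_lit 41687821))))) (BT.node (nat_lit 7762304) (BT.node (nat_lit 7762176) (BT.node (nat_lit 7762112) (BT.leaf (nat_lit 34588945)) (BT.leaf (nat_lit 29830149))) (BT.node (nat_lit 7762240) (BT.leaf (nat_lit 24500501)) (BT.leaf (nat_lit 33287441)))) (BT.node (nat_lit 7762432) (BT.node (nat_lit 7762368) (BT.leaf (nat_lit 31048985)) (BT.leaf (nat_lit 48438301))) (BT.node (nat_lit 7762496) (BT.leaf (nat_lit 30406677)) (BT.leaf (nat_lit 24654881)))))) (BT.node (nat_lit 7763072) (BT.node (nat_lit 7762816) (BT.node (nat_lit 7762688) (BT.node (nat_lit 7762624) (BT.leaf (nat_lit 24834325)) (BT.leaf (nat_lit 22355741))) (BT.node (nat_lit 7762752) (BT.leaf (nat_lit 48439065)) (BT.leaf (nat_lit 27547157)))) (BT.node (nat_lit 7762944) (BT.node (nat_lit 7762880) (BT.leaf (nat_lit 25979417)) (BT.leaf (nat_lit 29854225))) (BT.node (nat_lit 7763008) (BT.leaf (nat_lit 52224289)) (BT.leaf (nat_lit 23381265))))) (BT.node (nat_lit 7763328) (BT.node (nat_lit 7763200) (BT.node (nat_lit 7763136) (BT.leaf (nat_lit 28984325)) (BT.leaf (nat_lit 32260373))) (BT.node (nat_lit 7763264) (BT.leaf (nat_lit 23384353)) (BT.leaf (nat_lit 31375369)))) (BT.node (nat_lit 7763456) (BT.node (nat_lit 7763392) (BT.leaf (nat_lit 27757589)) (BT.leaf (nat_lit 33000465))) (BT.node (nat_lit 7763520) (BT.leaf (nat_lit 27292421)) (BT.leaf (nat_lit 42601237)))))))) (BT.node (nat_lit 7765632) (BT.node (nat_lit 7764608) (BT.node (nat_lit 7764096) (BT.node (nat_lit 7763840) (BT.node (nat_lit 7763712) (BT.node (nat_lit 7763648) (BT.leaf (nat_lit 34156561)) (BT.leaf (nat_lit 34938137))) (BT.node (nat_lit 7763776) (BT.leaf (nat_lit 42216213)) (BT.leaf (nat_lit 33298193)))) (BT.node (nat_lit 7763968) (BT.node (nat_lit 7763904) (BT.leaf (nat_lit 41227013)) (BT.leaf (nat_lit 48444949))) (BT.node (nat_lit 7764032) (BT.leaf (nat_lit 27556629)) (BT.leaf (nat_lit 27556633))))) (BT.node (nat_lit 7764352) (BT.node (nat_lit 7764224) (BT.node (nat_lit 7764160) (BT.leaf (nat_lit 36851973)) (BT.leaf (nat_lit 35014165))) (BT.node (nat_lit 7764288) (BT.leaf (nat_lit 24457993)) (BT.leaf (nat_lit 39951381)))) (BT.node (nat_lit 7764480) (BT.node (nat_lit 7764416) (BT.leaf (nat_lit 30782753)) (BT.leaf (nat_lit 28426513))) (BT.node (nat_lit 7764544) (BT.leaf (nat_lit 50521093)) (BT.leaf (nat_lit 41524997)))))) (BT.node (nat_lit 7765120) (BT.node (nat_lit 7764864) (BT.node (nat_lit 7764736) (BT.node (nat_lit 7764672) (BT.leaf (nat_lit 31232777)) (BT.leaf (nat_lit 30160161))) (BT.node (nat_lit 7764800) (BT.leaf (nat_lit 27832345)) (BT.leaf (nat_lit 31059465)))) (BT.node (nat_lit 7764992) (BT.node (nat_lit 7764928) (BT.leaf (nat_lit 35015957)) (BT.leaf (nat_lit 35015445))) (BT.node (nat_lit 7765056) (BT.leaf (nat_lit 30333217)) (BT.leaf (nat_lit 32474657))))) (BT.node (nat_lit 7765376) (BT.node (nat_lit 7765248) (BT.node (nat_lit 7765184) (BT.leaf (nat_lit 29154589)) (BT.leaf (nat_lit 31061021))) (BT.node (nat_lit 7765312) (BT.leaf (nat_lit 34105361)) (BT.leaf (nat_lit 48449557)))) (BT.node (nat_lit 7765504) (BT.node (nat_lit 7765440) (BT.leaf (nat_lit 40960529)) (BT.leaf (nat_lit 32325133))) (BT.node (nat_lit 7765568) (BT.leaf (nat_lit 48449813)) (BT.leaf (nat_lit 36082705))))))) (BT.node (nat_lit 7766656) (BT.node (nat_lit 7766144) (BT.node (nat_lit 7765888) (BT.node (nat_lit 7765760) (BT.node (nat_lit 7765696) (BT.leaf (nat_lit 28609045)) (BT.leaf (nat_lit 47073029))) (BT.node (nat_lit 7765824) (BT.leaf (nat_lit 50447885)) (BT.leaf (nat_lit 23797521)))) (BT.node (nat_lit 7766016) (BT.node (nat_lit 7765952) (BT.leaf (nat_lit 31342613)) (BT.leaf (nat_lit 43953949))) (BT.node (nat_lit 7766080) (BT.leaf (nat_lit 33712145)) (BT.leaf (nat_lit 32941317))))) (BT.node (nat_lit 7766400) (BT.node (nat_lit 7766272) (BT.node (nat_lit 7766208) (BT.leaf (nat_lit 31342085)) (BT.leaf (nat_lit 41706001))) (BT.node (nat_lit 7766336) (BT.leaf (nat_lit 32507913)) (BT.leaf (nat_lit 48453141)))) (BT.node (nat_lit 7766528) (BT.node (nat_lit 7766464) (BT.leaf (nat_lit 38205461)) (BT.leaf (nat_lit 28195601))) (BT.node (nat_lit 7766592) (BT.leaf (nat_lit 28349969)) (BT.leaf (nat_lit 35263253)))))) (BT.node (nat_lit 7767168) (BT.node (nat_lit 7766912) (BT.node (nat_lit 7766784) (BT.node (nat_lit 7766720) (BT.leaf (nat_lit 27701269)) (BT.leaf (nat_lit 30530849))) (BT.node (nat_lit 7766848) (BT.leaf (nat_lit 23810337)) (BT.leaf (nat_lit 23810593)))) (BT.node (nat_lit 7767040) (BT.node (nat_lit 7766976) (BT.leaf (nat_lit 23811361)) (BT.leaf (nat_lit 23811105))) (BT.node (nat_lit 7767104) (BT.leaf (nat_lit 31600917)) (BT.leaf (nat_lit 24379405))))) (BT.node (nat_lit 7767424) (BT.node (nat_lit 7767296) (BT.node (nat_lit 7767232) (BT.leaf (nat_lit 35331601)) (BT.leaf (nat_lit 29082629))) (BT.node (nat_lit 7767360) (BT.leaf (nat_lit 38377237)) (BT.leaf (nat_lit 27744273)))) (BT.node (nat_lit 7767552) (BT.node (nat_lit 7767488) (BT.leaf (nat_lit 35019529)) (BT.leaf (nat_lit 48453893))) (BT.node (nat_lit 7767616) (BT.leaf (nat_lit 35019533)) (BT.leaf (nat_lit 24453393))))))))) (BT.node (nat_lit 7771776) (BT.node (nat_lit 7769728) (BT.node (nat_lit 7768704) (BT.node (nat_lit 7768192) (BT.node (nat_lit 7767936) (BT.node (nat_lit 7767808) (BT.node (nat_lit 7767744) (BT.leaf (nat_lit 35019545)) (BT.leaf (nat_lit 35019537))) (BT.node (nat_lit 7767872) (BT.leaf (nat_lit 35019549)) (BT.leaf (nat_lit 36950277)))) (BT.node (nat_lit 7768064) (BT.node (nat_lit 7768000) (BT.leaf (nat_lit 29216517)) (BT.leaf (nat_lit 22522385))) (BT.node (nat_lit 7768128) (BT.leaf (nat_lit 35041049)) (BT.leaf (nat_lit 33221401))))) (BT.node (nat_lit 7768448) (BT.node (nat_lit 7768320) (BT.node (nat_lit 7768256) (BT.leaf (nat_lit 38879521)) (BT.leaf (nat_lit 48456977))) (BT.node (nat_lit 7768384) (BT.leaf (nat_lit 41744921)) (BT.leaf (nat_lit 37713425)))) (BT.node (nat_lit 7768576) (BT.node (nat_lit 7768512) (BT.leaf (nat_lit 30892821)) (BT.leaf (nat_lit 23824913))) (BT.node (nat_lit 7768640) (BT.leaf (nat_lit 31182097)) (BT.leaf (nat_lit 48458257)))))) (BT.node (nat_lit 7769216) (BT.node (nat_lit 7768960) (BT.node (nat_lit 7768832) (BT.node (nat_lit 7768768) (BT.leaf (nat_lit 48457493)) (BT.leaf (nat_lit 23930629))) (BT.node (nat_lit 7768896) (BT.leaf (nat_lit 27736337)) (BT.leaf (nat_lit 26747677)))) (BT.node (nat_lit 7769088) (BT.node (nat_lit 7769024) (BT.leaf (nat_lit 23930657)) (BT.leaf (nat_lit 23815953))) (BT.node (nat_lit 7769152) (BT.leaf (nat_lit 39938589)) (BT.leaf (nat_lit 40899849))))) (BT.node (nat_lit 7769472) (BT.node (nat_lit 7769344) (BT.node (nat_lit 7769280) (BT.leaf (nat_lit 30982665)) (BT.leaf (nat_lit 34810117))) (BT.node (nat_lit 7769408) (BT.leaf (nat_lit 34810133)) (BT.leaf (nat_lit 27104801)))) (BT.node (nat_lit 7769600) (BT.node (nat_lit 7769536) (BT.leaf (nat_lit 38669065)) (BT.leaf (nat_lit 34808853))) (BT.node (nat_lit 7769664) (BT.leaf (nat_lit 30120221)) (BT.leaf (nat_lit 23817237))))))) (BT.node (nat_lit 7770752) (BT.node (nat_lit 7770240) (BT.node (nat_lit 7769984) (BT.node (nat_lit 7769856) (BT.node (nat_lit 7769792) (BT.leaf (nat_lit 50856453)) (BT.leaf (nat_lit 45257761))) (BT.node (nat_lit 7769920) (BT.leaf (nat_lit 37775897)) (BT.leaf (nat_lit 37775901)))) (BT.node (nat_lit 7770112) (BT.node (nat_lit 7770048) (BT.leaf (nat_lit 23820049)) (BT.leaf (nat_lit 25586449))) (BT.node (nat_lit 7770176) (BT.leaf (nat_lit 23820309)) (BT.leaf (nat_lit 41320717))))) (BT.node (nat_lit 7770496) (BT.node (nat_lit 7770368) (BT.node (nat_lit 7770304) (BT.leaf (nat_lit 34792469)) (BT.leaf (nat_lit 34132769))) (BT.node (nat_lit 7770432) (BT.leaf (nat_lit 24212501)) (BT.leaf (nat_lit 29565701)))) (BT.node (nat_lit 7770624) (BT.node (nat_lit 7770560) (BT.leaf (nat_lit 29565461)) (BT.leaf (nat_lit 31744033))) (BT.node (nat_lit 7770688) (BT.leaf (nat_lit 24438297)) (BT.leaf (nat_lit 30915873)))))) (BT.node (nat_lit 7771264) (BT.node (nat_lit 7771008) (BT.node (nat_lit 7770880) (BT.node (nat_lit 7770816) (BT.leaf (nat_lit 27538209)) (BT.leaf (nat_lit 27379997))) (BT.node (nat_lit 7770944) (BT.leaf (nat_lit 48464145)) (BT.leaf (nat_lit 33452829)))) (BT.node (nat_lit 7771136) (BT.node (nat_lit 7771072) (BT.leaf (nat_lit 33067545)) (BT.leaf (nat_lit 28155165))) (BT.node (nat_lit 7771200) (BT.leaf (nat_lit 28158741)) (BT.leaf (nat_lit 30560545))))) (BT.node (nat_lit 7771520) (BT.node (nat_lit 7771392) (BT.node (nat_lit 7771328) (BT.leaf (nat_lit 28436741)) (BT.leaf (nat_lit 27283485))) (BT.node (nat_lit 7771456) (BT.leaf (nat_lit 30425609)) (BT.leaf (nat_lit 35998993)))) (BT.node (nat_lit 7771648) (BT.node (nat_lit 7771584) (BT.leaf (nat_lit 30425625)) (BT.leaf (nat_lit 30425629))) (BT.node (nat_lit 7771712) (BT.leaf (nat_lit 27584265)) (BT.leaf (nat_lit 27584269)))))))) (BT.node (nat_lit 7773824) (BT.node (nat_lit 7772800) (BT.node (nat_lit 7772288) (BT.node (nat_lit 7772032) (BT.node (nat_lit 7771904) (BT.node (nat_lit 7771840) (BT.leaf (nat_lit 38884129)) (BT.leaf (nat_lit 48466709))) (BT.node (nat_lit 7771968) (BT.leaf (nat_lit 39168269)) (BT.leaf (nat_lit 23871261)))) (BT.node (nat_lit 7772160) (BT.node (nat_lit 7772096) (BT.leaf (nat_lit 23858717)) (BT.leaf (nat_lit 28983829))) (BT.node (nat_lit 7772224) (BT.leaf (nat_lit 38115589)) (BT.leaf (nat_lit 27584537))))) (BT.node (nat_lit 7772544) (BT.node (nat_lit 7772416) (BT.node (nat_lit 7772352) (BT.leaf (nat_lit 27584541)) (BT.leaf (nat_lit 22523157))) (BT.node (nat_lit 7772480) (BT.leaf (nat_lit 23999497)) (BT.leaf (nat_lit 23999501)))) (BT.node (nat_lit 7772672) (BT.node (nat_lit 7772608) (BT.leaf (nat_lit 42028049)) (BT.leaf (nat_lit 23999513))) (BT.node (nat_lit 7772736) (BT.leaf (nat_lit 23999517)) (BT.leaf (nat_lit 48469013)))))) (BT.node (nat_lit 7773312) (BT.node (nat_lit 7773056) (BT.node (nat_lit 7772928) (BT.node (nat_lit 7772864) (BT.leaf (nat_lit 23825681)) (BT.leaf (nat_lit 30068757))) (BT.node (nat_lit 7772992) (BT.leaf (nat_lit 41955617)) (BT.leaf (nat_lit 24321041)))) (BT.node (nat_lit 7773184) (BT.node (nat_lit 7773120) (BT.leaf (nat_lit 34194717)) (BT.leaf (nat_lit 48471577))) (BT.node (nat_lit 7773248) (BT.leaf (nat_lit 22334229)) (BT.leaf (nat_lit 33075481))))) (BT.node (nat_lit 7773568) (BT.node (nat_lit 7773440) (BT.node (nat_lit 7773376) (BT.leaf (nat_lit 31819285)) (BT.leaf (nat_lit 32171553))) (BT.node (nat_lit 7773504) (BT.leaf (nat_lit 41756437)) (BT.leaf (nat_lit 29257485)))) (BT.node (nat_lit 7773696) (BT.node (nat_lit 7773632) (BT.leaf (nat_lit 39171085)) (BT.leaf (nat_lit 42233093))) (BT.node (nat_lit 7773760) (BT.leaf (nat_lit 46450181)) (BT.leaf (nat_lit 24495133))))))) (BT.node (nat_lit 7774848) (BT.node (nat_lit 7774336) (BT.node (nat_lit 7774080) (BT.node (nat_lit 7773952) (BT.node (nat_lit 7773888) (BT.leaf (nat_lit 27713553)) (BT.leaf (nat_lit 24531989))) (BT.node (nat_lit 7774016) (BT.leaf (nat_lit 24531993)) (BT.leaf (nat_lit 43860241)))) (BT.node (nat_lit 7774208) (BT.node (nat_lit 7774144) (BT.leaf (nat_lit 33349901)) (BT.leaf (nat_lit 33349913))) (BT.node (nat_lit 7774272) (BT.leaf (nat_lit 34413573)) (BT.leaf (nat_lit 29319705))))) (BT.node (nat_lit 7774592) (BT.node (nat_lit 7774464) (BT.node (nat_lit 7774400) (BT.leaf (nat_lit 23828245)) (BT.leaf (nat_lit 22568725))) (BT.node (nat_lit 7774528) (BT.leaf (nat_lit 40400153)) (BT.leaf (nat_lit 28723993)))) (BT.node (nat_lit 7774720) (BT.node (nat_lit 7774656) (BT.leaf (nat_lit 48475929)) (BT.leaf (nat_lit 28268309))) (BT.node (nat_lit 7774784) (BT.leaf (nat_lit 23828757)) (BT.leaf (nat_lit 39712269)))))) (BT.node (nat_lit 7775360) (BT.node (nat_lit 7775104) (BT.node (nat_lit 7774976) (BT.node (nat_lit 7774912) (BT.leaf (nat_lit 40206857)) (BT.leaf (nat_lit 49462545))) (BT.node (nat_lit 7775040) (BT.leaf (nat_lit 31720969)) (BT.leaf (nat_lit 28321825)))) (BT.node (nat_lit 7775232) (BT.node (nat_lit 7775168) (BT.leaf (nat_lit 40187149)) (BT.leaf (nat_lit 23831057))) (BT.node (nat_lit 7775296) (BT.leaf (nat_lit 27724561)) (BT.leaf (nat_lit 35029781))))) (BT.node (nat_lit 7775616) (BT.node (nat_lit 7775488) (BT.node (nat_lit 7775424) (BT.leaf (nat_lit 48099097)) (BT.leaf (nat_lit 24665105))) (BT.node (nat_lit 7775552) (BT.leaf (nat_lit 22575889)) (BT.leaf (nat_lit 37208609)))) (BT.node (nat_lit 7775744) (BT.node (nat_lit 7775680) (BT.leaf (nat_lit 24666905)) (BT.leaf (nat_lit 24666909))) (BT.node (nat_lit 7775808) (BT.leaf (nat_lit 39730437)) (BT.leaf (nat_lit 24583445)))))))))) (BT.node (nat_lit 7784064) (BT.node (nat_lit 7779968) (BT.node (nat_lit 7777920) (BT.node (nat_lit 7776896) (BT.node (nat_lit 7776384) (BT.node (nat_lit 7776128) (BT.node (nat_lit 7776000) (BT.node (nat_lit 7775936) (BT.leaf (nat_lit 25631773)) (BT.leaf (nat_lit 31428885))) (BT.node (nat_lit 7776064) (BT.leaf (nat_lit 30355729)) (BT.leaf (nat_lit 38000161)))) (BT.node (nat_lit 7776256) (BT.node (nat_lit 7776192) (BT.leaf (nat_lit 28581653)) (BT.leaf (nat_lit 31105053))) (BT.node (nat_lit 7776320) (BT.leaf (nat_lit 25911569)) (BT.leaf (nat_lit 30789125))))) (BT.node (nat_lit 7776640) (BT.node (nat_lit 7776512) (BT.node (nat_lit 7776448) (BT.leaf (nat_lit 42902033)) (BT.leaf (nat_lit 34604573))) (BT.node (nat_lit 7776576) (BT.leaf (nat_lit 48477461)) (BT.leaf (nat_lit 27833097)))) (BT.node (nat_lit 7776768) (BT.node (nat_lit 7776704) (BT.leaf (nat_lit 52090145)) (BT.leaf (nat_lit 52089369))) (BT.node (nat_lit 7776832) (BT.leaf (nat_lit 32346385)) (BT.leaf (nat_lit 24310045)))))) (BT.node (nat_lit 7777408) (BT.node (nat_lit 7777152) (BT.node (nat_lit 7777024) (BT.node (nat_lit 7776960) (BT.leaf (nat_lit 39234849)) (BT.leaf (nat_lit 48478229))) (BT.node (nat_lit 7777088) (BT.leaf (nat_lit 27305733)) (BT.leaf (nat_lit 40076817)))) (BT.node (nat_lit 7777280) (BT.node (nat_lit 7777216) (BT.leaf (nat_lit 40410641)) (BT.leaf (nat_lit 46344477))) (BT.node (nat_lit 7777344) (BT.leaf (nat_lit 28131597)) (BT.leaf (nat_lit 23835141))))) (BT.node (nat_lit 7777664) (BT.node (nat_lit 7777536) (BT.node (nat_lit 7777472) (BT.leaf (nat_lit 32706569)) (BT.leaf (nat_lit 46350877))) (BT.node (nat_lit 7777600) (BT.leaf (nat_lit 23835409)) (BT.leaf (nat_lit 42900753)))) (BT.node (nat_lit 7777792) (BT.node (nat_lit 7777728) (BT.leaf (nat_lit 23836165)) (BT.leaf (nat_lit 28211233))) (BT.node (nat_lit 7777856) (BT.leaf (nat_lit 28459529)) (BT.leaf (nat_lit 27634205))))))) (BT.node (nat_lit 7778944) (BT.node (nat_lit 7778432) (BT.node (nat_lit 7778176) (BT.node (nat_lit 7778048) (BT.node (nat_lit 7777984) (BT.leaf (nat_lit 40381973)) (BT.leaf (nat_lit 28459537))) (BT.node (nat_lit 7778112) (BT.leaf (nat_lit 24500241)) (BT.leaf (nat_lit 39222025)))) (BT.node (nat_lit 7778304) (BT.node (nat_lit 7778240) (BT.leaf (nat_lit 43568901)) (BT.leaf (nat_lit 38005017))) (BT.node (nat_lit 7778368) (BT.leaf (nat_lit 40373001)) (BT.leaf (nat_lit 34397217))))) (BT.node (nat_lit 7778688) (BT.node (nat_lit 7778560) (BT.node (nat_lit 7778496) (BT.leaf (nat_lit 46756889)) (BT.leaf (nat_lit 48480793))) (BT.node (nat_lit 7778624) (BT.leaf (nat_lit 31114525)) (BT.leaf (nat_lit 46756877)))) (BT.node (nat_lit 7778816) (BT.node (nat_lit 7778752) (BT.leaf (nat_lit 34397473)) (BT.leaf (nat_lit 48358937))) (BT.node (nat_lit 7778880) (BT.leaf (nat_lit 24216849)) (BT.leaf (nat_lit 38546201)))))) (BT.node (nat_lit 7779456) (BT.node (nat_lit 7779200) (BT.node (nat_lit 7779072) (BT.node (nat_lit 7779008) (BT.leaf (nat_lit 33299469)) (BT.leaf (nat_lit 36708625))) (BT.node (nat_lit 7779136) (BT.leaf (nat_lit 33051925)) (BT.leaf (nat_lit 27331617)))) (BT.node (nat_lit 7779328) (BT.node (nat_lit 7779264) (BT.leaf (nat_lit 36049173)) (BT.leaf (nat_lit 29776917))) (BT.node (nat_lit 7779392) (BT.leaf (nat_lit 43729697)) (BT.leaf (nat_lit 43271173))))) (BT.node (nat_lit 7779712) (BT.node (nat_lit 7779584) (BT.node (nat_lit 7779520) (BT.leaf (nat_lit 28135965)) (BT.leaf (nat_lit 28211217))) (BT.node (nat_lit 7779648) (BT.leaf (nat_lit 48484357)) (BT.leaf (nat_lit 48484613)))) (BT.node (nat_lit 7779840) (BT.node (nat_lit 7779776) (BT.leaf (nat_lit 27362841)) (BT.leaf (nat_lit 27362845))) (BT.node (nat_lit 7779904) (BT.leaf (nat_lit 27362849)) (BT.leaf (nat_lit 29246489)))))))) (BT.node (nat_lit 7782016) (BT.node (nat_lit 7780992) (BT.node (nat_lit 7780480) (BT.node (nat_lit 7780224) (BT.node (nat_lit 7780096) (BT.node (nat_lit 7780032) (BT.leaf (nat_lit 23841305)) (BT.leaf (nat_lit 40211233))) (BT.node (nat_lit 7780160) (BT.leaf (nat_lit 28132117)) (BT.leaf (nat_lit 23841565)))) (BT.node (nat_lit 7780352) (BT.node (nat_lit 7780288) (BT.leaf (nat_lit 26439197)) (BT.leaf (nat_lit 23721501))) (BT.node (nat_lit 7780416) (BT.leaf (nat_lit 27625749)) (BT.leaf (nat_lit 23841561))))) (BT.node (nat_lit 7780736) (BT.node (nat_lit 7780608) (BT.node (nat_lit 7780544) (BT.leaf (nat_lit 48485409)) (BT.leaf (nat_lit 48485665))) (BT.node (nat_lit 7780672) (BT.leaf (nat_lit 48175881)) (BT.leaf (nat_lit 46806037)))) (BT.node (nat_lit 7780864) (BT.node (nat_lit 7780800) (BT.leaf (nat_lit 32088581)) (BT.leaf (nat_lit 48486933))) (BT.node (nat_lit 7780928) (BT.leaf (nat_lit 48487713)) (BT.leaf (nat_lit 29804573)))))) (BT.node (nat_lit 7781504) (BT.node (nat_lit 7781248) (BT.node (nat_lit 7781120) (BT.node (nat_lit 7781056) (BT.leaf (nat_lit 30904097)) (BT.leaf (nat_lit 37881117))) (BT.node (nat_lit 7781184) (BT.leaf (nat_lit 23998997)) (BT.leaf (nat_lit 23999001)))) (BT.node (nat_lit 7781376) (BT.node (nat_lit 7781312) (BT.leaf (nat_lit 23999005)) (BT.leaf (nat_lit 47245329))) (BT.node (nat_lit 7781440) (BT.leaf (nat_lit 23842065)) (BT.leaf (nat_lit 39225109))))) (BT.node (nat_lit 7781760) (BT.node (nat_lit 7781632) (BT.node (nat_lit 7781568) (BT.leaf (nat_lit 31851277)) (BT.leaf (nat_lit 28510741))) (BT.node (nat_lit 7781696) (BT.leaf (nat_lit 31851297)) (BT.leaf (nat_lit 37735941)))) (BT.node (nat_lit 7781888) (BT.node (nat_lit 7781824) (BT.leaf (nat_lit 31125533)) (BT.leaf (nat_lit 28309265))) (BT.node (nat_lit 7781952) (BT.leaf (nat_lit 37192993)) (BT.leaf (nat_lit 34223129))))))) (BT.node (nat_lit 7783040) (BT.node (nat_lit 7782528) (BT.node (nat_lit 7782272) (BT.node (nat_lit 7782144) (BT.node (nat_lit 7782080) (BT.leaf (nat_lit 48491553)) (BT.leaf (nat_lit 34223137))) (BT.node (nat_lit 7782208) (BT.leaf (nat_lit 46513669)) (BT.leaf (nat_lit 38256157)))) (BT.node (nat_lit 7782400) (BT.node (nat_lit 7782336) (BT.leaf (nat_lit 29794329)) (BT.leaf (nat_lit 23321113))) (BT.node (nat_lit 7782464) (BT.leaf (nat_lit 26441245)) (BT.leaf (nat_lit 23321117))))) (BT.node (nat_lit 7782784) (BT.node (nat_lit 7782656) (BT.node (nat_lit 7782592) (BT.leaf (nat_lit 48444177)) (BT.leaf (nat_lit 27638281))) (BT.node (nat_lit 7782720) (BT.leaf (nat_lit 27638285)) (BT.leaf (nat_lit 25602837)))) (BT.node (nat_lit 7782912) (BT.node (nat_lit 7782848) (BT.leaf (nat_lit 42836745)) (BT.leaf (nat_lit 27638301))) (BT.node (nat_lit 7782976) (BT.leaf (nat_lit 33884693)) (BT.leaf (nat_lit 27293209)))))) (BT.node (nat_lit 7783552) (BT.node (nat_lit 7783296) (BT.node (nat_lit 7783168) (BT.node (nat_lit 7783104) (BT.leaf (nat_lit 23843353)) (BT.leaf (nat_lit 33452825))) (BT.node (nat_lit 7783232) (BT.leaf (nat_lit 38873353)) (BT.leaf (nat_lit 27287573)))) (BT.node (nat_lit 7783424) (BT.node (nat_lit 7783360) (BT.leaf (nat_lit 23757585)) (BT.leaf (nat_lit 36288801))) (BT.node (nat_lit 7783488) (BT.leaf (nat_lit 37905697)) (BT.leaf (nat_lit 48496653))))) (BT.node (nat_lit 7783808) (BT.node (nat_lit 7783680) (BT.node (nat_lit 7783616) (BT.leaf (nat_lit 41142817)) (BT.leaf (nat_lit 46347541))) (BT.node (nat_lit 7783744) (BT.leaf (nat_lit 32108301)) (BT.leaf (nat_lit 46597653)))) (BT.node (nat_lit 7783936) (BT.node (nat_lit 7783872) (BT.leaf (nat_lit 30217237)) (BT.leaf (nat_lit 30774809))) (BT.node (nat_lit 7784000) (BT.leaf (nat_lit 45814793)) (BT.leaf (nat_lit 38184977))))))))) (BT.node (nat_lit 7788160) (BT.node (nat_lit 7786112) (BT.node (nat_lit 7785088) (BT.node (nat_lit 7784576) (BT.node (nat_lit 7784320) (BT.node (nat_lit 7784192) (BT.node (nat_lit 7784128) (BT.leaf (nat_lit 30187549)) (BT.leaf (nat_lit 22569749))) (BT.node (nat_lit 7784256) (BT.leaf (nat_lit 32341521)) (BT.leaf (nat_lit 23845393)))) (BT.node (nat_lit 7784448) (BT.node (nat_lit 7784384) (BT.leaf (nat_lit 41122325)) (BT.leaf (nat_lit 23845649))) (BT.node (nat_lit 7784512) (BT.leaf (nat_lit 31036693)) (BT.leaf (nat_lit 34521877))))) (BT.node (nat_lit 7784832) (BT.node (nat_lit 7784704) (BT.node (nat_lit 7784640) (BT.leaf (nat_lit 48499989)) (BT.leaf (nat_lit 51705617))) (BT.node (nat_lit 7784768) (BT.leaf (nat_lit 43237913)) (BT.leaf (nat_lit 23844113)))) (BT.node (nat_lit 7784960) (BT.node (nat_lit 7784896) (BT.leaf (nat_lit 24287237)) (BT.leaf (nat_lit 48502289))) (BT.node (nat_lit 7785024) (BT.leaf (nat_lit 25028889)) (BT.leaf (nat_lit 36445725)))))) (BT.node (nat_lit 7785600) (BT.node (nat_lit 7785344) (BT.node (nat_lit 7785216) (BT.node (nat_lit 7785152) (BT.leaf (nat_lit 48503057)) (BT.leaf (nat_lit 38633481))) (BT.node (nat_lit 7785280) (BT.leaf (nat_lit 43560461)) (BT.leaf (nat_lit 51065113)))) (BT.node (nat_lit 7785472) (BT.node (nat_lit 7785408) (BT.leaf (nat_lit 30425613)) (BT.leaf (nat_lit 32485393))) (BT.node (nat_lit 7785536) (BT.leaf (nat_lit 46337557)) (BT.leaf (nat_lit 48733209))))) (BT.node (nat_lit 7785856) (BT.node (nat_lit 7785728) (BT.node (nat_lit 7785664) (BT.leaf (nat_lit 29994521)) (BT.leaf (nat_lit 29994525))) (BT.node (nat_lit 7785792) (BT.leaf (nat_lit 25663513)) (BT.leaf (nat_lit 23846177)))) (BT.node (nat_lit 7785984) (BT.node (nat_lit 7785920) (BT.leaf (nat_lit 39077921)) (BT.leaf (nat_lit 43770885))) (BT.node (nat_lit 7786048) (BT.leaf (nat_lit 43771421)) (BT.leaf (nat_lit 31582729))))))) (BT.node (nat_lit 7787136) (BT.node (nat_lit 7786624) (BT.node (nat_lit 7786368) (BT.node (nat_lit 7786240) (BT.node (nat_lit 7786176) (BT.leaf (nat_lit 48506137)) (BT.leaf (nat_lit 39942173))) (BT.node (nat_lit 7786304) (BT.leaf (nat_lit 31943437)) (BT.leaf (nat_lit 29029665)))) (BT.node (nat_lit 7786496) (BT.node (nat_lit 7786432) (BT.leaf (nat_lit 29684749)) (BT.leaf (nat_lit 34765857))) (BT.node (nat_lit 7786560) (BT.leaf (nat_lit 48506373)) (BT.leaf (nat_lit 48042757))))) (BT.node (nat_lit 7786880) (BT.node (nat_lit 7786752) (BT.node (nat_lit 7786688) (BT.leaf (nat_lit 31753989)) (BT.leaf (nat_lit 33631513))) (BT.node (nat_lit 7786816) (BT.leaf (nat_lit 46417693)) (BT.leaf (nat_lit 39324449)))) (BT.node (nat_lit 7787008) (BT.node (nat_lit 7786944) (BT.leaf (nat_lit 45919241)) (BT.leaf (nat_lit 35286549))) (BT.node (nat_lit 7787072) (BT.leaf (nat_lit 38915337)) (BT.leaf (nat_lit 48507669)))))) (BT.node (nat_lit 7787648) (BT.node (nat_lit 7787392) (BT.node (nat_lit 7787264) (BT.node (nat_lit 7787200) (BT.leaf (nat_lit 43458325)) (BT.leaf (nat_lit 31955217))) (BT.node (nat_lit 7787328) (BT.leaf (nat_lit 46566937)) (BT.leaf (nat_lit 49004569)))) (BT.node (nat_lit 7787520) (BT.node (nat_lit 7787456) (BT.leaf (nat_lit 23846673)) (BT.leaf (nat_lit 28239901))) (BT.node (nat_lit 7787584) (BT.leaf (nat_lit 47203085)) (BT.leaf (nat_lit 27950353))))) (BT.node (nat_lit 7787904) (BT.node (nat_lit 7787776) (BT.node (nat_lit 7787712) (BT.leaf (nat_lit 48508697)) (BT.leaf (nat_lit 34870041))) (BT.node (nat_lit 7787840) (BT.leaf (nat_lit 31936009)) (BT.leaf (nat_lit 28377881)))) (BT.node (nat_lit 7788032) (BT.node (nat_lit 7787968) (BT.leaf (nat_lit 28612613)) (BT.leaf (nat_lit 31152157))) (BT.node (nat_lit 7788096) (BT.leaf (nat_lit 48508677)) (BT.leaf (nat_lit 27820061)))))))) (BT.node (nat_lit 7790208) (BT.node (nat_lit 7789184) (BT.node (nat_lit 7788672) (BT.node (nat_lit 7788416) (BT.node (nat_lit 7788288) (BT.node (nat_lit 7788224) (BT.leaf (nat_lit 23196693)) (BT.leaf (nat_lit 52048901))) (BT.node (nat_lit 7788352) (BT.leaf (nat_lit 23240213)) (BT.leaf (nat_lit 33956629)))) (BT.node (nat_lit 7788544) (BT.node (nat_lit 7788480) (BT.leaf (nat_lit 24810001)) (BT.leaf (nat_lit 47630621))) (BT.node (nat_lit 7788608) (BT.leaf (nat_lit 31587589)) (BT.leaf (nat_lit 50943493))))) (BT.node (nat_lit 7788928) (BT.node (nat_lit 7788800) (BT.node (nat_lit 7788736) (BT.leaf (nat_lit 47481121)) (BT.leaf (nat_lit 48510481))) (BT.node (nat_lit 7788864) (BT.leaf (nat_lit 24000537)) (BT.leaf (nat_lit 24000541)))) (BT.node (nat_lit 7789056) (BT.node (nat_lit 7788992) (BT.leaf (nat_lit 47176973)) (BT.leaf (nat_lit 46490125))) (BT.node (nat_lit 7789120) (BT.leaf (nat_lit 24631321)) (BT.leaf (nat_lit 48511253)))))) (BT.node (nat_lit 7789696) (BT.node (nat_lit 7789440) (BT.node (nat_lit 7789312) (BT.node (nat_lit 7789248) (BT.leaf (nat_lit 35161877)) (BT.leaf (nat_lit 30423813))) (BT.node (nat_lit 7789376) (BT.leaf (nat_lit 29579801)) (BT.leaf (nat_lit 29579805)))) (BT.node (nat_lit 7789568) (BT.node (nat_lit 7789504) (BT.leaf (nat_lit 48511777)) (BT.leaf (nat_lit 27797529))) (BT.node (nat_lit 7789632) (BT.leaf (nat_lit 27797533)) (BT.leaf (nat_lit 32328465))))) (BT.node (nat_lit 7789952) (BT.node (nat_lit 7789824) (BT.node (nat_lit 7789760) (BT.leaf (nat_lit 31200801)) (BT.leaf (nat_lit 23853345))) (BT.node (nat_lit 7789888) (BT.leaf (nat_lit 48513557)) (BT.leaf (nat_lit 36844045)))) (BT.node (nat_lit 7790080) (BT.node (nat_lit 7790016) (BT.leaf (nat_lit 32952865)) (BT.leaf (nat_lit 33003793))) (BT.node (nat_lit 7790144) (BT.leaf (nat_lit 35299349)) (BT.leaf (nat_lit 42540565))))))) (BT.node (nat_lit 7791232) (BT.node (nat_lit 7790720) (BT.node (nat_lit 7790464) (BT.node (nat_lit 7790336) (BT.node (nat_lit 7790272) (BT.leaf (nat_lit 39603717)) (BT.leaf (nat_lit 38106145))) (BT.node (nat_lit 7790400) (BT.leaf (nat_lit 27620877)) (BT.leaf (nat_lit 49158925)))) (BT.node (nat_lit 7790592) (BT.node (nat_lit 7790528) (BT.leaf (nat_lit 48515605)) (BT.leaf (nat_lit 48515869))) (BT.node (nat_lit 7790656) (BT.leaf (nat_lit 31006473)) (BT.leaf (nat_lit 48516629))))) (BT.node (nat_lit 7790976) (BT.node (nat_lit 7790848) (BT.node (nat_lit 7790784) (BT.leaf (nat_lit 30054417)) (BT.leaf (nat_lit 35299353))) (BT.node (nat_lit 7790912) (BT.leaf (nat_lit 39611921)) (BT.leaf (nat_lit 42247193)))) (BT.node (nat_lit 7791104) (BT.node (nat_lit 7791040) (BT.leaf (nat_lit 42247197)) (BT.leaf (nat_lit 48518405))) (BT.node (nat_lit 7791168) (BT.leaf (nat_lit 39788317)) (BT.leaf (nat_lit 28432405)))))) (BT.node (nat_lit 7791744) (BT.node (nat_lit 7791488) (BT.node (nat_lit 7791360) (BT.node (nat_lit 7791296) (BT.leaf (nat_lit 26461969)) (BT.leaf (nat_lit 31164685))) (BT.node (nat_lit 7791424) (BT.leaf (nat_lit 26959885)) (BT.leaf (nat_lit 23854621)))) (BT.node (nat_lit 7791616) (BT.node (nat_lit 7791552) (BT.leaf (nat_lit 36472581)) (BT.leaf (nat_lit 37534981))) (BT.node (nat_lit 7791680) (BT.leaf (nat_lit 27740433)) (BT.leaf (nat_lit 31740693))))) (BT.node (nat_lit 7792000) (BT.node (nat_lit 7791872) (BT.node (nat_lit 7791808) (BT.leaf (nat_lit 31167261)) (BT.leaf (nat_lit 30658065))) (BT.node (nat_lit 7791936) (BT.leaf (nat_lit 27848201)) (BT.leaf (nat_lit 27847193)))) (BT.node (nat_lit 7792128) (BT.node (nat_lit 7792064) (BT.leaf (nat_lit 38668053)) (BT.leaf (nat_lit 36872477))) (BT.node (nat_lit 7792192) (BT.leaf (nat_lit 37402401)) (BT.leaf (nat_lit 46591769)))))))))))) (BT.node (nat_lit 7825024) (BT.node (nat_lit 7808640) (BT.node (nat_lit 7800448) (BT.node (nat_lit 7796352) (BT.node (nat_lit 7794304) (BT.node (nat_lit 7793280) (BT.node (nat_lit 7792768) (BT.node (nat_lit 7792512) (BT.node (nat_lit 7792384) (BT.node (nat_lit 7792320) (BT.leaf (nat_lit 33407761)) (BT.leaf (nat_lit 38777865))) (BT.node (nat_lit 7792448) (BT.leaf (nat_lit 48521745)) (BT.leaf (nat_lit 26897433)))) (BT.node (nat_lit 7792640) (BT.node (nat_lit 7792576) (BT.leaf (nat_lit 38134293)) (BT.leaf (nat_lit 27881745))) (BT.node (nat_lit 7792704) (BT.leaf (nat_lit 31170329)) (BT.leaf (nat_lit 38134801))))) (BT.node (nat_lit 7793024) (BT.node (nat_lit 7792896) (BT.node (nat_lit 7792832) (BT.leaf (nat_lit 31299345)) (BT.leaf (nat_lit 31074849))) (BT.node (nat_lit 7792960) (BT.leaf (nat_lit 29242393)) (BT.leaf (nat_lit 31730437)))) (BT.node (nat_lit 7793152) (BT.node (nat_lit 7793088) (BT.leaf (nat_lit 30075937)) (BT.leaf (nat_lit 48524305))) (BT.node (nat_lit 7793216) (BT.leaf (nat_lit 26445585)) (BT.leaf (nat_lit 26651921)))))) (BT.node (nat_lit 7793792) (BT.node (nat_lit 7793536) (BT.node (nat_lit 7793408) (BT.node (nat_lit 7793344) (BT.leaf (nat_lit 47065861)) (BT.leaf (nat_lit 42281221))) (BT.node (nat_lit 7793472) (BT.leaf (nat_lit 24419609)) (BT.leaf (nat_lit 24419613)))) (BT.node (nat_lit 7793664) (BT.node (nat_lit 7793600) (BT.leaf (nat_lit 26804497)) (BT.leaf (nat_lit 25720353))) (BT.node (nat_lit 7793728) (BT.leaf (nat_lit 36791061)) (BT.leaf (nat_lit 35153185))))) (BT.node (nat_lit 7794048) (BT.node (nat_lit 7793920) (BT.node (nat_lit 7793856) (BT.leaf (nat_lit 34813197)) (BT.leaf (nat_lit 37053973))) (BT.node (nat_lit 7793984) (BT.leaf (nat_lit 28507165)) (BT.leaf (nat_lit 31174173)))) (BT.node (nat_lit 7794176) (BT.node (nat_lit 7794112) (BT.leaf (nat_lit 33771541)) (BT.leaf (nat_lit 48527645))) (BT.node (nat_lit 7794240) (BT.leaf (nat_lit 26804753)) (BT.leaf (nat_lit 39672353))))))) (BT.node (nat_lit 7795328) (BT.node (nat_lit 7794816) (BT.node (nat_lit 7794560) (BT.node (nat_lit 7794432) (BT.node (nat_lit 7794368) (BT.leaf (nat_lit 26997533)) (BT.leaf (nat_lit 33068573))) (BT.node (nat_lit 7794496) (BT.leaf (nat_lit 37545221)) (BT.leaf (nat_lit 46873361)))) (BT.node (nat_lit 7794688) (BT.node (nat_lit 7794624) (BT.leaf (nat_lit 26428701)) (BT.leaf (nat_lit 42001953))) (BT.node (nat_lit 7794752) (BT.leaf (nat_lit 42001697)) (BT.leaf (nat_lit 23860753))))) (BT.node (nat_lit 7795072) (BT.node (nat_lit 7794944) (BT.node (nat_lit 7794880) (BT.leaf (nat_lit 25854485)) (BT.leaf (nat_lit 28343565))) (BT.node (nat_lit 7795008) (BT.leaf (nat_lit 38676505)) (BT.leaf (nat_lit 27974425)))) (BT.node (nat_lit 7795200) (BT.node (nat_lit 7795136) (BT.leaf (nat_lit 42857485)) (BT.leaf (nat_lit 29887253))) (BT.node (nat_lit 7795264) (BT.leaf (nat_lit 28345369)) (BT.leaf (nat_lit 46875417)))))) (BT.node (nat_lit 7795840) (BT.node (nat_lit 7795584) (BT.node (nat_lit 7795456) (BT.node (nat_lit 7795392) (BT.leaf (nat_lit 31181597)) (BT.leaf (nat_lit 28345357))) (BT.node (nat_lit 7795520) (BT.leaf (nat_lit 46350357)) (BT.leaf (nat_lit 34478361)))) (BT.node (nat_lit 7795712) (BT.node (nat_lit 7795648) (BT.leaf (nat_lit 23862289)) (BT.leaf (nat_lit 23862033))) (BT.node (nat_lit 7795776) (BT.leaf (nat_lit 28350745)) (BT.leaf (nat_lit 28938785))))) (BT.node (nat_lit 7796096) (BT.node (nat_lit 7795968) (BT.node (nat_lit 7795904) (BT.leaf (nat_lit 48532229)) (BT.leaf (nat_lit 48532769))) (BT.node (nat_lit 7796032) (BT.leaf (nat_lit 28350733)) (BT.leaf (nat_lit 36733973)))) (BT.node (nat_lit 7796224) (BT.node (nat_lit 7796160) (BT.leaf (nat_lit 35675929)) (BT.leaf (nat_lit 24291353))) (BT.node (nat_lit 7796288) (BT.leaf (nat_lit 23862793)) (BT.leaf (nat_lit 39072785)))))))) (BT.node (nat_lit 7798400) (BT.node (nat_lit 7797376) (BT.node (nat_lit 7796864) (BT.node (nat_lit 7796608) (BT.node (nat_lit 7796480) (BT.node (nat_lit 7796416) (BT.leaf (nat_lit 41285649)) (BT.leaf (nat_lit 28959005))) (BT.node (nat_lit 7796544) (BT.leaf (nat_lit 31969293)) (BT.leaf (nat_lit 23864593)))) (BT.node (nat_lit 7796736) (BT.node (nat_lit 7796672) (BT.leaf (nat_lit 32873237)) (BT.leaf (nat_lit 23865105))) (BT.node (nat_lit 7796800) (BT.leaf (nat_lit 47264261)) (BT.leaf (nat_lit 30432517))))) (BT.node (nat_lit 7797120) (BT.node (nat_lit 7796992) (BT.node (nat_lit 7796928) (BT.leaf (nat_lit 31728673)) (BT.leaf (nat_lit 29058061))) (BT.node (nat_lit 7797056) (BT.leaf (nat_lit 37962265)) (BT.leaf (nat_lit 39608329)))) (BT.node (nat_lit 7797248) (BT.node (nat_lit 7797184) (BT.leaf (nat_lit 41788193)) (BT.leaf (nat_lit 48536849))) (BT.node (nat_lit 7797312) (BT.leaf (nat_lit 51635205)) (BT.leaf (nat_lit 30057249)))))) (BT.node (nat_lit 7797888) (BT.node (nat_lit 7797632) (BT.node (nat_lit 7797504) (BT.node (nat_lit 7797440) (BT.leaf (nat_lit 24446225)) (BT.leaf (nat_lit 28911893))) (BT.node (nat_lit 7797568) (BT.leaf (nat_lit 37938185)) (BT.leaf (nat_lit 48538389)))) (BT.node (nat_lit 7797760) (BT.node (nat_lit 7797696) (BT.leaf (nat_lit 47769093)) (BT.leaf (nat_lit 34472989))) (BT.node (nat_lit 7797824) (BT.leaf (nat_lit 30394133)) (BT.leaf (nat_lit 35389213))))) (BT.node (nat_lit 7798144) (BT.node (nat_lit 7798016) (BT.node (nat_lit 7797952) (BT.leaf (nat_lit 22713885)) (BT.leaf (nat_lit 26760213))) (BT.node (nat_lit 7798080) (BT.leaf (nat_lit 28950549)) (BT.leaf (nat_lit 39768085)))) (BT.node (nat_lit 7798272) (BT.node (nat_lit 7798208) (BT.leaf (nat_lit 37938973)) (BT.leaf (nat_lit 40371729))) (BT.node (nat_lit 7798336) (BT.leaf (nat_lit 48541713)) (BT.leaf (nat_lit 27469841))))))) (BT.node (nat_lit 7799424) (BT.node (nat_lit 7798912) (BT.node (nat_lit 7798656) (BT.node (nat_lit 7798528) (BT.node (nat_lit 7798464) (BT.leaf (nat_lit 30056481)) (BT.leaf (nat_lit 48543005))) (BT.node (nat_lit 7798592) (BT.leaf (nat_lit 24014085)) (BT.leaf (nat_lit 28772897)))) (BT.node (nat_lit 7798784) (BT.node (nat_lit 7798720) (BT.leaf (nat_lit 24014097)) (BT.leaf (nat_lit 50007329))) (BT.node (nat_lit 7798848) (BT.leaf (nat_lit 50007565)) (BT.leaf (nat_lit 47986209))))) (BT.node (nat_lit 7799168) (BT.node (nat_lit 7799040) (BT.node (nat_lit 7798976) (BT.leaf (nat_lit 34662945)) (BT.leaf (nat_lit 47986977))) (BT.node (nat_lit 7799104) (BT.leaf (nat_lit 48545029)) (BT.leaf (nat_lit 23869717)))) (BT.node (nat_lit 7799296) (BT.node (nat_lit 7799232) (BT.leaf (nat_lit 48545569)) (BT.leaf (nat_lit 48545825))) (BT.node (nat_lit 7799360) (BT.leaf (nat_lit 31795745)) (BT.leaf (nat_lit 48546849)))))) (BT.node (nat_lit 7799936) (BT.node (nat_lit 7799680) (BT.node (nat_lit 7799552) (BT.node (nat_lit 7799488) (BT.leaf (nat_lit 48547105)) (BT.leaf (nat_lit 48547349))) (BT.node (nat_lit 7799616) (BT.leaf (nat_lit 23870993)) (BT.leaf (nat_lit 23870481)))) (BT.node (nat_lit 7799808) (BT.node (nat_lit 7799744) (BT.leaf (nat_lit 23871253)) (BT.leaf (nat_lit 36814345))) (BT.node (nat_lit 7799872) (BT.leaf (nat_lit 28608269)) (BT.leaf (nat_lit 34089749))))) (BT.node (nat_lit 7800192) (BT.node (nat_lit 7800064) (BT.node (nat_lit 7800000) (BT.leaf (nat_lit 48548361)) (BT.leaf (nat_lit 31950357))) (BT.node (nat_lit 7800128) (BT.leaf (nat_lit 34089733)) (BT.leaf (nat_lit 34089741)))) (BT.node (nat_lit 7800320) (BT.node (nat_lit 7800256) (BT.leaf (nat_lit 34089753)) (BT.leaf (nat_lit 34089757))) (BT.node (nat_lit 7800384) (BT.leaf (nat_lit 33293321)) (BT.leaf (nat_lit 33293337))))))))) (BT.node (nat_lit 7804544) (BT.node (nat_lit 7802496) (BT.node (nat_lit 7801472) (BT.node (nat_lit 7800960) (BT.node (nat_lit 7800704) (BT.node (nat_lit 7800576) (BT.node (nat_lit 7800512) (BT.leaf (nat_lit 33293341)) (BT.leaf (nat_lit 31201557))) (BT.node (nat_lit 7800640) (BT.leaf (nat_lit 23873045)) (BT.leaf (nat_lit 22630421)))) (BT.node (nat_lit 7800832) (BT.node (nat_lit 7800768) (BT.leaf (nat_lit 28968217)) (BT.leaf (nat_lit 27554577))) (BT.node (nat_lit 7800896) (BT.leaf (nat_lit 24450589)) (BT.leaf (nat_lit 28118801))))) (BT.node (nat_lit 7801216) (BT.node (nat_lit 7801088) (BT.node (nat_lit 7801024) (BT.leaf (nat_lit 32407825)) (BT.leaf (nat_lit 39676433))) (BT.node (nat_lit 7801152) (BT.leaf (nat_lit 28941581)) (BT.leaf (nat_lit 37207817)))) (BT.node (nat_lit 7801344) (BT.node (nat_lit 7801280) (BT.leaf (nat_lit 22646033)) (BT.leaf (nat_lit 24853781))) (BT.node (nat_lit 7801408) (BT.leaf (nat_lit 24853785)) (BT.leaf (nat_lit 24853789)))))) (BT.node (nat_lit 7801984) (BT.node (nat_lit 7801728) (BT.node (nat_lit 7801600) (BT.node (nat_lit 7801536) (BT.leaf (nat_lit 33651217)) (BT.leaf (nat_lit 27472645))) (BT.node (nat_lit 7801664) (BT.leaf (nat_lit 22538529)) (BT.leaf (nat_lit 34184461)))) (BT.node (nat_lit 7801856) (BT.node (nat_lit 7801792) (BT.leaf (nat_lit 31207181)) (BT.leaf (nat_lit 33369621))) (BT.node (nat_lit 7801920) (BT.leaf (nat_lit 31467013)) (BT.leaf (nat_lit 48552973))))) (BT.node (nat_lit 7802240) (BT.node (nat_lit 7802112) (BT.node (nat_lit 7802048) (BT.leaf (nat_lit 48554261)) (BT.leaf (nat_lit 31467025))) (BT.node (nat_lit 7802176) (BT.leaf (nat_lit 25594905)) (BT.leaf (nat_lit 50787089)))) (BT.node (nat_lit 7802368) (BT.node (nat_lit 7802304) (BT.leaf (nat_lit 33369881)) (BT.leaf (nat_lit 48555029))) (BT.node (nat_lit 7802432) (BT.leaf (nat_lit 38698273)) (BT.leaf (nat_lit 22424081))))))) (BT.node (nat_lit 7803520) (BT.node (nat_lit 7803008) (BT.node (nat_lit 7802752) (BT.node (nat_lit 7802624) (BT.node (nat_lit 7802560) (BT.leaf (nat_lit 24567061)) (BT.leaf (nat_lit 25523729))) (BT.node (nat_lit 7802688) (BT.leaf (nat_lit 24567069)) (BT.leaf (nat_lit 25898257)))) (BT.node (nat_lit 7802880) (BT.node (nat_lit 7802816) (BT.leaf (nat_lit 29676049)) (BT.leaf (nat_lit 24370709))) (BT.node (nat_lit 7802944) (BT.leaf (nat_lit 29815325)) (BT.leaf (nat_lit 24370717))))) (BT.node (nat_lit 7803264) (BT.node (nat_lit 7803136) (BT.node (nat_lit 7803072) (BT.leaf (nat_lit 23878161)) (BT.leaf (nat_lit 48067845))) (BT.node (nat_lit 7803200) (BT.leaf (nat_lit 30030089)) (BT.leaf (nat_lit 36898065)))) (BT.node (nat_lit 7803392) (BT.node (nat_lit 7803328) (BT.leaf (nat_lit 31864069)) (BT.leaf (nat_lit 27546129))) (BT.node (nat_lit 7803456) (BT.leaf (nat_lit 25882897)) (BT.leaf (nat_lit 30216733)))))) (BT.node (nat_lit 7804032) (BT.node (nat_lit 7803776) (BT.node (nat_lit 7803648) (BT.node (nat_lit 7803584) (BT.leaf (nat_lit 42780697)) (BT.leaf (nat_lit 31214105))) (BT.node (nat_lit 7803712) (BT.leaf (nat_lit 50702097)) (BT.leaf (nat_lit 32442401)))) (BT.node (nat_lit 7803904) (BT.node (nat_lit 7803840) (BT.leaf (nat_lit 42789649)) (BT.leaf (nat_lit 23879945))) (BT.node (nat_lit 7803968) (BT.leaf (nat_lit 37993993)) (BT.leaf (nat_lit 40092445))))) (BT.node (nat_lit 7804288) (BT.node (nat_lit 7804160) (BT.node (nat_lit 7804096) (BT.leaf (nat_lit 40092425)) (BT.leaf (nat_lit 37994013))) (BT.node (nat_lit 7804224) (BT.leaf (nat_lit 37994017)) (BT.leaf (nat_lit 28058389)))) (BT.node (nat_lit 7804416) (BT.node (nat_lit 7804352) (BT.leaf (nat_lit 34453273)) (BT.leaf (nat_lit 43260945))) (BT.node (nat_lit 7804480) (BT.leaf (nat_lit 42391577)) (BT.leaf (nat_lit 38074373)))))))) (BT.node (nat_lit 7806592) (BT.node (nat_lit 7805568) (BT.node (nat_lit 7805056) (BT.node (nat_lit 7804800) (BT.node (nat_lit 7804672) (BT.node (nat_lit 7804608) (BT.leaf (nat_lit 29290529)) (BT.leaf (nat_lit 46990097))) (BT.node (nat_lit 7804736) (BT.leaf (nat_lit 24035865)) (BT.leaf (nat_lit 38074393)))) (BT.node (nat_lit 7804928) (BT.node (nat_lit 7804864) (BT.leaf (nat_lit 30104093)) (BT.leaf (nat_lit 40391685))) (BT.node (nat_lit 7804992) (BT.leaf (nat_lit 24035869)) (BT.leaf (nat_lit 31332113))))) (BT.node (nat_lit 7805312) (BT.node (nat_lit 7805184) (BT.node (nat_lit 7805120) (BT.leaf (nat_lit 27587593)) (BT.leaf (nat_lit 27397909))) (BT.node (nat_lit 7805248) (BT.leaf (nat_lit 48560417)) (BT.leaf (nat_lit 27587609)))) (BT.node (nat_lit 7805440) (BT.node (nat_lit 7805376) (BT.leaf (nat_lit 48560645)) (BT.leaf (nat_lit 31237141))) (BT.node (nat_lit 7805504) (BT.leaf (nat_lit 48561177)) (BT.leaf (nat_lit 48561693)))))) (BT.node (nat_lit 7806080) (BT.node (nat_lit 7805824) (BT.node (nat_lit 7805696) (BT.node (nat_lit 7805632) (BT.leaf (nat_lit 32304909)) (BT.leaf (nat_lit 29726241))) (BT.node (nat_lit 7805760) (BT.leaf (nat_lit 46367505)) (BT.leaf (nat_lit 50743053)))) (BT.node (nat_lit 7805952) (BT.node (nat_lit 7805888) (BT.leaf (nat_lit 35095313)) (BT.leaf (nat_lit 40759065))) (BT.node (nat_lit 7806016) (BT.leaf (nat_lit 29725717)) (BT.leaf (nat_lit 29173785))))) (BT.node (nat_lit 7806336) (BT.node (nat_lit 7806208) (BT.node (nat_lit 7806144) (BT.leaf (nat_lit 48563989)) (BT.leaf (nat_lit 43695649))) (BT.node (nat_lit 7806272) (BT.leaf (nat_lit 48564485)) (BT.leaf (nat_lit 42739745)))) (BT.node (nat_lit 7806464) (BT.node (nat_lit 7806400) (BT.leaf (nat_lit 28537365)) (BT.leaf (nat_lit 43770657))) (BT.node (nat_lit 7806528) (BT.leaf (nat_lit 40436237)) (BT.leaf (nat_lit 42740513))))))) (BT.node (nat_lit 7807616) (BT.node (nat_lit 7807104) (BT.node (nat_lit 7806848) (BT.node (nat_lit 7806720) (BT.node (nat_lit 7806656) (BT.leaf (nat_lit 47036945)) (BT.leaf (nat_lit 23884565))) (BT.node (nat_lit 7806784) (BT.leaf (nat_lit 43880969)) (BT.leaf (nat_lit 39374605)))) (BT.node (nat_lit 7806976) (BT.node (nat_lit 7806912) (BT.leaf (nat_lit 29998357)) (BT.leaf (nat_lit 29998361))) (BT.node (nat_lit 7807040) (BT.leaf (nat_lit 47037213)) (BT.leaf (nat_lit 23885073))))) (BT.node (nat_lit 7807360) (BT.node (nat_lit 7807232) (BT.node (nat_lit 7807168) (BT.leaf (nat_lit 47654177)) (BT.leaf (nat_lit 27436561))) (BT.node (nat_lit 7807296) (BT.leaf (nat_lit 38463757)) (BT.leaf (nat_lit 23886865)))) (BT.node (nat_lit 7807488) (BT.node (nat_lit 7807424) (BT.leaf (nat_lit 32551193)) (BT.leaf (nat_lit 31442449))) (BT.node (nat_lit 7807552) (BT.leaf (nat_lit 38267917)) (BT.leaf (nat_lit 32826393)))))) (BT.node (nat_lit 7808128) (BT.node (nat_lit 7807872) (BT.node (nat_lit 7807744) (BT.node (nat_lit 7807680) (BT.leaf (nat_lit 43454737)) (BT.leaf (nat_lit 43456801))) (BT.node (nat_lit 7807808) (BT.leaf (nat_lit 50174993)) (BT.leaf (nat_lit 37749021)))) (BT.node (nat_lit 7808000) (BT.node (nat_lit 7807936) (BT.leaf (nat_lit 28097289)) (BT.leaf (nat_lit 33029893))) (BT.node (nat_lit 7808064) (BT.leaf (nat_lit 28599057)) (BT.leaf (nat_lit 28598801))))) (BT.node (nat_lit 7808384) (BT.node (nat_lit 7808256) (BT.node (nat_lit 7808192) (BT.leaf (nat_lit 47002913)) (BT.leaf (nat_lit 32657425))) (BT.node (nat_lit 7808320) (BT.leaf (nat_lit 36854809)) (BT.leaf (nat_lit 28419857)))) (BT.node (nat_lit 7808512) (BT.node (nat_lit 7808448) (BT.leaf (nat_lit 49510165)) (BT.leaf (nat_lit 23888913))) (BT.node (nat_lit 7808576) (BT.leaf (nat_lit 29999641)) (BT.leaf (nat_lit 29999645)))))))))) (BT.node (nat_lit 7816832) (BT.node (nat_lit 7812736) (BT.node (nat_lit 7810688) (BT.node (nat_lit 7809664) (BT.node (nat_lit 7809152) (BT.node (nat_lit 7808896) (BT.node (nat_lit 7808768) (BT.node (nat_lit 7808704) (BT.leaf (nat_lit 34633997)) (BT.leaf (nat_lit 34634009))) (BT.node (nat_lit 7808832) (BT.leaf (nat_lit 34634013)) (BT.leaf (nat_lit 48568597)))) (BT.node (nat_lit 7809024) (BT.node (nat_lit 7808960) (BT.leaf (nat_lit 28622601)) (BT.leaf (nat_lit 26499609))) (BT.node (nat_lit 7809088) (BT.leaf (nat_lit 27585825)) (BT.leaf (nat_lit 24037649))))) (BT.node (nat_lit 7809408) (BT.node (nat_lit 7809280) (BT.node (nat_lit 7809216) (BT.leaf (nat_lit 24037653)) (BT.leaf (nat_lit 40421381))) (BT.node (nat_lit 7809344) (BT.leaf (nat_lit 46374417)) (BT.leaf (nat_lit 24310301)))) (BT.node (nat_lit 7809536) (BT.node (nat_lit 7809472) (BT.leaf (nat_lit 39062557)) (BT.leaf (nat_lit 33013793))) (BT.node (nat_lit 7809600) (BT.leaf (nat_lit 28879389)) (BT.leaf (nat_lit 28231709)))))) (BT.node (nat_lit 7810176) (BT.node (nat_lit 7809920) (BT.node (nat_lit 7809792) (BT.node (nat_lit 7809728) (BT.leaf (nat_lit 31417361)) (BT.leaf (nat_lit 34387717))) (BT.node (nat_lit 7809856) (BT.leaf (nat_lit 24307233)) (BT.leaf (nat_lit 48572449)))) (BT.node (nat_lit 7810048) (BT.node (nat_lit 7809984) (BT.leaf (nat_lit 35655445)) (BT.leaf (nat_lit 46366469))) (BT.node (nat_lit 7810112) (BT.leaf (nat_lit 33157145)) (BT.leaf (nat_lit 28103181))))) (BT.node (nat_lit 7810432) (BT.node (nat_lit 7810304) (BT.node (nat_lit 7810240) (BT.leaf (nat_lit 33144597)) (BT.leaf (nat_lit 24406033))) (BT.node (nat_lit 7810368) (BT.leaf (nat_lit 33157661)) (BT.leaf (nat_lit 23893001)))) (BT.node (nat_lit 7810560) (BT.node (nat_lit 7810496) (BT.leaf (nat_lit 27490061)) (BT.leaf (nat_lit 23893517))) (BT.node (nat_lit 7810624) (BT.leaf (nat_lit 25336853)) (BT.leaf (nat_lit 41234445))))))) (BT.node (nat_lit 7811712) (BT.node (nat_lit 7811200) (BT.node (nat_lit 7810944) (BT.node (nat_lit 7810816) (BT.node (nat_lit 7810752) (BT.leaf (nat_lit 41393173)) (BT.leaf (nat_lit 41393181))) (BT.node (nat_lit 7810880) (BT.leaf (nat_lit 34698529)) (BT.leaf (nat_lit 30549017)))) (BT.node (nat_lit 7811072) (BT.node (nat_lit 7811008) (BT.leaf (nat_lit 48574213)) (BT.leaf (nat_lit 42162721))) (BT.node (nat_lit 7811136) (BT.leaf (nat_lit 48574493)) (BT.leaf (nat_lit 23894033))))) (BT.node (nat_lit 7811456) (BT.node (nat_lit 7811328) (BT.node (nat_lit 7811264) (BT.leaf (nat_lit 24211733)) (BT.leaf (nat_lit 31244825))) (BT.node (nat_lit 7811392) (BT.leaf (nat_lit 23811089)) (BT.leaf (nat_lit 33631517)))) (BT.node (nat_lit 7811584) (BT.node (nat_lit 7811520) (BT.leaf (nat_lit 23894561)) (BT.leaf (nat_lit 23894789))) (BT.node (nat_lit 7811648) (BT.leaf (nat_lit 25791253)) (BT.leaf (nat_lit 36301069)))))) (BT.node (nat_lit 7812224) (BT.node (nat_lit 7811968) (BT.node (nat_lit 7811840) (BT.node (nat_lit 7811776) (BT.leaf (nat_lit 29122325)) (BT.leaf (nat_lit 47770649))) (BT.node (nat_lit 7811904) (BT.leaf (nat_lit 32681497)) (BT.leaf (nat_lit 42929945)))) (BT.node (nat_lit 7812096) (BT.node (nat_lit 7812032) (BT.leaf (nat_lit 28653845)) (BT.leaf (nat_lit 31248413))) (BT.node (nat_lit 7812160) (BT.leaf (nat_lit 29546001)) (BT.leaf (nat_lit 48578065))))) (BT.node (nat_lit 7812480) (BT.node (nat_lit 7812352) (BT.node (nat_lit 7812288) (BT.leaf (nat_lit 29899013)) (BT.leaf (nat_lit 48578581))) (BT.node (nat_lit 7812416) (BT.leaf (nat_lit 34860293)) (BT.leaf (nat_lit 31974409)))) (BT.node (nat_lit 7812608) (BT.node (nat_lit 7812544) (BT.leaf (nat_lit 24297501)) (BT.leaf (nat_lit 31638293))) (BT.node (nat_lit 7812672) (BT.leaf (nat_lit 23835921)) (BT.leaf (nat_lit 27830029)))))))) (BT.node (nat_lit 7814784) (BT.node (nat_lit 7813760) (BT.node (nat_lit 7813248) (BT.node (nat_lit 7812992) (BT.node (nat_lit 7812864) (BT.node (nat_lit 7812800) (BT.leaf (nat_lit 25789469)) (BT.leaf (nat_lit 36235801))) (BT.node (nat_lit 7812928) (BT.leaf (nat_lit 34288917)) (BT.leaf (nat_lit 24141073)))) (BT.node (nat_lit 7813120) (BT.node (nat_lit 7813056) (BT.leaf (nat_lit 27387149)) (BT.leaf (nat_lit 27388449))) (BT.node (nat_lit 7813184) (BT.leaf (nat_lit 34883077)) (BT.leaf (nat_lit 38532385))))) (BT.node (nat_lit 7813504) (BT.node (nat_lit 7813376) (BT.node (nat_lit 7813312) (BT.leaf (nat_lit 28268577)) (BT.leaf (nat_lit 46406405))) (BT.node (nat_lit 7813440) (BT.leaf (nat_lit 43905045)) (BT.leaf (nat_lit 27735825)))) (BT.node (nat_lit 7813632) (BT.node (nat_lit 7813568) (BT.leaf (nat_lit 28060677)) (BT.leaf (nat_lit 37966353))) (BT.node (nat_lit 7813696) (BT.leaf (nat_lit 28112417)) (BT.leaf (nat_lit 35346709)))))) (BT.node (nat_lit 7814272) (BT.node (nat_lit 7814016) (BT.node (nat_lit 7813888) (BT.node (nat_lit 7813824) (BT.leaf (nat_lit 48580381)) (BT.leaf (nat_lit 30423557))) (BT.node (nat_lit 7813952) (BT.leaf (nat_lit 48580873)) (BT.leaf (nat_lit 41175569)))) (BT.node (nat_lit 7814144) (BT.node (nat_lit 7814080) (BT.leaf (nat_lit 32323861)) (BT.leaf (nat_lit 34588433))) (BT.node (nat_lit 7814208) (BT.leaf (nat_lit 31137801)) (BT.leaf (nat_lit 38050321))))) (BT.node (nat_lit 7814528) (BT.node (nat_lit 7814400) (BT.node (nat_lit 7814336) (BT.leaf (nat_lit 24419605)) (BT.leaf (nat_lit 33081361))) (BT.node (nat_lit 7814464) (BT.leaf (nat_lit 28278049)) (BT.leaf (nat_lit 48554017)))) (BT.node (nat_lit 7814656) (BT.node (nat_lit 7814592) (BT.leaf (nat_lit 31138581)) (BT.leaf (nat_lit 43660561))) (BT.node (nat_lit 7814720) (BT.leaf (nat_lit 23901473)) (BT.leaf (nat_lit 32013077))))))) (BT.node (nat_lit 7815808) (BT.node (nat_lit 7815296) (BT.node (nat_lit 7815040) (BT.node (nat_lit 7814912) (BT.node (nat_lit 7814848) (BT.leaf (nat_lit 47500049)) (BT.leaf (nat_lit 50946577))) (BT.node (nat_lit 7814976) (BT.leaf (nat_lit 23646485)) (BT.leaf (nat_lit 43913237)))) (BT.node (nat_lit 7815168) (BT.node (nat_lit 7815104) (BT.leaf (nat_lit 23906565)) (BT.leaf (nat_lit 37841945))) (BT.node (nat_lit 7815232) (BT.leaf (nat_lit 43916825)) (BT.leaf (nat_lit 43427861))))) (BT.node (nat_lit 7815552) (BT.node (nat_lit 7815424) (BT.node (nat_lit 7815360) (BT.leaf (nat_lit 39968517)) (BT.leaf (nat_lit 24146193))) (BT.node (nat_lit 7815488) (BT.leaf (nat_lit 31788057)) (BT.leaf (nat_lit 31788061)))) (BT.node (nat_lit 7815680) (BT.node (nat_lit 7815616) (BT.leaf (nat_lit 32218637)) (BT.leaf (nat_lit 28704025))) (BT.node (nat_lit 7815744) (BT.leaf (nat_lit 48583701)) (BT.leaf (nat_lit 38097697)))))) (BT.node (nat_lit 7816320) (BT.node (nat_lit 7816064) (BT.node (nat_lit 7815936) (BT.node (nat_lit 7815872) (BT.leaf (nat_lit 28666657)) (BT.leaf (nat_lit 28703777))) (BT.node (nat_lit 7816000) (BT.leaf (nat_lit 24426249)) (BT.leaf (nat_lit 33530129)))) (BT.node (nat_lit 7816192) (BT.node (nat_lit 7816128) (BT.leaf (nat_lit 38154257)) (BT.leaf (nat_lit 43924741))) (BT.node (nat_lit 7816256) (BT.leaf (nat_lit 39344901)) (BT.leaf (nat_lit 48585245))))) (BT.node (nat_lit 7816576) (BT.node (nat_lit 7816448) (BT.node (nat_lit 7816384) (BT.leaf (nat_lit 39961621)) (BT.leaf (nat_lit 31265305))) (BT.node (nat_lit 7816512) (BT.leaf (nat_lit 26515729)) (BT.leaf (nat_lit 25025049)))) (BT.node (nat_lit 7816704) (BT.node (nat_lit 7816640) (BT.leaf (nat_lit 23901201)) (BT.leaf (nat_lit 24690977))) (BT.node (nat_lit 7816768) (BT.leaf (nat_lit 41827865)) (BT.leaf (nat_lit 41827869))))))))) (BT.node (nat_lit 7820928) (BT.node (nat_lit 7818880) (BT.node (nat_lit 7817856) (BT.node (nat_lit 7817344) (BT.node (nat_lit 7817088) (BT.node (nat_lit 7816960) (BT.node (nat_lit 7816896) (BT.leaf (nat_lit 42208529)) (BT.leaf (nat_lit 48588049))) (BT.node (nat_lit 7817024) (BT.leaf (nat_lit 48588565)) (BT.leaf (nat_lit 51060753)))) (BT.node (nat_lit 7817216) (BT.node (nat_lit 7817152) (BT.leaf (nat_lit 38194445)) (BT.leaf (nat_lit 24319265))) (BT.node (nat_lit 7817280) (BT.leaf (nat_lit 40523525)) (BT.leaf (nat_lit 43927569))))) (BT.node (nat_lit 7817600) (BT.node (nat_lit 7817472) (BT.node (nat_lit 7817408) (BT.leaf (nat_lit 48589329)) (BT.leaf (nat_lit 31269401))) (BT.node (nat_lit 7817536) (BT.leaf (nat_lit 28291589)) (BT.leaf (nat_lit 34418953)))) (BT.node (nat_lit 7817728) (BT.node (nat_lit 7817664) (BT.leaf (nat_lit 27811589)) (BT.leaf (nat_lit 46704157))) (BT.node (nat_lit 7817792) (BT.leaf (nat_lit 28042257)) (BT.leaf (nat_lit 48129313)))))) (BT.node (nat_lit 7818368) (BT.node (nat_lit 7818112) (BT.node (nat_lit 7817984) (BT.node (nat_lit 7817920) (BT.leaf (nat_lit 43144725)) (BT.leaf (nat_lit 38618913))) (BT.node (nat_lit 7818048) (BT.leaf (nat_lit 48590621)) (BT.leaf (nat_lit 39163397)))) (BT.node (nat_lit 7818240) (BT.node (nat_lit 7818176) (BT.leaf (nat_lit 23912465)) (BT.leaf (nat_lit 23903249))) (BT.node (nat_lit 7818304) (BT.leaf (nat_lit 23912209)) (BT.leaf (nat_lit 48592669))))) (BT.node (nat_lit 7818624) (BT.node (nat_lit 7818496) (BT.node (nat_lit 7818432) (BT.leaf (nat_lit 46601505)) (BT.leaf (nat_lit 46601249))) (BT.node (nat_lit 7818560) (BT.leaf (nat_lit 23913233)) (BT.leaf (nat_lit 23912977)))) (BT.node (nat_lit 7818752) (BT.node (nat_lit 7818688) (BT.leaf (nat_lit 23800593)) (BT.leaf (nat_lit 23912721))) (BT.node (nat_lit 7818816) (BT.leaf (nat_lit 23913745)) (BT.leaf (nat_lit 48594181))))))) (BT.node (nat_lit 7819904) (BT.node (nat_lit 7819392) (BT.node (nat_lit 7819136) (BT.node (nat_lit 7819008) (BT.node (nat_lit 7818944) (BT.leaf (nat_lit 48594721)) (BT.leaf (nat_lit 48595233))) (BT.node (nat_lit 7819072) (BT.leaf (nat_lit 32740373)) (BT.leaf (nat_lit 48595489)))) (BT.node (nat_lit 7819264) (BT.node (nat_lit 7819200) (BT.leaf (nat_lit 48595745)) (BT.leaf (nat_lit 48595481))) (BT.node (nat_lit 7819328) (BT.leaf (nat_lit 23902993)) (BT.leaf (nat_lit 37989645))))) (BT.node (nat_lit 7819648) (BT.node (nat_lit 7819520) (BT.node (nat_lit 7819456) (BT.leaf (nat_lit 25632277)) (BT.leaf (nat_lit 26819349))) (BT.node (nat_lit 7819584) (BT.leaf (nat_lit 36080917)) (BT.leaf (nat_lit 37212937)))) (BT.node (nat_lit 7819776) (BT.node (nat_lit 7819712) (BT.leaf (nat_lit 32351521)) (BT.leaf (nat_lit 31292697))) (BT.node (nat_lit 7819840) (BT.leaf (nat_lit 34689041)) (BT.leaf (nat_lit 29458209)))))) (BT.node (nat_lit 7820416) (BT.node (nat_lit 7820160) (BT.node (nat_lit 7820032) (BT.node (nat_lit 7819968) (BT.leaf (nat_lit 46962209)) (BT.leaf (nat_lit 46959905))) (BT.node (nat_lit 7820096) (BT.leaf (nat_lit 29283101)) (BT.leaf (nat_lit 26959637)))) (BT.node (nat_lit 7820288) (BT.node (nat_lit 7820224) (BT.leaf (nat_lit 31167521)) (BT.leaf (nat_lit 37156641))) (BT.node (nat_lit 7820352) (BT.leaf (nat_lit 34688529)) (BT.leaf (nat_lit 26509077))))) (BT.node (nat_lit 7820672) (BT.node (nat_lit 7820544) (BT.node (nat_lit 7820480) (BT.leaf (nat_lit 32348685)) (BT.leaf (nat_lit 37655065))) (BT.node (nat_lit 7820608) (BT.leaf (nat_lit 25633045)) (BT.leaf (nat_lit 37212957)))) (BT.node (nat_lit 7820800) (BT.node (nat_lit 7820736) (BT.leaf (nat_lit 34108689)) (BT.leaf (nat_lit 48597525))) (BT.node (nat_lit 7820864) (BT.leaf (nat_lit 48098565)) (BT.leaf (nat_lit 48598049)))))))) (BT.node (nat_lit 7822976) (BT.node (nat_lit 7821952) (BT.node (nat_lit 7821440) (BT.node (nat_lit 7821184) (BT.node (nat_lit 7821056) (BT.node (nat_lit 7820992) (BT.leaf (nat_lit 48597793)) (BT.leaf (nat_lit 28451085))) (BT.node (nat_lit 7821120) (BT.leaf (nat_lit 25674781)) (BT.leaf (nat_lit 24294929)))) (BT.node (nat_lit 7821312) (BT.node (nat_lit 7821248) (BT.leaf (nat_lit 48599841)) (BT.leaf (nat_lit 27857157))) (BT.node (nat_lit 7821376) (BT.leaf (nat_lit 48596497)) (BT.leaf (nat_lit 27531285))))) (BT.node (nat_lit 7821696) (BT.node (nat_lit 7821568) (BT.node (nat_lit 7821504) (BT.leaf (nat_lit 38177797)) (BT.leaf (nat_lit 39051781))) (BT.node (nat_lit 7821632) (BT.leaf (nat_lit 24518941)) (BT.leaf (nat_lit 34285845)))) (BT.node (nat_lit 7821824) (BT.node (nat_lit 7821760) (BT.leaf (nat_lit 49266449)) (BT.leaf (nat_lit 24456733))) (BT.node (nat_lit 7821888) (BT.leaf (nat_lit 34171681)) (BT.leaf (nat_lit 35675681)))))) (BT.node (nat_lit 7822464) (BT.node (nat_lit 7822208) (BT.node (nat_lit 7822080) (BT.node (nat_lit 7822016) (BT.leaf (nat_lit 37871649)) (BT.leaf (nat_lit 37871117))) (BT.node (nat_lit 7822144) (BT.leaf (nat_lit 27756561)) (BT.leaf (nat_lit 32205581)))) (BT.node (nat_lit 7822336) (BT.node (nat_lit 7822272) (BT.leaf (nat_lit 32162337)) (BT.leaf (nat_lit 31698441))) (BT.node (nat_lit 7822400) (BT.leaf (nat_lit 23919889)) (BT.leaf (nat_lit 48722205))))) (BT.node (nat_lit 7822720) (BT.node (nat_lit 7822592) (BT.node (nat_lit 7822528) (BT.leaf (nat_lit 38465545)) (BT.leaf (nat_lit 25803525))) (BT.node (nat_lit 7822656) (BT.leaf (nat_lit 23921697)) (BT.leaf (nat_lit 48606241)))) (BT.node (nat_lit 7822848) (BT.node (nat_lit 7822784) (BT.leaf (nat_lit 23921937)) (BT.leaf (nat_lit 41588745))) (BT.node (nat_lit 7822912) (BT.leaf (nat_lit 40039449)) (BT.leaf (nat_lit 32138517))))))) (BT.node (nat_lit 7824000) (BT.node (nat_lit 7823488) (BT.node (nat_lit 7823232) (BT.node (nat_lit 7823104) (BT.node (nat_lit 7823040) (BT.leaf (nat_lit 48607505)) (BT.leaf (nat_lit 48606725))) (BT.node (nat_lit 7823168) (BT.leaf (nat_lit 31794709)) (BT.leaf (nat_lit 37213717)))) (BT.node (nat_lit 7823360) (BT.node (nat_lit 7823296) (BT.leaf (nat_lit 29458705)) (BT.leaf (nat_lit 31292685))) (BT.node (nat_lit 7823424) (BT.leaf (nat_lit 23923725)) (BT.leaf (nat_lit 23854105))))) (BT.node (nat_lit 7823744) (BT.node (nat_lit 7823616) (BT.node (nat_lit 7823552) (BT.leaf (nat_lit 23242525)) (BT.leaf (nat_lit 23242521))) (BT.node (nat_lit 7823680) (BT.leaf (nat_lit 42857501)) (BT.leaf (nat_lit 47725837)))) (BT.node (nat_lit 7823872) (BT.node (nat_lit 7823808) (BT.leaf (nat_lit 47725325)) (BT.leaf (nat_lit 48609565))) (BT.node (nat_lit 7823936) (BT.leaf (nat_lit 48060945)) (BT.leaf (nat_lit 27383833)))))) (BT.node (nat_lit 7824512) (BT.node (nat_lit 7824256) (BT.node (nat_lit 7824128) (BT.node (nat_lit 7824064) (BT.leaf (nat_lit 30380057)) (BT.leaf (nat_lit 36122381))) (BT.node (nat_lit 7824192) (BT.leaf (nat_lit 24439317)) (BT.leaf (nat_lit 26789653)))) (BT.node (nat_lit 7824384) (BT.node (nat_lit 7824320) (BT.leaf (nat_lit 51801349)) (BT.leaf (nat_lit 23927057))) (BT.node (nat_lit 7824448) (BT.leaf (nat_lit 24060181)) (BT.leaf (nat_lit 28979973))))) (BT.node (nat_lit 7824768) (BT.node (nat_lit 7824640) (BT.node (nat_lit 7824576) (BT.leaf (nat_lit 48016905)) (BT.leaf (nat_lit 28875805))) (BT.node (nat_lit 7824704) (BT.leaf (nat_lit 39024149)) (BT.leaf (nat_lit 32384789)))) (BT.node (nat_lit 7824896) (BT.node (nat_lit 7824832) (BT.leaf (nat_lit 27733789)) (BT.leaf (nat_lit 34127641))) (BT.node (nat_lit 7824960) (BT.leaf (nat_lit 24086553)) (BT.leaf (nat_lit 23928081))))))))))) (BT.node (nat_lit 7841408) (BT.node (nat_lit 7833216) (BT.node (nat_lit 7829120) (BT.node (nat_lit 7827072) (BT.node (nat_lit 7826048) (BT.node (nat_lit 7825536) (BT.node (nat_lit 7825280) (BT.node (nat_lit 7825152) (BT.node (nat_lit 7825088) (BT.leaf (nat_lit 23927569)) (BT.leaf (nat_lit 34629921))) (BT.node (nat_lit 7825216) (BT.leaf (nat_lit 24428553)) (BT.leaf (nat_lit 29171213)))) (BT.node (nat_lit 7825408) (BT.node (nat_lit 7825344) (BT.leaf (nat_lit 23929105)) (BT.leaf (nat_lit 23928849))) (BT.node (nat_lit 7825472) (BT.leaf (nat_lit 46986773)) (BT.leaf (nat_lit 50405913))))) (BT.node (nat_lit 7825792) (BT.node (nat_lit 7825664) (BT.node (nat_lit 7825600) (BT.leaf (nat_lit 23934225)) (BT.leaf (nat_lit 28464149))) (BT.node (nat_lit 7825728) (BT.leaf (nat_lit 28464153)) (BT.leaf (nat_lit 28464157)))) (BT.node (nat_lit 7825920) (BT.node (nat_lit 7825856) (BT.leaf (nat_lit 27884305)) (BT.leaf (nat_lit 46337053))) (BT.node (nat_lit 7825984) (BT.leaf (nat_lit 23936529)) (BT.leaf (nat_lit 23805713)))))) (BT.node (nat_lit 7826560) (BT.node (nat_lit 7826304) (BT.node (nat_lit 7826176) (BT.node (nat_lit 7826112) (BT.leaf (nat_lit 23936017)) (BT.leaf (nat_lit 29452053))) (BT.node (nat_lit 7826240) (BT.leaf (nat_lit 29452057)) (BT.leaf (nat_lit 50473493)))) (BT.node (nat_lit 7826432) (BT.node (nat_lit 7826368) (BT.leaf (nat_lit 27761437)) (BT.leaf (nat_lit 28360225))) (BT.node (nat_lit 7826496) (BT.leaf (nat_lit 38307869)) (BT.leaf (nat_lit 27339297))))) (BT.node (nat_lit 7826816) (BT.node (nat_lit 7826688) (BT.node (nat_lit 7826624) (BT.leaf (nat_lit 28206881)) (BT.leaf (nat_lit 39541265))) (BT.node (nat_lit 7826752) (BT.leaf (nat_lit 34310173)) (BT.leaf (nat_lit 40547857)))) (BT.node (nat_lit 7826944) (BT.node (nat_lit 7826880) (BT.leaf (nat_lit 36304417)) (BT.leaf (nat_lit 28868629))) (BT.node (nat_lit 7827008) (BT.leaf (nat_lit 31308061)) (BT.leaf (nat_lit 27565585))))))) (BT.node (nat_lit 7828096) (BT.node (nat_lit 7827584) (BT.node (nat_lit 7827328) (BT.node (nat_lit 7827200) (BT.node (nat_lit 7827136) (BT.leaf (nat_lit 27419921)) (BT.leaf (nat_lit 38956833))) (BT.node (nat_lit 7827264) (BT.leaf (nat_lit 25845269)) (BT.leaf (nat_lit 34518033)))) (BT.node (nat_lit 7827456) (BT.node (nat_lit 7827392) (BT.leaf (nat_lit 39698961)) (BT.leaf (nat_lit 32426529))) (BT.node (nat_lit 7827520) (BT.leaf (nat_lit 26039829)) (BT.leaf (nat_lit 23941393))))) (BT.node (nat_lit 7827840) (BT.node (nat_lit 7827712) (BT.node (nat_lit 7827648) (BT.leaf (nat_lit 48620817)) (BT.leaf (nat_lit 48621077))) (BT.node (nat_lit 7827776) (BT.leaf (nat_lit 28238085)) (BT.leaf (nat_lit 31191569)))) (BT.node (nat_lit 7827968) (BT.node (nat_lit 7827904) (BT.leaf (nat_lit 23942161)) (BT.leaf (nat_lit 48621333))) (BT.node (nat_lit 7828032) (BT.leaf (nat_lit 23939857)) (BT.leaf (nat_lit 34617121)))))) (BT.node (nat_lit 7828608) (BT.node (nat_lit 7828352) (BT.node (nat_lit 7828224) (BT.node (nat_lit 7828160) (BT.leaf (nat_lit 24278041)) (BT.leaf (nat_lit 46659333))) (BT.node (nat_lit 7828288) (BT.leaf (nat_lit 52229897)) (BT.leaf (nat_lit 34983189)))) (BT.node (nat_lit 7828480) (BT.node (nat_lit 7828416) (BT.leaf (nat_lit 48620297)) (BT.leaf (nat_lit 52229917))) (BT.node (nat_lit 7828544) (BT.leaf (nat_lit 37208341)) (BT.leaf (nat_lit 23942929))))) (BT.node (nat_lit 7828864) (BT.node (nat_lit 7828736) (BT.node (nat_lit 7828672) (BT.leaf (nat_lit 48621573)) (BT.leaf (nat_lit 46821125))) (BT.node (nat_lit 7828800) (BT.leaf (nat_lit 31911941)) (BT.leaf (nat_lit 22507281)))) (BT.node (nat_lit 7828992) (BT.node (nat_lit 7828928) (BT.leaf (nat_lit 24416009)) (BT.leaf (nat_lit 23943173))) (BT.node (nat_lit 7829056) (BT.leaf (nat_lit 27902217)) (BT.leaf (nat_lit 27902221)))))))) (BT.node (nat_lit 7831168) (BT.node (nat_lit 7830144) (BT.node (nat_lit 7829632) (BT.node (nat_lit 7829376) (BT.node (nat_lit 7829248) (BT.node (nat_lit 7829184) (BT.leaf (nat_lit 31316765)) (BT.leaf (nat_lit 27906325))) (BT.node (nat_lit 7829312) (BT.leaf (nat_lit 28814601)) (BT.leaf (nat_lit 47190285)))) (BT.node (nat_lit 7829504) (BT.node (nat_lit 7829440) (BT.leaf (nat_lit 23380757)) (BT.leaf (nat_lit 27898133))) (BT.node (nat_lit 7829568) (BT.leaf (nat_lit 28035857)) (BT.leaf (nat_lit 31316749))))) (BT.node (nat_lit 7829888) (BT.node (nat_lit 7829760) (BT.node (nat_lit 7829696) (BT.leaf (nat_lit 29606417)) (BT.leaf (nat_lit 39582493))) (BT.node (nat_lit 7829824) (BT.leaf (nat_lit 48622353)) (BT.leaf (nat_lit 39463457)))) (BT.node (nat_lit 7830016) (BT.node (nat_lit 7829952) (BT.leaf (nat_lit 38797857)) (BT.leaf (nat_lit 43972629))) (BT.node (nat_lit 7830080) (BT.leaf (nat_lit 43984649)) (BT.leaf (nat_lit 34986253)))))) (BT.node (nat_lit 7830656) (BT.node (nat_lit 7830400) (BT.node (nat_lit 7830272) (BT.node (nat_lit 7830208) (BT.leaf (nat_lit 25789209)) (BT.leaf (nat_lit 32928533))) (BT.node (nat_lit 7830336) (BT.leaf (nat_lit 40791317)) (BT.leaf (nat_lit 41779733)))) (BT.node (nat_lit 7830528) (BT.node (nat_lit 7830464) (BT.leaf (nat_lit 28520713)) (BT.leaf (nat_lit 48623901))) (BT.node (nat_lit 7830592) (BT.leaf (nat_lit 39692833)) (BT.leaf (nat_lit 27940101))))) (BT.node (nat_lit 7830912) (BT.node (nat_lit 7830784) (BT.node (nat_lit 7830720) (BT.leaf (nat_lit 48624917)) (BT.leaf (nat_lit 27564561))) (BT.node (nat_lit 7830848) (BT.leaf (nat_lit 46467869)) (BT.leaf (nat_lit 27343125)))) (BT.node (nat_lit 7831040) (BT.node (nat_lit 7830976) (BT.leaf (nat_lit 31322905)) (BT.leaf (nat_lit 28520981))) (BT.node (nat_lit 7831104) (BT.leaf (nat_lit 23944977)) (BT.leaf (nat_lit 28232453))))))) (BT.node (nat_lit 7832192) (BT.node (nat_lit 7831680) (BT.node (nat_lit 7831424) (BT.node (nat_lit 7831296) (BT.node (nat_lit 7831232) (BT.leaf (nat_lit 24813085)) (BT.leaf (nat_lit 28902169))) (BT.node (nat_lit 7831360) (BT.leaf (nat_lit 28902173)) (BT.leaf (nat_lit 24813081)))) (BT.node (nat_lit 7831552) (BT.node (nat_lit 7831488) (BT.leaf (nat_lit 32105505)) (BT.leaf (nat_lit 34557465))) (BT.node (nat_lit 7831616) (BT.leaf (nat_lit 38852113)) (BT.leaf (nat_lit 24813589))))) (BT.node (nat_lit 7831936) (BT.node (nat_lit 7831808) (BT.node (nat_lit 7831744) (BT.leaf (nat_lit 38953245)) (BT.leaf (nat_lit 38850569))) (BT.node (nat_lit 7831872) (BT.leaf (nat_lit 37780257)) (BT.leaf (nat_lit 42220053)))) (BT.node (nat_lit 7832064) (BT.node (nat_lit 7832000) (BT.leaf (nat_lit 41949725)) (BT.leaf (nat_lit 27962125))) (BT.node (nat_lit 7832128) (BT.leaf (nat_lit 27963417)) (BT.leaf (nat_lit 27963421)))))) (BT.node (nat_lit 7832704) (BT.node (nat_lit 7832448) (BT.node (nat_lit 7832320) (BT.node (nat_lit 7832256) (BT.leaf (nat_lit 47267093)) (BT.leaf (nat_lit 31142149))) (BT.node (nat_lit 7832384) (BT.leaf (nat_lit 27755553)) (BT.leaf (nat_lit 48627733)))) (BT.node (nat_lit 7832576) (BT.node (nat_lit 7832512) (BT.leaf (nat_lit 32145165)) (BT.leaf (nat_lit 24800273))) (BT.node (nat_lit 7832640) (BT.leaf (nat_lit 32868881)) (BT.leaf (nat_lit 24800025))))) (BT.node (nat_lit 7832960) (BT.node (nat_lit 7832832) (BT.node (nat_lit 7832768) (BT.leaf (nat_lit 24800029)) (BT.leaf (nat_lit 42804497))) (BT.node (nat_lit 7832896) (BT.leaf (nat_lit 29968401)) (BT.leaf (nat_lit 30390545)))) (BT.node (nat_lit 7833088) (BT.node (nat_lit 7833024) (BT.leaf (nat_lit 32509717)) (BT.leaf (nat_lit 47371537))) (BT.node (nat_lit 7833152) (BT.leaf (nat_lit 38013985)) (BT.leaf (nat_lit 30506761))))))))) (BT.node (nat_lit 7837312) (BT.node (nat_lit 7835264) (BT.node (nat_lit 7834240) (BT.node (nat_lit 7833728) (BT.node (nat_lit 7833472) (BT.node (nat_lit 7833344) (BT.node (nat_lit 7833280) (BT.leaf (nat_lit 27882769)) (BT.leaf (nat_lit 39795985))) (BT.node (nat_lit 7833408) (BT.leaf (nat_lit 24596493)) (BT.leaf (nat_lit 24596489)))) (BT.node (nat_lit 7833600) (BT.node (nat_lit 7833536) (BT.leaf (nat_lit 24596505)) (BT.leaf (nat_lit 24596509))) (BT.node (nat_lit 7833664) (BT.leaf (nat_lit 30823693)) (BT.leaf (nat_lit 44010501))))) (BT.node (nat_lit 7833984) (BT.node (nat_lit 7833856) (BT.node (nat_lit 7833792) (BT.leaf (nat_lit 31065357)) (BT.leaf (nat_lit 28798737))) (BT.node (nat_lit 7833920) (BT.leaf (nat_lit 27428869)) (BT.leaf (nat_lit 47795205)))) (BT.node (nat_lit 7834112) (BT.node (nat_lit 7834048) (BT.leaf (nat_lit 23952417)) (BT.leaf (nat_lit 23631645))) (BT.node (nat_lit 7834176) (BT.leaf (nat_lit 32145161)) (BT.leaf (nat_lit 32145177)))))) (BT.node (nat_lit 7834752) (BT.node (nat_lit 7834496) (BT.node (nat_lit 7834368) (BT.node (nat_lit 7834304) (BT.leaf (nat_lit 32145181)) (BT.leaf (nat_lit 31337501))) (BT.node (nat_lit 7834432) (BT.leaf (nat_lit 48633109)) (BT.leaf (nat_lit 49702429)))) (BT.node (nat_lit 7834624) (BT.node (nat_lit 7834560) (BT.leaf (nat_lit 23954201)) (BT.leaf (nat_lit 23954961))) (BT.node (nat_lit 7834688) (BT.leaf (nat_lit 23954705)) (BT.leaf (nat_lit 41690397))))) (BT.node (nat_lit 7835008) (BT.node (nat_lit 7834880) (BT.node (nat_lit 7834816) (BT.leaf (nat_lit 23954449)) (BT.leaf (nat_lit 23955217))) (BT.node (nat_lit 7834944) (BT.leaf (nat_lit 23948817)) (BT.leaf (nat_lit 34569485)))) (BT.node (nat_lit 7835136) (BT.node (nat_lit 7835072) (BT.leaf (nat_lit 49702413)) (BT.leaf (nat_lit 49392141))) (BT.node (nat_lit 7835200) (BT.leaf (nat_lit 46675733)) (BT.leaf (nat_lit 46675229))))))) (BT.node (nat_lit 7836288) (BT.node (nat_lit 7835776) (BT.node (nat_lit 7835520) (BT.node (nat_lit 7835392) (BT.node (nat_lit 7835328) (BT.leaf (nat_lit 32954145)) (BT.leaf (nat_lit 46675209))) (BT.node (nat_lit 7835456) (BT.leaf (nat_lit 36294157)) (BT.leaf (nat_lit 24389409)))) (BT.node (nat_lit 7835648) (BT.node (nat_lit 7835584) (BT.leaf (nat_lit 27969817)) (BT.leaf (nat_lit 24085525))) (BT.node (nat_lit 7835712) (BT.leaf (nat_lit 24847121)) (BT.leaf (nat_lit 24848145))))) (BT.node (nat_lit 7836032) (BT.node (nat_lit 7835904) (BT.node (nat_lit 7835840) (BT.leaf (nat_lit 23994393)) (BT.leaf (nat_lit 43429393))) (BT.node (nat_lit 7835968) (BT.leaf (nat_lit 38989061)) (BT.leaf (nat_lit 31064341)))) (BT.node (nat_lit 7836160) (BT.node (nat_lit 7836096) (BT.leaf (nat_lit 43953933)) (BT.leaf (nat_lit 50686485))) (BT.node (nat_lit 7836224) (BT.leaf (nat_lit 25868829)) (BT.leaf (nat_lit 32931865)))))) (BT.node (nat_lit 7836800) (BT.node (nat_lit 7836544) (BT.node (nat_lit 7836416) (BT.node (nat_lit 7836352) (BT.leaf (nat_lit 50925073)) (BT.leaf (nat_lit 24882717))) (BT.node (nat_lit 7836480) (BT.leaf (nat_lit 48638993)) (BT.leaf (nat_lit 30341401)))) (BT.node (nat_lit 7836672) (BT.node (nat_lit 7836608) (BT.leaf (nat_lit 30341405)) (BT.leaf (nat_lit 32275473))) (BT.node (nat_lit 7836736) (BT.leaf (nat_lit 32097301)) (BT.leaf (nat_lit 23950609))))) (BT.node (nat_lit 7837056) (BT.node (nat_lit 7836928) (BT.node (nat_lit 7836864) (BT.leaf (nat_lit 24582933)) (BT.leaf (nat_lit 29605409))) (BT.node (nat_lit 7836992) (BT.leaf (nat_lit 29605153)) (BT.leaf (nat_lit 29828641)))) (BT.node (nat_lit 7837184) (BT.node (nat_lit 7837120) (BT.leaf (nat_lit 46992669)) (BT.leaf (nat_lit 33711889))) (BT.node (nat_lit 7837248) (BT.leaf (nat_lit 46635793)) (BT.leaf (nat_lit 48546053)))))))) (BT.node (nat_lit 7839360) (BT.node (nat_lit 7838336) (BT.node (nat_lit 7837824) (BT.node (nat_lit 7837568) (BT.node (nat_lit 7837440) (BT.node (nat_lit 7837376) (BT.leaf (nat_lit 23958289)) (BT.leaf (nat_lit 38249249))) (BT.node (nat_lit 7837504) (BT.leaf (nat_lit 30506765)) (BT.leaf (nat_lit 25650961)))) (BT.node (nat_lit 7837696) (BT.node (nat_lit 7837632) (BT.leaf (nat_lit 48629773)) (BT.leaf (nat_lit 48630029))) (BT.node (nat_lit 7837760) (BT.leaf (nat_lit 33218833)) (BT.leaf (nat_lit 25164061))))) (BT.node (nat_lit 7838080) (BT.node (nat_lit 7837952) (BT.node (nat_lit 7837888) (BT.leaf (nat_lit 24243489)) (BT.leaf (nat_lit 38753541))) (BT.node (nat_lit 7838016) (BT.leaf (nat_lit 34818829)) (BT.leaf (nat_lit 47645713)))) (BT.node (nat_lit 7838208) (BT.node (nat_lit 7838144) (BT.leaf (nat_lit 36777241)) (BT.leaf (nat_lit 40414981))) (BT.node (nat_lit 7838272) (BT.leaf (nat_lit 36899081)) (BT.leaf (nat_lit 23959821)))))) (BT.node (nat_lit 7838848) (BT.node (nat_lit 7838592) (BT.node (nat_lit 7838464) (BT.node (nat_lit 7838400) (BT.leaf (nat_lit 29627913)) (BT.leaf (nat_lit 38285857))) (BT.node (nat_lit 7838528) (BT.leaf (nat_lit 32725793)) (BT.leaf (nat_lit 32725017)))) (BT.node (nat_lit 7838720) (BT.node (nat_lit 7838656) (BT.leaf (nat_lit 32725021)) (BT.leaf (nat_lit 31065353))) (BT.node (nat_lit 7838784) (BT.leaf (nat_lit 36246045)) (BT.leaf (nat_lit 36246025))))) (BT.node (nat_lit 7839104) (BT.node (nat_lit 7838976) (BT.node (nat_lit 7838912) (BT.leaf (nat_lit 37882905)) (BT.leaf (nat_lit 32100885))) (BT.node (nat_lit 7839040) (BT.leaf (nat_lit 23960353)) (BT.leaf (nat_lit 29171489)))) (BT.node (nat_lit 7839232) (BT.node (nat_lit 7839168) (BT.leaf (nat_lit 40741153)) (BT.leaf (nat_lit 24877845))) (BT.node (nat_lit 7839296) (BT.leaf (nat_lit 35080977)) (BT.leaf (nat_lit 31356953))))))) (BT.node (nat_lit 7840384) (BT.node (nat_lit 7839872) (BT.node (nat_lit 7839616) (BT.node (nat_lit 7839488) (BT.node (nat_lit 7839424) (BT.leaf (nat_lit 34422813)) (BT.leaf (nat_lit 47183897))) (BT.node (nat_lit 7839552) (BT.leaf (nat_lit 48647953)) (BT.leaf (nat_lit 31357977)))) (BT.node (nat_lit 7839744) (BT.node (nat_lit 7839680) (BT.leaf (nat_lit 41861125)) (BT.leaf (nat_lit 29876505))) (BT.node (nat_lit 7839808) (BT.leaf (nat_lit 34922265)) (BT.leaf (nat_lit 23565333))))) (BT.node (nat_lit 7840128) (BT.node (nat_lit 7840000) (BT.node (nat_lit 7839936) (BT.leaf (nat_lit 34422805)) (BT.leaf (nat_lit 34061589))) (BT.node (nat_lit 7840064) (BT.leaf (nat_lit 33031189)) (BT.leaf (nat_lit 31357201)))) (BT.node (nat_lit 7840256) (BT.node (nat_lit 7840192) (BT.leaf (nat_lit 46401797)) (BT.leaf (nat_lit 38332705))) (BT.node (nat_lit 7840320) (BT.leaf (nat_lit 31051801)) (BT.leaf (nat_lit 23384597)))))) (BT.node (nat_lit 7840896) (BT.node (nat_lit 7840640) (BT.node (nat_lit 7840512) (BT.node (nat_lit 7840448) (BT.leaf (nat_lit 30567181)) (BT.leaf (nat_lit 30139417))) (BT.node (nat_lit 7840576) (BT.leaf (nat_lit 38330401)) (BT.leaf (nat_lit 29924893)))) (BT.node (nat_lit 7840768) (BT.node (nat_lit 7840704) (BT.leaf (nat_lit 35354373)) (BT.leaf (nat_lit 46990353))) (BT.node (nat_lit 7840832) (BT.leaf (nat_lit 46990349)) (BT.leaf (nat_lit 23567637))))) (BT.node (nat_lit 7841152) (BT.node (nat_lit 7841024) (BT.node (nat_lit 7840960) (BT.leaf (nat_lit 26760481)) (BT.leaf (nat_lit 27390737))) (BT.node (nat_lit 7841088) (BT.leaf (nat_lit 46993693)) (BT.leaf (nat_lit 28534293)))) (BT.node (nat_lit 7841280) (BT.node (nat_lit 7841216) (BT.leaf (nat_lit 30457349)) (BT.leaf (nat_lit 32226825))) (BT.node (nat_lit 7841344) (BT.leaf (nat_lit 24948761)) (BT.leaf (nat_lit 29339921)))))))))) (BT.node (nat_lit 7849600) (BT.node (nat_lit 7845504) (BT.node (nat_lit 7843456) (BT.node (nat_lit 7842432) (BT.node (nat_lit 7841920) (BT.node (nat_lit 7841664) (BT.node (nat_lit 7841536) (BT.node (nat_lit 7841472) (BT.leaf (nat_lit 39356185)) (BT.leaf (nat_lit 38344197))) (BT.node (nat_lit 7841600) (BT.leaf (nat_lit 28210437)) (BT.leaf (nat_lit 42378521)))) (BT.node (nat_lit 7841792) (BT.node (nat_lit 7841728) (BT.leaf (nat_lit 44050721)) (BT.leaf (nat_lit 31124741))) (BT.node (nat_lit 7841856) (BT.leaf (nat_lit 48651809)) (BT.leaf (nat_lit 23963921))))) (BT.node (nat_lit 7842176) (BT.node (nat_lit 7842048) (BT.node (nat_lit 7841984) (BT.leaf (nat_lit 23936273)) (BT.leaf (nat_lit 24697093))) (BT.node (nat_lit 7842112) (BT.leaf (nat_lit 32791301)) (BT.leaf (nat_lit 27151377)))) (BT.node (nat_lit 7842304) (BT.node (nat_lit 7842240) (BT.leaf (nat_lit 28892433)) (BT.leaf (nat_lit 23965457))) (BT.node (nat_lit 7842368) (BT.leaf (nat_lit 34127125)) (BT.leaf (nat_lit 34127129)))))) (BT.node (nat_lit 7842944) (BT.node (nat_lit 7842688) (BT.node (nat_lit 7842560) (BT.node (nat_lit 7842496) (BT.leaf (nat_lit 48017429)) (BT.leaf (nat_lit 34078225))) (BT.node (nat_lit 7842624) (BT.leaf (nat_lit 23965977)) (BT.leaf (nat_lit 30761233)))) (BT.node (nat_lit 7842816) (BT.node (nat_lit 7842752) (BT.leaf (nat_lit 23965981)) (BT.leaf (nat_lit 29626641))) (BT.node (nat_lit 7842880) (BT.leaf (nat_lit 29626645)) (BT.leaf (nat_lit 38743817))))) (BT.node (nat_lit 7843200) (BT.node (nat_lit 7843072) (BT.node (nat_lit 7843008) (BT.leaf (nat_lit 31129873)) (BT.leaf (nat_lit 43261461))) (BT.node (nat_lit 7843136) (BT.leaf (nat_lit 23966737)) (BT.leaf (nat_lit 23970065)))) (BT.node (nat_lit 7843328) (BT.node (nat_lit 7843264) (BT.leaf (nat_lit 31451681)) (BT.leaf (nat_lit 50349073))) (BT.node (nat_lit 7843392) (BT.leaf (nat_lit 50349089)) (BT.leaf (nat_lit 35868177))))))) (BT.node (nat_lit 7844480) (BT.node (nat_lit 7843968) (BT.node (nat_lit 7843712) (BT.node (nat_lit 7843584) (BT.node (nat_lit 7843520) (BT.leaf (nat_lit 50268677)) (BT.leaf (nat_lit 38188309))) (BT.node (nat_lit 7843648) (BT.leaf (nat_lit 24648721)) (BT.leaf (nat_lit 31374361)))) (BT.node (nat_lit 7843840) (BT.node (nat_lit 7843776) (BT.leaf (nat_lit 31375133)) (BT.leaf (nat_lit 31762965))) (BT.node (nat_lit 7843904) (BT.leaf (nat_lit 48660245)) (BT.leaf (nat_lit 28916761))))) (BT.node (nat_lit 7844224) (BT.node (nat_lit 7844096) (BT.node (nat_lit 7844032) (BT.leaf (nat_lit 24044833)) (BT.leaf (nat_lit 43026709))) (BT.node (nat_lit 7844160) (BT.leaf (nat_lit 27836945)) (BT.leaf (nat_lit 47087393)))) (BT.node (nat_lit 7844352) (BT.node (nat_lit 7844288) (BT.leaf (nat_lit 38825489)) (BT.leaf (nat_lit 22306069))) (BT.node (nat_lit 7844416) (BT.leaf (nat_lit 47087369)) (BT.leaf (nat_lit 23969809)))))) (BT.node (nat_lit 7844992) (BT.node (nat_lit 7844736) (BT.node (nat_lit 7844608) (BT.node (nat_lit 7844544) (BT.leaf (nat_lit 48664353)) (BT.leaf (nat_lit 48664097))) (BT.node (nat_lit 7844672) (BT.leaf (nat_lit 23969297)) (BT.leaf (nat_lit 30122261)))) (BT.node (nat_lit 7844864) (BT.node (nat_lit 7844800) (BT.leaf (nat_lit 30122265)) (BT.leaf (nat_lit 30122269))) (BT.node (nat_lit 7844928) (BT.leaf (nat_lit 33932049)) (BT.leaf (nat_lit 37199365))))) (BT.node (nat_lit 7845248) (BT.node (nat_lit 7845120) (BT.node (nat_lit 7845056) (BT.leaf (nat_lit 48664853)) (BT.leaf (nat_lit 42675465))) (BT.node (nat_lit 7845184) (BT.leaf (nat_lit 28378913)) (BT.leaf (nat_lit 23971089)))) (BT.node (nat_lit 7845376) (BT.node (nat_lit 7845312) (BT.leaf (nat_lit 42675485)) (BT.leaf (nat_lit 23973393))) (BT.node (nat_lit 7845440) (BT.leaf (nat_lit 28987413)) (BT.leaf (nat_lit 28987417)))))))) (BT.node (nat_lit 7847552) (BT.node (nat_lit 7846528) (BT.node (nat_lit 7846016) (BT.node (nat_lit 7845760) (BT.node (nat_lit 7845632) (BT.node (nat_lit 7845568) (BT.leaf (nat_lit 28987421)) (BT.leaf (nat_lit 23973137))) (BT.node (nat_lit 7845696) (BT.leaf (nat_lit 23967505)) (BT.leaf (nat_lit 23973905)))) (BT.node (nat_lit 7845888) (BT.node (nat_lit 7845824) (BT.leaf (nat_lit 27386901)) (BT.leaf (nat_lit 27386905))) (BT.node (nat_lit 7845952) (BT.leaf (nat_lit 27386909)) (BT.leaf (nat_lit 41435401))))) (BT.node (nat_lit 7846272) (BT.node (nat_lit 7846144) (BT.node (nat_lit 7846080) (BT.leaf (nat_lit 28024081)) (BT.leaf (nat_lit 32656149))) (BT.node (nat_lit 7846208) (BT.leaf (nat_lit 32656153)) (BT.leaf (nat_lit 31375373)))) (BT.node (nat_lit 7846400) (BT.node (nat_lit 7846336) (BT.leaf (nat_lit 46321425)) (BT.leaf (nat_lit 24604189))) (BT.node (nat_lit 7846464) (BT.leaf (nat_lit 27573269)) (BT.leaf (nat_lit 37830165)))))) (BT.node (nat_lit 7847040) (BT.node (nat_lit 7846784) (BT.node (nat_lit 7846656) (BT.node (nat_lit 7846592) (BT.leaf (nat_lit 23974417)) (BT.leaf (nat_lit 27757597))) (BT.node (nat_lit 7846720) (BT.leaf (nat_lit 48440329)) (BT.leaf (nat_lit 36259613)))) (BT.node (nat_lit 7846912) (BT.node (nat_lit 7846848) (BT.leaf (nat_lit 34773781)) (BT.leaf (nat_lit 31762713))) (BT.node (nat_lit 7846976) (BT.leaf (nat_lit 48667669)) (BT.leaf (nat_lit 40255493))))) (BT.node (nat_lit 7847296) (BT.node (nat_lit 7847168) (BT.node (nat_lit 7847104) (BT.leaf (nat_lit 33237281)) (BT.leaf (nat_lit 29920537))) (BT.node (nat_lit 7847232) (BT.leaf (nat_lit 41967877)) (BT.leaf (nat_lit 32292889)))) (BT.node (nat_lit 7847424) (BT.node (nat_lit 7847360) (BT.leaf (nat_lit 34756373)) (BT.leaf (nat_lit 34809121))) (BT.node (nat_lit 7847488) (BT.leaf (nat_lit 35274529)) (BT.leaf (nat_lit 30397965))))))) (BT.node (nat_lit 7848576) (BT.node (nat_lit 7848064) (BT.node (nat_lit 7847808) (BT.node (nat_lit 7847680) (BT.node (nat_lit 7847616) (BT.leaf (nat_lit 30117141)) (BT.leaf (nat_lit 30031137))) (BT.node (nat_lit 7847744) (BT.leaf (nat_lit 36311585)) (BT.leaf (nat_lit 38456069)))) (BT.node (nat_lit 7847936) (BT.node (nat_lit 7847872) (BT.leaf (nat_lit 48668173)) (BT.leaf (nat_lit 36101397))) (BT.node (nat_lit 7848000) (BT.leaf (nat_lit 31390741)) (BT.leaf (nat_lit 31389197))))) (BT.node (nat_lit 7848320) (BT.node (nat_lit 7848192) (BT.node (nat_lit 7848128) (BT.leaf (nat_lit 47208481)) (BT.leaf (nat_lit 28407833))) (BT.node (nat_lit 7848256) (BT.leaf (nat_lit 28407837)) (BT.leaf (nat_lit 22476305)))) (BT.node (nat_lit 7848448) (BT.node (nat_lit 7848384) (BT.leaf (nat_lit 23976465)) (BT.leaf (nat_lit 48669189))) (BT.node (nat_lit 7848512) (BT.leaf (nat_lit 48669961)) (BT.leaf (nat_lit 27856417)))))) (BT.node (nat_lit 7849088) (BT.node (nat_lit 7848832) (BT.node (nat_lit 7848704) (BT.node (nat_lit 7848640) (BT.leaf (nat_lit 38674437)) (BT.leaf (nat_lit 35434257))) (BT.node (nat_lit 7848768) (BT.leaf (nat_lit 46451989)) (BT.leaf (nat_lit 30186257)))) (BT.node (nat_lit 7848960) (BT.node (nat_lit 7848896) (BT.leaf (nat_lit 29130261)) (BT.leaf (nat_lit 32048653))) (BT.node (nat_lit 7849024) (BT.leaf (nat_lit 27869473)) (BT.leaf (nat_lit 48672277))))) (BT.node (nat_lit 7849344) (BT.node (nat_lit 7849216) (BT.node (nat_lit 7849152) (BT.leaf (nat_lit 50989597)) (BT.leaf (nat_lit 24425233))) (BT.node (nat_lit 7849280) (BT.leaf (nat_lit 48672785)) (BT.leaf (nat_lit 42461201)))) (BT.node (nat_lit 7849472) (BT.node (nat_lit 7849408) (BT.leaf (nat_lit 48673561)) (BT.leaf (nat_lit 47695897))) (BT.node (nat_lit 7849536) (BT.leaf (nat_lit 22484761)) (BT.leaf (nat_lit 23979289))))))))) (BT.node (nat_lit 7853696) (BT.node (nat_lit 7851648) (BT.node (nat_lit 7850624) (BT.node (nat_lit 7850112) (BT.node (nat_lit 7849856) (BT.node (nat_lit 7849728) (BT.node (nat_lit 7849664) (BT.leaf (nat_lit 23980057)) (BT.leaf (nat_lit 24791313))) (BT.node (nat_lit 7849792) (BT.leaf (nat_lit 48674073)) (BT.leaf (nat_lit 23980813)))) (BT.node (nat_lit 7849984) (BT.node (nat_lit 7849920) (BT.leaf (nat_lit 23980809)) (BT.leaf (nat_lit 34621973))) (BT.node (nat_lit 7850048) (BT.leaf (nat_lit 47656977)) (BT.leaf (nat_lit 23982365))))) (BT.node (nat_lit 7850368) (BT.node (nat_lit 7850240) (BT.node (nat_lit 7850176) (BT.leaf (nat_lit 36718601)) (BT.leaf (nat_lit 38605857))) (BT.node (nat_lit 7850304) (BT.leaf (nat_lit 28192277)) (BT.leaf (nat_lit 23981329)))) (BT.node (nat_lit 7850496) (BT.node (nat_lit 7850432) (BT.leaf (nat_lit 36718613)) (BT.leaf (nat_lit 36718617))) (BT.node (nat_lit 7850560) (BT.leaf (nat_lit 36718621)) (BT.leaf (nat_lit 23982097)))))) (BT.node (nat_lit 7851136) (BT.node (nat_lit 7850880) (BT.node (nat_lit 7850752) (BT.node (nat_lit 7850688) (BT.leaf (nat_lit 30031897)) (BT.leaf (nat_lit 30031901))) (BT.node (nat_lit 7850816) (BT.leaf (nat_lit 30031905)) (BT.leaf (nat_lit 39788561)))) (BT.node (nat_lit 7851008) (BT.node (nat_lit 7850944) (BT.leaf (nat_lit 28599573)) (BT.leaf (nat_lit 31548677))) (BT.node (nat_lit 7851072) (BT.leaf (nat_lit 30034453)) (BT.leaf (nat_lit 23983377))))) (BT.node (nat_lit 7851392) (BT.node (nat_lit 7851264) (BT.node (nat_lit 7851200) (BT.leaf (nat_lit 23982865)) (BT.leaf (nat_lit 23982609))) (BT.node (nat_lit 7851328) (BT.leaf (nat_lit 39344925)) (BT.leaf (nat_lit 23983641)))) (BT.node (nat_lit 7851520) (BT.node (nat_lit 7851456) (BT.leaf (nat_lit 41460501)) (BT.leaf (nat_lit 23983645))) (BT.node (nat_lit 7851584) (BT.leaf (nat_lit 33724933)) (BT.leaf (nat_lit 48677653))))))) (BT.node (nat_lit 7852672) (BT.node (nat_lit 7852160) (BT.node (nat_lit 7851904) (BT.node (nat_lit 7851776) (BT.node (nat_lit 7851712) (BT.leaf (nat_lit 38175761)) (BT.leaf (nat_lit 23538193))) (BT.node (nat_lit 7851840) (BT.leaf (nat_lit 31712789)) (BT.leaf (nat_lit 40781597)))) (BT.node (nat_lit 7852032) (BT.node (nat_lit 7851968) (BT.leaf (nat_lit 31199253)) (BT.leaf (nat_lit 46402589))) (BT.node (nat_lit 7852096) (BT.leaf (nat_lit 42985733)) (BT.leaf (nat_lit 39199773))))) (BT.node (nat_lit 7852416) (BT.node (nat_lit 7852288) (BT.node (nat_lit 7852224) (BT.leaf (nat_lit 24705821)) (BT.leaf (nat_lit 48680985))) (BT.node (nat_lit 7852352) (BT.leaf (nat_lit 39062045)) (BT.leaf (nat_lit 48405269)))) (BT.node (nat_lit 7852544) (BT.node (nat_lit 7852480) (BT.leaf (nat_lit 39344649)) (BT.leaf (nat_lit 38499085))) (BT.node (nat_lit 7852608) (BT.leaf (nat_lit 32807941)) (BT.leaf (nat_lit 40676385)))))) (BT.node (nat_lit 7853184) (BT.node (nat_lit 7852928) (BT.node (nat_lit 7852800) (BT.node (nat_lit 7852736) (BT.leaf (nat_lit 27429405)) (BT.leaf (nat_lit 30469141))) (BT.node (nat_lit 7852864) (BT.leaf (nat_lit 23988749)) (BT.leaf (nat_lit 37514769)))) (BT.node (nat_lit 7853056) (BT.node (nat_lit 7852992) (BT.leaf (nat_lit 23988745)) (BT.leaf (nat_lit 41183749))) (BT.node (nat_lit 7853120) (BT.leaf (nat_lit 36889105)) (BT.leaf (nat_lit 36892937))))) (BT.node (nat_lit 7853440) (BT.node (nat_lit 7853312) (BT.node (nat_lit 7853248) (BT.leaf (nat_lit 24837653)) (BT.leaf (nat_lit 24843789))) (BT.node (nat_lit 7853376) (BT.leaf (nat_lit 29624081)) (BT.leaf (nat_lit 29624097)))) (BT.node (nat_lit 7853568) (BT.node (nat_lit 7853504) (BT.leaf (nat_lit 29820181)) (BT.leaf (nat_lit 28854797))) (BT.node (nat_lit 7853632) (BT.leaf (nat_lit 24837405)) (BT.leaf (nat_lit 28455685)))))))) (BT.node (nat_lit 7855744) (BT.node (nat_lit 7854720) (BT.node (nat_lit 7854208) (BT.node (nat_lit 7853952) (BT.node (nat_lit 7853824) (BT.node (nat_lit 7853760) (BT.leaf (nat_lit 39568901)) (BT.leaf (nat_lit 32566793))) (BT.node (nat_lit 7853888) (BT.leaf (nat_lit 48292877)) (BT.leaf (nat_lit 30452997)))) (BT.node (nat_lit 7854080) (BT.node (nat_lit 7854016) (BT.leaf (nat_lit 24492817)) (BT.leaf (nat_lit 31222301))) (BT.node (nat_lit 7854144) (BT.leaf (nat_lit 32304921)) (BT.leaf (nat_lit 30359577))))) (BT.node (nat_lit 7854464) (BT.node (nat_lit 7854336) (BT.node (nat_lit 7854272) (BT.leaf (nat_lit 38403845)) (BT.leaf (nat_lit 39346209))) (BT.node (nat_lit 7854400) (BT.leaf (nat_lit 23991821)) (BT.leaf (nat_lit 31222289)))) (BT.node (nat_lit 7854592) (BT.node (nat_lit 7854528) (BT.leaf (nat_lit 42472197)) (BT.leaf (nat_lit 23992085))) (BT.node (nat_lit 7854656) (BT.leaf (nat_lit 32139541)) (BT.leaf (nat_lit 29280777)))))) (BT.node (nat_lit 7855232) (BT.node (nat_lit 7854976) (BT.node (nat_lit 7854848) (BT.node (nat_lit 7854784) (BT.leaf (nat_lit 33727253)) (BT.leaf (nat_lit 23993105))) (BT.node (nat_lit 7854912) (BT.leaf (nat_lit 23223569)) (BT.leaf (nat_lit 23992849)))) (BT.node (nat_lit 7855104) (BT.node (nat_lit 7855040) (BT.leaf (nat_lit 29701401)) (BT.leaf (nat_lit 29701405))) (BT.node (nat_lit 7855168) (BT.leaf (nat_lit 23993873)) (BT.leaf (nat_lit 23993617))))) (BT.node (nat_lit 7855488) (BT.node (nat_lit 7855360) (BT.node (nat_lit 7855296) (BT.leaf (nat_lit 23988241)) (BT.leaf (nat_lit 28459029))) (BT.node (nat_lit 7855424) (BT.leaf (nat_lit 37823777)) (BT.leaf (nat_lit 37071385)))) (BT.node (nat_lit 7855616) (BT.node (nat_lit 7855552) (BT.leaf (nat_lit 23993361)) (BT.leaf (nat_lit 31343125))) (BT.node (nat_lit 7855680) (BT.leaf (nat_lit 42043397)) (BT.leaf (nat_lit 23987729))))))) (BT.node (nat_lit 7856768) (BT.node (nat_lit 7856256) (BT.node (nat_lit 7856000) (BT.node (nat_lit 7855872) (BT.node (nat_lit 7855808) (BT.leaf (nat_lit 23994129)) (BT.leaf (nat_lit 45146657))) (BT.node (nat_lit 7855936) (BT.leaf (nat_lit 23995153)) (BT.leaf (nat_lit 47166213)))) (BT.node (nat_lit 7856128) (BT.node (nat_lit 7856064) (BT.leaf (nat_lit 41779981)) (BT.leaf (nat_lit 33745425))) (BT.node (nat_lit 7856192) (BT.leaf (nat_lit 29406241)) (BT.leaf (nat_lit 24468505))))) (BT.node (nat_lit 7856512) (BT.node (nat_lit 7856384) (BT.node (nat_lit 7856320) (BT.leaf (nat_lit 47880221)) (BT.leaf (nat_lit 47880205))) (BT.node (nat_lit 7856448) (BT.leaf (nat_lit 32234245)) (BT.leaf (nat_lit 44120597)))) (BT.node (nat_lit 7856640) (BT.node (nat_lit 7856576) (BT.leaf (nat_lit 27667225)) (BT.leaf (nat_lit 31336965))) (BT.node (nat_lit 7856704) (BT.leaf (nat_lit 48632857)) (BT.leaf (nat_lit 48632865)))))) (BT.node (nat_lit 7857280) (BT.node (nat_lit 7857024) (BT.node (nat_lit 7856896) (BT.node (nat_lit 7856832) (BT.leaf (nat_lit 40781589)) (BT.leaf (nat_lit 33435909))) (BT.node (nat_lit 7856960) (BT.leaf (nat_lit 24826645)) (BT.leaf (nat_lit 31427597)))) (BT.node (nat_lit 7857152) (BT.node (nat_lit 7857088) (BT.leaf (nat_lit 24034073)) (BT.leaf (nat_lit 28967697))) (BT.node (nat_lit 7857216) (BT.leaf (nat_lit 23997725)) (BT.leaf (nat_lit 27157777))))) (BT.node (nat_lit 7857536) (BT.node (nat_lit 7857408) (BT.node (nat_lit 7857344) (BT.leaf (nat_lit 27156253)) (BT.leaf (nat_lit 28965393))) (BT.node (nat_lit 7857472) (BT.leaf (nat_lit 48695305)) (BT.leaf (nat_lit 28965653)))) (BT.node (nat_lit 7857664) (BT.node (nat_lit 7857600) (BT.leaf (nat_lit 28965657)) (BT.leaf (nat_lit 28965661))) (BT.node (nat_lit 7857728) (BT.leaf (nat_lit 24843785)) (BT.leaf (nat_lit 27587613)))))))))))))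
noncomputable def big0_e55296 : BT Nat := (BT.node (nat_lit 7923264) (BT.node (nat_lit 7890560) (BT.node (nat_lit 7874176) (BT.node (nat_lit 7865984) (BT.node (nat_lit 7861888) (BT.node (nat_lit 7859840) (BT.node (nat_lit 7858816) (BT.node (nat_lit 7858304) (BT.node (nat_lit 7858048) (BT.node (nat_lit 7857920) (BT.node (nat_lit 7857856) (BT.leaf (nat_lit 40390405)) (BT.leaf (nat_lit 48696341))) (BT.node (nat_lit 7857984) (BT.leaf (nat_lit 47300385)) (BT.leaf (nat_lit 23999505)))) (BT.node (nat_lit 7858176) (BT.node (nat_lit 7858112) (BT.leaf (nat_lit 48696585)) (BT.leaf (nat_lit 23370257))) (BT.node (nat_lit 7858240) (BT.leaf (nat_lit 48697365)) (BT.leaf (nat_lit 48641825))))) (BT.node (nat_lit 7858560) (BT.node (nat_lit 7858432) (BT.node (nat_lit 7858368) (BT.leaf (nat_lit 48697877)) (BT.leaf (nat_lit 31578653))) (BT.node (nat_lit 7858496) (BT.leaf (nat_lit 32566809)) (BT.leaf (nat_lit 32840481)))) (BT.node (nat_lit 7858688) (BT.node (nat_lit 7858624) (BT.leaf (nat_lit 29604633)) (BT.leaf (nat_lit 29604637))) (BT.node (nat_lit 7858752) (BT.leaf (nat_lit 42360353)) (BT.leaf (nat_lit 24001301)))))) (BT.node (nat_lit 7859328) (BT.node (nat_lit 7859072) (BT.node (nat_lit 7858944) (BT.node (nat_lit 7858880) (BT.leaf (nat_lit 31498501)) (BT.leaf (nat_lit 30509345))) (BT.node (nat_lit 7859008) (BT.leaf (nat_lit 47737629)) (BT.leaf (nat_lit 47743261)))) (BT.node (nat_lit 7859200) (BT.node (nat_lit 7859136) (BT.leaf (nat_lit 47737613)) (BT.leaf (nat_lit 48700437))) (BT.node (nat_lit 7859264) (BT.leaf (nat_lit 49825801)) (BT.leaf (nat_lit 34609945))))) (BT.node (nat_lit 7859584) (BT.node (nat_lit 7859456) (BT.node (nat_lit 7859392) (BT.leaf (nat_lit 24003857)) (BT.leaf (nat_lit 28202761))) (BT.node (nat_lit 7859520) (BT.leaf (nat_lit 50902293)) (BT.leaf (nat_lit 24004637)))) (BT.node (nat_lit 7859712) (BT.node (nat_lit 7859648) (BT.leaf (nat_lit 47398689)) (BT.leaf (nat_lit 35349533))) (BT.node (nat_lit 7859776) (BT.leaf (nat_lit 29094917)) (BT.leaf (nat_lit 48703253))))))) (BT.node (nat_lit 7860864) (BT.node (nat_lit 7860352) (BT.node (nat_lit 7860096) (BT.node (nat_lit 7859968) (BT.node (nat_lit 7859904) (BT.leaf (nat_lit 28972045)) (BT.leaf (nat_lit 46899217))) (BT.node (nat_lit 7860032) (BT.leaf (nat_lit 36293909)) (BT.leaf (nat_lit 28972061)))) (BT.node (nat_lit 7860224) (BT.node (nat_lit 7860160) (BT.leaf (nat_lit 34183969)) (BT.leaf (nat_lit 28531469))) (BT.node (nat_lit 7860288) (BT.leaf (nat_lit 30567177)) (BT.leaf (nat_lit 24006669))))) (BT.node (nat_lit 7860608) (BT.node (nat_lit 7860480) (BT.node (nat_lit 7860416) (BT.leaf (nat_lit 24006665)) (BT.leaf (nat_lit 43941397))) (BT.node (nat_lit 7860544) (BT.leaf (nat_lit 27939349)) (BT.leaf (nat_lit 27927057)))) (BT.node (nat_lit 7860736) (BT.node (nat_lit 7860672) (BT.leaf (nat_lit 31442201)) (BT.leaf (nat_lit 35199521))) (BT.node (nat_lit 7860800) (BT.leaf (nat_lit 28477217)) (BT.leaf (nat_lit 30282517)))))) (BT.node (nat_lit 7861376) (BT.node (nat_lit 7861120) (BT.node (nat_lit 7860992) (BT.node (nat_lit 7860928) (BT.leaf (nat_lit 31443741)) (BT.leaf (nat_lit 28859409))) (BT.node (nat_lit 7861056) (BT.leaf (nat_lit 28038933)) (BT.leaf (nat_lit 48706833)))) (BT.node (nat_lit 7861248) (BT.node (nat_lit 7861184) (BT.leaf (nat_lit 24537109)) (BT.leaf (nat_lit 32535841))) (BT.node (nat_lit 7861312) (BT.leaf (nat_lit 28038429)) (BT.leaf (nat_lit 31448853))))) (BT.node (nat_lit 7861632) (BT.node (nat_lit 7861504) (BT.node (nat_lit 7861440) (BT.leaf (nat_lit 28915489)) (BT.leaf (nat_lit 27468313))) (BT.node (nat_lit 7861568) (BT.leaf (nat_lit 27938069)) (BT.leaf (nat_lit 27943701)))) (BT.node (nat_lit 7861760) (BT.node (nat_lit 7861696) (BT.leaf (nat_lit 24007185)) (BT.leaf (nat_lit 24354317))) (BT.node (nat_lit 7861824) (BT.leaf (nat_lit 24354329)) (BT.leaf (nat_lit 29559813)))))))) (BT.node (nat_lit 7863936) (BT.node (nat_lit 7862912) (BT.node (nat_lit 7862400) (BT.node (nat_lit 7862144) (BT.node (nat_lit 7862016) (BT.node (nat_lit 7861952) (BT.leaf (nat_lit 48387873)) (BT.leaf (nat_lit 36260869))) (BT.node (nat_lit 7862080) (BT.leaf (nat_lit 43643397)) (BT.leaf (nat_lit 40255521)))) (BT.node (nat_lit 7862272) (BT.node (nat_lit 7862208) (BT.leaf (nat_lit 48247073)) (BT.leaf (nat_lit 28520737))) (BT.node (nat_lit 7862336) (BT.leaf (nat_lit 29857561)) (BT.leaf (nat_lit 27508513))))) (BT.node (nat_lit 7862656) (BT.node (nat_lit 7862528) (BT.node (nat_lit 7862464) (BT.leaf (nat_lit 41278993)) (BT.leaf (nat_lit 44261893))) (BT.node (nat_lit 7862592) (BT.leaf (nat_lit 44983813)) (BT.leaf (nat_lit 24418077)))) (BT.node (nat_lit 7862784) (BT.node (nat_lit 7862720) (BT.leaf (nat_lit 32198149)) (BT.leaf (nat_lit 47831813))) (BT.node (nat_lit 7862848) (BT.leaf (nat_lit 35432721)) (BT.leaf (nat_lit 32964365)))))) (BT.node (nat_lit 7863424) (BT.node (nat_lit 7863168) (BT.node (nat_lit 7863040) (BT.node (nat_lit 7862976) (BT.leaf (nat_lit 34613529)) (BT.leaf (nat_lit 38079765))) (BT.node (nat_lit 7863104) (BT.leaf (nat_lit 35444241)) (BT.leaf (nat_lit 28386581)))) (BT.node (nat_lit 7863296) (BT.node (nat_lit 7863232) (BT.leaf (nat_lit 28386585)) (BT.leaf (nat_lit 28386589))) (BT.node (nat_lit 7863360) (BT.leaf (nat_lit 28352017)) (BT.leaf (nat_lit 48706585))))) (BT.node (nat_lit 7863680) (BT.node (nat_lit 7863552) (BT.node (nat_lit 7863488) (BT.leaf (nat_lit 48705557)) (BT.leaf (nat_lit 32889353))) (BT.node (nat_lit 7863616) (BT.leaf (nat_lit 48706573)) (BT.leaf (nat_lit 31765793)))) (BT.node (nat_lit 7863808) (BT.node (nat_lit 7863744) (BT.leaf (nat_lit 30055957)) (BT.leaf (nat_lit 28353041))) (BT.node (nat_lit 7863872) (BT.leaf (nat_lit 36132873)) (BT.leaf (nat_lit 37199377))))))) (BT.node (nat_lit 7864960) (BT.node (nat_lit 7864448) (BT.node (nat_lit 7864192) (BT.node (nat_lit 7864064) (BT.node (nat_lit 7864000) (BT.leaf (nat_lit 40257309)) (BT.leaf (nat_lit 28559121))) (BT.node (nat_lit 7864128) (BT.leaf (nat_lit 46963469)) (BT.leaf (nat_lit 35833877)))) (BT.node (nat_lit 7864320) (BT.node (nat_lit 7864256) (BT.leaf (nat_lit 27968777)) (BT.leaf (nat_lit 32314389))) (BT.node (nat_lit 7864384) (BT.leaf (nat_lit 46958853)) (BT.leaf (nat_lit 26055693))))) (BT.node (nat_lit 7864704) (BT.node (nat_lit 7864576) (BT.node (nat_lit 7864512) (BT.leaf (nat_lit 24811281)) (BT.leaf (nat_lit 35357713))) (BT.node (nat_lit 7864640) (BT.leaf (nat_lit 27968793)) (BT.leaf (nat_lit 27968797)))) (BT.node (nat_lit 7864832) (BT.node (nat_lit 7864768) (BT.leaf (nat_lit 24985625)) (BT.leaf (nat_lit 29283601))) (BT.node (nat_lit 7864896) (BT.leaf (nat_lit 29283605)) (BT.leaf (nat_lit 25530909)))))) (BT.node (nat_lit 7865472) (BT.node (nat_lit 7865216) (BT.node (nat_lit 7865088) (BT.node (nat_lit 7865024) (BT.leaf (nat_lit 32313629)) (BT.leaf (nat_lit 35833873))) (BT.node (nat_lit 7865152) (BT.leaf (nat_lit 30636065)) (BT.leaf (nat_lit 30325785)))) (BT.node (nat_lit 7865344) (BT.node (nat_lit 7865280) (BT.leaf (nat_lit 48714001)) (BT.leaf (nat_lit 31489809))) (BT.node (nat_lit 7865408) (BT.leaf (nat_lit 48714525)) (BT.leaf (nat_lit 24015377))))) (BT.node (nat_lit 7865728) (BT.node (nat_lit 7865600) (BT.node (nat_lit 7865536) (BT.leaf (nat_lit 24254485)) (BT.leaf (nat_lit 48714757))) (BT.node (nat_lit 7865664) (BT.leaf (nat_lit 24254493)) (BT.leaf (nat_lit 39683105)))) (BT.node (nat_lit 7865856) (BT.node (nat_lit 7865792) (BT.leaf (nat_lit 48715805)) (BT.leaf (nat_lit 48716565))) (BT.node (nat_lit 7865920) (BT.leaf (nat_lit 35144205)) (BT.leaf (nat_lit 28636933))))))))) (BT.node (nat_lit 7870080) (BT.node (nat_lit 7868032) (BT.node (nat_lit 7867008) (BT.node (nat_lit 7866496) (BT.node (nat_lit 7866240) (BT.node (nat_lit 7866112) (BT.node (nat_lit 7866048) (BT.leaf (nat_lit 27871521)) (BT.leaf (nat_lit 40633889))) (BT.node (nat_lit 7866176) (BT.leaf (nat_lit 43950085)) (BT.leaf (nat_lit 41027345)))) (BT.node (nat_lit 7866368) (BT.node (nat_lit 7866304) (BT.leaf (nat_lit 39011345)) (BT.leaf (nat_lit 48717593))) (BT.node (nat_lit 7866432) (BT.leaf (nat_lit 22928913)) (BT.leaf (nat_lit 23225617))))) (BT.node (nat_lit 7866752) (BT.node (nat_lit 7866624) (BT.node (nat_lit 7866560) (BT.leaf (nat_lit 24016401)) (BT.leaf (nat_lit 43951393))) (BT.node (nat_lit 7866688) (BT.leaf (nat_lit 32931853)) (BT.leaf (nat_lit 34589957)))) (BT.node (nat_lit 7866880) (BT.node (nat_lit 7866816) (BT.leaf (nat_lit 48602377)) (BT.leaf (nat_lit 49977869))) (BT.node (nat_lit 7866944) (BT.leaf (nat_lit 48721173)) (BT.leaf (nat_lit 24019481)))))) (BT.node (nat_lit 7867520) (BT.node (nat_lit 7867264) (BT.node (nat_lit 7867136) (BT.node (nat_lit 7867072) (BT.leaf (nat_lit 29988117)) (BT.leaf (nat_lit 48722705))) (BT.node (nat_lit 7867200) (BT.leaf (nat_lit 24019485)) (BT.leaf (nat_lit 29356821)))) (BT.node (nat_lit 7867392) (BT.node (nat_lit 7867328) (BT.leaf (nat_lit 29786633)) (BT.leaf (nat_lit 24019977))) (BT.node (nat_lit 7867456) (BT.leaf (nat_lit 24019981)) (BT.leaf (nat_lit 24019997))))) (BT.node (nat_lit 7867776) (BT.node (nat_lit 7867648) (BT.node (nat_lit 7867584) (BT.leaf (nat_lit 24019993)) (BT.leaf (nat_lit 42954773))) (BT.node (nat_lit 7867712) (BT.leaf (nat_lit 42954777)) (BT.leaf (nat_lit 24021525)))) (BT.node (nat_lit 7867904) (BT.node (nat_lit 7867840) (BT.leaf (nat_lit 30318877)) (BT.leaf (nat_lit 36579349))) (BT.node (nat_lit 7867968) (BT.leaf (nat_lit 26160917)) (BT.leaf (nat_lit 24021777))))))) (BT.node (nat_lit 7869056) (BT.node (nat_lit 7868544) (BT.node (nat_lit 7868288) (BT.node (nat_lit 7868160) (BT.node (nat_lit 7868096) (BT.leaf (nat_lit 48725265)) (BT.leaf (nat_lit 24022033))) (BT.node (nat_lit 7868224) (BT.leaf (nat_lit 36085781)) (BT.leaf (nat_lit 38478625)))) (BT.node (nat_lit 7868416) (BT.node (nat_lit 7868352) (BT.leaf (nat_lit 31608349)) (BT.leaf (nat_lit 39549205))) (BT.node (nat_lit 7868480) (BT.leaf (nat_lit 26968853)) (BT.leaf (nat_lit 24022545))))) (BT.node (nat_lit 7868800) (BT.node (nat_lit 7868672) (BT.node (nat_lit 7868608) (BT.leaf (nat_lit 24022289)) (BT.leaf (nat_lit 33470237))) (BT.node (nat_lit 7868736) (BT.leaf (nat_lit 24023573)) (BT.leaf (nat_lit 48727317)))) (BT.node (nat_lit 7868928) (BT.node (nat_lit 7868864) (BT.leaf (nat_lit 24023569)) (BT.leaf (nat_lit 24023057))) (BT.node (nat_lit 7868992) (BT.leaf (nat_lit 43024153)) (BT.leaf (nat_lit 43024157)))))) (BT.node (nat_lit 7869568) (BT.node (nat_lit 7869312) (BT.node (nat_lit 7869184) (BT.node (nat_lit 7869120) (BT.leaf (nat_lit 31555845)) (BT.leaf (nat_lit 28641305))) (BT.node (nat_lit 7869248) (BT.leaf (nat_lit 28641309)) (BT.leaf (nat_lit 39013137)))) (BT.node (nat_lit 7869440) (BT.node (nat_lit 7869376) (BT.leaf (nat_lit 34199329)) (BT.leaf (nat_lit 46668297))) (BT.node (nat_lit 7869504) (BT.leaf (nat_lit 48730645)) (BT.leaf (nat_lit 30048021))))) (BT.node (nat_lit 7869824) (BT.node (nat_lit 7869696) (BT.node (nat_lit 7869632) (BT.leaf (nat_lit 30048025)) (BT.leaf (nat_lit 46710801))) (BT.node (nat_lit 7869760) (BT.leaf (nat_lit 35313681)) (BT.leaf (nat_lit 31406345)))) (BT.node (nat_lit 7869952) (BT.node (nat_lit 7869888) (BT.leaf (nat_lit 34442005)) (BT.leaf (nat_lit 48731669))) (BT.node (nat_lit 7870016) (BT.leaf (nat_lit 43984669)) (BT.leaf (nat_lit 24027913)))))))) (BT.node (nat_lit 7872128) (BT.node (nat_lit 7871104) (BT.node (nat_lit 7870592) (BT.node (nat_lit 7870336) (BT.node (nat_lit 7870208) (BT.node (nat_lit 7870144) (BT.leaf (nat_lit 47079957)) (BT.leaf (nat_lit 31581461))) (BT.node (nat_lit 7870272) (BT.leaf (nat_lit 31581713)) (BT.leaf (nat_lit 36214805)))) (BT.node (nat_lit 7870464) (BT.node (nat_lit 7870400) (BT.leaf (nat_lit 30758673)) (BT.leaf (nat_lit 33717521))) (BT.node (nat_lit 7870528) (BT.leaf (nat_lit 47073053)) (BT.leaf (nat_lit 25996813))))) (BT.node (nat_lit 7870848) (BT.node (nat_lit 7870720) (BT.node (nat_lit 7870656) (BT.leaf (nat_lit 25996825)) (BT.leaf (nat_lit 39160865))) (BT.node (nat_lit 7870784) (BT.leaf (nat_lit 48733981)) (BT.leaf (nat_lit 48031253)))) (BT.node (nat_lit 7870976) (BT.node (nat_lit 7870912) (BT.leaf (nat_lit 24881933)) (BT.leaf (nat_lit 24028689))) (BT.node (nat_lit 7871040) (BT.leaf (nat_lit 28350481)) (BT.leaf (nat_lit 27460125)))))) (BT.node (nat_lit 7871616) (BT.node (nat_lit 7871360) (BT.node (nat_lit 7871232) (BT.node (nat_lit 7871168) (BT.leaf (nat_lit 24029709)) (BT.leaf (nat_lit 27601185))) (BT.node (nat_lit 7871296) (BT.leaf (nat_lit 24030993)) (BT.leaf (nat_lit 23230737)))) (BT.node (nat_lit 7871488) (BT.node (nat_lit 7871424) (BT.leaf (nat_lit 24030737)) (BT.leaf (nat_lit 24030481))) (BT.node (nat_lit 7871552) (BT.leaf (nat_lit 39186953)) (BT.leaf (nat_lit 24031761))))) (BT.node (nat_lit 7871872) (BT.node (nat_lit 7871744) (BT.node (nat_lit 7871680) (BT.leaf (nat_lit 24031505)) (BT.leaf (nat_lit 24027409))) (BT.node (nat_lit 7871808) (BT.leaf (nat_lit 24031249)) (BT.leaf (nat_lit 24032017)))) (BT.node (nat_lit 7872000) (BT.node (nat_lit 7871936) (BT.leaf (nat_lit 36898073)) (BT.leaf (nat_lit 48737817))) (BT.node (nat_lit 7872064) (BT.leaf (nat_lit 29651729)) (BT.leaf (nat_lit 48737549))))))) (BT.node (nat_lit 7873152) (BT.node (nat_lit 7872640) (BT.node (nat_lit 7872384) (BT.node (nat_lit 7872256) (BT.node (nat_lit 7872192) (BT.leaf (nat_lit 36898061)) (BT.leaf (nat_lit 48738333))) (BT.node (nat_lit 7872320) (BT.leaf (nat_lit 32237589)) (BT.leaf (nat_lit 48738821)))) (BT.node (nat_lit 7872512) (BT.node (nat_lit 7872448) (BT.leaf (nat_lit 23670041)) (BT.leaf (nat_lit 38518813))) (BT.node (nat_lit 7872576) (BT.leaf (nat_lit 29174289)) (BT.leaf (nat_lit 31490073))))) (BT.node (nat_lit 7872896) (BT.node (nat_lit 7872768) (BT.node (nat_lit 7872704) (BT.leaf (nat_lit 24032517)) (BT.leaf (nat_lit 27451145))) (BT.node (nat_lit 7872832) (BT.leaf (nat_lit 46419741)) (BT.leaf (nat_lit 43245061)))) (BT.node (nat_lit 7873024) (BT.node (nat_lit 7872960) (BT.leaf (nat_lit 48739605)) (BT.leaf (nat_lit 48740125))) (BT.node (nat_lit 7873088) (BT.leaf (nat_lit 42427653)) (BT.leaf (nat_lit 38360609)))))) (BT.node (nat_lit 7873664) (BT.node (nat_lit 7873408) (BT.node (nat_lit 7873280) (BT.node (nat_lit 7873216) (BT.leaf (nat_lit 48740109)) (BT.leaf (nat_lit 39659293))) (BT.node (nat_lit 7873344) (BT.leaf (nat_lit 31406613)) (BT.leaf (nat_lit 31493129)))) (BT.node (nat_lit 7873536) (BT.node (nat_lit 7873472) (BT.leaf (nat_lit 38817825)) (BT.leaf (nat_lit 29173773))) (BT.node (nat_lit 7873600) (BT.leaf (nat_lit 30781205)) (BT.leaf (nat_lit 42190357))))) (BT.node (nat_lit 7873920) (BT.node (nat_lit 7873792) (BT.node (nat_lit 7873728) (BT.leaf (nat_lit 31042829)) (BT.leaf (nat_lit 31042825))) (BT.node (nat_lit 7873856) (BT.leaf (nat_lit 31042841)) (BT.leaf (nat_lit 48741645)))) (BT.node (nat_lit 7874048) (BT.node (nat_lit 7873984) (BT.leaf (nat_lit 24606225)) (BT.leaf (nat_lit 27460121))) (BT.node (nat_lit 7874112) (BT.leaf (nat_lit 28999189)) (BT.leaf (nat_lit 31483145)))))))))) (BT.node (nat_lit 7882368) (BT.node (nat_lit 7878272) (BT.node (nat_lit 7876224) (BT.node (nat_lit 7875200) (BT.node (nat_lit 7874688) (BT.node (nat_lit 7874432) (BT.node (nat_lit 7874304) (BT.node (nat_lit 7874240) (BT.leaf (nat_lit 48742165)) (BT.leaf (nat_lit 36232465))) (BT.node (nat_lit 7874368) (BT.leaf (nat_lit 39665953)) (BT.leaf (nat_lit 24881929)))) (BT.node (nat_lit 7874560) (BT.node (nat_lit 7874496) (BT.leaf (nat_lit 40626209)) (BT.leaf (nat_lit 48742673))) (BT.node (nat_lit 7874624) (BT.leaf (nat_lit 44233741)) (BT.leaf (nat_lit 48742945))))) (BT.node (nat_lit 7874944) (BT.node (nat_lit 7874816) (BT.node (nat_lit 7874752) (BT.leaf (nat_lit 43445525)) (BT.leaf (nat_lit 38583073))) (BT.node (nat_lit 7874880) (BT.leaf (nat_lit 38287393)) (BT.leaf (nat_lit 31496985)))) (BT.node (nat_lit 7875072) (BT.node (nat_lit 7875008) (BT.leaf (nat_lit 48743957)) (BT.leaf (nat_lit 48744465))) (BT.node (nat_lit 7875136) (BT.leaf (nat_lit 34902293)) (BT.leaf (nat_lit 48744725)))))) (BT.node (nat_lit 7875712) (BT.node (nat_lit 7875456) (BT.node (nat_lit 7875328) (BT.node (nat_lit 7875264) (BT.leaf (nat_lit 43456033)) (BT.leaf (nat_lit 33678865))) (BT.node (nat_lit 7875392) (BT.leaf (nat_lit 30391313)) (BT.leaf (nat_lit 28460049)))) (BT.node (nat_lit 7875584) (BT.node (nat_lit 7875520) (BT.leaf (nat_lit 37786385)) (BT.leaf (nat_lit 42314273))) (BT.node (nat_lit 7875648) (BT.leaf (nat_lit 42735381)) (BT.leaf (nat_lit 24662297))))) (BT.node (nat_lit 7875968) (BT.node (nat_lit 7875840) (BT.node (nat_lit 7875776) (BT.leaf (nat_lit 24662301)) (BT.leaf (nat_lit 40424197))) (BT.node (nat_lit 7875904) (BT.leaf (nat_lit 44239365)) (BT.leaf (nat_lit 48745993)))) (BT.node (nat_lit 7876096) (BT.node (nat_lit 7876032) (BT.leaf (nat_lit 34506253)) (BT.leaf (nat_lit 31235093))) (BT.node (nat_lit 7876160) (BT.leaf (nat_lit 27817733)) (BT.leaf (nat_lit 32283665))))))) (BT.node (nat_lit 7877248) (BT.node (nat_lit 7876736) (BT.node (nat_lit 7876480) (BT.node (nat_lit 7876352) (BT.node (nat_lit 7876288) (BT.leaf (nat_lit 24341777)) (BT.leaf (nat_lit 29132037))) (BT.node (nat_lit 7876416) (BT.leaf (nat_lit 34611461)) (BT.leaf (nat_lit 35677445)))) (BT.node (nat_lit 7876608) (BT.node (nat_lit 7876544) (BT.leaf (nat_lit 28464645)) (BT.leaf (nat_lit 48050197))) (BT.node (nat_lit 7876672) (BT.leaf (nat_lit 31506185)) (BT.leaf (nat_lit 50063905))))) (BT.node (nat_lit 7876992) (BT.node (nat_lit 7876864) (BT.node (nat_lit 7876800) (BT.leaf (nat_lit 50063649)) (BT.leaf (nat_lit 48702981))) (BT.node (nat_lit 7876928) (BT.leaf (nat_lit 48749577)) (BT.leaf (nat_lit 24144149)))) (BT.node (nat_lit 7877120) (BT.node (nat_lit 7877056) (BT.leaf (nat_lit 24243473)) (BT.leaf (nat_lit 48751109))) (BT.node (nat_lit 7877184) (BT.leaf (nat_lit 48330529)) (BT.leaf (nat_lit 23933713)))))) (BT.node (nat_lit 7877760) (BT.node (nat_lit 7877504) (BT.node (nat_lit 7877376) (BT.node (nat_lit 7877312) (BT.leaf (nat_lit 28250885)) (BT.leaf (nat_lit 22315025))) (BT.node (nat_lit 7877440) (BT.leaf (nat_lit 22495761)) (BT.leaf (nat_lit 29460757)))) (BT.node (nat_lit 7877632) (BT.node (nat_lit 7877568) (BT.leaf (nat_lit 28250905)) (BT.leaf (nat_lit 50408985))) (BT.node (nat_lit 7877696) (BT.leaf (nat_lit 24043025)) (BT.leaf (nat_lit 48747541))))) (BT.node (nat_lit 7878016) (BT.node (nat_lit 7877888) (BT.node (nat_lit 7877824) (BT.leaf (nat_lit 25853457)) (BT.leaf (nat_lit 29617693))) (BT.node (nat_lit 7877952) (BT.leaf (nat_lit 32753689)) (BT.leaf (nat_lit 31723809)))) (BT.node (nat_lit 7878144) (BT.node (nat_lit 7878080) (BT.leaf (nat_lit 29614357)) (BT.leaf (nat_lit 31524633))) (BT.node (nat_lit 7878208) (BT.leaf (nat_lit 33632025)) (BT.leaf (nat_lit 27648289)))))))) (BT.node (nat_lit 7880320) (BT.node (nat_lit 7879296) (BT.node (nat_lit 7878784) (BT.node (nat_lit 7878528) (BT.node (nat_lit 7878400) (BT.node (nat_lit 7878336) (BT.leaf (nat_lit 24043789)) (BT.leaf (nat_lit 34695713))) (BT.node (nat_lit 7878464) (BT.leaf (nat_lit 24043785)) (BT.leaf (nat_lit 36283665)))) (BT.node (nat_lit 7878656) (BT.node (nat_lit 7878592) (BT.leaf (nat_lit 23546141)) (BT.leaf (nat_lit 30826761))) (BT.node (nat_lit 7878720) (BT.leaf (nat_lit 23546137)) (BT.leaf (nat_lit 31584797))))) (BT.node (nat_lit 7879040) (BT.node (nat_lit 7878912) (BT.node (nat_lit 7878848) (BT.leaf (nat_lit 48756245)) (BT.leaf (nat_lit 40645137))) (BT.node (nat_lit 7878976) (BT.leaf (nat_lit 28059157)) (BT.leaf (nat_lit 31516189)))) (BT.node (nat_lit 7879168) (BT.node (nat_lit 7879104) (BT.leaf (nat_lit 46960645)) (BT.leaf (nat_lit 35104801))) (BT.node (nat_lit 7879232) (BT.leaf (nat_lit 34542625)) (BT.leaf (nat_lit 46365213)))))) (BT.node (nat_lit 7879808) (BT.node (nat_lit 7879552) (BT.node (nat_lit 7879424) (BT.node (nat_lit 7879360) (BT.leaf (nat_lit 32964377)) (BT.leaf (nat_lit 46365193))) (BT.node (nat_lit 7879488) (BT.leaf (nat_lit 31524637)) (BT.leaf (nat_lit 31515145)))) (BT.node (nat_lit 7879680) (BT.node (nat_lit 7879616) (BT.leaf (nat_lit 42773025)) (BT.leaf (nat_lit 28489237))) (BT.node (nat_lit 7879744) (BT.leaf (nat_lit 42774305)) (BT.leaf (nat_lit 31513373))))) (BT.node (nat_lit 7880064) (BT.node (nat_lit 7879936) (BT.node (nat_lit 7879872) (BT.leaf (nat_lit 38398725)) (BT.leaf (nat_lit 35376413))) (BT.node (nat_lit 7880000) (BT.leaf (nat_lit 40254753)) (BT.leaf (nat_lit 23213337)))) (BT.node (nat_lit 7880192) (BT.node (nat_lit 7880128) (BT.leaf (nat_lit 46769429)) (BT.leaf (nat_lit 44254489))) (BT.node (nat_lit 7880256) (BT.leaf (nat_lit 41145369)) (BT.leaf (nat_lit 40501017))))))) (BT.node (nat_lit 7881344) (BT.node (nat_lit 7880832) (BT.node (nat_lit 7880576) (BT.node (nat_lit 7880448) (BT.node (nat_lit 7880384) (BT.leaf (nat_lit 32973853)) (BT.leaf (nat_lit 28654097))) (BT.node (nat_lit 7880512) (BT.leaf (nat_lit 32973833)) (BT.leaf (nat_lit 40501005)))) (BT.node (nat_lit 7880704) (BT.node (nat_lit 7880640) (BT.leaf (nat_lit 28654113)) (BT.leaf (nat_lit 50943497))) (BT.node (nat_lit 7880768) (BT.leaf (nat_lit 28655381)) (BT.leaf (nat_lit 29107477))))) (BT.node (nat_lit 7881088) (BT.node (nat_lit 7880960) (BT.node (nat_lit 7880896) (BT.leaf (nat_lit 30826781)) (BT.leaf (nat_lit 27407381))) (BT.node (nat_lit 7881024) (BT.leaf (nat_lit 35007009)) (BT.leaf (nat_lit 28364053)))) (BT.node (nat_lit 7881216) (BT.node (nat_lit 7881152) (BT.leaf (nat_lit 29920521)) (BT.leaf (nat_lit 27703061))) (BT.node (nat_lit 7881280) (BT.leaf (nat_lit 48762117)) (BT.leaf (nat_lit 35006493)))))) (BT.node (nat_lit 7881856) (BT.node (nat_lit 7881600) (BT.node (nat_lit 7881472) (BT.node (nat_lit 7881408) (BT.leaf (nat_lit 48762645)) (BT.leaf (nat_lit 33539857))) (BT.node (nat_lit 7881536) (BT.leaf (nat_lit 24591121)) (BT.leaf (nat_lit 27934217)))) (BT.node (nat_lit 7881728) (BT.node (nat_lit 7881664) (BT.leaf (nat_lit 27934221)) (BT.leaf (nat_lit 24856857))) (BT.node (nat_lit 7881792) (BT.leaf (nat_lit 24856861)) (BT.leaf (nat_lit 31525913))))) (BT.node (nat_lit 7882112) (BT.node (nat_lit 7881984) (BT.node (nat_lit 7881920) (BT.leaf (nat_lit 24542225)) (BT.leaf (nat_lit 31191833))) (BT.node (nat_lit 7882048) (BT.leaf (nat_lit 28010785)) (BT.leaf (nat_lit 28570645)))) (BT.node (nat_lit 7882240) (BT.node (nat_lit 7882176) (BT.leaf (nat_lit 28570649)) (BT.leaf (nat_lit 28570653))) (BT.node (nat_lit 7882304) (BT.leaf (nat_lit 34553617)) (BT.leaf (nat_lit 32539681))))))))) (BT.node (nat_lit 7886464) (BT.node (nat_lit 7884416) (BT.node (nat_lit 7883392) (BT.node (nat_lit 7882880) (BT.node (nat_lit 7882624) (BT.node (nat_lit 7882496) (BT.node (nat_lit 7882432) (BT.leaf (nat_lit 31453445)) (BT.leaf (nat_lit 48758037))) (BT.node (nat_lit 7882560) (BT.leaf (nat_lit 28059417)) (BT.leaf (nat_lit 28059421)))) (BT.node (nat_lit 7882752) (BT.node (nat_lit 7882688) (BT.leaf (nat_lit 27425813)) (BT.leaf (nat_lit 44265749))) (BT.node (nat_lit 7882816) (BT.leaf (nat_lit 47023881)) (BT.leaf (nat_lit 47023885))))) (BT.node (nat_lit 7883136) (BT.node (nat_lit 7883008) (BT.node (nat_lit 7882944) (BT.leaf (nat_lit 29110297)) (BT.leaf (nat_lit 47023901))) (BT.node (nat_lit 7883072) (BT.leaf (nat_lit 28196873)) (BT.leaf (nat_lit 28196877)))) (BT.node (nat_lit 7883264) (BT.node (nat_lit 7883200) (BT.leaf (nat_lit 28196889)) (BT.leaf (nat_lit 28196893))) (BT.node (nat_lit 7883328) (BT.leaf (nat_lit 51876113)) (BT.leaf (nat_lit 24727573)))))) (BT.node (nat_lit 7883904) (BT.node (nat_lit 7883648) (BT.node (nat_lit 7883520) (BT.node (nat_lit 7883456) (BT.leaf (nat_lit 51657481)) (BT.leaf (nat_lit 32357909))) (BT.node (nat_lit 7883584) (BT.leaf (nat_lit 24118801)) (BT.leaf (nat_lit 32541717)))) (BT.node (nat_lit 7883776) (BT.node (nat_lit 7883712) (BT.leaf (nat_lit 28224273)) (BT.leaf (nat_lit 28907805))) (BT.node (nat_lit 7883840) (BT.leaf (nat_lit 31532317)) (BT.leaf (nat_lit 28196625))))) (BT.node (nat_lit 7884160) (BT.node (nat_lit 7884032) (BT.node (nat_lit 7883968) (BT.leaf (nat_lit 31532057)) (BT.leaf (nat_lit 34644761))) (BT.node (nat_lit 7884096) (BT.leaf (nat_lit 34645273)) (BT.leaf (nat_lit 29225745)))) (BT.node (nat_lit 7884288) (BT.node (nat_lit 7884224) (BT.leaf (nat_lit 48764953)) (BT.leaf (nat_lit 47091977))) (BT.node (nat_lit 7884352) (BT.leaf (nat_lit 34909213)) (BT.leaf (nat_lit 24055317))))))) (BT.node (nat_lit 7885440) (BT.node (nat_lit 7884928) (BT.node (nat_lit 7884672) (BT.node (nat_lit 7884544) (BT.node (nat_lit 7884480) (BT.leaf (nat_lit 52022809)) (BT.leaf (nat_lit 47091997))) (BT.node (nat_lit 7884608) (BT.leaf (nat_lit 24054809)) (BT.leaf (nat_lit 24427793)))) (BT.node (nat_lit 7884800) (BT.node (nat_lit 7884736) (BT.leaf (nat_lit 24427797)) (BT.leaf (nat_lit 37052933))) (BT.node (nat_lit 7884864) (BT.leaf (nat_lit 28193813)) (BT.leaf (nat_lit 42383381))))) (BT.node (nat_lit 7885184) (BT.node (nat_lit 7885056) (BT.node (nat_lit 7884992) (BT.leaf (nat_lit 42383385)) (BT.leaf (nat_lit 48767253))) (BT.node (nat_lit 7885120) (BT.leaf (nat_lit 27352081)) (BT.leaf (nat_lit 35754017)))) (BT.node (nat_lit 7885312) (BT.node (nat_lit 7885248) (BT.leaf (nat_lit 26046985)) (BT.leaf (nat_lit 31174689))) (BT.node (nat_lit 7885376) (BT.leaf (nat_lit 48768273)) (BT.leaf (nat_lit 25697045)))))) (BT.node (nat_lit 7885952) (BT.node (nat_lit 7885696) (BT.node (nat_lit 7885568) (BT.node (nat_lit 7885504) (BT.leaf (nat_lit 44271881)) (BT.leaf (nat_lit 48768785))) (BT.node (nat_lit 7885632) (BT.leaf (nat_lit 34651929)) (BT.leaf (nat_lit 24058637)))) (BT.node (nat_lit 7885824) (BT.node (nat_lit 7885760) (BT.leaf (nat_lit 24439061)) (BT.leaf (nat_lit 31544329))) (BT.node (nat_lit 7885888) (BT.leaf (nat_lit 35207701)) (BT.leaf (nat_lit 31069713))))) (BT.node (nat_lit 7886208) (BT.node (nat_lit 7886080) (BT.node (nat_lit 7886016) (BT.leaf (nat_lit 24058633)) (BT.leaf (nat_lit 39682593))) (BT.node (nat_lit 7886144) (BT.leaf (nat_lit 24060949)) (BT.leaf (nat_lit 37530897)))) (BT.node (nat_lit 7886336) (BT.node (nat_lit 7886272) (BT.leaf (nat_lit 28904737)) (BT.leaf (nat_lit 27733785))) (BT.node (nat_lit 7886400) (BT.leaf (nat_lit 22431261)) (BT.leaf (nat_lit 37684509)))))))) (BT.node (nat_lit 7888512) (BT.node (nat_lit 7887488) (BT.node (nat_lit 7886976) (BT.node (nat_lit 7886720) (BT.node (nat_lit 7886592) (BT.node (nat_lit 7886528) (BT.leaf (nat_lit 33314577)) (BT.leaf (nat_lit 30108693))) (BT.node (nat_lit 7886656) (BT.leaf (nat_lit 30108697)) (BT.leaf (nat_lit 30108701)))) (BT.node (nat_lit 7886848) (BT.node (nat_lit 7886784) (BT.leaf (nat_lit 48676629)) (BT.leaf (nat_lit 48770837))) (BT.node (nat_lit 7886912) (BT.leaf (nat_lit 48771613)) (BT.leaf (nat_lit 38514721))))) (BT.node (nat_lit 7887232) (BT.node (nat_lit 7887104) (BT.node (nat_lit 7887040) (BT.leaf (nat_lit 48771593)) (BT.leaf (nat_lit 48674565))) (BT.node (nat_lit 7887168) (BT.leaf (nat_lit 34757153)) (BT.leaf (nat_lit 33531673)))) (BT.node (nat_lit 7887360) (BT.node (nat_lit 7887296) (BT.leaf (nat_lit 28616469)) (BT.leaf (nat_lit 26371605))) (BT.node (nat_lit 7887424) (BT.leaf (nat_lit 24059409)) (BT.leaf (nat_lit 24059153)))))) (BT.node (nat_lit 7888000) (BT.node (nat_lit 7887744) (BT.node (nat_lit 7887616) (BT.node (nat_lit 7887552) (BT.leaf (nat_lit 30647305)) (BT.leaf (nat_lit 30647309))) (BT.node (nat_lit 7887680) (BT.leaf (nat_lit 30647321)) (BT.leaf (nat_lit 30647325)))) (BT.node (nat_lit 7887872) (BT.node (nat_lit 7887808) (BT.leaf (nat_lit 28662545)) (BT.leaf (nat_lit 30038805))) (BT.node (nat_lit 7887936) (BT.leaf (nat_lit 51638801)) (BT.leaf (nat_lit 24515353))))) (BT.node (nat_lit 7888256) (BT.node (nat_lit 7888128) (BT.node (nat_lit 7888064) (BT.leaf (nat_lit 30629901)) (BT.leaf (nat_lit 24059673))) (BT.node (nat_lit 7888192) (BT.leaf (nat_lit 24060433)) (BT.leaf (nat_lit 24060177)))) (BT.node (nat_lit 7888384) (BT.node (nat_lit 7888320) (BT.leaf (nat_lit 24060693)) (BT.leaf (nat_lit 51638797))) (BT.node (nat_lit 7888448) (BT.leaf (nat_lit 31177753)) (BT.leaf (nat_lit 30935057))))))) (BT.node (nat_lit 7889536) (BT.node (nat_lit 7889024) (BT.node (nat_lit 7888768) (BT.node (nat_lit 7888640) (BT.node (nat_lit 7888576) (BT.leaf (nat_lit 38340377)) (BT.leaf (nat_lit 38340381))) (BT.node (nat_lit 7888704) (BT.leaf (nat_lit 24858901)) (BT.leaf (nat_lit 24858905)))) (BT.node (nat_lit 7888896) (BT.node (nat_lit 7888832) (BT.leaf (nat_lit 24858909)) (BT.leaf (nat_lit 30608401))) (BT.node (nat_lit 7888960) (BT.leaf (nat_lit 48778005)) (BT.leaf (nat_lit 29382929))))) (BT.node (nat_lit 7889280) (BT.node (nat_lit 7889152) (BT.node (nat_lit 7889088) (BT.leaf (nat_lit 24195089)) (BT.leaf (nat_lit 24063249))) (BT.node (nat_lit 7889216) (BT.leaf (nat_lit 27549205)) (BT.leaf (nat_lit 40829193)))) (BT.node (nat_lit 7889408) (BT.node (nat_lit 7889344) (BT.leaf (nat_lit 44068637)) (BT.leaf (nat_lit 48124705))) (BT.node (nat_lit 7889472) (BT.leaf (nat_lit 28405277)) (BT.leaf (nat_lit 27520017)))))) (BT.node (nat_lit 7890048) (BT.node (nat_lit 7889792) (BT.node (nat_lit 7889664) (BT.node (nat_lit 7889600) (BT.leaf (nat_lit 36138261)) (BT.leaf (nat_lit 27512593))) (BT.node (nat_lit 7889728) (BT.leaf (nat_lit 34693657)) (BT.leaf (nat_lit 34877961)))) (BT.node (nat_lit 7889920) (BT.node (nat_lit 7889856) (BT.leaf (nat_lit 27933445)) (BT.leaf (nat_lit 48781325))) (BT.node (nat_lit 7889984) (BT.leaf (nat_lit 33559825)) (BT.leaf (nat_lit 31617309))))) (BT.node (nat_lit 7890304) (BT.node (nat_lit 7890176) (BT.node (nat_lit 7890112) (BT.leaf (nat_lit 30362913)) (BT.leaf (nat_lit 29985817))) (BT.node (nat_lit 7890240) (BT.leaf (nat_lit 32468001)) (BT.leaf (nat_lit 42079265)))) (BT.node (nat_lit 7890432) (BT.node (nat_lit 7890368) (BT.leaf (nat_lit 48783381)) (BT.leaf (nat_lit 31684369))) (BT.node (nat_lit 7890496) (BT.leaf (nat_lit 40204313)) (BT.leaf (nat_lit 51998989))))))))))) (BT.node (nat_lit 7907008) (BT.node (nat_lit 7898752) (BT.node (nat_lit 7894656) (BT.node (nat_lit 7892608) (BT.node (nat_lit 7891584) (BT.node (nat_lit 7891072) (BT.node (nat_lit 7890816) (BT.node (nat_lit 7890688) (BT.node (nat_lit 7890624) (BT.leaf (nat_lit 29282845)) (BT.leaf (nat_lit 36009493))) (BT.node (nat_lit 7890752) (BT.leaf (nat_lit 30011141)) (BT.leaf (nat_lit 24295437)))) (BT.node (nat_lit 7890944) (BT.node (nat_lit 7890880) (BT.leaf (nat_lit 33422349)) (BT.leaf (nat_lit 24158225))) (BT.node (nat_lit 7891008) (BT.leaf (nat_lit 24158229)) (BT.leaf (nat_lit 31309081))))) (BT.node (nat_lit 7891328) (BT.node (nat_lit 7891200) (BT.node (nat_lit 7891136) (BT.leaf (nat_lit 31309085)) (BT.leaf (nat_lit 29711885))) (BT.node (nat_lit 7891264) (BT.leaf (nat_lit 27623957)) (BT.leaf (nat_lit 27623961)))) (BT.node (nat_lit 7891456) (BT.node (nat_lit 7891392) (BT.leaf (nat_lit 27623965)) (BT.leaf (nat_lit 22687509))) (BT.node (nat_lit 7891520) (BT.leaf (nat_lit 50985485)) (BT.leaf (nat_lit 33496849)))))) (BT.node (nat_lit 7892096) (BT.node (nat_lit 7891840) (BT.node (nat_lit 7891712) (BT.node (nat_lit 7891648) (BT.leaf (nat_lit 48788245)) (BT.leaf (nat_lit 47836945))) (BT.node (nat_lit 7891776) (BT.leaf (nat_lit 30426389)) (BT.leaf (nat_lit 31567389)))) (BT.node (nat_lit 7891968) (BT.node (nat_lit 7891904) (BT.leaf (nat_lit 35142417)) (BT.leaf (nat_lit 29122065))) (BT.node (nat_lit 7892032) (BT.leaf (nat_lit 51863329)) (BT.leaf (nat_lit 36153885))))) (BT.node (nat_lit 7892352) (BT.node (nat_lit 7892224) (BT.node (nat_lit 7892160) (BT.leaf (nat_lit 30751509)) (BT.leaf (nat_lit 42603293))) (BT.node (nat_lit 7892288) (BT.leaf (nat_lit 48790809)) (BT.leaf (nat_lit 48790293)))) (BT.node (nat_lit 7892480) (BT.node (nat_lit 7892416) (BT.leaf (nat_lit 31569185)) (BT.leaf (nat_lit 28528917))) (BT.node (nat_lit 7892544) (BT.leaf (nat_lit 31570205)) (BT.leaf (nat_lit 35140881))))))) (BT.node (nat_lit 7893632) (BT.node (nat_lit 7893120) (BT.node (nat_lit 7892864) (BT.node (nat_lit 7892736) (BT.node (nat_lit 7892672) (BT.leaf (nat_lit 35648529)) (BT.leaf (nat_lit 48793097))) (BT.node (nat_lit 7892800) (BT.leaf (nat_lit 48793877)) (BT.leaf (nat_lit 29902109)))) (BT.node (nat_lit 7892992) (BT.node (nat_lit 7892928) (BT.leaf (nat_lit 47819041)) (BT.leaf (nat_lit 48794373))) (BT.node (nat_lit 7893056) (BT.leaf (nat_lit 31702557)) (BT.leaf (nat_lit 48794645))))) (BT.node (nat_lit 7893376) (BT.node (nat_lit 7893248) (BT.node (nat_lit 7893184) (BT.leaf (nat_lit 32894497)) (BT.leaf (nat_lit 24188433))) (BT.node (nat_lit 7893312) (BT.leaf (nat_lit 30841865)) (BT.leaf (nat_lit 46373397)))) (BT.node (nat_lit 7893504) (BT.node (nat_lit 7893440) (BT.leaf (nat_lit 39538209)) (BT.leaf (nat_lit 48796181))) (BT.node (nat_lit 7893568) (BT.leaf (nat_lit 38856981)) (BT.leaf (nat_lit 44932117)))))) (BT.node (nat_lit 7894144) (BT.node (nat_lit 7893888) (BT.node (nat_lit 7893760) (BT.node (nat_lit 7893696) (BT.leaf (nat_lit 32119825)) (BT.leaf (nat_lit 31681053))) (BT.node (nat_lit 7893824) (BT.leaf (nat_lit 32280865)) (BT.leaf (nat_lit 28576517)))) (BT.node (nat_lit 7894016) (BT.node (nat_lit 7893952) (BT.leaf (nat_lit 51365137)) (BT.leaf (nat_lit 50322721))) (BT.node (nat_lit 7894080) (BT.leaf (nat_lit 30468373)) (BT.leaf (nat_lit 42502661))))) (BT.node (nat_lit 7894400) (BT.node (nat_lit 7894272) (BT.node (nat_lit 7894208) (BT.leaf (nat_lit 31939857)) (BT.leaf (nat_lit 34953757))) (BT.node (nat_lit 7894336) (BT.leaf (nat_lit 24235021)) (BT.leaf (nat_lit 27092741)))) (BT.node (nat_lit 7894528) (BT.node (nat_lit 7894464) (BT.leaf (nat_lit 24675861)) (BT.leaf (nat_lit 41154309))) (BT.node (nat_lit 7894592) (BT.leaf (nat_lit 37869573)) (BT.leaf (nat_lit 38743573)))))))) (BT.node (nat_lit 7896704) (BT.node (nat_lit 7895680) (BT.node (nat_lit 7895168) (BT.node (nat_lit 7894912) (BT.node (nat_lit 7894784) (BT.node (nat_lit 7894720) (BT.leaf (nat_lit 47885321)) (BT.leaf (nat_lit 46442249))) (BT.node (nat_lit 7894848) (BT.leaf (nat_lit 25835545)) (BT.leaf (nat_lit 34783249)))) (BT.node (nat_lit 7895040) (BT.node (nat_lit 7894976) (BT.leaf (nat_lit 30003985)) (BT.leaf (nat_lit 31580189))) (BT.node (nat_lit 7895104) (BT.leaf (nat_lit 34108945)) (BT.leaf (nat_lit 44322837))))) (BT.node (nat_lit 7895424) (BT.node (nat_lit 7895296) (BT.node (nat_lit 7895232) (BT.leaf (nat_lit 37960981)) (BT.leaf (nat_lit 35518225))) (BT.node (nat_lit 7895360) (BT.leaf (nat_lit 46410769)) (BT.leaf (nat_lit 28470033)))) (BT.node (nat_lit 7895552) (BT.node (nat_lit 7895488) (BT.leaf (nat_lit 25800217)) (BT.leaf (nat_lit 28205601))) (BT.node (nat_lit 7895616) (BT.leaf (nat_lit 37915913)) (BT.leaf (nat_lit 43406597)))))) (BT.node (nat_lit 7896192) (BT.node (nat_lit 7895936) (BT.node (nat_lit 7895808) (BT.node (nat_lit 7895744) (BT.leaf (nat_lit 48799765)) (BT.leaf (nat_lit 41682453))) (BT.node (nat_lit 7895872) (BT.leaf (nat_lit 37766433)) (BT.leaf (nat_lit 44622357)))) (BT.node (nat_lit 7896064) (BT.node (nat_lit 7896000) (BT.leaf (nat_lit 37767457)) (BT.leaf (nat_lit 34387745))) (BT.node (nat_lit 7896128) (BT.leaf (nat_lit 24079377)) (BT.leaf (nat_lit 28647189))))) (BT.node (nat_lit 7896448) (BT.node (nat_lit 7896320) (BT.node (nat_lit 7896256) (BT.leaf (nat_lit 44248341)) (BT.leaf (nat_lit 31375129))) (BT.node (nat_lit 7896384) (BT.leaf (nat_lit 48802325)) (BT.leaf (nat_lit 43082769)))) (BT.node (nat_lit 7896576) (BT.node (nat_lit 7896512) (BT.leaf (nat_lit 22713365)) (BT.leaf (nat_lit 28721681))) (BT.node (nat_lit 7896640) (BT.leaf (nat_lit 31993105)) (BT.leaf (nat_lit 44333077))))))) (BT.node (nat_lit 7897728) (BT.node (nat_lit 7897216) (BT.node (nat_lit 7896960) (BT.node (nat_lit 7896832) (BT.node (nat_lit 7896768) (BT.leaf (nat_lit 32107789)) (BT.leaf (nat_lit 24081169))) (BT.node (nat_lit 7896896) (BT.leaf (nat_lit 31066885)) (BT.leaf (nat_lit 48803101)))) (BT.node (nat_lit 7897088) (BT.node (nat_lit 7897024) (BT.leaf (nat_lit 30489605)) (BT.leaf (nat_lit 31825165))) (BT.node (nat_lit 7897152) (BT.leaf (nat_lit 48804105)) (BT.leaf (nat_lit 48804373))))) (BT.node (nat_lit 7897472) (BT.node (nat_lit 7897344) (BT.node (nat_lit 7897280) (BT.leaf (nat_lit 29358621)) (BT.leaf (nat_lit 42759457))) (BT.node (nat_lit 7897408) (BT.leaf (nat_lit 37908229)) (BT.leaf (nat_lit 39595017)))) (BT.node (nat_lit 7897600) (BT.node (nat_lit 7897536) (BT.leaf (nat_lit 37858581)) (BT.leaf (nat_lit 28459553))) (BT.node (nat_lit 7897664) (BT.leaf (nat_lit 44341013)) (BT.leaf (nat_lit 29245209)))))) (BT.node (nat_lit 7898240) (BT.node (nat_lit 7897984) (BT.node (nat_lit 7897856) (BT.node (nat_lit 7897792) (BT.leaf (nat_lit 48805397)) (BT.leaf (nat_lit 48805653))) (BT.node (nat_lit 7897920) (BT.leaf (nat_lit 48805637)) (BT.leaf (nat_lit 24397849)))) (BT.node (nat_lit 7898112) (BT.node (nat_lit 7898048) (BT.leaf (nat_lit 24397853)) (BT.leaf (nat_lit 36074005))) (BT.node (nat_lit 7898176) (BT.leaf (nat_lit 30101529)) (BT.leaf (nat_lit 28462113))))) (BT.node (nat_lit 7898496) (BT.node (nat_lit 7898368) (BT.node (nat_lit 7898304) (BT.leaf (nat_lit 26710789)) (BT.leaf (nat_lit 32956933))) (BT.node (nat_lit 7898432) (BT.leaf (nat_lit 24084753)) (BT.leaf (nat_lit 50947605)))) (BT.node (nat_lit 7898624) (BT.node (nat_lit 7898560) (BT.leaf (nat_lit 32868625)) (BT.leaf (nat_lit 31795485))) (BT.node (nat_lit 7898688) (BT.leaf (nat_lit 48809497)) (BT.leaf (nat_lit 46629893))))))))) (BT.node (nat_lit 7902912) (BT.node (nat_lit 7900800) (BT.node (nat_lit 7899776) (BT.node (nat_lit 7899264) (BT.node (nat_lit 7899008) (BT.node (nat_lit 7898880) (BT.node (nat_lit 7898816) (BT.leaf (nat_lit 48808453)) (BT.leaf (nat_lit 31576073))) (BT.node (nat_lit 7898944) (BT.leaf (nat_lit 23492629)) (BT.leaf (nat_lit 24086537)))) (BT.node (nat_lit 7899136) (BT.node (nat_lit 7899072) (BT.leaf (nat_lit 24179221)) (BT.leaf (nat_lit 24086541))) (BT.node (nat_lit 7899200) (BT.leaf (nat_lit 24086557)) (BT.leaf (nat_lit 46384149))))) (BT.node (nat_lit 7899520) (BT.node (nat_lit 7899392) (BT.node (nat_lit 7899328) (BT.leaf (nat_lit 38493969)) (BT.leaf (nat_lit 31300117))) (BT.node (nat_lit 7899456) (BT.leaf (nat_lit 51761165)) (BT.leaf (nat_lit 42275101)))) (BT.node (nat_lit 7899648) (BT.node (nat_lit 7899584) (BT.leaf (nat_lit 48626961)) (BT.leaf (nat_lit 38402849))) (BT.node (nat_lit 7899712) (BT.leaf (nat_lit 48811797)) (BT.leaf (nat_lit 30647329)))))) (BT.node (nat_lit 7900288) (BT.node (nat_lit 7900032) (BT.node (nat_lit 7899904) (BT.node (nat_lit 7899840) (BT.leaf (nat_lit 29743121)) (BT.leaf (nat_lit 43337481))) (BT.node (nat_lit 7899968) (BT.leaf (nat_lit 34218757)) (BT.leaf (nat_lit 30844697)))) (BT.node (nat_lit 7900160) (BT.node (nat_lit 7900096) (BT.leaf (nat_lit 30844701)) (BT.leaf (nat_lit 27385873))) (BT.node (nat_lit 7900224) (BT.leaf (nat_lit 25871637)) (BT.leaf (nat_lit 34006545))))) (BT.node (nat_lit 7900544) (BT.node (nat_lit 7900416) (BT.node (nat_lit 7900352) (BT.leaf (nat_lit 32535817)) (BT.leaf (nat_lit 51611149))) (BT.node (nat_lit 7900480) (BT.leaf (nat_lit 31377185)) (BT.leaf (nat_lit 47709705)))) (BT.node (nat_lit 7900672) (BT.node (nat_lit 7900608) (BT.leaf (nat_lit 33929757)) (BT.leaf (nat_lit 31322401))) (BT.node (nat_lit 7900736) (BT.leaf (nat_lit 38221845)) (BT.leaf (nat_lit 30793233))))))) (BT.node (nat_lit 7901824) (BT.node (nat_lit 7901312) (BT.node (nat_lit 7901056) (BT.node (nat_lit 7900928) (BT.node (nat_lit 7900864) (BT.leaf (nat_lit 46966281)) (BT.leaf (nat_lit 34430749))) (BT.node (nat_lit 7900992) (BT.leaf (nat_lit 29181957)) (BT.leaf (nat_lit 51611161)))) (BT.node (nat_lit 7901184) (BT.node (nat_lit 7901120) (BT.leaf (nat_lit 51611165)) (BT.leaf (nat_lit 48814613))) (BT.node (nat_lit 7901248) (BT.leaf (nat_lit 24092933)) (BT.leaf (nat_lit 29098513))))) (BT.node (nat_lit 7901568) (BT.node (nat_lit 7901440) (BT.node (nat_lit 7901376) (BT.leaf (nat_lit 28530197)) (BT.leaf (nat_lit 24093985))) (BT.node (nat_lit 7901504) (BT.leaf (nat_lit 24379401)) (BT.leaf (nat_lit 42581521)))) (BT.node (nat_lit 7901696) (BT.node (nat_lit 7901632) (BT.leaf (nat_lit 24097801)) (BT.leaf (nat_lit 50777357))) (BT.node (nat_lit 7901760) (BT.leaf (nat_lit 24580629)) (BT.leaf (nat_lit 29430289)))))) (BT.node (nat_lit 7902400) (BT.node (nat_lit 7902144) (BT.node (nat_lit 7902016) (BT.node (nat_lit 7901888) (BT.leaf (nat_lit 31607065)) (BT.leaf (nat_lit 47511841))) (BT.node (nat_lit 7902080) (BT.leaf (nat_lit 29443873)) (BT.leaf (nat_lit 22751249)))) (BT.node (nat_lit 7902272) (BT.node (nat_lit 7902208) (BT.leaf (nat_lit 34015249)) (BT.leaf (nat_lit 48817669))) (BT.node (nat_lit 7902336) (BT.leaf (nat_lit 48817681)) (BT.leaf (nat_lit 49728265))))) (BT.node (nat_lit 7902656) (BT.node (nat_lit 7902528) (BT.node (nat_lit 7902464) (BT.leaf (nat_lit 39026697)) (BT.leaf (nat_lit 46407701))) (BT.node (nat_lit 7902592) (BT.leaf (nat_lit 43064597)) (BT.leaf (nat_lit 30456849)))) (BT.node (nat_lit 7902784) (BT.node (nat_lit 7902720) (BT.leaf (nat_lit 44590345)) (BT.leaf (nat_lit 31609369))) (BT.node (nat_lit 7902848) (BT.leaf (nat_lit 24294417)) (BT.leaf (nat_lit 34432269)))))))) (BT.node (nat_lit 7904960) (BT.node (nat_lit 7903936) (BT.node (nat_lit 7903424) (BT.node (nat_lit 7903168) (BT.node (nat_lit 7903040) (BT.node (nat_lit 7902976) (BT.leaf (nat_lit 47339553)) (BT.leaf (nat_lit 34436373))) (BT.node (nat_lit 7903104) (BT.leaf (nat_lit 37368865)) (BT.leaf (nat_lit 48820485)))) (BT.node (nat_lit 7903296) (BT.node (nat_lit 7903232) (BT.leaf (nat_lit 34436117)) (BT.leaf (nat_lit 31738637))) (BT.node (nat_lit 7903360) (BT.leaf (nat_lit 24234005)) (BT.leaf (nat_lit 48820757))))) (BT.node (nat_lit 7903680) (BT.node (nat_lit 7903552) (BT.node (nat_lit 7903488) (BT.leaf (nat_lit 27426837)) (BT.leaf (nat_lit 47137541))) (BT.node (nat_lit 7903616) (BT.leaf (nat_lit 27690501)) (BT.leaf (nat_lit 28150033)))) (BT.node (nat_lit 7903808) (BT.node (nat_lit 7903744) (BT.leaf (nat_lit 24667665)) (BT.leaf (nat_lit 24825877))) (BT.node (nat_lit 7903872) (BT.leaf (nat_lit 47716897)) (BT.leaf (nat_lit 47716641)))))) (BT.node (nat_lit 7904448) (BT.node (nat_lit 7904192) (BT.node (nat_lit 7904064) (BT.node (nat_lit 7904000) (BT.leaf (nat_lit 22363157)) (BT.leaf (nat_lit 28364825))) (BT.node (nat_lit 7904128) (BT.leaf (nat_lit 46888969)) (BT.leaf (nat_lit 24108309)))) (BT.node (nat_lit 7904320) (BT.node (nat_lit 7904256) (BT.leaf (nat_lit 48821269)) (BT.leaf (nat_lit 24108561))) (BT.node (nat_lit 7904384) (BT.leaf (nat_lit 25464081)) (BT.leaf (nat_lit 38089249))))) (BT.node (nat_lit 7904704) (BT.node (nat_lit 7904576) (BT.node (nat_lit 7904512) (BT.leaf (nat_lit 30081297)) (BT.leaf (nat_lit 35335193))) (BT.node (nat_lit 7904640) (BT.leaf (nat_lit 31506705)) (BT.leaf (nat_lit 39912465)))) (BT.node (nat_lit 7904832) (BT.node (nat_lit 7904768) (BT.leaf (nat_lit 31811597)) (BT.leaf (nat_lit 52221957))) (BT.node (nat_lit 7904896) (BT.leaf (nat_lit 37782045)) (BT.leaf (nat_lit 34615057))))))) (BT.node (nat_lit 7905984) (BT.node (nat_lit 7905472) (BT.node (nat_lit 7905216) (BT.node (nat_lit 7905088) (BT.node (nat_lit 7905024) (BT.leaf (nat_lit 26772753)) (BT.leaf (nat_lit 23897365))) (BT.node (nat_lit 7905152) (BT.leaf (nat_lit 34640401)) (BT.leaf (nat_lit 34301209)))) (BT.node (nat_lit 7905344) (BT.node (nat_lit 7905280) (BT.leaf (nat_lit 30983957)) (BT.leaf (nat_lit 30983961))) (BT.node (nat_lit 7905408) (BT.leaf (nat_lit 30983965)) (BT.leaf (nat_lit 31811613))))) (BT.node (nat_lit 7905728) (BT.node (nat_lit 7905600) (BT.node (nat_lit 7905536) (BT.leaf (nat_lit 31617305)) (BT.leaf (nat_lit 42465057))) (BT.node (nat_lit 7905664) (BT.leaf (nat_lit 25463569)) (BT.leaf (nat_lit 33568285)))) (BT.node (nat_lit 7905856) (BT.node (nat_lit 7905792) (BT.leaf (nat_lit 44364565)) (BT.leaf (nat_lit 31569161))) (BT.node (nat_lit 7905920) (BT.leaf (nat_lit 33258265)) (BT.leaf (nat_lit 41398049)))))) (BT.node (nat_lit 7906496) (BT.node (nat_lit 7906240) (BT.node (nat_lit 7906112) (BT.node (nat_lit 7906048) (BT.leaf (nat_lit 48791309)) (BT.leaf (nat_lit 32199201))) (BT.node (nat_lit 7906176) (BT.leaf (nat_lit 48789781)) (BT.leaf (nat_lit 38869521)))) (BT.node (nat_lit 7906368) (BT.node (nat_lit 7906304) (BT.leaf (nat_lit 30152469)) (BT.leaf (nat_lit 29923333))) (BT.node (nat_lit 7906432) (BT.leaf (nat_lit 24066077)) (BT.leaf (nat_lit 46445061))))) (BT.node (nat_lit 7906752) (BT.node (nat_lit 7906624) (BT.node (nat_lit 7906560) (BT.leaf (nat_lit 43419421)) (BT.leaf (nat_lit 43419405))) (BT.node (nat_lit 7906688) (BT.leaf (nat_lit 48792601)) (BT.leaf (nat_lit 48791573)))) (BT.node (nat_lit 7906880) (BT.node (nat_lit 7906816) (BT.leaf (nat_lit 39463945)) (BT.leaf (nat_lit 48792589))) (BT.node (nat_lit 7906944) (BT.leaf (nat_lit 34509589)) (BT.leaf (nat_lit 24115217)))))))))) (BT.node (nat_lit 7915264) (BT.node (nat_lit 7911104) (BT.node (nat_lit 7909056) (BT.node (nat_lit 7908032) (BT.node (nat_lit 7907520) (BT.node (nat_lit 7907264) (BT.node (nat_lit 7907136) (BT.node (nat_lit 7907072) (BT.leaf (nat_lit 46737933)) (BT.leaf (nat_lit 28471813))) (BT.node (nat_lit 7907200) (BT.leaf (nat_lit 30722569)) (BT.leaf (nat_lit 30020625)))) (BT.node (nat_lit 7907392) (BT.node (nat_lit 7907328) (BT.leaf (nat_lit 24117521)) (BT.leaf (nat_lit 24886305))) (BT.node (nat_lit 7907456) (BT.leaf (nat_lit 24675349)) (BT.leaf (nat_lit 30178053))))) (BT.node (nat_lit 7907776) (BT.node (nat_lit 7907648) (BT.node (nat_lit 7907584) (BT.leaf (nat_lit 42319901)) (BT.leaf (nat_lit 44387601))) (BT.node (nat_lit 7907712) (BT.leaf (nat_lit 48828693)) (BT.leaf (nat_lit 29274141)))) (BT.node (nat_lit 7907904) (BT.node (nat_lit 7907840) (BT.leaf (nat_lit 38076933)) (BT.leaf (nat_lit 29634825))) (BT.node (nat_lit 7907968) (BT.leaf (nat_lit 40456977)) (BT.leaf (nat_lit 39596549)))))) (BT.node (nat_lit 7908544) (BT.node (nat_lit 7908288) (BT.node (nat_lit 7908160) (BT.node (nat_lit 7908096) (BT.leaf (nat_lit 28308253)) (BT.leaf (nat_lit 34251801))) (BT.node (nat_lit 7908224) (BT.leaf (nat_lit 29103389)) (BT.leaf (nat_lit 32099857)))) (BT.node (nat_lit 7908416) (BT.node (nat_lit 7908352) (BT.leaf (nat_lit 37749017)) (BT.leaf (nat_lit 31107857))) (BT.node (nat_lit 7908480) (BT.leaf (nat_lit 29730057)) (BT.leaf (nat_lit 29730061))))) (BT.node (nat_lit 7908800) (BT.node (nat_lit 7908672) (BT.node (nat_lit 7908608) (BT.leaf (nat_lit 44297229)) (BT.leaf (nat_lit 29730073))) (BT.node (nat_lit 7908736) (BT.leaf (nat_lit 29730077)) (BT.leaf (nat_lit 47846933)))) (BT.node (nat_lit 7908928) (BT.node (nat_lit 7908864) (BT.leaf (nat_lit 40389393)) (BT.leaf (nat_lit 32157201))) (BT.node (nat_lit 7908992) (BT.leaf (nat_lit 29646105)) (BT.leaf (nat_lit 29646109))))))) (BT.node (nat_lit 7910080) (BT.node (nat_lit 7909568) (BT.node (nat_lit 7909312) (BT.node (nat_lit 7909184) (BT.node (nat_lit 7909120) (BT.leaf (nat_lit 38709785)) (BT.leaf (nat_lit 27642401))) (BT.node (nat_lit 7909248) (BT.leaf (nat_lit 24719633)) (BT.leaf (nat_lit 48830737)))) (BT.node (nat_lit 7909440) (BT.node (nat_lit 7909376) (BT.leaf (nat_lit 32023817)) (BT.leaf (nat_lit 48831261))) (BT.node (nat_lit 7909504) (BT.leaf (nat_lit 44397837)) (BT.leaf (nat_lit 44399129))))) (BT.node (nat_lit 7909824) (BT.node (nat_lit 7909696) (BT.node (nat_lit 7909632) (BT.leaf (nat_lit 44398873)) (BT.leaf (nat_lit 24121889))) (BT.node (nat_lit 7909760) (BT.leaf (nat_lit 32020489)) (BT.leaf (nat_lit 24122385)))) (BT.node (nat_lit 7909952) (BT.node (nat_lit 7909888) (BT.leaf (nat_lit 52392205)) (BT.leaf (nat_lit 38868501))) (BT.node (nat_lit 7910016) (BT.leaf (nat_lit 32141589)) (BT.leaf (nat_lit 31639833)))))) (BT.node (nat_lit 7910592) (BT.node (nat_lit 7910336) (BT.node (nat_lit 7910208) (BT.node (nat_lit 7910144) (BT.leaf (nat_lit 40351001)) (BT.leaf (nat_lit 34808085))) (BT.node (nat_lit 7910272) (BT.leaf (nat_lit 39433749)) (BT.leaf (nat_lit 30033677)))) (BT.node (nat_lit 7910464) (BT.node (nat_lit 7910400) (BT.leaf (nat_lit 41447449)) (BT.leaf (nat_lit 48833813))) (BT.node (nat_lit 7910528) (BT.leaf (nat_lit 28468513)) (BT.leaf (nat_lit 27105557))))) (BT.node (nat_lit 7910848) (BT.node (nat_lit 7910720) (BT.node (nat_lit 7910656) (BT.leaf (nat_lit 24124185)) (BT.leaf (nat_lit 48835089))) (BT.node (nat_lit 7910784) (BT.leaf (nat_lit 34905889)) (BT.leaf (nat_lit 39756321)))) (BT.node (nat_lit 7910976) (BT.node (nat_lit 7910912) (BT.leaf (nat_lit 47434273)) (BT.leaf (nat_lit 36892953))) (BT.node (nat_lit 7911040) (BT.leaf (nat_lit 36892957)) (BT.leaf (nat_lit 31191817)))))))) (BT.node (nat_lit 7913216) (BT.node (nat_lit 7912192) (BT.node (nat_lit 7911616) (BT.node (nat_lit 7911360) (BT.node (nat_lit 7911232) (BT.node (nat_lit 7911168) (BT.leaf (nat_lit 33350161)) (BT.leaf (nat_lit 24868881))) (BT.node (nat_lit 7911296) (BT.leaf (nat_lit 24867861)) (BT.leaf (nat_lit 31462917)))) (BT.node (nat_lit 7911488) (BT.node (nat_lit 7911424) (BT.leaf (nat_lit 24867869)) (BT.leaf (nat_lit 24125201))) (BT.node (nat_lit 7911552) (BT.leaf (nat_lit 37890061)) (BT.leaf (nat_lit 39171101))))) (BT.node (nat_lit 7911936) (BT.node (nat_lit 7911808) (BT.node (nat_lit 7911744) (BT.leaf (nat_lit 24125457)) (BT.leaf (nat_lit 48838673))) (BT.node (nat_lit 7911872) (BT.leaf (nat_lit 41701921)) (BT.leaf (nat_lit 24124433)))) (BT.node (nat_lit 7912064) (BT.node (nat_lit 7912000) (BT.leaf (nat_lit 30374661)) (BT.leaf (nat_lit 44825889))) (BT.node (nat_lit 7912128) (BT.leaf (nat_lit 41779973)) (BT.leaf (nat_lit 24127761)))))) (BT.node (nat_lit 7912704) (BT.node (nat_lit 7912448) (BT.node (nat_lit 7912320) (BT.node (nat_lit 7912256) (BT.leaf (nat_lit 48840221)) (BT.leaf (nat_lit 43526945))) (BT.node (nat_lit 7912384) (BT.leaf (nat_lit 35195933)) (BT.leaf (nat_lit 43887133)))) (BT.node (nat_lit 7912576) (BT.node (nat_lit 7912512) (BT.leaf (nat_lit 34089993)) (BT.leaf (nat_lit 29726473))) (BT.node (nat_lit 7912640) (BT.leaf (nat_lit 32822037)) (BT.leaf (nat_lit 32847637))))) (BT.node (nat_lit 7912960) (BT.node (nat_lit 7912832) (BT.node (nat_lit 7912768) (BT.leaf (nat_lit 42182177)) (BT.leaf (nat_lit 33446677))) (BT.node (nat_lit 7912896) (BT.leaf (nat_lit 33446681)) (BT.leaf (nat_lit 46993697)))) (BT.node (nat_lit 7913088) (BT.node (nat_lit 7913024) (BT.leaf (nat_lit 46994209)) (BT.leaf (nat_lit 27623445))) (BT.node (nat_lit 7913152) (BT.leaf (nat_lit 27623453)) (BT.leaf (nat_lit 32423201))))))) (BT.node (nat_lit 7914240) (BT.node (nat_lit 7913728) (BT.node (nat_lit 7913472) (BT.node (nat_lit 7913344) (BT.node (nat_lit 7913280) (BT.leaf (nat_lit 24844821)) (BT.leaf (nat_lit 41533977))) (BT.node (nat_lit 7913408) (BT.leaf (nat_lit 48835357)) (BT.leaf (nat_lit 24128785)))) (BT.node (nat_lit 7913600) (BT.node (nat_lit 7913536) (BT.leaf (nat_lit 36851461)) (BT.leaf (nat_lit 42474513))) (BT.node (nat_lit 7913664) (BT.leaf (nat_lit 25722897)) (BT.leaf (nat_lit 27924761))))) (BT.node (nat_lit 7913984) (BT.node (nat_lit 7913856) (BT.node (nat_lit 7913792) (BT.leaf (nat_lit 48845317)) (BT.leaf (nat_lit 41964825))) (BT.node (nat_lit 7913920) (BT.leaf (nat_lit 48845589)) (BT.leaf (nat_lit 51998985)))) (BT.node (nat_lit 7914112) (BT.node (nat_lit 7914048) (BT.leaf (nat_lit 28298513)) (BT.leaf (nat_lit 29734933))) (BT.node (nat_lit 7914176) (BT.leaf (nat_lit 46907673)) (BT.leaf (nat_lit 33908757)))))) (BT.node (nat_lit 7914752) (BT.node (nat_lit 7914496) (BT.node (nat_lit 7914368) (BT.node (nat_lit 7914304) (BT.leaf (nat_lit 31656713)) (BT.leaf (nat_lit 46907677))) (BT.node (nat_lit 7914432) (BT.leaf (nat_lit 48847377)) (BT.leaf (nat_lit 40122389)))) (BT.node (nat_lit 7914624) (BT.node (nat_lit 7914560) (BT.leaf (nat_lit 30074389)) (BT.leaf (nat_lit 28695313))) (BT.node (nat_lit 7914688) (BT.leaf (nat_lit 42491937)) (BT.leaf (nat_lit 48372485))))) (BT.node (nat_lit 7915008) (BT.node (nat_lit 7914880) (BT.node (nat_lit 7914816) (BT.leaf (nat_lit 42554373)) (BT.leaf (nat_lit 48846877))) (BT.node (nat_lit 7914944) (BT.leaf (nat_lit 24508433)) (BT.leaf (nat_lit 28695561)))) (BT.node (nat_lit 7915136) (BT.node (nat_lit 7915072) (BT.leaf (nat_lit 24130321)) (BT.leaf (nat_lit 28695577))) (BT.node (nat_lit 7915200) (BT.leaf (nat_lit 28695581)) (BT.leaf (nat_lit 31656733))))))))) (BT.node (nat_lit 7919360) (BT.node (nat_lit 7917312) (BT.node (nat_lit 7916288) (BT.node (nat_lit 7915776) (BT.node (nat_lit 7915520) (BT.node (nat_lit 7915392) (BT.node (nat_lit 7915328) (BT.leaf (nat_lit 23247133)) (BT.leaf (nat_lit 28060961))) (BT.node (nat_lit 7915456) (BT.leaf (nat_lit 30689285)) (BT.leaf (nat_lit 42625541)))) (BT.node (nat_lit 7915648) (BT.node (nat_lit 7915584) (BT.leaf (nat_lit 30861577)) (BT.leaf (nat_lit 28017937))) (BT.node (nat_lit 7915712) (BT.leaf (nat_lit 24418565)) (BT.leaf (nat_lit 32928537))))) (BT.node (nat_lit 7916032) (BT.node (nat_lit 7915904) (BT.node (nat_lit 7915840) (BT.leaf (nat_lit 24136709)) (BT.leaf (nat_lit 50311689))) (BT.node (nat_lit 7915968) (BT.leaf (nat_lit 24070169)) (BT.leaf (nat_lit 24138777)))) (BT.node (nat_lit 7916160) (BT.node (nat_lit 7916096) (BT.leaf (nat_lit 31985681)) (BT.leaf (nat_lit 31985685))) (BT.node (nat_lit 7916224) (BT.leaf (nat_lit 24139549)) (BT.leaf (nat_lit 38189601)))))) (BT.node (nat_lit 7916800) (BT.node (nat_lit 7916544) (BT.node (nat_lit 7916416) (BT.node (nat_lit 7916352) (BT.leaf (nat_lit 24447773)) (BT.leaf (nat_lit 48850705))) (BT.node (nat_lit 7916480) (BT.leaf (nat_lit 46474529)) (BT.leaf (nat_lit 28030729)))) (BT.node (nat_lit 7916672) (BT.node (nat_lit 7916608) (BT.leaf (nat_lit 48850961)) (BT.leaf (nat_lit 23862809))) (BT.node (nat_lit 7916736) (BT.leaf (nat_lit 24299285)) (BT.leaf (nat_lit 24140561))))) (BT.node (nat_lit 7917056) (BT.node (nat_lit 7916928) (BT.node (nat_lit 7916864) (BT.leaf (nat_lit 31934229)) (BT.leaf (nat_lit 31934233))) (BT.node (nat_lit 7916992) (BT.leaf (nat_lit 46345237)) (BT.leaf (nat_lit 31665429)))) (BT.node (nat_lit 7917184) (BT.node (nat_lit 7917120) (BT.leaf (nat_lit 24290573)) (BT.leaf (nat_lit 27908373))) (BT.node (nat_lit 7917248) (BT.leaf (nat_lit 24447769)) (BT.leaf (nat_lit 48853265))))))) (BT.node (nat_lit 7918336) (BT.node (nat_lit 7917824) (BT.node (nat_lit 7917568) (BT.node (nat_lit 7917440) (BT.node (nat_lit 7917376) (BT.leaf (nat_lit 37141517)) (BT.leaf (nat_lit 31954965))) (BT.node (nat_lit 7917504) (BT.leaf (nat_lit 31669513)) (BT.leaf (nat_lit 48854293)))) (BT.node (nat_lit 7917696) (BT.node (nat_lit 7917632) (BT.leaf (nat_lit 48853769)) (BT.leaf (nat_lit 28452885))) (BT.node (nat_lit 7917760) (BT.leaf (nat_lit 43090449)) (BT.leaf (nat_lit 48851993))))) (BT.node (nat_lit 7918080) (BT.node (nat_lit 7917952) (BT.node (nat_lit 7917888) (BT.leaf (nat_lit 31954717)) (BT.leaf (nat_lit 24142353))) (BT.node (nat_lit 7918016) (BT.leaf (nat_lit 24142097)) (BT.leaf (nat_lit 32029709)))) (BT.node (nat_lit 7918208) (BT.node (nat_lit 7918144) (BT.leaf (nat_lit 32028693)) (BT.leaf (nat_lit 48855573))) (BT.node (nat_lit 7918272) (BT.leaf (nat_lit 48855829)) (BT.leaf (nat_lit 24141337)))))) (BT.node (nat_lit 7918848) (BT.node (nat_lit 7918592) (BT.node (nat_lit 7918464) (BT.node (nat_lit 7918400) (BT.leaf (nat_lit 28232469)) (BT.leaf (nat_lit 22750493))) (BT.node (nat_lit 7918528) (BT.leaf (nat_lit 28224773)) (BT.leaf (nat_lit 24141341)))) (BT.node (nat_lit 7918720) (BT.node (nat_lit 7918656) (BT.leaf (nat_lit 28224785)) (BT.leaf (nat_lit 48855577))) (BT.node (nat_lit 7918784) (BT.leaf (nat_lit 22750489)) (BT.leaf (nat_lit 24143121))))) (BT.node (nat_lit 7919104) (BT.node (nat_lit 7918976) (BT.node (nat_lit 7918912) (BT.leaf (nat_lit 24142609)) (BT.leaf (nat_lit 32028701))) (BT.node (nat_lit 7919040) (BT.leaf (nat_lit 48858141)) (BT.leaf (nat_lit 27603733)))) (BT.node (nat_lit 7919232) (BT.node (nat_lit 7919168) (BT.leaf (nat_lit 28098577)) (BT.leaf (nat_lit 39734549))) (BT.node (nat_lit 7919296) (BT.leaf (nat_lit 30575897)) (BT.leaf (nat_lit 27428377)))))))) (BT.node (nat_lit 7921216) (BT.node (nat_lit 7920384) (BT.node (nat_lit 7919872) (BT.node (nat_lit 7919616) (BT.node (nat_lit 7919488) (BT.node (nat_lit 7919424) (BT.leaf (nat_lit 33724181)) (BT.leaf (nat_lit 43217157))) (BT.node (nat_lit 7919552) (BT.leaf (nat_lit 48858897)) (BT.leaf (nat_lit 50959113)))) (BT.node (nat_lit 7919744) (BT.node (nat_lit 7919680) (BT.leaf (nat_lit 27618065)) (BT.leaf (nat_lit 35257365))) (BT.node (nat_lit 7919808) (BT.leaf (nat_lit 35040537)) (BT.leaf (nat_lit 35128853))))) (BT.node (nat_lit 7920128) (BT.node (nat_lit 7920000) (BT.node (nat_lit 7919936) (BT.leaf (nat_lit 31679773)) (BT.leaf (nat_lit 44494353))) (BT.node (nat_lit 7920064) (BT.leaf (nat_lit 28893957)) (BT.leaf (nat_lit 27530001)))) (BT.node (nat_lit 7920256) (BT.node (nat_lit 7920192) (BT.leaf (nat_lit 37276185)) (BT.leaf (nat_lit 24260629))) (BT.node (nat_lit 7920320) (BT.leaf (nat_lit 28749585)) (BT.leaf (nat_lit 39643153)))))) (BT.node (nat_lit 7920896) (BT.node (nat_lit 7920640) (BT.node (nat_lit 7920512) (BT.node (nat_lit 7920448) (BT.leaf (nat_lit 24313097)) (BT.leaf (nat_lit 29023261))) (BT.node (nat_lit 7920576) (BT.leaf (nat_lit 35783953)) (BT.leaf (nat_lit 31682073)))) (BT.node (nat_lit 7920768) (BT.node (nat_lit 7920704) (BT.leaf (nat_lit 38580761)) (BT.leaf (nat_lit 27522833))) (BT.node (nat_lit 7920832) (BT.leaf (nat_lit 40248341)) (BT.leaf (nat_lit 47914501))))) (BT.node (nat_lit 7921027) (BT.node (nat_lit 7921024) (BT.node (nat_lit 7920960) (BT.leaf (nat_lit 30036245)) (BT.leaf (nat_lit 35935249))) (BT.node (nat_lit 7921026) (BT.leaf (nat_lit 25286425)) (BT.leaf (nat_lit 558988)))) (BT.node (nat_lit 7921088) (BT.node (nat_lit 7921031) (BT.leaf (nat_lit 558988)) (BT.leaf (nat_lit 558988))) (BT.node (nat_lit 7921152) (BT.leaf (nat_lit 36205341)) (BT.leaf (nat_lit 39978769))))))) (BT.node (nat_lit 7922240) (BT.node (nat_lit 7921728) (BT.node (nat_lit 7921472) (BT.node (nat_lit 7921344) (BT.node (nat_lit 7921280) (BT.leaf (nat_lit 28902405)) (BT.leaf (nat_lit 28613649))) (BT.node (nat_lit 7921408) (BT.leaf (nat_lit 39054349)) (BT.leaf (nat_lit 48862481)))) (BT.node (nat_lit 7921600) (BT.node (nat_lit 7921536) (BT.leaf (nat_lit 47432453)) (BT.leaf (nat_lit 38049297))) (BT.node (nat_lit 7921664) (BT.leaf (nat_lit 49629725)) (BT.leaf (nat_lit 24320533))))) (BT.node (nat_lit 7921984) (BT.node (nat_lit 7921856) (BT.node (nat_lit 7921792) (BT.leaf (nat_lit 48862737)) (BT.leaf (nat_lit 31686937))) (BT.node (nat_lit 7921920) (BT.leaf (nat_lit 31678729)) (BT.leaf (nat_lit 48862993)))) (BT.node (nat_lit 7922112) (BT.node (nat_lit 7922048) (BT.leaf (nat_lit 42310937)) (BT.leaf (nat_lit 50959117))) (BT.node (nat_lit 7922176) (BT.leaf (nat_lit 50959121)) (BT.leaf (nat_lit 30267925)))))) (BT.node (nat_lit 7922752) (BT.node (nat_lit 7922496) (BT.node (nat_lit 7922368) (BT.node (nat_lit 7922304) (BT.leaf (nat_lit 27295753)) (BT.leaf (nat_lit 27295757))) (BT.node (nat_lit 7922432) (BT.leaf (nat_lit 46463265)) (BT.leaf (nat_lit 49174037)))) (BT.node (nat_lit 7922624) (BT.node (nat_lit 7922560) (BT.leaf (nat_lit 44491805)) (BT.leaf (nat_lit 36178449))) (BT.node (nat_lit 7922688) (BT.leaf (nat_lit 31691293)) (BT.leaf (nat_lit 24554517))))) (BT.node (nat_lit 7923008) (BT.node (nat_lit 7922880) (BT.node (nat_lit 7922816) (BT.leaf (nat_lit 24536325)) (BT.leaf (nat_lit 44494609))) (BT.node (nat_lit 7922944) (BT.leaf (nat_lit 24536341)) (BT.leaf (nat_lit 48864265)))) (BT.node (nat_lit 7923136) (BT.node (nat_lit 7923072) (BT.leaf (nat_lit 48864789)) (BT.leaf (nat_lit 28083741))) (BT.node (nat_lit 7923200) (BT.leaf (nat_lit 24938517)) (BT.leaf (nat_lit 34666505)))))))))))) (BT.node (nat_lit 7955712) (BT.node (nat_lit 7939648) (BT.node (nat_lit 7931456) (BT.node (nat_lit 7927360) (BT.node (nat_lit 7925312) (BT.node (nat_lit 7924288) (BT.node (nat_lit 7923776) (BT.node (nat_lit 7923520) (BT.node (nat_lit 7923392) (BT.node (nat_lit 7923328) (BT.leaf (nat_lit 46582817)) (BT.leaf (nat_lit 48865301))) (BT.node (nat_lit 7923456) (BT.leaf (nat_lit 48865541)) (BT.leaf (nat_lit 23563285)))) (BT.node (nat_lit 7923648) (BT.node (nat_lit 7923584) (BT.leaf (nat_lit 25726481)) (BT.leaf (nat_lit 49347849))) (BT.node (nat_lit 7923712) (BT.leaf (nat_lit 29869333)) (BT.leaf (nat_lit 34264865))))) (BT.node (nat_lit 7924032) (BT.node (nat_lit 7923904) (BT.node (nat_lit 7923840) (BT.leaf (nat_lit 48866849)) (BT.leaf (nat_lit 48866837))) (BT.node (nat_lit 7923968) (BT.leaf (nat_lit 29087245)) (BT.leaf (nat_lit 40608781)))) (BT.node (nat_lit 7924160) (BT.node (nat_lit 7924096) (BT.leaf (nat_lit 48868117)) (BT.leaf (nat_lit 48867597))) (BT.node (nat_lit 7924224) (BT.leaf (nat_lit 48868633)) (BT.leaf (nat_lit 48868881)))))) (BT.node (nat_lit 7924800) (BT.node (nat_lit 7924544) (BT.node (nat_lit 7924416) (BT.node (nat_lit 7924352) (BT.leaf (nat_lit 23557145)) (BT.leaf (nat_lit 31573769))) (BT.node (nat_lit 7924480) (BT.leaf (nat_lit 40277005)) (BT.leaf (nat_lit 29589253)))) (BT.node (nat_lit 7924672) (BT.node (nat_lit 7924608) (BT.leaf (nat_lit 48869905)) (BT.leaf (nat_lit 50674977))) (BT.node (nat_lit 7924736) (BT.leaf (nat_lit 35262741)) (BT.leaf (nat_lit 28440597))))) (BT.node (nat_lit 7925056) (BT.node (nat_lit 7924928) (BT.node (nat_lit 7924864) (BT.leaf (nat_lit 28440601)) (BT.leaf (nat_lit 48871189))) (BT.node (nat_lit 7924992) (BT.leaf (nat_lit 31699465)) (BT.leaf (nat_lit 27328017)))) (BT.node (nat_lit 7925184) (BT.node (nat_lit 7925120) (BT.leaf (nat_lit 48872213)) (BT.leaf (nat_lit 48871945))) (BT.node (nat_lit 7925248) (BT.leaf (nat_lit 27328033)) (BT.leaf (nat_lit 31010053))))))) (BT.node (nat_lit 7926336) (BT.node (nat_lit 7925824) (BT.node (nat_lit 7925568) (BT.node (nat_lit 7925440) (BT.node (nat_lit 7925376) (BT.leaf (nat_lit 24154137)) (BT.leaf (nat_lit 43886353))) (BT.node (nat_lit 7925504) (BT.leaf (nat_lit 48793113)) (BT.leaf (nat_lit 24154141)))) (BT.node (nat_lit 7925696) (BT.node (nat_lit 7925632) (BT.leaf (nat_lit 48873757)) (BT.leaf (nat_lit 22623253))) (BT.node (nat_lit 7925760) (BT.leaf (nat_lit 28132369)) (BT.leaf (nat_lit 24155921))))) (BT.node (nat_lit 7926080) (BT.node (nat_lit 7925952) (BT.node (nat_lit 7925888) (BT.leaf (nat_lit 24072721)) (BT.leaf (nat_lit 24155665))) (BT.node (nat_lit 7926016) (BT.leaf (nat_lit 47037729)) (BT.leaf (nat_lit 24641049)))) (BT.node (nat_lit 7926208) (BT.node (nat_lit 7926144) (BT.leaf (nat_lit 24640545)) (BT.leaf (nat_lit 34737421))) (BT.node (nat_lit 7926272) (BT.leaf (nat_lit 33490705)) (BT.leaf (nat_lit 42323465)))))) (BT.node (nat_lit 7926848) (BT.node (nat_lit 7926592) (BT.node (nat_lit 7926464) (BT.node (nat_lit 7926400) (BT.leaf (nat_lit 32850961)) (BT.leaf (nat_lit 28671257))) (BT.node (nat_lit 7926528) (BT.leaf (nat_lit 48876309)) (BT.leaf (nat_lit 39986445)))) (BT.node (nat_lit 7926720) (BT.node (nat_lit 7926656) (BT.leaf (nat_lit 28787733)) (BT.leaf (nat_lit 42630169))) (BT.node (nat_lit 7926784) (BT.leaf (nat_lit 42630173)) (BT.leaf (nat_lit 31170821))))) (BT.node (nat_lit 7927104) (BT.node (nat_lit 7926976) (BT.node (nat_lit 7926912) (BT.leaf (nat_lit 24316693)) (BT.leaf (nat_lit 32566045))) (BT.node (nat_lit 7927040) (BT.leaf (nat_lit 33845517)) (BT.leaf (nat_lit 44521997)))) (BT.node (nat_lit 7927232) (BT.node (nat_lit 7927168) (BT.leaf (nat_lit 48878353)) (BT.leaf (nat_lit 41136153))) (BT.node (nat_lit 7927296) (BT.leaf (nat_lit 39907617)) (BT.leaf (nat_lit 28795921)))))))) (BT.node (nat_lit 7929408) (BT.node (nat_lit 7928384) (BT.node (nat_lit 7927872) (BT.node (nat_lit 7927616) (BT.node (nat_lit 7927488) (BT.node (nat_lit 7927424) (BT.leaf (nat_lit 42486561)) (BT.leaf (nat_lit 48877593))) (BT.node (nat_lit 7927552) (BT.leaf (nat_lit 44520993)) (BT.leaf (nat_lit 44529697)))) (BT.node (nat_lit 7927744) (BT.node (nat_lit 7927680) (BT.leaf (nat_lit 44529925)) (BT.leaf (nat_lit 47941153))) (BT.node (nat_lit 7927808) (BT.leaf (nat_lit 39765521)) (BT.leaf (nat_lit 39765789))))) (BT.node (nat_lit 7928128) (BT.node (nat_lit 7928000) (BT.node (nat_lit 7927936) (BT.leaf (nat_lit 40135697)) (BT.leaf (nat_lit 50192645))) (BT.node (nat_lit 7928064) (BT.leaf (nat_lit 48880393)) (BT.leaf (nat_lit 48880661)))) (BT.node (nat_lit 7928256) (BT.node (nat_lit 7928192) (BT.leaf (nat_lit 31407117)) (BT.leaf (nat_lit 31406597))) (BT.node (nat_lit 7928320) (BT.leaf (nat_lit 48881429)) (BT.leaf (nat_lit 48881681)))))) (BT.node (nat_lit 7928896) (BT.node (nat_lit 7928640) (BT.node (nat_lit 7928512) (BT.node (nat_lit 7928448) (BT.leaf (nat_lit 27712773)) (BT.leaf (nat_lit 30886677))) (BT.node (nat_lit 7928576) (BT.leaf (nat_lit 30886681)) (BT.leaf (nat_lit 30886685)))) (BT.node (nat_lit 7928768) (BT.node (nat_lit 7928704) (BT.leaf (nat_lit 27724817)) (BT.leaf (nat_lit 28450321))) (BT.node (nat_lit 7928832) (BT.leaf (nat_lit 29526029)) (BT.leaf (nat_lit 48883217))))) (BT.node (nat_lit 7929152) (BT.node (nat_lit 7929024) (BT.node (nat_lit 7928960) (BT.leaf (nat_lit 48883737)) (BT.leaf (nat_lit 46859793))) (BT.node (nat_lit 7929088) (BT.leaf (nat_lit 34337813)) (BT.leaf (nat_lit 34338069)))) (BT.node (nat_lit 7929280) (BT.node (nat_lit 7929216) (BT.leaf (nat_lit 31149333)) (BT.leaf (nat_lit 31149337))) (BT.node (nat_lit 7929344) (BT.leaf (nat_lit 31149341)) (BT.leaf (nat_lit 29695509))))))) (BT.node (nat_lit 7930432) (BT.node (nat_lit 7929920) (BT.node (nat_lit 7929664) (BT.node (nat_lit 7929536) (BT.node (nat_lit 7929472) (BT.leaf (nat_lit 29695513)) (BT.leaf (nat_lit 24166161))) (BT.node (nat_lit 7929600) (BT.leaf (nat_lit 32614917)) (BT.leaf (nat_lit 29815317)))) (BT.node (nat_lit 7929792) (BT.node (nat_lit 7929728) (BT.leaf (nat_lit 38956041)) (BT.leaf (nat_lit 48585989))) (BT.node (nat_lit 7929856) (BT.leaf (nat_lit 43735045)) (BT.leaf (nat_lit 48195333))))) (BT.node (nat_lit 7930176) (BT.node (nat_lit 7930048) (BT.node (nat_lit 7929984) (BT.leaf (nat_lit 48889113)) (BT.leaf (nat_lit 24370713))) (BT.node (nat_lit 7930112) (BT.leaf (nat_lit 30789137)) (BT.leaf (nat_lit 29797921)))) (BT.node (nat_lit 7930304) (BT.node (nat_lit 7930240) (BT.leaf (nat_lit 43668501)) (BT.leaf (nat_lit 30181141))) (BT.node (nat_lit 7930368) (BT.leaf (nat_lit 30181145)) (BT.leaf (nat_lit 30181149)))))) (BT.node (nat_lit 7930944) (BT.node (nat_lit 7930688) (BT.node (nat_lit 7930560) (BT.node (nat_lit 7930496) (BT.leaf (nat_lit 39535637)) (BT.leaf (nat_lit 24173073))) (BT.node (nat_lit 7930624) (BT.leaf (nat_lit 24172817)) (BT.leaf (nat_lit 23325201)))) (BT.node (nat_lit 7930816) (BT.node (nat_lit 7930752) (BT.leaf (nat_lit 28442913)) (BT.leaf (nat_lit 28462617))) (BT.node (nat_lit 7930880) (BT.leaf (nat_lit 29423389)) (BT.leaf (nat_lit 28465161))))) (BT.node (nat_lit 7931200) (BT.node (nat_lit 7931072) (BT.node (nat_lit 7931008) (BT.leaf (nat_lit 28465165)) (BT.leaf (nat_lit 37785377))) (BT.node (nat_lit 7931136) (BT.leaf (nat_lit 47783689)) (BT.leaf (nat_lit 46932761)))) (BT.node (nat_lit 7931328) (BT.node (nat_lit 7931264) (BT.leaf (nat_lit 48892681)) (BT.leaf (nat_lit 32093985))) (BT.node (nat_lit 7931392) (BT.leaf (nat_lit 48893729)) (BT.leaf (nat_lit 31468061))))))))) (BT.node (nat_lit 7935552) (BT.node (nat_lit 7933504) (BT.node (nat_lit 7932480) (BT.node (nat_lit 7931968) (BT.node (nat_lit 7931712) (BT.node (nat_lit 7931584) (BT.node (nat_lit 7931520) (BT.leaf (nat_lit 31502369)) (BT.leaf (nat_lit 31468041))) (BT.node (nat_lit 7931648) (BT.leaf (nat_lit 48894753)) (BT.leaf (nat_lit 48894997)))) (BT.node (nat_lit 7931840) (BT.node (nat_lit 7931776) (BT.leaf (nat_lit 23869725)) (BT.leaf (nat_lit 43395857))) (BT.node (nat_lit 7931904) (BT.leaf (nat_lit 43395861)) (BT.leaf (nat_lit 24175121))))) (BT.node (nat_lit 7932224) (BT.node (nat_lit 7932096) (BT.node (nat_lit 7932032) (BT.leaf (nat_lit 48895237)) (BT.leaf (nat_lit 41484037))) (BT.node (nat_lit 7932160) (BT.leaf (nat_lit 34305557)) (BT.leaf (nat_lit 22547477)))) (BT.node (nat_lit 7932352) (BT.node (nat_lit 7932288) (BT.leaf (nat_lit 27594513)) (BT.leaf (nat_lit 50600205))) (BT.node (nat_lit 7932416) (BT.leaf (nat_lit 31589897)) (BT.leaf (nat_lit 31188001)))))) (BT.node (nat_lit 7932992) (BT.node (nat_lit 7932736) (BT.node (nat_lit 7932608) (BT.node (nat_lit 7932544) (BT.leaf (nat_lit 48897305)) (BT.leaf (nat_lit 41917717))) (BT.node (nat_lit 7932672) (BT.leaf (nat_lit 48897809)) (BT.leaf (nat_lit 30996241)))) (BT.node (nat_lit 7932864) (BT.node (nat_lit 7932800) (BT.leaf (nat_lit 28948501)) (BT.leaf (nat_lit 28948505))) (BT.node (nat_lit 7932928) (BT.leaf (nat_lit 28948509)) (BT.leaf (nat_lit 48898065))))) (BT.node (nat_lit 7933248) (BT.node (nat_lit 7933120) (BT.node (nat_lit 7933056) (BT.leaf (nat_lit 39238413)) (BT.leaf (nat_lit 32539413))) (BT.node (nat_lit 7933184) (BT.leaf (nat_lit 39238157)) (BT.leaf (nat_lit 48899089)))) (BT.node (nat_lit 7933376) (BT.node (nat_lit 7933312) (BT.leaf (nat_lit 39240213)) (BT.leaf (nat_lit 26536221))) (BT.node (nat_lit 7933440) (BT.leaf (nat_lit 44542233)) (BT.leaf (nat_lit 31191585))))))) (BT.node (nat_lit 7934528) (BT.node (nat_lit 7934016) (BT.node (nat_lit 7933760) (BT.node (nat_lit 7933632) (BT.node (nat_lit 7933568) (BT.leaf (nat_lit 29726477)) (BT.leaf (nat_lit 35070989))) (BT.node (nat_lit 7933696) (BT.leaf (nat_lit 24520721)) (BT.leaf (nat_lit 49423125)))) (BT.node (nat_lit 7933888) (BT.node (nat_lit 7933824) (BT.leaf (nat_lit 39408149)) (BT.leaf (nat_lit 38271521))) (BT.node (nat_lit 7933952) (BT.leaf (nat_lit 35683345)) (BT.leaf (nat_lit 32029725))))) (BT.node (nat_lit 7934272) (BT.node (nat_lit 7934144) (BT.node (nat_lit 7934080) (BT.leaf (nat_lit 30360597)) (BT.leaf (nat_lit 50560273))) (BT.node (nat_lit 7934208) (BT.leaf (nat_lit 42082337)) (BT.leaf (nat_lit 34809889)))) (BT.node (nat_lit 7934400) (BT.node (nat_lit 7934336) (BT.leaf (nat_lit 30102037)) (BT.leaf (nat_lit 26253089))) (BT.node (nat_lit 7934464) (BT.leaf (nat_lit 27848729)) (BT.leaf (nat_lit 23088673)))))) (BT.node (nat_lit 7935040) (BT.node (nat_lit 7934784) (BT.node (nat_lit 7934656) (BT.node (nat_lit 7934592) (BT.leaf (nat_lit 31077921)) (BT.leaf (nat_lit 30388757))) (BT.node (nat_lit 7934720) (BT.leaf (nat_lit 33210901)) (BT.leaf (nat_lit 35275797)))) (BT.node (nat_lit 7934912) (BT.node (nat_lit 7934848) (BT.leaf (nat_lit 31739661)) (BT.leaf (nat_lit 24749845))) (BT.node (nat_lit 7934976) (BT.leaf (nat_lit 34129685)) (BT.leaf (nat_lit 36859677))))) (BT.node (nat_lit 7935296) (BT.node (nat_lit 7935168) (BT.node (nat_lit 7935104) (BT.leaf (nat_lit 36538401)) (BT.leaf (nat_lit 35641373))) (BT.node (nat_lit 7935232) (BT.leaf (nat_lit 31167257)) (BT.leaf (nat_lit 27985937)))) (BT.node (nat_lit 7935424) (BT.node (nat_lit 7935360) (BT.leaf (nat_lit 24181777)) (BT.leaf (nat_lit 31171097))) (BT.node (nat_lit 7935488) (BT.leaf (nat_lit 31171101)) (BT.leaf (nat_lit 26055189)))))))) (BT.node (nat_lit 7937600) (BT.node (nat_lit 7936576) (BT.node (nat_lit 7936064) (BT.node (nat_lit 7935808) (BT.node (nat_lit 7935680) (BT.node (nat_lit 7935616) (BT.leaf (nat_lit 31180805)) (BT.leaf (nat_lit 30382093))) (BT.node (nat_lit 7935744) (BT.leaf (nat_lit 30382105)) (BT.leaf (nat_lit 30382109)))) (BT.node (nat_lit 7935936) (BT.node (nat_lit 7935872) (BT.leaf (nat_lit 30382113)) (BT.leaf (nat_lit 26324245))) (BT.node (nat_lit 7936000) (BT.leaf (nat_lit 24183825)) (BT.leaf (nat_lit 31006489))))) (BT.node (nat_lit 7936320) (BT.node (nat_lit 7936192) (BT.node (nat_lit 7936128) (BT.leaf (nat_lit 31006493)) (BT.leaf (nat_lit 24205573))) (BT.node (nat_lit 7936256) (BT.leaf (nat_lit 35003913)) (BT.leaf (nat_lit 48904453)))) (BT.node (nat_lit 7936448) (BT.node (nat_lit 7936384) (BT.leaf (nat_lit 48904981)) (BT.leaf (nat_lit 25013017))) (BT.node (nat_lit 7936512) (BT.leaf (nat_lit 24184601)) (BT.leaf (nat_lit 27975449)))))) (BT.node (nat_lit 7937088) (BT.node (nat_lit 7936832) (BT.node (nat_lit 7936704) (BT.node (nat_lit 7936640) (BT.leaf (nat_lit 24184605)) (BT.leaf (nat_lit 24184849))) (BT.node (nat_lit 7936768) (BT.leaf (nat_lit 31747101)) (BT.leaf (nat_lit 28287509)))) (BT.node (nat_lit 7936960) (BT.node (nat_lit 7936896) (BT.leaf (nat_lit 48658709)) (BT.leaf (nat_lit 47885325))) (BT.node (nat_lit 7937024) (BT.leaf (nat_lit 48905477)) (BT.leaf (nat_lit 32166169))))) (BT.node (nat_lit 7937344) (BT.node (nat_lit 7937216) (BT.node (nat_lit 7937152) (BT.leaf (nat_lit 22330389)) (BT.leaf (nat_lit 24401677))) (BT.node (nat_lit 7937280) (BT.leaf (nat_lit 38182405)) (BT.leaf (nat_lit 41760529)))) (BT.node (nat_lit 7937472) (BT.node (nat_lit 7937408) (BT.leaf (nat_lit 34997777)) (BT.leaf (nat_lit 31180049))) (BT.node (nat_lit 7937536) (BT.leaf (nat_lit 39534093)) (BT.leaf (nat_lit 24373265))))))) (BT.node (nat_lit 7938624) (BT.node (nat_lit 7938112) (BT.node (nat_lit 7937856) (BT.node (nat_lit 7937728) (BT.node (nat_lit 7937664) (BT.leaf (nat_lit 38461457)) (BT.leaf (nat_lit 38993937))) (BT.node (nat_lit 7937792) (BT.leaf (nat_lit 28648461)) (BT.leaf (nat_lit 31991317)))) (BT.node (nat_lit 7937984) (BT.node (nat_lit 7937920) (BT.leaf (nat_lit 31751709)) (BT.leaf (nat_lit 48907281))) (BT.node (nat_lit 7938048) (BT.leaf (nat_lit 24187153)) (BT.leaf (nat_lit 36457489))))) (BT.node (nat_lit 7938368) (BT.node (nat_lit 7938240) (BT.node (nat_lit 7938176) (BT.leaf (nat_lit 27764245)) (BT.leaf (nat_lit 46702869))) (BT.node (nat_lit 7938304) (BT.leaf (nat_lit 34499349)) (BT.leaf (nat_lit 48908573)))) (BT.node (nat_lit 7938496) (BT.node (nat_lit 7938432) (BT.leaf (nat_lit 38450965)) (BT.leaf (nat_lit 42531105))) (BT.node (nat_lit 7938560) (BT.leaf (nat_lit 28058897)) (BT.leaf (nat_lit 48908821)))))) (BT.node (nat_lit 7939136) (BT.node (nat_lit 7938880) (BT.node (nat_lit 7938752) (BT.node (nat_lit 7938688) (BT.leaf (nat_lit 31584525)) (BT.leaf (nat_lit 47831049))) (BT.node (nat_lit 7938816) (BT.leaf (nat_lit 48909325)) (BT.leaf (nat_lit 40517153)))) (BT.node (nat_lit 7939008) (BT.node (nat_lit 7938944) (BT.leaf (nat_lit 48909589)) (BT.leaf (nat_lit 38040609))) (BT.node (nat_lit 7939072) (BT.leaf (nat_lit 40775201)) (BT.leaf (nat_lit 31721221))))) (BT.node (nat_lit 7939392) (BT.node (nat_lit 7939264) (BT.node (nat_lit 7939200) (BT.leaf (nat_lit 34499353)) (BT.leaf (nat_lit 31976213))) (BT.node (nat_lit 7939328) (BT.leaf (nat_lit 30160653)) (BT.leaf (nat_lit 30160665)))) (BT.node (nat_lit 7939520) (BT.node (nat_lit 7939456) (BT.leaf (nat_lit 30160669)) (BT.leaf (nat_lit 24190225))) (BT.node (nat_lit 7939584) (BT.leaf (nat_lit 28750597)) (BT.leaf (nat_lit 29383697)))))))))) (BT.node (nat_lit 7947904) (BT.node (nat_lit 7943808) (BT.node (nat_lit 7941760) (BT.node (nat_lit 7940736) (BT.node (nat_lit 7940224) (BT.node (nat_lit 7939968) (BT.node (nat_lit 7939776) (BT.node (nat_lit 7939712) (BT.leaf (nat_lit 24187665)) (BT.leaf (nat_lit 31992069))) (BT.node (nat_lit 7939840) (BT.leaf (nat_lit 38046497)) (BT.leaf (nat_lit 48912401)))) (BT.node (nat_lit 7940096) (BT.node (nat_lit 7940032) (BT.leaf (nat_lit 32451101)) (BT.leaf (nat_lit 48912925))) (BT.node (nat_lit 7940160) (BT.leaf (nat_lit 30218777)) (BT.leaf (nat_lit 48913433))))) (BT.node (nat_lit 7940480) (BT.node (nat_lit 7940352) (BT.node (nat_lit 7940288) (BT.leaf (nat_lit 47272733)) (BT.leaf (nat_lit 24192029))) (BT.node (nat_lit 7940416) (BT.leaf (nat_lit 34870813)) (BT.leaf (nat_lit 26011405)))) (BT.node (nat_lit 7940608) (BT.node (nat_lit 7940544) (BT.leaf (nat_lit 38499105)) (BT.leaf (nat_lit 24861209))) (BT.node (nat_lit 7940672) (BT.leaf (nat_lit 24861213)) (BT.leaf (nat_lit 44254469)))))) (BT.node (nat_lit 7941248) (BT.node (nat_lit 7940992) (BT.node (nat_lit 7940864) (BT.node (nat_lit 7940800) (BT.leaf (nat_lit 44248325)) (BT.leaf (nat_lit 48914465))) (BT.node (nat_lit 7940928) (BT.leaf (nat_lit 48916757)) (BT.leaf (nat_lit 27757601)))) (BT.node (nat_lit 7941120) (BT.node (nat_lit 7941056) (BT.leaf (nat_lit 48917525)) (BT.leaf (nat_lit 31387413))) (BT.node (nat_lit 7941184) (BT.leaf (nat_lit 46564889)) (BT.leaf (nat_lit 24196629))))) (BT.node (nat_lit 7941504) (BT.node (nat_lit 7941376) (BT.node (nat_lit 7941312) (BT.leaf (nat_lit 34686989)) (BT.leaf (nat_lit 32429333))) (BT.node (nat_lit 7941440) (BT.leaf (nat_lit 29715221)) (BT.leaf (nat_lit 29715225)))) (BT.node (nat_lit 7941632) (BT.node (nat_lit 7941568) (BT.leaf (nat_lit 30548745)) (BT.leaf (nat_lit 30548749))) (BT.node (nat_lit 7941696) (BT.leaf (nat_lit 38055457)) (BT.leaf (nat_lit 30548761))))))) (BT.node (nat_lit 7942784) (BT.node (nat_lit 7942272) (BT.node (nat_lit 7942016) (BT.node (nat_lit 7941888) (BT.node (nat_lit 7941824) (BT.leaf (nat_lit 48919573)) (BT.leaf (nat_lit 31375621))) (BT.node (nat_lit 7941952) (BT.leaf (nat_lit 24197913)) (BT.leaf (nat_lit 48920085)))) (BT.node (nat_lit 7942144) (BT.node (nat_lit 7942080) (BT.leaf (nat_lit 31375637)) (BT.leaf (nat_lit 24197917))) (BT.node (nat_lit 7942208) (BT.leaf (nat_lit 30199573)) (BT.leaf (nat_lit 24199185))))) (BT.node (nat_lit 7942528) (BT.node (nat_lit 7942400) (BT.node (nat_lit 7942336) (BT.leaf (nat_lit 24198673)) (BT.leaf (nat_lit 30179601))) (BT.node (nat_lit 7942464) (BT.leaf (nat_lit 30547225)) (BT.leaf (nat_lit 30547229)))) (BT.node (nat_lit 7942656) (BT.node (nat_lit 7942592) (BT.leaf (nat_lit 36428565)) (BT.leaf (nat_lit 31770121))) (BT.node (nat_lit 7942720) (BT.leaf (nat_lit 25748245)) (BT.leaf (nat_lit 42553357)))))) (BT.node (nat_lit 7943296) (BT.node (nat_lit 7943040) (BT.node (nat_lit 7942912) (BT.node (nat_lit 7942848) (BT.leaf (nat_lit 40181273)) (BT.leaf (nat_lit 37849621))) (BT.node (nat_lit 7942976) (BT.leaf (nat_lit 27997729)) (BT.leaf (nat_lit 24199449)))) (BT.node (nat_lit 7943168) (BT.node (nat_lit 7943104) (BT.leaf (nat_lit 48922637)) (BT.leaf (nat_lit 34948889))) (BT.node (nat_lit 7943232) (BT.leaf (nat_lit 24199453)) (BT.leaf (nat_lit 32681493))))) (BT.node (nat_lit 7943552) (BT.node (nat_lit 7943424) (BT.node (nat_lit 7943360) (BT.leaf (nat_lit 36096029)) (BT.leaf (nat_lit 24200465))) (BT.node (nat_lit 7943488) (BT.leaf (nat_lit 24200209)) (BT.leaf (nat_lit 24199953)))) (BT.node (nat_lit 7943680) (BT.node (nat_lit 7943616) (BT.leaf (nat_lit 24199697)) (BT.leaf (nat_lit 27491873))) (BT.node (nat_lit 7943744) (BT.leaf (nat_lit 24200977)) (BT.leaf (nat_lit 24200721)))))))) (BT.node (nat_lit 7945856) (BT.node (nat_lit 7944832) (BT.node (nat_lit 7944320) (BT.node (nat_lit 7944064) (BT.node (nat_lit 7943936) (BT.node (nat_lit 7943872) (BT.leaf (nat_lit 24079121)) (BT.leaf (nat_lit 29069829))) (BT.node (nat_lit 7944000) (BT.leaf (nat_lit 48925189)) (BT.leaf (nat_lit 38059041)))) (BT.node (nat_lit 7944192) (BT.node (nat_lit 7944128) (BT.leaf (nat_lit 31583501)) (BT.leaf (nat_lit 48925709))) (BT.node (nat_lit 7944256) (BT.leaf (nat_lit 24202273)) (BT.leaf (nat_lit 30775841))))) (BT.node (nat_lit 7944576) (BT.node (nat_lit 7944448) (BT.node (nat_lit 7944384) (BT.leaf (nat_lit 27492897)) (BT.leaf (nat_lit 30775817))) (BT.node (nat_lit 7944512) (BT.leaf (nat_lit 26565149)) (BT.leaf (nat_lit 34872581)))) (BT.node (nat_lit 7944704) (BT.node (nat_lit 7944640) (BT.leaf (nat_lit 39844101)) (BT.leaf (nat_lit 22320925))) (BT.node (nat_lit 7944768) (BT.leaf (nat_lit 44633377)) (BT.leaf (nat_lit 44633605)))))) (BT.node (nat_lit 7945344) (BT.node (nat_lit 7945088) (BT.node (nat_lit 7944960) (BT.node (nat_lit 7944896) (BT.leaf (nat_lit 48926477)) (BT.leaf (nat_lit 39833353))) (BT.node (nat_lit 7945024) (BT.leaf (nat_lit 38062341)) (BT.leaf (nat_lit 44633621)))) (BT.node (nat_lit 7945216) (BT.node (nat_lit 7945152) (BT.leaf (nat_lit 46758405)) (BT.leaf (nat_lit 46743045))) (BT.node (nat_lit 7945280) (BT.leaf (nat_lit 28998681)) (BT.leaf (nat_lit 48928005))))) (BT.node (nat_lit 7945600) (BT.node (nat_lit 7945472) (BT.node (nat_lit 7945408) (BT.leaf (nat_lit 32202013)) (BT.leaf (nat_lit 23857937))) (BT.node (nat_lit 7945536) (BT.leaf (nat_lit 49639705)) (BT.leaf (nat_lit 47369733)))) (BT.node (nat_lit 7945728) (BT.node (nat_lit 7945664) (BT.leaf (nat_lit 44046365)) (BT.leaf (nat_lit 33884949))) (BT.node (nat_lit 7945792) (BT.leaf (nat_lit 23519517)) (BT.leaf (nat_lit 23475485))))))) (BT.node (nat_lit 7946880) (BT.node (nat_lit 7946368) (BT.node (nat_lit 7946112) (BT.node (nat_lit 7945984) (BT.node (nat_lit 7945920) (BT.leaf (nat_lit 40149253)) (BT.leaf (nat_lit 23519513))) (BT.node (nat_lit 7946048) (BT.leaf (nat_lit 48904225)) (BT.leaf (nat_lit 44567585)))) (BT.node (nat_lit 7946240) (BT.node (nat_lit 7946176) (BT.leaf (nat_lit 44569889)) (BT.leaf (nat_lit 44568865))) (BT.node (nat_lit 7946304) (BT.leaf (nat_lit 40916485)) (BT.leaf (nat_lit 48931601))))) (BT.node (nat_lit 7946624) (BT.node (nat_lit 7946496) (BT.node (nat_lit 7946432) (BT.leaf (nat_lit 28940833)) (BT.leaf (nat_lit 27958281))) (BT.node (nat_lit 7946560) (BT.leaf (nat_lit 24209421)) (BT.leaf (nat_lit 35044613)))) (BT.node (nat_lit 7946752) (BT.node (nat_lit 7946688) (BT.leaf (nat_lit 29988121)) (BT.leaf (nat_lit 31815457))) (BT.node (nat_lit 7946816) (BT.leaf (nat_lit 24434193)) (BT.leaf (nat_lit 40235021)))))) (BT.node (nat_lit 7947392) (BT.node (nat_lit 7947136) (BT.node (nat_lit 7947008) (BT.node (nat_lit 7946944) (BT.leaf (nat_lit 27590417)) (BT.leaf (nat_lit 31112197))) (BT.node (nat_lit 7947072) (BT.leaf (nat_lit 31261445)) (BT.leaf (nat_lit 43880993)))) (BT.node (nat_lit 7947264) (BT.node (nat_lit 7947200) (BT.leaf (nat_lit 24207377)) (BT.leaf (nat_lit 42555397))) (BT.node (nat_lit 7947328) (BT.leaf (nat_lit 44444701)) (BT.leaf (nat_lit 31111201))))) (BT.node (nat_lit 7947648) (BT.node (nat_lit 7947520) (BT.node (nat_lit 7947456) (BT.leaf (nat_lit 48935185)) (BT.leaf (nat_lit 48935709))) (BT.node (nat_lit 7947584) (BT.leaf (nat_lit 48412177)) (BT.leaf (nat_lit 44649753)))) (BT.node (nat_lit 7947776) (BT.node (nat_lit 7947712) (BT.leaf (nat_lit 48936209)) (BT.leaf (nat_lit 48936225))) (BT.node (nat_lit 7947840) (BT.leaf (nat_lit 31791389)) (BT.leaf (nat_lit 48936725))))))))) (BT.node (nat_lit 7951616) (BT.node (nat_lit 7949760) (BT.node (nat_lit 7948736) (BT.node (nat_lit 7948416) (BT.node (nat_lit 7948160) (BT.node (nat_lit 7948032) (BT.node (nat_lit 7947968) (BT.leaf (nat_lit 44643853)) (BT.leaf (nat_lit 31802901))) (BT.node (nat_lit 7948096) (BT.leaf (nat_lit 23416601)) (BT.leaf (nat_lit 29898529)))) (BT.node (nat_lit 7948288) (BT.node (nat_lit 7948224) (BT.leaf (nat_lit 24029217)) (BT.leaf (nat_lit 24883461))) (BT.node (nat_lit 7948352) (BT.leaf (nat_lit 24209181)) (BT.leaf (nat_lit 28620557))))) (BT.node (nat_lit 7948544) (BT.node (nat_lit 7948424) (BT.node (nat_lit 7948420) (BT.leaf (nat_lit 28955909)) (BT.leaf (nat_lit 580632))) (BT.node (nat_lit 7948480) (BT.leaf (nat_lit 580632)) (BT.leaf (nat_lit 43296289)))) (BT.node (nat_lit 7948609) (BT.node (nat_lit 7948608) (BT.leaf (nat_lit 48938001)) (BT.leaf (nat_lit 48938269))) (BT.node (nat_lit 7948672) (BT.leaf (nat_lit 580636)) (BT.leaf (nat_lit 40039457)))))) (BT.node (nat_lit 7949248) (BT.node (nat_lit 7948992) (BT.node (nat_lit 7948864) (BT.node (nat_lit 7948800) (BT.leaf (nat_lit 23889697)) (BT.leaf (nat_lit 48938517))) (BT.node (nat_lit 7948928) (BT.leaf (nat_lit 43634449)) (BT.leaf (nat_lit 40239381)))) (BT.node (nat_lit 7949120) (BT.node (nat_lit 7949056) (BT.leaf (nat_lit 36236569)) (BT.leaf (nat_lit 36236573))) (BT.node (nat_lit 7949184) (BT.leaf (nat_lit 36048917)) (BT.leaf (nat_lit 24213537))))) (BT.node (nat_lit 7949504) (BT.node (nat_lit 7949376) (BT.node (nat_lit 7949312) (BT.leaf (nat_lit 28841757)) (BT.leaf (nat_lit 30507537))) (BT.node (nat_lit 7949440) (BT.leaf (nat_lit 48939281)) (BT.leaf (nat_lit 24213529)))) (BT.node (nat_lit 7949632) (BT.node (nat_lit 7949568) (BT.leaf (nat_lit 24213533)) (BT.leaf (nat_lit 31033617))) (BT.node (nat_lit 7949696) (BT.leaf (nat_lit 31111713)) (BT.leaf (nat_lit 40235037))))))) (BT.node (nat_lit 7950592) (BT.node (nat_lit 7950209) (BT.node (nat_lit 7950016) (BT.node (nat_lit 7949888) (BT.node (nat_lit 7949824) (BT.leaf (nat_lit 31111941)) (BT.leaf (nat_lit 40389125))) (BT.node (nat_lit 7949952) (BT.leaf (nat_lit 43399173)) (BT.leaf (nat_lit 24209441)))) (BT.node (nat_lit 7950144) (BT.node (nat_lit 7950080) (BT.leaf (nat_lit 29569045)) (BT.leaf (nat_lit 38866197))) (BT.node (nat_lit 7950208) (BT.leaf (nat_lit 40394245)) (BT.leaf (nat_lit 40394529))))) (BT.node (nat_lit 7950336) (BT.node (nat_lit 7950215) (BT.node (nat_lit 7950211) (BT.leaf (nat_lit 497796)) (BT.leaf (nat_lit 497796))) (BT.node (nat_lit 7950272) (BT.leaf (nat_lit 497796)) (BT.leaf (nat_lit 43002645)))) (BT.node (nat_lit 7950464) (BT.node (nat_lit 7950400) (BT.leaf (nat_lit 48942113)) (BT.leaf (nat_lit 48942357))) (BT.node (nat_lit 7950528) (BT.leaf (nat_lit 36396821)) (BT.leaf (nat_lit 48943125)))))) (BT.node (nat_lit 7951104) (BT.node (nat_lit 7950848) (BT.node (nat_lit 7950720) (BT.node (nat_lit 7950656) (BT.leaf (nat_lit 27526161)) (BT.leaf (nat_lit 48943645))) (BT.node (nat_lit 7950784) (BT.leaf (nat_lit 34969113)) (BT.leaf (nat_lit 23417873)))) (BT.node (nat_lit 7950976) (BT.node (nat_lit 7950912) (BT.leaf (nat_lit 44643869)) (BT.leaf (nat_lit 36191501))) (BT.node (nat_lit 7951040) (BT.leaf (nat_lit 31593497)) (BT.leaf (nat_lit 31342097))))) (BT.node (nat_lit 7951360) (BT.node (nat_lit 7951232) (BT.node (nat_lit 7951168) (BT.leaf (nat_lit 30410261)) (BT.leaf (nat_lit 30410265))) (BT.node (nat_lit 7951296) (BT.leaf (nat_lit 30410269)) (BT.leaf (nat_lit 38251553)))) (BT.node (nat_lit 7951488) (BT.node (nat_lit 7951424) (BT.leaf (nat_lit 31026953)) (BT.leaf (nat_lit 30329869))) (BT.node (nat_lit 7951552) (BT.leaf (nat_lit 29987353)) (BT.leaf (nat_lit 29987357)))))))) (BT.node (nat_lit 7953664) (BT.node (nat_lit 7952640) (BT.node (nat_lit 7952128) (BT.node (nat_lit 7951872) (BT.node (nat_lit 7951744) (BT.node (nat_lit 7951680) (BT.leaf (nat_lit 31161377)) (BT.leaf (nat_lit 37423365))) (BT.node (nat_lit 7951808) (BT.leaf (nat_lit 37423385)) (BT.leaf (nat_lit 37423389)))) (BT.node (nat_lit 7952000) (BT.node (nat_lit 7951936) (BT.leaf (nat_lit 48644365)) (BT.leaf (nat_lit 48644373))) (BT.node (nat_lit 7952064) (BT.leaf (nat_lit 48644381)) (BT.leaf (nat_lit 22873873))))) (BT.node (nat_lit 7952384) (BT.node (nat_lit 7952256) (BT.node (nat_lit 7952192) (BT.leaf (nat_lit 46643217)) (BT.leaf (nat_lit 29197077))) (BT.node (nat_lit 7952320) (BT.leaf (nat_lit 51596825)) (BT.leaf (nat_lit 51596829)))) (BT.node (nat_lit 7952512) (BT.node (nat_lit 7952448) (BT.leaf (nat_lit 31592201)) (BT.leaf (nat_lit 38183453))) (BT.node (nat_lit 7952576) (BT.leaf (nat_lit 48949261)) (BT.leaf (nat_lit 48949765)))))) (BT.node (nat_lit 7953152) (BT.node (nat_lit 7952896) (BT.node (nat_lit 7952768) (BT.node (nat_lit 7952704) (BT.leaf (nat_lit 31032861)) (BT.leaf (nat_lit 43396621))) (BT.node (nat_lit 7952832) (BT.leaf (nat_lit 29486093)) (BT.leaf (nat_lit 24213765)))) (BT.node (nat_lit 7953024) (BT.node (nat_lit 7952960) (BT.leaf (nat_lit 29869845)) (BT.leaf (nat_lit 48950805))) (BT.node (nat_lit 7953088) (BT.leaf (nat_lit 29245965)) (BT.leaf (nat_lit 48951829))))) (BT.node (nat_lit 7953408) (BT.node (nat_lit 7953280) (BT.node (nat_lit 7953216) (BT.leaf (nat_lit 30376213)) (BT.leaf (nat_lit 28498449))) (BT.node (nat_lit 7953344) (BT.leaf (nat_lit 43802389)) (BT.leaf (nat_lit 28768017)))) (BT.node (nat_lit 7953536) (BT.node (nat_lit 7953472) (BT.leaf (nat_lit 44341277)) (BT.leaf (nat_lit 32146957))) (BT.node (nat_lit 7953600) (BT.leaf (nat_lit 31591441)) (BT.leaf (nat_lit 42073365))))))) (BT.node (nat_lit 7954688) (BT.node (nat_lit 7954176) (BT.node (nat_lit 7953920) (BT.node (nat_lit 7953792) (BT.node (nat_lit 7953728) (BT.leaf (nat_lit 33012513)) (BT.leaf (nat_lit 38333977))) (BT.node (nat_lit 7953856) (BT.leaf (nat_lit 28829713)) (BT.leaf (nat_lit 40195077)))) (BT.node (nat_lit 7954048) (BT.node (nat_lit 7953984) (BT.leaf (nat_lit 31026973)) (BT.leaf (nat_lit 47627025))) (BT.node (nat_lit 7954112) (BT.leaf (nat_lit 24214033)) (BT.leaf (nat_lit 31025173))))) (BT.node (nat_lit 7954432) (BT.node (nat_lit 7954304) (BT.node (nat_lit 7954240) (BT.leaf (nat_lit 32961817)) (BT.leaf (nat_lit 31025945))) (BT.node (nat_lit 7954368) (BT.leaf (nat_lit 48758025)) (BT.leaf (nat_lit 48705801)))) (BT.node (nat_lit 7954560) (BT.node (nat_lit 7954496) (BT.leaf (nat_lit 48705805)) (BT.leaf (nat_lit 24215317))) (BT.node (nat_lit 7954624) (BT.leaf (nat_lit 48705817)) (BT.leaf (nat_lit 48705821)))))) (BT.node (nat_lit 7955200) (BT.node (nat_lit 7954944) (BT.node (nat_lit 7954816) (BT.node (nat_lit 7954752) (BT.leaf (nat_lit 30282017)) (BT.leaf (nat_lit 39130117))) (BT.node (nat_lit 7954880) (BT.leaf (nat_lit 28993825)) (BT.leaf (nat_lit 28563977)))) (BT.node (nat_lit 7955072) (BT.node (nat_lit 7955008) (BT.leaf (nat_lit 28563981)) (BT.leaf (nat_lit 28563997))) (BT.node (nat_lit 7955136) (BT.leaf (nat_lit 28564001)) (BT.leaf (nat_lit 28970529))))) (BT.node (nat_lit 7955456) (BT.node (nat_lit 7955328) (BT.node (nat_lit 7955264) (BT.leaf (nat_lit 32589337)) (BT.leaf (nat_lit 43437581))) (BT.node (nat_lit 7955392) (BT.leaf (nat_lit 34109969)) (BT.leaf (nat_lit 39349785)))) (BT.node (nat_lit 7955584) (BT.node (nat_lit 7955520) (BT.leaf (nat_lit 39349789)) (BT.leaf (nat_lit 28851993))) (BT.node (nat_lit 7955648) (BT.leaf (nat_lit 31822861)) (BT.leaf (nat_lit 28852249))))))))))) (BT.node (nat_lit 7972096) (BT.node (nat_lit 7963904) (BT.node (nat_lit 7959808) (BT.node (nat_lit 7957760) (BT.node (nat_lit 7956736) (BT.node (nat_lit 7956224) (BT.node (nat_lit 7955968) (BT.node (nat_lit 7955840) (BT.node (nat_lit 7955776) (BT.leaf (nat_lit 48956693)) (BT.leaf (nat_lit 35846405))) (BT.node (nat_lit 7955904) (BT.leaf (nat_lit 48957465)) (BT.leaf (nat_lit 31270433)))) (BT.node (nat_lit 7956096) (BT.node (nat_lit 7956032) (BT.leaf (nat_lit 24216865)) (BT.leaf (nat_lit 39784457))) (BT.node (nat_lit 7956160) (BT.leaf (nat_lit 30442529)) (BT.leaf (nat_lit 28416033))))) (BT.node (nat_lit 7956480) (BT.node (nat_lit 7956352) (BT.node (nat_lit 7956288) (BT.leaf (nat_lit 40829209)) (BT.leaf (nat_lit 48958741))) (BT.node (nat_lit 7956416) (BT.leaf (nat_lit 35022085)) (BT.leaf (nat_lit 24397333)))) (BT.node (nat_lit 7956608) (BT.node (nat_lit 7956544) (BT.leaf (nat_lit 48960261)) (BT.leaf (nat_lit 24633113))) (BT.node (nat_lit 7956672) (BT.leaf (nat_lit 24217369)) (BT.leaf (nat_lit 24217625)))))) (BT.node (nat_lit 7957248) (BT.node (nat_lit 7956992) (BT.node (nat_lit 7956864) (BT.node (nat_lit 7956800) (BT.leaf (nat_lit 32308745)) (BT.leaf (nat_lit 34994949))) (BT.node (nat_lit 7956928) (BT.leaf (nat_lit 24217373)) (BT.leaf (nat_lit 24217629)))) (BT.node (nat_lit 7957120) (BT.node (nat_lit 7957056) (BT.leaf (nat_lit 32571937)) (BT.leaf (nat_lit 48441117))) (BT.node (nat_lit 7957184) (BT.leaf (nat_lit 48961557)) (BT.leaf (nat_lit 42762273))))) (BT.node (nat_lit 7957504) (BT.node (nat_lit 7957376) (BT.node (nat_lit 7957312) (BT.leaf (nat_lit 42760481)) (BT.leaf (nat_lit 31834381))) (BT.node (nat_lit 7957440) (BT.leaf (nat_lit 29806601)) (BT.leaf (nat_lit 39366405)))) (BT.node (nat_lit 7957632) (BT.node (nat_lit 7957568) (BT.leaf (nat_lit 29145625)) (BT.leaf (nat_lit 31825161))) (BT.node (nat_lit 7957696) (BT.leaf (nat_lit 48962337)) (BT.leaf (nat_lit 27502873))))))) (BT.node (nat_lit 7958784) (BT.node (nat_lit 7958272) (BT.node (nat_lit 7958016) (BT.node (nat_lit 7957888) (BT.node (nat_lit 7957824) (BT.leaf (nat_lit 27502877)) (BT.leaf (nat_lit 39126285))) (BT.node (nat_lit 7957952) (BT.leaf (nat_lit 51230493)) (BT.leaf (nat_lit 44695301)))) (BT.node (nat_lit 7958144) (BT.node (nat_lit 7958080) (BT.leaf (nat_lit 40477217)) (BT.leaf (nat_lit 29806617))) (BT.node (nat_lit 7958208) (BT.leaf (nat_lit 29806621)) (BT.leaf (nat_lit 24220185))))) (BT.node (nat_lit 7958528) (BT.node (nat_lit 7958400) (BT.node (nat_lit 7958336) (BT.leaf (nat_lit 40907297)) (BT.leaf (nat_lit 48963357))) (BT.node (nat_lit 7958464) (BT.leaf (nat_lit 47427589)) (BT.leaf (nat_lit 24221461)))) (BT.node (nat_lit 7958656) (BT.node (nat_lit 7958592) (BT.leaf (nat_lit 44700449)) (BT.leaf (nat_lit 48964885))) (BT.node (nat_lit 7958720) (BT.leaf (nat_lit 43474465)) (BT.leaf (nat_lit 30692873)))))) (BT.node (nat_lit 7959296) (BT.node (nat_lit 7959040) (BT.node (nat_lit 7958912) (BT.node (nat_lit 7958848) (BT.leaf (nat_lit 34468629)) (BT.leaf (nat_lit 48966433))) (BT.node (nat_lit 7958976) (BT.leaf (nat_lit 47321629)) (BT.leaf (nat_lit 47365149)))) (BT.node (nat_lit 7959168) (BT.node (nat_lit 7959104) (BT.leaf (nat_lit 47365129)) (BT.leaf (nat_lit 31836185))) (BT.node (nat_lit 7959232) (BT.leaf (nat_lit 24411425)) (BT.leaf (nat_lit 28464405))))) (BT.node (nat_lit 7959552) (BT.node (nat_lit 7959424) (BT.node (nat_lit 7959360) (BT.leaf (nat_lit 24355345)) (BT.leaf (nat_lit 48968713))) (BT.node (nat_lit 7959488) (BT.leaf (nat_lit 25932825)) (BT.leaf (nat_lit 25932829)))) (BT.node (nat_lit 7959680) (BT.node (nat_lit 7959616) (BT.leaf (nat_lit 24226321)) (BT.leaf (nat_lit 49133573))) (BT.node (nat_lit 7959744) (BT.leaf (nat_lit 31838489)) (BT.leaf (nat_lit 23082257)))))))) (BT.node (nat_lit 7961856) (BT.node (nat_lit 7960832) (BT.node (nat_lit 7960320) (BT.node (nat_lit 7960064) (BT.node (nat_lit 7959936) (BT.node (nat_lit 7959872) (BT.leaf (nat_lit 29530889)) (BT.leaf (nat_lit 29530893))) (BT.node (nat_lit 7960000) (BT.leaf (nat_lit 47516697)) (BT.leaf (nat_lit 29530909)))) (BT.node (nat_lit 7960192) (BT.node (nat_lit 7960128) (BT.leaf (nat_lit 48970265)) (BT.leaf (nat_lit 25629721))) (BT.node (nat_lit 7960256) (BT.leaf (nat_lit 32764693)) (BT.leaf (nat_lit 32764697))))) (BT.node (nat_lit 7960576) (BT.node (nat_lit 7960448) (BT.node (nat_lit 7960384) (BT.leaf (nat_lit 24751641)) (BT.leaf (nat_lit 24471317))) (BT.node (nat_lit 7960512) (BT.leaf (nat_lit 24471321)) (BT.leaf (nat_lit 43587605)))) (BT.node (nat_lit 7960704) (BT.node (nat_lit 7960640) (BT.leaf (nat_lit 29510153)) (BT.leaf (nat_lit 23084305))) (BT.node (nat_lit 7960768) (BT.leaf (nat_lit 48972813)) (BT.leaf (nat_lit 48973333)))))) (BT.node (nat_lit 7961344) (BT.node (nat_lit 7961088) (BT.node (nat_lit 7960960) (BT.node (nat_lit 7960896) (BT.leaf (nat_lit 48973589)) (BT.leaf (nat_lit 22680081))) (BT.node (nat_lit 7961024) (BT.leaf (nat_lit 24228885)) (BT.leaf (nat_lit 32802313)))) (BT.node (nat_lit 7961216) (BT.node (nat_lit 7961152) (BT.leaf (nat_lit 32802333)) (BT.leaf (nat_lit 36207121))) (BT.node (nat_lit 7961280) (BT.leaf (nat_lit 31640589)) (BT.leaf (nat_lit 39421973))))) (BT.node (nat_lit 7961600) (BT.node (nat_lit 7961472) (BT.node (nat_lit 7961408) (BT.leaf (nat_lit 27746849)) (BT.leaf (nat_lit 51837445))) (BT.node (nat_lit 7961536) (BT.leaf (nat_lit 24230417)) (BT.leaf (nat_lit 24230929)))) (BT.node (nat_lit 7961728) (BT.node (nat_lit 7961664) (BT.leaf (nat_lit 23086613)) (BT.leaf (nat_lit 27316245))) (BT.node (nat_lit 7961792) (BT.leaf (nat_lit 37075469)) (BT.leaf (nat_lit 29882645))))))) (BT.node (nat_lit 7962880) (BT.node (nat_lit 7962368) (BT.node (nat_lit 7962112) (BT.node (nat_lit 7961984) (BT.node (nat_lit 7961920) (BT.leaf (nat_lit 35648273)) (BT.leaf (nat_lit 31570461))) (BT.node (nat_lit 7962048) (BT.leaf (nat_lit 47335693)) (BT.leaf (nat_lit 26434069)))) (BT.node (nat_lit 7962240) (BT.node (nat_lit 7962176) (BT.leaf (nat_lit 26434321)) (BT.leaf (nat_lit 48976649))) (BT.node (nat_lit 7962304) (BT.leaf (nat_lit 31849229)) (BT.leaf (nat_lit 48977429))))) (BT.node (nat_lit 7962624) (BT.node (nat_lit 7962496) (BT.node (nat_lit 7962432) (BT.leaf (nat_lit 30031637)) (BT.leaf (nat_lit 30031881))) (BT.node (nat_lit 7962560) (BT.leaf (nat_lit 24233745)) (BT.leaf (nat_lit 25885193)))) (BT.node (nat_lit 7962752) (BT.node (nat_lit 7962688) (BT.leaf (nat_lit 36158733)) (BT.leaf (nat_lit 48978961))) (BT.node (nat_lit 7962816) (BT.leaf (nat_lit 24235017)) (BT.leaf (nat_lit 24071697)))))) (BT.node (nat_lit 7963392) (BT.node (nat_lit 7963136) (BT.node (nat_lit 7963008) (BT.node (nat_lit 7962944) (BT.leaf (nat_lit 51320849)) (BT.leaf (nat_lit 31125789))) (BT.node (nat_lit 7963072) (BT.leaf (nat_lit 29219345)) (BT.leaf (nat_lit 24236049)))) (BT.node (nat_lit 7963264) (BT.node (nat_lit 7963200) (BT.leaf (nat_lit 42991125)) (BT.leaf (nat_lit 40414753))) (BT.node (nat_lit 7963328) (BT.leaf (nat_lit 33438497)) (BT.leaf (nat_lit 28209677))))) (BT.node (nat_lit 7963648) (BT.node (nat_lit 7963520) (BT.node (nat_lit 7963456) (BT.leaf (nat_lit 31847445)) (BT.leaf (nat_lit 26805013))) (BT.node (nat_lit 7963584) (BT.leaf (nat_lit 47656209)) (BT.leaf (nat_lit 30856201)))) (BT.node (nat_lit 7963776) (BT.node (nat_lit 7963712) (BT.leaf (nat_lit 51490317)) (BT.leaf (nat_lit 33775393))) (BT.node (nat_lit 7963840) (BT.leaf (nat_lit 29473797)) (BT.leaf (nat_lit 23096849))))))))) (BT.node (nat_lit 7968064) (BT.node (nat_lit 7966016) (BT.node (nat_lit 7964992) (BT.node (nat_lit 7964416) (BT.node (nat_lit 7964160) (BT.node (nat_lit 7964032) (BT.node (nat_lit 7963968) (BT.leaf (nat_lit 47845897)) (BT.leaf (nat_lit 47492129))) (BT.node (nat_lit 7964096) (BT.leaf (nat_lit 47491873)) (BT.leaf (nat_lit 25759765)))) (BT.node (nat_lit 7964288) (BT.node (nat_lit 7964224) (BT.leaf (nat_lit 48984849)) (BT.leaf (nat_lit 48985113))) (BT.node (nat_lit 7964352) (BT.leaf (nat_lit 43989253)) (BT.leaf (nat_lit 31837457))))) (BT.node (nat_lit 7964672) (BT.node (nat_lit 7964544) (BT.node (nat_lit 7964480) (BT.leaf (nat_lit 31456777)) (BT.leaf (nat_lit 48986901))) (BT.node (nat_lit 7964608) (BT.leaf (nat_lit 24263177)) (BT.leaf (nat_lit 29525781)))) (BT.node (nat_lit 7964864) (BT.node (nat_lit 7964800) (BT.leaf (nat_lit 48987681)) (BT.leaf (nat_lit 34831629))) (BT.node (nat_lit 7964928) (BT.leaf (nat_lit 48985885)) (BT.leaf (nat_lit 47176981)))))) (BT.node (nat_lit 7965504) (BT.node (nat_lit 7965248) (BT.node (nat_lit 7965120) (BT.node (nat_lit 7965056) (BT.leaf (nat_lit 39267589)) (BT.leaf (nat_lit 24263957))) (BT.node (nat_lit 7965184) (BT.leaf (nat_lit 24240665)) (BT.leaf (nat_lit 41302021)))) (BT.node (nat_lit 7965376) (BT.node (nat_lit 7965312) (BT.leaf (nat_lit 41387277)) (BT.leaf (nat_lit 48989457))) (BT.node (nat_lit 7965440) (BT.leaf (nat_lit 24240669)) (BT.leaf (nat_lit 48989473))))) (BT.node (nat_lit 7965760) (BT.node (nat_lit 7965632) (BT.node (nat_lit 7965568) (BT.leaf (nat_lit 24678433)) (BT.leaf (nat_lit 29484805))) (BT.node (nat_lit 7965696) (BT.leaf (nat_lit 47168261)) (BT.leaf (nat_lit 48989965)))) (BT.node (nat_lit 7965888) (BT.node (nat_lit 7965824) (BT.leaf (nat_lit 47168281)) (BT.leaf (nat_lit 48990997))) (BT.node (nat_lit 7965952) (BT.leaf (nat_lit 24241169)) (BT.leaf (nat_lit 25933061))))))) (BT.node (nat_lit 7967040) (BT.node (nat_lit 7966528) (BT.node (nat_lit 7966272) (BT.node (nat_lit 7966144) (BT.node (nat_lit 7966080) (BT.leaf (nat_lit 25933073)) (BT.leaf (nat_lit 48990477))) (BT.node (nat_lit 7966208) (BT.leaf (nat_lit 24242461)) (BT.leaf (nat_lit 29448717)))) (BT.node (nat_lit 7966400) (BT.node (nat_lit 7966336) (BT.leaf (nat_lit 24226581)) (BT.leaf (nat_lit 29448729))) (BT.node (nat_lit 7966464) (BT.leaf (nat_lit 41968149)) (BT.leaf (nat_lit 25274649))))) (BT.node (nat_lit 7966784) (BT.node (nat_lit 7966656) (BT.node (nat_lit 7966592) (BT.leaf (nat_lit 41393177)) (BT.leaf (nat_lit 32645917))) (BT.node (nat_lit 7966720) (BT.leaf (nat_lit 25939741)) (BT.leaf (nat_lit 23109913)))) (BT.node (nat_lit 7966912) (BT.node (nat_lit 7966848) (BT.leaf (nat_lit 25274145)) (BT.leaf (nat_lit 24242961))) (BT.node (nat_lit 7966976) (BT.leaf (nat_lit 29382425)) (BT.leaf (nat_lit 29382429)))))) (BT.node (nat_lit 7967552) (BT.node (nat_lit 7967296) (BT.node (nat_lit 7967168) (BT.node (nat_lit 7967104) (BT.leaf (nat_lit 47166993)) (BT.leaf (nat_lit 32957469))) (BT.node (nat_lit 7967232) (BT.leaf (nat_lit 41100805)) (BT.leaf (nat_lit 41100817)))) (BT.node (nat_lit 7967424) (BT.node (nat_lit 7967360) (BT.leaf (nat_lit 28463389)) (BT.leaf (nat_lit 26710813))) (BT.node (nat_lit 7967488) (BT.leaf (nat_lit 28462865)) (BT.leaf (nat_lit 28463385))))) (BT.node (nat_lit 7967808) (BT.node (nat_lit 7967680) (BT.node (nat_lit 7967616) (BT.leaf (nat_lit 48740121)) (BT.leaf (nat_lit 42235665))) (BT.node (nat_lit 7967744) (BT.leaf (nat_lit 28151569)) (BT.leaf (nat_lit 34133269)))) (BT.node (nat_lit 7967936) (BT.node (nat_lit 7967872) (BT.leaf (nat_lit 35831301)) (BT.leaf (nat_lit 34133277))) (BT.node (nat_lit 7968000) (BT.leaf (nat_lit 30064149)) (BT.leaf (nat_lit 30064153)))))))) (BT.node (nat_lit 7970048) (BT.node (nat_lit 7969024) (BT.node (nat_lit 7968576) (BT.node (nat_lit 7968320) (BT.node (nat_lit 7968192) (BT.node (nat_lit 7968128) (BT.leaf (nat_lit 30064157)) (BT.leaf (nat_lit 28446497))) (BT.node (nat_lit 7968256) (BT.leaf (nat_lit 28446725)) (BT.leaf (nat_lit 29553925)))) (BT.node (nat_lit 7968448) (BT.node (nat_lit 7968384) (BT.leaf (nat_lit 24247057)) (BT.leaf (nat_lit 24246545))) (BT.node (nat_lit 7968512) (BT.leaf (nat_lit 31384353)) (BT.leaf (nat_lit 24701701))))) (BT.node (nat_lit 7968772) (BT.node (nat_lit 7968704) (BT.node (nat_lit 7968640) (BT.leaf (nat_lit 24247313)) (BT.leaf (nat_lit 48999437))) (BT.node (nat_lit 7968768) (BT.leaf (nat_lit 24701721)) (BT.leaf (nat_lit 24701725)))) (BT.node (nat_lit 7968896) (BT.node (nat_lit 7968832) (BT.leaf (nat_lit 507456)) (BT.leaf (nat_lit 40006933))) (BT.node (nat_lit 7968960) (BT.leaf (nat_lit 29385233)) (BT.leaf (nat_lit 35038469)))))) (BT.node (nat_lit 7969536) (BT.node (nat_lit 7969280) (BT.node (nat_lit 7969152) (BT.node (nat_lit 7969088) (BT.leaf (nat_lit 32043537)) (BT.leaf (nat_lit 24248597))) (BT.node (nat_lit 7969216) (BT.leaf (nat_lit 31890953)) (BT.leaf (nat_lit 31890957)))) (BT.node (nat_lit 7969408) (BT.node (nat_lit 7969344) (BT.leaf (nat_lit 31957529)) (BT.leaf (nat_lit 31890969))) (BT.node (nat_lit 7969472) (BT.leaf (nat_lit 31890973)) (BT.leaf (nat_lit 31890977))))) (BT.node (nat_lit 7969792) (BT.node (nat_lit 7969664) (BT.node (nat_lit 7969600) (BT.leaf (nat_lit 46765849)) (BT.leaf (nat_lit 34508041))) (BT.node (nat_lit 7969728) (BT.leaf (nat_lit 39595537)) (BT.leaf (nat_lit 49004821)))) (BT.node (nat_lit 7969920) (BT.node (nat_lit 7969856) (BT.leaf (nat_lit 30227997)) (BT.leaf (nat_lit 31879709))) (BT.node (nat_lit 7969984) (BT.leaf (nat_lit 49710093)) (BT.leaf (nat_lit 36883717))))))) (BT.node (nat_lit 7971072) (BT.node (nat_lit 7970560) (BT.node (nat_lit 7970304) (BT.node (nat_lit 7970176) (BT.node (nat_lit 7970112) (BT.leaf (nat_lit 23090961)) (BT.leaf (nat_lit 36883733))) (BT.node (nat_lit 7970240) (BT.leaf (nat_lit 49006093)) (BT.leaf (nat_lit 42993161)))) (BT.node (nat_lit 7970432) (BT.node (nat_lit 7970368) (BT.leaf (nat_lit 24250385)) (BT.leaf (nat_lit 28693769))) (BT.node (nat_lit 7970496) (BT.leaf (nat_lit 28693773)) (BT.leaf (nat_lit 28693777))))) (BT.node (nat_lit 7970816) (BT.node (nat_lit 7970688) (BT.node (nat_lit 7970624) (BT.leaf (nat_lit 28693785)) (BT.leaf (nat_lit 28693789))) (BT.node (nat_lit 7970752) (BT.leaf (nat_lit 28693793)) (BT.leaf (nat_lit 24229657)))) (BT.node (nat_lit 7970944) (BT.node (nat_lit 7970880) (BT.leaf (nat_lit 40171797)) (BT.leaf (nat_lit 24062237))) (BT.node (nat_lit 7971008) (BT.leaf (nat_lit 24229661)) (BT.leaf (nat_lit 32810253)))))) (BT.node (nat_lit 7971584) (BT.node (nat_lit 7971328) (BT.node (nat_lit 7971200) (BT.node (nat_lit 7971136) (BT.leaf (nat_lit 24062233)) (BT.leaf (nat_lit 33981717))) (BT.node (nat_lit 7971264) (BT.leaf (nat_lit 52063765)) (BT.leaf (nat_lit 33981725)))) (BT.node (nat_lit 7971456) (BT.node (nat_lit 7971392) (BT.leaf (nat_lit 31853577)) (BT.leaf (nat_lit 31853581))) (BT.node (nat_lit 7971520) (BT.leaf (nat_lit 50649621)) (BT.leaf (nat_lit 31853593))))) (BT.node (nat_lit 7971840) (BT.node (nat_lit 7971712) (BT.node (nat_lit 7971648) (BT.leaf (nat_lit 33060881)) (BT.leaf (nat_lit 28209697))) (BT.node (nat_lit 7971776) (BT.leaf (nat_lit 23129617)) (BT.leaf (nat_lit 24253457)))) (BT.node (nat_lit 7971968) (BT.node (nat_lit 7971904) (BT.leaf (nat_lit 29510173)) (BT.leaf (nat_lit 32655877))) (BT.node (nat_lit 7972032) (BT.leaf (nat_lit 46983177)) (BT.leaf (nat_lit 24268569)))))))))) (BT.node (nat_lit 7980416) (BT.node (nat_lit 7976320) (BT.node (nat_lit 7974272) (BT.node (nat_lit 7973248) (BT.node (nat_lit 7972608) (BT.node (nat_lit 7972352) (BT.node (nat_lit 7972224) (BT.node (nat_lit 7972160) (BT.leaf (nat_lit 40689953)) (BT.leaf (nat_lit 25625361))) (BT.node (nat_lit 7972288) (BT.leaf (nat_lit 40710933)) (BT.leaf (nat_lit 25625365)))) (BT.node (nat_lit 7972480) (BT.node (nat_lit 7972416) (BT.leaf (nat_lit 44155161)) (BT.leaf (nat_lit 24272149))) (BT.node (nat_lit 7972544) (BT.leaf (nat_lit 41331461)) (BT.leaf (nat_lit 44982797))))) (BT.node (nat_lit 7972992) (BT.node (nat_lit 7972736) (BT.node (nat_lit 7972672) (BT.leaf (nat_lit 47350805)) (BT.leaf (nat_lit 35773957))) (BT.node (nat_lit 7972800) (BT.leaf (nat_lit 36364833)) (BT.leaf (nat_lit 33791001)))) (BT.node (nat_lit 7973120) (BT.node (nat_lit 7973056) (BT.leaf (nat_lit 24255241)) (BT.leaf (nat_lit 24229141))) (BT.node (nat_lit 7973184) (BT.leaf (nat_lit 36210461)) (BT.leaf (nat_lit 41359109)))))) (BT.node (nat_lit 7973760) (BT.node (nat_lit 7973504) (BT.node (nat_lit 7973376) (BT.node (nat_lit 7973312) (BT.leaf (nat_lit 24255249)) (BT.leaf (nat_lit 25769245))) (BT.node (nat_lit 7973440) (BT.leaf (nat_lit 25780233)) (BT.leaf (nat_lit 25780253)))) (BT.node (nat_lit 7973632) (BT.node (nat_lit 7973568) (BT.leaf (nat_lit 29513249)) (BT.leaf (nat_lit 24256017))) (BT.node (nat_lit 7973696) (BT.leaf (nat_lit 41237253)) (BT.leaf (nat_lit 23147025))))) (BT.node (nat_lit 7974016) (BT.node (nat_lit 7973888) (BT.node (nat_lit 7973824) (BT.leaf (nat_lit 27140101)) (BT.leaf (nat_lit 26590981))) (BT.node (nat_lit 7973952) (BT.leaf (nat_lit 27139865)) (BT.leaf (nat_lit 27432465)))) (BT.node (nat_lit 7974144) (BT.node (nat_lit 7974080) (BT.leaf (nat_lit 24256285)) (BT.leaf (nat_lit 32784389))) (BT.node (nat_lit 7974208) (BT.leaf (nat_lit 38144265)) (BT.leaf (nat_lit 24256281))))))) (BT.node (nat_lit 7975296) (BT.node (nat_lit 7974784) (BT.node (nat_lit 7974528) (BT.node (nat_lit 7974400) (BT.node (nat_lit 7974336) (BT.leaf (nat_lit 29698833)) (BT.leaf (nat_lit 44778017))) (BT.node (nat_lit 7974464) (BT.leaf (nat_lit 44774945)) (BT.leaf (nat_lit 44775429)))) (BT.node (nat_lit 7974656) (BT.node (nat_lit 7974592) (BT.leaf (nat_lit 24244757)) (BT.leaf (nat_lit 50491913))) (BT.node (nat_lit 7974720) (BT.leaf (nat_lit 50491917)) (BT.leaf (nat_lit 34774301))))) (BT.node (nat_lit 7975040) (BT.node (nat_lit 7974912) (BT.node (nat_lit 7974848) (BT.leaf (nat_lit 50491929)) (BT.leaf (nat_lit 50491933))) (BT.node (nat_lit 7974976) (BT.leaf (nat_lit 50491937)) (BT.leaf (nat_lit 49017873)))) (BT.node (nat_lit 7975168) (BT.node (nat_lit 7975104) (BT.leaf (nat_lit 41290785)) (BT.leaf (nat_lit 37938205))) (BT.node (nat_lit 7975232) (BT.leaf (nat_lit 32063761)) (BT.leaf (nat_lit 28839705)))))) (BT.node (nat_lit 7975808) (BT.node (nat_lit 7975552) (BT.node (nat_lit 7975424) (BT.node (nat_lit 7975360) (BT.leaf (nat_lit 28839709)) (BT.leaf (nat_lit 24240661))) (BT.node (nat_lit 7975488) (BT.leaf (nat_lit 28950277)) (BT.leaf (nat_lit 28950289)))) (BT.node (nat_lit 7975680) (BT.node (nat_lit 7975616) (BT.leaf (nat_lit 24261917)) (BT.leaf (nat_lit 31456773))) (BT.node (nat_lit 7975744) (BT.leaf (nat_lit 31456785)) (BT.leaf (nat_lit 31456789))))) (BT.node (nat_lit 7976064) (BT.node (nat_lit 7975936) (BT.node (nat_lit 7975872) (BT.leaf (nat_lit 24263197)) (BT.leaf (nat_lit 49021217))) (BT.node (nat_lit 7976000) (BT.leaf (nat_lit 24263193)) (BT.leaf (nat_lit 47491101)))) (BT.node (nat_lit 7976192) (BT.node (nat_lit 7976128) (BT.leaf (nat_lit 31839765)) (BT.leaf (nat_lit 24226837))) (BT.node (nat_lit 7976256) (BT.leaf (nat_lit 24263441)) (BT.leaf (nat_lit 47491081)))))))) (BT.node (nat_lit 7978368) (BT.node (nat_lit 7977344) (BT.node (nat_lit 7976832) (BT.node (nat_lit 7976576) (BT.node (nat_lit 7976448) (BT.node (nat_lit 7976384) (BT.leaf (nat_lit 38761233)) (BT.leaf (nat_lit 25954333))) (BT.node (nat_lit 7976512) (BT.leaf (nat_lit 31839517)) (BT.leaf (nat_lit 25301281)))) (BT.node (nat_lit 7976704) (BT.node (nat_lit 7976640) (BT.leaf (nat_lit 24263457)) (BT.leaf (nat_lit 24263713))) (BT.node (nat_lit 7976768) (BT.leaf (nat_lit 32669473)) (BT.leaf (nat_lit 26720541))))) (BT.node (nat_lit 7977088) (BT.node (nat_lit 7976960) (BT.node (nat_lit 7976896) (BT.leaf (nat_lit 24263965)) (BT.leaf (nat_lit 41380129))) (BT.node (nat_lit 7977024) (BT.leaf (nat_lit 24264473)) (BT.leaf (nat_lit 29533957)))) (BT.node (nat_lit 7977216) (BT.node (nat_lit 7977152) (BT.leaf (nat_lit 31321093)) (BT.leaf (nat_lit 27767557))) (BT.node (nat_lit 7977280) (BT.leaf (nat_lit 49026833)) (BT.leaf (nat_lit 30858001)))))) (BT.node (nat_lit 7977856) (BT.node (nat_lit 7977600) (BT.node (nat_lit 7977472) (BT.node (nat_lit 7977408) (BT.leaf (nat_lit 47519265)) (BT.leaf (nat_lit 29202713))) (BT.node (nat_lit 7977536) (BT.leaf (nat_lit 32395289)) (BT.leaf (nat_lit 30105869)))) (BT.node (nat_lit 7977728) (BT.node (nat_lit 7977664) (BT.leaf (nat_lit 30105881)) (BT.leaf (nat_lit 30105885))) (BT.node (nat_lit 7977792) (BT.leaf (nat_lit 28297745)) (BT.leaf (nat_lit 28698393))))) (BT.node (nat_lit 7978112) (BT.node (nat_lit 7977984) (BT.node (nat_lit 7977920) (BT.leaf (nat_lit 28698397)) (BT.leaf (nat_lit 47366929))) (BT.node (nat_lit 7978048) (BT.leaf (nat_lit 32392989)) (BT.leaf (nat_lit 30921993)))) (BT.node (nat_lit 7978240) (BT.node (nat_lit 7978176) (BT.leaf (nat_lit 27338249)) (BT.leaf (nat_lit 27338253))) (BT.node (nat_lit 7978304) (BT.leaf (nat_lit 25777941)) (BT.leaf (nat_lit 49031441))))))) (BT.node (nat_lit 7979392) (BT.node (nat_lit 7978880) (BT.node (nat_lit 7978624) (BT.node (nat_lit 7978496) (BT.node (nat_lit 7978432) (BT.leaf (nat_lit 47261201)) (BT.leaf (nat_lit 34678793))) (BT.node (nat_lit 7978560) (BT.leaf (nat_lit 47586329)) (BT.leaf (nat_lit 24266001)))) (BT.node (nat_lit 7978752) (BT.node (nat_lit 7978688) (BT.leaf (nat_lit 28564761)) (BT.leaf (nat_lit 28564765))) (BT.node (nat_lit 7978816) (BT.leaf (nat_lit 38511113)) (BT.leaf (nat_lit 30981397))))) (BT.node (nat_lit 7979136) (BT.node (nat_lit 7979008) (BT.node (nat_lit 7978944) (BT.leaf (nat_lit 30981649)) (BT.leaf (nat_lit 37683989))) (BT.node (nat_lit 7979072) (BT.leaf (nat_lit 27251221)) (BT.leaf (nat_lit 37683997)))) (BT.node (nat_lit 7979264) (BT.node (nat_lit 7979200) (BT.leaf (nat_lit 40893717)) (BT.leaf (nat_lit 39733265))) (BT.node (nat_lit 7979328) (BT.leaf (nat_lit 49036569)) (BT.leaf (nat_lit 29777681)))))) (BT.node (nat_lit 7979904) (BT.node (nat_lit 7979648) (BT.node (nat_lit 7979520) (BT.node (nat_lit 7979456) (BT.leaf (nat_lit 34508061)) (BT.leaf (nat_lit 23891221))) (BT.node (nat_lit 7979584) (BT.leaf (nat_lit 24705029)) (BT.leaf (nat_lit 35231749)))) (BT.node (nat_lit 7979776) (BT.node (nat_lit 7979712) (BT.leaf (nat_lit 28074769)) (BT.leaf (nat_lit 23147801))) (BT.node (nat_lit 7979840) (BT.leaf (nat_lit 44706069)) (BT.leaf (nat_lit 49038365))))) (BT.node (nat_lit 7980160) (BT.node (nat_lit 7980032) (BT.node (nat_lit 7979968) (BT.leaf (nat_lit 25769225)) (BT.leaf (nat_lit 31946513))) (BT.node (nat_lit 7980096) (BT.leaf (nat_lit 24271633)) (BT.leaf (nat_lit 36311069)))) (BT.node (nat_lit 7980288) (BT.node (nat_lit 7980224) (BT.leaf (nat_lit 29558049)) (BT.leaf (nat_lit 27163141))) (BT.node (nat_lit 7980352) (BT.leaf (nat_lit 29502989)) (BT.leaf (nat_lit 26602757))))))))) (BT.node (nat_lit 7984512) (BT.node (nat_lit 7982464) (BT.node (nat_lit 7981440) (BT.node (nat_lit 7980928) (BT.node (nat_lit 7980672) (BT.node (nat_lit 7980544) (BT.node (nat_lit 7980480) (BT.leaf (nat_lit 27162905)) (BT.leaf (nat_lit 24272153))) (BT.node (nat_lit 7980608) (BT.leaf (nat_lit 24272413)) (BT.leaf (nat_lit 36364293)))) (BT.node (nat_lit 7980800) (BT.node (nat_lit 7980736) (BT.leaf (nat_lit 47292425)) (BT.leaf (nat_lit 24272409))) (BT.node (nat_lit 7980864) (BT.leaf (nat_lit 38499081)) (BT.leaf (nat_lit 44225557))))) (BT.node (nat_lit 7981184) (BT.node (nat_lit 7981056) (BT.node (nat_lit 7980992) (BT.leaf (nat_lit 49042713)) (BT.leaf (nat_lit 24273425))) (BT.node (nat_lit 7981120) (BT.leaf (nat_lit 47847189)) (BT.leaf (nat_lit 38362889)))) (BT.node (nat_lit 7981312) (BT.node (nat_lit 7981248) (BT.leaf (nat_lit 24274705)) (BT.leaf (nat_lit 38353425))) (BT.node (nat_lit 7981376) (BT.leaf (nat_lit 32764441)) (BT.leaf (nat_lit 32764445)))))) (BT.node (nat_lit 7981952) (BT.node (nat_lit 7981696) (BT.node (nat_lit 7981568) (BT.node (nat_lit 7981504) (BT.leaf (nat_lit 38353429)) (BT.leaf (nat_lit 35020569))) (BT.node (nat_lit 7981632) (BT.leaf (nat_lit 35275281)) (BT.leaf (nat_lit 33436961)))) (BT.node (nat_lit 7981824) (BT.node (nat_lit 7981760) (BT.leaf (nat_lit 24275217)) (BT.leaf (nat_lit 43600673))) (BT.node (nat_lit 7981888) (BT.leaf (nat_lit 30063893)) (BT.leaf (nat_lit 30063897))))) (BT.node (nat_lit 7982208) (BT.node (nat_lit 7982080) (BT.node (nat_lit 7982016) (BT.leaf (nat_lit 30063901)) (BT.leaf (nat_lit 38170633))) (BT.node (nat_lit 7982144) (BT.leaf (nat_lit 38170641)) (BT.leaf (nat_lit 38170649)))) (BT.node (nat_lit 7982336) (BT.node (nat_lit 7982272) (BT.leaf (nat_lit 38170653)) (BT.leaf (nat_lit 38170657))) (BT.node (nat_lit 7982400) (BT.leaf (nat_lit 25394713)) (BT.leaf (nat_lit 30927125))))))) (BT.node (nat_lit 7983488) (BT.node (nat_lit 7982976) (BT.node (nat_lit 7982720) (BT.node (nat_lit 7982592) (BT.node (nat_lit 7982528) (BT.leaf (nat_lit 27349533)) (BT.leaf (nat_lit 41623841))) (BT.node (nat_lit 7982656) (BT.leaf (nat_lit 29574421)) (BT.leaf (nat_lit 30741777)))) (BT.node (nat_lit 7982848) (BT.node (nat_lit 7982784) (BT.leaf (nat_lit 38398753)) (BT.leaf (nat_lit 30763553))) (BT.node (nat_lit 7982912) (BT.leaf (nat_lit 29771281)) (BT.leaf (nat_lit 44624417))))) (BT.node (nat_lit 7983232) (BT.node (nat_lit 7983104) (BT.node (nat_lit 7983040) (BT.leaf (nat_lit 24793877)) (BT.leaf (nat_lit 24278301))) (BT.node (nat_lit 7983168) (BT.leaf (nat_lit 27620117)) (BT.leaf (nat_lit 30498069)))) (BT.node (nat_lit 7983360) (BT.node (nat_lit 7983296) (BT.leaf (nat_lit 31269649)) (BT.leaf (nat_lit 23890973))) (BT.node (nat_lit 7983424) (BT.leaf (nat_lit 29654545)) (BT.leaf (nat_lit 27298069)))))) (BT.node (nat_lit 7984000) (BT.node (nat_lit 7983744) (BT.node (nat_lit 7983616) (BT.node (nat_lit 7983552) (BT.leaf (nat_lit 24279569)) (BT.leaf (nat_lit 24279313))) (BT.node (nat_lit 7983680) (BT.leaf (nat_lit 43190789)) (BT.leaf (nat_lit 49054225)))) (BT.node (nat_lit 7983872) (BT.node (nat_lit 7983808) (BT.leaf (nat_lit 24446989)) (BT.leaf (nat_lit 27506197))) (BT.node (nat_lit 7983936) (BT.leaf (nat_lit 27507989)) (BT.leaf (nat_lit 24447009))))) (BT.node (nat_lit 7984256) (BT.node (nat_lit 7984128) (BT.node (nat_lit 7984064) (BT.leaf (nat_lit 49055509)) (BT.leaf (nat_lit 38043653))) (BT.node (nat_lit 7984192) (BT.leaf (nat_lit 44468749)) (BT.leaf (nat_lit 46800153)))) (BT.node (nat_lit 7984384) (BT.node (nat_lit 7984320) (BT.leaf (nat_lit 46800157)) (BT.leaf (nat_lit 32016161))) (BT.node (nat_lit 7984448) (BT.leaf (nat_lit 32016417)) (BT.leaf (nat_lit 32016673)))))))) (BT.node (nat_lit 7986560) (BT.node (nat_lit 7985536) (BT.node (nat_lit 7985024) (BT.node (nat_lit 7984768) (BT.node (nat_lit 7984640) (BT.node (nat_lit 7984576) (BT.leaf (nat_lit 47590673)) (BT.leaf (nat_lit 24429333))) (BT.node (nat_lit 7984704) (BT.leaf (nat_lit 28197905)) (BT.leaf (nat_lit 31938585)))) (BT.node (nat_lit 7984896) (BT.node (nat_lit 7984832) (BT.leaf (nat_lit 49057553)) (BT.leaf (nat_lit 49058309))) (BT.node (nat_lit 7984960) (BT.leaf (nat_lit 39186957)) (BT.leaf (nat_lit 49058581))))) (BT.node (nat_lit 7985280) (BT.node (nat_lit 7985152) (BT.node (nat_lit 7985088) (BT.leaf (nat_lit 35127313)) (BT.leaf (nat_lit 38437913))) (BT.node (nat_lit 7985216) (BT.leaf (nat_lit 44696337)) (BT.leaf (nat_lit 40910361)))) (BT.node (nat_lit 7985408) (BT.node (nat_lit 7985344) (BT.leaf (nat_lit 38262037)) (BT.leaf (nat_lit 36445973))) (BT.node (nat_lit 7985472) (BT.leaf (nat_lit 27285789)) (BT.leaf (nat_lit 24284945)))))) (BT.node (nat_lit 7986048) (BT.node (nat_lit 7985792) (BT.node (nat_lit 7985664) (BT.node (nat_lit 7985600) (BT.leaf (nat_lit 40035873)) (BT.leaf (nat_lit 28721953))) (BT.node (nat_lit 7985728) (BT.leaf (nat_lit 37832981)) (BT.leaf (nat_lit 51015441)))) (BT.node (nat_lit 7985920) (BT.node (nat_lit 7985856) (BT.leaf (nat_lit 29081377)) (BT.leaf (nat_lit 49060117))) (BT.node (nat_lit 7985984) (BT.leaf (nat_lit 24286481)) (BT.leaf (nat_lit 28684825))))) (BT.node (nat_lit 7986304) (BT.node (nat_lit 7986176) (BT.node (nat_lit 7986112) (BT.leaf (nat_lit 28684829)) (BT.leaf (nat_lit 31974177))) (BT.node (nat_lit 7986240) (BT.leaf (nat_lit 41061905)) (BT.leaf (nat_lit 25362461)))) (BT.node (nat_lit 7986432) (BT.node (nat_lit 7986368) (BT.leaf (nat_lit 27811345)) (BT.leaf (nat_lit 44205333))) (BT.node (nat_lit 7986496) (BT.leaf (nat_lit 24732165)) (BT.leaf (nat_lit 36445469))))))) (BT.node (nat_lit 7987584) (BT.node (nat_lit 7987072) (BT.node (nat_lit 7986816) (BT.node (nat_lit 7986688) (BT.node (nat_lit 7986624) (BT.leaf (nat_lit 44462869)) (BT.leaf (nat_lit 30664981))) (BT.node (nat_lit 7986752) (BT.leaf (nat_lit 46702877)) (BT.leaf (nat_lit 27979297)))) (BT.node (nat_lit 7986944) (BT.node (nat_lit 7986880) (BT.leaf (nat_lit 26534417)) (BT.leaf (nat_lit 24287761))) (BT.node (nat_lit 7987008) (BT.leaf (nat_lit 40309025)) (BT.leaf (nat_lit 32455697))))) (BT.node (nat_lit 7987328) (BT.node (nat_lit 7987200) (BT.node (nat_lit 7987136) (BT.leaf (nat_lit 29731605)) (BT.leaf (nat_lit 30745889))) (BT.node (nat_lit 7987264) (BT.leaf (nat_lit 34090005)) (BT.leaf (nat_lit 49063189)))) (BT.node (nat_lit 7987456) (BT.node (nat_lit 7987392) (BT.leaf (nat_lit 34090013)) (BT.leaf (nat_lit 43191301))) (BT.node (nat_lit 7987520) (BT.leaf (nat_lit 30015753)) (BT.leaf (nat_lit 24289041)))))) (BT.node (nat_lit 7988096) (BT.node (nat_lit 7987840) (BT.node (nat_lit 7987712) (BT.node (nat_lit 7987648) (BT.leaf (nat_lit 24288785)) (BT.leaf (nat_lit 40105989))) (BT.node (nat_lit 7987776) (BT.leaf (nat_lit 49064469)) (BT.leaf (nat_lit 47383329)))) (BT.node (nat_lit 7987968) (BT.node (nat_lit 7987904) (BT.leaf (nat_lit 51125025)) (BT.leaf (nat_lit 38225697))) (BT.node (nat_lit 7988032) (BT.leaf (nat_lit 48784925)) (BT.leaf (nat_lit 29982737))))) (BT.node (nat_lit 7988352) (BT.node (nat_lit 7988224) (BT.node (nat_lit 7988160) (BT.leaf (nat_lit 24289553)) (BT.leaf (nat_lit 32577561))) (BT.node (nat_lit 7988288) (BT.leaf (nat_lit 32577565)) (BT.leaf (nat_lit 46474777)))) (BT.node (nat_lit 7988480) (BT.node (nat_lit 7988416) (BT.leaf (nat_lit 51990293)) (BT.leaf (nat_lit 28092689))) (BT.node (nat_lit 7988544) (BT.leaf (nat_lit 31933981)) (BT.leaf (nat_lit 24447493)))))))))))))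
noncomputable def big0_e57344 : BT Nat := (BT.node (nat_lit 8054144) (BT.node (nat_lit 8021376) (BT.node (nat_lit 8004992) (BT.node (nat_lit 7996800) (BT.node (nat_lit 7992704) (BT.node (nat_lit 7990656) (BT.node (nat_lit 7989632) (BT.node (nat_lit 7989120) (BT.node (nat_lit 7988864) (BT.node (nat_lit 7988736) (BT.node (nat_lit 7988672) (BT.leaf (nat_lit 49066257)) (BT.leaf (nat_lit 34244369))) (BT.node (nat_lit 7988800) (BT.leaf (nat_lit 49067281)) (BT.leaf (nat_lit 31149077)))) (BT.node (nat_lit 7988992) (BT.node (nat_lit 7988928) (BT.leaf (nat_lit 31148825)) (BT.leaf (nat_lit 39261469))) (BT.node (nat_lit 7989056) (BT.leaf (nat_lit 48342289)) (BT.leaf (nat_lit 37742609))))) (BT.node (nat_lit 7989376) (BT.node (nat_lit 7989248) (BT.node (nat_lit 7989184) (BT.leaf (nat_lit 49068577)) (BT.leaf (nat_lit 33254421))) (BT.node (nat_lit 7989312) (BT.leaf (nat_lit 31149061)) (BT.leaf (nat_lit 49003033)))) (BT.node (nat_lit 7989504) (BT.node (nat_lit 7989440) (BT.leaf (nat_lit 49070101)) (BT.leaf (nat_lit 49003549))) (BT.node (nat_lit 7989568) (BT.leaf (nat_lit 24277781)) (BT.leaf (nat_lit 34755593)))))) (BT.node (nat_lit 7990144) (BT.node (nat_lit 7989888) (BT.node (nat_lit 7989760) (BT.node (nat_lit 7989696) (BT.leaf (nat_lit 48985613)) (BT.leaf (nat_lit 34755601))) (BT.node (nat_lit 7989824) (BT.leaf (nat_lit 34755609)) (BT.leaf (nat_lit 48985629)))) (BT.node (nat_lit 7990016) (BT.node (nat_lit 7989952) (BT.leaf (nat_lit 46454549)) (BT.leaf (nat_lit 28229905))) (BT.node (nat_lit 7990080) (BT.leaf (nat_lit 28229909)) (BT.leaf (nat_lit 23034649))))) (BT.node (nat_lit 7990400) (BT.node (nat_lit 7990272) (BT.node (nat_lit 7990208) (BT.leaf (nat_lit 38190345)) (BT.leaf (nat_lit 27978505))) (BT.node (nat_lit 7990336) (BT.leaf (nat_lit 49072901)) (BT.leaf (nat_lit 36772641)))) (BT.node (nat_lit 7990528) (BT.node (nat_lit 7990464) (BT.leaf (nat_lit 28860189)) (BT.leaf (nat_lit 49073181))) (BT.node (nat_lit 7990592) (BT.leaf (nat_lit 49045021)) (BT.leaf (nat_lit 24293393))))))) (BT.node (nat_lit 7991680) (BT.node (nat_lit 7991168) (BT.node (nat_lit 7990912) (BT.node (nat_lit 7990784) (BT.node (nat_lit 7990720) (BT.leaf (nat_lit 46924833)) (BT.leaf (nat_lit 28437793))) (BT.node (nat_lit 7990848) (BT.leaf (nat_lit 26055689)) (BT.leaf (nat_lit 50007821)))) (BT.node (nat_lit 7991040) (BT.node (nat_lit 7990976) (BT.leaf (nat_lit 29283097)) (BT.leaf (nat_lit 29283361))) (BT.node (nat_lit 7991104) (BT.leaf (nat_lit 31610145)) (BT.leaf (nat_lit 30115093))))) (BT.node (nat_lit 7991424) (BT.node (nat_lit 7991296) (BT.node (nat_lit 7991232) (BT.leaf (nat_lit 49074209)) (BT.leaf (nat_lit 49074465))) (BT.node (nat_lit 7991360) (BT.leaf (nat_lit 49074965)) (BT.leaf (nat_lit 24294421)))) (BT.node (nat_lit 7991552) (BT.node (nat_lit 7991488) (BT.leaf (nat_lit 29185029)) (BT.leaf (nat_lit 29185049))) (BT.node (nat_lit 7991616) (BT.leaf (nat_lit 29185053)) (BT.leaf (nat_lit 35738905)))))) (BT.node (nat_lit 7992192) (BT.node (nat_lit 7991936) (BT.node (nat_lit 7991808) (BT.node (nat_lit 7991744) (BT.leaf (nat_lit 34627349)) (BT.leaf (nat_lit 31966729))) (BT.node (nat_lit 7991872) (BT.leaf (nat_lit 39421193)) (BT.leaf (nat_lit 49076509)))) (BT.node (nat_lit 7992064) (BT.node (nat_lit 7992000) (BT.leaf (nat_lit 27754017)) (BT.leaf (nat_lit 49076749))) (BT.node (nat_lit 7992128) (BT.leaf (nat_lit 31968541)) (BT.leaf (nat_lit 49077781))))) (BT.node (nat_lit 7992448) (BT.node (nat_lit 7992320) (BT.node (nat_lit 7992256) (BT.leaf (nat_lit 29284897)) (BT.leaf (nat_lit 39147013))) (BT.node (nat_lit 7992384) (BT.leaf (nat_lit 38113813)) (BT.leaf (nat_lit 42103317)))) (BT.node (nat_lit 7992576) (BT.node (nat_lit 7992512) (BT.leaf (nat_lit 38557973)) (BT.leaf (nat_lit 28878881))) (BT.node (nat_lit 7992640) (BT.leaf (nat_lit 41380117)) (BT.leaf (nat_lit 31970313)))))))) (BT.node (nat_lit 7994752) (BT.node (nat_lit 7993728) (BT.node (nat_lit 7993216) (BT.node (nat_lit 7992960) (BT.node (nat_lit 7992832) (BT.node (nat_lit 7992768) (BT.leaf (nat_lit 28878609)) (BT.leaf (nat_lit 49078805))) (BT.node (nat_lit 7992896) (BT.leaf (nat_lit 44876821)) (BT.leaf (nat_lit 31561229)))) (BT.node (nat_lit 7993088) (BT.node (nat_lit 7993024) (BT.leaf (nat_lit 49381145)) (BT.leaf (nat_lit 49381149))) (BT.node (nat_lit 7993152) (BT.leaf (nat_lit 43236385)) (BT.leaf (nat_lit 39889941))))) (BT.node (nat_lit 7993472) (BT.node (nat_lit 7993344) (BT.node (nat_lit 7993280) (BT.leaf (nat_lit 24297489)) (BT.leaf (nat_lit 24297233))) (BT.node (nat_lit 7993408) (BT.leaf (nat_lit 29042713)) (BT.leaf (nat_lit 29042717)))) (BT.node (nat_lit 7993600) (BT.node (nat_lit 7993536) (BT.leaf (nat_lit 33271573)) (BT.leaf (nat_lit 31249165))) (BT.node (nat_lit 7993664) (BT.leaf (nat_lit 49080085)) (BT.leaf (nat_lit 33271069)))))) (BT.node (nat_lit 7994240) (BT.node (nat_lit 7993984) (BT.node (nat_lit 7993856) (BT.node (nat_lit 7993792) (BT.leaf (nat_lit 28130577)) (BT.leaf (nat_lit 38012693))) (BT.node (nat_lit 7993920) (BT.leaf (nat_lit 49081369)) (BT.leaf (nat_lit 49081629)))) (BT.node (nat_lit 7994112) (BT.node (nat_lit 7994048) (BT.leaf (nat_lit 52001801)) (BT.leaf (nat_lit 30183953))) (BT.node (nat_lit 7994176) (BT.leaf (nat_lit 30183961)) (BT.leaf (nat_lit 25794321))))) (BT.node (nat_lit 7994496) (BT.node (nat_lit 7994368) (BT.node (nat_lit 7994304) (BT.leaf (nat_lit 41527841)) (BT.leaf (nat_lit 30163733))) (BT.node (nat_lit 7994432) (BT.leaf (nat_lit 44839969)) (BT.leaf (nat_lit 23409941)))) (BT.node (nat_lit 7994624) (BT.node (nat_lit 7994560) (BT.leaf (nat_lit 24301597)) (BT.leaf (nat_lit 24302085))) (BT.node (nat_lit 7994688) (BT.leaf (nat_lit 24116753)) (BT.leaf (nat_lit 24301329))))))) (BT.node (nat_lit 7995776) (BT.node (nat_lit 7995264) (BT.node (nat_lit 7995008) (BT.node (nat_lit 7994880) (BT.node (nat_lit 7994816) (BT.leaf (nat_lit 44887329)) (BT.leaf (nat_lit 49060613))) (BT.node (nat_lit 7994944) (BT.leaf (nat_lit 24302353)) (BT.leaf (nat_lit 24065553)))) (BT.node (nat_lit 7995136) (BT.node (nat_lit 7995072) (BT.leaf (nat_lit 42379025)) (BT.leaf (nat_lit 30722585))) (BT.node (nat_lit 7995200) (BT.leaf (nat_lit 30722589)) (BT.leaf (nat_lit 42909973))))) (BT.node (nat_lit 7995520) (BT.node (nat_lit 7995392) (BT.node (nat_lit 7995328) (BT.leaf (nat_lit 24746513)) (BT.leaf (nat_lit 25789973))) (BT.node (nat_lit 7995456) (BT.leaf (nat_lit 24746501)) (BT.leaf (nat_lit 44893981)))) (BT.node (nat_lit 7995648) (BT.node (nat_lit 7995584) (BT.leaf (nat_lit 25790485)) (BT.leaf (nat_lit 39823389))) (BT.node (nat_lit 7995712) (BT.leaf (nat_lit 40583945)) (BT.leaf (nat_lit 34634257)))))) (BT.node (nat_lit 7996288) (BT.node (nat_lit 7996032) (BT.node (nat_lit 7995904) (BT.node (nat_lit 7995840) (BT.leaf (nat_lit 27993365)) (BT.leaf (nat_lit 24303121))) (BT.node (nat_lit 7995968) (BT.leaf (nat_lit 47220241)) (BT.leaf (nat_lit 29728281)))) (BT.node (nat_lit 7996160) (BT.node (nat_lit 7996096) (BT.leaf (nat_lit 29728285)) (BT.leaf (nat_lit 28721937))) (BT.node (nat_lit 7996224) (BT.leaf (nat_lit 24118545)) (BT.leaf (nat_lit 36444949))))) (BT.node (nat_lit 7996544) (BT.node (nat_lit 7996416) (BT.node (nat_lit 7996352) (BT.leaf (nat_lit 36109845)) (BT.leaf (nat_lit 24118301))) (BT.node (nat_lit 7996480) (BT.leaf (nat_lit 49085469)) (BT.leaf (nat_lit 31320581)))) (BT.node (nat_lit 7996672) (BT.node (nat_lit 7996608) (BT.leaf (nat_lit 30190861)) (BT.leaf (nat_lit 49055493))) (BT.node (nat_lit 7996736) (BT.leaf (nat_lit 33758213)) (BT.leaf (nat_lit 34764805))))))))) (BT.node (nat_lit 8000896) (BT.node (nat_lit 7998848) (BT.node (nat_lit 7997824) (BT.node (nat_lit 7997312) (BT.node (nat_lit 7997056) (BT.node (nat_lit 7996928) (BT.node (nat_lit 7996864) (BT.leaf (nat_lit 41928469)) (BT.leaf (nat_lit 24310041))) (BT.node (nat_lit 7996992) (BT.leaf (nat_lit 30660881)) (BT.leaf (nat_lit 29611793)))) (BT.node (nat_lit 7997184) (BT.node (nat_lit 7997120) (BT.leaf (nat_lit 32092961)) (BT.leaf (nat_lit 32069381))) (BT.node (nat_lit 7997248) (BT.leaf (nat_lit 49087505)) (BT.leaf (nat_lit 32098849))))) (BT.node (nat_lit 7997568) (BT.node (nat_lit 7997440) (BT.node (nat_lit 7997376) (BT.leaf (nat_lit 49088017)) (BT.leaf (nat_lit 49087509))) (BT.node (nat_lit 7997504) (BT.leaf (nat_lit 30050833)) (BT.leaf (nat_lit 31237397)))) (BT.node (nat_lit 7997696) (BT.node (nat_lit 7997632) (BT.leaf (nat_lit 52392221)) (BT.leaf (nat_lit 31639821))) (BT.node (nat_lit 7997760) (BT.leaf (nat_lit 49088533)) (BT.leaf (nat_lit 27650081)))))) (BT.node (nat_lit 7998336) (BT.node (nat_lit 7998080) (BT.node (nat_lit 7997952) (BT.node (nat_lit 7997888) (BT.leaf (nat_lit 30684193)) (BT.leaf (nat_lit 48212485))) (BT.node (nat_lit 7998016) (BT.leaf (nat_lit 34766353)) (BT.leaf (nat_lit 35255825)))) (BT.node (nat_lit 7998208) (BT.node (nat_lit 7998144) (BT.leaf (nat_lit 49089029)) (BT.leaf (nat_lit 44314645))) (BT.node (nat_lit 7998272) (BT.leaf (nat_lit 49090065)) (BT.leaf (nat_lit 49090585))))) (BT.node (nat_lit 7998592) (BT.node (nat_lit 7998464) (BT.node (nat_lit 7998400) (BT.leaf (nat_lit 49090321)) (BT.leaf (nat_lit 43846149))) (BT.node (nat_lit 7998528) (BT.leaf (nat_lit 47643925)) (BT.leaf (nat_lit 38170121)))) (BT.node (nat_lit 7998720) (BT.node (nat_lit 7998656) (BT.leaf (nat_lit 32491809)) (BT.leaf (nat_lit 44914721))) (BT.node (nat_lit 7998784) (BT.leaf (nat_lit 44914465)) (BT.leaf (nat_lit 49093649))))))) (BT.node (nat_lit 7999872) (BT.node (nat_lit 7999360) (BT.node (nat_lit 7999104) (BT.node (nat_lit 7998976) (BT.node (nat_lit 7998912) (BT.leaf (nat_lit 39986709)) (BT.leaf (nat_lit 43096609))) (BT.node (nat_lit 7999040) (BT.leaf (nat_lit 39091745)) (BT.leaf (nat_lit 28584457)))) (BT.node (nat_lit 7999232) (BT.node (nat_lit 7999168) (BT.leaf (nat_lit 48878109)) (BT.leaf (nat_lit 34095885))) (BT.node (nat_lit 7999296) (BT.leaf (nat_lit 42631445)) (BT.leaf (nat_lit 30366749))))) (BT.node (nat_lit 7999616) (BT.node (nat_lit 7999488) (BT.node (nat_lit 7999424) (BT.leaf (nat_lit 27972113)) (BT.leaf (nat_lit 43655193))) (BT.node (nat_lit 7999552) (BT.leaf (nat_lit 47035157)) (BT.leaf (nat_lit 49094677)))) (BT.node (nat_lit 7999744) (BT.node (nat_lit 7999680) (BT.leaf (nat_lit 29087261)) (BT.leaf (nat_lit 39039257))) (BT.node (nat_lit 7999808) (BT.leaf (nat_lit 29087769)) (BT.leaf (nat_lit 49094421)))))) (BT.node (nat_lit 8000384) (BT.node (nat_lit 8000128) (BT.node (nat_lit 8000000) (BT.node (nat_lit 7999936) (BT.leaf (nat_lit 32743201)) (BT.leaf (nat_lit 31598869))) (BT.node (nat_lit 8000064) (BT.leaf (nat_lit 48796425)) (BT.leaf (nat_lit 39424017)))) (BT.node (nat_lit 8000256) (BT.node (nat_lit 8000192) (BT.leaf (nat_lit 24312325)) (BT.leaf (nat_lit 47716109))) (BT.node (nat_lit 8000320) (BT.leaf (nat_lit 30786833)) (BT.leaf (nat_lit 49096473))))) (BT.node (nat_lit 8000640) (BT.node (nat_lit 8000512) (BT.node (nat_lit 8000448) (BT.leaf (nat_lit 47708689)) (BT.leaf (nat_lit 38899485))) (BT.node (nat_lit 8000576) (BT.leaf (nat_lit 29272857)) (BT.leaf (nat_lit 44001813)))) (BT.node (nat_lit 8000768) (BT.node (nat_lit 8000704) (BT.leaf (nat_lit 49097221)) (BT.leaf (nat_lit 30852117))) (BT.node (nat_lit 8000832) (BT.leaf (nat_lit 49098001)) (BT.leaf (nat_lit 29351181)))))))) (BT.node (nat_lit 8002944) (BT.node (nat_lit 8001920) (BT.node (nat_lit 8001408) (BT.node (nat_lit 8001152) (BT.node (nat_lit 8001024) (BT.node (nat_lit 8000960) (BT.leaf (nat_lit 48861965)) (BT.leaf (nat_lit 46984469))) (BT.node (nat_lit 8001088) (BT.leaf (nat_lit 47052821)) (BT.leaf (nat_lit 28565529)))) (BT.node (nat_lit 8001280) (BT.node (nat_lit 8001216) (BT.leaf (nat_lit 30176529)) (BT.leaf (nat_lit 44468765))) (BT.node (nat_lit 8001344) (BT.leaf (nat_lit 30174993)) (BT.leaf (nat_lit 49098773))))) (BT.node (nat_lit 8001664) (BT.node (nat_lit 8001536) (BT.node (nat_lit 8001472) (BT.leaf (nat_lit 27524881)) (BT.leaf (nat_lit 50109981))) (BT.node (nat_lit 8001600) (BT.leaf (nat_lit 29323781)) (BT.leaf (nat_lit 24318725)))) (BT.node (nat_lit 8001792) (BT.node (nat_lit 8001728) (BT.leaf (nat_lit 28705049)) (BT.leaf (nat_lit 49099797))) (BT.node (nat_lit 8001856) (BT.leaf (nat_lit 49099541)) (BT.leaf (nat_lit 48155161)))))) (BT.node (nat_lit 8002432) (BT.node (nat_lit 8002176) (BT.node (nat_lit 8002048) (BT.node (nat_lit 8001984) (BT.leaf (nat_lit 37346073)) (BT.leaf (nat_lit 24149009))) (BT.node (nat_lit 8002112) (BT.leaf (nat_lit 44336409)) (BT.leaf (nat_lit 24316437)))) (BT.node (nat_lit 8002304) (BT.node (nat_lit 8002240) (BT.leaf (nat_lit 40799765)) (BT.leaf (nat_lit 32008713))) (BT.node (nat_lit 8002368) (BT.leaf (nat_lit 49101317)) (BT.leaf (nat_lit 29027097))))) (BT.node (nat_lit 8002688) (BT.node (nat_lit 8002560) (BT.node (nat_lit 8002496) (BT.leaf (nat_lit 32299789)) (BT.leaf (nat_lit 24316701))) (BT.node (nat_lit 8002624) (BT.leaf (nat_lit 51559713)) (BT.leaf (nat_lit 29328669)))) (BT.node (nat_lit 8002816) (BT.node (nat_lit 8002752) (BT.leaf (nat_lit 30114333)) (BT.leaf (nat_lit 31608865))) (BT.node (nat_lit 8002880) (BT.leaf (nat_lit 49102349)) (BT.leaf (nat_lit 49102613))))))) (BT.node (nat_lit 8003968) (BT.node (nat_lit 8003456) (BT.node (nat_lit 8003200) (BT.node (nat_lit 8003072) (BT.node (nat_lit 8003008) (BT.leaf (nat_lit 48229125)) (BT.leaf (nat_lit 39342881))) (BT.node (nat_lit 8003136) (BT.leaf (nat_lit 49103109)) (BT.leaf (nat_lit 24073245)))) (BT.node (nat_lit 8003328) (BT.node (nat_lit 8003264) (BT.leaf (nat_lit 31258897)) (BT.leaf (nat_lit 49104157))) (BT.node (nat_lit 8003392) (BT.leaf (nat_lit 32477461)) (BT.leaf (nat_lit 49104649))))) (BT.node (nat_lit 8003712) (BT.node (nat_lit 8003584) (BT.node (nat_lit 8003520) (BT.leaf (nat_lit 32920605)) (BT.leaf (nat_lit 30608145))) (BT.node (nat_lit 8003648) (BT.leaf (nat_lit 34225685)) (BT.leaf (nat_lit 29369861)))) (BT.node (nat_lit 8003840) (BT.node (nat_lit 8003776) (BT.leaf (nat_lit 41577249)) (BT.leaf (nat_lit 38946589))) (BT.node (nat_lit 8003904) (BT.leaf (nat_lit 44964373)) (BT.leaf (nat_lit 49106961)))))) (BT.node (nat_lit 8004480) (BT.node (nat_lit 8004224) (BT.node (nat_lit 8004096) (BT.node (nat_lit 8004032) (BT.leaf (nat_lit 30736133)) (BT.leaf (nat_lit 29827341))) (BT.node (nat_lit 8004160) (BT.leaf (nat_lit 29827337)) (BT.leaf (nat_lit 29827353)))) (BT.node (nat_lit 8004352) (BT.node (nat_lit 8004288) (BT.leaf (nat_lit 29827357)) (BT.leaf (nat_lit 41610769))) (BT.node (nat_lit 8004416) (BT.leaf (nat_lit 48470289)) (BT.leaf (nat_lit 49107985))))) (BT.node (nat_lit 8004736) (BT.node (nat_lit 8004608) (BT.node (nat_lit 8004544) (BT.leaf (nat_lit 39695889)) (BT.leaf (nat_lit 44966405))) (BT.node (nat_lit 8004672) (BT.leaf (nat_lit 35378957)) (BT.leaf (nat_lit 24119061)))) (BT.node (nat_lit 8004864) (BT.node (nat_lit 8004800) (BT.leaf (nat_lit 34413589)) (BT.leaf (nat_lit 35378953))) (BT.node (nat_lit 8004928) (BT.leaf (nat_lit 32018701)) (BT.leaf (nat_lit 35299357)))))))))) (BT.node (nat_lit 8013184) (BT.node (nat_lit 8009088) (BT.node (nat_lit 8007040) (BT.node (nat_lit 8006016) (BT.node (nat_lit 8005504) (BT.node (nat_lit 8005248) (BT.node (nat_lit 8005120) (BT.node (nat_lit 8005056) (BT.leaf (nat_lit 35378969)) (BT.leaf (nat_lit 29598993))) (BT.node (nat_lit 8005184) (BT.leaf (nat_lit 49108501)) (BT.leaf (nat_lit 42272789)))) (BT.node (nat_lit 8005376) (BT.node (nat_lit 8005312) (BT.leaf (nat_lit 49108757)) (BT.leaf (nat_lit 40372249))) (BT.node (nat_lit 8005440) (BT.leaf (nat_lit 42507541)) (BT.leaf (nat_lit 44398877))))) (BT.node (nat_lit 8005760) (BT.node (nat_lit 8005632) (BT.node (nat_lit 8005568) (BT.leaf (nat_lit 49108001)) (BT.leaf (nat_lit 44398861))) (BT.node (nat_lit 8005696) (BT.leaf (nat_lit 32022297)) (BT.leaf (nat_lit 41774613)))) (BT.node (nat_lit 8005888) (BT.node (nat_lit 8005824) (BT.leaf (nat_lit 38813969)) (BT.leaf (nat_lit 44318221))) (BT.node (nat_lit 8005952) (BT.leaf (nat_lit 24322321)) (BT.leaf (nat_lit 49111061)))))) (BT.node (nat_lit 8006528) (BT.node (nat_lit 8006272) (BT.node (nat_lit 8006144) (BT.node (nat_lit 8006080) (BT.leaf (nat_lit 27435025)) (BT.leaf (nat_lit 30555157))) (BT.node (nat_lit 8006208) (BT.leaf (nat_lit 29023497)) (BT.leaf (nat_lit 39082261)))) (BT.node (nat_lit 8006400) (BT.node (nat_lit 8006336) (BT.leaf (nat_lit 50308373)) (BT.leaf (nat_lit 24354845))) (BT.node (nat_lit 8006464) (BT.leaf (nat_lit 30171677)) (BT.leaf (nat_lit 24354825))))) (BT.node (nat_lit 8006784) (BT.node (nat_lit 8006656) (BT.node (nat_lit 8006592) (BT.leaf (nat_lit 38565653)) (BT.leaf (nat_lit 28707093))) (BT.node (nat_lit 8006720) (BT.leaf (nat_lit 24325905)) (BT.leaf (nat_lit 30001933)))) (BT.node (nat_lit 8006912) (BT.node (nat_lit 8006848) (BT.leaf (nat_lit 38662685)) (BT.leaf (nat_lit 23550997))) (BT.node (nat_lit 8006976) (BT.leaf (nat_lit 48103969)) (BT.leaf (nat_lit 34790429))))))) (BT.node (nat_lit 8008064) (BT.node (nat_lit 8007552) (BT.node (nat_lit 8007296) (BT.node (nat_lit 8007168) (BT.node (nat_lit 8007104) (BT.leaf (nat_lit 34926101)) (BT.leaf (nat_lit 50786081))) (BT.node (nat_lit 8007232) (BT.leaf (nat_lit 27387409)) (BT.leaf (nat_lit 24299025)))) (BT.node (nat_lit 8007424) (BT.node (nat_lit 8007360) (BT.leaf (nat_lit 29867297)) (BT.leaf (nat_lit 32029705))) (BT.node (nat_lit 8007488) (BT.leaf (nat_lit 27368469)) (BT.leaf (nat_lit 29859333))))) (BT.node (nat_lit 8007808) (BT.node (nat_lit 8007680) (BT.node (nat_lit 8007616) (BT.leaf (nat_lit 44980753)) (BT.leaf (nat_lit 37702945))) (BT.node (nat_lit 8007744) (BT.leaf (nat_lit 32028697)) (BT.leaf (nat_lit 48625953)))) (BT.node (nat_lit 8007936) (BT.node (nat_lit 8007872) (BT.leaf (nat_lit 32031001)) (BT.leaf (nat_lit 44335629))) (BT.node (nat_lit 8008000) (BT.leaf (nat_lit 30139937)) (BT.leaf (nat_lit 49113861)))))) (BT.node (nat_lit 8008576) (BT.node (nat_lit 8008320) (BT.node (nat_lit 8008192) (BT.node (nat_lit 8008128) (BT.leaf (nat_lit 30140421)) (BT.leaf (nat_lit 34670349))) (BT.node (nat_lit 8008256) (BT.leaf (nat_lit 33063189)) (BT.leaf (nat_lit 49115417)))) (BT.node (nat_lit 8008448) (BT.node (nat_lit 8008384) (BT.leaf (nat_lit 37937697)) (BT.leaf (nat_lit 32033821))) (BT.node (nat_lit 8008512) (BT.leaf (nat_lit 49115405)) (BT.leaf (nat_lit 33890593))))) (BT.node (nat_lit 8008832) (BT.node (nat_lit 8008704) (BT.node (nat_lit 8008640) (BT.leaf (nat_lit 43830289)) (BT.leaf (nat_lit 48007185))) (BT.node (nat_lit 8008768) (BT.leaf (nat_lit 30368273)) (BT.leaf (nat_lit 47792901)))) (BT.node (nat_lit 8008960) (BT.node (nat_lit 8008896) (BT.leaf (nat_lit 30367773)) (BT.leaf (nat_lit 49118741))) (BT.node (nat_lit 8009024) (BT.leaf (nat_lit 30564621)) (BT.leaf (nat_lit 48112161)))))))) (BT.node (nat_lit 8011136) (BT.node (nat_lit 8010112) (BT.node (nat_lit 8009600) (BT.node (nat_lit 8009344) (BT.node (nat_lit 8009216) (BT.node (nat_lit 8009152) (BT.leaf (nat_lit 30564633)) (BT.leaf (nat_lit 30564637))) (BT.node (nat_lit 8009280) (BT.leaf (nat_lit 30564641)) (BT.leaf (nat_lit 50699525)))) (BT.node (nat_lit 8009472) (BT.node (nat_lit 8009408) (BT.leaf (nat_lit 46775573)) (BT.leaf (nat_lit 33306385))) (BT.node (nat_lit 8009536) (BT.leaf (nat_lit 49940757)) (BT.leaf (nat_lit 49119245))))) (BT.node (nat_lit 8009856) (BT.node (nat_lit 8009728) (BT.node (nat_lit 8009664) (BT.leaf (nat_lit 28165913)) (BT.leaf (nat_lit 49940761))) (BT.node (nat_lit 8009792) (BT.leaf (nat_lit 24336657)) (BT.leaf (nat_lit 23129361)))) (BT.node (nat_lit 8009984) (BT.node (nat_lit 8009920) (BT.leaf (nat_lit 27964185)) (BT.leaf (nat_lit 23580933))) (BT.node (nat_lit 8010048) (BT.leaf (nat_lit 49122053)) (BT.leaf (nat_lit 41525253)))))) (BT.node (nat_lit 8010624) (BT.node (nat_lit 8010368) (BT.node (nat_lit 8010240) (BT.node (nat_lit 8010176) (BT.leaf (nat_lit 31751181)) (BT.leaf (nat_lit 29031953))) (BT.node (nat_lit 8010304) (BT.leaf (nat_lit 41524501)) (BT.leaf (nat_lit 29509385)))) (BT.node (nat_lit 8010496) (BT.node (nat_lit 8010432) (BT.leaf (nat_lit 31842565)) (BT.leaf (nat_lit 49124125))) (BT.node (nat_lit 8010560) (BT.leaf (nat_lit 34898189)) (BT.leaf (nat_lit 49124373))))) (BT.node (nat_lit 8010880) (BT.node (nat_lit 8010752) (BT.node (nat_lit 8010688) (BT.leaf (nat_lit 49124629)) (BT.leaf (nat_lit 29777697))) (BT.node (nat_lit 8010816) (BT.leaf (nat_lit 49125409)) (BT.leaf (nat_lit 48144645)))) (BT.node (nat_lit 8011008) (BT.node (nat_lit 8010944) (BT.leaf (nat_lit 22621461)) (BT.leaf (nat_lit 32044041))) (BT.node (nat_lit 8011072) (BT.leaf (nat_lit 47058453)) (BT.leaf (nat_lit 29958669))))))) (BT.node (nat_lit 8012160) (BT.node (nat_lit 8011648) (BT.node (nat_lit 8011392) (BT.node (nat_lit 8011264) (BT.node (nat_lit 8011200) (BT.leaf (nat_lit 24479253)) (BT.leaf (nat_lit 47059989))) (BT.node (nat_lit 8011328) (BT.leaf (nat_lit 49125641)) (BT.leaf (nat_lit 24354829)))) (BT.node (nat_lit 8011520) (BT.node (nat_lit 8011456) (BT.leaf (nat_lit 48277013)) (BT.leaf (nat_lit 24354841))) (BT.node (nat_lit 8011584) (BT.leaf (nat_lit 52399117)) (BT.leaf (nat_lit 30024213))))) (BT.node (nat_lit 8011904) (BT.node (nat_lit 8011776) (BT.node (nat_lit 8011712) (BT.leaf (nat_lit 34846469)) (BT.leaf (nat_lit 43031329))) (BT.node (nat_lit 8011840) (BT.leaf (nat_lit 24479257)) (BT.leaf (nat_lit 24479261)))) (BT.node (nat_lit 8012032) (BT.node (nat_lit 8011968) (BT.leaf (nat_lit 23590169)) (BT.leaf (nat_lit 24324633))) (BT.node (nat_lit 8012096) (BT.leaf (nat_lit 40005145)) (BT.leaf (nat_lit 36260877)))))) (BT.node (nat_lit 8012672) (BT.node (nat_lit 8012416) (BT.node (nat_lit 8012288) (BT.node (nat_lit 8012224) (BT.leaf (nat_lit 29047317)) (BT.leaf (nat_lit 24338961))) (BT.node (nat_lit 8012352) (BT.leaf (nat_lit 29049621)) (BT.leaf (nat_lit 24354313)))) (BT.node (nat_lit 8012544) (BT.node (nat_lit 8012480) (BT.leaf (nat_lit 42960653)) (BT.leaf (nat_lit 41455137))) (BT.node (nat_lit 8012608) (BT.leaf (nat_lit 39923737)) (BT.leaf (nat_lit 38353413))))) (BT.node (nat_lit 8012928) (BT.node (nat_lit 8012800) (BT.node (nat_lit 8012736) (BT.leaf (nat_lit 24340253)) (BT.leaf (nat_lit 34803229))) (BT.node (nat_lit 8012864) (BT.leaf (nat_lit 24868117)) (BT.leaf (nat_lit 42636061)))) (BT.node (nat_lit 8013056) (BT.node (nat_lit 8012992) (BT.leaf (nat_lit 49111573)) (BT.leaf (nat_lit 30575877))) (BT.node (nat_lit 8013120) (BT.leaf (nat_lit 49130261)) (BT.leaf (nat_lit 41009161))))))))) (BT.node (nat_lit 8017280) (BT.node (nat_lit 8015232) (BT.node (nat_lit 8014208) (BT.node (nat_lit 8013696) (BT.node (nat_lit 8013440) (BT.node (nat_lit 8013312) (BT.node (nat_lit 8013248) (BT.leaf (nat_lit 49130505)) (BT.leaf (nat_lit 49130773))) (BT.node (nat_lit 8013376) (BT.leaf (nat_lit 49112073)) (BT.leaf (nat_lit 23587357)))) (BT.node (nat_lit 8013568) (BT.node (nat_lit 8013504) (BT.leaf (nat_lit 25347613)) (BT.leaf (nat_lit 27705105))) (BT.node (nat_lit 8013632) (BT.leaf (nat_lit 49132321)) (BT.leaf (nat_lit 46592797))))) (BT.node (nat_lit 8013952) (BT.node (nat_lit 8013824) (BT.node (nat_lit 8013760) (BT.leaf (nat_lit 34268949)) (BT.leaf (nat_lit 24896273))) (BT.node (nat_lit 8013888) (BT.leaf (nat_lit 33993237)) (BT.leaf (nat_lit 24346897)))) (BT.node (nat_lit 8014080) (BT.node (nat_lit 8014016) (BT.leaf (nat_lit 38120453)) (BT.leaf (nat_lit 23109653))) (BT.node (nat_lit 8014144) (BT.leaf (nat_lit 24533777)) (BT.leaf (nat_lit 24347921)))))) (BT.node (nat_lit 8014720) (BT.node (nat_lit 8014464) (BT.node (nat_lit 8014336) (BT.node (nat_lit 8014272) (BT.leaf (nat_lit 43727649)) (BT.leaf (nat_lit 41233185))) (BT.node (nat_lit 8014400) (BT.leaf (nat_lit 43724561)) (BT.leaf (nat_lit 49133601)))) (BT.node (nat_lit 8014592) (BT.node (nat_lit 8014528) (BT.leaf (nat_lit 35205637)) (BT.leaf (nat_lit 24348949))) (BT.node (nat_lit 8014656) (BT.leaf (nat_lit 27657749)) (BT.leaf (nat_lit 24881421))))) (BT.node (nat_lit 8014976) (BT.node (nat_lit 8014848) (BT.node (nat_lit 8014784) (BT.leaf (nat_lit 33148433)) (BT.leaf (nat_lit 24881433))) (BT.node (nat_lit 8014912) (BT.leaf (nat_lit 24881437)) (BT.leaf (nat_lit 24349213)))) (BT.node (nat_lit 8015104) (BT.node (nat_lit 8015040) (BT.leaf (nat_lit 24349469)) (BT.leaf (nat_lit 27657501))) (BT.node (nat_lit 8015168) (BT.leaf (nat_lit 27518493)) (BT.leaf (nat_lit 24349973))))))) (BT.node (nat_lit 8016256) (BT.node (nat_lit 8015744) (BT.node (nat_lit 8015488) (BT.node (nat_lit 8015360) (BT.node (nat_lit 8015296) (BT.leaf (nat_lit 45043473)) (BT.leaf (nat_lit 24362773))) (BT.node (nat_lit 8015424) (BT.leaf (nat_lit 42197537)) (BT.leaf (nat_lit 39309089)))) (BT.node (nat_lit 8015616) (BT.node (nat_lit 8015552) (BT.leaf (nat_lit 45017605)) (BT.leaf (nat_lit 28294677))) (BT.node (nat_lit 8015680) (BT.leaf (nat_lit 43369733)) (BT.leaf (nat_lit 29339409))))) (BT.node (nat_lit 8016000) (BT.node (nat_lit 8015872) (BT.node (nat_lit 8015808) (BT.leaf (nat_lit 27661341)) (BT.leaf (nat_lit 24350489))) (BT.node (nat_lit 8015936) (BT.leaf (nat_lit 49138713)) (BT.leaf (nat_lit 28250637)))) (BT.node (nat_lit 8016128) (BT.node (nat_lit 8016064) (BT.leaf (nat_lit 28250649)) (BT.leaf (nat_lit 49138701))) (BT.node (nat_lit 8016192) (BT.leaf (nat_lit 28250657)) (BT.leaf (nat_lit 28250389)))))) (BT.node (nat_lit 8016768) (BT.node (nat_lit 8016512) (BT.node (nat_lit 8016384) (BT.node (nat_lit 8016320) (BT.leaf (nat_lit 42918421)) (BT.leaf (nat_lit 30564369))) (BT.node (nat_lit 8016448) (BT.leaf (nat_lit 46616585)) (BT.leaf (nat_lit 39257885)))) (BT.node (nat_lit 8016640) (BT.node (nat_lit 8016576) (BT.leaf (nat_lit 24351749)) (BT.leaf (nat_lit 32091401))) (BT.node (nat_lit 8016704) (BT.leaf (nat_lit 40764933)) (BT.leaf (nat_lit 34944541))))) (BT.node (nat_lit 8017024) (BT.node (nat_lit 8016896) (BT.node (nat_lit 8016832) (BT.leaf (nat_lit 24352265)) (BT.leaf (nat_lit 47315717))) (BT.node (nat_lit 8016960) (BT.leaf (nat_lit 49086733)) (BT.leaf (nat_lit 49086729)))) (BT.node (nat_lit 8017152) (BT.node (nat_lit 8017088) (BT.leaf (nat_lit 29199137)) (BT.leaf (nat_lit 47451929))) (BT.node (nat_lit 8017216) (BT.leaf (nat_lit 47451933)) (BT.leaf (nat_lit 41558545)))))))) (BT.node (nat_lit 8019328) (BT.node (nat_lit 8018304) (BT.node (nat_lit 8017792) (BT.node (nat_lit 8017536) (BT.node (nat_lit 8017408) (BT.node (nat_lit 8017344) (BT.leaf (nat_lit 24352533)) (BT.leaf (nat_lit 31989521))) (BT.node (nat_lit 8017472) (BT.leaf (nat_lit 48056341)) (BT.leaf (nat_lit 48056345)))) (BT.node (nat_lit 8017664) (BT.node (nat_lit 8017600) (BT.leaf (nat_lit 48056349)) (BT.leaf (nat_lit 31106841))) (BT.node (nat_lit 8017728) (BT.leaf (nat_lit 31106845)) (BT.leaf (nat_lit 30468121))))) (BT.node (nat_lit 8018048) (BT.node (nat_lit 8017920) (BT.node (nat_lit 8017856) (BT.leaf (nat_lit 48056085)) (BT.leaf (nat_lit 46905109))) (BT.node (nat_lit 8017984) (BT.leaf (nat_lit 32275225)) (BT.leaf (nat_lit 43133461)))) (BT.node (nat_lit 8018176) (BT.node (nat_lit 8018112) (BT.leaf (nat_lit 43023137)) (BT.leaf (nat_lit 39566345))) (BT.node (nat_lit 8018240) (BT.leaf (nat_lit 29047829)) (BT.leaf (nat_lit 29503749)))))) (BT.node (nat_lit 8018816) (BT.node (nat_lit 8018560) (BT.node (nat_lit 8018432) (BT.node (nat_lit 8018368) (BT.leaf (nat_lit 47226645)) (BT.leaf (nat_lit 31717653))) (BT.node (nat_lit 8018496) (BT.leaf (nat_lit 32045581)) (BT.leaf (nat_lit 32343841)))) (BT.node (nat_lit 8018688) (BT.node (nat_lit 8018624) (BT.leaf (nat_lit 32919057)) (BT.leaf (nat_lit 32919073))) (BT.node (nat_lit 8018752) (BT.leaf (nat_lit 42124049)) (BT.leaf (nat_lit 32225297))))) (BT.node (nat_lit 8019072) (BT.node (nat_lit 8018944) (BT.node (nat_lit 8018880) (BT.leaf (nat_lit 40822305)) (BT.leaf (nat_lit 29023505))) (BT.node (nat_lit 8019008) (BT.leaf (nat_lit 49146401)) (BT.leaf (nat_lit 25821213)))) (BT.node (nat_lit 8019200) (BT.node (nat_lit 8019136) (BT.leaf (nat_lit 35662085)) (BT.leaf (nat_lit 36703777))) (BT.node (nat_lit 8019264) (BT.leaf (nat_lit 36704033)) (BT.leaf (nat_lit 25823765))))))) (BT.node (nat_lit 8020352) (BT.node (nat_lit 8019840) (BT.node (nat_lit 8019584) (BT.node (nat_lit 8019456) (BT.node (nat_lit 8019392) (BT.leaf (nat_lit 36704289)) (BT.leaf (nat_lit 50408709))) (BT.node (nat_lit 8019520) (BT.leaf (nat_lit 23615257)) (BT.leaf (nat_lit 24325401)))) (BT.node (nat_lit 8019712) (BT.node (nat_lit 8019648) (BT.leaf (nat_lit 24356121)) (BT.leaf (nat_lit 34650905))) (BT.node (nat_lit 8019776) (BT.leaf (nat_lit 28280597)) (BT.leaf (nat_lit 24356381))))) (BT.node (nat_lit 8020096) (BT.node (nat_lit 8019968) (BT.node (nat_lit 8019904) (BT.leaf (nat_lit 24325405)) (BT.leaf (nat_lit 24356125))) (BT.node (nat_lit 8020032) (BT.leaf (nat_lit 27416337)) (BT.leaf (nat_lit 27416341)))) (BT.node (nat_lit 8020224) (BT.node (nat_lit 8020160) (BT.leaf (nat_lit 24356377)) (BT.leaf (nat_lit 24359701))) (BT.node (nat_lit 8020288) (BT.leaf (nat_lit 28216353)) (BT.leaf (nat_lit 38427669)))))) (BT.node (nat_lit 8020864) (BT.node (nat_lit 8020608) (BT.node (nat_lit 8020480) (BT.node (nat_lit 8020416) (BT.leaf (nat_lit 39976965)) (BT.leaf (nat_lit 24359961))) (BT.node (nat_lit 8020544) (BT.leaf (nat_lit 24360217)) (BT.leaf (nat_lit 24359965)))) (BT.node (nat_lit 8020736) (BT.node (nat_lit 8020672) (BT.leaf (nat_lit 24360221)) (BT.leaf (nat_lit 38760725))) (BT.node (nat_lit 8020800) (BT.leaf (nat_lit 48482833)) (BT.leaf (nat_lit 27658769))))) (BT.node (nat_lit 8021120) (BT.node (nat_lit 8020992) (BT.node (nat_lit 8020928) (BT.leaf (nat_lit 49148421)) (BT.leaf (nat_lit 47773701))) (BT.node (nat_lit 8021056) (BT.leaf (nat_lit 24349461)) (BT.leaf (nat_lit 48349701)))) (BT.node (nat_lit 8021248) (BT.node (nat_lit 8021184) (BT.leaf (nat_lit 30490909)) (BT.leaf (nat_lit 49149201))) (BT.node (nat_lit 8021312) (BT.leaf (nat_lit 24362013)) (BT.leaf (nat_lit 47358725))))))))))) (BT.node (nat_lit 8037760) (BT.node (nat_lit 8029568) (BT.node (nat_lit 8025472) (BT.node (nat_lit 8023424) (BT.node (nat_lit 8022400) (BT.node (nat_lit 8021888) (BT.node (nat_lit 8021632) (BT.node (nat_lit 8021504) (BT.node (nat_lit 8021440) (BT.leaf (nat_lit 30492181)) (BT.leaf (nat_lit 24362517))) (BT.node (nat_lit 8021568) (BT.leaf (nat_lit 47529737)) (BT.leaf (nat_lit 47529741)))) (BT.node (nat_lit 8021760) (BT.node (nat_lit 8021696) (BT.leaf (nat_lit 31912985)) (BT.leaf (nat_lit 24362777))) (BT.node (nat_lit 8021824) (BT.leaf (nat_lit 24363033)) (BT.leaf (nat_lit 31123973))))) (BT.node (nat_lit 8022144) (BT.node (nat_lit 8022016) (BT.node (nat_lit 8021952) (BT.leaf (nat_lit 47359493)) (BT.leaf (nat_lit 47360005))) (BT.node (nat_lit 8022080) (BT.leaf (nat_lit 34304021)) (BT.leaf (nat_lit 49153565)))) (BT.node (nat_lit 8022272) (BT.node (nat_lit 8022208) (BT.leaf (nat_lit 24363289)) (BT.leaf (nat_lit 23743769))) (BT.node (nat_lit 8022336) (BT.leaf (nat_lit 24363801)) (BT.leaf (nat_lit 43111185)))))) (BT.node (nat_lit 8022912) (BT.node (nat_lit 8022656) (BT.node (nat_lit 8022528) (BT.node (nat_lit 8022464) (BT.leaf (nat_lit 23011101)) (BT.leaf (nat_lit 24363805))) (BT.node (nat_lit 8022592) (BT.leaf (nat_lit 32379909)) (BT.leaf (nat_lit 23011097)))) (BT.node (nat_lit 8022784) (BT.node (nat_lit 8022720) (BT.leaf (nat_lit 38784537)) (BT.leaf (nat_lit 23626257))) (BT.node (nat_lit 8022848) (BT.leaf (nat_lit 46826001)) (BT.leaf (nat_lit 27856405))))) (BT.node (nat_lit 8023168) (BT.node (nat_lit 8023040) (BT.node (nat_lit 8022976) (BT.leaf (nat_lit 43393313)) (BT.leaf (nat_lit 49157921))) (BT.node (nat_lit 8023104) (BT.leaf (nat_lit 32671009)) (BT.leaf (nat_lit 30892065)))) (BT.node (nat_lit 8023296) (BT.node (nat_lit 8023232) (BT.leaf (nat_lit 49158689)) (BT.leaf (nat_lit 31988757))) (BT.node (nat_lit 8023360) (BT.leaf (nat_lit 45019401)) (BT.leaf (nat_lit 47362565))))))) (BT.node (nat_lit 8024448) (BT.node (nat_lit 8023936) (BT.node (nat_lit 8023680) (BT.node (nat_lit 8023552) (BT.node (nat_lit 8023488) (BT.leaf (nat_lit 47784201)) (BT.leaf (nat_lit 41612301))) (BT.node (nat_lit 8023616) (BT.leaf (nat_lit 40741393)) (BT.leaf (nat_lit 34790413)))) (BT.node (nat_lit 8023808) (BT.node (nat_lit 8023744) (BT.leaf (nat_lit 24352789)) (BT.leaf (nat_lit 40402961))) (BT.node (nat_lit 8023872) (BT.leaf (nat_lit 40865569)) (BT.leaf (nat_lit 41742597))))) (BT.node (nat_lit 8024192) (BT.node (nat_lit 8024064) (BT.node (nat_lit 8024000) (BT.leaf (nat_lit 25829397)) (BT.leaf (nat_lit 32658453))) (BT.node (nat_lit 8024128) (BT.leaf (nat_lit 31114001)) (BT.leaf (nat_lit 31114005)))) (BT.node (nat_lit 8024320) (BT.node (nat_lit 8024256) (BT.leaf (nat_lit 32805665)) (BT.leaf (nat_lit 32805893))) (BT.node (nat_lit 8024384) (BT.leaf (nat_lit 29363745)) (BT.leaf (nat_lit 49161225)))))) (BT.node (nat_lit 8024960) (BT.node (nat_lit 8024704) (BT.node (nat_lit 8024576) (BT.node (nat_lit 8024512) (BT.leaf (nat_lit 28973593)) (BT.leaf (nat_lit 28973597))) (BT.node (nat_lit 8024640) (BT.leaf (nat_lit 27794965)) (BT.leaf (nat_lit 41744145)))) (BT.node (nat_lit 8024832) (BT.node (nat_lit 8024768) (BT.leaf (nat_lit 45050901)) (BT.leaf (nat_lit 43666709))) (BT.node (nat_lit 8024896) (BT.leaf (nat_lit 43397393)) (BT.leaf (nat_lit 37369617))))) (BT.node (nat_lit 8025216) (BT.node (nat_lit 8025088) (BT.node (nat_lit 8025024) (BT.leaf (nat_lit 50322445)) (BT.leaf (nat_lit 32331269))) (BT.node (nat_lit 8025152) (BT.leaf (nat_lit 29255201)) (BT.leaf (nat_lit 28565265)))) (BT.node (nat_lit 8025344) (BT.node (nat_lit 8025280) (BT.leaf (nat_lit 49164305)) (BT.leaf (nat_lit 39370017))) (BT.node (nat_lit 8025408) (BT.leaf (nat_lit 49164309)) (BT.leaf (nat_lit 52328201)))))))) (BT.node (nat_lit 8027520) (BT.node (nat_lit 8026496) (BT.node (nat_lit 8025984) (BT.node (nat_lit 8025728) (BT.node (nat_lit 8025600) (BT.node (nat_lit 8025536) (BT.leaf (nat_lit 30271513)) (BT.leaf (nat_lit 30271517))) (BT.node (nat_lit 8025664) (BT.leaf (nat_lit 47126549)) (BT.leaf (nat_lit 27286301)))) (BT.node (nat_lit 8025856) (BT.node (nat_lit 8025792) (BT.leaf (nat_lit 37133589)) (BT.leaf (nat_lit 49165573))) (BT.node (nat_lit 8025920) (BT.leaf (nat_lit 36094993)) (BT.leaf (nat_lit 24372245))))) (BT.node (nat_lit 8026240) (BT.node (nat_lit 8026112) (BT.node (nat_lit 8026048) (BT.leaf (nat_lit 30199049)) (BT.leaf (nat_lit 30199053))) (BT.node (nat_lit 8026176) (BT.leaf (nat_lit 30199057)) (BT.leaf (nat_lit 30199065)))) (BT.node (nat_lit 8026368) (BT.node (nat_lit 8026304) (BT.leaf (nat_lit 30199069)) (BT.leaf (nat_lit 30199073))) (BT.node (nat_lit 8026432) (BT.leaf (nat_lit 31767821)) (BT.leaf (nat_lit 30550037)))))) (BT.node (nat_lit 8027008) (BT.node (nat_lit 8026752) (BT.node (nat_lit 8026624) (BT.node (nat_lit 8026560) (BT.leaf (nat_lit 31728921)) (BT.leaf (nat_lit 48922633))) (BT.node (nat_lit 8026688) (BT.leaf (nat_lit 48920857)) (BT.leaf (nat_lit 31586569)))) (BT.node (nat_lit 8026880) (BT.node (nat_lit 8026816) (BT.leaf (nat_lit 49167905)) (BT.leaf (nat_lit 36180505))) (BT.node (nat_lit 8026944) (BT.leaf (nat_lit 28656161)) (BT.leaf (nat_lit 29044245))))) (BT.node (nat_lit 8027264) (BT.node (nat_lit 8027136) (BT.node (nat_lit 8027072) (BT.leaf (nat_lit 50619925)) (BT.leaf (nat_lit 36145173))) (BT.node (nat_lit 8027200) (BT.leaf (nat_lit 29851665)) (BT.leaf (nat_lit 37176089)))) (BT.node (nat_lit 8027392) (BT.node (nat_lit 8027328) (BT.leaf (nat_lit 32224781)) (BT.leaf (nat_lit 32224785))) (BT.node (nat_lit 8027456) (BT.leaf (nat_lit 44955937)) (BT.leaf (nat_lit 49168917))))))) (BT.node (nat_lit 8028544) (BT.node (nat_lit 8028032) (BT.node (nat_lit 8027776) (BT.node (nat_lit 8027648) (BT.node (nat_lit 8027584) (BT.leaf (nat_lit 45080325)) (BT.leaf (nat_lit 30161169))) (BT.node (nat_lit 8027712) (BT.leaf (nat_lit 24376081)) (BT.leaf (nat_lit 29752601)))) (BT.node (nat_lit 8027904) (BT.node (nat_lit 8027840) (BT.leaf (nat_lit 46815773)) (BT.leaf (nat_lit 31761173))) (BT.node (nat_lit 8027968) (BT.leaf (nat_lit 24299805)) (BT.leaf (nat_lit 45087265))))) (BT.node (nat_lit 8028288) (BT.node (nat_lit 8028160) (BT.node (nat_lit 8028096) (BT.leaf (nat_lit 24377105)) (BT.leaf (nat_lit 24376593))) (BT.node (nat_lit 8028224) (BT.leaf (nat_lit 24376337)) (BT.leaf (nat_lit 37958177)))) (BT.node (nat_lit 8028416) (BT.node (nat_lit 8028352) (BT.leaf (nat_lit 32996129)) (BT.leaf (nat_lit 23195153))) (BT.node (nat_lit 8028480) (BT.leaf (nat_lit 41687301)) (BT.leaf (nat_lit 45088789)))))) (BT.node (nat_lit 8029056) (BT.node (nat_lit 8028800) (BT.node (nat_lit 8028672) (BT.node (nat_lit 8028608) (BT.leaf (nat_lit 31804449)) (BT.leaf (nat_lit 30113565))) (BT.node (nat_lit 8028736) (BT.leaf (nat_lit 47345937)) (BT.leaf (nat_lit 37841441)))) (BT.node (nat_lit 8028928) (BT.node (nat_lit 8028864) (BT.leaf (nat_lit 28288285)) (BT.leaf (nat_lit 47345941))) (BT.node (nat_lit 8028992) (BT.leaf (nat_lit 39154977)) (BT.leaf (nat_lit 49172757))))) (BT.node (nat_lit 8029312) (BT.node (nat_lit 8029184) (BT.node (nat_lit 8029120) (BT.leaf (nat_lit 39155461)) (BT.leaf (nat_lit 41697285))) (BT.node (nat_lit 8029248) (BT.leaf (nat_lit 38923797)) (BT.leaf (nat_lit 49173265)))) (BT.node (nat_lit 8029440) (BT.node (nat_lit 8029376) (BT.leaf (nat_lit 28497173)) (BT.leaf (nat_lit 29702917))) (BT.node (nat_lit 8029504) (BT.leaf (nat_lit 32843797)) (BT.leaf (nat_lit 28497177))))))))) (BT.node (nat_lit 8033664) (BT.node (nat_lit 8031616) (BT.node (nat_lit 8030592) (BT.node (nat_lit 8030080) (BT.node (nat_lit 8029824) (BT.node (nat_lit 8029696) (BT.node (nat_lit 8029632) (BT.leaf (nat_lit 28497181)) (BT.leaf (nat_lit 24380189))) (BT.node (nat_lit 8029760) (BT.leaf (nat_lit 24380689)) (BT.leaf (nat_lit 24380433)))) (BT.node (nat_lit 8029952) (BT.node (nat_lit 8029888) (BT.leaf (nat_lit 47010053)) (BT.leaf (nat_lit 49174289))) (BT.node (nat_lit 8030016) (BT.leaf (nat_lit 44333061)) (BT.leaf (nat_lit 35737877))))) (BT.node (nat_lit 8030336) (BT.node (nat_lit 8030208) (BT.node (nat_lit 8030144) (BT.leaf (nat_lit 41714949)) (BT.leaf (nat_lit 29707037))) (BT.node (nat_lit 8030272) (BT.leaf (nat_lit 41841157)) (BT.leaf (nat_lit 27581965)))) (BT.node (nat_lit 8030464) (BT.node (nat_lit 8030400) (BT.leaf (nat_lit 28061473)) (BT.leaf (nat_lit 28059937))) (BT.node (nat_lit 8030528) (BT.leaf (nat_lit 27581977)) (BT.leaf (nat_lit 28060193)))))) (BT.node (nat_lit 8031104) (BT.node (nat_lit 8030848) (BT.node (nat_lit 8030720) (BT.node (nat_lit 8030656) (BT.leaf (nat_lit 29793293)) (BT.leaf (nat_lit 24382993))) (BT.node (nat_lit 8030784) (BT.leaf (nat_lit 43460101)) (BT.leaf (nat_lit 40104709)))) (BT.node (nat_lit 8030976) (BT.node (nat_lit 8030912) (BT.leaf (nat_lit 24384529)) (BT.leaf (nat_lit 24384273))) (BT.node (nat_lit 8031040) (BT.leaf (nat_lit 24383505)) (BT.leaf (nat_lit 23773713))))) (BT.node (nat_lit 8031360) (BT.node (nat_lit 8031232) (BT.node (nat_lit 8031168) (BT.leaf (nat_lit 28538397)) (BT.leaf (nat_lit 28492565))) (BT.node (nat_lit 8031296) (BT.leaf (nat_lit 31797013)) (BT.leaf (nat_lit 24384785)))) (BT.node (nat_lit 8031488) (BT.node (nat_lit 8031424) (BT.leaf (nat_lit 37905673)) (BT.leaf (nat_lit 24805397))) (BT.node (nat_lit 8031552) (BT.leaf (nat_lit 36288029)) (BT.leaf (nat_lit 27557141))))))) (BT.node (nat_lit 8032640) (BT.node (nat_lit 8032128) (BT.node (nat_lit 8031872) (BT.node (nat_lit 8031744) (BT.node (nat_lit 8031680) (BT.leaf (nat_lit 49178629)) (BT.leaf (nat_lit 38230049))) (BT.node (nat_lit 8031808) (BT.leaf (nat_lit 38660101)) (BT.leaf (nat_lit 41990689)))) (BT.node (nat_lit 8032000) (BT.node (nat_lit 8031936) (BT.leaf (nat_lit 49179169)) (BT.leaf (nat_lit 27379721))) (BT.node (nat_lit 8032064) (BT.leaf (nat_lit 27379725)) (BT.leaf (nat_lit 31123209))))) (BT.node (nat_lit 8032384) (BT.node (nat_lit 8032256) (BT.node (nat_lit 8032192) (BT.leaf (nat_lit 27379737)) (BT.leaf (nat_lit 27379741))) (BT.node (nat_lit 8032320) (BT.leaf (nat_lit 27379745)) (BT.leaf (nat_lit 38257165)))) (BT.node (nat_lit 8032512) (BT.node (nat_lit 8032448) (BT.leaf (nat_lit 26567197)) (BT.leaf (nat_lit 39408653))) (BT.node (nat_lit 8032576) (BT.leaf (nat_lit 31735049)) (BT.leaf (nat_lit 39405573)))))) (BT.node (nat_lit 8033152) (BT.node (nat_lit 8032896) (BT.node (nat_lit 8032768) (BT.node (nat_lit 8032704) (BT.leaf (nat_lit 30297377)) (BT.leaf (nat_lit 28539933))) (BT.node (nat_lit 8032832) (BT.leaf (nat_lit 32334877)) (BT.leaf (nat_lit 42513169)))) (BT.node (nat_lit 8033024) (BT.node (nat_lit 8032960) (BT.leaf (nat_lit 41460997)) (BT.leaf (nat_lit 29604357))) (BT.node (nat_lit 8033088) (BT.leaf (nat_lit 23751697)) (BT.leaf (nat_lit 24077585))))) (BT.node (nat_lit 8033408) (BT.node (nat_lit 8033280) (BT.node (nat_lit 8033216) (BT.leaf (nat_lit 37068813)) (BT.leaf (nat_lit 41531169))) (BT.node (nat_lit 8033344) (BT.leaf (nat_lit 31025429)) (BT.leaf (nat_lit 29605125)))) (BT.node (nat_lit 8033536) (BT.node (nat_lit 8033472) (BT.leaf (nat_lit 35887137)) (BT.leaf (nat_lit 30331669))) (BT.node (nat_lit 8033600) (BT.leaf (nat_lit 41462561)) (BT.leaf (nat_lit 30923801)))))))) (BT.node (nat_lit 8035712) (BT.node (nat_lit 8034688) (BT.node (nat_lit 8034176) (BT.node (nat_lit 8033920) (BT.node (nat_lit 8033792) (BT.node (nat_lit 8033728) (BT.leaf (nat_lit 30923805)) (BT.leaf (nat_lit 23177745))) (BT.node (nat_lit 8033856) (BT.leaf (nat_lit 39328525)) (BT.leaf (nat_lit 39328529)))) (BT.node (nat_lit 8034048) (BT.node (nat_lit 8033984) (BT.leaf (nat_lit 39328541)) (BT.leaf (nat_lit 39328545))) (BT.node (nat_lit 8034112) (BT.leaf (nat_lit 43437577)) (BT.leaf (nat_lit 24586773))))) (BT.node (nat_lit 8034432) (BT.node (nat_lit 8034304) (BT.node (nat_lit 8034240) (BT.leaf (nat_lit 39360773)) (BT.leaf (nat_lit 24215569))) (BT.node (nat_lit 8034368) (BT.leaf (nat_lit 39360793)) (BT.leaf (nat_lit 39360797)))) (BT.node (nat_lit 8034560) (BT.node (nat_lit 8034496) (BT.leaf (nat_lit 31678753)) (BT.leaf (nat_lit 24626197))) (BT.node (nat_lit 8034624) (BT.leaf (nat_lit 32140057)) (BT.leaf (nat_lit 40040737)))))) (BT.node (nat_lit 8035200) (BT.node (nat_lit 8034944) (BT.node (nat_lit 8034816) (BT.node (nat_lit 8034752) (BT.leaf (nat_lit 49184273)) (BT.leaf (nat_lit 24659993))) (BT.node (nat_lit 8034880) (BT.leaf (nat_lit 24659997)) (BT.leaf (nat_lit 24085021)))) (BT.node (nat_lit 8035072) (BT.node (nat_lit 8035008) (BT.leaf (nat_lit 29746961)) (BT.leaf (nat_lit 25707025))) (BT.node (nat_lit 8035136) (BT.leaf (nat_lit 49185041)) (BT.leaf (nat_lit 49058821))))) (BT.node (nat_lit 8035456) (BT.node (nat_lit 8035328) (BT.node (nat_lit 8035264) (BT.leaf (nat_lit 31576093)) (BT.leaf (nat_lit 25864977))) (BT.node (nat_lit 8035392) (BT.leaf (nat_lit 24389393)) (BT.leaf (nat_lit 31407649)))) (BT.node (nat_lit 8035584) (BT.node (nat_lit 8035520) (BT.leaf (nat_lit 38872601)) (BT.leaf (nat_lit 38872605))) (BT.node (nat_lit 8035648) (BT.leaf (nat_lit 24388893)) (BT.leaf (nat_lit 48945157))))))) (BT.node (nat_lit 8036736) (BT.node (nat_lit 8036224) (BT.node (nat_lit 8035968) (BT.node (nat_lit 8035840) (BT.node (nat_lit 8035776) (BT.leaf (nat_lit 28712721)) (BT.leaf (nat_lit 28673553))) (BT.node (nat_lit 8035904) (BT.leaf (nat_lit 32449033)) (BT.leaf (nat_lit 32449037)))) (BT.node (nat_lit 8036096) (BT.node (nat_lit 8036032) (BT.leaf (nat_lit 24391189)) (BT.leaf (nat_lit 34140189))) (BT.node (nat_lit 8036160) (BT.leaf (nat_lit 32449057)) (BT.leaf (nat_lit 31825169))))) (BT.node (nat_lit 8036480) (BT.node (nat_lit 8036352) (BT.node (nat_lit 8036288) (BT.leaf (nat_lit 25499925)) (BT.leaf (nat_lit 39237397))) (BT.node (nat_lit 8036416) (BT.leaf (nat_lit 47580421)) (BT.leaf (nat_lit 29650961)))) (BT.node (nat_lit 8036608) (BT.node (nat_lit 8036544) (BT.leaf (nat_lit 49189909)) (BT.leaf (nat_lit 49190421))) (BT.node (nat_lit 8036672) (BT.leaf (nat_lit 27646737)) (BT.leaf (nat_lit 49190405)))))) (BT.node (nat_lit 8037248) (BT.node (nat_lit 8036992) (BT.node (nat_lit 8036864) (BT.node (nat_lit 8036800) (BT.leaf (nat_lit 41903381)) (BT.leaf (nat_lit 40873233))) (BT.node (nat_lit 8036928) (BT.leaf (nat_lit 29632545)) (BT.leaf (nat_lit 32148509)))) (BT.node (nat_lit 8037120) (BT.node (nat_lit 8037056) (BT.leaf (nat_lit 49177113)) (BT.leaf (nat_lit 49190945))) (BT.node (nat_lit 8037184) (BT.leaf (nat_lit 49191189)) (BT.leaf (nat_lit 31468049))))) (BT.node (nat_lit 8037504) (BT.node (nat_lit 8037376) (BT.node (nat_lit 8037312) (BT.leaf (nat_lit 48949277)) (BT.leaf (nat_lit 24629265))) (BT.node (nat_lit 8037440) (BT.leaf (nat_lit 41590049)) (BT.leaf (nat_lit 41349409)))) (BT.node (nat_lit 8037632) (BT.node (nat_lit 8037568) (BT.leaf (nat_lit 49191957)) (BT.leaf (nat_lit 48942353))) (BT.node (nat_lit 8037696) (BT.leaf (nat_lit 30074905)) (BT.leaf (nat_lit 30074909)))))))))) (BT.node (nat_lit 8045952) (BT.node (nat_lit 8041856) (BT.node (nat_lit 8039808) (BT.node (nat_lit 8038784) (BT.node (nat_lit 8038272) (BT.node (nat_lit 8038016) (BT.node (nat_lit 8037888) (BT.node (nat_lit 8037824) (BT.leaf (nat_lit 43396641)) (BT.leaf (nat_lit 24396821))) (BT.node (nat_lit 8037952) (BT.leaf (nat_lit 43427609)) (BT.leaf (nat_lit 50865937)))) (BT.node (nat_lit 8038144) (BT.node (nat_lit 8038080) (BT.leaf (nat_lit 24782105)) (BT.leaf (nat_lit 24397081))) (BT.node (nat_lit 8038208) (BT.leaf (nat_lit 24397337)) (BT.leaf (nat_lit 24845585))))) (BT.node (nat_lit 8038528) (BT.node (nat_lit 8038400) (BT.node (nat_lit 8038336) (BT.leaf (nat_lit 32942341)) (BT.leaf (nat_lit 24397085))) (BT.node (nat_lit 8038464) (BT.leaf (nat_lit 24397341)) (BT.leaf (nat_lit 32947729)))) (BT.node (nat_lit 8038656) (BT.node (nat_lit 8038592) (BT.leaf (nat_lit 42316825)) (BT.leaf (nat_lit 24397593))) (BT.node (nat_lit 8038720) (BT.leaf (nat_lit 49195277)) (BT.leaf (nat_lit 47908625)))))) (BT.node (nat_lit 8039296) (BT.node (nat_lit 8039040) (BT.node (nat_lit 8038912) (BT.node (nat_lit 8038848) (BT.leaf (nat_lit 37761297)) (BT.leaf (nat_lit 43235349))) (BT.node (nat_lit 8038976) (BT.leaf (nat_lit 43550993)) (BT.leaf (nat_lit 31814165)))) (BT.node (nat_lit 8039168) (BT.node (nat_lit 8039104) (BT.leaf (nat_lit 31800597)) (BT.leaf (nat_lit 32156169))) (BT.node (nat_lit 8039232) (BT.leaf (nat_lit 30666513)) (BT.leaf (nat_lit 30105365))))) (BT.node (nat_lit 8039552) (BT.node (nat_lit 8039424) (BT.node (nat_lit 8039360) (BT.leaf (nat_lit 50924313)) (BT.leaf (nat_lit 31635477))) (BT.node (nat_lit 8039488) (BT.leaf (nat_lit 48098845)) (BT.leaf (nat_lit 42308361)))) (BT.node (nat_lit 8039680) (BT.node (nat_lit 8039616) (BT.leaf (nat_lit 30096913)) (BT.leaf (nat_lit 49196829))) (BT.node (nat_lit 8039744) (BT.leaf (nat_lit 28940817)) (BT.leaf (nat_lit 24399121))))))) (BT.node (nat_lit 8040832) (BT.node (nat_lit 8040320) (BT.node (nat_lit 8040064) (BT.node (nat_lit 8039936) (BT.node (nat_lit 8039872) (BT.leaf (nat_lit 35194401)) (BT.leaf (nat_lit 31073285))) (BT.node (nat_lit 8040000) (BT.leaf (nat_lit 39835169)) (BT.leaf (nat_lit 32160285)))) (BT.node (nat_lit 8040192) (BT.node (nat_lit 8040128) (BT.leaf (nat_lit 24190481)) (BT.leaf (nat_lit 41136657))) (BT.node (nat_lit 8040256) (BT.leaf (nat_lit 27973145)) (BT.leaf (nat_lit 28876321))))) (BT.node (nat_lit 8040576) (BT.node (nat_lit 8040448) (BT.node (nat_lit 8040384) (BT.leaf (nat_lit 38023441)) (BT.leaf (nat_lit 37892361))) (BT.node (nat_lit 8040512) (BT.leaf (nat_lit 39616005)) (BT.leaf (nat_lit 42401553)))) (BT.node (nat_lit 8040704) (BT.node (nat_lit 8040640) (BT.leaf (nat_lit 31464725)) (BT.leaf (nat_lit 24399889))) (BT.node (nat_lit 8040768) (BT.leaf (nat_lit 34711057)) (BT.leaf (nat_lit 42590493)))))) (BT.node (nat_lit 8041344) (BT.node (nat_lit 8041088) (BT.node (nat_lit 8040960) (BT.node (nat_lit 8040896) (BT.leaf (nat_lit 27294997)) (BT.leaf (nat_lit 27313165))) (BT.node (nat_lit 8041024) (BT.leaf (nat_lit 51632405)) (BT.leaf (nat_lit 24400149)))) (BT.node (nat_lit 8041216) (BT.node (nat_lit 8041152) (BT.leaf (nat_lit 34264349)) (BT.leaf (nat_lit 49199641))) (BT.node (nat_lit 8041280) (BT.leaf (nat_lit 49200153)) (BT.leaf (nat_lit 39099909))))) (BT.node (nat_lit 8041600) (BT.node (nat_lit 8041472) (BT.node (nat_lit 8041408) (BT.leaf (nat_lit 47885589)) (BT.leaf (nat_lit 22656785))) (BT.node (nat_lit 8041536) (BT.leaf (nat_lit 43263253)) (BT.leaf (nat_lit 22559765)))) (BT.node (nat_lit 8041728) (BT.node (nat_lit 8041664) (BT.leaf (nat_lit 28292369)) (BT.leaf (nat_lit 40896277))) (BT.node (nat_lit 8041792) (BT.leaf (nat_lit 39010337)) (BT.leaf (nat_lit 39010821)))))))) (BT.node (nat_lit 8043904) (BT.node (nat_lit 8042880) (BT.node (nat_lit 8042368) (BT.node (nat_lit 8042112) (BT.node (nat_lit 8041984) (BT.node (nat_lit 8041920) (BT.leaf (nat_lit 27557901)) (BT.leaf (nat_lit 24404233))) (BT.node (nat_lit 8042048) (BT.leaf (nat_lit 34739717)) (BT.leaf (nat_lit 33847829)))) (BT.node (nat_lit 8042240) (BT.node (nat_lit 8042176) (BT.leaf (nat_lit 28343569)) (BT.leaf (nat_lit 27557913))) (BT.node (nat_lit 8042304) (BT.leaf (nat_lit 31031813)) (BT.leaf (nat_lit 28343313))))) (BT.node (nat_lit 8042624) (BT.node (nat_lit 8042496) (BT.node (nat_lit 8042432) (BT.leaf (nat_lit 49203477)) (BT.leaf (nat_lit 29872913))) (BT.node (nat_lit 8042560) (BT.leaf (nat_lit 45164565)) (BT.leaf (nat_lit 45160461)))) (BT.node (nat_lit 8042752) (BT.node (nat_lit 8042688) (BT.leaf (nat_lit 30070045)) (BT.leaf (nat_lit 32130833))) (BT.node (nat_lit 8042816) (BT.leaf (nat_lit 32202009)) (BT.leaf (nat_lit 48798229)))))) (BT.node (nat_lit 8043392) (BT.node (nat_lit 8043136) (BT.node (nat_lit 8043008) (BT.node (nat_lit 8042944) (BT.leaf (nat_lit 37879069)) (BT.leaf (nat_lit 43681809))) (BT.node (nat_lit 8043072) (BT.leaf (nat_lit 49205021)) (BT.leaf (nat_lit 48798489)))) (BT.node (nat_lit 8043264) (BT.node (nat_lit 8043200) (BT.leaf (nat_lit 37789201)) (BT.leaf (nat_lit 39703313))) (BT.node (nat_lit 8043328) (BT.leaf (nat_lit 27841305)) (BT.leaf (nat_lit 27841309))))) (BT.node (nat_lit 8043648) (BT.node (nat_lit 8043520) (BT.node (nat_lit 8043456) (BT.leaf (nat_lit 42342421)) (BT.leaf (nat_lit 38179337))) (BT.node (nat_lit 8043584) (BT.leaf (nat_lit 28331017)) (BT.leaf (nat_lit 48368901)))) (BT.node (nat_lit 8043776) (BT.node (nat_lit 8043712) (BT.leaf (nat_lit 35549721)) (BT.leaf (nat_lit 35549725))) (BT.node (nat_lit 8043840) (BT.leaf (nat_lit 39924493)) (BT.leaf (nat_lit 49206285))))))) (BT.node (nat_lit 8044928) (BT.node (nat_lit 8044416) (BT.node (nat_lit 8044160) (BT.node (nat_lit 8044032) (BT.node (nat_lit 8043968) (BT.leaf (nat_lit 29477393)) (BT.leaf (nat_lit 28391953))) (BT.node (nat_lit 8044096) (BT.leaf (nat_lit 28505117)) (BT.leaf (nat_lit 28641553)))) (BT.node (nat_lit 8044288) (BT.node (nat_lit 8044224) (BT.leaf (nat_lit 24306189)) (BT.leaf (nat_lit 31558945))) (BT.node (nat_lit 8044352) (BT.leaf (nat_lit 29898273)) (BT.leaf (nat_lit 39548437))))) (BT.node (nat_lit 8044672) (BT.node (nat_lit 8044544) (BT.node (nat_lit 8044480) (BT.leaf (nat_lit 23301393)) (BT.leaf (nat_lit 32177689))) (BT.node (nat_lit 8044608) (BT.leaf (nat_lit 39548945)) (BT.leaf (nat_lit 38060065)))) (BT.node (nat_lit 8044800) (BT.node (nat_lit 8044736) (BT.leaf (nat_lit 28126229)) (BT.leaf (nat_lit 28126233))) (BT.node (nat_lit 8044864) (BT.leaf (nat_lit 28126237)) (BT.leaf (nat_lit 41714961)))))) (BT.node (nat_lit 8045440) (BT.node (nat_lit 8045184) (BT.node (nat_lit 8045056) (BT.node (nat_lit 8044992) (BT.leaf (nat_lit 42028817)) (BT.leaf (nat_lit 35363085))) (BT.node (nat_lit 8045120) (BT.leaf (nat_lit 49209361)) (BT.leaf (nat_lit 51569177)))) (BT.node (nat_lit 8045312) (BT.node (nat_lit 8045248) (BT.leaf (nat_lit 51569181)) (BT.leaf (nat_lit 29907461))) (BT.node (nat_lit 8045376) (BT.leaf (nat_lit 47092497)) (BT.leaf (nat_lit 32065301))))) (BT.node (nat_lit 8045696) (BT.node (nat_lit 8045568) (BT.node (nat_lit 8045504) (BT.leaf (nat_lit 40031765)) (BT.leaf (nat_lit 41614865))) (BT.node (nat_lit 8045632) (BT.leaf (nat_lit 32950029)) (BT.leaf (nat_lit 31412509)))) (BT.node (nat_lit 8045824) (BT.node (nat_lit 8045760) (BT.leaf (nat_lit 43862041)) (BT.leaf (nat_lit 49210389))) (BT.node (nat_lit 8045888) (BT.leaf (nat_lit 49210633)) (BT.leaf (nat_lit 43862029))))))))) (BT.node (nat_lit 8050048) (BT.node (nat_lit 8048000) (BT.node (nat_lit 8046976) (BT.node (nat_lit 8046464) (BT.node (nat_lit 8046208) (BT.node (nat_lit 8046080) (BT.node (nat_lit 8046016) (BT.leaf (nat_lit 35249681)) (BT.leaf (nat_lit 27504921))) (BT.node (nat_lit 8046144) (BT.leaf (nat_lit 27525141)) (BT.leaf (nat_lit 49212701)))) (BT.node (nat_lit 8046336) (BT.node (nat_lit 8046272) (BT.leaf (nat_lit 48588573)) (BT.leaf (nat_lit 24409621))) (BT.node (nat_lit 8046400) (BT.leaf (nat_lit 37833477)) (BT.leaf (nat_lit 49212953))))) (BT.node (nat_lit 8046720) (BT.node (nat_lit 8046592) (BT.node (nat_lit 8046528) (BT.leaf (nat_lit 47128845)) (BT.leaf (nat_lit 42035461))) (BT.node (nat_lit 8046656) (BT.leaf (nat_lit 30935329)) (BT.leaf (nat_lit 47481865)))) (BT.node (nat_lit 8046848) (BT.node (nat_lit 8046784) (BT.leaf (nat_lit 49213969)) (BT.leaf (nat_lit 38978849))) (BT.node (nat_lit 8046912) (BT.leaf (nat_lit 41053957)) (BT.leaf (nat_lit 31468309)))))) (BT.node (nat_lit 8047488) (BT.node (nat_lit 8047232) (BT.node (nat_lit 8047104) (BT.node (nat_lit 8047040) (BT.leaf (nat_lit 24409861)) (BT.leaf (nat_lit 30094853))) (BT.node (nat_lit 8047168) (BT.leaf (nat_lit 48604689)) (BT.leaf (nat_lit 31207201)))) (BT.node (nat_lit 8047360) (BT.node (nat_lit 8047296) (BT.leaf (nat_lit 40201753)) (BT.leaf (nat_lit 49214997))) (BT.node (nat_lit 8047424) (BT.leaf (nat_lit 32945165)) (BT.leaf (nat_lit 24410641))))) (BT.node (nat_lit 8047744) (BT.node (nat_lit 8047616) (BT.node (nat_lit 8047552) (BT.leaf (nat_lit 27366681)) (BT.leaf (nat_lit 27366685))) (BT.node (nat_lit 8047680) (BT.leaf (nat_lit 24720649)) (BT.leaf (nat_lit 48589597)))) (BT.node (nat_lit 8047872) (BT.node (nat_lit 8047808) (BT.leaf (nat_lit 48589577)) (BT.leaf (nat_lit 24720669))) (BT.node (nat_lit 8047936) (BT.leaf (nat_lit 34025493)) (BT.leaf (nat_lit 30221841))))))) (BT.node (nat_lit 8049024) (BT.node (nat_lit 8048512) (BT.node (nat_lit 8048256) (BT.node (nat_lit 8048128) (BT.node (nat_lit 8048064) (BT.leaf (nat_lit 32154905)) (BT.leaf (nat_lit 32154909))) (BT.node (nat_lit 8048192) (BT.leaf (nat_lit 24412433)) (BT.leaf (nat_lit 48742917)))) (BT.node (nat_lit 8048384) (BT.node (nat_lit 8048320) (BT.leaf (nat_lit 41268245)) (BT.leaf (nat_lit 50062113))) (BT.node (nat_lit 8048448) (BT.leaf (nat_lit 49216277)) (BT.leaf (nat_lit 48621837))))) (BT.node (nat_lit 8048768) (BT.node (nat_lit 8048640) (BT.node (nat_lit 8048576) (BT.leaf (nat_lit 32399629)) (BT.leaf (nat_lit 35091461))) (BT.node (nat_lit 8048704) (BT.leaf (nat_lit 28199201)) (BT.leaf (nat_lit 30234901)))) (BT.node (nat_lit 8048896) (BT.node (nat_lit 8048832) (BT.leaf (nat_lit 49216533)) (BT.leaf (nat_lit 34126361))) (BT.node (nat_lit 8048960) (BT.leaf (nat_lit 24417041)) (BT.leaf (nat_lit 24416273)))))) (BT.node (nat_lit 8049536) (BT.node (nat_lit 8049280) (BT.node (nat_lit 8049152) (BT.node (nat_lit 8049088) (BT.leaf (nat_lit 32427553)) (BT.leaf (nat_lit 32427297))) (BT.node (nat_lit 8049216) (BT.leaf (nat_lit 50893341)) (BT.leaf (nat_lit 33627673)))) (BT.node (nat_lit 8049408) (BT.node (nat_lit 8049344) (BT.leaf (nat_lit 49217057)) (BT.leaf (nat_lit 43535109))) (BT.node (nat_lit 8049472) (BT.leaf (nat_lit 31449349)) (BT.leaf (nat_lit 30018337))))) (BT.node (nat_lit 8049792) (BT.node (nat_lit 8049664) (BT.node (nat_lit 8049600) (BT.leaf (nat_lit 38082337)) (BT.leaf (nat_lit 31449365))) (BT.node (nat_lit 8049728) (BT.leaf (nat_lit 46444833)) (BT.leaf (nat_lit 46444577)))) (BT.node (nat_lit 8049920) (BT.node (nat_lit 8049856) (BT.leaf (nat_lit 49218581)) (BT.leaf (nat_lit 31320841))) (BT.node (nat_lit 8049984) (BT.leaf (nat_lit 34717985)) (BT.leaf (nat_lit 48625181)))))))) (BT.node (nat_lit 8052096) (BT.node (nat_lit 8051072) (BT.node (nat_lit 8050560) (BT.node (nat_lit 8050304) (BT.node (nat_lit 8050176) (BT.node (nat_lit 8050112) (BT.leaf (nat_lit 31323421)) (BT.leaf (nat_lit 31323401))) (BT.node (nat_lit 8050240) (BT.leaf (nat_lit 32200473)) (BT.leaf (nat_lit 24539681)))) (BT.node (nat_lit 8050432) (BT.node (nat_lit 8050368) (BT.leaf (nat_lit 27343893)) (BT.leaf (nat_lit 31074565))) (BT.node (nat_lit 8050496) (BT.leaf (nat_lit 32323077)) (BT.leaf (nat_lit 33730321))))) (BT.node (nat_lit 8050816) (BT.node (nat_lit 8050688) (BT.node (nat_lit 8050624) (BT.leaf (nat_lit 23907349)) (BT.leaf (nat_lit 34784529))) (BT.node (nat_lit 8050752) (BT.leaf (nat_lit 23302429)) (BT.leaf (nat_lit 30462737)))) (BT.node (nat_lit 8050944) (BT.node (nat_lit 8050880) (BT.leaf (nat_lit 45210129)) (BT.leaf (nat_lit 29601817))) (BT.node (nat_lit 8051008) (BT.leaf (nat_lit 29601821)) (BT.leaf (nat_lit 49219613)))))) (BT.node (nat_lit 8051584) (BT.node (nat_lit 8051328) (BT.node (nat_lit 8051200) (BT.node (nat_lit 8051136) (BT.leaf (nat_lit 39011105)) (BT.leaf (nat_lit 50989577))) (BT.node (nat_lit 8051264) (BT.leaf (nat_lit 49219853)) (BT.leaf (nat_lit 34534677)))) (BT.node (nat_lit 8051456) (BT.node (nat_lit 8051392) (BT.leaf (nat_lit 48602133)) (BT.leaf (nat_lit 49220629))) (BT.node (nat_lit 8051520) (BT.leaf (nat_lit 49220897)) (BT.leaf (nat_lit 49220365))))) (BT.node (nat_lit 8051840) (BT.node (nat_lit 8051712) (BT.node (nat_lit 8051648) (BT.leaf (nat_lit 45210885)) (BT.leaf (nat_lit 48720653))) (BT.node (nat_lit 8051776) (BT.leaf (nat_lit 46550561)) (BT.leaf (nat_lit 32048661)))) (BT.node (nat_lit 8051968) (BT.node (nat_lit 8051904) (BT.leaf (nat_lit 32048669)) (BT.leaf (nat_lit 40702997))) (BT.node (nat_lit 8052032) (BT.leaf (nat_lit 31376397)) (BT.leaf (nat_lit 31376409))))))) (BT.node (nat_lit 8053120) (BT.node (nat_lit 8052608) (BT.node (nat_lit 8052352) (BT.node (nat_lit 8052224) (BT.node (nat_lit 8052160) (BT.leaf (nat_lit 36152849)) (BT.leaf (nat_lit 31376417))) (BT.node (nat_lit 8052288) (BT.leaf (nat_lit 40187153)) (BT.leaf (nat_lit 40187157)))) (BT.node (nat_lit 8052480) (BT.node (nat_lit 8052416) (BT.leaf (nat_lit 43027221)) (BT.leaf (nat_lit 34285593))) (BT.node (nat_lit 8052544) (BT.leaf (nat_lit 49266445)) (BT.leaf (nat_lit 27336981))))) (BT.node (nat_lit 8052864) (BT.node (nat_lit 8052736) (BT.node (nat_lit 8052672) (BT.leaf (nat_lit 24475677)) (BT.leaf (nat_lit 23799069))) (BT.node (nat_lit 8052800) (BT.leaf (nat_lit 37957649)) (BT.leaf (nat_lit 31057941)))) (BT.node (nat_lit 8052992) (BT.node (nat_lit 8052928) (BT.leaf (nat_lit 28332049)) (BT.leaf (nat_lit 32175393))) (BT.node (nat_lit 8053056) (BT.leaf (nat_lit 34717961)) (BT.leaf (nat_lit 30811661)))))) (BT.node (nat_lit 8053632) (BT.node (nat_lit 8053376) (BT.node (nat_lit 8053248) (BT.node (nat_lit 8053184) (BT.leaf (nat_lit 49223953)) (BT.leaf (nat_lit 31282957))) (BT.node (nat_lit 8053312) (BT.leaf (nat_lit 49224993)) (BT.leaf (nat_lit 49225505)))) (BT.node (nat_lit 8053504) (BT.node (nat_lit 8053440) (BT.leaf (nat_lit 29476117)) (BT.leaf (nat_lit 29838613))) (BT.node (nat_lit 8053568) (BT.leaf (nat_lit 49224973)) (BT.leaf (nat_lit 49225757))))) (BT.node (nat_lit 8053888) (BT.node (nat_lit 8053760) (BT.node (nat_lit 8053696) (BT.leaf (nat_lit 48600349)) (BT.leaf (nat_lit 32462097))) (BT.node (nat_lit 8053824) (BT.leaf (nat_lit 49224737)) (BT.leaf (nat_lit 49224481)))) (BT.node (nat_lit 8054016) (BT.node (nat_lit 8053952) (BT.leaf (nat_lit 24540169)) (BT.leaf (nat_lit 24540173))) (BT.node (nat_lit 8054080) (BT.leaf (nat_lit 24540177)) (BT.leaf (nat_lit 24540185)))))))))))) (BT.node (nat_lit 8086912) (BT.node (nat_lit 8070528) (BT.node (nat_lit 8062336) (BT.node (nat_lit 8058240) (BT.node (nat_lit 8056192) (BT.node (nat_lit 8055168) (BT.node (nat_lit 8054656) (BT.node (nat_lit 8054400) (BT.node (nat_lit 8054272) (BT.node (nat_lit 8054208) (BT.leaf (nat_lit 24540189)) (BT.leaf (nat_lit 30466837))) (BT.node (nat_lit 8054336) (BT.leaf (nat_lit 24423961)) (BT.leaf (nat_lit 24658705)))) (BT.node (nat_lit 8054528) (BT.node (nat_lit 8054464) (BT.leaf (nat_lit 24658709)) (BT.leaf (nat_lit 27990813))) (BT.node (nat_lit 8054592) (BT.leaf (nat_lit 49226773)) (BT.leaf (nat_lit 48582161))))) (BT.node (nat_lit 8054912) (BT.node (nat_lit 8054784) (BT.node (nat_lit 8054720) (BT.leaf (nat_lit 42418453)) (BT.leaf (nat_lit 40066569))) (BT.node (nat_lit 8054848) (BT.leaf (nat_lit 46743581)) (BT.leaf (nat_lit 43428117)))) (BT.node (nat_lit 8055040) (BT.node (nat_lit 8054976) (BT.leaf (nat_lit 27969553)) (BT.leaf (nat_lit 46743565))) (BT.node (nat_lit 8055104) (BT.leaf (nat_lit 42591509)) (BT.leaf (nat_lit 41791253)))))) (BT.node (nat_lit 8055680) (BT.node (nat_lit 8055424) (BT.node (nat_lit 8055296) (BT.node (nat_lit 8055232) (BT.leaf (nat_lit 42424073)) (BT.leaf (nat_lit 30201101))) (BT.node (nat_lit 8055360) (BT.leaf (nat_lit 31676681)) (BT.leaf (nat_lit 44894485)))) (BT.node (nat_lit 8055552) (BT.node (nat_lit 8055488) (BT.leaf (nat_lit 30723609)) (BT.leaf (nat_lit 30723613))) (BT.node (nat_lit 8055616) (BT.leaf (nat_lit 30980629)) (BT.leaf (nat_lit 47756833))))) (BT.node (nat_lit 8055936) (BT.node (nat_lit 8055808) (BT.node (nat_lit 8055744) (BT.leaf (nat_lit 47756577)) (BT.leaf (nat_lit 23314709))) (BT.node (nat_lit 8055872) (BT.leaf (nat_lit 40535577)) (BT.leaf (nat_lit 36930577)))) (BT.node (nat_lit 8056064) (BT.node (nat_lit 8056000) (BT.leaf (nat_lit 32225813)) (BT.leaf (nat_lit 38154769))) (BT.node (nat_lit 8056128) (BT.leaf (nat_lit 31265289)) (BT.leaf (nat_lit 49228565))))))) (BT.node (nat_lit 8057216) (BT.node (nat_lit 8056704) (BT.node (nat_lit 8056448) (BT.node (nat_lit 8056320) (BT.node (nat_lit 8056256) (BT.leaf (nat_lit 49229077)) (BT.leaf (nat_lit 23886609))) (BT.node (nat_lit 8056384) (BT.leaf (nat_lit 30764821)) (BT.leaf (nat_lit 42461193)))) (BT.node (nat_lit 8056576) (BT.node (nat_lit 8056512) (BT.leaf (nat_lit 23905565)) (BT.leaf (nat_lit 28111377))) (BT.node (nat_lit 8056640) (BT.leaf (nat_lit 29482501)) (BT.leaf (nat_lit 34439705))))) (BT.node (nat_lit 8056960) (BT.node (nat_lit 8056832) (BT.node (nat_lit 8056768) (BT.leaf (nat_lit 46642205)) (BT.leaf (nat_lit 41259277))) (BT.node (nat_lit 8056896) (BT.leaf (nat_lit 32227597)) (BT.leaf (nat_lit 48613909)))) (BT.node (nat_lit 8057088) (BT.node (nat_lit 8057024) (BT.leaf (nat_lit 37935649)) (BT.leaf (nat_lit 49233157))) (BT.node (nat_lit 8057152) (BT.leaf (nat_lit 49234197)) (BT.leaf (nat_lit 27765013)))))) (BT.node (nat_lit 8057728) (BT.node (nat_lit 8057472) (BT.node (nat_lit 8057344) (BT.node (nat_lit 8057280) (BT.leaf (nat_lit 24429073)) (BT.leaf (nat_lit 24754949))) (BT.node (nat_lit 8057408) (BT.leaf (nat_lit 29765149)) (BT.leaf (nat_lit 29283093)))) (BT.node (nat_lit 8057600) (BT.node (nat_lit 8057536) (BT.leaf (nat_lit 51102753)) (BT.leaf (nat_lit 32314645))) (BT.node (nat_lit 8057664) (BT.leaf (nat_lit 30365729)) (BT.leaf (nat_lit 47084821))))) (BT.node (nat_lit 8057984) (BT.node (nat_lit 8057856) (BT.node (nat_lit 8057792) (BT.leaf (nat_lit 46716677)) (BT.leaf (nat_lit 29029657))) (BT.node (nat_lit 8057920) (BT.leaf (nat_lit 29029661)) (BT.leaf (nat_lit 30369313)))) (BT.node (nat_lit 8058112) (BT.node (nat_lit 8058048) (BT.leaf (nat_lit 47999257)) (BT.leaf (nat_lit 49237265))) (BT.node (nat_lit 8058176) (BT.leaf (nat_lit 24429589)) (BT.leaf (nat_lit 47999245)))))))) (BT.node (nat_lit 8060288) (BT.node (nat_lit 8059264) (BT.node (nat_lit 8058752) (BT.node (nat_lit 8058496) (BT.node (nat_lit 8058368) (BT.node (nat_lit 8058304) (BT.leaf (nat_lit 49238033)) (BT.leaf (nat_lit 30003717))) (BT.node (nat_lit 8058432) (BT.leaf (nat_lit 43969549)) (BT.leaf (nat_lit 30364961)))) (BT.node (nat_lit 8058624) (BT.node (nat_lit 8058560) (BT.leaf (nat_lit 48236037)) (BT.leaf (nat_lit 49360393))) (BT.node (nat_lit 8058688) (BT.leaf (nat_lit 24173585)) (BT.leaf (nat_lit 24431633))))) (BT.node (nat_lit 8059008) (BT.node (nat_lit 8058880) (BT.node (nat_lit 8058816) (BT.leaf (nat_lit 33412629)) (BT.leaf (nat_lit 33412633))) (BT.node (nat_lit 8058944) (BT.leaf (nat_lit 33412637)) (BT.leaf (nat_lit 24431377)))) (BT.node (nat_lit 8059136) (BT.node (nat_lit 8059072) (BT.leaf (nat_lit 23774225)) (BT.leaf (nat_lit 44643849))) (BT.node (nat_lit 8059200) (BT.leaf (nat_lit 29427485)) (BT.leaf (nat_lit 41619721)))))) (BT.node (nat_lit 8059776) (BT.node (nat_lit 8059520) (BT.node (nat_lit 8059392) (BT.node (nat_lit 8059328) (BT.leaf (nat_lit 29628953)) (BT.leaf (nat_lit 45244429))) (BT.node (nat_lit 8059456) (BT.leaf (nat_lit 29628961)) (BT.leaf (nat_lit 23871257)))) (BT.node (nat_lit 8059648) (BT.node (nat_lit 8059584) (BT.leaf (nat_lit 23498521)) (BT.leaf (nat_lit 24432913))) (BT.node (nat_lit 8059712) (BT.leaf (nat_lit 24432657)) (BT.leaf (nat_lit 23773201))))) (BT.node (nat_lit 8060032) (BT.node (nat_lit 8059904) (BT.node (nat_lit 8059840) (BT.leaf (nat_lit 24434705)) (BT.leaf (nat_lit 24435217))) (BT.node (nat_lit 8059968) (BT.leaf (nat_lit 49243157)) (BT.leaf (nat_lit 22339089)))) (BT.node (nat_lit 8060160) (BT.node (nat_lit 8060096) (BT.leaf (nat_lit 24434961)) (BT.leaf (nat_lit 24435985))) (BT.node (nat_lit 8060224) (BT.leaf (nat_lit 30096661)) (BT.leaf (nat_lit 28768525))))))) (BT.node (nat_lit 8061312) (BT.node (nat_lit 8060800) (BT.node (nat_lit 8060544) (BT.node (nat_lit 8060416) (BT.node (nat_lit 8060352) (BT.leaf (nat_lit 49244165)) (BT.leaf (nat_lit 24435729))) (BT.node (nat_lit 8060480) (BT.leaf (nat_lit 48127265)) (BT.leaf (nat_lit 46601221)))) (BT.node (nat_lit 8060672) (BT.node (nat_lit 8060608) (BT.leaf (nat_lit 37545237)) (BT.leaf (nat_lit 29885701))) (BT.node (nat_lit 8060736) (BT.leaf (nat_lit 31304461)) (BT.leaf (nat_lit 42785541))))) (BT.node (nat_lit 8061056) (BT.node (nat_lit 8060928) (BT.node (nat_lit 8060864) (BT.leaf (nat_lit 31304477)) (BT.leaf (nat_lit 51247393))) (BT.node (nat_lit 8060992) (BT.leaf (nat_lit 30529801)) (BT.leaf (nat_lit 52133389)))) (BT.node (nat_lit 8061184) (BT.node (nat_lit 8061120) (BT.leaf (nat_lit 28215313)) (BT.leaf (nat_lit 33532165))) (BT.node (nat_lit 8061248) (BT.leaf (nat_lit 38519825)) (BT.leaf (nat_lit 24437777)))))) (BT.node (nat_lit 8061824) (BT.node (nat_lit 8061568) (BT.node (nat_lit 8061440) (BT.node (nat_lit 8061376) (BT.leaf (nat_lit 49246993)) (BT.leaf (nat_lit 29477649))) (BT.node (nat_lit 8061504) (BT.leaf (nat_lit 47979269)) (BT.leaf (nat_lit 29593621)))) (BT.node (nat_lit 8061696) (BT.node (nat_lit 8061632) (BT.leaf (nat_lit 37882653)) (BT.leaf (nat_lit 47767569))) (BT.node (nat_lit 8061760) (BT.leaf (nat_lit 47524869)) (BT.leaf (nat_lit 24439313))))) (BT.node (nat_lit 8062080) (BT.node (nat_lit 8061952) (BT.node (nat_lit 8061888) (BT.leaf (nat_lit 24439057)) (BT.leaf (nat_lit 44285957))) (BT.node (nat_lit 8062016) (BT.leaf (nat_lit 34654489)) (BT.leaf (nat_lit 37685765)))) (BT.node (nat_lit 8062208) (BT.node (nat_lit 8062144) (BT.leaf (nat_lit 24440081)) (BT.leaf (nat_lit 24439825))) (BT.node (nat_lit 8062272) (BT.leaf (nat_lit 24439569)) (BT.leaf (nat_lit 34655257))))))))) (BT.node (nat_lit 8066432) (BT.node (nat_lit 8064384) (BT.node (nat_lit 8063360) (BT.node (nat_lit 8062848) (BT.node (nat_lit 8062592) (BT.node (nat_lit 8062464) (BT.node (nat_lit 8062400) (BT.leaf (nat_lit 28698373)) (BT.leaf (nat_lit 39986717))) (BT.node (nat_lit 8062528) (BT.leaf (nat_lit 27785749)) (BT.leaf (nat_lit 38901521)))) (BT.node (nat_lit 8062720) (BT.node (nat_lit 8062656) (BT.leaf (nat_lit 28675617)) (BT.leaf (nat_lit 29733905))) (BT.node (nat_lit 8062784) (BT.leaf (nat_lit 34674449)) (BT.leaf (nat_lit 37776657))))) (BT.node (nat_lit 8063104) (BT.node (nat_lit 8062976) (BT.node (nat_lit 8062912) (BT.leaf (nat_lit 33962269)) (BT.leaf (nat_lit 39591445))) (BT.node (nat_lit 8063040) (BT.leaf (nat_lit 31023629)) (BT.leaf (nat_lit 24440337)))) (BT.node (nat_lit 8063232) (BT.node (nat_lit 8063168) (BT.leaf (nat_lit 30924809)) (BT.leaf (nat_lit 31805457))) (BT.node (nat_lit 8063296) (BT.leaf (nat_lit 34633993)) (BT.leaf (nat_lit 30285845)))))) (BT.node (nat_lit 8063872) (BT.node (nat_lit 8063616) (BT.node (nat_lit 8063488) (BT.node (nat_lit 8063424) (BT.leaf (nat_lit 27883537)) (BT.leaf (nat_lit 41379105))) (BT.node (nat_lit 8063552) (BT.leaf (nat_lit 27541769)) (BT.leaf (nat_lit 40028433)))) (BT.node (nat_lit 8063744) (BT.node (nat_lit 8063680) (BT.leaf (nat_lit 31526169)) (BT.leaf (nat_lit 23546389))) (BT.node (nat_lit 8063808) (BT.leaf (nat_lit 49253909)) (BT.leaf (nat_lit 40521989))))) (BT.node (nat_lit 8064128) (BT.node (nat_lit 8064000) (BT.node (nat_lit 8063936) (BT.leaf (nat_lit 29246213)) (BT.leaf (nat_lit 24444677))) (BT.node (nat_lit 8064064) (BT.leaf (nat_lit 35672341)) (BT.leaf (nat_lit 31191821)))) (BT.node (nat_lit 8064256) (BT.node (nat_lit 8064192) (BT.leaf (nat_lit 35377173)) (BT.leaf (nat_lit 44958729))) (BT.node (nat_lit 8064320) (BT.leaf (nat_lit 24616481)) (BT.leaf (nat_lit 35093521))))))) (BT.node (nat_lit 8065408) (BT.node (nat_lit 8064896) (BT.node (nat_lit 8064640) (BT.node (nat_lit 8064512) (BT.node (nat_lit 8064448) (BT.leaf (nat_lit 24445189)) (BT.leaf (nat_lit 27646993))) (BT.node (nat_lit 8064576) (BT.leaf (nat_lit 27647009)) (BT.leaf (nat_lit 27800069)))) (BT.node (nat_lit 8064768) (BT.node (nat_lit 8064704) (BT.leaf (nat_lit 27800089)) (BT.leaf (nat_lit 27800093))) (BT.node (nat_lit 8064832) (BT.leaf (nat_lit 44678161)) (BT.leaf (nat_lit 24445457))))) (BT.node (nat_lit 8065152) (BT.node (nat_lit 8065024) (BT.node (nat_lit 8064960) (BT.leaf (nat_lit 27463437)) (BT.leaf (nat_lit 27463449))) (BT.node (nat_lit 8065088) (BT.leaf (nat_lit 27463453)) (BT.leaf (nat_lit 44678149)))) (BT.node (nat_lit 8065280) (BT.node (nat_lit 8065216) (BT.leaf (nat_lit 24445473)) (BT.leaf (nat_lit 24445729))) (BT.node (nat_lit 8065344) (BT.leaf (nat_lit 50983685)) (BT.leaf (nat_lit 49256221)))))) (BT.node (nat_lit 8065920) (BT.node (nat_lit 8065664) (BT.node (nat_lit 8065536) (BT.node (nat_lit 8065472) (BT.leaf (nat_lit 31448589)) (BT.leaf (nat_lit 24543765))) (BT.node (nat_lit 8065600) (BT.leaf (nat_lit 47855373)) (BT.leaf (nat_lit 32262169)))) (BT.node (nat_lit 8065792) (BT.node (nat_lit 8065728) (BT.leaf (nat_lit 31900185)) (BT.leaf (nat_lit 31448597))) (BT.node (nat_lit 8065856) (BT.leaf (nat_lit 31448601)) (BT.leaf (nat_lit 31448605))))) (BT.node (nat_lit 8066176) (BT.node (nat_lit 8066048) (BT.node (nat_lit 8065984) (BT.leaf (nat_lit 38789381)) (BT.leaf (nat_lit 24446993))) (BT.node (nat_lit 8066112) (BT.leaf (nat_lit 46445573)) (BT.leaf (nat_lit 24447249)))) (BT.node (nat_lit 8066304) (BT.node (nat_lit 8066240) (BT.leaf (nat_lit 38189585)) (BT.leaf (nat_lit 24660765))) (BT.node (nat_lit 8066368) (BT.leaf (nat_lit 40710677)) (BT.leaf (nat_lit 30444049)))))))) (BT.node (nat_lit 8068480) (BT.node (nat_lit 8067456) (BT.node (nat_lit 8066944) (BT.node (nat_lit 8066688) (BT.node (nat_lit 8066560) (BT.node (nat_lit 8066496) (BT.leaf (nat_lit 35245833)) (BT.leaf (nat_lit 37073165))) (BT.node (nat_lit 8066624) (BT.leaf (nat_lit 27577113)) (BT.leaf (nat_lit 37085461)))) (BT.node (nat_lit 8066816) (BT.node (nat_lit 8066752) (BT.leaf (nat_lit 39053585)) (BT.leaf (nat_lit 33987613))) (BT.node (nat_lit 8066880) (BT.leaf (nat_lit 24448009)) (BT.leaf (nat_lit 32359189))))) (BT.node (nat_lit 8067200) (BT.node (nat_lit 8067072) (BT.node (nat_lit 8067008) (BT.leaf (nat_lit 24039961)) (BT.leaf (nat_lit 30530829))) (BT.node (nat_lit 8067136) (BT.leaf (nat_lit 39501345)) (BT.leaf (nat_lit 49371421)))) (BT.node (nat_lit 8067328) (BT.node (nat_lit 8067264) (BT.leaf (nat_lit 39504913)) (BT.leaf (nat_lit 28585737))) (BT.node (nat_lit 8067392) (BT.leaf (nat_lit 28585757)) (BT.leaf (nat_lit 31221537)))))) (BT.node (nat_lit 8067968) (BT.node (nat_lit 8067712) (BT.node (nat_lit 8067584) (BT.node (nat_lit 8067520) (BT.leaf (nat_lit 49261853)) (BT.leaf (nat_lit 29665041))) (BT.node (nat_lit 8067648) (BT.leaf (nat_lit 29665045)) (BT.leaf (nat_lit 24450317)))) (BT.node (nat_lit 8067840) (BT.node (nat_lit 8067776) (BT.leaf (nat_lit 31329825)) (BT.leaf (nat_lit 24450569))) (BT.node (nat_lit 8067904) (BT.leaf (nat_lit 24450573)) (BT.leaf (nat_lit 47191573))))) (BT.node (nat_lit 8068224) (BT.node (nat_lit 8068096) (BT.node (nat_lit 8068032) (BT.leaf (nat_lit 50763277)) (BT.leaf (nat_lit 22536737))) (BT.node (nat_lit 8068160) (BT.leaf (nat_lit 24450585)) (BT.leaf (nat_lit 37881877)))) (BT.node (nat_lit 8068352) (BT.node (nat_lit 8068288) (BT.leaf (nat_lit 32273181)) (BT.leaf (nat_lit 33904657))) (BT.node (nat_lit 8068416) (BT.leaf (nat_lit 46510097)) (BT.leaf (nat_lit 29290509))))))) (BT.node (nat_lit 8069504) (BT.node (nat_lit 8068992) (BT.node (nat_lit 8068736) (BT.node (nat_lit 8068608) (BT.node (nat_lit 8068544) (BT.leaf (nat_lit 34606621)) (BT.leaf (nat_lit 36053789))) (BT.node (nat_lit 8068672) (BT.leaf (nat_lit 39299857)) (BT.leaf (nat_lit 49264137)))) (BT.node (nat_lit 8068864) (BT.node (nat_lit 8068800) (BT.leaf (nat_lit 32275229)) (BT.leaf (nat_lit 24461073))) (BT.node (nat_lit 8068928) (BT.leaf (nat_lit 49264405)) (BT.leaf (nat_lit 44830997))))) (BT.node (nat_lit 8069248) (BT.node (nat_lit 8069120) (BT.node (nat_lit 8069056) (BT.leaf (nat_lit 30741257)) (BT.leaf (nat_lit 34426133))) (BT.node (nat_lit 8069184) (BT.leaf (nat_lit 30674721)) (BT.leaf (nat_lit 31059481)))) (BT.node (nat_lit 8069376) (BT.node (nat_lit 8069312) (BT.leaf (nat_lit 35015965)) (BT.leaf (nat_lit 23807505))) (BT.node (nat_lit 8069440) (BT.leaf (nat_lit 29383457)) (BT.leaf (nat_lit 35368709)))))) (BT.node (nat_lit 8070016) (BT.node (nat_lit 8069760) (BT.node (nat_lit 8069632) (BT.node (nat_lit 8069568) (BT.leaf (nat_lit 29772805)) (BT.leaf (nat_lit 34872097))) (BT.node (nat_lit 8069696) (BT.leaf (nat_lit 50673677)) (BT.leaf (nat_lit 39022865)))) (BT.node (nat_lit 8069888) (BT.node (nat_lit 8069824) (BT.leaf (nat_lit 30188321)) (BT.leaf (nat_lit 24456729))) (BT.node (nat_lit 8069952) (BT.leaf (nat_lit 49266441)) (BT.leaf (nat_lit 27336217))))) (BT.node (nat_lit 8070272) (BT.node (nat_lit 8070144) (BT.node (nat_lit 8070080) (BT.leaf (nat_lit 48445977)) (BT.leaf (nat_lit 40453897))) (BT.node (nat_lit 8070208) (BT.leaf (nat_lit 39962897)) (BT.leaf (nat_lit 42243605)))) (BT.node (nat_lit 8070400) (BT.node (nat_lit 8070336) (BT.leaf (nat_lit 46978821)) (BT.leaf (nat_lit 49268249))) (BT.node (nat_lit 8070464) (BT.leaf (nat_lit 48130081)) (BT.leaf (nat_lit 42931989)))))))))) (BT.node (nat_lit 8078720) (BT.node (nat_lit 8074624) (BT.node (nat_lit 8072576) (BT.node (nat_lit 8071552) (BT.node (nat_lit 8071040) (BT.node (nat_lit 8070784) (BT.node (nat_lit 8070656) (BT.node (nat_lit 8070592) (BT.leaf (nat_lit 49268233)) (BT.leaf (nat_lit 30574369))) (BT.node (nat_lit 8070720) (BT.leaf (nat_lit 48141341)) (BT.leaf (nat_lit 49543445)))) (BT.node (nat_lit 8070912) (BT.node (nat_lit 8070848) (BT.leaf (nat_lit 50716689)) (BT.leaf (nat_lit 49268501))) (BT.node (nat_lit 8070976) (BT.leaf (nat_lit 24865805)) (BT.leaf (nat_lit 24459793))))) (BT.node (nat_lit 8071296) (BT.node (nat_lit 8071168) (BT.node (nat_lit 8071104) (BT.leaf (nat_lit 23807249)) (BT.leaf (nat_lit 32961313))) (BT.node (nat_lit 8071232) (BT.leaf (nat_lit 24865817)) (BT.leaf (nat_lit 24865821)))) (BT.node (nat_lit 8071424) (BT.node (nat_lit 8071360) (BT.leaf (nat_lit 24459537)) (BT.leaf (nat_lit 24460305))) (BT.node (nat_lit 8071488) (BT.leaf (nat_lit 24460049)) (BT.leaf (nat_lit 30953497)))))) (BT.node (nat_lit 8072064) (BT.node (nat_lit 8071808) (BT.node (nat_lit 8071680) (BT.node (nat_lit 8071616) (BT.leaf (nat_lit 24461329)) (BT.leaf (nat_lit 24460561))) (BT.node (nat_lit 8071744) (BT.leaf (nat_lit 24732945)) (BT.leaf (nat_lit 49271833)))) (BT.node (nat_lit 8071936) (BT.node (nat_lit 8071872) (BT.leaf (nat_lit 49272325)) (BT.leaf (nat_lit 51053069))) (BT.node (nat_lit 8072000) (BT.leaf (nat_lit 48449293)) (BT.leaf (nat_lit 35793681))))) (BT.node (nat_lit 8072320) (BT.node (nat_lit 8072192) (BT.node (nat_lit 8072128) (BT.leaf (nat_lit 33881625)) (BT.leaf (nat_lit 27786773))) (BT.node (nat_lit 8072256) (BT.leaf (nat_lit 47138309)) (BT.leaf (nat_lit 35793685)))) (BT.node (nat_lit 8072448) (BT.node (nat_lit 8072384) (BT.leaf (nat_lit 32289565)) (BT.leaf (nat_lit 47879429))) (BT.node (nat_lit 8072512) (BT.leaf (nat_lit 35275285)) (BT.leaf (nat_lit 33189649))))))) (BT.node (nat_lit 8073600) (BT.node (nat_lit 8073088) (BT.node (nat_lit 8072832) (BT.node (nat_lit 8072704) (BT.node (nat_lit 8072640) (BT.leaf (nat_lit 30165509)) (BT.leaf (nat_lit 28466961))) (BT.node (nat_lit 8072768) (BT.leaf (nat_lit 24462089)) (BT.leaf (nat_lit 31848453)))) (BT.node (nat_lit 8072960) (BT.node (nat_lit 8072896) (BT.leaf (nat_lit 37444129)) (BT.leaf (nat_lit 33314057))) (BT.node (nat_lit 8073024) (BT.leaf (nat_lit 44319765)) (BT.leaf (nat_lit 31853597))))) (BT.node (nat_lit 8073344) (BT.node (nat_lit 8073216) (BT.node (nat_lit 8073152) (BT.leaf (nat_lit 47295765)) (BT.leaf (nat_lit 29979921))) (BT.node (nat_lit 8073280) (BT.leaf (nat_lit 36968977)) (BT.leaf (nat_lit 36137761)))) (BT.node (nat_lit 8073472) (BT.node (nat_lit 8073408) (BT.leaf (nat_lit 37873157)) (BT.leaf (nat_lit 24461841))) (BT.node (nat_lit 8073536) (BT.leaf (nat_lit 42373397)) (BT.leaf (nat_lit 49748509)))))) (BT.node (nat_lit 8074112) (BT.node (nat_lit 8073856) (BT.node (nat_lit 8073728) (BT.node (nat_lit 8073664) (BT.leaf (nat_lit 47156745)) (BT.leaf (nat_lit 48675089))) (BT.node (nat_lit 8073792) (BT.leaf (nat_lit 22589213)) (BT.leaf (nat_lit 47003653)))) (BT.node (nat_lit 8073984) (BT.node (nat_lit 8073920) (BT.leaf (nat_lit 31403529)) (BT.leaf (nat_lit 48676621))) (BT.node (nat_lit 8074048) (BT.leaf (nat_lit 49276169)) (BT.leaf (nat_lit 28599829))))) (BT.node (nat_lit 8074368) (BT.node (nat_lit 8074240) (BT.node (nat_lit 8074176) (BT.leaf (nat_lit 41334285)) (BT.leaf (nat_lit 49276677))) (BT.node (nat_lit 8074304) (BT.leaf (nat_lit 42657549)) (BT.leaf (nat_lit 49277205)))) (BT.node (nat_lit 8074496) (BT.node (nat_lit 8074432) (BT.leaf (nat_lit 33995549)) (BT.leaf (nat_lit 28082965))) (BT.node (nat_lit 8074560) (BT.leaf (nat_lit 24462865)) (BT.leaf (nat_lit 24462609)))))))) (BT.node (nat_lit 8076672) (BT.node (nat_lit 8075648) (BT.node (nat_lit 8075136) (BT.node (nat_lit 8074880) (BT.node (nat_lit 8074752) (BT.node (nat_lit 8074688) (BT.leaf (nat_lit 24894497)) (BT.leaf (nat_lit 24463121))) (BT.node (nat_lit 8074816) (BT.leaf (nat_lit 49278481)) (BT.leaf (nat_lit 38606613)))) (BT.node (nat_lit 8075008) (BT.node (nat_lit 8074944) (BT.leaf (nat_lit 24463633)) (BT.leaf (nat_lit 29206549))) (BT.node (nat_lit 8075072) (BT.leaf (nat_lit 47329813)) (BT.leaf (nat_lit 51534113))))) (BT.node (nat_lit 8075392) (BT.node (nat_lit 8075264) (BT.node (nat_lit 8075200) (BT.leaf (nat_lit 23949073)) (BT.leaf (nat_lit 41758741))) (BT.node (nat_lit 8075328) (BT.leaf (nat_lit 30327557)) (BT.leaf (nat_lit 24464401)))) (BT.node (nat_lit 8075520) (BT.node (nat_lit 8075456) (BT.leaf (nat_lit 24464405)) (BT.leaf (nat_lit 31330077))) (BT.node (nat_lit 8075584) (BT.leaf (nat_lit 33520673)) (BT.leaf (nat_lit 24576277)))))) (BT.node (nat_lit 8076160) (BT.node (nat_lit 8075904) (BT.node (nat_lit 8075776) (BT.node (nat_lit 8075712) (BT.leaf (nat_lit 33029905)) (BT.leaf (nat_lit 48929029))) (BT.node (nat_lit 8075840) (BT.leaf (nat_lit 30159897)) (BT.leaf (nat_lit 30159901)))) (BT.node (nat_lit 8076032) (BT.node (nat_lit 8075968) (BT.leaf (nat_lit 49284117)) (BT.leaf (nat_lit 49284889))) (BT.node (nat_lit 8076096) (BT.leaf (nat_lit 48443661)) (BT.leaf (nat_lit 24464925))))) (BT.node (nat_lit 8076416) (BT.node (nat_lit 8076288) (BT.node (nat_lit 8076224) (BT.leaf (nat_lit 26660893)) (BT.leaf (nat_lit 30359573))) (BT.node (nat_lit 8076352) (BT.leaf (nat_lit 42397981)) (BT.leaf (nat_lit 38355745)))) (BT.node (nat_lit 8076544) (BT.node (nat_lit 8076480) (BT.leaf (nat_lit 38356001)) (BT.leaf (nat_lit 38356513))) (BT.node (nat_lit 8076608) (BT.leaf (nat_lit 49288197)) (BT.leaf (nat_lit 24465177))))))) (BT.node (nat_lit 8077696) (BT.node (nat_lit 8077184) (BT.node (nat_lit 8076928) (BT.node (nat_lit 8076800) (BT.node (nat_lit 8076736) (BT.leaf (nat_lit 47764769)) (BT.leaf (nat_lit 28117525))) (BT.node (nat_lit 8076864) (BT.leaf (nat_lit 38168085)) (BT.leaf (nat_lit 47790345)))) (BT.node (nat_lit 8077056) (BT.node (nat_lit 8076992) (BT.leaf (nat_lit 25863701)) (BT.leaf (nat_lit 39706121))) (BT.node (nat_lit 8077120) (BT.leaf (nat_lit 49290249)) (BT.leaf (nat_lit 24465689))))) (BT.node (nat_lit 8077440) (BT.node (nat_lit 8077312) (BT.node (nat_lit 8077248) (BT.leaf (nat_lit 49291029)) (BT.leaf (nat_lit 48441369))) (BT.node (nat_lit 8077376) (BT.leaf (nat_lit 24465693)) (BT.leaf (nat_lit 42140961)))) (BT.node (nat_lit 8077568) (BT.node (nat_lit 8077504) (BT.leaf (nat_lit 36887305)) (BT.leaf (nat_lit 26472465))) (BT.node (nat_lit 8077632) (BT.leaf (nat_lit 29811489)) (BT.leaf (nat_lit 33545237)))))) (BT.node (nat_lit 8078208) (BT.node (nat_lit 8077952) (BT.node (nat_lit 8077824) (BT.node (nat_lit 8077760) (BT.leaf (nat_lit 30289681)) (BT.leaf (nat_lit 24466717))) (BT.node (nat_lit 8077888) (BT.leaf (nat_lit 37852433)) (BT.leaf (nat_lit 37852437)))) (BT.node (nat_lit 8078080) (BT.node (nat_lit 8078016) (BT.leaf (nat_lit 24467217)) (BT.leaf (nat_lit 36887577))) (BT.node (nat_lit 8078144) (BT.leaf (nat_lit 49511965)) (BT.leaf (nat_lit 24466961))))) (BT.node (nat_lit 8078464) (BT.node (nat_lit 8078336) (BT.node (nat_lit 8078272) (BT.leaf (nat_lit 31939617)) (BT.leaf (nat_lit 31770125))) (BT.node (nat_lit 8078400) (BT.leaf (nat_lit 27322389)) (BT.leaf (nat_lit 27522317)))) (BT.node (nat_lit 8078592) (BT.node (nat_lit 8078528) (BT.leaf (nat_lit 27713825)) (BT.leaf (nat_lit 38836769))) (BT.node (nat_lit 8078656) (BT.leaf (nat_lit 25784849)) (BT.leaf (nat_lit 27524129))))))))) (BT.node (nat_lit 8082816) (BT.node (nat_lit 8080768) (BT.node (nat_lit 8079744) (BT.node (nat_lit 8079232) (BT.node (nat_lit 8078976) (BT.node (nat_lit 8078848) (BT.node (nat_lit 8078784) (BT.leaf (nat_lit 31770141)) (BT.leaf (nat_lit 41890081))) (BT.node (nat_lit 8078912) (BT.leaf (nat_lit 44879133)) (BT.leaf (nat_lit 44114973)))) (BT.node (nat_lit 8079104) (BT.node (nat_lit 8079040) (BT.leaf (nat_lit 33753373)) (BT.leaf (nat_lit 31337481))) (BT.node (nat_lit 8079168) (BT.leaf (nat_lit 44206601)) (BT.leaf (nat_lit 24468757))))) (BT.node (nat_lit 8079488) (BT.node (nat_lit 8079360) (BT.node (nat_lit 8079296) (BT.leaf (nat_lit 45328393)) (BT.leaf (nat_lit 29587993))) (BT.node (nat_lit 8079424) (BT.leaf (nat_lit 47123981)) (BT.leaf (nat_lit 30325021)))) (BT.node (nat_lit 8079616) (BT.node (nat_lit 8079552) (BT.leaf (nat_lit 31187737)) (BT.leaf (nat_lit 49296145))) (BT.node (nat_lit 8079680) (BT.leaf (nat_lit 46295069)) (BT.leaf (nat_lit 46644489)))))) (BT.node (nat_lit 8080256) (BT.node (nat_lit 8080000) (BT.node (nat_lit 8079872) (BT.node (nat_lit 8079808) (BT.leaf (nat_lit 46473997)) (BT.leaf (nat_lit 48633361))) (BT.node (nat_lit 8079936) (BT.leaf (nat_lit 28005397)) (BT.leaf (nat_lit 39097361)))) (BT.node (nat_lit 8080128) (BT.node (nat_lit 8080064) (BT.leaf (nat_lit 29872401)) (BT.leaf (nat_lit 29659661))) (BT.node (nat_lit 8080192) (BT.leaf (nat_lit 40171781)) (BT.leaf (nat_lit 33143069))))) (BT.node (nat_lit 8080512) (BT.node (nat_lit 8080384) (BT.node (nat_lit 8080320) (BT.leaf (nat_lit 42846741)) (BT.leaf (nat_lit 24471325))) (BT.node (nat_lit 8080448) (BT.leaf (nat_lit 41623817)) (BT.leaf (nat_lit 27639061)))) (BT.node (nat_lit 8080640) (BT.node (nat_lit 8080576) (BT.leaf (nat_lit 27639065)) (BT.leaf (nat_lit 27639069))) (BT.node (nat_lit 8080704) (BT.leaf (nat_lit 24471573)) (BT.leaf (nat_lit 33570065))))))) (BT.node (nat_lit 8081792) (BT.node (nat_lit 8081280) (BT.node (nat_lit 8081024) (BT.node (nat_lit 8080896) (BT.node (nat_lit 8080832) (BT.leaf (nat_lit 32031769)) (BT.leaf (nat_lit 32031773))) (BT.node (nat_lit 8080960) (BT.leaf (nat_lit 49299485)) (BT.leaf (nat_lit 49300257)))) (BT.node (nat_lit 8081152) (BT.node (nat_lit 8081088) (BT.leaf (nat_lit 27603473)) (BT.leaf (nat_lit 24602641))) (BT.node (nat_lit 8081216) (BT.leaf (nat_lit 34989089)) (BT.leaf (nat_lit 24159517))))) (BT.node (nat_lit 8081536) (BT.node (nat_lit 8081408) (BT.node (nat_lit 8081344) (BT.leaf (nat_lit 49301013)) (BT.leaf (nat_lit 30541845))) (BT.node (nat_lit 8081472) (BT.leaf (nat_lit 30541849)) (BT.leaf (nat_lit 48781345)))) (BT.node (nat_lit 8081664) (BT.node (nat_lit 8081600) (BT.leaf (nat_lit 48781601)) (BT.leaf (nat_lit 32213537))) (BT.node (nat_lit 8081728) (BT.leaf (nat_lit 39257369)) (BT.leaf (nat_lit 31564037)))))) (BT.node (nat_lit 8082304) (BT.node (nat_lit 8082048) (BT.node (nat_lit 8081920) (BT.node (nat_lit 8081856) (BT.leaf (nat_lit 48671005)) (BT.leaf (nat_lit 49302293))) (BT.node (nat_lit 8081984) (BT.leaf (nat_lit 32327449)) (BT.leaf (nat_lit 34897669)))) (BT.node (nat_lit 8082176) (BT.node (nat_lit 8082112) (BT.leaf (nat_lit 30708509)) (BT.leaf (nat_lit 49303065))) (BT.node (nat_lit 8082240) (BT.leaf (nat_lit 42285585)) (BT.leaf (nat_lit 24481313))))) (BT.node (nat_lit 8082560) (BT.node (nat_lit 8082432) (BT.node (nat_lit 8082368) (BT.leaf (nat_lit 48145173)) (BT.leaf (nat_lit 35162897))) (BT.node (nat_lit 8082496) (BT.leaf (nat_lit 24648465)) (BT.leaf (nat_lit 43243789)))) (BT.node (nat_lit 8082688) (BT.node (nat_lit 8082624) (BT.leaf (nat_lit 27542305)) (BT.leaf (nat_lit 32532001))) (BT.node (nat_lit 8082752) (BT.leaf (nat_lit 49305121)) (BT.leaf (nat_lit 28712733)))))))) (BT.node (nat_lit 8084864) (BT.node (nat_lit 8083840) (BT.node (nat_lit 8083328) (BT.node (nat_lit 8083072) (BT.node (nat_lit 8082944) (BT.node (nat_lit 8082880) (BT.leaf (nat_lit 40175137)) (BT.leaf (nat_lit 29024265))) (BT.node (nat_lit 8083008) (BT.leaf (nat_lit 29024269)) (BT.leaf (nat_lit 29024281)))) (BT.node (nat_lit 8083200) (BT.node (nat_lit 8083136) (BT.leaf (nat_lit 29024285)) (BT.leaf (nat_lit 49305365))) (BT.node (nat_lit 8083264) (BT.leaf (nat_lit 28709909)) (BT.leaf (nat_lit 49305877))))) (BT.node (nat_lit 8083584) (BT.node (nat_lit 8083456) (BT.node (nat_lit 8083392) (BT.leaf (nat_lit 32333081)) (BT.leaf (nat_lit 29433617))) (BT.node (nat_lit 8083520) (BT.leaf (nat_lit 28070681)) (BT.leaf (nat_lit 49306645)))) (BT.node (nat_lit 8083712) (BT.node (nat_lit 8083648) (BT.leaf (nat_lit 32334857)) (BT.leaf (nat_lit 26031137))) (BT.node (nat_lit 8083776) (BT.leaf (nat_lit 46385685)) (BT.leaf (nat_lit 28074017)))))) (BT.node (nat_lit 8084352) (BT.node (nat_lit 8084096) (BT.node (nat_lit 8083968) (BT.node (nat_lit 8083904) (BT.leaf (nat_lit 27987741)) (BT.leaf (nat_lit 44618517))) (BT.node (nat_lit 8084032) (BT.leaf (nat_lit 23228437)) (BT.leaf (nat_lit 24876553)))) (BT.node (nat_lit 8084224) (BT.node (nat_lit 8084160) (BT.leaf (nat_lit 48647709)) (BT.leaf (nat_lit 48647689))) (BT.node (nat_lit 8084288) (BT.leaf (nat_lit 49308949)) (BT.leaf (nat_lit 24876577))))) (BT.node (nat_lit 8084608) (BT.node (nat_lit 8084480) (BT.node (nat_lit 8084416) (BT.leaf (nat_lit 39964697)) (BT.leaf (nat_lit 49309973))) (BT.node (nat_lit 8084544) (BT.leaf (nat_lit 49310217)) (BT.leaf (nat_lit 50544661)))) (BT.node (nat_lit 8084736) (BT.node (nat_lit 8084672) (BT.leaf (nat_lit 31748897)) (BT.leaf (nat_lit 28878625))) (BT.node (nat_lit 8084800) (BT.leaf (nat_lit 49381125)) (BT.leaf (nat_lit 38580765))))))) (BT.node (nat_lit 8085888) (BT.node (nat_lit 8085376) (BT.node (nat_lit 8085120) (BT.node (nat_lit 8084992) (BT.node (nat_lit 8084928) (BT.leaf (nat_lit 31491349)) (BT.leaf (nat_lit 49312261))) (BT.node (nat_lit 8085056) (BT.leaf (nat_lit 39109665)) (BT.leaf (nat_lit 49312529)))) (BT.node (nat_lit 8085248) (BT.node (nat_lit 8085184) (BT.leaf (nat_lit 50946565)) (BT.leaf (nat_lit 33252617))) (BT.node (nat_lit 8085312) (BT.leaf (nat_lit 49312777)) (BT.leaf (nat_lit 38284313))))) (BT.node (nat_lit 8085632) (BT.node (nat_lit 8085504) (BT.node (nat_lit 8085440) (BT.leaf (nat_lit 28137741)) (BT.leaf (nat_lit 28275997))) (BT.node (nat_lit 8085568) (BT.leaf (nat_lit 41962273)) (BT.leaf (nat_lit 35345173)))) (BT.node (nat_lit 8085760) (BT.node (nat_lit 8085696) (BT.leaf (nat_lit 31327521)) (BT.leaf (nat_lit 29893389))) (BT.node (nat_lit 8085824) (BT.leaf (nat_lit 49313825)) (BT.leaf (nat_lit 46408737)))))) (BT.node (nat_lit 8086400) (BT.node (nat_lit 8086144) (BT.node (nat_lit 8086016) (BT.node (nat_lit 8085952) (BT.leaf (nat_lit 46408481)) (BT.leaf (nat_lit 28666633))) (BT.node (nat_lit 8086080) (BT.leaf (nat_lit 42383389)) (BT.leaf (nat_lit 28428293)))) (BT.node (nat_lit 8086272) (BT.node (nat_lit 8086208) (BT.leaf (nat_lit 49314837)) (BT.leaf (nat_lit 27648017))) (BT.node (nat_lit 8086336) (BT.leaf (nat_lit 30045957)) (BT.leaf (nat_lit 29949725))))) (BT.node (nat_lit 8086656) (BT.node (nat_lit 8086528) (BT.node (nat_lit 8086464) (BT.leaf (nat_lit 32902149)) (BT.leaf (nat_lit 28625681))) (BT.node (nat_lit 8086592) (BT.leaf (nat_lit 28625697)) (BT.leaf (nat_lit 50322441)))) (BT.node (nat_lit 8086784) (BT.node (nat_lit 8086720) (BT.leaf (nat_lit 47946781)) (BT.leaf (nat_lit 39890185))) (BT.node (nat_lit 8086848) (BT.leaf (nat_lit 28844821)) (BT.leaf (nat_lit 37402377))))))))))) (BT.node (nat_lit 8103296) (BT.node (nat_lit 8095104) (BT.node (nat_lit 8091008) (BT.node (nat_lit 8088960) (BT.node (nat_lit 8087936) (BT.node (nat_lit 8087424) (BT.node (nat_lit 8087168) (BT.node (nat_lit 8087040) (BT.node (nat_lit 8086976) (BT.leaf (nat_lit 24488713)) (BT.leaf (nat_lit 26959381))) (BT.node (nat_lit 8087104) (BT.leaf (nat_lit 31232277)) (BT.leaf (nat_lit 46612237)))) (BT.node (nat_lit 8087296) (BT.node (nat_lit 8087232) (BT.leaf (nat_lit 30034197)) (BT.leaf (nat_lit 47473929))) (BT.node (nat_lit 8087360) (BT.leaf (nat_lit 24488733)) (BT.leaf (nat_lit 24488729))))) (BT.node (nat_lit 8087680) (BT.node (nat_lit 8087552) (BT.node (nat_lit 8087488) (BT.leaf (nat_lit 49316881)) (BT.leaf (nat_lit 48958217))) (BT.node (nat_lit 8087616) (BT.leaf (nat_lit 27730465)) (BT.leaf (nat_lit 29457173)))) (BT.node (nat_lit 8087808) (BT.node (nat_lit 8087744) (BT.leaf (nat_lit 30318353)) (BT.leaf (nat_lit 32350745))) (BT.node (nat_lit 8087872) (BT.leaf (nat_lit 24220949)) (BT.leaf (nat_lit 27848205)))))) (BT.node (nat_lit 8088448) (BT.node (nat_lit 8088192) (BT.node (nat_lit 8088064) (BT.node (nat_lit 8088000) (BT.leaf (nat_lit 48519193)) (BT.leaf (nat_lit 26960157))) (BT.node (nat_lit 8088128) (BT.leaf (nat_lit 27351057)) (BT.leaf (nat_lit 30033953)))) (BT.node (nat_lit 8088320) (BT.node (nat_lit 8088256) (BT.leaf (nat_lit 34147345)) (BT.leaf (nat_lit 30409497))) (BT.node (nat_lit 8088384) (BT.leaf (nat_lit 30409501)) (BT.leaf (nat_lit 46400797))))) (BT.node (nat_lit 8088704) (BT.node (nat_lit 8088576) (BT.node (nat_lit 8088512) (BT.leaf (nat_lit 47485457)) (BT.leaf (nat_lit 32751889))) (BT.node (nat_lit 8088640) (BT.leaf (nat_lit 42895377)) (BT.leaf (nat_lit 49322005)))) (BT.node (nat_lit 8088832) (BT.node (nat_lit 8088768) (BT.leaf (nat_lit 34118433)) (BT.leaf (nat_lit 31985425))) (BT.node (nat_lit 8088896) (BT.leaf (nat_lit 30018073)) (BT.leaf (nat_lit 30018077))))))) (BT.node (nat_lit 8089984) (BT.node (nat_lit 8089472) (BT.node (nat_lit 8089216) (BT.node (nat_lit 8089088) (BT.node (nat_lit 8089024) (BT.leaf (nat_lit 42205473)) (BT.leaf (nat_lit 49324049))) (BT.node (nat_lit 8089152) (BT.leaf (nat_lit 31606021)) (BT.leaf (nat_lit 28204065)))) (BT.node (nat_lit 8089344) (BT.node (nat_lit 8089280) (BT.leaf (nat_lit 36049429)) (BT.leaf (nat_lit 49325069))) (BT.node (nat_lit 8089408) (BT.leaf (nat_lit 29937925)) (BT.leaf (nat_lit 50371857))))) (BT.node (nat_lit 8089728) (BT.node (nat_lit 8089600) (BT.node (nat_lit 8089536) (BT.leaf (nat_lit 36317465)) (BT.leaf (nat_lit 27948817))) (BT.node (nat_lit 8089664) (BT.leaf (nat_lit 27934237)) (BT.leaf (nat_lit 43293965)))) (BT.node (nat_lit 8089856) (BT.node (nat_lit 8089792) (BT.leaf (nat_lit 49326865)) (BT.leaf (nat_lit 24501265))) (BT.node (nat_lit 8089920) (BT.leaf (nat_lit 33413125)) (BT.leaf (nat_lit 27691025)))))) (BT.node (nat_lit 8090496) (BT.node (nat_lit 8090240) (BT.node (nat_lit 8090112) (BT.node (nat_lit 8090048) (BT.leaf (nat_lit 29200393)) (BT.leaf (nat_lit 32279569))) (BT.node (nat_lit 8090176) (BT.leaf (nat_lit 29999905)) (BT.leaf (nat_lit 45397269)))) (BT.node (nat_lit 8090368) (BT.node (nat_lit 8090304) (BT.leaf (nat_lit 31338785)) (BT.leaf (nat_lit 24503313))) (BT.node (nat_lit 8090432) (BT.leaf (nat_lit 24503317)) (BT.leaf (nat_lit 46473993))))) (BT.node (nat_lit 8090752) (BT.node (nat_lit 8090624) (BT.node (nat_lit 8090560) (BT.leaf (nat_lit 34632205)) (BT.leaf (nat_lit 37823773))) (BT.node (nat_lit 8090688) (BT.leaf (nat_lit 32448025)) (BT.leaf (nat_lit 36463377)))) (BT.node (nat_lit 8090880) (BT.node (nat_lit 8090816) (BT.leaf (nat_lit 33016085)) (BT.leaf (nat_lit 50583073))) (BT.node (nat_lit 8090944) (BT.leaf (nat_lit 24538397)) (BT.leaf (nat_lit 40615957)))))))) (BT.node (nat_lit 8093056) (BT.node (nat_lit 8092032) (BT.node (nat_lit 8091520) (BT.node (nat_lit 8091264) (BT.node (nat_lit 8091136) (BT.node (nat_lit 8091072) (BT.leaf (nat_lit 31309061)) (BT.leaf (nat_lit 27930401))) (BT.node (nat_lit 8091200) (BT.leaf (nat_lit 42584337)) (BT.leaf (nat_lit 35615265)))) (BT.node (nat_lit 8091392) (BT.node (nat_lit 8091328) (BT.leaf (nat_lit 27477525)) (BT.leaf (nat_lit 40487685))) (BT.node (nat_lit 8091456) (BT.leaf (nat_lit 32365337)) (BT.leaf (nat_lit 30294033))))) (BT.node (nat_lit 8091776) (BT.node (nat_lit 8091648) (BT.node (nat_lit 8091584) (BT.leaf (nat_lit 31734793)) (BT.leaf (nat_lit 49335573))) (BT.node (nat_lit 8091712) (BT.leaf (nat_lit 31030537)) (BT.leaf (nat_lit 32270865)))) (BT.node (nat_lit 8091904) (BT.node (nat_lit 8091840) (BT.leaf (nat_lit 31335449)) (BT.leaf (nat_lit 37722657))) (BT.node (nat_lit 8091968) (BT.leaf (nat_lit 48749573)) (BT.leaf (nat_lit 49336349)))))) (BT.node (nat_lit 8092544) (BT.node (nat_lit 8092288) (BT.node (nat_lit 8092160) (BT.node (nat_lit 8092096) (BT.leaf (nat_lit 24733453)) (BT.leaf (nat_lit 49336597))) (BT.node (nat_lit 8092224) (BT.leaf (nat_lit 35127305)) (BT.leaf (nat_lit 38979617)))) (BT.node (nat_lit 8092416) (BT.node (nat_lit 8092352) (BT.leaf (nat_lit 30674457)) (BT.leaf (nat_lit 30674461))) (BT.node (nat_lit 8092480) (BT.leaf (nat_lit 42446613)) (BT.leaf (nat_lit 30337557))))) (BT.node (nat_lit 8092800) (BT.node (nat_lit 8092672) (BT.node (nat_lit 8092608) (BT.leaf (nat_lit 27312913)) (BT.leaf (nat_lit 32485141))) (BT.node (nat_lit 8092736) (BT.leaf (nat_lit 31572741)) (BT.leaf (nat_lit 46472457)))) (BT.node (nat_lit 8092928) (BT.node (nat_lit 8092864) (BT.leaf (nat_lit 46731293)) (BT.leaf (nat_lit 47036677))) (BT.node (nat_lit 8092992) (BT.leaf (nat_lit 24505617)) (BT.leaf (nat_lit 37870861))))))) (BT.node (nat_lit 8094080) (BT.node (nat_lit 8093568) (BT.node (nat_lit 8093312) (BT.node (nat_lit 8093184) (BT.node (nat_lit 8093120) (BT.leaf (nat_lit 49339157)) (BT.leaf (nat_lit 43115529))) (BT.node (nat_lit 8093248) (BT.leaf (nat_lit 49339413)) (BT.leaf (nat_lit 49339673)))) (BT.node (nat_lit 8093440) (BT.node (nat_lit 8093376) (BT.leaf (nat_lit 32162589)) (BT.leaf (nat_lit 28563993))) (BT.node (nat_lit 8093504) (BT.leaf (nat_lit 32374045)) (BT.leaf (nat_lit 49340177))))) (BT.node (nat_lit 8093824) (BT.node (nat_lit 8093696) (BT.node (nat_lit 8093632) (BT.leaf (nat_lit 49341217)) (BT.leaf (nat_lit 49341445))) (BT.node (nat_lit 8093760) (BT.leaf (nat_lit 31212037)) (BT.leaf (nat_lit 29086485)))) (BT.node (nat_lit 8093952) (BT.node (nat_lit 8093888) (BT.leaf (nat_lit 23801617)) (BT.leaf (nat_lit 32375837))) (BT.node (nat_lit 8094016) (BT.leaf (nat_lit 28896529)) (BT.leaf (nat_lit 24508177)))))) (BT.node (nat_lit 8094592) (BT.node (nat_lit 8094336) (BT.node (nat_lit 8094208) (BT.node (nat_lit 8094144) (BT.leaf (nat_lit 35239201)) (BT.leaf (nat_lit 49343249))) (BT.node (nat_lit 8094272) (BT.leaf (nat_lit 43101981)) (BT.leaf (nat_lit 29196037)))) (BT.node (nat_lit 8094464) (BT.node (nat_lit 8094400) (BT.leaf (nat_lit 28936465)) (BT.leaf (nat_lit 28007705))) (BT.node (nat_lit 8094528) (BT.leaf (nat_lit 49344533)) (BT.leaf (nat_lit 31154949))))) (BT.node (nat_lit 8094848) (BT.node (nat_lit 8094720) (BT.node (nat_lit 8094656) (BT.leaf (nat_lit 34607129)) (BT.leaf (nat_lit 34607133))) (BT.node (nat_lit 8094784) (BT.leaf (nat_lit 30090273)) (BT.leaf (nat_lit 48056333)))) (BT.node (nat_lit 8094976) (BT.node (nat_lit 8094912) (BT.leaf (nat_lit 27612689)) (BT.leaf (nat_lit 42243337))) (BT.node (nat_lit 8095040) (BT.leaf (nat_lit 43415073)) (BT.leaf (nat_lit 24626189))))))))) (BT.node (nat_lit 8099200) (BT.node (nat_lit 8097152) (BT.node (nat_lit 8096128) (BT.node (nat_lit 8095616) (BT.node (nat_lit 8095360) (BT.node (nat_lit 8095232) (BT.node (nat_lit 8095168) (BT.leaf (nat_lit 28584465)) (BT.leaf (nat_lit 49345553))) (BT.node (nat_lit 8095296) (BT.leaf (nat_lit 43839509)) (BT.leaf (nat_lit 30897929)))) (BT.node (nat_lit 8095488) (BT.node (nat_lit 8095424) (BT.leaf (nat_lit 46826509)) (BT.leaf (nat_lit 31161889))) (BT.node (nat_lit 8095552) (BT.leaf (nat_lit 46040597)) (BT.leaf (nat_lit 35366689))))) (BT.node (nat_lit 8095872) (BT.node (nat_lit 8095744) (BT.node (nat_lit 8095680) (BT.leaf (nat_lit 49347857)) (BT.leaf (nat_lit 49348385))) (BT.node (nat_lit 8095808) (BT.leaf (nat_lit 27609625)) (BT.leaf (nat_lit 27609629)))) (BT.node (nat_lit 8096000) (BT.node (nat_lit 8095936) (BT.leaf (nat_lit 32822045)) (BT.leaf (nat_lit 24514321))) (BT.node (nat_lit 8096064) (BT.leaf (nat_lit 37536021)) (BT.leaf (nat_lit 40424469)))))) (BT.node (nat_lit 8096640) (BT.node (nat_lit 8096384) (BT.node (nat_lit 8096256) (BT.node (nat_lit 8096192) (BT.leaf (nat_lit 42663961)) (BT.leaf (nat_lit 24515357))) (BT.node (nat_lit 8096320) (BT.leaf (nat_lit 48102673)) (BT.leaf (nat_lit 49350417)))) (BT.node (nat_lit 8096512) (BT.node (nat_lit 8096448) (BT.leaf (nat_lit 39716129)) (BT.leaf (nat_lit 49350677))) (BT.node (nat_lit 8096576) (BT.leaf (nat_lit 49350917)) (BT.leaf (nat_lit 35203085))))) (BT.node (nat_lit 8096896) (BT.node (nat_lit 8096768) (BT.node (nat_lit 8096704) (BT.leaf (nat_lit 24519441)) (BT.leaf (nat_lit 24519185))) (BT.node (nat_lit 8096832) (BT.leaf (nat_lit 28640533)) (BT.leaf (nat_lit 31123477)))) (BT.node (nat_lit 8097024) (BT.node (nat_lit 8096960) (BT.leaf (nat_lit 29576217)) (BT.leaf (nat_lit 41788177))) (BT.node (nat_lit 8097088) (BT.leaf (nat_lit 49351953)) (BT.leaf (nat_lit 32271889))))))) (BT.node (nat_lit 8098176) (BT.node (nat_lit 8097664) (BT.node (nat_lit 8097408) (BT.node (nat_lit 8097280) (BT.node (nat_lit 8097216) (BT.leaf (nat_lit 22767893)) (BT.leaf (nat_lit 30137365))) (BT.node (nat_lit 8097344) (BT.leaf (nat_lit 37947933)) (BT.leaf (nat_lit 34093077)))) (BT.node (nat_lit 8097536) (BT.node (nat_lit 8097472) (BT.leaf (nat_lit 27672353)) (BT.leaf (nat_lit 36317717))) (BT.node (nat_lit 8097600) (BT.leaf (nat_lit 28475681)) (BT.leaf (nat_lit 39836193))))) (BT.node (nat_lit 8097920) (BT.node (nat_lit 8097792) (BT.node (nat_lit 8097728) (BT.leaf (nat_lit 30790933)) (BT.leaf (nat_lit 32391197))) (BT.node (nat_lit 8097856) (BT.leaf (nat_lit 33544465)) (BT.leaf (nat_lit 31585057)))) (BT.node (nat_lit 8098048) (BT.node (nat_lit 8097984) (BT.leaf (nat_lit 31375137)) (BT.leaf (nat_lit 48898577))) (BT.node (nat_lit 8098112) (BT.leaf (nat_lit 27938329)) (BT.leaf (nat_lit 49357337)))))) (BT.node (nat_lit 8098688) (BT.node (nat_lit 8098432) (BT.node (nat_lit 8098304) (BT.node (nat_lit 8098240) (BT.leaf (nat_lit 30087457)) (BT.leaf (nat_lit 41291801))) (BT.node (nat_lit 8098368) (BT.leaf (nat_lit 27323157)) (BT.leaf (nat_lit 34186245)))) (BT.node (nat_lit 8098560) (BT.node (nat_lit 8098496) (BT.leaf (nat_lit 30856197)) (BT.leaf (nat_lit 27904529))) (BT.node (nat_lit 8098624) (BT.leaf (nat_lit 28247061)) (BT.leaf (nat_lit 35071773))))) (BT.node (nat_lit 8098944) (BT.node (nat_lit 8098816) (BT.node (nat_lit 8098752) (BT.leaf (nat_lit 29080597)) (BT.leaf (nat_lit 49358877))) (BT.node (nat_lit 8098880) (BT.leaf (nat_lit 29080085)) (BT.leaf (nat_lit 50664205)))) (BT.node (nat_lit 8099072) (BT.node (nat_lit 8099008) (BT.leaf (nat_lit 47609121)) (BT.leaf (nat_lit 40663317))) (BT.node (nat_lit 8099136) (BT.leaf (nat_lit 24525329)) (BT.leaf (nat_lit 46688785)))))))) (BT.node (nat_lit 8101248) (BT.node (nat_lit 8100224) (BT.node (nat_lit 8099712) (BT.node (nat_lit 8099456) (BT.node (nat_lit 8099328) (BT.node (nat_lit 8099264) (BT.leaf (nat_lit 29420821)) (BT.leaf (nat_lit 46372897))) (BT.node (nat_lit 8099392) (BT.leaf (nat_lit 34738705)) (BT.leaf (nat_lit 47161865)))) (BT.node (nat_lit 8099584) (BT.node (nat_lit 8099520) (BT.leaf (nat_lit 49360661)) (BT.leaf (nat_lit 49360917))) (BT.node (nat_lit 8099648) (BT.leaf (nat_lit 24526865)) (BT.leaf (nat_lit 24526609))))) (BT.node (nat_lit 8099968) (BT.node (nat_lit 8099840) (BT.node (nat_lit 8099776) (BT.leaf (nat_lit 49430817)) (BT.leaf (nat_lit 28036121))) (BT.node (nat_lit 8099904) (BT.leaf (nat_lit 28036125)) (BT.leaf (nat_lit 33560341)))) (BT.node (nat_lit 8100096) (BT.node (nat_lit 8100032) (BT.leaf (nat_lit 29997061)) (BT.leaf (nat_lit 49362189))) (BT.node (nat_lit 8100160) (BT.leaf (nat_lit 28910869)) (BT.leaf (nat_lit 27430681)))))) (BT.node (nat_lit 8100736) (BT.node (nat_lit 8100480) (BT.node (nat_lit 8100352) (BT.node (nat_lit 8100288) (BT.leaf (nat_lit 22501397)) (BT.leaf (nat_lit 30738453))) (BT.node (nat_lit 8100416) (BT.leaf (nat_lit 30738457)) (BT.leaf (nat_lit 30738461)))) (BT.node (nat_lit 8100608) (BT.node (nat_lit 8100544) (BT.leaf (nat_lit 28079125)) (BT.leaf (nat_lit 29288209))) (BT.node (nat_lit 8100672) (BT.leaf (nat_lit 28799237)) (BT.leaf (nat_lit 41995273))))) (BT.node (nat_lit 8100992) (BT.node (nat_lit 8100864) (BT.node (nat_lit 8100800) (BT.leaf (nat_lit 35067397)) (BT.leaf (nat_lit 24230933))) (BT.node (nat_lit 8100928) (BT.leaf (nat_lit 32403741)) (BT.leaf (nat_lit 37079057)))) (BT.node (nat_lit 8101120) (BT.node (nat_lit 8101056) (BT.leaf (nat_lit 31177757)) (BT.leaf (nat_lit 29456645))) (BT.node (nat_lit 8101184) (BT.leaf (nat_lit 24527633)) (BT.leaf (nat_lit 35079961))))))) (BT.node (nat_lit 8102272) (BT.node (nat_lit 8101760) (BT.node (nat_lit 8101504) (BT.node (nat_lit 8101376) (BT.node (nat_lit 8101312) (BT.leaf (nat_lit 27273997)) (BT.leaf (nat_lit 28467221))) (BT.node (nat_lit 8101440) (BT.leaf (nat_lit 31912481)) (BT.leaf (nat_lit 29084941)))) (BT.node (nat_lit 8101632) (BT.node (nat_lit 8101568) (BT.leaf (nat_lit 24527889)) (BT.leaf (nat_lit 33938965))) (BT.node (nat_lit 8101696) (BT.leaf (nat_lit 40861201)) (BT.leaf (nat_lit 29889797))))) (BT.node (nat_lit 8102016) (BT.node (nat_lit 8101888) (BT.node (nat_lit 8101824) (BT.leaf (nat_lit 31176225)) (BT.leaf (nat_lit 28508705))) (BT.node (nat_lit 8101952) (BT.leaf (nat_lit 32406541)) (BT.leaf (nat_lit 40661281)))) (BT.node (nat_lit 8102144) (BT.node (nat_lit 8102080) (BT.leaf (nat_lit 30874641)) (BT.leaf (nat_lit 30876449))) (BT.node (nat_lit 8102208) (BT.leaf (nat_lit 28509473)) (BT.leaf (nat_lit 29162001)))))) (BT.node (nat_lit 8102784) (BT.node (nat_lit 8102528) (BT.node (nat_lit 8102400) (BT.node (nat_lit 8102336) (BT.leaf (nat_lit 29090577)) (BT.leaf (nat_lit 28542985))) (BT.node (nat_lit 8102464) (BT.leaf (nat_lit 36875781)) (BT.leaf (nat_lit 49365781)))) (BT.node (nat_lit 8102656) (BT.node (nat_lit 8102592) (BT.leaf (nat_lit 29462561)) (BT.leaf (nat_lit 27499801))) (BT.node (nat_lit 8102720) (BT.leaf (nat_lit 27499805)) (BT.leaf (nat_lit 28310549))))) (BT.node (nat_lit 8103040) (BT.node (nat_lit 8102912) (BT.node (nat_lit 8102848) (BT.leaf (nat_lit 29248517)) (BT.leaf (nat_lit 30890785))) (BT.node (nat_lit 8102976) (BT.leaf (nat_lit 44293389)) (BT.leaf (nat_lit 47286037)))) (BT.node (nat_lit 8103168) (BT.node (nat_lit 8103104) (BT.leaf (nat_lit 31407905)) (BT.leaf (nat_lit 31045153))) (BT.node (nat_lit 8103232) (BT.leaf (nat_lit 42465805)) (BT.leaf (nat_lit 31014689)))))))))) (BT.node (nat_lit 8111488) (BT.node (nat_lit 8107392) (BT.node (nat_lit 8105344) (BT.node (nat_lit 8104320) (BT.node (nat_lit 8103808) (BT.node (nat_lit 8103552) (BT.node (nat_lit 8103424) (BT.node (nat_lit 8103360) (BT.leaf (nat_lit 49368085)) (BT.leaf (nat_lit 40263445))) (BT.node (nat_lit 8103488) (BT.leaf (nat_lit 29701901)) (BT.leaf (nat_lit 28497185)))) (BT.node (nat_lit 8103680) (BT.node (nat_lit 8103616) (BT.leaf (nat_lit 44495385)) (BT.leaf (nat_lit 49369617))) (BT.node (nat_lit 8103744) (BT.leaf (nat_lit 31586333)) (BT.leaf (nat_lit 27620873))))) (BT.node (nat_lit 8104064) (BT.node (nat_lit 8103936) (BT.node (nat_lit 8103872) (BT.leaf (nat_lit 45983757)) (BT.leaf (nat_lit 27573521))) (BT.node (nat_lit 8104000) (BT.leaf (nat_lit 27444761)) (BT.leaf (nat_lit 27444765)))) (BT.node (nat_lit 8104192) (BT.node (nat_lit 8104128) (BT.leaf (nat_lit 39497993)) (BT.leaf (nat_lit 49371417))) (BT.node (nat_lit 8104256) (BT.leaf (nat_lit 47087377)) (BT.leaf (nat_lit 24725529)))))) (BT.node (nat_lit 8104832) (BT.node (nat_lit 8104576) (BT.node (nat_lit 8104448) (BT.node (nat_lit 8104384) (BT.leaf (nat_lit 30988305)) (BT.leaf (nat_lit 33985825))) (BT.node (nat_lit 8104512) (BT.leaf (nat_lit 38415905)) (BT.leaf (nat_lit 31385113)))) (BT.node (nat_lit 8104704) (BT.node (nat_lit 8104640) (BT.leaf (nat_lit 48100869)) (BT.leaf (nat_lit 42052365))) (BT.node (nat_lit 8104768) (BT.leaf (nat_lit 49372689)) (BT.leaf (nat_lit 49371405))))) (BT.node (nat_lit 8105088) (BT.node (nat_lit 8104960) (BT.node (nat_lit 8104896) (BT.leaf (nat_lit 43060245)) (BT.leaf (nat_lit 27938593))) (BT.node (nat_lit 8105024) (BT.leaf (nat_lit 24539665)) (BT.leaf (nat_lit 24539153)))) (BT.node (nat_lit 8105216) (BT.node (nat_lit 8105152) (BT.leaf (nat_lit 30860553)) (BT.leaf (nat_lit 38794781))) (BT.node (nat_lit 8105280) (BT.leaf (nat_lit 38794761)) (BT.leaf (nat_lit 49374997))))))) (BT.node (nat_lit 8106368) (BT.node (nat_lit 8105856) (BT.node (nat_lit 8105600) (BT.node (nat_lit 8105472) (BT.node (nat_lit 8105408) (BT.leaf (nat_lit 30860577)) (BT.leaf (nat_lit 29203221))) (BT.node (nat_lit 8105536) (BT.leaf (nat_lit 49375249)) (BT.leaf (nat_lit 22322705)))) (BT.node (nat_lit 8105728) (BT.node (nat_lit 8105664) (BT.leaf (nat_lit 49375765)) (BT.leaf (nat_lit 32618501))) (BT.node (nat_lit 8105792) (BT.leaf (nat_lit 42328853)) (BT.leaf (nat_lit 49377557))))) (BT.node (nat_lit 8106112) (BT.node (nat_lit 8105984) (BT.node (nat_lit 8105920) (BT.leaf (nat_lit 49377797)) (BT.leaf (nat_lit 35204873))) (BT.node (nat_lit 8106048) (BT.leaf (nat_lit 24541961)) (BT.leaf (nat_lit 49378065)))) (BT.node (nat_lit 8106240) (BT.node (nat_lit 8106176) (BT.leaf (nat_lit 35154197)) (BT.leaf (nat_lit 31358737))) (BT.node (nat_lit 8106304) (BT.leaf (nat_lit 27673629)) (BT.leaf (nat_lit 49378325)))))) (BT.node (nat_lit 8106880) (BT.node (nat_lit 8106624) (BT.node (nat_lit 8106496) (BT.node (nat_lit 8106432) (BT.leaf (nat_lit 35153945)) (BT.leaf (nat_lit 27360285))) (BT.node (nat_lit 8106560) (BT.leaf (nat_lit 27308821)) (BT.leaf (nat_lit 27478549)))) (BT.node (nat_lit 8106752) (BT.node (nat_lit 8106688) (BT.leaf (nat_lit 49378581)) (BT.leaf (nat_lit 24543249))) (BT.node (nat_lit 8106816) (BT.leaf (nat_lit 24542993)) (BT.leaf (nat_lit 31527961))))) (BT.node (nat_lit 8107136) (BT.node (nat_lit 8107008) (BT.node (nat_lit 8106944) (BT.leaf (nat_lit 31527965)) (BT.leaf (nat_lit 49379097))) (BT.node (nat_lit 8107072) (BT.leaf (nat_lit 49379869)) (BT.leaf (nat_lit 48419605)))) (BT.node (nat_lit 8107264) (BT.node (nat_lit 8107200) (BT.leaf (nat_lit 24546065)) (BT.leaf (nat_lit 24545809))) (BT.node (nat_lit 8107328) (BT.leaf (nat_lit 31046405)) (BT.leaf (nat_lit 28223521)))))))) (BT.node (nat_lit 8109440) (BT.node (nat_lit 8108416) (BT.node (nat_lit 8107904) (BT.node (nat_lit 8107648) (BT.node (nat_lit 8107520) (BT.node (nat_lit 8107456) (BT.leaf (nat_lit 24797721)) (BT.leaf (nat_lit 28136465))) (BT.node (nat_lit 8107584) (BT.leaf (nat_lit 31780109)) (BT.leaf (nat_lit 32365585)))) (BT.node (nat_lit 8107776) (BT.node (nat_lit 8107712) (BT.leaf (nat_lit 28363793)) (BT.leaf (nat_lit 29516297))) (BT.node (nat_lit 8107840) (BT.leaf (nat_lit 28138517)) (BT.leaf (nat_lit 28885525))))) (BT.node (nat_lit 8108160) (BT.node (nat_lit 8108032) (BT.node (nat_lit 8107968) (BT.leaf (nat_lit 28885529)) (BT.leaf (nat_lit 28885533))) (BT.node (nat_lit 8108096) (BT.leaf (nat_lit 44478229)) (BT.leaf (nat_lit 32725001)))) (BT.node (nat_lit 8108288) (BT.node (nat_lit 8108224) (BT.leaf (nat_lit 47608593)) (BT.leaf (nat_lit 38871329))) (BT.node (nat_lit 8108352) (BT.leaf (nat_lit 49382413)) (BT.leaf (nat_lit 24549657)))))) (BT.node (nat_lit 8108928) (BT.node (nat_lit 8108672) (BT.node (nat_lit 8108544) (BT.node (nat_lit 8108480) (BT.leaf (nat_lit 24292369)) (BT.leaf (nat_lit 27303961))) (BT.node (nat_lit 8108608) (BT.leaf (nat_lit 27303965)) (BT.leaf (nat_lit 36348433)))) (BT.node (nat_lit 8108800) (BT.node (nat_lit 8108736) (BT.leaf (nat_lit 27620889)) (BT.leaf (nat_lit 27620893))) (BT.node (nat_lit 8108864) (BT.leaf (nat_lit 49384217)) (BT.leaf (nat_lit 32181025))))) (BT.node (nat_lit 8109184) (BT.node (nat_lit 8109056) (BT.node (nat_lit 8108992) (BT.leaf (nat_lit 39447577)) (BT.leaf (nat_lit 37854725))) (BT.node (nat_lit 8109120) (BT.leaf (nat_lit 39448089)) (BT.leaf (nat_lit 36837637)))) (BT.node (nat_lit 8109312) (BT.node (nat_lit 8109248) (BT.leaf (nat_lit 32709397)) (BT.leaf (nat_lit 28350729))) (BT.node (nat_lit 8109376) (BT.leaf (nat_lit 38260257)) (BT.leaf (nat_lit 31050785))))))) (BT.node (nat_lit 8110464) (BT.node (nat_lit 8109952) (BT.node (nat_lit 8109696) (BT.node (nat_lit 8109568) (BT.node (nat_lit 8109504) (BT.leaf (nat_lit 32184581)) (BT.leaf (nat_lit 32185121))) (BT.node (nat_lit 8109632) (BT.leaf (nat_lit 42885661)) (BT.leaf (nat_lit 31638277)))) (BT.node (nat_lit 8109824) (BT.node (nat_lit 8109760) (BT.leaf (nat_lit 34454305)) (BT.leaf (nat_lit 29910305))) (BT.node (nat_lit 8109888) (BT.leaf (nat_lit 49386265)) (BT.leaf (nat_lit 49386517))))) (BT.node (nat_lit 8110208) (BT.node (nat_lit 8110080) (BT.node (nat_lit 8110016) (BT.leaf (nat_lit 35271945)) (BT.leaf (nat_lit 49386253))) (BT.node (nat_lit 8110144) (BT.leaf (nat_lit 28785441)) (BT.leaf (nat_lit 30510369)))) (BT.node (nat_lit 8110336) (BT.node (nat_lit 8110272) (BT.leaf (nat_lit 47737377)) (BT.leaf (nat_lit 31811873))) (BT.node (nat_lit 8110400) (BT.leaf (nat_lit 33950753)) (BT.leaf (nat_lit 33404693)))))) (BT.node (nat_lit 8110976) (BT.node (nat_lit 8110720) (BT.node (nat_lit 8110592) (BT.node (nat_lit 8110528) (BT.leaf (nat_lit 47695633)) (BT.leaf (nat_lit 33716241))) (BT.node (nat_lit 8110656) (BT.leaf (nat_lit 49388309)) (BT.leaf (nat_lit 49388049)))) (BT.node (nat_lit 8110848) (BT.node (nat_lit 8110784) (BT.leaf (nat_lit 49388577)) (BT.leaf (nat_lit 49388833))) (BT.node (nat_lit 8110912) (BT.leaf (nat_lit 29571349)) (BT.leaf (nat_lit 49389857))))) (BT.node (nat_lit 8111232) (BT.node (nat_lit 8111104) (BT.node (nat_lit 8111040) (BT.leaf (nat_lit 49390113)) (BT.leaf (nat_lit 35065109))) (BT.node (nat_lit 8111168) (BT.leaf (nat_lit 32552969)) (BT.leaf (nat_lit 24554513)))) (BT.node (nat_lit 8111360) (BT.node (nat_lit 8111296) (BT.leaf (nat_lit 29571353)) (BT.leaf (nat_lit 29571357))) (BT.node (nat_lit 8111424) (BT.leaf (nat_lit 24555025)) (BT.leaf (nat_lit 46501893))))))))) (BT.node (nat_lit 8115584) (BT.node (nat_lit 8113536) (BT.node (nat_lit 8112512) (BT.node (nat_lit 8112000) (BT.node (nat_lit 8111744) (BT.node (nat_lit 8111616) (BT.node (nat_lit 8111552) (BT.leaf (nat_lit 39659553)) (BT.leaf (nat_lit 24412945))) (BT.node (nat_lit 8111680) (BT.leaf (nat_lit 47267849)) (BT.leaf (nat_lit 30764825)))) (BT.node (nat_lit 8111872) (BT.node (nat_lit 8111808) (BT.leaf (nat_lit 27771413)) (BT.leaf (nat_lit 40043297))) (BT.node (nat_lit 8111936) (BT.leaf (nat_lit 39643169)) (BT.leaf (nat_lit 49387537))))) (BT.node (nat_lit 8112256) (BT.node (nat_lit 8112128) (BT.node (nat_lit 8112064) (BT.leaf (nat_lit 24556553)) (BT.leaf (nat_lit 24800281))) (BT.node (nat_lit 8112192) (BT.leaf (nat_lit 24556573)) (BT.leaf (nat_lit 35023893)))) (BT.node (nat_lit 8112384) (BT.node (nat_lit 8112320) (BT.leaf (nat_lit 24556817)) (BT.leaf (nat_lit 31183893))) (BT.node (nat_lit 8112448) (BT.leaf (nat_lit 49328921)) (BT.leaf (nat_lit 49392133)))))) (BT.node (nat_lit 8113024) (BT.node (nat_lit 8112768) (BT.node (nat_lit 8112640) (BT.node (nat_lit 8112576) (BT.leaf (nat_lit 24557585)) (BT.leaf (nat_lit 32633105))) (BT.node (nat_lit 8112704) (BT.leaf (nat_lit 32193037)) (BT.leaf (nat_lit 24557329)))) (BT.node (nat_lit 8112896) (BT.node (nat_lit 8112832) (BT.leaf (nat_lit 48438033)) (BT.leaf (nat_lit 41414689))) (BT.node (nat_lit 8112960) (BT.leaf (nat_lit 40540945)) (BT.leaf (nat_lit 49393425))))) (BT.node (nat_lit 8113280) (BT.node (nat_lit 8113152) (BT.node (nat_lit 8113088) (BT.leaf (nat_lit 50691605)) (BT.leaf (nat_lit 41228833))) (BT.node (nat_lit 8113216) (BT.leaf (nat_lit 37825313)) (BT.leaf (nat_lit 40734213)))) (BT.node (nat_lit 8113408) (BT.node (nat_lit 8113344) (BT.leaf (nat_lit 30856989)) (BT.leaf (nat_lit 37744413))) (BT.node (nat_lit 8113472) (BT.leaf (nat_lit 38575893)) (BT.leaf (nat_lit 27978013))))))) (BT.node (nat_lit 8114560) (BT.node (nat_lit 8114048) (BT.node (nat_lit 8113792) (BT.node (nat_lit 8113664) (BT.node (nat_lit 8113600) (BT.leaf (nat_lit 32209937)) (BT.leaf (nat_lit 32963613))) (BT.node (nat_lit 8113728) (BT.leaf (nat_lit 42896141)) (BT.leaf (nat_lit 24560145)))) (BT.node (nat_lit 8113920) (BT.node (nat_lit 8113856) (BT.leaf (nat_lit 22390805)) (BT.leaf (nat_lit 35241761))) (BT.node (nat_lit 8113984) (BT.leaf (nat_lit 23258389)) (BT.leaf (nat_lit 24560405))))) (BT.node (nat_lit 8114304) (BT.node (nat_lit 8114176) (BT.node (nat_lit 8114112) (BT.leaf (nat_lit 42795537)) (BT.leaf (nat_lit 35106329))) (BT.node (nat_lit 8114240) (BT.leaf (nat_lit 32872457)) (BT.leaf (nat_lit 24560401)))) (BT.node (nat_lit 8114432) (BT.node (nat_lit 8114368) (BT.leaf (nat_lit 35326229)) (BT.leaf (nat_lit 24560657))) (BT.node (nat_lit 8114496) (BT.leaf (nat_lit 38711317)) (BT.leaf (nat_lit 46450465)))))) (BT.node (nat_lit 8115072) (BT.node (nat_lit 8114816) (BT.node (nat_lit 8114688) (BT.node (nat_lit 8114624) (BT.leaf (nat_lit 24561681)) (BT.leaf (nat_lit 29738517))) (BT.node (nat_lit 8114752) (BT.leaf (nat_lit 34673941)) (BT.leaf (nat_lit 30963989)))) (BT.node (nat_lit 8114944) (BT.node (nat_lit 8114880) (BT.leaf (nat_lit 24563217)) (BT.leaf (nat_lit 24562961))) (BT.node (nat_lit 8115008) (BT.leaf (nat_lit 44007457)) (BT.leaf (nat_lit 24562705))))) (BT.node (nat_lit 8115328) (BT.node (nat_lit 8115200) (BT.node (nat_lit 8115136) (BT.leaf (nat_lit 31182865)) (BT.leaf (nat_lit 49330189))) (BT.node (nat_lit 8115264) (BT.leaf (nat_lit 49392137)) (BT.leaf (nat_lit 32693265)))) (BT.node (nat_lit 8115456) (BT.node (nat_lit 8115392) (BT.leaf (nat_lit 44782597)) (BT.leaf (nat_lit 33134365))) (BT.node (nat_lit 8115520) (BT.leaf (nat_lit 24569605)) (BT.leaf (nat_lit 30859017)))))))) (BT.node (nat_lit 8117632) (BT.node (nat_lit 8116608) (BT.node (nat_lit 8116096) (BT.node (nat_lit 8115840) (BT.node (nat_lit 8115712) (BT.node (nat_lit 8115648) (BT.leaf (nat_lit 36382485)) (BT.leaf (nat_lit 28094749))) (BT.node (nat_lit 8115776) (BT.leaf (nat_lit 49398817)) (BT.leaf (nat_lit 29316101)))) (BT.node (nat_lit 8115968) (BT.node (nat_lit 8115904) (BT.leaf (nat_lit 29316373)) (BT.leaf (nat_lit 38360081))) (BT.node (nat_lit 8116032) (BT.leaf (nat_lit 49403417)) (BT.leaf (nat_lit 24577297))))) (BT.node (nat_lit 8116352) (BT.node (nat_lit 8116224) (BT.node (nat_lit 8116160) (BT.leaf (nat_lit 39346185)) (BT.leaf (nat_lit 24578057))) (BT.node (nat_lit 8116288) (BT.leaf (nat_lit 23987481)) (BT.leaf (nat_lit 32467981)))) (BT.node (nat_lit 8116480) (BT.node (nat_lit 8116416) (BT.leaf (nat_lit 32224281)) (BT.leaf (nat_lit 45544213))) (BT.node (nat_lit 8116544) (BT.leaf (nat_lit 37939981)) (BT.leaf (nat_lit 37888537)))))) (BT.node (nat_lit 8117120) (BT.node (nat_lit 8116864) (BT.node (nat_lit 8116736) (BT.node (nat_lit 8116672) (BT.leaf (nat_lit 25903889)) (BT.leaf (nat_lit 37888525))) (BT.node (nat_lit 8116800) (BT.leaf (nat_lit 30978069)) (BT.leaf (nat_lit 32701449)))) (BT.node (nat_lit 8116992) (BT.node (nat_lit 8116928) (BT.leaf (nat_lit 39961629)) (BT.leaf (nat_lit 40142113))) (BT.node (nat_lit 8117056) (BT.leaf (nat_lit 49403925)) (BT.leaf (nat_lit 39408417))))) (BT.node (nat_lit 8117376) (BT.node (nat_lit 8117248) (BT.node (nat_lit 8117184) (BT.leaf (nat_lit 30978073)) (BT.leaf (nat_lit 30978077))) (BT.node (nat_lit 8117312) (BT.leaf (nat_lit 50919713)) (BT.leaf (nat_lit 40278789)))) (BT.node (nat_lit 8117504) (BT.node (nat_lit 8117440) (BT.leaf (nat_lit 48742933)) (BT.leaf (nat_lit 46942241))) (BT.node (nat_lit 8117568) (BT.leaf (nat_lit 29176857)) (BT.leaf (nat_lit 29141265))))))) (BT.node (nat_lit 8118656) (BT.node (nat_lit 8118144) (BT.node (nat_lit 8117888) (BT.node (nat_lit 8117760) (BT.node (nat_lit 8117696) (BT.leaf (nat_lit 49659153)) (BT.leaf (nat_lit 32007457))) (BT.node (nat_lit 8117824) (BT.leaf (nat_lit 30640929)) (BT.leaf (nat_lit 41918473)))) (BT.node (nat_lit 8118016) (BT.node (nat_lit 8117952) (BT.leaf (nat_lit 24582177)) (BT.leaf (nat_lit 39913249))) (BT.node (nat_lit 8118080) (BT.leaf (nat_lit 35307541)) (BT.leaf (nat_lit 24732177))))) (BT.node (nat_lit 8118400) (BT.node (nat_lit 8118272) (BT.node (nat_lit 8118208) (BT.leaf (nat_lit 49406481)) (BT.leaf (nat_lit 31991813))) (BT.node (nat_lit 8118336) (BT.leaf (nat_lit 49406989)) (BT.leaf (nat_lit 43439621)))) (BT.node (nat_lit 8118528) (BT.node (nat_lit 8118464) (BT.leaf (nat_lit 28107021)) (BT.leaf (nat_lit 27815441))) (BT.node (nat_lit 8118592) (BT.leaf (nat_lit 46360069)) (BT.leaf (nat_lit 39449861)))))) (BT.node (nat_lit 8119168) (BT.node (nat_lit 8118912) (BT.node (nat_lit 8118784) (BT.node (nat_lit 8118720) (BT.leaf (nat_lit 45286925)) (BT.leaf (nat_lit 24585249))) (BT.node (nat_lit 8118848) (BT.leaf (nat_lit 49408541)) (BT.leaf (nat_lit 49408005)))) (BT.node (nat_lit 8119040) (BT.node (nat_lit 8118976) (BT.leaf (nat_lit 42451733)) (BT.leaf (nat_lit 45605381))) (BT.node (nat_lit 8119104) (BT.leaf (nat_lit 39924769)) (BT.leaf (nat_lit 30077457))))) (BT.node (nat_lit 8119552) (BT.node (nat_lit 8119360) (BT.node (nat_lit 8119232) (BT.leaf (nat_lit 49083925)) (BT.leaf (nat_lit 37021969))) (BT.node (nat_lit 8119424) (BT.leaf (nat_lit 26719249)) (BT.leaf (nat_lit 39927301)))) (BT.node (nat_lit 8119680) (BT.node (nat_lit 8119616) (BT.leaf (nat_lit 49410333)) (BT.leaf (nat_lit 32740893))) (BT.node (nat_lit 8119744) (BT.leaf (nat_lit 39942689)) (BT.leaf (nat_lit 42353437)))))))))))))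
noncomputable def big0_e59392 : BT Nat := (BT.node (nat_lit 8185408) (BT.node (nat_lit 8152640) (BT.node (nat_lit 8136320) (BT.node (nat_lit 8128000) (BT.node (nat_lit 8123904) (BT.node (nat_lit 8121856) (BT.node (nat_lit 8120832) (BT.node (nat_lit 8120320) (BT.node (nat_lit 8120064) (BT.node (nat_lit 8119936) (BT.node (nat_lit 8119872) (BT.leaf (nat_lit 38179341)) (BT.leaf (nat_lit 46406673))) (BT.node (nat_lit 8120000) (BT.leaf (nat_lit 49411093)) (BT.leaf (nat_lit 29953825)))) (BT.node (nat_lit 8120192) (BT.node (nat_lit 8120128) (BT.leaf (nat_lit 49411857)) (BT.leaf (nat_lit 24704517))) (BT.node (nat_lit 8120256) (BT.leaf (nat_lit 46762777)) (BT.leaf (nat_lit 45153033))))) (BT.node (nat_lit 8120576) (BT.node (nat_lit 8120448) (BT.node (nat_lit 8120384) (BT.leaf (nat_lit 50030093)) (BT.leaf (nat_lit 41765641))) (BT.node (nat_lit 8120512) (BT.leaf (nat_lit 28107017)) (BT.leaf (nat_lit 24504597)))) (BT.node (nat_lit 8120704) (BT.node (nat_lit 8120640) (BT.leaf (nat_lit 39328537)) (BT.leaf (nat_lit 29954337))) (BT.node (nat_lit 8120768) (BT.leaf (nat_lit 28107033)) (BT.leaf (nat_lit 28107037)))))) (BT.node (nat_lit 8121344) (BT.node (nat_lit 8121088) (BT.node (nat_lit 8120960) (BT.node (nat_lit 8120896) (BT.leaf (nat_lit 49183249)) (BT.leaf (nat_lit 28690457))) (BT.node (nat_lit 8121024) (BT.leaf (nat_lit 49415185)) (BT.leaf (nat_lit 49415697)))) (BT.node (nat_lit 8121216) (BT.node (nat_lit 8121152) (BT.leaf (nat_lit 49415693)) (BT.leaf (nat_lit 45573665))) (BT.node (nat_lit 8121280) (BT.leaf (nat_lit 49415965)) (BT.leaf (nat_lit 30922777))))) (BT.node (nat_lit 8121600) (BT.node (nat_lit 8121472) (BT.node (nat_lit 8121408) (BT.leaf (nat_lit 32472077)) (BT.leaf (nat_lit 24587025))) (BT.node (nat_lit 8121536) (BT.leaf (nat_lit 32486173)) (BT.leaf (nat_lit 49416981)))) (BT.node (nat_lit 8121728) (BT.node (nat_lit 8121664) (BT.leaf (nat_lit 24586769)) (BT.leaf (nat_lit 49340441))) (BT.node (nat_lit 8121792) (BT.leaf (nat_lit 49417477)) (BT.leaf (nat_lit 44476945))))))) (BT.node (nat_lit 8122880) (BT.node (nat_lit 8122368) (BT.node (nat_lit 8122112) (BT.node (nat_lit 8121984) (BT.node (nat_lit 8121920) (BT.leaf (nat_lit 31676685)) (BT.leaf (nat_lit 43233549))) (BT.node (nat_lit 8122048) (BT.leaf (nat_lit 43233313)) (BT.leaf (nat_lit 32488461)))) (BT.node (nat_lit 8122240) (BT.node (nat_lit 8122176) (BT.leaf (nat_lit 49419029)) (BT.leaf (nat_lit 30290197))) (BT.node (nat_lit 8122304) (BT.leaf (nat_lit 34095897)) (BT.leaf (nat_lit 34095901))))) (BT.node (nat_lit 8122624) (BT.node (nat_lit 8122496) (BT.node (nat_lit 8122432) (BT.leaf (nat_lit 30291217)) (BT.leaf (nat_lit 40595473))) (BT.node (nat_lit 8122560) (BT.leaf (nat_lit 39888661)) (BT.leaf (nat_lit 24738581)))) (BT.node (nat_lit 8122752) (BT.node (nat_lit 8122688) (BT.leaf (nat_lit 39904517)) (BT.leaf (nat_lit 45584901))) (BT.node (nat_lit 8122816) (BT.leaf (nat_lit 41799193)) (BT.leaf (nat_lit 52077593)))))) (BT.node (nat_lit 8123392) (BT.node (nat_lit 8123136) (BT.node (nat_lit 8123008) (BT.node (nat_lit 8122944) (BT.leaf (nat_lit 30051089)) (BT.leaf (nat_lit 45593865))) (BT.node (nat_lit 8123072) (BT.leaf (nat_lit 45258265)) (BT.leaf (nat_lit 28698401)))) (BT.node (nat_lit 8123264) (BT.node (nat_lit 8123200) (BT.leaf (nat_lit 28080665)) (BT.leaf (nat_lit 24589337))) (BT.node (nat_lit 8123328) (BT.leaf (nat_lit 31734809)) (BT.leaf (nat_lit 24589341))))) (BT.node (nat_lit 8123648) (BT.node (nat_lit 8123520) (BT.node (nat_lit 8123456) (BT.leaf (nat_lit 31030817)) (BT.leaf (nat_lit 49423133))) (BT.node (nat_lit 8123584) (BT.leaf (nat_lit 38999813)) (BT.leaf (nat_lit 42551573)))) (BT.node (nat_lit 8123776) (BT.node (nat_lit 8123712) (BT.leaf (nat_lit 29456389)) (BT.leaf (nat_lit 29456401))) (BT.node (nat_lit 8123840) (BT.leaf (nat_lit 28702725)) (BT.leaf (nat_lit 28887329)))))))) (BT.node (nat_lit 8125952) (BT.node (nat_lit 8124928) (BT.node (nat_lit 8124416) (BT.node (nat_lit 8124160) (BT.node (nat_lit 8124032) (BT.node (nat_lit 8123968) (BT.leaf (nat_lit 49359121)) (BT.leaf (nat_lit 46985761))) (BT.node (nat_lit 8124096) (BT.leaf (nat_lit 27435537)) (BT.leaf (nat_lit 25996829)))) (BT.node (nat_lit 8124288) (BT.node (nat_lit 8124224) (BT.leaf (nat_lit 47624977)) (BT.leaf (nat_lit 40663569))) (BT.node (nat_lit 8124352) (BT.leaf (nat_lit 46395169)) (BT.leaf (nat_lit 25907985))))) (BT.node (nat_lit 8124672) (BT.node (nat_lit 8124544) (BT.node (nat_lit 8124480) (BT.leaf (nat_lit 48411929)) (BT.leaf (nat_lit 46472981))) (BT.node (nat_lit 8124608) (BT.leaf (nat_lit 49952773)) (BT.leaf (nat_lit 33819169)))) (BT.node (nat_lit 8124800) (BT.node (nat_lit 8124736) (BT.leaf (nat_lit 49426721)) (BT.leaf (nat_lit 49426977))) (BT.node (nat_lit 8124864) (BT.leaf (nat_lit 49427233)) (BT.leaf (nat_lit 33819149)))))) (BT.node (nat_lit 8125440) (BT.node (nat_lit 8125184) (BT.node (nat_lit 8125056) (BT.node (nat_lit 8124992) (BT.leaf (nat_lit 49427465)) (BT.leaf (nat_lit 46364949))) (BT.node (nat_lit 8125120) (BT.leaf (nat_lit 24152857)) (BT.leaf (nat_lit 40606993)))) (BT.node (nat_lit 8125312) (BT.node (nat_lit 8125248) (BT.leaf (nat_lit 49427481)) (BT.leaf (nat_lit 46968345))) (BT.node (nat_lit 8125376) (BT.leaf (nat_lit 41819417)) (BT.leaf (nat_lit 41619989))))) (BT.node (nat_lit 8125696) (BT.node (nat_lit 8125568) (BT.node (nat_lit 8125504) (BT.leaf (nat_lit 37978125)) (BT.leaf (nat_lit 49429013))) (BT.node (nat_lit 8125632) (BT.leaf (nat_lit 43115537)) (BT.leaf (nat_lit 44323589)))) (BT.node (nat_lit 8125824) (BT.node (nat_lit 8125760) (BT.leaf (nat_lit 31333649)) (BT.leaf (nat_lit 25996809))) (BT.node (nat_lit 8125888) (BT.leaf (nat_lit 32503065)) (BT.leaf (nat_lit 34519557))))))) (BT.node (nat_lit 8126976) (BT.node (nat_lit 8126464) (BT.node (nat_lit 8126208) (BT.node (nat_lit 8126080) (BT.node (nat_lit 8126016) (BT.leaf (nat_lit 28938773)) (BT.leaf (nat_lit 28938777))) (BT.node (nat_lit 8126144) (BT.leaf (nat_lit 28938781)) (BT.leaf (nat_lit 28968465)))) (BT.node (nat_lit 8126336) (BT.node (nat_lit 8126272) (BT.leaf (nat_lit 33293325)) (BT.leaf (nat_lit 49430561))) (BT.node (nat_lit 8126400) (BT.leaf (nat_lit 45611025)) (BT.leaf (nat_lit 29774105))))) (BT.node (nat_lit 8126720) (BT.node (nat_lit 8126592) (BT.node (nat_lit 8126528) (BT.leaf (nat_lit 29774109)) (BT.leaf (nat_lit 49431557))) (BT.node (nat_lit 8126656) (BT.leaf (nat_lit 24595729)) (BT.leaf (nat_lit 24595473)))) (BT.node (nat_lit 8126848) (BT.node (nat_lit 8126784) (BT.leaf (nat_lit 49431813)) (BT.leaf (nat_lit 28409373))) (BT.node (nat_lit 8126912) (BT.leaf (nat_lit 24594705)) (BT.leaf (nat_lit 32507917)))))) (BT.node (nat_lit 8127488) (BT.node (nat_lit 8127232) (BT.node (nat_lit 8127104) (BT.node (nat_lit 8127040) (BT.leaf (nat_lit 49432853)) (BT.leaf (nat_lit 31065105))) (BT.node (nat_lit 8127168) (BT.leaf (nat_lit 49433109)) (BT.leaf (nat_lit 49433365)))) (BT.node (nat_lit 8127360) (BT.node (nat_lit 8127296) (BT.leaf (nat_lit 31065121)) (BT.leaf (nat_lit 24595993))) (BT.node (nat_lit 8127424) (BT.leaf (nat_lit 31331857)) (BT.leaf (nat_lit 49434393))))) (BT.node (nat_lit 8127744) (BT.node (nat_lit 8127616) (BT.node (nat_lit 8127552) (BT.leaf (nat_lit 31482129)) (BT.leaf (nat_lit 49434889))) (BT.node (nat_lit 8127680) (BT.leaf (nat_lit 23289349)) (BT.leaf (nat_lit 32542737)))) (BT.node (nat_lit 8127872) (BT.node (nat_lit 8127808) (BT.leaf (nat_lit 27279377)) (BT.leaf (nat_lit 28505353))) (BT.node (nat_lit 8127936) (BT.leaf (nat_lit 27532565)) (BT.leaf (nat_lit 34421009))))))))) (BT.node (nat_lit 8132224) (BT.node (nat_lit 8130112) (BT.node (nat_lit 8129024) (BT.node (nat_lit 8128512) (BT.node (nat_lit 8128256) (BT.node (nat_lit 8128128) (BT.node (nat_lit 8128064) (BT.leaf (nat_lit 32511769)) (BT.leaf (nat_lit 23377681))) (BT.node (nat_lit 8128192) (BT.leaf (nat_lit 24582673)) (BT.leaf (nat_lit 24601361)))) (BT.node (nat_lit 8128384) (BT.node (nat_lit 8128320) (BT.leaf (nat_lit 28627481)) (BT.leaf (nat_lit 28627485))) (BT.node (nat_lit 8128448) (BT.leaf (nat_lit 49437721)) (BT.leaf (nat_lit 47073037))))) (BT.node (nat_lit 8128768) (BT.node (nat_lit 8128640) (BT.node (nat_lit 8128576) (BT.leaf (nat_lit 47073293)) (BT.leaf (nat_lit 31465477))) (BT.node (nat_lit 8128704) (BT.leaf (nat_lit 29831941)) (BT.leaf (nat_lit 49438737)))) (BT.node (nat_lit 8128896) (BT.node (nat_lit 8128832) (BT.leaf (nat_lit 35922449)) (BT.leaf (nat_lit 46734625))) (BT.node (nat_lit 8128960) (BT.leaf (nat_lit 34742789)) (BT.leaf (nat_lit 27714833)))))) (BT.node (nat_lit 8129536) (BT.node (nat_lit 8129280) (BT.node (nat_lit 8129152) (BT.node (nat_lit 8129088) (BT.leaf (nat_lit 49440285)) (BT.leaf (nat_lit 40785173))) (BT.node (nat_lit 8129216) (BT.leaf (nat_lit 49441045)) (BT.leaf (nat_lit 49442069)))) (BT.node (nat_lit 8129408) (BT.node (nat_lit 8129344) (BT.leaf (nat_lit 34744069)) (BT.leaf (nat_lit 47900689))) (BT.node (nat_lit 8129472) (BT.leaf (nat_lit 47922961)) (BT.leaf (nat_lit 26370053))))) (BT.node (nat_lit 8129792) (BT.node (nat_lit 8129664) (BT.node (nat_lit 8129600) (BT.leaf (nat_lit 30478357)) (BT.leaf (nat_lit 30478361))) (BT.node (nat_lit 8129728) (BT.leaf (nat_lit 30478365)) (BT.leaf (nat_lit 32384265)))) (BT.node (nat_lit 8129920) (BT.node (nat_lit 8129856) (BT.leaf (nat_lit 32383769)) (BT.leaf (nat_lit 24605469))) (BT.node (nat_lit 8129984) (BT.leaf (nat_lit 29892889)) (BT.leaf (nat_lit 24605465))))))) (BT.node (nat_lit 8131200) (BT.node (nat_lit 8130688) (BT.node (nat_lit 8130432) (BT.node (nat_lit 8130304) (BT.node (nat_lit 8130176) (BT.leaf (nat_lit 39536161)) (BT.leaf (nat_lit 39535905))) (BT.node (nat_lit 8130368) (BT.leaf (nat_lit 30978321)) (BT.leaf (nat_lit 24588061)))) (BT.node (nat_lit 8130560) (BT.node (nat_lit 8130496) (BT.leaf (nat_lit 28695305)) (BT.leaf (nat_lit 32384285))) (BT.node (nat_lit 8130624) (BT.leaf (nat_lit 49349149)) (BT.leaf (nat_lit 24776733))))) (BT.node (nat_lit 8130944) (BT.node (nat_lit 8130816) (BT.node (nat_lit 8130752) (BT.leaf (nat_lit 32901665)) (BT.leaf (nat_lit 39040013))) (BT.node (nat_lit 8130880) (BT.leaf (nat_lit 37725729)) (BT.leaf (nat_lit 32888337)))) (BT.node (nat_lit 8131072) (BT.node (nat_lit 8131008) (BT.leaf (nat_lit 41722897)) (BT.leaf (nat_lit 27828497))) (BT.node (nat_lit 8131136) (BT.leaf (nat_lit 37726213)) (BT.leaf (nat_lit 46887437)))))) (BT.node (nat_lit 8131712) (BT.node (nat_lit 8131456) (BT.node (nat_lit 8131328) (BT.node (nat_lit 8131264) (BT.leaf (nat_lit 32845845)) (BT.leaf (nat_lit 32984097))) (BT.node (nat_lit 8131392) (BT.leaf (nat_lit 45629973)) (BT.leaf (nat_lit 32525337)))) (BT.node (nat_lit 8131584) (BT.node (nat_lit 8131520) (BT.leaf (nat_lit 29839373)) (BT.leaf (nat_lit 29777181))) (BT.node (nat_lit 8131648) (BT.leaf (nat_lit 27295493)) (BT.leaf (nat_lit 24607249))))) (BT.node (nat_lit 8131968) (BT.node (nat_lit 8131840) (BT.node (nat_lit 8131776) (BT.leaf (nat_lit 32845325)) (BT.leaf (nat_lit 24593181))) (BT.node (nat_lit 8131904) (BT.leaf (nat_lit 28675593)) (BT.leaf (nat_lit 43921161)))) (BT.node (nat_lit 8132096) (BT.node (nat_lit 8132032) (BT.leaf (nat_lit 24608033)) (BT.leaf (nat_lit 41017097))) (BT.node (nat_lit 8132160) (BT.leaf (nat_lit 40824865)) (BT.leaf (nat_lit 44984581)))))))) (BT.node (nat_lit 8134272) (BT.node (nat_lit 8133248) (BT.node (nat_lit 8132736) (BT.node (nat_lit 8132480) (BT.node (nat_lit 8132352) (BT.node (nat_lit 8132288) (BT.leaf (nat_lit 38509845)) (BT.leaf (nat_lit 24608541))) (BT.node (nat_lit 8132416) (BT.leaf (nat_lit 37871133)) (BT.leaf (nat_lit 29840649)))) (BT.node (nat_lit 8132608) (BT.node (nat_lit 8132544) (BT.leaf (nat_lit 24609305)) (BT.leaf (nat_lit 24609029))) (BT.node (nat_lit 8132672) (BT.leaf (nat_lit 49450529)) (BT.leaf (nat_lit 35310105))))) (BT.node (nat_lit 8132992) (BT.node (nat_lit 8132864) (BT.node (nat_lit 8132800) (BT.leaf (nat_lit 49450785)) (BT.leaf (nat_lit 49451041))) (BT.node (nat_lit 8132928) (BT.leaf (nat_lit 49451269)) (BT.leaf (nat_lit 47824405)))) (BT.node (nat_lit 8133120) (BT.node (nat_lit 8133056) (BT.leaf (nat_lit 46058005)) (BT.leaf (nat_lit 29271833))) (BT.node (nat_lit 8133184) (BT.leaf (nat_lit 29271837)) (BT.leaf (nat_lit 32987937)))))) (BT.node (nat_lit 8133760) (BT.node (nat_lit 8133504) (BT.node (nat_lit 8133376) (BT.node (nat_lit 8133312) (BT.leaf (nat_lit 47121953)) (BT.leaf (nat_lit 33499925))) (BT.node (nat_lit 8133440) (BT.leaf (nat_lit 33499929)) (BT.leaf (nat_lit 33499933)))) (BT.node (nat_lit 8133632) (BT.node (nat_lit 8133568) (BT.leaf (nat_lit 24611345)) (BT.leaf (nat_lit 24611089))) (BT.node (nat_lit 8133696) (BT.leaf (nat_lit 28346133)) (BT.leaf (nat_lit 23371037))))) (BT.node (nat_lit 8134016) (BT.node (nat_lit 8133888) (BT.node (nat_lit 8133824) (BT.leaf (nat_lit 23371033)) (BT.leaf (nat_lit 27493393))) (BT.node (nat_lit 8133952) (BT.leaf (nat_lit 27493137)) (BT.leaf (nat_lit 49452309)))) (BT.node (nat_lit 8134144) (BT.node (nat_lit 8134080) (BT.leaf (nat_lit 49452821)) (BT.leaf (nat_lit 31865629))) (BT.node (nat_lit 8134208) (BT.leaf (nat_lit 51024417)) (BT.leaf (nat_lit 32193569))))))) (BT.node (nat_lit 8135296) (BT.node (nat_lit 8134784) (BT.node (nat_lit 8134528) (BT.node (nat_lit 8134400) (BT.node (nat_lit 8134336) (BT.leaf (nat_lit 49262617)) (BT.leaf (nat_lit 32535581))) (BT.node (nat_lit 8134464) (BT.leaf (nat_lit 31601173)) (BT.leaf (nat_lit 31601177)))) (BT.node (nat_lit 8134656) (BT.node (nat_lit 8134592) (BT.leaf (nat_lit 31601181)) (BT.leaf (nat_lit 49375241))) (BT.node (nat_lit 8134720) (BT.leaf (nat_lit 37714713)) (BT.leaf (nat_lit 38373645))))) (BT.node (nat_lit 8135040) (BT.node (nat_lit 8134912) (BT.node (nat_lit 8134848) (BT.leaf (nat_lit 31732241)) (BT.leaf (nat_lit 35070733))) (BT.node (nat_lit 8134976) (BT.leaf (nat_lit 45468949)) (BT.leaf (nat_lit 30123553)))) (BT.node (nat_lit 8135168) (BT.node (nat_lit 8135104) (BT.leaf (nat_lit 35093001)) (BT.leaf (nat_lit 50716705))) (BT.node (nat_lit 8135232) (BT.leaf (nat_lit 49454357)) (BT.leaf (nat_lit 43280673)))))) (BT.node (nat_lit 8135808) (BT.node (nat_lit 8135552) (BT.node (nat_lit 8135424) (BT.node (nat_lit 8135360) (BT.leaf (nat_lit 24539145)) (BT.leaf (nat_lit 38793997))) (BT.node (nat_lit 8135488) (BT.leaf (nat_lit 36317469)) (BT.leaf (nat_lit 24615173)))) (BT.node (nat_lit 8135680) (BT.node (nat_lit 8135616) (BT.leaf (nat_lit 27934233)) (BT.leaf (nat_lit 29388565))) (BT.node (nat_lit 8135744) (BT.leaf (nat_lit 33418245)) (BT.leaf (nat_lit 37211413))))) (BT.node (nat_lit 8136064) (BT.node (nat_lit 8135936) (BT.node (nat_lit 8135872) (BT.leaf (nat_lit 32496913)) (BT.leaf (nat_lit 50664209))) (BT.node (nat_lit 8136000) (BT.leaf (nat_lit 24615697)) (BT.leaf (nat_lit 29674521)))) (BT.node (nat_lit 8136192) (BT.node (nat_lit 8136128) (BT.leaf (nat_lit 29674525)) (BT.leaf (nat_lit 24616209))) (BT.node (nat_lit 8136256) (BT.leaf (nat_lit 30139677)) (BT.leaf (nat_lit 38021405)))))))))) (BT.node (nat_lit 8144512) (BT.node (nat_lit 8140416) (BT.node (nat_lit 8138368) (BT.node (nat_lit 8137344) (BT.node (nat_lit 8136832) (BT.node (nat_lit 8136576) (BT.node (nat_lit 8136448) (BT.node (nat_lit 8136384) (BT.leaf (nat_lit 32067613)) (BT.leaf (nat_lit 38333985))) (BT.node (nat_lit 8136512) (BT.leaf (nat_lit 38332961)) (BT.leaf (nat_lit 24617233)))) (BT.node (nat_lit 8136704) (BT.node (nat_lit 8136640) (BT.leaf (nat_lit 41339417)) (BT.leaf (nat_lit 24618009))) (BT.node (nat_lit 8136768) (BT.leaf (nat_lit 40560649)) (BT.leaf (nat_lit 38375193))))) (BT.node (nat_lit 8137088) (BT.node (nat_lit 8136960) (BT.node (nat_lit 8136896) (BT.leaf (nat_lit 27445005)) (BT.leaf (nat_lit 38375181))) (BT.node (nat_lit 8137024) (BT.leaf (nat_lit 27445025)) (BT.leaf (nat_lit 41941017)))) (BT.node (nat_lit 8137216) (BT.node (nat_lit 8137152) (BT.leaf (nat_lit 38827541)) (BT.leaf (nat_lit 24810521))) (BT.node (nat_lit 8137280) (BT.leaf (nat_lit 27942933)) (BT.leaf (nat_lit 36260889)))))) (BT.node (nat_lit 8137856) (BT.node (nat_lit 8137600) (BT.node (nat_lit 8137472) (BT.node (nat_lit 8137408) (BT.leaf (nat_lit 33474577)) (BT.leaf (nat_lit 36444933))) (BT.node (nat_lit 8137536) (BT.leaf (nat_lit 29864993)) (BT.leaf (nat_lit 24619789)))) (BT.node (nat_lit 8137728) (BT.node (nat_lit 8137664) (BT.leaf (nat_lit 47873049)) (BT.leaf (nat_lit 49459225))) (BT.node (nat_lit 8137792) (BT.leaf (nat_lit 32551197)) (BT.leaf (nat_lit 23271697))))) (BT.node (nat_lit 8138112) (BT.node (nat_lit 8137984) (BT.node (nat_lit 8137920) (BT.leaf (nat_lit 42493717)) (BT.leaf (nat_lit 42493721))) (BT.node (nat_lit 8138048) (BT.leaf (nat_lit 42035725)) (BT.leaf (nat_lit 28761877)))) (BT.node (nat_lit 8138240) (BT.node (nat_lit 8138176) (BT.leaf (nat_lit 30474261)) (BT.leaf (nat_lit 42433045))) (BT.node (nat_lit 8138304) (BT.leaf (nat_lit 46781969)) (BT.leaf (nat_lit 29493777))))))) (BT.node (nat_lit 8139392) (BT.node (nat_lit 8138880) (BT.node (nat_lit 8138624) (BT.node (nat_lit 8138496) (BT.node (nat_lit 8138432) (BT.leaf (nat_lit 27814673)) (BT.leaf (nat_lit 27554825))) (BT.node (nat_lit 8138560) (BT.leaf (nat_lit 27554829)) (BT.leaf (nat_lit 44134421)))) (BT.node (nat_lit 8138752) (BT.node (nat_lit 8138688) (BT.leaf (nat_lit 24629005)) (BT.leaf (nat_lit 24629261))) (BT.node (nat_lit 8138816) (BT.leaf (nat_lit 32566813)) (BT.leaf (nat_lit 30243105))))) (BT.node (nat_lit 8139136) (BT.node (nat_lit 8139008) (BT.node (nat_lit 8138944) (BT.leaf (nat_lit 45678613)) (BT.leaf (nat_lit 31921181))) (BT.node (nat_lit 8139072) (BT.leaf (nat_lit 31917585)) (BT.leaf (nat_lit 24622865)))) (BT.node (nat_lit 8139264) (BT.node (nat_lit 8139200) (BT.leaf (nat_lit 24704021)) (BT.leaf (nat_lit 24704025))) (BT.node (nat_lit 8139328) (BT.leaf (nat_lit 24704029)) (BT.leaf (nat_lit 24624913)))))) (BT.node (nat_lit 8139904) (BT.node (nat_lit 8139648) (BT.node (nat_lit 8139520) (BT.node (nat_lit 8139456) (BT.leaf (nat_lit 35064853)) (BT.leaf (nat_lit 46469649))) (BT.node (nat_lit 8139584) (BT.leaf (nat_lit 46469665)) (BT.leaf (nat_lit 31815445)))) (BT.node (nat_lit 8139776) (BT.node (nat_lit 8139712) (BT.leaf (nat_lit 31815449)) (BT.leaf (nat_lit 38196753))) (BT.node (nat_lit 8139840) (BT.leaf (nat_lit 47693853)) (BT.leaf (nat_lit 51079441))))) (BT.node (nat_lit 8140160) (BT.node (nat_lit 8140032) (BT.node (nat_lit 8139968) (BT.leaf (nat_lit 42029585)) (BT.leaf (nat_lit 27462933))) (BT.node (nat_lit 8140096) (BT.leaf (nat_lit 38289953)) (BT.leaf (nat_lit 30931217)))) (BT.node (nat_lit 8140288) (BT.node (nat_lit 8140224) (BT.leaf (nat_lit 45475609)) (BT.leaf (nat_lit 32822041))) (BT.node (nat_lit 8140352) (BT.leaf (nat_lit 31643909)) (BT.leaf (nat_lit 49889297)))))))) (BT.node (nat_lit 8142464) (BT.node (nat_lit 8141440) (BT.node (nat_lit 8140928) (BT.node (nat_lit 8140672) (BT.node (nat_lit 8140544) (BT.node (nat_lit 8140480) (BT.leaf (nat_lit 32554013)) (BT.leaf (nat_lit 32553753))) (BT.node (nat_lit 8140608) (BT.leaf (nat_lit 38284317)) (BT.leaf (nat_lit 40224537)))) (BT.node (nat_lit 8140800) (BT.node (nat_lit 8140736) (BT.leaf (nat_lit 49464853)) (BT.leaf (nat_lit 31113493))) (BT.node (nat_lit 8140864) (BT.leaf (nat_lit 28579093)) (BT.leaf (nat_lit 24629525))))) (BT.node (nat_lit 8141184) (BT.node (nat_lit 8141056) (BT.node (nat_lit 8140992) (BT.leaf (nat_lit 49465873)) (BT.leaf (nat_lit 48080645))) (BT.node (nat_lit 8141120) (BT.leaf (nat_lit 49466385)) (BT.leaf (nat_lit 32566797)))) (BT.node (nat_lit 8141312) (BT.node (nat_lit 8141248) (BT.leaf (nat_lit 32896269)) (BT.leaf (nat_lit 30831121))) (BT.node (nat_lit 8141376) (BT.leaf (nat_lit 29502725)) (BT.leaf (nat_lit 41608213)))))) (BT.node (nat_lit 8141952) (BT.node (nat_lit 8141696) (BT.node (nat_lit 8141568) (BT.node (nat_lit 8141504) (BT.leaf (nat_lit 24630289)) (BT.leaf (nat_lit 46518805))) (BT.node (nat_lit 8141632) (BT.leaf (nat_lit 49467413)) (BT.leaf (nat_lit 24623393)))) (BT.node (nat_lit 8141824) (BT.node (nat_lit 8141760) (BT.leaf (nat_lit 29639189)) (BT.leaf (nat_lit 32021513))) (BT.node (nat_lit 8141888) (BT.leaf (nat_lit 45681697)) (BT.leaf (nat_lit 32380425))))) (BT.node (nat_lit 8142208) (BT.node (nat_lit 8142080) (BT.node (nat_lit 8142016) (BT.leaf (nat_lit 49467921)) (BT.leaf (nat_lit 29984537))) (BT.node (nat_lit 8142144) (BT.leaf (nat_lit 29984541)) (BT.leaf (nat_lit 38069257)))) (BT.node (nat_lit 8142336) (BT.node (nat_lit 8142272) (BT.leaf (nat_lit 27882001)) (BT.leaf (nat_lit 30491169))) (BT.node (nat_lit 8142400) (BT.leaf (nat_lit 29975841)) (BT.leaf (nat_lit 42827013))))))) (BT.node (nat_lit 8143488) (BT.node (nat_lit 8142976) (BT.node (nat_lit 8142720) (BT.node (nat_lit 8142592) (BT.node (nat_lit 8142528) (BT.leaf (nat_lit 29768709)) (BT.leaf (nat_lit 42600225))) (BT.node (nat_lit 8142656) (BT.leaf (nat_lit 41325061)) (BT.leaf (nat_lit 24782613)))) (BT.node (nat_lit 8142848) (BT.node (nat_lit 8142784) (BT.leaf (nat_lit 47721493)) (BT.leaf (nat_lit 29769493))) (BT.node (nat_lit 8142912) (BT.leaf (nat_lit 24633373)) (BT.leaf (nat_lit 24633629))))) (BT.node (nat_lit 8143232) (BT.node (nat_lit 8143104) (BT.node (nat_lit 8143040) (BT.leaf (nat_lit 42140937)) (BT.leaf (nat_lit 29883933))) (BT.node (nat_lit 8143168) (BT.leaf (nat_lit 49471505)) (BT.leaf (nat_lit 45694229)))) (BT.node (nat_lit 8143360) (BT.node (nat_lit 8143296) (BT.leaf (nat_lit 47659013)) (BT.leaf (nat_lit 38911521))) (BT.node (nat_lit 8143424) (BT.leaf (nat_lit 44887321)) (BT.leaf (nat_lit 45693205)))))) (BT.node (nat_lit 8144000) (BT.node (nat_lit 8143744) (BT.node (nat_lit 8143616) (BT.node (nat_lit 8143552) (BT.leaf (nat_lit 49471253)) (BT.leaf (nat_lit 45413909))) (BT.node (nat_lit 8143680) (BT.leaf (nat_lit 41624081)) (BT.leaf (nat_lit 39556873)))) (BT.node (nat_lit 8143872) (BT.node (nat_lit 8143808) (BT.leaf (nat_lit 49471005)) (BT.leaf (nat_lit 38934049))) (BT.node (nat_lit 8143936) (BT.leaf (nat_lit 30501125)) (BT.leaf (nat_lit 30500613))))) (BT.node (nat_lit 8144256) (BT.node (nat_lit 8144128) (BT.node (nat_lit 8144064) (BT.leaf (nat_lit 27363089)) (BT.leaf (nat_lit 27633945))) (BT.node (nat_lit 8144192) (BT.leaf (nat_lit 27633949)) (BT.leaf (nat_lit 46856453)))) (BT.node (nat_lit 8144384) (BT.node (nat_lit 8144320) (BT.leaf (nat_lit 34574113)) (BT.leaf (nat_lit 27656977))) (BT.node (nat_lit 8144448) (BT.leaf (nat_lit 47134981)) (BT.leaf (nat_lit 47300885))))))))) (BT.node (nat_lit 8148608) (BT.node (nat_lit 8146560) (BT.node (nat_lit 8145536) (BT.node (nat_lit 8145024) (BT.node (nat_lit 8144768) (BT.node (nat_lit 8144640) (BT.node (nat_lit 8144576) (BT.leaf (nat_lit 47362069)) (BT.leaf (nat_lit 24637457))) (BT.node (nat_lit 8144704) (BT.leaf (nat_lit 49473557)) (BT.leaf (nat_lit 49474585)))) (BT.node (nat_lit 8144896) (BT.node (nat_lit 8144832) (BT.leaf (nat_lit 48607249)) (BT.leaf (nat_lit 32832781))) (BT.node (nat_lit 8144960) (BT.leaf (nat_lit 43073557)) (BT.leaf (nat_lit 45424393))))) (BT.node (nat_lit 8145280) (BT.node (nat_lit 8145152) (BT.node (nat_lit 8145088) (BT.leaf (nat_lit 31678749)) (BT.leaf (nat_lit 47115553))) (BT.node (nat_lit 8145216) (BT.leaf (nat_lit 37839129)) (BT.leaf (nat_lit 45057053)))) (BT.node (nat_lit 8145408) (BT.node (nat_lit 8145344) (BT.leaf (nat_lit 38522381)) (BT.leaf (nat_lit 32581145))) (BT.node (nat_lit 8145472) (BT.leaf (nat_lit 40206353)) (BT.leaf (nat_lit 40206873)))))) (BT.node (nat_lit 8146048) (BT.node (nat_lit 8145792) (BT.node (nat_lit 8145664) (BT.node (nat_lit 8145600) (BT.leaf (nat_lit 45056277)) (BT.leaf (nat_lit 28630545))) (BT.node (nat_lit 8145728) (BT.leaf (nat_lit 28885781)) (BT.leaf (nat_lit 28885789)))) (BT.node (nat_lit 8145920) (BT.node (nat_lit 8145856) (BT.leaf (nat_lit 22383637)) (BT.leaf (nat_lit 24642565))) (BT.node (nat_lit 8145984) (BT.leaf (nat_lit 28310805)) (BT.leaf (nat_lit 33215001))))) (BT.node (nat_lit 8146304) (BT.node (nat_lit 8146176) (BT.node (nat_lit 8146112) (BT.leaf (nat_lit 47923473)) (BT.leaf (nat_lit 46869025))) (BT.node (nat_lit 8146240) (BT.leaf (nat_lit 24648977)) (BT.leaf (nat_lit 47076641)))) (BT.node (nat_lit 8146432) (BT.node (nat_lit 8146368) (BT.leaf (nat_lit 48668677)) (BT.leaf (nat_lit 40486149))) (BT.node (nat_lit 8146496) (BT.leaf (nat_lit 46469645)) (BT.leaf (nat_lit 27721237))))))) (BT.node (nat_lit 8147584) (BT.node (nat_lit 8147072) (BT.node (nat_lit 8146816) (BT.node (nat_lit 8146688) (BT.node (nat_lit 8146624) (BT.leaf (nat_lit 46545413)) (BT.leaf (nat_lit 49478689))) (BT.node (nat_lit 8146752) (BT.leaf (nat_lit 46782241)) (BT.leaf (nat_lit 34739725)))) (BT.node (nat_lit 8146944) (BT.node (nat_lit 8146880) (BT.leaf (nat_lit 24476689)) (BT.leaf (nat_lit 27833365))) (BT.node (nat_lit 8147008) (BT.leaf (nat_lit 39596309)) (BT.leaf (nat_lit 28310293))))) (BT.node (nat_lit 8147328) (BT.node (nat_lit 8147200) (BT.node (nat_lit 8147136) (BT.leaf (nat_lit 30600977)) (BT.leaf (nat_lit 40706581))) (BT.node (nat_lit 8147264) (BT.leaf (nat_lit 29150229)) (BT.leaf (nat_lit 30923285)))) (BT.node (nat_lit 8147456) (BT.node (nat_lit 8147392) (BT.leaf (nat_lit 47627281)) (BT.leaf (nat_lit 48026913))) (BT.node (nat_lit 8147520) (BT.leaf (nat_lit 23685137)) (BT.leaf (nat_lit 23236637)))))) (BT.node (nat_lit 8148096) (BT.node (nat_lit 8147840) (BT.node (nat_lit 8147712) (BT.node (nat_lit 8147648) (BT.leaf (nat_lit 23236633)) (BT.leaf (nat_lit 48030237))) (BT.node (nat_lit 8147776) (BT.leaf (nat_lit 29696773)) (BT.leaf (nat_lit 35149841)))) (BT.node (nat_lit 8147968) (BT.node (nat_lit 8147904) (BT.leaf (nat_lit 33822725)) (BT.leaf (nat_lit 24653073))) (BT.node (nat_lit 8148032) (BT.leaf (nat_lit 43887389)) (BT.leaf (nat_lit 24652817))))) (BT.node (nat_lit 8148352) (BT.node (nat_lit 8148224) (BT.node (nat_lit 8148160) (BT.leaf (nat_lit 36446469)) (BT.leaf (nat_lit 32225289))) (BT.node (nat_lit 8148288) (BT.leaf (nat_lit 39562261)) (BT.leaf (nat_lit 24654861)))) (BT.node (nat_lit 8148480) (BT.node (nat_lit 8148416) (BT.leaf (nat_lit 24654877)) (BT.leaf (nat_lit 24654873))) (BT.node (nat_lit 8148544) (BT.leaf (nat_lit 24651793)) (BT.leaf (nat_lit 42695201)))))))) (BT.node (nat_lit 8150656) (BT.node (nat_lit 8149632) (BT.node (nat_lit 8149120) (BT.node (nat_lit 8148864) (BT.node (nat_lit 8148736) (BT.node (nat_lit 8148672) (BT.leaf (nat_lit 36179461)) (BT.leaf (nat_lit 24654353))) (BT.node (nat_lit 8148800) (BT.leaf (nat_lit 49485585)) (BT.leaf (nat_lit 48439053)))) (BT.node (nat_lit 8148992) (BT.node (nat_lit 8148928) (BT.leaf (nat_lit 48592405)) (BT.leaf (nat_lit 38541069))) (BT.node (nat_lit 8149056) (BT.leaf (nat_lit 25925141)) (BT.leaf (nat_lit 49486869))))) (BT.node (nat_lit 8149376) (BT.node (nat_lit 8149248) (BT.node (nat_lit 8149184) (BT.leaf (nat_lit 48033797)) (BT.leaf (nat_lit 49487365))) (BT.node (nat_lit 8149312) (BT.leaf (nat_lit 45559829)) (BT.leaf (nat_lit 24656665)))) (BT.node (nat_lit 8149504) (BT.node (nat_lit 8149440) (BT.leaf (nat_lit 24656669)) (BT.leaf (nat_lit 38232597))) (BT.node (nat_lit 8149568) (BT.leaf (nat_lit 24657169)) (BT.leaf (nat_lit 24651281)))))) (BT.node (nat_lit 8150144) (BT.node (nat_lit 8149888) (BT.node (nat_lit 8149760) (BT.node (nat_lit 8149696) (BT.leaf (nat_lit 24656913)) (BT.leaf (nat_lit 42462489))) (BT.node (nat_lit 8149824) (BT.leaf (nat_lit 42460449)) (BT.leaf (nat_lit 22765845)))) (BT.node (nat_lit 8150016) (BT.node (nat_lit 8149952) (BT.leaf (nat_lit 39774753)) (BT.leaf (nat_lit 28597781))) (BT.node (nat_lit 8150080) (BT.leaf (nat_lit 26001689)) (BT.leaf (nat_lit 27369245))))) (BT.node (nat_lit 8150400) (BT.node (nat_lit 8150272) (BT.node (nat_lit 8150208) (BT.leaf (nat_lit 24784917)) (BT.leaf (nat_lit 32601117))) (BT.node (nat_lit 8150336) (BT.leaf (nat_lit 38164753)) (BT.leaf (nat_lit 26001941)))) (BT.node (nat_lit 8150528) (BT.node (nat_lit 8150464) (BT.leaf (nat_lit 49491473)) (BT.leaf (nat_lit 32601625))) (BT.node (nat_lit 8150592) (BT.leaf (nat_lit 28632077)) (BT.leaf (nat_lit 47990817))))))) (BT.node (nat_lit 8151616) (BT.node (nat_lit 8151108) (BT.node (nat_lit 8150912) (BT.node (nat_lit 8150784) (BT.node (nat_lit 8150720) (BT.leaf (nat_lit 29697049)) (BT.leaf (nat_lit 49493521))) (BT.node (nat_lit 8150848) (BT.leaf (nat_lit 45738757)) (BT.leaf (nat_lit 49494037)))) (BT.node (nat_lit 8151104) (BT.node (nat_lit 8150976) (BT.leaf (nat_lit 29697045)) (BT.leaf (nat_lit 32041237))) (BT.node (nat_lit 8151106) (BT.leaf (nat_lit 44802581)) (BT.leaf (nat_lit 645944))))) (BT.node (nat_lit 8151360) (BT.node (nat_lit 8151232) (BT.node (nat_lit 8151168) (BT.leaf (nat_lit 645944)) (BT.leaf (nat_lit 41340937))) (BT.node (nat_lit 8151296) (BT.leaf (nat_lit 29031713)) (BT.leaf (nat_lit 41178645)))) (BT.node (nat_lit 8151488) (BT.node (nat_lit 8151424) (BT.leaf (nat_lit 27289105)) (BT.leaf (nat_lit 28754193))) (BT.node (nat_lit 8151552) (BT.leaf (nat_lit 32484621)) (BT.leaf (nat_lit 24725277)))))) (BT.node (nat_lit 8152128) (BT.node (nat_lit 8151872) (BT.node (nat_lit 8151744) (BT.node (nat_lit 8151680) (BT.leaf (nat_lit 31148553)) (BT.leaf (nat_lit 49496601))) (BT.node (nat_lit 8151808) (BT.leaf (nat_lit 42742561)) (BT.leaf (nat_lit 39632137)))) (BT.node (nat_lit 8152000) (BT.node (nat_lit 8151936) (BT.leaf (nat_lit 31502853)) (BT.leaf (nat_lit 49496865))) (BT.node (nat_lit 8152064) (BT.leaf (nat_lit 38084117)) (BT.leaf (nat_lit 45752325))))) (BT.node (nat_lit 8152384) (BT.node (nat_lit 8152256) (BT.node (nat_lit 8152192) (BT.leaf (nat_lit 38912281)) (BT.leaf (nat_lit 22297885))) (BT.node (nat_lit 8152320) (BT.leaf (nat_lit 49498401)) (BT.leaf (nat_lit 49499169)))) (BT.node (nat_lit 8152512) (BT.node (nat_lit 8152448) (BT.leaf (nat_lit 28632093)) (BT.leaf (nat_lit 49500193))) (BT.node (nat_lit 8152576) (BT.leaf (nat_lit 49500449)) (BT.leaf (nat_lit 49499145))))))))))) (BT.node (nat_lit 8169024) (BT.node (nat_lit 8160832) (BT.node (nat_lit 8156736) (BT.node (nat_lit 8154688) (BT.node (nat_lit 8153664) (BT.node (nat_lit 8153152) (BT.node (nat_lit 8152896) (BT.node (nat_lit 8152768) (BT.node (nat_lit 8152704) (BT.leaf (nat_lit 24663825)) (BT.leaf (nat_lit 49501189))) (BT.node (nat_lit 8152832) (BT.leaf (nat_lit 47160085)) (BT.leaf (nat_lit 49966881)))) (BT.node (nat_lit 8153024) (BT.node (nat_lit 8152960) (BT.leaf (nat_lit 48340753)) (BT.leaf (nat_lit 30885381))) (BT.node (nat_lit 8153088) (BT.leaf (nat_lit 49502997)) (BT.leaf (nat_lit 30885393))))) (BT.node (nat_lit 8153408) (BT.node (nat_lit 8153280) (BT.node (nat_lit 8153216) (BT.leaf (nat_lit 27699989)) (BT.leaf (nat_lit 48756741))) (BT.node (nat_lit 8153344) (BT.leaf (nat_lit 46562841)) (BT.leaf (nat_lit 24667909)))) (BT.node (nat_lit 8153536) (BT.node (nat_lit 8153472) (BT.leaf (nat_lit 32857357)) (BT.leaf (nat_lit 27573009))) (BT.node (nat_lit 8153600) (BT.leaf (nat_lit 35203101)) (BT.leaf (nat_lit 49504529)))))) (BT.node (nat_lit 8154176) (BT.node (nat_lit 8153920) (BT.node (nat_lit 8153792) (BT.node (nat_lit 8153728) (BT.leaf (nat_lit 49505045)) (BT.leaf (nat_lit 49505297))) (BT.node (nat_lit 8153856) (BT.leaf (nat_lit 28934681)) (BT.leaf (nat_lit 28934685)))) (BT.node (nat_lit 8154048) (BT.node (nat_lit 8153984) (BT.leaf (nat_lit 38747921)) (BT.leaf (nat_lit 23517445))) (BT.node (nat_lit 8154112) (BT.leaf (nat_lit 30347781)) (BT.leaf (nat_lit 32616717))))) (BT.node (nat_lit 8154432) (BT.node (nat_lit 8154304) (BT.node (nat_lit 8154240) (BT.leaf (nat_lit 49504021)) (BT.leaf (nat_lit 29710357))) (BT.node (nat_lit 8154368) (BT.leaf (nat_lit 49506061)) (BT.leaf (nat_lit 49505541)))) (BT.node (nat_lit 8154560) (BT.node (nat_lit 8154496) (BT.leaf (nat_lit 39230225)) (BT.leaf (nat_lit 49504281))) (BT.node (nat_lit 8154624) (BT.leaf (nat_lit 49350173)) (BT.leaf (nat_lit 24670225))))))) (BT.node (nat_lit 8155712) (BT.node (nat_lit 8155200) (BT.node (nat_lit 8154944) (BT.node (nat_lit 8154816) (BT.node (nat_lit 8154752) (BT.leaf (nat_lit 32422149)) (BT.leaf (nat_lit 24517649))) (BT.node (nat_lit 8154880) (BT.leaf (nat_lit 36234757)) (BT.leaf (nat_lit 28409365)))) (BT.node (nat_lit 8155072) (BT.node (nat_lit 8155008) (BT.leaf (nat_lit 49508613)) (BT.leaf (nat_lit 24670993))) (BT.node (nat_lit 8155136) (BT.leaf (nat_lit 24670481)) (BT.leaf (nat_lit 49508897))))) (BT.node (nat_lit 8155456) (BT.node (nat_lit 8155328) (BT.node (nat_lit 8155264) (BT.leaf (nat_lit 32415513)) (BT.leaf (nat_lit 32415517))) (BT.node (nat_lit 8155392) (BT.leaf (nat_lit 23935761)) (BT.leaf (nat_lit 49510945)))) (BT.node (nat_lit 8155584) (BT.node (nat_lit 8155520) (BT.leaf (nat_lit 46824197)) (BT.leaf (nat_lit 34797085))) (BT.node (nat_lit 8155648) (BT.leaf (nat_lit 36635169)) (BT.leaf (nat_lit 28250909)))))) (BT.node (nat_lit 8156224) (BT.node (nat_lit 8155968) (BT.node (nat_lit 8155840) (BT.node (nat_lit 8155776) (BT.leaf (nat_lit 24680973)) (BT.leaf (nat_lit 24769561))) (BT.node (nat_lit 8155904) (BT.leaf (nat_lit 49513493)) (BT.leaf (nat_lit 26728201)))) (BT.node (nat_lit 8156096) (BT.node (nat_lit 8156032) (BT.leaf (nat_lit 49514265)) (BT.leaf (nat_lit 26728221))) (BT.node (nat_lit 8156160) (BT.leaf (nat_lit 33767197)) (BT.leaf (nat_lit 29557529))))) (BT.node (nat_lit 8156480) (BT.node (nat_lit 8156352) (BT.node (nat_lit 8156288) (BT.leaf (nat_lit 23083553)) (BT.leaf (nat_lit 24674829))) (BT.node (nat_lit 8156416) (BT.leaf (nat_lit 25932301)) (BT.leaf (nat_lit 24674825)))) (BT.node (nat_lit 8156608) (BT.node (nat_lit 8156544) (BT.leaf (nat_lit 27092241)) (BT.leaf (nat_lit 24675601))) (BT.node (nat_lit 8156672) (BT.leaf (nat_lit 24675345)) (BT.leaf (nat_lit 24675089)))))))) (BT.node (nat_lit 8158784) (BT.node (nat_lit 8157760) (BT.node (nat_lit 8157248) (BT.node (nat_lit 8156992) (BT.node (nat_lit 8156864) (BT.node (nat_lit 8156800) (BT.leaf (nat_lit 36957969)) (BT.leaf (nat_lit 51230489))) (BT.node (nat_lit 8156928) (BT.leaf (nat_lit 25932057)) (BT.leaf (nat_lit 32625945)))) (BT.node (nat_lit 8157120) (BT.node (nat_lit 8157056) (BT.leaf (nat_lit 44319241)) (BT.leaf (nat_lit 27091985))) (BT.node (nat_lit 8157184) (BT.leaf (nat_lit 32628253)) (BT.leaf (nat_lit 24676113))))) (BT.node (nat_lit 8157504) (BT.node (nat_lit 8157376) (BT.node (nat_lit 8157312) (BT.leaf (nat_lit 24675857)) (BT.leaf (nat_lit 36349973))) (BT.node (nat_lit 8157440) (BT.leaf (nat_lit 25932297)) (BT.leaf (nat_lit 49517597)))) (BT.node (nat_lit 8157632) (BT.node (nat_lit 8157568) (BT.leaf (nat_lit 49518097)) (BT.leaf (nat_lit 32630041))) (BT.node (nat_lit 8157696) (BT.leaf (nat_lit 27762721)) (BT.leaf (nat_lit 40747525)))))) (BT.node (nat_lit 8158272) (BT.node (nat_lit 8158016) (BT.node (nat_lit 8157888) (BT.node (nat_lit 8157824) (BT.leaf (nat_lit 41786381)) (BT.leaf (nat_lit 27968781))) (BT.node (nat_lit 8157952) (BT.leaf (nat_lit 24678929)) (BT.leaf (nat_lit 24678417)))) (BT.node (nat_lit 8158144) (BT.node (nat_lit 8158080) (BT.leaf (nat_lit 28254981)) (BT.leaf (nat_lit 31794449))) (BT.node (nat_lit 8158208) (BT.leaf (nat_lit 31044629)) (BT.leaf (nat_lit 31044637))))) (BT.node (nat_lit 8158528) (BT.node (nat_lit 8158400) (BT.node (nat_lit 8158336) (BT.leaf (nat_lit 37069077)) (BT.leaf (nat_lit 32769029))) (BT.node (nat_lit 8158464) (BT.leaf (nat_lit 27766021)) (BT.leaf (nat_lit 22519825)))) (BT.node (nat_lit 8158656) (BT.node (nat_lit 8158592) (BT.leaf (nat_lit 41242645)) (BT.leaf (nat_lit 48065545))) (BT.node (nat_lit 8158720) (BT.leaf (nat_lit 49523729)) (BT.leaf (nat_lit 29458961))))))) (BT.node (nat_lit 8159808) (BT.node (nat_lit 8159296) (BT.node (nat_lit 8159040) (BT.node (nat_lit 8158912) (BT.node (nat_lit 8158848) (BT.leaf (nat_lit 49524513)) (BT.leaf (nat_lit 37068833))) (BT.node (nat_lit 8158976) (BT.leaf (nat_lit 27333401)) (BT.leaf (nat_lit 22615057)))) (BT.node (nat_lit 8159168) (BT.node (nat_lit 8159104) (BT.leaf (nat_lit 28997641)) (BT.leaf (nat_lit 28997645))) (BT.node (nat_lit 8159232) (BT.leaf (nat_lit 46430241)) (BT.leaf (nat_lit 28997657))))) (BT.node (nat_lit 8159552) (BT.node (nat_lit 8159424) (BT.node (nat_lit 8159360) (BT.leaf (nat_lit 28997661)) (BT.leaf (nat_lit 25762069))) (BT.node (nat_lit 8159488) (BT.leaf (nat_lit 28415513)) (BT.leaf (nat_lit 24673305)))) (BT.node (nat_lit 8159680) (BT.node (nat_lit 8159616) (BT.leaf (nat_lit 27768601)) (BT.leaf (nat_lit 32925717))) (BT.node (nat_lit 8159744) (BT.leaf (nat_lit 24677661)) (BT.leaf (nat_lit 24673309)))))) (BT.node (nat_lit 8160320) (BT.node (nat_lit 8160064) (BT.node (nat_lit 8159936) (BT.node (nat_lit 8159872) (BT.leaf (nat_lit 31414293)) (BT.leaf (nat_lit 24677657))) (BT.node (nat_lit 8160000) (BT.leaf (nat_lit 32648225)) (BT.leaf (nat_lit 31478789)))) (BT.node (nat_lit 8160192) (BT.node (nat_lit 8160128) (BT.leaf (nat_lit 35652129)) (BT.leaf (nat_lit 49529121))) (BT.node (nat_lit 8160256) (BT.leaf (nat_lit 46573061)) (BT.leaf (nat_lit 49530145))))) (BT.node (nat_lit 8160576) (BT.node (nat_lit 8160448) (BT.node (nat_lit 8160384) (BT.leaf (nat_lit 35653921)) (BT.leaf (nat_lit 22445077))) (BT.node (nat_lit 8160512) (BT.leaf (nat_lit 32672025)) (BT.leaf (nat_lit 43611669)))) (BT.node (nat_lit 8160704) (BT.node (nat_lit 8160640) (BT.leaf (nat_lit 49530905)) (BT.leaf (nat_lit 25970949))) (BT.node (nat_lit 8160768) (BT.leaf (nat_lit 30695449)) (BT.leaf (nat_lit 30695453))))))))) (BT.node (nat_lit 8164928) (BT.node (nat_lit 8162880) (BT.node (nat_lit 8161856) (BT.node (nat_lit 8161344) (BT.node (nat_lit 8161088) (BT.node (nat_lit 8160960) (BT.node (nat_lit 8160896) (BT.leaf (nat_lit 41278241)) (BT.leaf (nat_lit 24699157))) (BT.node (nat_lit 8161024) (BT.leaf (nat_lit 27543057)) (BT.leaf (nat_lit 49022733)))) (BT.node (nat_lit 8161216) (BT.node (nat_lit 8161152) (BT.leaf (nat_lit 25954313)) (BT.leaf (nat_lit 45767177))) (BT.node (nat_lit 8161280) (BT.leaf (nat_lit 41378337)) (BT.leaf (nat_lit 36206605))))) (BT.node (nat_lit 8161600) (BT.node (nat_lit 8161472) (BT.node (nat_lit 8161408) (BT.leaf (nat_lit 49533461)) (BT.leaf (nat_lit 23109921))) (BT.node (nat_lit 8161536) (BT.leaf (nat_lit 24684821)) (BT.leaf (nat_lit 32666633)))) (BT.node (nat_lit 8161728) (BT.node (nat_lit 8161664) (BT.leaf (nat_lit 32646177)) (BT.leaf (nat_lit 23111173))) (BT.node (nat_lit 8161792) (BT.leaf (nat_lit 23111429)) (BT.leaf (nat_lit 24685337)))))) (BT.node (nat_lit 8162368) (BT.node (nat_lit 8162112) (BT.node (nat_lit 8161984) (BT.node (nat_lit 8161920) (BT.leaf (nat_lit 27178769)) (BT.leaf (nat_lit 24685341))) (BT.node (nat_lit 8162048) (BT.leaf (nat_lit 27179025)) (BT.leaf (nat_lit 48939797)))) (BT.node (nat_lit 8162240) (BT.node (nat_lit 8162176) (BT.leaf (nat_lit 32795673)) (BT.leaf (nat_lit 45763341))) (BT.node (nat_lit 8162304) (BT.leaf (nat_lit 39668249)) (BT.leaf (nat_lit 51381793))))) (BT.node (nat_lit 8162624) (BT.node (nat_lit 8162496) (BT.node (nat_lit 8162432) (BT.leaf (nat_lit 25004573)) (BT.leaf (nat_lit 47277073))) (BT.node (nat_lit 8162560) (BT.leaf (nat_lit 29328149)) (BT.leaf (nat_lit 26264325)))) (BT.node (nat_lit 8162752) (BT.node (nat_lit 8162688) (BT.leaf (nat_lit 25662233)) (BT.leaf (nat_lit 32735761))) (BT.node (nat_lit 8162816) (BT.leaf (nat_lit 24691229)) (BT.leaf (nat_lit 36301089))))))) (BT.node (nat_lit 8163904) (BT.node (nat_lit 8163392) (BT.node (nat_lit 8163136) (BT.node (nat_lit 8163008) (BT.node (nat_lit 8162944) (BT.leaf (nat_lit 49537565)) (BT.leaf (nat_lit 24691225))) (BT.node (nat_lit 8163072) (BT.leaf (nat_lit 32783125)) (BT.leaf (nat_lit 34318093)))) (BT.node (nat_lit 8163264) (BT.node (nat_lit 8163200) (BT.leaf (nat_lit 44097541)) (BT.leaf (nat_lit 29108497))) (BT.node (nat_lit 8163328) (BT.leaf (nat_lit 27781405)) (BT.leaf (nat_lit 23984913))))) (BT.node (nat_lit 8163648) (BT.node (nat_lit 8163520) (BT.node (nat_lit 8163456) (BT.leaf (nat_lit 49538829)) (BT.leaf (nat_lit 35782149))) (BT.node (nat_lit 8163584) (BT.leaf (nat_lit 33485333)) (BT.leaf (nat_lit 33794565)))) (BT.node (nat_lit 8163776) (BT.node (nat_lit 8163712) (BT.leaf (nat_lit 25947413)) (BT.leaf (nat_lit 45818637))) (BT.node (nat_lit 8163840) (BT.leaf (nat_lit 24693529)) (BT.leaf (nat_lit 24693785)))))) (BT.node (nat_lit 8164416) (BT.node (nat_lit 8164160) (BT.node (nat_lit 8164032) (BT.node (nat_lit 8163968) (BT.leaf (nat_lit 24693533)) (BT.leaf (nat_lit 24693789))) (BT.node (nat_lit 8164096) (BT.leaf (nat_lit 41435405)) (BT.leaf (nat_lit 49494045)))) (BT.node (nat_lit 8164288) (BT.node (nat_lit 8164224) (BT.leaf (nat_lit 46517265)) (BT.leaf (nat_lit 31044889))) (BT.node (nat_lit 8164352) (BT.leaf (nat_lit 31044893)) (BT.leaf (nat_lit 49543441))))) (BT.node (nat_lit 8164672) (BT.node (nat_lit 8164544) (BT.node (nat_lit 8164480) (BT.leaf (nat_lit 32785157)) (BT.leaf (nat_lit 28493573))) (BT.node (nat_lit 8164608) (BT.leaf (nat_lit 30056965)) (BT.leaf (nat_lit 31790597)))) (BT.node (nat_lit 8164800) (BT.node (nat_lit 8164736) (BT.leaf (nat_lit 24694801)) (BT.leaf (nat_lit 31790621))) (BT.node (nat_lit 8164864) (BT.leaf (nat_lit 30681877)) (BT.leaf (nat_lit 37841185)))))))) (BT.node (nat_lit 8166976) (BT.node (nat_lit 8165952) (BT.node (nat_lit 8165440) (BT.node (nat_lit 8165184) (BT.node (nat_lit 8165056) (BT.node (nat_lit 8164992) (BT.leaf (nat_lit 30682385)) (BT.leaf (nat_lit 50357781))) (BT.node (nat_lit 8165120) (BT.leaf (nat_lit 49546769)) (BT.leaf (nat_lit 32660249)))) (BT.node (nat_lit 8165312) (BT.node (nat_lit 8165248) (BT.leaf (nat_lit 29538053)) (BT.leaf (nat_lit 46713349))) (BT.node (nat_lit 8165376) (BT.leaf (nat_lit 24696081)) (BT.leaf (nat_lit 30898721))))) (BT.node (nat_lit 8165696) (BT.node (nat_lit 8165568) (BT.node (nat_lit 8165504) (BT.leaf (nat_lit 28415769)) (BT.leaf (nat_lit 28415773))) (BT.node (nat_lit 8165632) (BT.leaf (nat_lit 41242393)) (BT.leaf (nat_lit 26580769)))) (BT.node (nat_lit 8165824) (BT.node (nat_lit 8165760) (BT.leaf (nat_lit 29885717)) (BT.leaf (nat_lit 24697617))) (BT.node (nat_lit 8165888) (BT.leaf (nat_lit 39830797)) (BT.leaf (nat_lit 29380637)))))) (BT.node (nat_lit 8166464) (BT.node (nat_lit 8166208) (BT.node (nat_lit 8166080) (BT.node (nat_lit 8166016) (BT.leaf (nat_lit 24694545)) (BT.leaf (nat_lit 24698897))) (BT.node (nat_lit 8166144) (BT.leaf (nat_lit 24698129)) (BT.leaf (nat_lit 24685333)))) (BT.node (nat_lit 8166336) (BT.node (nat_lit 8166272) (BT.leaf (nat_lit 45639445)) (BT.leaf (nat_lit 41389573))) (BT.node (nat_lit 8166400) (BT.leaf (nat_lit 49513997)) (BT.leaf (nat_lit 24699165))))) (BT.node (nat_lit 8166720) (BT.node (nat_lit 8166592) (BT.node (nat_lit 8166528) (BT.leaf (nat_lit 24673813)) (BT.leaf (nat_lit 27186973))) (BT.node (nat_lit 8166656) (BT.leaf (nat_lit 32645897)) (BT.leaf (nat_lit 49553429)))) (BT.node (nat_lit 8166848) (BT.node (nat_lit 8166784) (BT.leaf (nat_lit 25939721)) (BT.leaf (nat_lit 23141409))) (BT.node (nat_lit 8166912) (BT.leaf (nat_lit 27187733)) (BT.leaf (nat_lit 49555473))))))) (BT.node (nat_lit 8168000) (BT.node (nat_lit 8167488) (BT.node (nat_lit 8167232) (BT.node (nat_lit 8167104) (BT.node (nat_lit 8167040) (BT.leaf (nat_lit 25169937)) (BT.leaf (nat_lit 27964689))) (BT.node (nat_lit 8167168) (BT.leaf (nat_lit 35854873)) (BT.leaf (nat_lit 24700181)))) (BT.node (nat_lit 8167360) (BT.node (nat_lit 8167296) (BT.leaf (nat_lit 45765641)) (BT.leaf (nat_lit 32668961))) (BT.node (nat_lit 8167424) (BT.leaf (nat_lit 44467997)) (BT.leaf (nat_lit 23141893))))) (BT.node (nat_lit 8167744) (BT.node (nat_lit 8167616) (BT.node (nat_lit 8167552) (BT.leaf (nat_lit 27539985)) (BT.leaf (nat_lit 39087637))) (BT.node (nat_lit 8167680) (BT.leaf (nat_lit 39088145)) (BT.leaf (nat_lit 45825813)))) (BT.node (nat_lit 8167872) (BT.node (nat_lit 8167808) (BT.leaf (nat_lit 40938261)) (BT.leaf (nat_lit 44096781))) (BT.node (nat_lit 8167936) (BT.leaf (nat_lit 40938769)) (BT.leaf (nat_lit 49561105)))))) (BT.node (nat_lit 8168512) (BT.node (nat_lit 8168256) (BT.node (nat_lit 8168128) (BT.node (nat_lit 8168064) (BT.leaf (nat_lit 31793169)) (BT.leaf (nat_lit 32150033))) (BT.node (nat_lit 8168192) (BT.leaf (nat_lit 42169113)) (BT.leaf (nat_lit 42169117)))) (BT.node (nat_lit 8168384) (BT.node (nat_lit 8168320) (BT.leaf (nat_lit 45160473)) (BT.leaf (nat_lit 45843481))) (BT.node (nat_lit 8168448) (BT.leaf (nat_lit 31794201)) (BT.leaf (nat_lit 31794205))))) (BT.node (nat_lit 8168768) (BT.node (nat_lit 8168640) (BT.node (nat_lit 8168576) (BT.leaf (nat_lit 49562897)) (BT.leaf (nat_lit 37983509))) (BT.node (nat_lit 8168704) (BT.leaf (nat_lit 29141513)) (BT.leaf (nat_lit 30093077)))) (BT.node (nat_lit 8168896) (BT.node (nat_lit 8168832) (BT.leaf (nat_lit 42693637)) (BT.leaf (nat_lit 30823689))) (BT.node (nat_lit 8168960) (BT.leaf (nat_lit 37130761)) (BT.leaf (nat_lit 23153169)))))))))) (BT.node (nat_lit 8177216) (BT.node (nat_lit 8173120) (BT.node (nat_lit 8171072) (BT.node (nat_lit 8170048) (BT.node (nat_lit 8169536) (BT.node (nat_lit 8169280) (BT.node (nat_lit 8169152) (BT.node (nat_lit 8169088) (BT.leaf (nat_lit 24737813)) (BT.leaf (nat_lit 26282245))) (BT.node (nat_lit 8169216) (BT.leaf (nat_lit 24737821)) (BT.leaf (nat_lit 24702741)))) (BT.node (nat_lit 8169408) (BT.node (nat_lit 8169344) (BT.leaf (nat_lit 24819977)) (BT.leaf (nat_lit 24819981))) (BT.node (nat_lit 8169472) (BT.leaf (nat_lit 24819985)) (BT.leaf (nat_lit 24819993))))) (BT.node (nat_lit 8169792) (BT.node (nat_lit 8169664) (BT.node (nat_lit 8169600) (BT.leaf (nat_lit 24819997)) (BT.leaf (nat_lit 24820001))) (BT.node (nat_lit 8169728) (BT.leaf (nat_lit 25310233)) (BT.leaf (nat_lit 39933957)))) (BT.node (nat_lit 8169920) (BT.node (nat_lit 8169856) (BT.leaf (nat_lit 29754389)) (BT.leaf (nat_lit 28682769))) (BT.node (nat_lit 8169984) (BT.leaf (nat_lit 28682773)) (BT.leaf (nat_lit 38180361)))))) (BT.node (nat_lit 8170560) (BT.node (nat_lit 8170304) (BT.node (nat_lit 8170176) (BT.node (nat_lit 8170112) (BT.leaf (nat_lit 47529733)) (BT.leaf (nat_lit 36430869))) (BT.node (nat_lit 8170240) (BT.leaf (nat_lit 37809437)) (BT.leaf (nat_lit 29332241)))) (BT.node (nat_lit 8170432) (BT.node (nat_lit 8170368) (BT.leaf (nat_lit 35222041)) (BT.leaf (nat_lit 31328777))) (BT.node (nat_lit 8170496) (BT.leaf (nat_lit 49568029)) (BT.leaf (nat_lit 30822173))))) (BT.node (nat_lit 8170816) (BT.node (nat_lit 8170688) (BT.node (nat_lit 8170624) (BT.leaf (nat_lit 24704533)) (BT.leaf (nat_lit 24693781))) (BT.node (nat_lit 8170752) (BT.leaf (nat_lit 24704797)) (BT.leaf (nat_lit 30475025)))) (BT.node (nat_lit 8170944) (BT.node (nat_lit 8170880) (BT.leaf (nat_lit 28121353)) (BT.leaf (nat_lit 28121357))) (BT.node (nat_lit 8171008) (BT.leaf (nat_lit 28121369)) (BT.leaf (nat_lit 28121373))))))) (BT.node (nat_lit 8172096) (BT.node (nat_lit 8171584) (BT.node (nat_lit 8171328) (BT.node (nat_lit 8171200) (BT.node (nat_lit 8171136) (BT.leaf (nat_lit 38072085)) (BT.leaf (nat_lit 49569561))) (BT.node (nat_lit 8171264) (BT.leaf (nat_lit 49570069)) (BT.leaf (nat_lit 40646929)))) (BT.node (nat_lit 8171456) (BT.node (nat_lit 8171392) (BT.leaf (nat_lit 28310557)) (BT.leaf (nat_lit 29249029))) (BT.node (nat_lit 8171520) (BT.leaf (nat_lit 28844065)) (BT.leaf (nat_lit 28852245))))) (BT.node (nat_lit 8171840) (BT.node (nat_lit 8171712) (BT.node (nat_lit 8171648) (BT.leaf (nat_lit 40403717)) (BT.leaf (nat_lit 39760657))) (BT.node (nat_lit 8171776) (BT.leaf (nat_lit 36130845)) (BT.leaf (nat_lit 48552465)))) (BT.node (nat_lit 8171968) (BT.node (nat_lit 8171904) (BT.leaf (nat_lit 27518489)) (BT.leaf (nat_lit 32684317))) (BT.node (nat_lit 8172032) (BT.leaf (nat_lit 36447509)) (BT.leaf (nat_lit 24548369)))))) (BT.node (nat_lit 8172608) (BT.node (nat_lit 8172352) (BT.node (nat_lit 8172224) (BT.node (nat_lit 8172160) (BT.leaf (nat_lit 43078689)) (BT.leaf (nat_lit 38159365))) (BT.node (nat_lit 8172288) (BT.leaf (nat_lit 30197013)) (BT.leaf (nat_lit 24658193)))) (BT.node (nat_lit 8172480) (BT.node (nat_lit 8172416) (BT.leaf (nat_lit 46758677)) (BT.leaf (nat_lit 29516313))) (BT.node (nat_lit 8172544) (BT.leaf (nat_lit 29516317)) (BT.leaf (nat_lit 24572173))))) (BT.node (nat_lit 8172864) (BT.node (nat_lit 8172736) (BT.node (nat_lit 8172672) (BT.leaf (nat_lit 24572169)) (BT.leaf (nat_lit 30914565))) (BT.node (nat_lit 8172800) (BT.leaf (nat_lit 31286805)) (BT.leaf (nat_lit 31286809)))) (BT.node (nat_lit 8172992) (BT.node (nat_lit 8172928) (BT.leaf (nat_lit 31286813)) (BT.leaf (nat_lit 32359445))) (BT.node (nat_lit 8173056) (BT.leaf (nat_lit 30768417)) (BT.leaf (nat_lit 24709137)))))))) (BT.node (nat_lit 8175168) (BT.node (nat_lit 8174144) (BT.node (nat_lit 8173632) (BT.node (nat_lit 8173376) (BT.node (nat_lit 8173248) (BT.node (nat_lit 8173184) (BT.leaf (nat_lit 49576729)) (BT.leaf (nat_lit 32693021))) (BT.node (nat_lit 8173312) (BT.leaf (nat_lit 48205845)) (BT.leaf (nat_lit 32360713)))) (BT.node (nat_lit 8173504) (BT.node (nat_lit 8173440) (BT.leaf (nat_lit 45856009)) (BT.leaf (nat_lit 45087777))) (BT.node (nat_lit 8173568) (BT.leaf (nat_lit 29435409)) (BT.leaf (nat_lit 42027041))))) (BT.node (nat_lit 8173888) (BT.node (nat_lit 8173760) (BT.node (nat_lit 8173696) (BT.leaf (nat_lit 26006801)) (BT.leaf (nat_lit 32694553))) (BT.node (nat_lit 8173824) (BT.leaf (nat_lit 29330189)) (BT.leaf (nat_lit 31752217)))) (BT.node (nat_lit 8174016) (BT.node (nat_lit 8173952) (BT.leaf (nat_lit 24711185)) (BT.leaf (nat_lit 27774485))) (BT.node (nat_lit 8174080) (BT.leaf (nat_lit 51178009)) (BT.leaf (nat_lit 51178013)))))) (BT.node (nat_lit 8174656) (BT.node (nat_lit 8174400) (BT.node (nat_lit 8174272) (BT.node (nat_lit 8174208) (BT.leaf (nat_lit 24711697)) (BT.leaf (nat_lit 31416865))) (BT.node (nat_lit 8174336) (BT.leaf (nat_lit 41755909)) (BT.leaf (nat_lit 37888521)))) (BT.node (nat_lit 8174528) (BT.node (nat_lit 8174464) (BT.leaf (nat_lit 32873221)) (BT.leaf (nat_lit 37939997))) (BT.node (nat_lit 8174592) (BT.leaf (nat_lit 35025929)) (BT.leaf (nat_lit 35025933))))) (BT.node (nat_lit 8174912) (BT.node (nat_lit 8174784) (BT.node (nat_lit 8174720) (BT.leaf (nat_lit 35025945)) (BT.leaf (nat_lit 35025949))) (BT.node (nat_lit 8174848) (BT.leaf (nat_lit 35025953)) (BT.leaf (nat_lit 24712721)))) (BT.node (nat_lit 8175040) (BT.node (nat_lit 8174976) (BT.leaf (nat_lit 32874245)) (BT.leaf (nat_lit 35239453))) (BT.node (nat_lit 8175104) (BT.leaf (nat_lit 23991057)) (BT.leaf (nat_lit 25959445))))))) (BT.node (nat_lit 8176192) (BT.node (nat_lit 8175680) (BT.node (nat_lit 8175424) (BT.node (nat_lit 8175296) (BT.node (nat_lit 8175232) (BT.leaf (nat_lit 45544725)) (BT.leaf (nat_lit 41144837))) (BT.node (nat_lit 8175360) (BT.leaf (nat_lit 41145121)) (BT.leaf (nat_lit 44256277)))) (BT.node (nat_lit 8175552) (BT.node (nat_lit 8175488) (BT.leaf (nat_lit 31265041)) (BT.leaf (nat_lit 40779797))) (BT.node (nat_lit 8175616) (BT.leaf (nat_lit 43226401)) (BT.leaf (nat_lit 48179993))))) (BT.node (nat_lit 8175936) (BT.node (nat_lit 8175808) (BT.node (nat_lit 8175744) (BT.leaf (nat_lit 24715037)) (BT.leaf (nat_lit 38396945))) (BT.node (nat_lit 8175872) (BT.leaf (nat_lit 29709317)) (BT.leaf (nat_lit 23640853)))) (BT.node (nat_lit 8176064) (BT.node (nat_lit 8176000) (BT.leaf (nat_lit 47392521)) (BT.leaf (nat_lit 47392525))) (BT.node (nat_lit 8176128) (BT.leaf (nat_lit 47392537)) (BT.leaf (nat_lit 47392541)))))) (BT.node (nat_lit 8176704) (BT.node (nat_lit 8176448) (BT.node (nat_lit 8176320) (BT.node (nat_lit 8176256) (BT.leaf (nat_lit 34563349)) (BT.leaf (nat_lit 29371417))) (BT.node (nat_lit 8176384) (BT.leaf (nat_lit 29710097)) (BT.leaf (nat_lit 37956113)))) (BT.node (nat_lit 8176576) (BT.node (nat_lit 8176512) (BT.leaf (nat_lit 29709853)) (BT.leaf (nat_lit 33759001))) (BT.node (nat_lit 8176640) (BT.leaf (nat_lit 41297429)) (BT.leaf (nat_lit 23035933))))) (BT.node (nat_lit 8176960) (BT.node (nat_lit 8176832) (BT.node (nat_lit 8176768) (BT.leaf (nat_lit 24565265)) (BT.leaf (nat_lit 34980381))) (BT.node (nat_lit 8176896) (BT.leaf (nat_lit 24717329)) (BT.leaf (nat_lit 49585685)))) (BT.node (nat_lit 8177088) (BT.node (nat_lit 8177024) (BT.leaf (nat_lit 27421209)) (BT.leaf (nat_lit 23324689))) (BT.node (nat_lit 8177152) (BT.leaf (nat_lit 38214177)) (BT.leaf (nat_lit 23074821))))))))) (BT.node (nat_lit 8181312) (BT.node (nat_lit 8179264) (BT.node (nat_lit 8178240) (BT.node (nat_lit 8177728) (BT.node (nat_lit 8177472) (BT.node (nat_lit 8177344) (BT.node (nat_lit 8177280) (BT.leaf (nat_lit 49586453)) (BT.leaf (nat_lit 24720913))) (BT.node (nat_lit 8177408) (BT.leaf (nat_lit 45401349)) (BT.leaf (nat_lit 45395213)))) (BT.node (nat_lit 8177600) (BT.node (nat_lit 8177536) (BT.leaf (nat_lit 31268893)) (BT.leaf (nat_lit 24721425))) (BT.node (nat_lit 8177664) (BT.leaf (nat_lit 24721169)) (BT.leaf (nat_lit 49587985))))) (BT.node (nat_lit 8177984) (BT.node (nat_lit 8177856) (BT.node (nat_lit 8177792) (BT.leaf (nat_lit 49588245)) (BT.leaf (nat_lit 39950097))) (BT.node (nat_lit 8177920) (BT.leaf (nat_lit 34258209)) (BT.leaf (nat_lit 24723217)))) (BT.node (nat_lit 8178112) (BT.node (nat_lit 8178048) (BT.leaf (nat_lit 31944197)) (BT.leaf (nat_lit 29899525))) (BT.node (nat_lit 8178176) (BT.leaf (nat_lit 29361425)) (BT.leaf (nat_lit 31944965)))))) (BT.node (nat_lit 8178752) (BT.node (nat_lit 8178496) (BT.node (nat_lit 8178368) (BT.node (nat_lit 8178304) (BT.leaf (nat_lit 39823381)) (BT.leaf (nat_lit 40986629))) (BT.node (nat_lit 8178432) (BT.leaf (nat_lit 49591057)) (BT.leaf (nat_lit 31945989)))) (BT.node (nat_lit 8178624) (BT.node (nat_lit 8178560) (BT.leaf (nat_lit 24723985)) (BT.leaf (nat_lit 24723729))) (BT.node (nat_lit 8178688) (BT.leaf (nat_lit 42704657)) (BT.leaf (nat_lit 49588001))))) (BT.node (nat_lit 8179008) (BT.node (nat_lit 8178880) (BT.node (nat_lit 8178816) (BT.leaf (nat_lit 28232965)) (BT.leaf (nat_lit 24727825))) (BT.node (nat_lit 8178944) (BT.leaf (nat_lit 28223249)) (BT.leaf (nat_lit 28200465)))) (BT.node (nat_lit 8179136) (BT.node (nat_lit 8179072) (BT.leaf (nat_lit 28232985)) (BT.leaf (nat_lit 28232989))) (BT.node (nat_lit 8179200) (BT.leaf (nat_lit 27387153)) (BT.leaf (nat_lit 49961237))))))) (BT.node (nat_lit 8180288) (BT.node (nat_lit 8179776) (BT.node (nat_lit 8179520) (BT.node (nat_lit 8179392) (BT.node (nat_lit 8179328) (BT.leaf (nat_lit 31392277)) (BT.leaf (nat_lit 28578585))) (BT.node (nat_lit 8179456) (BT.leaf (nat_lit 28578589)) (BT.leaf (nat_lit 31392289)))) (BT.node (nat_lit 8179648) (BT.node (nat_lit 8179584) (BT.leaf (nat_lit 49593365)) (BT.leaf (nat_lit 32860421))) (BT.node (nat_lit 8179712) (BT.leaf (nat_lit 49591585)) (BT.leaf (nat_lit 39950369))))) (BT.node (nat_lit 8180032) (BT.node (nat_lit 8179904) (BT.node (nat_lit 8179840) (BT.leaf (nat_lit 37767433)) (BT.leaf (nat_lit 49051653))) (BT.node (nat_lit 8179968) (BT.leaf (nat_lit 24300049)) (BT.leaf (nat_lit 24300053)))) (BT.node (nat_lit 8180160) (BT.node (nat_lit 8180096) (BT.leaf (nat_lit 31780105)) (BT.leaf (nat_lit 33033989))) (BT.node (nat_lit 8180224) (BT.leaf (nat_lit 37767453)) (BT.leaf (nat_lit 49380633)))))) (BT.node (nat_lit 8180800) (BT.node (nat_lit 8180544) (BT.node (nat_lit 8180416) (BT.node (nat_lit 8180352) (BT.leaf (nat_lit 49595161)) (BT.leaf (nat_lit 27588113))) (BT.node (nat_lit 8180480) (BT.leaf (nat_lit 49595681)) (BT.leaf (nat_lit 27588129)))) (BT.node (nat_lit 8180672) (BT.node (nat_lit 8180608) (BT.leaf (nat_lit 30782469)) (BT.leaf (nat_lit 24730897))) (BT.node (nat_lit 8180736) (BT.leaf (nat_lit 24730641)) (BT.leaf (nat_lit 27588377))))) (BT.node (nat_lit 8181056) (BT.node (nat_lit 8180928) (BT.node (nat_lit 8180864) (BT.leaf (nat_lit 46497029)) (BT.leaf (nat_lit 24300561))) (BT.node (nat_lit 8180992) (BT.leaf (nat_lit 49597213)) (BT.leaf (nat_lit 49584905)))) (BT.node (nat_lit 8181184) (BT.node (nat_lit 8181120) (BT.leaf (nat_lit 43395609)) (BT.leaf (nat_lit 43731973))) (BT.node (nat_lit 8181248) (BT.leaf (nat_lit 24731665)) (BT.leaf (nat_lit 32412949)))))))) (BT.node (nat_lit 8183360) (BT.node (nat_lit 8182336) (BT.node (nat_lit 8181824) (BT.node (nat_lit 8181568) (BT.node (nat_lit 8181440) (BT.node (nat_lit 8181376) (BT.leaf (nat_lit 31582753)) (BT.leaf (nat_lit 38286113))) (BT.node (nat_lit 8181504) (BT.leaf (nat_lit 28497413)) (BT.leaf (nat_lit 39359513)))) (BT.node (nat_lit 8181696) (BT.node (nat_lit 8181632) (BT.leaf (nat_lit 30780697)) (BT.leaf (nat_lit 30780701))) (BT.node (nat_lit 8181760) (BT.leaf (nat_lit 24623137)) (BT.leaf (nat_lit 35127309))))) (BT.node (nat_lit 8182080) (BT.node (nat_lit 8181952) (BT.node (nat_lit 8181888) (BT.leaf (nat_lit 29312289)) (BT.leaf (nat_lit 30769161))) (BT.node (nat_lit 8182016) (BT.leaf (nat_lit 30769165)) (BT.leaf (nat_lit 47376929)))) (BT.node (nat_lit 8182208) (BT.node (nat_lit 8182144) (BT.leaf (nat_lit 49599505)) (BT.leaf (nat_lit 30150929))) (BT.node (nat_lit 8182272) (BT.leaf (nat_lit 45286921)) (BT.leaf (nat_lit 45286929)))))) (BT.node (nat_lit 8182848) (BT.node (nat_lit 8182592) (BT.node (nat_lit 8182464) (BT.node (nat_lit 8182400) (BT.leaf (nat_lit 32167965)) (BT.leaf (nat_lit 30271753))) (BT.node (nat_lit 8182528) (BT.leaf (nat_lit 30271761)) (BT.leaf (nat_lit 50398749)))) (BT.node (nat_lit 8182720) (BT.node (nat_lit 8182656) (BT.leaf (nat_lit 49600261)) (BT.leaf (nat_lit 47948565))) (BT.node (nat_lit 8182784) (BT.leaf (nat_lit 36254233)) (BT.leaf (nat_lit 45603085))))) (BT.node (nat_lit 8183104) (BT.node (nat_lit 8182976) (BT.node (nat_lit 8182912) (BT.leaf (nat_lit 24593425)) (BT.leaf (nat_lit 50830861))) (BT.node (nat_lit 8183040) (BT.leaf (nat_lit 29240345)) (BT.leaf (nat_lit 38568709)))) (BT.node (nat_lit 8183232) (BT.node (nat_lit 8183168) (BT.leaf (nat_lit 44860945)) (BT.leaf (nat_lit 32507929))) (BT.node (nat_lit 8183296) (BT.leaf (nat_lit 41941789)) (BT.leaf (nat_lit 24739345))))))) (BT.node (nat_lit 8184384) (BT.node (nat_lit 8183872) (BT.node (nat_lit 8183616) (BT.node (nat_lit 8183488) (BT.node (nat_lit 8183424) (BT.leaf (nat_lit 24739089)) (BT.leaf (nat_lit 49602317))) (BT.node (nat_lit 8183552) (BT.leaf (nat_lit 30803205)) (BT.leaf (nat_lit 27960861)))) (BT.node (nat_lit 8183744) (BT.node (nat_lit 8183680) (BT.leaf (nat_lit 32406549)) (BT.leaf (nat_lit 46592545))) (BT.node (nat_lit 8183808) (BT.leaf (nat_lit 36063761)) (BT.leaf (nat_lit 49363989))))) (BT.node (nat_lit 8184128) (BT.node (nat_lit 8184000) (BT.node (nat_lit 8183936) (BT.leaf (nat_lit 45449237)) (BT.leaf (nat_lit 29331985))) (BT.node (nat_lit 8184064) (BT.leaf (nat_lit 24738585)) (BT.leaf (nat_lit 24738841)))) (BT.node (nat_lit 8184256) (BT.node (nat_lit 8184192) (BT.leaf (nat_lit 49604385)) (BT.leaf (nat_lit 24738589))) (BT.node (nat_lit 8184320) (BT.leaf (nat_lit 51559941)) (BT.leaf (nat_lit 29331461)))))) (BT.node (nat_lit 8184896) (BT.node (nat_lit 8184640) (BT.node (nat_lit 8184512) (BT.node (nat_lit 8184448) (BT.leaf (nat_lit 24740117)) (BT.leaf (nat_lit 25968913))) (BT.node (nat_lit 8184576) (BT.leaf (nat_lit 39887633)) (BT.leaf (nat_lit 39887637)))) (BT.node (nat_lit 8184768) (BT.node (nat_lit 8184704) (BT.leaf (nat_lit 49606673)) (BT.leaf (nat_lit 47414809))) (BT.node (nat_lit 8184832) (BT.leaf (nat_lit 32739341)) (BT.leaf (nat_lit 32476949))))) (BT.node (nat_lit 8185152) (BT.node (nat_lit 8185024) (BT.node (nat_lit 8184960) (BT.leaf (nat_lit 40824593)) (BT.leaf (nat_lit 40824609))) (BT.node (nat_lit 8185088) (BT.leaf (nat_lit 31276049)) (BT.leaf (nat_lit 45549853)))) (BT.node (nat_lit 8185280) (BT.node (nat_lit 8185216) (BT.leaf (nat_lit 24740357)) (BT.leaf (nat_lit 49606929))) (BT.node (nat_lit 8185344) (BT.leaf (nat_lit 49607197)) (BT.leaf (nat_lit 41717769)))))))))))) (BT.node (nat_lit 8218048) (BT.node (nat_lit 8201664) (BT.node (nat_lit 8193600) (BT.node (nat_lit 8189504) (BT.node (nat_lit 8187456) (BT.node (nat_lit 8186432) (BT.node (nat_lit 8185920) (BT.node (nat_lit 8185664) (BT.node (nat_lit 8185536) (BT.node (nat_lit 8185472) (BT.leaf (nat_lit 46520849)) (BT.leaf (nat_lit 33011737))) (BT.node (nat_lit 8185600) (BT.leaf (nat_lit 37689117)) (BT.leaf (nat_lit 24740869)))) (BT.node (nat_lit 8185792) (BT.node (nat_lit 8185728) (BT.leaf (nat_lit 28530457)) (BT.leaf (nat_lit 49608725))) (BT.node (nat_lit 8185856) (BT.leaf (nat_lit 41452309)) (BT.leaf (nat_lit 45931269))))) (BT.node (nat_lit 8186176) (BT.node (nat_lit 8186048) (BT.node (nat_lit 8185984) (BT.leaf (nat_lit 43118085)) (BT.leaf (nat_lit 42842901))) (BT.node (nat_lit 8186112) (BT.leaf (nat_lit 28601105)) (BT.leaf (nat_lit 46967561)))) (BT.node (nat_lit 8186304) (BT.node (nat_lit 8186240) (BT.leaf (nat_lit 30597393)) (BT.leaf (nat_lit 46409245))) (BT.node (nat_lit 8186368) (BT.leaf (nat_lit 49609997)) (BT.leaf (nat_lit 32745741)))))) (BT.node (nat_lit 8186944) (BT.node (nat_lit 8186688) (BT.node (nat_lit 8186560) (BT.node (nat_lit 8186496) (BT.leaf (nat_lit 42445845)) (BT.leaf (nat_lit 39070985))) (BT.node (nat_lit 8186624) (BT.leaf (nat_lit 41790993)) (BT.leaf (nat_lit 47421213)))) (BT.node (nat_lit 8186816) (BT.node (nat_lit 8186752) (BT.leaf (nat_lit 31211525)) (BT.leaf (nat_lit 49610773))) (BT.node (nat_lit 8186880) (BT.leaf (nat_lit 49611553)) (BT.leaf (nat_lit 49611805))))) (BT.node (nat_lit 8187200) (BT.node (nat_lit 8187072) (BT.node (nat_lit 8187008) (BT.leaf (nat_lit 44206345)) (BT.leaf (nat_lit 32482057))) (BT.node (nat_lit 8187136) (BT.leaf (nat_lit 46406669)) (BT.leaf (nat_lit 30614809)))) (BT.node (nat_lit 8187328) (BT.node (nat_lit 8187264) (BT.leaf (nat_lit 49612821)) (BT.leaf (nat_lit 48587525))) (BT.node (nat_lit 8187392) (BT.leaf (nat_lit 32437781)) (BT.leaf (nat_lit 48588065))))))) (BT.node (nat_lit 8188480) (BT.node (nat_lit 8187968) (BT.node (nat_lit 8187712) (BT.node (nat_lit 8187584) (BT.node (nat_lit 8187520) (BT.leaf (nat_lit 32750109)) (BT.leaf (nat_lit 45486357))) (BT.node (nat_lit 8187648) (BT.leaf (nat_lit 29740053)) (BT.leaf (nat_lit 44125961)))) (BT.node (nat_lit 8187840) (BT.node (nat_lit 8187776) (BT.leaf (nat_lit 45486365)) (BT.leaf (nat_lit 49613077))) (BT.node (nat_lit 8187904) (BT.leaf (nat_lit 48102417)) (BT.leaf (nat_lit 24724509))))) (BT.node (nat_lit 8188224) (BT.node (nat_lit 8188096) (BT.node (nat_lit 8188032) (BT.leaf (nat_lit 27982101)) (BT.leaf (nat_lit 32356101))) (BT.node (nat_lit 8188160) (BT.leaf (nat_lit 24745233)) (BT.leaf (nat_lit 38610721)))) (BT.node (nat_lit 8188352) (BT.node (nat_lit 8188288) (BT.leaf (nat_lit 39129861)) (BT.leaf (nat_lit 39299105))) (BT.node (nat_lit 8188416) (BT.leaf (nat_lit 29006341)) (BT.leaf (nat_lit 34013969)))))) (BT.node (nat_lit 8188992) (BT.node (nat_lit 8188736) (BT.node (nat_lit 8188608) (BT.node (nat_lit 8188544) (BT.leaf (nat_lit 44242973)) (BT.leaf (nat_lit 49388041))) (BT.node (nat_lit 8188672) (BT.leaf (nat_lit 27329045)) (BT.leaf (nat_lit 27329049)))) (BT.node (nat_lit 8188864) (BT.node (nat_lit 8188800) (BT.leaf (nat_lit 27329053)) (BT.leaf (nat_lit 44486677))) (BT.node (nat_lit 8188928) (BT.leaf (nat_lit 31754265)) (BT.leaf (nat_lit 31754269))))) (BT.node (nat_lit 8189248) (BT.node (nat_lit 8189120) (BT.node (nat_lit 8189056) (BT.leaf (nat_lit 29210641)) (BT.leaf (nat_lit 28056853))) (BT.node (nat_lit 8189184) (BT.leaf (nat_lit 29300757)) (BT.leaf (nat_lit 32924953)))) (BT.node (nat_lit 8189376) (BT.node (nat_lit 8189312) (BT.leaf (nat_lit 31346437)) (BT.leaf (nat_lit 32661777))) (BT.node (nat_lit 8189440) (BT.leaf (nat_lit 31823637)) (BT.leaf (nat_lit 49188357)))))))) (BT.node (nat_lit 8191552) (BT.node (nat_lit 8190528) (BT.node (nat_lit 8190016) (BT.node (nat_lit 8189760) (BT.node (nat_lit 8189632) (BT.node (nat_lit 8189568) (BT.leaf (nat_lit 48589857)) (BT.leaf (nat_lit 39963421))) (BT.node (nat_lit 8189696) (BT.leaf (nat_lit 28677401)) (BT.leaf (nat_lit 28677405)))) (BT.node (nat_lit 8189888) (BT.node (nat_lit 8189824) (BT.leaf (nat_lit 24228625)) (BT.leaf (nat_lit 24747285))) (BT.node (nat_lit 8189952) (BT.leaf (nat_lit 31892233)) (BT.leaf (nat_lit 25978397))))) (BT.node (nat_lit 8190272) (BT.node (nat_lit 8190144) (BT.node (nat_lit 8190080) (BT.leaf (nat_lit 49620249)) (BT.leaf (nat_lit 25978377))) (BT.node (nat_lit 8190208) (BT.leaf (nat_lit 31892253)) (BT.leaf (nat_lit 24748049)))) (BT.node (nat_lit 8190400) (BT.node (nat_lit 8190336) (BT.leaf (nat_lit 22539293)) (BT.leaf (nat_lit 22539289))) (BT.node (nat_lit 8190464) (BT.leaf (nat_lit 24748561)) (BT.leaf (nat_lit 46876189)))))) (BT.node (nat_lit 8191040) (BT.node (nat_lit 8190784) (BT.node (nat_lit 8190656) (BT.node (nat_lit 8190592) (BT.leaf (nat_lit 36581137)) (BT.leaf (nat_lit 38471961))) (BT.node (nat_lit 8190720) (BT.leaf (nat_lit 41994769)) (BT.leaf (nat_lit 32628485)))) (BT.node (nat_lit 8190912) (BT.node (nat_lit 8190848) (BT.leaf (nat_lit 24748817)) (BT.leaf (nat_lit 24748297))) (BT.node (nat_lit 8190976) (BT.leaf (nat_lit 36523269)) (BT.leaf (nat_lit 31884805))))) (BT.node (nat_lit 8191296) (BT.node (nat_lit 8191168) (BT.node (nat_lit 8191104) (BT.leaf (nat_lit 35190297)) (BT.leaf (nat_lit 34079761))) (BT.node (nat_lit 8191232) (BT.leaf (nat_lit 33119249)) (BT.leaf (nat_lit 36952857)))) (BT.node (nat_lit 8191424) (BT.node (nat_lit 8191360) (BT.leaf (nat_lit 32765453)) (BT.leaf (nat_lit 49622805))) (BT.node (nat_lit 8191488) (BT.leaf (nat_lit 28904725)) (BT.leaf (nat_lit 28904733))))))) (BT.node (nat_lit 8192576) (BT.node (nat_lit 8192064) (BT.node (nat_lit 8191808) (BT.node (nat_lit 8191680) (BT.node (nat_lit 8191616) (BT.leaf (nat_lit 24753425)) (BT.leaf (nat_lit 41881105))) (BT.node (nat_lit 8191744) (BT.leaf (nat_lit 32764437)) (BT.leaf (nat_lit 29538837)))) (BT.node (nat_lit 8191936) (BT.node (nat_lit 8191872) (BT.leaf (nat_lit 38353417)) (BT.leaf (nat_lit 36023569))) (BT.node (nat_lit 8192000) (BT.leaf (nat_lit 24753937)) (BT.leaf (nat_lit 24753681))))) (BT.node (nat_lit 8192320) (BT.node (nat_lit 8192192) (BT.node (nat_lit 8192128) (BT.leaf (nat_lit 39555861)) (BT.leaf (nat_lit 28415509))) (BT.node (nat_lit 8192256) (BT.leaf (nat_lit 28415517)) (BT.leaf (nat_lit 32634653)))) (BT.node (nat_lit 8192448) (BT.node (nat_lit 8192384) (BT.leaf (nat_lit 28610321)) (BT.leaf (nat_lit 50485269))) (BT.node (nat_lit 8192512) (BT.leaf (nat_lit 24756497)) (BT.leaf (nat_lit 32771597)))))) (BT.node (nat_lit 8193088) (BT.node (nat_lit 8192832) (BT.node (nat_lit 8192704) (BT.node (nat_lit 8192640) (BT.leaf (nat_lit 31860001)) (BT.leaf (nat_lit 25975061))) (BT.node (nat_lit 8192768) (BT.leaf (nat_lit 44723989)) (BT.leaf (nat_lit 24756761)))) (BT.node (nat_lit 8192960) (BT.node (nat_lit 8192896) (BT.leaf (nat_lit 24757017)) (BT.leaf (nat_lit 45962529))) (BT.node (nat_lit 8193024) (BT.leaf (nat_lit 24756765)) (BT.leaf (nat_lit 24757021))))) (BT.node (nat_lit 8193344) (BT.node (nat_lit 8193216) (BT.node (nat_lit 8193152) (BT.leaf (nat_lit 43936021)) (BT.leaf (nat_lit 49514249))) (BT.node (nat_lit 8193280) (BT.leaf (nat_lit 29981205)) (BT.leaf (nat_lit 24252933)))) (BT.node (nat_lit 8193472) (BT.node (nat_lit 8193408) (BT.leaf (nat_lit 30173445)) (BT.leaf (nat_lit 27973397))) (BT.node (nat_lit 8193536) (BT.leaf (nat_lit 27973401)) (BT.leaf (nat_lit 27973405))))))))) (BT.node (nat_lit 8197568) (BT.node (nat_lit 8195520) (BT.node (nat_lit 8194496) (BT.node (nat_lit 8193984) (BT.node (nat_lit 8193856) (BT.node (nat_lit 8193728) (BT.node (nat_lit 8193664) (BT.leaf (nat_lit 32763669)) (BT.leaf (nat_lit 32763673))) (BT.node (nat_lit 8193792) (BT.leaf (nat_lit 32763677)) (BT.leaf (nat_lit 35019273)))) (BT.node (nat_lit 8193926) (BT.node (nat_lit 8193920) (BT.leaf (nat_lit 48454925)) (BT.leaf (nat_lit 35019281))) (BT.node (nat_lit 8193927) (BT.leaf (nat_lit 655204)) (BT.leaf (nat_lit 655204))))) (BT.node (nat_lit 8194240) (BT.node (nat_lit 8194112) (BT.node (nat_lit 8194048) (BT.leaf (nat_lit 35019289)) (BT.leaf (nat_lit 35019293))) (BT.node (nat_lit 8194176) (BT.leaf (nat_lit 46363933)) (BT.leaf (nat_lit 29572361)))) (BT.node (nat_lit 8194368) (BT.node (nat_lit 8194304) (BT.leaf (nat_lit 29572365)) (BT.leaf (nat_lit 29572369))) (BT.node (nat_lit 8194432) (BT.leaf (nat_lit 29572377)) (BT.leaf (nat_lit 28821781)))))) (BT.node (nat_lit 8195008) (BT.node (nat_lit 8194752) (BT.node (nat_lit 8194624) (BT.node (nat_lit 8194560) (BT.leaf (nat_lit 38541589)) (BT.leaf (nat_lit 51740697))) (BT.node (nat_lit 8194688) (BT.leaf (nat_lit 45341985)) (BT.leaf (nat_lit 27458057)))) (BT.node (nat_lit 8194880) (BT.node (nat_lit 8194816) (BT.leaf (nat_lit 32778777)) (BT.leaf (nat_lit 24764181))) (BT.node (nat_lit 8194944) (BT.leaf (nat_lit 24772885)) (BT.leaf (nat_lit 41682209))))) (BT.node (nat_lit 8195264) (BT.node (nat_lit 8195136) (BT.node (nat_lit 8195072) (BT.leaf (nat_lit 29503009)) (BT.leaf (nat_lit 40716053))) (BT.node (nat_lit 8195200) (BT.leaf (nat_lit 28684305)) (BT.leaf (nat_lit 49634073)))) (BT.node (nat_lit 8195392) (BT.node (nat_lit 8195328) (BT.leaf (nat_lit 25990413)) (BT.leaf (nat_lit 24747797))) (BT.node (nat_lit 8195456) (BT.leaf (nat_lit 24764945)) (BT.leaf (nat_lit 46914077))))))) (BT.node (nat_lit 8196544) (BT.node (nat_lit 8196032) (BT.node (nat_lit 8195776) (BT.node (nat_lit 8195648) (BT.node (nat_lit 8195584) (BT.leaf (nat_lit 24764689)) (BT.leaf (nat_lit 25990425))) (BT.node (nat_lit 8195712) (BT.leaf (nat_lit 41354017)) (BT.leaf (nat_lit 25978393)))) (BT.node (nat_lit 8195904) (BT.node (nat_lit 8195840) (BT.leaf (nat_lit 25769761)) (BT.leaf (nat_lit 24764961))) (BT.node (nat_lit 8195968) (BT.leaf (nat_lit 24765217)) (BT.leaf (nat_lit 45415197))))) (BT.node (nat_lit 8196288) (BT.node (nat_lit 8196160) (BT.node (nat_lit 8196096) (BT.leaf (nat_lit 24765465)) (BT.leaf (nat_lit 28430097))) (BT.node (nat_lit 8196224) (BT.leaf (nat_lit 28430101)) (BT.leaf (nat_lit 31304213)))) (BT.node (nat_lit 8196416) (BT.node (nat_lit 8196352) (BT.leaf (nat_lit 32785437)) (BT.leaf (nat_lit 49636881))) (BT.node (nat_lit 8196480) (BT.leaf (nat_lit 47274517)) (BT.leaf (nat_lit 24767769)))))) (BT.node (nat_lit 8197056) (BT.node (nat_lit 8196800) (BT.node (nat_lit 8196672) (BT.node (nat_lit 8196608) (BT.leaf (nat_lit 24767773)) (BT.leaf (nat_lit 33029657))) (BT.node (nat_lit 8196736) (BT.leaf (nat_lit 49638945)) (BT.leaf (nat_lit 49543457)))) (BT.node (nat_lit 8196928) (BT.node (nat_lit 8196864) (BT.leaf (nat_lit 49639713)) (BT.leaf (nat_lit 52211725))) (BT.node (nat_lit 8196992) (BT.leaf (nat_lit 29256981)) (BT.leaf (nat_lit 29457425))))) (BT.node (nat_lit 8197312) (BT.node (nat_lit 8197184) (BT.node (nat_lit 8197120) (BT.leaf (nat_lit 49640737)) (BT.leaf (nat_lit 27913733))) (BT.node (nat_lit 8197248) (BT.leaf (nat_lit 48330509)) (BT.leaf (nat_lit 31747613)))) (BT.node (nat_lit 8197440) (BT.node (nat_lit 8197376) (BT.leaf (nat_lit 24767505)) (BT.leaf (nat_lit 31412745))) (BT.node (nat_lit 8197504) (BT.leaf (nat_lit 30899233)) (BT.leaf (nat_lit 46517281)))))))) (BT.node (nat_lit 8199616) (BT.node (nat_lit 8198592) (BT.node (nat_lit 8198080) (BT.node (nat_lit 8197824) (BT.node (nat_lit 8197696) (BT.node (nat_lit 8197632) (BT.leaf (nat_lit 31412761)) (BT.leaf (nat_lit 31412765))) (BT.node (nat_lit 8197760) (BT.leaf (nat_lit 49643033)) (BT.leaf (nat_lit 29623573)))) (BT.node (nat_lit 8197952) (BT.node (nat_lit 8197888) (BT.leaf (nat_lit 24695581)) (BT.leaf (nat_lit 38766853))) (BT.node (nat_lit 8198016) (BT.leaf (nat_lit 49643553)) (BT.leaf (nat_lit 24695577))))) (BT.node (nat_lit 8198336) (BT.node (nat_lit 8198208) (BT.node (nat_lit 8198144) (BT.leaf (nat_lit 28657169)) (BT.leaf (nat_lit 24769301))) (BT.node (nat_lit 8198272) (BT.leaf (nat_lit 43054113)) (BT.leaf (nat_lit 24756757)))) (BT.node (nat_lit 8198464) (BT.node (nat_lit 8198400) (BT.leaf (nat_lit 47516165)) (BT.leaf (nat_lit 28838149))) (BT.node (nat_lit 8198528) (BT.leaf (nat_lit 48993825)) (BT.leaf (nat_lit 28838161)))))) (BT.node (nat_lit 8199104) (BT.node (nat_lit 8198848) (BT.node (nat_lit 8198720) (BT.node (nat_lit 8198656) (BT.leaf (nat_lit 44968205)) (BT.leaf (nat_lit 24769565))) (BT.node (nat_lit 8198784) (BT.leaf (nat_lit 28951057)) (BT.leaf (nat_lit 30998037)))) (BT.node (nat_lit 8198976) (BT.node (nat_lit 8198912) (BT.leaf (nat_lit 30998545)) (BT.leaf (nat_lit 49648401))) (BT.node (nat_lit 8199040) (BT.leaf (nat_lit 35301905)) (BT.leaf (nat_lit 30374169))))) (BT.node (nat_lit 8199360) (BT.node (nat_lit 8199232) (BT.node (nat_lit 8199168) (BT.leaf (nat_lit 30374173)) (BT.leaf (nat_lit 43608857))) (BT.node (nat_lit 8199296) (BT.leaf (nat_lit 45763337)) (BT.leaf (nat_lit 31002393)))) (BT.node (nat_lit 8199488) (BT.node (nat_lit 8199424) (BT.leaf (nat_lit 31002397)) (BT.leaf (nat_lit 32670753))) (BT.node (nat_lit 8199552) (BT.leaf (nat_lit 46489621)) (BT.leaf (nat_lit 46489877))))))) (BT.node (nat_lit 8200640) (BT.node (nat_lit 8200128) (BT.node (nat_lit 8199872) (BT.node (nat_lit 8199744) (BT.node (nat_lit 8199680) (BT.leaf (nat_lit 30394389)) (BT.leaf (nat_lit 30394393))) (BT.node (nat_lit 8199808) (BT.leaf (nat_lit 30394397)) (BT.leaf (nat_lit 24772869)))) (BT.node (nat_lit 8200000) (BT.node (nat_lit 8199936) (BT.leaf (nat_lit 23147797)) (BT.leaf (nat_lit 32969761))) (BT.node (nat_lit 8200064) (BT.leaf (nat_lit 24772889)) (BT.leaf (nat_lit 41329165))))) (BT.node (nat_lit 8200384) (BT.node (nat_lit 8200256) (BT.node (nat_lit 8200192) (BT.leaf (nat_lit 24772893)) (BT.leaf (nat_lit 41433633))) (BT.node (nat_lit 8200320) (BT.leaf (nat_lit 49620233)) (BT.leaf (nat_lit 24773145)))) (BT.node (nat_lit 8200512) (BT.node (nat_lit 8200448) (BT.leaf (nat_lit 36400409)) (BT.leaf (nat_lit 32802317))) (BT.node (nat_lit 8200576) (BT.leaf (nat_lit 24773645)) (BT.leaf (nat_lit 24747541)))))) (BT.node (nat_lit 8201152) (BT.node (nat_lit 8200896) (BT.node (nat_lit 8200768) (BT.node (nat_lit 8200704) (BT.leaf (nat_lit 32802329)) (BT.leaf (nat_lit 34842905))) (BT.node (nat_lit 8200832) (BT.leaf (nat_lit 24773649)) (BT.leaf (nat_lit 49653257)))) (BT.node (nat_lit 8201024) (BT.node (nat_lit 8200960) (BT.leaf (nat_lit 25978381)) (BT.leaf (nat_lit 25780769))) (BT.node (nat_lit 8201088) (BT.leaf (nat_lit 29558305)) (BT.leaf (nat_lit 42793237))))) (BT.node (nat_lit 8201408) (BT.node (nat_lit 8201280) (BT.node (nat_lit 8201216) (BT.leaf (nat_lit 31921185)) (BT.leaf (nat_lit 32780297))) (BT.node (nat_lit 8201344) (BT.leaf (nat_lit 39918353)) (BT.leaf (nat_lit 24773913)))) (BT.node (nat_lit 8201536) (BT.node (nat_lit 8201472) (BT.leaf (nat_lit 38273045)) (BT.leaf (nat_lit 38273553))) (BT.node (nat_lit 8201600) (BT.leaf (nat_lit 29323537)) (BT.leaf (nat_lit 30979849)))))))))) (BT.node (nat_lit 8209856) (BT.node (nat_lit 8205760) (BT.node (nat_lit 8203712) (BT.node (nat_lit 8202688) (BT.node (nat_lit 8202176) (BT.node (nat_lit 8201920) (BT.node (nat_lit 8201792) (BT.node (nat_lit 8201728) (BT.leaf (nat_lit 30979857)) (BT.leaf (nat_lit 41506069))) (BT.node (nat_lit 8201856) (BT.leaf (nat_lit 44816133)) (BT.leaf (nat_lit 49096981)))) (BT.node (nat_lit 8202048) (BT.node (nat_lit 8201984) (BT.leaf (nat_lit 49655557)) (BT.leaf (nat_lit 25991441))) (BT.node (nat_lit 8202112) (BT.leaf (nat_lit 40171273)) (BT.leaf (nat_lit 38349329))))) (BT.node (nat_lit 8202432) (BT.node (nat_lit 8202304) (BT.node (nat_lit 8202240) (BT.leaf (nat_lit 40171289)) (BT.leaf (nat_lit 40171293))) (BT.node (nat_lit 8202368) (BT.leaf (nat_lit 27349529)) (BT.leaf (nat_lit 31029781)))) (BT.node (nat_lit 8202560) (BT.node (nat_lit 8202496) (BT.leaf (nat_lit 24774429)) (BT.leaf (nat_lit 25394717))) (BT.node (nat_lit 8202624) (BT.leaf (nat_lit 24578581)) (BT.leaf (nat_lit 38359317)))))) (BT.node (nat_lit 8203200) (BT.node (nat_lit 8202944) (BT.node (nat_lit 8202816) (BT.node (nat_lit 8202752) (BT.leaf (nat_lit 24774425)) (BT.leaf (nat_lit 27769617))) (BT.node (nat_lit 8202880) (BT.leaf (nat_lit 44309525)) (BT.leaf (nat_lit 42995233)))) (BT.node (nat_lit 8203072) (BT.node (nat_lit 8203008) (BT.leaf (nat_lit 40808965)) (BT.leaf (nat_lit 24268049))) (BT.node (nat_lit 8203136) (BT.leaf (nat_lit 49658389)) (BT.leaf (nat_lit 49736201))))) (BT.node (nat_lit 8203456) (BT.node (nat_lit 8203328) (BT.node (nat_lit 8203264) (BT.leaf (nat_lit 45759749)) (BT.leaf (nat_lit 45116181))) (BT.node (nat_lit 8203392) (BT.leaf (nat_lit 28675609)) (BT.leaf (nat_lit 28675613)))) (BT.node (nat_lit 8203584) (BT.node (nat_lit 8203520) (BT.leaf (nat_lit 48400645)) (BT.leaf (nat_lit 32501789))) (BT.node (nat_lit 8203648) (BT.leaf (nat_lit 31146769)) (BT.leaf (nat_lit 28614673))))))) (BT.node (nat_lit 8204736) (BT.node (nat_lit 8204224) (BT.node (nat_lit 8203968) (BT.node (nat_lit 8203840) (BT.node (nat_lit 8203776) (BT.leaf (nat_lit 50407957)) (BT.leaf (nat_lit 29782801))) (BT.node (nat_lit 8203904) (BT.leaf (nat_lit 29224981)) (BT.leaf (nat_lit 40960261)))) (BT.node (nat_lit 8204096) (BT.node (nat_lit 8204032) (BT.leaf (nat_lit 44225825)) (BT.leaf (nat_lit 32471573))) (BT.node (nat_lit 8204160) (BT.leaf (nat_lit 48226565)) (BT.leaf (nat_lit 27624725))))) (BT.node (nat_lit 8204480) (BT.node (nat_lit 8204352) (BT.node (nat_lit 8204288) (BT.leaf (nat_lit 46390041)) (BT.leaf (nat_lit 46390045))) (BT.node (nat_lit 8204416) (BT.leaf (nat_lit 28131857)) (BT.leaf (nat_lit 42843153)))) (BT.node (nat_lit 8204608) (BT.node (nat_lit 8204544) (BT.leaf (nat_lit 40262161)) (BT.leaf (nat_lit 49471257))) (BT.node (nat_lit 8204672) (BT.leaf (nat_lit 38604297)) (BT.leaf (nat_lit 48404769)))))) (BT.node (nat_lit 8205248) (BT.node (nat_lit 8204992) (BT.node (nat_lit 8204864) (BT.node (nat_lit 8204800) (BT.leaf (nat_lit 30987269)) (BT.leaf (nat_lit 30986757))) (BT.node (nat_lit 8204928) (BT.leaf (nat_lit 38282529)) (BT.leaf (nat_lit 30988577)))) (BT.node (nat_lit 8205120) (BT.node (nat_lit 8205056) (BT.leaf (nat_lit 30988321)) (BT.leaf (nat_lit 42537745))) (BT.node (nat_lit 8205184) (BT.leaf (nat_lit 49661713)) (BT.leaf (nat_lit 49662225))))) (BT.node (nat_lit 8205504) (BT.node (nat_lit 8205376) (BT.node (nat_lit 8205312) (BT.leaf (nat_lit 47680029)) (BT.leaf (nat_lit 39764745))) (BT.node (nat_lit 8205440) (BT.leaf (nat_lit 46021637)) (BT.leaf (nat_lit 43561733)))) (BT.node (nat_lit 8205632) (BT.node (nat_lit 8205568) (BT.leaf (nat_lit 49663505)) (BT.leaf (nat_lit 48563209))) (BT.node (nat_lit 8205696) (BT.leaf (nat_lit 46182425)) (BT.leaf (nat_lit 38022669)))))))) (BT.node (nat_lit 8207808) (BT.node (nat_lit 8206784) (BT.node (nat_lit 8206272) (BT.node (nat_lit 8206016) (BT.node (nat_lit 8205888) (BT.node (nat_lit 8205824) (BT.leaf (nat_lit 49664785)) (BT.leaf (nat_lit 42280729))) (BT.node (nat_lit 8205952) (BT.leaf (nat_lit 42280733)) (BT.leaf (nat_lit 30998561)))) (BT.node (nat_lit 8206144) (BT.node (nat_lit 8206080) (BT.leaf (nat_lit 24782101)) (BT.leaf (nat_lit 24881157))) (BT.node (nat_lit 8206208) (BT.leaf (nat_lit 24782361)) (BT.leaf (nat_lit 24782617))))) (BT.node (nat_lit 8206528) (BT.node (nat_lit 8206400) (BT.node (nat_lit 8206336) (BT.leaf (nat_lit 24881169)) (BT.leaf (nat_lit 24782365))) (BT.node (nat_lit 8206464) (BT.leaf (nat_lit 24782621)) (BT.leaf (nat_lit 35392529)))) (BT.node (nat_lit 8206656) (BT.node (nat_lit 8206592) (BT.leaf (nat_lit 49665545)) (BT.leaf (nat_lit 49665813))) (BT.node (nat_lit 8206720) (BT.leaf (nat_lit 38307589)) (BT.leaf (nat_lit 46498081)))))) (BT.node (nat_lit 8207296) (BT.node (nat_lit 8207040) (BT.node (nat_lit 8206912) (BT.node (nat_lit 8206848) (BT.leaf (nat_lit 49667105)) (BT.leaf (nat_lit 49667617))) (BT.node (nat_lit 8206976) (BT.leaf (nat_lit 49668129)) (BT.leaf (nat_lit 49668385)))) (BT.node (nat_lit 8207168) (BT.node (nat_lit 8207104) (BT.leaf (nat_lit 47856149)) (BT.leaf (nat_lit 48056073))) (BT.node (nat_lit 8207232) (BT.leaf (nat_lit 32338709)) (BT.leaf (nat_lit 29594905))))) (BT.node (nat_lit 8207552) (BT.node (nat_lit 8207424) (BT.node (nat_lit 8207360) (BT.leaf (nat_lit 38973457)) (BT.leaf (nat_lit 49345049))) (BT.node (nat_lit 8207488) (BT.leaf (nat_lit 31005445)) (BT.leaf (nat_lit 49464349)))) (BT.node (nat_lit 8207680) (BT.node (nat_lit 8207616) (BT.leaf (nat_lit 27304197)) (BT.leaf (nat_lit 45068833))) (BT.node (nat_lit 8207744) (BT.leaf (nat_lit 28964113)) (BT.leaf (nat_lit 45228817))))))) (BT.node (nat_lit 8208832) (BT.node (nat_lit 8208320) (BT.node (nat_lit 8208064) (BT.node (nat_lit 8207936) (BT.node (nat_lit 8207872) (BT.leaf (nat_lit 42106141)) (BT.leaf (nat_lit 40622369))) (BT.node (nat_lit 8208000) (BT.leaf (nat_lit 43577889)) (BT.leaf (nat_lit 41569569)))) (BT.node (nat_lit 8208192) (BT.node (nat_lit 8208128) (BT.leaf (nat_lit 38714901)) (BT.leaf (nat_lit 47550753))) (BT.node (nat_lit 8208256) (BT.leaf (nat_lit 49345813)) (BT.leaf (nat_lit 40206861))))) (BT.node (nat_lit 8208576) (BT.node (nat_lit 8208448) (BT.node (nat_lit 8208384) (BT.leaf (nat_lit 31099405)) (BT.leaf (nat_lit 31099409))) (BT.node (nat_lit 8208512) (BT.leaf (nat_lit 33020693)) (BT.leaf (nat_lit 46631185)))) (BT.node (nat_lit 8208704) (BT.node (nat_lit 8208640) (BT.leaf (nat_lit 31355925)) (BT.leaf (nat_lit 49671445))) (BT.node (nat_lit 8208768) (BT.leaf (nat_lit 49671713)) (BT.leaf (nat_lit 42318341)))))) (BT.node (nat_lit 8209344) (BT.node (nat_lit 8209088) (BT.node (nat_lit 8208960) (BT.node (nat_lit 8208896) (BT.leaf (nat_lit 27587349)) (BT.leaf (nat_lit 38099225))) (BT.node (nat_lit 8209024) (BT.leaf (nat_lit 48418081)) (BT.leaf (nat_lit 47579681)))) (BT.node (nat_lit 8209216) (BT.node (nat_lit 8209152) (BT.leaf (nat_lit 32577293)) (BT.leaf (nat_lit 29176085))) (BT.node (nat_lit 8209280) (BT.leaf (nat_lit 29630241)) (BT.leaf (nat_lit 32545057))))) (BT.node (nat_lit 8209600) (BT.node (nat_lit 8209472) (BT.node (nat_lit 8209408) (BT.leaf (nat_lit 47570209)) (BT.leaf (nat_lit 30897949))) (BT.node (nat_lit 8209536) (BT.leaf (nat_lit 41801489)) (BT.leaf (nat_lit 49672221)))) (BT.node (nat_lit 8209728) (BT.node (nat_lit 8209664) (BT.leaf (nat_lit 49474569)) (BT.leaf (nat_lit 49672461))) (BT.node (nat_lit 8209792) (BT.leaf (nat_lit 29507097)) (BT.leaf (nat_lit 49672725))))))))) (BT.node (nat_lit 8213952) (BT.node (nat_lit 8211904) (BT.node (nat_lit 8210880) (BT.node (nat_lit 8210368) (BT.node (nat_lit 8210112) (BT.node (nat_lit 8209984) (BT.node (nat_lit 8209920) (BT.leaf (nat_lit 33824525)) (BT.leaf (nat_lit 47132181))) (BT.node (nat_lit 8210048) (BT.leaf (nat_lit 49672981)) (BT.leaf (nat_lit 30241797)))) (BT.node (nat_lit 8210240) (BT.node (nat_lit 8210176) (BT.leaf (nat_lit 40233493)) (BT.leaf (nat_lit 49673489))) (BT.node (nat_lit 8210304) (BT.leaf (nat_lit 32565001)) (BT.leaf (nat_lit 34072353))))) (BT.node (nat_lit 8210624) (BT.node (nat_lit 8210496) (BT.node (nat_lit 8210432) (BT.leaf (nat_lit 47608845)) (BT.leaf (nat_lit 23260181))) (BT.node (nat_lit 8210560) (BT.leaf (nat_lit 32841753)) (BT.leaf (nat_lit 41093129)))) (BT.node (nat_lit 8210752) (BT.node (nat_lit 8210688) (BT.leaf (nat_lit 32841741)) (BT.leaf (nat_lit 24879377))) (BT.node (nat_lit 8210816) (BT.leaf (nat_lit 24879393)) (BT.leaf (nat_lit 24606229)))))) (BT.node (nat_lit 8211392) (BT.node (nat_lit 8211136) (BT.node (nat_lit 8211008) (BT.node (nat_lit 8210944) (BT.leaf (nat_lit 28623905)) (BT.leaf (nat_lit 28119329))) (BT.node (nat_lit 8211072) (BT.leaf (nat_lit 28122133)) (BT.leaf (nat_lit 43075845)))) (BT.node (nat_lit 8211264) (BT.node (nat_lit 8211200) (BT.leaf (nat_lit 32844313)) (BT.leaf (nat_lit 28275993))) (BT.node (nat_lit 8211328) (BT.leaf (nat_lit 41830433)) (BT.leaf (nat_lit 39877637))))) (BT.node (nat_lit 8211648) (BT.node (nat_lit 8211520) (BT.node (nat_lit 8211456) (BT.leaf (nat_lit 32845337)) (BT.leaf (nat_lit 49676577))) (BT.node (nat_lit 8211584) (BT.leaf (nat_lit 24787221)) (BT.leaf (nat_lit 38646293)))) (BT.node (nat_lit 8211776) (BT.node (nat_lit 8211712) (BT.leaf (nat_lit 27335185)) (BT.leaf (nat_lit 24787473))) (BT.node (nat_lit 8211840) (BT.leaf (nat_lit 38320161)) (BT.leaf (nat_lit 43517713))))))) (BT.node (nat_lit 8212928) (BT.node (nat_lit 8212416) (BT.node (nat_lit 8212160) (BT.node (nat_lit 8212032) (BT.node (nat_lit 8211968) (BT.leaf (nat_lit 41623073)) (BT.leaf (nat_lit 42182433))) (BT.node (nat_lit 8212096) (BT.leaf (nat_lit 30160901)) (BT.leaf (nat_lit 46059025)))) (BT.node (nat_lit 8212288) (BT.node (nat_lit 8212224) (BT.leaf (nat_lit 46058769)) (BT.leaf (nat_lit 30160921))) (BT.node (nat_lit 8212352) (BT.leaf (nat_lit 47555845)) (BT.leaf (nat_lit 46058513))))) (BT.node (nat_lit 8212672) (BT.node (nat_lit 8212544) (BT.node (nat_lit 8212480) (BT.leaf (nat_lit 29132049)) (BT.leaf (nat_lit 25744401))) (BT.node (nat_lit 8212608) (BT.leaf (nat_lit 30362897)) (BT.leaf (nat_lit 32518941)))) (BT.node (nat_lit 8212800) (BT.node (nat_lit 8212736) (BT.leaf (nat_lit 49443101)) (BT.leaf (nat_lit 46061333))) (BT.node (nat_lit 8212864) (BT.leaf (nat_lit 40076809)) (BT.leaf (nat_lit 30015509)))))) (BT.node (nat_lit 8213440) (BT.node (nat_lit 8213184) (BT.node (nat_lit 8213056) (BT.node (nat_lit 8212992) (BT.leaf (nat_lit 29913633)) (BT.leaf (nat_lit 24565521))) (BT.node (nat_lit 8213120) (BT.leaf (nat_lit 42035737)) (BT.leaf (nat_lit 42035741)))) (BT.node (nat_lit 8213312) (BT.node (nat_lit 8213248) (BT.leaf (nat_lit 24619801)) (BT.leaf (nat_lit 24126753))) (BT.node (nat_lit 8213376) (BT.leaf (nat_lit 42751237)) (BT.leaf (nat_lit 39632157))))) (BT.node (nat_lit 8213696) (BT.node (nat_lit 8213568) (BT.node (nat_lit 8213504) (BT.leaf (nat_lit 32610825)) (BT.leaf (nat_lit 32857093))) (BT.node (nat_lit 8213632) (BT.leaf (nat_lit 25998869)) (BT.leaf (nat_lit 38674197)))) (BT.node (nat_lit 8213824) (BT.node (nat_lit 8213760) (BT.leaf (nat_lit 49680417)) (BT.leaf (nat_lit 43460613))) (BT.node (nat_lit 8213888) (BT.leaf (nat_lit 32609301)) (BT.leaf (nat_lit 32855305)))))))) (BT.node (nat_lit 8216000) (BT.node (nat_lit 8214976) (BT.node (nat_lit 8214464) (BT.node (nat_lit 8214208) (BT.node (nat_lit 8214080) (BT.node (nat_lit 8214016) (BT.leaf (nat_lit 49680673)) (BT.leaf (nat_lit 49680929))) (BT.node (nat_lit 8214144) (BT.leaf (nat_lit 38258453)) (BT.leaf (nat_lit 24793873)))) (BT.node (nat_lit 8214336) (BT.node (nat_lit 8214272) (BT.leaf (nat_lit 42754309)) (BT.leaf (nat_lit 40580385))) (BT.node (nat_lit 8214400) (BT.leaf (nat_lit 37393685)) (BT.leaf (nat_lit 28826393))))) (BT.node (nat_lit 8214720) (BT.node (nat_lit 8214592) (BT.node (nat_lit 8214528) (BT.leaf (nat_lit 32329489)) (BT.leaf (nat_lit 24794385))) (BT.node (nat_lit 8214656) (BT.leaf (nat_lit 30968593)) (BT.leaf (nat_lit 46473493)))) (BT.node (nat_lit 8214848) (BT.node (nat_lit 8214784) (BT.leaf (nat_lit 38282265)) (BT.leaf (nat_lit 31460885))) (BT.node (nat_lit 8214912) (BT.leaf (nat_lit 31460889)) (BT.leaf (nat_lit 31460893)))))) (BT.node (nat_lit 8215488) (BT.node (nat_lit 8215232) (BT.node (nat_lit 8215104) (BT.node (nat_lit 8215040) (BT.leaf (nat_lit 49351181)) (BT.leaf (nat_lit 38429701))) (BT.node (nat_lit 8215168) (BT.leaf (nat_lit 50763281)) (BT.leaf (nat_lit 49351445)))) (BT.node (nat_lit 8215360) (BT.node (nat_lit 8215296) (BT.leaf (nat_lit 49684757)) (BT.leaf (nat_lit 49684765))) (BT.node (nat_lit 8215424) (BT.leaf (nat_lit 49685793)) (BT.leaf (nat_lit 28632073))))) (BT.node (nat_lit 8215744) (BT.node (nat_lit 8215616) (BT.node (nat_lit 8215552) (BT.leaf (nat_lit 46080533)) (BT.leaf (nat_lit 28632089))) (BT.node (nat_lit 8215680) (BT.leaf (nat_lit 38318613)) (BT.leaf (nat_lit 24796433)))) (BT.node (nat_lit 8215872) (BT.node (nat_lit 8215808) (BT.leaf (nat_lit 24657681)) (BT.leaf (nat_lit 28454681))) (BT.node (nat_lit 8215936) (BT.leaf (nat_lit 28454685)) (BT.leaf (nat_lit 23748369))))))) (BT.node (nat_lit 8217024) (BT.node (nat_lit 8216512) (BT.node (nat_lit 8216256) (BT.node (nat_lit 8216128) (BT.node (nat_lit 8216064) (BT.leaf (nat_lit 28144673)) (BT.leaf (nat_lit 30954529))) (BT.node (nat_lit 8216192) (BT.leaf (nat_lit 43877637)) (BT.leaf (nat_lit 49489949)))) (BT.node (nat_lit 8216384) (BT.node (nat_lit 8216320) (BT.leaf (nat_lit 44881429)) (BT.leaf (nat_lit 44880149))) (BT.node (nat_lit 8216448) (BT.leaf (nat_lit 24797457)) (BT.leaf (nat_lit 42287109))))) (BT.node (nat_lit 8216768) (BT.node (nat_lit 8216640) (BT.node (nat_lit 8216576) (BT.leaf (nat_lit 49690389)) (BT.leaf (nat_lit 49690645))) (BT.node (nat_lit 8216704) (BT.leaf (nat_lit 29037829)) (BT.leaf (nat_lit 31705117)))) (BT.node (nat_lit 8216896) (BT.node (nat_lit 8216832) (BT.leaf (nat_lit 49690913)) (BT.leaf (nat_lit 32081429))) (BT.node (nat_lit 8216960) (BT.leaf (nat_lit 40102165)) (BT.leaf (nat_lit 49692685)))))) (BT.node (nat_lit 8217536) (BT.node (nat_lit 8217280) (BT.node (nat_lit 8217152) (BT.node (nat_lit 8217088) (BT.leaf (nat_lit 44952085)) (BT.leaf (nat_lit 49128465))) (BT.node (nat_lit 8217216) (BT.leaf (nat_lit 30581785)) (BT.leaf (nat_lit 35108621)))) (BT.node (nat_lit 8217408) (BT.node (nat_lit 8217344) (BT.leaf (nat_lit 29058057)) (BT.leaf (nat_lit 28316949))) (BT.node (nat_lit 8217472) (BT.leaf (nat_lit 28024337)) (BT.leaf (nat_lit 31963161))))) (BT.node (nat_lit 8217792) (BT.node (nat_lit 8217664) (BT.node (nat_lit 8217600) (BT.leaf (nat_lit 31865609)) (BT.leaf (nat_lit 29589025))) (BT.node (nat_lit 8217728) (BT.leaf (nat_lit 31041041)) (BT.leaf (nat_lit 39906837)))) (BT.node (nat_lit 8217920) (BT.node (nat_lit 8217856) (BT.leaf (nat_lit 23971345)) (BT.leaf (nat_lit 30124293))) (BT.node (nat_lit 8217984) (BT.leaf (nat_lit 24789265)) (BT.leaf (nat_lit 35238945))))))))))) (BT.node (nat_lit 8234432) (BT.node (nat_lit 8226240) (BT.node (nat_lit 8222144) (BT.node (nat_lit 8220096) (BT.node (nat_lit 8219072) (BT.node (nat_lit 8218560) (BT.node (nat_lit 8218304) (BT.node (nat_lit 8218176) (BT.node (nat_lit 8218112) (BT.leaf (nat_lit 31186445)) (BT.leaf (nat_lit 24560661))) (BT.node (nat_lit 8218240) (BT.leaf (nat_lit 31186465)) (BT.leaf (nat_lit 33880857)))) (BT.node (nat_lit 8218432) (BT.node (nat_lit 8218368) (BT.leaf (nat_lit 44857361)) (BT.leaf (nat_lit 31186457))) (BT.node (nat_lit 8218496) (BT.leaf (nat_lit 31186461)) (BT.leaf (nat_lit 39995397))))) (BT.node (nat_lit 8218816) (BT.node (nat_lit 8218688) (BT.node (nat_lit 8218624) (BT.leaf (nat_lit 41758241)) (BT.leaf (nat_lit 49698325))) (BT.node (nat_lit 8218752) (BT.leaf (nat_lit 43080481)) (BT.leaf (nat_lit 46108937)))) (BT.node (nat_lit 8218944) (BT.node (nat_lit 8218880) (BT.leaf (nat_lit 46109193)) (BT.leaf (nat_lit 49700113))) (BT.node (nat_lit 8219008) (BT.leaf (nat_lit 24804113)) (BT.leaf (nat_lit 43080473)))))) (BT.node (nat_lit 8219584) (BT.node (nat_lit 8219328) (BT.node (nat_lit 8219200) (BT.node (nat_lit 8219136) (BT.leaf (nat_lit 47056393)) (BT.leaf (nat_lit 33914901))) (BT.node (nat_lit 8219264) (BT.leaf (nat_lit 29276693)) (BT.leaf (nat_lit 49392161)))) (BT.node (nat_lit 8219456) (BT.node (nat_lit 8219392) (BT.leaf (nat_lit 49702433)) (BT.leaf (nat_lit 24805905))) (BT.node (nat_lit 8219520) (BT.leaf (nat_lit 41901069)) (BT.leaf (nat_lit 24857373))))) (BT.node (nat_lit 8219840) (BT.node (nat_lit 8219712) (BT.node (nat_lit 8219648) (BT.leaf (nat_lit 49703445)) (BT.leaf (nat_lit 27927305))) (BT.node (nat_lit 8219776) (BT.leaf (nat_lit 34393109)) (BT.leaf (nat_lit 23644949)))) (BT.node (nat_lit 8219968) (BT.node (nat_lit 8219904) (BT.leaf (nat_lit 32692513)) (BT.leaf (nat_lit 49694745))) (BT.node (nat_lit 8220032) (BT.leaf (nat_lit 40369949)) (BT.leaf (nat_lit 43154705))))))) (BT.node (nat_lit 8221120) (BT.node (nat_lit 8220608) (BT.node (nat_lit 8220352) (BT.node (nat_lit 8220224) (BT.node (nat_lit 8220160) (BT.leaf (nat_lit 34216469)) (BT.leaf (nat_lit 28920593))) (BT.node (nat_lit 8220288) (BT.leaf (nat_lit 29699857)) (BT.leaf (nat_lit 49706769)))) (BT.node (nat_lit 8220480) (BT.node (nat_lit 8220416) (BT.leaf (nat_lit 32694557)) (BT.leaf (nat_lit 49707289))) (BT.node (nat_lit 8220544) (BT.leaf (nat_lit 24823825)) (BT.leaf (nat_lit 26006805))))) (BT.node (nat_lit 8220864) (BT.node (nat_lit 8220736) (BT.node (nat_lit 8220672) (BT.leaf (nat_lit 35120405)) (BT.leaf (nat_lit 41329413))) (BT.node (nat_lit 8220800) (BT.leaf (nat_lit 32546337)) (BT.leaf (nat_lit 40315681)))) (BT.node (nat_lit 8220992) (BT.node (nat_lit 8220928) (BT.leaf (nat_lit 28367893)) (BT.leaf (nat_lit 33564961))) (BT.node (nat_lit 8221056) (BT.leaf (nat_lit 33564705)) (BT.leaf (nat_lit 48708381)))))) (BT.node (nat_lit 8221632) (BT.node (nat_lit 8221376) (BT.node (nat_lit 8221248) (BT.node (nat_lit 8221184) (BT.leaf (nat_lit 48705309)) (BT.leaf (nat_lit 48705289))) (BT.node (nat_lit 8221312) (BT.leaf (nat_lit 32884761)) (BT.leaf (nat_lit 46473237)))) (BT.node (nat_lit 8221504) (BT.node (nat_lit 8221440) (BT.leaf (nat_lit 27942421)) (BT.leaf (nat_lit 32048665))) (BT.node (nat_lit 8221568) (BT.leaf (nat_lit 32049177)) (BT.leaf (nat_lit 25445393))))) (BT.node (nat_lit 8221888) (BT.node (nat_lit 8221760) (BT.node (nat_lit 8221696) (BT.leaf (nat_lit 29130269)) (BT.leaf (nat_lit 29049877))) (BT.node (nat_lit 8221824) (BT.leaf (nat_lit 31212053)) (BT.leaf (nat_lit 27447577)))) (BT.node (nat_lit 8222016) (BT.node (nat_lit 8221952) (BT.leaf (nat_lit 33743893)) (BT.leaf (nat_lit 24819221))) (BT.node (nat_lit 8222080) (BT.leaf (nat_lit 30050577)) (BT.leaf (nat_lit 35338777)))))))) (BT.node (nat_lit 8224192) (BT.node (nat_lit 8223168) (BT.node (nat_lit 8222656) (BT.node (nat_lit 8222400) (BT.node (nat_lit 8222272) (BT.node (nat_lit 8222208) (BT.leaf (nat_lit 24816913)) (BT.leaf (nat_lit 49709833))) (BT.node (nat_lit 8222336) (BT.leaf (nat_lit 48947741)) (BT.leaf (nat_lit 29391381)))) (BT.node (nat_lit 8222528) (BT.node (nat_lit 8222464) (BT.leaf (nat_lit 30054661)) (BT.leaf (nat_lit 24810269))) (BT.node (nat_lit 8222592) (BT.leaf (nat_lit 30054677)) (BT.leaf (nat_lit 31559953))))) (BT.node (nat_lit 8222912) (BT.node (nat_lit 8222784) (BT.node (nat_lit 8222720) (BT.leaf (nat_lit 34180893)) (BT.leaf (nat_lit 24819217))) (BT.node (nat_lit 8222848) (BT.leaf (nat_lit 46472481)) (BT.leaf (nat_lit 49710869)))) (BT.node (nat_lit 8223040) (BT.node (nat_lit 8222976) (BT.leaf (nat_lit 46127621)) (BT.leaf (nat_lit 48575521))) (BT.node (nat_lit 8223104) (BT.leaf (nat_lit 24819473)) (BT.leaf (nat_lit 32977925)))))) (BT.node (nat_lit 8223680) (BT.node (nat_lit 8223424) (BT.node (nat_lit 8223296) (BT.node (nat_lit 8223232) (BT.leaf (nat_lit 31989785)) (BT.leaf (nat_lit 44636961))) (BT.node (nat_lit 8223360) (BT.leaf (nat_lit 33845513)) (BT.leaf (nat_lit 33886221)))) (BT.node (nat_lit 8223552) (BT.node (nat_lit 8223488) (BT.leaf (nat_lit 32224777)) (BT.leaf (nat_lit 29752349))) (BT.node (nat_lit 8223616) (BT.leaf (nat_lit 33471505)) (BT.leaf (nat_lit 49712917))))) (BT.node (nat_lit 8223936) (BT.node (nat_lit 8223808) (BT.node (nat_lit 8223744) (BT.leaf (nat_lit 32894489)) (BT.leaf (nat_lit 49713169))) (BT.node (nat_lit 8223872) (BT.leaf (nat_lit 38155033)) (BT.leaf (nat_lit 32012549)))) (BT.node (nat_lit 8224064) (BT.node (nat_lit 8224000) (BT.leaf (nat_lit 33116437)) (BT.leaf (nat_lit 24400929))) (BT.node (nat_lit 8224128) (BT.leaf (nat_lit 49713429)) (BT.leaf (nat_lit 49713949))))))) (BT.node (nat_lit 8225216) (BT.node (nat_lit 8224704) (BT.node (nat_lit 8224448) (BT.node (nat_lit 8224320) (BT.node (nat_lit 8224256) (BT.leaf (nat_lit 49714197)) (BT.leaf (nat_lit 47148065))) (BT.node (nat_lit 8224384) (BT.leaf (nat_lit 32050965)) (BT.leaf (nat_lit 26442017)))) (BT.node (nat_lit 8224576) (BT.node (nat_lit 8224512) (BT.leaf (nat_lit 28498705)) (BT.leaf (nat_lit 31537157))) (BT.node (nat_lit 8224640) (BT.leaf (nat_lit 48966677)) (BT.leaf (nat_lit 48966681))))) (BT.node (nat_lit 8224960) (BT.node (nat_lit 8224832) (BT.node (nat_lit 8224768) (BT.leaf (nat_lit 48966685)) (BT.leaf (nat_lit 48283921))) (BT.node (nat_lit 8224896) (BT.leaf (nat_lit 41122829)) (BT.leaf (nat_lit 39575581)))) (BT.node (nat_lit 8225088) (BT.node (nat_lit 8225024) (BT.leaf (nat_lit 42083605)) (BT.leaf (nat_lit 48291601))) (BT.node (nat_lit 8225152) (BT.leaf (nat_lit 28896801)) (BT.leaf (nat_lit 24824337)))))) (BT.node (nat_lit 8225728) (BT.node (nat_lit 8225472) (BT.node (nat_lit 8225344) (BT.node (nat_lit 8225280) (BT.leaf (nat_lit 40174369)) (BT.leaf (nat_lit 32372249))) (BT.node (nat_lit 8225408) (BT.leaf (nat_lit 32372253)) (BT.leaf (nat_lit 32223493)))) (BT.node (nat_lit 8225600) (BT.node (nat_lit 8225536) (BT.leaf (nat_lit 44972041)) (BT.leaf (nat_lit 29708049))) (BT.node (nat_lit 8225664) (BT.leaf (nat_lit 29707537)) (BT.leaf (nat_lit 44972057))))) (BT.node (nat_lit 8225984) (BT.node (nat_lit 8225856) (BT.node (nat_lit 8225792) (BT.leaf (nat_lit 41621785)) (BT.leaf (nat_lit 49717273))) (BT.node (nat_lit 8225920) (BT.leaf (nat_lit 40292897)) (BT.leaf (nat_lit 32903965)))) (BT.node (nat_lit 8226112) (BT.node (nat_lit 8226048) (BT.leaf (nat_lit 41621773)) (BT.leaf (nat_lit 49717789))) (BT.node (nat_lit 8226176) (BT.leaf (nat_lit 29333777)) (BT.leaf (nat_lit 32475153))))))))) (BT.node (nat_lit 8230336) (BT.node (nat_lit 8228288) (BT.node (nat_lit 8227264) (BT.node (nat_lit 8226752) (BT.node (nat_lit 8226496) (BT.node (nat_lit 8226368) (BT.node (nat_lit 8226304) (BT.leaf (nat_lit 32911621)) (BT.leaf (nat_lit 24825361))) (BT.node (nat_lit 8226432) (BT.leaf (nat_lit 34060813)) (BT.leaf (nat_lit 40299269)))) (BT.node (nat_lit 8226624) (BT.node (nat_lit 8226560) (BT.leaf (nat_lit 40302113)) (BT.leaf (nat_lit 29153297))) (BT.node (nat_lit 8226688) (BT.leaf (nat_lit 22551825)) (BT.leaf (nat_lit 41744913))))) (BT.node (nat_lit 8227008) (BT.node (nat_lit 8226880) (BT.node (nat_lit 8226816) (BT.leaf (nat_lit 35040281)) (BT.leaf (nat_lit 35040285))) (BT.node (nat_lit 8226944) (BT.leaf (nat_lit 35350537)) (BT.leaf (nat_lit 46222357)))) (BT.node (nat_lit 8227136) (BT.node (nat_lit 8227072) (BT.leaf (nat_lit 25396253)) (BT.leaf (nat_lit 28071957))) (BT.node (nat_lit 8227200) (BT.leaf (nat_lit 28071961)) (BT.leaf (nat_lit 28071965)))))) (BT.node (nat_lit 8227776) (BT.node (nat_lit 8227520) (BT.node (nat_lit 8227392) (BT.node (nat_lit 8227328) (BT.leaf (nat_lit 30817053)) (BT.leaf (nat_lit 32909597))) (BT.node (nat_lit 8227456) (BT.leaf (nat_lit 30816529)) (BT.leaf (nat_lit 30787341)))) (BT.node (nat_lit 8227648) (BT.node (nat_lit 8227584) (BT.leaf (nat_lit 38901273)) (BT.leaf (nat_lit 33301021))) (BT.node (nat_lit 8227712) (BT.leaf (nat_lit 45438225)) (BT.leaf (nat_lit 41901073))))) (BT.node (nat_lit 8228032) (BT.node (nat_lit 8227904) (BT.node (nat_lit 8227840) (BT.leaf (nat_lit 29469201)) (BT.leaf (nat_lit 27295265))) (BT.node (nat_lit 8227968) (BT.leaf (nat_lit 49721105)) (BT.leaf (nat_lit 25422353)))) (BT.node (nat_lit 8228160) (BT.node (nat_lit 8228096) (BT.leaf (nat_lit 32912905)) (BT.leaf (nat_lit 30334485))) (BT.node (nat_lit 8228224) (BT.leaf (nat_lit 40226337)) (BT.leaf (nat_lit 27825429))))))) (BT.node (nat_lit 8229312) (BT.node (nat_lit 8228800) (BT.node (nat_lit 8228544) (BT.node (nat_lit 8228416) (BT.node (nat_lit 8228352) (BT.leaf (nat_lit 35859729)) (BT.leaf (nat_lit 45286917))) (BT.node (nat_lit 8228480) (BT.leaf (nat_lit 24830493)) (BT.leaf (nat_lit 24831773)))) (BT.node (nat_lit 8228672) (BT.node (nat_lit 8228608) (BT.leaf (nat_lit 29383449)) (BT.leaf (nat_lit 24831505))) (BT.node (nat_lit 8228736) (BT.leaf (nat_lit 41637921)) (BT.leaf (nat_lit 31140101))))) (BT.node (nat_lit 8229056) (BT.node (nat_lit 8228928) (BT.node (nat_lit 8228864) (BT.leaf (nat_lit 37870597)) (BT.leaf (nat_lit 49723425))) (BT.node (nat_lit 8228992) (BT.leaf (nat_lit 47830041)) (BT.leaf (nat_lit 47830045)))) (BT.node (nat_lit 8229184) (BT.node (nat_lit 8229120) (BT.leaf (nat_lit 35015709)) (BT.leaf (nat_lit 23807005))) (BT.node (nat_lit 8229248) (BT.leaf (nat_lit 30706965)) (BT.leaf (nat_lit 39854089)))))) (BT.node (nat_lit 8229824) (BT.node (nat_lit 8229568) (BT.node (nat_lit 8229440) (BT.node (nat_lit 8229376) (BT.leaf (nat_lit 39927585)) (BT.leaf (nat_lit 41026337))) (BT.node (nat_lit 8229504) (BT.leaf (nat_lit 46440209)) (BT.leaf (nat_lit 29687813)))) (BT.node (nat_lit 8229696) (BT.node (nat_lit 8229632) (BT.leaf (nat_lit 32909857)) (BT.leaf (nat_lit 37836569))) (BT.node (nat_lit 8229760) (BT.leaf (nat_lit 28145669)) (BT.leaf (nat_lit 32026125))))) (BT.node (nat_lit 8230080) (BT.node (nat_lit 8229952) (BT.node (nat_lit 8229888) (BT.leaf (nat_lit 24834833)) (BT.leaf (nat_lit 49724193))) (BT.node (nat_lit 8230016) (BT.leaf (nat_lit 49723937)) (BT.leaf (nat_lit 28645645)))) (BT.node (nat_lit 8230208) (BT.node (nat_lit 8230144) (BT.leaf (nat_lit 29031685)) (BT.leaf (nat_lit 45021461))) (BT.node (nat_lit 8230272) (BT.leaf (nat_lit 43651077)) (BT.leaf (nat_lit 29444109)))))))) (BT.node (nat_lit 8232384) (BT.node (nat_lit 8231360) (BT.node (nat_lit 8230848) (BT.node (nat_lit 8230592) (BT.node (nat_lit 8230464) (BT.node (nat_lit 8230400) (BT.leaf (nat_lit 34286341)) (BT.leaf (nat_lit 49725985))) (BT.node (nat_lit 8230528) (BT.leaf (nat_lit 33000481)) (BT.leaf (nat_lit 49726485)))) (BT.node (nat_lit 8230720) (BT.node (nat_lit 8230656) (BT.leaf (nat_lit 30783265)) (BT.leaf (nat_lit 49588997))) (BT.node (nat_lit 8230784) (BT.leaf (nat_lit 39564049)) (BT.leaf (nat_lit 30956569))))) (BT.node (nat_lit 8231104) (BT.node (nat_lit 8230976) (BT.node (nat_lit 8230912) (BT.leaf (nat_lit 30956573)) (BT.leaf (nat_lit 30339361))) (BT.node (nat_lit 8231040) (BT.leaf (nat_lit 29482017)) (BT.leaf (nat_lit 41722373)))) (BT.node (nat_lit 8231232) (BT.node (nat_lit 8231168) (BT.leaf (nat_lit 49728281)) (BT.leaf (nat_lit 49728529))) (BT.node (nat_lit 8231296) (BT.leaf (nat_lit 35301649)) (BT.leaf (nat_lit 49728797)))))) (BT.node (nat_lit 8231872) (BT.node (nat_lit 8231616) (BT.node (nat_lit 8231488) (BT.node (nat_lit 8231424) (BT.leaf (nat_lit 31061509)) (BT.leaf (nat_lit 24837401))) (BT.node (nat_lit 8231552) (BT.leaf (nat_lit 32637969)) (BT.leaf (nat_lit 31830289)))) (BT.node (nat_lit 8231744) (BT.node (nat_lit 8231680) (BT.leaf (nat_lit 46180113)) (BT.leaf (nat_lit 28854809))) (BT.node (nat_lit 8231808) (BT.leaf (nat_lit 28854813)) (BT.leaf (nat_lit 40868613))))) (BT.node (nat_lit 8232128) (BT.node (nat_lit 8232000) (BT.node (nat_lit 8231936) (BT.leaf (nat_lit 30655521)) (BT.leaf (nat_lit 49729301))) (BT.node (nat_lit 8232064) (BT.leaf (nat_lit 50606365)) (BT.leaf (nat_lit 36217109)))) (BT.node (nat_lit 8232256) (BT.node (nat_lit 8232192) (BT.leaf (nat_lit 49730325)) (BT.leaf (nat_lit 31320861))) (BT.node (nat_lit 8232320) (BT.leaf (nat_lit 27324697)) (BT.leaf (nat_lit 42188065))))))) (BT.node (nat_lit 8233408) (BT.node (nat_lit 8232896) (BT.node (nat_lit 8232640) (BT.node (nat_lit 8232512) (BT.node (nat_lit 8232448) (BT.leaf (nat_lit 32230165)) (BT.leaf (nat_lit 23797277))) (BT.node (nat_lit 8232576) (BT.leaf (nat_lit 31045405)) (BT.leaf (nat_lit 32317713)))) (BT.node (nat_lit 8232768) (BT.node (nat_lit 8232704) (BT.leaf (nat_lit 32317717)) (BT.leaf (nat_lit 46354949))) (BT.node (nat_lit 8232832) (BT.leaf (nat_lit 27720977)) (BT.leaf (nat_lit 49732633))))) (BT.node (nat_lit 8233152) (BT.node (nat_lit 8233024) (BT.node (nat_lit 8232960) (BT.leaf (nat_lit 32931869)) (BT.leaf (nat_lit 49733137))) (BT.node (nat_lit 8233088) (BT.leaf (nat_lit 48604949)) (BT.leaf (nat_lit 47422741)))) (BT.node (nat_lit 8233280) (BT.node (nat_lit 8233216) (BT.leaf (nat_lit 48722453)) (BT.leaf (nat_lit 32932633))) (BT.node (nat_lit 8233344) (BT.leaf (nat_lit 49733389)) (BT.leaf (nat_lit 31046169)))))) (BT.node (nat_lit 8233920) (BT.node (nat_lit 8233664) (BT.node (nat_lit 8233536) (BT.node (nat_lit 8233472) (BT.leaf (nat_lit 47784713)) (BT.leaf (nat_lit 40201749))) (BT.node (nat_lit 8233600) (BT.leaf (nat_lit 47073049)) (BT.leaf (nat_lit 48722457)))) (BT.node (nat_lit 8233792) (BT.node (nat_lit 8233728) (BT.leaf (nat_lit 28626961)) (BT.leaf (nat_lit 49734689))) (BT.node (nat_lit 8233856) (BT.leaf (nat_lit 49734945)) (BT.leaf (nat_lit 24841493))))) (BT.node (nat_lit 8234176) (BT.node (nat_lit 8234048) (BT.node (nat_lit 8233984) (BT.leaf (nat_lit 49735457)) (BT.leaf (nat_lit 49735685))) (BT.node (nat_lit 8234112) (BT.leaf (nat_lit 28656917)) (BT.leaf (nat_lit 33049881)))) (BT.node (nat_lit 8234304) (BT.node (nat_lit 8234240) (BT.leaf (nat_lit 27523601)) (BT.leaf (nat_lit 27523605))) (BT.node (nat_lit 8234368) (BT.leaf (nat_lit 32315925)) (BT.leaf (nat_lit 46322961)))))))))) (BT.node (nat_lit 8242624) (BT.node (nat_lit 8238528) (BT.node (nat_lit 8236480) (BT.node (nat_lit 8235456) (BT.node (nat_lit 8234944) (BT.node (nat_lit 8234688) (BT.node (nat_lit 8234560) (BT.node (nat_lit 8234496) (BT.leaf (nat_lit 33476117)) (BT.leaf (nat_lit 47226889))) (BT.node (nat_lit 8234624) (BT.leaf (nat_lit 28651025)) (BT.leaf (nat_lit 40497441)))) (BT.node (nat_lit 8234816) (BT.node (nat_lit 8234752) (BT.leaf (nat_lit 40492577)) (BT.leaf (nat_lit 46923269))) (BT.node (nat_lit 8234880) (BT.leaf (nat_lit 40673797)) (BT.leaf (nat_lit 46191137))))) (BT.node (nat_lit 8235200) (BT.node (nat_lit 8235072) (BT.node (nat_lit 8235008) (BT.leaf (nat_lit 47652893)) (BT.leaf (nat_lit 31872793))) (BT.node (nat_lit 8235136) (BT.leaf (nat_lit 31872797)) (BT.leaf (nat_lit 51232025)))) (BT.node (nat_lit 8235328) (BT.node (nat_lit 8235264) (BT.leaf (nat_lit 32457737)) (BT.leaf (nat_lit 38871313))) (BT.node (nat_lit 8235392) (BT.leaf (nat_lit 28636949)) (BT.leaf (nat_lit 46949909)))))) (BT.node (nat_lit 8235968) (BT.node (nat_lit 8235712) (BT.node (nat_lit 8235584) (BT.node (nat_lit 8235520) (BT.leaf (nat_lit 32117265)) (BT.leaf (nat_lit 49738773))) (BT.node (nat_lit 8235648) (BT.leaf (nat_lit 48054809)) (BT.leaf (nat_lit 31065633)))) (BT.node (nat_lit 8235840) (BT.node (nat_lit 8235776) (BT.leaf (nat_lit 43181585)) (BT.leaf (nat_lit 43181601))) (BT.node (nat_lit 8235904) (BT.leaf (nat_lit 46382097)) (BT.leaf (nat_lit 24843809))))) (BT.node (nat_lit 8236224) (BT.node (nat_lit 8236096) (BT.node (nat_lit 8236032) (BT.leaf (nat_lit 47691541)) (BT.leaf (nat_lit 24468241))) (BT.node (nat_lit 8236160) (BT.leaf (nat_lit 39116805)) (BT.leaf (nat_lit 24842513)))) (BT.node (nat_lit 8236352) (BT.node (nat_lit 8236288) (BT.leaf (nat_lit 49743377)) (BT.leaf (nat_lit 49744149))) (BT.node (nat_lit 8236416) (BT.leaf (nat_lit 24844805)) (BT.leaf (nat_lit 32896265))))))) (BT.node (nat_lit 8237504) (BT.node (nat_lit 8236992) (BT.node (nat_lit 8236736) (BT.node (nat_lit 8236608) (BT.node (nat_lit 8236544) (BT.leaf (nat_lit 49893893)) (BT.leaf (nat_lit 44132881))) (BT.node (nat_lit 8236672) (BT.leaf (nat_lit 34392861)) (BT.leaf (nat_lit 23809813)))) (BT.node (nat_lit 8236864) (BT.node (nat_lit 8236800) (BT.leaf (nat_lit 42687749)) (BT.leaf (nat_lit 43637013))) (BT.node (nat_lit 8236928) (BT.leaf (nat_lit 48292893)) (BT.leaf (nat_lit 27588893))))) (BT.node (nat_lit 8237248) (BT.node (nat_lit 8237120) (BT.node (nat_lit 8237056) (BT.leaf (nat_lit 42817541)) (BT.leaf (nat_lit 48040733))) (BT.node (nat_lit 8237184) (BT.leaf (nat_lit 24631577)) (BT.leaf (nat_lit 30105101)))) (BT.node (nat_lit 8237376) (BT.node (nat_lit 8237312) (BT.leaf (nat_lit 28195857)) (BT.leaf (nat_lit 30624789))) (BT.node (nat_lit 8237440) (BT.leaf (nat_lit 30624793)) (BT.leaf (nat_lit 30624797)))))) (BT.node (nat_lit 8238016) (BT.node (nat_lit 8237760) (BT.node (nat_lit 8237632) (BT.node (nat_lit 8237568) (BT.leaf (nat_lit 49747221)) (BT.leaf (nat_lit 28179729))) (BT.node (nat_lit 8237696) (BT.leaf (nat_lit 31034393)) (BT.leaf (nat_lit 31034397)))) (BT.node (nat_lit 8237888) (BT.node (nat_lit 8237824) (BT.leaf (nat_lit 39596833)) (BT.leaf (nat_lit 39596577))) (BT.node (nat_lit 8237952) (BT.leaf (nat_lit 31588129)) (BT.leaf (nat_lit 46211333))))) (BT.node (nat_lit 8238272) (BT.node (nat_lit 8238144) (BT.node (nat_lit 8238080) (BT.leaf (nat_lit 45301253)) (BT.leaf (nat_lit 40306977))) (BT.node (nat_lit 8238208) (BT.leaf (nat_lit 37851141)) (BT.leaf (nat_lit 29268485)))) (BT.node (nat_lit 8238400) (BT.node (nat_lit 8238336) (BT.leaf (nat_lit 29320213)) (BT.leaf (nat_lit 29319945))) (BT.node (nat_lit 8238464) (BT.leaf (nat_lit 47129877)) (BT.leaf (nat_lit 32380421)))))))) (BT.node (nat_lit 8240576) (BT.node (nat_lit 8239552) (BT.node (nat_lit 8239040) (BT.node (nat_lit 8238784) (BT.node (nat_lit 8238656) (BT.node (nat_lit 8238592) (BT.leaf (nat_lit 49477909)) (BT.leaf (nat_lit 46826261))) (BT.node (nat_lit 8238720) (BT.leaf (nat_lit 43359761)) (BT.leaf (nat_lit 48575245)))) (BT.node (nat_lit 8238912) (BT.node (nat_lit 8238848) (BT.leaf (nat_lit 39605281)) (BT.leaf (nat_lit 49749269))) (BT.node (nat_lit 8238976) (BT.leaf (nat_lit 32955933)) (BT.leaf (nat_lit 49750037))))) (BT.node (nat_lit 8239296) (BT.node (nat_lit 8239168) (BT.node (nat_lit 8239104) (BT.leaf (nat_lit 47129885)) (BT.leaf (nat_lit 49750297))) (BT.node (nat_lit 8239232) (BT.leaf (nat_lit 30726433)) (BT.leaf (nat_lit 49751057)))) (BT.node (nat_lit 8239424) (BT.node (nat_lit 8239360) (BT.leaf (nat_lit 47736325)) (BT.leaf (nat_lit 46931205))) (BT.node (nat_lit 8239488) (BT.leaf (nat_lit 32957465)) (BT.leaf (nat_lit 51785477)))))) (BT.node (nat_lit 8240064) (BT.node (nat_lit 8239808) (BT.node (nat_lit 8239680) (BT.node (nat_lit 8239616) (BT.leaf (nat_lit 29247513)) (BT.leaf (nat_lit 29131797))) (BT.node (nat_lit 8239744) (BT.leaf (nat_lit 48808481)) (BT.leaf (nat_lit 48808225)))) (BT.node (nat_lit 8239936) (BT.node (nat_lit 8239872) (BT.leaf (nat_lit 39615493)) (BT.leaf (nat_lit 48808965))) (BT.node (nat_lit 8240000) (BT.leaf (nat_lit 24847637)) (BT.leaf (nat_lit 30005013))))) (BT.node (nat_lit 8240320) (BT.node (nat_lit 8240192) (BT.node (nat_lit 8240128) (BT.leaf (nat_lit 30082337)) (BT.leaf (nat_lit 30082081))) (BT.node (nat_lit 8240256) (BT.leaf (nat_lit 40930845)) (BT.leaf (nat_lit 29709601)))) (BT.node (nat_lit 8240448) (BT.node (nat_lit 8240384) (BT.leaf (nat_lit 47010569)) (BT.leaf (nat_lit 49754389))) (BT.node (nat_lit 8240512) (BT.leaf (nat_lit 33466889)) (BT.leaf (nat_lit 46386197))))))) (BT.node (nat_lit 8241600) (BT.node (nat_lit 8241088) (BT.node (nat_lit 8240832) (BT.node (nat_lit 8240704) (BT.node (nat_lit 8240640) (BT.leaf (nat_lit 39260937)) (BT.leaf (nat_lit 46230293))) (BT.node (nat_lit 8240768) (BT.leaf (nat_lit 33537293)) (BT.leaf (nat_lit 49754901)))) (BT.node (nat_lit 8240960) (BT.node (nat_lit 8240896) (BT.leaf (nat_lit 32454421)) (BT.leaf (nat_lit 24647953))) (BT.node (nat_lit 8241024) (BT.leaf (nat_lit 32963609)) (BT.leaf (nat_lit 32454165))))) (BT.node (nat_lit 8241344) (BT.node (nat_lit 8241216) (BT.node (nat_lit 8241152) (BT.leaf (nat_lit 34037793)) (BT.leaf (nat_lit 30553365))) (BT.node (nat_lit 8241280) (BT.leaf (nat_lit 24308237)) (BT.leaf (nat_lit 30579977)))) (BT.node (nat_lit 8241472) (BT.node (nat_lit 8241408) (BT.leaf (nat_lit 31376393)) (BT.leaf (nat_lit 31515169))) (BT.node (nat_lit 8241536) (BT.leaf (nat_lit 28479765)) (BT.leaf (nat_lit 29017617)))))) (BT.node (nat_lit 8242112) (BT.node (nat_lit 8241856) (BT.node (nat_lit 8241728) (BT.node (nat_lit 8241664) (BT.leaf (nat_lit 28830745)) (BT.leaf (nat_lit 37210657))) (BT.node (nat_lit 8241792) (BT.leaf (nat_lit 49757457)) (BT.leaf (nat_lit 34422289)))) (BT.node (nat_lit 8241984) (BT.node (nat_lit 8241920) (BT.leaf (nat_lit 37713441)) (BT.leaf (nat_lit 49759009))) (BT.node (nat_lit 8242048) (BT.leaf (nat_lit 24609809)) (BT.leaf (nat_lit 27927313))))) (BT.node (nat_lit 8242368) (BT.node (nat_lit 8242240) (BT.node (nat_lit 8242176) (BT.leaf (nat_lit 32878345)) (BT.leaf (nat_lit 30786581))) (BT.node (nat_lit 8242304) (BT.leaf (nat_lit 31516689)) (BT.leaf (nat_lit 22935817)))) (BT.node (nat_lit 8242496) (BT.node (nat_lit 8242432) (BT.leaf (nat_lit 49760265)) (BT.leaf (nat_lit 43390229))) (BT.node (nat_lit 8242560) (BT.leaf (nat_lit 48757513)) (BT.leaf (nat_lit 43390237))))))))) (BT.node (nat_lit 8246720) (BT.node (nat_lit 8244672) (BT.node (nat_lit 8243648) (BT.node (nat_lit 8243136) (BT.node (nat_lit 8242880) (BT.node (nat_lit 8242752) (BT.node (nat_lit 8242688) (BT.leaf (nat_lit 44254493)) (BT.leaf (nat_lit 44248349))) (BT.node (nat_lit 8242816) (BT.leaf (nat_lit 28919585)) (BT.leaf (nat_lit 48760085)))) (BT.node (nat_lit 8243008) (BT.node (nat_lit 8242944) (BT.leaf (nat_lit 43636489)) (BT.leaf (nat_lit 38499097))) (BT.node (nat_lit 8243072) (BT.leaf (nat_lit 48915221)) (BT.leaf (nat_lit 40494101))))) (BT.node (nat_lit 8243392) (BT.node (nat_lit 8243264) (BT.node (nat_lit 8243200) (BT.leaf (nat_lit 31523097)) (BT.leaf (nat_lit 48761373))) (BT.node (nat_lit 8243328) (BT.leaf (nat_lit 48761353)) (BT.leaf (nat_lit 31523085)))) (BT.node (nat_lit 8243520) (BT.node (nat_lit 8243456) (BT.leaf (nat_lit 47257365)) (BT.leaf (nat_lit 29108245))) (BT.node (nat_lit 8243584) (BT.leaf (nat_lit 24861713)) (BT.leaf (nat_lit 27648545)))))) (BT.node (nat_lit 8244160) (BT.node (nat_lit 8243904) (BT.node (nat_lit 8243776) (BT.node (nat_lit 8243712) (BT.leaf (nat_lit 30533141)) (BT.leaf (nat_lit 28930833))) (BT.node (nat_lit 8243840) (BT.leaf (nat_lit 33631769)) (BT.leaf (nat_lit 27648521)))) (BT.node (nat_lit 8244032) (BT.node (nat_lit 8243968) (BT.leaf (nat_lit 30190865)) (BT.leaf (nat_lit 28814881))) (BT.node (nat_lit 8244096) (BT.leaf (nat_lit 32542753)) (BT.leaf (nat_lit 27425045))))) (BT.node (nat_lit 8244416) (BT.node (nat_lit 8244288) (BT.node (nat_lit 8244224) (BT.leaf (nat_lit 38567441)) (BT.leaf (nat_lit 24863505))) (BT.node (nat_lit 8244352) (BT.leaf (nat_lit 28571161)) (BT.leaf (nat_lit 28571165)))) (BT.node (nat_lit 8244544) (BT.node (nat_lit 8244480) (BT.leaf (nat_lit 24328721)) (BT.leaf (nat_lit 35007521))) (BT.node (nat_lit 8244608) (BT.leaf (nat_lit 30678041)) (BT.leaf (nat_lit 30678045))))))) (BT.node (nat_lit 8245696) (BT.node (nat_lit 8245184) (BT.node (nat_lit 8244928) (BT.node (nat_lit 8244800) (BT.node (nat_lit 8244736) (BT.leaf (nat_lit 24864273)) (BT.leaf (nat_lit 32979229))) (BT.node (nat_lit 8244864) (BT.leaf (nat_lit 49113869)) (BT.leaf (nat_lit 28655633)))) (BT.node (nat_lit 8245056) (BT.node (nat_lit 8244992) (BT.leaf (nat_lit 39615249)) (BT.leaf (nat_lit 46809113))) (BT.node (nat_lit 8245120) (BT.leaf (nat_lit 47642385)) (BT.leaf (nat_lit 42187553))))) (BT.node (nat_lit 8245440) (BT.node (nat_lit 8245312) (BT.node (nat_lit 8245248) (BT.leaf (nat_lit 52015897)) (BT.leaf (nat_lit 32522017))) (BT.node (nat_lit 8245376) (BT.leaf (nat_lit 30760481)) (BT.leaf (nat_lit 29953045)))) (BT.node (nat_lit 8245568) (BT.node (nat_lit 8245504) (BT.leaf (nat_lit 44270101)) (BT.leaf (nat_lit 30279457))) (BT.node (nat_lit 8245632) (BT.leaf (nat_lit 28899617)) (BT.leaf (nat_lit 45296661)))))) (BT.node (nat_lit 8246208) (BT.node (nat_lit 8245952) (BT.node (nat_lit 8245824) (BT.node (nat_lit 8245760) (BT.leaf (nat_lit 44271641)) (BT.leaf (nat_lit 24866065))) (BT.node (nat_lit 8245888) (BT.leaf (nat_lit 43781385)) (BT.leaf (nat_lit 49770273)))) (BT.node (nat_lit 8246080) (BT.node (nat_lit 8246016) (BT.leaf (nat_lit 49770529)) (BT.leaf (nat_lit 24867093))) (BT.node (nat_lit 8246144) (BT.leaf (nat_lit 42447125)) (BT.leaf (nat_lit 40132117))))) (BT.node (nat_lit 8246464) (BT.node (nat_lit 8246336) (BT.node (nat_lit 8246272) (BT.leaf (nat_lit 29343753)) (BT.leaf (nat_lit 42281225))) (BT.node (nat_lit 8246400) (BT.leaf (nat_lit 30979597)) (BT.leaf (nat_lit 49772057)))) (BT.node (nat_lit 8246592) (BT.node (nat_lit 8246528) (BT.leaf (nat_lit 40652309)) (BT.leaf (nat_lit 49772565))) (BT.node (nat_lit 8246656) (BT.leaf (nat_lit 34232593)) (BT.leaf (nat_lit 27414813)))))))) (BT.node (nat_lit 8248768) (BT.node (nat_lit 8247744) (BT.node (nat_lit 8247232) (BT.node (nat_lit 8246976) (BT.node (nat_lit 8246848) (BT.node (nat_lit 8246784) (BT.leaf (nat_lit 35364625)) (BT.leaf (nat_lit 24867865))) (BT.node (nat_lit 8246912) (BT.leaf (nat_lit 38688529)) (BT.leaf (nat_lit 49773589)))) (BT.node (nat_lit 8247104) (BT.node (nat_lit 8247040) (BT.leaf (nat_lit 49128977)) (BT.leaf (nat_lit 29382925))) (BT.node (nat_lit 8247168) (BT.leaf (nat_lit 35388429)) (BT.leaf (nat_lit 38044449))))) (BT.node (nat_lit 8247488) (BT.node (nat_lit 8247360) (BT.node (nat_lit 8247296) (BT.leaf (nat_lit 24872977)) (BT.leaf (nat_lit 49774609))) (BT.node (nat_lit 8247424) (BT.leaf (nat_lit 32023833)) (BT.leaf (nat_lit 32023301)))) (BT.node (nat_lit 8247616) (BT.node (nat_lit 8247552) (BT.leaf (nat_lit 50710297)) (BT.leaf (nat_lit 42694661))) (BT.node (nat_lit 8247680) (BT.leaf (nat_lit 44065049)) (BT.leaf (nat_lit 47457049)))))) (BT.node (nat_lit 8248256) (BT.node (nat_lit 8248000) (BT.node (nat_lit 8247872) (BT.node (nat_lit 8247808) (BT.leaf (nat_lit 29155597)) (BT.leaf (nat_lit 49775637))) (BT.node (nat_lit 8247936) (BT.leaf (nat_lit 47457037)) (BT.leaf (nat_lit 34734113)))) (BT.node (nat_lit 8248128) (BT.node (nat_lit 8248064) (BT.leaf (nat_lit 24875025)) (BT.leaf (nat_lit 24874769))) (BT.node (nat_lit 8248192) (BT.leaf (nat_lit 42363169)) (BT.leaf (nat_lit 39008521))))) (BT.node (nat_lit 8248512) (BT.node (nat_lit 8248384) (BT.node (nat_lit 8248320) (BT.leaf (nat_lit 39008525)) (BT.leaf (nat_lit 44938245))) (BT.node (nat_lit 8248448) (BT.leaf (nat_lit 39008537)) (BT.leaf (nat_lit 39008541)))) (BT.node (nat_lit 8248640) (BT.node (nat_lit 8248576) (BT.leaf (nat_lit 39008545)) (BT.leaf (nat_lit 39727125))) (BT.node (nat_lit 8248704) (BT.leaf (nat_lit 29269525)) (BT.leaf (nat_lit 29685261))))))) (BT.node (nat_lit 8249792) (BT.node (nat_lit 8249280) (BT.node (nat_lit 8249024) (BT.node (nat_lit 8248896) (BT.node (nat_lit 8248832) (BT.leaf (nat_lit 25062937)) (BT.leaf (nat_lit 38589705))) (BT.node (nat_lit 8248960) (BT.leaf (nat_lit 47612433)) (BT.leaf (nat_lit 29224217)))) (BT.node (nat_lit 8249152) (BT.node (nat_lit 8249088) (BT.leaf (nat_lit 29223705)) (BT.leaf (nat_lit 29223709))) (BT.node (nat_lit 8249216) (BT.leaf (nat_lit 29432073)) (BT.leaf (nat_lit 30870549))))) (BT.node (nat_lit 8249536) (BT.node (nat_lit 8249408) (BT.node (nat_lit 8249344) (BT.leaf (nat_lit 29819665)) (BT.leaf (nat_lit 28992277))) (BT.node (nat_lit 8249472) (BT.leaf (nat_lit 28992281)) (BT.leaf (nat_lit 28992285)))) (BT.node (nat_lit 8249664) (BT.node (nat_lit 8249600) (BT.leaf (nat_lit 34008589)) (BT.leaf (nat_lit 24876561))) (BT.node (nat_lit 8249728) (BT.leaf (nat_lit 28553481)) (BT.leaf (nat_lit 24877601)))))) (BT.node (nat_lit 8250304) (BT.node (nat_lit 8250048) (BT.node (nat_lit 8249920) (BT.node (nat_lit 8249856) (BT.leaf (nat_lit 24877577)) (BT.leaf (nat_lit 28993569))) (BT.node (nat_lit 8249984) (BT.leaf (nat_lit 49778965)) (BT.leaf (nat_lit 49779217)))) (BT.node (nat_lit 8250176) (BT.node (nat_lit 8250112) (BT.leaf (nat_lit 49779473)) (BT.leaf (nat_lit 24878101))) (BT.node (nat_lit 8250240) (BT.leaf (nat_lit 44329225)) (BT.leaf (nat_lit 49779985))))) (BT.node (nat_lit 8250560) (BT.node (nat_lit 8250432) (BT.node (nat_lit 8250368) (BT.leaf (nat_lit 47458585)) (BT.leaf (nat_lit 25422341))) (BT.node (nat_lit 8250496) (BT.leaf (nat_lit 37908769)) (BT.leaf (nat_lit 42225949)))) (BT.node (nat_lit 8250688) (BT.node (nat_lit 8250624) (BT.leaf (nat_lit 39324425)) (BT.leaf (nat_lit 29701645))) (BT.node (nat_lit 8250752) (BT.leaf (nat_lit 39617045)) (BT.leaf (nat_lit 41093145)))))))))))))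
noncomputable def big0_e61440 : BT Nat := (BT.node (nat_lit 8338240) (BT.node (nat_lit 8291136) (BT.node (nat_lit 8269760) (BT.node (nat_lit 8259072) (BT.node (nat_lit 8254912) (BT.node (nat_lit 8252864) (BT.node (nat_lit 8251840) (BT.node (nat_lit 8251328) (BT.node (nat_lit 8251072) (BT.node (nat_lit 8250944) (BT.node (nat_lit 8250880) (BT.leaf (nat_lit 38202133)) (BT.leaf (nat_lit 24879621))) (BT.node (nat_lit 8251008) (BT.leaf (nat_lit 28723977)) (BT.leaf (nat_lit 28723981)))) (BT.node (nat_lit 8251200) (BT.node (nat_lit 8251136) (BT.leaf (nat_lit 28723997)) (BT.leaf (nat_lit 24879893))) (BT.node (nat_lit 8251264) (BT.leaf (nat_lit 29828625)) (BT.leaf (nat_lit 31482141))))) (BT.node (nat_lit 8251584) (BT.node (nat_lit 8251456) (BT.node (nat_lit 8251392) (BT.leaf (nat_lit 27626509)) (BT.leaf (nat_lit 44030741))) (BT.node (nat_lit 8251520) (BT.leaf (nat_lit 24881425)) (BT.leaf (nat_lit 34749201)))) (BT.node (nat_lit 8251712) (BT.node (nat_lit 8251648) (BT.leaf (nat_lit 27402273)) (BT.leaf (nat_lit 42882057))) (BT.node (nat_lit 8251776) (BT.leaf (nat_lit 27519001)) (BT.leaf (nat_lit 24778013)))))) (BT.node (nat_lit 8252352) (BT.node (nat_lit 8252096) (BT.node (nat_lit 8251968) (BT.node (nat_lit 8251904) (BT.leaf (nat_lit 32562969)) (BT.leaf (nat_lit 29585425))) (BT.node (nat_lit 8252032) (BT.leaf (nat_lit 30745873)) (BT.leaf (nat_lit 49782281)))) (BT.node (nat_lit 8252224) (BT.node (nat_lit 8252160) (BT.leaf (nat_lit 46942229)) (BT.leaf (nat_lit 31143445))) (BT.node (nat_lit 8252288) (BT.leaf (nat_lit 48733213)) (BT.leaf (nat_lit 46195481))))) (BT.node (nat_lit 8252608) (BT.node (nat_lit 8252480) (BT.node (nat_lit 8252416) (BT.leaf (nat_lit 38004501)) (BT.leaf (nat_lit 30490401))) (BT.node (nat_lit 8252544) (BT.leaf (nat_lit 37915145)) (BT.leaf (nat_lit 27399957)))) (BT.node (nat_lit 8252736) (BT.node (nat_lit 8252672) (BT.leaf (nat_lit 44183573)) (BT.leaf (nat_lit 44664097))) (BT.node (nat_lit 8252800) (BT.leaf (nat_lit 44663841)) (BT.leaf (nat_lit 24883729))))))) (BT.node (nat_lit 8253888) (BT.node (nat_lit 8253376) (BT.node (nat_lit 8253120) (BT.node (nat_lit 8252992) (BT.node (nat_lit 8252928) (BT.leaf (nat_lit 33011741)) (BT.leaf (nat_lit 49783829))) (BT.node (nat_lit 8253056) (BT.leaf (nat_lit 29199121)) (BT.leaf (nat_lit 29260561)))) (BT.node (nat_lit 8253248) (BT.node (nat_lit 8253184) (BT.leaf (nat_lit 47777545)) (BT.leaf (nat_lit 46497549))) (BT.node (nat_lit 8253312) (BT.leaf (nat_lit 27399701)) (BT.leaf (nat_lit 37956625))))) (BT.node (nat_lit 8253632) (BT.node (nat_lit 8253504) (BT.node (nat_lit 8253440) (BT.leaf (nat_lit 30123269)) (BT.leaf (nat_lit 41004037))) (BT.node (nat_lit 8253568) (BT.leaf (nat_lit 28811293)) (BT.leaf (nat_lit 37901317)))) (BT.node (nat_lit 8253760) (BT.node (nat_lit 8253696) (BT.leaf (nat_lit 47115277)) (BT.leaf (nat_lit 29998109))) (BT.node (nat_lit 8253824) (BT.leaf (nat_lit 29755417)) (BT.leaf (nat_lit 24885777)))))) (BT.node (nat_lit 8254400) (BT.node (nat_lit 8254144) (BT.node (nat_lit 8254016) (BT.node (nat_lit 8253952) (BT.leaf (nat_lit 27933469)) (BT.leaf (nat_lit 24886289))) (BT.node (nat_lit 8254080) (BT.leaf (nat_lit 32363289)) (BT.leaf (nat_lit 32363293)))) (BT.node (nat_lit 8254272) (BT.node (nat_lit 8254208) (BT.leaf (nat_lit 23892229)) (BT.leaf (nat_lit 27702021))) (BT.node (nat_lit 8254336) (BT.leaf (nat_lit 49787413)) (BT.leaf (nat_lit 49787669))))) (BT.node (nat_lit 8254656) (BT.node (nat_lit 8254528) (BT.node (nat_lit 8254464) (BT.leaf (nat_lit 41390101)) (BT.leaf (nat_lit 38418209))) (BT.node (nat_lit 8254592) (BT.leaf (nat_lit 24886805)) (BT.leaf (nat_lit 32198433)))) (BT.node (nat_lit 8254784) (BT.node (nat_lit 8254720) (BT.leaf (nat_lit 29112857)) (BT.leaf (nat_lit 29112861))) (BT.node (nat_lit 8254848) (BT.leaf (nat_lit 30982405)) (BT.leaf (nat_lit 24638225)))))))) (BT.node (nat_lit 8256960) (BT.node (nat_lit 8255936) (BT.node (nat_lit 8255424) (BT.node (nat_lit 8255168) (BT.node (nat_lit 8255040) (BT.node (nat_lit 8254976) (BT.leaf (nat_lit 30982421)) (BT.leaf (nat_lit 30982425))) (BT.node (nat_lit 8255104) (BT.leaf (nat_lit 30982429)) (BT.leaf (nat_lit 42073377)))) (BT.node (nat_lit 8255296) (BT.node (nat_lit 8255232) (BT.leaf (nat_lit 46214169)) (BT.leaf (nat_lit 24784401))) (BT.node (nat_lit 8255360) (BT.leaf (nat_lit 24890129)) (BT.leaf (nat_lit 36320033))))) (BT.node (nat_lit 8255680) (BT.node (nat_lit 8255552) (BT.node (nat_lit 8255488) (BT.leaf (nat_lit 39232773)) (BT.leaf (nat_lit 24890145))) (BT.node (nat_lit 8255616) (BT.leaf (nat_lit 24890401)) (BT.leaf (nat_lit 27366917)))) (BT.node (nat_lit 8255808) (BT.node (nat_lit 8255744) (BT.leaf (nat_lit 24890641)) (BT.leaf (nat_lit 27366937))) (BT.node (nat_lit 8255872) (BT.leaf (nat_lit 41037829)) (BT.leaf (nat_lit 46307101)))))) (BT.node (nat_lit 8256448) (BT.node (nat_lit 8256192) (BT.node (nat_lit 8256064) (BT.node (nat_lit 8256000) (BT.leaf (nat_lit 33035525)) (BT.leaf (nat_lit 49708821))) (BT.node (nat_lit 8256128) (BT.leaf (nat_lit 37846041)) (BT.leaf (nat_lit 25799689)))) (BT.node (nat_lit 8256320) (BT.node (nat_lit 8256256) (BT.leaf (nat_lit 30134305)) (BT.leaf (nat_lit 37394709))) (BT.node (nat_lit 8256384) (BT.leaf (nat_lit 28112929)) (BT.leaf (nat_lit 35667989))))) (BT.node (nat_lit 8256704) (BT.node (nat_lit 8256576) (BT.node (nat_lit 8256512) (BT.leaf (nat_lit 29577237)) (BT.leaf (nat_lit 46850061))) (BT.node (nat_lit 8256640) (BT.leaf (nat_lit 34515733)) (BT.leaf (nat_lit 22638597)))) (BT.node (nat_lit 8256832) (BT.node (nat_lit 8256768) (BT.leaf (nat_lit 42105109)) (BT.leaf (nat_lit 29660445))) (BT.node (nat_lit 8256896) (BT.leaf (nat_lit 31253781)) (BT.leaf (nat_lit 31941137))))))) (BT.node (nat_lit 8257984) (BT.node (nat_lit 8257472) (BT.node (nat_lit 8257216) (BT.node (nat_lit 8257088) (BT.node (nat_lit 8257024) (BT.leaf (nat_lit 29577497)) (BT.leaf (nat_lit 46063377))) (BT.node (nat_lit 8257152) (BT.leaf (nat_lit 46063381)) (BT.leaf (nat_lit 37765397)))) (BT.node (nat_lit 8257344) (BT.node (nat_lit 8257280) (BT.leaf (nat_lit 32186909)) (BT.leaf (nat_lit 24892957))) (BT.node (nat_lit 8257408) (BT.leaf (nat_lit 29134097)) (BT.leaf (nat_lit 50473477))))) (BT.node (nat_lit 8257728) (BT.node (nat_lit 8257600) (BT.node (nat_lit 8257536) (BT.leaf (nat_lit 52211737)) (BT.leaf (nat_lit 47119117))) (BT.node (nat_lit 8257664) (BT.leaf (nat_lit 28819465)) (BT.leaf (nat_lit 48929045)))) (BT.node (nat_lit 8257856) (BT.node (nat_lit 8257792) (BT.leaf (nat_lit 28628505)) (BT.leaf (nat_lit 28628509))) (BT.node (nat_lit 8257920) (BT.leaf (nat_lit 30710037)) (BT.leaf (nat_lit 38879009)))))) (BT.node (nat_lit 8258496) (BT.node (nat_lit 8258240) (BT.node (nat_lit 8258112) (BT.node (nat_lit 8258048) (BT.leaf (nat_lit 38206493)) (BT.leaf (nat_lit 34041617))) (BT.node (nat_lit 8258176) (BT.leaf (nat_lit 23090453)) (BT.leaf (nat_lit 48364565)))) (BT.node (nat_lit 8258368) (BT.node (nat_lit 8258304) (BT.leaf (nat_lit 38526469)) (BT.leaf (nat_lit 39796001))) (BT.node (nat_lit 8258432) (BT.leaf (nat_lit 27731729)) (BT.leaf (nat_lit 41959713))))) (BT.node (nat_lit 8258752) (BT.node (nat_lit 8258624) (BT.node (nat_lit 8258560) (BT.leaf (nat_lit 38260513)) (BT.leaf (nat_lit 31542289))) (BT.node (nat_lit 8258688) (BT.leaf (nat_lit 27764753)) (BT.leaf (nat_lit 31044633)))) (BT.node (nat_lit 8258880) (BT.node (nat_lit 8258816) (BT.leaf (nat_lit 32148245)) (BT.leaf (nat_lit 41718033))) (BT.node (nat_lit 8258944) (BT.leaf (nat_lit 40637469)) (BT.leaf (nat_lit 22293269))))))))) (BT.node (nat_lit 8264512) (BT.node (nat_lit 8261632) (BT.node (nat_lit 8260288) (BT.node (nat_lit 8259712) (BT.node (nat_lit 8259456) (BT.node (nat_lit 8259328) (BT.node (nat_lit 8259264) (BT.leaf (nat_lit 22295057)) (BT.leaf (nat_lit 22295569))) (BT.node (nat_lit 8259392) (BT.leaf (nat_lit 22295573)) (BT.leaf (nat_lit 38518805)))) (BT.node (nat_lit 8259584) (BT.node (nat_lit 8259520) (BT.leaf (nat_lit 33037593)) (BT.leaf (nat_lit 35969041))) (BT.node (nat_lit 8259648) (BT.leaf (nat_lit 49802257)) (BT.leaf (nat_lit 26903069))))) (BT.node (nat_lit 8260032) (BT.node (nat_lit 8259904) (BT.node (nat_lit 8259840) (BT.leaf (nat_lit 22296089)) (BT.leaf (nat_lit 36684049))) (BT.node (nat_lit 8259968) (BT.leaf (nat_lit 26905365)) (BT.leaf (nat_lit 24947477)))) (BT.node (nat_lit 8260160) (BT.node (nat_lit 8260096) (BT.leaf (nat_lit 24947229)) (BT.leaf (nat_lit 36726293))) (BT.node (nat_lit 8260224) (BT.leaf (nat_lit 33040409)) (BT.leaf (nat_lit 33899793)))))) (BT.node (nat_lit 8260992) (BT.node (nat_lit 8260544) (BT.node (nat_lit 8260416) (BT.node (nat_lit 8260352) (BT.leaf (nat_lit 25999889)) (BT.leaf (nat_lit 22297881))) (BT.node (nat_lit 8260480) (BT.leaf (nat_lit 22298641)) (BT.leaf (nat_lit 22299409)))) (BT.node (nat_lit 8260800) (BT.node (nat_lit 8260608) (BT.leaf (nat_lit 47237381)) (BT.leaf (nat_lit 22300177))) (BT.node (nat_lit 8260928) (BT.leaf (nat_lit 49803797)) (BT.leaf (nat_lit 22350869))))) (BT.node (nat_lit 8261376) (BT.node (nat_lit 8261248) (BT.node (nat_lit 8261184) (BT.leaf (nat_lit 22302733)) (BT.leaf (nat_lit 22304545))) (BT.node (nat_lit 8261312) (BT.leaf (nat_lit 37341725)) (BT.leaf (nat_lit 22305041)))) (BT.node (nat_lit 8261504) (BT.node (nat_lit 8261440) (BT.leaf (nat_lit 22305045)) (BT.leaf (nat_lit 46347525))) (BT.node (nat_lit 8261568) (BT.leaf (nat_lit 22305561)) (BT.leaf (nat_lit 22305565))))))) (BT.node (nat_lit 8263168) (BT.node (nat_lit 8262464) (BT.node (nat_lit 8262016) (BT.node (nat_lit 8261888) (BT.node (nat_lit 8261824) (BT.leaf (nat_lit 22305817)) (BT.leaf (nat_lit 25584645))) (BT.node (nat_lit 8261952) (BT.leaf (nat_lit 22307349)) (BT.leaf (nat_lit 34015505)))) (BT.node (nat_lit 8262272) (BT.node (nat_lit 8262144) (BT.leaf (nat_lit 36512285)) (BT.leaf (nat_lit 33456917))) (BT.node (nat_lit 8262400) (BT.leaf (nat_lit 49805589)) (BT.leaf (nat_lit 31680781))))) (BT.node (nat_lit 8262720) (BT.node (nat_lit 8262592) (BT.node (nat_lit 8262528) (BT.leaf (nat_lit 22310161)) (BT.leaf (nat_lit 30208545))) (BT.node (nat_lit 8262656) (BT.leaf (nat_lit 46540817)) (BT.leaf (nat_lit 24138009)))) (BT.node (nat_lit 8262976) (BT.node (nat_lit 8262848) (BT.leaf (nat_lit 22311449)) (BT.leaf (nat_lit 24729633))) (BT.node (nat_lit 8263040) (BT.leaf (nat_lit 25873185)) (BT.leaf (nat_lit 24730657)))))) (BT.node (nat_lit 8263936) (BT.node (nat_lit 8263680) (BT.node (nat_lit 8263424) (BT.node (nat_lit 8263360) (BT.leaf (nat_lit 50662945)) (BT.leaf (nat_lit 26439173))) (BT.node (nat_lit 8263616) (BT.leaf (nat_lit 23010581)) (BT.leaf (nat_lit 23814165)))) (BT.node (nat_lit 8263808) (BT.node (nat_lit 8263744) (BT.leaf (nat_lit 25348633)) (BT.leaf (nat_lit 22316049))) (BT.node (nat_lit 8263872) (BT.leaf (nat_lit 23949345)) (BT.leaf (nat_lit 49808405))))) (BT.node (nat_lit 8264192) (BT.node (nat_lit 8264064) (BT.node (nat_lit 8264000) (BT.leaf (nat_lit 22317329)) (BT.leaf (nat_lit 22317597))) (BT.node (nat_lit 8264128) (BT.leaf (nat_lit 22317841)) (BT.leaf (nat_lit 26164509)))) (BT.node (nat_lit 8264384) (BT.node (nat_lit 8264256) (BT.leaf (nat_lit 22616329)) (BT.leaf (nat_lit 25950469))) (BT.node (nat_lit 8264448) (BT.leaf (nat_lit 33119493)) (BT.leaf (nat_lit 27270917)))))))) (BT.node (nat_lit 8267008) (BT.node (nat_lit 8265792) (BT.node (nat_lit 8265216) (BT.node (nat_lit 8264960) (BT.node (nat_lit 8264640) (BT.node (nat_lit 8264576) (BT.leaf (nat_lit 22319893)) (BT.leaf (nat_lit 22320401))) (BT.node (nat_lit 8264832) (BT.leaf (nat_lit 33591045)) (BT.leaf (nat_lit 25699617)))) (BT.node (nat_lit 8265088) (BT.node (nat_lit 8265024) (BT.leaf (nat_lit 37518869)) (BT.leaf (nat_lit 37519121))) (BT.node (nat_lit 8265152) (BT.leaf (nat_lit 33060637)) (BT.leaf (nat_lit 51420689))))) (BT.node (nat_lit 8265536) (BT.node (nat_lit 8265408) (BT.node (nat_lit 8265344) (BT.leaf (nat_lit 26434313)) (BT.leaf (nat_lit 33061661))) (BT.node (nat_lit 8265472) (BT.leaf (nat_lit 49811477)) (BT.leaf (nat_lit 49811485)))) (BT.node (nat_lit 8265664) (BT.node (nat_lit 8265600) (BT.leaf (nat_lit 49811729)) (BT.leaf (nat_lit 33062169))) (BT.node (nat_lit 8265728) (BT.leaf (nat_lit 22323217)) (BT.leaf (nat_lit 25045785)))))) (BT.node (nat_lit 8266304) (BT.node (nat_lit 8266048) (BT.node (nat_lit 8265920) (BT.node (nat_lit 8265856) (BT.leaf (nat_lit 33063453)) (BT.leaf (nat_lit 49812241))) (BT.node (nat_lit 8265984) (BT.leaf (nat_lit 33063965)) (BT.leaf (nat_lit 24921349)))) (BT.node (nat_lit 8266176) (BT.node (nat_lit 8266112) (BT.leaf (nat_lit 36965145)) (BT.leaf (nat_lit 22324245))) (BT.node (nat_lit 8266240) (BT.leaf (nat_lit 22938385)) (BT.leaf (nat_lit 22938389))))) (BT.node (nat_lit 8266752) (BT.node (nat_lit 8266432) (BT.node (nat_lit 8266368) (BT.leaf (nat_lit 49943061)) (BT.leaf (nat_lit 25595917))) (BT.node (nat_lit 8266688) (BT.leaf (nat_lit 22326033)) (BT.leaf (nat_lit 36278789)))) (BT.node (nat_lit 8266880) (BT.node (nat_lit 8266816) (BT.leaf (nat_lit 34595077)) (BT.leaf (nat_lit 36039953))) (BT.node (nat_lit 8266944) (BT.leaf (nat_lit 36039697)) (BT.leaf (nat_lit 22327833))))))) (BT.node (nat_lit 8268352) (BT.node (nat_lit 8267712) (BT.node (nat_lit 8267328) (BT.node (nat_lit 8267136) (BT.node (nat_lit 8267072) (BT.leaf (nat_lit 22327837)) (BT.leaf (nat_lit 22328081))) (BT.node (nat_lit 8267264) (BT.leaf (nat_lit 22328337)) (BT.leaf (nat_lit 26341145)))) (BT.node (nat_lit 8267584) (BT.node (nat_lit 8267520) (BT.leaf (nat_lit 34440217)) (BT.leaf (nat_lit 33249561))) (BT.node (nat_lit 8267648) (BT.leaf (nat_lit 34416665)) (BT.leaf (nat_lit 33070877))))) (BT.node (nat_lit 8267968) (BT.node (nat_lit 8267840) (BT.node (nat_lit 8267776) (BT.leaf (nat_lit 37654033)) (BT.leaf (nat_lit 33249289))) (BT.node (nat_lit 8267904) (BT.leaf (nat_lit 22330889)) (BT.leaf (nat_lit 22330893)))) (BT.node (nat_lit 8268224) (BT.node (nat_lit 8268032) (BT.leaf (nat_lit 22330905)) (BT.leaf (nat_lit 22330909))) (BT.node (nat_lit 8268288) (BT.leaf (nat_lit 33273093)) (BT.leaf (nat_lit 36584721)))))) (BT.node (nat_lit 8268992) (BT.node (nat_lit 8268736) (BT.node (nat_lit 8268544) (BT.node (nat_lit 8268416) (BT.leaf (nat_lit 48314117)) (BT.leaf (nat_lit 22724881))) (BT.node (nat_lit 8268608) (BT.leaf (nat_lit 34975505)) (BT.leaf (nat_lit 33074201)))) (BT.node (nat_lit 8268864) (BT.node (nat_lit 8268800) (BT.leaf (nat_lit 23563281)) (BT.leaf (nat_lit 35551001))) (BT.node (nat_lit 8268928) (BT.leaf (nat_lit 34188565)) (BT.leaf (nat_lit 25334805))))) (BT.node (nat_lit 8269440) (BT.node (nat_lit 8269120) (BT.node (nat_lit 8269056) (BT.leaf (nat_lit 22334997)) (BT.leaf (nat_lit 25202705))) (BT.node (nat_lit 8269312) (BT.leaf (nat_lit 36497949)) (BT.leaf (nat_lit 33772309)))) (BT.node (nat_lit 8269632) (BT.node (nat_lit 8269504) (BT.leaf (nat_lit 33591813)) (BT.leaf (nat_lit 49820173))) (BT.node (nat_lit 8269696) (BT.leaf (nat_lit 22613777)) (BT.leaf (nat_lit 36300309)))))))))) (BT.node (nat_lit 8281024) (BT.node (nat_lit 8275776) (BT.node (nat_lit 8272832) (BT.node (nat_lit 8270976) (BT.node (nat_lit 8270400) (BT.node (nat_lit 8270080) (BT.node (nat_lit 8269888) (BT.node (nat_lit 8269824) (BT.leaf (nat_lit 22338833)) (BT.leaf (nat_lit 26059793))) (BT.node (nat_lit 8270016) (BT.leaf (nat_lit 22339353)) (BT.leaf (nat_lit 24544261)))) (BT.node (nat_lit 8270272) (BT.node (nat_lit 8270208) (BT.leaf (nat_lit 30088737)) (BT.leaf (nat_lit 32359441))) (BT.node (nat_lit 8270336) (BT.leaf (nat_lit 25025053)) (BT.leaf (nat_lit 25627421))))) (BT.node (nat_lit 8270656) (BT.node (nat_lit 8270528) (BT.node (nat_lit 8270464) (BT.leaf (nat_lit 37584149)) (BT.leaf (nat_lit 25375493))) (BT.node (nat_lit 8270592) (BT.leaf (nat_lit 36600861)) (BT.leaf (nat_lit 22342429)))) (BT.node (nat_lit 8270848) (BT.node (nat_lit 8270784) (BT.leaf (nat_lit 35655957)) (BT.leaf (nat_lit 24810273))) (BT.node (nat_lit 8270912) (BT.leaf (nat_lit 22343441)) (BT.leaf (nat_lit 25458705)))))) (BT.node (nat_lit 8271744) (BT.node (nat_lit 8271232) (BT.node (nat_lit 8271104) (BT.node (nat_lit 8271040) (BT.leaf (nat_lit 35880989)) (BT.leaf (nat_lit 26713621))) (BT.node (nat_lit 8271168) (BT.leaf (nat_lit 26011681)) (BT.leaf (nat_lit 49821969)))) (BT.node (nat_lit 8271424) (BT.node (nat_lit 8271360) (BT.leaf (nat_lit 33534213)) (BT.leaf (nat_lit 26660377))) (BT.node (nat_lit 8271616) (BT.leaf (nat_lit 22345237)) (BT.leaf (nat_lit 28832033))))) (BT.node (nat_lit 8272384) (BT.node (nat_lit 8272000) (BT.node (nat_lit 8271872) (BT.leaf (nat_lit 50372613)) (BT.leaf (nat_lit 34682649))) (BT.node (nat_lit 8272256) (BT.leaf (nat_lit 36451857)) (BT.leaf (nat_lit 22347549)))) (BT.node (nat_lit 8272704) (BT.node (nat_lit 8272512) (BT.leaf (nat_lit 22348049)) (BT.leaf (nat_lit 26520853))) (BT.node (nat_lit 8272768) (BT.leaf (nat_lit 27197981)) (BT.leaf (nat_lit 22350113))))))) (BT.node (nat_lit 8274496) (BT.node (nat_lit 8273792) (BT.node (nat_lit 8273408) (BT.node (nat_lit 8273088) (BT.node (nat_lit 8272896) (BT.leaf (nat_lit 24926229)) (BT.leaf (nat_lit 22352401))) (BT.node (nat_lit 8273344) (BT.leaf (nat_lit 25065493)) (BT.leaf (nat_lit 22354453)))) (BT.node (nat_lit 8273600) (BT.node (nat_lit 8273472) (BT.leaf (nat_lit 46863129)) (BT.leaf (nat_lit 28758545))) (BT.node (nat_lit 8273664) (BT.leaf (nat_lit 22355725)) (BT.leaf (nat_lit 25326621))))) (BT.node (nat_lit 8274112) (BT.node (nat_lit 8273920) (BT.node (nat_lit 8273856) (BT.leaf (nat_lit 24927245)) (BT.leaf (nat_lit 49824785))) (BT.node (nat_lit 8273984) (BT.leaf (nat_lit 37532177)) (BT.leaf (nat_lit 22358793)))) (BT.node (nat_lit 8274368) (BT.node (nat_lit 8274240) (BT.leaf (nat_lit 46436117)) (BT.leaf (nat_lit 33200405))) (BT.node (nat_lit 8274432) (BT.leaf (nat_lit 49826321)) (BT.leaf (nat_lit 35639813)))))) (BT.node (nat_lit 8275072) (BT.node (nat_lit 8274816) (BT.node (nat_lit 8274688) (BT.node (nat_lit 8274560) (BT.leaf (nat_lit 49826837)) (BT.leaf (nat_lit 38078241))) (BT.node (nat_lit 8274752) (BT.leaf (nat_lit 49827349)) (BT.leaf (nat_lit 24377613)))) (BT.node (nat_lit 8274944) (BT.node (nat_lit 8274880) (BT.leaf (nat_lit 36563217)) (BT.leaf (nat_lit 49828113))) (BT.node (nat_lit 8275008) (BT.leaf (nat_lit 28043553)) (BT.leaf (nat_lit 49828357))))) (BT.node (nat_lit 8275328) (BT.node (nat_lit 8275200) (BT.node (nat_lit 8275136) (BT.leaf (nat_lit 46443545)) (BT.leaf (nat_lit 24928785))) (BT.node (nat_lit 8275264) (BT.leaf (nat_lit 24928273)) (BT.leaf (nat_lit 22361117)))) (BT.node (nat_lit 8275584) (BT.node (nat_lit 8275520) (BT.leaf (nat_lit 22361369)) (BT.leaf (nat_lit 34992393))) (BT.node (nat_lit 8275648) (BT.leaf (nat_lit 35835665)) (BT.leaf (nat_lit 35835409)))))))) (BT.node (nat_lit 8278400) (BT.node (nat_lit 8277056) (BT.node (nat_lit 8276416) (BT.node (nat_lit 8276032) (BT.node (nat_lit 8275904) (BT.node (nat_lit 8275840) (BT.leaf (nat_lit 22363921)) (BT.leaf (nat_lit 22364433))) (BT.node (nat_lit 8275968) (BT.leaf (nat_lit 22364689)) (BT.leaf (nat_lit 35155485)))) (BT.node (nat_lit 8276288) (BT.node (nat_lit 8276160) (BT.leaf (nat_lit 25060377)) (BT.leaf (nat_lit 22365209))) (BT.node (nat_lit 8276352) (BT.leaf (nat_lit 36474117)) (BT.leaf (nat_lit 22365969))))) (BT.node (nat_lit 8276672) (BT.node (nat_lit 8276544) (BT.node (nat_lit 8276480) (BT.leaf (nat_lit 49829649)) (BT.leaf (nat_lit 49829905))) (BT.node (nat_lit 8276608) (BT.leaf (nat_lit 33202693)) (BT.leaf (nat_lit 25698821)))) (BT.node (nat_lit 8276928) (BT.node (nat_lit 8276800) (BT.leaf (nat_lit 25363205)) (BT.leaf (nat_lit 33055501))) (BT.node (nat_lit 8276992) (BT.leaf (nat_lit 24931857)) (BT.leaf (nat_lit 34451981)))))) (BT.node (nat_lit 8277632) (BT.node (nat_lit 8277376) (BT.node (nat_lit 8277248) (BT.node (nat_lit 8277120) (BT.leaf (nat_lit 24933397)) (BT.leaf (nat_lit 24849429))) (BT.node (nat_lit 8277312) (BT.leaf (nat_lit 26405913)) (BT.leaf (nat_lit 26872337)))) (BT.node (nat_lit 8277504) (BT.node (nat_lit 8277440) (BT.leaf (nat_lit 22368533)) (BT.leaf (nat_lit 29911065))) (BT.node (nat_lit 8277568) (BT.leaf (nat_lit 22369041)) (BT.leaf (nat_lit 23104021))))) (BT.node (nat_lit 8277888) (BT.node (nat_lit 8277760) (BT.node (nat_lit 8277696) (BT.leaf (nat_lit 31838481)) (BT.leaf (nat_lit 22369305))) (BT.node (nat_lit 8277824) (BT.leaf (nat_lit 51818017)) (BT.leaf (nat_lit 22812953)))) (BT.node (nat_lit 8278144) (BT.node (nat_lit 8277952) (BT.leaf (nat_lit 22370065)) (BT.leaf (nat_lit 46998789))) (BT.node (nat_lit 8278208) (BT.leaf (nat_lit 31663125)) (BT.leaf (nat_lit 46368789))))))) (BT.node (nat_lit 8279744) (BT.node (nat_lit 8279104) (BT.node (nat_lit 8278720) (BT.node (nat_lit 8278528) (BT.node (nat_lit 8278464) (BT.leaf (nat_lit 28516129)) (BT.leaf (nat_lit 22372357))) (BT.node (nat_lit 8278656) (BT.leaf (nat_lit 22372125)) (BT.leaf (nat_lit 36428061)))) (BT.node (nat_lit 8278848) (BT.node (nat_lit 8278784) (BT.leaf (nat_lit 22373637)) (BT.leaf (nat_lit 49835281))) (BT.node (nat_lit 8278912) (BT.leaf (nat_lit 33115677)) (BT.leaf (nat_lit 49835537))))) (BT.node (nat_lit 8279360) (BT.node (nat_lit 8279232) (BT.node (nat_lit 8279168) (BT.leaf (nat_lit 22374661)) (BT.leaf (nat_lit 35894557))) (BT.node (nat_lit 8279296) (BT.leaf (nat_lit 22376209)) (BT.leaf (nat_lit 25407513)))) (BT.node (nat_lit 8279488) (BT.node (nat_lit 8279424) (BT.leaf (nat_lit 25045253)) (BT.leaf (nat_lit 25028637))) (BT.node (nat_lit 8279616) (BT.leaf (nat_lit 25027349)) (BT.leaf (nat_lit 35532041)))))) (BT.node (nat_lit 8280384) (BT.node (nat_lit 8280128) (BT.node (nat_lit 8279872) (BT.node (nat_lit 8279808) (BT.leaf (nat_lit 33148941)) (BT.leaf (nat_lit 27236633))) (BT.node (nat_lit 8280064) (BT.leaf (nat_lit 22378257)) (BT.leaf (nat_lit 36047885)))) (BT.node (nat_lit 8280256) (BT.node (nat_lit 8280192) (BT.leaf (nat_lit 22379801)) (BT.leaf (nat_lit 22379805))) (BT.node (nat_lit 8280320) (BT.leaf (nat_lit 25595149)) (BT.leaf (nat_lit 28824093))))) (BT.node (nat_lit 8280704) (BT.node (nat_lit 8280512) (BT.node (nat_lit 8280448) (BT.leaf (nat_lit 22380825)) (BT.leaf (nat_lit 35611153))) (BT.node (nat_lit 8280576) (BT.leaf (nat_lit 35610897)) (BT.leaf (nat_lit 22381081)))) (BT.node (nat_lit 8280832) (BT.node (nat_lit 8280768) (BT.leaf (nat_lit 22381841)) (BT.leaf (nat_lit 26163737))) (BT.node (nat_lit 8280896) (BT.leaf (nat_lit 25105181)) (BT.leaf (nat_lit 37479697))))))))) (BT.node (nat_lit 8285760) (BT.node (nat_lit 8283392) (BT.node (nat_lit 8282176) (BT.node (nat_lit 8281536) (BT.node (nat_lit 8281280) (BT.node (nat_lit 8281152) (BT.node (nat_lit 8281088) (BT.leaf (nat_lit 24939805)) (BT.leaf (nat_lit 22682137))) (BT.node (nat_lit 8281216) (BT.leaf (nat_lit 25680133)) (BT.leaf (nat_lit 22384405)))) (BT.node (nat_lit 8281408) (BT.node (nat_lit 8281344) (BT.leaf (nat_lit 49839889)) (BT.leaf (nat_lit 36981521))) (BT.node (nat_lit 8281472) (BT.leaf (nat_lit 36981517)) (BT.leaf (nat_lit 49840657))))) (BT.node (nat_lit 8281792) (BT.node (nat_lit 8281664) (BT.node (nat_lit 8281600) (BT.leaf (nat_lit 24754201)) (BT.leaf (nat_lit 22385169))) (BT.node (nat_lit 8281728) (BT.leaf (nat_lit 35597073)) (BT.leaf (nat_lit 25771033)))) (BT.node (nat_lit 8281920) (BT.node (nat_lit 8281856) (BT.leaf (nat_lit 49841425)) (BT.leaf (nat_lit 22385925))) (BT.node (nat_lit 8282112) (BT.leaf (nat_lit 27055385)) (BT.leaf (nat_lit 51817753)))))) (BT.node (nat_lit 8282688) (BT.node (nat_lit 8282432) (BT.node (nat_lit 8282304) (BT.node (nat_lit 8282240) (BT.leaf (nat_lit 35453969)) (BT.leaf (nat_lit 33132817))) (BT.node (nat_lit 8282368) (BT.leaf (nat_lit 22387225)) (BT.leaf (nat_lit 22387229)))) (BT.node (nat_lit 8282560) (BT.node (nat_lit 8282496) (BT.leaf (nat_lit 22387473)) (BT.leaf (nat_lit 26001181))) (BT.node (nat_lit 8282624) (BT.leaf (nat_lit 22388241)) (BT.leaf (nat_lit 27580949))))) (BT.node (nat_lit 8283072) (BT.node (nat_lit 8282944) (BT.node (nat_lit 8282880) (BT.leaf (nat_lit 22388497)) (BT.leaf (nat_lit 24769053))) (BT.node (nat_lit 8283008) (BT.leaf (nat_lit 22389509)) (BT.leaf (nat_lit 22389521)))) (BT.node (nat_lit 8283200) (BT.node (nat_lit 8283136) (BT.leaf (nat_lit 35216917)) (BT.leaf (nat_lit 37142297))) (BT.node (nat_lit 8283328) (BT.leaf (nat_lit 25118493)) (BT.leaf (nat_lit 37074973))))))) (BT.node (nat_lit 8284736) (BT.node (nat_lit 8283968) (BT.node (nat_lit 8283648) (BT.node (nat_lit 8283520) (BT.node (nat_lit 8283456) (BT.leaf (nat_lit 35454749)) (BT.leaf (nat_lit 35454229))) (BT.node (nat_lit 8283584) (BT.leaf (nat_lit 33133849)) (BT.leaf (nat_lit 22391573)))) (BT.node (nat_lit 8283776) (BT.node (nat_lit 8283712) (BT.leaf (nat_lit 24790809)) (BT.leaf (nat_lit 37074957))) (BT.node (nat_lit 8283904) (BT.leaf (nat_lit 25520669)) (BT.leaf (nat_lit 35453973))))) (BT.node (nat_lit 8284352) (BT.node (nat_lit 8284160) (BT.node (nat_lit 8284096) (BT.leaf (nat_lit 25491217)) (BT.leaf (nat_lit 22393361))) (BT.node (nat_lit 8284224) (BT.leaf (nat_lit 25118489)) (BT.leaf (nat_lit 49845009)))) (BT.node (nat_lit 8284544) (BT.node (nat_lit 8284480) (BT.leaf (nat_lit 49845265)) (BT.leaf (nat_lit 49846305))) (BT.node (nat_lit 8284672) (BT.leaf (nat_lit 22394897)) (BT.leaf (nat_lit 48348681)))))) (BT.node (nat_lit 8285248) (BT.node (nat_lit 8284992) (BT.node (nat_lit 8284864) (BT.node (nat_lit 8284800) (BT.leaf (nat_lit 26595357)) (BT.leaf (nat_lit 22396181))) (BT.node (nat_lit 8284928) (BT.leaf (nat_lit 26216477)) (BT.leaf (nat_lit 22396689)))) (BT.node (nat_lit 8285120) (BT.node (nat_lit 8285056) (BT.leaf (nat_lit 22396693)) (BT.leaf (nat_lit 49848353))) (BT.node (nat_lit 8285184) (BT.leaf (nat_lit 36112133)) (BT.leaf (nat_lit 22397969))))) (BT.node (nat_lit 8285504) (BT.node (nat_lit 8285376) (BT.node (nat_lit 8285312) (BT.leaf (nat_lit 26434569)) (BT.leaf (nat_lit 22398229))) (BT.node (nat_lit 8285440) (BT.leaf (nat_lit 36848409)) (BT.leaf (nat_lit 22398485)))) (BT.node (nat_lit 8285632) (BT.node (nat_lit 8285568) (BT.leaf (nat_lit 22583829)) (BT.leaf (nat_lit 33142557))) (BT.node (nat_lit 8285696) (BT.leaf (nat_lit 33586705)) (BT.leaf (nat_lit 25895173)))))))) (BT.node (nat_lit 8287936) (BT.node (nat_lit 8286848) (BT.node (nat_lit 8286272) (BT.node (nat_lit 8286016) (BT.node (nat_lit 8285888) (BT.node (nat_lit 8285824) (BT.leaf (nat_lit 33723653)) (BT.leaf (nat_lit 22400021))) (BT.node (nat_lit 8285952) (BT.leaf (nat_lit 22400025)) (BT.leaf (nat_lit 22400029)))) (BT.node (nat_lit 8286144) (BT.node (nat_lit 8286080) (BT.leaf (nat_lit 24784161)) (BT.leaf (nat_lit 23384865))) (BT.node (nat_lit 8286208) (BT.leaf (nat_lit 35911953)) (BT.leaf (nat_lit 33144601))))) (BT.node (nat_lit 8286592) (BT.node (nat_lit 8286400) (BT.node (nat_lit 8286336) (BT.leaf (nat_lit 24066589)) (BT.leaf (nat_lit 49852949))) (BT.node (nat_lit 8286464) (BT.leaf (nat_lit 26911761)) (BT.leaf (nat_lit 23842069)))) (BT.node (nat_lit 8286720) (BT.node (nat_lit 8286656) (BT.leaf (nat_lit 22402833)) (BT.leaf (nat_lit 22403089))) (BT.node (nat_lit 8286784) (BT.leaf (nat_lit 25543701)) (BT.leaf (nat_lit 22403857)))))) (BT.node (nat_lit 8287360) (BT.node (nat_lit 8287104) (BT.node (nat_lit 8286976) (BT.node (nat_lit 8286912) (BT.leaf (nat_lit 22404369)) (BT.leaf (nat_lit 25813269))) (BT.node (nat_lit 8287040) (BT.leaf (nat_lit 36209685)) (BT.leaf (nat_lit 48490761)))) (BT.node (nat_lit 8287232) (BT.node (nat_lit 8287168) (BT.leaf (nat_lit 22405397)) (BT.leaf (nat_lit 22405653))) (BT.node (nat_lit 8287296) (BT.leaf (nat_lit 34887701)) (BT.leaf (nat_lit 22406673))))) (BT.node (nat_lit 8287680) (BT.node (nat_lit 8287488) (BT.node (nat_lit 8287424) (BT.leaf (nat_lit 35648265)) (BT.leaf (nat_lit 25179421))) (BT.node (nat_lit 8287552) (BT.leaf (nat_lit 22407185)) (BT.leaf (nat_lit 22407429)))) (BT.node (nat_lit 8287808) (BT.node (nat_lit 8287744) (BT.leaf (nat_lit 22408977)) (BT.leaf (nat_lit 33609221))) (BT.node (nat_lit 8287872) (BT.leaf (nat_lit 22602009)) (BT.leaf (nat_lit 22409489))))))) (BT.node (nat_lit 8289408) (BT.node (nat_lit 8288896) (BT.node (nat_lit 8288256) (BT.node (nat_lit 8288064) (BT.node (nat_lit 8288000) (BT.leaf (nat_lit 28540957)) (BT.leaf (nat_lit 22410249))) (BT.node (nat_lit 8288192) (BT.leaf (nat_lit 22410253)) (BT.leaf (nat_lit 22410265)))) (BT.node (nat_lit 8288512) (BT.node (nat_lit 8288320) (BT.leaf (nat_lit 22410269)) (BT.leaf (nat_lit 24589077))) (BT.node (nat_lit 8288832) (BT.leaf (nat_lit 37469209)) (BT.leaf (nat_lit 49863433))))) (BT.node (nat_lit 8289152) (BT.node (nat_lit 8288961) (BT.node (nat_lit 8288960) (BT.leaf (nat_lit 36640277)) (BT.leaf (nat_lit 26612241))) (BT.node (nat_lit 8289024) (BT.leaf (nat_lit 578588)) (BT.leaf (nat_lit 37436705)))) (BT.node (nat_lit 8289280) (BT.node (nat_lit 8289216) (BT.leaf (nat_lit 48110613)) (BT.leaf (nat_lit 22411793))) (BT.node (nat_lit 8289344) (BT.leaf (nat_lit 49864977)) (BT.leaf (nat_lit 24304657)))))) (BT.node (nat_lit 8290304) (BT.node (nat_lit 8289920) (BT.node (nat_lit 8289536) (BT.node (nat_lit 8289472) (BT.leaf (nat_lit 36110097)) (BT.leaf (nat_lit 35462933))) (BT.node (nat_lit 8289664) (BT.leaf (nat_lit 35408661)) (BT.leaf (nat_lit 25575957)))) (BT.node (nat_lit 8290112) (BT.node (nat_lit 8289984) (BT.leaf (nat_lit 49800721)) (BT.leaf (nat_lit 31451425))) (BT.node (nat_lit 8290176) (BT.leaf (nat_lit 36316689)) (BT.leaf (nat_lit 33160473))))) (BT.node (nat_lit 8290624) (BT.node (nat_lit 8290432) (BT.node (nat_lit 8290368) (BT.leaf (nat_lit 29755397)) (BT.leaf (nat_lit 22415377))) (BT.node (nat_lit 8290496) (BT.leaf (nat_lit 33162013)) (BT.leaf (nat_lit 46426129)))) (BT.node (nat_lit 8290880) (BT.node (nat_lit 8290816) (BT.leaf (nat_lit 49865737)) (BT.leaf (nat_lit 22421781))) (BT.node (nat_lit 8291008) (BT.leaf (nat_lit 27716385)) (BT.leaf (nat_lit 26735125))))))))))) (BT.node (nat_lit 8317184) (BT.node (nat_lit 8304512) (BT.node (nat_lit 8297984) (BT.node (nat_lit 8294592) (BT.node (nat_lit 8292480) (BT.node (nat_lit 8291712) (BT.node (nat_lit 8291456) (BT.node (nat_lit 8291264) (BT.node (nat_lit 8291200) (BT.leaf (nat_lit 49867025)) (BT.leaf (nat_lit 22418957))) (BT.node (nat_lit 8291392) (BT.leaf (nat_lit 25141265)) (BT.leaf (nat_lit 33486865)))) (BT.node (nat_lit 8291584) (BT.node (nat_lit 8291520) (BT.leaf (nat_lit 25713429)) (BT.leaf (nat_lit 46746385))) (BT.node (nat_lit 8291648) (BT.leaf (nat_lit 24622869)) (BT.leaf (nat_lit 22538773))))) (BT.node (nat_lit 8291968) (BT.node (nat_lit 8291840) (BT.node (nat_lit 8291776) (BT.leaf (nat_lit 22649109)) (BT.leaf (nat_lit 27265049))) (BT.node (nat_lit 8291904) (BT.leaf (nat_lit 23453717)) (BT.leaf (nat_lit 23453721)))) (BT.node (nat_lit 8292096) (BT.node (nat_lit 8292032) (BT.leaf (nat_lit 49868829)) (BT.leaf (nat_lit 26866693))) (BT.node (nat_lit 8292160) (BT.leaf (nat_lit 49869845)) (BT.leaf (nat_lit 49870361)))))) (BT.node (nat_lit 8293760) (BT.node (nat_lit 8292992) (BT.node (nat_lit 8292864) (BT.node (nat_lit 8292800) (BT.leaf (nat_lit 35637253)) (BT.leaf (nat_lit 22428689))) (BT.node (nat_lit 8292928) (BT.leaf (nat_lit 22826001)) (BT.leaf (nat_lit 36876821)))) (BT.node (nat_lit 8293504) (BT.node (nat_lit 8293248) (BT.leaf (nat_lit 32402449)) (BT.leaf (nat_lit 46941457))) (BT.node (nat_lit 8293568) (BT.leaf (nat_lit 22433297)) (BT.leaf (nat_lit 49646865))))) (BT.node (nat_lit 8294016) (BT.node (nat_lit 8293888) (BT.node (nat_lit 8293824) (BT.leaf (nat_lit 26824733)) (BT.leaf (nat_lit 22434065))) (BT.node (nat_lit 8293952) (BT.leaf (nat_lit 22434581)) (BT.leaf (nat_lit 24259873)))) (BT.node (nat_lit 8294144) (BT.node (nat_lit 8294080) (BT.leaf (nat_lit 33339425)) (BT.leaf (nat_lit 34234133))) (BT.node (nat_lit 8294272) (BT.leaf (nat_lit 28263969)) (BT.leaf (nat_lit 23147553))))))) (BT.node (nat_lit 8296448) (BT.node (nat_lit 8295936) (BT.node (nat_lit 8295488) (BT.node (nat_lit 8295168) (BT.node (nat_lit 8295104) (BT.leaf (nat_lit 22717705)) (BT.leaf (nat_lit 23129109))) (BT.node (nat_lit 8295232) (BT.leaf (nat_lit 25950489)) (BT.leaf (nat_lit 25997589)))) (BT.node (nat_lit 8295616) (BT.node (nat_lit 8295552) (BT.leaf (nat_lit 22443285)) (BT.leaf (nat_lit 22444561))) (BT.node (nat_lit 8295872) (BT.leaf (nat_lit 22445061)) (BT.leaf (nat_lit 22446097))))) (BT.node (nat_lit 8296192) (BT.node (nat_lit 8296064) (BT.node (nat_lit 8296000) (BT.leaf (nat_lit 25101581)) (BT.leaf (nat_lit 25479189))) (BT.node (nat_lit 8296128) (BT.leaf (nat_lit 26382621)) (BT.leaf (nat_lit 25482517)))) (BT.node (nat_lit 8296320) (BT.node (nat_lit 8296256) (BT.leaf (nat_lit 24973065)) (BT.leaf (nat_lit 22449169))) (BT.node (nat_lit 8296384) (BT.leaf (nat_lit 22498569)) (BT.leaf (nat_lit 49877009)))))) (BT.node (nat_lit 8297024) (BT.node (nat_lit 8296704) (BT.node (nat_lit 8296576) (BT.node (nat_lit 8296512) (BT.leaf (nat_lit 49877529)) (BT.leaf (nat_lit 46588693))) (BT.node (nat_lit 8296640) (BT.leaf (nat_lit 49877269)) (BT.leaf (nat_lit 49877777)))) (BT.node (nat_lit 8296832) (BT.node (nat_lit 8296768) (BT.leaf (nat_lit 22452753)) (BT.leaf (nat_lit 23147297))) (BT.node (nat_lit 8296896) (BT.leaf (nat_lit 28579849)) (BT.leaf (nat_lit 46751777))))) (BT.node (nat_lit 8297344) (BT.node (nat_lit 8297152) (BT.node (nat_lit 8297088) (BT.leaf (nat_lit 35621917)) (BT.leaf (nat_lit 33194785))) (BT.node (nat_lit 8297216) (BT.leaf (nat_lit 49879061)) (BT.leaf (nat_lit 49879825)))) (BT.node (nat_lit 8297472) (BT.node (nat_lit 8297408) (BT.leaf (nat_lit 33720581)) (BT.leaf (nat_lit 33952025))) (BT.node (nat_lit 8297920) (BT.leaf (nat_lit 49880081)) (BT.leaf (nat_lit 46587653)))))))) (BT.node (nat_lit 8301440) (BT.node (nat_lit 8299776) (BT.node (nat_lit 8298880) (BT.node (nat_lit 8298496) (BT.node (nat_lit 8298112) (BT.node (nat_lit 8298048) (BT.leaf (nat_lit 31072277)) (BT.leaf (nat_lit 38354449))) (BT.node (nat_lit 8298368) (BT.leaf (nat_lit 48456213)) (BT.leaf (nat_lit 33351685)))) (BT.node (nat_lit 8298688) (BT.node (nat_lit 8298560) (BT.leaf (nat_lit 31072517)) (BT.leaf (nat_lit 31072261))) (BT.node (nat_lit 8298752) (BT.leaf (nat_lit 24979213)) (BT.leaf (nat_lit 22498577))))) (BT.node (nat_lit 8299200) (BT.node (nat_lit 8299072) (BT.node (nat_lit 8299008) (BT.leaf (nat_lit 36969221)) (BT.leaf (nat_lit 22460949))) (BT.node (nat_lit 8299136) (BT.leaf (nat_lit 49883921)) (BT.leaf (nat_lit 37250841)))) (BT.node (nat_lit 8299520) (BT.node (nat_lit 8299456) (BT.leaf (nat_lit 22461961)) (BT.leaf (nat_lit 24983045))) (BT.node (nat_lit 8299712) (BT.leaf (nat_lit 33566997)) (BT.leaf (nat_lit 26442769)))))) (BT.node (nat_lit 8300352) (BT.node (nat_lit 8300032) (BT.node (nat_lit 8299904) (BT.node (nat_lit 8299840) (BT.leaf (nat_lit 34500897)) (BT.leaf (nat_lit 33198877))) (BT.node (nat_lit 8299968) (BT.leaf (nat_lit 24980509)) (BT.leaf (nat_lit 26443025)))) (BT.node (nat_lit 8300160) (BT.node (nat_lit 8300096) (BT.leaf (nat_lit 36313625)) (BT.leaf (nat_lit 36087841))) (BT.node (nat_lit 8300224) (BT.leaf (nat_lit 27367713)) (BT.leaf (nat_lit 35743749))))) (BT.node (nat_lit 8300672) (BT.node (nat_lit 8300480) (BT.node (nat_lit 8300416) (BT.leaf (nat_lit 33198105)) (BT.leaf (nat_lit 22465297))) (BT.node (nat_lit 8300544) (BT.leaf (nat_lit 36010773)) (BT.leaf (nat_lit 37013533)))) (BT.node (nat_lit 8300928) (BT.node (nat_lit 8300864) (BT.leaf (nat_lit 49885213)) (BT.leaf (nat_lit 35537413))) (BT.node (nat_lit 8301376) (BT.leaf (nat_lit 22467089)) (BT.leaf (nat_lit 51436569))))))) (BT.node (nat_lit 8302912) (BT.node (nat_lit 8302336) (BT.node (nat_lit 8302016) (BT.node (nat_lit 8301888) (BT.node (nat_lit 8301504) (BT.leaf (nat_lit 33209369)) (BT.leaf (nat_lit 50223369))) (BT.node (nat_lit 8301952) (BT.leaf (nat_lit 35936781)) (BT.leaf (nat_lit 25496085)))) (BT.node (nat_lit 8302144) (BT.node (nat_lit 8302080) (BT.leaf (nat_lit 49885973)) (BT.leaf (nat_lit 37266437))) (BT.node (nat_lit 8302208) (BT.leaf (nat_lit 34909961)) (BT.leaf (nat_lit 33304325))))) (BT.node (nat_lit 8302656) (BT.node (nat_lit 8302464) (BT.node (nat_lit 8302400) (BT.leaf (nat_lit 35051041)) (BT.leaf (nat_lit 35936785))) (BT.node (nat_lit 8302528) (BT.leaf (nat_lit 22472209)) (BT.leaf (nat_lit 33983517)))) (BT.node (nat_lit 8302784) (BT.node (nat_lit 8302720) (BT.leaf (nat_lit 34001157)) (BT.leaf (nat_lit 33210649))) (BT.node (nat_lit 8302848) (BT.leaf (nat_lit 22473233)) (BT.leaf (nat_lit 49887505)))))) (BT.node (nat_lit 8303680) (BT.node (nat_lit 8303296) (BT.node (nat_lit 8303168) (BT.node (nat_lit 8303040) (BT.leaf (nat_lit 33210633)) (BT.leaf (nat_lit 22475793))) (BT.node (nat_lit 8303232) (BT.leaf (nat_lit 26810393)) (BT.leaf (nat_lit 49888781)))) (BT.node (nat_lit 8303424) (BT.node (nat_lit 8303360) (BT.leaf (nat_lit 22478613)) (BT.leaf (nat_lit 22478873))) (BT.node (nat_lit 8303552) (BT.leaf (nat_lit 31206421)) (BT.leaf (nat_lit 49890065))))) (BT.node (nat_lit 8303936) (BT.node (nat_lit 8303808) (BT.node (nat_lit 8303744) (BT.leaf (nat_lit 49890069)) (BT.leaf (nat_lit 49890833))) (BT.node (nat_lit 8303872) (BT.leaf (nat_lit 49891345)) (BT.leaf (nat_lit 36061193)))) (BT.node (nat_lit 8304064) (BT.node (nat_lit 8304000) (BT.leaf (nat_lit 49891601)) (BT.leaf (nat_lit 49891857))) (BT.node (nat_lit 8304128) (BT.leaf (nat_lit 49892377)) (BT.leaf (nat_lit 49892113))))))))) (BT.node (nat_lit 8311488) (BT.node (nat_lit 8307776) (BT.node (nat_lit 8306048) (BT.node (nat_lit 8305280) (BT.node (nat_lit 8304832) (BT.node (nat_lit 8304640) (BT.node (nat_lit 8304576) (BT.leaf (nat_lit 22485533)) (BT.leaf (nat_lit 49893409))) (BT.node (nat_lit 8304704) (BT.leaf (nat_lit 30103301)) (BT.leaf (nat_lit 22486809)))) (BT.node (nat_lit 8305024) (BT.node (nat_lit 8304960) (BT.leaf (nat_lit 22488093)) (BT.leaf (nat_lit 22488353))) (BT.node (nat_lit 8305152) (BT.leaf (nat_lit 47340293)) (BT.leaf (nat_lit 33876237))))) (BT.node (nat_lit 8305536) (BT.node (nat_lit 8305408) (BT.node (nat_lit 8305344) (BT.leaf (nat_lit 46887713)) (BT.leaf (nat_lit 37167889))) (BT.node (nat_lit 8305472) (BT.leaf (nat_lit 26845713)) (BT.leaf (nat_lit 33728793)))) (BT.node (nat_lit 8305792) (BT.node (nat_lit 8305728) (BT.leaf (nat_lit 33925137)) (BT.leaf (nat_lit 35148305))) (BT.node (nat_lit 8305984) (BT.leaf (nat_lit 25905181)) (BT.leaf (nat_lit 25178905)))))) (BT.node (nat_lit 8307136) (BT.node (nat_lit 8306560) (BT.node (nat_lit 8306304) (BT.node (nat_lit 8306112) (BT.leaf (nat_lit 22800669)) (BT.leaf (nat_lit 51069957))) (BT.node (nat_lit 8306496) (BT.leaf (nat_lit 22496789)) (BT.leaf (nat_lit 34548229)))) (BT.node (nat_lit 8306880) (BT.node (nat_lit 8306816) (BT.leaf (nat_lit 22498065)) (BT.leaf (nat_lit 46649093))) (BT.node (nat_lit 8307072) (BT.leaf (nat_lit 50071833)) (BT.leaf (nat_lit 33698325))))) (BT.node (nat_lit 8307392) (BT.node (nat_lit 8307264) (BT.node (nat_lit 8307200) (BT.leaf (nat_lit 42151693)) (BT.leaf (nat_lit 38778901))) (BT.node (nat_lit 8307328) (BT.leaf (nat_lit 49898757)) (BT.leaf (nat_lit 34039301)))) (BT.node (nat_lit 8307520) (BT.node (nat_lit 8307456) (BT.leaf (nat_lit 25366813)) (BT.leaf (nat_lit 49899017))) (BT.node (nat_lit 8307584) (BT.leaf (nat_lit 49899541)) (BT.leaf (nat_lit 49900321))))))) (BT.node (nat_lit 8309696) (BT.node (nat_lit 8309056) (BT.node (nat_lit 8308736) (BT.node (nat_lit 8308352) (BT.node (nat_lit 8307904) (BT.leaf (nat_lit 49902113)) (BT.leaf (nat_lit 27034133))) (BT.node (nat_lit 8308480) (BT.leaf (nat_lit 26576661)) (BT.leaf (nat_lit 24169761)))) (BT.node (nat_lit 8308928) (BT.node (nat_lit 8308800) (BT.leaf (nat_lit 35373593)) (BT.leaf (nat_lit 26313241))) (BT.node (nat_lit 8308992) (BT.leaf (nat_lit 33874193)) (BT.leaf (nat_lit 25911313))))) (BT.node (nat_lit 8309312) (BT.node (nat_lit 8309184) (BT.node (nat_lit 8309120) (BT.leaf (nat_lit 33235993)) (BT.leaf (nat_lit 33122077))) (BT.node (nat_lit 8309248) (BT.leaf (nat_lit 33237021)) (BT.leaf (nat_lit 49809425)))) (BT.node (nat_lit 8309440) (BT.node (nat_lit 8309376) (BT.leaf (nat_lit 22507797)) (BT.leaf (nat_lit 22507801))) (BT.node (nat_lit 8309632) (BT.leaf (nat_lit 22507805)) (BT.leaf (nat_lit 34514181)))))) (BT.node (nat_lit 8310720) (BT.node (nat_lit 8309952) (BT.node (nat_lit 8309824) (BT.node (nat_lit 8309760) (BT.leaf (nat_lit 22509073)) (BT.leaf (nat_lit 22509589))) (BT.node (nat_lit 8309888) (BT.leaf (nat_lit 33239581)) (BT.leaf (nat_lit 49837329)))) (BT.node (nat_lit 8310592) (BT.node (nat_lit 8310016) (BT.leaf (nat_lit 24597021)) (BT.leaf (nat_lit 22510353))) (BT.node (nat_lit 8310656) (BT.leaf (nat_lit 33428501)) (BT.leaf (nat_lit 30854677))))) (BT.node (nat_lit 8311040) (BT.node (nat_lit 8310848) (BT.node (nat_lit 8310784) (BT.leaf (nat_lit 22512409)) (BT.leaf (nat_lit 22512413))) (BT.node (nat_lit 8310912) (BT.leaf (nat_lit 25283609)) (BT.leaf (nat_lit 25552653)))) (BT.node (nat_lit 8311168) (BT.node (nat_lit 8311104) (BT.leaf (nat_lit 22514953)) (BT.leaf (nat_lit 22515217))) (BT.node (nat_lit 8311360) (BT.leaf (nat_lit 24089357)) (BT.leaf (nat_lit 22515485)))))))) (BT.node (nat_lit 8314496) (BT.node (nat_lit 8312896) (BT.node (nat_lit 8312128) (BT.node (nat_lit 8311808) (BT.node (nat_lit 8311616) (BT.node (nat_lit 8311552) (BT.leaf (nat_lit 49908501)) (BT.leaf (nat_lit 25947397))) (BT.node (nat_lit 8311744) (BT.leaf (nat_lit 22518289)) (BT.leaf (nat_lit 52358665)))) (BT.node (nat_lit 8311936) (BT.node (nat_lit 8311872) (BT.leaf (nat_lit 22519569)) (BT.leaf (nat_lit 25981465))) (BT.node (nat_lit 8312064) (BT.leaf (nat_lit 49909269)) (BT.leaf (nat_lit 24939801))))) (BT.node (nat_lit 8312576) (BT.node (nat_lit 8312320) (BT.node (nat_lit 8312192) (BT.leaf (nat_lit 22520593)) (BT.leaf (nat_lit 24673569))) (BT.node (nat_lit 8312384) (BT.leaf (nat_lit 49910549)) (BT.leaf (nat_lit 49910801)))) (BT.node (nat_lit 8312704) (BT.node (nat_lit 8312640) (BT.leaf (nat_lit 22522901)) (BT.leaf (nat_lit 22523161))) (BT.node (nat_lit 8312832) (BT.leaf (nat_lit 27193373)) (BT.leaf (nat_lit 27196181)))))) (BT.node (nat_lit 8313472) (BT.node (nat_lit 8313216) (BT.node (nat_lit 8313088) (BT.node (nat_lit 8313024) (BT.leaf (nat_lit 26377245)) (BT.leaf (nat_lit 33734165))) (BT.node (nat_lit 8313152) (BT.leaf (nat_lit 34127109)) (BT.leaf (nat_lit 25579797)))) (BT.node (nat_lit 8313344) (BT.node (nat_lit 8313280) (BT.leaf (nat_lit 36025109)) (BT.leaf (nat_lit 33252889))) (BT.node (nat_lit 8313408) (BT.leaf (nat_lit 25584393)) (BT.leaf (nat_lit 34413321))))) (BT.node (nat_lit 8313984) (BT.node (nat_lit 8313728) (BT.node (nat_lit 8313600) (BT.leaf (nat_lit 36025113)) (BT.leaf (nat_lit 34869789))) (BT.node (nat_lit 8313792) (BT.leaf (nat_lit 46430981)) (BT.leaf (nat_lit 49912341)))) (BT.node (nat_lit 8314176) (BT.node (nat_lit 8314048) (BT.leaf (nat_lit 49912597)) (BT.leaf (nat_lit 49912849))) (BT.node (nat_lit 8314432) (BT.leaf (nat_lit 38910741)) (BT.leaf (nat_lit 33273365))))))) (BT.node (nat_lit 8315584) (BT.node (nat_lit 8315008) (BT.node (nat_lit 8314752) (BT.node (nat_lit 8314624) (BT.node (nat_lit 8314560) (BT.leaf (nat_lit 22528789)) (BT.leaf (nat_lit 49913105))) (BT.node (nat_lit 8314688) (BT.leaf (nat_lit 22529561)) (BT.leaf (nat_lit 22529565)))) (BT.node (nat_lit 8314880) (BT.node (nat_lit 8314816) (BT.leaf (nat_lit 33099781)) (BT.leaf (nat_lit 33100065))) (BT.node (nat_lit 8314944) (BT.leaf (nat_lit 33273117)) (BT.leaf (nat_lit 25015825))))) (BT.node (nat_lit 8315264) (BT.node (nat_lit 8315136) (BT.node (nat_lit 8315072) (BT.leaf (nat_lit 25015569)) (BT.leaf (nat_lit 22530077))) (BT.node (nat_lit 8315200) (BT.leaf (nat_lit 22531601)) (BT.leaf (nat_lit 49913873)))) (BT.node (nat_lit 8315456) (BT.node (nat_lit 8315392) (BT.leaf (nat_lit 25628933)) (BT.leaf (nat_lit 49914909))) (BT.node (nat_lit 8315520) (BT.leaf (nat_lit 29461281)) (BT.leaf (nat_lit 46639905)))))) (BT.node (nat_lit 8316416) (BT.node (nat_lit 8315840) (BT.node (nat_lit 8315712) (BT.node (nat_lit 8315648) (BT.leaf (nat_lit 22532889)) (BT.leaf (nat_lit 22532893))) (BT.node (nat_lit 8315776) (BT.leaf (nat_lit 23852057)) (BT.leaf (nat_lit 30069533)))) (BT.node (nat_lit 8315968) (BT.node (nat_lit 8315904) (BT.leaf (nat_lit 22533657)) (BT.leaf (nat_lit 22533661))) (BT.node (nat_lit 8316224) (BT.leaf (nat_lit 22534161)) (BT.leaf (nat_lit 22534929))))) (BT.node (nat_lit 8316864) (BT.node (nat_lit 8316608) (BT.node (nat_lit 8316480) (BT.leaf (nat_lit 35011865)) (BT.leaf (nat_lit 47517985))) (BT.node (nat_lit 8316800) (BT.leaf (nat_lit 49916429)) (BT.leaf (nat_lit 37937685)))) (BT.node (nat_lit 8316992) (BT.node (nat_lit 8316928) (BT.leaf (nat_lit 27858953)) (BT.leaf (nat_lit 22538769))) (BT.node (nat_lit 8317056) (BT.leaf (nat_lit 50578449)) (BT.leaf (nat_lit 22540053)))))))))) (BT.node (nat_lit 8327232) (BT.node (nat_lit 8322432) (BT.node (nat_lit 8319744) (BT.node (nat_lit 8318272) (BT.node (nat_lit 8317760) (BT.node (nat_lit 8317504) (BT.node (nat_lit 8317376) (BT.node (nat_lit 8317312) (BT.leaf (nat_lit 35869969)) (BT.leaf (nat_lit 34879773))) (BT.node (nat_lit 8317440) (BT.leaf (nat_lit 33060125)) (BT.leaf (nat_lit 35899153)))) (BT.node (nat_lit 8317632) (BT.node (nat_lit 8317568) (BT.leaf (nat_lit 46327069)) (BT.leaf (nat_lit 33059853))) (BT.node (nat_lit 8317696) (BT.leaf (nat_lit 23289093)) (BT.leaf (nat_lit 49917969))))) (BT.node (nat_lit 8318016) (BT.node (nat_lit 8317888) (BT.node (nat_lit 8317824) (BT.leaf (nat_lit 36007441)) (BT.leaf (nat_lit 25338885))) (BT.node (nat_lit 8317952) (BT.leaf (nat_lit 25362949)) (BT.leaf (nat_lit 22542365)))) (BT.node (nat_lit 8318144) (BT.node (nat_lit 8318080) (BT.leaf (nat_lit 33272349)) (BT.leaf (nat_lit 25339917))) (BT.node (nat_lit 8318208) (BT.leaf (nat_lit 22542865)) (BT.leaf (nat_lit 49918997)))))) (BT.node (nat_lit 8318848) (BT.node (nat_lit 8318528) (BT.node (nat_lit 8318400) (BT.node (nat_lit 8318336) (BT.leaf (nat_lit 49919249)) (BT.leaf (nat_lit 52170257))) (BT.node (nat_lit 8318464) (BT.leaf (nat_lit 33273369)) (BT.leaf (nat_lit 49920017)))) (BT.node (nat_lit 8318656) (BT.node (nat_lit 8318592) (BT.leaf (nat_lit 49920273)) (BT.leaf (nat_lit 49920537))) (BT.node (nat_lit 8318720) (BT.leaf (nat_lit 22543641)) (BT.leaf (nat_lit 37705505))))) (BT.node (nat_lit 8319424) (BT.node (nat_lit 8319168) (BT.node (nat_lit 8318912) (BT.leaf (nat_lit 22544149)) (BT.leaf (nat_lit 22544405))) (BT.node (nat_lit 8319296) (BT.leaf (nat_lit 30088713)) (BT.leaf (nat_lit 33380105)))) (BT.node (nat_lit 8319616) (BT.node (nat_lit 8319488) (BT.leaf (nat_lit 22545685)) (BT.leaf (nat_lit 35050513))) (BT.node (nat_lit 8319680) (BT.leaf (nat_lit 49922577)) (BT.leaf (nat_lit 23670297))))))) (BT.node (nat_lit 8321344) (BT.node (nat_lit 8320384) (BT.node (nat_lit 8320064) (BT.node (nat_lit 8319872) (BT.node (nat_lit 8319808) (BT.leaf (nat_lit 34225429)) (BT.leaf (nat_lit 35979041))) (BT.node (nat_lit 8319936) (BT.leaf (nat_lit 49923857)) (BT.leaf (nat_lit 33279513)))) (BT.node (nat_lit 8320192) (BT.node (nat_lit 8320128) (BT.leaf (nat_lit 22548241)) (BT.leaf (nat_lit 34247193))) (BT.node (nat_lit 8320256) (BT.leaf (nat_lit 23674637)) (BT.leaf (nat_lit 25475601))))) (BT.node (nat_lit 8320768) (BT.node (nat_lit 8320576) (BT.node (nat_lit 8320512) (BT.leaf (nat_lit 49925141)) (BT.leaf (nat_lit 37962273))) (BT.node (nat_lit 8320640) (BT.leaf (nat_lit 33787673)) (BT.leaf (nat_lit 30370829)))) (BT.node (nat_lit 8321152) (BT.node (nat_lit 8321024) (BT.leaf (nat_lit 30370845)) (BT.leaf (nat_lit 22552081))) (BT.node (nat_lit 8321216) (BT.leaf (nat_lit 24925205)) (BT.leaf (nat_lit 26713629)))))) (BT.node (nat_lit 8321920) (BT.node (nat_lit 8321600) (BT.node (nat_lit 8321472) (BT.node (nat_lit 8321408) (BT.leaf (nat_lit 33084169)) (BT.leaf (nat_lit 49927953))) (BT.node (nat_lit 8321536) (BT.leaf (nat_lit 33285657)) (BT.leaf (nat_lit 49928209)))) (BT.node (nat_lit 8321792) (BT.node (nat_lit 8321664) (BT.leaf (nat_lit 33116677)) (BT.leaf (nat_lit 22555665))) (BT.node (nat_lit 8321856) (BT.leaf (nat_lit 22556697)) (BT.leaf (nat_lit 22556701))))) (BT.node (nat_lit 8322176) (BT.node (nat_lit 8322048) (BT.node (nat_lit 8321984) (BT.leaf (nat_lit 27806729)) (BT.leaf (nat_lit 22557721))) (BT.node (nat_lit 8322112) (BT.leaf (nat_lit 22557725)) (BT.leaf (nat_lit 22557969)))) (BT.node (nat_lit 8322304) (BT.node (nat_lit 8322240) (BT.leaf (nat_lit 48951061)) (BT.leaf (nat_lit 22558993))) (BT.node (nat_lit 8322368) (BT.leaf (nat_lit 24947225)) (BT.leaf (nat_lit 35995421)))))))) (BT.node (nat_lit 8324864) (BT.node (nat_lit 8323776) (BT.node (nat_lit 8323200) (BT.node (nat_lit 8322752) (BT.node (nat_lit 8322560) (BT.node (nat_lit 8322496) (BT.leaf (nat_lit 26403601)) (BT.leaf (nat_lit 22925849))) (BT.node (nat_lit 8322624) (BT.leaf (nat_lit 25599765)) (BT.leaf (nat_lit 22560285)))) (BT.node (nat_lit 8322944) (BT.node (nat_lit 8322880) (BT.leaf (nat_lit 22561297)) (BT.leaf (nat_lit 26597661))) (BT.node (nat_lit 8323008) (BT.leaf (nat_lit 25512473)) (BT.leaf (nat_lit 49930773))))) (BT.node (nat_lit 8323456) (BT.node (nat_lit 8323328) (BT.node (nat_lit 8323264) (BT.leaf (nat_lit 22563101)) (BT.leaf (nat_lit 35920153))) (BT.node (nat_lit 8323392) (BT.leaf (nat_lit 50739745)) (BT.leaf (nat_lit 25906949)))) (BT.node (nat_lit 8323584) (BT.node (nat_lit 8323520) (BT.leaf (nat_lit 33294109)) (BT.leaf (nat_lit 36334605))) (BT.node (nat_lit 8323712) (BT.leaf (nat_lit 33186841)) (BT.leaf (nat_lit 47038237)))))) (BT.node (nat_lit 8324288) (BT.node (nat_lit 8324032) (BT.node (nat_lit 8323904) (BT.node (nat_lit 8323840) (BT.leaf (nat_lit 26187297)) (BT.leaf (nat_lit 26304285))) (BT.node (nat_lit 8323968) (BT.leaf (nat_lit 36141329)) (BT.leaf (nat_lit 36726301)))) (BT.node (nat_lit 8324160) (BT.node (nat_lit 8324096) (BT.leaf (nat_lit 26713605)) (BT.leaf (nat_lit 49933329))) (BT.node (nat_lit 8324224) (BT.leaf (nat_lit 23779605)) (BT.leaf (nat_lit 25512453))))) (BT.node (nat_lit 8324608) (BT.node (nat_lit 8324480) (BT.node (nat_lit 8324416) (BT.leaf (nat_lit 33296921)) (BT.leaf (nat_lit 22567441))) (BT.node (nat_lit 8324544) (BT.leaf (nat_lit 25652245)) (BT.leaf (nat_lit 50486793)))) (BT.node (nat_lit 8324736) (BT.node (nat_lit 8324672) (BT.leaf (nat_lit 50449941)) (BT.leaf (nat_lit 22567953))) (BT.node (nat_lit 8324800) (BT.leaf (nat_lit 49935893)) (BT.leaf (nat_lit 49936149))))))) (BT.node (nat_lit 8325888) (BT.node (nat_lit 8325376) (BT.node (nat_lit 8325120) (BT.node (nat_lit 8324992) (BT.node (nat_lit 8324928) (BT.leaf (nat_lit 49936405)) (BT.leaf (nat_lit 46602765))) (BT.node (nat_lit 8325056) (BT.leaf (nat_lit 25599769)) (BT.leaf (nat_lit 23288609)))) (BT.node (nat_lit 8325248) (BT.node (nat_lit 8325184) (BT.leaf (nat_lit 25060121)) (BT.leaf (nat_lit 22571549))) (BT.node (nat_lit 8325312) (BT.leaf (nat_lit 22571781)) (BT.leaf (nat_lit 27148049))))) (BT.node (nat_lit 8325632) (BT.node (nat_lit 8325504) (BT.node (nat_lit 8325440) (BT.leaf (nat_lit 22571545)) (BT.leaf (nat_lit 35808277))) (BT.node (nat_lit 8325568) (BT.leaf (nat_lit 26596637)) (BT.leaf (nat_lit 22572053)))) (BT.node (nat_lit 8325760) (BT.node (nat_lit 8325696) (BT.leaf (nat_lit 37024789)) (BT.leaf (nat_lit 49036577))) (BT.node (nat_lit 8325824) (BT.leaf (nat_lit 26637589)) (BT.leaf (nat_lit 22573601)))))) (BT.node (nat_lit 8326464) (BT.node (nat_lit 8326144) (BT.node (nat_lit 8326016) (BT.node (nat_lit 8325952) (BT.leaf (nat_lit 48759829)) (BT.leaf (nat_lit 47633941))) (BT.node (nat_lit 8326080) (BT.leaf (nat_lit 48997141)) (BT.leaf (nat_lit 49938721)))) (BT.node (nat_lit 8326336) (BT.node (nat_lit 8326208) (BT.leaf (nat_lit 49938949)) (BT.leaf (nat_lit 23168021))) (BT.node (nat_lit 8326400) (BT.leaf (nat_lit 33167109)) (BT.leaf (nat_lit 22579985))))) (BT.node (nat_lit 8326784) (BT.node (nat_lit 8326656) (BT.node (nat_lit 8326592) (BT.leaf (nat_lit 22579989)) (BT.leaf (nat_lit 22581525))) (BT.node (nat_lit 8326720) (BT.leaf (nat_lit 46775829)) (BT.leaf (nat_lit 26573325)))) (BT.node (nat_lit 8327104) (BT.node (nat_lit 8327040) (BT.leaf (nat_lit 46780181)) (BT.leaf (nat_lit 47041037))) (BT.node (nat_lit 8327168) (BT.leaf (nat_lit 22583061)) (BT.leaf (nat_lit 25035793))))))))) (BT.node (nat_lit 8332416) (BT.node (nat_lit 8330048) (BT.node (nat_lit 8328448) (BT.node (nat_lit 8327808) (BT.node (nat_lit 8327488) (BT.node (nat_lit 8327360) (BT.node (nat_lit 8327296) (BT.leaf (nat_lit 49942033)) (BT.leaf (nat_lit 49942545))) (BT.node (nat_lit 8327424) (BT.leaf (nat_lit 49943577)) (BT.leaf (nat_lit 22583321)))) (BT.node (nat_lit 8327616) (BT.node (nat_lit 8327552) (BT.leaf (nat_lit 22583325)) (BT.leaf (nat_lit 49943057))) (BT.node (nat_lit 8327680) (BT.leaf (nat_lit 49945105)) (BT.leaf (nat_lit 22583825))))) (BT.node (nat_lit 8328192) (BT.node (nat_lit 8328064) (BT.node (nat_lit 8328000) (BT.leaf (nat_lit 33500173)) (BT.leaf (nat_lit 28543509))) (BT.node (nat_lit 8328128) (BT.leaf (nat_lit 36956181)) (BT.leaf (nat_lit 26559493)))) (BT.node (nat_lit 8328320) (BT.node (nat_lit 8328256) (BT.leaf (nat_lit 22587165)) (BT.leaf (nat_lit 49946133))) (BT.node (nat_lit 8328384) (BT.leaf (nat_lit 48676613)) (BT.leaf (nat_lit 22588177)))))) (BT.node (nat_lit 8329280) (BT.node (nat_lit 8328704) (BT.node (nat_lit 8328576) (BT.node (nat_lit 8328512) (BT.leaf (nat_lit 26824729)) (BT.leaf (nat_lit 23087381))) (BT.node (nat_lit 8328640) (BT.leaf (nat_lit 33370885)) (BT.leaf (nat_lit 22589209)))) (BT.node (nat_lit 8328832) (BT.node (nat_lit 8328768) (BT.leaf (nat_lit 32295181)) (BT.leaf (nat_lit 22589457))) (BT.node (nat_lit 8329088) (BT.leaf (nat_lit 36032029)) (BT.leaf (nat_lit 35615769))))) (BT.node (nat_lit 8329728) (BT.node (nat_lit 8329536) (BT.node (nat_lit 8329408) (BT.leaf (nat_lit 22591761)) (BT.leaf (nat_lit 35480097))) (BT.node (nat_lit 8329600) (BT.leaf (nat_lit 49947681)) (BT.leaf (nat_lit 49948173)))) (BT.node (nat_lit 8329920) (BT.node (nat_lit 8329856) (BT.leaf (nat_lit 25045533)) (BT.leaf (nat_lit 36140305))) (BT.node (nat_lit 8329984) (BT.leaf (nat_lit 23055905)) (BT.leaf (nat_lit 49811481))))))) (BT.node (nat_lit 8331264) (BT.node (nat_lit 8330624) (BT.node (nat_lit 8330304) (BT.node (nat_lit 8330176) (BT.node (nat_lit 8330112) (BT.leaf (nat_lit 22595609)) (BT.leaf (nat_lit 33334553))) (BT.node (nat_lit 8330240) (BT.leaf (nat_lit 24082209)) (BT.leaf (nat_lit 33321245)))) (BT.node (nat_lit 8330496) (BT.node (nat_lit 8330432) (BT.leaf (nat_lit 26564881)) (BT.leaf (nat_lit 49949205))) (BT.node (nat_lit 8330560) (BT.leaf (nat_lit 24936477)) (BT.leaf (nat_lit 22598161))))) (BT.node (nat_lit 8330880) (BT.node (nat_lit 8330752) (BT.node (nat_lit 8330688) (BT.leaf (nat_lit 22599185)) (BT.leaf (nat_lit 23744281))) (BT.node (nat_lit 8330816) (BT.leaf (nat_lit 23744285)) (BT.leaf (nat_lit 31126037)))) (BT.node (nat_lit 8331008) (BT.node (nat_lit 8330944) (BT.leaf (nat_lit 33323273)) (BT.leaf (nat_lit 32144921))) (BT.node (nat_lit 8331072) (BT.leaf (nat_lit 32144925)) (BT.leaf (nat_lit 24936473)))))) (BT.node (nat_lit 8331776) (BT.node (nat_lit 8331520) (BT.node (nat_lit 8331392) (BT.node (nat_lit 8331328) (BT.leaf (nat_lit 22601493)) (BT.leaf (nat_lit 33083921))) (BT.node (nat_lit 8331456) (BT.leaf (nat_lit 33291537)) (BT.leaf (nat_lit 22601745)))) (BT.node (nat_lit 8331648) (BT.node (nat_lit 8331584) (BT.leaf (nat_lit 22602005)) (BT.leaf (nat_lit 22602013))) (BT.node (nat_lit 8331712) (BT.leaf (nat_lit 22602257)) (BT.leaf (nat_lit 26305041))))) (BT.node (nat_lit 8332032) (BT.node (nat_lit 8331904) (BT.node (nat_lit 8331840) (BT.leaf (nat_lit 27290129)) (BT.leaf (nat_lit 26010641))) (BT.node (nat_lit 8331968) (BT.leaf (nat_lit 34477333)) (BT.leaf (nat_lit 22963737)))) (BT.node (nat_lit 8332224) (BT.node (nat_lit 8332096) (BT.leaf (nat_lit 34477341)) (BT.leaf (nat_lit 25429269))) (BT.node (nat_lit 8332288) (BT.leaf (nat_lit 25048069)) (BT.leaf (nat_lit 27149081)))))))) (BT.node (nat_lit 8335296) (BT.node (nat_lit 8333824) (BT.node (nat_lit 8333312) (BT.node (nat_lit 8332992) (BT.node (nat_lit 8332544) (BT.node (nat_lit 8332480) (BT.leaf (nat_lit 22604821)) (BT.leaf (nat_lit 22605077))) (BT.node (nat_lit 8332928) (BT.leaf (nat_lit 37130785)) (BT.leaf (nat_lit 49958433)))) (BT.node (nat_lit 8333120) (BT.node (nat_lit 8333056) (BT.leaf (nat_lit 49958661)) (BT.leaf (nat_lit 49959713))) (BT.node (nat_lit 8333184) (BT.leaf (nat_lit 49960225)) (BT.leaf (nat_lit 26577429))))) (BT.node (nat_lit 8333568) (BT.node (nat_lit 8333440) (BT.node (nat_lit 8333376) (BT.leaf (nat_lit 50450193)) (BT.leaf (nat_lit 27035681))) (BT.node (nat_lit 8333504) (BT.leaf (nat_lit 24546577)) (BT.leaf (nat_lit 46376221)))) (BT.node (nat_lit 8333696) (BT.node (nat_lit 8333632) (BT.leaf (nat_lit 22607377)) (BT.leaf (nat_lit 35536657))) (BT.node (nat_lit 8333760) (BT.leaf (nat_lit 33335305)) (BT.leaf (nat_lit 36148497)))))) (BT.node (nat_lit 8334592) (BT.node (nat_lit 8334080) (BT.node (nat_lit 8333952) (BT.node (nat_lit 8333888) (BT.leaf (nat_lit 35551765)) (BT.leaf (nat_lit 36148241))) (BT.node (nat_lit 8334016) (BT.leaf (nat_lit 37515285)) (BT.leaf (nat_lit 33336349)))) (BT.node (nat_lit 8334464) (BT.node (nat_lit 8334272) (BT.leaf (nat_lit 33441041)) (BT.leaf (nat_lit 28234761))) (BT.node (nat_lit 8334528) (BT.leaf (nat_lit 46821397)) (BT.leaf (nat_lit 22611989))))) (BT.node (nat_lit 8334848) (BT.node (nat_lit 8334720) (BT.node (nat_lit 8334656) (BT.leaf (nat_lit 22612505)) (BT.leaf (nat_lit 22613265))) (BT.node (nat_lit 8334784) (BT.leaf (nat_lit 22613525)) (BT.leaf (nat_lit 33053709)))) (BT.node (nat_lit 8335168) (BT.node (nat_lit 8334976) (BT.leaf (nat_lit 22614297)) (BT.leaf (nat_lit 49530401))) (BT.node (nat_lit 8335232) (BT.leaf (nat_lit 24673029)) (BT.leaf (nat_lit 25052189))))))) (BT.node (nat_lit 8337024) (BT.node (nat_lit 8336064) (BT.node (nat_lit 8335744) (BT.node (nat_lit 8335488) (BT.node (nat_lit 8335360) (BT.leaf (nat_lit 22615569)) (BT.leaf (nat_lit 25936133))) (BT.node (nat_lit 8335616) (BT.leaf (nat_lit 22616081)) (BT.leaf (nat_lit 50141473)))) (BT.node (nat_lit 8335936) (BT.node (nat_lit 8335808) (BT.leaf (nat_lit 35224609)) (BT.leaf (nat_lit 22618129))) (BT.node (nat_lit 8336000) (BT.leaf (nat_lit 27911457)) (BT.leaf (nat_lit 22618901))))) (BT.node (nat_lit 8336768) (BT.node (nat_lit 8336320) (BT.node (nat_lit 8336128) (BT.leaf (nat_lit 22619665)) (BT.leaf (nat_lit 24354073))) (BT.node (nat_lit 8336704) (BT.leaf (nat_lit 38499873)) (BT.leaf (nat_lit 49965337)))) (BT.node (nat_lit 8336896) (BT.node (nat_lit 8336832) (BT.leaf (nat_lit 46842389)) (BT.leaf (nat_lit 30058513))) (BT.node (nat_lit 8336960) (BT.leaf (nat_lit 22622997)) (BT.leaf (nat_lit 25457689)))))) (BT.node (nat_lit 8337664) (BT.node (nat_lit 8337408) (BT.node (nat_lit 8337152) (BT.node (nat_lit 8337088) (BT.leaf (nat_lit 22631709)) (BT.leaf (nat_lit 36039441))) (BT.node (nat_lit 8337344) (BT.leaf (nat_lit 51127313)) (BT.leaf (nat_lit 22626073)))) (BT.node (nat_lit 8337536) (BT.node (nat_lit 8337472) (BT.leaf (nat_lit 26439961)) (BT.leaf (nat_lit 22626325))) (BT.node (nat_lit 8337600) (BT.leaf (nat_lit 25983257)) (BT.leaf (nat_lit 22821653))))) (BT.node (nat_lit 8337920) (BT.node (nat_lit 8337792) (BT.node (nat_lit 8337728) (BT.leaf (nat_lit 33350941)) (BT.leaf (nat_lit 25059093))) (BT.node (nat_lit 8337856) (BT.leaf (nat_lit 22627601)) (BT.leaf (nat_lit 25982993)))) (BT.node (nat_lit 8338112) (BT.node (nat_lit 8338048) (BT.leaf (nat_lit 49967137)) (BT.leaf (nat_lit 33894421))) (BT.node (nat_lit 8338176) (BT.leaf (nat_lit 22628881)) (BT.leaf (nat_lit 22629137)))))))))))) (BT.node (nat_lit 8381376) (BT.node (nat_lit 8360384) (BT.node (nat_lit 8349824) (BT.node (nat_lit 8343808) (BT.node (nat_lit 8340736) (BT.node (nat_lit 8339392) (BT.node (nat_lit 8338880) (BT.node (nat_lit 8338624) (BT.node (nat_lit 8338368) (BT.node (nat_lit 8338304) (BT.leaf (nat_lit 31645969)) (BT.leaf (nat_lit 26736413))) (BT.node (nat_lit 8338496) (BT.leaf (nat_lit 22629649)) (BT.leaf (nat_lit 33060621)))) (BT.node (nat_lit 8338752) (BT.node (nat_lit 8338688) (BT.leaf (nat_lit 35910661)) (BT.leaf (nat_lit 22631453))) (BT.node (nat_lit 8338816) (BT.leaf (nat_lit 48267017)) (BT.leaf (nat_lit 34321693))))) (BT.node (nat_lit 8339136) (BT.node (nat_lit 8339008) (BT.node (nat_lit 8338944) (BT.leaf (nat_lit 52169733)) (BT.leaf (nat_lit 22632465))) (BT.node (nat_lit 8339072) (BT.leaf (nat_lit 22632469)) (BT.leaf (nat_lit 22632729)))) (BT.node (nat_lit 8339264) (BT.node (nat_lit 8339200) (BT.leaf (nat_lit 24307477)) (BT.leaf (nat_lit 26344721))) (BT.node (nat_lit 8339328) (BT.leaf (nat_lit 25061401)) (BT.leaf (nat_lit 33356825)))))) (BT.node (nat_lit 8340096) (BT.node (nat_lit 8339776) (BT.node (nat_lit 8339584) (BT.node (nat_lit 8339456) (BT.leaf (nat_lit 22633489)) (BT.leaf (nat_lit 26344465))) (BT.node (nat_lit 8339712) (BT.leaf (nat_lit 22634001)) (BT.leaf (nat_lit 46853649)))) (BT.node (nat_lit 8339904) (BT.node (nat_lit 8339840) (BT.leaf (nat_lit 37107973)) (BT.leaf (nat_lit 26699525))) (BT.node (nat_lit 8340032) (BT.leaf (nat_lit 36551709)) (BT.leaf (nat_lit 36665361))))) (BT.node (nat_lit 8340352) (BT.node (nat_lit 8340224) (BT.node (nat_lit 8340160) (BT.leaf (nat_lit 22635797)) (BT.leaf (nat_lit 22636057))) (BT.node (nat_lit 8340288) (BT.leaf (nat_lit 22636061)) (BT.leaf (nat_lit 33360153)))) (BT.node (nat_lit 8340608) (BT.node (nat_lit 8340544) (BT.leaf (nat_lit 50107153)) (BT.leaf (nat_lit 33256737))) (BT.node (nat_lit 8340672) (BT.leaf (nat_lit 22639641)) (BT.leaf (nat_lit 24291349))))))) (BT.node (nat_lit 8342464) (BT.node (nat_lit 8341632) (BT.node (nat_lit 8341184) (BT.node (nat_lit 8340928) (BT.node (nat_lit 8340864) (BT.leaf (nat_lit 47954453)) (BT.leaf (nat_lit 26447645))) (BT.node (nat_lit 8341056) (BT.leaf (nat_lit 22645781)) (BT.leaf (nat_lit 46858245)))) (BT.node (nat_lit 8341440) (BT.node (nat_lit 8341248) (BT.leaf (nat_lit 23415325)) (BT.leaf (nat_lit 49973265))) (BT.node (nat_lit 8341568) (BT.leaf (nat_lit 49973777)) (BT.leaf (nat_lit 35556125))))) (BT.node (nat_lit 8342016) (BT.node (nat_lit 8341760) (BT.node (nat_lit 8341696) (BT.leaf (nat_lit 22648597)) (BT.leaf (nat_lit 35539717))) (BT.node (nat_lit 8341952) (BT.leaf (nat_lit 49868293)) (BT.leaf (nat_lit 49976337)))) (BT.node (nat_lit 8342336) (BT.node (nat_lit 8342080) (BT.leaf (nat_lit 22922777)) (BT.leaf (nat_lit 35526413))) (BT.node (nat_lit 8342400) (BT.leaf (nat_lit 49977629)) (BT.leaf (nat_lit 46870545)))))) (BT.node (nat_lit 8343296) (BT.node (nat_lit 8342784) (BT.node (nat_lit 8342592) (BT.node (nat_lit 8342528) (BT.leaf (nat_lit 46870289)) (BT.leaf (nat_lit 22652953))) (BT.node (nat_lit 8342720) (BT.leaf (nat_lit 46870033)) (BT.leaf (nat_lit 22653465)))) (BT.node (nat_lit 8342912) (BT.node (nat_lit 8342848) (BT.leaf (nat_lit 22653469)) (BT.leaf (nat_lit 22654229))) (BT.node (nat_lit 8343232) (BT.leaf (nat_lit 34756877)) (BT.leaf (nat_lit 26579489))))) (BT.node (nat_lit 8343552) (BT.node (nat_lit 8343424) (BT.node (nat_lit 8343360) (BT.leaf (nat_lit 22656029)) (BT.leaf (nat_lit 25071893))) (BT.node (nat_lit 8343488) (BT.leaf (nat_lit 49979157)) (BT.leaf (nat_lit 49979425)))) (BT.node (nat_lit 8343680) (BT.node (nat_lit 8343616) (BT.leaf (nat_lit 46365729)) (BT.leaf (nat_lit 46473761))) (BT.node (nat_lit 8343744) (BT.leaf (nat_lit 46415877)) (BT.leaf (nat_lit 33380893)))))))) (BT.node (nat_lit 8346752) (BT.node (nat_lit 8345088) (BT.node (nat_lit 8344512) (BT.node (nat_lit 8344192) (BT.node (nat_lit 8344000) (BT.node (nat_lit 8343872) (BT.leaf (nat_lit 22658065)) (BT.leaf (nat_lit 22658589))) (BT.node (nat_lit 8344128) (BT.leaf (nat_lit 22658833)) (BT.leaf (nat_lit 34239765)))) (BT.node (nat_lit 8344320) (BT.node (nat_lit 8344256) (BT.leaf (nat_lit 26188565)) (BT.leaf (nat_lit 26204945))) (BT.node (nat_lit 8344448) (BT.leaf (nat_lit 22659613)) (BT.leaf (nat_lit 25299989))))) (BT.node (nat_lit 8344832) (BT.node (nat_lit 8344704) (BT.node (nat_lit 8344576) (BT.leaf (nat_lit 27205397)) (BT.leaf (nat_lit 27205649))) (BT.node (nat_lit 8344768) (BT.leaf (nat_lit 26145553)) (BT.leaf (nat_lit 23278613)))) (BT.node (nat_lit 8344960) (BT.node (nat_lit 8344896) (BT.leaf (nat_lit 29113621)) (BT.leaf (nat_lit 34035489))) (BT.node (nat_lit 8345024) (BT.leaf (nat_lit 34035717)) (BT.leaf (nat_lit 37184533)))))) (BT.node (nat_lit 8345984) (BT.node (nat_lit 8345344) (BT.node (nat_lit 8345216) (BT.node (nat_lit 8345152) (BT.leaf (nat_lit 37184785)) (BT.leaf (nat_lit 49982497))) (BT.node (nat_lit 8345280) (BT.leaf (nat_lit 46706437)) (BT.leaf (nat_lit 35018257)))) (BT.node (nat_lit 8345536) (BT.node (nat_lit 8345408) (BT.leaf (nat_lit 22662165)) (BT.leaf (nat_lit 22662421))) (BT.node (nat_lit 8345792) (BT.leaf (nat_lit 22663441)) (BT.leaf (nat_lit 36334097))))) (BT.node (nat_lit 8346304) (BT.node (nat_lit 8346112) (BT.node (nat_lit 8346048) (BT.leaf (nat_lit 33530885)) (BT.leaf (nat_lit 22665745))) (BT.node (nat_lit 8346240) (BT.leaf (nat_lit 25352473)) (BT.leaf (nat_lit 22667025)))) (BT.node (nat_lit 8346496) (BT.node (nat_lit 8346368) (BT.leaf (nat_lit 23092761)) (BT.leaf (nat_lit 22988817))) (BT.node (nat_lit 8346560) (BT.leaf (nat_lit 22669329)) (BT.leaf (nat_lit 23630609))))))) (BT.node (nat_lit 8348288) (BT.node (nat_lit 8347520) (BT.node (nat_lit 8347264) (BT.node (nat_lit 8347072) (BT.node (nat_lit 8346816) (BT.leaf (nat_lit 25175325)) (BT.leaf (nat_lit 47775265))) (BT.node (nat_lit 8347136) (BT.leaf (nat_lit 22671133)) (BT.leaf (nat_lit 22671137)))) (BT.node (nat_lit 8347392) (BT.node (nat_lit 8347328) (BT.leaf (nat_lit 23180565)) (BT.leaf (nat_lit 29256985))) (BT.node (nat_lit 8347456) (BT.leaf (nat_lit 50364449)) (BT.leaf (nat_lit 49989893))))) (BT.node (nat_lit 8347776) (BT.node (nat_lit 8347648) (BT.node (nat_lit 8347584) (BT.leaf (nat_lit 22672657)) (BT.leaf (nat_lit 26146589))) (BT.node (nat_lit 8347712) (BT.leaf (nat_lit 23214621)) (BT.leaf (nat_lit 23214097)))) (BT.node (nat_lit 8347968) (BT.node (nat_lit 8347840) (BT.leaf (nat_lit 33391389)) (BT.leaf (nat_lit 35433741))) (BT.node (nat_lit 8348224) (BT.leaf (nat_lit 25051909)) (BT.leaf (nat_lit 24049685)))))) (BT.node (nat_lit 8349184) (BT.node (nat_lit 8348608) (BT.node (nat_lit 8348480) (BT.node (nat_lit 8348416) (BT.leaf (nat_lit 29858337)) (BT.leaf (nat_lit 22677265))) (BT.node (nat_lit 8348544) (BT.leaf (nat_lit 46963465)) (BT.leaf (nat_lit 34029081)))) (BT.node (nat_lit 8348992) (BT.node (nat_lit 8348928) (BT.leaf (nat_lit 22677781)) (BT.leaf (nat_lit 22678801))) (BT.node (nat_lit 8349056) (BT.leaf (nat_lit 22679061)) (BT.leaf (nat_lit 49017109))))) (BT.node (nat_lit 8349504) (BT.node (nat_lit 8349376) (BT.node (nat_lit 8349248) (BT.leaf (nat_lit 26367505)) (BT.leaf (nat_lit 33661445))) (BT.node (nat_lit 8349440) (BT.leaf (nat_lit 26367509)) (BT.leaf (nat_lit 22681105)))) (BT.node (nat_lit 8349632) (BT.node (nat_lit 8349568) (BT.leaf (nat_lit 25776669)) (BT.leaf (nat_lit 22681361))) (BT.node (nat_lit 8349760) (BT.leaf (nat_lit 22681881)) (BT.leaf (nat_lit 35558149))))))))) (BT.node (nat_lit 8355264) (BT.node (nat_lit 8352576) (BT.node (nat_lit 8350976) (BT.node (nat_lit 8350400) (BT.node (nat_lit 8350144) (BT.node (nat_lit 8350016) (BT.node (nat_lit 8349888) (BT.leaf (nat_lit 33775133)) (BT.leaf (nat_lit 50141449))) (BT.node (nat_lit 8350080) (BT.leaf (nat_lit 22683665)) (BT.leaf (nat_lit 22683921)))) (BT.node (nat_lit 8350272) (BT.node (nat_lit 8350208) (BT.leaf (nat_lit 25116957)) (BT.leaf (nat_lit 25374469))) (BT.node (nat_lit 8350336) (BT.leaf (nat_lit 22684689)) (BT.leaf (nat_lit 33401881))))) (BT.node (nat_lit 8350720) (BT.node (nat_lit 8350528) (BT.node (nat_lit 8350464) (BT.leaf (nat_lit 49998361)) (BT.leaf (nat_lit 49997585))) (BT.node (nat_lit 8350592) (BT.leaf (nat_lit 49998597)) (BT.leaf (nat_lit 28078597)))) (BT.node (nat_lit 8350848) (BT.node (nat_lit 8350784) (BT.leaf (nat_lit 25090065)) (BT.leaf (nat_lit 23035409))) (BT.node (nat_lit 8350912) (BT.leaf (nat_lit 22685977)) (BT.leaf (nat_lit 22685981)))))) (BT.node (nat_lit 8351936) (BT.node (nat_lit 8351296) (BT.node (nat_lit 8351168) (BT.node (nat_lit 8351040) (BT.leaf (nat_lit 22686229)) (BT.leaf (nat_lit 49999385))) (BT.node (nat_lit 8351232) (BT.leaf (nat_lit 25840409)) (BT.leaf (nat_lit 27048209)))) (BT.node (nat_lit 8351616) (BT.node (nat_lit 8351488) (BT.leaf (nat_lit 22689557)) (BT.leaf (nat_lit 28637721))) (BT.node (nat_lit 8351808) (BT.leaf (nat_lit 33351193)) (BT.leaf (nat_lit 22691865))))) (BT.node (nat_lit 8352256) (BT.node (nat_lit 8352128) (BT.node (nat_lit 8352000) (BT.leaf (nat_lit 35489305)) (BT.leaf (nat_lit 25308693))) (BT.node (nat_lit 8352192) (BT.leaf (nat_lit 33408797)) (BT.leaf (nat_lit 26257941)))) (BT.node (nat_lit 8352384) (BT.node (nat_lit 8352320) (BT.leaf (nat_lit 37318421)) (BT.leaf (nat_lit 26896913))) (BT.node (nat_lit 8352448) (BT.leaf (nat_lit 36328993)) (BT.leaf (nat_lit 50001173))))))) (BT.node (nat_lit 8353664) (BT.node (nat_lit 8353152) (BT.node (nat_lit 8352832) (BT.node (nat_lit 8352704) (BT.node (nat_lit 8352640) (BT.leaf (nat_lit 24022801)) (BT.leaf (nat_lit 22694933))) (BT.node (nat_lit 8352768) (BT.leaf (nat_lit 33411101)) (BT.leaf (nat_lit 30319377)))) (BT.node (nat_lit 8352960) (BT.node (nat_lit 8352896) (BT.leaf (nat_lit 36616209)) (BT.leaf (nat_lit 50410513))) (BT.node (nat_lit 8353024) (BT.leaf (nat_lit 35705105)) (BT.leaf (nat_lit 22697233))))) (BT.node (nat_lit 8353408) (BT.node (nat_lit 8353280) (BT.node (nat_lit 8353216) (BT.leaf (nat_lit 22698001)) (BT.leaf (nat_lit 28759325))) (BT.node (nat_lit 8353344) (BT.leaf (nat_lit 22699037)) (BT.leaf (nat_lit 22699537)))) (BT.node (nat_lit 8353536) (BT.node (nat_lit 8353472) (BT.leaf (nat_lit 22699285)) (BT.leaf (nat_lit 22699289))) (BT.node (nat_lit 8353600) (BT.leaf (nat_lit 22699293)) (BT.leaf (nat_lit 46920213)))))) (BT.node (nat_lit 8354560) (BT.node (nat_lit 8354176) (BT.node (nat_lit 8353920) (BT.node (nat_lit 8353728) (BT.leaf (nat_lit 33414941)) (BT.leaf (nat_lit 50005521))) (BT.node (nat_lit 8353984) (BT.leaf (nat_lit 50005789)) (BT.leaf (nat_lit 35047685)))) (BT.node (nat_lit 8354432) (BT.node (nat_lit 8354240) (BT.leaf (nat_lit 26026757)) (BT.leaf (nat_lit 52134149))) (BT.node (nat_lit 8354496) (BT.leaf (nat_lit 46923537)) (BT.leaf (nat_lit 22704153))))) (BT.node (nat_lit 8354944) (BT.node (nat_lit 8354688) (BT.node (nat_lit 8354624) (BT.leaf (nat_lit 22704157)) (BT.leaf (nat_lit 22704401))) (BT.node (nat_lit 8354880) (BT.leaf (nat_lit 22704405)) (BT.leaf (nat_lit 33726737)))) (BT.node (nat_lit 8355072) (BT.node (nat_lit 8355008) (BT.leaf (nat_lit 50009105)) (BT.leaf (nat_lit 37637661))) (BT.node (nat_lit 8355200) (BT.leaf (nat_lit 22705177)) (BT.leaf (nat_lit 37345045)))))))) (BT.node (nat_lit 8357952) (BT.node (nat_lit 8356352) (BT.node (nat_lit 8355776) (BT.node (nat_lit 8355520) (BT.node (nat_lit 8355392) (BT.node (nat_lit 8355328) (BT.leaf (nat_lit 23213321)) (BT.leaf (nat_lit 22705937))) (BT.node (nat_lit 8355456) (BT.leaf (nat_lit 22705941)) (BT.leaf (nat_lit 29174037)))) (BT.node (nat_lit 8355648) (BT.node (nat_lit 8355584) (BT.leaf (nat_lit 33421849)) (BT.leaf (nat_lit 47826197))) (BT.node (nat_lit 8355712) (BT.leaf (nat_lit 50010897)) (BT.leaf (nat_lit 22706969))))) (BT.node (nat_lit 8356096) (BT.node (nat_lit 8355968) (BT.node (nat_lit 8355904) (BT.leaf (nat_lit 36566801)) (BT.leaf (nat_lit 47635221))) (BT.node (nat_lit 8356032) (BT.leaf (nat_lit 26234897)) (BT.leaf (nat_lit 26285849)))) (BT.node (nat_lit 8356224) (BT.node (nat_lit 8356160) (BT.leaf (nat_lit 36170513)) (BT.leaf (nat_lit 27015709))) (BT.node (nat_lit 8356288) (BT.leaf (nat_lit 25669917)) (BT.leaf (nat_lit 50011925)))))) (BT.node (nat_lit 8357312) (BT.node (nat_lit 8356864) (BT.node (nat_lit 8356544) (BT.node (nat_lit 8356480) (BT.leaf (nat_lit 27184401)) (BT.leaf (nat_lit 22710545))) (BT.node (nat_lit 8356608) (BT.leaf (nat_lit 34598169)) (BT.leaf (nat_lit 23124501)))) (BT.node (nat_lit 8357120) (BT.node (nat_lit 8357056) (BT.leaf (nat_lit 35070753)) (BT.leaf (nat_lit 48857617))) (BT.node (nat_lit 8357184) (BT.leaf (nat_lit 25772037)) (BT.leaf (nat_lit 22715669))))) (BT.node (nat_lit 8357568) (BT.node (nat_lit 8357440) (BT.node (nat_lit 8357376) (BT.leaf (nat_lit 22884641)) (BT.leaf (nat_lit 22717969))) (BT.node (nat_lit 8357504) (BT.leaf (nat_lit 33821717)) (BT.leaf (nat_lit 24273441)))) (BT.node (nat_lit 8357760) (BT.node (nat_lit 8357696) (BT.leaf (nat_lit 35289889)) (BT.leaf (nat_lit 50014213))) (BT.node (nat_lit 8357888) (BT.leaf (nat_lit 26456597)) (BT.leaf (nat_lit 25808645))))))) (BT.node (nat_lit 8359168) (BT.node (nat_lit 8358528) (BT.node (nat_lit 8358208) (BT.node (nat_lit 8358080) (BT.node (nat_lit 8358016) (BT.leaf (nat_lit 34831109)) (BT.leaf (nat_lit 22721809))) (BT.node (nat_lit 8358144) (BT.leaf (nat_lit 35529237)) (BT.leaf (nat_lit 25105173)))) (BT.node (nat_lit 8358336) (BT.node (nat_lit 8358272) (BT.leaf (nat_lit 37450781)) (BT.leaf (nat_lit 37502237))) (BT.node (nat_lit 8358464) (BT.leaf (nat_lit 26214673)) (BT.leaf (nat_lit 23959329))))) (BT.node (nat_lit 8358848) (BT.node (nat_lit 8358720) (BT.node (nat_lit 8358656) (BT.leaf (nat_lit 34606597)) (BT.leaf (nat_lit 27763217))) (BT.node (nat_lit 8358784) (BT.leaf (nat_lit 33435405)) (BT.leaf (nat_lit 36382229)))) (BT.node (nat_lit 8358976) (BT.node (nat_lit 8358912) (BT.leaf (nat_lit 29202453)) (BT.leaf (nat_lit 33435417))) (BT.node (nat_lit 8359104) (BT.leaf (nat_lit 22725393)) (BT.leaf (nat_lit 30859033)))))) (BT.node (nat_lit 8359744) (BT.node (nat_lit 8359424) (BT.node (nat_lit 8359296) (BT.node (nat_lit 8359232) (BT.leaf (nat_lit 22725905)) (BT.leaf (nat_lit 49566997))) (BT.node (nat_lit 8359360) (BT.leaf (nat_lit 51030549)) (BT.leaf (nat_lit 34813973)))) (BT.node (nat_lit 8359616) (BT.node (nat_lit 8359552) (BT.leaf (nat_lit 31176221)) (BT.leaf (nat_lit 51578901))) (BT.node (nat_lit 8359680) (BT.leaf (nat_lit 49566229)) (BT.leaf (nat_lit 23859461))))) (BT.node (nat_lit 8360000) (BT.node (nat_lit 8359872) (BT.node (nat_lit 8359808) (BT.leaf (nat_lit 28513305)) (BT.leaf (nat_lit 33438745))) (BT.node (nat_lit 8359936) (BT.leaf (nat_lit 35610649)) (BT.leaf (nat_lit 36947221)))) (BT.node (nat_lit 8360192) (BT.node (nat_lit 8360064) (BT.leaf (nat_lit 33440285)) (BT.leaf (nat_lit 28293649))) (BT.node (nat_lit 8360256) (BT.leaf (nat_lit 22730777)) (BT.leaf (nat_lit 22730781)))))))))) (BT.node (nat_lit 8371392) (BT.node (nat_lit 8366016) (BT.node (nat_lit 8363456) (BT.node (nat_lit 8361728) (BT.node (nat_lit 8361088) (BT.node (nat_lit 8360704) (BT.node (nat_lit 8360576) (BT.node (nat_lit 8360512) (BT.leaf (nat_lit 22732049)) (BT.leaf (nat_lit 22732573))) (BT.node (nat_lit 8360640) (BT.leaf (nat_lit 32263697)) (BT.leaf (nat_lit 25109525)))) (BT.node (nat_lit 8360832) (BT.node (nat_lit 8360768) (BT.leaf (nat_lit 33949457)) (BT.leaf (nat_lit 25109261))) (BT.node (nat_lit 8361024) (BT.leaf (nat_lit 24150793)) (BT.leaf (nat_lit 50752013))))) (BT.node (nat_lit 8361344) (BT.node (nat_lit 8361216) (BT.node (nat_lit 8361152) (BT.leaf (nat_lit 51024905)) (BT.leaf (nat_lit 51024901))) (BT.node (nat_lit 8361280) (BT.leaf (nat_lit 33636377)) (BT.leaf (nat_lit 34321689)))) (BT.node (nat_lit 8361536) (BT.node (nat_lit 8361472) (BT.leaf (nat_lit 22735113)) (BT.leaf (nat_lit 35075873))) (BT.node (nat_lit 8361664) (BT.leaf (nat_lit 25443601)) (BT.leaf (nat_lit 33558021)))))) (BT.node (nat_lit 8362560) (BT.node (nat_lit 8361984) (BT.node (nat_lit 8361856) (BT.node (nat_lit 8361792) (BT.leaf (nat_lit 22736145)) (BT.leaf (nat_lit 50018593))) (BT.node (nat_lit 8361920) (BT.leaf (nat_lit 23605273)) (BT.leaf (nat_lit 23605277)))) (BT.node (nat_lit 8362304) (BT.node (nat_lit 8362240) (BT.leaf (nat_lit 22736657)) (BT.leaf (nat_lit 31850273))) (BT.node (nat_lit 8362496) (BT.leaf (nat_lit 35760417)) (BT.leaf (nat_lit 28042273))))) (BT.node (nat_lit 8363072) (BT.node (nat_lit 8362688) (BT.node (nat_lit 8362624) (BT.leaf (nat_lit 28042529)) (BT.leaf (nat_lit 28043041))) (BT.node (nat_lit 8362752) (BT.leaf (nat_lit 28042785)) (BT.leaf (nat_lit 26417429)))) (BT.node (nat_lit 8363264) (BT.node (nat_lit 8363200) (BT.leaf (nat_lit 22740497)) (BT.leaf (nat_lit 25115153))) (BT.node (nat_lit 8363392) (BT.leaf (nat_lit 25114641)) (BT.leaf (nat_lit 50021653))))))) (BT.node (nat_lit 8364864) (BT.node (nat_lit 8364032) (BT.node (nat_lit 8363776) (BT.node (nat_lit 8363648) (BT.node (nat_lit 8363520) (BT.leaf (nat_lit 50022161)) (BT.leaf (nat_lit 50022417))) (BT.node (nat_lit 8363712) (BT.leaf (nat_lit 22743825)) (BT.leaf (nat_lit 34009881)))) (BT.node (nat_lit 8363904) (BT.node (nat_lit 8363840) (BT.leaf (nat_lit 27858969)) (BT.leaf (nat_lit 22744337))) (BT.node (nat_lit 8363968) (BT.leaf (nat_lit 22744849)) (BT.leaf (nat_lit 22745117))))) (BT.node (nat_lit 8364416) (BT.node (nat_lit 8364160) (BT.node (nat_lit 8364096) (BT.leaf (nat_lit 22745621)) (BT.leaf (nat_lit 33456669))) (BT.node (nat_lit 8364224) (BT.leaf (nat_lit 50023953)) (BT.leaf (nat_lit 22745889)))) (BT.node (nat_lit 8364544) (BT.node (nat_lit 8364480) (BT.leaf (nat_lit 33444881)) (BT.leaf (nat_lit 28591125))) (BT.node (nat_lit 8364800) (BT.leaf (nat_lit 22748689)) (BT.leaf (nat_lit 24141573)))))) (BT.node (nat_lit 8365440) (BT.node (nat_lit 8365120) (BT.node (nat_lit 8364992) (BT.node (nat_lit 8364928) (BT.leaf (nat_lit 28590869)) (BT.leaf (nat_lit 41735941))) (BT.node (nat_lit 8365056) (BT.leaf (nat_lit 22751765)) (BT.leaf (nat_lit 26411285)))) (BT.node (nat_lit 8365312) (BT.node (nat_lit 8365184) (BT.leaf (nat_lit 33902093)) (BT.leaf (nat_lit 22752273))) (BT.node (nat_lit 8365376) (BT.leaf (nat_lit 22752541)) (BT.leaf (nat_lit 22752793))))) (BT.node (nat_lit 8365696) (BT.node (nat_lit 8365568) (BT.node (nat_lit 8365504) (BT.leaf (nat_lit 22753553)) (BT.leaf (nat_lit 26177565))) (BT.node (nat_lit 8365632) (BT.leaf (nat_lit 49263637)) (BT.leaf (nat_lit 30709017)))) (BT.node (nat_lit 8365888) (BT.node (nat_lit 8365824) (BT.leaf (nat_lit 30497049)) (BT.leaf (nat_lit 31165473))) (BT.node (nat_lit 8365952) (BT.leaf (nat_lit 36875033)) (BT.leaf (nat_lit 27250709)))))))) (BT.node (nat_lit 8368640) (BT.node (nat_lit 8367232) (BT.node (nat_lit 8366656) (BT.node (nat_lit 8366272) (BT.node (nat_lit 8366144) (BT.node (nat_lit 8366080) (BT.leaf (nat_lit 33463817)) (BT.leaf (nat_lit 31168533))) (BT.node (nat_lit 8366208) (BT.leaf (nat_lit 22756881)) (BT.leaf (nat_lit 39674897)))) (BT.node (nat_lit 8366464) (BT.node (nat_lit 8366336) (BT.leaf (nat_lit 50028577)) (BT.leaf (nat_lit 36755205))) (BT.node (nat_lit 8366592) (BT.leaf (nat_lit 25126677)) (BT.leaf (nat_lit 50207237))))) (BT.node (nat_lit 8366912) (BT.node (nat_lit 8366784) (BT.node (nat_lit 8366720) (BT.leaf (nat_lit 50029089)) (BT.leaf (nat_lit 50029585))) (BT.node (nat_lit 8366848) (BT.leaf (nat_lit 48521493)) (BT.leaf (nat_lit 33467677)))) (BT.node (nat_lit 8367040) (BT.node (nat_lit 8366976) (BT.leaf (nat_lit 34760725)) (BT.leaf (nat_lit 28593437))) (BT.node (nat_lit 8367168) (BT.leaf (nat_lit 22759701)) (BT.leaf (nat_lit 33351197)))))) (BT.node (nat_lit 8367872) (BT.node (nat_lit 8367552) (BT.node (nat_lit 8367360) (BT.node (nat_lit 8367296) (BT.leaf (nat_lit 46557449)) (BT.leaf (nat_lit 50002445))) (BT.node (nat_lit 8367424) (BT.leaf (nat_lit 22760481)) (BT.leaf (nat_lit 40006669)))) (BT.node (nat_lit 8367744) (BT.node (nat_lit 8367616) (BT.leaf (nat_lit 30040081)) (BT.leaf (nat_lit 25347609))) (BT.node (nat_lit 8367808) (BT.leaf (nat_lit 22762261)) (BT.leaf (nat_lit 25245461))))) (BT.node (nat_lit 8368256) (BT.node (nat_lit 8368000) (BT.node (nat_lit 8367936) (BT.leaf (nat_lit 42286597)) (BT.leaf (nat_lit 22762781))) (BT.node (nat_lit 8368192) (BT.leaf (nat_lit 22763025)) (BT.leaf (nat_lit 22763537)))) (BT.node (nat_lit 8368448) (BT.node (nat_lit 8368320) (BT.leaf (nat_lit 33905945)) (BT.leaf (nat_lit 22763797))) (BT.node (nat_lit 8368512) (BT.leaf (nat_lit 25885721)) (BT.leaf (nat_lit 36011797))))))) (BT.node (nat_lit 8369728) (BT.node (nat_lit 8369216) (BT.node (nat_lit 8368960) (BT.node (nat_lit 8368768) (BT.node (nat_lit 8368704) (BT.leaf (nat_lit 22768405)) (BT.leaf (nat_lit 36078865))) (BT.node (nat_lit 8368832) (BT.leaf (nat_lit 51464217)) (BT.leaf (nat_lit 36006413)))) (BT.node (nat_lit 8369088) (BT.node (nat_lit 8369024) (BT.leaf (nat_lit 50104349)) (BT.leaf (nat_lit 36260873))) (BT.node (nat_lit 8369152) (BT.leaf (nat_lit 36884753)) (BT.leaf (nat_lit 36538901))))) (BT.node (nat_lit 8369472) (BT.node (nat_lit 8369344) (BT.node (nat_lit 8369280) (BT.leaf (nat_lit 46624521)) (BT.leaf (nat_lit 52085025))) (BT.node (nat_lit 8369408) (BT.leaf (nat_lit 51214357)) (BT.leaf (nat_lit 50663437)))) (BT.node (nat_lit 8369600) (BT.node (nat_lit 8369536) (BT.leaf (nat_lit 22769429)) (BT.leaf (nat_lit 47026209))) (BT.node (nat_lit 8369664) (BT.leaf (nat_lit 22769681)) (BT.leaf (nat_lit 23363089)))))) (BT.node (nat_lit 8370624) (BT.node (nat_lit 8370304) (BT.node (nat_lit 8370112) (BT.node (nat_lit 8369856) (BT.leaf (nat_lit 50037781)) (BT.leaf (nat_lit 35156485))) (BT.node (nat_lit 8370176) (BT.leaf (nat_lit 22771485)) (BT.leaf (nat_lit 26004257)))) (BT.node (nat_lit 8370496) (BT.node (nat_lit 8370368) (BT.leaf (nat_lit 33115141)) (BT.leaf (nat_lit 50038289))) (BT.node (nat_lit 8370560) (BT.leaf (nat_lit 25905697)) (BT.leaf (nat_lit 25139229))))) (BT.node (nat_lit 8371136) (BT.node (nat_lit 8370816) (BT.node (nat_lit 8370752) (BT.leaf (nat_lit 25728545)) (BT.leaf (nat_lit 22774545))) (BT.node (nat_lit 8370944) (BT.leaf (nat_lit 24840461)) (BT.leaf (nat_lit 22776593)))) (BT.node (nat_lit 8371264) (BT.node (nat_lit 8371200) (BT.leaf (nat_lit 22777113)) (BT.leaf (nat_lit 22777117))) (BT.node (nat_lit 8371328) (BT.leaf (nat_lit 37345817)) (BT.leaf (nat_lit 47048225))))))))) (BT.node (nat_lit 8376320) (BT.node (nat_lit 8373824) (BT.node (nat_lit 8372672) (BT.node (nat_lit 8371968) (BT.node (nat_lit 8371648) (BT.node (nat_lit 8371520) (BT.node (nat_lit 8371456) (BT.leaf (nat_lit 47047969)) (BT.leaf (nat_lit 22778389))) (BT.node (nat_lit 8371584) (BT.leaf (nat_lit 22778393)) (BT.leaf (nat_lit 25602581)))) (BT.node (nat_lit 8371776) (BT.node (nat_lit 8371712) (BT.leaf (nat_lit 36327969)) (BT.leaf (nat_lit 26775581))) (BT.node (nat_lit 8371904) (BT.leaf (nat_lit 27785993)) (BT.leaf (nat_lit 37096481))))) (BT.node (nat_lit 8372224) (BT.node (nat_lit 8372096) (BT.node (nat_lit 8372032) (BT.leaf (nat_lit 36967713)) (BT.leaf (nat_lit 26231313))) (BT.node (nat_lit 8372160) (BT.leaf (nat_lit 22779929)) (BT.leaf (nat_lit 36167201)))) (BT.node (nat_lit 8372480) (BT.node (nat_lit 8372352) (BT.leaf (nat_lit 50043669)) (BT.leaf (nat_lit 50045981))) (BT.node (nat_lit 8372544) (BT.leaf (nat_lit 36168993)) (BT.leaf (nat_lit 36968453)))))) (BT.node (nat_lit 8373312) (BT.node (nat_lit 8373056) (BT.node (nat_lit 8372864) (BT.node (nat_lit 8372736) (BT.leaf (nat_lit 26689057)) (BT.leaf (nat_lit 25906705))) (BT.node (nat_lit 8372992) (BT.leaf (nat_lit 34435093)) (BT.leaf (nat_lit 27144453)))) (BT.node (nat_lit 8373184) (BT.node (nat_lit 8373120) (BT.leaf (nat_lit 27238917)) (BT.leaf (nat_lit 49700885))) (BT.node (nat_lit 8373248) (BT.leaf (nat_lit 24804893)) (BT.leaf (nat_lit 50048529))))) (BT.node (nat_lit 8373568) (BT.node (nat_lit 8373440) (BT.node (nat_lit 8373376) (BT.leaf (nat_lit 50048785)) (BT.leaf (nat_lit 28428297))) (BT.node (nat_lit 8373504) (BT.leaf (nat_lit 33286149)) (BT.leaf (nat_lit 47403797)))) (BT.node (nat_lit 8373696) (BT.node (nat_lit 8373632) (BT.leaf (nat_lit 39315741)) (BT.leaf (nat_lit 29348117))) (BT.node (nat_lit 8373760) (BT.leaf (nat_lit 33494537)) (BT.leaf (nat_lit 41036309))))))) (BT.node (nat_lit 8375040) (BT.node (nat_lit 8374528) (BT.node (nat_lit 8374080) (BT.node (nat_lit 8373952) (BT.node (nat_lit 8373888) (BT.leaf (nat_lit 38156805)) (BT.leaf (nat_lit 22785569))) (BT.node (nat_lit 8374016) (BT.leaf (nat_lit 28635161)) (BT.leaf (nat_lit 47419917)))) (BT.node (nat_lit 8374400) (BT.node (nat_lit 8374208) (BT.leaf (nat_lit 50333217)) (BT.leaf (nat_lit 49431585))) (BT.node (nat_lit 8374464) (BT.leaf (nat_lit 22787857)) (BT.leaf (nat_lit 34065157))))) (BT.node (nat_lit 8374784) (BT.node (nat_lit 8374656) (BT.node (nat_lit 8374592) (BT.leaf (nat_lit 22789905)) (BT.leaf (nat_lit 34378273))) (BT.node (nat_lit 8374720) (BT.leaf (nat_lit 34378529)) (BT.leaf (nat_lit 22795285)))) (BT.node (nat_lit 8374912) (BT.node (nat_lit 8374848) (BT.leaf (nat_lit 46546193)) (BT.leaf (nat_lit 34364445))) (BT.node (nat_lit 8374976) (BT.leaf (nat_lit 22795797)) (BT.leaf (nat_lit 22796053)))))) (BT.node (nat_lit 8375616) (BT.node (nat_lit 8375360) (BT.node (nat_lit 8375168) (BT.node (nat_lit 8375104) (BT.leaf (nat_lit 47076117)) (BT.leaf (nat_lit 22796569))) (BT.node (nat_lit 8375296) (BT.leaf (nat_lit 22796825)) (BT.leaf (nat_lit 24052513)))) (BT.node (nat_lit 8375488) (BT.node (nat_lit 8375424) (BT.leaf (nat_lit 50052121)) (BT.leaf (nat_lit 50052357))) (BT.node (nat_lit 8375552) (BT.leaf (nat_lit 34082065)) (BT.leaf (nat_lit 48185861))))) (BT.node (nat_lit 8376000) (BT.node (nat_lit 8375872) (BT.node (nat_lit 8375744) (BT.leaf (nat_lit 47078673)) (BT.leaf (nat_lit 33617681))) (BT.node (nat_lit 8375936) (BT.leaf (nat_lit 29253125)) (BT.leaf (nat_lit 22800401)))) (BT.node (nat_lit 8376192) (BT.node (nat_lit 8376128) (BT.leaf (nat_lit 22800913)) (BT.leaf (nat_lit 28491797))) (BT.node (nat_lit 8376256) (BT.leaf (nat_lit 22801425)) (BT.leaf (nat_lit 22802193)))))))) (BT.node (nat_lit 8379008) (BT.node (nat_lit 8377536) (BT.node (nat_lit 8376960) (BT.node (nat_lit 8376704) (BT.node (nat_lit 8376512) (BT.node (nat_lit 8376448) (BT.leaf (nat_lit 27766293)) (BT.leaf (nat_lit 22802961))) (BT.node (nat_lit 8376576) (BT.leaf (nat_lit 34834705)) (BT.leaf (nat_lit 23107857)))) (BT.node (nat_lit 8376832) (BT.node (nat_lit 8376768) (BT.leaf (nat_lit 32643089)) (BT.leaf (nat_lit 28749081))) (BT.node (nat_lit 8376896) (BT.leaf (nat_lit 34453017)) (BT.leaf (nat_lit 22803733))))) (BT.node (nat_lit 8377216) (BT.node (nat_lit 8377088) (BT.node (nat_lit 8377024) (BT.leaf (nat_lit 26664733)) (BT.leaf (nat_lit 22804241))) (BT.node (nat_lit 8377152) (BT.leaf (nat_lit 33402905)) (BT.leaf (nat_lit 25251605)))) (BT.node (nat_lit 8377408) (BT.node (nat_lit 8377344) (BT.leaf (nat_lit 36281889)) (BT.leaf (nat_lit 27527429))) (BT.node (nat_lit 8377472) (BT.leaf (nat_lit 46860805)) (BT.leaf (nat_lit 35516177)))))) (BT.node (nat_lit 8378240) (BT.node (nat_lit 8377792) (BT.node (nat_lit 8377664) (BT.node (nat_lit 8377600) (BT.leaf (nat_lit 24567065)) (BT.leaf (nat_lit 23770649))) (BT.node (nat_lit 8377728) (BT.leaf (nat_lit 26444561)) (BT.leaf (nat_lit 25805841)))) (BT.node (nat_lit 8378112) (BT.node (nat_lit 8377920) (BT.leaf (nat_lit 23693073)) (BT.leaf (nat_lit 50059041))) (BT.node (nat_lit 8378176) (BT.leaf (nat_lit 30370841)) (BT.leaf (nat_lit 26248217))))) (BT.node (nat_lit 8378752) (BT.node (nat_lit 8378496) (BT.node (nat_lit 8378368) (BT.leaf (nat_lit 30370825)) (BT.leaf (nat_lit 34122253))) (BT.node (nat_lit 8378688) (BT.leaf (nat_lit 37447693)) (BT.leaf (nat_lit 46720017)))) (BT.node (nat_lit 8378880) (BT.node (nat_lit 8378816) (BT.leaf (nat_lit 29406225)) (BT.leaf (nat_lit 47446793))) (BT.node (nat_lit 8378944) (BT.leaf (nat_lit 22811409)) (BT.leaf (nat_lit 22811673))))))) (BT.node (nat_lit 8380224) (BT.node (nat_lit 8379584) (BT.node (nat_lit 8379264) (BT.node (nat_lit 8379136) (BT.node (nat_lit 8379072) (BT.leaf (nat_lit 22812181)) (BT.leaf (nat_lit 22812441))) (BT.node (nat_lit 8379200) (BT.leaf (nat_lit 22812445)) (BT.leaf (nat_lit 47208213)))) (BT.node (nat_lit 8379392) (BT.node (nat_lit 8379328) (BT.leaf (nat_lit 50063365)) (BT.leaf (nat_lit 26300181))) (BT.node (nat_lit 8379520) (BT.leaf (nat_lit 26299933)) (BT.leaf (nat_lit 32968213))))) (BT.node (nat_lit 8379968) (BT.node (nat_lit 8379712) (BT.node (nat_lit 8379648) (BT.leaf (nat_lit 22813969)) (BT.leaf (nat_lit 25150993))) (BT.node (nat_lit 8379776) (BT.leaf (nat_lit 25150481)) (BT.leaf (nat_lit 35027205)))) (BT.node (nat_lit 8380096) (BT.node (nat_lit 8380032) (BT.leaf (nat_lit 22817309)) (BT.leaf (nat_lit 22817565))) (BT.node (nat_lit 8380160) (BT.leaf (nat_lit 22818069)) (BT.leaf (nat_lit 22818325)))))) (BT.node (nat_lit 8380800) (BT.node (nat_lit 8380544) (BT.node (nat_lit 8380416) (BT.node (nat_lit 8380288) (BT.leaf (nat_lit 26682905)) (BT.leaf (nat_lit 41148681))) (BT.node (nat_lit 8380480) (BT.leaf (nat_lit 22818837)) (BT.leaf (nat_lit 22819345)))) (BT.node (nat_lit 8380672) (BT.node (nat_lit 8380608) (BT.leaf (nat_lit 22820369)) (BT.leaf (nat_lit 22820633))) (BT.node (nat_lit 8380736) (BT.leaf (nat_lit 22820637)) (BT.leaf (nat_lit 25352477))))) (BT.node (nat_lit 8381056) (BT.node (nat_lit 8380928) (BT.node (nat_lit 8380864) (BT.leaf (nat_lit 50066961)) (BT.leaf (nat_lit 37225241))) (BT.node (nat_lit 8380992) (BT.leaf (nat_lit 37225245)) (BT.leaf (nat_lit 22821649)))) (BT.node (nat_lit 8381248) (BT.node (nat_lit 8381120) (BT.leaf (nat_lit 25406745)) (BT.leaf (nat_lit 50554657))) (BT.node (nat_lit 8381312) (BT.leaf (nat_lit 50014473)) (BT.leaf (nat_lit 50067489))))))))))) (BT.node (nat_lit 8405632) (BT.node (nat_lit 8393472) (BT.node (nat_lit 8387328) (BT.node (nat_lit 8384128) (BT.node (nat_lit 8382848) (BT.node (nat_lit 8382272) (BT.node (nat_lit 8381760) (BT.node (nat_lit 8381504) (BT.node (nat_lit 8381440) (BT.leaf (nat_lit 36824353)) (BT.leaf (nat_lit 50554137))) (BT.node (nat_lit 8381696) (BT.leaf (nat_lit 22822941)) (BT.leaf (nat_lit 22824721)))) (BT.node (nat_lit 8382144) (BT.node (nat_lit 8381952) (BT.leaf (nat_lit 49962757)) (BT.leaf (nat_lit 27761941))) (BT.node (nat_lit 8382208) (BT.leaf (nat_lit 50477577)) (BT.leaf (nat_lit 34227225))))) (BT.node (nat_lit 8382592) (BT.node (nat_lit 8382464) (BT.node (nat_lit 8382400) (BT.leaf (nat_lit 36977941)) (BT.leaf (nat_lit 22826261))) (BT.node (nat_lit 8382528) (BT.leaf (nat_lit 22826265)) (BT.leaf (nat_lit 22826269)))) (BT.node (nat_lit 8382720) (BT.node (nat_lit 8382656) (BT.leaf (nat_lit 33486617)) (BT.leaf (nat_lit 25049109))) (BT.node (nat_lit 8382784) (BT.leaf (nat_lit 24157201)) (BT.leaf (nat_lit 50468117)))))) (BT.node (nat_lit 8383488) (BT.node (nat_lit 8383104) (BT.node (nat_lit 8382976) (BT.node (nat_lit 8382912) (BT.leaf (nat_lit 36327189)) (BT.leaf (nat_lit 28615953))) (BT.node (nat_lit 8383040) (BT.leaf (nat_lit 28615957)) (BT.leaf (nat_lit 28881945)))) (BT.node (nat_lit 8383296) (BT.node (nat_lit 8383168) (BT.leaf (nat_lit 50265113)) (BT.leaf (nat_lit 34478597))) (BT.node (nat_lit 8383424) (BT.leaf (nat_lit 34110497)) (BT.leaf (nat_lit 32842529))))) (BT.node (nat_lit 8383808) (BT.node (nat_lit 8383616) (BT.node (nat_lit 8383552) (BT.leaf (nat_lit 22830613)) (BT.leaf (nat_lit 22830617))) (BT.node (nat_lit 8383680) (BT.leaf (nat_lit 22830621)) (BT.leaf (nat_lit 27236637)))) (BT.node (nat_lit 8383936) (BT.node (nat_lit 8383872) (BT.leaf (nat_lit 23160589)) (BT.leaf (nat_lit 36403733))) (BT.node (nat_lit 8384064) (BT.leaf (nat_lit 50071829)) (BT.leaf (nat_lit 27236113))))))) (BT.node (nat_lit 8385536) (BT.node (nat_lit 8384896) (BT.node (nat_lit 8384448) (BT.node (nat_lit 8384320) (BT.node (nat_lit 8384256) (BT.leaf (nat_lit 22831633)) (BT.leaf (nat_lit 50937349))) (BT.node (nat_lit 8384384) (BT.leaf (nat_lit 33275665)) (BT.leaf (nat_lit 50265117)))) (BT.node (nat_lit 8384640) (BT.node (nat_lit 8384512) (BT.leaf (nat_lit 22832913)) (BT.leaf (nat_lit 22911497))) (BT.node (nat_lit 8384832) (BT.leaf (nat_lit 28933665)) (BT.leaf (nat_lit 24144665))))) (BT.node (nat_lit 8385216) (BT.node (nat_lit 8385024) (BT.node (nat_lit 8384960) (BT.leaf (nat_lit 22834461)) (BT.leaf (nat_lit 22834961))) (BT.node (nat_lit 8385088) (BT.leaf (nat_lit 51057677)) (BT.leaf (nat_lit 36954893)))) (BT.node (nat_lit 8385344) (BT.node (nat_lit 8385280) (BT.leaf (nat_lit 22836245)) (BT.leaf (nat_lit 33577733))) (BT.node (nat_lit 8385472) (BT.leaf (nat_lit 22836753)) (BT.leaf (nat_lit 24933909)))))) (BT.node (nat_lit 8386624) (BT.node (nat_lit 8386304) (BT.node (nat_lit 8385792) (BT.node (nat_lit 8385664) (BT.leaf (nat_lit 26716697)) (BT.leaf (nat_lit 22838033))) (BT.node (nat_lit 8386112) (BT.leaf (nat_lit 22838809)) (BT.leaf (nat_lit 28816645)))) (BT.node (nat_lit 8386432) (BT.node (nat_lit 8386368) (BT.leaf (nat_lit 32132101)) (BT.leaf (nat_lit 27446021))) (BT.node (nat_lit 8386496) (BT.leaf (nat_lit 22842373)) (BT.leaf (nat_lit 22842397))))) (BT.node (nat_lit 8387072) (BT.node (nat_lit 8386944) (BT.node (nat_lit 8386752) (BT.leaf (nat_lit 47564309)) (BT.leaf (nat_lit 34353181))) (BT.node (nat_lit 8387008) (BT.leaf (nat_lit 22844697)) (BT.leaf (nat_lit 22844701)))) (BT.node (nat_lit 8387200) (BT.node (nat_lit 8387136) (BT.leaf (nat_lit 46326561)) (BT.leaf (nat_lit 47728645))) (BT.node (nat_lit 8387264) (BT.leaf (nat_lit 22845205)) (BT.leaf (nat_lit 24647697)))))))) (BT.node (nat_lit 8390528) (BT.node (nat_lit 8388864) (BT.node (nat_lit 8388096) (BT.node (nat_lit 8387648) (BT.node (nat_lit 8387456) (BT.node (nat_lit 8387392) (BT.leaf (nat_lit 33549081)) (BT.leaf (nat_lit 37395733))) (BT.node (nat_lit 8387520) (BT.leaf (nat_lit 37395985)) (BT.leaf (nat_lit 22845713)))) (BT.node (nat_lit 8387904) (BT.node (nat_lit 8387712) (BT.leaf (nat_lit 27673633)) (BT.leaf (nat_lit 25404421))) (BT.node (nat_lit 8388032) (BT.leaf (nat_lit 34079765)) (BT.leaf (nat_lit 48821009))))) (BT.node (nat_lit 8388352) (BT.node (nat_lit 8388224) (BT.node (nat_lit 8388160) (BT.leaf (nat_lit 33552153)) (BT.leaf (nat_lit 36403717))) (BT.node (nat_lit 8388288) (BT.leaf (nat_lit 23175705)) (BT.leaf (nat_lit 36224269)))) (BT.node (nat_lit 8388608) (BT.node (nat_lit 8388544) (BT.leaf (nat_lit 25227793)) (BT.leaf (nat_lit 33417989))) (BT.node (nat_lit 8388672) (BT.leaf (nat_lit 22850069)) (BT.leaf (nat_lit 49821985)))))) (BT.node (nat_lit 8389696) (BT.node (nat_lit 8389248) (BT.node (nat_lit 8389120) (BT.node (nat_lit 8389056) (BT.leaf (nat_lit 22851601)) (BT.leaf (nat_lit 50079517))) (BT.node (nat_lit 8389184) (BT.leaf (nat_lit 25265437)) (BT.leaf (nat_lit 25265417)))) (BT.node (nat_lit 8389376) (BT.node (nat_lit 8389312) (BT.leaf (nat_lit 35274501)) (BT.leaf (nat_lit 26252041))) (BT.node (nat_lit 8389504) (BT.leaf (nat_lit 22853397)) (BT.leaf (nat_lit 34306081))))) (BT.node (nat_lit 8390208) (BT.node (nat_lit 8389952) (BT.node (nat_lit 8389888) (BT.leaf (nat_lit 34293525)) (BT.leaf (nat_lit 23718921))) (BT.node (nat_lit 8390080) (BT.leaf (nat_lit 24295945)) (BT.leaf (nat_lit 30855713)))) (BT.node (nat_lit 8390336) (BT.node (nat_lit 8390272) (BT.leaf (nat_lit 34715933)) (BT.leaf (nat_lit 25783069))) (BT.node (nat_lit 8390400) (BT.leaf (nat_lit 24141585)) (BT.leaf (nat_lit 33378333))))))) (BT.node (nat_lit 8391616) (BT.node (nat_lit 8391040) (BT.node (nat_lit 8390784) (BT.node (nat_lit 8390656) (BT.node (nat_lit 8390592) (BT.leaf (nat_lit 33549849)) (BT.leaf (nat_lit 50081553))) (BT.node (nat_lit 8390720) (BT.leaf (nat_lit 33562393)) (BT.leaf (nat_lit 35564817)))) (BT.node (nat_lit 8390912) (BT.node (nat_lit 8390848) (BT.leaf (nat_lit 33562905)) (BT.leaf (nat_lit 26292753))) (BT.node (nat_lit 8390976) (BT.leaf (nat_lit 37395981)) (BT.leaf (nat_lit 22859025))))) (BT.node (nat_lit 8391296) (BT.node (nat_lit 8391168) (BT.node (nat_lit 8391104) (BT.leaf (nat_lit 34747425)) (BT.leaf (nat_lit 50082573))) (BT.node (nat_lit 8391232) (BT.leaf (nat_lit 22859289)) (BT.leaf (nat_lit 22859293)))) (BT.node (nat_lit 8391488) (BT.node (nat_lit 8391424) (BT.leaf (nat_lit 28445725)) (BT.leaf (nat_lit 34288929))) (BT.node (nat_lit 8391552) (BT.leaf (nat_lit 33549577)) (BT.leaf (nat_lit 33550089)))))) (BT.node (nat_lit 8392448) (BT.node (nat_lit 8391936) (BT.node (nat_lit 8391744) (BT.node (nat_lit 8391680) (BT.leaf (nat_lit 33378061)) (BT.leaf (nat_lit 35009057))) (BT.node (nat_lit 8391872) (BT.leaf (nat_lit 46376225)) (BT.leaf (nat_lit 25803297)))) (BT.node (nat_lit 8392064) (BT.node (nat_lit 8392000) (BT.leaf (nat_lit 50084357)) (BT.leaf (nat_lit 34905613))) (BT.node (nat_lit 8392256) (BT.leaf (nat_lit 26614033)) (BT.leaf (nat_lit 46532121))))) (BT.node (nat_lit 8393024) (BT.node (nat_lit 8392576) (BT.node (nat_lit 8392512) (BT.leaf (nat_lit 26614545)) (BT.leaf (nat_lit 22864925))) (BT.node (nat_lit 8392960) (BT.leaf (nat_lit 22865169)) (BT.leaf (nat_lit 22865949)))) (BT.node (nat_lit 8393280) (BT.node (nat_lit 8393152) (BT.leaf (nat_lit 22866193)) (BT.leaf (nat_lit 23684117))) (BT.node (nat_lit 8393344) (BT.leaf (nat_lit 47163909)) (BT.leaf (nat_lit 29724953))))))))) (BT.node (nat_lit 8400192) (BT.node (nat_lit 8397056) (BT.node (nat_lit 8395200) (BT.node (nat_lit 8394496) (BT.node (nat_lit 8393856) (BT.node (nat_lit 8393600) (BT.node (nat_lit 8393536) (BT.leaf (nat_lit 30207257)) (BT.leaf (nat_lit 48933381))) (BT.node (nat_lit 8393728) (BT.leaf (nat_lit 22868509)) (BT.leaf (nat_lit 50088473)))) (BT.node (nat_lit 8394368) (BT.node (nat_lit 8393984) (BT.leaf (nat_lit 50088721)) (BT.leaf (nat_lit 22870033))) (BT.node (nat_lit 8394432) (BT.leaf (nat_lit 22871317)) (BT.leaf (nat_lit 50739993))))) (BT.node (nat_lit 8394816) (BT.node (nat_lit 8394688) (BT.node (nat_lit 8394624) (BT.leaf (nat_lit 22872081)) (BT.leaf (nat_lit 22873629))) (BT.node (nat_lit 8394752) (BT.leaf (nat_lit 22874389)) (BT.leaf (nat_lit 22874645)))) (BT.node (nat_lit 8394944) (BT.node (nat_lit 8394880) (BT.leaf (nat_lit 22874897)) (BT.leaf (nat_lit 22875413))) (BT.node (nat_lit 8395136) (BT.leaf (nat_lit 22875417)) (BT.leaf (nat_lit 34026521)))))) (BT.node (nat_lit 8396224) (BT.node (nat_lit 8395584) (BT.node (nat_lit 8395456) (BT.node (nat_lit 8395392) (BT.leaf (nat_lit 25551633)) (BT.leaf (nat_lit 40453137))) (BT.node (nat_lit 8395520) (BT.leaf (nat_lit 22877977)) (BT.leaf (nat_lit 22877981)))) (BT.node (nat_lit 8395840) (BT.node (nat_lit 8395648) (BT.leaf (nat_lit 22878481)) (BT.leaf (nat_lit 23151389))) (BT.node (nat_lit 8396160) (BT.leaf (nat_lit 26284049)) (BT.leaf (nat_lit 25430533))))) (BT.node (nat_lit 8396544) (BT.node (nat_lit 8396416) (BT.node (nat_lit 8396288) (BT.leaf (nat_lit 49728793)) (BT.leaf (nat_lit 23354637))) (BT.node (nat_lit 8396480) (BT.leaf (nat_lit 25669913)) (BT.leaf (nat_lit 26275601)))) (BT.node (nat_lit 8396672) (BT.node (nat_lit 8396608) (BT.leaf (nat_lit 22882581)) (BT.leaf (nat_lit 22882837))) (BT.node (nat_lit 8396736) (BT.leaf (nat_lit 50091285)) (BT.leaf (nat_lit 25923077))))))) (BT.node (nat_lit 8398784) (BT.node (nat_lit 8397824) (BT.node (nat_lit 8397440) (BT.node (nat_lit 8397312) (BT.node (nat_lit 8397184) (BT.leaf (nat_lit 22887957)) (BT.leaf (nat_lit 36904985))) (BT.node (nat_lit 8397376) (BT.leaf (nat_lit 50093585)) (BT.leaf (nat_lit 47208465)))) (BT.node (nat_lit 8397696) (BT.node (nat_lit 8397632) (BT.leaf (nat_lit 50007317)) (BT.leaf (nat_lit 50007069))) (BT.node (nat_lit 8397760) (BT.leaf (nat_lit 22893589)) (BT.leaf (nat_lit 25175321))))) (BT.node (nat_lit 8398272) (BT.node (nat_lit 8397952) (BT.node (nat_lit 8397888) (BT.leaf (nat_lit 22894353)) (BT.leaf (nat_lit 26348573))) (BT.node (nat_lit 8398208) (BT.leaf (nat_lit 22895121)) (BT.leaf (nat_lit 30162197)))) (BT.node (nat_lit 8398528) (BT.node (nat_lit 8398336) (BT.leaf (nat_lit 23207197)) (BT.leaf (nat_lit 22896657))) (BT.node (nat_lit 8398592) (BT.leaf (nat_lit 33856789)) (BT.leaf (nat_lit 22898961)))))) (BT.node (nat_lit 8399424) (BT.node (nat_lit 8399168) (BT.node (nat_lit 8398912) (BT.node (nat_lit 8398848) (BT.leaf (nat_lit 22899473)) (BT.leaf (nat_lit 50866969))) (BT.node (nat_lit 8398976) (BT.leaf (nat_lit 35888913)) (BT.leaf (nat_lit 35971097)))) (BT.node (nat_lit 8399296) (BT.node (nat_lit 8399232) (BT.leaf (nat_lit 37196817)) (BT.leaf (nat_lit 33597213))) (BT.node (nat_lit 8399360) (BT.leaf (nat_lit 50098193)) (BT.leaf (nat_lit 30798353))))) (BT.node (nat_lit 8399808) (BT.node (nat_lit 8399552) (BT.node (nat_lit 8399488) (BT.leaf (nat_lit 36797717)) (BT.leaf (nat_lit 23566353))) (BT.node (nat_lit 8399616) (BT.leaf (nat_lit 35204629)) (BT.leaf (nat_lit 34037265)))) (BT.node (nat_lit 8400000) (BT.node (nat_lit 8399872) (BT.leaf (nat_lit 35496465)) (BT.leaf (nat_lit 50099477))) (BT.node (nat_lit 8400064) (BT.leaf (nat_lit 33861385)) (BT.leaf (nat_lit 36175121)))))))) (BT.node (nat_lit 8402688) (BT.node (nat_lit 8401536) (BT.node (nat_lit 8400768) (BT.node (nat_lit 8400512) (BT.node (nat_lit 8400320) (BT.node (nat_lit 8400256) (BT.leaf (nat_lit 25436445)) (BT.leaf (nat_lit 22904345))) (BT.node (nat_lit 8400384) (BT.leaf (nat_lit 22904349)) (BT.leaf (nat_lit 36885265)))) (BT.node (nat_lit 8400640) (BT.node (nat_lit 8400576) (BT.leaf (nat_lit 31762465)) (BT.leaf (nat_lit 22905365))) (BT.node (nat_lit 8400704) (BT.leaf (nat_lit 22905625)) (BT.leaf (nat_lit 22905629))))) (BT.node (nat_lit 8401152) (BT.node (nat_lit 8401024) (BT.node (nat_lit 8400960) (BT.leaf (nat_lit 50103317)) (BT.leaf (nat_lit 50103301))) (BT.node (nat_lit 8401088) (BT.leaf (nat_lit 28261397)) (BT.leaf (nat_lit 23204105)))) (BT.node (nat_lit 8401408) (BT.node (nat_lit 8401344) (BT.leaf (nat_lit 34778649)) (BT.leaf (nat_lit 25928733))) (BT.node (nat_lit 8401472) (BT.leaf (nat_lit 48850977)) (BT.leaf (nat_lit 36885009)))))) (BT.node (nat_lit 8402176) (BT.node (nat_lit 8401920) (BT.node (nat_lit 8401792) (BT.node (nat_lit 8401600) (BT.leaf (nat_lit 36435717)) (BT.leaf (nat_lit 33259801))) (BT.node (nat_lit 8401856) (BT.leaf (nat_lit 22911505)) (BT.leaf (nat_lit 22911261)))) (BT.node (nat_lit 8402048) (BT.node (nat_lit 8401984) (BT.leaf (nat_lit 26202641)) (BT.leaf (nat_lit 34873605))) (BT.node (nat_lit 8402112) (BT.leaf (nat_lit 37734177)) (BT.leaf (nat_lit 28822033))))) (BT.node (nat_lit 8402432) (BT.node (nat_lit 8402304) (BT.node (nat_lit 8402240) (BT.leaf (nat_lit 51183389)) (BT.leaf (nat_lit 23336473))) (BT.node (nat_lit 8402368) (BT.leaf (nat_lit 25179417)) (BT.leaf (nat_lit 22913809)))) (BT.node (nat_lit 8402560) (BT.node (nat_lit 8402496) (BT.leaf (nat_lit 25911825)) (BT.leaf (nat_lit 22914581))) (BT.node (nat_lit 8402624) (BT.leaf (nat_lit 22914585)) (BT.leaf (nat_lit 22914589))))))) (BT.node (nat_lit 8403840) (BT.node (nat_lit 8403200) (BT.node (nat_lit 8402944) (BT.node (nat_lit 8402816) (BT.node (nat_lit 8402752) (BT.leaf (nat_lit 24313873)) (BT.leaf (nat_lit 22915345))) (BT.node (nat_lit 8402880) (BT.leaf (nat_lit 28789277)) (BT.leaf (nat_lit 50742033)))) (BT.node (nat_lit 8403072) (BT.node (nat_lit 8403008) (BT.leaf (nat_lit 22916121)) (BT.leaf (nat_lit 28545057))) (BT.node (nat_lit 8403136) (BT.leaf (nat_lit 25212429)) (BT.leaf (nat_lit 47240465))))) (BT.node (nat_lit 8403520) (BT.node (nat_lit 8403328) (BT.node (nat_lit 8403264) (BT.leaf (nat_lit 36854033)) (BT.leaf (nat_lit 23770653))) (BT.node (nat_lit 8403456) (BT.leaf (nat_lit 50112277)) (BT.leaf (nat_lit 47241489)))) (BT.node (nat_lit 8403712) (BT.node (nat_lit 8403584) (BT.leaf (nat_lit 25571865)) (BT.leaf (nat_lit 25571869))) (BT.node (nat_lit 8403776) (BT.leaf (nat_lit 50113553)) (BT.leaf (nat_lit 22920213)))))) (BT.node (nat_lit 8404736) (BT.node (nat_lit 8404352) (BT.node (nat_lit 8404224) (BT.node (nat_lit 8404096) (BT.leaf (nat_lit 22919449)) (BT.leaf (nat_lit 25509149))) (BT.node (nat_lit 8404288) (BT.leaf (nat_lit 22920469)) (BT.leaf (nat_lit 22920473)))) (BT.node (nat_lit 8404608) (BT.node (nat_lit 8404416) (BT.leaf (nat_lit 22920477)) (BT.leaf (nat_lit 50115605))) (BT.node (nat_lit 8404672) (BT.leaf (nat_lit 22922265)) (BT.leaf (nat_lit 25200669))))) (BT.node (nat_lit 8405120) (BT.node (nat_lit 8404928) (BT.node (nat_lit 8404800) (BT.leaf (nat_lit 50117409)) (BT.leaf (nat_lit 46380569))) (BT.node (nat_lit 8404992) (BT.leaf (nat_lit 22923041)) (BT.leaf (nat_lit 28249349)))) (BT.node (nat_lit 8405248) (BT.node (nat_lit 8405184) (BT.leaf (nat_lit 22923545)) (BT.leaf (nat_lit 22923549))) (BT.node (nat_lit 8405440) (BT.leaf (nat_lit 47246625)) (BT.leaf (nat_lit 25088029)))))))))) (BT.node (nat_lit 8417088) (BT.node (nat_lit 8410816) (BT.node (nat_lit 8408576) (BT.node (nat_lit 8407104) (BT.node (nat_lit 8406592) (BT.node (nat_lit 8406272) (BT.node (nat_lit 8406016) (BT.node (nat_lit 8405760) (BT.leaf (nat_lit 51553037)) (BT.leaf (nat_lit 22982677))) (BT.node (nat_lit 8406144) (BT.leaf (nat_lit 25798689)) (BT.leaf (nat_lit 46349849)))) (BT.node (nat_lit 8406464) (BT.node (nat_lit 8406336) (BT.leaf (nat_lit 22926609)) (BT.leaf (nat_lit 22926365))) (BT.node (nat_lit 8406528) (BT.leaf (nat_lit 22927125)) (BT.leaf (nat_lit 35667473))))) (BT.node (nat_lit 8406848) (BT.node (nat_lit 8406720) (BT.node (nat_lit 8406656) (BT.leaf (nat_lit 33626137)) (BT.leaf (nat_lit 24330017))) (BT.node (nat_lit 8406784) (BT.leaf (nat_lit 35446813)) (BT.leaf (nat_lit 23260437)))) (BT.node (nat_lit 8406976) (BT.node (nat_lit 8406912) (BT.leaf (nat_lit 26210577)) (BT.leaf (nat_lit 26210321))) (BT.node (nat_lit 8407040) (BT.leaf (nat_lit 22928665)) (BT.leaf (nat_lit 22929173)))))) (BT.node (nat_lit 8408000) (BT.node (nat_lit 8407488) (BT.node (nat_lit 8407360) (BT.node (nat_lit 8407168) (BT.leaf (nat_lit 33499673)) (BT.leaf (nat_lit 28730645))) (BT.node (nat_lit 8407424) (BT.leaf (nat_lit 50123797)) (BT.leaf (nat_lit 50053129)))) (BT.node (nat_lit 8407872) (BT.node (nat_lit 8407808) (BT.leaf (nat_lit 25197329)) (BT.leaf (nat_lit 25526289))) (BT.node (nat_lit 8407936) (BT.leaf (nat_lit 25526033)) (BT.leaf (nat_lit 25188881))))) (BT.node (nat_lit 8408256) (BT.node (nat_lit 8408128) (BT.node (nat_lit 8408064) (BT.leaf (nat_lit 25188369)) (BT.leaf (nat_lit 22936349))) (BT.node (nat_lit 8408192) (BT.leaf (nat_lit 50124561)) (BT.leaf (nat_lit 35043353)))) (BT.node (nat_lit 8408384) (BT.node (nat_lit 8408320) (BT.leaf (nat_lit 35557137)) (BT.leaf (nat_lit 33633565))) (BT.node (nat_lit 8408448) (BT.leaf (nat_lit 36768017)) (BT.leaf (nat_lit 50125077))))))) (BT.node (nat_lit 8409600) (BT.node (nat_lit 8409088) (BT.node (nat_lit 8408832) (BT.node (nat_lit 8408704) (BT.node (nat_lit 8408640) (BT.leaf (nat_lit 33064209)) (BT.leaf (nat_lit 22938653))) (BT.node (nat_lit 8408768) (BT.leaf (nat_lit 36204049)) (BT.leaf (nat_lit 24537877)))) (BT.node (nat_lit 8408960) (BT.node (nat_lit 8408896) (BT.leaf (nat_lit 50126097)) (BT.leaf (nat_lit 23684381))) (BT.node (nat_lit 8409024) (BT.leaf (nat_lit 26004513)) (BT.leaf (nat_lit 50265377))))) (BT.node (nat_lit 8409344) (BT.node (nat_lit 8409216) (BT.node (nat_lit 8409152) (BT.leaf (nat_lit 50126353)) (BT.leaf (nat_lit 27198997))) (BT.node (nat_lit 8409280) (BT.leaf (nat_lit 27199249)) (BT.leaf (nat_lit 24194081)))) (BT.node (nat_lit 8409472) (BT.node (nat_lit 8409408) (BT.leaf (nat_lit 25110561)) (BT.leaf (nat_lit 50265097))) (BT.node (nat_lit 8409536) (BT.leaf (nat_lit 22942997)) (BT.leaf (nat_lit 23594257)))))) (BT.node (nat_lit 8410240) (BT.node (nat_lit 8409984) (BT.node (nat_lit 8409728) (BT.node (nat_lit 8409664) (BT.leaf (nat_lit 50006301)) (BT.leaf (nat_lit 50127133))) (BT.node (nat_lit 8409920) (BT.leaf (nat_lit 25690901)) (BT.leaf (nat_lit 34194437)))) (BT.node (nat_lit 8410112) (BT.node (nat_lit 8410048) (BT.leaf (nat_lit 22943765)) (BT.leaf (nat_lit 23261205))) (BT.node (nat_lit 8410176) (BT.leaf (nat_lit 24129549)) (BT.leaf (nat_lit 47741465))))) (BT.node (nat_lit 8410560) (BT.node (nat_lit 8410368) (BT.node (nat_lit 8410304) (BT.leaf (nat_lit 33411353)) (BT.leaf (nat_lit 22945553))) (BT.node (nat_lit 8410432) (BT.leaf (nat_lit 34036997)) (BT.leaf (nat_lit 25212425)))) (BT.node (nat_lit 8410688) (BT.node (nat_lit 8410624) (BT.leaf (nat_lit 22947613)) (BT.leaf (nat_lit 22949137))) (BT.node (nat_lit 8410752) (BT.leaf (nat_lit 22950673)) (BT.leaf (nat_lit 50130453)))))))) (BT.node (nat_lit 8414848) (BT.node (nat_lit 8412864) (BT.node (nat_lit 8411712) (BT.node (nat_lit 8411200) (BT.node (nat_lit 8411072) (BT.node (nat_lit 8410880) (BT.leaf (nat_lit 22996489)) (BT.leaf (nat_lit 22996493))) (BT.node (nat_lit 8411136) (BT.leaf (nat_lit 50131221)) (BT.leaf (nat_lit 23157273)))) (BT.node (nat_lit 8411456) (BT.node (nat_lit 8411264) (BT.leaf (nat_lit 50131489)) (BT.leaf (nat_lit 50131745))) (BT.node (nat_lit 8411648) (BT.leaf (nat_lit 50131469)) (BT.leaf (nat_lit 34858529))))) (BT.node (nat_lit 8412480) (BT.node (nat_lit 8411968) (BT.node (nat_lit 8411776) (BT.leaf (nat_lit 33901833)) (BT.leaf (nat_lit 22955537))) (BT.node (nat_lit 8412416) (BT.leaf (nat_lit 42222881)) (BT.leaf (nat_lit 22957337)))) (BT.node (nat_lit 8412736) (BT.node (nat_lit 8412608) (BT.leaf (nat_lit 50134037)) (BT.leaf (nat_lit 30960141))) (BT.node (nat_lit 8412800) (BT.leaf (nat_lit 30960157)) (BT.leaf (nat_lit 47348001)))))) (BT.node (nat_lit 8413632) (BT.node (nat_lit 8413376) (BT.node (nat_lit 8413184) (BT.node (nat_lit 8413056) (BT.leaf (nat_lit 30960153)) (BT.leaf (nat_lit 48312097))) (BT.node (nat_lit 8413248) (BT.leaf (nat_lit 25196305)) (BT.leaf (nat_lit 22960669)))) (BT.node (nat_lit 8413504) (BT.node (nat_lit 8413440) (BT.leaf (nat_lit 22961937)) (BT.leaf (nat_lit 25196817))) (BT.node (nat_lit 8413568) (BT.leaf (nat_lit 25182481)) (BT.leaf (nat_lit 22962201))))) (BT.node (nat_lit 8414016) (BT.node (nat_lit 8413888) (BT.node (nat_lit 8413760) (BT.leaf (nat_lit 22962205)) (BT.leaf (nat_lit 22962973))) (BT.node (nat_lit 8413952) (BT.leaf (nat_lit 49953293)) (BT.leaf (nat_lit 33438233)))) (BT.node (nat_lit 8414208) (BT.node (nat_lit 8414080) (BT.leaf (nat_lit 22963741)) (BT.leaf (nat_lit 47242261))) (BT.node (nat_lit 8414720) (BT.leaf (nat_lit 50138117)) (BT.leaf (nat_lit 34820101))))))) (BT.node (nat_lit 8415872) (BT.node (nat_lit 8415360) (BT.node (nat_lit 8415104) (BT.node (nat_lit 8414976) (BT.node (nat_lit 8414912) (BT.leaf (nat_lit 23157525)) (BT.leaf (nat_lit 22967569))) (BT.node (nat_lit 8415040) (BT.leaf (nat_lit 37008661)) (BT.leaf (nat_lit 22968081)))) (BT.node (nat_lit 8415232) (BT.node (nat_lit 8415168) (BT.leaf (nat_lit 36364577)) (BT.leaf (nat_lit 22968349))) (BT.node (nat_lit 8415296) (BT.leaf (nat_lit 37602057)) (BT.leaf (nat_lit 50140689))))) (BT.node (nat_lit 8415616) (BT.node (nat_lit 8415488) (BT.node (nat_lit 8415424) (BT.leaf (nat_lit 22969369)) (BT.leaf (nat_lit 22969373))) (BT.node (nat_lit 8415552) (BT.leaf (nat_lit 34175521)) (BT.leaf (nat_lit 50142213)))) (BT.node (nat_lit 8415744) (BT.node (nat_lit 8415680) (BT.leaf (nat_lit 50142225)) (BT.leaf (nat_lit 25772057))) (BT.node (nat_lit 8415808) (BT.leaf (nat_lit 22969873)) (BT.leaf (nat_lit 25771549)))))) (BT.node (nat_lit 8416384) (BT.node (nat_lit 8416128) (BT.node (nat_lit 8416000) (BT.node (nat_lit 8415936) (BT.leaf (nat_lit 25815301)) (BT.leaf (nat_lit 25950493))) (BT.node (nat_lit 8416064) (BT.leaf (nat_lit 22972181)) (BT.leaf (nat_lit 22972433)))) (BT.node (nat_lit 8416256) (BT.node (nat_lit 8416192) (BT.leaf (nat_lit 36634905)) (BT.leaf (nat_lit 22972697))) (BT.node (nat_lit 8416320) (BT.leaf (nat_lit 33124897)) (BT.leaf (nat_lit 22973713))))) (BT.node (nat_lit 8416704) (BT.node (nat_lit 8416576) (BT.node (nat_lit 8416448) (BT.leaf (nat_lit 36787205)) (BT.leaf (nat_lit 22974489))) (BT.node (nat_lit 8416640) (BT.leaf (nat_lit 50146833)) (BT.leaf (nat_lit 50145557)))) (BT.node (nat_lit 8416960) (BT.node (nat_lit 8416832) (BT.leaf (nat_lit 25205013)) (BT.leaf (nat_lit 22975493))) (BT.node (nat_lit 8417024) (BT.leaf (nat_lit 22976029)) (BT.leaf (nat_lit 50148125))))))))) (BT.node (nat_lit 8422912) (BT.node (nat_lit 8420032) (BT.node (nat_lit 8418368) (BT.node (nat_lit 8417664) (BT.node (nat_lit 8417344) (BT.node (nat_lit 8417216) (BT.node (nat_lit 8417152) (BT.leaf (nat_lit 22975765)) (BT.leaf (nat_lit 46885893))) (BT.node (nat_lit 8417280) (BT.leaf (nat_lit 22976273)) (BT.leaf (nat_lit 25765397)))) (BT.node (nat_lit 8417472) (BT.node (nat_lit 8417408) (BT.leaf (nat_lit 26800665)) (BT.leaf (nat_lit 33718037))) (BT.node (nat_lit 8417600) (BT.leaf (nat_lit 26800649)) (BT.leaf (nat_lit 33709853))))) (BT.node (nat_lit 8417920) (BT.node (nat_lit 8417792) (BT.node (nat_lit 8417728) (BT.leaf (nat_lit 25936929)) (BT.leaf (nat_lit 22977285))) (BT.node (nat_lit 8417856) (BT.leaf (nat_lit 22977301)) (BT.leaf (nat_lit 47314437)))) (BT.node (nat_lit 8418240) (BT.node (nat_lit 8418112) (BT.leaf (nat_lit 33671449)) (BT.leaf (nat_lit 48177697))) (BT.node (nat_lit 8418304) (BT.leaf (nat_lit 22978833)) (BT.leaf (nat_lit 22979097)))))) (BT.node (nat_lit 8419392) (BT.node (nat_lit 8419072) (BT.node (nat_lit 8418752) (BT.node (nat_lit 8418688) (BT.leaf (nat_lit 22979865)) (BT.leaf (nat_lit 47363345))) (BT.node (nat_lit 8419008) (BT.leaf (nat_lit 22980637)) (BT.leaf (nat_lit 24714013)))) (BT.node (nat_lit 8419200) (BT.node (nat_lit 8419136) (BT.leaf (nat_lit 33707037)) (BT.leaf (nat_lit 24714009))) (BT.node (nat_lit 8419264) (BT.leaf (nat_lit 27750677)) (BT.leaf (nat_lit 22981653))))) (BT.node (nat_lit 8419712) (BT.node (nat_lit 8419520) (BT.node (nat_lit 8419456) (BT.leaf (nat_lit 22981661)) (BT.leaf (nat_lit 24136217))) (BT.node (nat_lit 8419648) (BT.leaf (nat_lit 22981917)) (BT.leaf (nat_lit 22984213)))) (BT.node (nat_lit 8419840) (BT.node (nat_lit 8419776) (BT.leaf (nat_lit 22984477)) (BT.leaf (nat_lit 22986001))) (BT.node (nat_lit 8419904) (BT.leaf (nat_lit 35586589)) (BT.leaf (nat_lit 34226437))))))) (BT.node (nat_lit 8421440) (BT.node (nat_lit 8420736) (BT.node (nat_lit 8420480) (BT.node (nat_lit 8420352) (BT.node (nat_lit 8420224) (BT.leaf (nat_lit 34226949)) (BT.leaf (nat_lit 35693829))) (BT.node (nat_lit 8420416) (BT.leaf (nat_lit 22989321)) (BT.leaf (nat_lit 22989325)))) (BT.node (nat_lit 8420608) (BT.node (nat_lit 8420544) (BT.leaf (nat_lit 22989337)) (BT.leaf (nat_lit 26222357))) (BT.node (nat_lit 8420672) (BT.leaf (nat_lit 48908293)) (BT.leaf (nat_lit 22990609))))) (BT.node (nat_lit 8421120) (BT.node (nat_lit 8420992) (BT.node (nat_lit 8420864) (BT.leaf (nat_lit 29246725)) (BT.leaf (nat_lit 22991889))) (BT.node (nat_lit 8421056) (BT.leaf (nat_lit 22993429)) (BT.leaf (nat_lit 22993433)))) (BT.node (nat_lit 8421312) (BT.node (nat_lit 8421184) (BT.leaf (nat_lit 22993437)) (BT.leaf (nat_lit 47038725))) (BT.node (nat_lit 8421376) (BT.leaf (nat_lit 23768849)) (BT.leaf (nat_lit 34387985)))))) (BT.node (nat_lit 8422144) (BT.node (nat_lit 8421760) (BT.node (nat_lit 8421568) (BT.node (nat_lit 8421504) (BT.leaf (nat_lit 48341793)) (BT.leaf (nat_lit 47348257))) (BT.node (nat_lit 8421696) (BT.leaf (nat_lit 35599385)) (BT.leaf (nat_lit 22995737)))) (BT.node (nat_lit 8421952) (BT.node (nat_lit 8421888) (BT.leaf (nat_lit 22996753)) (BT.leaf (nat_lit 34839841))) (BT.node (nat_lit 8422016) (BT.leaf (nat_lit 34838561)) (BT.leaf (nat_lit 47543585))))) (BT.node (nat_lit 8422464) (BT.node (nat_lit 8422336) (BT.node (nat_lit 8422208) (BT.leaf (nat_lit 27715613)) (BT.leaf (nat_lit 47281433))) (BT.node (nat_lit 8422400) (BT.leaf (nat_lit 23001121)) (BT.leaf (nat_lit 47347489)))) (BT.node (nat_lit 8422784) (BT.node (nat_lit 8422656) (BT.leaf (nat_lit 36184349)) (BT.leaf (nat_lit 33614877))) (BT.node (nat_lit 8422848) (BT.leaf (nat_lit 50113821)) (BT.leaf (nat_lit 25700117)))))))) (BT.node (nat_lit 8426176) (BT.node (nat_lit 8424320) (BT.node (nat_lit 8423616) (BT.node (nat_lit 8423232) (BT.node (nat_lit 8423104) (BT.node (nat_lit 8422976) (BT.leaf (nat_lit 23001105)) (BT.leaf (nat_lit 52182277))) (BT.node (nat_lit 8423168) (BT.leaf (nat_lit 50112537)) (BT.leaf (nat_lit 25216785)))) (BT.node (nat_lit 8423360) (BT.node (nat_lit 8423296) (BT.leaf (nat_lit 34462241)) (BT.leaf (nat_lit 31929109))) (BT.node (nat_lit 8423424) (BT.leaf (nat_lit 34207509)) (BT.leaf (nat_lit 25217813))))) (BT.node (nat_lit 8423936) (BT.node (nat_lit 8423744) (BT.node (nat_lit 8423680) (BT.leaf (nat_lit 23003921)) (BT.leaf (nat_lit 50162465))) (BT.node (nat_lit 8423872) (BT.leaf (nat_lit 39242525)) (BT.leaf (nat_lit 46810401)))) (BT.node (nat_lit 8424128) (BT.node (nat_lit 8424064) (BT.leaf (nat_lit 47353873)) (BT.leaf (nat_lit 51542545))) (BT.node (nat_lit 8424192) (BT.leaf (nat_lit 39241989)) (BT.leaf (nat_lit 39244065)))))) (BT.node (nat_lit 8425152) (BT.node (nat_lit 8424832) (BT.node (nat_lit 8424576) (BT.node (nat_lit 8424448) (BT.leaf (nat_lit 36590617)) (BT.leaf (nat_lit 35681053))) (BT.node (nat_lit 8424640) (BT.leaf (nat_lit 25892369)) (BT.leaf (nat_lit 23006481)))) (BT.node (nat_lit 8425024) (BT.node (nat_lit 8424960) (BT.leaf (nat_lit 33252357)) (BT.leaf (nat_lit 23006745))) (BT.node (nat_lit 8425088) (BT.leaf (nat_lit 23006749)) (BT.leaf (nat_lit 33662221))))) (BT.node (nat_lit 8425856) (BT.node (nat_lit 8425472) (BT.node (nat_lit 8425280) (BT.leaf (nat_lit 23007761)) (BT.leaf (nat_lit 23008025))) (BT.node (nat_lit 8425664) (BT.leaf (nat_lit 23009041)) (BT.leaf (nat_lit 50167061)))) (BT.node (nat_lit 8425984) (BT.node (nat_lit 8425920) (BT.leaf (nat_lit 49848597)) (BT.leaf (nat_lit 34118409))) (BT.node (nat_lit 8426048) (BT.leaf (nat_lit 33805061)) (BT.leaf (nat_lit 33661957))))))) (BT.node (nat_lit 8428096) (BT.node (nat_lit 8427200) (BT.node (nat_lit 8426624) (BT.node (nat_lit 8426496) (BT.node (nat_lit 8426368) (BT.leaf (nat_lit 23013393)) (BT.leaf (nat_lit 23013661))) (BT.node (nat_lit 8426560) (BT.leaf (nat_lit 50168853)) (BT.leaf (nat_lit 50169377)))) (BT.node (nat_lit 8427008) (BT.node (nat_lit 8426752) (BT.leaf (nat_lit 50117653)) (BT.leaf (nat_lit 50117637))) (BT.node (nat_lit 8427136) (BT.leaf (nat_lit 33674777)) (BT.leaf (nat_lit 36763909))))) (BT.node (nat_lit 8427840) (BT.node (nat_lit 8427328) (BT.node (nat_lit 8427264) (BT.leaf (nat_lit 25807893)) (BT.leaf (nat_lit 50170377))) (BT.node (nat_lit 8427456) (BT.leaf (nat_lit 50170901)) (BT.leaf (nat_lit 25228301)))) (BT.node (nat_lit 8427968) (BT.node (nat_lit 8427904) (BT.leaf (nat_lit 24767265)) (BT.leaf (nat_lit 23020049))) (BT.node (nat_lit 8428032) (BT.leaf (nat_lit 23020569)) (BT.leaf (nat_lit 23020573)))))) (BT.node (nat_lit 8428864) (BT.node (nat_lit 8428608) (BT.node (nat_lit 8428224) (BT.node (nat_lit 8428160) (BT.leaf (nat_lit 23020817)) (BT.leaf (nat_lit 23021073))) (BT.node (nat_lit 8428352) (BT.leaf (nat_lit 35702293)) (BT.leaf (nat_lit 51490081)))) (BT.node (nat_lit 8428736) (BT.node (nat_lit 8428672) (BT.leaf (nat_lit 44035093)) (BT.leaf (nat_lit 48099605))) (BT.node (nat_lit 8428800) (BT.leaf (nat_lit 33714697)) (BT.leaf (nat_lit 23023133))))) (BT.node (nat_lit 8429120) (BT.node (nat_lit 8428992) (BT.node (nat_lit 8428928) (BT.leaf (nat_lit 23023889)) (BT.leaf (nat_lit 23023381))) (BT.node (nat_lit 8429056) (BT.leaf (nat_lit 23024149)) (BT.leaf (nat_lit 23024153)))) (BT.node (nat_lit 8429376) (BT.node (nat_lit 8429312) (BT.leaf (nat_lit 23024157)) (BT.leaf (nat_lit 23024409))) (BT.node (nat_lit 8429504) (BT.leaf (nat_lit 23024413)) (BT.leaf (nat_lit 25276449)))))))))))))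
noncomputable def big0_e63488 : BT Nat := (BT.node (nat_lit 8517632) (BT.node (nat_lit 8474304) (BT.node (nat_lit 8451584) (BT.node (nat_lit 8440448) (BT.node (nat_lit 8435200) (BT.node (nat_lit 8432512) (BT.node (nat_lit 8431040) (BT.node (nat_lit 8430400) (BT.node (nat_lit 8430080) (BT.node (nat_lit 8429760) (BT.node (nat_lit 8429632) (BT.leaf (nat_lit 35788293)) (BT.leaf (nat_lit 26109985))) (BT.node (nat_lit 8429888) (BT.leaf (nat_lit 23025937)) (BT.leaf (nat_lit 25233429)))) (BT.node (nat_lit 8430272) (BT.node (nat_lit 8430144) (BT.leaf (nat_lit 25262357)) (BT.leaf (nat_lit 25262609))) (BT.node (nat_lit 8430336) (BT.leaf (nat_lit 28562189)) (BT.leaf (nat_lit 50177813))))) (BT.node (nat_lit 8430784) (BT.node (nat_lit 8430656) (BT.node (nat_lit 8430464) (BT.leaf (nat_lit 31396125)) (BT.leaf (nat_lit 50178077))) (BT.node (nat_lit 8430720) (BT.leaf (nat_lit 33453581)) (BT.leaf (nat_lit 35484949)))) (BT.node (nat_lit 8430912) (BT.node (nat_lit 8430848) (BT.leaf (nat_lit 23030545)) (BT.leaf (nat_lit 27919121))) (BT.node (nat_lit 8430976) (BT.leaf (nat_lit 26745617)) (BT.leaf (nat_lit 23031065)))))) (BT.node (nat_lit 8431680) (BT.node (nat_lit 8431296) (BT.node (nat_lit 8431168) (BT.node (nat_lit 8431104) (BT.leaf (nat_lit 23031069)) (BT.leaf (nat_lit 33577505))) (BT.node (nat_lit 8431232) (BT.leaf (nat_lit 33724957)) (BT.leaf (nat_lit 28703761)))) (BT.node (nat_lit 8431424) (BT.node (nat_lit 8431360) (BT.leaf (nat_lit 23033105)) (BT.leaf (nat_lit 23033873))) (BT.node (nat_lit 8431488) (BT.leaf (nat_lit 23034129)) (BT.leaf (nat_lit 47384341))))) (BT.node (nat_lit 8432192) (BT.node (nat_lit 8431808) (BT.node (nat_lit 8431744) (BT.leaf (nat_lit 23035157)) (BT.leaf (nat_lit 27195933))) (BT.node (nat_lit 8432000) (BT.leaf (nat_lit 23035929)) (BT.leaf (nat_lit 49806349)))) (BT.node (nat_lit 8432320) (BT.node (nat_lit 8432256) (BT.leaf (nat_lit 50181649)) (BT.leaf (nat_lit 34852129))) (BT.node (nat_lit 8432384) (BT.leaf (nat_lit 32342281)) (BT.leaf (nat_lit 32344585))))))) (BT.node (nat_lit 8433600) (BT.node (nat_lit 8433088) (BT.node (nat_lit 8432832) (BT.node (nat_lit 8432640) (BT.node (nat_lit 8432576) (BT.leaf (nat_lit 50181909)) (BT.leaf (nat_lit 23040021))) (BT.node (nat_lit 8432768) (BT.leaf (nat_lit 26906393)) (BT.leaf (nat_lit 33839109)))) (BT.node (nat_lit 8432960) (BT.node (nat_lit 8432896) (BT.leaf (nat_lit 23042325)) (BT.leaf (nat_lit 29429521))) (BT.node (nat_lit 8433024) (BT.leaf (nat_lit 50182421)) (BT.leaf (nat_lit 27153681))))) (BT.node (nat_lit 8433344) (BT.node (nat_lit 8433216) (BT.node (nat_lit 8433152) (BT.leaf (nat_lit 23043601)) (BT.leaf (nat_lit 28854029))) (BT.node (nat_lit 8433280) (BT.leaf (nat_lit 35509781)) (BT.leaf (nat_lit 36239125)))) (BT.node (nat_lit 8433472) (BT.node (nat_lit 8433408) (BT.leaf (nat_lit 36239377)) (BT.leaf (nat_lit 23784221))) (BT.node (nat_lit 8433536) (BT.leaf (nat_lit 33732125)) (BT.leaf (nat_lit 23044625)))))) (BT.node (nat_lit 8434304) (BT.node (nat_lit 8433920) (BT.node (nat_lit 8433792) (BT.node (nat_lit 8433664) (BT.leaf (nat_lit 34606617)) (BT.leaf (nat_lit 26152209))) (BT.node (nat_lit 8433856) (BT.leaf (nat_lit 23045393)) (BT.leaf (nat_lit 28356385)))) (BT.node (nat_lit 8434048) (BT.node (nat_lit 8433984) (BT.leaf (nat_lit 39943701)) (BT.leaf (nat_lit 47028757))) (BT.node (nat_lit 8434176) (BT.leaf (nat_lit 49175061)) (BT.leaf (nat_lit 50183201))))) (BT.node (nat_lit 8434880) (BT.node (nat_lit 8434560) (BT.node (nat_lit 8434496) (BT.leaf (nat_lit 23047701)) (BT.leaf (nat_lit 50071837))) (BT.node (nat_lit 8434624) (BT.leaf (nat_lit 23049493)) (BT.leaf (nat_lit 30408721)))) (BT.node (nat_lit 8435072) (BT.node (nat_lit 8434944) (BT.leaf (nat_lit 50185757)) (BT.leaf (nat_lit 34887685))) (BT.node (nat_lit 8435136) (BT.leaf (nat_lit 37616405)) (BT.leaf (nat_lit 23052053)))))))) (BT.node (nat_lit 8438016) (BT.node (nat_lit 8436544) (BT.node (nat_lit 8435840) (BT.node (nat_lit 8435584) (BT.node (nat_lit 8435328) (BT.node (nat_lit 8435264) (BT.leaf (nat_lit 37611041)) (BT.leaf (nat_lit 27786013))) (BT.node (nat_lit 8435392) (BT.leaf (nat_lit 37734429)) (BT.leaf (nat_lit 46470665)))) (BT.node (nat_lit 8435712) (BT.node (nat_lit 8435648) (BT.leaf (nat_lit 46409481)) (BT.leaf (nat_lit 50187533))) (BT.node (nat_lit 8435776) (BT.leaf (nat_lit 23054105)) (BT.leaf (nat_lit 36955413))))) (BT.node (nat_lit 8436096) (BT.node (nat_lit 8435968) (BT.node (nat_lit 8435904) (BT.leaf (nat_lit 23054357)) (BT.leaf (nat_lit 29893401))) (BT.node (nat_lit 8436032) (BT.leaf (nat_lit 23055649)) (BT.leaf (nat_lit 23056917)))) (BT.node (nat_lit 8436416) (BT.node (nat_lit 8436352) (BT.leaf (nat_lit 23057173)) (BT.leaf (nat_lit 23057937))) (BT.node (nat_lit 8436480) (BT.leaf (nat_lit 34896913)) (BT.leaf (nat_lit 23058457)))))) (BT.node (nat_lit 8437184) (BT.node (nat_lit 8436864) (BT.node (nat_lit 8436736) (BT.node (nat_lit 8436672) (BT.leaf (nat_lit 23058709)) (BT.leaf (nat_lit 31236617))) (BT.node (nat_lit 8436800) (BT.leaf (nat_lit 39577097)) (BT.leaf (nat_lit 47129881)))) (BT.node (nat_lit 8436992) (BT.node (nat_lit 8436928) (BT.leaf (nat_lit 46582277)) (BT.leaf (nat_lit 39575829))) (BT.node (nat_lit 8437120) (BT.leaf (nat_lit 23059733)) (BT.leaf (nat_lit 36058641))))) (BT.node (nat_lit 8437696) (BT.node (nat_lit 8437376) (BT.node (nat_lit 8437312) (BT.leaf (nat_lit 23061777)) (BT.leaf (nat_lit 37077009))) (BT.node (nat_lit 8437504) (BT.leaf (nat_lit 23062801)) (BT.leaf (nat_lit 37076741)))) (BT.node (nat_lit 8437888) (BT.node (nat_lit 8437760) (BT.leaf (nat_lit 50190873)) (BT.leaf (nat_lit 34958341))) (BT.node (nat_lit 8437952) (BT.leaf (nat_lit 50191901)) (BT.leaf (nat_lit 23064337))))))) (BT.node (nat_lit 8439168) (BT.node (nat_lit 8438528) (BT.node (nat_lit 8438272) (BT.node (nat_lit 8438144) (BT.node (nat_lit 8438080) (BT.leaf (nat_lit 34987529)) (BT.leaf (nat_lit 23065105))) (BT.node (nat_lit 8438208) (BT.leaf (nat_lit 29397021)) (BT.leaf (nat_lit 40135197)))) (BT.node (nat_lit 8438400) (BT.node (nat_lit 8438336) (BT.leaf (nat_lit 26447641)) (BT.leaf (nat_lit 25784593))) (BT.node (nat_lit 8438464) (BT.leaf (nat_lit 23066397)) (BT.leaf (nat_lit 50192917))))) (BT.node (nat_lit 8438912) (BT.node (nat_lit 8438720) (BT.node (nat_lit 8438592) (BT.leaf (nat_lit 33754389)) (BT.leaf (nat_lit 24132897))) (BT.node (nat_lit 8438784) (BT.leaf (nat_lit 46480645)) (BT.leaf (nat_lit 33282577)))) (BT.node (nat_lit 8439040) (BT.node (nat_lit 8438976) (BT.leaf (nat_lit 34118413)) (BT.leaf (nat_lit 23068945))) (BT.node (nat_lit 8439104) (BT.leaf (nat_lit 36380165)) (BT.leaf (nat_lit 23069213)))))) (BT.node (nat_lit 8439680) (BT.node (nat_lit 8439424) (BT.node (nat_lit 8439296) (BT.node (nat_lit 8439232) (BT.leaf (nat_lit 26233873)) (BT.leaf (nat_lit 23069465))) (BT.node (nat_lit 8439360) (BT.leaf (nat_lit 23069469)) (BT.leaf (nat_lit 28439577)))) (BT.node (nat_lit 8439552) (BT.node (nat_lit 8439488) (BT.leaf (nat_lit 23069713)) (BT.leaf (nat_lit 29410073))) (BT.node (nat_lit 8439616) (BT.leaf (nat_lit 23070225)) (BT.leaf (nat_lit 33506329))))) (BT.node (nat_lit 8440128) (BT.node (nat_lit 8439808) (BT.node (nat_lit 8439744) (BT.leaf (nat_lit 23070481)) (BT.leaf (nat_lit 25249553))) (BT.node (nat_lit 8439872) (BT.leaf (nat_lit 25249297)) (BT.leaf (nat_lit 23070749)))) (BT.node (nat_lit 8440256) (BT.node (nat_lit 8440192) (BT.leaf (nat_lit 23072517)) (BT.leaf (nat_lit 23073813))) (BT.node (nat_lit 8440384) (BT.leaf (nat_lit 24934673)) (BT.leaf (nat_lit 47095061))))))))) (BT.node (nat_lit 8446272) (BT.node (nat_lit 8443136) (BT.node (nat_lit 8441920) (BT.node (nat_lit 8441152) (BT.node (nat_lit 8440768) (BT.node (nat_lit 8440576) (BT.node (nat_lit 8440512) (BT.leaf (nat_lit 28442389)) (BT.leaf (nat_lit 50196245))) (BT.node (nat_lit 8440704) (BT.leaf (nat_lit 35641881)) (BT.leaf (nat_lit 34877205)))) (BT.node (nat_lit 8440960) (BT.node (nat_lit 8440832) (BT.leaf (nat_lit 23076881)) (BT.leaf (nat_lit 23077649))) (BT.node (nat_lit 8441088) (BT.leaf (nat_lit 35255841)) (BT.leaf (nat_lit 24099101))))) (BT.node (nat_lit 8441664) (BT.node (nat_lit 8441280) (BT.node (nat_lit 8441216) (BT.leaf (nat_lit 23078165)) (BT.leaf (nat_lit 27742489))) (BT.node (nat_lit 8441344) (BT.leaf (nat_lit 23078421)) (BT.leaf (nat_lit 23078929)))) (BT.node (nat_lit 8441792) (BT.node (nat_lit 8441728) (BT.leaf (nat_lit 35250197)) (BT.leaf (nat_lit 47464981))) (BT.node (nat_lit 8441856) (BT.leaf (nat_lit 36622865)) (BT.leaf (nat_lit 27197469)))))) (BT.node (nat_lit 8442624) (BT.node (nat_lit 8442304) (BT.node (nat_lit 8442176) (BT.node (nat_lit 8441984) (BT.leaf (nat_lit 23083285)) (BT.leaf (nat_lit 23084561))) (BT.node (nat_lit 8442240) (BT.leaf (nat_lit 23086109)) (BT.leaf (nat_lit 23087121)))) (BT.node (nat_lit 8442496) (BT.node (nat_lit 8442368) (BT.leaf (nat_lit 23086869)) (BT.leaf (nat_lit 50200593))) (BT.node (nat_lit 8442560) (BT.leaf (nat_lit 23088145)) (BT.leaf (nat_lit 24233249))))) (BT.node (nat_lit 8442880) (BT.node (nat_lit 8442752) (BT.node (nat_lit 8442688) (BT.leaf (nat_lit 26732061)) (BT.leaf (nat_lit 23089173))) (BT.node (nat_lit 8442816) (BT.leaf (nat_lit 25720329)) (BT.leaf (nat_lit 26582037)))) (BT.node (nat_lit 8443008) (BT.node (nat_lit 8442944) (BT.leaf (nat_lit 23089441)) (BT.leaf (nat_lit 23703313))) (BT.node (nat_lit 8443072) (BT.leaf (nat_lit 23093009)) (BT.leaf (nat_lit 25299225))))))) (BT.node (nat_lit 8444544) (BT.node (nat_lit 8443712) (BT.node (nat_lit 8443456) (BT.node (nat_lit 8443264) (BT.node (nat_lit 8443200) (BT.leaf (nat_lit 23093265)) (BT.leaf (nat_lit 25537821))) (BT.node (nat_lit 8443392) (BT.leaf (nat_lit 25299485)) (BT.leaf (nat_lit 23093793)))) (BT.node (nat_lit 8443584) (BT.node (nat_lit 8443520) (BT.leaf (nat_lit 36686873)) (BT.leaf (nat_lit 23095829))) (BT.node (nat_lit 8443648) (BT.leaf (nat_lit 23096085)) (BT.leaf (nat_lit 50203661))))) (BT.node (nat_lit 8443968) (BT.node (nat_lit 8443840) (BT.node (nat_lit 8443776) (BT.leaf (nat_lit 25767449)) (BT.leaf (nat_lit 50204437))) (BT.node (nat_lit 8443904) (BT.leaf (nat_lit 37602061)) (BT.leaf (nat_lit 47489797)))) (BT.node (nat_lit 8444224) (BT.node (nat_lit 8444096) (BT.leaf (nat_lit 35947269)) (BT.leaf (nat_lit 23098897))) (BT.node (nat_lit 8444480) (BT.leaf (nat_lit 36669205)) (BT.leaf (nat_lit 23101969)))))) (BT.node (nat_lit 8445184) (BT.node (nat_lit 8444800) (BT.node (nat_lit 8444672) (BT.node (nat_lit 8444608) (BT.leaf (nat_lit 23102225)) (BT.leaf (nat_lit 25272837))) (BT.node (nat_lit 8444736) (BT.leaf (nat_lit 23102993)) (BT.leaf (nat_lit 33242397)))) (BT.node (nat_lit 8444928) (BT.node (nat_lit 8444864) (BT.leaf (nat_lit 23103249)) (BT.leaf (nat_lit 27588613))) (BT.node (nat_lit 8445056) (BT.leaf (nat_lit 46900513)) (BT.leaf (nat_lit 23241233))))) (BT.node (nat_lit 8445824) (BT.node (nat_lit 8445696) (BT.node (nat_lit 8445632) (BT.leaf (nat_lit 25949465)) (BT.leaf (nat_lit 23105553))) (BT.node (nat_lit 8445760) (BT.leaf (nat_lit 24976673)) (BT.leaf (nat_lit 47086353)))) (BT.node (nat_lit 8446080) (BT.node (nat_lit 8445888) (BT.leaf (nat_lit 23107861)) (BT.leaf (nat_lit 33341957))) (BT.node (nat_lit 8446208) (BT.leaf (nat_lit 50210325)) (BT.leaf (nat_lit 35784461)))))))) (BT.node (nat_lit 8449216) (BT.node (nat_lit 8447488) (BT.node (nat_lit 8446848) (BT.node (nat_lit 8446528) (BT.node (nat_lit 8446400) (BT.node (nat_lit 8446336) (BT.leaf (nat_lit 23110165)) (BT.leaf (nat_lit 23110421))) (BT.node (nat_lit 8446464) (BT.leaf (nat_lit 23110673)) (BT.leaf (nat_lit 23110937)))) (BT.node (nat_lit 8446656) (BT.node (nat_lit 8446592) (BT.leaf (nat_lit 23111189)) (BT.leaf (nat_lit 23111453))) (BT.node (nat_lit 8446784) (BT.leaf (nat_lit 25274129)) (BT.leaf (nat_lit 23111961))))) (BT.node (nat_lit 8447104) (BT.node (nat_lit 8446976) (BT.node (nat_lit 8446912) (BT.leaf (nat_lit 23111965)) (BT.leaf (nat_lit 50213905))) (BT.node (nat_lit 8447040) (BT.leaf (nat_lit 23112981)) (BT.leaf (nat_lit 23112465)))) (BT.node (nat_lit 8447360) (BT.node (nat_lit 8447232) (BT.leaf (nat_lit 23112721)) (BT.leaf (nat_lit 23113489))) (BT.node (nat_lit 8447424) (BT.leaf (nat_lit 23114257)) (BT.leaf (nat_lit 23115025)))))) (BT.node (nat_lit 8448256) (BT.node (nat_lit 8447808) (BT.node (nat_lit 8447680) (BT.node (nat_lit 8447616) (BT.leaf (nat_lit 34825493)) (BT.leaf (nat_lit 23117073))) (BT.node (nat_lit 8447744) (BT.leaf (nat_lit 23117585)) (BT.leaf (nat_lit 25285125)))) (BT.node (nat_lit 8448064) (BT.node (nat_lit 8448000) (BT.leaf (nat_lit 23119121)) (BT.leaf (nat_lit 23390481))) (BT.node (nat_lit 8448192) (BT.leaf (nat_lit 33790725)) (BT.leaf (nat_lit 29135641))))) (BT.node (nat_lit 8448640) (BT.node (nat_lit 8448384) (BT.node (nat_lit 8448320) (BT.leaf (nat_lit 23123473)) (BT.leaf (nat_lit 25291537))) (BT.node (nat_lit 8448448) (BT.leaf (nat_lit 23124485)) (BT.leaf (nat_lit 50216973)))) (BT.node (nat_lit 8449024) (BT.node (nat_lit 8448768) (BT.leaf (nat_lit 23127057)) (BT.leaf (nat_lit 26243345))) (BT.node (nat_lit 8449088) (BT.leaf (nat_lit 50218773)) (BT.leaf (nat_lit 50220557))))))) (BT.node (nat_lit 8450368) (BT.node (nat_lit 8449792) (BT.node (nat_lit 8449472) (BT.node (nat_lit 8449344) (BT.node (nat_lit 8449280) (BT.leaf (nat_lit 50221589)) (BT.leaf (nat_lit 23128097))) (BT.node (nat_lit 8449408) (BT.leaf (nat_lit 50219033)) (BT.leaf (nat_lit 50216989)))) (BT.node (nat_lit 8449664) (BT.node (nat_lit 8449536) (BT.leaf (nat_lit 27033369)) (BT.leaf (nat_lit 23129877))) (BT.node (nat_lit 8449728) (BT.leaf (nat_lit 23130641)) (BT.leaf (nat_lit 25297157))))) (BT.node (nat_lit 8450048) (BT.node (nat_lit 8449920) (BT.node (nat_lit 8449856) (BT.leaf (nat_lit 33613829)) (BT.leaf (nat_lit 50223633))) (BT.node (nat_lit 8449984) (BT.leaf (nat_lit 49937173)) (BT.leaf (nat_lit 47022353)))) (BT.node (nat_lit 8450176) (BT.node (nat_lit 8450112) (BT.leaf (nat_lit 34322693)) (BT.leaf (nat_lit 23131929))) (BT.node (nat_lit 8450304) (BT.leaf (nat_lit 23131933)) (BT.leaf (nat_lit 34247197)))))) (BT.node (nat_lit 8451008) (BT.node (nat_lit 8450624) (BT.node (nat_lit 8450496) (BT.node (nat_lit 8450432) (BT.leaf (nat_lit 31955233)) (BT.leaf (nat_lit 24703253))) (BT.node (nat_lit 8450560) (BT.leaf (nat_lit 33801753)) (BT.leaf (nat_lit 40684053)))) (BT.node (nat_lit 8450880) (BT.node (nat_lit 8450752) (BT.leaf (nat_lit 23134481)) (BT.leaf (nat_lit 50226197))) (BT.node (nat_lit 8450944) (BT.leaf (nat_lit 23135765)) (BT.leaf (nat_lit 23136017))))) (BT.node (nat_lit 8451264) (BT.node (nat_lit 8451136) (BT.node (nat_lit 8451072) (BT.leaf (nat_lit 35989773)) (BT.leaf (nat_lit 25299733))) (BT.node (nat_lit 8451200) (BT.leaf (nat_lit 24261893)) (BT.leaf (nat_lit 33338889)))) (BT.node (nat_lit 8451392) (BT.node (nat_lit 8451328) (BT.leaf (nat_lit 23139857)) (BT.leaf (nat_lit 37308693))) (BT.node (nat_lit 8451456) (BT.leaf (nat_lit 37309213)) (BT.leaf (nat_lit 47516685)))))))))) (BT.node (nat_lit 8463360) (BT.node (nat_lit 8457792) (BT.node (nat_lit 8454784) (BT.node (nat_lit 8452928) (BT.node (nat_lit 8452096) (BT.node (nat_lit 8451840) (BT.node (nat_lit 8451712) (BT.node (nat_lit 8451648) (BT.leaf (nat_lit 25301265)) (BT.leaf (nat_lit 23142421))) (BT.node (nat_lit 8451776) (BT.leaf (nat_lit 50228753)) (BT.leaf (nat_lit 50229009)))) (BT.node (nat_lit 8451968) (BT.node (nat_lit 8451904) (BT.leaf (nat_lit 23142933)) (BT.leaf (nat_lit 23142681))) (BT.node (nat_lit 8452032) (BT.leaf (nat_lit 23142685)) (BT.leaf (nat_lit 47511329))))) (BT.node (nat_lit 8452416) (BT.node (nat_lit 8452288) (BT.node (nat_lit 8452160) (BT.leaf (nat_lit 25949701)) (BT.leaf (nat_lit 23143697))) (BT.node (nat_lit 8452352) (BT.leaf (nat_lit 52109089)) (BT.leaf (nat_lit 23144985)))) (BT.node (nat_lit 8452736) (BT.node (nat_lit 8452672) (BT.leaf (nat_lit 23145237)) (BT.leaf (nat_lit 25772565))) (BT.node (nat_lit 8452800) (BT.leaf (nat_lit 23146245)) (BT.leaf (nat_lit 24765461)))))) (BT.node (nat_lit 8454016) (BT.node (nat_lit 8453696) (BT.node (nat_lit 8453184) (BT.node (nat_lit 8452992) (BT.leaf (nat_lit 23148305)) (BT.leaf (nat_lit 23148565))) (BT.node (nat_lit 8453632) (BT.leaf (nat_lit 23149849)) (BT.leaf (nat_lit 23151621)))) (BT.node (nat_lit 8453824) (BT.node (nat_lit 8453760) (BT.leaf (nat_lit 23152145)) (BT.leaf (nat_lit 23153945))) (BT.node (nat_lit 8453952) (BT.leaf (nat_lit 23156997)) (BT.leaf (nat_lit 50216977))))) (BT.node (nat_lit 8454400) (BT.node (nat_lit 8454272) (BT.node (nat_lit 8454080) (BT.leaf (nat_lit 23154969)) (BT.leaf (nat_lit 50235669))) (BT.node (nat_lit 8454336) (BT.leaf (nat_lit 23156241)) (BT.leaf (nat_lit 23156761)))) (BT.node (nat_lit 8454528) (BT.node (nat_lit 8454464) (BT.leaf (nat_lit 23156765)) (BT.leaf (nat_lit 23157521))) (BT.node (nat_lit 8454592) (BT.leaf (nat_lit 36488477)) (BT.leaf (nat_lit 23158037))))))) (BT.node (nat_lit 8456064) (BT.node (nat_lit 8455424) (BT.node (nat_lit 8455168) (BT.node (nat_lit 8454976) (BT.node (nat_lit 8454848) (BT.leaf (nat_lit 23158805)) (BT.leaf (nat_lit 23158809))) (BT.node (nat_lit 8455040) (BT.leaf (nat_lit 23159061)) (BT.leaf (nat_lit 23159065)))) (BT.node (nat_lit 8455296) (BT.node (nat_lit 8455232) (BT.leaf (nat_lit 23159305)) (BT.leaf (nat_lit 23159309))) (BT.node (nat_lit 8455360) (BT.leaf (nat_lit 23159321)) (BT.leaf (nat_lit 23159325))))) (BT.node (nat_lit 8455744) (BT.node (nat_lit 8455552) (BT.node (nat_lit 8455488) (BT.leaf (nat_lit 23159329)) (BT.leaf (nat_lit 23159557))) (BT.node (nat_lit 8455680) (BT.leaf (nat_lit 23159573)) (BT.leaf (nat_lit 23160593)))) (BT.node (nat_lit 8455936) (BT.node (nat_lit 8455808) (BT.leaf (nat_lit 34887705)) (BT.leaf (nat_lit 23161617))) (BT.node (nat_lit 8456000) (BT.leaf (nat_lit 32187677)) (BT.leaf (nat_lit 23162641)))))) (BT.node (nat_lit 8456960) (BT.node (nat_lit 8456576) (BT.node (nat_lit 8456320) (BT.node (nat_lit 8456128) (BT.leaf (nat_lit 34451977)) (BT.leaf (nat_lit 23163413))) (BT.node (nat_lit 8456448) (BT.leaf (nat_lit 34980633)) (BT.leaf (nat_lit 25840389)))) (BT.node (nat_lit 8456704) (BT.node (nat_lit 8456640) (BT.leaf (nat_lit 50098709)) (BT.leaf (nat_lit 47137553))) (BT.node (nat_lit 8456832) (BT.leaf (nat_lit 47124237)) (BT.leaf (nat_lit 23165969))))) (BT.node (nat_lit 8457344) (BT.node (nat_lit 8457152) (BT.node (nat_lit 8457088) (BT.leaf (nat_lit 35313697)) (BT.leaf (nat_lit 23166481))) (BT.node (nat_lit 8457280) (BT.leaf (nat_lit 28951813)) (BT.leaf (nat_lit 47563269)))) (BT.node (nat_lit 8457664) (BT.node (nat_lit 8457536) (BT.leaf (nat_lit 47563277)) (BT.leaf (nat_lit 40075793))) (BT.node (nat_lit 8457728) (BT.leaf (nat_lit 26006301)) (BT.leaf (nat_lit 23169297)))))))) (BT.node (nat_lit 8460800) (BT.node (nat_lit 8459264) (BT.node (nat_lit 8458560) (BT.node (nat_lit 8458176) (BT.node (nat_lit 8458048) (BT.node (nat_lit 8457920) (BT.leaf (nat_lit 25861401)) (BT.leaf (nat_lit 24811797))) (BT.node (nat_lit 8458112) (BT.leaf (nat_lit 23170581)) (BT.leaf (nat_lit 33873185)))) (BT.node (nat_lit 8458304) (BT.node (nat_lit 8458240) (BT.leaf (nat_lit 33873697)) (BT.leaf (nat_lit 47631393))) (BT.node (nat_lit 8458496) (BT.leaf (nat_lit 23171097)) (BT.leaf (nat_lit 23172101))))) (BT.node (nat_lit 8459008) (BT.node (nat_lit 8458688) (BT.node (nat_lit 8458624) (BT.leaf (nat_lit 50245649)) (BT.leaf (nat_lit 23172369))) (BT.node (nat_lit 8458816) (BT.leaf (nat_lit 34855705)) (BT.leaf (nat_lit 37902345)))) (BT.node (nat_lit 8459136) (BT.node (nat_lit 8459072) (BT.leaf (nat_lit 33141509)) (BT.leaf (nat_lit 51966497))) (BT.node (nat_lit 8459200) (BT.leaf (nat_lit 34951713)) (BT.leaf (nat_lit 35321873)))))) (BT.node (nat_lit 8459904) (BT.node (nat_lit 8459520) (BT.node (nat_lit 8459392) (BT.node (nat_lit 8459328) (BT.leaf (nat_lit 26012937)) (BT.leaf (nat_lit 25483281))) (BT.node (nat_lit 8459456) (BT.leaf (nat_lit 25984005)) (BT.leaf (nat_lit 23175185)))) (BT.node (nat_lit 8459712) (BT.node (nat_lit 8459648) (BT.leaf (nat_lit 35533593)) (BT.leaf (nat_lit 23176721))) (BT.node (nat_lit 8459776) (BT.leaf (nat_lit 23176981)) (BT.leaf (nat_lit 23177233))))) (BT.node (nat_lit 8460416) (BT.node (nat_lit 8460160) (BT.node (nat_lit 8460032) (BT.leaf (nat_lit 29253149)) (BT.leaf (nat_lit 23179541))) (BT.node (nat_lit 8460224) (BT.leaf (nat_lit 41796617)) (BT.leaf (nat_lit 23182869)))) (BT.node (nat_lit 8460608) (BT.node (nat_lit 8460544) (BT.leaf (nat_lit 23183385)) (BT.leaf (nat_lit 50247449))) (BT.node (nat_lit 8460672) (BT.leaf (nat_lit 23185173)) (BT.leaf (nat_lit 37601553))))))) (BT.node (nat_lit 8462016) (BT.node (nat_lit 8461376) (BT.node (nat_lit 8461120) (BT.node (nat_lit 8460928) (BT.node (nat_lit 8460864) (BT.leaf (nat_lit 23185669)) (BT.leaf (nat_lit 23185925))) (BT.node (nat_lit 8460992) (BT.leaf (nat_lit 23185433)) (BT.leaf (nat_lit 25318161)))) (BT.node (nat_lit 8461248) (BT.node (nat_lit 8461184) (BT.leaf (nat_lit 50249501)) (BT.leaf (nat_lit 33873169))) (BT.node (nat_lit 8461312) (BT.leaf (nat_lit 33142533)) (BT.leaf (nat_lit 50250269))))) (BT.node (nat_lit 8461696) (BT.node (nat_lit 8461504) (BT.node (nat_lit 8461440) (BT.leaf (nat_lit 23187221)) (BT.leaf (nat_lit 49228037))) (BT.node (nat_lit 8461632) (BT.leaf (nat_lit 50250769)) (BT.leaf (nat_lit 23187993)))) (BT.node (nat_lit 8461824) (BT.node (nat_lit 8461760) (BT.leaf (nat_lit 23187997)) (BT.leaf (nat_lit 50078749))) (BT.node (nat_lit 8461952) (BT.leaf (nat_lit 33554461)) (BT.leaf (nat_lit 23188257)))))) (BT.node (nat_lit 8462848) (BT.node (nat_lit 8462336) (BT.node (nat_lit 8462208) (BT.node (nat_lit 8462144) (BT.leaf (nat_lit 50251029)) (BT.leaf (nat_lit 23189001))) (BT.node (nat_lit 8462272) (BT.leaf (nat_lit 24038169)) (BT.leaf (nat_lit 23189269)))) (BT.node (nat_lit 8462720) (BT.node (nat_lit 8462656) (BT.leaf (nat_lit 50251553)) (BT.leaf (nat_lit 23718925))) (BT.node (nat_lit 8462784) (BT.leaf (nat_lit 28504337)) (BT.leaf (nat_lit 36219653))))) (BT.node (nat_lit 8463104) (BT.node (nat_lit 8462976) (BT.node (nat_lit 8462912) (BT.leaf (nat_lit 23192337)) (BT.leaf (nat_lit 36095253))) (BT.node (nat_lit 8463040) (BT.leaf (nat_lit 34190097)) (BT.leaf (nat_lit 33598221)))) (BT.node (nat_lit 8463232) (BT.node (nat_lit 8463168) (BT.leaf (nat_lit 23193873)) (BT.leaf (nat_lit 23689221))) (BT.node (nat_lit 8463296) (BT.leaf (nat_lit 23269137)) (BT.leaf (nat_lit 50254353))))))))) (BT.node (nat_lit 8469184) (BT.node (nat_lit 8466304) (BT.node (nat_lit 8464960) (BT.node (nat_lit 8464192) (BT.node (nat_lit 8463744) (BT.node (nat_lit 8463552) (BT.node (nat_lit 8463488) (BT.leaf (nat_lit 38064389)) (BT.leaf (nat_lit 33766685))) (BT.node (nat_lit 8463680) (BT.leaf (nat_lit 26197777)) (BT.leaf (nat_lit 23195421)))) (BT.node (nat_lit 8464064) (BT.node (nat_lit 8463872) (BT.leaf (nat_lit 23195921)) (BT.leaf (nat_lit 23196177))) (BT.node (nat_lit 8464128) (BT.leaf (nat_lit 23196945)) (BT.leaf (nat_lit 27818757))))) (BT.node (nat_lit 8464704) (BT.node (nat_lit 8464448) (BT.node (nat_lit 8464320) (BT.leaf (nat_lit 33854237)) (BT.leaf (nat_lit 26289169))) (BT.node (nat_lit 8464576) (BT.leaf (nat_lit 23198737)) (BT.leaf (nat_lit 23199253)))) (BT.node (nat_lit 8464832) (BT.node (nat_lit 8464768) (BT.leaf (nat_lit 23200277)) (BT.leaf (nat_lit 33829137))) (BT.node (nat_lit 8464896) (BT.leaf (nat_lit 35797281)) (BT.leaf (nat_lit 33749273)))))) (BT.node (nat_lit 8465664) (BT.node (nat_lit 8465344) (BT.node (nat_lit 8465216) (BT.node (nat_lit 8465024) (BT.leaf (nat_lit 23201813)) (BT.leaf (nat_lit 50103829))) (BT.node (nat_lit 8465280) (BT.leaf (nat_lit 35418385)) (BT.leaf (nat_lit 25323285)))) (BT.node (nat_lit 8465472) (BT.node (nat_lit 8465408) (BT.leaf (nat_lit 46484757)) (BT.leaf (nat_lit 49000725))) (BT.node (nat_lit 8465600) (BT.leaf (nat_lit 50104853)) (BT.leaf (nat_lit 49069077))))) (BT.node (nat_lit 8465920) (BT.node (nat_lit 8465792) (BT.node (nat_lit 8465728) (BT.leaf (nat_lit 50259989)) (BT.leaf (nat_lit 50259973))) (BT.node (nat_lit 8465856) (BT.leaf (nat_lit 50260501)) (BT.leaf (nat_lit 28260637)))) (BT.node (nat_lit 8466048) (BT.node (nat_lit 8465984) (BT.leaf (nat_lit 33876753)) (BT.leaf (nat_lit 25324305))) (BT.node (nat_lit 8466240) (BT.leaf (nat_lit 23204377)) (BT.leaf (nat_lit 26287377))))))) (BT.node (nat_lit 8467904) (BT.node (nat_lit 8467072) (BT.node (nat_lit 8466752) (BT.node (nat_lit 8466496) (BT.node (nat_lit 8466368) (BT.leaf (nat_lit 33836825)) (BT.leaf (nat_lit 33836829))) (BT.node (nat_lit 8466688) (BT.leaf (nat_lit 35319329)) (BT.leaf (nat_lit 26836489)))) (BT.node (nat_lit 8466880) (BT.node (nat_lit 8466816) (BT.leaf (nat_lit 23756061)) (BT.leaf (nat_lit 34930969))) (BT.node (nat_lit 8466944) (BT.leaf (nat_lit 51155973)) (BT.leaf (nat_lit 50114845))))) (BT.node (nat_lit 8467456) (BT.node (nat_lit 8467264) (BT.node (nat_lit 8467136) (BT.leaf (nat_lit 50643461)) (BT.leaf (nat_lit 26292245))) (BT.node (nat_lit 8467328) (BT.leaf (nat_lit 23208981)) (BT.leaf (nat_lit 47621665)))) (BT.node (nat_lit 8467584) (BT.node (nat_lit 8467520) (BT.leaf (nat_lit 25456661)) (BT.leaf (nat_lit 23210517))) (BT.node (nat_lit 8467648) (BT.leaf (nat_lit 23210521)) (BT.leaf (nat_lit 23210525)))))) (BT.node (nat_lit 8468544) (BT.node (nat_lit 8468224) (BT.node (nat_lit 8468032) (BT.node (nat_lit 8467968) (BT.leaf (nat_lit 33832453)) (BT.leaf (nat_lit 33419805))) (BT.node (nat_lit 8468096) (BT.leaf (nat_lit 23211793)) (BT.leaf (nat_lit 23212057)))) (BT.node (nat_lit 8468416) (BT.node (nat_lit 8468288) (BT.leaf (nat_lit 23213593)) (BT.leaf (nat_lit 48996885))) (BT.node (nat_lit 8468480) (BT.leaf (nat_lit 47633429)) (BT.leaf (nat_lit 23213849))))) (BT.node (nat_lit 8468864) (BT.node (nat_lit 8468672) (BT.node (nat_lit 8468608) (BT.leaf (nat_lit 46427677)) (BT.leaf (nat_lit 49990417))) (BT.node (nat_lit 8468800) (BT.leaf (nat_lit 36736017)) (BT.leaf (nat_lit 36566557)))) (BT.node (nat_lit 8469056) (BT.node (nat_lit 8468992) (BT.leaf (nat_lit 23214865)) (BT.leaf (nat_lit 23215381))) (BT.node (nat_lit 8469120) (BT.leaf (nat_lit 23215389)) (BT.leaf (nat_lit 23849493)))))))) (BT.node (nat_lit 8471552) (BT.node (nat_lit 8470400) (BT.node (nat_lit 8469824) (BT.node (nat_lit 8469440) (BT.node (nat_lit 8469312) (BT.node (nat_lit 8469248) (BT.leaf (nat_lit 50269717)) (BT.leaf (nat_lit 31876121))) (BT.node (nat_lit 8469376) (BT.leaf (nat_lit 26500373)) (BT.leaf (nat_lit 47636245)))) (BT.node (nat_lit 8469696) (BT.node (nat_lit 8469632) (BT.leaf (nat_lit 23217177)) (BT.leaf (nat_lit 50271257))) (BT.node (nat_lit 8469760) (BT.leaf (nat_lit 23217941)) (BT.leaf (nat_lit 33879325))))) (BT.node (nat_lit 8470144) (BT.node (nat_lit 8469952) (BT.node (nat_lit 8469888) (BT.leaf (nat_lit 50272529)) (BT.leaf (nat_lit 33038365))) (BT.node (nat_lit 8470080) (BT.leaf (nat_lit 23218705)) (BT.leaf (nat_lit 35513881)))) (BT.node (nat_lit 8470272) (BT.node (nat_lit 8470208) (BT.leaf (nat_lit 33518617)) (BT.leaf (nat_lit 26941201))) (BT.node (nat_lit 8470336) (BT.leaf (nat_lit 33067289)) (BT.leaf (nat_lit 28582165)))))) (BT.node (nat_lit 8471040) (BT.node (nat_lit 8470720) (BT.node (nat_lit 8470592) (BT.node (nat_lit 8470528) (BT.leaf (nat_lit 23221265)) (BT.leaf (nat_lit 33293841))) (BT.node (nat_lit 8470656) (BT.leaf (nat_lit 33882137)) (BT.leaf (nat_lit 23222037)))) (BT.node (nat_lit 8470912) (BT.node (nat_lit 8470784) (BT.leaf (nat_lit 23222289)) (BT.leaf (nat_lit 36196625))) (BT.node (nat_lit 8470976) (BT.leaf (nat_lit 25667101)) (BT.leaf (nat_lit 35054369))))) (BT.node (nat_lit 8471296) (BT.node (nat_lit 8471168) (BT.node (nat_lit 8471104) (BT.leaf (nat_lit 24492565)) (BT.leaf (nat_lit 23224089))) (BT.node (nat_lit 8471232) (BT.leaf (nat_lit 35342097)) (BT.leaf (nat_lit 23224601)))) (BT.node (nat_lit 8471424) (BT.node (nat_lit 8471360) (BT.leaf (nat_lit 23224605)) (BT.leaf (nat_lit 50275357))) (BT.node (nat_lit 8471488) (BT.leaf (nat_lit 23224853)) (BT.leaf (nat_lit 23225105))))))) (BT.node (nat_lit 8472896) (BT.node (nat_lit 8472384) (BT.node (nat_lit 8472000) (BT.node (nat_lit 8471808) (BT.node (nat_lit 8471744) (BT.leaf (nat_lit 23225109)) (BT.leaf (nat_lit 33967365))) (BT.node (nat_lit 8471872) (BT.leaf (nat_lit 23226897)) (BT.leaf (nat_lit 24840729)))) (BT.node (nat_lit 8472128) (BT.node (nat_lit 8472064) (BT.leaf (nat_lit 47164177)) (BT.leaf (nat_lit 23270917))) (BT.node (nat_lit 8472192) (BT.leaf (nat_lit 35187729)) (BT.leaf (nat_lit 33888537))))) (BT.node (nat_lit 8472640) (BT.node (nat_lit 8472512) (BT.node (nat_lit 8472448) (BT.leaf (nat_lit 32753685)) (BT.leaf (nat_lit 26447637))) (BT.node (nat_lit 8472576) (BT.leaf (nat_lit 25680669)) (BT.leaf (nat_lit 23231249)))) (BT.node (nat_lit 8472768) (BT.node (nat_lit 8472704) (BT.leaf (nat_lit 23231253)) (BT.leaf (nat_lit 33917445))) (BT.node (nat_lit 8472832) (BT.leaf (nat_lit 23232021)) (BT.leaf (nat_lit 32878097)))))) (BT.node (nat_lit 8473536) (BT.node (nat_lit 8473152) (BT.node (nat_lit 8473024) (BT.node (nat_lit 8472960) (BT.leaf (nat_lit 33891353)) (BT.leaf (nat_lit 50282525))) (BT.node (nat_lit 8473088) (BT.leaf (nat_lit 33888005)) (BT.leaf (nat_lit 35032581)))) (BT.node (nat_lit 8473280) (BT.node (nat_lit 8473216) (BT.leaf (nat_lit 47708437)) (BT.leaf (nat_lit 23232785))) (BT.node (nat_lit 8473472) (BT.leaf (nat_lit 23233041)) (BT.leaf (nat_lit 50554377))))) (BT.node (nat_lit 8473856) (BT.node (nat_lit 8473664) (BT.node (nat_lit 8473600) (BT.leaf (nat_lit 35298577)) (BT.leaf (nat_lit 33383197))) (BT.node (nat_lit 8473792) (BT.leaf (nat_lit 23234577)) (BT.leaf (nat_lit 26697501)))) (BT.node (nat_lit 8474112) (BT.node (nat_lit 8473984) (BT.leaf (nat_lit 25755157)) (BT.leaf (nat_lit 33959433))) (BT.node (nat_lit 8474240) (BT.leaf (nat_lit 24795673)) (BT.leaf (nat_lit 30929181))))))))))) (BT.node (nat_lit 8496640) (BT.node (nat_lit 8484736) (BT.node (nat_lit 8479616) (BT.node (nat_lit 8476800) (BT.node (nat_lit 8475456) (BT.node (nat_lit 8474880) (BT.node (nat_lit 8474560) (BT.node (nat_lit 8474432) (BT.node (nat_lit 8474368) (BT.leaf (nat_lit 23237141)) (BT.leaf (nat_lit 35601177))) (BT.node (nat_lit 8474496) (BT.leaf (nat_lit 49409809)) (BT.leaf (nat_lit 51007001)))) (BT.node (nat_lit 8474752) (BT.node (nat_lit 8474624) (BT.leaf (nat_lit 23238417)) (BT.leaf (nat_lit 47663377))) (BT.node (nat_lit 8474816) (BT.leaf (nat_lit 50011425)) (BT.leaf (nat_lit 36558609))))) (BT.node (nat_lit 8475136) (BT.node (nat_lit 8475008) (BT.node (nat_lit 8474944) (BT.leaf (nat_lit 49917973)) (BT.leaf (nat_lit 26001177))) (BT.node (nat_lit 8475072) (BT.leaf (nat_lit 23240477)) (BT.leaf (nat_lit 23239957)))) (BT.node (nat_lit 8475264) (BT.node (nat_lit 8475200) (BT.leaf (nat_lit 25135385)) (BT.leaf (nat_lit 25338117))) (BT.node (nat_lit 8475392) (BT.leaf (nat_lit 23240469)) (BT.leaf (nat_lit 25377565)))))) (BT.node (nat_lit 8476224) (BT.node (nat_lit 8475776) (BT.node (nat_lit 8475584) (BT.node (nat_lit 8475520) (BT.leaf (nat_lit 23240981)) (BT.leaf (nat_lit 33400349))) (BT.node (nat_lit 8475712) (BT.leaf (nat_lit 23241489)) (BT.leaf (nat_lit 50288145)))) (BT.node (nat_lit 8476096) (BT.node (nat_lit 8475840) (BT.leaf (nat_lit 23923737)) (BT.leaf (nat_lit 37403397))) (BT.node (nat_lit 8476160) (BT.leaf (nat_lit 25343765)) (BT.leaf (nat_lit 25123353))))) (BT.node (nat_lit 8476480) (BT.node (nat_lit 8476352) (BT.node (nat_lit 8476288) (BT.leaf (nat_lit 35812869)) (BT.leaf (nat_lit 28799513))) (BT.node (nat_lit 8476416) (BT.leaf (nat_lit 50911253)) (BT.leaf (nat_lit 33351173)))) (BT.node (nat_lit 8476672) (BT.node (nat_lit 8476608) (BT.leaf (nat_lit 23245585)) (BT.leaf (nat_lit 23245841))) (BT.node (nat_lit 8476736) (BT.leaf (nat_lit 23245845)) (BT.leaf (nat_lit 33905689))))))) (BT.node (nat_lit 8478272) (BT.node (nat_lit 8477568) (BT.node (nat_lit 8477120) (BT.node (nat_lit 8476928) (BT.node (nat_lit 8476864) (BT.leaf (nat_lit 23246101)) (BT.leaf (nat_lit 23246353))) (BT.node (nat_lit 8477056) (BT.leaf (nat_lit 23246357)) (BT.leaf (nat_lit 24136221)))) (BT.node (nat_lit 8477312) (BT.node (nat_lit 8477184) (BT.leaf (nat_lit 49841681)) (BT.leaf (nat_lit 36949009))) (BT.node (nat_lit 8477504) (BT.leaf (nat_lit 48536353)) (BT.leaf (nat_lit 23248917))))) (BT.node (nat_lit 8478016) (BT.node (nat_lit 8477888) (BT.node (nat_lit 8477824) (BT.leaf (nat_lit 49482273)) (BT.leaf (nat_lit 50292257))) (BT.node (nat_lit 8477952) (BT.leaf (nat_lit 24946713)) (BT.leaf (nat_lit 23252753)))) (BT.node (nat_lit 8478144) (BT.node (nat_lit 8478080) (BT.leaf (nat_lit 24946717)) (BT.leaf (nat_lit 23253521))) (BT.node (nat_lit 8478208) (BT.leaf (nat_lit 23254805)) (BT.leaf (nat_lit 45043477)))))) (BT.node (nat_lit 8478848) (BT.node (nat_lit 8478528) (BT.node (nat_lit 8478400) (BT.node (nat_lit 8478336) (BT.leaf (nat_lit 50293269)) (BT.leaf (nat_lit 25350165))) (BT.node (nat_lit 8478464) (BT.leaf (nat_lit 45042965)) (BT.leaf (nat_lit 47684885)))) (BT.node (nat_lit 8478720) (BT.node (nat_lit 8478592) (BT.leaf (nat_lit 23255073)) (BT.leaf (nat_lit 37082913))) (BT.node (nat_lit 8478784) (BT.leaf (nat_lit 23256849)) (BT.leaf (nat_lit 33127197))))) (BT.node (nat_lit 8479360) (BT.node (nat_lit 8478976) (BT.node (nat_lit 8478912) (BT.leaf (nat_lit 25568029)) (BT.leaf (nat_lit 35312925))) (BT.node (nat_lit 8479296) (BT.leaf (nat_lit 23258889)) (BT.leaf (nat_lit 34459929)))) (BT.node (nat_lit 8479488) (BT.node (nat_lit 8479424) (BT.leaf (nat_lit 49986845)) (BT.leaf (nat_lit 23260433))) (BT.node (nat_lit 8479552) (BT.leaf (nat_lit 23260689)) (BT.leaf (nat_lit 23260693)))))))) (BT.node (nat_lit 8482112) (BT.node (nat_lit 8480768) (BT.node (nat_lit 8480192) (BT.node (nat_lit 8479872) (BT.node (nat_lit 8479744) (BT.node (nat_lit 8479680) (BT.leaf (nat_lit 25201669)) (BT.leaf (nat_lit 23260949))) (BT.node (nat_lit 8479808) (BT.leaf (nat_lit 35465757)) (BT.leaf (nat_lit 33324305)))) (BT.node (nat_lit 8480000) (BT.node (nat_lit 8479936) (BT.leaf (nat_lit 23261717)) (BT.leaf (nat_lit 35959065))) (BT.node (nat_lit 8480128) (BT.leaf (nat_lit 46544149)) (BT.leaf (nat_lit 26404129))))) (BT.node (nat_lit 8480448) (BT.node (nat_lit 8480320) (BT.node (nat_lit 8480256) (BT.leaf (nat_lit 50019089)) (BT.leaf (nat_lit 36977949))) (BT.node (nat_lit 8480384) (BT.leaf (nat_lit 23262997)) (BT.leaf (nat_lit 50300177)))) (BT.node (nat_lit 8480640) (BT.node (nat_lit 8480576) (BT.leaf (nat_lit 23263253)) (BT.leaf (nat_lit 23265049))) (BT.node (nat_lit 8480704) (BT.leaf (nat_lit 23265053)) (BT.leaf (nat_lit 33065753)))))) (BT.node (nat_lit 8481408) (BT.node (nat_lit 8481152) (BT.node (nat_lit 8480960) (BT.node (nat_lit 8480896) (BT.leaf (nat_lit 23694609)) (BT.leaf (nat_lit 23266073))) (BT.node (nat_lit 8481088) (BT.leaf (nat_lit 23266333)) (BT.leaf (nat_lit 24624917)))) (BT.node (nat_lit 8481280) (BT.node (nat_lit 8481216) (BT.leaf (nat_lit 23268373)) (BT.leaf (nat_lit 24482565))) (BT.node (nat_lit 8481344) (BT.leaf (nat_lit 33924889)) (BT.leaf (nat_lit 33549061))))) (BT.node (nat_lit 8481728) (BT.node (nat_lit 8481536) (BT.node (nat_lit 8481472) (BT.leaf (nat_lit 50085905)) (BT.leaf (nat_lit 29017361))) (BT.node (nat_lit 8481664) (BT.leaf (nat_lit 33089561)) (BT.leaf (nat_lit 24644637)))) (BT.node (nat_lit 8481856) (BT.node (nat_lit 8481792) (BT.leaf (nat_lit 23269653)) (BT.leaf (nat_lit 46332697))) (BT.node (nat_lit 8482048) (BT.leaf (nat_lit 50302745)) (BT.leaf (nat_lit 35032605))))))) (BT.node (nat_lit 8483200) (BT.node (nat_lit 8482688) (BT.node (nat_lit 8482432) (BT.node (nat_lit 8482304) (BT.node (nat_lit 8482176) (BT.leaf (nat_lit 47117601)) (BT.leaf (nat_lit 23270933))) (BT.node (nat_lit 8482368) (BT.leaf (nat_lit 41956113)) (BT.leaf (nat_lit 23271953)))) (BT.node (nat_lit 8482560) (BT.node (nat_lit 8482496) (BT.leaf (nat_lit 23272465)) (BT.leaf (nat_lit 23273233))) (BT.node (nat_lit 8482624) (BT.leaf (nat_lit 23273489)) (BT.leaf (nat_lit 23273745))))) (BT.node (nat_lit 8482944) (BT.node (nat_lit 8482816) (BT.node (nat_lit 8482752) (BT.leaf (nat_lit 25045529)) (BT.leaf (nat_lit 50877981))) (BT.node (nat_lit 8482880) (BT.leaf (nat_lit 24943129)) (BT.leaf (nat_lit 23274261)))) (BT.node (nat_lit 8483072) (BT.node (nat_lit 8483008) (BT.leaf (nat_lit 28438289)) (BT.leaf (nat_lit 23274517))) (BT.node (nat_lit 8483136) (BT.leaf (nat_lit 25358097)) (BT.leaf (nat_lit 23274777)))))) (BT.node (nat_lit 8483968) (BT.node (nat_lit 8483520) (BT.node (nat_lit 8483392) (BT.node (nat_lit 8483264) (BT.leaf (nat_lit 23274781)) (BT.leaf (nat_lit 30558989))) (BT.node (nat_lit 8483456) (BT.leaf (nat_lit 47711749)) (BT.leaf (nat_lit 46484509)))) (BT.node (nat_lit 8483648) (BT.node (nat_lit 8483584) (BT.leaf (nat_lit 46443789)) (BT.leaf (nat_lit 36004885))) (BT.node (nat_lit 8483840) (BT.leaf (nat_lit 47896353)) (BT.leaf (nat_lit 23277073))))) (BT.node (nat_lit 8484352) (BT.node (nat_lit 8484096) (BT.node (nat_lit 8484032) (BT.leaf (nat_lit 46471969)) (BT.leaf (nat_lit 27447581))) (BT.node (nat_lit 8484160) (BT.leaf (nat_lit 23278353)) (BT.leaf (nat_lit 23279121)))) (BT.node (nat_lit 8484480) (BT.node (nat_lit 8484416) (BT.leaf (nat_lit 29053973)) (BT.leaf (nat_lit 23280657))) (BT.node (nat_lit 8484608) (BT.leaf (nat_lit 47117061)) (BT.leaf (nat_lit 35321869))))))))) (BT.node (nat_lit 8490816) (BT.node (nat_lit 8487616) (BT.node (nat_lit 8486208) (BT.node (nat_lit 8485632) (BT.node (nat_lit 8485184) (BT.node (nat_lit 8485056) (BT.node (nat_lit 8484800) (BT.leaf (nat_lit 48519201)) (BT.leaf (nat_lit 50309137))) (BT.node (nat_lit 8485120) (BT.leaf (nat_lit 34758661)) (BT.leaf (nat_lit 23281949)))) (BT.node (nat_lit 8485312) (BT.node (nat_lit 8485248) (BT.leaf (nat_lit 50309129)) (BT.leaf (nat_lit 23282961))) (BT.node (nat_lit 8485440) (BT.leaf (nat_lit 23282709)) (BT.leaf (nat_lit 23283229))))) (BT.node (nat_lit 8485888) (BT.node (nat_lit 8485760) (BT.node (nat_lit 8485696) (BT.leaf (nat_lit 23286289)) (BT.leaf (nat_lit 23286037))) (BT.node (nat_lit 8485824) (BT.leaf (nat_lit 50310681)) (BT.leaf (nat_lit 25663769)))) (BT.node (nat_lit 8486080) (BT.node (nat_lit 8485952) (BT.leaf (nat_lit 33041693)) (BT.leaf (nat_lit 23286805))) (BT.node (nat_lit 8486144) (BT.leaf (nat_lit 23287061)) (BT.leaf (nat_lit 36948241)))))) (BT.node (nat_lit 8486912) (BT.node (nat_lit 8486592) (BT.node (nat_lit 8486464) (BT.node (nat_lit 8486400) (BT.leaf (nat_lit 29226757)) (BT.leaf (nat_lit 46394657))) (BT.node (nat_lit 8486528) (BT.leaf (nat_lit 34879749)) (BT.leaf (nat_lit 23288345)))) (BT.node (nat_lit 8486784) (BT.node (nat_lit 8486656) (BT.leaf (nat_lit 23288349)) (BT.leaf (nat_lit 37027861))) (BT.node (nat_lit 8486848) (BT.leaf (nat_lit 23289113)) (BT.leaf (nat_lit 23289117))))) (BT.node (nat_lit 8487232) (BT.node (nat_lit 8487040) (BT.node (nat_lit 8486976) (BT.leaf (nat_lit 23289361)) (BT.leaf (nat_lit 23289621))) (BT.node (nat_lit 8487104) (BT.leaf (nat_lit 33948445)) (BT.leaf (nat_lit 27367441)))) (BT.node (nat_lit 8487360) (BT.node (nat_lit 8487296) (BT.leaf (nat_lit 23289885)) (BT.leaf (nat_lit 23290141))) (BT.node (nat_lit 8487424) (BT.leaf (nat_lit 34561825)) (BT.leaf (nat_lit 46595101))))))) (BT.node (nat_lit 8489152) (BT.node (nat_lit 8488384) (BT.node (nat_lit 8488000) (BT.node (nat_lit 8487872) (BT.node (nat_lit 8487680) (BT.leaf (nat_lit 23291937)) (BT.leaf (nat_lit 31007753))) (BT.node (nat_lit 8487936) (BT.leaf (nat_lit 35799061)) (BT.leaf (nat_lit 33189405)))) (BT.node (nat_lit 8488192) (BT.node (nat_lit 8488128) (BT.leaf (nat_lit 50313233)) (BT.leaf (nat_lit 25099029))) (BT.node (nat_lit 8488256) (BT.leaf (nat_lit 35778065)) (BT.leaf (nat_lit 50313225))))) (BT.node (nat_lit 8488832) (BT.node (nat_lit 8488640) (BT.node (nat_lit 8488448) (BT.leaf (nat_lit 33270557)) (BT.leaf (nat_lit 33059869))) (BT.node (nat_lit 8488704) (BT.leaf (nat_lit 26628633)) (BT.leaf (nat_lit 33720329)))) (BT.node (nat_lit 8489024) (BT.node (nat_lit 8488896) (BT.leaf (nat_lit 36257033)) (BT.leaf (nat_lit 23959585))) (BT.node (nat_lit 8489088) (BT.leaf (nat_lit 23959565)) (BT.leaf (nat_lit 23297041)))))) (BT.node (nat_lit 8490112) (BT.node (nat_lit 8489408) (BT.node (nat_lit 8489280) (BT.node (nat_lit 8489216) (BT.leaf (nat_lit 28452377)) (BT.leaf (nat_lit 49904157))) (BT.node (nat_lit 8489344) (BT.leaf (nat_lit 35085829)) (BT.leaf (nat_lit 23297557)))) (BT.node (nat_lit 8489792) (BT.node (nat_lit 8489472) (BT.leaf (nat_lit 24538629)) (BT.leaf (nat_lit 50125845))) (BT.node (nat_lit 8489856) (BT.leaf (nat_lit 47269901)) (BT.leaf (nat_lit 35203349))))) (BT.node (nat_lit 8490560) (BT.node (nat_lit 8490432) (BT.node (nat_lit 8490240) (BT.leaf (nat_lit 28228125)) (BT.leaf (nat_lit 27951901))) (BT.node (nat_lit 8490496) (BT.leaf (nat_lit 30699797)) (BT.leaf (nat_lit 36222737)))) (BT.node (nat_lit 8490688) (BT.node (nat_lit 8490624) (BT.leaf (nat_lit 46581009)) (BT.leaf (nat_lit 23302425))) (BT.node (nat_lit 8490752) (BT.leaf (nat_lit 29930501)) (BT.leaf (nat_lit 23302677)))))))) (BT.node (nat_lit 8493696) (BT.node (nat_lit 8492160) (BT.node (nat_lit 8491392) (BT.node (nat_lit 8491136) (BT.node (nat_lit 8490944) (BT.node (nat_lit 8490880) (BT.leaf (nat_lit 24577045)) (BT.leaf (nat_lit 24577049))) (BT.node (nat_lit 8491072) (BT.leaf (nat_lit 24577053)) (BT.leaf (nat_lit 23306001)))) (BT.node (nat_lit 8491264) (BT.node (nat_lit 8491200) (BT.leaf (nat_lit 33216021)) (BT.leaf (nat_lit 50316305))) (BT.node (nat_lit 8491328) (BT.leaf (nat_lit 50316569)) (BT.leaf (nat_lit 33215773))))) (BT.node (nat_lit 8491904) (BT.node (nat_lit 8491776) (BT.node (nat_lit 8491648) (BT.leaf (nat_lit 36170001)) (BT.leaf (nat_lit 23307297))) (BT.node (nat_lit 8491840) (BT.leaf (nat_lit 23308053)) (BT.leaf (nat_lit 23308061)))) (BT.node (nat_lit 8492032) (BT.node (nat_lit 8491968) (BT.leaf (nat_lit 23308297)) (BT.leaf (nat_lit 23308301))) (BT.node (nat_lit 8492096) (BT.leaf (nat_lit 23308313)) (BT.leaf (nat_lit 23308321)))))) (BT.node (nat_lit 8492672) (BT.node (nat_lit 8492416) (BT.node (nat_lit 8492288) (BT.node (nat_lit 8492224) (BT.leaf (nat_lit 46624525)) (BT.leaf (nat_lit 50318369))) (BT.node (nat_lit 8492352) (BT.leaf (nat_lit 50318625)) (BT.leaf (nat_lit 31787541)))) (BT.node (nat_lit 8492544) (BT.node (nat_lit 8492480) (BT.leaf (nat_lit 23310609)) (BT.leaf (nat_lit 23313433))) (BT.node (nat_lit 8492608) (BT.leaf (nat_lit 35131681)) (BT.leaf (nat_lit 50319637))))) (BT.node (nat_lit 8492928) (BT.node (nat_lit 8492800) (BT.node (nat_lit 8492736) (BT.leaf (nat_lit 30082581)) (BT.leaf (nat_lit 23314449))) (BT.node (nat_lit 8492864) (BT.leaf (nat_lit 35127557)) (BT.leaf (nat_lit 23315481)))) (BT.node (nat_lit 8493376) (BT.node (nat_lit 8492992) (BT.leaf (nat_lit 23315485)) (BT.leaf (nat_lit 50321437))) (BT.node (nat_lit 8493568) (BT.leaf (nat_lit 50322205)) (BT.leaf (nat_lit 34991365))))))) (BT.node (nat_lit 8495232) (BT.node (nat_lit 8494528) (BT.node (nat_lit 8493952) (BT.node (nat_lit 8493824) (BT.node (nat_lit 8493760) (BT.leaf (nat_lit 35491353)) (BT.leaf (nat_lit 46420485))) (BT.node (nat_lit 8493888) (BT.leaf (nat_lit 26903045)) (BT.leaf (nat_lit 25366045)))) (BT.node (nat_lit 8494080) (BT.node (nat_lit 8494016) (BT.leaf (nat_lit 50324245)) (BT.leaf (nat_lit 23318801))) (BT.node (nat_lit 8494400) (BT.leaf (nat_lit 27196165)) (BT.leaf (nat_lit 29964037))))) (BT.node (nat_lit 8494976) (BT.node (nat_lit 8494656) (BT.node (nat_lit 8494592) (BT.leaf (nat_lit 33053725)) (BT.leaf (nat_lit 23321361))) (BT.node (nat_lit 8494912) (BT.leaf (nat_lit 33504545)) (BT.leaf (nat_lit 30494481)))) (BT.node (nat_lit 8495104) (BT.node (nat_lit 8495040) (BT.leaf (nat_lit 33912837)) (BT.leaf (nat_lit 37809429))) (BT.node (nat_lit 8495168) (BT.leaf (nat_lit 50451717)) (BT.leaf (nat_lit 37708821)))))) (BT.node (nat_lit 8496000) (BT.node (nat_lit 8495616) (BT.node (nat_lit 8495424) (BT.node (nat_lit 8495296) (BT.leaf (nat_lit 23322401)) (BT.leaf (nat_lit 27657989))) (BT.node (nat_lit 8495488) (BT.leaf (nat_lit 23323409)) (BT.leaf (nat_lit 50329361)))) (BT.node (nat_lit 8495872) (BT.node (nat_lit 8495808) (BT.leaf (nat_lit 25371157)) (BT.leaf (nat_lit 23324945))) (BT.node (nat_lit 8495936) (BT.leaf (nat_lit 33726993)) (BT.leaf (nat_lit 36770833))))) (BT.node (nat_lit 8496320) (BT.node (nat_lit 8496128) (BT.node (nat_lit 8496064) (BT.leaf (nat_lit 23522073)) (BT.leaf (nat_lit 23325717))) (BT.node (nat_lit 8496192) (BT.leaf (nat_lit 35490845)) (BT.leaf (nat_lit 50330381)))) (BT.node (nat_lit 8496448) (BT.node (nat_lit 8496384) (BT.leaf (nat_lit 50330645)) (BT.leaf (nat_lit 23326993))) (BT.node (nat_lit 8496576) (BT.leaf (nat_lit 25109257)) (BT.leaf (nat_lit 47791649)))))))))) (BT.node (nat_lit 8506304) (BT.node (nat_lit 8501184) (BT.node (nat_lit 8498880) (BT.node (nat_lit 8497792) (BT.node (nat_lit 8497280) (BT.node (nat_lit 8496896) (BT.node (nat_lit 8496768) (BT.node (nat_lit 8496704) (BT.leaf (nat_lit 23328017)) (BT.leaf (nat_lit 34516769))) (BT.node (nat_lit 8496832) (BT.leaf (nat_lit 34516997)) (BT.leaf (nat_lit 23328529)))) (BT.node (nat_lit 8497088) (BT.node (nat_lit 8497024) (BT.leaf (nat_lit 33130001)) (BT.leaf (nat_lit 50073349))) (BT.node (nat_lit 8497216) (BT.leaf (nat_lit 34713349)) (BT.leaf (nat_lit 36096537))))) (BT.node (nat_lit 8497536) (BT.node (nat_lit 8497408) (BT.node (nat_lit 8497344) (BT.leaf (nat_lit 23332101)) (BT.leaf (nat_lit 23331869))) (BT.node (nat_lit 8497472) (BT.leaf (nat_lit 34852885)) (BT.leaf (nat_lit 34664993)))) (BT.node (nat_lit 8497664) (BT.node (nat_lit 8497600) (BT.leaf (nat_lit 49286929)) (BT.leaf (nat_lit 24727557))) (BT.node (nat_lit 8497728) (BT.leaf (nat_lit 48853017)) (BT.leaf (nat_lit 34862873)))))) (BT.node (nat_lit 8498304) (BT.node (nat_lit 8498048) (BT.node (nat_lit 8497920) (BT.node (nat_lit 8497856) (BT.leaf (nat_lit 34722065)) (BT.leaf (nat_lit 33991709))) (BT.node (nat_lit 8497984) (BT.leaf (nat_lit 35141393)) (BT.leaf (nat_lit 50334997)))) (BT.node (nat_lit 8498176) (BT.node (nat_lit 8498112) (BT.leaf (nat_lit 23334425)) (BT.leaf (nat_lit 23334929))) (BT.node (nat_lit 8498240) (BT.leaf (nat_lit 33064461)) (BT.leaf (nat_lit 26365973))))) (BT.node (nat_lit 8498560) (BT.node (nat_lit 8498432) (BT.node (nat_lit 8498368) (BT.leaf (nat_lit 25374481)) (BT.leaf (nat_lit 23335449))) (BT.node (nat_lit 8498496) (BT.leaf (nat_lit 23335453)) (BT.leaf (nat_lit 27229205)))) (BT.node (nat_lit 8498752) (BT.node (nat_lit 8498688) (BT.leaf (nat_lit 27229189)) (BT.leaf (nat_lit 49315845))) (BT.node (nat_lit 8498816) (BT.leaf (nat_lit 26252061)) (BT.leaf (nat_lit 23336989))))))) (BT.node (nat_lit 8500032) (BT.node (nat_lit 8499520) (BT.node (nat_lit 8499200) (BT.node (nat_lit 8499008) (BT.node (nat_lit 8498944) (BT.leaf (nat_lit 23337745)) (BT.leaf (nat_lit 23338265))) (BT.node (nat_lit 8499072) (BT.leaf (nat_lit 33486621)) (BT.leaf (nat_lit 23339025)))) (BT.node (nat_lit 8499328) (BT.node (nat_lit 8499264) (BT.leaf (nat_lit 23339289)) (BT.leaf (nat_lit 23339293))) (BT.node (nat_lit 8499392) (BT.leaf (nat_lit 47585809)) (BT.leaf (nat_lit 51972361))))) (BT.node (nat_lit 8499776) (BT.node (nat_lit 8499648) (BT.node (nat_lit 8499584) (BT.leaf (nat_lit 34069533)) (BT.leaf (nat_lit 50337809))) (BT.node (nat_lit 8499712) (BT.leaf (nat_lit 50338329)) (BT.leaf (nat_lit 25404169)))) (BT.node (nat_lit 8499904) (BT.node (nat_lit 8499840) (BT.leaf (nat_lit 35807005)) (BT.leaf (nat_lit 23342609))) (BT.node (nat_lit 8499968) (BT.leaf (nat_lit 50338837)) (BT.leaf (nat_lit 26694433)))))) (BT.node (nat_lit 8500608) (BT.node (nat_lit 8500352) (BT.node (nat_lit 8500224) (BT.node (nat_lit 8500096) (BT.leaf (nat_lit 28897825)) (BT.leaf (nat_lit 23343641))) (BT.node (nat_lit 8500288) (BT.leaf (nat_lit 50339345)) (BT.leaf (nat_lit 50339601)))) (BT.node (nat_lit 8500480) (BT.node (nat_lit 8500416) (BT.leaf (nat_lit 34001177)) (BT.leaf (nat_lit 23344405))) (BT.node (nat_lit 8500544) (BT.leaf (nat_lit 34002205)) (BT.leaf (nat_lit 28593937))))) (BT.node (nat_lit 8500864) (BT.node (nat_lit 8500736) (BT.node (nat_lit 8500672) (BT.leaf (nat_lit 26318609)) (BT.leaf (nat_lit 23345437))) (BT.node (nat_lit 8500800) (BT.leaf (nat_lit 23346197)) (BT.leaf (nat_lit 27675161)))) (BT.node (nat_lit 8501056) (BT.node (nat_lit 8500992) (BT.leaf (nat_lit 28438277)) (BT.leaf (nat_lit 23346713))) (BT.node (nat_lit 8501120) (BT.leaf (nat_lit 23346717)) (BT.leaf (nat_lit 47826181)))))))) (BT.node (nat_lit 8503680) (BT.node (nat_lit 8502528) (BT.node (nat_lit 8501888) (BT.node (nat_lit 8501504) (BT.node (nat_lit 8501312) (BT.node (nat_lit 8501248) (BT.leaf (nat_lit 30668057)) (BT.leaf (nat_lit 33878533))) (BT.node (nat_lit 8501440) (BT.leaf (nat_lit 34120737)) (BT.leaf (nat_lit 34086157)))) (BT.node (nat_lit 8501760) (BT.node (nat_lit 8501632) (BT.leaf (nat_lit 28519185)) (BT.leaf (nat_lit 34193689))) (BT.node (nat_lit 8501824) (BT.leaf (nat_lit 50343953)) (BT.leaf (nat_lit 34511889))))) (BT.node (nat_lit 8502272) (BT.node (nat_lit 8502016) (BT.node (nat_lit 8501952) (BT.leaf (nat_lit 34195225)) (BT.leaf (nat_lit 50344993))) (BT.node (nat_lit 8502144) (BT.leaf (nat_lit 49822225)) (BT.leaf (nat_lit 23565337)))) (BT.node (nat_lit 8502400) (BT.node (nat_lit 8502336) (BT.leaf (nat_lit 25379089)) (BT.leaf (nat_lit 23350033))) (BT.node (nat_lit 8502464) (BT.leaf (nat_lit 37527061)) (BT.leaf (nat_lit 37527313)))))) (BT.node (nat_lit 8503040) (BT.node (nat_lit 8502784) (BT.node (nat_lit 8502656) (BT.node (nat_lit 8502592) (BT.leaf (nat_lit 34373133)) (BT.leaf (nat_lit 33535497))) (BT.node (nat_lit 8502720) (BT.leaf (nat_lit 23751693)) (BT.leaf (nat_lit 27671301)))) (BT.node (nat_lit 8502912) (BT.node (nat_lit 8502848) (BT.leaf (nat_lit 23351313)) (BT.leaf (nat_lit 25564697))) (BT.node (nat_lit 8502976) (BT.leaf (nat_lit 27509793)) (BT.leaf (nat_lit 27345953))))) (BT.node (nat_lit 8503296) (BT.node (nat_lit 8503168) (BT.node (nat_lit 8503104) (BT.leaf (nat_lit 27346465)) (BT.leaf (nat_lit 27346209))) (BT.node (nat_lit 8503232) (BT.leaf (nat_lit 25382161)) (BT.leaf (nat_lit 25381393)))) (BT.node (nat_lit 8503424) (BT.node (nat_lit 8503360) (BT.leaf (nat_lit 26023173)) (BT.leaf (nat_lit 27815693))) (BT.node (nat_lit 8503488) (BT.leaf (nat_lit 49759777)) (BT.leaf (nat_lit 25318685))))))) (BT.node (nat_lit 8505024) (BT.node (nat_lit 8504448) (BT.node (nat_lit 8503936) (BT.node (nat_lit 8503808) (BT.node (nat_lit 8503744) (BT.leaf (nat_lit 23724561)) (BT.leaf (nat_lit 23355409))) (BT.node (nat_lit 8503872) (BT.leaf (nat_lit 37652257)) (BT.leaf (nat_lit 50556441)))) (BT.node (nat_lit 8504192) (BT.node (nat_lit 8504064) (BT.leaf (nat_lit 48064009)) (BT.leaf (nat_lit 36436485))) (BT.node (nat_lit 8504256) (BT.leaf (nat_lit 50348817)) (BT.leaf (nat_lit 31025933))))) (BT.node (nat_lit 8504704) (BT.node (nat_lit 8504576) (BT.node (nat_lit 8504512) (BT.leaf (nat_lit 23931665)) (BT.leaf (nat_lit 23358485))) (BT.node (nat_lit 8504640) (BT.leaf (nat_lit 23358741)) (BT.leaf (nat_lit 23358997)))) (BT.node (nat_lit 8504832) (BT.node (nat_lit 8504768) (BT.leaf (nat_lit 27283977)) (BT.leaf (nat_lit 27283981))) (BT.node (nat_lit 8504960) (BT.leaf (nat_lit 27283997)) (BT.leaf (nat_lit 27283993)))))) (BT.node (nat_lit 8505664) (BT.node (nat_lit 8505280) (BT.node (nat_lit 8505152) (BT.node (nat_lit 8505088) (BT.leaf (nat_lit 23360529)) (BT.leaf (nat_lit 37768197))) (BT.node (nat_lit 8505216) (BT.leaf (nat_lit 48550157)) (BT.leaf (nat_lit 49015573)))) (BT.node (nat_lit 8505536) (BT.node (nat_lit 8505472) (BT.leaf (nat_lit 49015557)) (BT.leaf (nat_lit 49015825))) (BT.node (nat_lit 8505600) (BT.leaf (nat_lit 50037281)) (BT.leaf (nat_lit 34147857))))) (BT.node (nat_lit 8505984) (BT.node (nat_lit 8505856) (BT.node (nat_lit 8505792) (BT.leaf (nat_lit 37692437)) (BT.leaf (nat_lit 50353169))) (BT.node (nat_lit 8505920) (BT.leaf (nat_lit 34058017)) (BT.leaf (nat_lit 50353681)))) (BT.node (nat_lit 8506176) (BT.node (nat_lit 8506048) (BT.leaf (nat_lit 33873937)) (BT.leaf (nat_lit 23364885))) (BT.node (nat_lit 8506240) (BT.leaf (nat_lit 33141521)) (BT.leaf (nat_lit 34124813))))))))) (BT.node (nat_lit 8513024) (BT.node (nat_lit 8510016) (BT.node (nat_lit 8508352) (BT.node (nat_lit 8507136) (BT.node (nat_lit 8506624) (BT.node (nat_lit 8506496) (BT.node (nat_lit 8506368) (BT.leaf (nat_lit 31153925)) (BT.leaf (nat_lit 23366673))) (BT.node (nat_lit 8506560) (BT.leaf (nat_lit 36787737)) (BT.leaf (nat_lit 50356509)))) (BT.node (nat_lit 8506880) (BT.node (nat_lit 8506816) (BT.leaf (nat_lit 23367701)) (BT.leaf (nat_lit 23368217))) (BT.node (nat_lit 8506944) (BT.leaf (nat_lit 23368221)) (BT.leaf (nat_lit 34977825))))) (BT.node (nat_lit 8507712) (BT.node (nat_lit 8507328) (BT.node (nat_lit 8507264) (BT.leaf (nat_lit 46504737)) (BT.leaf (nat_lit 33059849))) (BT.node (nat_lit 8507392) (BT.leaf (nat_lit 48609561)) (BT.leaf (nat_lit 26960161)))) (BT.node (nat_lit 8508160) (BT.node (nat_lit 8508096) (BT.leaf (nat_lit 23374353)) (BT.leaf (nat_lit 33265681))) (BT.node (nat_lit 8508224) (BT.leaf (nat_lit 23375889)) (BT.leaf (nat_lit 23376145)))))) (BT.node (nat_lit 8509312) (BT.node (nat_lit 8508928) (BT.node (nat_lit 8508800) (BT.node (nat_lit 8508736) (BT.leaf (nat_lit 34526993)) (BT.leaf (nat_lit 37200901))) (BT.node (nat_lit 8508864) (BT.leaf (nat_lit 23801873)) (BT.leaf (nat_lit 46701837)))) (BT.node (nat_lit 8509120) (BT.node (nat_lit 8508992) (BT.leaf (nat_lit 29099809)) (BT.leaf (nat_lit 23382289))) (BT.node (nat_lit 8509248) (BT.leaf (nat_lit 50360581)) (BT.leaf (nat_lit 33380381))))) (BT.node (nat_lit 8509696) (BT.node (nat_lit 8509504) (BT.node (nat_lit 8509440) (BT.leaf (nat_lit 34191901)) (BT.leaf (nat_lit 23383317))) (BT.node (nat_lit 8509632) (BT.leaf (nat_lit 35431965)) (BT.leaf (nat_lit 25750045)))) (BT.node (nat_lit 8509824) (BT.node (nat_lit 8509760) (BT.leaf (nat_lit 50361349)) (BT.leaf (nat_lit 51565829))) (BT.node (nat_lit 8509888) (BT.leaf (nat_lit 23387153)) (BT.leaf (nat_lit 27149085))))))) (BT.node (nat_lit 8511104) (BT.node (nat_lit 8510528) (BT.node (nat_lit 8510272) (BT.node (nat_lit 8510144) (BT.node (nat_lit 8510080) (BT.leaf (nat_lit 23387673)) (BT.leaf (nat_lit 23387677))) (BT.node (nat_lit 8510208) (BT.leaf (nat_lit 47981585)) (BT.leaf (nat_lit 23387929)))) (BT.node (nat_lit 8510400) (BT.node (nat_lit 8510336) (BT.leaf (nat_lit 23387933)) (BT.leaf (nat_lit 24923933))) (BT.node (nat_lit 8510464) (BT.leaf (nat_lit 51152921)) (BT.leaf (nat_lit 49989385))))) (BT.node (nat_lit 8510784) (BT.node (nat_lit 8510656) (BT.node (nat_lit 8510592) (BT.leaf (nat_lit 23388689)) (BT.leaf (nat_lit 25086745))) (BT.node (nat_lit 8510720) (BT.leaf (nat_lit 50363397)) (BT.leaf (nat_lit 28629277)))) (BT.node (nat_lit 8510976) (BT.node (nat_lit 8510848) (BT.leaf (nat_lit 23391261)) (BT.leaf (nat_lit 23391505))) (BT.node (nat_lit 8511040) (BT.leaf (nat_lit 27516449)) (BT.leaf (nat_lit 27516961)))))) (BT.node (nat_lit 8512192) (BT.node (nat_lit 8511616) (BT.node (nat_lit 8511360) (BT.node (nat_lit 8511168) (BT.leaf (nat_lit 23392277)) (BT.leaf (nat_lit 23392281))) (BT.node (nat_lit 8511424) (BT.leaf (nat_lit 23393553)) (BT.leaf (nat_lit 35143197)))) (BT.node (nat_lit 8511936) (BT.node (nat_lit 8511680) (BT.leaf (nat_lit 50366229)) (BT.leaf (nat_lit 27607301))) (BT.node (nat_lit 8512000) (BT.leaf (nat_lit 23395857)) (BT.leaf (nat_lit 47306513))))) (BT.node (nat_lit 8512512) (BT.node (nat_lit 8512384) (BT.node (nat_lit 8512320) (BT.leaf (nat_lit 46801925)) (BT.leaf (nat_lit 34060049))) (BT.node (nat_lit 8512448) (BT.leaf (nat_lit 25570065)) (BT.leaf (nat_lit 23396889)))) (BT.node (nat_lit 8512896) (BT.node (nat_lit 8512640) (BT.leaf (nat_lit 23397393)) (BT.leaf (nat_lit 35777809))) (BT.node (nat_lit 8512960) (BT.leaf (nat_lit 23399953)) (BT.leaf (nat_lit 33139733)))))))) (BT.node (nat_lit 8515328) (BT.node (nat_lit 8514112) (BT.node (nat_lit 8513600) (BT.node (nat_lit 8513280) (BT.node (nat_lit 8513152) (BT.node (nat_lit 8513088) (BT.leaf (nat_lit 50369545)) (BT.leaf (nat_lit 50370837))) (BT.node (nat_lit 8513216) (BT.leaf (nat_lit 23400477)) (BT.leaf (nat_lit 30166549)))) (BT.node (nat_lit 8513472) (BT.node (nat_lit 8513344) (BT.leaf (nat_lit 50371593)) (BT.leaf (nat_lit 46726417))) (BT.node (nat_lit 8513536) (BT.leaf (nat_lit 23401753)) (BT.leaf (nat_lit 46950177))))) (BT.node (nat_lit 8513856) (BT.node (nat_lit 8513728) (BT.node (nat_lit 8513664) (BT.leaf (nat_lit 34276121)) (BT.leaf (nat_lit 38449425))) (BT.node (nat_lit 8513792) (BT.leaf (nat_lit 34054681)) (BT.leaf (nat_lit 23403797)))) (BT.node (nat_lit 8513984) (BT.node (nat_lit 8513920) (BT.leaf (nat_lit 36594961)) (BT.leaf (nat_lit 36840465))) (BT.node (nat_lit 8514048) (BT.leaf (nat_lit 35800837)) (BT.leaf (nat_lit 23405585)))))) (BT.node (nat_lit 8514752) (BT.node (nat_lit 8514496) (BT.node (nat_lit 8514368) (BT.node (nat_lit 8514176) (BT.leaf (nat_lit 27482393)) (BT.leaf (nat_lit 34204941))) (BT.node (nat_lit 8514432) (BT.leaf (nat_lit 47281953)) (BT.leaf (nat_lit 40546309)))) (BT.node (nat_lit 8514624) (BT.node (nat_lit 8514560) (BT.leaf (nat_lit 50373389)) (BT.leaf (nat_lit 48097057))) (BT.node (nat_lit 8514688) (BT.leaf (nat_lit 27836705)) (BT.leaf (nat_lit 34021153))))) (BT.node (nat_lit 8515072) (BT.node (nat_lit 8514944) (BT.node (nat_lit 8514880) (BT.leaf (nat_lit 46767621)) (BT.leaf (nat_lit 50374677))) (BT.node (nat_lit 8515008) (BT.leaf (nat_lit 35807509)) (BT.leaf (nat_lit 25570585)))) (BT.node (nat_lit 8515200) (BT.node (nat_lit 8515136) (BT.leaf (nat_lit 25135389)) (BT.leaf (nat_lit 33400089))) (BT.node (nat_lit 8515264) (BT.leaf (nat_lit 23410453)) (BT.leaf (nat_lit 23410705))))))) (BT.node (nat_lit 8516608) (BT.node (nat_lit 8516096) (BT.node (nat_lit 8515648) (BT.node (nat_lit 8515456) (BT.node (nat_lit 8515392) (BT.leaf (nat_lit 33902085)) (BT.leaf (nat_lit 25655313))) (BT.node (nat_lit 8515584) (BT.leaf (nat_lit 23413013)) (BT.leaf (nat_lit 30060301)))) (BT.node (nat_lit 8515968) (BT.node (nat_lit 8515776) (BT.leaf (nat_lit 36149269)) (BT.leaf (nat_lit 34678021))) (BT.node (nat_lit 8516032) (BT.leaf (nat_lit 30203917)) (BT.leaf (nat_lit 23414549))))) (BT.node (nat_lit 8516352) (BT.node (nat_lit 8516224) (BT.node (nat_lit 8516160) (BT.leaf (nat_lit 50156305)) (BT.leaf (nat_lit 23414805))) (BT.node (nat_lit 8516288) (BT.leaf (nat_lit 50378513)) (BT.leaf (nat_lit 23415057)))) (BT.node (nat_lit 8516480) (BT.node (nat_lit 8516416) (BT.leaf (nat_lit 32487457)) (BT.leaf (nat_lit 29473057))) (BT.node (nat_lit 8516544) (BT.leaf (nat_lit 36204825)) (BT.leaf (nat_lit 23417621)))))) (BT.node (nat_lit 8517120) (BT.node (nat_lit 8516864) (BT.node (nat_lit 8516736) (BT.node (nat_lit 8516672) (BT.leaf (nat_lit 23417877)) (BT.leaf (nat_lit 47908881))) (BT.node (nat_lit 8516800) (BT.leaf (nat_lit 50379801)) (BT.leaf (nat_lit 50380049)))) (BT.node (nat_lit 8516992) (BT.node (nat_lit 8516928) (BT.leaf (nat_lit 50380305)) (BT.leaf (nat_lit 23419413))) (BT.node (nat_lit 8517056) (BT.leaf (nat_lit 23418905)) (BT.leaf (nat_lit 23418909))))) (BT.node (nat_lit 8517376) (BT.node (nat_lit 8517248) (BT.node (nat_lit 8517184) (BT.leaf (nat_lit 23419153)) (BT.leaf (nat_lit 25404173))) (BT.node (nat_lit 8517312) (BT.leaf (nat_lit 48306701)) (BT.leaf (nat_lit 50381333)))) (BT.node (nat_lit 8517504) (BT.node (nat_lit 8517440) (BT.leaf (nat_lit 50381585)) (BT.leaf (nat_lit 50381845))) (BT.node (nat_lit 8517568) (BT.leaf (nat_lit 50383137)) (BT.leaf (nat_lit 27355929)))))))))))) (BT.node (nat_lit 8560448) (BT.node (nat_lit 8539072) (BT.node (nat_lit 8528128) (BT.node (nat_lit 8522944) (BT.node (nat_lit 8520256) (BT.node (nat_lit 8518912) (BT.node (nat_lit 8518144) (BT.node (nat_lit 8517888) (BT.node (nat_lit 8517760) (BT.node (nat_lit 8517696) (BT.leaf (nat_lit 29589529)) (BT.leaf (nat_lit 33819937))) (BT.node (nat_lit 8517824) (BT.leaf (nat_lit 50237473)) (BT.leaf (nat_lit 33819917)))) (BT.node (nat_lit 8518016) (BT.node (nat_lit 8517952) (BT.leaf (nat_lit 23422737)) (BT.leaf (nat_lit 50383633))) (BT.node (nat_lit 8518080) (BT.leaf (nat_lit 50384401)) (BT.leaf (nat_lit 23423517))))) (BT.node (nat_lit 8518464) (BT.node (nat_lit 8518336) (BT.node (nat_lit 8518272) (BT.leaf (nat_lit 50384405)) (BT.leaf (nat_lit 23424273))) (BT.node (nat_lit 8518400) (BT.leaf (nat_lit 33249565)) (BT.leaf (nat_lit 50384149)))) (BT.node (nat_lit 8518656) (BT.node (nat_lit 8518592) (BT.leaf (nat_lit 50385429)) (BT.leaf (nat_lit 23424785))) (BT.node (nat_lit 8518720) (BT.leaf (nat_lit 50383901)) (BT.leaf (nat_lit 50385685)))))) (BT.node (nat_lit 8519680) (BT.node (nat_lit 8519232) (BT.node (nat_lit 8519104) (BT.node (nat_lit 8518976) (BT.leaf (nat_lit 25404693)) (BT.leaf (nat_lit 28669217))) (BT.node (nat_lit 8519168) (BT.leaf (nat_lit 33291541)) (BT.leaf (nat_lit 35880973)))) (BT.node (nat_lit 8519424) (BT.node (nat_lit 8519360) (BT.leaf (nat_lit 33291797)) (BT.leaf (nat_lit 23427349))) (BT.node (nat_lit 8519552) (BT.leaf (nat_lit 50388997)) (BT.leaf (nat_lit 35880985))))) (BT.node (nat_lit 8520000) (BT.node (nat_lit 8519872) (BT.node (nat_lit 8519744) (BT.leaf (nat_lit 37341445)) (BT.leaf (nat_lit 46984993))) (BT.node (nat_lit 8519936) (BT.leaf (nat_lit 23429397)) (BT.leaf (nat_lit 33552665)))) (BT.node (nat_lit 8520128) (BT.node (nat_lit 8520064) (BT.leaf (nat_lit 25984517)) (BT.leaf (nat_lit 23430673))) (BT.node (nat_lit 8520192) (BT.leaf (nat_lit 23430677)) (BT.leaf (nat_lit 23432721))))))) (BT.node (nat_lit 8521664) (BT.node (nat_lit 8521088) (BT.node (nat_lit 8520576) (BT.node (nat_lit 8520384) (BT.node (nat_lit 8520320) (BT.leaf (nat_lit 23432977)) (BT.leaf (nat_lit 33483013))) (BT.node (nat_lit 8520512) (BT.leaf (nat_lit 23434513)) (BT.leaf (nat_lit 50391581)))) (BT.node (nat_lit 8520832) (BT.node (nat_lit 8520768) (BT.leaf (nat_lit 33613329)) (BT.leaf (nat_lit 34786593))) (BT.node (nat_lit 8520896) (BT.leaf (nat_lit 23439893)) (BT.leaf (nat_lit 50392597))))) (BT.node (nat_lit 8521408) (BT.node (nat_lit 8521280) (BT.node (nat_lit 8521152) (BT.leaf (nat_lit 23440665)) (BT.leaf (nat_lit 23440669))) (BT.node (nat_lit 8521344) (BT.leaf (nat_lit 25568021)) (BT.leaf (nat_lit 23442705)))) (BT.node (nat_lit 8521536) (BT.node (nat_lit 8521472) (BT.leaf (nat_lit 23443221)) (BT.leaf (nat_lit 34086173))) (BT.node (nat_lit 8521600) (BT.leaf (nat_lit 50394385)) (BT.leaf (nat_lit 25519641)))))) (BT.node (nat_lit 8522304) (BT.node (nat_lit 8521984) (BT.node (nat_lit 8521856) (BT.node (nat_lit 8521792) (BT.leaf (nat_lit 34440221)) (BT.leaf (nat_lit 29361697))) (BT.node (nat_lit 8521920) (BT.leaf (nat_lit 29871897)) (BT.leaf (nat_lit 23446801)))) (BT.node (nat_lit 8522176) (BT.node (nat_lit 8522048) (BT.leaf (nat_lit 23447313)) (BT.leaf (nat_lit 25783833))) (BT.node (nat_lit 8522240) (BT.leaf (nat_lit 23447585)) (BT.leaf (nat_lit 50395921))))) (BT.node (nat_lit 8522560) (BT.node (nat_lit 8522432) (BT.node (nat_lit 8522368) (BT.leaf (nat_lit 50396697)) (BT.leaf (nat_lit 23447829))) (BT.node (nat_lit 8522496) (BT.leaf (nat_lit 50397209)) (BT.leaf (nat_lit 30608149)))) (BT.node (nat_lit 8522816) (BT.node (nat_lit 8522752) (BT.leaf (nat_lit 47332117)) (BT.leaf (nat_lit 23449365))) (BT.node (nat_lit 8522880) (BT.leaf (nat_lit 34091549)) (BT.leaf (nat_lit 50398225)))))))) (BT.node (nat_lit 8525376) (BT.node (nat_lit 8524160) (BT.node (nat_lit 8523648) (BT.node (nat_lit 8523200) (BT.node (nat_lit 8523072) (BT.node (nat_lit 8523008) (BT.leaf (nat_lit 28754949)) (BT.leaf (nat_lit 29894177))) (BT.node (nat_lit 8523136) (BT.leaf (nat_lit 25723141)) (BT.leaf (nat_lit 33279749)))) (BT.node (nat_lit 8523328) (BT.node (nat_lit 8523264) (BT.leaf (nat_lit 34093085)) (BT.leaf (nat_lit 24776461))) (BT.node (nat_lit 8523520) (BT.leaf (nat_lit 29587997)) (BT.leaf (nat_lit 23451417))))) (BT.node (nat_lit 8523904) (BT.node (nat_lit 8523776) (BT.node (nat_lit 8523712) (BT.leaf (nat_lit 23451673)) (BT.leaf (nat_lit 23451909))) (BT.node (nat_lit 8523840) (BT.leaf (nat_lit 23451921)) (BT.leaf (nat_lit 25861653)))) (BT.node (nat_lit 8524032) (BT.node (nat_lit 8523968) (BT.leaf (nat_lit 36829961)) (BT.leaf (nat_lit 23452949))) (BT.node (nat_lit 8524096) (BT.leaf (nat_lit 25413657)) (BT.leaf (nat_lit 28063749)))))) (BT.node (nat_lit 8524800) (BT.node (nat_lit 8524416) (BT.node (nat_lit 8524288) (BT.node (nat_lit 8524224) (BT.leaf (nat_lit 35710749)) (BT.leaf (nat_lit 35595281))) (BT.node (nat_lit 8524352) (BT.leaf (nat_lit 35952913)) (BT.leaf (nat_lit 23454489)))) (BT.node (nat_lit 8524608) (BT.node (nat_lit 8524544) (BT.leaf (nat_lit 33280281)) (BT.leaf (nat_lit 37042197))) (BT.node (nat_lit 8524736) (BT.leaf (nat_lit 25898273)) (BT.leaf (nat_lit 23456785))))) (BT.node (nat_lit 8525120) (BT.node (nat_lit 8524992) (BT.node (nat_lit 8524928) (BT.leaf (nat_lit 23457041)) (BT.leaf (nat_lit 23457553))) (BT.node (nat_lit 8525056) (BT.leaf (nat_lit 23457821)) (BT.leaf (nat_lit 23458329)))) (BT.node (nat_lit 8525248) (BT.node (nat_lit 8525184) (BT.leaf (nat_lit 23458577)) (BT.leaf (nat_lit 25418005))) (BT.node (nat_lit 8525312) (BT.leaf (nat_lit 50405637)) (BT.leaf (nat_lit 25574933))))))) (BT.node (nat_lit 8526720) (BT.node (nat_lit 8526016) (BT.node (nat_lit 8525760) (BT.node (nat_lit 8525632) (BT.node (nat_lit 8525504) (BT.leaf (nat_lit 24509977)) (BT.leaf (nat_lit 23462169))) (BT.node (nat_lit 8525696) (BT.leaf (nat_lit 33430289)) (BT.leaf (nat_lit 23463193)))) (BT.node (nat_lit 8525888) (BT.node (nat_lit 8525824) (BT.leaf (nat_lit 51441925)) (BT.leaf (nat_lit 51654421))) (BT.node (nat_lit 8525952) (BT.leaf (nat_lit 34103837)) (BT.leaf (nat_lit 34260241))))) (BT.node (nat_lit 8526336) (BT.node (nat_lit 8526208) (BT.node (nat_lit 8526144) (BT.leaf (nat_lit 35693845)) (BT.leaf (nat_lit 23463961))) (BT.node (nat_lit 8526272) (BT.leaf (nat_lit 23463965)) (BT.leaf (nat_lit 23464213)))) (BT.node (nat_lit 8526528) (BT.node (nat_lit 8526400) (BT.leaf (nat_lit 25161221)) (BT.leaf (nat_lit 23464221))) (BT.node (nat_lit 8526592) (BT.leaf (nat_lit 24776989)) (BT.leaf (nat_lit 24776981)))))) (BT.node (nat_lit 8527488) (BT.node (nat_lit 8527168) (BT.node (nat_lit 8526848) (BT.node (nat_lit 8526784) (BT.leaf (nat_lit 47472913)) (BT.leaf (nat_lit 32766753))) (BT.node (nat_lit 8526912) (BT.leaf (nat_lit 32916241)) (BT.leaf (nat_lit 23468305)))) (BT.node (nat_lit 8527296) (BT.node (nat_lit 8527232) (BT.leaf (nat_lit 49806621)) (BT.leaf (nat_lit 34109213))) (BT.node (nat_lit 8527424) (BT.leaf (nat_lit 36144145)) (BT.leaf (nat_lit 23754261))))) (BT.node (nat_lit 8527744) (BT.node (nat_lit 8527616) (BT.node (nat_lit 8527552) (BT.leaf (nat_lit 34373145)) (BT.leaf (nat_lit 34372629))) (BT.node (nat_lit 8527680) (BT.leaf (nat_lit 34110233)) (BT.leaf (nat_lit 34009609)))) (BT.node (nat_lit 8528000) (BT.node (nat_lit 8527936) (BT.leaf (nat_lit 34372633)) (BT.leaf (nat_lit 51562529))) (BT.node (nat_lit 8528064) (BT.leaf (nat_lit 34076961)) (BT.leaf (nat_lit 25564693))))))))) (BT.node (nat_lit 8533760) (BT.node (nat_lit 8531136) (BT.node (nat_lit 8529664) (BT.node (nat_lit 8529024) (BT.node (nat_lit 8528640) (BT.node (nat_lit 8528512) (BT.node (nat_lit 8528448) (BT.leaf (nat_lit 30149125)) (BT.leaf (nat_lit 34012181))) (BT.node (nat_lit 8528576) (BT.leaf (nat_lit 25928225)) (BT.leaf (nat_lit 34114581)))) (BT.node (nat_lit 8528768) (BT.node (nat_lit 8528704) (BT.leaf (nat_lit 27509537)) (BT.leaf (nat_lit 49507077))) (BT.node (nat_lit 8528896) (BT.leaf (nat_lit 27509513)) (BT.leaf (nat_lit 23475481))))) (BT.node (nat_lit 8529344) (BT.node (nat_lit 8529152) (BT.node (nat_lit 8529088) (BT.leaf (nat_lit 23475997)) (BT.leaf (nat_lit 23476241))) (BT.node (nat_lit 8529280) (BT.leaf (nat_lit 25683205)) (BT.leaf (nat_lit 23478289)))) (BT.node (nat_lit 8529536) (BT.node (nat_lit 8529408) (BT.leaf (nat_lit 23479057)) (BT.leaf (nat_lit 26349849))) (BT.node (nat_lit 8529600) (BT.leaf (nat_lit 50413341)) (BT.leaf (nat_lit 23480085)))))) (BT.node (nat_lit 8530432) (BT.node (nat_lit 8530112) (BT.node (nat_lit 8529920) (BT.node (nat_lit 8529856) (BT.leaf (nat_lit 23480849)) (BT.leaf (nat_lit 23481365))) (BT.node (nat_lit 8529984) (BT.leaf (nat_lit 23627269)) (BT.leaf (nat_lit 24684065)))) (BT.node (nat_lit 8530240) (BT.node (nat_lit 8530176) (BT.leaf (nat_lit 23482897)) (BT.leaf (nat_lit 34904345))) (BT.node (nat_lit 8530368) (BT.leaf (nat_lit 24330261)) (BT.leaf (nat_lit 28449553))))) (BT.node (nat_lit 8530880) (BT.node (nat_lit 8530624) (BT.node (nat_lit 8530560) (BT.leaf (nat_lit 23483921)) (BT.leaf (nat_lit 28489749))) (BT.node (nat_lit 8530752) (BT.leaf (nat_lit 23484433)) (BT.leaf (nat_lit 23484697)))) (BT.node (nat_lit 8531008) (BT.node (nat_lit 8530944) (BT.leaf (nat_lit 25876253)) (BT.leaf (nat_lit 34488581))) (BT.node (nat_lit 8531072) (BT.leaf (nat_lit 23486229)) (BT.leaf (nat_lit 23486481))))))) (BT.node (nat_lit 8532352) (BT.node (nat_lit 8531648) (BT.node (nat_lit 8531392) (BT.node (nat_lit 8531264) (BT.node (nat_lit 8531200) (BT.leaf (nat_lit 25710613)) (BT.leaf (nat_lit 50416917))) (BT.node (nat_lit 8531328) (BT.leaf (nat_lit 30801945)) (BT.leaf (nat_lit 23488021)))) (BT.node (nat_lit 8531520) (BT.node (nat_lit 8531456) (BT.leaf (nat_lit 33917201)) (BT.leaf (nat_lit 47145233))) (BT.node (nat_lit 8531584) (BT.leaf (nat_lit 23689241)) (BT.leaf (nat_lit 35153925))))) (BT.node (nat_lit 8531904) (BT.node (nat_lit 8531776) (BT.node (nat_lit 8531712) (BT.leaf (nat_lit 23489557)) (BT.leaf (nat_lit 34127133))) (BT.node (nat_lit 8531840) (BT.leaf (nat_lit 35532305)) (BT.leaf (nat_lit 23489301)))) (BT.node (nat_lit 8532032) (BT.node (nat_lit 8531968) (BT.leaf (nat_lit 34473489)) (BT.leaf (nat_lit 35213073))) (BT.node (nat_lit 8532288) (BT.leaf (nat_lit 33029641)) (BT.leaf (nat_lit 36102173)))))) (BT.node (nat_lit 8532992) (BT.node (nat_lit 8532672) (BT.node (nat_lit 8532544) (BT.node (nat_lit 8532416) (BT.leaf (nat_lit 50419985)) (BT.leaf (nat_lit 34129433))) (BT.node (nat_lit 8532608) (BT.leaf (nat_lit 30099981)) (BT.leaf (nat_lit 35517957)))) (BT.node (nat_lit 8532864) (BT.node (nat_lit 8532736) (BT.leaf (nat_lit 26778129)) (BT.leaf (nat_lit 36125969))) (BT.node (nat_lit 8532928) (BT.leaf (nat_lit 50420769)) (BT.leaf (nat_lit 23495441))))) (BT.node (nat_lit 8533312) (BT.node (nat_lit 8533184) (BT.node (nat_lit 8533120) (BT.leaf (nat_lit 23495445)) (BT.leaf (nat_lit 34478625))) (BT.node (nat_lit 8533248) (BT.leaf (nat_lit 34009629)) (BT.leaf (nat_lit 23496469)))) (BT.node (nat_lit 8533504) (BT.node (nat_lit 8533440) (BT.leaf (nat_lit 33981701)) (BT.leaf (nat_lit 33998597))) (BT.node (nat_lit 8533568) (BT.leaf (nat_lit 50421525)) (BT.leaf (nat_lit 23499025)))))))) (BT.node (nat_lit 8536384) (BT.node (nat_lit 8534912) (BT.node (nat_lit 8534400) (BT.node (nat_lit 8534080) (BT.node (nat_lit 8533952) (BT.node (nat_lit 8533824) (BT.leaf (nat_lit 23500569)) (BT.leaf (nat_lit 23500573))) (BT.node (nat_lit 8534016) (BT.leaf (nat_lit 23501329)) (BT.leaf (nat_lit 46576661)))) (BT.node (nat_lit 8534272) (BT.node (nat_lit 8534144) (BT.leaf (nat_lit 46601225)) (BT.leaf (nat_lit 36759557))) (BT.node (nat_lit 8534336) (BT.leaf (nat_lit 25440529)) (BT.leaf (nat_lit 23502865))))) (BT.node (nat_lit 8534656) (BT.node (nat_lit 8534528) (BT.node (nat_lit 8534464) (BT.leaf (nat_lit 26755345)) (BT.leaf (nat_lit 46574345))) (BT.node (nat_lit 8534592) (BT.leaf (nat_lit 26330393)) (BT.leaf (nat_lit 23504405)))) (BT.node (nat_lit 8534784) (BT.node (nat_lit 8534720) (BT.leaf (nat_lit 27736089)) (BT.leaf (nat_lit 50423813))) (BT.node (nat_lit 8534848) (BT.leaf (nat_lit 46574369)) (BT.leaf (nat_lit 47840285)))))) (BT.node (nat_lit 8535552) (BT.node (nat_lit 8535232) (BT.node (nat_lit 8535104) (BT.node (nat_lit 8535040) (BT.leaf (nat_lit 23503889)) (BT.leaf (nat_lit 23505429))) (BT.node (nat_lit 8535168) (BT.leaf (nat_lit 48029717)) (BT.leaf (nat_lit 48030493)))) (BT.node (nat_lit 8535360) (BT.node (nat_lit 8535296) (BT.leaf (nat_lit 31652369)) (BT.leaf (nat_lit 30288409))) (BT.node (nat_lit 8535424) (BT.leaf (nat_lit 50427929)) (BT.leaf (nat_lit 23506449))))) (BT.node (nat_lit 8535808) (BT.node (nat_lit 8535680) (BT.node (nat_lit 8535616) (BT.leaf (nat_lit 25440785)) (BT.leaf (nat_lit 25017105))) (BT.node (nat_lit 8535744) (BT.leaf (nat_lit 50428165)) (BT.leaf (nat_lit 25165585)))) (BT.node (nat_lit 8536128) (BT.node (nat_lit 8536000) (BT.leaf (nat_lit 50429729)) (BT.leaf (nat_lit 34457365))) (BT.node (nat_lit 8536192) (BT.leaf (nat_lit 25685257)) (BT.leaf (nat_lit 37409557))))))) (BT.node (nat_lit 8537792) (BT.node (nat_lit 8537024) (BT.node (nat_lit 8536768) (BT.node (nat_lit 8536640) (BT.node (nat_lit 8536512) (BT.leaf (nat_lit 34020877)) (BT.leaf (nat_lit 34151965))) (BT.node (nat_lit 8536704) (BT.leaf (nat_lit 46771981)) (BT.leaf (nat_lit 37355025)))) (BT.node (nat_lit 8536896) (BT.node (nat_lit 8536832) (BT.leaf (nat_lit 33256729)) (BT.leaf (nat_lit 48303385))) (BT.node (nat_lit 8536960) (BT.leaf (nat_lit 34151701)) (BT.leaf (nat_lit 29694485))))) (BT.node (nat_lit 8537280) (BT.node (nat_lit 8537152) (BT.node (nat_lit 8537088) (BT.leaf (nat_lit 50243361)) (BT.leaf (nat_lit 50243105))) (BT.node (nat_lit 8537216) (BT.leaf (nat_lit 23513621)) (BT.leaf (nat_lit 26113797)))) (BT.node (nat_lit 8537664) (BT.node (nat_lit 8537600) (BT.leaf (nat_lit 33859853)) (BT.leaf (nat_lit 23514653))) (BT.node (nat_lit 8537728) (BT.leaf (nat_lit 23514649)) (BT.leaf (nat_lit 47563273)))))) (BT.node (nat_lit 8538304) (BT.node (nat_lit 8538048) (BT.node (nat_lit 8537920) (BT.node (nat_lit 8537856) (BT.leaf (nat_lit 23514645)) (BT.leaf (nat_lit 23514901))) (BT.node (nat_lit 8537984) (BT.leaf (nat_lit 36958737)) (BT.leaf (nat_lit 37664273)))) (BT.node (nat_lit 8538176) (BT.node (nat_lit 8538112) (BT.leaf (nat_lit 47993093)) (BT.leaf (nat_lit 23516185))) (BT.node (nat_lit 8538240) (BT.leaf (nat_lit 35609109)) (BT.leaf (nat_lit 24304661))))) (BT.node (nat_lit 8538752) (BT.node (nat_lit 8538432) (BT.node (nat_lit 8538368) (BT.leaf (nat_lit 34882053)) (BT.leaf (nat_lit 29815841))) (BT.node (nat_lit 8538688) (BT.leaf (nat_lit 23518481)) (BT.leaf (nat_lit 32264993)))) (BT.node (nat_lit 8538944) (BT.node (nat_lit 8538816) (BT.leaf (nat_lit 25378325)) (BT.leaf (nat_lit 34158085))) (BT.node (nat_lit 8539008) (BT.leaf (nat_lit 34116129)) (BT.leaf (nat_lit 36389393)))))))))) (BT.node (nat_lit 8549568) (BT.node (nat_lit 8544192) (BT.node (nat_lit 8541760) (BT.node (nat_lit 8540288) (BT.node (nat_lit 8539712) (BT.node (nat_lit 8539328) (BT.node (nat_lit 8539200) (BT.node (nat_lit 8539136) (BT.leaf (nat_lit 34076449)) (BT.leaf (nat_lit 23629593))) (BT.node (nat_lit 8539264) (BT.leaf (nat_lit 23629597)) (BT.leaf (nat_lit 23522077)))) (BT.node (nat_lit 8539520) (BT.node (nat_lit 8539456) (BT.leaf (nat_lit 23522325)) (BT.leaf (nat_lit 23522581))) (BT.node (nat_lit 8539584) (BT.leaf (nat_lit 50438945)) (BT.leaf (nat_lit 34542853))))) (BT.node (nat_lit 8539968) (BT.node (nat_lit 8539840) (BT.node (nat_lit 8539776) (BT.leaf (nat_lit 50439457)) (BT.leaf (nat_lit 24576801))) (BT.node (nat_lit 8539904) (BT.leaf (nat_lit 35120161)) (BT.leaf (nat_lit 37110037)))) (BT.node (nat_lit 8540096) (BT.node (nat_lit 8540032) (BT.leaf (nat_lit 33771781)) (BT.leaf (nat_lit 23526169))) (BT.node (nat_lit 8540160) (BT.leaf (nat_lit 23526173)) (BT.leaf (nat_lit 50441757)))))) (BT.node (nat_lit 8540992) (BT.node (nat_lit 8540672) (BT.node (nat_lit 8540480) (BT.node (nat_lit 8540352) (BT.leaf (nat_lit 24627973)) (BT.leaf (nat_lit 48072209))) (BT.node (nat_lit 8540544) (BT.leaf (nat_lit 23528985)) (BT.leaf (nat_lit 34788897)))) (BT.node (nat_lit 8540800) (BT.node (nat_lit 8540736) (BT.leaf (nat_lit 42167837)) (BT.leaf (nat_lit 23531025))) (BT.node (nat_lit 8540928) (BT.leaf (nat_lit 23531285)) (BT.leaf (nat_lit 38347269))))) (BT.node (nat_lit 8541440) (BT.node (nat_lit 8541312) (BT.node (nat_lit 8541120) (BT.leaf (nat_lit 36229905)) (BT.leaf (nat_lit 28798753))) (BT.node (nat_lit 8541376) (BT.leaf (nat_lit 23534097)) (BT.leaf (nat_lit 23536405)))) (BT.node (nat_lit 8541568) (BT.node (nat_lit 8541504) (BT.leaf (nat_lit 34400537)) (BT.leaf (nat_lit 34124045))) (BT.node (nat_lit 8541696) (BT.leaf (nat_lit 36583181)) (BT.leaf (nat_lit 41811973))))))) (BT.node (nat_lit 8543168) (BT.node (nat_lit 8542400) (BT.node (nat_lit 8542144) (BT.node (nat_lit 8541952) (BT.node (nat_lit 8541888) (BT.leaf (nat_lit 23536917)) (BT.leaf (nat_lit 23537685))) (BT.node (nat_lit 8542080) (BT.leaf (nat_lit 31813637)) (BT.leaf (nat_lit 23539217)))) (BT.node (nat_lit 8542272) (BT.node (nat_lit 8542208) (BT.leaf (nat_lit 48870929)) (BT.leaf (nat_lit 24640517))) (BT.node (nat_lit 8542336) (BT.leaf (nat_lit 48096529)) (BT.leaf (nat_lit 23539985))))) (BT.node (nat_lit 8542912) (BT.node (nat_lit 8542784) (BT.node (nat_lit 8542464) (BT.leaf (nat_lit 37106465)) (BT.leaf (nat_lit 33694493))) (BT.node (nat_lit 8542848) (BT.leaf (nat_lit 23543569)) (BT.leaf (nat_lit 23544337)))) (BT.node (nat_lit 8543040) (BT.node (nat_lit 8542976) (BT.leaf (nat_lit 23543829)) (BT.leaf (nat_lit 23544081))) (BT.node (nat_lit 8543104) (BT.leaf (nat_lit 23545365)) (BT.leaf (nat_lit 23545369)))))) (BT.node (nat_lit 8543680) (BT.node (nat_lit 8543424) (BT.node (nat_lit 8543296) (BT.node (nat_lit 8543232) (BT.leaf (nat_lit 23545373)) (BT.leaf (nat_lit 23545625))) (BT.node (nat_lit 8543360) (BT.leaf (nat_lit 23545629)) (BT.leaf (nat_lit 26698261)))) (BT.node (nat_lit 8543552) (BT.node (nat_lit 8543488) (BT.leaf (nat_lit 25841677)) (BT.leaf (nat_lit 27286805))) (BT.node (nat_lit 8543616) (BT.leaf (nat_lit 24252445)) (BT.leaf (nat_lit 23729177))))) (BT.node (nat_lit 8543936) (BT.node (nat_lit 8543808) (BT.node (nat_lit 8543744) (BT.leaf (nat_lit 50449925)) (BT.leaf (nat_lit 23549973))) (BT.node (nat_lit 8543872) (BT.leaf (nat_lit 33772037)) (BT.leaf (nat_lit 49957129)))) (BT.node (nat_lit 8544064) (BT.node (nat_lit 8544000) (BT.leaf (nat_lit 50450705)) (BT.leaf (nat_lit 50450209))) (BT.node (nat_lit 8544128) (BT.leaf (nat_lit 50887429)) (BT.leaf (nat_lit 49848857)))))))) (BT.node (nat_lit 8547200) (BT.node (nat_lit 8545792) (BT.node (nat_lit 8545280) (BT.node (nat_lit 8544896) (BT.node (nat_lit 8544320) (BT.node (nat_lit 8544256) (BT.leaf (nat_lit 23553297)) (BT.leaf (nat_lit 50327841))) (BT.node (nat_lit 8544704) (BT.leaf (nat_lit 36858889)) (BT.leaf (nat_lit 23555089)))) (BT.node (nat_lit 8545152) (BT.node (nat_lit 8545024) (BT.leaf (nat_lit 33620485)) (BT.leaf (nat_lit 34899233))) (BT.node (nat_lit 8545216) (BT.leaf (nat_lit 43274521)) (BT.leaf (nat_lit 26374161))))) (BT.node (nat_lit 8545536) (BT.node (nat_lit 8545408) (BT.node (nat_lit 8545344) (BT.leaf (nat_lit 26373905)) (BT.leaf (nat_lit 23557149))) (BT.node (nat_lit 8545472) (BT.leaf (nat_lit 23557649)) (BT.leaf (nat_lit 37242909)))) (BT.node (nat_lit 8545664) (BT.node (nat_lit 8545600) (BT.leaf (nat_lit 50454545)) (BT.leaf (nat_lit 36252957))) (BT.node (nat_lit 8545728) (BT.leaf (nat_lit 50455581)) (BT.leaf (nat_lit 50456081)))))) (BT.node (nat_lit 8546560) (BT.node (nat_lit 8546048) (BT.node (nat_lit 8545920) (BT.node (nat_lit 8545856) (BT.leaf (nat_lit 50922777)) (BT.leaf (nat_lit 50455313))) (BT.node (nat_lit 8545984) (BT.leaf (nat_lit 25194257)) (BT.leaf (nat_lit 23558677)))) (BT.node (nat_lit 8546432) (BT.node (nat_lit 8546112) (BT.leaf (nat_lit 47461653)) (BT.leaf (nat_lit 47077893))) (BT.node (nat_lit 8546496) (BT.leaf (nat_lit 33338145)) (BT.leaf (nat_lit 23561493))))) (BT.node (nat_lit 8546944) (BT.node (nat_lit 8546752) (BT.node (nat_lit 8546624) (BT.leaf (nat_lit 34186525)) (BT.leaf (nat_lit 48316433))) (BT.node (nat_lit 8546816) (BT.leaf (nat_lit 23561761)) (BT.leaf (nat_lit 23562001)))) (BT.node (nat_lit 8547072) (BT.node (nat_lit 8547008) (BT.leaf (nat_lit 33626373)) (BT.leaf (nat_lit 33633825))) (BT.node (nat_lit 8547136) (BT.leaf (nat_lit 33381665)) (BT.leaf (nat_lit 33075217))))))) (BT.node (nat_lit 8548480) (BT.node (nat_lit 8547904) (BT.node (nat_lit 8547584) (BT.node (nat_lit 8547392) (BT.node (nat_lit 8547264) (BT.leaf (nat_lit 25466641)) (BT.leaf (nat_lit 48837913))) (BT.node (nat_lit 8547520) (BT.leaf (nat_lit 33381661)) (BT.leaf (nat_lit 34423317)))) (BT.node (nat_lit 8547776) (BT.node (nat_lit 8547712) (BT.leaf (nat_lit 34055449)) (BT.leaf (nat_lit 23565341))) (BT.node (nat_lit 8547840) (BT.leaf (nat_lit 34424601)) (BT.leaf (nat_lit 34191645))))) (BT.node (nat_lit 8548160) (BT.node (nat_lit 8548032) (BT.node (nat_lit 8547968) (BT.leaf (nat_lit 23570965)) (BT.leaf (nat_lit 34304517))) (BT.node (nat_lit 8548096) (BT.leaf (nat_lit 34304541)) (BT.leaf (nat_lit 36586517)))) (BT.node (nat_lit 8548288) (BT.node (nat_lit 8548224) (BT.leaf (nat_lit 36586769)) (BT.leaf (nat_lit 30060297))) (BT.node (nat_lit 8548416) (BT.leaf (nat_lit 23568917)) (BT.leaf (nat_lit 50459153)))))) (BT.node (nat_lit 8549056) (BT.node (nat_lit 8548736) (BT.node (nat_lit 8548608) (BT.node (nat_lit 8548544) (BT.leaf (nat_lit 50128157)) (BT.leaf (nat_lit 50459409))) (BT.node (nat_lit 8548672) (BT.leaf (nat_lit 34194201)) (BT.leaf (nat_lit 23569429)))) (BT.node (nat_lit 8548928) (BT.node (nat_lit 8548800) (BT.leaf (nat_lit 23569685)) (BT.leaf (nat_lit 25701653))) (BT.node (nat_lit 8548992) (BT.leaf (nat_lit 25716489)) (BT.leaf (nat_lit 34192665))))) (BT.node (nat_lit 8549312) (BT.node (nat_lit 8549184) (BT.node (nat_lit 8549120) (BT.leaf (nat_lit 34196509)) (BT.leaf (nat_lit 26638353))) (BT.node (nat_lit 8549248) (BT.leaf (nat_lit 34610461)) (BT.leaf (nat_lit 32714245)))) (BT.node (nat_lit 8549440) (BT.node (nat_lit 8549376) (BT.leaf (nat_lit 36337693)) (BT.leaf (nat_lit 34055453))) (BT.node (nat_lit 8549504) (BT.leaf (nat_lit 23571985)) (BT.leaf (nat_lit 33378329))))))))) (BT.node (nat_lit 8555136) (BT.node (nat_lit 8552640) (BT.node (nat_lit 8550976) (BT.node (nat_lit 8550272) (BT.node (nat_lit 8549952) (BT.node (nat_lit 8549760) (BT.node (nat_lit 8549696) (BT.leaf (nat_lit 23573265)) (BT.leaf (nat_lit 24275721))) (BT.node (nat_lit 8549824) (BT.leaf (nat_lit 33429773)) (BT.leaf (nat_lit 23577109)))) (BT.node (nat_lit 8550080) (BT.node (nat_lit 8550016) (BT.leaf (nat_lit 23577361)) (BT.leaf (nat_lit 48292113))) (BT.node (nat_lit 8550144) (BT.leaf (nat_lit 23888153)) (BT.leaf (nat_lit 33767941))))) (BT.node (nat_lit 8550592) (BT.node (nat_lit 8550464) (BT.node (nat_lit 8550336) (BT.leaf (nat_lit 50462481)) (BT.leaf (nat_lit 50462477))) (BT.node (nat_lit 8550528) (BT.leaf (nat_lit 27964189)) (BT.leaf (nat_lit 23580949)))) (BT.node (nat_lit 8550720) (BT.node (nat_lit 8550656) (BT.leaf (nat_lit 32777221)) (BT.leaf (nat_lit 23581973))) (BT.node (nat_lit 8550784) (BT.leaf (nat_lit 23581977)) (BT.leaf (nat_lit 23581981)))))) (BT.node (nat_lit 8551744) (BT.node (nat_lit 8551296) (BT.node (nat_lit 8551168) (BT.node (nat_lit 8551104) (BT.leaf (nat_lit 23582233)) (BT.leaf (nat_lit 24341273))) (BT.node (nat_lit 8551232) (BT.leaf (nat_lit 23582481)) (BT.leaf (nat_lit 23582485)))) (BT.node (nat_lit 8551552) (BT.node (nat_lit 8551360) (BT.leaf (nat_lit 23582745)) (BT.leaf (nat_lit 23582749))) (BT.node (nat_lit 8551680) (BT.leaf (nat_lit 48139541)) (BT.leaf (nat_lit 23583761))))) (BT.node (nat_lit 8552256) (BT.node (nat_lit 8552064) (BT.node (nat_lit 8551872) (BT.leaf (nat_lit 23583765)) (BT.leaf (nat_lit 50466849))) (BT.node (nat_lit 8552128) (BT.leaf (nat_lit 35985685)) (BT.leaf (nat_lit 34236181)))) (BT.node (nat_lit 8552512) (BT.node (nat_lit 8552320) (BT.leaf (nat_lit 34208525)) (BT.leaf (nat_lit 23584797))) (BT.node (nat_lit 8552576) (BT.leaf (nat_lit 50467077)) (BT.leaf (nat_lit 38668305))))))) (BT.node (nat_lit 8553984) (BT.node (nat_lit 8553344) (BT.node (nat_lit 8553088) (BT.node (nat_lit 8552896) (BT.node (nat_lit 8552832) (BT.leaf (nat_lit 35933957)) (BT.leaf (nat_lit 35078677))) (BT.node (nat_lit 8553024) (BT.leaf (nat_lit 32737553)) (BT.leaf (nat_lit 23587089)))) (BT.node (nat_lit 8553216) (BT.node (nat_lit 8553152) (BT.leaf (nat_lit 25467665)) (BT.leaf (nat_lit 37224977))) (BT.node (nat_lit 8553280) (BT.leaf (nat_lit 23588369)) (BT.leaf (nat_lit 50125573))))) (BT.node (nat_lit 8553664) (BT.node (nat_lit 8553536) (BT.node (nat_lit 8553472) (BT.leaf (nat_lit 50469141)) (BT.leaf (nat_lit 30838305))) (BT.node (nat_lit 8553600) (BT.leaf (nat_lit 30838561)) (BT.leaf (nat_lit 23590681)))) (BT.node (nat_lit 8553856) (BT.node (nat_lit 8553792) (BT.leaf (nat_lit 23590685)) (BT.leaf (nat_lit 23590937))) (BT.node (nat_lit 8553920) (BT.leaf (nat_lit 23590941)) (BT.leaf (nat_lit 50470417)))))) (BT.node (nat_lit 8554560) (BT.node (nat_lit 8554240) (BT.node (nat_lit 8554112) (BT.node (nat_lit 8554048) (BT.leaf (nat_lit 23591441)) (BT.leaf (nat_lit 33355041))) (BT.node (nat_lit 8554176) (BT.leaf (nat_lit 50471441)) (BT.leaf (nat_lit 23591957)))) (BT.node (nat_lit 8554368) (BT.node (nat_lit 8554304) (BT.leaf (nat_lit 23591705)) (BT.leaf (nat_lit 23591709))) (BT.node (nat_lit 8554496) (BT.leaf (nat_lit 25442833)) (BT.leaf (nat_lit 23591965))))) (BT.node (nat_lit 8554880) (BT.node (nat_lit 8554688) (BT.node (nat_lit 8554624) (BT.leaf (nat_lit 23592213)) (BT.leaf (nat_lit 23592221))) (BT.node (nat_lit 8554752) (BT.leaf (nat_lit 23592469)) (BT.leaf (nat_lit 26869537)))) (BT.node (nat_lit 8555008) (BT.node (nat_lit 8554944) (BT.leaf (nat_lit 33671685)) (BT.leaf (nat_lit 32633885))) (BT.node (nat_lit 8555072) (BT.leaf (nat_lit 23594769)) (BT.leaf (nat_lit 50146325)))))))) (BT.node (nat_lit 8558080) (BT.node (nat_lit 8556800) (BT.node (nat_lit 8556032) (BT.node (nat_lit 8555776) (BT.node (nat_lit 8555648) (BT.node (nat_lit 8555264) (BT.leaf (nat_lit 23595281)) (BT.leaf (nat_lit 23596561))) (BT.node (nat_lit 8555712) (BT.leaf (nat_lit 48474385)) (BT.leaf (nat_lit 48172809)))) (BT.node (nat_lit 8555904) (BT.node (nat_lit 8555840) (BT.leaf (nat_lit 34814469)) (BT.leaf (nat_lit 23600657))) (BT.node (nat_lit 8555968) (BT.leaf (nat_lit 49854753)) (BT.leaf (nat_lit 48175137))))) (BT.node (nat_lit 8556416) (BT.node (nat_lit 8556224) (BT.node (nat_lit 8556160) (BT.leaf (nat_lit 23601681)) (BT.leaf (nat_lit 23601437))) (BT.node (nat_lit 8556352) (BT.leaf (nat_lit 23601937)) (BT.leaf (nat_lit 23602205)))) (BT.node (nat_lit 8556608) (BT.node (nat_lit 8556480) (BT.leaf (nat_lit 23602449)) (BT.leaf (nat_lit 46679825))) (BT.node (nat_lit 8556736) (BT.leaf (nat_lit 50477601)) (BT.leaf (nat_lit 23604253)))))) (BT.node (nat_lit 8557568) (BT.node (nat_lit 8557184) (BT.node (nat_lit 8556928) (BT.node (nat_lit 8556864) (BT.leaf (nat_lit 50154245)) (BT.leaf (nat_lit 25486865))) (BT.node (nat_lit 8557120) (BT.leaf (nat_lit 23605021)) (BT.leaf (nat_lit 23605785)))) (BT.node (nat_lit 8557376) (BT.node (nat_lit 8557248) (BT.leaf (nat_lit 23606817)) (BT.leaf (nat_lit 23607321))) (BT.node (nat_lit 8557504) (BT.leaf (nat_lit 23607829)) (BT.leaf (nat_lit 23608333))))) (BT.node (nat_lit 8557824) (BT.node (nat_lit 8557696) (BT.node (nat_lit 8557632) (BT.leaf (nat_lit 23608345)) (BT.leaf (nat_lit 23608349))) (BT.node (nat_lit 8557760) (BT.leaf (nat_lit 29527813)) (BT.leaf (nat_lit 27762209)))) (BT.node (nat_lit 8557952) (BT.node (nat_lit 8557888) (BT.leaf (nat_lit 23609873)) (BT.leaf (nat_lit 35208965))) (BT.node (nat_lit 8558016) (BT.leaf (nat_lit 50206469)) (BT.leaf (nat_lit 23610645))))))) (BT.node (nat_lit 8559168) (BT.node (nat_lit 8558656) (BT.node (nat_lit 8558336) (BT.node (nat_lit 8558208) (BT.node (nat_lit 8558144) (BT.leaf (nat_lit 47343621)) (BT.leaf (nat_lit 33684485))) (BT.node (nat_lit 8558272) (BT.leaf (nat_lit 27024917)) (BT.leaf (nat_lit 36230173)))) (BT.node (nat_lit 8558464) (BT.node (nat_lit 8558400) (BT.leaf (nat_lit 35932957)) (BT.leaf (nat_lit 33821701))) (BT.node (nat_lit 8558528) (BT.leaf (nat_lit 35287813)) (BT.leaf (nat_lit 35232801))))) (BT.node (nat_lit 8558912) (BT.node (nat_lit 8558784) (BT.node (nat_lit 8558720) (BT.leaf (nat_lit 25004309)) (BT.leaf (nat_lit 23614993))) (BT.node (nat_lit 8558848) (BT.leaf (nat_lit 25493281)) (BT.leaf (nat_lit 35083297)))) (BT.node (nat_lit 8559040) (BT.node (nat_lit 8558976) (BT.leaf (nat_lit 23616025)) (BT.leaf (nat_lit 23616029))) (BT.node (nat_lit 8559104) (BT.leaf (nat_lit 34847009)) (BT.leaf (nat_lit 34847265)))))) (BT.node (nat_lit 8559808) (BT.node (nat_lit 8559552) (BT.node (nat_lit 8559431) (BT.node (nat_lit 8559424) (BT.leaf (nat_lit 34847521)) (BT.leaf (nat_lit 23616789))) (BT.node (nat_lit 8559488) (BT.leaf (nat_lit 537232)) (BT.leaf (nat_lit 23616793)))) (BT.node (nat_lit 8559680) (BT.node (nat_lit 8559616) (BT.leaf (nat_lit 23616797)) (BT.leaf (nat_lit 50486809))) (BT.node (nat_lit 8559744) (BT.leaf (nat_lit 50487069)) (BT.leaf (nat_lit 40256533))))) (BT.node (nat_lit 8560128) (BT.node (nat_lit 8559936) (BT.node (nat_lit 8559872) (BT.leaf (nat_lit 50487053)) (BT.leaf (nat_lit 38751253))) (BT.node (nat_lit 8560064) (BT.leaf (nat_lit 35871493)) (BT.leaf (nat_lit 32803861)))) (BT.node (nat_lit 8560256) (BT.node (nat_lit 8560192) (BT.leaf (nat_lit 50216209)) (BT.leaf (nat_lit 34214165))) (BT.node (nat_lit 8560384) (BT.leaf (nat_lit 48143121)) (BT.leaf (nat_lit 23619613))))))))))) (BT.node (nat_lit 8581504) (BT.node (nat_lit 8571456) (BT.node (nat_lit 8566272) (BT.node (nat_lit 8563008) (BT.node (nat_lit 8561664) (BT.node (nat_lit 8560960) (BT.node (nat_lit 8560704) (BT.node (nat_lit 8560576) (BT.node (nat_lit 8560512) (BT.leaf (nat_lit 28666389)) (BT.leaf (nat_lit 49004577))) (BT.node (nat_lit 8560640) (BT.leaf (nat_lit 34242829)) (BT.leaf (nat_lit 49067297)))) (BT.node (nat_lit 8560832) (BT.node (nat_lit 8560768) (BT.leaf (nat_lit 49003029)) (BT.leaf (nat_lit 23621125))) (BT.node (nat_lit 8560896) (BT.leaf (nat_lit 50489349)) (BT.leaf (nat_lit 48851477))))) (BT.node (nat_lit 8561280) (BT.node (nat_lit 8561088) (BT.node (nat_lit 8561024) (BT.leaf (nat_lit 31954693)) (BT.leaf (nat_lit 33800221))) (BT.node (nat_lit 8561216) (BT.leaf (nat_lit 31955213)) (BT.leaf (nat_lit 33811717)))) (BT.node (nat_lit 8561472) (BT.node (nat_lit 8561344) (BT.leaf (nat_lit 25956897)) (BT.leaf (nat_lit 23623705))) (BT.node (nat_lit 8561600) (BT.leaf (nat_lit 23624977)) (BT.leaf (nat_lit 23625489)))))) (BT.node (nat_lit 8562496) (BT.node (nat_lit 8562240) (BT.node (nat_lit 8561792) (BT.node (nat_lit 8561728) (BT.leaf (nat_lit 23625237)) (BT.leaf (nat_lit 23625241))) (BT.node (nat_lit 8562048) (BT.leaf (nat_lit 23626769)) (BT.leaf (nat_lit 23628049)))) (BT.node (nat_lit 8562368) (BT.node (nat_lit 8562304) (BT.leaf (nat_lit 50494493)) (BT.leaf (nat_lit 46690337))) (BT.node (nat_lit 8562432) (BT.leaf (nat_lit 30459397)) (BT.leaf (nat_lit 34223637))))) (BT.node (nat_lit 8562752) (BT.node (nat_lit 8562624) (BT.node (nat_lit 8562560) (BT.leaf (nat_lit 37474313)) (BT.leaf (nat_lit 28209941))) (BT.node (nat_lit 8562688) (BT.leaf (nat_lit 37475097)) (BT.leaf (nat_lit 38756625)))) (BT.node (nat_lit 8562880) (BT.node (nat_lit 8562816) (BT.leaf (nat_lit 48164113)) (BT.leaf (nat_lit 23630877))) (BT.node (nat_lit 8562944) (BT.leaf (nat_lit 36950289)) (BT.leaf (nat_lit 37824277))))))) (BT.node (nat_lit 8564480) (BT.node (nat_lit 8563968) (BT.node (nat_lit 8563392) (BT.node (nat_lit 8563200) (BT.node (nat_lit 8563072) (BT.leaf (nat_lit 34251785)) (BT.leaf (nat_lit 32145185))) (BT.node (nat_lit 8563328) (BT.leaf (nat_lit 23631901)) (BT.leaf (nat_lit 23632913)))) (BT.node (nat_lit 8563712) (BT.node (nat_lit 8563520) (BT.leaf (nat_lit 50498329)) (BT.leaf (nat_lit 23633693))) (BT.node (nat_lit 8563776) (BT.leaf (nat_lit 28653341)) (BT.leaf (nat_lit 34447621))))) (BT.node (nat_lit 8564224) (BT.node (nat_lit 8564096) (BT.node (nat_lit 8564032) (BT.leaf (nat_lit 23635729)) (BT.leaf (nat_lit 50499361))) (BT.node (nat_lit 8564160) (BT.leaf (nat_lit 23636241)) (BT.leaf (nat_lit 23636753)))) (BT.node (nat_lit 8564352) (BT.node (nat_lit 8564288) (BT.leaf (nat_lit 34220301)) (BT.leaf (nat_lit 50450453))) (BT.node (nat_lit 8564416) (BT.leaf (nat_lit 48203525)) (BT.leaf (nat_lit 48206097)))))) (BT.node (nat_lit 8565376) (BT.node (nat_lit 8565056) (BT.node (nat_lit 8564736) (BT.node (nat_lit 8564544) (BT.leaf (nat_lit 23638553)) (BT.leaf (nat_lit 23638557))) (BT.node (nat_lit 8564864) (BT.leaf (nat_lit 37962249)) (BT.leaf (nat_lit 25510161)))) (BT.node (nat_lit 8565184) (BT.node (nat_lit 8565120) (BT.leaf (nat_lit 23641373)) (BT.leaf (nat_lit 23641617))) (BT.node (nat_lit 8565248) (BT.leaf (nat_lit 23642641)) (BT.leaf (nat_lit 36787741))))) (BT.node (nat_lit 8566016) (BT.node (nat_lit 8565888) (BT.node (nat_lit 8565696) (BT.leaf (nat_lit 50504481)) (BT.leaf (nat_lit 30211593))) (BT.node (nat_lit 8565952) (BT.leaf (nat_lit 23849745)) (BT.leaf (nat_lit 23849749)))) (BT.node (nat_lit 8566144) (BT.node (nat_lit 8566080) (BT.leaf (nat_lit 36849693)) (BT.leaf (nat_lit 23645205))) (BT.node (nat_lit 8566208) (BT.leaf (nat_lit 31660817)) (BT.leaf (nat_lit 38950925)))))))) (BT.node (nat_lit 8569216) (BT.node (nat_lit 8567872) (BT.node (nat_lit 8567104) (BT.node (nat_lit 8566720) (BT.node (nat_lit 8566400) (BT.node (nat_lit 8566336) (BT.leaf (nat_lit 31097105)) (BT.leaf (nat_lit 34265113))) (BT.node (nat_lit 8566464) (BT.leaf (nat_lit 50506273)) (BT.leaf (nat_lit 23647505)))) (BT.node (nat_lit 8566848) (BT.node (nat_lit 8566784) (BT.leaf (nat_lit 50508037)) (BT.leaf (nat_lit 50508305))) (BT.node (nat_lit 8566912) (BT.leaf (nat_lit 34828317)) (BT.leaf (nat_lit 23648533))))) (BT.node (nat_lit 8567424) (BT.node (nat_lit 8567232) (BT.node (nat_lit 8567168) (BT.leaf (nat_lit 23650577)) (BT.leaf (nat_lit 50509841))) (BT.node (nat_lit 8567296) (BT.leaf (nat_lit 23650841)) (BT.leaf (nat_lit 23650845)))) (BT.node (nat_lit 8567552) (BT.node (nat_lit 8567488) (BT.leaf (nat_lit 50510865)) (BT.leaf (nat_lit 35529229))) (BT.node (nat_lit 8567616) (BT.leaf (nat_lit 23651097)) (BT.leaf (nat_lit 23651101)))))) (BT.node (nat_lit 8568640) (BT.node (nat_lit 8568256) (BT.node (nat_lit 8568128) (BT.node (nat_lit 8568000) (BT.leaf (nat_lit 23651601)) (BT.leaf (nat_lit 33148945))) (BT.node (nat_lit 8568192) (BT.leaf (nat_lit 26745633)) (BT.leaf (nat_lit 46577953)))) (BT.node (nat_lit 8568512) (BT.node (nat_lit 8568384) (BT.leaf (nat_lit 23652377)) (BT.leaf (nat_lit 25626901))) (BT.node (nat_lit 8568576) (BT.leaf (nat_lit 35298849)) (BT.leaf (nat_lit 51502853))))) (BT.node (nat_lit 8568960) (BT.node (nat_lit 8568832) (BT.node (nat_lit 8568704) (BT.leaf (nat_lit 34889477)) (BT.leaf (nat_lit 31275029))) (BT.node (nat_lit 8568896) (BT.leaf (nat_lit 28969505)) (BT.leaf (nat_lit 50372109)))) (BT.node (nat_lit 8569088) (BT.node (nat_lit 8569024) (BT.leaf (nat_lit 23655701)) (BT.leaf (nat_lit 23950613))) (BT.node (nat_lit 8569152) (BT.leaf (nat_lit 48019233)) (BT.leaf (nat_lit 36838149))))))) (BT.node (nat_lit 8570304) (BT.node (nat_lit 8569792) (BT.node (nat_lit 8569536) (BT.node (nat_lit 8569344) (BT.node (nat_lit 8569280) (BT.leaf (nat_lit 48020001)) (BT.leaf (nat_lit 23955993))) (BT.node (nat_lit 8569408) (BT.leaf (nat_lit 23660565)) (BT.leaf (nat_lit 34571025)))) (BT.node (nat_lit 8569664) (BT.node (nat_lit 8569600) (BT.leaf (nat_lit 23661341)) (BT.leaf (nat_lit 23661589))) (BT.node (nat_lit 8569728) (BT.leaf (nat_lit 34050585)) (BT.leaf (nat_lit 30183693))))) (BT.node (nat_lit 8570048) (BT.node (nat_lit 8569920) (BT.node (nat_lit 8569856) (BT.leaf (nat_lit 23662609)) (BT.leaf (nat_lit 25519121))) (BT.node (nat_lit 8569984) (BT.leaf (nat_lit 23663121)) (BT.leaf (nat_lit 34280733)))) (BT.node (nat_lit 8570176) (BT.node (nat_lit 8570112) (BT.leaf (nat_lit 24924185)) (BT.leaf (nat_lit 23663377))) (BT.node (nat_lit 8570240) (BT.leaf (nat_lit 25516305)) (BT.leaf (nat_lit 35437077)))))) (BT.node (nat_lit 8570816) (BT.node (nat_lit 8570560) (BT.node (nat_lit 8570432) (BT.node (nat_lit 8570368) (BT.leaf (nat_lit 23663633)) (BT.leaf (nat_lit 38987545))) (BT.node (nat_lit 8570496) (BT.leaf (nat_lit 50518293)) (BT.leaf (nat_lit 38261537)))) (BT.node (nat_lit 8570688) (BT.node (nat_lit 8570624) (BT.leaf (nat_lit 23664913)) (BT.leaf (nat_lit 28160281))) (BT.node (nat_lit 8570752) (BT.leaf (nat_lit 23666965)) (BT.leaf (nat_lit 33616401))))) (BT.node (nat_lit 8571200) (BT.node (nat_lit 8571072) (BT.node (nat_lit 8570880) (BT.leaf (nat_lit 23667737)) (BT.leaf (nat_lit 23667741))) (BT.node (nat_lit 8571136) (BT.leaf (nat_lit 23739925)) (BT.leaf (nat_lit 34396181)))) (BT.node (nat_lit 8571328) (BT.node (nat_lit 8571264) (BT.leaf (nat_lit 23668241)) (BT.leaf (nat_lit 48244485))) (BT.node (nat_lit 8571392) (BT.leaf (nat_lit 33801233)) (BT.leaf (nat_lit 50519825))))))))) (BT.node (nat_lit 8576640) (BT.node (nat_lit 8574272) (BT.node (nat_lit 8572800) (BT.node (nat_lit 8572032) (BT.node (nat_lit 8571776) (BT.node (nat_lit 8571648) (BT.node (nat_lit 8571584) (BT.leaf (nat_lit 47384069)) (BT.leaf (nat_lit 46483205))) (BT.node (nat_lit 8571712) (BT.leaf (nat_lit 23669277)) (BT.leaf (nat_lit 50057489)))) (BT.node (nat_lit 8571904) (BT.node (nat_lit 8571840) (BT.leaf (nat_lit 33799453)) (BT.leaf (nat_lit 31329545))) (BT.node (nat_lit 8571968) (BT.leaf (nat_lit 25516561)) (BT.leaf (nat_lit 25516049))))) (BT.node (nat_lit 8572480) (BT.node (nat_lit 8572288) (BT.node (nat_lit 8572224) (BT.leaf (nat_lit 23670045)) (BT.leaf (nat_lit 27507973))) (BT.node (nat_lit 8572416) (BT.leaf (nat_lit 23671569)) (BT.leaf (nat_lit 25411869)))) (BT.node (nat_lit 8572672) (BT.node (nat_lit 8572544) (BT.leaf (nat_lit 23671825)) (BT.leaf (nat_lit 23672337))) (BT.node (nat_lit 8572736) (BT.leaf (nat_lit 25418513)) (BT.leaf (nat_lit 23718945)))))) (BT.node (nat_lit 8573440) (BT.node (nat_lit 8573184) (BT.node (nat_lit 8572992) (BT.node (nat_lit 8572928) (BT.leaf (nat_lit 33559585)) (BT.leaf (nat_lit 31712289))) (BT.node (nat_lit 8573120) (BT.leaf (nat_lit 34337289)) (BT.leaf (nat_lit 24570129)))) (BT.node (nat_lit 8573312) (BT.node (nat_lit 8573248) (BT.leaf (nat_lit 26402833)) (BT.leaf (nat_lit 23674137))) (BT.node (nat_lit 8573376) (BT.leaf (nat_lit 23674141)) (BT.leaf (nat_lit 29523737))))) (BT.node (nat_lit 8573760) (BT.node (nat_lit 8573568) (BT.node (nat_lit 8573504) (BT.leaf (nat_lit 29174041)) (BT.leaf (nat_lit 23674385))) (BT.node (nat_lit 8573632) (BT.leaf (nat_lit 31101457)) (BT.leaf (nat_lit 29192469)))) (BT.node (nat_lit 8573952) (BT.node (nat_lit 8573824) (BT.leaf (nat_lit 50526229)) (BT.leaf (nat_lit 49266437))) (BT.node (nat_lit 8574144) (BT.leaf (nat_lit 50526481)) (BT.leaf (nat_lit 23677461))))))) (BT.node (nat_lit 8575360) (BT.node (nat_lit 8574848) (BT.node (nat_lit 8574592) (BT.node (nat_lit 8574400) (BT.node (nat_lit 8574336) (BT.leaf (nat_lit 23677721)) (BT.leaf (nat_lit 23677725))) (BT.node (nat_lit 8574528) (BT.leaf (nat_lit 28134677)) (BT.leaf (nat_lit 23678233)))) (BT.node (nat_lit 8574720) (BT.node (nat_lit 8574656) (BT.leaf (nat_lit 34055949)) (BT.leaf (nat_lit 30407713))) (BT.node (nat_lit 8574784) (BT.leaf (nat_lit 29233429)) (BT.leaf (nat_lit 23679761))))) (BT.node (nat_lit 8575104) (BT.node (nat_lit 8574976) (BT.node (nat_lit 8574912) (BT.leaf (nat_lit 34049305)) (BT.leaf (nat_lit 23680273))) (BT.node (nat_lit 8575040) (BT.leaf (nat_lit 32312605)) (BT.leaf (nat_lit 36813317)))) (BT.node (nat_lit 8575232) (BT.node (nat_lit 8575168) (BT.leaf (nat_lit 51994893)) (BT.leaf (nat_lit 23682325))) (BT.node (nat_lit 8575296) (BT.leaf (nat_lit 25524241)) (BT.leaf (nat_lit 27572501)))))) (BT.node (nat_lit 8576000) (BT.node (nat_lit 8575744) (BT.node (nat_lit 8575552) (BT.node (nat_lit 8575424) (BT.leaf (nat_lit 23683609)) (BT.leaf (nat_lit 38445845))) (BT.node (nat_lit 8575680) (BT.leaf (nat_lit 49903881)) (BT.leaf (nat_lit 50529809)))) (BT.node (nat_lit 8575872) (BT.node (nat_lit 8575808) (BT.leaf (nat_lit 35272197)) (BT.leaf (nat_lit 50529801))) (BT.node (nat_lit 8575936) (BT.leaf (nat_lit 34303773)) (BT.leaf (nat_lit 23691541))))) (BT.node (nat_lit 8576384) (BT.node (nat_lit 8576128) (BT.node (nat_lit 8576064) (BT.leaf (nat_lit 29670417)) (BT.leaf (nat_lit 25915925))) (BT.node (nat_lit 8576192) (BT.leaf (nat_lit 37396241)) (BT.leaf (nat_lit 34018329)))) (BT.node (nat_lit 8576512) (BT.node (nat_lit 8576448) (BT.leaf (nat_lit 46329873)) (BT.leaf (nat_lit 23688725))) (BT.node (nat_lit 8576576) (BT.leaf (nat_lit 35070729)) (BT.leaf (nat_lit 32539421)))))))) (BT.node (nat_lit 8579072) (BT.node (nat_lit 8577728) (BT.node (nat_lit 8577216) (BT.node (nat_lit 8576896) (BT.node (nat_lit 8576768) (BT.node (nat_lit 8576704) (BT.leaf (nat_lit 35663897)) (BT.leaf (nat_lit 33035809))) (BT.node (nat_lit 8576832) (BT.leaf (nat_lit 50531097)) (BT.leaf (nat_lit 34307597)))) (BT.node (nat_lit 8577024) (BT.node (nat_lit 8576960) (BT.leaf (nat_lit 34193953)) (BT.leaf (nat_lit 34308125))) (BT.node (nat_lit 8577152) (BT.leaf (nat_lit 47742481)) (BT.leaf (nat_lit 25915653))))) (BT.node (nat_lit 8577472) (BT.node (nat_lit 8577344) (BT.node (nat_lit 8577280) (BT.leaf (nat_lit 34309149)) (BT.leaf (nat_lit 26755601))) (BT.node (nat_lit 8577408) (BT.leaf (nat_lit 34018333)) (BT.leaf (nat_lit 23692049)))) (BT.node (nat_lit 8577600) (BT.node (nat_lit 8577536) (BT.leaf (nat_lit 34198021)) (BT.leaf (nat_lit 24415253))) (BT.node (nat_lit 8577664) (BT.leaf (nat_lit 34310153)) (BT.leaf (nat_lit 29100309)))))) (BT.node (nat_lit 8578368) (BT.node (nat_lit 8578048) (BT.node (nat_lit 8577856) (BT.node (nat_lit 8577792) (BT.leaf (nat_lit 29100821)) (BT.leaf (nat_lit 26635293))) (BT.node (nat_lit 8577984) (BT.leaf (nat_lit 36231453)) (BT.leaf (nat_lit 27841813)))) (BT.node (nat_lit 8578240) (BT.node (nat_lit 8578112) (BT.leaf (nat_lit 36854021)) (BT.leaf (nat_lit 25509145))) (BT.node (nat_lit 8578304) (BT.leaf (nat_lit 35599365)) (BT.leaf (nat_lit 34313485))))) (BT.node (nat_lit 8578752) (BT.node (nat_lit 8578560) (BT.node (nat_lit 8578432) (BT.leaf (nat_lit 50532869)) (BT.leaf (nat_lit 50535173))) (BT.node (nat_lit 8578688) (BT.leaf (nat_lit 26055957)) (BT.leaf (nat_lit 35701017)))) (BT.node (nat_lit 8578944) (BT.node (nat_lit 8578816) (BT.leaf (nat_lit 25417493)) (BT.leaf (nat_lit 35406869))) (BT.node (nat_lit 8579008) (BT.leaf (nat_lit 23696913)) (BT.leaf (nat_lit 49169941))))))) (BT.node (nat_lit 8580288) (BT.node (nat_lit 8579648) (BT.node (nat_lit 8579392) (BT.node (nat_lit 8579200) (BT.node (nat_lit 8579136) (BT.leaf (nat_lit 50536977)) (BT.leaf (nat_lit 23698705))) (BT.node (nat_lit 8579328) (BT.leaf (nat_lit 23699229)) (BT.leaf (nat_lit 35221789)))) (BT.node (nat_lit 8579520) (BT.node (nat_lit 8579456) (BT.leaf (nat_lit 34806277)) (BT.leaf (nat_lit 33246469))) (BT.node (nat_lit 8579584) (BT.leaf (nat_lit 23701013)) (BT.leaf (nat_lit 50539281))))) (BT.node (nat_lit 8580032) (BT.node (nat_lit 8579840) (BT.node (nat_lit 8579712) (BT.leaf (nat_lit 50539537)) (BT.leaf (nat_lit 50539273))) (BT.node (nat_lit 8579904) (BT.leaf (nat_lit 23704081)) (BT.leaf (nat_lit 29460769)))) (BT.node (nat_lit 8580160) (BT.node (nat_lit 8580096) (BT.leaf (nat_lit 25535009)) (BT.leaf (nat_lit 49953285))) (BT.node (nat_lit 8580224) (BT.leaf (nat_lit 34320409)) (BT.leaf (nat_lit 37221909)))))) (BT.node (nat_lit 8580864) (BT.node (nat_lit 8580608) (BT.node (nat_lit 8580416) (BT.node (nat_lit 8580352) (BT.leaf (nat_lit 23705105)) (BT.leaf (nat_lit 23705617))) (BT.node (nat_lit 8580544) (BT.leaf (nat_lit 50541585)) (BT.leaf (nat_lit 23705877)))) (BT.node (nat_lit 8580736) (BT.node (nat_lit 8580672) (BT.leaf (nat_lit 41058337)) (BT.leaf (nat_lit 48341009))) (BT.node (nat_lit 8580800) (BT.leaf (nat_lit 23706393)) (BT.leaf (nat_lit 48304673))))) (BT.node (nat_lit 8581184) (BT.node (nat_lit 8580992) (BT.node (nat_lit 8580928) (BT.leaf (nat_lit 48304417)) (BT.leaf (nat_lit 34353433))) (BT.node (nat_lit 8581120) (BT.leaf (nat_lit 23733533)) (BT.leaf (nat_lit 50126613)))) (BT.node (nat_lit 8581376) (BT.node (nat_lit 8581248) (BT.leaf (nat_lit 23707937)) (BT.leaf (nat_lit 23708437))) (BT.node (nat_lit 8581440) (BT.leaf (nat_lit 23708693)) (BT.leaf (nat_lit 50543121)))))))))) (BT.node (nat_lit 8592192) (BT.node (nat_lit 8587136) (BT.node (nat_lit 8584256) (BT.node (nat_lit 8582912) (BT.node (nat_lit 8582144) (BT.node (nat_lit 8581760) (BT.node (nat_lit 8581632) (BT.node (nat_lit 8581568) (BT.leaf (nat_lit 47229461)) (BT.leaf (nat_lit 23708953))) (BT.node (nat_lit 8581696) (BT.leaf (nat_lit 23708957)) (BT.leaf (nat_lit 48314129)))) (BT.node (nat_lit 8581952) (BT.node (nat_lit 8581888) (BT.leaf (nat_lit 50545157)) (BT.leaf (nat_lit 33801737))) (BT.node (nat_lit 8582016) (BT.leaf (nat_lit 27138837)) (BT.leaf (nat_lit 26718753))))) (BT.node (nat_lit 8582528) (BT.node (nat_lit 8582400) (BT.node (nat_lit 8582336) (BT.leaf (nat_lit 23710737)) (BT.leaf (nat_lit 31838981))) (BT.node (nat_lit 8582464) (BT.leaf (nat_lit 23712789)) (BT.leaf (nat_lit 29543453)))) (BT.node (nat_lit 8582784) (BT.node (nat_lit 8582656) (BT.leaf (nat_lit 23713297)) (BT.leaf (nat_lit 40611101))) (BT.node (nat_lit 8582848) (BT.leaf (nat_lit 23713821)) (BT.leaf (nat_lit 23714069)))))) (BT.node (nat_lit 8583552) (BT.node (nat_lit 8583232) (BT.node (nat_lit 8583104) (BT.node (nat_lit 8582976) (BT.leaf (nat_lit 34924037)) (BT.leaf (nat_lit 23714581))) (BT.node (nat_lit 8583168) (BT.leaf (nat_lit 30858757)) (BT.leaf (nat_lit 23714825)))) (BT.node (nat_lit 8583424) (BT.node (nat_lit 8583360) (BT.leaf (nat_lit 23714829)) (BT.leaf (nat_lit 23715093))) (BT.node (nat_lit 8583488) (BT.leaf (nat_lit 23715349)) (BT.leaf (nat_lit 48323617))))) (BT.node (nat_lit 8583872) (BT.node (nat_lit 8583744) (BT.node (nat_lit 8583616) (BT.leaf (nat_lit 48323845)) (BT.leaf (nat_lit 31356165))) (BT.node (nat_lit 8583808) (BT.leaf (nat_lit 23717653)) (BT.leaf (nat_lit 23717657)))) (BT.node (nat_lit 8584000) (BT.node (nat_lit 8583936) (BT.leaf (nat_lit 30011665)) (BT.leaf (nat_lit 23718153))) (BT.node (nat_lit 8584128) (BT.leaf (nat_lit 23718157)) (BT.leaf (nat_lit 23718173))))))) (BT.node (nat_lit 8585792) (BT.node (nat_lit 8584832) (BT.node (nat_lit 8584512) (BT.node (nat_lit 8584384) (BT.node (nat_lit 8584320) (BT.leaf (nat_lit 23718421)) (BT.leaf (nat_lit 33807125))) (BT.node (nat_lit 8584448) (BT.leaf (nat_lit 47302689)) (BT.leaf (nat_lit 23718937)))) (BT.node (nat_lit 8584640) (BT.node (nat_lit 8584576) (BT.leaf (nat_lit 23718941)) (BT.leaf (nat_lit 50551829))) (BT.node (nat_lit 8584768) (BT.leaf (nat_lit 47826453)) (BT.leaf (nat_lit 23719965))))) (BT.node (nat_lit 8585152) (BT.node (nat_lit 8584960) (BT.node (nat_lit 8584896) (BT.leaf (nat_lit 23720209)) (BT.leaf (nat_lit 25545233))) (BT.node (nat_lit 8585088) (BT.leaf (nat_lit 35892757)) (BT.leaf (nat_lit 29805317)))) (BT.node (nat_lit 8585344) (BT.node (nat_lit 8585280) (BT.leaf (nat_lit 23720969)) (BT.leaf (nat_lit 23721233))) (BT.node (nat_lit 8585664) (BT.leaf (nat_lit 23841309)) (BT.leaf (nat_lit 23723793)))))) (BT.node (nat_lit 8586304) (BT.node (nat_lit 8586048) (BT.node (nat_lit 8585920) (BT.node (nat_lit 8585856) (BT.leaf (nat_lit 48455437)) (BT.leaf (nat_lit 50144773))) (BT.node (nat_lit 8585984) (BT.leaf (nat_lit 27965729)) (BT.leaf (nat_lit 36351493)))) (BT.node (nat_lit 8586176) (BT.node (nat_lit 8586112) (BT.leaf (nat_lit 36350981)) (BT.leaf (nat_lit 29543941))) (BT.node (nat_lit 8586240) (BT.leaf (nat_lit 30627845)) (BT.leaf (nat_lit 23726353))))) (BT.node (nat_lit 8586688) (BT.node (nat_lit 8586560) (BT.node (nat_lit 8586496) (BT.leaf (nat_lit 23726613)) (BT.leaf (nat_lit 25534225))) (BT.node (nat_lit 8586624) (BT.leaf (nat_lit 23727645)) (BT.leaf (nat_lit 39055393)))) (BT.node (nat_lit 8586880) (BT.node (nat_lit 8586752) (BT.leaf (nat_lit 23729173)) (BT.leaf (nat_lit 35707141))) (BT.node (nat_lit 8587072) (BT.leaf (nat_lit 23730709)) (BT.leaf (nat_lit 23729941)))))))) (BT.node (nat_lit 8589504) (BT.node (nat_lit 8588288) (BT.node (nat_lit 8587712) (BT.node (nat_lit 8587456) (BT.node (nat_lit 8587264) (BT.node (nat_lit 8587200) (BT.leaf (nat_lit 23729945)) (BT.leaf (nat_lit 23729949))) (BT.node (nat_lit 8587392) (BT.leaf (nat_lit 25218065)) (BT.leaf (nat_lit 37391125)))) (BT.node (nat_lit 8587584) (BT.node (nat_lit 8587520) (BT.leaf (nat_lit 44805137)) (BT.leaf (nat_lit 23730205))) (BT.node (nat_lit 8587648) (BT.leaf (nat_lit 44717849)) (BT.leaf (nat_lit 23730717))))) (BT.node (nat_lit 8588032) (BT.node (nat_lit 8587840) (BT.node (nat_lit 8587776) (BT.leaf (nat_lit 25548305)) (BT.leaf (nat_lit 23730965))) (BT.node (nat_lit 8587904) (BT.leaf (nat_lit 23730969)) (BT.leaf (nat_lit 23730973)))) (BT.node (nat_lit 8588160) (BT.node (nat_lit 8588096) (BT.leaf (nat_lit 23731225)) (BT.leaf (nat_lit 23731229))) (BT.node (nat_lit 8588224) (BT.leaf (nat_lit 35976213)) (BT.leaf (nat_lit 48342305)))))) (BT.node (nat_lit 8588928) (BT.node (nat_lit 8588608) (BT.node (nat_lit 8588480) (BT.node (nat_lit 8588352) (BT.leaf (nat_lit 28871701)) (BT.leaf (nat_lit 50528785))) (BT.node (nat_lit 8588544) (BT.leaf (nat_lit 23734289)) (BT.leaf (nat_lit 34322717)))) (BT.node (nat_lit 8588736) (BT.node (nat_lit 8588672) (BT.leaf (nat_lit 23734801)) (BT.leaf (nat_lit 28712469))) (BT.node (nat_lit 8588800) (BT.leaf (nat_lit 29511173)) (BT.leaf (nat_lit 34318613))))) (BT.node (nat_lit 8589248) (BT.node (nat_lit 8589056) (BT.node (nat_lit 8588992) (BT.leaf (nat_lit 34318365)) (BT.leaf (nat_lit 23737117))) (BT.node (nat_lit 8589184) (BT.leaf (nat_lit 42979101)) (BT.leaf (nat_lit 50548241)))) (BT.node (nat_lit 8589376) (BT.node (nat_lit 8589312) (BT.leaf (nat_lit 50547985)) (BT.leaf (nat_lit 23738649))) (BT.node (nat_lit 8589440) (BT.leaf (nat_lit 23738653)) (BT.leaf (nat_lit 48320529))))))) (BT.node (nat_lit 8590912) (BT.node (nat_lit 8590016) (BT.node (nat_lit 8589760) (BT.node (nat_lit 8589632) (BT.node (nat_lit 8589568) (BT.leaf (nat_lit 23738897)) (BT.leaf (nat_lit 31806745))) (BT.node (nat_lit 8589696) (BT.leaf (nat_lit 48347409)) (BT.leaf (nat_lit 33280285)))) (BT.node (nat_lit 8589888) (BT.node (nat_lit 8589824) (BT.leaf (nat_lit 23740433)) (BT.leaf (nat_lit 23740693))) (BT.node (nat_lit 8589952) (BT.leaf (nat_lit 50227461)) (BT.leaf (nat_lit 23741205))))) (BT.node (nat_lit 8590528) (BT.node (nat_lit 8590208) (BT.node (nat_lit 8590080) (BT.leaf (nat_lit 23741713)) (BT.leaf (nat_lit 23742233))) (BT.node (nat_lit 8590272) (BT.leaf (nat_lit 23742481)) (BT.leaf (nat_lit 23742749)))) (BT.node (nat_lit 8590656) (BT.node (nat_lit 8590592) (BT.leaf (nat_lit 23743505)) (BT.leaf (nat_lit 47873825))) (BT.node (nat_lit 8590848) (BT.leaf (nat_lit 23743773)) (BT.leaf (nat_lit 43414805)))))) (BT.node (nat_lit 8591552) (BT.node (nat_lit 8591168) (BT.node (nat_lit 8591040) (BT.node (nat_lit 8590976) (BT.leaf (nat_lit 33717281)) (BT.leaf (nat_lit 24364305))) (BT.node (nat_lit 8591104) (BT.leaf (nat_lit 23744529)) (BT.leaf (nat_lit 46863377)))) (BT.node (nat_lit 8591424) (BT.node (nat_lit 8591360) (BT.leaf (nat_lit 23745045)) (BT.leaf (nat_lit 35696409))) (BT.node (nat_lit 8591488) (BT.leaf (nat_lit 23745813)) (BT.leaf (nat_lit 23745817))))) (BT.node (nat_lit 8591872) (BT.node (nat_lit 8591744) (BT.node (nat_lit 8591680) (BT.leaf (nat_lit 23745821)) (BT.leaf (nat_lit 23746073))) (BT.node (nat_lit 8591808) (BT.leaf (nat_lit 25223441)) (BT.leaf (nat_lit 23746325)))) (BT.node (nat_lit 8592064) (BT.node (nat_lit 8592000) (BT.leaf (nat_lit 23746577)) (BT.leaf (nat_lit 25428505))) (BT.node (nat_lit 8592128) (BT.leaf (nat_lit 49703969)) (BT.leaf (nat_lit 28878097))))))))) (BT.node (nat_lit 8596800) (BT.node (nat_lit 8594368) (BT.node (nat_lit 8593280) (BT.node (nat_lit 8592768) (BT.node (nat_lit 8592512) (BT.node (nat_lit 8592384) (BT.node (nat_lit 8592256) (BT.leaf (nat_lit 24796677)) (BT.leaf (nat_lit 50569749))) (BT.node (nat_lit 8592448) (BT.leaf (nat_lit 23749913)) (BT.leaf (nat_lit 23749917)))) (BT.node (nat_lit 8592640) (BT.node (nat_lit 8592576) (BT.leaf (nat_lit 48713989)) (BT.leaf (nat_lit 30325789))) (BT.node (nat_lit 8592704) (BT.leaf (nat_lit 23750929)) (BT.leaf (nat_lit 35898397))))) (BT.node (nat_lit 8593024) (BT.node (nat_lit 8592896) (BT.node (nat_lit 8592832) (BT.leaf (nat_lit 23751189)) (BT.leaf (nat_lit 33723673))) (BT.node (nat_lit 8592960) (BT.leaf (nat_lit 25099013)) (BT.leaf (nat_lit 35778845)))) (BT.node (nat_lit 8593152) (BT.node (nat_lit 8593088) (BT.leaf (nat_lit 33720601)) (BT.leaf (nat_lit 36339209))) (BT.node (nat_lit 8593216) (BT.leaf (nat_lit 50572305)) (BT.leaf (nat_lit 36091165)))))) (BT.node (nat_lit 8593856) (BT.node (nat_lit 8593600) (BT.node (nat_lit 8593472) (BT.node (nat_lit 8593408) (BT.leaf (nat_lit 34971141)) (BT.leaf (nat_lit 50573589))) (BT.node (nat_lit 8593536) (BT.leaf (nat_lit 23755037)) (BT.leaf (nat_lit 34110217)))) (BT.node (nat_lit 8593728) (BT.node (nat_lit 8593664) (BT.leaf (nat_lit 23755281)) (BT.leaf (nat_lit 25566481))) (BT.node (nat_lit 8593792) (BT.leaf (nat_lit 35844373)) (BT.leaf (nat_lit 23756825))))) (BT.node (nat_lit 8594112) (BT.node (nat_lit 8593984) (BT.node (nat_lit 8593920) (BT.leaf (nat_lit 23757073)) (BT.leaf (nat_lit 35513885))) (BT.node (nat_lit 8594048) (BT.leaf (nat_lit 23757329)) (BT.leaf (nat_lit 50575129)))) (BT.node (nat_lit 8594240) (BT.node (nat_lit 8594176) (BT.leaf (nat_lit 35844125)) (BT.leaf (nat_lit 23758097))) (BT.node (nat_lit 8594304) (BT.leaf (nat_lit 23758357)) (BT.leaf (nat_lit 23758609))))))) (BT.node (nat_lit 8595520) (BT.node (nat_lit 8595008) (BT.node (nat_lit 8594688) (BT.node (nat_lit 8594560) (BT.node (nat_lit 8594432) (BT.leaf (nat_lit 23759121)) (BT.leaf (nat_lit 46573333))) (BT.node (nat_lit 8594624) (BT.leaf (nat_lit 23759641)) (BT.leaf (nat_lit 23759645)))) (BT.node (nat_lit 8594880) (BT.node (nat_lit 8594816) (BT.leaf (nat_lit 37196549)) (BT.leaf (nat_lit 23760149))) (BT.node (nat_lit 8594944) (BT.leaf (nat_lit 23760405)) (BT.leaf (nat_lit 32856581))))) (BT.node (nat_lit 8595264) (BT.node (nat_lit 8595136) (BT.node (nat_lit 8595072) (BT.leaf (nat_lit 23761169)) (BT.leaf (nat_lit 25176605))) (BT.node (nat_lit 8595200) (BT.leaf (nat_lit 43475461)) (BT.leaf (nat_lit 23761937)))) (BT.node (nat_lit 8595392) (BT.node (nat_lit 8595328) (BT.leaf (nat_lit 33260061)) (BT.leaf (nat_lit 23762453))) (BT.node (nat_lit 8595456) (BT.leaf (nat_lit 50577697)) (BT.leaf (nat_lit 34202901)))))) (BT.node (nat_lit 8596096) (BT.node (nat_lit 8595840) (BT.node (nat_lit 8595648) (BT.node (nat_lit 8595584) (BT.leaf (nat_lit 25493273)) (BT.leaf (nat_lit 51156001))) (BT.node (nat_lit 8595776) (BT.leaf (nat_lit 34237725)) (BT.leaf (nat_lit 25401361)))) (BT.node (nat_lit 8595968) (BT.node (nat_lit 8595904) (BT.leaf (nat_lit 23765789)) (BT.leaf (nat_lit 25566993))) (BT.node (nat_lit 8596032) (BT.leaf (nat_lit 50578949)) (BT.leaf (nat_lit 23766045))))) (BT.node (nat_lit 8596352) (BT.node (nat_lit 8596224) (BT.node (nat_lit 8596160) (BT.leaf (nat_lit 50579745)) (BT.leaf (nat_lit 50580001))) (BT.node (nat_lit 8596288) (BT.leaf (nat_lit 26470677)) (BT.leaf (nat_lit 25328665)))) (BT.node (nat_lit 8596608) (BT.node (nat_lit 8596416) (BT.leaf (nat_lit 30835729)) (BT.leaf (nat_lit 37178117))) (BT.node (nat_lit 8596672) (BT.leaf (nat_lit 23767317)) (BT.leaf (nat_lit 48036373)))))))) (BT.node (nat_lit 8599296) (BT.node (nat_lit 8598016) (BT.node (nat_lit 8597376) (BT.node (nat_lit 8597120) (BT.node (nat_lit 8596928) (BT.node (nat_lit 8596864) (BT.leaf (nat_lit 48592929)) (BT.leaf (nat_lit 48592673))) (BT.node (nat_lit 8596992) (BT.leaf (nat_lit 47638037)) (BT.leaf (nat_lit 34151705)))) (BT.node (nat_lit 8597248) (BT.node (nat_lit 8597184) (BT.leaf (nat_lit 43327009)) (BT.leaf (nat_lit 42766369))) (BT.node (nat_lit 8597312) (BT.leaf (nat_lit 46005281)) (BT.leaf (nat_lit 50581025))))) (BT.node (nat_lit 8597760) (BT.node (nat_lit 8597504) (BT.node (nat_lit 8597440) (BT.leaf (nat_lit 43326989)) (BT.leaf (nat_lit 50350109))) (BT.node (nat_lit 8597696) (BT.leaf (nat_lit 33829409)) (BT.leaf (nat_lit 29145877)))) (BT.node (nat_lit 8597888) (BT.node (nat_lit 8597824) (BT.leaf (nat_lit 23771157)) (BT.leaf (nat_lit 34391581))) (BT.node (nat_lit 8597952) (BT.leaf (nat_lit 47949585)) (BT.leaf (nat_lit 23771417)))))) (BT.node (nat_lit 8598592) (BT.node (nat_lit 8598272) (BT.node (nat_lit 8598144) (BT.node (nat_lit 8598080) (BT.leaf (nat_lit 47624721)) (BT.leaf (nat_lit 23771669))) (BT.node (nat_lit 8598208) (BT.leaf (nat_lit 23771909)) (BT.leaf (nat_lit 23771921)))) (BT.node (nat_lit 8598400) (BT.node (nat_lit 8598336) (BT.leaf (nat_lit 23772185)) (BT.leaf (nat_lit 23772189))) (BT.node (nat_lit 8598464) (BT.leaf (nat_lit 23772941)) (BT.leaf (nat_lit 35118357))))) (BT.node (nat_lit 8598976) (BT.node (nat_lit 8598720) (BT.node (nat_lit 8598656) (BT.leaf (nat_lit 23773457)) (BT.leaf (nat_lit 34896665))) (BT.node (nat_lit 8598784) (BT.leaf (nat_lit 34394649)) (BT.leaf (nat_lit 34119441)))) (BT.node (nat_lit 8599168) (BT.node (nat_lit 8599040) (BT.leaf (nat_lit 23775001)) (BT.leaf (nat_lit 23775005))) (BT.node (nat_lit 8599232) (BT.leaf (nat_lit 23775505)) (BT.leaf (nat_lit 23776017))))))) (BT.node (nat_lit 8600832) (BT.node (nat_lit 8600000) (BT.node (nat_lit 8599616) (BT.node (nat_lit 8599424) (BT.node (nat_lit 8599360) (BT.leaf (nat_lit 23775765)) (BT.leaf (nat_lit 23776021))) (BT.node (nat_lit 8599488) (BT.leaf (nat_lit 24082205)) (BT.leaf (nat_lit 23776785)))) (BT.node (nat_lit 8599808) (BT.node (nat_lit 8599680) (BT.leaf (nat_lit 50586645)) (BT.leaf (nat_lit 23777297))) (BT.node (nat_lit 8599872) (BT.leaf (nat_lit 30375445)) (BT.leaf (nat_lit 30376733))))) (BT.node (nat_lit 8600320) (BT.node (nat_lit 8600128) (BT.node (nat_lit 8600064) (BT.leaf (nat_lit 23777565)) (BT.leaf (nat_lit 23777569))) (BT.node (nat_lit 8600256) (BT.leaf (nat_lit 23777813)) (BT.leaf (nat_lit 23778577)))) (BT.node (nat_lit 8600640) (BT.node (nat_lit 8600384) (BT.leaf (nat_lit 25906977)) (BT.leaf (nat_lit 46591493))) (BT.node (nat_lit 8600704) (BT.leaf (nat_lit 50587157)) (BT.leaf (nat_lit 50587425)))))) (BT.node (nat_lit 8601600) (BT.node (nat_lit 8601280) (BT.node (nat_lit 8601088) (BT.node (nat_lit 8601024) (BT.leaf (nat_lit 50587937)) (BT.leaf (nat_lit 30726677))) (BT.node (nat_lit 8601216) (BT.leaf (nat_lit 23782421)) (BT.leaf (nat_lit 23784217)))) (BT.node (nat_lit 8601472) (BT.node (nat_lit 8601344) (BT.leaf (nat_lit 33425437)) (BT.leaf (nat_lit 26587409))) (BT.node (nat_lit 8601536) (BT.leaf (nat_lit 50588705)) (BT.leaf (nat_lit 50293793))))) (BT.node (nat_lit 8601920) (BT.node (nat_lit 8601728) (BT.node (nat_lit 8601664) (BT.leaf (nat_lit 50070561)) (BT.leaf (nat_lit 23785489))) (BT.node (nat_lit 8601792) (BT.leaf (nat_lit 25453585)) (BT.leaf (nat_lit 47733765)))) (BT.node (nat_lit 8602048) (BT.node (nat_lit 8601984) (BT.leaf (nat_lit 49087009)) (BT.leaf (nat_lit 23786777))) (BT.node (nat_lit 8602240) (BT.leaf (nat_lit 23786781)) (BT.leaf (nat_lit 50589717)))))))))))))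
noncomputable def big0_e65536 : BT Nat := (BT.node (nat_lit 8688832) (BT.node (nat_lit 8645824) (BT.node (nat_lit 8623552) (BT.node (nat_lit 8612416) (BT.node (nat_lit 8607360) (BT.node (nat_lit 8604992) (BT.node (nat_lit 8603648) (BT.node (nat_lit 8603008) (BT.node (nat_lit 8602688) (BT.node (nat_lit 8602432) (BT.node (nat_lit 8602368) (BT.leaf (nat_lit 50589973)) (BT.leaf (nat_lit 38327581))) (BT.node (nat_lit 8602624) (BT.leaf (nat_lit 50590217)) (BT.leaf (nat_lit 23789333)))) (BT.node (nat_lit 8602816) (BT.node (nat_lit 8602752) (BT.leaf (nat_lit 23789597)) (BT.leaf (nat_lit 50590481))) (BT.node (nat_lit 8602944) (BT.leaf (nat_lit 34435845)) (BT.leaf (nat_lit 34373665))))) (BT.node (nat_lit 8603328) (BT.node (nat_lit 8603200) (BT.node (nat_lit 8603136) (BT.leaf (nat_lit 46552593)) (BT.leaf (nat_lit 43622165))) (BT.node (nat_lit 8603264) (BT.leaf (nat_lit 23816461)) (BT.leaf (nat_lit 23791889)))) (BT.node (nat_lit 8603456) (BT.node (nat_lit 8603392) (BT.leaf (nat_lit 25580053)) (BT.leaf (nat_lit 33836317))) (BT.node (nat_lit 8603584) (BT.leaf (nat_lit 25579793)) (BT.leaf (nat_lit 23792153)))))) (BT.node (nat_lit 8604160) (BT.node (nat_lit 8603904) (BT.node (nat_lit 8603776) (BT.node (nat_lit 8603712) (BT.leaf (nat_lit 35626525)) (BT.leaf (nat_lit 23792405))) (BT.node (nat_lit 8603840) (BT.leaf (nat_lit 50592277)) (BT.leaf (nat_lit 23793669)))) (BT.node (nat_lit 8604032) (BT.node (nat_lit 8603968) (BT.leaf (nat_lit 50592785)) (BT.leaf (nat_lit 23793437))) (BT.node (nat_lit 8604096) (BT.leaf (nat_lit 35862797)) (BT.leaf (nat_lit 23793937))))) (BT.node (nat_lit 8604480) (BT.node (nat_lit 8604288) (BT.node (nat_lit 8604224) (BT.leaf (nat_lit 50593297)) (BT.leaf (nat_lit 23794449))) (BT.node (nat_lit 8604352) (BT.leaf (nat_lit 23794717)) (BT.leaf (nat_lit 25581601)))) (BT.node (nat_lit 8604736) (BT.node (nat_lit 8604608) (BT.leaf (nat_lit 50593557)) (BT.leaf (nat_lit 23796245))) (BT.node (nat_lit 8604928) (BT.leaf (nat_lit 50442773)) (BT.leaf (nat_lit 27207953))))))) (BT.node (nat_lit 8606080) (BT.node (nat_lit 8605568) (BT.node (nat_lit 8605312) (BT.node (nat_lit 8605184) (BT.node (nat_lit 8605056) (BT.leaf (nat_lit 35360289)) (BT.leaf (nat_lit 35360033))) (BT.node (nat_lit 8605248) (BT.leaf (nat_lit 50595849)) (BT.leaf (nat_lit 31222813)))) (BT.node (nat_lit 8605440) (BT.node (nat_lit 8605376) (BT.leaf (nat_lit 35096081)) (BT.leaf (nat_lit 49723413))) (BT.node (nat_lit 8605504) (BT.leaf (nat_lit 35353625)) (BT.leaf (nat_lit 23802901))))) (BT.node (nat_lit 8605824) (BT.node (nat_lit 8605696) (BT.node (nat_lit 8605632) (BT.leaf (nat_lit 32889629)) (BT.leaf (nat_lit 48426001))) (BT.node (nat_lit 8605760) (BT.leaf (nat_lit 48426017)) (BT.leaf (nat_lit 34610457)))) (BT.node (nat_lit 8605952) (BT.node (nat_lit 8605888) (BT.leaf (nat_lit 34581785)) (BT.leaf (nat_lit 34423837))) (BT.node (nat_lit 8606016) (BT.leaf (nat_lit 25916421)) (BT.leaf (nat_lit 33851657)))))) (BT.node (nat_lit 8606656) (BT.node (nat_lit 8606400) (BT.node (nat_lit 8606208) (BT.node (nat_lit 8606144) (BT.leaf (nat_lit 32713989)) (BT.leaf (nat_lit 23804437))) (BT.node (nat_lit 8606272) (BT.leaf (nat_lit 46922513)) (BT.leaf (nat_lit 34424857)))) (BT.node (nat_lit 8606528) (BT.node (nat_lit 8606464) (BT.leaf (nat_lit 26286353)) (BT.leaf (nat_lit 36286993))) (BT.node (nat_lit 8606592) (BT.leaf (nat_lit 36287505)) (BT.leaf (nat_lit 23805465))))) (BT.node (nat_lit 8606976) (BT.node (nat_lit 8606848) (BT.node (nat_lit 8606784) (BT.leaf (nat_lit 23805469)) (BT.leaf (nat_lit 34343941))) (BT.node (nat_lit 8606912) (BT.leaf (nat_lit 23807001)) (BT.leaf (nat_lit 35014941)))) (BT.node (nat_lit 8607232) (BT.node (nat_lit 8607040) (BT.leaf (nat_lit 23807769)) (BT.leaf (nat_lit 31824389))) (BT.node (nat_lit 8607296) (BT.leaf (nat_lit 46355205)) (BT.leaf (nat_lit 36832785)))))))) (BT.node (nat_lit 8609728) (BT.node (nat_lit 8608448) (BT.node (nat_lit 8607936) (BT.node (nat_lit 8607616) (BT.node (nat_lit 8607488) (BT.node (nat_lit 8607424) (BT.leaf (nat_lit 34682385)) (BT.leaf (nat_lit 39456533))) (BT.node (nat_lit 8607552) (BT.leaf (nat_lit 23810073)) (BT.leaf (nat_lit 23810077)))) (BT.node (nat_lit 8607808) (BT.node (nat_lit 8607680) (BT.leaf (nat_lit 23810321)) (BT.leaf (nat_lit 23810577))) (BT.node (nat_lit 8607872) (BT.leaf (nat_lit 23811345)) (BT.leaf (nat_lit 23811601))))) (BT.node (nat_lit 8608192) (BT.node (nat_lit 8608064) (BT.node (nat_lit 8608000) (BT.leaf (nat_lit 25045789)) (BT.leaf (nat_lit 23812625))) (BT.node (nat_lit 8608128) (BT.leaf (nat_lit 24633621)) (BT.leaf (nat_lit 27921669)))) (BT.node (nat_lit 8608320) (BT.node (nat_lit 8608256) (BT.leaf (nat_lit 23813657)) (BT.leaf (nat_lit 23813661))) (BT.node (nat_lit 8608384) (BT.leaf (nat_lit 23814161)) (BT.leaf (nat_lit 23814425)))))) (BT.node (nat_lit 8609024) (BT.node (nat_lit 8608768) (BT.node (nat_lit 8608576) (BT.node (nat_lit 8608512) (BT.leaf (nat_lit 23814429)) (BT.leaf (nat_lit 46360581))) (BT.node (nat_lit 8608640) (BT.leaf (nat_lit 34434589)) (BT.leaf (nat_lit 26744593)))) (BT.node (nat_lit 8608896) (BT.node (nat_lit 8608832) (BT.leaf (nat_lit 23815201)) (BT.leaf (nat_lit 23816209))) (BT.node (nat_lit 8608960) (BT.leaf (nat_lit 23816465)) (BT.leaf (nat_lit 25584665))))) (BT.node (nat_lit 8609344) (BT.node (nat_lit 8609216) (BT.node (nat_lit 8609088) (BT.leaf (nat_lit 33556513)) (BT.leaf (nat_lit 33556769))) (BT.node (nat_lit 8609280) (BT.leaf (nat_lit 50603273)) (BT.leaf (nat_lit 30049297)))) (BT.node (nat_lit 8609536) (BT.node (nat_lit 8609472) (BT.leaf (nat_lit 31078669)) (BT.leaf (nat_lit 25585417))) (BT.node (nat_lit 8609600) (BT.leaf (nat_lit 26797081)) (BT.leaf (nat_lit 36417553))))))) (BT.node (nat_lit 8611136) (BT.node (nat_lit 8610240) (BT.node (nat_lit 8609984) (BT.node (nat_lit 8609856) (BT.node (nat_lit 8609792) (BT.leaf (nat_lit 23819285)) (BT.leaf (nat_lit 34760709))) (BT.node (nat_lit 8609920) (BT.leaf (nat_lit 35862545)) (BT.leaf (nat_lit 23821073)))) (BT.node (nat_lit 8610112) (BT.node (nat_lit 8610048) (BT.leaf (nat_lit 26356229)) (BT.leaf (nat_lit 25782277))) (BT.node (nat_lit 8610176) (BT.leaf (nat_lit 23822097)) (BT.leaf (nat_lit 41182477))))) (BT.node (nat_lit 8610688) (BT.node (nat_lit 8610496) (BT.node (nat_lit 8610304) (BT.leaf (nat_lit 25852701)) (BT.leaf (nat_lit 34162721))) (BT.node (nat_lit 8610560) (BT.leaf (nat_lit 23822865)) (BT.leaf (nat_lit 25782021)))) (BT.node (nat_lit 8610880) (BT.node (nat_lit 8610752) (BT.leaf (nat_lit 28158233)) (BT.leaf (nat_lit 23823889))) (BT.node (nat_lit 8611072) (BT.leaf (nat_lit 50431249)) (BT.leaf (nat_lit 23824405)))))) (BT.node (nat_lit 8611840) (BT.node (nat_lit 8611520) (BT.node (nat_lit 8611392) (BT.node (nat_lit 8611264) (BT.leaf (nat_lit 41189381)) (BT.leaf (nat_lit 23825425))) (BT.node (nat_lit 8611456) (BT.leaf (nat_lit 23827741)) (BT.leaf (nat_lit 50343689)))) (BT.node (nat_lit 8611712) (BT.node (nat_lit 8611648) (BT.leaf (nat_lit 37890077)) (BT.leaf (nat_lit 37890057))) (BT.node (nat_lit 8611776) (BT.leaf (nat_lit 50609697)) (BT.leaf (nat_lit 30011157))))) (BT.node (nat_lit 8612160) (BT.node (nat_lit 8611968) (BT.node (nat_lit 8611904) (BT.leaf (nat_lit 27703569)) (BT.leaf (nat_lit 49138961))) (BT.node (nat_lit 8612032) (BT.leaf (nat_lit 23827989)) (BT.leaf (nat_lit 23828241)))) (BT.node (nat_lit 8612288) (BT.node (nat_lit 8612224) (BT.leaf (nat_lit 23829013)) (BT.leaf (nat_lit 23829017))) (BT.node (nat_lit 8612352) (BT.leaf (nat_lit 23976985)) (BT.leaf (nat_lit 47041033))))))))) (BT.node (nat_lit 8617728) (BT.node (nat_lit 8614784) (BT.node (nat_lit 8613568) (BT.node (nat_lit 8612992) (BT.node (nat_lit 8612736) (BT.node (nat_lit 8612608) (BT.node (nat_lit 8612480) (BT.leaf (nat_lit 51703301)) (BT.leaf (nat_lit 46692633))) (BT.node (nat_lit 8612672) (BT.leaf (nat_lit 23835169)) (BT.leaf (nat_lit 23833365)))) (BT.node (nat_lit 8612864) (BT.node (nat_lit 8612800) (BT.leaf (nat_lit 28092945)) (BT.leaf (nat_lit 23833621))) (BT.node (nat_lit 8612928) (BT.leaf (nat_lit 46702353)) (BT.leaf (nat_lit 34451481))))) (BT.node (nat_lit 8613248) (BT.node (nat_lit 8613120) (BT.node (nat_lit 8613056) (BT.leaf (nat_lit 51343377)) (BT.leaf (nat_lit 23833877))) (BT.node (nat_lit 8613184) (BT.leaf (nat_lit 23834389)) (BT.leaf (nat_lit 34518289)))) (BT.node (nat_lit 8613440) (BT.node (nat_lit 8613312) (BT.leaf (nat_lit 50613525)) (BT.leaf (nat_lit 25729553))) (BT.node (nat_lit 8613504) (BT.leaf (nat_lit 24161561)) (BT.leaf (nat_lit 23836433)))))) (BT.node (nat_lit 8614144) (BT.node (nat_lit 8613888) (BT.node (nat_lit 8613696) (BT.node (nat_lit 8613632) (BT.leaf (nat_lit 33299213)) (BT.leaf (nat_lit 23837717))) (BT.node (nat_lit 8613760) (BT.leaf (nat_lit 34517265)) (BT.leaf (nat_lit 34454809)))) (BT.node (nat_lit 8614016) (BT.node (nat_lit 8613952) (BT.leaf (nat_lit 27516185)) (BT.leaf (nat_lit 23838229))) (BT.node (nat_lit 8614080) (BT.leaf (nat_lit 23838485)) (BT.leaf (nat_lit 23838741))))) (BT.node (nat_lit 8614400) (BT.node (nat_lit 8614272) (BT.node (nat_lit 8614208) (BT.leaf (nat_lit 49884945)) (BT.leaf (nat_lit 36010769))) (BT.node (nat_lit 8614336) (BT.leaf (nat_lit 23839001)) (BT.leaf (nat_lit 23839005)))) (BT.node (nat_lit 8614656) (BT.node (nat_lit 8614464) (BT.leaf (nat_lit 25842209)) (BT.leaf (nat_lit 25842465))) (BT.node (nat_lit 8614720) (BT.leaf (nat_lit 46766097)) (BT.leaf (nat_lit 33303821))))))) (BT.node (nat_lit 8616256) (BT.node (nat_lit 8615424) (BT.node (nat_lit 8615168) (BT.node (nat_lit 8615040) (BT.node (nat_lit 8614976) (BT.leaf (nat_lit 47633173)) (BT.leaf (nat_lit 23841809))) (BT.node (nat_lit 8615104) (BT.leaf (nat_lit 23842321)) (BT.leaf (nat_lit 23842577)))) (BT.node (nat_lit 8615296) (BT.node (nat_lit 8615232) (BT.leaf (nat_lit 23842833)) (BT.leaf (nat_lit 35533597))) (BT.node (nat_lit 8615360) (BT.leaf (nat_lit 30001953)) (BT.leaf (nat_lit 40848649))))) (BT.node (nat_lit 8615680) (BT.node (nat_lit 8615552) (BT.node (nat_lit 8615488) (BT.leaf (nat_lit 46353161)) (BT.leaf (nat_lit 49111841))) (BT.node (nat_lit 8615616) (BT.leaf (nat_lit 30275605)) (BT.leaf (nat_lit 27825177)))) (BT.node (nat_lit 8615808) (BT.node (nat_lit 8615744) (BT.leaf (nat_lit 23844881)) (BT.leaf (nat_lit 23845137))) (BT.node (nat_lit 8616192) (BT.leaf (nat_lit 33196825)) (BT.leaf (nat_lit 23846677)))))) (BT.node (nat_lit 8617024) (BT.node (nat_lit 8616640) (BT.node (nat_lit 8616512) (BT.node (nat_lit 8616320) (BT.leaf (nat_lit 23847441)) (BT.leaf (nat_lit 50257681))) (BT.node (nat_lit 8616576) (BT.leaf (nat_lit 50286357)) (BT.leaf (nat_lit 23848469)))) (BT.node (nat_lit 8616832) (BT.node (nat_lit 8616768) (BT.leaf (nat_lit 48636165)) (BT.leaf (nat_lit 50622993))) (BT.node (nat_lit 8616896) (BT.leaf (nat_lit 23849489)) (BT.leaf (nat_lit 48509713))))) (BT.node (nat_lit 8617344) (BT.node (nat_lit 8617152) (BT.node (nat_lit 8617088) (BT.leaf (nat_lit 23851537)) (BT.leaf (nat_lit 25605137))) (BT.node (nat_lit 8617216) (BT.leaf (nat_lit 23851801)) (BT.leaf (nat_lit 34865173)))) (BT.node (nat_lit 8617600) (BT.node (nat_lit 8617536) (BT.leaf (nat_lit 47987717)) (BT.leaf (nat_lit 50624537))) (BT.node (nat_lit 8617664) (BT.leaf (nat_lit 50625045)) (BT.leaf (nat_lit 23853341)))))))) (BT.node (nat_lit 8620800) (BT.node (nat_lit 8619328) (BT.node (nat_lit 8618432) (BT.node (nat_lit 8618176) (BT.node (nat_lit 8617856) (BT.node (nat_lit 8617792) (BT.leaf (nat_lit 36141849)) (BT.leaf (nat_lit 34434565))) (BT.node (nat_lit 8618112) (BT.leaf (nat_lit 23855889)) (BT.leaf (nat_lit 23857169)))) (BT.node (nat_lit 8618304) (BT.node (nat_lit 8618240) (BT.leaf (nat_lit 23857425)) (BT.leaf (nat_lit 23857681))) (BT.node (nat_lit 8618368) (BT.leaf (nat_lit 37189153)) (BT.leaf (nat_lit 47338521))))) (BT.node (nat_lit 8618880) (BT.node (nat_lit 8618560) (BT.node (nat_lit 8618496) (BT.leaf (nat_lit 37189637)) (BT.leaf (nat_lit 46635525))) (BT.node (nat_lit 8618752) (BT.leaf (nat_lit 33041669)) (BT.leaf (nat_lit 46872073)))) (BT.node (nat_lit 8619136) (BT.node (nat_lit 8618944) (BT.leaf (nat_lit 23859729)) (BT.leaf (nat_lit 23859989))) (BT.node (nat_lit 8619264) (BT.leaf (nat_lit 34076945)) (BT.leaf (nat_lit 26428697)))))) (BT.node (nat_lit 8620032) (BT.node (nat_lit 8619648) (BT.node (nat_lit 8619520) (BT.node (nat_lit 8619392) (BT.leaf (nat_lit 33040657)) (BT.leaf (nat_lit 34477337))) (BT.node (nat_lit 8619584) (BT.leaf (nat_lit 23861269)) (BT.leaf (nat_lit 46900753)))) (BT.node (nat_lit 8619776) (BT.node (nat_lit 8619712) (BT.leaf (nat_lit 24230169)) (BT.leaf (nat_lit 23862545))) (BT.node (nat_lit 8619968) (BT.leaf (nat_lit 39444765)) (BT.leaf (nat_lit 32852741))))) (BT.node (nat_lit 8620416) (BT.node (nat_lit 8620160) (BT.node (nat_lit 8620096) (BT.leaf (nat_lit 23863581)) (BT.leaf (nat_lit 46972957))) (BT.node (nat_lit 8620288) (BT.leaf (nat_lit 23864081)) (BT.leaf (nat_lit 23864337)))) (BT.node (nat_lit 8620608) (BT.node (nat_lit 8620544) (BT.leaf (nat_lit 23864849)) (BT.leaf (nat_lit 23865361))) (BT.node (nat_lit 8620672) (BT.leaf (nat_lit 23865365)) (BT.leaf (nat_lit 23865617))))))) (BT.node (nat_lit 8622272) (BT.node (nat_lit 8621568) (BT.node (nat_lit 8621184) (BT.node (nat_lit 8621056) (BT.node (nat_lit 8620928) (BT.leaf (nat_lit 38866965)) (BT.leaf (nat_lit 48323349))) (BT.node (nat_lit 8621120) (BT.leaf (nat_lit 40743177)) (BT.leaf (nat_lit 50631953)))) (BT.node (nat_lit 8621440) (BT.node (nat_lit 8621312) (BT.leaf (nat_lit 31729953)) (BT.leaf (nat_lit 34306337))) (BT.node (nat_lit 8621504) (BT.leaf (nat_lit 23868433)) (BT.leaf (nat_lit 23868689))))) (BT.node (nat_lit 8622016) (BT.node (nat_lit 8621696) (BT.node (nat_lit 8621632) (BT.leaf (nat_lit 23868949)) (BT.leaf (nat_lit 23868953))) (BT.node (nat_lit 8621824) (BT.leaf (nat_lit 23868957)) (BT.leaf (nat_lit 23870225)))) (BT.node (nat_lit 8622144) (BT.node (nat_lit 8622080) (BT.leaf (nat_lit 23870737)) (BT.leaf (nat_lit 25870109))) (BT.node (nat_lit 8622208) (BT.leaf (nat_lit 25584409)) (BT.leaf (nat_lit 23871509)))))) (BT.node (nat_lit 8622912) (BT.node (nat_lit 8622528) (BT.node (nat_lit 8622400) (BT.node (nat_lit 8622336) (BT.leaf (nat_lit 33625117)) (BT.leaf (nat_lit 29571105))) (BT.node (nat_lit 8622464) (BT.leaf (nat_lit 23872789)) (BT.leaf (nat_lit 50634781)))) (BT.node (nat_lit 8622784) (BT.node (nat_lit 8622592) (BT.leaf (nat_lit 23876625)) (BT.leaf (nat_lit 23876629))) (BT.node (nat_lit 8622848) (BT.leaf (nat_lit 26035481)) (BT.leaf (nat_lit 23877917))))) (BT.node (nat_lit 8623232) (BT.node (nat_lit 8623040) (BT.node (nat_lit 8622976) (BT.leaf (nat_lit 23877913)) (BT.leaf (nat_lit 23877909))) (BT.node (nat_lit 8623168) (BT.leaf (nat_lit 25614097)) (BT.leaf (nat_lit 34452741)))) (BT.node (nat_lit 8623360) (BT.node (nat_lit 8623296) (BT.leaf (nat_lit 23879697)) (BT.leaf (nat_lit 50613793))) (BT.node (nat_lit 8623424) (BT.leaf (nat_lit 23879965)) (BT.leaf (nat_lit 33120785)))))))))) (BT.node (nat_lit 8634304) (BT.node (nat_lit 8628672) (BT.node (nat_lit 8626176) (BT.node (nat_lit 8624960) (BT.node (nat_lit 8624384) (BT.node (nat_lit 8623808) (BT.node (nat_lit 8623680) (BT.node (nat_lit 8623616) (BT.leaf (nat_lit 23880725)) (BT.leaf (nat_lit 31223321))) (BT.node (nat_lit 8623744) (BT.leaf (nat_lit 32751389)) (BT.leaf (nat_lit 23880977)))) (BT.node (nat_lit 8623936) (BT.node (nat_lit 8623872) (BT.leaf (nat_lit 23881237)) (BT.leaf (nat_lit 23881245))) (BT.node (nat_lit 8624320) (BT.leaf (nat_lit 50636573)) (BT.leaf (nat_lit 32906757))))) (BT.node (nat_lit 8624704) (BT.node (nat_lit 8624512) (BT.node (nat_lit 8624448) (BT.leaf (nat_lit 47443477)) (BT.leaf (nat_lit 35349509))) (BT.node (nat_lit 8624640) (BT.leaf (nat_lit 35349765)) (BT.leaf (nat_lit 24733973)))) (BT.node (nat_lit 8624832) (BT.node (nat_lit 8624768) (BT.leaf (nat_lit 49272097)) (BT.leaf (nat_lit 24586261))) (BT.node (nat_lit 8624896) (BT.leaf (nat_lit 32587789)) (BT.leaf (nat_lit 34134293)))))) (BT.node (nat_lit 8625472) (BT.node (nat_lit 8625216) (BT.node (nat_lit 8625088) (BT.node (nat_lit 8625024) (BT.leaf (nat_lit 25060381)) (BT.leaf (nat_lit 23884305))) (BT.node (nat_lit 8625152) (BT.leaf (nat_lit 33301017)) (BT.leaf (nat_lit 46851337)))) (BT.node (nat_lit 8625344) (BT.node (nat_lit 8625280) (BT.leaf (nat_lit 33900565)) (BT.leaf (nat_lit 23885589))) (BT.node (nat_lit 8625408) (BT.leaf (nat_lit 29040901)) (BT.leaf (nat_lit 48566049))))) (BT.node (nat_lit 8625728) (BT.node (nat_lit 8625600) (BT.node (nat_lit 8625536) (BT.leaf (nat_lit 23885833)) (BT.leaf (nat_lit 47297821))) (BT.node (nat_lit 8625664) (BT.leaf (nat_lit 25618965)) (BT.leaf (nat_lit 23885857)))) (BT.node (nat_lit 8625856) (BT.node (nat_lit 8625792) (BT.leaf (nat_lit 23886101)) (BT.leaf (nat_lit 25245465))) (BT.node (nat_lit 8625920) (BT.leaf (nat_lit 23887121)) (BT.leaf (nat_lit 28340257))))))) (BT.node (nat_lit 8627392) (BT.node (nat_lit 8626880) (BT.node (nat_lit 8626624) (BT.node (nat_lit 8626432) (BT.node (nat_lit 8626240) (BT.leaf (nat_lit 29330965)) (BT.leaf (nat_lit 23888157))) (BT.node (nat_lit 8626560) (BT.leaf (nat_lit 23888665)) (BT.leaf (nat_lit 23889173)))) (BT.node (nat_lit 8626752) (BT.node (nat_lit 8626688) (BT.leaf (nat_lit 23889933)) (BT.leaf (nat_lit 23890449))) (BT.node (nat_lit 8626816) (BT.leaf (nat_lit 50484509)) (BT.leaf (nat_lit 33867029))))) (BT.node (nat_lit 8627136) (BT.node (nat_lit 8627008) (BT.node (nat_lit 8626944) (BT.leaf (nat_lit 23890969)) (BT.leaf (nat_lit 50578437))) (BT.node (nat_lit 8627072) (BT.leaf (nat_lit 29778205)) (BT.leaf (nat_lit 23891473)))) (BT.node (nat_lit 8627264) (BT.node (nat_lit 8627200) (BT.leaf (nat_lit 23891477)) (BT.leaf (nat_lit 46438661))) (BT.node (nat_lit 8627328) (BT.leaf (nat_lit 38395925)) (BT.leaf (nat_lit 25799709)))))) (BT.node (nat_lit 8628032) (BT.node (nat_lit 8627712) (BT.node (nat_lit 8627584) (BT.node (nat_lit 8627520) (BT.leaf (nat_lit 23892241)) (BT.leaf (nat_lit 36562193))) (BT.node (nat_lit 8627648) (BT.leaf (nat_lit 35741973)) (BT.leaf (nat_lit 23893017)))) (BT.node (nat_lit 8627840) (BT.node (nat_lit 8627776) (BT.leaf (nat_lit 23893021)) (BT.leaf (nat_lit 50646037))) (BT.node (nat_lit 8627968) (BT.leaf (nat_lit 24906001)) (BT.leaf (nat_lit 43895317))))) (BT.node (nat_lit 8628288) (BT.node (nat_lit 8628160) (BT.node (nat_lit 8628096) (BT.leaf (nat_lit 23894545)) (BT.leaf (nat_lit 24312341))) (BT.node (nat_lit 8628224) (BT.leaf (nat_lit 48868129)) (BT.leaf (nat_lit 49095201)))) (BT.node (nat_lit 8628544) (BT.node (nat_lit 8628352) (BT.leaf (nat_lit 23895317)) (BT.leaf (nat_lit 23896081))) (BT.node (nat_lit 8628608) (BT.leaf (nat_lit 35530257)) (BT.leaf (nat_lit 35530001)))))))) (BT.node (nat_lit 8631296) (BT.node (nat_lit 8629952) (BT.node (nat_lit 8629184) (BT.node (nat_lit 8628928) (BT.node (nat_lit 8628800) (BT.node (nat_lit 8628736) (BT.leaf (nat_lit 30802441)) (BT.leaf (nat_lit 46306845))) (BT.node (nat_lit 8628864) (BT.leaf (nat_lit 23897877)) (BT.leaf (nat_lit 23898897)))) (BT.node (nat_lit 8629056) (BT.node (nat_lit 8628992) (BT.leaf (nat_lit 23898913)) (BT.leaf (nat_lit 23899153))) (BT.node (nat_lit 8629120) (BT.leaf (nat_lit 33040921)) (BT.leaf (nat_lit 25789449))))) (BT.node (nat_lit 8629504) (BT.node (nat_lit 8629312) (BT.node (nat_lit 8629248) (BT.leaf (nat_lit 47269893)) (BT.leaf (nat_lit 50648081))) (BT.node (nat_lit 8629376) (BT.leaf (nat_lit 34455557)) (BT.leaf (nat_lit 34905361)))) (BT.node (nat_lit 8629696) (BT.node (nat_lit 8629568) (BT.leaf (nat_lit 23900697)) (BT.leaf (nat_lit 23900701))) (BT.node (nat_lit 8629888) (BT.leaf (nat_lit 23900949)) (BT.leaf (nat_lit 46950405)))))) (BT.node (nat_lit 8630528) (BT.node (nat_lit 8630208) (BT.node (nat_lit 8630080) (BT.node (nat_lit 8630016) (BT.leaf (nat_lit 50649113)) (BT.leaf (nat_lit 50648853))) (BT.node (nat_lit 8630144) (BT.leaf (nat_lit 46709269)) (BT.leaf (nat_lit 25631005)))) (BT.node (nat_lit 8630400) (BT.node (nat_lit 8630336) (BT.leaf (nat_lit 23903761)) (BT.leaf (nat_lit 26257945))) (BT.node (nat_lit 8630464) (BT.leaf (nat_lit 35648277)) (BT.leaf (nat_lit 33081105))))) (BT.node (nat_lit 8630976) (BT.node (nat_lit 8630720) (BT.node (nat_lit 8630592) (BT.leaf (nat_lit 23905561)) (BT.leaf (nat_lit 23905809))) (BT.node (nat_lit 8630912) (BT.leaf (nat_lit 28277269)) (BT.leaf (nat_lit 33350945)))) (BT.node (nat_lit 8631104) (BT.node (nat_lit 8631040) (BT.leaf (nat_lit 35941393)) (BT.leaf (nat_lit 50650377))) (BT.node (nat_lit 8631232) (BT.leaf (nat_lit 29152025)) (BT.leaf (nat_lit 23908629))))))) (BT.node (nat_lit 8632768) (BT.node (nat_lit 8631936) (BT.node (nat_lit 8631616) (BT.node (nat_lit 8631424) (BT.node (nat_lit 8631360) (BT.leaf (nat_lit 49659909)) (BT.leaf (nat_lit 26302493))) (BT.node (nat_lit 8631488) (BT.leaf (nat_lit 34523933)) (BT.leaf (nat_lit 25025045)))) (BT.node (nat_lit 8631744) (BT.node (nat_lit 8631680) (BT.leaf (nat_lit 34518809)) (BT.leaf (nat_lit 23909653))) (BT.node (nat_lit 8631872) (BT.leaf (nat_lit 32183837)) (BT.leaf (nat_lit 25625109))))) (BT.node (nat_lit 8632320) (BT.node (nat_lit 8632128) (BT.node (nat_lit 8632000) (BT.leaf (nat_lit 25628949)) (BT.leaf (nat_lit 37356561))) (BT.node (nat_lit 8632256) (BT.leaf (nat_lit 46765853)) (BT.leaf (nat_lit 24227093)))) (BT.node (nat_lit 8632512) (BT.node (nat_lit 8632448) (BT.leaf (nat_lit 27258885)) (BT.leaf (nat_lit 46853665))) (BT.node (nat_lit 8632704) (BT.leaf (nat_lit 27478805)) (BT.leaf (nat_lit 50653713)))))) (BT.node (nat_lit 8633536) (BT.node (nat_lit 8633280) (BT.node (nat_lit 8633152) (BT.node (nat_lit 8632896) (BT.leaf (nat_lit 23915281)) (BT.leaf (nat_lit 50653709))) (BT.node (nat_lit 8633216) (BT.leaf (nat_lit 25785113)) (BT.leaf (nat_lit 25633813)))) (BT.node (nat_lit 8633408) (BT.node (nat_lit 8633344) (BT.leaf (nat_lit 48599573)) (BT.leaf (nat_lit 34587397))) (BT.node (nat_lit 8633472) (BT.leaf (nat_lit 46619397)) (BT.leaf (nat_lit 23917341))))) (BT.node (nat_lit 8633984) (BT.node (nat_lit 8633664) (BT.node (nat_lit 8633600) (BT.leaf (nat_lit 50654737)) (BT.leaf (nat_lit 33919777))) (BT.node (nat_lit 8633920) (BT.leaf (nat_lit 33920033)) (BT.leaf (nat_lit 23922977)))) (BT.node (nat_lit 8634176) (BT.node (nat_lit 8634048) (BT.leaf (nat_lit 48135445)) (BT.leaf (nat_lit 51448325))) (BT.node (nat_lit 8634240) (BT.leaf (nat_lit 50655253)) (BT.leaf (nat_lit 31296793))))))))) (BT.node (nat_lit 8640192) (BT.node (nat_lit 8636864) (BT.node (nat_lit 8635520) (BT.node (nat_lit 8635008) (BT.node (nat_lit 8634624) (BT.node (nat_lit 8634496) (BT.node (nat_lit 8634432) (BT.leaf (nat_lit 23925009)) (BT.leaf (nat_lit 28618017))) (BT.node (nat_lit 8634560) (BT.leaf (nat_lit 35003677)) (BT.leaf (nat_lit 31471649)))) (BT.node (nat_lit 8634816) (BT.node (nat_lit 8634688) (BT.leaf (nat_lit 26353429)) (BT.leaf (nat_lit 23926557))) (BT.node (nat_lit 8634880) (BT.leaf (nat_lit 35003661)) (BT.leaf (nat_lit 23927317))))) (BT.node (nat_lit 8635264) (BT.node (nat_lit 8635136) (BT.node (nat_lit 8635072) (BT.leaf (nat_lit 23927585)) (BT.leaf (nat_lit 33058333))) (BT.node (nat_lit 8635200) (BT.leaf (nat_lit 27384341)) (BT.leaf (nat_lit 34304801)))) (BT.node (nat_lit 8635392) (BT.node (nat_lit 8635328) (BT.leaf (nat_lit 25639965)) (BT.leaf (nat_lit 33563417))) (BT.node (nat_lit 8635456) (BT.leaf (nat_lit 49826061)) (BT.leaf (nat_lit 33868553)))))) (BT.node (nat_lit 8636096) (BT.node (nat_lit 8635776) (BT.node (nat_lit 8635648) (BT.node (nat_lit 8635584) (BT.leaf (nat_lit 28204321)) (BT.leaf (nat_lit 27490337))) (BT.node (nat_lit 8635712) (BT.leaf (nat_lit 23929877)) (BT.leaf (nat_lit 23930385)))) (BT.node (nat_lit 8635968) (BT.node (nat_lit 8635904) (BT.leaf (nat_lit 23930641)) (BT.leaf (nat_lit 35040541))) (BT.node (nat_lit 8636032) (BT.leaf (nat_lit 34471429)) (BT.leaf (nat_lit 39516961))))) (BT.node (nat_lit 8636608) (BT.node (nat_lit 8636288) (BT.node (nat_lit 8636160) (BT.leaf (nat_lit 34996253)) (BT.leaf (nat_lit 40808973))) (BT.node (nat_lit 8636352) (BT.leaf (nat_lit 24074521)) (BT.leaf (nat_lit 23931933)))) (BT.node (nat_lit 8636736) (BT.node (nat_lit 8636672) (BT.leaf (nat_lit 35388185)) (BT.leaf (nat_lit 31030037))) (BT.node (nat_lit 8636800) (BT.leaf (nat_lit 42145821)) (BT.leaf (nat_lit 26737425))))))) (BT.node (nat_lit 8638464) (BT.node (nat_lit 8637568) (BT.node (nat_lit 8637184) (BT.node (nat_lit 8636992) (BT.node (nat_lit 8636928) (BT.leaf (nat_lit 23933201)) (BT.leaf (nat_lit 26839569))) (BT.node (nat_lit 8637056) (BT.leaf (nat_lit 23933213)) (BT.leaf (nat_lit 23933465)))) (BT.node (nat_lit 8637376) (BT.node (nat_lit 8637312) (BT.leaf (nat_lit 33524485)) (BT.leaf (nat_lit 23934481))) (BT.node (nat_lit 8637440) (BT.leaf (nat_lit 23935249)) (BT.leaf (nat_lit 25023773))))) (BT.node (nat_lit 8637952) (BT.node (nat_lit 8637824) (BT.node (nat_lit 8637632) (BT.leaf (nat_lit 27913501)) (BT.leaf (nat_lit 48614165))) (BT.node (nat_lit 8637888) (BT.leaf (nat_lit 23936797)) (BT.leaf (nat_lit 50660385)))) (BT.node (nat_lit 8638144) (BT.node (nat_lit 8638016) (BT.leaf (nat_lit 34468381)) (BT.leaf (nat_lit 48892677))) (BT.node (nat_lit 8638400) (BT.leaf (nat_lit 33335329)) (BT.leaf (nat_lit 34542601)))))) (BT.node (nat_lit 8639424) (BT.node (nat_lit 8638976) (BT.node (nat_lit 8638656) (BT.node (nat_lit 8638528) (BT.leaf (nat_lit 28196897)) (BT.leaf (nat_lit 23939349))) (BT.node (nat_lit 8638784) (BT.leaf (nat_lit 24414741)) (BT.leaf (nat_lit 23940377)))) (BT.node (nat_lit 8639232) (BT.node (nat_lit 8639168) (BT.leaf (nat_lit 48273173)) (BT.leaf (nat_lit 27560989))) (BT.node (nat_lit 8639360) (BT.leaf (nat_lit 24011541)) (BT.leaf (nat_lit 40637709))))) (BT.node (nat_lit 8639808) (BT.node (nat_lit 8639680) (BT.node (nat_lit 8639552) (BT.leaf (nat_lit 23946009)) (BT.leaf (nat_lit 48989701))) (BT.node (nat_lit 8639744) (BT.leaf (nat_lit 23947541)) (BT.leaf (nat_lit 23947793)))) (BT.node (nat_lit 8640064) (BT.node (nat_lit 8639936) (BT.leaf (nat_lit 31897093)) (BT.leaf (nat_lit 24497433))) (BT.node (nat_lit 8640128) (BT.leaf (nat_lit 23948565)) (BT.leaf (nat_lit 25648921)))))))) (BT.node (nat_lit 8643072) (BT.node (nat_lit 8641664) (BT.node (nat_lit 8640960) (BT.node (nat_lit 8640512) (BT.node (nat_lit 8640384) (BT.node (nat_lit 8640320) (BT.leaf (nat_lit 23949333)) (BT.leaf (nat_lit 46364165))) (BT.node (nat_lit 8640448) (BT.leaf (nat_lit 50663957)) (BT.leaf (nat_lit 23950869)))) (BT.node (nat_lit 8640704) (BT.node (nat_lit 8640640) (BT.leaf (nat_lit 23951121)) (BT.leaf (nat_lit 35928601))) (BT.node (nat_lit 8640832) (BT.leaf (nat_lit 23952145)) (BT.leaf (nat_lit 23952657))))) (BT.node (nat_lit 8641408) (BT.node (nat_lit 8641280) (BT.node (nat_lit 8641152) (BT.leaf (nat_lit 28771597)) (BT.leaf (nat_lit 50665249))) (BT.node (nat_lit 8641344) (BT.leaf (nat_lit 23953925)) (BT.leaf (nat_lit 23953941)))) (BT.node (nat_lit 8641536) (BT.node (nat_lit 8641472) (BT.leaf (nat_lit 34565917)) (BT.leaf (nat_lit 25262097))) (BT.node (nat_lit 8641600) (BT.leaf (nat_lit 36361745)) (BT.leaf (nat_lit 23954197)))))) (BT.node (nat_lit 8642560) (BT.node (nat_lit 8641984) (BT.node (nat_lit 8641856) (BT.node (nat_lit 8641728) (BT.leaf (nat_lit 25105177)) (BT.leaf (nat_lit 25105949))) (BT.node (nat_lit 8641920) (BT.leaf (nat_lit 23954965)) (BT.leaf (nat_lit 36028437)))) (BT.node (nat_lit 8642368) (BT.node (nat_lit 8642048) (BT.leaf (nat_lit 23955729)) (BT.leaf (nat_lit 23958793))) (BT.node (nat_lit 8642432) (BT.leaf (nat_lit 23957525)) (BT.leaf (nat_lit 23957529))))) (BT.node (nat_lit 8642816) (BT.node (nat_lit 8642688) (BT.node (nat_lit 8642624) (BT.leaf (nat_lit 23957781)) (BT.leaf (nat_lit 23957785))) (BT.node (nat_lit 8642752) (BT.leaf (nat_lit 23957789)) (BT.leaf (nat_lit 23958797)))) (BT.node (nat_lit 8642944) (BT.node (nat_lit 8642880) (BT.leaf (nat_lit 34571549)) (BT.leaf (nat_lit 25164053))) (BT.node (nat_lit 8643008) (BT.leaf (nat_lit 37106205)) (BT.leaf (nat_lit 23959569))))))) (BT.node (nat_lit 8644416) (BT.node (nat_lit 8643776) (BT.node (nat_lit 8643456) (BT.node (nat_lit 8643328) (BT.node (nat_lit 8643264) (BT.leaf (nat_lit 29567777)) (BT.leaf (nat_lit 23960085))) (BT.node (nat_lit 8643392) (BT.leaf (nat_lit 50668061)) (BT.leaf (nat_lit 47737357)))) (BT.node (nat_lit 8643584) (BT.node (nat_lit 8643520) (BT.leaf (nat_lit 34488861)) (BT.leaf (nat_lit 50667797))) (BT.node (nat_lit 8643648) (BT.leaf (nat_lit 51074821)) (BT.leaf (nat_lit 25024021))))) (BT.node (nat_lit 8644032) (BT.node (nat_lit 8643904) (BT.node (nat_lit 8643840) (BT.leaf (nat_lit 25986069)) (BT.leaf (nat_lit 23962641))) (BT.node (nat_lit 8643968) (BT.leaf (nat_lit 25896729)) (BT.leaf (nat_lit 23963157)))) (BT.node (nat_lit 8644288) (BT.node (nat_lit 8644096) (BT.leaf (nat_lit 23963161)) (BT.leaf (nat_lit 23963165))) (BT.node (nat_lit 8644352) (BT.leaf (nat_lit 36402197)) (BT.leaf (nat_lit 29626629)))))) (BT.node (nat_lit 8645184) (BT.node (nat_lit 8644736) (BT.node (nat_lit 8644608) (BT.node (nat_lit 8644544) (BT.leaf (nat_lit 49188641)) (BT.leaf (nat_lit 23964433))) (BT.node (nat_lit 8644672) (BT.leaf (nat_lit 23965973)) (BT.leaf (nat_lit 25045265)))) (BT.node (nat_lit 8644928) (BT.node (nat_lit 8644800) (BT.leaf (nat_lit 23966217)) (BT.leaf (nat_lit 34347025))) (BT.node (nat_lit 8645056) (BT.leaf (nat_lit 34347545)) (BT.leaf (nat_lit 23966485))))) (BT.node (nat_lit 8645504) (BT.node (nat_lit 8645312) (BT.node (nat_lit 8645248) (BT.leaf (nat_lit 51683085)) (BT.leaf (nat_lit 33157381))) (BT.node (nat_lit 8645440) (BT.leaf (nat_lit 23967765)) (BT.leaf (nat_lit 35487249)))) (BT.node (nat_lit 8645632) (BT.node (nat_lit 8645568) (BT.leaf (nat_lit 33937693)) (BT.leaf (nat_lit 37427229))) (BT.node (nat_lit 8645760) (BT.leaf (nat_lit 29874705)) (BT.leaf (nat_lit 35004177))))))))))) (BT.node (nat_lit 8667904) (BT.node (nat_lit 8657408) (BT.node (nat_lit 8651776) (BT.node (nat_lit 8648960) (BT.node (nat_lit 8647232) (BT.node (nat_lit 8646592) (BT.node (nat_lit 8646144) (BT.node (nat_lit 8645952) (BT.node (nat_lit 8645888) (BT.leaf (nat_lit 27690265)) (BT.leaf (nat_lit 34583837))) (BT.node (nat_lit 8646080) (BT.leaf (nat_lit 31443717)) (BT.leaf (nat_lit 38052869)))) (BT.node (nat_lit 8646400) (BT.node (nat_lit 8646336) (BT.leaf (nat_lit 30130705)) (BT.leaf (nat_lit 23974433))) (BT.node (nat_lit 8646528) (BT.leaf (nat_lit 47861765)) (BT.leaf (nat_lit 23975441))))) (BT.node (nat_lit 8646912) (BT.node (nat_lit 8646784) (BT.node (nat_lit 8646720) (BT.leaf (nat_lit 48596997)) (BT.leaf (nat_lit 46613253))) (BT.node (nat_lit 8646848) (BT.leaf (nat_lit 24144653)) (BT.leaf (nat_lit 50673185)))) (BT.node (nat_lit 8647040) (BT.node (nat_lit 8646976) (BT.leaf (nat_lit 46619653)) (BT.leaf (nat_lit 23977233))) (BT.node (nat_lit 8647104) (BT.leaf (nat_lit 23977757)) (BT.leaf (nat_lit 50123553)))))) (BT.node (nat_lit 8648256) (BT.node (nat_lit 8648000) (BT.node (nat_lit 8647488) (BT.node (nat_lit 8647424) (BT.leaf (nat_lit 35649813)) (BT.leaf (nat_lit 47248417))) (BT.node (nat_lit 8647680) (BT.leaf (nat_lit 47248673)) (BT.leaf (nat_lit 23979793)))) (BT.node (nat_lit 8648128) (BT.node (nat_lit 8648064) (BT.leaf (nat_lit 50676233)) (BT.leaf (nat_lit 50675741))) (BT.node (nat_lit 8648192) (BT.leaf (nat_lit 23980825)) (BT.leaf (nat_lit 27384325))))) (BT.node (nat_lit 8648576) (BT.node (nat_lit 8648384) (BT.node (nat_lit 8648320) (BT.leaf (nat_lit 25657629)) (BT.leaf (nat_lit 28192021))) (BT.node (nat_lit 8648448) (BT.leaf (nat_lit 23983637)) (BT.leaf (nat_lit 47319057)))) (BT.node (nat_lit 8648768) (BT.node (nat_lit 8648640) (BT.leaf (nat_lit 50677265)) (BT.leaf (nat_lit 23985177))) (BT.node (nat_lit 8648832) (BT.leaf (nat_lit 33347089)) (BT.leaf (nat_lit 23986449))))))) (BT.node (nat_lit 8650368) (BT.node (nat_lit 8649792) (BT.node (nat_lit 8649408) (BT.node (nat_lit 8649216) (BT.node (nat_lit 8649152) (BT.leaf (nat_lit 46720033)) (BT.leaf (nat_lit 23987985))) (BT.node (nat_lit 8649280) (BT.leaf (nat_lit 25666585)) (BT.leaf (nat_lit 23988497)))) (BT.node (nat_lit 8649664) (BT.node (nat_lit 8649536) (BT.leaf (nat_lit 23988765)) (BT.leaf (nat_lit 26276369))) (BT.node (nat_lit 8649728) (BT.leaf (nat_lit 33978641)) (BT.leaf (nat_lit 23990805))))) (BT.node (nat_lit 8650112) (BT.node (nat_lit 8649984) (BT.node (nat_lit 8649920) (BT.leaf (nat_lit 23990813)) (BT.leaf (nat_lit 23991313))) (BT.node (nat_lit 8650048) (BT.leaf (nat_lit 23991817)) (BT.leaf (nat_lit 23991837)))) (BT.node (nat_lit 8650240) (BT.node (nat_lit 8650176) (BT.leaf (nat_lit 28043293)) (BT.leaf (nat_lit 23992337))) (BT.node (nat_lit 8650304) (BT.leaf (nat_lit 48444945)) (BT.leaf (nat_lit 23992601)))))) (BT.node (nat_lit 8651200) (BT.node (nat_lit 8650880) (BT.node (nat_lit 8650496) (BT.node (nat_lit 8650432) (BT.leaf (nat_lit 23992605)) (BT.leaf (nat_lit 25105945))) (BT.node (nat_lit 8650816) (BT.leaf (nat_lit 23993877)) (BT.leaf (nat_lit 23995669)))) (BT.node (nat_lit 8651072) (BT.node (nat_lit 8650944) (BT.leaf (nat_lit 51483401)) (BT.leaf (nat_lit 36124165))) (BT.node (nat_lit 8651136) (BT.leaf (nat_lit 37132829)) (BT.leaf (nat_lit 33542161))))) (BT.node (nat_lit 8651520) (BT.node (nat_lit 8651392) (BT.node (nat_lit 8651328) (BT.leaf (nat_lit 35226401)) (BT.leaf (nat_lit 26405649))) (BT.node (nat_lit 8651456) (BT.leaf (nat_lit 34605337)) (BT.leaf (nat_lit 23998469)))) (BT.node (nat_lit 8651648) (BT.node (nat_lit 8651584) (BT.leaf (nat_lit 23998737)) (BT.leaf (nat_lit 50681633))) (BT.node (nat_lit 8651712) (BT.leaf (nat_lit 37604625)) (BT.leaf (nat_lit 24428305)))))))) (BT.node (nat_lit 8654272) (BT.node (nat_lit 8652992) (BT.node (nat_lit 8652352) (BT.node (nat_lit 8652032) (BT.node (nat_lit 8651904) (BT.node (nat_lit 8651840) (BT.leaf (nat_lit 24000517)) (BT.leaf (nat_lit 29090837))) (BT.node (nat_lit 8651968) (BT.leaf (nat_lit 39921413)) (BT.leaf (nat_lit 48158241)))) (BT.node (nat_lit 8652160) (BT.node (nat_lit 8652096) (BT.leaf (nat_lit 35248417)) (BT.leaf (nat_lit 46443809))) (BT.node (nat_lit 8652224) (BT.leaf (nat_lit 46438433)) (BT.leaf (nat_lit 47126049))))) (BT.node (nat_lit 8652736) (BT.node (nat_lit 8652480) (BT.node (nat_lit 8652416) (BT.leaf (nat_lit 37513745)) (BT.leaf (nat_lit 49982241))) (BT.node (nat_lit 8652608) (BT.leaf (nat_lit 34608405)) (BT.leaf (nat_lit 36337669)))) (BT.node (nat_lit 8652864) (BT.node (nat_lit 8652800) (BT.leaf (nat_lit 33134097)) (BT.leaf (nat_lit 33633301))) (BT.node (nat_lit 8652928) (BT.leaf (nat_lit 50682913)) (BT.leaf (nat_lit 24005913)))))) (BT.node (nat_lit 8653632) (BT.node (nat_lit 8653376) (BT.node (nat_lit 8653120) (BT.node (nat_lit 8653056) (BT.leaf (nat_lit 50683425)) (BT.leaf (nat_lit 50683937))) (BT.node (nat_lit 8653248) (BT.leaf (nat_lit 33427461)) (BT.leaf (nat_lit 35333917)))) (BT.node (nat_lit 8653504) (BT.node (nat_lit 8653440) (BT.leaf (nat_lit 24011285)) (BT.leaf (nat_lit 26982681))) (BT.node (nat_lit 8653568) (BT.leaf (nat_lit 24011021)) (BT.leaf (nat_lit 33391377))))) (BT.node (nat_lit 8653888) (BT.node (nat_lit 8653760) (BT.node (nat_lit 8653696) (BT.leaf (nat_lit 28856861)) (BT.leaf (nat_lit 24008981))) (BT.node (nat_lit 8653824) (BT.leaf (nat_lit 48711697)) (BT.leaf (nat_lit 24009489)))) (BT.node (nat_lit 8654144) (BT.node (nat_lit 8653952) (BT.leaf (nat_lit 50301981)) (BT.leaf (nat_lit 50062097))) (BT.node (nat_lit 8654208) (BT.leaf (nat_lit 37426713)) (BT.leaf (nat_lit 31533061))))))) (BT.node (nat_lit 8656064) (BT.node (nat_lit 8655424) (BT.node (nat_lit 8655104) (BT.node (nat_lit 8654784) (BT.node (nat_lit 8654720) (BT.leaf (nat_lit 24012053)) (BT.leaf (nat_lit 50685457))) (BT.node (nat_lit 8654976) (BT.leaf (nat_lit 49802013)) (BT.leaf (nat_lit 50685717)))) (BT.node (nat_lit 8655232) (BT.node (nat_lit 8655168) (BT.leaf (nat_lit 34907681)) (BT.leaf (nat_lit 50686221))) (BT.node (nat_lit 8655296) (BT.leaf (nat_lit 36817413)) (BT.leaf (nat_lit 29785621))))) (BT.node (nat_lit 8655744) (BT.node (nat_lit 8655616) (BT.node (nat_lit 8655488) (BT.leaf (nat_lit 24020241)) (BT.leaf (nat_lit 31399965))) (BT.node (nat_lit 8655680) (BT.leaf (nat_lit 26987273)) (BT.leaf (nat_lit 26293013)))) (BT.node (nat_lit 8655936) (BT.node (nat_lit 8655808) (BT.leaf (nat_lit 31296801)) (BT.leaf (nat_lit 29886741))) (BT.node (nat_lit 8656000) (BT.leaf (nat_lit 32625925)) (BT.leaf (nat_lit 24021521)))))) (BT.node (nat_lit 8656640) (BT.node (nat_lit 8656384) (BT.node (nat_lit 8656192) (BT.node (nat_lit 8656128) (BT.leaf (nat_lit 36579101)) (BT.leaf (nat_lit 28348953))) (BT.node (nat_lit 8656320) (BT.leaf (nat_lit 24022285)) (BT.leaf (nat_lit 24022301)))) (BT.node (nat_lit 8656512) (BT.node (nat_lit 8656448) (BT.leaf (nat_lit 24022305)) (BT.leaf (nat_lit 24022805))) (BT.node (nat_lit 8656576) (BT.leaf (nat_lit 47000849)) (BT.leaf (nat_lit 24023073))))) (BT.node (nat_lit 8657024) (BT.node (nat_lit 8656832) (BT.node (nat_lit 8656768) (BT.leaf (nat_lit 34328069)) (BT.leaf (nat_lit 24026133))) (BT.node (nat_lit 8656896) (BT.leaf (nat_lit 24026141)) (BT.leaf (nat_lit 24027157)))) (BT.node (nat_lit 8657152) (BT.node (nat_lit 8657088) (BT.leaf (nat_lit 27597593)) (BT.leaf (nat_lit 24028177))) (BT.node (nat_lit 8657216) (BT.leaf (nat_lit 24028181)) (BT.leaf (nat_lit 34549537))))))))) (BT.node (nat_lit 8662848) (BT.node (nat_lit 8660224) (BT.node (nat_lit 8658816) (BT.node (nat_lit 8658048) (BT.node (nat_lit 8657664) (BT.node (nat_lit 8657536) (BT.node (nat_lit 8657472) (BT.leaf (nat_lit 24468237)) (BT.leaf (nat_lit 50690849))) (BT.node (nat_lit 8657600) (BT.leaf (nat_lit 46569221)) (BT.leaf (nat_lit 30858273)))) (BT.node (nat_lit 8657792) (BT.node (nat_lit 8657728) (BT.leaf (nat_lit 27053337)) (BT.leaf (nat_lit 26423581))) (BT.node (nat_lit 8657984) (BT.leaf (nat_lit 24034837)) (BT.leaf (nat_lit 24036113))))) (BT.node (nat_lit 8658560) (BT.node (nat_lit 8658432) (BT.node (nat_lit 8658240) (BT.leaf (nat_lit 24036373)) (BT.leaf (nat_lit 24036633))) (BT.node (nat_lit 8658496) (BT.leaf (nat_lit 24081937)) (BT.leaf (nat_lit 24037909)))) (BT.node (nat_lit 8658688) (BT.node (nat_lit 8658624) (BT.leaf (nat_lit 24038173)) (BT.leaf (nat_lit 50692637))) (BT.node (nat_lit 8658752) (BT.leaf (nat_lit 33844741)) (BT.leaf (nat_lit 33826565)))))) (BT.node (nat_lit 8659584) (BT.node (nat_lit 8659072) (BT.node (nat_lit 8658944) (BT.node (nat_lit 8658880) (BT.leaf (nat_lit 25686041)) (BT.leaf (nat_lit 36128793))) (BT.node (nat_lit 8659008) (BT.leaf (nat_lit 28039173)) (BT.leaf (nat_lit 37107217)))) (BT.node (nat_lit 8659200) (BT.node (nat_lit 8659136) (BT.leaf (nat_lit 24039185)) (BT.leaf (nat_lit 34018849))) (BT.node (nat_lit 8659264) (BT.leaf (nat_lit 24040209)) (BT.leaf (nat_lit 34019105))))) (BT.node (nat_lit 8659968) (BT.node (nat_lit 8659840) (BT.node (nat_lit 8659776) (BT.leaf (nat_lit 29849889)) (BT.leaf (nat_lit 35386141))) (BT.node (nat_lit 8659904) (BT.leaf (nat_lit 25933593)) (BT.leaf (nat_lit 24042013)))) (BT.node (nat_lit 8660096) (BT.node (nat_lit 8660032) (BT.leaf (nat_lit 24042257)) (BT.leaf (nat_lit 50695969))) (BT.node (nat_lit 8660160) (BT.leaf (nat_lit 48432661)) (BT.leaf (nat_lit 24043805))))))) (BT.node (nat_lit 8661440) (BT.node (nat_lit 8660864) (BT.node (nat_lit 8660544) (BT.node (nat_lit 8660352) (BT.node (nat_lit 8660288) (BT.leaf (nat_lit 24044053)) (BT.leaf (nat_lit 27441945))) (BT.node (nat_lit 8660416) (BT.leaf (nat_lit 44250641)) (BT.leaf (nat_lit 50696981)))) (BT.node (nat_lit 8660736) (BT.node (nat_lit 8660608) (BT.leaf (nat_lit 31533325)) (BT.leaf (nat_lit 40640789))) (BT.node (nat_lit 8660800) (BT.leaf (nat_lit 24049941)) (BT.leaf (nat_lit 28376325))))) (BT.node (nat_lit 8661120) (BT.node (nat_lit 8660992) (BT.node (nat_lit 8660928) (BT.leaf (nat_lit 24050961)) (BT.leaf (nat_lit 24051217))) (BT.node (nat_lit 8661056) (BT.leaf (nat_lit 26866717)) (BT.leaf (nat_lit 24052241)))) (BT.node (nat_lit 8661248) (BT.node (nat_lit 8661184) (BT.leaf (nat_lit 24053525)) (BT.leaf (nat_lit 50700305))) (BT.node (nat_lit 8661312) (BT.leaf (nat_lit 24053781)) (BT.leaf (nat_lit 50701329)))))) (BT.node (nat_lit 8662208) (BT.node (nat_lit 8661824) (BT.node (nat_lit 8661632) (BT.node (nat_lit 8661504) (BT.leaf (nat_lit 50699541)) (BT.leaf (nat_lit 48764949))) (BT.node (nat_lit 8661696) (BT.leaf (nat_lit 33619205)) (BT.leaf (nat_lit 50702857)))) (BT.node (nat_lit 8662080) (BT.node (nat_lit 8662016) (BT.leaf (nat_lit 24054805)) (BT.leaf (nat_lit 28615701))) (BT.node (nat_lit 8662144) (BT.leaf (nat_lit 33893905)) (BT.leaf (nat_lit 34648345))))) (BT.node (nat_lit 8662592) (BT.node (nat_lit 8662336) (BT.node (nat_lit 8662272) (BT.leaf (nat_lit 33525777)) (BT.leaf (nat_lit 34648857))) (BT.node (nat_lit 8662464) (BT.leaf (nat_lit 50704913)) (BT.leaf (nat_lit 25696021)))) (BT.node (nat_lit 8662720) (BT.node (nat_lit 8662656) (BT.leaf (nat_lit 46320409)) (BT.leaf (nat_lit 31607313))) (BT.node (nat_lit 8662784) (BT.leaf (nat_lit 24962065)) (BT.leaf (nat_lit 24057881)))))))) (BT.node (nat_lit 8665600) (BT.node (nat_lit 8664064) (BT.node (nat_lit 8663488) (BT.node (nat_lit 8663232) (BT.node (nat_lit 8663040) (BT.node (nat_lit 8662976) (BT.leaf (nat_lit 34138629)) (BT.leaf (nat_lit 36754181))) (BT.node (nat_lit 8663104) (BT.leaf (nat_lit 32241677)) (BT.leaf (nat_lit 28864789)))) (BT.node (nat_lit 8663360) (BT.node (nat_lit 8663296) (BT.leaf (nat_lit 24058653)) (BT.leaf (nat_lit 24058901))) (BT.node (nat_lit 8663424) (BT.leaf (nat_lit 33314593)) (BT.leaf (nat_lit 24059677))))) (BT.node (nat_lit 8663744) (BT.node (nat_lit 8663616) (BT.node (nat_lit 8663552) (BT.leaf (nat_lit 24059921)) (BT.leaf (nat_lit 37545245))) (BT.node (nat_lit 8663680) (BT.leaf (nat_lit 24060437)) (BT.leaf (nat_lit 24960285)))) (BT.node (nat_lit 8663872) (BT.node (nat_lit 8663808) (BT.leaf (nat_lit 24060689)) (BT.leaf (nat_lit 24060945))) (BT.node (nat_lit 8664000) (BT.leaf (nat_lit 43000585)) (BT.leaf (nat_lit 24061713)))))) (BT.node (nat_lit 8664768) (BT.node (nat_lit 8664512) (BT.node (nat_lit 8664256) (BT.node (nat_lit 8664128) (BT.leaf (nat_lit 24061973)) (BT.leaf (nat_lit 24062229))) (BT.node (nat_lit 8664448) (BT.leaf (nat_lit 24062741)) (BT.leaf (nat_lit 24063761)))) (BT.node (nat_lit 8664640) (BT.node (nat_lit 8664576) (BT.leaf (nat_lit 50245409)) (BT.leaf (nat_lit 24063517))) (BT.node (nat_lit 8664704) (BT.leaf (nat_lit 50461957)) (BT.leaf (nat_lit 24064785))))) (BT.node (nat_lit 8665280) (BT.node (nat_lit 8664896) (BT.node (nat_lit 8664832) (BT.leaf (nat_lit 50711829)) (BT.leaf (nat_lit 50712337))) (BT.node (nat_lit 8664960) (BT.leaf (nat_lit 24066073)) (BT.leaf (nat_lit 50712341)))) (BT.node (nat_lit 8665472) (BT.node (nat_lit 8665408) (BT.leaf (nat_lit 24067101)) (BT.leaf (nat_lit 24067857))) (BT.node (nat_lit 8665536) (BT.leaf (nat_lit 26551049)) (BT.leaf (nat_lit 24069137))))))) (BT.node (nat_lit 8666752) (BT.node (nat_lit 8666176) (BT.node (nat_lit 8665920) (BT.node (nat_lit 8665728) (BT.node (nat_lit 8665664) (BT.leaf (nat_lit 31656729)) (BT.leaf (nat_lit 24069393))) (BT.node (nat_lit 8665856) (BT.leaf (nat_lit 34627081)) (BT.leaf (nat_lit 24070421)))) (BT.node (nat_lit 8666048) (BT.node (nat_lit 8665984) (BT.leaf (nat_lit 50715665)) (BT.leaf (nat_lit 34663705))) (BT.node (nat_lit 8666112) (BT.leaf (nat_lit 35580189)) (BT.leaf (nat_lit 33130269))))) (BT.node (nat_lit 8666496) (BT.node (nat_lit 8666304) (BT.node (nat_lit 8666240) (BT.leaf (nat_lit 27581713)) (BT.leaf (nat_lit 36153865))) (BT.node (nat_lit 8666432) (BT.leaf (nat_lit 25716749)) (BT.leaf (nat_lit 50717713)))) (BT.node (nat_lit 8666624) (BT.node (nat_lit 8666560) (BT.leaf (nat_lit 24073241)) (BT.leaf (nat_lit 37610269))) (BT.node (nat_lit 8666688) (BT.leaf (nat_lit 35839253)) (BT.leaf (nat_lit 50718241)))))) (BT.node (nat_lit 8667392) (BT.node (nat_lit 8667136) (BT.node (nat_lit 8667008) (BT.node (nat_lit 8666816) (BT.leaf (nat_lit 25702929)) (BT.leaf (nat_lit 24074525))) (BT.node (nat_lit 8667072) (BT.leaf (nat_lit 37870085)) (BT.leaf (nat_lit 43732229)))) (BT.node (nat_lit 8667264) (BT.node (nat_lit 8667200) (BT.leaf (nat_lit 50719769)) (BT.leaf (nat_lit 34776333))) (BT.node (nat_lit 8667328) (BT.leaf (nat_lit 50720009)) (BT.leaf (nat_lit 48341269))))) (BT.node (nat_lit 8667648) (BT.node (nat_lit 8667520) (BT.node (nat_lit 8667456) (BT.leaf (nat_lit 50720273)) (BT.leaf (nat_lit 46449169))) (BT.node (nat_lit 8667584) (BT.leaf (nat_lit 34669849)) (BT.leaf (nat_lit 24081425)))) (BT.node (nat_lit 8667776) (BT.node (nat_lit 8667712) (BT.leaf (nat_lit 50721809)) (BT.leaf (nat_lit 34671133))) (BT.node (nat_lit 8667840) (BT.leaf (nat_lit 25796113)) (BT.leaf (nat_lit 24329993)))))))))) (BT.node (nat_lit 8678400) (BT.node (nat_lit 8673024) (BT.node (nat_lit 8670528) (BT.node (nat_lit 8669248) (BT.node (nat_lit 8668544) (BT.node (nat_lit 8668288) (BT.node (nat_lit 8668032) (BT.node (nat_lit 8667968) (BT.leaf (nat_lit 24082457)) (BT.leaf (nat_lit 24083473))) (BT.node (nat_lit 8668224) (BT.leaf (nat_lit 28272145)) (BT.leaf (nat_lit 24085017)))) (BT.node (nat_lit 8668416) (BT.node (nat_lit 8668352) (BT.leaf (nat_lit 24085777)) (BT.leaf (nat_lit 24086037))) (BT.node (nat_lit 8668480) (BT.leaf (nat_lit 24086041)) (BT.leaf (nat_lit 24086045))))) (BT.node (nat_lit 8668800) (BT.node (nat_lit 8668672) (BT.node (nat_lit 8668608) (BT.leaf (nat_lit 24086805)) (BT.leaf (nat_lit 34674717))) (BT.node (nat_lit 8668736) (BT.leaf (nat_lit 31782161)) (BT.leaf (nat_lit 50724893)))) (BT.node (nat_lit 8669120) (BT.node (nat_lit 8668864) (BT.leaf (nat_lit 24088081)) (BT.leaf (nat_lit 50725405))) (BT.node (nat_lit 8669184) (BT.leaf (nat_lit 27161621)) (BT.leaf (nat_lit 24089625)))))) (BT.node (nat_lit 8669824) (BT.node (nat_lit 8669504) (BT.node (nat_lit 8669376) (BT.node (nat_lit 8669312) (BT.leaf (nat_lit 24089629)) (BT.leaf (nat_lit 24089873))) (BT.node (nat_lit 8669440) (BT.leaf (nat_lit 24090385)) (BT.leaf (nat_lit 35877137)))) (BT.node (nat_lit 8669632) (BT.node (nat_lit 8669568) (BT.leaf (nat_lit 35876881)) (BT.leaf (nat_lit 32261381))) (BT.node (nat_lit 8669696) (BT.leaf (nat_lit 24092181)) (BT.leaf (nat_lit 47311621))))) (BT.node (nat_lit 8670272) (BT.node (nat_lit 8670016) (BT.node (nat_lit 8669888) (BT.leaf (nat_lit 34511905)) (BT.leaf (nat_lit 34793505))) (BT.node (nat_lit 8670080) (BT.leaf (nat_lit 24093201)) (BT.leaf (nat_lit 24093457)))) (BT.node (nat_lit 8670400) (BT.node (nat_lit 8670336) (BT.leaf (nat_lit 24093969)) (BT.leaf (nat_lit 24094737))) (BT.node (nat_lit 8670464) (BT.leaf (nat_lit 36132869)) (BT.leaf (nat_lit 28038149))))))) (BT.node (nat_lit 8671808) (BT.node (nat_lit 8671040) (BT.node (nat_lit 8670784) (BT.node (nat_lit 8670656) (BT.node (nat_lit 8670592) (BT.leaf (nat_lit 37770517)) (BT.leaf (nat_lit 25710093))) (BT.node (nat_lit 8670720) (BT.leaf (nat_lit 33932065)) (BT.leaf (nat_lit 37704737)))) (BT.node (nat_lit 8670912) (BT.node (nat_lit 8670848) (BT.leaf (nat_lit 26538261)) (BT.leaf (nat_lit 24095505))) (BT.node (nat_lit 8670976) (BT.leaf (nat_lit 24095769)) (BT.leaf (nat_lit 36450073))))) (BT.node (nat_lit 8671360) (BT.node (nat_lit 8671168) (BT.node (nat_lit 8671104) (BT.leaf (nat_lit 31506949)) (BT.leaf (nat_lit 47214101))) (BT.node (nat_lit 8671232) (BT.leaf (nat_lit 46529825)) (BT.leaf (nat_lit 24097553)))) (BT.node (nat_lit 8671680) (BT.node (nat_lit 8671488) (BT.leaf (nat_lit 24097305)) (BT.leaf (nat_lit 28353541))) (BT.node (nat_lit 8671744) (BT.leaf (nat_lit 24097821)) (BT.leaf (nat_lit 50777349)))))) (BT.node (nat_lit 8672448) (BT.node (nat_lit 8672064) (BT.node (nat_lit 8671936) (BT.node (nat_lit 8671872) (BT.leaf (nat_lit 24098833)) (BT.leaf (nat_lit 24099097))) (BT.node (nat_lit 8672000) (BT.leaf (nat_lit 26031377)) (BT.leaf (nat_lit 24099601)))) (BT.node (nat_lit 8672256) (BT.node (nat_lit 8672128) (BT.leaf (nat_lit 24099857)) (BT.leaf (nat_lit 27211805))) (BT.node (nat_lit 8672320) (BT.leaf (nat_lit 31279381)) (BT.leaf (nat_lit 34809633))))) (BT.node (nat_lit 8672704) (BT.node (nat_lit 8672576) (BT.node (nat_lit 8672512) (BT.leaf (nat_lit 36871457)) (BT.leaf (nat_lit 33905417))) (BT.node (nat_lit 8672640) (BT.leaf (nat_lit 28079633)) (BT.leaf (nat_lit 31070233)))) (BT.node (nat_lit 8672896) (BT.node (nat_lit 8672832) (BT.leaf (nat_lit 24103441)) (BT.leaf (nat_lit 24103697))) (BT.node (nat_lit 8672960) (BT.leaf (nat_lit 24103953)) (BT.leaf (nat_lit 47469089)))))))) (BT.node (nat_lit 8675648) (BT.node (nat_lit 8674560) (BT.node (nat_lit 8673856) (BT.node (nat_lit 8673408) (BT.node (nat_lit 8673280) (BT.node (nat_lit 8673216) (BT.leaf (nat_lit 33045537)) (BT.leaf (nat_lit 48976929))) (BT.node (nat_lit 8673344) (BT.leaf (nat_lit 24105245)) (BT.leaf (nat_lit 47564065)))) (BT.node (nat_lit 8673728) (BT.node (nat_lit 8673664) (BT.leaf (nat_lit 35638289)) (BT.leaf (nat_lit 35672861))) (BT.node (nat_lit 8673792) (BT.leaf (nat_lit 50732821)) (BT.leaf (nat_lit 36153869))))) (BT.node (nat_lit 8674112) (BT.node (nat_lit 8673984) (BT.node (nat_lit 8673920) (BT.leaf (nat_lit 25716505)) (BT.leaf (nat_lit 50936849))) (BT.node (nat_lit 8674048) (BT.leaf (nat_lit 24111389)) (BT.leaf (nat_lit 48788761)))) (BT.node (nat_lit 8674432) (BT.node (nat_lit 8674304) (BT.leaf (nat_lit 50733849)) (BT.leaf (nat_lit 24112405))) (BT.node (nat_lit 8674496) (BT.leaf (nat_lit 46443553)) (BT.leaf (nat_lit 37647121)))))) (BT.node (nat_lit 8675136) (BT.node (nat_lit 8674816) (BT.node (nat_lit 8674688) (BT.node (nat_lit 8674624) (BT.leaf (nat_lit 25251093)) (BT.leaf (nat_lit 24114453))) (BT.node (nat_lit 8674752) (BT.leaf (nat_lit 46444805)) (BT.leaf (nat_lit 24114705)))) (BT.node (nat_lit 8674944) (BT.node (nat_lit 8674880) (BT.leaf (nat_lit 24114709)) (BT.leaf (nat_lit 26500629))) (BT.node (nat_lit 8675072) (BT.leaf (nat_lit 24115481)) (BT.leaf (nat_lit 24115985))))) (BT.node (nat_lit 8675392) (BT.node (nat_lit 8675264) (BT.node (nat_lit 8675200) (BT.leaf (nat_lit 24117009)) (BT.leaf (nat_lit 34055941))) (BT.node (nat_lit 8675328) (BT.leaf (nat_lit 32540689)) (BT.leaf (nat_lit 33236241)))) (BT.node (nat_lit 8675520) (BT.node (nat_lit 8675456) (BT.leaf (nat_lit 30554397)) (BT.leaf (nat_lit 24119313))) (BT.node (nat_lit 8675584) (BT.leaf (nat_lit 40983049)) (BT.leaf (nat_lit 24119825))))))) (BT.node (nat_lit 8677184) (BT.node (nat_lit 8676352) (BT.node (nat_lit 8675968) (BT.node (nat_lit 8675776) (BT.node (nat_lit 8675712) (BT.leaf (nat_lit 50624789)) (BT.leaf (nat_lit 50624773))) (BT.node (nat_lit 8675904) (BT.leaf (nat_lit 24120089)) (BT.leaf (nat_lit 25717765)))) (BT.node (nat_lit 8676096) (BT.node (nat_lit 8676032) (BT.leaf (nat_lit 47981601)) (BT.leaf (nat_lit 27265541))) (BT.node (nat_lit 8676160) (BT.leaf (nat_lit 25700377)) (BT.leaf (nat_lit 43074309))))) (BT.node (nat_lit 8676800) (BT.node (nat_lit 8676608) (BT.node (nat_lit 8676544) (BT.leaf (nat_lit 34896413)) (BT.leaf (nat_lit 24122401))) (BT.node (nat_lit 8676672) (BT.leaf (nat_lit 33946117)) (BT.leaf (nat_lit 24122897)))) (BT.node (nat_lit 8677056) (BT.node (nat_lit 8676992) (BT.leaf (nat_lit 30677513)) (BT.leaf (nat_lit 48064541))) (BT.node (nat_lit 8677120) (BT.leaf (nat_lit 25376785)) (BT.leaf (nat_lit 24124689)))))) (BT.node (nat_lit 8677760) (BT.node (nat_lit 8677440) (BT.node (nat_lit 8677312) (BT.node (nat_lit 8677248) (BT.leaf (nat_lit 24124949)) (BT.leaf (nat_lit 50739473))) (BT.node (nat_lit 8677376) (BT.leaf (nat_lit 34709017)) (BT.leaf (nat_lit 24125713)))) (BT.node (nat_lit 8677632) (BT.node (nat_lit 8677568) (BT.leaf (nat_lit 24126481)) (BT.leaf (nat_lit 24128017))) (BT.node (nat_lit 8677696) (BT.leaf (nat_lit 24128273)) (BT.leaf (nat_lit 27569173))))) (BT.node (nat_lit 8678144) (BT.node (nat_lit 8678016) (BT.node (nat_lit 8677824) (BT.leaf (nat_lit 34970653)) (BT.leaf (nat_lit 50271245))) (BT.node (nat_lit 8678080) (BT.leaf (nat_lit 30978337)) (BT.leaf (nat_lit 24130833)))) (BT.node (nat_lit 8678272) (BT.node (nat_lit 8678208) (BT.leaf (nat_lit 24131345)) (BT.leaf (nat_lit 47965729))) (BT.node (nat_lit 8678336) (BT.leaf (nat_lit 31665685)) (BT.leaf (nat_lit 24132369))))))))) (BT.node (nat_lit 8684096) (BT.node (nat_lit 8681472) (BT.node (nat_lit 8679552) (BT.node (nat_lit 8678976) (BT.node (nat_lit 8678720) (BT.node (nat_lit 8678592) (BT.node (nat_lit 8678464) (BT.leaf (nat_lit 48180513)) (BT.leaf (nat_lit 32928541))) (BT.node (nat_lit 8678656) (BT.leaf (nat_lit 24260637)) (BT.leaf (nat_lit 34332945)))) (BT.node (nat_lit 8678848) (BT.node (nat_lit 8678784) (BT.leaf (nat_lit 24134161)) (BT.leaf (nat_lit 24134421))) (BT.node (nat_lit 8678912) (BT.leaf (nat_lit 24134425)) (BT.leaf (nat_lit 24134429))))) (BT.node (nat_lit 8679296) (BT.node (nat_lit 8679168) (BT.node (nat_lit 8679104) (BT.leaf (nat_lit 24134673)) (BT.leaf (nat_lit 50744593))) (BT.node (nat_lit 8679232) (BT.leaf (nat_lit 48345357)) (BT.leaf (nat_lit 24135193)))) (BT.node (nat_lit 8679424) (BT.node (nat_lit 8679360) (BT.leaf (nat_lit 24135197)) (BT.leaf (nat_lit 33806853))) (BT.node (nat_lit 8679488) (BT.leaf (nat_lit 24135441)) (BT.leaf (nat_lit 24135445)))))) (BT.node (nat_lit 8680832) (BT.node (nat_lit 8680192) (BT.node (nat_lit 8679680) (BT.node (nat_lit 8679616) (BT.leaf (nat_lit 24295433)) (BT.leaf (nat_lit 50548753))) (BT.node (nat_lit 8679808) (BT.leaf (nat_lit 24136469)) (BT.leaf (nat_lit 24136729)))) (BT.node (nat_lit 8680576) (BT.node (nat_lit 8680512) (BT.leaf (nat_lit 33112609)) (BT.leaf (nat_lit 24140821))) (BT.node (nat_lit 8680640) (BT.leaf (nat_lit 24141333)) (BT.leaf (nat_lit 50081297))))) (BT.node (nat_lit 8681152) (BT.node (nat_lit 8680960) (BT.node (nat_lit 8680896) (BT.leaf (nat_lit 26055705)) (BT.leaf (nat_lit 24144669))) (BT.node (nat_lit 8681024) (BT.leaf (nat_lit 24144649)) (BT.leaf (nat_lit 34490381)))) (BT.node (nat_lit 8681344) (BT.node (nat_lit 8681280) (BT.leaf (nat_lit 24144145)) (BT.leaf (nat_lit 37269777))) (BT.node (nat_lit 8681408) (BT.leaf (nat_lit 34725145)) (BT.leaf (nat_lit 24144917))))))) (BT.node (nat_lit 8682880) (BT.node (nat_lit 8682048) (BT.node (nat_lit 8681792) (BT.node (nat_lit 8681600) (BT.node (nat_lit 8681536) (BT.leaf (nat_lit 24144921)) (BT.leaf (nat_lit 24144925))) (BT.node (nat_lit 8681728) (BT.leaf (nat_lit 24145169)) (BT.leaf (nat_lit 24145945)))) (BT.node (nat_lit 8681920) (BT.node (nat_lit 8681856) (BT.leaf (nat_lit 24145949)) (BT.leaf (nat_lit 27541785))) (BT.node (nat_lit 8681984) (BT.leaf (nat_lit 25987101)) (BT.leaf (nat_lit 24146453))))) (BT.node (nat_lit 8682496) (BT.node (nat_lit 8682368) (BT.node (nat_lit 8682112) (BT.leaf (nat_lit 47759649)) (BT.leaf (nat_lit 50489629))) (BT.node (nat_lit 8682432) (BT.leaf (nat_lit 50751245)) (BT.leaf (nat_lit 50751509)))) (BT.node (nat_lit 8682624) (BT.node (nat_lit 8682560) (BT.leaf (nat_lit 50751765)) (BT.leaf (nat_lit 32496645))) (BT.node (nat_lit 8682816) (BT.leaf (nat_lit 30846241)) (BT.leaf (nat_lit 49818913)))))) (BT.node (nat_lit 8683520) (BT.node (nat_lit 8683200) (BT.node (nat_lit 8683008) (BT.node (nat_lit 8682944) (BT.leaf (nat_lit 24150813)) (BT.leaf (nat_lit 48282121))) (BT.node (nat_lit 8683136) (BT.leaf (nat_lit 48866833)) (BT.leaf (nat_lit 49654789)))) (BT.node (nat_lit 8683328) (BT.node (nat_lit 8683264) (BT.leaf (nat_lit 50752517)) (BT.leaf (nat_lit 24151825))) (BT.node (nat_lit 8683456) (BT.leaf (nat_lit 46967585)) (BT.leaf (nat_lit 24152349))))) (BT.node (nat_lit 8683840) (BT.node (nat_lit 8683648) (BT.node (nat_lit 8683584) (BT.leaf (nat_lit 24152861)) (BT.leaf (nat_lit 48795917))) (BT.node (nat_lit 8683712) (BT.leaf (nat_lit 50753545)) (BT.leaf (nat_lit 39337221)))) (BT.node (nat_lit 8683968) (BT.node (nat_lit 8683904) (BT.leaf (nat_lit 50229777)) (BT.leaf (nat_lit 50754337))) (BT.node (nat_lit 8684032) (BT.leaf (nat_lit 50754593)) (BT.leaf (nat_lit 31171861)))))))) (BT.node (nat_lit 8686336) (BT.node (nat_lit 8685312) (BT.node (nat_lit 8684672) (BT.node (nat_lit 8684352) (BT.node (nat_lit 8684224) (BT.node (nat_lit 8684160) (BT.leaf (nat_lit 27553049)) (BT.leaf (nat_lit 24155153))) (BT.node (nat_lit 8684288) (BT.leaf (nat_lit 47378965)) (BT.leaf (nat_lit 50754837)))) (BT.node (nat_lit 8684544) (BT.node (nat_lit 8684480) (BT.leaf (nat_lit 49092629)) (BT.leaf (nat_lit 48426245))) (BT.node (nat_lit 8684608) (BT.leaf (nat_lit 37697565)) (BT.leaf (nat_lit 24158749))))) (BT.node (nat_lit 8684992) (BT.node (nat_lit 8684864) (BT.node (nat_lit 8684800) (BT.leaf (nat_lit 31938833)) (BT.leaf (nat_lit 27328785))) (BT.node (nat_lit 8684928) (BT.leaf (nat_lit 34739225)) (BT.leaf (nat_lit 46369801)))) (BT.node (nat_lit 8685184) (BT.node (nat_lit 8685120) (BT.leaf (nat_lit 24161041)) (BT.leaf (nat_lit 24161565))) (BT.node (nat_lit 8685248) (BT.leaf (nat_lit 35636765)) (BT.leaf (nat_lit 46868493)))))) (BT.node (nat_lit 8685824) (BT.node (nat_lit 8685568) (BT.node (nat_lit 8685440) (BT.node (nat_lit 8685376) (BT.leaf (nat_lit 50673169)) (BT.leaf (nat_lit 24163345))) (BT.node (nat_lit 8685504) (BT.leaf (nat_lit 37697809)) (BT.leaf (nat_lit 37681937)))) (BT.node (nat_lit 8685696) (BT.node (nat_lit 8685632) (BT.leaf (nat_lit 35625245)) (BT.leaf (nat_lit 24163609))) (BT.node (nat_lit 8685760) (BT.leaf (nat_lit 24163613)) (BT.leaf (nat_lit 46735109))))) (BT.node (nat_lit 8686080) (BT.node (nat_lit 8685952) (BT.node (nat_lit 8685888) (BT.leaf (nat_lit 50758677)) (BT.leaf (nat_lit 24164101))) (BT.node (nat_lit 8686016) (BT.leaf (nat_lit 50759445)) (BT.leaf (nat_lit 34743833)))) (BT.node (nat_lit 8686208) (BT.node (nat_lit 8686144) (BT.leaf (nat_lit 24164633)) (BT.leaf (nat_lit 24164637))) (BT.node (nat_lit 8686272) (BT.leaf (nat_lit 24165393)) (BT.leaf (nat_lit 24165653))))))) (BT.node (nat_lit 8687488) (BT.node (nat_lit 8686976) (BT.node (nat_lit 8686656) (BT.node (nat_lit 8686528) (BT.node (nat_lit 8686400) (BT.leaf (nat_lit 24165657)) (BT.leaf (nat_lit 24167185))) (BT.node (nat_lit 8686592) (BT.leaf (nat_lit 34451729)) (BT.leaf (nat_lit 34746137)))) (BT.node (nat_lit 8686848) (BT.node (nat_lit 8686784) (BT.leaf (nat_lit 24168477)) (BT.leaf (nat_lit 24169745))) (BT.node (nat_lit 8686912) (BT.leaf (nat_lit 34851845)) (BT.leaf (nat_lit 24170001))))) (BT.node (nat_lit 8687232) (BT.node (nat_lit 8687104) (BT.node (nat_lit 8687040) (BT.leaf (nat_lit 35968017)) (BT.leaf (nat_lit 24170769))) (BT.node (nat_lit 8687168) (BT.leaf (nat_lit 25251609)) (BT.leaf (nat_lit 24171025)))) (BT.node (nat_lit 8687360) (BT.node (nat_lit 8687296) (BT.leaf (nat_lit 48328201)) (BT.leaf (nat_lit 34379273))) (BT.node (nat_lit 8687424) (BT.leaf (nat_lit 25820177)) (BT.leaf (nat_lit 33788445)))))) (BT.node (nat_lit 8688064) (BT.node (nat_lit 8687744) (BT.node (nat_lit 8687616) (BT.node (nat_lit 8687552) (BT.leaf (nat_lit 24172561)) (BT.leaf (nat_lit 25426457))) (BT.node (nat_lit 8687680) (BT.leaf (nat_lit 34009625)) (BT.leaf (nat_lit 24173333)))) (BT.node (nat_lit 8687872) (BT.node (nat_lit 8687808) (BT.leaf (nat_lit 24174105)) (BT.leaf (nat_lit 27961629))) (BT.node (nat_lit 8688000) (BT.leaf (nat_lit 24383257)) (BT.leaf (nat_lit 27594261))))) (BT.node (nat_lit 8688576) (BT.node (nat_lit 8688320) (BT.node (nat_lit 8688128) (BT.leaf (nat_lit 33079321)) (BT.leaf (nat_lit 27553297))) (BT.node (nat_lit 8688384) (BT.leaf (nat_lit 24177169)) (BT.leaf (nat_lit 30895385)))) (BT.node (nat_lit 8688704) (BT.node (nat_lit 8688640) (BT.leaf (nat_lit 24177937)) (BT.leaf (nat_lit 49904913))) (BT.node (nat_lit 8688768) (BT.leaf (nat_lit 24178205)) (BT.leaf (nat_lit 34869265)))))))))))) (BT.node (nat_lit 8730112) (BT.node (nat_lit 8710080) (BT.node (nat_lit 8699776) (BT.node (nat_lit 8694528) (BT.node (nat_lit 8691520) (BT.node (nat_lit 8690112) (BT.node (nat_lit 8689472) (BT.node (nat_lit 8689088) (BT.node (nat_lit 8688960) (BT.node (nat_lit 8688896) (BT.leaf (nat_lit 34755597)) (BT.leaf (nat_lit 27367957))) (BT.node (nat_lit 8689024) (BT.leaf (nat_lit 46893345)) (BT.leaf (nat_lit 28224789)))) (BT.node (nat_lit 8689216) (BT.node (nat_lit 8689152) (BT.leaf (nat_lit 33557281)) (BT.leaf (nat_lit 49622281))) (BT.node (nat_lit 8689280) (BT.leaf (nat_lit 31547929)) (BT.leaf (nat_lit 28616981))))) (BT.node (nat_lit 8689792) (BT.node (nat_lit 8689664) (BT.node (nat_lit 8689600) (BT.leaf (nat_lit 24180245)) (BT.leaf (nat_lit 34129173))) (BT.node (nat_lit 8689728) (BT.leaf (nat_lit 24181017)) (BT.leaf (nat_lit 37204241)))) (BT.node (nat_lit 8689984) (BT.node (nat_lit 8689856) (BT.leaf (nat_lit 46497809)) (BT.leaf (nat_lit 50070817))) (BT.node (nat_lit 8690048) (BT.leaf (nat_lit 24182549)) (BT.leaf (nat_lit 36573725)))))) (BT.node (nat_lit 8690880) (BT.node (nat_lit 8690432) (BT.node (nat_lit 8690240) (BT.node (nat_lit 8690176) (BT.leaf (nat_lit 29645073)) (BT.leaf (nat_lit 47001377))) (BT.node (nat_lit 8690368) (BT.leaf (nat_lit 24183313)) (BT.leaf (nat_lit 50556677)))) (BT.node (nat_lit 8690624) (BT.node (nat_lit 8690560) (BT.leaf (nat_lit 24183573)) (BT.leaf (nat_lit 24184085))) (BT.node (nat_lit 8690688) (BT.leaf (nat_lit 24184345)) (BT.leaf (nat_lit 35518213))))) (BT.node (nat_lit 8691264) (BT.node (nat_lit 8691136) (BT.node (nat_lit 8691008) (BT.leaf (nat_lit 24185877)) (BT.leaf (nat_lit 49081605))) (BT.node (nat_lit 8691200) (BT.leaf (nat_lit 33753873)) (BT.leaf (nat_lit 34764569)))) (BT.node (nat_lit 8691392) (BT.node (nat_lit 8691328) (BT.leaf (nat_lit 24187409)) (BT.leaf (nat_lit 25564701))) (BT.node (nat_lit 8691456) (BT.leaf (nat_lit 24187921)) (BT.leaf (nat_lit 24188181))))))) (BT.node (nat_lit 8693248) (BT.node (nat_lit 8692352) (BT.node (nat_lit 8691840) (BT.node (nat_lit 8691712) (BT.node (nat_lit 8691584) (BT.leaf (nat_lit 24188425)) (BT.leaf (nat_lit 50720541))) (BT.node (nat_lit 8691776) (BT.leaf (nat_lit 50769685)) (BT.leaf (nat_lit 24188677)))) (BT.node (nat_lit 8692096) (BT.node (nat_lit 8691904) (BT.leaf (nat_lit 24188693)) (BT.leaf (nat_lit 24188945))) (BT.node (nat_lit 8692224) (BT.leaf (nat_lit 24189713)) (BT.leaf (nat_lit 24189969))))) (BT.node (nat_lit 8692800) (BT.node (nat_lit 8692608) (BT.node (nat_lit 8692480) (BT.leaf (nat_lit 25741337)) (BT.leaf (nat_lit 44591893))) (BT.node (nat_lit 8692672) (BT.leaf (nat_lit 32688905)) (BT.leaf (nat_lit 27474969)))) (BT.node (nat_lit 8692992) (BT.node (nat_lit 8692928) (BT.leaf (nat_lit 24191505)) (BT.leaf (nat_lit 24708873))) (BT.node (nat_lit 8693120) (BT.leaf (nat_lit 24191761)) (BT.leaf (nat_lit 24192273)))))) (BT.node (nat_lit 8693952) (BT.node (nat_lit 8693568) (BT.node (nat_lit 8693440) (BT.node (nat_lit 8693312) (BT.leaf (nat_lit 36096541)) (BT.leaf (nat_lit 34668561))) (BT.node (nat_lit 8693504) (BT.leaf (nat_lit 31386897)) (BT.leaf (nat_lit 43645973)))) (BT.node (nat_lit 8693696) (BT.node (nat_lit 8693632) (BT.leaf (nat_lit 51089157)) (BT.leaf (nat_lit 24194065))) (BT.node (nat_lit 8693888) (BT.leaf (nat_lit 26637073)) (BT.leaf (nat_lit 50312709))))) (BT.node (nat_lit 8694208) (BT.node (nat_lit 8694080) (BT.node (nat_lit 8694016) (BT.leaf (nat_lit 24194833)) (BT.leaf (nat_lit 48440349))) (BT.node (nat_lit 8694144) (BT.leaf (nat_lit 35708437)) (BT.leaf (nat_lit 24195101)))) (BT.node (nat_lit 8694400) (BT.node (nat_lit 8694272) (BT.leaf (nat_lit 28151565)) (BT.leaf (nat_lit 24196113))) (BT.node (nat_lit 8694464) (BT.leaf (nat_lit 24195869)) (BT.leaf (nat_lit 34669073)))))))) (BT.node (nat_lit 8697216) (BT.node (nat_lit 8695808) (BT.node (nat_lit 8695040) (BT.node (nat_lit 8694784) (BT.node (nat_lit 8694656) (BT.node (nat_lit 8694592) (BT.leaf (nat_lit 48778773)) (BT.leaf (nat_lit 36509969))) (BT.node (nat_lit 8694720) (BT.leaf (nat_lit 31599125)) (BT.leaf (nat_lit 50104609)))) (BT.node (nat_lit 8694912) (BT.node (nat_lit 8694848) (BT.leaf (nat_lit 33604641)) (BT.leaf (nat_lit 47727877))) (BT.node (nat_lit 8694976) (BT.leaf (nat_lit 24198929)) (BT.leaf (nat_lit 25255957))))) (BT.node (nat_lit 8695360) (BT.node (nat_lit 8695168) (BT.node (nat_lit 8695104) (BT.leaf (nat_lit 28223265)) (BT.leaf (nat_lit 46436357))) (BT.node (nat_lit 8695232) (BT.leaf (nat_lit 33100569)) (BT.leaf (nat_lit 25061405)))) (BT.node (nat_lit 8695488) (BT.node (nat_lit 8695424) (BT.leaf (nat_lit 49594117)) (BT.leaf (nat_lit 24202261))) (BT.node (nat_lit 8695680) (BT.leaf (nat_lit 36164101)) (BT.leaf (nat_lit 24203537)))))) (BT.node (nat_lit 8696576) (BT.node (nat_lit 8696064) (BT.node (nat_lit 8695936) (BT.node (nat_lit 8695872) (BT.leaf (nat_lit 24203801)) (BT.leaf (nat_lit 35933973))) (BT.node (nat_lit 8696000) (BT.leaf (nat_lit 34116101)) (BT.leaf (nat_lit 29326865)))) (BT.node (nat_lit 8696256) (BT.node (nat_lit 8696128) (BT.leaf (nat_lit 46509089)) (BT.leaf (nat_lit 24204569))) (BT.node (nat_lit 8696384) (BT.leaf (nat_lit 50780961)) (BT.leaf (nat_lit 35678485))))) (BT.node (nat_lit 8696896) (BT.node (nat_lit 8696768) (BT.node (nat_lit 8696640) (BT.leaf (nat_lit 24205841)) (BT.leaf (nat_lit 27858957))) (BT.node (nat_lit 8696832) (BT.leaf (nat_lit 24206361)) (BT.leaf (nat_lit 24206365)))) (BT.node (nat_lit 8697024) (BT.node (nat_lit 8696960) (BT.leaf (nat_lit 24206873)) (BT.leaf (nat_lit 24207633))) (BT.node (nat_lit 8697152) (BT.leaf (nat_lit 48490253)) (BT.leaf (nat_lit 24208657))))))) (BT.node (nat_lit 8698368) (BT.node (nat_lit 8697728) (BT.node (nat_lit 8697472) (BT.node (nat_lit 8697344) (BT.node (nat_lit 8697280) (BT.leaf (nat_lit 24208917)) (BT.leaf (nat_lit 24208921))) (BT.node (nat_lit 8697408) (BT.leaf (nat_lit 24208925)) (BT.leaf (nat_lit 34086417)))) (BT.node (nat_lit 8697600) (BT.node (nat_lit 8697536) (BT.leaf (nat_lit 48945425)) (BT.leaf (nat_lit 32028169))) (BT.node (nat_lit 8697664) (BT.leaf (nat_lit 32028173)) (BT.leaf (nat_lit 50785293))))) (BT.node (nat_lit 8698112) (BT.node (nat_lit 8697984) (BT.node (nat_lit 8697920) (BT.leaf (nat_lit 34955541)) (BT.leaf (nat_lit 24211989))) (BT.node (nat_lit 8698048) (BT.leaf (nat_lit 50786325)) (BT.leaf (nat_lit 24212505)))) (BT.node (nat_lit 8698240) (BT.node (nat_lit 8698176) (BT.leaf (nat_lit 28980257)) (BT.leaf (nat_lit 47725593))) (BT.node (nat_lit 8698304) (BT.leaf (nat_lit 24213013)) (BT.leaf (nat_lit 48952853)))))) (BT.node (nat_lit 8698944) (BT.node (nat_lit 8698688) (BT.node (nat_lit 8698496) (BT.node (nat_lit 8698432) (BT.leaf (nat_lit 48952341)) (BT.leaf (nat_lit 24214289))) (BT.node (nat_lit 8698624) (BT.leaf (nat_lit 24214805)) (BT.leaf (nat_lit 30405921)))) (BT.node (nat_lit 8698816) (BT.node (nat_lit 8698752) (BT.leaf (nat_lit 24216853)) (BT.leaf (nat_lit 24216857))) (BT.node (nat_lit 8698880) (BT.leaf (nat_lit 24216861)) (BT.leaf (nat_lit 48329989))))) (BT.node (nat_lit 8699328) (BT.node (nat_lit 8699072) (BT.node (nat_lit 8699008) (BT.leaf (nat_lit 34795545)) (BT.leaf (nat_lit 24217365))) (BT.node (nat_lit 8699264) (BT.leaf (nat_lit 36115233)) (BT.leaf (nat_lit 24219665)))) (BT.node (nat_lit 8699648) (BT.node (nat_lit 8699520) (BT.leaf (nat_lit 50789153)) (BT.leaf (nat_lit 25918745))) (BT.node (nat_lit 8699712) (BT.leaf (nat_lit 50789645)) (BT.leaf (nat_lit 50789921))))))))) (BT.node (nat_lit 8705216) (BT.node (nat_lit 8702336) (BT.node (nat_lit 8700928) (BT.node (nat_lit 8700352) (BT.node (nat_lit 8700096) (BT.node (nat_lit 8699968) (BT.node (nat_lit 8699904) (BT.leaf (nat_lit 50790177)) (BT.leaf (nat_lit 50790433))) (BT.node (nat_lit 8700032) (BT.leaf (nat_lit 28415253)) (BT.leaf (nat_lit 29456913)))) (BT.node (nat_lit 8700224) (BT.node (nat_lit 8700160) (BT.leaf (nat_lit 29456917)) (BT.leaf (nat_lit 29146393))) (BT.node (nat_lit 8700288) (BT.leaf (nat_lit 24221465)) (BT.leaf (nat_lit 24221469))))) (BT.node (nat_lit 8700672) (BT.node (nat_lit 8700544) (BT.node (nat_lit 8700416) (BT.leaf (nat_lit 50791701)) (BT.leaf (nat_lit 50792729))) (BT.node (nat_lit 8700608) (BT.leaf (nat_lit 51626757)) (BT.leaf (nat_lit 25214737)))) (BT.node (nat_lit 8700800) (BT.node (nat_lit 8700736) (BT.leaf (nat_lit 34802457)) (BT.leaf (nat_lit 24224277))) (BT.node (nat_lit 8700864) (BT.leaf (nat_lit 24224533)) (BT.leaf (nat_lit 24225301)))))) (BT.node (nat_lit 8701760) (BT.node (nat_lit 8701312) (BT.node (nat_lit 8701184) (BT.node (nat_lit 8700992) (BT.leaf (nat_lit 24225305)) (BT.leaf (nat_lit 48968197))) (BT.node (nat_lit 8701248) (BT.leaf (nat_lit 24225821)) (BT.leaf (nat_lit 36622853)))) (BT.node (nat_lit 8701632) (BT.node (nat_lit 8701568) (BT.leaf (nat_lit 37556497)) (BT.leaf (nat_lit 24227601))) (BT.node (nat_lit 8701696) (BT.leaf (nat_lit 24228369)) (BT.leaf (nat_lit 29532177))))) (BT.node (nat_lit 8702016) (BT.node (nat_lit 8701888) (BT.node (nat_lit 8701824) (BT.leaf (nat_lit 37091089)) (BT.leaf (nat_lit 24229397))) (BT.node (nat_lit 8701952) (BT.leaf (nat_lit 24230157)) (BT.leaf (nat_lit 24230173)))) (BT.node (nat_lit 8702208) (BT.node (nat_lit 8702144) (BT.leaf (nat_lit 28340761)) (BT.leaf (nat_lit 24231185))) (BT.node (nat_lit 8702272) (BT.leaf (nat_lit 24231201)) (BT.leaf (nat_lit 25170709))))))) (BT.node (nat_lit 8703488) (BT.node (nat_lit 8702848) (BT.node (nat_lit 8702592) (BT.node (nat_lit 8702464) (BT.node (nat_lit 8702400) (BT.leaf (nat_lit 24231457)) (BT.leaf (nat_lit 24231701))) (BT.node (nat_lit 8702528) (BT.leaf (nat_lit 34809097)) (BT.leaf (nat_lit 24231969)))) (BT.node (nat_lit 8702720) (BT.node (nat_lit 8702656) (BT.leaf (nat_lit 27247877)) (BT.leaf (nat_lit 47469073))) (BT.node (nat_lit 8702784) (BT.leaf (nat_lit 24233233)) (BT.leaf (nat_lit 33211417))))) (BT.node (nat_lit 8703168) (BT.node (nat_lit 8703040) (BT.node (nat_lit 8702912) (BT.leaf (nat_lit 24234261)) (BT.leaf (nat_lit 48834073))) (BT.node (nat_lit 8703104) (BT.leaf (nat_lit 24234513)) (BT.leaf (nat_lit 47542037)))) (BT.node (nat_lit 8703360) (BT.node (nat_lit 8703296) (BT.leaf (nat_lit 50796305)) (BT.leaf (nat_lit 50796053))) (BT.node (nat_lit 8703424) (BT.leaf (nat_lit 24235033)) (BT.leaf (nat_lit 24235037)))))) (BT.node (nat_lit 8704448) (BT.node (nat_lit 8703744) (BT.node (nat_lit 8703616) (BT.node (nat_lit 8703552) (BT.leaf (nat_lit 25269537)) (BT.leaf (nat_lit 44686869))) (BT.node (nat_lit 8703680) (BT.leaf (nat_lit 24236817)) (BT.leaf (nat_lit 24237073)))) (BT.node (nat_lit 8703872) (BT.node (nat_lit 8703808) (BT.leaf (nat_lit 24237841)) (BT.leaf (nat_lit 33774881))) (BT.node (nat_lit 8704384) (BT.leaf (nat_lit 24238353)) (BT.leaf (nat_lit 26586897))))) (BT.node (nat_lit 8704768) (BT.node (nat_lit 8704640) (BT.node (nat_lit 8704512) (BT.leaf (nat_lit 26586641)) (BT.leaf (nat_lit 26253585))) (BT.node (nat_lit 8704704) (BT.leaf (nat_lit 24243205)) (BT.leaf (nat_lit 36241413)))) (BT.node (nat_lit 8705024) (BT.node (nat_lit 8704832) (BT.leaf (nat_lit 24243729)) (BT.leaf (nat_lit 24243989))) (BT.node (nat_lit 8705152) (BT.leaf (nat_lit 24245777)) (BT.leaf (nat_lit 24246289)))))))) (BT.node (nat_lit 8707840) (BT.node (nat_lit 8706560) (BT.node (nat_lit 8705792) (BT.node (nat_lit 8705536) (BT.node (nat_lit 8705344) (BT.node (nat_lit 8705280) (BT.leaf (nat_lit 24247825)) (BT.leaf (nat_lit 24248337))) (BT.node (nat_lit 8705408) (BT.leaf (nat_lit 24273933)) (BT.leaf (nat_lit 24249621)))) (BT.node (nat_lit 8705664) (BT.node (nat_lit 8705600) (BT.leaf (nat_lit 28423449)) (BT.leaf (nat_lit 28423453))) (BT.node (nat_lit 8705728) (BT.leaf (nat_lit 24252433)) (BT.leaf (nat_lit 24252693))))) (BT.node (nat_lit 8706304) (BT.node (nat_lit 8706176) (BT.node (nat_lit 8705856) (BT.leaf (nat_lit 24253713)) (BT.leaf (nat_lit 24253969))) (BT.node (nat_lit 8706240) (BT.leaf (nat_lit 28388625)) (BT.leaf (nat_lit 50802949)))) (BT.node (nat_lit 8706432) (BT.node (nat_lit 8706368) (BT.leaf (nat_lit 36210441)) (BT.leaf (nat_lit 24255265))) (BT.node (nat_lit 8706496) (BT.leaf (nat_lit 24255509)) (BT.leaf (nat_lit 24255765)))))) (BT.node (nat_lit 8707200) (BT.node (nat_lit 8706880) (BT.node (nat_lit 8706752) (BT.node (nat_lit 8706624) (BT.leaf (nat_lit 25769745)) (BT.leaf (nat_lit 24256789))) (BT.node (nat_lit 8706816) (BT.leaf (nat_lit 24284441)) (BT.leaf (nat_lit 24284445)))) (BT.node (nat_lit 8707072) (BT.node (nat_lit 8707008) (BT.leaf (nat_lit 40670741)) (BT.leaf (nat_lit 47336969))) (BT.node (nat_lit 8707136) (BT.leaf (nat_lit 25773061)) (BT.leaf (nat_lit 34714649))))) (BT.node (nat_lit 8707520) (BT.node (nat_lit 8707328) (BT.node (nat_lit 8707264) (BT.leaf (nat_lit 34714653)) (BT.leaf (nat_lit 24260881))) (BT.node (nat_lit 8707392) (BT.leaf (nat_lit 24261125)) (BT.leaf (nat_lit 24261145)))) (BT.node (nat_lit 8707712) (BT.node (nat_lit 8707584) (BT.leaf (nat_lit 24261649)) (BT.leaf (nat_lit 24261653))) (BT.node (nat_lit 8707776) (BT.leaf (nat_lit 24261909)) (BT.leaf (nat_lit 24262161))))))) (BT.node (nat_lit 8708992) (BT.node (nat_lit 8708416) (BT.node (nat_lit 8708096) (BT.node (nat_lit 8707968) (BT.node (nat_lit 8707904) (BT.leaf (nat_lit 26599953)) (BT.leaf (nat_lit 50247445))) (BT.node (nat_lit 8708032) (BT.leaf (nat_lit 26599185)) (BT.leaf (nat_lit 24262941)))) (BT.node (nat_lit 8708288) (BT.node (nat_lit 8708224) (BT.leaf (nat_lit 26271505)) (BT.leaf (nat_lit 26598161))) (BT.node (nat_lit 8708352) (BT.leaf (nat_lit 35766025)) (BT.leaf (nat_lit 24263697))))) (BT.node (nat_lit 8708672) (BT.node (nat_lit 8708544) (BT.node (nat_lit 8708480) (BT.leaf (nat_lit 24263961)) (BT.leaf (nat_lit 49133581))) (BT.node (nat_lit 8708608) (BT.leaf (nat_lit 24264209)) (BT.leaf (nat_lit 24264213)))) (BT.node (nat_lit 8708864) (BT.node (nat_lit 8708800) (BT.leaf (nat_lit 24264477)) (BT.leaf (nat_lit 24264725))) (BT.node (nat_lit 8708928) (BT.leaf (nat_lit 24264733)) (BT.leaf (nat_lit 47510021)))))) (BT.node (nat_lit 8709568) (BT.node (nat_lit 8709312) (BT.node (nat_lit 8709184) (BT.node (nat_lit 8709120) (BT.leaf (nat_lit 24264973)) (BT.leaf (nat_lit 24264985))) (BT.node (nat_lit 8709248) (BT.leaf (nat_lit 24264989)) (BT.leaf (nat_lit 25089309)))) (BT.node (nat_lit 8709440) (BT.node (nat_lit 8709376) (BT.leaf (nat_lit 24265745)) (BT.leaf (nat_lit 25089049))) (BT.node (nat_lit 8709504) (BT.leaf (nat_lit 25008153)) (BT.leaf (nat_lit 24266773))))) (BT.node (nat_lit 8709824) (BT.node (nat_lit 8709696) (BT.node (nat_lit 8709632) (BT.leaf (nat_lit 24267025)) (BT.leaf (nat_lit 24267285))) (BT.node (nat_lit 8709760) (BT.leaf (nat_lit 24267293)) (BT.leaf (nat_lit 24267541)))) (BT.node (nat_lit 8709952) (BT.node (nat_lit 8709888) (BT.leaf (nat_lit 24267545)) (BT.leaf (nat_lit 24267793))) (BT.node (nat_lit 8710016) (BT.leaf (nat_lit 24268821)) (BT.leaf (nat_lit 24268825)))))))))) (BT.node (nat_lit 8719808) (BT.node (nat_lit 8715072) (BT.node (nat_lit 8712448) (BT.node (nat_lit 8711360) (BT.node (nat_lit 8710848) (BT.node (nat_lit 8710592) (BT.node (nat_lit 8710464) (BT.node (nat_lit 8710144) (BT.leaf (nat_lit 24704537)) (BT.leaf (nat_lit 24269589))) (BT.node (nat_lit 8710528) (BT.leaf (nat_lit 50814237)) (BT.leaf (nat_lit 27161093)))) (BT.node (nat_lit 8710720) (BT.node (nat_lit 8710656) (BT.leaf (nat_lit 27161605)) (BT.leaf (nat_lit 24272389))) (BT.node (nat_lit 8710784) (BT.leaf (nat_lit 25780753)) (BT.leaf (nat_lit 24272917))))) (BT.node (nat_lit 8711104) (BT.node (nat_lit 8710976) (BT.node (nat_lit 8710912) (BT.leaf (nat_lit 24273173)) (BT.leaf (nat_lit 24273953))) (BT.node (nat_lit 8711040) (BT.leaf (nat_lit 34838789)) (BT.leaf (nat_lit 24273417)))) (BT.node (nat_lit 8711232) (BT.node (nat_lit 8711168) (BT.leaf (nat_lit 24273421)) (BT.leaf (nat_lit 24273685))) (BT.node (nat_lit 8711296) (BT.leaf (nat_lit 24273941)) (BT.leaf (nat_lit 24274185)))))) (BT.node (nat_lit 8711936) (BT.node (nat_lit 8711616) (BT.node (nat_lit 8711488) (BT.node (nat_lit 8711424) (BT.leaf (nat_lit 24274189)) (BT.leaf (nat_lit 24274193))) (BT.node (nat_lit 8711552) (BT.leaf (nat_lit 24274201)) (BT.leaf (nat_lit 24274205)))) (BT.node (nat_lit 8711808) (BT.node (nat_lit 8711744) (BT.leaf (nat_lit 24274457)) (BT.leaf (nat_lit 28882185))) (BT.node (nat_lit 8711872) (BT.leaf (nat_lit 28882189)) (BT.leaf (nat_lit 28882205))))) (BT.node (nat_lit 8712192) (BT.node (nat_lit 8712064) (BT.node (nat_lit 8712000) (BT.leaf (nat_lit 24275729)) (BT.leaf (nat_lit 24275985))) (BT.node (nat_lit 8712128) (BT.leaf (nat_lit 34886661)) (BT.leaf (nat_lit 34886681)))) (BT.node (nat_lit 8712320) (BT.node (nat_lit 8712256) (BT.leaf (nat_lit 34886685)) (BT.leaf (nat_lit 24277785))) (BT.node (nat_lit 8712384) (BT.leaf (nat_lit 24277789)) (BT.leaf (nat_lit 24524305))))))) (BT.node (nat_lit 8713664) (BT.node (nat_lit 8713024) (BT.node (nat_lit 8712704) (BT.node (nat_lit 8712576) (BT.node (nat_lit 8712512) (BT.leaf (nat_lit 24278289)) (BT.leaf (nat_lit 24278553))) (BT.node (nat_lit 8712640) (BT.leaf (nat_lit 24278557)) (BT.leaf (nat_lit 24278797)))) (BT.node (nat_lit 8712896) (BT.node (nat_lit 8712768) (BT.leaf (nat_lit 24278801)) (BT.leaf (nat_lit 24278817))) (BT.node (nat_lit 8712960) (BT.leaf (nat_lit 33896469)) (BT.leaf (nat_lit 35009053))))) (BT.node (nat_lit 8713280) (BT.node (nat_lit 8713152) (BT.node (nat_lit 8713088) (BT.leaf (nat_lit 24279829)) (BT.leaf (nat_lit 27507985))) (BT.node (nat_lit 8713216) (BT.leaf (nat_lit 24280341)) (BT.leaf (nat_lit 33391889)))) (BT.node (nat_lit 8713536) (BT.node (nat_lit 8713472) (BT.leaf (nat_lit 27904285)) (BT.leaf (nat_lit 31320609))) (BT.node (nat_lit 8713600) (BT.leaf (nat_lit 24280841)) (BT.leaf (nat_lit 24280849)))))) (BT.node (nat_lit 8714176) (BT.node (nat_lit 8713920) (BT.node (nat_lit 8713792) (BT.node (nat_lit 8713728) (BT.leaf (nat_lit 24280865)) (BT.leaf (nat_lit 50821913))) (BT.node (nat_lit 8713856) (BT.leaf (nat_lit 29008669)) (BT.leaf (nat_lit 36366101)))) (BT.node (nat_lit 8714048) (BT.node (nat_lit 8713984) (BT.leaf (nat_lit 36362001)) (BT.leaf (nat_lit 24281617))) (BT.node (nat_lit 8714112) (BT.leaf (nat_lit 50822421)) (BT.leaf (nat_lit 50822933))))) (BT.node (nat_lit 8714688) (BT.node (nat_lit 8714560) (BT.node (nat_lit 8714368) (BT.leaf (nat_lit 46408713)) (BT.leaf (nat_lit 32706573))) (BT.node (nat_lit 8714624) (BT.leaf (nat_lit 36941585)) (BT.leaf (nat_lit 33176597)))) (BT.node (nat_lit 8714944) (BT.node (nat_lit 8714752) (BT.leaf (nat_lit 28391697)) (BT.leaf (nat_lit 32102945))) (BT.node (nat_lit 8715008) (BT.leaf (nat_lit 24285977)) (BT.leaf (nat_lit 24285981)))))))) (BT.node (nat_lit 8717376) (BT.node (nat_lit 8716160) (BT.node (nat_lit 8715584) (BT.node (nat_lit 8715328) (BT.node (nat_lit 8715200) (BT.node (nat_lit 8715136) (BT.leaf (nat_lit 25362201)) (BT.leaf (nat_lit 24286737))) (BT.node (nat_lit 8715264) (BT.leaf (nat_lit 25599773)) (BT.leaf (nat_lit 24287249)))) (BT.node (nat_lit 8715456) (BT.node (nat_lit 8715392) (BT.leaf (nat_lit 24287253)) (BT.leaf (nat_lit 46490121))) (BT.node (nat_lit 8715520) (BT.leaf (nat_lit 38114849)) (BT.leaf (nat_lit 27333913))))) (BT.node (nat_lit 8715840) (BT.node (nat_lit 8715712) (BT.node (nat_lit 8715648) (BT.leaf (nat_lit 33908509)) (BT.leaf (nat_lit 24290321))) (BT.node (nat_lit 8715776) (BT.leaf (nat_lit 24290577)) (BT.leaf (nat_lit 24290845)))) (BT.node (nat_lit 8715968) (BT.node (nat_lit 8715904) (BT.leaf (nat_lit 24291089)) (BT.leaf (nat_lit 24291601))) (BT.node (nat_lit 8716032) (BT.leaf (nat_lit 24291605)) (BT.leaf (nat_lit 34510369)))))) (BT.node (nat_lit 8716736) (BT.node (nat_lit 8716480) (BT.node (nat_lit 8716288) (BT.node (nat_lit 8716224) (BT.leaf (nat_lit 46366753)) (BT.leaf (nat_lit 34124293))) (BT.node (nat_lit 8716352) (BT.leaf (nat_lit 34089761)) (BT.leaf (nat_lit 24293905)))) (BT.node (nat_lit 8716608) (BT.node (nat_lit 8716544) (BT.leaf (nat_lit 26611473)) (BT.leaf (nat_lit 24296473))) (BT.node (nat_lit 8716672) (BT.leaf (nat_lit 24296721)) (BT.leaf (nat_lit 49077537))))) (BT.node (nat_lit 8716992) (BT.node (nat_lit 8716864) (BT.node (nat_lit 8716800) (BT.leaf (nat_lit 48783645)) (BT.leaf (nat_lit 24297745))) (BT.node (nat_lit 8716928) (BT.leaf (nat_lit 33041181)) (BT.leaf (nat_lit 24298001)))) (BT.node (nat_lit 8717248) (BT.node (nat_lit 8717056) (BT.leaf (nat_lit 31933445)) (BT.leaf (nat_lit 29040149))) (BT.node (nat_lit 8717312) (BT.leaf (nat_lit 34859781)) (BT.leaf (nat_lit 24298781))))))) (BT.node (nat_lit 8718464) (BT.node (nat_lit 8717888) (BT.node (nat_lit 8717632) (BT.node (nat_lit 8717504) (BT.node (nat_lit 8717440) (BT.leaf (nat_lit 31935749)) (BT.leaf (nat_lit 25788689))) (BT.node (nat_lit 8717568) (BT.leaf (nat_lit 25788433)) (BT.leaf (nat_lit 44452629)))) (BT.node (nat_lit 8717760) (BT.node (nat_lit 8717696) (BT.leaf (nat_lit 24299293)) (BT.leaf (nat_lit 24299537))) (BT.node (nat_lit 8717824) (BT.leaf (nat_lit 24299549)) (BT.leaf (nat_lit 24299801))))) (BT.node (nat_lit 8718144) (BT.node (nat_lit 8718016) (BT.node (nat_lit 8717952) (BT.leaf (nat_lit 24300305)) (BT.leaf (nat_lit 24300309))) (BT.node (nat_lit 8718080) (BT.leaf (nat_lit 24300557)) (BT.leaf (nat_lit 24300577)))) (BT.node (nat_lit 8718336) (BT.node (nat_lit 8718208) (BT.leaf (nat_lit 24300817)) (BT.leaf (nat_lit 29044241))) (BT.node (nat_lit 8718400) (BT.leaf (nat_lit 24301829)) (BT.leaf (nat_lit 24302097)))))) (BT.node (nat_lit 8719296) (BT.node (nat_lit 8718784) (BT.node (nat_lit 8718592) (BT.node (nat_lit 8718528) (BT.leaf (nat_lit 25789701)) (BT.leaf (nat_lit 34456861))) (BT.node (nat_lit 8718720) (BT.leaf (nat_lit 24303377)) (BT.leaf (nat_lit 33593365)))) (BT.node (nat_lit 8718976) (BT.node (nat_lit 8718848) (BT.leaf (nat_lit 24304145)) (BT.leaf (nat_lit 36445201))) (BT.node (nat_lit 8719232) (BT.leaf (nat_lit 24305681)) (BT.leaf (nat_lit 24306193))))) (BT.node (nat_lit 8719552) (BT.node (nat_lit 8719424) (BT.node (nat_lit 8719360) (BT.leaf (nat_lit 24306209)) (BT.leaf (nat_lit 37507093))) (BT.node (nat_lit 8719488) (BT.leaf (nat_lit 24307221)) (BT.leaf (nat_lit 50834197)))) (BT.node (nat_lit 8719680) (BT.node (nat_lit 8719616) (BT.leaf (nat_lit 31942689)) (BT.leaf (nat_lit 24307733))) (BT.node (nat_lit 8719744) (BT.leaf (nat_lit 24307737)) (BT.leaf (nat_lit 34860037))))))))) (BT.node (nat_lit 8725056) (BT.node (nat_lit 8722496) (BT.node (nat_lit 8721472) (BT.node (nat_lit 8720448) (BT.node (nat_lit 8720128) (BT.node (nat_lit 8719936) (BT.node (nat_lit 8719872) (BT.leaf (nat_lit 27343381)) (BT.leaf (nat_lit 46879249))) (BT.node (nat_lit 8720000) (BT.leaf (nat_lit 37043217)) (BT.leaf (nat_lit 46879265)))) (BT.node (nat_lit 8720320) (BT.node (nat_lit 8720192) (BT.leaf (nat_lit 32964621)) (BT.leaf (nat_lit 32964625))) (BT.node (nat_lit 8720384) (BT.leaf (nat_lit 46425093)) (BT.leaf (nat_lit 27311885))))) (BT.node (nat_lit 8720896) (BT.node (nat_lit 8720576) (BT.node (nat_lit 8720512) (BT.leaf (nat_lit 27981845)) (BT.leaf (nat_lit 28830481))) (BT.node (nat_lit 8720768) (BT.leaf (nat_lit 24309253)) (BT.leaf (nat_lit 31681049)))) (BT.node (nat_lit 8721152) (BT.node (nat_lit 8721024) (BT.leaf (nat_lit 50836245)) (BT.leaf (nat_lit 27640089))) (BT.node (nat_lit 8721344) (BT.leaf (nat_lit 50751249)) (BT.leaf (nat_lit 24312345)))))) (BT.node (nat_lit 8721984) (BT.node (nat_lit 8721728) (BT.node (nat_lit 8721600) (BT.node (nat_lit 8721536) (BT.leaf (nat_lit 48266529)) (BT.leaf (nat_lit 36405789))) (BT.node (nat_lit 8721664) (BT.leaf (nat_lit 24313365)) (BT.leaf (nat_lit 24315153)))) (BT.node (nat_lit 8721856) (BT.node (nat_lit 8721792) (BT.leaf (nat_lit 25564185)) (BT.leaf (nat_lit 24314901))) (BT.node (nat_lit 8721920) (BT.leaf (nat_lit 33536285)) (BT.leaf (nat_lit 27236369))))) (BT.node (nat_lit 8722240) (BT.node (nat_lit 8722112) (BT.node (nat_lit 8722048) (BT.leaf (nat_lit 37610781)) (BT.leaf (nat_lit 25728273))) (BT.node (nat_lit 8722176) (BT.leaf (nat_lit 25704209)) (BT.leaf (nat_lit 24316445)))) (BT.node (nat_lit 8722368) (BT.node (nat_lit 8722304) (BT.leaf (nat_lit 24316697)) (BT.leaf (nat_lit 50838305))) (BT.node (nat_lit 8722432) (BT.leaf (nat_lit 46579745)) (BT.leaf (nat_lit 24317725))))))) (BT.node (nat_lit 8723840) (BT.node (nat_lit 8723264) (BT.node (nat_lit 8723008) (BT.node (nat_lit 8722880) (BT.node (nat_lit 8722752) (BT.leaf (nat_lit 34524961)) (BT.leaf (nat_lit 49104405))) (BT.node (nat_lit 8722944) (BT.leaf (nat_lit 50736145)) (BT.leaf (nat_lit 24319505)))) (BT.node (nat_lit 8723136) (BT.node (nat_lit 8723072) (BT.leaf (nat_lit 24319521)) (BT.leaf (nat_lit 25789213))) (BT.node (nat_lit 8723200) (BT.leaf (nat_lit 24320285)) (BT.leaf (nat_lit 24320793))))) (BT.node (nat_lit 8723520) (BT.node (nat_lit 8723392) (BT.node (nat_lit 8723328) (BT.leaf (nat_lit 24321045)) (BT.leaf (nat_lit 34878737))) (BT.node (nat_lit 8723456) (BT.leaf (nat_lit 34893337)) (BT.leaf (nat_lit 24321297)))) (BT.node (nat_lit 8723648) (BT.node (nat_lit 8723584) (BT.leaf (nat_lit 24321301)) (BT.leaf (nat_lit 24321557))) (BT.node (nat_lit 8723776) (BT.leaf (nat_lit 34277409)) (BT.leaf (nat_lit 24322313)))))) (BT.node (nat_lit 8724416) (BT.node (nat_lit 8724160) (BT.node (nat_lit 8724032) (BT.node (nat_lit 8723904) (BT.leaf (nat_lit 50614557)) (BT.leaf (nat_lit 50614537))) (BT.node (nat_lit 8724096) (BT.leaf (nat_lit 24322337)) (BT.leaf (nat_lit 24322581)))) (BT.node (nat_lit 8724288) (BT.node (nat_lit 8724224) (BT.leaf (nat_lit 24322833)) (BT.leaf (nat_lit 24323093))) (BT.node (nat_lit 8724352) (BT.leaf (nat_lit 44550433)) (BT.leaf (nat_lit 29504801))))) (BT.node (nat_lit 8724672) (BT.node (nat_lit 8724544) (BT.node (nat_lit 8724480) (BT.leaf (nat_lit 24324637)) (BT.leaf (nat_lit 47546117))) (BT.node (nat_lit 8724608) (BT.leaf (nat_lit 47228693)) (BT.leaf (nat_lit 50843149)))) (BT.node (nat_lit 8724800) (BT.node (nat_lit 8724736) (BT.leaf (nat_lit 48490781)) (BT.leaf (nat_lit 26457621))) (BT.node (nat_lit 8724928) (BT.leaf (nat_lit 24326421)) (BT.leaf (nat_lit 47246881)))))))) (BT.node (nat_lit 8727424) (BT.node (nat_lit 8726080) (BT.node (nat_lit 8725568) (BT.node (nat_lit 8725312) (BT.node (nat_lit 8725184) (BT.node (nat_lit 8725120) (BT.leaf (nat_lit 24328461)) (BT.leaf (nat_lit 34900749))) (BT.node (nat_lit 8725248) (BT.leaf (nat_lit 51458833)) (BT.leaf (nat_lit 24328213)))) (BT.node (nat_lit 8725440) (BT.node (nat_lit 8725376) (BT.leaf (nat_lit 24328217)) (BT.leaf (nat_lit 24328221))) (BT.node (nat_lit 8725504) (BT.leaf (nat_lit 50846997)) (BT.leaf (nat_lit 50847265))))) (BT.node (nat_lit 8725824) (BT.node (nat_lit 8725696) (BT.node (nat_lit 8725632) (BT.leaf (nat_lit 24328985)) (BT.leaf (nat_lit 27372321))) (BT.node (nat_lit 8725760) (BT.leaf (nat_lit 46800389)) (BT.leaf (nat_lit 27510021)))) (BT.node (nat_lit 8725952) (BT.node (nat_lit 8725888) (BT.leaf (nat_lit 49914641)) (BT.leaf (nat_lit 24329997))) (BT.node (nat_lit 8726016) (BT.leaf (nat_lit 30138145)) (BT.leaf (nat_lit 50721561)))))) (BT.node (nat_lit 8726720) (BT.node (nat_lit 8726400) (BT.node (nat_lit 8726272) (BT.node (nat_lit 8726208) (BT.leaf (nat_lit 24330517)) (BT.leaf (nat_lit 24333073))) (BT.node (nat_lit 8726336) (BT.leaf (nat_lit 25803289)) (BT.leaf (nat_lit 25800981)))) (BT.node (nat_lit 8726592) (BT.node (nat_lit 8726464) (BT.leaf (nat_lit 34903317)) (BT.leaf (nat_lit 34516749))) (BT.node (nat_lit 8726656) (BT.leaf (nat_lit 24334353)) (BT.leaf (nat_lit 47922193))))) (BT.node (nat_lit 8727040) (BT.node (nat_lit 8726848) (BT.node (nat_lit 8726784) (BT.leaf (nat_lit 24334617)) (BT.leaf (nat_lit 28168221))) (BT.node (nat_lit 8726912) (BT.leaf (nat_lit 28166677)) (BT.leaf (nat_lit 24335637)))) (BT.node (nat_lit 8727296) (BT.node (nat_lit 8727104) (BT.leaf (nat_lit 50850577)) (BT.leaf (nat_lit 25803797))) (BT.node (nat_lit 8727360) (BT.leaf (nat_lit 24336149)) (BT.leaf (nat_lit 36818181))))))) (BT.node (nat_lit 8728768) (BT.node (nat_lit 8727936) (BT.node (nat_lit 8727680) (BT.node (nat_lit 8727552) (BT.node (nat_lit 8727488) (BT.leaf (nat_lit 48154401)) (BT.leaf (nat_lit 35016457))) (BT.node (nat_lit 8727616) (BT.leaf (nat_lit 35016461)) (BT.leaf (nat_lit 35016473)))) (BT.node (nat_lit 8727808) (BT.node (nat_lit 8727744) (BT.leaf (nat_lit 35016477)) (BT.leaf (nat_lit 27756821))) (BT.node (nat_lit 8727872) (BT.leaf (nat_lit 50853153)) (BT.leaf (nat_lit 50103073))))) (BT.node (nat_lit 8728320) (BT.node (nat_lit 8728128) (BT.node (nat_lit 8728064) (BT.leaf (nat_lit 33862433)) (BT.leaf (nat_lit 36225049))) (BT.node (nat_lit 8728192) (BT.leaf (nat_lit 33474589)) (BT.leaf (nat_lit 46980885)))) (BT.node (nat_lit 8728448) (BT.node (nat_lit 8728384) (BT.leaf (nat_lit 24340245)) (BT.leaf (nat_lit 24340249))) (BT.node (nat_lit 8728512) (BT.leaf (nat_lit 24340765)) (BT.leaf (nat_lit 24341269)))))) (BT.node (nat_lit 8729472) (BT.node (nat_lit 8729152) (BT.node (nat_lit 8728960) (BT.node (nat_lit 8728896) (BT.leaf (nat_lit 48595205)) (BT.leaf (nat_lit 24342289))) (BT.node (nat_lit 8729088) (BT.leaf (nat_lit 24342801)) (BT.leaf (nat_lit 30040345)))) (BT.node (nat_lit 8729280) (BT.node (nat_lit 8729216) (BT.leaf (nat_lit 33164565)) (BT.leaf (nat_lit 33164573))) (BT.node (nat_lit 8729408) (BT.leaf (nat_lit 24343305)) (BT.leaf (nat_lit 24343325))))) (BT.node (nat_lit 8729728) (BT.node (nat_lit 8729600) (BT.node (nat_lit 8729536) (BT.leaf (nat_lit 34212377)) (BT.leaf (nat_lit 34928921))) (BT.node (nat_lit 8729664) (BT.leaf (nat_lit 35287573)) (BT.leaf (nat_lit 39254285)))) (BT.node (nat_lit 8729856) (BT.node (nat_lit 8729792) (BT.leaf (nat_lit 24346641)) (BT.leaf (nat_lit 24347153))) (BT.node (nat_lit 8730048) (BT.leaf (nat_lit 29485573)) (BT.leaf (nat_lit 25797905))))))))))) (BT.node (nat_lit 8750400) (BT.node (nat_lit 8740864) (BT.node (nat_lit 8735936) (BT.node (nat_lit 8733248) (BT.node (nat_lit 8731456) (BT.node (nat_lit 8730624) (BT.node (nat_lit 8730368) (BT.node (nat_lit 8730240) (BT.node (nat_lit 8730176) (BT.leaf (nat_lit 25810193)) (BT.leaf (nat_lit 24348953))) (BT.node (nat_lit 8730304) (BT.leaf (nat_lit 24348957)) (BT.leaf (nat_lit 43736325)))) (BT.node (nat_lit 8730496) (BT.node (nat_lit 8730432) (BT.leaf (nat_lit 24349981)) (BT.leaf (nat_lit 24350229))) (BT.node (nat_lit 8730560) (BT.leaf (nat_lit 25499665)) (BT.leaf (nat_lit 25544977))))) (BT.node (nat_lit 8731072) (BT.node (nat_lit 8730880) (BT.node (nat_lit 8730688) (BT.leaf (nat_lit 24350485)) (BT.leaf (nat_lit 35558681))) (BT.node (nat_lit 8731008) (BT.leaf (nat_lit 24350997)) (BT.leaf (nat_lit 47314209)))) (BT.node (nat_lit 8731328) (BT.node (nat_lit 8731136) (BT.leaf (nat_lit 24351253)) (BT.leaf (nat_lit 24351509))) (BT.node (nat_lit 8731392) (BT.leaf (nat_lit 34230561)) (BT.leaf (nat_lit 34230305)))))) (BT.node (nat_lit 8732352) (BT.node (nat_lit 8731840) (BT.node (nat_lit 8731648) (BT.node (nat_lit 8731520) (BT.leaf (nat_lit 42279445)) (BT.leaf (nat_lit 51125513))) (BT.node (nat_lit 8731776) (BT.leaf (nat_lit 24353301)) (BT.leaf (nat_lit 24354321)))) (BT.node (nat_lit 8732160) (BT.node (nat_lit 8732032) (BT.leaf (nat_lit 46938401)) (BT.leaf (nat_lit 50864653))) (BT.node (nat_lit 8732224) (BT.leaf (nat_lit 24356637)) (BT.leaf (nat_lit 34439181))))) (BT.node (nat_lit 8732736) (BT.node (nat_lit 8732608) (BT.node (nat_lit 8732544) (BT.leaf (nat_lit 34439197)) (BT.leaf (nat_lit 24357657))) (BT.node (nat_lit 8732672) (BT.leaf (nat_lit 25058833)) (BT.leaf (nat_lit 28484897)))) (BT.node (nat_lit 8732864) (BT.node (nat_lit 8732800) (BT.leaf (nat_lit 24357909)) (BT.leaf (nat_lit 24357913))) (BT.node (nat_lit 8733056) (BT.leaf (nat_lit 24357917)) (BT.leaf (nat_lit 33695749))))))) (BT.node (nat_lit 8734464) (BT.node (nat_lit 8733824) (BT.node (nat_lit 8733568) (BT.node (nat_lit 8733440) (BT.node (nat_lit 8733376) (BT.leaf (nat_lit 26621209)) (BT.leaf (nat_lit 24359449))) (BT.node (nat_lit 8733504) (BT.leaf (nat_lit 24359705)) (BT.leaf (nat_lit 24359709)))) (BT.node (nat_lit 8733696) (BT.node (nat_lit 8733632) (BT.leaf (nat_lit 24359957)) (BT.leaf (nat_lit 24360977))) (BT.node (nat_lit 8733760) (BT.leaf (nat_lit 50142221)) (BT.leaf (nat_lit 24361489))))) (BT.node (nat_lit 8734208) (BT.node (nat_lit 8734016) (BT.node (nat_lit 8733952) (BT.leaf (nat_lit 24361989)) (BT.leaf (nat_lit 24362005))) (BT.node (nat_lit 8734080) (BT.leaf (nat_lit 24362009)) (BT.leaf (nat_lit 24362257)))) (BT.node (nat_lit 8734336) (BT.node (nat_lit 8734272) (BT.leaf (nat_lit 25798929)) (BT.leaf (nat_lit 36849157))) (BT.node (nat_lit 8734400) (BT.leaf (nat_lit 24362525)) (BT.leaf (nat_lit 25484305)))))) (BT.node (nat_lit 8735168) (BT.node (nat_lit 8734784) (BT.node (nat_lit 8734592) (BT.node (nat_lit 8734528) (BT.leaf (nat_lit 47328801)) (BT.leaf (nat_lit 24940561))) (BT.node (nat_lit 8734720) (BT.leaf (nat_lit 50475025)) (BT.leaf (nat_lit 24363549)))) (BT.node (nat_lit 8735040) (BT.node (nat_lit 8734976) (BT.leaf (nat_lit 24363797)) (BT.leaf (nat_lit 49155349))) (BT.node (nat_lit 8735104) (BT.leaf (nat_lit 24364061)) (BT.leaf (nat_lit 24365069))))) (BT.node (nat_lit 8735424) (BT.node (nat_lit 8735296) (BT.node (nat_lit 8735232) (BT.leaf (nat_lit 46518293)) (BT.leaf (nat_lit 46518305))) (BT.node (nat_lit 8735360) (BT.leaf (nat_lit 24365065)) (BT.leaf (nat_lit 46517785)))) (BT.node (nat_lit 8735552) (BT.node (nat_lit 8735488) (BT.leaf (nat_lit 46517793)) (BT.leaf (nat_lit 26632981))) (BT.node (nat_lit 8735616) (BT.leaf (nat_lit 50875141)) (BT.leaf (nat_lit 50568709)))))))) (BT.node (nat_lit 8738240) (BT.node (nat_lit 8737088) (BT.node (nat_lit 8736512) (BT.node (nat_lit 8736192) (BT.node (nat_lit 8736064) (BT.node (nat_lit 8736000) (BT.leaf (nat_lit 51146785)) (BT.leaf (nat_lit 25982225))) (BT.node (nat_lit 8736128) (BT.leaf (nat_lit 31906069)) (BT.leaf (nat_lit 49138449)))) (BT.node (nat_lit 8736384) (BT.node (nat_lit 8736320) (BT.leaf (nat_lit 50861841)) (BT.leaf (nat_lit 24366621))) (BT.node (nat_lit 8736448) (BT.leaf (nat_lit 24366865)) (BT.leaf (nat_lit 46616857))))) (BT.node (nat_lit 8736768) (BT.node (nat_lit 8736640) (BT.node (nat_lit 8736576) (BT.leaf (nat_lit 24367377)) (BT.leaf (nat_lit 31900677))) (BT.node (nat_lit 8736704) (BT.leaf (nat_lit 28984341)) (BT.leaf (nat_lit 24369169)))) (BT.node (nat_lit 8736960) (BT.node (nat_lit 8736896) (BT.leaf (nat_lit 34832921)) (BT.leaf (nat_lit 34852357))) (BT.node (nat_lit 8737024) (BT.leaf (nat_lit 24372249)) (BT.leaf (nat_lit 24372253)))))) (BT.node (nat_lit 8737728) (BT.node (nat_lit 8737408) (BT.node (nat_lit 8737216) (BT.node (nat_lit 8737152) (BT.leaf (nat_lit 24373521)) (BT.leaf (nat_lit 24373525))) (BT.node (nat_lit 8737280) (BT.leaf (nat_lit 49165061)) (BT.leaf (nat_lit 47894533)))) (BT.node (nat_lit 8737600) (BT.node (nat_lit 8737536) (BT.leaf (nat_lit 42590241)) (BT.leaf (nat_lit 25447445))) (BT.node (nat_lit 8737664) (BT.leaf (nat_lit 25447453)) (BT.leaf (nat_lit 37355797))))) (BT.node (nat_lit 8737984) (BT.node (nat_lit 8737856) (BT.node (nat_lit 8737792) (BT.leaf (nat_lit 24377625)) (BT.leaf (nat_lit 24377629))) (BT.node (nat_lit 8737920) (BT.leaf (nat_lit 26637585)) (BT.leaf (nat_lit 33844761)))) (BT.node (nat_lit 8738112) (BT.node (nat_lit 8738048) (BT.leaf (nat_lit 33844765)) (BT.leaf (nat_lit 33866785))) (BT.node (nat_lit 8738176) (BT.leaf (nat_lit 26637845)) (BT.leaf (nat_lit 26640157))))))) (BT.node (nat_lit 8739584) (BT.node (nat_lit 8738816) (BT.node (nat_lit 8738560) (BT.node (nat_lit 8738368) (BT.node (nat_lit 8738304) (BT.leaf (nat_lit 50881565)) (BT.leaf (nat_lit 24379925))) (BT.node (nat_lit 8738432) (BT.leaf (nat_lit 24380181)) (BT.leaf (nat_lit 33748741)))) (BT.node (nat_lit 8738688) (BT.node (nat_lit 8738624) (BT.leaf (nat_lit 24382737)) (BT.leaf (nat_lit 24382489))) (BT.node (nat_lit 8738752) (BT.leaf (nat_lit 27599109)) (BT.leaf (nat_lit 35972881))))) (BT.node (nat_lit 8739200) (BT.node (nat_lit 8739008) (BT.node (nat_lit 8738880) (BT.leaf (nat_lit 31723797)) (BT.leaf (nat_lit 31725085))) (BT.node (nat_lit 8739072) (BT.leaf (nat_lit 48362501)) (BT.leaf (nat_lit 24383521)))) (BT.node (nat_lit 8739392) (BT.node (nat_lit 8739328) (BT.leaf (nat_lit 24384021)) (BT.leaf (nat_lit 28745749))) (BT.node (nat_lit 8739520) (BT.leaf (nat_lit 24385041)) (BT.leaf (nat_lit 50570501)))))) (BT.node (nat_lit 8740224) (BT.node (nat_lit 8739840) (BT.node (nat_lit 8739712) (BT.node (nat_lit 8739648) (BT.leaf (nat_lit 34971169)) (BT.leaf (nat_lit 34958877))) (BT.node (nat_lit 8739776) (BT.leaf (nat_lit 50884625)) (BT.leaf (nat_lit 43424529)))) (BT.node (nat_lit 8740032) (BT.node (nat_lit 8739968) (BT.leaf (nat_lit 34311185)) (BT.leaf (nat_lit 25026837))) (BT.node (nat_lit 8740096) (BT.leaf (nat_lit 24388113)) (BT.leaf (nat_lit 24388373))))) (BT.node (nat_lit 8740480) (BT.node (nat_lit 8740352) (BT.node (nat_lit 8740288) (BT.leaf (nat_lit 24388889)) (BT.leaf (nat_lit 31795481))) (BT.node (nat_lit 8740416) (BT.leaf (nat_lit 40039453)) (BT.leaf (nat_lit 50784533)))) (BT.node (nat_lit 8740672) (BT.node (nat_lit 8740544) (BT.leaf (nat_lit 24390677)) (BT.leaf (nat_lit 24390933))) (BT.node (nat_lit 8740736) (BT.leaf (nat_lit 42749217)) (BT.leaf (nat_lit 24391697))))))))) (BT.node (nat_lit 8745792) (BT.node (nat_lit 8743488) (BT.node (nat_lit 8742336) (BT.node (nat_lit 8741760) (BT.node (nat_lit 8741312) (BT.node (nat_lit 8741120) (BT.node (nat_lit 8741056) (BT.leaf (nat_lit 24392213)) (BT.leaf (nat_lit 24392725))) (BT.node (nat_lit 8741184) (BT.leaf (nat_lit 24392981)) (BT.leaf (nat_lit 24393493)))) (BT.node (nat_lit 8741440) (BT.node (nat_lit 8741376) (BT.leaf (nat_lit 43881249)) (BT.leaf (nat_lit 48933897))) (BT.node (nat_lit 8741632) (BT.leaf (nat_lit 37173781)) (BT.leaf (nat_lit 51713045))))) (BT.node (nat_lit 8742080) (BT.node (nat_lit 8741888) (BT.node (nat_lit 8741824) (BT.leaf (nat_lit 32307745)) (BT.leaf (nat_lit 24396561))) (BT.node (nat_lit 8741952) (BT.leaf (nat_lit 25707793)) (BT.leaf (nat_lit 25755153)))) (BT.node (nat_lit 8742208) (BT.node (nat_lit 8742144) (BT.leaf (nat_lit 24397077)) (BT.leaf (nat_lit 25312273))) (BT.node (nat_lit 8742272) (BT.leaf (nat_lit 24398105)) (BT.leaf (nat_lit 33761553)))))) (BT.node (nat_lit 8742976) (BT.node (nat_lit 8742592) (BT.node (nat_lit 8742464) (BT.node (nat_lit 8742400) (BT.leaf (nat_lit 40088837)) (BT.leaf (nat_lit 24398365))) (BT.node (nat_lit 8742528) (BT.leaf (nat_lit 49197073)) (BT.leaf (nat_lit 47095573)))) (BT.node (nat_lit 8742784) (BT.node (nat_lit 8742656) (BT.leaf (nat_lit 50888725)) (BT.leaf (nat_lit 50888977))) (BT.node (nat_lit 8742912) (BT.leaf (nat_lit 24400405)) (BT.leaf (nat_lit 27568393))))) (BT.node (nat_lit 8743232) (BT.node (nat_lit 8743104) (BT.node (nat_lit 8743040) (BT.leaf (nat_lit 28717829)) (BT.leaf (nat_lit 46746145))) (BT.node (nat_lit 8743168) (BT.leaf (nat_lit 46442265)) (BT.leaf (nat_lit 50889745)))) (BT.node (nat_lit 8743360) (BT.node (nat_lit 8743296) (BT.leaf (nat_lit 50889749)) (BT.leaf (nat_lit 24402193))) (BT.node (nat_lit 8743424) (BT.leaf (nat_lit 24402449)) (BT.leaf (nat_lit 24402465))))))) (BT.node (nat_lit 8744512) (BT.node (nat_lit 8744000) (BT.node (nat_lit 8743744) (BT.node (nat_lit 8743616) (BT.node (nat_lit 8743552) (BT.leaf (nat_lit 24402705)) (BT.leaf (nat_lit 24403217))) (BT.node (nat_lit 8743680) (BT.leaf (nat_lit 33070869)) (BT.leaf (nat_lit 33943821)))) (BT.node (nat_lit 8743872) (BT.node (nat_lit 8743808) (BT.leaf (nat_lit 49203729)) (BT.leaf (nat_lit 24404505))) (BT.node (nat_lit 8743936) (BT.leaf (nat_lit 24404509)) (BT.leaf (nat_lit 33109777))))) (BT.node (nat_lit 8744256) (BT.node (nat_lit 8744128) (BT.node (nat_lit 8744064) (BT.leaf (nat_lit 34975769)) (BT.leaf (nat_lit 24406545))) (BT.node (nat_lit 8744192) (BT.leaf (nat_lit 24406809)) (BT.leaf (nat_lit 24406813)))) (BT.node (nat_lit 8744384) (BT.node (nat_lit 8744320) (BT.leaf (nat_lit 24723997)) (BT.leaf (nat_lit 32435233))) (BT.node (nat_lit 8744448) (BT.leaf (nat_lit 43462433)) (BT.leaf (nat_lit 24408853)))))) (BT.node (nat_lit 8745088) (BT.node (nat_lit 8744768) (BT.node (nat_lit 8744640) (BT.node (nat_lit 8744576) (BT.leaf (nat_lit 24408861)) (BT.leaf (nat_lit 24409105))) (BT.node (nat_lit 8744704) (BT.leaf (nat_lit 50595865)) (BT.leaf (nat_lit 31047433)))) (BT.node (nat_lit 8744960) (BT.node (nat_lit 8744832) (BT.leaf (nat_lit 25896197)) (BT.leaf (nat_lit 49214725))) (BT.node (nat_lit 8745024) (BT.leaf (nat_lit 36157189)) (BT.leaf (nat_lit 33073693))))) (BT.node (nat_lit 8745536) (BT.node (nat_lit 8745216) (BT.node (nat_lit 8745152) (BT.leaf (nat_lit 24411921)) (BT.leaf (nat_lit 33732101))) (BT.node (nat_lit 8745472) (BT.leaf (nat_lit 26267665)) (BT.leaf (nat_lit 28159761)))) (BT.node (nat_lit 8745664) (BT.node (nat_lit 8745600) (BT.leaf (nat_lit 30533665)) (BT.leaf (nat_lit 33024033))) (BT.node (nat_lit 8745728) (BT.leaf (nat_lit 24416025)) (BT.leaf (nat_lit 24416029)))))))) (BT.node (nat_lit 8748224) (BT.node (nat_lit 8747072) (BT.node (nat_lit 8746496) (BT.node (nat_lit 8746240) (BT.node (nat_lit 8746048) (BT.node (nat_lit 8745856) (BT.leaf (nat_lit 48620569)) (BT.leaf (nat_lit 24416269))) (BT.node (nat_lit 8746176) (BT.leaf (nat_lit 24416529)) (BT.leaf (nat_lit 34310169)))) (BT.node (nat_lit 8746368) (BT.node (nat_lit 8746304) (BT.leaf (nat_lit 49367561)) (BT.leaf (nat_lit 30565397))) (BT.node (nat_lit 8746432) (BT.leaf (nat_lit 33272857)) (BT.leaf (nat_lit 24418325))))) (BT.node (nat_lit 8746752) (BT.node (nat_lit 8746624) (BT.node (nat_lit 8746560) (BT.leaf (nat_lit 24418577)) (BT.leaf (nat_lit 24418581))) (BT.node (nat_lit 8746688) (BT.leaf (nat_lit 24418837)) (BT.leaf (nat_lit 33868557)))) (BT.node (nat_lit 8746944) (BT.node (nat_lit 8746880) (BT.leaf (nat_lit 25119765)) (BT.leaf (nat_lit 25119773))) (BT.node (nat_lit 8747008) (BT.leaf (nat_lit 35028485)) (BT.leaf (nat_lit 24421661)))))) (BT.node (nat_lit 8747648) (BT.node (nat_lit 8747392) (BT.node (nat_lit 8747264) (BT.node (nat_lit 8747136) (BT.leaf (nat_lit 49939217)) (BT.leaf (nat_lit 24422169))) (BT.node (nat_lit 8747328) (BT.leaf (nat_lit 50895381)) (BT.leaf (nat_lit 24422685)))) (BT.node (nat_lit 8747520) (BT.node (nat_lit 8747456) (BT.leaf (nat_lit 25867549)) (BT.leaf (nat_lit 46725665))) (BT.node (nat_lit 8747584) (BT.leaf (nat_lit 24424977)) (BT.leaf (nat_lit 50896149))))) (BT.node (nat_lit 8747904) (BT.node (nat_lit 8747776) (BT.node (nat_lit 8747712) (BT.leaf (nat_lit 49228549)) (BT.leaf (nat_lit 24426265))) (BT.node (nat_lit 8747840) (BT.leaf (nat_lit 24426269)) (BT.leaf (nat_lit 49231121)))) (BT.node (nat_lit 8748096) (BT.node (nat_lit 8748032) (BT.leaf (nat_lit 46906913)) (BT.leaf (nat_lit 24427025))) (BT.node (nat_lit 8748160) (BT.leaf (nat_lit 24427537)) (BT.leaf (nat_lit 25936661))))))) (BT.node (nat_lit 8749248) (BT.node (nat_lit 8748736) (BT.node (nat_lit 8748480) (BT.node (nat_lit 8748352) (BT.node (nat_lit 8748288) (BT.leaf (nat_lit 28463897)) (BT.leaf (nat_lit 28463901))) (BT.node (nat_lit 8748416) (BT.leaf (nat_lit 28356889)) (BT.leaf (nat_lit 30587165)))) (BT.node (nat_lit 8748608) (BT.node (nat_lit 8748544) (BT.leaf (nat_lit 50899233)) (BT.leaf (nat_lit 34550557))) (BT.node (nat_lit 8748672) (BT.leaf (nat_lit 24429329)) (BT.leaf (nat_lit 24429841))))) (BT.node (nat_lit 8748992) (BT.node (nat_lit 8748864) (BT.node (nat_lit 8748800) (BT.leaf (nat_lit 28202765)) (BT.leaf (nat_lit 47999509))) (BT.node (nat_lit 8748928) (BT.leaf (nat_lit 24430613)) (BT.leaf (nat_lit 50901005)))) (BT.node (nat_lit 8749120) (BT.node (nat_lit 8749056) (BT.leaf (nat_lit 39226901)) (BT.leaf (nat_lit 31437601))) (BT.node (nat_lit 8749184) (BT.leaf (nat_lit 24430357)) (BT.leaf (nat_lit 50903573)))))) (BT.node (nat_lit 8749824) (BT.node (nat_lit 8749568) (BT.node (nat_lit 8749376) (BT.node (nat_lit 8749312) (BT.leaf (nat_lit 34998537)) (BT.leaf (nat_lit 24435989))) (BT.node (nat_lit 8749440) (BT.leaf (nat_lit 24432405)) (BT.leaf (nat_lit 24433177)))) (BT.node (nat_lit 8749696) (BT.node (nat_lit 8749632) (BT.leaf (nat_lit 24433697)) (BT.leaf (nat_lit 25667093))) (BT.node (nat_lit 8749760) (BT.leaf (nat_lit 34596885)) (BT.leaf (nat_lit 24434461))))) (BT.node (nat_lit 8750080) (BT.node (nat_lit 8749952) (BT.node (nat_lit 8749888) (BT.leaf (nat_lit 25852697)) (BT.leaf (nat_lit 24435221))) (BT.node (nat_lit 8750016) (BT.leaf (nat_lit 24435473)) (BT.leaf (nat_lit 38114593)))) (BT.node (nat_lit 8750272) (BT.node (nat_lit 8750208) (BT.leaf (nat_lit 24436241)) (BT.leaf (nat_lit 24436501))) (BT.node (nat_lit 8750336) (BT.leaf (nat_lit 46590469)) (BT.leaf (nat_lit 43813385)))))))))) (BT.node (nat_lit 8760448) (BT.node (nat_lit 8755328) (BT.node (nat_lit 8752960) (BT.node (nat_lit 8751552) (BT.node (nat_lit 8750912) (BT.node (nat_lit 8750656) (BT.node (nat_lit 8750528) (BT.node (nat_lit 8750464) (BT.leaf (nat_lit 24437021)) (BT.leaf (nat_lit 36473377))) (BT.node (nat_lit 8750592) (BT.leaf (nat_lit 24439573)) (BT.leaf (nat_lit 50910753)))) (BT.node (nat_lit 8750784) (BT.node (nat_lit 8750720) (BT.leaf (nat_lit 24438301)) (BT.leaf (nat_lit 49998613))) (BT.node (nat_lit 8750848) (BT.leaf (nat_lit 47768069)) (BT.leaf (nat_lit 24438557))))) (BT.node (nat_lit 8751168) (BT.node (nat_lit 8751040) (BT.node (nat_lit 8750976) (BT.leaf (nat_lit 24440085)) (BT.leaf (nat_lit 50907413))) (BT.node (nat_lit 8751104) (BT.leaf (nat_lit 24440849)) (BT.leaf (nat_lit 47854625)))) (BT.node (nat_lit 8751296) (BT.node (nat_lit 8751232) (BT.leaf (nat_lit 37884945)) (BT.leaf (nat_lit 43379973))) (BT.node (nat_lit 8751360) (BT.leaf (nat_lit 37436185)) (BT.leaf (nat_lit 33869849)))))) (BT.node (nat_lit 8752256) (BT.node (nat_lit 8751872) (BT.node (nat_lit 8751680) (BT.node (nat_lit 8751616) (BT.leaf (nat_lit 26650897)) (BT.leaf (nat_lit 26650641))) (BT.node (nat_lit 8751744) (BT.leaf (nat_lit 41972489)) (BT.leaf (nat_lit 33017353)))) (BT.node (nat_lit 8752128) (BT.node (nat_lit 8752064) (BT.leaf (nat_lit 24445205)) (BT.leaf (nat_lit 46444057))) (BT.node (nat_lit 8752192) (BT.leaf (nat_lit 48313369)) (BT.leaf (nat_lit 26752777))))) (BT.node (nat_lit 8752640) (BT.node (nat_lit 8752512) (BT.node (nat_lit 8752320) (BT.leaf (nat_lit 27508237)) (BT.leaf (nat_lit 26755093))) (BT.node (nat_lit 8752576) (BT.leaf (nat_lit 24449049)) (BT.leaf (nat_lit 24449053)))) (BT.node (nat_lit 8752832) (BT.node (nat_lit 8752704) (BT.leaf (nat_lit 24449809)) (BT.leaf (nat_lit 24450313))) (BT.node (nat_lit 8752896) (BT.leaf (nat_lit 24450841)) (BT.leaf (nat_lit 28663569))))))) (BT.node (nat_lit 8754112) (BT.node (nat_lit 8753536) (BT.node (nat_lit 8753280) (BT.node (nat_lit 8753152) (BT.node (nat_lit 8753024) (BT.leaf (nat_lit 27155729)) (BT.leaf (nat_lit 47659297))) (BT.node (nat_lit 8753216) (BT.leaf (nat_lit 24452629)) (BT.leaf (nat_lit 24452881)))) (BT.node (nat_lit 8753408) (BT.node (nat_lit 8753344) (BT.leaf (nat_lit 29809413)) (BT.leaf (nat_lit 33905685))) (BT.node (nat_lit 8753472) (BT.leaf (nat_lit 33905693)) (BT.leaf (nat_lit 33374485))))) (BT.node (nat_lit 8753792) (BT.node (nat_lit 8753664) (BT.node (nat_lit 8753600) (BT.leaf (nat_lit 25856785)) (BT.leaf (nat_lit 24454937))) (BT.node (nat_lit 8753728) (BT.leaf (nat_lit 24454941)) (BT.leaf (nat_lit 26282769)))) (BT.node (nat_lit 8753920) (BT.node (nat_lit 8753856) (BT.leaf (nat_lit 24455701)) (BT.leaf (nat_lit 35014937))) (BT.node (nat_lit 8753984) (BT.leaf (nat_lit 24455953)) (BT.leaf (nat_lit 26282513)))))) (BT.node (nat_lit 8754688) (BT.node (nat_lit 8754432) (BT.node (nat_lit 8754304) (BT.node (nat_lit 8754240) (BT.leaf (nat_lit 25168149)) (BT.leaf (nat_lit 24457493))) (BT.node (nat_lit 8754368) (BT.leaf (nat_lit 24457501)) (BT.leaf (nat_lit 36079893)))) (BT.node (nat_lit 8754560) (BT.node (nat_lit 8754496) (BT.leaf (nat_lit 35909137)) (BT.leaf (nat_lit 25859861))) (BT.node (nat_lit 8754624) (BT.leaf (nat_lit 35018009)) (BT.leaf (nat_lit 42959365))))) (BT.node (nat_lit 8754944) (BT.node (nat_lit 8754816) (BT.node (nat_lit 8754752) (BT.leaf (nat_lit 33575965)) (BT.leaf (nat_lit 24461589))) (BT.node (nat_lit 8754880) (BT.leaf (nat_lit 35190293)) (BT.leaf (nat_lit 40894749)))) (BT.node (nat_lit 8755136) (BT.node (nat_lit 8755072) (BT.leaf (nat_lit 28619041)) (BT.leaf (nat_lit 36523289))) (BT.node (nat_lit 8755200) (BT.leaf (nat_lit 36969233)) (BT.leaf (nat_lit 24464661)))))))) (BT.node (nat_lit 8757760) (BT.node (nat_lit 8756352) (BT.node (nat_lit 8755840) (BT.node (nat_lit 8755584) (BT.node (nat_lit 8755456) (BT.node (nat_lit 8755392) (BT.leaf (nat_lit 29968157)) (BT.leaf (nat_lit 48655889))) (BT.node (nat_lit 8755520) (BT.leaf (nat_lit 33326621)) (BT.leaf (nat_lit 31825681)))) (BT.node (nat_lit 8755712) (BT.node (nat_lit 8755648) (BT.leaf (nat_lit 24465937)) (BT.leaf (nat_lit 24466205))) (BT.node (nat_lit 8755776) (BT.leaf (nat_lit 37233937)) (BT.leaf (nat_lit 24468513))))) (BT.node (nat_lit 8756096) (BT.node (nat_lit 8755968) (BT.node (nat_lit 8755904) (BT.leaf (nat_lit 30799641)) (BT.leaf (nat_lit 24469781))) (BT.node (nat_lit 8756032) (BT.leaf (nat_lit 24470033)) (BT.leaf (nat_lit 24470545)))) (BT.node (nat_lit 8756224) (BT.node (nat_lit 8756160) (BT.leaf (nat_lit 25864721)) (BT.leaf (nat_lit 24470297))) (BT.node (nat_lit 8756288) (BT.leaf (nat_lit 24470301)) (BT.leaf (nat_lit 24470549)))))) (BT.node (nat_lit 8756864) (BT.node (nat_lit 8756608) (BT.node (nat_lit 8756480) (BT.node (nat_lit 8756416) (BT.leaf (nat_lit 24470801)) (BT.leaf (nat_lit 29395461))) (BT.node (nat_lit 8756544) (BT.leaf (nat_lit 24471061)) (BT.leaf (nat_lit 34887441)))) (BT.node (nat_lit 8756736) (BT.node (nat_lit 8756672) (BT.leaf (nat_lit 33608721)) (BT.leaf (nat_lit 50894109))) (BT.node (nat_lit 8756800) (BT.leaf (nat_lit 24472085)) (BT.leaf (nat_lit 25902617))))) (BT.node (nat_lit 8757312) (BT.node (nat_lit 8757056) (BT.node (nat_lit 8756992) (BT.leaf (nat_lit 24472593)) (BT.leaf (nat_lit 34865437))) (BT.node (nat_lit 8757120) (BT.leaf (nat_lit 24474137)) (BT.leaf (nat_lit 49869841)))) (BT.node (nat_lit 8757568) (BT.node (nat_lit 8757440) (BT.leaf (nat_lit 50566673)) (BT.leaf (nat_lit 50920985))) (BT.node (nat_lit 8757632) (BT.leaf (nat_lit 24476177)) (BT.leaf (nat_lit 24476937))))))) (BT.node (nat_lit 8759232) (BT.node (nat_lit 8758464) (BT.node (nat_lit 8758016) (BT.node (nat_lit 8757888) (BT.node (nat_lit 8757824) (BT.leaf (nat_lit 24476953)) (BT.leaf (nat_lit 24476957))) (BT.node (nat_lit 8757952) (BT.leaf (nat_lit 24477713)) (BT.leaf (nat_lit 24478233)))) (BT.node (nat_lit 8758208) (BT.node (nat_lit 8758144) (BT.leaf (nat_lit 24478237)) (BT.leaf (nat_lit 28859153))) (BT.node (nat_lit 8758400) (BT.leaf (nat_lit 34182673)) (BT.leaf (nat_lit 24479505))))) (BT.node (nat_lit 8758912) (BT.node (nat_lit 8758592) (BT.node (nat_lit 8758528) (BT.leaf (nat_lit 25868825)) (BT.leaf (nat_lit 30219781))) (BT.node (nat_lit 8758784) (BT.leaf (nat_lit 24480273)) (BT.leaf (nat_lit 24480529)))) (BT.node (nat_lit 8759104) (BT.node (nat_lit 8758976) (BT.leaf (nat_lit 24480545)) (BT.leaf (nat_lit 28859141))) (BT.node (nat_lit 8759168) (BT.leaf (nat_lit 50926093)) (BT.leaf (nat_lit 24482069)))))) (BT.node (nat_lit 8759808) (BT.node (nat_lit 8759488) (BT.node (nat_lit 8759360) (BT.node (nat_lit 8759296) (BT.leaf (nat_lit 24482321)) (BT.leaf (nat_lit 24482581))) (BT.node (nat_lit 8759424) (BT.leaf (nat_lit 33991969)) (BT.leaf (nat_lit 24483861)))) (BT.node (nat_lit 8759616) (BT.node (nat_lit 8759552) (BT.leaf (nat_lit 24483869)) (BT.leaf (nat_lit 24484373))) (BT.node (nat_lit 8759744) (BT.leaf (nat_lit 35750417)) (BT.leaf (nat_lit 37345561))))) (BT.node (nat_lit 8760064) (BT.node (nat_lit 8759936) (BT.node (nat_lit 8759872) (BT.leaf (nat_lit 30841869)) (BT.leaf (nat_lit 48866073))) (BT.node (nat_lit 8760000) (BT.leaf (nat_lit 34512917)) (BT.leaf (nat_lit 35344417)))) (BT.node (nat_lit 8760192) (BT.node (nat_lit 8760128) (BT.leaf (nat_lit 24487185)) (BT.leaf (nat_lit 24486929))) (BT.node (nat_lit 8760256) (BT.leaf (nat_lit 50928405)) (BT.leaf (nat_lit 37167633))))))))) (BT.node (nat_lit 8765248) (BT.node (nat_lit 8762816) (BT.node (nat_lit 8761728) (BT.node (nat_lit 8761024) (BT.node (nat_lit 8760704) (BT.node (nat_lit 8760576) (BT.node (nat_lit 8760512) (BT.leaf (nat_lit 50929173)) (BT.leaf (nat_lit 26736389))) (BT.node (nat_lit 8760640) (BT.leaf (nat_lit 24488977)) (BT.leaf (nat_lit 34621957)))) (BT.node (nat_lit 8760832) (BT.node (nat_lit 8760768) (BT.leaf (nat_lit 49843985)) (BT.leaf (nat_lit 24490001))) (BT.node (nat_lit 8760960) (BT.leaf (nat_lit 50929681)) (BT.leaf (nat_lit 50930209))))) (BT.node (nat_lit 8761408) (BT.node (nat_lit 8761152) (BT.node (nat_lit 8761088) (BT.leaf (nat_lit 49319957)) (BT.leaf (nat_lit 46391577))) (BT.node (nat_lit 8761344) (BT.leaf (nat_lit 31111185)) (BT.leaf (nat_lit 24492561)))) (BT.node (nat_lit 8761600) (BT.node (nat_lit 8761472) (BT.leaf (nat_lit 48542753)) (BT.leaf (nat_lit 49323025))) (BT.node (nat_lit 8761664) (BT.leaf (nat_lit 24494097)) (BT.leaf (nat_lit 24494357)))))) (BT.node (nat_lit 8762304) (BT.node (nat_lit 8762048) (BT.node (nat_lit 8761920) (BT.node (nat_lit 8761856) (BT.leaf (nat_lit 33624593)) (BT.leaf (nat_lit 31377161))) (BT.node (nat_lit 8761984) (BT.leaf (nat_lit 35557905)) (BT.leaf (nat_lit 35249937)))) (BT.node (nat_lit 8762176) (BT.node (nat_lit 8762112) (BT.leaf (nat_lit 27904281)) (BT.leaf (nat_lit 43406617))) (BT.node (nat_lit 8762240) (BT.leaf (nat_lit 27507221)) (BT.leaf (nat_lit 39545889))))) (BT.node (nat_lit 8762560) (BT.node (nat_lit 8762432) (BT.node (nat_lit 8762368) (BT.leaf (nat_lit 43406605)) (BT.leaf (nat_lit 50181149))) (BT.node (nat_lit 8762496) (BT.leaf (nat_lit 27369505)) (BT.leaf (nat_lit 24496917)))) (BT.node (nat_lit 8762688) (BT.node (nat_lit 8762624) (BT.leaf (nat_lit 24496921)) (BT.leaf (nat_lit 24496925))) (BT.node (nat_lit 8762752) (BT.leaf (nat_lit 35348257)) (BT.leaf (nat_lit 24497429))))))) (BT.node (nat_lit 8764032) (BT.node (nat_lit 8763456) (BT.node (nat_lit 8763072) (BT.node (nat_lit 8762944) (BT.node (nat_lit 8762880) (BT.leaf (nat_lit 51818529)) (BT.leaf (nat_lit 24550673))) (BT.node (nat_lit 8763008) (BT.leaf (nat_lit 35051545)) (BT.leaf (nat_lit 36080405)))) (BT.node (nat_lit 8763328) (BT.node (nat_lit 8763136) (BT.leaf (nat_lit 35909393)) (BT.leaf (nat_lit 24517653))) (BT.node (nat_lit 8763392) (BT.leaf (nat_lit 33686289)) (BT.leaf (nat_lit 24499733))))) (BT.node (nat_lit 8763776) (BT.node (nat_lit 8763648) (BT.node (nat_lit 8763584) (BT.leaf (nat_lit 24499985)) (BT.leaf (nat_lit 50937629))) (BT.node (nat_lit 8763712) (BT.leaf (nat_lit 30859037)) (BT.leaf (nat_lit 28438305)))) (BT.node (nat_lit 8763904) (BT.node (nat_lit 8763840) (BT.leaf (nat_lit 24502033)) (BT.leaf (nat_lit 24501781))) (BT.node (nat_lit 8763968) (BT.leaf (nat_lit 24501785)) (BT.leaf (nat_lit 24501789)))))) (BT.node (nat_lit 8764672) (BT.node (nat_lit 8764288) (BT.node (nat_lit 8764160) (BT.node (nat_lit 8764096) (BT.leaf (nat_lit 32462105)) (BT.leaf (nat_lit 50549009))) (BT.node (nat_lit 8764224) (BT.leaf (nat_lit 34075669)) (BT.leaf (nat_lit 50941205)))) (BT.node (nat_lit 8764544) (BT.node (nat_lit 8764416) (BT.leaf (nat_lit 50386713)) (BT.leaf (nat_lit 24504605))) (BT.node (nat_lit 8764608) (BT.leaf (nat_lit 49838869)) (BT.leaf (nat_lit 24505881))))) (BT.node (nat_lit 8764928) (BT.node (nat_lit 8764800) (BT.node (nat_lit 8764736) (BT.leaf (nat_lit 24505885)) (BT.leaf (nat_lit 49441041))) (BT.node (nat_lit 8764864) (BT.leaf (nat_lit 32889861)) (BT.leaf (nat_lit 24507161)))) (BT.node (nat_lit 8765120) (BT.node (nat_lit 8764992) (BT.leaf (nat_lit 24507165)) (BT.leaf (nat_lit 24507417))) (BT.node (nat_lit 8765184) (BT.leaf (nat_lit 24507665)) (BT.leaf (nat_lit 24507921)))))))) (BT.node (nat_lit 8767936) (BT.node (nat_lit 8766912) (BT.node (nat_lit 8765952) (BT.node (nat_lit 8765504) (BT.node (nat_lit 8765376) (BT.node (nat_lit 8765312) (BT.leaf (nat_lit 49343253)) (BT.leaf (nat_lit 25960221))) (BT.node (nat_lit 8765440) (BT.leaf (nat_lit 33422369)) (BT.leaf (nat_lit 24509457)))) (BT.node (nat_lit 8765696) (BT.node (nat_lit 8765568) (BT.leaf (nat_lit 24509981)) (BT.leaf (nat_lit 24509713))) (BT.node (nat_lit 8765888) (BT.leaf (nat_lit 24510481)) (BT.leaf (nat_lit 24511005))))) (BT.node (nat_lit 8766272) (BT.node (nat_lit 8766080) (BT.node (nat_lit 8766016) (BT.leaf (nat_lit 24511249)) (BT.leaf (nat_lit 32164373))) (BT.node (nat_lit 8766208) (BT.leaf (nat_lit 24511513)) (BT.leaf (nat_lit 24512285)))) (BT.node (nat_lit 8766720) (BT.node (nat_lit 8766592) (BT.leaf (nat_lit 24512785)) (BT.leaf (nat_lit 24513817))) (BT.node (nat_lit 8766848) (BT.leaf (nat_lit 24514833)) (BT.leaf (nat_lit 25885201)))))) (BT.node (nat_lit 8767424) (BT.node (nat_lit 8767168) (BT.node (nat_lit 8767040) (BT.node (nat_lit 8766976) (BT.leaf (nat_lit 24515601)) (BT.leaf (nat_lit 27673625))) (BT.node (nat_lit 8767104) (BT.leaf (nat_lit 35153949)) (BT.leaf (nat_lit 24516369)))) (BT.node (nat_lit 8767296) (BT.node (nat_lit 8767232) (BT.leaf (nat_lit 24516625)) (BT.leaf (nat_lit 35194125))) (BT.node (nat_lit 8767360) (BT.leaf (nat_lit 50948885)) (BT.leaf (nat_lit 24518165))))) (BT.node (nat_lit 8767680) (BT.node (nat_lit 8767552) (BT.node (nat_lit 8767488) (BT.leaf (nat_lit 33635089)) (BT.leaf (nat_lit 47021601))) (BT.node (nat_lit 8767616) (BT.leaf (nat_lit 35319309)) (BT.leaf (nat_lit 24520209)))) (BT.node (nat_lit 8767808) (BT.node (nat_lit 8767744) (BT.leaf (nat_lit 48900629)) (BT.leaf (nat_lit 30799125))) (BT.node (nat_lit 8767872) (BT.leaf (nat_lit 24521233)) (BT.leaf (nat_lit 51074585))))))) (BT.node (nat_lit 8769024) (BT.node (nat_lit 8768448) (BT.node (nat_lit 8768192) (BT.node (nat_lit 8768064) (BT.node (nat_lit 8768000) (BT.leaf (nat_lit 35073813)) (BT.leaf (nat_lit 48623885))) (BT.node (nat_lit 8768128) (BT.leaf (nat_lit 35072541)) (BT.leaf (nat_lit 30797829)))) (BT.node (nat_lit 8768320) (BT.node (nat_lit 8768256) (BT.leaf (nat_lit 24523273)) (BT.leaf (nat_lit 24523541))) (BT.node (nat_lit 8768384) (BT.leaf (nat_lit 35073565)) (BT.leaf (nat_lit 50951441))))) (BT.node (nat_lit 8768768) (BT.node (nat_lit 8768576) (BT.node (nat_lit 8768512) (BT.leaf (nat_lit 28528389)) (BT.leaf (nat_lit 24523793))) (BT.node (nat_lit 8768640) (BT.leaf (nat_lit 32395805)) (BT.leaf (nat_lit 32399641)))) (BT.node (nat_lit 8768896) (BT.node (nat_lit 8768832) (BT.leaf (nat_lit 33749277)) (BT.leaf (nat_lit 24526345))) (BT.node (nat_lit 8768960) (BT.leaf (nat_lit 24526353)) (BT.leaf (nat_lit 28640793)))))) (BT.node (nat_lit 8769600) (BT.node (nat_lit 8769280) (BT.node (nat_lit 8769152) (BT.node (nat_lit 8769088) (BT.leaf (nat_lit 29097249)) (BT.leaf (nat_lit 24527125))) (BT.node (nat_lit 8769216) (BT.leaf (nat_lit 24527129)) (BT.leaf (nat_lit 24527133)))) (BT.node (nat_lit 8769472) (BT.node (nat_lit 8769344) (BT.leaf (nat_lit 33437189)) (BT.leaf (nat_lit 37155093))) (BT.node (nat_lit 8769536) (BT.leaf (nat_lit 37221913)) (BT.leaf (nat_lit 37222173))))) (BT.node (nat_lit 8769920) (BT.node (nat_lit 8769792) (BT.node (nat_lit 8769664) (BT.leaf (nat_lit 36918801)) (BT.leaf (nat_lit 24529437))) (BT.node (nat_lit 8769856) (BT.leaf (nat_lit 37053701)) (BT.leaf (nat_lit 39423521)))) (BT.node (nat_lit 8770048) (BT.node (nat_lit 8769984) (BT.leaf (nat_lit 29878293)) (BT.leaf (nat_lit 36792069))) (BT.node (nat_lit 8770112) (BT.leaf (nat_lit 30207261)) (BT.leaf (nat_lit 24532497)))))))))))))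
noncomputable def big0_e67584 : BT Nat := (BT.node (nat_lit 8856576) (BT.node (nat_lit 8813568) (BT.node (nat_lit 8791424) (BT.node (nat_lit 8780352) (BT.node (nat_lit 8774784) (BT.node (nat_lit 8772608) (BT.node (nat_lit 8771392) (BT.node (nat_lit 8770880) (BT.node (nat_lit 8770432) (BT.node (nat_lit 8770304) (BT.node (nat_lit 8770240) (BT.leaf (nat_lit 50953493)) (BT.leaf (nat_lit 24533017))) (BT.node (nat_lit 8770368) (BT.leaf (nat_lit 24533021)) (BT.leaf (nat_lit 24533521)))) (BT.node (nat_lit 8770752) (BT.node (nat_lit 8770496) (BT.leaf (nat_lit 49840149)) (BT.leaf (nat_lit 24534277))) (BT.node (nat_lit 8770816) (BT.leaf (nat_lit 24535057)) (BT.leaf (nat_lit 35020565))))) (BT.node (nat_lit 8771136) (BT.node (nat_lit 8771008) (BT.node (nat_lit 8770944) (BT.leaf (nat_lit 24747021)) (BT.leaf (nat_lit 49368081))) (BT.node (nat_lit 8771072) (BT.leaf (nat_lit 24536597)) (BT.leaf (nat_lit 34493725)))) (BT.node (nat_lit 8771264) (BT.node (nat_lit 8771200) (BT.leaf (nat_lit 46640405)) (BT.leaf (nat_lit 33480725))) (BT.node (nat_lit 8771328) (BT.leaf (nat_lit 24537105)) (BT.leaf (nat_lit 38384149)))))) (BT.node (nat_lit 8772032) (BT.node (nat_lit 8771712) (BT.node (nat_lit 8771520) (BT.node (nat_lit 8771456) (BT.leaf (nat_lit 46704929)) (BT.leaf (nat_lit 35052313))) (BT.node (nat_lit 8771584) (BT.leaf (nat_lit 36781841)) (BT.leaf (nat_lit 35767325)))) (BT.node (nat_lit 8771840) (BT.node (nat_lit 8771776) (BT.leaf (nat_lit 35161377)) (BT.leaf (nat_lit 49331481))) (BT.node (nat_lit 8771968) (BT.leaf (nat_lit 49330709)) (BT.leaf (nat_lit 49331469))))) (BT.node (nat_lit 8772288) (BT.node (nat_lit 8772160) (BT.node (nat_lit 8772096) (BT.leaf (nat_lit 34706717)) (BT.leaf (nat_lit 34985505))) (BT.node (nat_lit 8772224) (BT.leaf (nat_lit 24539925)) (BT.leaf (nat_lit 50956821)))) (BT.node (nat_lit 8772480) (BT.node (nat_lit 8772416) (BT.leaf (nat_lit 50314785)) (BT.leaf (nat_lit 50126345))) (BT.node (nat_lit 8772544) (BT.leaf (nat_lit 50957073)) (BT.leaf (nat_lit 35091213))))))) (BT.node (nat_lit 8773696) (BT.node (nat_lit 8773184) (BT.node (nat_lit 8772864) (BT.node (nat_lit 8772736) (BT.node (nat_lit 8772672) (BT.leaf (nat_lit 26166037)) (BT.leaf (nat_lit 49378309))) (BT.node (nat_lit 8772800) (BT.leaf (nat_lit 50957333)) (BT.leaf (nat_lit 35159317)))) (BT.node (nat_lit 8773056) (BT.node (nat_lit 8772928) (BT.leaf (nat_lit 26695185)) (BT.leaf (nat_lit 34315277))) (BT.node (nat_lit 8773120) (BT.leaf (nat_lit 24543505)) (BT.leaf (nat_lit 24543761))))) (BT.node (nat_lit 8773440) (BT.node (nat_lit 8773312) (BT.node (nat_lit 8773248) (BT.leaf (nat_lit 36303881)) (BT.leaf (nat_lit 26164501))) (BT.node (nat_lit 8773376) (BT.leaf (nat_lit 33123093)) (BT.leaf (nat_lit 30679829)))) (BT.node (nat_lit 8773568) (BT.node (nat_lit 8773504) (BT.leaf (nat_lit 24545041)) (BT.leaf (nat_lit 25893401))) (BT.node (nat_lit 8773632) (BT.leaf (nat_lit 26163741)) (BT.leaf (nat_lit 24545553)))))) (BT.node (nat_lit 8774208) (BT.node (nat_lit 8773952) (BT.node (nat_lit 8773824) (BT.node (nat_lit 8773760) (BT.leaf (nat_lit 35093017)) (BT.leaf (nat_lit 24546841))) (BT.node (nat_lit 8773888) (BT.leaf (nat_lit 24546845)) (BT.leaf (nat_lit 27367697)))) (BT.node (nat_lit 8774080) (BT.node (nat_lit 8774016) (BT.leaf (nat_lit 50958869)) (BT.leaf (nat_lit 34518277))) (BT.node (nat_lit 8774144) (BT.leaf (nat_lit 24547865)) (BT.leaf (nat_lit 24547869))))) (BT.node (nat_lit 8774528) (BT.node (nat_lit 8774336) (BT.node (nat_lit 8774272) (BT.leaf (nat_lit 24548113)) (BT.leaf (nat_lit 24548129))) (BT.node (nat_lit 8774464) (BT.leaf (nat_lit 34973445)) (BT.leaf (nat_lit 24548637)))) (BT.node (nat_lit 8774656) (BT.node (nat_lit 8774592) (BT.leaf (nat_lit 31098913)) (BT.leaf (nat_lit 24548881))) (BT.node (nat_lit 8774720) (BT.leaf (nat_lit 28570401)) (BT.leaf (nat_lit 50960133)))))))) (BT.node (nat_lit 8777664) (BT.node (nat_lit 8776320) (BT.node (nat_lit 8775680) (BT.node (nat_lit 8775424) (BT.node (nat_lit 8775104) (BT.node (nat_lit 8774848) (BT.leaf (nat_lit 37828117)) (BT.leaf (nat_lit 24747017))) (BT.node (nat_lit 8775168) (BT.leaf (nat_lit 24552205)) (BT.leaf (nat_lit 33404677)))) (BT.node (nat_lit 8775552) (BT.node (nat_lit 8775488) (BT.leaf (nat_lit 24553497)) (BT.leaf (nat_lit 24553501))) (BT.node (nat_lit 8775616) (BT.leaf (nat_lit 28494109)) (BT.leaf (nat_lit 24554001))))) (BT.node (nat_lit 8776064) (BT.node (nat_lit 8775936) (BT.node (nat_lit 8775808) (BT.leaf (nat_lit 24556557)) (BT.leaf (nat_lit 26684689))) (BT.node (nat_lit 8776000) (BT.leaf (nat_lit 45512209)) (BT.leaf (nat_lit 24558853)))) (BT.node (nat_lit 8776192) (BT.node (nat_lit 8776128) (BT.leaf (nat_lit 47428377)) (BT.leaf (nat_lit 24558869))) (BT.node (nat_lit 8776256) (BT.leaf (nat_lit 50962445)) (BT.leaf (nat_lit 35056909)))))) (BT.node (nat_lit 8777088) (BT.node (nat_lit 8776576) (BT.node (nat_lit 8776448) (BT.node (nat_lit 8776384) (BT.leaf (nat_lit 50963477)) (BT.leaf (nat_lit 28754977))) (BT.node (nat_lit 8776512) (BT.leaf (nat_lit 25962001)) (BT.leaf (nat_lit 24560913)))) (BT.node (nat_lit 8776704) (BT.node (nat_lit 8776640) (BT.leaf (nat_lit 25901073)) (BT.leaf (nat_lit 24561425))) (BT.node (nat_lit 8776768) (BT.leaf (nat_lit 24561937)) (BT.leaf (nat_lit 36300057))))) (BT.node (nat_lit 8777344) (BT.node (nat_lit 8777216) (BT.node (nat_lit 8777152) (BT.leaf (nat_lit 35108637)) (BT.leaf (nat_lit 36300053))) (BT.node (nat_lit 8777280) (BT.leaf (nat_lit 29813789)) (BT.leaf (nat_lit 24563481)))) (BT.node (nat_lit 8777536) (BT.node (nat_lit 8777472) (BT.leaf (nat_lit 24563729)) (BT.leaf (nat_lit 34311429))) (BT.node (nat_lit 8777600) (BT.leaf (nat_lit 25096209)) (BT.leaf (nat_lit 24566801))))))) (BT.node (nat_lit 8779200) (BT.node (nat_lit 8778496) (BT.node (nat_lit 8778048) (BT.node (nat_lit 8777792) (BT.node (nat_lit 8777728) (BT.leaf (nat_lit 24568081)) (BT.leaf (nat_lit 24568849))) (BT.node (nat_lit 8777984) (BT.leaf (nat_lit 25899537)) (BT.leaf (nat_lit 24569861)))) (BT.node (nat_lit 8778368) (BT.node (nat_lit 8778176) (BT.leaf (nat_lit 46572821)) (BT.leaf (nat_lit 33515013))) (BT.node (nat_lit 8778432) (BT.leaf (nat_lit 24572189)) (BT.leaf (nat_lit 50967301))))) (BT.node (nat_lit 8778880) (BT.node (nat_lit 8778752) (BT.node (nat_lit 8778624) (BT.leaf (nat_lit 24572185)) (BT.leaf (nat_lit 50968085))) (BT.node (nat_lit 8778816) (BT.leaf (nat_lit 24573713)) (BT.leaf (nat_lit 35453717)))) (BT.node (nat_lit 8779008) (BT.node (nat_lit 8778944) (BT.leaf (nat_lit 24574737)) (BT.leaf (nat_lit 24574237))) (BT.node (nat_lit 8779072) (BT.leaf (nat_lit 50968837)) (BT.leaf (nat_lit 36480021)))))) (BT.node (nat_lit 8779776) (BT.node (nat_lit 8779520) (BT.node (nat_lit 8779328) (BT.node (nat_lit 8779264) (BT.leaf (nat_lit 27534105)) (BT.leaf (nat_lit 24575249))) (BT.node (nat_lit 8779392) (BT.leaf (nat_lit 24575505)) (BT.leaf (nat_lit 50970385)))) (BT.node (nat_lit 8779648) (BT.node (nat_lit 8779584) (BT.leaf (nat_lit 50894093)) (BT.leaf (nat_lit 24576005))) (BT.node (nat_lit 8779712) (BT.leaf (nat_lit 50913045)) (BT.leaf (nat_lit 35623941))))) (BT.node (nat_lit 8780032) (BT.node (nat_lit 8779904) (BT.node (nat_lit 8779840) (BT.leaf (nat_lit 45862421)) (BT.leaf (nat_lit 46509085))) (BT.node (nat_lit 8779968) (BT.leaf (nat_lit 50972425)) (BT.leaf (nat_lit 50971169)))) (BT.node (nat_lit 8780160) (BT.node (nat_lit 8780096) (BT.leaf (nat_lit 34159641)) (BT.leaf (nat_lit 33963781))) (BT.node (nat_lit 8780288) (BT.leaf (nat_lit 24577541)) (BT.leaf (nat_lit 24578073))))))))) (BT.node (nat_lit 8785856) (BT.node (nat_lit 8783168) (BT.node (nat_lit 8781376) (BT.node (nat_lit 8780864) (BT.node (nat_lit 8780608) (BT.node (nat_lit 8780480) (BT.node (nat_lit 8780416) (BT.leaf (nat_lit 24578077)) (BT.leaf (nat_lit 38359313))) (BT.node (nat_lit 8780544) (BT.leaf (nat_lit 24578837)) (BT.leaf (nat_lit 24578845)))) (BT.node (nat_lit 8780736) (BT.node (nat_lit 8780672) (BT.leaf (nat_lit 24579077)) (BT.leaf (nat_lit 24579093))) (BT.node (nat_lit 8780800) (BT.leaf (nat_lit 24579345)) (BT.leaf (nat_lit 24579857))))) (BT.node (nat_lit 8781120) (BT.node (nat_lit 8780992) (BT.node (nat_lit 8780928) (BT.leaf (nat_lit 33608965)) (BT.leaf (nat_lit 24581145))) (BT.node (nat_lit 8781056) (BT.leaf (nat_lit 24581149)) (BT.leaf (nat_lit 24581653)))) (BT.node (nat_lit 8781248) (BT.node (nat_lit 8781184) (BT.leaf (nat_lit 24581657)) (BT.leaf (nat_lit 24581661))) (BT.node (nat_lit 8781312) (BT.leaf (nat_lit 24582161)) (BT.leaf (nat_lit 24583441)))))) (BT.node (nat_lit 8782400) (BT.node (nat_lit 8781824) (BT.node (nat_lit 8781568) (BT.node (nat_lit 8781440) (BT.leaf (nat_lit 24583701)) (BT.leaf (nat_lit 24583705))) (BT.node (nat_lit 8781632) (BT.leaf (nat_lit 24583953)) (BT.leaf (nat_lit 24584217)))) (BT.node (nat_lit 8782080) (BT.node (nat_lit 8781888) (BT.leaf (nat_lit 24585233)) (BT.leaf (nat_lit 50978073))) (BT.node (nat_lit 8782208) (BT.leaf (nat_lit 37020433)) (BT.leaf (nat_lit 46983429))))) (BT.node (nat_lit 8782784) (BT.node (nat_lit 8782528) (BT.node (nat_lit 8782464) (BT.leaf (nat_lit 24586257)) (BT.leaf (nat_lit 33970949))) (BT.node (nat_lit 8782656) (BT.leaf (nat_lit 30923037)) (BT.leaf (nat_lit 35171089)))) (BT.node (nat_lit 8782912) (BT.node (nat_lit 8782848) (BT.leaf (nat_lit 24587285)) (BT.leaf (nat_lit 24587541))) (BT.node (nat_lit 8783104) (BT.leaf (nat_lit 24587797)) (BT.leaf (nat_lit 36967941))))))) (BT.node (nat_lit 8784384) (BT.node (nat_lit 8783680) (BT.node (nat_lit 8783424) (BT.node (nat_lit 8783296) (BT.node (nat_lit 8783232) (BT.leaf (nat_lit 24588825)) (BT.leaf (nat_lit 24588829))) (BT.node (nat_lit 8783360) (BT.leaf (nat_lit 50980357)) (BT.leaf (nat_lit 42561557)))) (BT.node (nat_lit 8783552) (BT.node (nat_lit 8783488) (BT.leaf (nat_lit 40422945)) (BT.leaf (nat_lit 24589593))) (BT.node (nat_lit 8783616) (BT.leaf (nat_lit 50983181)) (BT.leaf (nat_lit 24590361))))) (BT.node (nat_lit 8784064) (BT.node (nat_lit 8783936) (BT.node (nat_lit 8783872) (BT.leaf (nat_lit 36583701)) (BT.leaf (nat_lit 49425941))) (BT.node (nat_lit 8784000) (BT.leaf (nat_lit 50983701)) (BT.leaf (nat_lit 50984213)))) (BT.node (nat_lit 8784256) (BT.node (nat_lit 8784192) (BT.leaf (nat_lit 50296609)) (BT.leaf (nat_lit 24591645))) (BT.node (nat_lit 8784320) (BT.leaf (nat_lit 50021921)) (BT.leaf (nat_lit 24592913)))))) (BT.node (nat_lit 8785152) (BT.node (nat_lit 8784832) (BT.node (nat_lit 8784576) (BT.node (nat_lit 8784448) (BT.leaf (nat_lit 49423633)) (BT.leaf (nat_lit 48787989))) (BT.node (nat_lit 8784768) (BT.leaf (nat_lit 46731525)) (BT.leaf (nat_lit 50986513)))) (BT.node (nat_lit 8784960) (BT.node (nat_lit 8784896) (BT.leaf (nat_lit 24595997)) (BT.leaf (nat_lit 35262985))) (BT.node (nat_lit 8785024) (BT.leaf (nat_lit 35261725)) (BT.leaf (nat_lit 24597017))))) (BT.node (nat_lit 8785472) (BT.node (nat_lit 8785344) (BT.node (nat_lit 8785216) (BT.leaf (nat_lit 24745489)) (BT.leaf (nat_lit 34495005))) (BT.node (nat_lit 8785408) (BT.leaf (nat_lit 24598557)) (BT.leaf (nat_lit 24599057)))) (BT.node (nat_lit 8785728) (BT.node (nat_lit 8785600) (BT.leaf (nat_lit 24599569)) (BT.leaf (nat_lit 24600857))) (BT.node (nat_lit 8785792) (BT.leaf (nat_lit 50988317)) (BT.leaf (nat_lit 50988061)))))))) (BT.node (nat_lit 8788864) (BT.node (nat_lit 8787456) (BT.node (nat_lit 8786752) (BT.node (nat_lit 8786240) (BT.node (nat_lit 8786112) (BT.node (nat_lit 8786048) (BT.leaf (nat_lit 50988041)) (BT.leaf (nat_lit 49437461))) (BT.node (nat_lit 8786176) (BT.leaf (nat_lit 38439437)) (BT.leaf (nat_lit 50989841)))) (BT.node (nat_lit 8786560) (BT.node (nat_lit 8786368) (BT.leaf (nat_lit 37076253)) (BT.leaf (nat_lit 24604185))) (BT.node (nat_lit 8786624) (BT.leaf (nat_lit 50095133)) (BT.leaf (nat_lit 28410897))))) (BT.node (nat_lit 8787072) (BT.node (nat_lit 8786944) (BT.node (nat_lit 8786880) (BT.leaf (nat_lit 35380229)) (BT.leaf (nat_lit 24607265))) (BT.node (nat_lit 8787008) (BT.leaf (nat_lit 24810525)) (BT.leaf (nat_lit 24607509)))) (BT.node (nat_lit 8787328) (BT.node (nat_lit 8787200) (BT.leaf (nat_lit 24857881)) (BT.leaf (nat_lit 33819413))) (BT.node (nat_lit 8787392) (BT.leaf (nat_lit 34497313)) (BT.leaf (nat_lit 24608785)))))) (BT.node (nat_lit 8788288) (BT.node (nat_lit 8788032) (BT.node (nat_lit 8787648) (BT.node (nat_lit 8787584) (BT.leaf (nat_lit 24609049)) (BT.leaf (nat_lit 25911813))) (BT.node (nat_lit 8787712) (BT.leaf (nat_lit 24609301)) (BT.leaf (nat_lit 35042077)))) (BT.node (nat_lit 8788160) (BT.node (nat_lit 8788096) (BT.leaf (nat_lit 24610581)) (BT.leaf (nat_lit 37181469))) (BT.node (nat_lit 8788224) (BT.leaf (nat_lit 27204633)) (BT.leaf (nat_lit 27202581))))) (BT.node (nat_lit 8788544) (BT.node (nat_lit 8788416) (BT.node (nat_lit 8788352) (BT.leaf (nat_lit 27092485)) (BT.leaf (nat_lit 24611857))) (BT.node (nat_lit 8788480) (BT.leaf (nat_lit 36312585)) (BT.leaf (nat_lit 26695441)))) (BT.node (nat_lit 8788672) (BT.node (nat_lit 8788608) (BT.leaf (nat_lit 24612381)) (BT.leaf (nat_lit 24612625))) (BT.node (nat_lit 8788800) (BT.leaf (nat_lit 51074573)) (BT.leaf (nat_lit 35159061))))))) (BT.node (nat_lit 8790080) (BT.node (nat_lit 8789376) (BT.node (nat_lit 8789120) (BT.node (nat_lit 8788992) (BT.node (nat_lit 8788928) (BT.leaf (nat_lit 37103633)) (BT.leaf (nat_lit 24613657))) (BT.node (nat_lit 8789056) (BT.leaf (nat_lit 24613661)) (BT.leaf (nat_lit 37103637)))) (BT.node (nat_lit 8789248) (BT.node (nat_lit 8789184) (BT.leaf (nat_lit 26674705)) (BT.leaf (nat_lit 24614673))) (BT.node (nat_lit 8789312) (BT.leaf (nat_lit 35091229)) (BT.leaf (nat_lit 49454613))))) (BT.node (nat_lit 8789760) (BT.node (nat_lit 8789632) (BT.node (nat_lit 8789568) (BT.leaf (nat_lit 32387105)) (BT.leaf (nat_lit 24615713))) (BT.node (nat_lit 8789696) (BT.leaf (nat_lit 35155481)) (BT.leaf (nat_lit 24616465)))) (BT.node (nat_lit 8789888) (BT.node (nat_lit 8789824) (BT.leaf (nat_lit 24898333)) (BT.leaf (nat_lit 37103889))) (BT.node (nat_lit 8789952) (BT.leaf (nat_lit 24617489)) (BT.leaf (nat_lit 50995725)))))) (BT.node (nat_lit 8790656) (BT.node (nat_lit 8790400) (BT.node (nat_lit 8790272) (BT.node (nat_lit 8790144) (BT.leaf (nat_lit 32880645)) (BT.leaf (nat_lit 47544093))) (BT.node (nat_lit 8790336) (BT.leaf (nat_lit 34215701)) (BT.leaf (nat_lit 24619029)))) (BT.node (nat_lit 8790528) (BT.node (nat_lit 8790464) (BT.leaf (nat_lit 24619281)) (BT.leaf (nat_lit 24619805))) (BT.node (nat_lit 8790592) (BT.leaf (nat_lit 24620561)) (BT.leaf (nat_lit 24621077))))) (BT.node (nat_lit 8791168) (BT.node (nat_lit 8790976) (BT.node (nat_lit 8790720) (BT.leaf (nat_lit 24621081)) (BT.leaf (nat_lit 24621085))) (BT.node (nat_lit 8791104) (BT.leaf (nat_lit 38876945)) (BT.leaf (nat_lit 24623893)))) (BT.node (nat_lit 8791296) (BT.node (nat_lit 8791232) (BT.leaf (nat_lit 46691617)) (BT.leaf (nat_lit 24624145))) (BT.node (nat_lit 8791360) (BT.leaf (nat_lit 24624409)) (BT.leaf (nat_lit 24624413)))))))))) (BT.node (nat_lit 8803328) (BT.node (nat_lit 8797696) (BT.node (nat_lit 8794368) (BT.node (nat_lit 8793024) (BT.node (nat_lit 8791936) (BT.node (nat_lit 8791680) (BT.node (nat_lit 8791552) (BT.node (nat_lit 8791488) (BT.leaf (nat_lit 24624657)) (BT.leaf (nat_lit 24625169))) (BT.node (nat_lit 8791616) (BT.leaf (nat_lit 46870037)) (BT.leaf (nat_lit 24625433)))) (BT.node (nat_lit 8791808) (BT.node (nat_lit 8791744) (BT.leaf (nat_lit 49463313)) (BT.leaf (nat_lit 51002385))) (BT.node (nat_lit 8791872) (BT.leaf (nat_lit 51002897)) (BT.leaf (nat_lit 24626965))))) (BT.node (nat_lit 8792512) (BT.node (nat_lit 8792064) (BT.node (nat_lit 8792000) (BT.leaf (nat_lit 24626457)) (BT.leaf (nat_lit 24626461))) (BT.node (nat_lit 8792384) (BT.leaf (nat_lit 24626705)) (BT.leaf (nat_lit 24627489)))) (BT.node (nat_lit 8792768) (BT.node (nat_lit 8792704) (BT.leaf (nat_lit 51000089)) (BT.leaf (nat_lit 40721681))) (BT.node (nat_lit 8792960) (BT.leaf (nat_lit 24629277)) (BT.leaf (nat_lit 24630037)))))) (BT.node (nat_lit 8793792) (BT.node (nat_lit 8793344) (BT.node (nat_lit 8793216) (BT.node (nat_lit 8793088) (BT.leaf (nat_lit 24630541)) (BT.leaf (nat_lit 40196629))) (BT.node (nat_lit 8793280) (BT.leaf (nat_lit 51006749)) (BT.leaf (nat_lit 46694689)))) (BT.node (nat_lit 8793664) (BT.node (nat_lit 8793536) (BT.leaf (nat_lit 24632341)) (BT.leaf (nat_lit 51008533))) (BT.node (nat_lit 8793728) (BT.leaf (nat_lit 24945937)) (BT.leaf (nat_lit 24633117))))) (BT.node (nat_lit 8794048) (BT.node (nat_lit 8793920) (BT.node (nat_lit 8793856) (BT.leaf (nat_lit 24633365)) (BT.leaf (nat_lit 48329993))) (BT.node (nat_lit 8793984) (BT.leaf (nat_lit 48329997)) (BT.leaf (nat_lit 24633873)))) (BT.node (nat_lit 8794176) (BT.node (nat_lit 8794112) (BT.leaf (nat_lit 43148825)) (BT.leaf (nat_lit 51010593))) (BT.node (nat_lit 8794240) (BT.leaf (nat_lit 24635409)) (BT.leaf (nat_lit 47133957))))))) (BT.node (nat_lit 8796032) (BT.node (nat_lit 8795456) (BT.node (nat_lit 8795200) (BT.node (nat_lit 8794880) (BT.node (nat_lit 8794560) (BT.leaf (nat_lit 24636945)) (BT.leaf (nat_lit 32685845))) (BT.node (nat_lit 8795072) (BT.leaf (nat_lit 24638737)) (BT.leaf (nat_lit 24641053)))) (BT.node (nat_lit 8795328) (BT.node (nat_lit 8795264) (BT.leaf (nat_lit 24641305)) (BT.leaf (nat_lit 24641309))) (BT.node (nat_lit 8795392) (BT.leaf (nat_lit 24641545)) (BT.leaf (nat_lit 24641561))))) (BT.node (nat_lit 8795776) (BT.node (nat_lit 8795648) (BT.node (nat_lit 8795520) (BT.leaf (nat_lit 24641569)) (BT.leaf (nat_lit 24641809))) (BT.node (nat_lit 8795712) (BT.leaf (nat_lit 24642065)) (BT.leaf (nat_lit 24642833)))) (BT.node (nat_lit 8795904) (BT.node (nat_lit 8795840) (BT.leaf (nat_lit 34614533)) (BT.leaf (nat_lit 35183645))) (BT.node (nat_lit 8795968) (BT.leaf (nat_lit 24789521)) (BT.leaf (nat_lit 24646149)))))) (BT.node (nat_lit 8797056) (BT.node (nat_lit 8796480) (BT.node (nat_lit 8796352) (BT.node (nat_lit 8796096) (BT.leaf (nat_lit 33830149)) (BT.leaf (nat_lit 26574085))) (BT.node (nat_lit 8796416) (BT.leaf (nat_lit 30761997)) (BT.leaf (nat_lit 46489109)))) (BT.node (nat_lit 8796928) (BT.node (nat_lit 8796608) (BT.leaf (nat_lit 24646673)) (BT.leaf (nat_lit 34172193))) (BT.node (nat_lit 8796992) (BT.leaf (nat_lit 27470617)) (BT.leaf (nat_lit 24649753))))) (BT.node (nat_lit 8797440) (BT.node (nat_lit 8797312) (BT.node (nat_lit 8797184) (BT.leaf (nat_lit 24649761)) (BT.leaf (nat_lit 24651025))) (BT.node (nat_lit 8797376) (BT.leaf (nat_lit 34850053)) (BT.leaf (nat_lit 44484369)))) (BT.node (nat_lit 8797568) (BT.node (nat_lit 8797504) (BT.leaf (nat_lit 35190045)) (BT.leaf (nat_lit 46902801))) (BT.node (nat_lit 8797632) (BT.leaf (nat_lit 31847429)) (BT.leaf (nat_lit 24653841)))))))) (BT.node (nat_lit 8800512) (BT.node (nat_lit 8799168) (BT.node (nat_lit 8798528) (BT.node (nat_lit 8798144) (BT.node (nat_lit 8797888) (BT.node (nat_lit 8797760) (BT.leaf (nat_lit 34849817)) (BT.leaf (nat_lit 24655121))) (BT.node (nat_lit 8797952) (BT.leaf (nat_lit 24655633)) (BT.leaf (nat_lit 24655893)))) (BT.node (nat_lit 8798400) (BT.node (nat_lit 8798272) (BT.leaf (nat_lit 33279761)) (BT.leaf (nat_lit 24656661))) (BT.node (nat_lit 8798464) (BT.leaf (nat_lit 38044421)) (BT.leaf (nat_lit 51018761))))) (BT.node (nat_lit 8798912) (BT.node (nat_lit 8798656) (BT.node (nat_lit 8798592) (BT.leaf (nat_lit 50838549)) (BT.leaf (nat_lit 34889749))) (BT.node (nat_lit 8798720) (BT.leaf (nat_lit 28139541)) (BT.leaf (nat_lit 34140953)))) (BT.node (nat_lit 8799040) (BT.node (nat_lit 8798976) (BT.leaf (nat_lit 24659473)) (BT.leaf (nat_lit 50283025))) (BT.node (nat_lit 8799104) (BT.leaf (nat_lit 29841689)) (BT.leaf (nat_lit 24659989)))))) (BT.node (nat_lit 8799872) (BT.node (nat_lit 8799488) (BT.node (nat_lit 8799296) (BT.node (nat_lit 8799232) (BT.leaf (nat_lit 24660753)) (BT.leaf (nat_lit 25629705))) (BT.node (nat_lit 8799360) (BT.leaf (nat_lit 25628445)) (BT.leaf (nat_lit 26700049)))) (BT.node (nat_lit 8799744) (BT.node (nat_lit 8799552) (BT.leaf (nat_lit 49498901)) (BT.leaf (nat_lit 51020833))) (BT.node (nat_lit 8799808) (BT.leaf (nat_lit 35728409)) (BT.leaf (nat_lit 46703637))))) (BT.node (nat_lit 8800256) (BT.node (nat_lit 8800128) (BT.node (nat_lit 8800064) (BT.leaf (nat_lit 39645717)) (BT.leaf (nat_lit 46938393))) (BT.node (nat_lit 8800192) (BT.leaf (nat_lit 31762437)) (BT.leaf (nat_lit 27699473)))) (BT.node (nat_lit 8800384) (BT.node (nat_lit 8800320) (BT.leaf (nat_lit 37718549)) (BT.leaf (nat_lit 51022869))) (BT.node (nat_lit 8800448) (BT.leaf (nat_lit 24667153)) (BT.leaf (nat_lit 38405149))))))) (BT.node (nat_lit 8801664) (BT.node (nat_lit 8801088) (BT.node (nat_lit 8800768) (BT.node (nat_lit 8800640) (BT.node (nat_lit 8800576) (BT.leaf (nat_lit 32043533)) (BT.leaf (nat_lit 46765833))) (BT.node (nat_lit 8800704) (BT.leaf (nat_lit 24667933)) (BT.leaf (nat_lit 24668433)))) (BT.node (nat_lit 8800896) (BT.node (nat_lit 8800832) (BT.leaf (nat_lit 34878229)) (BT.leaf (nat_lit 25789473))) (BT.node (nat_lit 8801024) (BT.leaf (nat_lit 50647813)) (BT.leaf (nat_lit 24669205))))) (BT.node (nat_lit 8801344) (BT.node (nat_lit 8801216) (BT.node (nat_lit 8801152) (BT.leaf (nat_lit 24669213)) (BT.leaf (nat_lit 27396897))) (BT.node (nat_lit 8801280) (BT.leaf (nat_lit 24670737)) (BT.leaf (nat_lit 35203081)))) (BT.node (nat_lit 8801472) (BT.node (nat_lit 8801408) (BT.leaf (nat_lit 26952985)) (BT.leaf (nat_lit 24671761))) (BT.node (nat_lit 8801536) (BT.leaf (nat_lit 24672025)) (BT.leaf (nat_lit 24672029)))))) (BT.node (nat_lit 8802240) (BT.node (nat_lit 8801920) (BT.node (nat_lit 8801792) (BT.node (nat_lit 8801728) (BT.leaf (nat_lit 24673041)) (BT.leaf (nat_lit 24673553))) (BT.node (nat_lit 8801856) (BT.leaf (nat_lit 25931525)) (BT.leaf (nat_lit 24675093)))) (BT.node (nat_lit 8802112) (BT.node (nat_lit 8801984) (BT.leaf (nat_lit 25264413)) (BT.leaf (nat_lit 25263901))) (BT.node (nat_lit 8802176) (BT.leaf (nat_lit 24676117)) (BT.leaf (nat_lit 24676637))))) (BT.node (nat_lit 8802944) (BT.node (nat_lit 8802496) (BT.node (nat_lit 8802368) (BT.leaf (nat_lit 24676881)) (BT.leaf (nat_lit 24677393))) (BT.node (nat_lit 8802688) (BT.leaf (nat_lit 24677905)) (BT.leaf (nat_lit 24679185)))) (BT.node (nat_lit 8803072) (BT.node (nat_lit 8803008) (BT.leaf (nat_lit 24679953)) (BT.leaf (nat_lit 24680209))) (BT.node (nat_lit 8803264) (BT.leaf (nat_lit 24680465)) (BT.leaf (nat_lit 48752917))))))))) (BT.node (nat_lit 8808256) (BT.node (nat_lit 8805952) (BT.node (nat_lit 8804672) (BT.node (nat_lit 8804032) (BT.node (nat_lit 8803648) (BT.node (nat_lit 8803456) (BT.node (nat_lit 8803392) (BT.leaf (nat_lit 24680981)) (BT.leaf (nat_lit 46822433))) (BT.node (nat_lit 8803584) (BT.leaf (nat_lit 34627105)) (BT.leaf (nat_lit 47363873)))) (BT.node (nat_lit 8803904) (BT.node (nat_lit 8803840) (BT.leaf (nat_lit 24682521)) (BT.leaf (nat_lit 24683541))) (BT.node (nat_lit 8803968) (BT.leaf (nat_lit 24684317)) (BT.leaf (nat_lit 24684561))))) (BT.node (nat_lit 8804352) (BT.node (nat_lit 8804160) (BT.node (nat_lit 8804096) (BT.leaf (nat_lit 24684565)) (BT.leaf (nat_lit 26732057))) (BT.node (nat_lit 8804224) (BT.leaf (nat_lit 24685077)) (BT.leaf (nat_lit 51028997)))) (BT.node (nat_lit 8804480) (BT.node (nat_lit 8804416) (BT.leaf (nat_lit 24686097)) (BT.leaf (nat_lit 24686353))) (BT.node (nat_lit 8804544) (BT.leaf (nat_lit 31508741)) (BT.leaf (nat_lit 51030293)))))) (BT.node (nat_lit 8805312) (BT.node (nat_lit 8805056) (BT.node (nat_lit 8804864) (BT.node (nat_lit 8804736) (BT.leaf (nat_lit 24688921)) (BT.leaf (nat_lit 24688925))) (BT.node (nat_lit 8804992) (BT.leaf (nat_lit 47573277)) (BT.leaf (nat_lit 25943061)))) (BT.node (nat_lit 8805184) (BT.node (nat_lit 8805120) (BT.leaf (nat_lit 24690193)) (BT.leaf (nat_lit 24690197))) (BT.node (nat_lit 8805248) (BT.leaf (nat_lit 24690461)) (BT.leaf (nat_lit 24690709))))) (BT.node (nat_lit 8805568) (BT.node (nat_lit 8805440) (BT.node (nat_lit 8805376) (BT.leaf (nat_lit 24690713)) (BT.leaf (nat_lit 24690717))) (BT.node (nat_lit 8805504) (BT.leaf (nat_lit 32680213)) (BT.leaf (nat_lit 35221769)))) (BT.node (nat_lit 8805696) (BT.node (nat_lit 8805632) (BT.leaf (nat_lit 51544073)) (BT.leaf (nat_lit 35989269))) (BT.node (nat_lit 8805760) (BT.leaf (nat_lit 24691221)) (BT.leaf (nat_lit 24692253))))))) (BT.node (nat_lit 8807168) (BT.node (nat_lit 8806464) (BT.node (nat_lit 8806208) (BT.node (nat_lit 8806080) (BT.node (nat_lit 8806016) (BT.leaf (nat_lit 26705937)) (BT.leaf (nat_lit 31894789))) (BT.node (nat_lit 8806144) (BT.leaf (nat_lit 36253701)) (BT.leaf (nat_lit 24696085)))) (BT.node (nat_lit 8806336) (BT.node (nat_lit 8806272) (BT.leaf (nat_lit 51033625)) (BT.leaf (nat_lit 24695313))) (BT.node (nat_lit 8806400) (BT.leaf (nat_lit 24695573)) (BT.leaf (nat_lit 24695825))))) (BT.node (nat_lit 8806848) (BT.node (nat_lit 8806592) (BT.node (nat_lit 8806528) (BT.leaf (nat_lit 33126405)) (BT.leaf (nat_lit 50435077))) (BT.node (nat_lit 8806784) (BT.leaf (nat_lit 25953557)) (BT.leaf (nat_lit 25985561)))) (BT.node (nat_lit 8807040) (BT.node (nat_lit 8806912) (BT.leaf (nat_lit 24697105)) (BT.leaf (nat_lit 49549061))) (BT.node (nat_lit 8807104) (BT.leaf (nat_lit 24697609)) (BT.leaf (nat_lit 24697625)))))) (BT.node (nat_lit 8807744) (BT.node (nat_lit 8807424) (BT.node (nat_lit 8807296) (BT.node (nat_lit 8807232) (BT.leaf (nat_lit 49638177)) (BT.leaf (nat_lit 24699409))) (BT.node (nat_lit 8807360) (BT.leaf (nat_lit 35282701)) (BT.leaf (nat_lit 24700693)))) (BT.node (nat_lit 8807552) (BT.node (nat_lit 8807488) (BT.leaf (nat_lit 48545305)) (BT.leaf (nat_lit 31195925))) (BT.node (nat_lit 8807616) (BT.leaf (nat_lit 24701201)) (BT.leaf (nat_lit 24702225))))) (BT.node (nat_lit 8808000) (BT.node (nat_lit 8807872) (BT.node (nat_lit 8807808) (BT.leaf (nat_lit 24704773)) (BT.leaf (nat_lit 31917317))) (BT.node (nat_lit 8807936) (BT.leaf (nat_lit 49036293)) (BT.leaf (nat_lit 24704541)))) (BT.node (nat_lit 8808128) (BT.node (nat_lit 8808064) (BT.leaf (nat_lit 24704789)) (BT.leaf (nat_lit 24704793))) (BT.node (nat_lit 8808192) (BT.leaf (nat_lit 24705045)) (BT.leaf (nat_lit 51038477)))))))) (BT.node (nat_lit 8810560) (BT.node (nat_lit 8809408) (BT.node (nat_lit 8808832) (BT.node (nat_lit 8808512) (BT.node (nat_lit 8808384) (BT.node (nat_lit 8808320) (BT.leaf (nat_lit 24706069)) (BT.leaf (nat_lit 51038989))) (BT.node (nat_lit 8808448) (BT.leaf (nat_lit 24706329)) (BT.leaf (nat_lit 51039765)))) (BT.node (nat_lit 8808704) (BT.node (nat_lit 8808640) (BT.leaf (nat_lit 24706837)) (BT.leaf (nat_lit 29559577))) (BT.node (nat_lit 8808768) (BT.leaf (nat_lit 24707345)) (BT.leaf (nat_lit 24707349))))) (BT.node (nat_lit 8809152) (BT.node (nat_lit 8808960) (BT.node (nat_lit 8808896) (BT.leaf (nat_lit 51040529)) (BT.leaf (nat_lit 51040785))) (BT.node (nat_lit 8809088) (BT.leaf (nat_lit 51041049)) (BT.leaf (nat_lit 24707613)))) (BT.node (nat_lit 8809280) (BT.node (nat_lit 8809216) (BT.leaf (nat_lit 36332817)) (BT.leaf (nat_lit 51464197))) (BT.node (nat_lit 8809344) (BT.leaf (nat_lit 24708881)) (BT.leaf (nat_lit 36275489)))))) (BT.node (nat_lit 8809920) (BT.node (nat_lit 8809664) (BT.node (nat_lit 8809536) (BT.node (nat_lit 8809472) (BT.leaf (nat_lit 33751585)) (BT.leaf (nat_lit 29549593))) (BT.node (nat_lit 8809600) (BT.leaf (nat_lit 29330201)) (BT.leaf (nat_lit 29330205)))) (BT.node (nat_lit 8809792) (BT.node (nat_lit 8809728) (BT.leaf (nat_lit 24710169)) (BT.leaf (nat_lit 24711701))) (BT.node (nat_lit 8809856) (BT.leaf (nat_lit 25902869)) (BT.leaf (nat_lit 24710673))))) (BT.node (nat_lit 8810240) (BT.node (nat_lit 8810112) (BT.node (nat_lit 8809984) (BT.leaf (nat_lit 51045137)) (BT.leaf (nat_lit 24710929))) (BT.node (nat_lit 8810176) (BT.leaf (nat_lit 25902613)) (BT.leaf (nat_lit 24711441)))) (BT.node (nat_lit 8810432) (BT.node (nat_lit 8810368) (BT.leaf (nat_lit 24711953)) (BT.leaf (nat_lit 24712213))) (BT.node (nat_lit 8810496) (BT.leaf (nat_lit 25962517)) (BT.leaf (nat_lit 34122265))))))) (BT.node (nat_lit 8812288) (BT.node (nat_lit 8811456) (BT.node (nat_lit 8810816) (BT.node (nat_lit 8810688) (BT.node (nat_lit 8810624) (BT.leaf (nat_lit 39003937)) (BT.leaf (nat_lit 27607557))) (BT.node (nat_lit 8810752) (BT.leaf (nat_lit 47302433)) (BT.leaf (nat_lit 24714781)))) (BT.node (nat_lit 8811136) (BT.node (nat_lit 8811072) (BT.leaf (nat_lit 51047685)) (BT.leaf (nat_lit 50452757))) (BT.node (nat_lit 8811328) (BT.leaf (nat_lit 29023237)) (BT.leaf (nat_lit 25901333))))) (BT.node (nat_lit 8812032) (BT.node (nat_lit 8811840) (BT.node (nat_lit 8811584) (BT.leaf (nat_lit 26724117)) (BT.leaf (nat_lit 31339809))) (BT.node (nat_lit 8811904) (BT.leaf (nat_lit 31421973)) (BT.leaf (nat_lit 24720145)))) (BT.node (nat_lit 8812160) (BT.node (nat_lit 8812096) (BT.leaf (nat_lit 24720657)) (BT.leaf (nat_lit 29118489))) (BT.node (nat_lit 8812224) (BT.leaf (nat_lit 27507729)) (BT.leaf (nat_lit 27507733)))))) (BT.node (nat_lit 8812800) (BT.node (nat_lit 8812544) (BT.node (nat_lit 8812416) (BT.node (nat_lit 8812352) (BT.leaf (nat_lit 25519381)) (BT.leaf (nat_lit 46438421))) (BT.node (nat_lit 8812480) (BT.leaf (nat_lit 24722201)) (BT.leaf (nat_lit 24722205)))) (BT.node (nat_lit 8812672) (BT.node (nat_lit 8812608) (BT.leaf (nat_lit 24722465)) (BT.leaf (nat_lit 24723473))) (BT.node (nat_lit 8812736) (BT.leaf (nat_lit 24724501)) (BT.leaf (nat_lit 24724505))))) (BT.node (nat_lit 8813056) (BT.node (nat_lit 8812928) (BT.node (nat_lit 8812864) (BT.leaf (nat_lit 27283217)) (BT.leaf (nat_lit 51050773))) (BT.node (nat_lit 8812992) (BT.leaf (nat_lit 24725273)) (BT.leaf (nat_lit 29445397)))) (BT.node (nat_lit 8813312) (BT.node (nat_lit 8813248) (BT.leaf (nat_lit 27368209)) (BT.leaf (nat_lit 33320213))) (BT.node (nat_lit 8813376) (BT.leaf (nat_lit 28197909)) (BT.leaf (nat_lit 51050757))))))))))) (BT.node (nat_lit 8834496) (BT.node (nat_lit 8824320) (BT.node (nat_lit 8819520) (BT.node (nat_lit 8816448) (BT.node (nat_lit 8815296) (BT.node (nat_lit 8814272) (BT.node (nat_lit 8813888) (BT.node (nat_lit 8813696) (BT.node (nat_lit 8813632) (BT.leaf (nat_lit 24728849)) (BT.leaf (nat_lit 24729873))) (BT.node (nat_lit 8813760) (BT.leaf (nat_lit 24730129)) (BT.leaf (nat_lit 24730385)))) (BT.node (nat_lit 8814016) (BT.node (nat_lit 8813952) (BT.leaf (nat_lit 31494177)) (BT.leaf (nat_lit 24732181))) (BT.node (nat_lit 8814144) (BT.leaf (nat_lit 24732433)) (BT.leaf (nat_lit 49271329))))) (BT.node (nat_lit 8814656) (BT.node (nat_lit 8814400) (BT.node (nat_lit 8814336) (BT.leaf (nat_lit 50560541)) (BT.leaf (nat_lit 50694929))) (BT.node (nat_lit 8814528) (BT.leaf (nat_lit 50649861)) (BT.leaf (nat_lit 24734481)))) (BT.node (nat_lit 8814848) (BT.node (nat_lit 8814720) (BT.leaf (nat_lit 24734737)) (BT.leaf (nat_lit 24734741))) (BT.node (nat_lit 8815168) (BT.leaf (nat_lit 49600529)) (BT.leaf (nat_lit 38220561)))))) (BT.node (nat_lit 8815936) (BT.node (nat_lit 8815680) (BT.node (nat_lit 8815424) (BT.node (nat_lit 8815360) (BT.leaf (nat_lit 51056405)) (BT.leaf (nat_lit 51056661))) (BT.node (nat_lit 8815552) (BT.leaf (nat_lit 49434389)) (BT.leaf (nat_lit 24737041)))) (BT.node (nat_lit 8815808) (BT.node (nat_lit 8815744) (BT.leaf (nat_lit 24737057)) (BT.leaf (nat_lit 51057429))) (BT.node (nat_lit 8815872) (BT.leaf (nat_lit 49432861)) (BT.leaf (nat_lit 50179617))))) (BT.node (nat_lit 8816128) (BT.node (nat_lit 8815944) (BT.node (nat_lit 8815940) (BT.leaf (nat_lit 26603025)) (BT.leaf (nat_lit 578448))) (BT.node (nat_lit 8816064) (BT.leaf (nat_lit 578448)) (BT.leaf (nat_lit 26692125)))) (BT.node (nat_lit 8816256) (BT.node (nat_lit 8816192) (BT.leaf (nat_lit 33670417)) (BT.leaf (nat_lit 35264537))) (BT.node (nat_lit 8816384) (BT.leaf (nat_lit 28542229)) (BT.leaf (nat_lit 24740121))))))) (BT.node (nat_lit 8818112) (BT.node (nat_lit 8817216) (BT.node (nat_lit 8816896) (BT.node (nat_lit 8816576) (BT.node (nat_lit 8816512) (BT.leaf (nat_lit 24740125)) (BT.leaf (nat_lit 47220757))) (BT.node (nat_lit 8816640) (BT.leaf (nat_lit 50983441)) (BT.leaf (nat_lit 50983185)))) (BT.node (nat_lit 8817088) (BT.node (nat_lit 8816960) (BT.leaf (nat_lit 51058721)) (BT.leaf (nat_lit 24742161))) (BT.node (nat_lit 8817152) (BT.leaf (nat_lit 31211553)) (BT.leaf (nat_lit 24742677))))) (BT.node (nat_lit 8817728) (BT.node (nat_lit 8817536) (BT.node (nat_lit 8817472) (BT.leaf (nat_lit 24742685)) (BT.leaf (nat_lit 24744209))) (BT.node (nat_lit 8817664) (BT.leaf (nat_lit 51060513)) (BT.leaf (nat_lit 50954773)))) (BT.node (nat_lit 8817984) (BT.node (nat_lit 8817920) (BT.leaf (nat_lit 24745229)) (BT.leaf (nat_lit 24745249))) (BT.node (nat_lit 8818048) (BT.leaf (nat_lit 24745493)) (BT.leaf (nat_lit 46364425)))))) (BT.node (nat_lit 8818816) (BT.node (nat_lit 8818368) (BT.node (nat_lit 8818240) (BT.node (nat_lit 8818176) (BT.leaf (nat_lit 24746517)) (BT.leaf (nat_lit 33119517))) (BT.node (nat_lit 8818304) (BT.leaf (nat_lit 49618193)) (BT.leaf (nat_lit 37545745)))) (BT.node (nat_lit 8818560) (BT.node (nat_lit 8818432) (BT.leaf (nat_lit 24747793)) (BT.leaf (nat_lit 24748313))) (BT.node (nat_lit 8818624) (BT.leaf (nat_lit 24748821)) (BT.leaf (nat_lit 34809117))))) (BT.node (nat_lit 8819072) (BT.node (nat_lit 8818944) (BT.node (nat_lit 8818880) (BT.leaf (nat_lit 47147033)) (BT.leaf (nat_lit 24750609))) (BT.node (nat_lit 8819008) (BT.leaf (nat_lit 24750625)) (BT.leaf (nat_lit 51062037)))) (BT.node (nat_lit 8819264) (BT.node (nat_lit 8819136) (BT.leaf (nat_lit 32764701)) (BT.leaf (nat_lit 36392965))) (BT.node (nat_lit 8819392) (BT.leaf (nat_lit 36312589)) (BT.leaf (nat_lit 25020957)))))))) (BT.node (nat_lit 8822080) (BT.node (nat_lit 8820736) (BT.node (nat_lit 8820160) (BT.node (nat_lit 8819904) (BT.node (nat_lit 8819712) (BT.node (nat_lit 8819584) (BT.leaf (nat_lit 25020953)) (BT.leaf (nat_lit 29162013))) (BT.node (nat_lit 8819840) (BT.leaf (nat_lit 24754705)) (BT.leaf (nat_lit 49234949)))) (BT.node (nat_lit 8820032) (BT.node (nat_lit 8819968) (BT.leaf (nat_lit 24754961)) (BT.leaf (nat_lit 49526789))) (BT.node (nat_lit 8820096) (BT.leaf (nat_lit 24755481)) (BT.leaf (nat_lit 24755485))))) (BT.node (nat_lit 8820480) (BT.node (nat_lit 8820288) (BT.node (nat_lit 8820224) (BT.leaf (nat_lit 47484193)) (BT.leaf (nat_lit 47484449))) (BT.node (nat_lit 8820352) (BT.leaf (nat_lit 25973781)) (BT.leaf (nat_lit 47484705)))) (BT.node (nat_lit 8820608) (BT.node (nat_lit 8820544) (BT.leaf (nat_lit 24755989)) (BT.leaf (nat_lit 26728209))) (BT.node (nat_lit 8820672) (BT.leaf (nat_lit 24757265)) (BT.leaf (nat_lit 49992981)))))) (BT.node (nat_lit 8821312) (BT.node (nat_lit 8821056) (BT.node (nat_lit 8820928) (BT.node (nat_lit 8820800) (BT.leaf (nat_lit 24757777)) (BT.leaf (nat_lit 24758289))) (BT.node (nat_lit 8820992) (BT.leaf (nat_lit 24759321)) (BT.leaf (nat_lit 24759569)))) (BT.node (nat_lit 8821184) (BT.node (nat_lit 8821120) (BT.leaf (nat_lit 24760593)) (BT.leaf (nat_lit 24761105))) (BT.node (nat_lit 8821248) (BT.leaf (nat_lit 24761361)) (BT.leaf (nat_lit 24761873))))) (BT.node (nat_lit 8821824) (BT.node (nat_lit 8821632) (BT.node (nat_lit 8821440) (BT.leaf (nat_lit 24762649)) (BT.leaf (nat_lit 51067149))) (BT.node (nat_lit 8821696) (BT.leaf (nat_lit 29509153)) (BT.leaf (nat_lit 24764685)))) (BT.node (nat_lit 8821952) (BT.node (nat_lit 8821888) (BT.leaf (nat_lit 49634061)) (BT.leaf (nat_lit 24764705))) (BT.node (nat_lit 8822016) (BT.leaf (nat_lit 25779217)) (BT.leaf (nat_lit 24765977))))))) (BT.node (nat_lit 8823168) (BT.node (nat_lit 8822656) (BT.node (nat_lit 8822400) (BT.node (nat_lit 8822272) (BT.node (nat_lit 8822144) (BT.leaf (nat_lit 24765957)) (BT.leaf (nat_lit 24766225))) (BT.node (nat_lit 8822336) (BT.leaf (nat_lit 51069209)) (BT.leaf (nat_lit 25934361)))) (BT.node (nat_lit 8822528) (BT.node (nat_lit 8822464) (BT.leaf (nat_lit 24767249)) (BT.leaf (nat_lit 25934621))) (BT.node (nat_lit 8822592) (BT.leaf (nat_lit 25052445)) (BT.leaf (nat_lit 49636897))))) (BT.node (nat_lit 8822912) (BT.node (nat_lit 8822784) (BT.node (nat_lit 8822720) (BT.leaf (nat_lit 24767765)) (BT.leaf (nat_lit 24768017))) (BT.node (nat_lit 8822848) (BT.leaf (nat_lit 49019397)) (BT.leaf (nat_lit 27605021)))) (BT.node (nat_lit 8823040) (BT.node (nat_lit 8822976) (BT.leaf (nat_lit 28946713)) (BT.leaf (nat_lit 28946717))) (BT.node (nat_lit 8823104) (BT.leaf (nat_lit 24769557)) (BT.leaf (nat_lit 48010521)))))) (BT.node (nat_lit 8823680) (BT.node (nat_lit 8823424) (BT.node (nat_lit 8823296) (BT.node (nat_lit 8823232) (BT.leaf (nat_lit 24770065)) (BT.leaf (nat_lit 25628441))) (BT.node (nat_lit 8823360) (BT.leaf (nat_lit 24771093)) (BT.leaf (nat_lit 51071753)))) (BT.node (nat_lit 8823552) (BT.node (nat_lit 8823488) (BT.leaf (nat_lit 24773141)) (BT.leaf (nat_lit 24773393))) (BT.node (nat_lit 8823616) (BT.leaf (nat_lit 24773657)) (BT.leaf (nat_lit 36400397))))) (BT.node (nat_lit 8823936) (BT.node (nat_lit 8823808) (BT.node (nat_lit 8823744) (BT.leaf (nat_lit 24773665)) (BT.leaf (nat_lit 24773893))) (BT.node (nat_lit 8823872) (BT.leaf (nat_lit 24774165)) (BT.leaf (nat_lit 24774173)))) (BT.node (nat_lit 8824192) (BT.node (nat_lit 8824128) (BT.leaf (nat_lit 24774669)) (BT.leaf (nat_lit 24774933))) (BT.node (nat_lit 8824256) (BT.leaf (nat_lit 24775957)) (BT.leaf (nat_lit 24775961))))))))) (BT.node (nat_lit 8829632) (BT.node (nat_lit 8826688) (BT.node (nat_lit 8825536) (BT.node (nat_lit 8824896) (BT.node (nat_lit 8824640) (BT.node (nat_lit 8824512) (BT.node (nat_lit 8824384) (BT.leaf (nat_lit 24775965)) (BT.leaf (nat_lit 24776209))) (BT.node (nat_lit 8824576) (BT.leaf (nat_lit 24776457)) (BT.leaf (nat_lit 24776477)))) (BT.node (nat_lit 8824768) (BT.node (nat_lit 8824704) (BT.leaf (nat_lit 25911829)) (BT.leaf (nat_lit 26694413))) (BT.node (nat_lit 8824832) (BT.leaf (nat_lit 48233505)) (BT.leaf (nat_lit 24778245))))) (BT.node (nat_lit 8825280) (BT.node (nat_lit 8825024) (BT.node (nat_lit 8824960) (BT.leaf (nat_lit 49465097)) (BT.leaf (nat_lit 35365133))) (BT.node (nat_lit 8825152) (BT.leaf (nat_lit 51075613)) (BT.leaf (nat_lit 47680277)))) (BT.node (nat_lit 8825408) (BT.node (nat_lit 8825344) (BT.leaf (nat_lit 47127573)) (BT.leaf (nat_lit 25896213))) (BT.node (nat_lit 8825472) (BT.leaf (nat_lit 36320797)) (BT.leaf (nat_lit 49087765)))))) (BT.node (nat_lit 8826112) (BT.node (nat_lit 8825792) (BT.node (nat_lit 8825664) (BT.node (nat_lit 8825600) (BT.leaf (nat_lit 50450961)) (BT.leaf (nat_lit 50450965))) (BT.node (nat_lit 8825728) (BT.leaf (nat_lit 24781585)) (BT.leaf (nat_lit 25883665)))) (BT.node (nat_lit 8825984) (BT.node (nat_lit 8825920) (BT.leaf (nat_lit 25918225)) (BT.leaf (nat_lit 24782357))) (BT.node (nat_lit 8826048) (BT.leaf (nat_lit 49667865)) (BT.leaf (nat_lit 35304461))))) (BT.node (nat_lit 8826368) (BT.node (nat_lit 8826240) (BT.node (nat_lit 8826176) (BT.leaf (nat_lit 49344789)) (BT.leaf (nat_lit 47579425))) (BT.node (nat_lit 8826304) (BT.leaf (nat_lit 24783637)) (BT.leaf (nat_lit 44805397)))) (BT.node (nat_lit 8826560) (BT.node (nat_lit 8826496) (BT.leaf (nat_lit 35305225)) (BT.leaf (nat_lit 45678101))) (BT.node (nat_lit 8826624) (BT.leaf (nat_lit 51077401)) (BT.leaf (nat_lit 24786197))))))) (BT.node (nat_lit 8828288) (BT.node (nat_lit 8827520) (BT.node (nat_lit 8827200) (BT.node (nat_lit 8827072) (BT.node (nat_lit 8826880) (BT.leaf (nat_lit 35148061)) (BT.leaf (nat_lit 24787489))) (BT.node (nat_lit 8827136) (BT.leaf (nat_lit 35464477)) (BT.leaf (nat_lit 51623713)))) (BT.node (nat_lit 8827328) (BT.node (nat_lit 8827264) (BT.leaf (nat_lit 24788497)) (BT.leaf (nat_lit 24788501))) (BT.node (nat_lit 8827392) (BT.leaf (nat_lit 24788757)) (BT.leaf (nat_lit 24789013))))) (BT.node (nat_lit 8827840) (BT.node (nat_lit 8827648) (BT.node (nat_lit 8827584) (BT.leaf (nat_lit 24789525)) (BT.leaf (nat_lit 50301721))) (BT.node (nat_lit 8827776) (BT.leaf (nat_lit 35152157)) (BT.leaf (nat_lit 35152137)))) (BT.node (nat_lit 8828160) (BT.node (nat_lit 8827904) (BT.leaf (nat_lit 50301709)) (BT.leaf (nat_lit 51079953))) (BT.node (nat_lit 8828224) (BT.leaf (nat_lit 37542673)) (BT.leaf (nat_lit 37457681)))))) (BT.node (nat_lit 8828864) (BT.node (nat_lit 8828608) (BT.node (nat_lit 8828480) (BT.node (nat_lit 8828416) (BT.leaf (nat_lit 33755909)) (BT.leaf (nat_lit 29185557))) (BT.node (nat_lit 8828544) (BT.leaf (nat_lit 29526049)) (BT.leaf (nat_lit 30184481)))) (BT.node (nat_lit 8828736) (BT.node (nat_lit 8828672) (BT.leaf (nat_lit 32719621)) (BT.leaf (nat_lit 24792337))) (BT.node (nat_lit 8828800) (BT.leaf (nat_lit 51082273)) (BT.leaf (nat_lit 49681413))))) (BT.node (nat_lit 8829248) (BT.node (nat_lit 8828992) (BT.node (nat_lit 8828928) (BT.leaf (nat_lit 46576153)) (BT.leaf (nat_lit 24793105))) (BT.node (nat_lit 8829056) (BT.leaf (nat_lit 51082529)) (BT.leaf (nat_lit 42741785)))) (BT.node (nat_lit 8829376) (BT.node (nat_lit 8829312) (BT.leaf (nat_lit 24795409)) (BT.leaf (nat_lit 51401761))) (BT.node (nat_lit 8829568) (BT.leaf (nat_lit 47840289)) (BT.leaf (nat_lit 28145429)))))))) (BT.node (nat_lit 8831936) (BT.node (nat_lit 8830784) (BT.node (nat_lit 8830208) (BT.node (nat_lit 8829952) (BT.node (nat_lit 8829824) (BT.node (nat_lit 8829760) (BT.leaf (nat_lit 24796945)) (BT.leaf (nat_lit 24797201))) (BT.node (nat_lit 8829888) (BT.leaf (nat_lit 30885397)) (BT.leaf (nat_lit 27117065)))) (BT.node (nat_lit 8830080) (BT.node (nat_lit 8830016) (BT.leaf (nat_lit 24799509)) (BT.leaf (nat_lit 35320349))) (BT.node (nat_lit 8830144) (BT.leaf (nat_lit 29725969)) (BT.leaf (nat_lit 24799765))))) (BT.node (nat_lit 8830528) (BT.node (nat_lit 8830400) (BT.node (nat_lit 8830272) (BT.leaf (nat_lit 24800285)) (BT.leaf (nat_lit 24800529))) (BT.node (nat_lit 8830464) (BT.leaf (nat_lit 35327749)) (BT.leaf (nat_lit 51085589)))) (BT.node (nat_lit 8830656) (BT.node (nat_lit 8830592) (BT.leaf (nat_lit 24802325)) (BT.leaf (nat_lit 24802329))) (BT.node (nat_lit 8830720) (BT.leaf (nat_lit 24802333)) (BT.leaf (nat_lit 24802833)))))) (BT.node (nat_lit 8831360) (BT.node (nat_lit 8831104) (BT.node (nat_lit 8830912) (BT.node (nat_lit 8830848) (BT.leaf (nat_lit 25901077)) (BT.leaf (nat_lit 24803601))) (BT.node (nat_lit 8830976) (BT.leaf (nat_lit 24803857)) (BT.leaf (nat_lit 24804885)))) (BT.node (nat_lit 8831232) (BT.node (nat_lit 8831168) (BT.leaf (nat_lit 24804381)) (BT.leaf (nat_lit 51086353))) (BT.node (nat_lit 8831296) (BT.leaf (nat_lit 29792261)) (BT.leaf (nat_lit 24805393))))) (BT.node (nat_lit 8831616) (BT.node (nat_lit 8831488) (BT.node (nat_lit 8831424) (BT.leaf (nat_lit 24804889)) (BT.leaf (nat_lit 47056921))) (BT.node (nat_lit 8831552) (BT.leaf (nat_lit 36336157)) (BT.leaf (nat_lit 25876249)))) (BT.node (nat_lit 8831744) (BT.node (nat_lit 8831680) (BT.leaf (nat_lit 24806161)) (BT.leaf (nat_lit 24806417))) (BT.node (nat_lit 8831808) (BT.leaf (nat_lit 24807185)) (BT.leaf (nat_lit 24808465))))))) (BT.node (nat_lit 8833152) (BT.node (nat_lit 8832448) (BT.node (nat_lit 8832192) (BT.node (nat_lit 8832064) (BT.node (nat_lit 8832000) (BT.leaf (nat_lit 51088925)) (BT.leaf (nat_lit 51089429))) (BT.node (nat_lit 8832128) (BT.leaf (nat_lit 24808977)) (BT.leaf (nat_lit 34395161)))) (BT.node (nat_lit 8832320) (BT.node (nat_lit 8832256) (BT.leaf (nat_lit 33877537)) (BT.leaf (nat_lit 26004753))) (BT.node (nat_lit 8832384) (BT.leaf (nat_lit 24809241)) (BT.leaf (nat_lit 24809245))))) (BT.node (nat_lit 8832896) (BT.node (nat_lit 8832640) (BT.node (nat_lit 8832576) (BT.leaf (nat_lit 28447505)) (BT.leaf (nat_lit 50758673))) (BT.node (nat_lit 8832768) (BT.leaf (nat_lit 24810265)) (BT.leaf (nat_lit 24812041)))) (BT.node (nat_lit 8833024) (BT.node (nat_lit 8832960) (BT.leaf (nat_lit 46925317)) (BT.leaf (nat_lit 51091205))) (BT.node (nat_lit 8833088) (BT.leaf (nat_lit 24812061)) (BT.leaf (nat_lit 51091461)))))) (BT.node (nat_lit 8833728) (BT.node (nat_lit 8833408) (BT.node (nat_lit 8833280) (BT.node (nat_lit 8833216) (BT.leaf (nat_lit 24812057)) (BT.leaf (nat_lit 37962017))) (BT.node (nat_lit 8833344) (BT.leaf (nat_lit 30636821)) (BT.leaf (nat_lit 27996961)))) (BT.node (nat_lit 8833600) (BT.node (nat_lit 8833472) (BT.leaf (nat_lit 27278105)) (BT.leaf (nat_lit 24814357))) (BT.node (nat_lit 8833664) (BT.leaf (nat_lit 30845205)) (BT.leaf (nat_lit 50083361))))) (BT.node (nat_lit 8834048) (BT.node (nat_lit 8833856) (BT.node (nat_lit 8833792) (BT.leaf (nat_lit 50306053)) (BT.leaf (nat_lit 24816145))) (BT.node (nat_lit 8833984) (BT.leaf (nat_lit 31506965)) (BT.leaf (nat_lit 24816409)))) (BT.node (nat_lit 8834368) (BT.node (nat_lit 8834304) (BT.leaf (nat_lit 34614809)) (BT.leaf (nat_lit 24817697))) (BT.node (nat_lit 8834432) (BT.leaf (nat_lit 27907089)) (BT.leaf (nat_lit 24818181)))))))))) (BT.node (nat_lit 8844736) (BT.node (nat_lit 8839616) (BT.node (nat_lit 8837248) (BT.node (nat_lit 8835648) (BT.node (nat_lit 8835072) (BT.node (nat_lit 8834816) (BT.node (nat_lit 8834688) (BT.node (nat_lit 8834624) (BT.leaf (nat_lit 24818693)) (BT.leaf (nat_lit 24819729))) (BT.node (nat_lit 8834752) (BT.leaf (nat_lit 27341589)) (BT.leaf (nat_lit 51093021)))) (BT.node (nat_lit 8834944) (BT.node (nat_lit 8834880) (BT.leaf (nat_lit 51093533)) (BT.leaf (nat_lit 33884697))) (BT.node (nat_lit 8835008) (BT.leaf (nat_lit 24820753)) (BT.leaf (nat_lit 24820757))))) (BT.node (nat_lit 8835328) (BT.node (nat_lit 8835200) (BT.node (nat_lit 8835136) (BT.leaf (nat_lit 51094037)) (BT.leaf (nat_lit 34894113))) (BT.node (nat_lit 8835264) (BT.leaf (nat_lit 51094545)) (BT.leaf (nat_lit 24821525)))) (BT.node (nat_lit 8835456) (BT.node (nat_lit 8835392) (BT.leaf (nat_lit 33115397)) (BT.leaf (nat_lit 48888337))) (BT.node (nat_lit 8835520) (BT.leaf (nat_lit 33493273)) (BT.leaf (nat_lit 33837337)))))) (BT.node (nat_lit 8836608) (BT.node (nat_lit 8836288) (BT.node (nat_lit 8835776) (BT.node (nat_lit 8835712) (BT.leaf (nat_lit 26305057)) (BT.leaf (nat_lit 35620641))) (BT.node (nat_lit 8836096) (BT.leaf (nat_lit 35880993)) (BT.leaf (nat_lit 24824853)))) (BT.node (nat_lit 8836480) (BT.node (nat_lit 8836352) (BT.leaf (nat_lit 24825377)) (BT.leaf (nat_lit 24859673))) (BT.node (nat_lit 8836544) (BT.leaf (nat_lit 28640021)) (BT.leaf (nat_lit 48147481))))) (BT.node (nat_lit 8836992) (BT.node (nat_lit 8836736) (BT.node (nat_lit 8836672) (BT.leaf (nat_lit 27395873)) (BT.leaf (nat_lit 27510305))) (BT.node (nat_lit 8836800) (BT.leaf (nat_lit 27396385)) (BT.leaf (nat_lit 27347489)))) (BT.node (nat_lit 8837120) (BT.node (nat_lit 8837056) (BT.leaf (nat_lit 24827413)) (BT.leaf (nat_lit 29698829))) (BT.node (nat_lit 8837184) (BT.leaf (nat_lit 33601557)) (BT.leaf (nat_lit 24828689))))))) (BT.node (nat_lit 8838400) (BT.node (nat_lit 8837760) (BT.node (nat_lit 8837504) (BT.node (nat_lit 8837376) (BT.node (nat_lit 8837312) (BT.leaf (nat_lit 24828945)) (BT.leaf (nat_lit 31072529))) (BT.node (nat_lit 8837440) (BT.leaf (nat_lit 51097873)) (BT.leaf (nat_lit 51098129)))) (BT.node (nat_lit 8837632) (BT.node (nat_lit 8837568) (BT.leaf (nat_lit 26015509)) (BT.leaf (nat_lit 27794453))) (BT.node (nat_lit 8837696) (BT.leaf (nat_lit 33301269)) (BT.leaf (nat_lit 34500373))))) (BT.node (nat_lit 8838016) (BT.node (nat_lit 8837888) (BT.node (nat_lit 8837824) (BT.leaf (nat_lit 24830737)) (BT.leaf (nat_lit 24830993))) (BT.node (nat_lit 8837952) (BT.leaf (nat_lit 34462485)) (BT.leaf (nat_lit 30676229)))) (BT.node (nat_lit 8838208) (BT.node (nat_lit 8838080) (BT.leaf (nat_lit 24832273)) (BT.leaf (nat_lit 24832529))) (BT.node (nat_lit 8838336) (BT.leaf (nat_lit 24833045)) (BT.leaf (nat_lit 25136413)))))) (BT.node (nat_lit 8838976) (BT.node (nat_lit 8838656) (BT.node (nat_lit 8838528) (BT.node (nat_lit 8838464) (BT.leaf (nat_lit 25441041)) (BT.leaf (nat_lit 24835089))) (BT.node (nat_lit 8838592) (BT.leaf (nat_lit 49725713)) (BT.leaf (nat_lit 46513693)))) (BT.node (nat_lit 8838848) (BT.node (nat_lit 8838720) (BT.leaf (nat_lit 39880477)) (BT.leaf (nat_lit 24835601))) (BT.node (nat_lit 8838912) (BT.leaf (nat_lit 42233101)) (BT.leaf (nat_lit 31350809))))) (BT.node (nat_lit 8839232) (BT.node (nat_lit 8839104) (BT.node (nat_lit 8839040) (BT.leaf (nat_lit 51100949)) (BT.leaf (nat_lit 30493701))) (BT.node (nat_lit 8839168) (BT.leaf (nat_lit 42762009)) (BT.leaf (nat_lit 37575701)))) (BT.node (nat_lit 8839424) (BT.node (nat_lit 8839360) (BT.leaf (nat_lit 46354693)) (BT.leaf (nat_lit 24838941))) (BT.node (nat_lit 8839552) (BT.leaf (nat_lit 35506969)) (BT.leaf (nat_lit 35358477)))))))) (BT.node (nat_lit 8842176) (BT.node (nat_lit 8840960) (BT.node (nat_lit 8840448) (BT.node (nat_lit 8840000) (BT.node (nat_lit 8839872) (BT.node (nat_lit 8839680) (BT.leaf (nat_lit 48713493)) (BT.leaf (nat_lit 36217117))) (BT.node (nat_lit 8839936) (BT.leaf (nat_lit 24840209)) (BT.leaf (nat_lit 51105041)))) (BT.node (nat_lit 8840128) (BT.node (nat_lit 8840064) (BT.leaf (nat_lit 24840473)) (BT.leaf (nat_lit 24840477))) (BT.node (nat_lit 8840256) (BT.leaf (nat_lit 51105045)) (BT.leaf (nat_lit 46923525))))) (BT.node (nat_lit 8840704) (BT.node (nat_lit 8840576) (BT.node (nat_lit 8840512) (BT.leaf (nat_lit 24841753)) (BT.leaf (nat_lit 35393029))) (BT.node (nat_lit 8840640) (BT.leaf (nat_lit 39445525)) (BT.leaf (nat_lit 39446021)))) (BT.node (nat_lit 8840832) (BT.node (nat_lit 8840768) (BT.leaf (nat_lit 49293325)) (BT.leaf (nat_lit 51108373))) (BT.node (nat_lit 8840896) (BT.leaf (nat_lit 26019857)) (BT.leaf (nat_lit 24843801)))))) (BT.node (nat_lit 8841664) (BT.node (nat_lit 8841216) (BT.node (nat_lit 8841088) (BT.node (nat_lit 8841024) (BT.leaf (nat_lit 24843805)) (BT.leaf (nat_lit 46931977))) (BT.node (nat_lit 8841152) (BT.leaf (nat_lit 34468125)) (BT.leaf (nat_lit 50611221)))) (BT.node (nat_lit 8841344) (BT.node (nat_lit 8841280) (BT.leaf (nat_lit 50611229)) (BT.leaf (nat_lit 36892933))) (BT.node (nat_lit 8841472) (BT.leaf (nat_lit 48482837)) (BT.leaf (nat_lit 24845589))))) (BT.node (nat_lit 8841920) (BT.node (nat_lit 8841792) (BT.node (nat_lit 8841728) (BT.leaf (nat_lit 50602005)) (BT.leaf (nat_lit 24847889))) (BT.node (nat_lit 8841856) (BT.leaf (nat_lit 24848401)) (BT.leaf (nat_lit 26020613)))) (BT.node (nat_lit 8842048) (BT.node (nat_lit 8841984) (BT.leaf (nat_lit 24850705)) (BT.leaf (nat_lit 25314333))) (BT.node (nat_lit 8842112) (BT.leaf (nat_lit 24850965)) (BT.leaf (nat_lit 24851473))))))) (BT.node (nat_lit 8843264) (BT.node (nat_lit 8842688) (BT.node (nat_lit 8842432) (BT.node (nat_lit 8842304) (BT.node (nat_lit 8842240) (BT.leaf (nat_lit 33302297)) (BT.leaf (nat_lit 46446853))) (BT.node (nat_lit 8842368) (BT.leaf (nat_lit 51111453)) (BT.leaf (nat_lit 24852761)))) (BT.node (nat_lit 8842560) (BT.node (nat_lit 8842496) (BT.leaf (nat_lit 24853009)) (BT.leaf (nat_lit 24854545))) (BT.node (nat_lit 8842624) (BT.leaf (nat_lit 24854289)) (BT.leaf (nat_lit 24854801))))) (BT.node (nat_lit 8842944) (BT.node (nat_lit 8842816) (BT.node (nat_lit 8842752) (BT.leaf (nat_lit 34020897)) (BT.leaf (nat_lit 34021893))) (BT.node (nat_lit 8842880) (BT.leaf (nat_lit 35663645)) (BT.leaf (nat_lit 51113501)))) (BT.node (nat_lit 8843136) (BT.node (nat_lit 8843072) (BT.leaf (nat_lit 34376977)) (BT.leaf (nat_lit 48431637))) (BT.node (nat_lit 8843200) (BT.leaf (nat_lit 30554393)) (BT.leaf (nat_lit 51113733)))))) (BT.node (nat_lit 8844096) (BT.node (nat_lit 8843584) (BT.node (nat_lit 8843392) (BT.node (nat_lit 8843328) (BT.leaf (nat_lit 35527189)) (BT.leaf (nat_lit 24857885))) (BT.node (nat_lit 8843520) (BT.leaf (nat_lit 24858129)) (BT.leaf (nat_lit 30573845)))) (BT.node (nat_lit 8843712) (BT.node (nat_lit 8843648) (BT.leaf (nat_lit 51115541)) (BT.leaf (nat_lit 30935049))) (BT.node (nat_lit 8843840) (BT.leaf (nat_lit 24859153)) (BT.leaf (nat_lit 24859677))))) (BT.node (nat_lit 8844480) (BT.node (nat_lit 8844352) (BT.node (nat_lit 8844288) (BT.leaf (nat_lit 48914449)) (BT.leaf (nat_lit 24863521))) (BT.node (nat_lit 8844416) (BT.leaf (nat_lit 45860381)) (BT.leaf (nat_lit 24864529)))) (BT.node (nat_lit 8844608) (BT.node (nat_lit 8844544) (BT.leaf (nat_lit 31411985)) (BT.leaf (nat_lit 24865041))) (BT.node (nat_lit 8844672) (BT.leaf (nat_lit 24865045)) (BT.leaf (nat_lit 25184261))))))))) (BT.node (nat_lit 8849728) (BT.node (nat_lit 8847424) (BT.node (nat_lit 8846208) (BT.node (nat_lit 8845504) (BT.node (nat_lit 8845056) (BT.node (nat_lit 8844928) (BT.node (nat_lit 8844800) (BT.leaf (nat_lit 24865301)) (BT.leaf (nat_lit 24865561))) (BT.node (nat_lit 8844992) (BT.leaf (nat_lit 24865809)) (BT.leaf (nat_lit 51118109)))) (BT.node (nat_lit 8845248) (BT.node (nat_lit 8845184) (BT.leaf (nat_lit 50281757)) (BT.leaf (nat_lit 24866081))) (BT.node (nat_lit 8845376) (BT.leaf (nat_lit 28447749)) (BT.leaf (nat_lit 26008093))))) (BT.node (nat_lit 8845952) (BT.node (nat_lit 8845760) (BT.node (nat_lit 8845632) (BT.leaf (nat_lit 24868113)) (BT.leaf (nat_lit 24868381))) (BT.node (nat_lit 8845824) (BT.leaf (nat_lit 51120161)) (BT.leaf (nat_lit 38640661)))) (BT.node (nat_lit 8846080) (BT.node (nat_lit 8846016) (BT.leaf (nat_lit 51120673)) (BT.leaf (nat_lit 50335253))) (BT.node (nat_lit 8846144) (BT.leaf (nat_lit 24869649)) (BT.leaf (nat_lit 24870161)))))) (BT.node (nat_lit 8846912) (BT.node (nat_lit 8846528) (BT.node (nat_lit 8846400) (BT.node (nat_lit 8846336) (BT.leaf (nat_lit 24869917)) (BT.leaf (nat_lit 48571677))) (BT.node (nat_lit 8846464) (BT.leaf (nat_lit 24870933)) (BT.leaf (nat_lit 50101781)))) (BT.node (nat_lit 8846656) (BT.node (nat_lit 8846592) (BT.leaf (nat_lit 24872201)) (BT.leaf (nat_lit 24872205))) (BT.node (nat_lit 8846720) (BT.leaf (nat_lit 51121177)) (BT.leaf (nat_lit 49718277))))) (BT.node (nat_lit 8847168) (BT.node (nat_lit 8847040) (BT.node (nat_lit 8846976) (BT.leaf (nat_lit 24874001)) (BT.leaf (nat_lit 24874257))) (BT.node (nat_lit 8847104) (BT.leaf (nat_lit 24874517)) (BT.leaf (nat_lit 25062421)))) (BT.node (nat_lit 8847296) (BT.node (nat_lit 8847232) (BT.leaf (nat_lit 24875805)) (BT.leaf (nat_lit 24876049))) (BT.node (nat_lit 8847360) (BT.leaf (nat_lit 42233349)) (BT.leaf (nat_lit 48025885))))))) (BT.node (nat_lit 8848640) (BT.node (nat_lit 8848000) (BT.node (nat_lit 8847680) (BT.node (nat_lit 8847552) (BT.node (nat_lit 8847488) (BT.leaf (nat_lit 33456141)) (BT.leaf (nat_lit 47018505))) (BT.node (nat_lit 8847616) (BT.leaf (nat_lit 46675981)) (BT.leaf (nat_lit 51122973)))) (BT.node (nat_lit 8847808) (BT.node (nat_lit 8847744) (BT.leaf (nat_lit 24877841)) (BT.leaf (nat_lit 24878353))) (BT.node (nat_lit 8847872) (BT.leaf (nat_lit 24879125)) (BT.leaf (nat_lit 24879633))))) (BT.node (nat_lit 8848256) (BT.node (nat_lit 8848128) (BT.node (nat_lit 8848064) (BT.leaf (nat_lit 24880153)) (BT.leaf (nat_lit 24881173))) (BT.node (nat_lit 8848192) (BT.leaf (nat_lit 29493277)) (BT.leaf (nat_lit 24881681)))) (BT.node (nat_lit 8848448) (BT.node (nat_lit 8848320) (BT.leaf (nat_lit 34604569)) (BT.leaf (nat_lit 34495265))) (BT.node (nat_lit 8848512) (BT.leaf (nat_lit 48606237)) (BT.leaf (nat_lit 26037009)))))) (BT.node (nat_lit 8849152) (BT.node (nat_lit 8848896) (BT.node (nat_lit 8848768) (BT.node (nat_lit 8848704) (BT.leaf (nat_lit 24884501)) (BT.leaf (nat_lit 50403613))) (BT.node (nat_lit 8848832) (BT.leaf (nat_lit 50308385)) (BT.leaf (nat_lit 38953241)))) (BT.node (nat_lit 8849024) (BT.node (nat_lit 8848960) (BT.leaf (nat_lit 31247621)) (BT.leaf (nat_lit 31325985))) (BT.node (nat_lit 8849088) (BT.leaf (nat_lit 34557473)) (BT.leaf (nat_lit 34877957))))) (BT.node (nat_lit 8849472) (BT.node (nat_lit 8849280) (BT.node (nat_lit 8849216) (BT.leaf (nat_lit 24887309)) (BT.leaf (nat_lit 37024541))) (BT.node (nat_lit 8849344) (BT.leaf (nat_lit 24886801)) (BT.leaf (nat_lit 24887313)))) (BT.node (nat_lit 8849600) (BT.node (nat_lit 8849536) (BT.leaf (nat_lit 36444697)) (BT.leaf (nat_lit 24887825))) (BT.node (nat_lit 8849664) (BT.leaf (nat_lit 36621069)) (BT.leaf (nat_lit 26290453)))))))) (BT.node (nat_lit 8853248) (BT.node (nat_lit 8851584) (BT.node (nat_lit 8851008) (BT.node (nat_lit 8850368) (BT.node (nat_lit 8850176) (BT.node (nat_lit 8849792) (BT.leaf (nat_lit 28831753)) (BT.leaf (nat_lit 36614677))) (BT.node (nat_lit 8850240) (BT.leaf (nat_lit 24892177)) (BT.leaf (nat_lit 24892433)))) (BT.node (nat_lit 8850752) (BT.node (nat_lit 8850432) (BT.leaf (nat_lit 52342049)) (BT.leaf (nat_lit 40201757))) (BT.node (nat_lit 8850816) (BT.leaf (nat_lit 24895249)) (BT.leaf (nat_lit 36887581))))) (BT.node (nat_lit 8851328) (BT.node (nat_lit 8851200) (BT.node (nat_lit 8851136) (BT.leaf (nat_lit 36872225)) (BT.leaf (nat_lit 24896777))) (BT.node (nat_lit 8851264) (BT.leaf (nat_lit 24896781)) (BT.leaf (nat_lit 24896793)))) (BT.node (nat_lit 8851456) (BT.node (nat_lit 8851392) (BT.leaf (nat_lit 24896797)) (BT.leaf (nat_lit 35838489))) (BT.node (nat_lit 8851520) (BT.leaf (nat_lit 25359385)) (BT.leaf (nat_lit 26295569)))))) (BT.node (nat_lit 8852544) (BT.node (nat_lit 8852096) (BT.node (nat_lit 8851712) (BT.node (nat_lit 8851648) (BT.leaf (nat_lit 24897809)) (BT.leaf (nat_lit 24898065))) (BT.node (nat_lit 8851840) (BT.leaf (nat_lit 24898329)) (BT.leaf (nat_lit 26162693)))) (BT.node (nat_lit 8852288) (BT.node (nat_lit 8852160) (BT.leaf (nat_lit 35462677)) (BT.leaf (nat_lit 35984921))) (BT.node (nat_lit 8852480) (BT.leaf (nat_lit 35984905)) (BT.leaf (nat_lit 25574417))))) (BT.node (nat_lit 8852992) (BT.node (nat_lit 8852800) (BT.node (nat_lit 8852736) (BT.leaf (nat_lit 37013777)) (BT.leaf (nat_lit 24900625))) (BT.node (nat_lit 8852928) (BT.leaf (nat_lit 36726297)) (BT.leaf (nat_lit 51394573)))) (BT.node (nat_lit 8853120) (BT.node (nat_lit 8853056) (BT.leaf (nat_lit 27118341)) (BT.leaf (nat_lit 24902929))) (BT.node (nat_lit 8853184) (BT.leaf (nat_lit 33139977)) (BT.leaf (nat_lit 24903441))))))) (BT.node (nat_lit 8855168) (BT.node (nat_lit 8854144) (BT.node (nat_lit 8853696) (BT.node (nat_lit 8853504) (BT.node (nat_lit 8853440) (BT.leaf (nat_lit 46488601)) (BT.leaf (nat_lit 36045317))) (BT.node (nat_lit 8853568) (BT.leaf (nat_lit 49884949)) (BT.leaf (nat_lit 35443229)))) (BT.node (nat_lit 8853824) (BT.node (nat_lit 8853760) (BT.leaf (nat_lit 35415321)) (BT.leaf (nat_lit 51135749))) (BT.node (nat_lit 8853888) (BT.leaf (nat_lit 35876629)) (BT.leaf (nat_lit 36487193))))) (BT.node (nat_lit 8854656) (BT.node (nat_lit 8854336) (BT.node (nat_lit 8854272) (BT.leaf (nat_lit 26095637)) (BT.leaf (nat_lit 35805461))) (BT.node (nat_lit 8854592) (BT.leaf (nat_lit 36521481)) (BT.leaf (nat_lit 51137045)))) (BT.node (nat_lit 8854912) (BT.node (nat_lit 8854848) (BT.leaf (nat_lit 51137301)) (BT.leaf (nat_lit 35514117))) (BT.node (nat_lit 8854976) (BT.leaf (nat_lit 24909329)) (BT.leaf (nat_lit 24909597)))))) (BT.node (nat_lit 8855872) (BT.node (nat_lit 8855424) (BT.node (nat_lit 8855296) (BT.node (nat_lit 8855232) (BT.leaf (nat_lit 24910097)) (BT.leaf (nat_lit 25825809))) (BT.node (nat_lit 8855360) (BT.leaf (nat_lit 35978269)) (BT.leaf (nat_lit 26163989)))) (BT.node (nat_lit 8855616) (BT.node (nat_lit 8855488) (BT.leaf (nat_lit 35978253)) (BT.leaf (nat_lit 26418961))) (BT.node (nat_lit 8855744) (BT.leaf (nat_lit 24912145)) (BT.leaf (nat_lit 24912401))))) (BT.node (nat_lit 8856192) (BT.node (nat_lit 8856064) (BT.node (nat_lit 8855936) (BT.leaf (nat_lit 35738393)) (BT.leaf (nat_lit 35531033))) (BT.node (nat_lit 8856128) (BT.leaf (nat_lit 26300177)) (BT.leaf (nat_lit 24913681)))) (BT.node (nat_lit 8856448) (BT.node (nat_lit 8856256) (BT.leaf (nat_lit 24913937)) (BT.leaf (nat_lit 36628253))) (BT.node (nat_lit 8856512) (BT.leaf (nat_lit 26434573)) (BT.leaf (nat_lit 26616605)))))))))))) (BT.node (nat_lit 8913152) (BT.node (nat_lit 8885632) (BT.node (nat_lit 8870016) (BT.node (nat_lit 8863104) (BT.node (nat_lit 8859712) (BT.node (nat_lit 8858240) (BT.node (nat_lit 8857280) (BT.node (nat_lit 8856960) (BT.node (nat_lit 8856832) (BT.node (nat_lit 8856640) (BT.leaf (nat_lit 35552021)) (BT.leaf (nat_lit 26616589))) (BT.node (nat_lit 8856896) (BT.leaf (nat_lit 25575697)) (BT.leaf (nat_lit 51142429)))) (BT.node (nat_lit 8857088) (BT.node (nat_lit 8857024) (BT.leaf (nat_lit 35428125)) (BT.leaf (nat_lit 51143185))) (BT.node (nat_lit 8857152) (BT.leaf (nat_lit 51143445)) (BT.leaf (nat_lit 51144217))))) (BT.node (nat_lit 8857984) (BT.node (nat_lit 8857408) (BT.node (nat_lit 8857344) (BT.leaf (nat_lit 36621601)) (BT.leaf (nat_lit 24917017))) (BT.node (nat_lit 8857728) (BT.leaf (nat_lit 24917021)) (BT.leaf (nat_lit 48904977)))) (BT.node (nat_lit 8858112) (BT.node (nat_lit 8858048) (BT.leaf (nat_lit 33089041)) (BT.leaf (nat_lit 37016093))) (BT.node (nat_lit 8858176) (BT.leaf (nat_lit 24920337)) (BT.leaf (nat_lit 33381657)))))) (BT.node (nat_lit 8859008) (BT.node (nat_lit 8858560) (BT.node (nat_lit 8858368) (BT.node (nat_lit 8858304) (BT.leaf (nat_lit 24920589)) (BT.leaf (nat_lit 33381645))) (BT.node (nat_lit 8858432) (BT.leaf (nat_lit 24920853)) (BT.leaf (nat_lit 24921109)))) (BT.node (nat_lit 8858752) (BT.node (nat_lit 8858688) (BT.leaf (nat_lit 35428613)) (BT.leaf (nat_lit 24922641))) (BT.node (nat_lit 8858880) (BT.leaf (nat_lit 24922897)) (BT.leaf (nat_lit 35773701))))) (BT.node (nat_lit 8859264) (BT.node (nat_lit 8859136) (BT.node (nat_lit 8859072) (BT.leaf (nat_lit 51148805)) (BT.leaf (nat_lit 24923925))) (BT.node (nat_lit 8859200) (BT.leaf (nat_lit 51247905)) (BT.leaf (nat_lit 33679125)))) (BT.node (nat_lit 8859392) (BT.node (nat_lit 8859328) (BT.leaf (nat_lit 24924189)) (BT.leaf (nat_lit 50060821))) (BT.node (nat_lit 8859456) (BT.leaf (nat_lit 50525205)) (BT.leaf (nat_lit 50541589))))))) (BT.node (nat_lit 8861248) (BT.node (nat_lit 8860544) (BT.node (nat_lit 8860096) (BT.node (nat_lit 8859968) (BT.node (nat_lit 8859904) (BT.leaf (nat_lit 33265669)) (BT.leaf (nat_lit 35948817))) (BT.node (nat_lit 8860032) (BT.leaf (nat_lit 34844193)) (BT.leaf (nat_lit 35639829)))) (BT.node (nat_lit 8860352) (BT.node (nat_lit 8860224) (BT.leaf (nat_lit 35639837)) (BT.leaf (nat_lit 24928017))) (BT.node (nat_lit 8860416) (BT.leaf (nat_lit 36593693)) (BT.leaf (nat_lit 26138389))))) (BT.node (nat_lit 8860992) (BT.node (nat_lit 8860800) (BT.node (nat_lit 8860736) (BT.leaf (nat_lit 51154693)) (BT.leaf (nat_lit 51155461))) (BT.node (nat_lit 8860928) (BT.leaf (nat_lit 35415309)) (BT.leaf (nat_lit 34507525)))) (BT.node (nat_lit 8861120) (BT.node (nat_lit 8861056) (BT.leaf (nat_lit 31377177)) (BT.leaf (nat_lit 24930829))) (BT.node (nat_lit 8861184) (BT.leaf (nat_lit 31377165)) (BT.leaf (nat_lit 24931093)))))) (BT.node (nat_lit 8862208) (BT.node (nat_lit 8861696) (BT.node (nat_lit 8861504) (BT.node (nat_lit 8861312) (BT.leaf (nat_lit 33751569)) (BT.leaf (nat_lit 24931349))) (BT.node (nat_lit 8861632) (BT.leaf (nat_lit 33874693)) (BT.leaf (nat_lit 33946385)))) (BT.node (nat_lit 8861888) (BT.node (nat_lit 8861760) (BT.leaf (nat_lit 49829393)) (BT.leaf (nat_lit 24932881))) (BT.node (nat_lit 8862016) (BT.leaf (nat_lit 24933649)) (BT.leaf (nat_lit 50854425))))) (BT.node (nat_lit 8862848) (BT.node (nat_lit 8862336) (BT.node (nat_lit 8862272) (BT.leaf (nat_lit 24935445)) (BT.leaf (nat_lit 24935449))) (BT.node (nat_lit 8862592) (BT.leaf (nat_lit 24935453)) (BT.leaf (nat_lit 24936217)))) (BT.node (nat_lit 8862976) (BT.node (nat_lit 8862912) (BT.leaf (nat_lit 36577301)) (BT.leaf (nat_lit 24937489))) (BT.node (nat_lit 8863040) (BT.leaf (nat_lit 36577561)) (BT.leaf (nat_lit 24937745)))))))) (BT.node (nat_lit 8866176) (BT.node (nat_lit 8864640) (BT.node (nat_lit 8863872) (BT.node (nat_lit 8863488) (BT.node (nat_lit 8863360) (BT.node (nat_lit 8863168) (BT.leaf (nat_lit 35072017)) (BT.leaf (nat_lit 33560325))) (BT.node (nat_lit 8863424) (BT.leaf (nat_lit 24938777)) (BT.leaf (nat_lit 24938781)))) (BT.node (nat_lit 8863680) (BT.node (nat_lit 8863552) (BT.leaf (nat_lit 24943645)) (BT.leaf (nat_lit 37295377))) (BT.node (nat_lit 8863808) (BT.leaf (nat_lit 34234641)) (BT.leaf (nat_lit 36532249))))) (BT.node (nat_lit 8864192) (BT.node (nat_lit 8864000) (BT.node (nat_lit 8863936) (BT.leaf (nat_lit 26108437)) (BT.leaf (nat_lit 24941073))) (BT.node (nat_lit 8864128) (BT.leaf (nat_lit 24941585)) (BT.leaf (nat_lit 27055121)))) (BT.node (nat_lit 8864448) (BT.node (nat_lit 8864256) (BT.leaf (nat_lit 37393421)) (BT.leaf (nat_lit 46438417))) (BT.node (nat_lit 8864576) (BT.leaf (nat_lit 37380369)) (BT.leaf (nat_lit 37381149)))))) (BT.node (nat_lit 8865664) (BT.node (nat_lit 8865216) (BT.node (nat_lit 8865088) (BT.node (nat_lit 8864896) (BT.leaf (nat_lit 24943889)) (BT.leaf (nat_lit 24944157))) (BT.node (nat_lit 8865152) (BT.leaf (nat_lit 26595349)) (BT.leaf (nat_lit 24944913)))) (BT.node (nat_lit 8865472) (BT.node (nat_lit 8865408) (BT.leaf (nat_lit 24945425)) (BT.leaf (nat_lit 24945693))) (BT.node (nat_lit 8865600) (BT.leaf (nat_lit 36933637)) (BT.leaf (nat_lit 24946961))))) (BT.node (nat_lit 8865920) (BT.node (nat_lit 8865792) (BT.node (nat_lit 8865728) (BT.leaf (nat_lit 25575961)) (BT.leaf (nat_lit 35409945))) (BT.node (nat_lit 8865856) (BT.leaf (nat_lit 25574929)) (BT.leaf (nat_lit 24947985)))) (BT.node (nat_lit 8866048) (BT.node (nat_lit 8865984) (BT.leaf (nat_lit 24949009)) (BT.leaf (nat_lit 24949529))) (BT.node (nat_lit 8866112) (BT.leaf (nat_lit 24949533)) (BT.leaf (nat_lit 24949777))))))) (BT.node (nat_lit 8868288) (BT.node (nat_lit 8867456) (BT.node (nat_lit 8866688) (BT.node (nat_lit 8866432) (BT.node (nat_lit 8866304) (BT.leaf (nat_lit 24950033)) (BT.leaf (nat_lit 24950297))) (BT.node (nat_lit 8866624) (BT.leaf (nat_lit 24950801)) (BT.leaf (nat_lit 52388105)))) (BT.node (nat_lit 8867264) (BT.node (nat_lit 8866752) (BT.leaf (nat_lit 27109141)) (BT.leaf (nat_lit 27072789))) (BT.node (nat_lit 8867392) (BT.leaf (nat_lit 50075677)) (BT.leaf (nat_lit 36939781))))) (BT.node (nat_lit 8867776) (BT.node (nat_lit 8867584) (BT.node (nat_lit 8867520) (BT.leaf (nat_lit 36982033)) (BT.leaf (nat_lit 36270353))) (BT.node (nat_lit 8867712) (BT.leaf (nat_lit 36982037)) (BT.leaf (nat_lit 51173137)))) (BT.node (nat_lit 8868096) (BT.node (nat_lit 8867904) (BT.leaf (nat_lit 35470873)) (BT.leaf (nat_lit 26127109))) (BT.node (nat_lit 8868224) (BT.leaf (nat_lit 51174673)) (BT.leaf (nat_lit 49944353)))))) (BT.node (nat_lit 8869056) (BT.node (nat_lit 8868736) (BT.node (nat_lit 8868544) (BT.node (nat_lit 8868480) (BT.leaf (nat_lit 49889545)) (BT.leaf (nat_lit 34046737))) (BT.node (nat_lit 8868608) (BT.leaf (nat_lit 24960281)) (BT.leaf (nat_lit 26794781)))) (BT.node (nat_lit 8868928) (BT.node (nat_lit 8868864) (BT.leaf (nat_lit 51176721)) (BT.leaf (nat_lit 51176977))) (BT.node (nat_lit 8868992) (BT.leaf (nat_lit 51177233)) (BT.leaf (nat_lit 26329377))))) (BT.node (nat_lit 8869632) (BT.node (nat_lit 8869248) (BT.node (nat_lit 8869184) (BT.leaf (nat_lit 24963089)) (BT.leaf (nat_lit 26824981))) (BT.node (nat_lit 8869568) (BT.leaf (nat_lit 33313813)) (BT.leaf (nat_lit 24966417)))) (BT.node (nat_lit 8869888) (BT.node (nat_lit 8869760) (BT.leaf (nat_lit 24966673)) (BT.leaf (nat_lit 25341725))) (BT.node (nat_lit 8869952) (BT.leaf (nat_lit 24967697)) (BT.leaf (nat_lit 36749341))))))))) (BT.node (nat_lit 8879488) (BT.node (nat_lit 8874048) (BT.node (nat_lit 8871808) (BT.node (nat_lit 8870976) (BT.node (nat_lit 8870464) (BT.node (nat_lit 8870144) (BT.node (nat_lit 8870080) (BT.leaf (nat_lit 35518733)) (BT.leaf (nat_lit 51178769))) (BT.node (nat_lit 8870336) (BT.leaf (nat_lit 24968721)) (BT.leaf (nat_lit 26852117)))) (BT.node (nat_lit 8870720) (BT.node (nat_lit 8870592) (BT.leaf (nat_lit 24971025)) (BT.leaf (nat_lit 24972305))) (BT.node (nat_lit 8870784) (BT.leaf (nat_lit 27170581)) (BT.leaf (nat_lit 37306389))))) (BT.node (nat_lit 8871424) (BT.node (nat_lit 8871232) (BT.node (nat_lit 8871104) (BT.leaf (nat_lit 51180825)) (BT.leaf (nat_lit 24974873))) (BT.node (nat_lit 8871360) (BT.leaf (nat_lit 26737669)) (BT.leaf (nat_lit 26397209)))) (BT.node (nat_lit 8871552) (BT.node (nat_lit 8871488) (BT.leaf (nat_lit 24976145)) (BT.leaf (nat_lit 51182609))) (BT.node (nat_lit 8871616) (BT.leaf (nat_lit 24976913)) (BT.leaf (nat_lit 26257925)))))) (BT.node (nat_lit 8872512) (BT.node (nat_lit 8872192) (BT.node (nat_lit 8872064) (BT.node (nat_lit 8872000) (BT.leaf (nat_lit 35491869)) (BT.leaf (nat_lit 35486493))) (BT.node (nat_lit 8872128) (BT.leaf (nat_lit 36968981)) (BT.leaf (nat_lit 24978705)))) (BT.node (nat_lit 8872320) (BT.node (nat_lit 8872256) (BT.leaf (nat_lit 36968965)) (BT.leaf (nat_lit 51183381))) (BT.node (nat_lit 8872384) (BT.leaf (nat_lit 26897169)) (BT.leaf (nat_lit 51183889))))) (BT.node (nat_lit 8872832) (BT.node (nat_lit 8872704) (BT.node (nat_lit 8872640) (BT.leaf (nat_lit 37321753)) (BT.leaf (nat_lit 24980505))) (BT.node (nat_lit 8872768) (BT.leaf (nat_lit 25295621)) (BT.leaf (nat_lit 36006945)))) (BT.node (nat_lit 8873344) (BT.node (nat_lit 8872960) (BT.leaf (nat_lit 49844997)) (BT.leaf (nat_lit 51184913))) (BT.node (nat_lit 8873664) (BT.leaf (nat_lit 35537669)) (BT.leaf (nat_lit 51186453))))))) (BT.node (nat_lit 8876992) (BT.node (nat_lit 8876160) (BT.node (nat_lit 8875648) (BT.node (nat_lit 8875328) (BT.node (nat_lit 8874112) (BT.leaf (nat_lit 36588833)) (BT.leaf (nat_lit 26095641))) (BT.node (nat_lit 8875584) (BT.leaf (nat_lit 24991249)) (BT.leaf (nat_lit 51189253)))) (BT.node (nat_lit 8875904) (BT.node (nat_lit 8875776) (BT.leaf (nat_lit 37121557)) (BT.leaf (nat_lit 24992793))) (BT.node (nat_lit 8876032) (BT.leaf (nat_lit 36520469)) (BT.leaf (nat_lit 24994321))))) (BT.node (nat_lit 8876672) (BT.node (nat_lit 8876416) (BT.node (nat_lit 8876352) (BT.leaf (nat_lit 51190285)) (BT.leaf (nat_lit 24995349))) (BT.node (nat_lit 8876608) (BT.leaf (nat_lit 26670341)) (BT.leaf (nat_lit 27121697)))) (BT.node (nat_lit 8876800) (BT.node (nat_lit 8876736) (BT.leaf (nat_lit 24998173)) (BT.leaf (nat_lit 27122181))) (BT.node (nat_lit 8876928) (BT.leaf (nat_lit 24998929)) (BT.leaf (nat_lit 24998685)))))) (BT.node (nat_lit 8878400) (BT.node (nat_lit 8877440) (BT.node (nat_lit 8877184) (BT.node (nat_lit 8877056) (BT.leaf (nat_lit 24999953)) (BT.leaf (nat_lit 25000221))) (BT.node (nat_lit 8877248) (BT.leaf (nat_lit 49837317)) (BT.leaf (nat_lit 25002005)))) (BT.node (nat_lit 8878208) (BT.node (nat_lit 8878080) (BT.leaf (nat_lit 25004049)) (BT.leaf (nat_lit 37265937))) (BT.node (nat_lit 8878336) (BT.leaf (nat_lit 25008657)) (BT.leaf (nat_lit 27195421))))) (BT.node (nat_lit 8878656) (BT.node (nat_lit 8878528) (BT.node (nat_lit 8878464) (BT.leaf (nat_lit 35658001)) (BT.leaf (nat_lit 26905617))) (BT.node (nat_lit 8878592) (BT.leaf (nat_lit 27167769)) (BT.leaf (nat_lit 25010193)))) (BT.node (nat_lit 8879040) (BT.node (nat_lit 8878720) (BT.leaf (nat_lit 25010457)) (BT.leaf (nat_lit 27192849))) (BT.node (nat_lit 8879360) (BT.leaf (nat_lit 50117917)) (BT.leaf (nat_lit 51198997)))))))) (BT.node (nat_lit 8883008) (BT.node (nat_lit 8881472) (BT.node (nat_lit 8880128) (BT.node (nat_lit 8879872) (BT.node (nat_lit 8879616) (BT.node (nat_lit 8879552) (BT.leaf (nat_lit 48904737)) (BT.leaf (nat_lit 25013021))) (BT.node (nat_lit 8879680) (BT.leaf (nat_lit 51199749)) (BT.leaf (nat_lit 36546325)))) (BT.node (nat_lit 8880000) (BT.node (nat_lit 8879936) (BT.leaf (nat_lit 33098017)) (BT.leaf (nat_lit 26233605))) (BT.node (nat_lit 8880064) (BT.leaf (nat_lit 26233621)) (BT.leaf (nat_lit 51201557))))) (BT.node (nat_lit 8880768) (BT.node (nat_lit 8880256) (BT.node (nat_lit 8880192) (BT.leaf (nat_lit 51201297)) (BT.leaf (nat_lit 51202073))) (BT.node (nat_lit 8880704) (BT.leaf (nat_lit 51201289)) (BT.leaf (nat_lit 51202589)))) (BT.node (nat_lit 8881088) (BT.node (nat_lit 8880960) (BT.leaf (nat_lit 36852489)) (BT.leaf (nat_lit 50514717))) (BT.node (nat_lit 8881344) (BT.leaf (nat_lit 25018641)) (BT.leaf (nat_lit 36612893)))))) (BT.node (nat_lit 8882368) (BT.node (nat_lit 8881792) (BT.node (nat_lit 8881600) (BT.node (nat_lit 8881536) (BT.leaf (nat_lit 25020181)) (BT.leaf (nat_lit 33619217))) (BT.node (nat_lit 8881728) (BT.leaf (nat_lit 25020433)) (BT.leaf (nat_lit 34192145)))) (BT.node (nat_lit 8882112) (BT.node (nat_lit 8882048) (BT.leaf (nat_lit 34987525)) (BT.leaf (nat_lit 25024017))) (BT.node (nat_lit 8882304) (BT.leaf (nat_lit 25024273)) (BT.leaf (nat_lit 35882273))))) (BT.node (nat_lit 8882752) (BT.node (nat_lit 8882560) (BT.node (nat_lit 8882496) (BT.leaf (nat_lit 37600533)) (BT.leaf (nat_lit 35423509))) (BT.node (nat_lit 8882688) (BT.leaf (nat_lit 36628249)) (BT.leaf (nat_lit 36628233)))) (BT.node (nat_lit 8882880) (BT.node (nat_lit 8882816) (BT.leaf (nat_lit 26518289)) (BT.leaf (nat_lit 35538457))) (BT.node (nat_lit 8882944) (BT.leaf (nat_lit 37316637)) (BT.leaf (nat_lit 25026833))))))) (BT.node (nat_lit 8884416) (BT.node (nat_lit 8883648) (BT.node (nat_lit 8883264) (BT.node (nat_lit 8883136) (BT.node (nat_lit 8883072) (BT.leaf (nat_lit 33296149)) (BT.leaf (nat_lit 34078213))) (BT.node (nat_lit 8883200) (BT.leaf (nat_lit 27148577)) (BT.leaf (nat_lit 35561989)))) (BT.node (nat_lit 8883456) (BT.node (nat_lit 8883392) (BT.leaf (nat_lit 33040397)) (BT.leaf (nat_lit 37128977))) (BT.node (nat_lit 8883520) (BT.leaf (nat_lit 26426389)) (BT.leaf (nat_lit 37584673))))) (BT.node (nat_lit 8884160) (BT.node (nat_lit 8883840) (BT.node (nat_lit 8883776) (BT.leaf (nat_lit 37128993)) (BT.leaf (nat_lit 34875397))) (BT.node (nat_lit 8883904) (BT.leaf (nat_lit 25546513)) (BT.leaf (nat_lit 35808261)))) (BT.node (nat_lit 8884288) (BT.node (nat_lit 8884224) (BT.leaf (nat_lit 25032217)) (BT.leaf (nat_lit 35841541))) (BT.node (nat_lit 8884352) (BT.leaf (nat_lit 26894353)) (BT.leaf (nat_lit 37011729)))))) (BT.node (nat_lit 8885056) (BT.node (nat_lit 8884736) (BT.node (nat_lit 8884608) (BT.node (nat_lit 8884480) (BT.leaf (nat_lit 25031697)) (BT.leaf (nat_lit 25313561))) (BT.node (nat_lit 8884672) (BT.leaf (nat_lit 37337105)) (BT.leaf (nat_lit 51210269)))) (BT.node (nat_lit 8884928) (BT.node (nat_lit 8884800) (BT.leaf (nat_lit 25032977)) (BT.leaf (nat_lit 51210517))) (BT.node (nat_lit 8884992) (BT.leaf (nat_lit 51212057)) (BT.leaf (nat_lit 49869345))))) (BT.node (nat_lit 8885312) (BT.node (nat_lit 8885184) (BT.node (nat_lit 8885120) (BT.leaf (nat_lit 25034517)) (BT.leaf (nat_lit 25034521))) (BT.node (nat_lit 8885248) (BT.leaf (nat_lit 25034525)) (BT.leaf (nat_lit 25034769)))) (BT.node (nat_lit 8885440) (BT.node (nat_lit 8885376) (BT.leaf (nat_lit 35541533)) (BT.leaf (nat_lit 51213841))) (BT.node (nat_lit 8885504) (BT.leaf (nat_lit 26141445)) (BT.leaf (nat_lit 26080517)))))))))) (BT.node (nat_lit 8900032) (BT.node (nat_lit 8891904) (BT.node (nat_lit 8888960) (BT.node (nat_lit 8887552) (BT.node (nat_lit 8886720) (BT.node (nat_lit 8886080) (BT.node (nat_lit 8885891) (BT.node (nat_lit 8885890) (BT.leaf (nat_lit 34359061)) (BT.leaf (nat_lit 792908))) (BT.node (nat_lit 8885892) (BT.leaf (nat_lit 792908)) (BT.leaf (nat_lit 792908)))) (BT.node (nat_lit 8886528) (BT.node (nat_lit 8886208) (BT.leaf (nat_lit 37229077)) (BT.leaf (nat_lit 37388833))) (BT.node (nat_lit 8886592) (BT.leaf (nat_lit 51216389)) (BT.leaf (nat_lit 25041165))))) (BT.node (nat_lit 8887296) (BT.node (nat_lit 8886976) (BT.node (nat_lit 8886912) (BT.leaf (nat_lit 36527877)) (BT.leaf (nat_lit 51216913))) (BT.node (nat_lit 8887232) (BT.leaf (nat_lit 26942997)) (BT.leaf (nat_lit 25043217)))) (BT.node (nat_lit 8887424) (BT.node (nat_lit 8887360) (BT.leaf (nat_lit 36499225)) (BT.leaf (nat_lit 25043481))) (BT.node (nat_lit 8887488) (BT.leaf (nat_lit 25043485)) (BT.leaf (nat_lit 25043989)))))) (BT.node (nat_lit 8888192) (BT.node (nat_lit 8887872) (BT.node (nat_lit 8887744) (BT.node (nat_lit 8887616) (BT.leaf (nat_lit 26943253)) (BT.leaf (nat_lit 25044241))) (BT.node (nat_lit 8887808) (BT.leaf (nat_lit 25044497)) (BT.leaf (nat_lit 25044753)))) (BT.node (nat_lit 8888000) (BT.node (nat_lit 8887936) (BT.leaf (nat_lit 25406749)) (BT.leaf (nat_lit 35427357))) (BT.node (nat_lit 8888064) (BT.leaf (nat_lit 37515293)) (BT.leaf (nat_lit 51218961))))) (BT.node (nat_lit 8888704) (BT.node (nat_lit 8888512) (BT.node (nat_lit 8888448) (BT.leaf (nat_lit 25046545)) (BT.leaf (nat_lit 25047325))) (BT.node (nat_lit 8888640) (BT.leaf (nat_lit 25048593)) (BT.leaf (nat_lit 25048861)))) (BT.node (nat_lit 8888832) (BT.node (nat_lit 8888768) (BT.leaf (nat_lit 47670277)) (BT.leaf (nat_lit 25600537))) (BT.node (nat_lit 8888896) (BT.leaf (nat_lit 35816457)) (BT.leaf (nat_lit 25050889))))))) (BT.node (nat_lit 8890752) (BT.node (nat_lit 8889536) (BT.node (nat_lit 8889280) (BT.node (nat_lit 8889152) (BT.node (nat_lit 8889024) (BT.leaf (nat_lit 36497925)) (BT.leaf (nat_lit 25050897))) (BT.node (nat_lit 8889216) (BT.leaf (nat_lit 36134429)) (BT.leaf (nat_lit 33287185)))) (BT.node (nat_lit 8889408) (BT.node (nat_lit 8889344) (BT.leaf (nat_lit 35556889)) (BT.leaf (nat_lit 26616585))) (BT.node (nat_lit 8889472) (BT.leaf (nat_lit 33286681)) (BT.leaf (nat_lit 25051925))))) (BT.node (nat_lit 8890368) (BT.node (nat_lit 8889728) (BT.node (nat_lit 8889664) (BT.leaf (nat_lit 25052689)) (BT.leaf (nat_lit 35593221))) (BT.node (nat_lit 8890240) (BT.leaf (nat_lit 25053969)) (BT.leaf (nat_lit 25056541)))) (BT.node (nat_lit 8890560) (BT.node (nat_lit 8890496) (BT.leaf (nat_lit 51224601)) (BT.leaf (nat_lit 36334113))) (BT.node (nat_lit 8890688) (BT.leaf (nat_lit 37306649)) (BT.leaf (nat_lit 51224585)))))) (BT.node (nat_lit 8891328) (BT.node (nat_lit 8891008) (BT.node (nat_lit 8890880) (BT.node (nat_lit 8890816) (BT.leaf (nat_lit 27148037)) (BT.leaf (nat_lit 25061137))) (BT.node (nat_lit 8890944) (BT.leaf (nat_lit 25061653)) (BT.leaf (nat_lit 36769033)))) (BT.node (nat_lit 8891136) (BT.node (nat_lit 8891072) (BT.leaf (nat_lit 37667089)) (BT.leaf (nat_lit 35564057))) (BT.node (nat_lit 8891200) (BT.leaf (nat_lit 35641621)) (BT.leaf (nat_lit 27205645))))) (BT.node (nat_lit 8891584) (BT.node (nat_lit 8891456) (BT.node (nat_lit 8891392) (BT.leaf (nat_lit 25063953)) (BT.leaf (nat_lit 25064213))) (BT.node (nat_lit 8891520) (BT.leaf (nat_lit 36103185)) (BT.leaf (nat_lit 29700869)))) (BT.node (nat_lit 8891776) (BT.node (nat_lit 8891712) (BT.leaf (nat_lit 29148677)) (BT.leaf (nat_lit 51226897))) (BT.node (nat_lit 8891840) (BT.leaf (nat_lit 35566873)) (BT.leaf (nat_lit 26080261)))))))) (BT.node (nat_lit 8897088) (BT.node (nat_lit 8893888) (BT.node (nat_lit 8892992) (BT.node (nat_lit 8892736) (BT.node (nat_lit 8892480) (BT.node (nat_lit 8892288) (BT.leaf (nat_lit 35567385)) (BT.leaf (nat_lit 51228693))) (BT.node (nat_lit 8892672) (BT.leaf (nat_lit 36691729)) (BT.leaf (nat_lit 25068049)))) (BT.node (nat_lit 8892864) (BT.node (nat_lit 8892800) (BT.leaf (nat_lit 32628249)) (BT.leaf (nat_lit 25068305))) (BT.node (nat_lit 8892928) (BT.leaf (nat_lit 37441029)) (BT.leaf (nat_lit 37441041))))) (BT.node (nat_lit 8893632) (BT.node (nat_lit 8893248) (BT.node (nat_lit 8893184) (BT.leaf (nat_lit 37150213)) (BT.leaf (nat_lit 51231761))) (BT.node (nat_lit 8893440) (BT.leaf (nat_lit 25070353)) (BT.leaf (nat_lit 25608473)))) (BT.node (nat_lit 8893760) (BT.node (nat_lit 8893696) (BT.leaf (nat_lit 25072145)) (BT.leaf (nat_lit 35571737))) (BT.node (nat_lit 8893824) (BT.leaf (nat_lit 26144281)) (BT.leaf (nat_lit 25073681)))))) (BT.node (nat_lit 8896256) (BT.node (nat_lit 8894912) (BT.node (nat_lit 8894080) (BT.node (nat_lit 8893952) (BT.leaf (nat_lit 37087001)) (BT.leaf (nat_lit 37441297))) (BT.node (nat_lit 8894720) (BT.leaf (nat_lit 35548933)) (BT.leaf (nat_lit 51234321)))) (BT.node (nat_lit 8895296) (BT.node (nat_lit 8895040) (BT.leaf (nat_lit 25076753)) (BT.leaf (nat_lit 26990341))) (BT.node (nat_lit 8895616) (BT.leaf (nat_lit 34187797)) (BT.leaf (nat_lit 25079321))))) (BT.node (nat_lit 8896704) (BT.node (nat_lit 8896384) (BT.node (nat_lit 8896320) (BT.leaf (nat_lit 25081361)) (BT.leaf (nat_lit 25081617))) (BT.node (nat_lit 8896640) (BT.leaf (nat_lit 25081873)) (BT.leaf (nat_lit 25082385)))) (BT.node (nat_lit 8896896) (BT.node (nat_lit 8896832) (BT.leaf (nat_lit 25082641)) (BT.leaf (nat_lit 25083157))) (BT.node (nat_lit 8897024) (BT.leaf (nat_lit 25083161)) (BT.leaf (nat_lit 33091341))))))) (BT.node (nat_lit 8898560) (BT.node (nat_lit 8897920) (BT.node (nat_lit 8897664) (BT.node (nat_lit 8897344) (BT.node (nat_lit 8897280) (BT.leaf (nat_lit 49522465)) (BT.leaf (nat_lit 35593245))) (BT.node (nat_lit 8897408) (BT.leaf (nat_lit 25083921)) (BT.leaf (nat_lit 25084177)))) (BT.node (nat_lit 8897792) (BT.node (nat_lit 8897728) (BT.leaf (nat_lit 34740497)) (BT.leaf (nat_lit 35590681))) (BT.node (nat_lit 8897856) (BT.leaf (nat_lit 36092677)) (BT.leaf (nat_lit 25085717))))) (BT.node (nat_lit 8898240) (BT.node (nat_lit 8898112) (BT.node (nat_lit 8898048) (BT.leaf (nat_lit 33436701)) (BT.leaf (nat_lit 35592477))) (BT.node (nat_lit 8898176) (BT.leaf (nat_lit 37562385)) (BT.leaf (nat_lit 27239433)))) (BT.node (nat_lit 8898368) (BT.node (nat_lit 8898304) (BT.leaf (nat_lit 25088273)) (BT.leaf (nat_lit 25088529))) (BT.node (nat_lit 8898432) (BT.leaf (nat_lit 25395229)) (BT.leaf (nat_lit 25088785)))))) (BT.node (nat_lit 8899136) (BT.node (nat_lit 8898880) (BT.node (nat_lit 8898688) (BT.node (nat_lit 8898624) (BT.leaf (nat_lit 25089809)) (BT.leaf (nat_lit 25090321))) (BT.node (nat_lit 8898816) (BT.leaf (nat_lit 26995997)) (BT.leaf (nat_lit 50452249)))) (BT.node (nat_lit 8899008) (BT.node (nat_lit 8898944) (BT.leaf (nat_lit 25091609)) (BT.leaf (nat_lit 25091613))) (BT.node (nat_lit 8899072) (BT.leaf (nat_lit 37318405)) (BT.leaf (nat_lit 50928645))))) (BT.node (nat_lit 8899776) (BT.node (nat_lit 8899264) (BT.node (nat_lit 8899200) (BT.leaf (nat_lit 36299013)) (BT.leaf (nat_lit 35649053))) (BT.node (nat_lit 8899328) (BT.leaf (nat_lit 27057413)) (BT.leaf (nat_lit 36948997)))) (BT.node (nat_lit 8899904) (BT.node (nat_lit 8899840) (BT.leaf (nat_lit 25096213)) (BT.leaf (nat_lit 25182993))) (BT.node (nat_lit 8899968) (BT.leaf (nat_lit 50997265)) (BT.leaf (nat_lit 25096721))))))))) (BT.node (nat_lit 8905984) (BT.node (nat_lit 8903488) (BT.node (nat_lit 8902144) (BT.node (nat_lit 8900800) (BT.node (nat_lit 8900416) (BT.node (nat_lit 8900288) (BT.node (nat_lit 8900096) (BT.leaf (nat_lit 34337293)) (BT.leaf (nat_lit 47610117))) (BT.node (nat_lit 8900352) (BT.leaf (nat_lit 26249749)) (BT.leaf (nat_lit 50491653)))) (BT.node (nat_lit 8900608) (BT.node (nat_lit 8900480) (BT.leaf (nat_lit 26250009)) (BT.leaf (nat_lit 25098257))) (BT.node (nat_lit 8900736) (BT.leaf (nat_lit 25178389)) (BT.leaf (nat_lit 51255069))))) (BT.node (nat_lit 8901248) (BT.node (nat_lit 8901056) (BT.node (nat_lit 8900864) (BT.leaf (nat_lit 26277393)) (BT.leaf (nat_lit 35603225))) (BT.node (nat_lit 8901120) (BT.leaf (nat_lit 48244513)) (BT.leaf (nat_lit 25100305)))) (BT.node (nat_lit 8902016) (BT.node (nat_lit 8901824) (BT.leaf (nat_lit 34715145)) (BT.leaf (nat_lit 35787781))) (BT.node (nat_lit 8902080) (BT.leaf (nat_lit 51258653)) (BT.leaf (nat_lit 51258385)))))) (BT.node (nat_lit 8902784) (BT.node (nat_lit 8902528) (BT.node (nat_lit 8902336) (BT.node (nat_lit 8902272) (BT.leaf (nat_lit 27054365)) (BT.leaf (nat_lit 25770265))) (BT.node (nat_lit 8902400) (BT.leaf (nat_lit 25106193)) (BT.leaf (nat_lit 35751429)))) (BT.node (nat_lit 8902656) (BT.node (nat_lit 8902592) (BT.leaf (nat_lit 51259669)) (BT.leaf (nat_lit 36312865))) (BT.node (nat_lit 8902720) (BT.leaf (nat_lit 28336901)) (BT.leaf (nat_lit 26163221))))) (BT.node (nat_lit 8903040) (BT.node (nat_lit 8902912) (BT.node (nat_lit 8902848) (BT.leaf (nat_lit 35610889)) (BT.leaf (nat_lit 36582421))) (BT.node (nat_lit 8902976) (BT.leaf (nat_lit 35978249)) (BT.leaf (nat_lit 37081885)))) (BT.node (nat_lit 8903296) (BT.node (nat_lit 8903104) (BT.leaf (nat_lit 26675741)) (BT.leaf (nat_lit 36480017))) (BT.node (nat_lit 8903424) (BT.leaf (nat_lit 26213657)) (BT.leaf (nat_lit 25110553))))))) (BT.node (nat_lit 8904896) (BT.node (nat_lit 8904000) (BT.node (nat_lit 8903744) (BT.node (nat_lit 8903616) (BT.node (nat_lit 8903552) (BT.leaf (nat_lit 47788309)) (BT.leaf (nat_lit 25109777))) (BT.node (nat_lit 8903680) (BT.leaf (nat_lit 33442333)) (BT.leaf (nat_lit 51261201)))) (BT.node (nat_lit 8903872) (BT.node (nat_lit 8903808) (BT.leaf (nat_lit 25110297)) (BT.leaf (nat_lit 35613965))) (BT.node (nat_lit 8903936) (BT.leaf (nat_lit 51260429)) (BT.leaf (nat_lit 25110801))))) (BT.node (nat_lit 8904448) (BT.node (nat_lit 8904320) (BT.node (nat_lit 8904192) (BT.leaf (nat_lit 25111057)) (BT.leaf (nat_lit 36627733))) (BT.node (nat_lit 8904384) (BT.leaf (nat_lit 25112597)) (BT.leaf (nat_lit 47020305)))) (BT.node (nat_lit 8904768) (BT.node (nat_lit 8904512) (BT.leaf (nat_lit 48402977)) (BT.leaf (nat_lit 25113365))) (BT.node (nat_lit 8904832) (BT.leaf (nat_lit 25114133)) (BT.leaf (nat_lit 25115921)))))) (BT.node (nat_lit 8905472) (BT.node (nat_lit 8905152) (BT.node (nat_lit 8905024) (BT.node (nat_lit 8904960) (BT.leaf (nat_lit 51264017)) (BT.leaf (nat_lit 46653445))) (BT.node (nat_lit 8905088) (BT.leaf (nat_lit 25115665)) (BT.leaf (nat_lit 26304281)))) (BT.node (nat_lit 8905280) (BT.node (nat_lit 8905216) (BT.leaf (nat_lit 33040393)) (BT.leaf (nat_lit 51265301))) (BT.node (nat_lit 8905408) (BT.leaf (nat_lit 51266329)) (BT.leaf (nat_lit 37171989))))) (BT.node (nat_lit 8905728) (BT.node (nat_lit 8905600) (BT.node (nat_lit 8905536) (BT.leaf (nat_lit 25116949)) (BT.leaf (nat_lit 25795857))) (BT.node (nat_lit 8905664) (BT.leaf (nat_lit 37443101)) (BT.leaf (nat_lit 36972061)))) (BT.node (nat_lit 8905856) (BT.node (nat_lit 8905792) (BT.leaf (nat_lit 51267345)) (BT.leaf (nat_lit 36541729))) (BT.node (nat_lit 8905920) (BT.leaf (nat_lit 25118225)) (BT.leaf (nat_lit 25118981)))))))) (BT.node (nat_lit 8909824) (BT.node (nat_lit 8907904) (BT.node (nat_lit 8906752) (BT.node (nat_lit 8906304) (BT.node (nat_lit 8906112) (BT.node (nat_lit 8906048) (BT.leaf (nat_lit 50781201)) (BT.leaf (nat_lit 32463621))) (BT.node (nat_lit 8906176) (BT.leaf (nat_lit 25119505)) (BT.leaf (nat_lit 35119393)))) (BT.node (nat_lit 8906624) (BT.node (nat_lit 8906496) (BT.leaf (nat_lit 25121553)) (BT.leaf (nat_lit 34866461))) (BT.node (nat_lit 8906688) (BT.leaf (nat_lit 46990609)) (BT.leaf (nat_lit 35595793))))) (BT.node (nat_lit 8907456) (BT.node (nat_lit 8907328) (BT.node (nat_lit 8906880) (BT.leaf (nat_lit 35626777)) (BT.leaf (nat_lit 25123857))) (BT.node (nat_lit 8907392) (BT.leaf (nat_lit 25125649)) (BT.leaf (nat_lit 51273477)))) (BT.node (nat_lit 8907648) (BT.node (nat_lit 8907584) (BT.leaf (nat_lit 37546773)) (BT.leaf (nat_lit 25127441))) (BT.node (nat_lit 8907776) (BT.leaf (nat_lit 25128721)) (BT.leaf (nat_lit 37258005)))))) (BT.node (nat_lit 8909056) (BT.node (nat_lit 8908288) (BT.node (nat_lit 8908096) (BT.node (nat_lit 8908032) (BT.leaf (nat_lit 27253269)) (BT.leaf (nat_lit 25129233))) (BT.node (nat_lit 8908160) (BT.leaf (nat_lit 27252505)) (BT.leaf (nat_lit 37084181)))) (BT.node (nat_lit 8908480) (BT.node (nat_lit 8908416) (BT.leaf (nat_lit 25129489)) (BT.leaf (nat_lit 27253253))) (BT.node (nat_lit 8908800) (BT.leaf (nat_lit 27252485)) (BT.leaf (nat_lit 25130513))))) (BT.node (nat_lit 8909376) (BT.node (nat_lit 8909248) (BT.node (nat_lit 8909184) (BT.leaf (nat_lit 35639317)) (BT.leaf (nat_lit 25131025))) (BT.node (nat_lit 8909312) (BT.leaf (nat_lit 34445585)) (BT.leaf (nat_lit 25131281)))) (BT.node (nat_lit 8909632) (BT.node (nat_lit 8909568) (BT.leaf (nat_lit 35633693)) (BT.leaf (nat_lit 35633949))) (BT.node (nat_lit 8909760) (BT.leaf (nat_lit 51278357)) (BT.leaf (nat_lit 51278625))))))) (BT.node (nat_lit 8911296) (BT.node (nat_lit 8910400) (BT.node (nat_lit 8910144) (BT.node (nat_lit 8910016) (BT.node (nat_lit 8909952) (BT.leaf (nat_lit 35633689)) (BT.leaf (nat_lit 51280145))) (BT.node (nat_lit 8910080) (BT.leaf (nat_lit 29223441)) (BT.leaf (nat_lit 25133593)))) (BT.node (nat_lit 8910272) (BT.node (nat_lit 8910208) (BT.leaf (nat_lit 25133597)) (BT.leaf (nat_lit 51280161))) (BT.node (nat_lit 8910336) (BT.leaf (nat_lit 28647697)) (BT.leaf (nat_lit 36859409))))) (BT.node (nat_lit 8910912) (BT.node (nat_lit 8910528) (BT.node (nat_lit 8910464) (BT.leaf (nat_lit 27145245)) (BT.leaf (nat_lit 27242001))) (BT.node (nat_lit 8910656) (BT.leaf (nat_lit 27199241)) (BT.leaf (nat_lit 25136145)))) (BT.node (nat_lit 8911168) (BT.node (nat_lit 8911104) (BT.leaf (nat_lit 25137941)) (BT.leaf (nat_lit 36556553))) (BT.node (nat_lit 8911232) (BT.leaf (nat_lit 51283481)) (BT.leaf (nat_lit 51283989)))))) (BT.node (nat_lit 8912192) (BT.node (nat_lit 8911872) (BT.node (nat_lit 8911552) (BT.node (nat_lit 8911360) (BT.leaf (nat_lit 26180869)) (BT.leaf (nat_lit 25139729))) (BT.node (nat_lit 8911744) (BT.leaf (nat_lit 25522961)) (BT.leaf (nat_lit 25140501)))) (BT.node (nat_lit 8912064) (BT.node (nat_lit 8911936) (BT.leaf (nat_lit 51285013)) (BT.leaf (nat_lit 35647513))) (BT.node (nat_lit 8912128) (BT.leaf (nat_lit 48456197)) (BT.leaf (nat_lit 46590725))))) (BT.node (nat_lit 8912640) (BT.node (nat_lit 8912448) (BT.node (nat_lit 8912256) (BT.leaf (nat_lit 36089373)) (BT.leaf (nat_lit 25224977))) (BT.node (nat_lit 8912512) (BT.leaf (nat_lit 25144849)) (BT.leaf (nat_lit 25145361)))) (BT.node (nat_lit 8912896) (BT.node (nat_lit 8912832) (BT.leaf (nat_lit 25272853)) (BT.leaf (nat_lit 25146141))) (BT.node (nat_lit 8913024) (BT.leaf (nat_lit 26572829)) (BT.leaf (nat_lit 32641545))))))))))) (BT.node (nat_lit 8942528) (BT.node (nat_lit 8927808) (BT.node (nat_lit 8918720) (BT.node (nat_lit 8916224) (BT.node (nat_lit 8914752) (BT.node (nat_lit 8913984) (BT.node (nat_lit 8913472) (BT.node (nat_lit 8913344) (BT.node (nat_lit 8913280) (BT.leaf (nat_lit 25148181)) (BT.leaf (nat_lit 27767573))) (BT.node (nat_lit 8913408) (BT.leaf (nat_lit 35653129)) (BT.leaf (nat_lit 48157197)))) (BT.node (nat_lit 8913856) (BT.node (nat_lit 8913536) (BT.leaf (nat_lit 32641561)) (BT.leaf (nat_lit 36172813))) (BT.node (nat_lit 8913920) (BT.leaf (nat_lit 25151257)) (BT.leaf (nat_lit 25151505))))) (BT.node (nat_lit 8914432) (BT.node (nat_lit 8914304) (BT.node (nat_lit 8914240) (BT.leaf (nat_lit 26183449)) (BT.leaf (nat_lit 27193369))) (BT.node (nat_lit 8914368) (BT.leaf (nat_lit 26235409)) (BT.leaf (nat_lit 26902041)))) (BT.node (nat_lit 8914560) (BT.node (nat_lit 8914496) (BT.leaf (nat_lit 25295377)) (BT.leaf (nat_lit 25295645))) (BT.node (nat_lit 8914624) (BT.leaf (nat_lit 26151953)) (BT.leaf (nat_lit 33564177)))))) (BT.node (nat_lit 8915648) (BT.node (nat_lit 8915392) (BT.node (nat_lit 8914944) (BT.node (nat_lit 8914816) (BT.leaf (nat_lit 25154321)) (BT.leaf (nat_lit 25154577))) (BT.node (nat_lit 8915008) (BT.leaf (nat_lit 49841949)) (BT.leaf (nat_lit 50098181)))) (BT.node (nat_lit 8915520) (BT.node (nat_lit 8915456) (BT.leaf (nat_lit 35895045)) (BT.leaf (nat_lit 50509857))) (BT.node (nat_lit 8915584) (BT.leaf (nat_lit 25160725)) (BT.leaf (nat_lit 25160729))))) (BT.node (nat_lit 8915968) (BT.node (nat_lit 8915776) (BT.node (nat_lit 8915712) (BT.leaf (nat_lit 25160733)) (BT.leaf (nat_lit 25161233))) (BT.node (nat_lit 8915904) (BT.leaf (nat_lit 25161489)) (BT.leaf (nat_lit 30007057)))) (BT.node (nat_lit 8916096) (BT.node (nat_lit 8916032) (BT.leaf (nat_lit 50006545)) (BT.leaf (nat_lit 49801233))) (BT.node (nat_lit 8916160) (BT.leaf (nat_lit 25163281)) (BT.leaf (nat_lit 25163297))))))) (BT.node (nat_lit 8917440) (BT.node (nat_lit 8916864) (BT.node (nat_lit 8916480) (BT.node (nat_lit 8916352) (BT.node (nat_lit 8916288) (BT.leaf (nat_lit 51294745)) (BT.leaf (nat_lit 25163781))) (BT.node (nat_lit 8916416) (BT.leaf (nat_lit 35665693)) (BT.leaf (nat_lit 26697221)))) (BT.node (nat_lit 8916736) (BT.node (nat_lit 8916544) (BT.leaf (nat_lit 51209733)) (BT.leaf (nat_lit 25165073))) (BT.node (nat_lit 8916800) (BT.leaf (nat_lit 51295749)) (BT.leaf (nat_lit 26771213))))) (BT.node (nat_lit 8917184) (BT.node (nat_lit 8917056) (BT.node (nat_lit 8916992) (BT.leaf (nat_lit 35841817)) (BT.leaf (nat_lit 26191121))) (BT.node (nat_lit 8917120) (BT.leaf (nat_lit 34780933)) (BT.leaf (nat_lit 25166353)))) (BT.node (nat_lit 8917312) (BT.node (nat_lit 8917248) (BT.leaf (nat_lit 25166609)) (BT.leaf (nat_lit 25315337))) (BT.node (nat_lit 8917376) (BT.leaf (nat_lit 50158357)) (BT.leaf (nat_lit 47728929)))))) (BT.node (nat_lit 8918080) (BT.node (nat_lit 8917760) (BT.node (nat_lit 8917632) (BT.node (nat_lit 8917568) (BT.leaf (nat_lit 27217433)) (BT.leaf (nat_lit 51297821))) (BT.node (nat_lit 8917696) (BT.leaf (nat_lit 25169685)) (BT.leaf (nat_lit 37615133)))) (BT.node (nat_lit 8917888) (BT.node (nat_lit 8917824) (BT.leaf (nat_lit 51298589)) (BT.leaf (nat_lit 51298325))) (BT.node (nat_lit 8917952) (BT.leaf (nat_lit 28907285)) (BT.leaf (nat_lit 32539417))))) (BT.node (nat_lit 8918400) (BT.node (nat_lit 8918208) (BT.node (nat_lit 8918144) (BT.leaf (nat_lit 25716513)) (BT.leaf (nat_lit 37184289))) (BT.node (nat_lit 8918336) (BT.leaf (nat_lit 25716493)) (BT.leaf (nat_lit 36027933)))) (BT.node (nat_lit 8918592) (BT.node (nat_lit 8918464) (BT.leaf (nat_lit 26008089)) (BT.leaf (nat_lit 33036313))) (BT.node (nat_lit 8918656) (BT.leaf (nat_lit 25173777)) (BT.leaf (nat_lit 25174045)))))))) (BT.node (nat_lit 8923968) (BT.node (nat_lit 8920896) (BT.node (nat_lit 8919360) (BT.node (nat_lit 8919040) (BT.node (nat_lit 8918912) (BT.node (nat_lit 8918848) (BT.leaf (nat_lit 25174545)) (BT.leaf (nat_lit 51302165))) (BT.node (nat_lit 8918976) (BT.leaf (nat_lit 36120097)) (BT.leaf (nat_lit 25175569)))) (BT.node (nat_lit 8919232) (BT.node (nat_lit 8919104) (BT.leaf (nat_lit 25176345)) (BT.leaf (nat_lit 25177105))) (BT.node (nat_lit 8919296) (BT.leaf (nat_lit 25177873)) (BT.leaf (nat_lit 51242769))))) (BT.node (nat_lit 8920064) (BT.node (nat_lit 8919552) (BT.node (nat_lit 8919424) (BT.leaf (nat_lit 25178137)) (BT.leaf (nat_lit 26601493))) (BT.node (nat_lit 8919616) (BT.leaf (nat_lit 25179665)) (BT.leaf (nat_lit 25179921)))) (BT.node (nat_lit 8920448) (BT.node (nat_lit 8920256) (BT.leaf (nat_lit 25180945)) (BT.leaf (nat_lit 40848657))) (BT.node (nat_lit 8920832) (BT.leaf (nat_lit 25183249)) (BT.leaf (nat_lit 34474269)))))) (BT.node (nat_lit 8922944) (BT.node (nat_lit 8921984) (BT.node (nat_lit 8921024) (BT.node (nat_lit 8920960) (BT.leaf (nat_lit 35146257)) (BT.leaf (nat_lit 25185297))) (BT.node (nat_lit 8921472) (BT.leaf (nat_lit 25212177)) (BT.leaf (nat_lit 26003741)))) (BT.node (nat_lit 8922368) (BT.node (nat_lit 8922304) (BT.leaf (nat_lit 25192213)) (BT.leaf (nat_lit 47274513))) (BT.node (nat_lit 8922496) (BT.leaf (nat_lit 47979281)) (BT.leaf (nat_lit 35482389))))) (BT.node (nat_lit 8923456) (BT.node (nat_lit 8923264) (BT.node (nat_lit 8923008) (BT.leaf (nat_lit 25196561)) (BT.leaf (nat_lit 25197073))) (BT.node (nat_lit 8923392) (BT.leaf (nat_lit 26582549)) (BT.leaf (nat_lit 26975753)))) (BT.node (nat_lit 8923712) (BT.node (nat_lit 8923520) (BT.leaf (nat_lit 25199377)) (BT.leaf (nat_lit 25199633))) (BT.node (nat_lit 8923840) (BT.leaf (nat_lit 50553605)) (BT.leaf (nat_lit 36634133))))))) (BT.node (nat_lit 8925440) (BT.node (nat_lit 8924672) (BT.node (nat_lit 8924288) (BT.node (nat_lit 8924096) (BT.node (nat_lit 8924032) (BT.leaf (nat_lit 25201949)) (BT.leaf (nat_lit 25202441))) (BT.node (nat_lit 8924224) (BT.leaf (nat_lit 25202445)) (BT.leaf (nat_lit 35992085)))) (BT.node (nat_lit 8924544) (BT.node (nat_lit 8924416) (BT.leaf (nat_lit 49819409)) (BT.leaf (nat_lit 33661473))) (BT.node (nat_lit 8924608) (BT.leaf (nat_lit 50146565)) (BT.leaf (nat_lit 25204753))))) (BT.node (nat_lit 8924992) (BT.node (nat_lit 8924864) (BT.node (nat_lit 8924800) (BT.leaf (nat_lit 25205017)) (BT.leaf (nat_lit 25205265))) (BT.node (nat_lit 8924928) (BT.leaf (nat_lit 25205529)) (BT.leaf (nat_lit 25205533)))) (BT.node (nat_lit 8925312) (BT.node (nat_lit 8925248) (BT.leaf (nat_lit 51312925)) (BT.leaf (nat_lit 25207569))) (BT.node (nat_lit 8925376) (BT.leaf (nat_lit 50117657)) (BT.leaf (nat_lit 35770889)))))) (BT.node (nat_lit 8927168) (BT.node (nat_lit 8926336) (BT.node (nat_lit 8926208) (BT.node (nat_lit 8925568) (BT.leaf (nat_lit 50213657)) (BT.leaf (nat_lit 50153745))) (BT.node (nat_lit 8926272) (BT.leaf (nat_lit 46359841)) (BT.leaf (nat_lit 50117913)))) (BT.node (nat_lit 8927040) (BT.node (nat_lit 8926784) (BT.leaf (nat_lit 50111257)) (BT.leaf (nat_lit 48065045))) (BT.node (nat_lit 8927104) (BT.leaf (nat_lit 47647005)) (BT.leaf (nat_lit 31763205))))) (BT.node (nat_lit 8927488) (BT.node (nat_lit 8927360) (BT.node (nat_lit 8927296) (BT.leaf (nat_lit 48916229)) (BT.leaf (nat_lit 34656021))) (BT.node (nat_lit 8927424) (BT.leaf (nat_lit 32683297)) (BT.leaf (nat_lit 32683553)))) (BT.node (nat_lit 8927680) (BT.node (nat_lit 8927616) (BT.leaf (nat_lit 32684065)) (BT.leaf (nat_lit 34096661))) (BT.node (nat_lit 8927744) (BT.leaf (nat_lit 25459729)) (BT.leaf (nat_lit 50134285))))))))) (BT.node (nat_lit 8935936) (BT.node (nat_lit 8931520) (BT.node (nat_lit 8929728) (BT.node (nat_lit 8928704) (BT.node (nat_lit 8928192) (BT.node (nat_lit 8927936) (BT.node (nat_lit 8927872) (BT.leaf (nat_lit 34847749)) (BT.leaf (nat_lit 50558469))) (BT.node (nat_lit 8928064) (BT.leaf (nat_lit 25217821)) (BT.leaf (nat_lit 51317009)))) (BT.node (nat_lit 8928576) (BT.node (nat_lit 8928256) (BT.leaf (nat_lit 25219089)) (BT.leaf (nat_lit 36630809))) (BT.node (nat_lit 8928640) (BT.leaf (nat_lit 34234905)) (BT.leaf (nat_lit 25220369))))) (BT.node (nat_lit 8929472) (BT.node (nat_lit 8928960) (BT.node (nat_lit 8928896) (BT.leaf (nat_lit 25220373)) (BT.leaf (nat_lit 35715853))) (BT.node (nat_lit 8929088) (BT.leaf (nat_lit 35696149)) (BT.leaf (nat_lit 36053269)))) (BT.node (nat_lit 8929600) (BT.node (nat_lit 8929536) (BT.leaf (nat_lit 25224465)) (BT.leaf (nat_lit 25224721))) (BT.node (nat_lit 8929664) (BT.leaf (nat_lit 25225493)) (BT.leaf (nat_lit 25225497)))))) (BT.node (nat_lit 8930880) (BT.node (nat_lit 8930176) (BT.node (nat_lit 8929920) (BT.node (nat_lit 8929856) (BT.leaf (nat_lit 25225501)) (BT.leaf (nat_lit 51321121))) (BT.node (nat_lit 8929984) (BT.leaf (nat_lit 51321377)) (BT.leaf (nat_lit 29523989)))) (BT.node (nat_lit 8930688) (BT.node (nat_lit 8930304) (BT.leaf (nat_lit 50170629)) (BT.leaf (nat_lit 33293073))) (BT.node (nat_lit 8930752) (BT.leaf (nat_lit 25305093)) (BT.leaf (nat_lit 25937413))))) (BT.node (nat_lit 8931264) (BT.node (nat_lit 8931136) (BT.node (nat_lit 8931072) (BT.leaf (nat_lit 25233437)) (BT.leaf (nat_lit 37447941))) (BT.node (nat_lit 8931200) (BT.leaf (nat_lit 36003105)) (BT.leaf (nat_lit 26291221)))) (BT.node (nat_lit 8931392) (BT.node (nat_lit 8931328) (BT.leaf (nat_lit 25235217)) (BT.leaf (nat_lit 35725597))) (BT.node (nat_lit 8931456) (BT.leaf (nat_lit 51327765)) (BT.leaf (nat_lit 51328029))))))) (BT.node (nat_lit 8934336) (BT.node (nat_lit 8933056) (BT.node (nat_lit 8932352) (BT.node (nat_lit 8932096) (BT.node (nat_lit 8931712) (BT.leaf (nat_lit 50180357)) (BT.leaf (nat_lit 25235985))) (BT.node (nat_lit 8932160) (BT.leaf (nat_lit 35741701)) (BT.leaf (nat_lit 25238033)))) (BT.node (nat_lit 8932672) (BT.node (nat_lit 8932608) (BT.leaf (nat_lit 26232609)) (BT.leaf (nat_lit 51329561))) (BT.node (nat_lit 8932800) (BT.leaf (nat_lit 51330333)) (BT.leaf (nat_lit 51331349))))) (BT.node (nat_lit 8933568) (BT.node (nat_lit 8933376) (BT.node (nat_lit 8933248) (BT.leaf (nat_lit 25241105)) (BT.leaf (nat_lit 51055621))) (BT.node (nat_lit 8933504) (BT.leaf (nat_lit 51332385)) (BT.leaf (nat_lit 26879009)))) (BT.node (nat_lit 8934208) (BT.node (nat_lit 8933824) (BT.leaf (nat_lit 27164433)) (BT.leaf (nat_lit 35534597))) (BT.node (nat_lit 8934272) (BT.leaf (nat_lit 51335173)) (BT.leaf (nat_lit 25244177)))))) (BT.node (nat_lit 8934976) (BT.node (nat_lit 8934592) (BT.node (nat_lit 8934464) (BT.node (nat_lit 8934400) (BT.leaf (nat_lit 51331589)) (BT.leaf (nat_lit 26176789))) (BT.node (nat_lit 8934528) (BT.leaf (nat_lit 25246225)) (BT.leaf (nat_lit 25246481)))) (BT.node (nat_lit 8934784) (BT.node (nat_lit 8934720) (BT.leaf (nat_lit 25246737)) (BT.leaf (nat_lit 50862613))) (BT.node (nat_lit 8934912) (BT.leaf (nat_lit 25247769)) (BT.leaf (nat_lit 25248017))))) (BT.node (nat_lit 8935488) (BT.node (nat_lit 8935360) (BT.node (nat_lit 8935104) (BT.leaf (nat_lit 25248021)) (BT.leaf (nat_lit 35514909))) (BT.node (nat_lit 8935424) (BT.leaf (nat_lit 37380357)) (BT.leaf (nat_lit 27193105)))) (BT.node (nat_lit 8935808) (BT.node (nat_lit 8935680) (BT.leaf (nat_lit 25251089)) (BT.leaf (nat_lit 35749137))) (BT.node (nat_lit 8935872) (BT.leaf (nat_lit 25252893)) (BT.leaf (nat_lit 25770245)))))))) (BT.node (nat_lit 8939136) (BT.node (nat_lit 8937600) (BT.node (nat_lit 8936896) (BT.node (nat_lit 8936576) (BT.node (nat_lit 8936128) (BT.node (nat_lit 8936000) (BT.leaf (nat_lit 33061393)) (BT.leaf (nat_lit 25253905))) (BT.node (nat_lit 8936256) (BT.leaf (nat_lit 25254169)) (BT.leaf (nat_lit 27145745)))) (BT.node (nat_lit 8936768) (BT.node (nat_lit 8936640) (BT.leaf (nat_lit 37605137)) (BT.leaf (nat_lit 26705669))) (BT.node (nat_lit 8936832) (BT.leaf (nat_lit 37644049)) (BT.leaf (nat_lit 37466897))))) (BT.node (nat_lit 8937152) (BT.node (nat_lit 8937024) (BT.node (nat_lit 8936960) (BT.leaf (nat_lit 25258769)) (BT.leaf (nat_lit 25259029))) (BT.node (nat_lit 8937088) (BT.leaf (nat_lit 25259285)) (BT.leaf (nat_lit 51340049)))) (BT.node (nat_lit 8937280) (BT.node (nat_lit 8937216) (BT.leaf (nat_lit 35748377)) (BT.leaf (nat_lit 25260049))) (BT.node (nat_lit 8937472) (BT.leaf (nat_lit 25260053)) (BT.leaf (nat_lit 25261845)))))) (BT.node (nat_lit 8938240) (BT.node (nat_lit 8937920) (BT.node (nat_lit 8937792) (BT.node (nat_lit 8937664) (BT.leaf (nat_lit 35038997)) (BT.leaf (nat_lit 26190353))) (BT.node (nat_lit 8937856) (BT.leaf (nat_lit 25263377)) (BT.leaf (nat_lit 51341849)))) (BT.node (nat_lit 8938112) (BT.node (nat_lit 8938048) (BT.leaf (nat_lit 25263633)) (BT.leaf (nat_lit 26044689))) (BT.node (nat_lit 8938176) (BT.leaf (nat_lit 25264657)) (BT.leaf (nat_lit 25264913))))) (BT.node (nat_lit 8938496) (BT.node (nat_lit 8938368) (BT.node (nat_lit 8938304) (BT.leaf (nat_lit 26710021)) (BT.leaf (nat_lit 27267077))) (BT.node (nat_lit 8938432) (BT.leaf (nat_lit 35753241)) (BT.leaf (nat_lit 25265421)))) (BT.node (nat_lit 8938944) (BT.node (nat_lit 8938880) (BT.leaf (nat_lit 35670553)) (BT.leaf (nat_lit 25266705))) (BT.node (nat_lit 8939008) (BT.leaf (nat_lit 25266961)) (BT.leaf (nat_lit 36659997))))))) (BT.node (nat_lit 8941120) (BT.node (nat_lit 8940288) (BT.node (nat_lit 8940032) (BT.node (nat_lit 8939904) (BT.node (nat_lit 8939200) (BT.leaf (nat_lit 25267473)) (BT.leaf (nat_lit 37356825))) (BT.node (nat_lit 8939968) (BT.leaf (nat_lit 47017733)) (BT.leaf (nat_lit 25269265)))) (BT.node (nat_lit 8940160) (BT.node (nat_lit 8940096) (BT.leaf (nat_lit 26249757)) (BT.leaf (nat_lit 25885213))) (BT.node (nat_lit 8940224) (BT.leaf (nat_lit 25269521)) (BT.leaf (nat_lit 25269777))))) (BT.node (nat_lit 8940608) (BT.node (nat_lit 8940416) (BT.node (nat_lit 8940352) (BT.leaf (nat_lit 36635153)) (BT.leaf (nat_lit 25270545))) (BT.node (nat_lit 8940544) (BT.leaf (nat_lit 25270813)) (BT.leaf (nat_lit 26584581)))) (BT.node (nat_lit 8940992) (BT.node (nat_lit 8940864) (BT.leaf (nat_lit 25540877)) (BT.leaf (nat_lit 35990301))) (BT.node (nat_lit 8941056) (BT.leaf (nat_lit 25272601)) (BT.leaf (nat_lit 51347977)))))) (BT.node (nat_lit 8941824) (BT.node (nat_lit 8941504) (BT.node (nat_lit 8941376) (BT.node (nat_lit 8941248) (BT.leaf (nat_lit 33574933)) (BT.leaf (nat_lit 25273621))) (BT.node (nat_lit 8941440) (BT.leaf (nat_lit 25274641)) (BT.leaf (nat_lit 25274657)))) (BT.node (nat_lit 8941632) (BT.node (nat_lit 8941568) (BT.leaf (nat_lit 25274389)) (BT.leaf (nat_lit 25274633))) (BT.node (nat_lit 8941696) (BT.leaf (nat_lit 25274637)) (BT.leaf (nat_lit 25274653))))) (BT.node (nat_lit 8942144) (BT.node (nat_lit 8941952) (BT.node (nat_lit 8941888) (BT.leaf (nat_lit 26471181)) (BT.leaf (nat_lit 25276433))) (BT.node (nat_lit 8942080) (BT.leaf (nat_lit 25276677)) (BT.leaf (nat_lit 25276697)))) (BT.node (nat_lit 8942272) (BT.node (nat_lit 8942208) (BT.leaf (nat_lit 51351301)) (BT.leaf (nat_lit 25937185))) (BT.node (nat_lit 8942400) (BT.leaf (nat_lit 26239777)) (BT.leaf (nat_lit 25277973)))))))))) (BT.node (nat_lit 8956544) (BT.node (nat_lit 8949248) (BT.node (nat_lit 8945920) (BT.node (nat_lit 8944256) (BT.node (nat_lit 8943360) (BT.node (nat_lit 8942784) (BT.node (nat_lit 8942656) (BT.node (nat_lit 8942592) (BT.leaf (nat_lit 25514005)) (BT.leaf (nat_lit 30048533))) (BT.node (nat_lit 8942720) (BT.leaf (nat_lit 26712325)) (BT.leaf (nat_lit 25280533)))) (BT.node (nat_lit 8943104) (BT.node (nat_lit 8942912) (BT.leaf (nat_lit 26257157)) (BT.leaf (nat_lit 27769365))) (BT.node (nat_lit 8943168) (BT.leaf (nat_lit 51352849)) (BT.leaf (nat_lit 25559053))))) (BT.node (nat_lit 8943680) (BT.node (nat_lit 8943488) (BT.node (nat_lit 8943424) (BT.leaf (nat_lit 35989765)) (BT.leaf (nat_lit 25284113))) (BT.node (nat_lit 8943616) (BT.leaf (nat_lit 25285145)) (BT.leaf (nat_lit 25286165)))) (BT.node (nat_lit 8943872) (BT.node (nat_lit 8943744) (BT.leaf (nat_lit 25286173)) (BT.leaf (nat_lit 25286421))) (BT.node (nat_lit 8944192) (BT.leaf (nat_lit 25286429)) (BT.leaf (nat_lit 26594053)))))) (BT.node (nat_lit 8945088) (BT.node (nat_lit 8944640) (BT.node (nat_lit 8944448) (BT.node (nat_lit 8944384) (BT.leaf (nat_lit 25290001)) (BT.leaf (nat_lit 25290769))) (BT.node (nat_lit 8944512) (BT.leaf (nat_lit 35748105)) (BT.leaf (nat_lit 25291029)))) (BT.node (nat_lit 8944768) (BT.node (nat_lit 8944704) (BT.leaf (nat_lit 25291037)) (BT.leaf (nat_lit 25291281))) (BT.node (nat_lit 8944896) (BT.leaf (nat_lit 25532949)) (BT.leaf (nat_lit 25298965))))) (BT.node (nat_lit 8945664) (BT.node (nat_lit 8945536) (BT.node (nat_lit 8945152) (BT.leaf (nat_lit 25490717)) (BT.leaf (nat_lit 25294353))) (BT.node (nat_lit 8945600) (BT.leaf (nat_lit 25297177)) (BT.leaf (nat_lit 25297937)))) (BT.node (nat_lit 8945792) (BT.node (nat_lit 8945728) (BT.leaf (nat_lit 25297953)) (BT.leaf (nat_lit 25298705))) (BT.node (nat_lit 8945856) (BT.leaf (nat_lit 25298961)) (BT.leaf (nat_lit 25299729))))))) (BT.node (nat_lit 8947264) (BT.node (nat_lit 8946560) (BT.node (nat_lit 8946304) (BT.node (nat_lit 8946112) (BT.node (nat_lit 8945984) (BT.leaf (nat_lit 25299985)) (BT.leaf (nat_lit 51360021))) (BT.node (nat_lit 8946240) (BT.leaf (nat_lit 25300757)) (BT.leaf (nat_lit 27169041)))) (BT.node (nat_lit 8946432) (BT.node (nat_lit 8946368) (BT.leaf (nat_lit 25301777)) (BT.leaf (nat_lit 51360261))) (BT.node (nat_lit 8946496) (BT.leaf (nat_lit 47468057)) (BT.leaf (nat_lit 50198293))))) (BT.node (nat_lit 8947008) (BT.node (nat_lit 8946752) (BT.node (nat_lit 8946688) (BT.leaf (nat_lit 47468045)) (BT.leaf (nat_lit 26241553))) (BT.node (nat_lit 8946944) (BT.leaf (nat_lit 25302801)) (BT.leaf (nat_lit 25303577)))) (BT.node (nat_lit 8947136) (BT.node (nat_lit 8947072) (BT.leaf (nat_lit 25303581)) (BT.leaf (nat_lit 25303825))) (BT.node (nat_lit 8947200) (BT.leaf (nat_lit 25304085)) (BT.leaf (nat_lit 36367621)))))) (BT.node (nat_lit 8948480) (BT.node (nat_lit 8948032) (BT.node (nat_lit 8947776) (BT.node (nat_lit 8947712) (BT.leaf (nat_lit 51251221)) (BT.leaf (nat_lit 51364101))) (BT.node (nat_lit 8947840) (BT.leaf (nat_lit 25305117)) (BT.leaf (nat_lit 25305361)))) (BT.node (nat_lit 8948224) (BT.node (nat_lit 8948160) (BT.leaf (nat_lit 25307413)) (BT.leaf (nat_lit 25307665))) (BT.node (nat_lit 8948416) (BT.leaf (nat_lit 36317189)) (BT.leaf (nat_lit 25308957))))) (BT.node (nat_lit 8948800) (BT.node (nat_lit 8948672) (BT.node (nat_lit 8948608) (BT.leaf (nat_lit 25309201)) (BT.leaf (nat_lit 25311505))) (BT.node (nat_lit 8948736) (BT.leaf (nat_lit 26744337)) (BT.leaf (nat_lit 25312017)))) (BT.node (nat_lit 8948928) (BT.node (nat_lit 8948864) (BT.leaf (nat_lit 25312033)) (BT.leaf (nat_lit 25312529))) (BT.node (nat_lit 8948992) (BT.leaf (nat_lit 26828565)) (BT.leaf (nat_lit 25313297)))))))) (BT.node (nat_lit 8952384) (BT.node (nat_lit 8950720) (BT.node (nat_lit 8950144) (BT.node (nat_lit 8949760) (BT.node (nat_lit 8949568) (BT.node (nat_lit 8949312) (BT.leaf (nat_lit 25315093)) (BT.leaf (nat_lit 25315101))) (BT.node (nat_lit 8949696) (BT.leaf (nat_lit 25316373)) (BT.leaf (nat_lit 36359693)))) (BT.node (nat_lit 8949952) (BT.node (nat_lit 8949888) (BT.leaf (nat_lit 33733405)) (BT.leaf (nat_lit 25317649))) (BT.node (nat_lit 8950016) (BT.leaf (nat_lit 36694297)) (BT.leaf (nat_lit 33895201))))) (BT.node (nat_lit 8950400) (BT.node (nat_lit 8950272) (BT.node (nat_lit 8950208) (BT.leaf (nat_lit 50735373)) (BT.leaf (nat_lit 28832017))) (BT.node (nat_lit 8950336) (BT.leaf (nat_lit 51358993)) (BT.leaf (nat_lit 25319185)))) (BT.node (nat_lit 8950592) (BT.node (nat_lit 8950528) (BT.leaf (nat_lit 36707613)) (BT.leaf (nat_lit 27195665))) (BT.node (nat_lit 8950656) (BT.leaf (nat_lit 47142917)) (BT.leaf (nat_lit 35803141)))))) (BT.node (nat_lit 8951552) (BT.node (nat_lit 8951040) (BT.node (nat_lit 8950848) (BT.node (nat_lit 8950784) (BT.leaf (nat_lit 32549653)) (BT.leaf (nat_lit 35161361))) (BT.node (nat_lit 8950976) (BT.leaf (nat_lit 25320977)) (BT.leaf (nat_lit 25323025)))) (BT.node (nat_lit 8951168) (BT.node (nat_lit 8951104) (BT.leaf (nat_lit 34778633)) (BT.leaf (nat_lit 38078221))) (BT.node (nat_lit 8951360) (BT.leaf (nat_lit 33861397)) (BT.leaf (nat_lit 26095385))))) (BT.node (nat_lit 8951936) (BT.node (nat_lit 8951744) (BT.node (nat_lit 8951616) (BT.leaf (nat_lit 51370253)) (BT.leaf (nat_lit 25325841))) (BT.node (nat_lit 8951872) (BT.leaf (nat_lit 26287889)) (BT.leaf (nat_lit 25329689)))) (BT.node (nat_lit 8952064) (BT.node (nat_lit 8952000) (BT.leaf (nat_lit 35808029)) (BT.leaf (nat_lit 37331985))) (BT.node (nat_lit 8952128) (BT.leaf (nat_lit 37198621)) (BT.leaf (nat_lit 25328145))))))) (BT.node (nat_lit 8954368) (BT.node (nat_lit 8953664) (BT.node (nat_lit 8953024) (BT.node (nat_lit 8952576) (BT.node (nat_lit 8952512) (BT.leaf (nat_lit 25329669)) (BT.leaf (nat_lit 26889745))) (BT.node (nat_lit 8952704) (BT.leaf (nat_lit 37011717)) (BT.leaf (nat_lit 36893717)))) (BT.node (nat_lit 8953216) (BT.node (nat_lit 8953088) (BT.leaf (nat_lit 25331989)) (BT.leaf (nat_lit 40157969))) (BT.node (nat_lit 8953344) (BT.leaf (nat_lit 25332509)) (BT.leaf (nat_lit 25348637))))) (BT.node (nat_lit 8954048) (BT.node (nat_lit 8953792) (BT.node (nat_lit 8953728) (BT.leaf (nat_lit 25334041)) (BT.leaf (nat_lit 25334045))) (BT.node (nat_lit 8953856) (BT.leaf (nat_lit 25334289)) (BT.leaf (nat_lit 47695385)))) (BT.node (nat_lit 8954240) (BT.node (nat_lit 8954112) (BT.leaf (nat_lit 49957917)) (BT.leaf (nat_lit 49819909))) (BT.node (nat_lit 8954304) (BT.leaf (nat_lit 25336093)) (BT.leaf (nat_lit 51197461)))))) (BT.node (nat_lit 8954880) (BT.node (nat_lit 8954624) (BT.node (nat_lit 8954496) (BT.node (nat_lit 8954432) (BT.leaf (nat_lit 51197713)) (BT.leaf (nat_lit 46760709))) (BT.node (nat_lit 8954560) (BT.leaf (nat_lit 25341213)) (BT.leaf (nat_lit 25339153)))) (BT.node (nat_lit 8954752) (BT.node (nat_lit 8954688) (BT.leaf (nat_lit 25339665)) (BT.leaf (nat_lit 35808005))) (BT.node (nat_lit 8954816) (BT.leaf (nat_lit 25340177)) (BT.leaf (nat_lit 25340437))))) (BT.node (nat_lit 8955712) (BT.node (nat_lit 8955264) (BT.node (nat_lit 8954944) (BT.leaf (nat_lit 25340445)) (BT.leaf (nat_lit 25340689))) (BT.node (nat_lit 8955392) (BT.leaf (nat_lit 27111185)) (BT.leaf (nat_lit 33355541)))) (BT.node (nat_lit 8956416) (BT.node (nat_lit 8956352) (BT.leaf (nat_lit 34377493)) (BT.leaf (nat_lit 25345053))) (BT.node (nat_lit 8956480) (BT.leaf (nat_lit 25345297)) (BT.leaf (nat_lit 25345809))))))))) (BT.node (nat_lit 8961984) (BT.node (nat_lit 8959104) (BT.node (nat_lit 8957888) (BT.node (nat_lit 8957312) (BT.node (nat_lit 8957056) (BT.node (nat_lit 8956736) (BT.node (nat_lit 8956608) (BT.leaf (nat_lit 37662233)) (BT.leaf (nat_lit 47342853))) (BT.node (nat_lit 8956800) (BT.leaf (nat_lit 25346077)) (BT.leaf (nat_lit 33348113)))) (BT.node (nat_lit 8957184) (BT.node (nat_lit 8957120) (BT.leaf (nat_lit 47018257)) (BT.leaf (nat_lit 25347861))) (BT.node (nat_lit 8957248) (BT.leaf (nat_lit 25348113)) (BT.leaf (nat_lit 25348369))))) (BT.node (nat_lit 8957632) (BT.node (nat_lit 8957504) (BT.node (nat_lit 8957440) (BT.leaf (nat_lit 38356757)) (BT.leaf (nat_lit 46779417))) (BT.node (nat_lit 8957568) (BT.leaf (nat_lit 49976581)) (BT.leaf (nat_lit 33325849)))) (BT.node (nat_lit 8957760) (BT.node (nat_lit 8957696) (BT.leaf (nat_lit 25350673)) (BT.leaf (nat_lit 25350929))) (BT.node (nat_lit 8957824) (BT.leaf (nat_lit 29602833)) (BT.leaf (nat_lit 51383557)))))) (BT.node (nat_lit 8958464) (BT.node (nat_lit 8958208) (BT.node (nat_lit 8958016) (BT.node (nat_lit 8957952) (BT.leaf (nat_lit 50329093)) (BT.leaf (nat_lit 36542237))) (BT.node (nat_lit 8958080) (BT.leaf (nat_lit 25352209)) (BT.leaf (nat_lit 33522965)))) (BT.node (nat_lit 8958336) (BT.node (nat_lit 8958272) (BT.leaf (nat_lit 26912529)) (BT.leaf (nat_lit 51383837))) (BT.node (nat_lit 8958400) (BT.leaf (nat_lit 49869597)) (BT.leaf (nat_lit 51384581))))) (BT.node (nat_lit 8958784) (BT.node (nat_lit 8958656) (BT.node (nat_lit 8958592) (BT.leaf (nat_lit 51385113)) (BT.leaf (nat_lit 51385353))) (BT.node (nat_lit 8958720) (BT.leaf (nat_lit 50392353)) (BT.leaf (nat_lit 25356561)))) (BT.node (nat_lit 8958912) (BT.node (nat_lit 8958848) (BT.leaf (nat_lit 36149261)) (BT.leaf (nat_lit 25358357))) (BT.node (nat_lit 8959040) (BT.leaf (nat_lit 35405845)) (BT.leaf (nat_lit 35838485))))))) (BT.node (nat_lit 8960576) (BT.node (nat_lit 8959808) (BT.node (nat_lit 8959424) (BT.node (nat_lit 8959232) (BT.node (nat_lit 8959168) (BT.leaf (nat_lit 35837453)) (BT.leaf (nat_lit 25357841))) (BT.node (nat_lit 8959360) (BT.leaf (nat_lit 37393433)) (BT.leaf (nat_lit 35406101)))) (BT.node (nat_lit 8959680) (BT.node (nat_lit 8959616) (BT.leaf (nat_lit 25358865)) (BT.leaf (nat_lit 25665297))) (BT.node (nat_lit 8959744) (BT.leaf (nat_lit 26652433)) (BT.leaf (nat_lit 25360145))))) (BT.node (nat_lit 8960320) (BT.node (nat_lit 8960192) (BT.node (nat_lit 8960128) (BT.leaf (nat_lit 25360657)) (BT.leaf (nat_lit 25361169))) (BT.node (nat_lit 8960256) (BT.leaf (nat_lit 37150233)) (BT.leaf (nat_lit 25361425)))) (BT.node (nat_lit 8960448) (BT.node (nat_lit 8960384) (BT.leaf (nat_lit 25361429)) (BT.leaf (nat_lit 35537437))) (BT.node (nat_lit 8960512) (BT.leaf (nat_lit 26595857)) (BT.leaf (nat_lit 25362961)))))) (BT.node (nat_lit 8961216) (BT.node (nat_lit 8960896) (BT.node (nat_lit 8960768) (BT.node (nat_lit 8960704) (BT.leaf (nat_lit 25363217)) (BT.leaf (nat_lit 25364241))) (BT.node (nat_lit 8960832) (BT.leaf (nat_lit 51194909)) (BT.leaf (nat_lit 35509021)))) (BT.node (nat_lit 8961088) (BT.node (nat_lit 8961024) (BT.leaf (nat_lit 33947141)) (BT.leaf (nat_lit 35740433))) (BT.node (nat_lit 8961152) (BT.leaf (nat_lit 49911313)) (BT.leaf (nat_lit 25366041))))) (BT.node (nat_lit 8961600) (BT.node (nat_lit 8961408) (BT.node (nat_lit 8961280) (BT.leaf (nat_lit 25366289)) (BT.leaf (nat_lit 25366545))) (BT.node (nat_lit 8961536) (BT.leaf (nat_lit 25368849)) (BT.leaf (nat_lit 25369621)))) (BT.node (nat_lit 8961728) (BT.node (nat_lit 8961664) (BT.leaf (nat_lit 25369625)) (BT.leaf (nat_lit 25370129))) (BT.node (nat_lit 8961792) (BT.leaf (nat_lit 36245509)) (BT.leaf (nat_lit 25370393)))))))) (BT.node (nat_lit 8964928) (BT.node (nat_lit 8963456) (BT.node (nat_lit 8962816) (BT.node (nat_lit 8962240) (BT.node (nat_lit 8962112) (BT.node (nat_lit 8962048) (BT.leaf (nat_lit 26277657)) (BT.leaf (nat_lit 36700177))) (BT.node (nat_lit 8962176) (BT.leaf (nat_lit 25372185)) (BT.leaf (nat_lit 36203525)))) (BT.node (nat_lit 8962496) (BT.node (nat_lit 8962304) (BT.leaf (nat_lit 25807377)) (BT.leaf (nat_lit 25372933))) (BT.node (nat_lit 8962688) (BT.leaf (nat_lit 26069265)) (BT.leaf (nat_lit 25373969))))) (BT.node (nat_lit 8963136) (BT.node (nat_lit 8962944) (BT.node (nat_lit 8962880) (BT.leaf (nat_lit 35265049)) (BT.leaf (nat_lit 25374993))) (BT.node (nat_lit 8963008) (BT.leaf (nat_lit 50072097)) (BT.leaf (nat_lit 25374745)))) (BT.node (nat_lit 8963264) (BT.node (nat_lit 8963200) (BT.leaf (nat_lit 35000857)) (BT.leaf (nat_lit 51394841))) (BT.node (nat_lit 8963392) (BT.leaf (nat_lit 51395865)) (BT.leaf (nat_lit 35882761)))))) (BT.node (nat_lit 8963968) (BT.node (nat_lit 8963712) (BT.node (nat_lit 8963584) (BT.node (nat_lit 8963520) (BT.leaf (nat_lit 25375509)) (BT.leaf (nat_lit 25376017))) (BT.node (nat_lit 8963648) (BT.leaf (nat_lit 51396613)) (BT.leaf (nat_lit 25375773)))) (BT.node (nat_lit 8963840) (BT.node (nat_lit 8963776) (BT.leaf (nat_lit 25376529)) (BT.leaf (nat_lit 25376533))) (BT.node (nat_lit 8963904) (BT.leaf (nat_lit 25720333)) (BT.leaf (nat_lit 25720345))))) (BT.node (nat_lit 8964416) (BT.node (nat_lit 8964224) (BT.node (nat_lit 8964096) (BT.leaf (nat_lit 36143109)) (BT.leaf (nat_lit 51397397))) (BT.node (nat_lit 8964288) (BT.leaf (nat_lit 26367773)) (BT.leaf (nat_lit 25378065)))) (BT.node (nat_lit 8964800) (BT.node (nat_lit 8964672) (BT.leaf (nat_lit 25378833)) (BT.leaf (nat_lit 30304021))) (BT.node (nat_lit 8964864) (BT.leaf (nat_lit 34664725)) (BT.leaf (nat_lit 49829653))))))) (BT.node (nat_lit 8966976) (BT.node (nat_lit 8965632) (BT.node (nat_lit 8965376) (BT.node (nat_lit 8965120) (BT.node (nat_lit 8965056) (BT.leaf (nat_lit 26347033)) (BT.leaf (nat_lit 26770949))) (BT.node (nat_lit 8965184) (BT.leaf (nat_lit 51210005)) (BT.leaf (nat_lit 25382417)))) (BT.node (nat_lit 8965504) (BT.node (nat_lit 8965440) (BT.leaf (nat_lit 35421729)) (BT.leaf (nat_lit 25383189))) (BT.node (nat_lit 8965568) (BT.leaf (nat_lit 36717329)) (BT.leaf (nat_lit 25383449))))) (BT.node (nat_lit 8965888) (BT.node (nat_lit 8965760) (BT.node (nat_lit 8965696) (BT.leaf (nat_lit 25383453)) (BT.leaf (nat_lit 36717333))) (BT.node (nat_lit 8965824) (BT.leaf (nat_lit 26975245)) (BT.leaf (nat_lit 25385233)))) (BT.node (nat_lit 8966720) (BT.node (nat_lit 8966016) (BT.leaf (nat_lit 37689621)) (BT.leaf (nat_lit 51284513))) (BT.node (nat_lit 8966848) (BT.leaf (nat_lit 25389329)) (BT.leaf (nat_lit 51403549)))))) (BT.node (nat_lit 8967872) (BT.node (nat_lit 8967232) (BT.node (nat_lit 8967104) (BT.node (nat_lit 8967040) (BT.leaf (nat_lit 51403793)) (BT.leaf (nat_lit 30133529))) (BT.node (nat_lit 8967168) (BT.leaf (nat_lit 35868701)) (BT.leaf (nat_lit 50393617)))) (BT.node (nat_lit 8967488) (BT.node (nat_lit 8967424) (BT.leaf (nat_lit 33268253)) (BT.leaf (nat_lit 33037329))) (BT.node (nat_lit 8967808) (BT.leaf (nat_lit 35869725)) (BT.leaf (nat_lit 25394193))))) (BT.node (nat_lit 8968128) (BT.node (nat_lit 8968000) (BT.node (nat_lit 8967936) (BT.leaf (nat_lit 25394449)) (BT.leaf (nat_lit 25395473))) (BT.node (nat_lit 8968064) (BT.leaf (nat_lit 25395741)) (BT.leaf (nat_lit 27148053)))) (BT.node (nat_lit 8968256) (BT.node (nat_lit 8968192) (BT.leaf (nat_lit 26136853)) (BT.leaf (nat_lit 37184777))) (BT.node (nat_lit 8968320) (BT.leaf (nat_lit 25396753)) (BT.leaf (nat_lit 50340889)))))))))))))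
noncomputable def big0_e69632 : BT Nat := (BT.node (nat_lit 9071424) (BT.node (nat_lit 9024768) (BT.node (nat_lit 8999168) (BT.node (nat_lit 8983552) (BT.node (nat_lit 8975040) (BT.node (nat_lit 8971712) (BT.node (nat_lit 8970240) (BT.node (nat_lit 8969152) (BT.node (nat_lit 8968832) (BT.node (nat_lit 8968512) (BT.node (nat_lit 8968448) (BT.leaf (nat_lit 35873821)) (BT.leaf (nat_lit 50340877))) (BT.node (nat_lit 8968640) (BT.leaf (nat_lit 25398049)) (BT.leaf (nat_lit 28402969)))) (BT.node (nat_lit 8968960) (BT.node (nat_lit 8968896) (BT.leaf (nat_lit 25401885)) (BT.leaf (nat_lit 27181317))) (BT.node (nat_lit 8969088) (BT.leaf (nat_lit 25401109)) (BT.leaf (nat_lit 27181089))))) (BT.node (nat_lit 8969536) (BT.node (nat_lit 8969280) (BT.node (nat_lit 8969216) (BT.leaf (nat_lit 37198597)) (BT.leaf (nat_lit 26375709))) (BT.node (nat_lit 8969408) (BT.leaf (nat_lit 26541845)) (BT.leaf (nat_lit 26375693)))) (BT.node (nat_lit 8969728) (BT.node (nat_lit 8969664) (BT.leaf (nat_lit 34097685)) (BT.leaf (nat_lit 37048593))) (BT.node (nat_lit 8969920) (BT.leaf (nat_lit 37048597)) (BT.leaf (nat_lit 26256913)))))) (BT.node (nat_lit 8970944) (BT.node (nat_lit 8970560) (BT.node (nat_lit 8970432) (BT.node (nat_lit 8970368) (BT.leaf (nat_lit 35879701)) (BT.leaf (nat_lit 25406489))) (BT.node (nat_lit 8970496) (BT.leaf (nat_lit 25406497)) (BT.leaf (nat_lit 25406993)))) (BT.node (nat_lit 8970752) (BT.node (nat_lit 8970688) (BT.leaf (nat_lit 51409433)) (BT.leaf (nat_lit 37676309))) (BT.node (nat_lit 8970880) (BT.leaf (nat_lit 25407509)) (BT.leaf (nat_lit 37434889))))) (BT.node (nat_lit 8971264) (BT.node (nat_lit 8971136) (BT.node (nat_lit 8971008) (BT.leaf (nat_lit 51410197)) (BT.leaf (nat_lit 36804641))) (BT.node (nat_lit 8971200) (BT.leaf (nat_lit 35943441)) (BT.leaf (nat_lit 25409301)))) (BT.node (nat_lit 8971520) (BT.node (nat_lit 8971392) (BT.leaf (nat_lit 27717661)) (BT.leaf (nat_lit 46621957))) (BT.node (nat_lit 8971584) (BT.leaf (nat_lit 25411353)) (BT.leaf (nat_lit 25412113))))))) (BT.node (nat_lit 8973184) (BT.node (nat_lit 8972288) (BT.node (nat_lit 8971968) (BT.node (nat_lit 8971840) (BT.node (nat_lit 8971776) (BT.leaf (nat_lit 32315157)) (BT.leaf (nat_lit 44550177))) (BT.node (nat_lit 8971904) (BT.leaf (nat_lit 50422813)) (BT.leaf (nat_lit 25413141)))) (BT.node (nat_lit 8972096) (BT.node (nat_lit 8972032) (BT.leaf (nat_lit 26935577)) (BT.leaf (nat_lit 29873413))) (BT.node (nat_lit 8972224) (BT.leaf (nat_lit 25414417)) (BT.leaf (nat_lit 25649429))))) (BT.node (nat_lit 8972736) (BT.node (nat_lit 8972544) (BT.node (nat_lit 8972352) (BT.leaf (nat_lit 33598477)) (BT.leaf (nat_lit 27055365))) (BT.node (nat_lit 8972672) (BT.leaf (nat_lit 51413281)) (BT.leaf (nat_lit 51068961)))) (BT.node (nat_lit 8972928) (BT.node (nat_lit 8972800) (BT.leaf (nat_lit 51412757)) (BT.leaf (nat_lit 50725389))) (BT.node (nat_lit 8973120) (BT.leaf (nat_lit 51413537)) (BT.leaf (nat_lit 25419537)))))) (BT.node (nat_lit 8974080) (BT.node (nat_lit 8973632) (BT.node (nat_lit 8973376) (BT.node (nat_lit 8973248) (BT.leaf (nat_lit 25419793)) (BT.leaf (nat_lit 26577181))) (BT.node (nat_lit 8973440) (BT.leaf (nat_lit 25421073)) (BT.leaf (nat_lit 25421329)))) (BT.node (nat_lit 8973760) (BT.node (nat_lit 8973696) (BT.leaf (nat_lit 25422869)) (BT.leaf (nat_lit 25422609))) (BT.node (nat_lit 8974016) (BT.leaf (nat_lit 25422877)) (BT.leaf (nat_lit 25423377))))) (BT.node (nat_lit 8974592) (BT.node (nat_lit 8974272) (BT.node (nat_lit 8974144) (BT.leaf (nat_lit 25423637)) (BT.leaf (nat_lit 27245317))) (BT.node (nat_lit 8974336) (BT.leaf (nat_lit 25424921)) (BT.leaf (nat_lit 25424925)))) (BT.node (nat_lit 8974784) (BT.node (nat_lit 8974656) (BT.leaf (nat_lit 36324881)) (BT.leaf (nat_lit 26158613))) (BT.node (nat_lit 8974912) (BT.leaf (nat_lit 36839941)) (BT.leaf (nat_lit 25426461)))))))) (BT.node (nat_lit 8979072) (BT.node (nat_lit 8977536) (BT.node (nat_lit 8976704) (BT.node (nat_lit 8975936) (BT.node (nat_lit 8975616) (BT.node (nat_lit 8975296) (BT.leaf (nat_lit 35861785)) (BT.leaf (nat_lit 37643797))) (BT.node (nat_lit 8975680) (BT.leaf (nat_lit 36223509)) (BT.leaf (nat_lit 25429273)))) (BT.node (nat_lit 8976576) (BT.node (nat_lit 8976512) (BT.leaf (nat_lit 36230149)) (BT.leaf (nat_lit 37379089))) (BT.node (nat_lit 8976640) (BT.leaf (nat_lit 26357269)) (BT.leaf (nat_lit 26940445))))) (BT.node (nat_lit 8977216) (BT.node (nat_lit 8976832) (BT.node (nat_lit 8976768) (BT.leaf (nat_lit 37528337)) (BT.leaf (nat_lit 25437209))) (BT.node (nat_lit 8977152) (BT.leaf (nat_lit 26931217)) (BT.leaf (nat_lit 25439761)))) (BT.node (nat_lit 8977344) (BT.node (nat_lit 8977280) (BT.leaf (nat_lit 25440017)) (BT.leaf (nat_lit 26360857))) (BT.node (nat_lit 8977408) (BT.leaf (nat_lit 26471197)) (BT.leaf (nat_lit 25441553)))))) (BT.node (nat_lit 8978048) (BT.node (nat_lit 8977792) (BT.node (nat_lit 8977664) (BT.node (nat_lit 8977600) (BT.leaf (nat_lit 25442321)) (BT.leaf (nat_lit 25442589))) (BT.node (nat_lit 8977728) (BT.leaf (nat_lit 26202137)) (BT.leaf (nat_lit 32612373)))) (BT.node (nat_lit 8977920) (BT.node (nat_lit 8977856) (BT.leaf (nat_lit 33354517)) (BT.leaf (nat_lit 33354769))) (BT.node (nat_lit 8977984) (BT.leaf (nat_lit 33354773)) (BT.leaf (nat_lit 49885209))))) (BT.node (nat_lit 8978432) (BT.node (nat_lit 8978240) (BT.node (nat_lit 8978112) (BT.leaf (nat_lit 31898657)) (BT.leaf (nat_lit 34151441))) (BT.node (nat_lit 8978368) (BT.leaf (nat_lit 26680085)) (BT.leaf (nat_lit 49015317)))) (BT.node (nat_lit 8978560) (BT.node (nat_lit 8978496) (BT.leaf (nat_lit 51421977)) (BT.leaf (nat_lit 32177173))) (BT.node (nat_lit 8979008) (BT.leaf (nat_lit 47900429)) (BT.leaf (nat_lit 33097753))))))) (BT.node (nat_lit 8980480) (BT.node (nat_lit 8979648) (BT.node (nat_lit 8979392) (BT.node (nat_lit 8979200) (BT.node (nat_lit 8979136) (BT.leaf (nat_lit 37121045)) (BT.leaf (nat_lit 25446417))) (BT.node (nat_lit 8979328) (BT.leaf (nat_lit 25446929)) (BT.leaf (nat_lit 25446685)))) (BT.node (nat_lit 8979520) (BT.node (nat_lit 8979456) (BT.leaf (nat_lit 50834693)) (BT.leaf (nat_lit 27282961))) (BT.node (nat_lit 8979584) (BT.leaf (nat_lit 27034629)) (BT.leaf (nat_lit 35616005))))) (BT.node (nat_lit 8980096) (BT.node (nat_lit 8979968) (BT.node (nat_lit 8979712) (BT.leaf (nat_lit 50227205)) (BT.leaf (nat_lit 26611717))) (BT.node (nat_lit 8980032) (BT.leaf (nat_lit 33322245)) (BT.leaf (nat_lit 25450769)))) (BT.node (nat_lit 8980224) (BT.node (nat_lit 8980160) (BT.leaf (nat_lit 25451025)) (BT.leaf (nat_lit 25451281))) (BT.node (nat_lit 8980352) (BT.leaf (nat_lit 25451537)) (BT.leaf (nat_lit 37681173)))))) (BT.node (nat_lit 8982144) (BT.node (nat_lit 8980864) (BT.node (nat_lit 8980736) (BT.node (nat_lit 8980608) (BT.leaf (nat_lit 51428101)) (BT.leaf (nat_lit 25452317))) (BT.node (nat_lit 8980800) (BT.leaf (nat_lit 26595333)) (BT.leaf (nat_lit 34630677)))) (BT.node (nat_lit 8981632) (BT.node (nat_lit 8981440) (BT.leaf (nat_lit 34630933)) (BT.leaf (nat_lit 50908697))) (BT.node (nat_lit 8981696) (BT.leaf (nat_lit 25602073)) (BT.leaf (nat_lit 25457937))))) (BT.node (nat_lit 8983040) (BT.node (nat_lit 8982400) (BT.node (nat_lit 8982336) (BT.leaf (nat_lit 36230661)) (BT.leaf (nat_lit 25460245))) (BT.node (nat_lit 8982656) (BT.leaf (nat_lit 48669445)) (BT.leaf (nat_lit 25462805)))) (BT.node (nat_lit 8983296) (BT.node (nat_lit 8983232) (BT.leaf (nat_lit 25465617)) (BT.leaf (nat_lit 50468113))) (BT.node (nat_lit 8983488) (BT.leaf (nat_lit 37224973)) (BT.leaf (nat_lit 25468433))))))))) (BT.node (nat_lit 8991680) (BT.node (nat_lit 8987264) (BT.node (nat_lit 8984768) (BT.node (nat_lit 8984192) (BT.node (nat_lit 8983808) (BT.node (nat_lit 8983680) (BT.node (nat_lit 8983616) (BT.leaf (nat_lit 25468693)) (BT.leaf (nat_lit 30818337))) (BT.node (nat_lit 8983744) (BT.leaf (nat_lit 25469205)) (BT.leaf (nat_lit 25469457)))) (BT.node (nat_lit 8984064) (BT.node (nat_lit 8983872) (BT.leaf (nat_lit 25469721)) (BT.leaf (nat_lit 25469725))) (BT.node (nat_lit 8984128) (BT.leaf (nat_lit 25472529)) (BT.leaf (nat_lit 50662689))))) (BT.node (nat_lit 8984448) (BT.node (nat_lit 8984320) (BT.node (nat_lit 8984256) (BT.leaf (nat_lit 33303317)) (BT.leaf (nat_lit 50663201))) (BT.node (nat_lit 8984384) (BT.leaf (nat_lit 35946525)) (BT.leaf (nat_lit 25473301)))) (BT.node (nat_lit 8984640) (BT.node (nat_lit 8984512) (BT.leaf (nat_lit 46980637)) (BT.leaf (nat_lit 51436821))) (BT.node (nat_lit 8984704) (BT.leaf (nat_lit 33799961)) (BT.leaf (nat_lit 25474577)))))) (BT.node (nat_lit 8985600) (BT.node (nat_lit 8985088) (BT.node (nat_lit 8984896) (BT.node (nat_lit 8984832) (BT.leaf (nat_lit 51437589)) (BT.leaf (nat_lit 34242845))) (BT.node (nat_lit 8984960) (BT.leaf (nat_lit 50035481)) (BT.leaf (nat_lit 25476369)))) (BT.node (nat_lit 8985280) (BT.node (nat_lit 8985216) (BT.leaf (nat_lit 51438613)) (BT.leaf (nat_lit 25477909))) (BT.node (nat_lit 8985344) (BT.leaf (nat_lit 25478929)) (BT.leaf (nat_lit 25479445))))) (BT.node (nat_lit 8986688) (BT.node (nat_lit 8986432) (BT.node (nat_lit 8985856) (BT.leaf (nat_lit 25480721)) (BT.leaf (nat_lit 25481749))) (BT.node (nat_lit 8986624) (BT.leaf (nat_lit 25486357)) (BT.leaf (nat_lit 25487377)))) (BT.node (nat_lit 8987072) (BT.node (nat_lit 8986816) (BT.leaf (nat_lit 35701253)) (BT.leaf (nat_lit 25488401))) (BT.node (nat_lit 8987200) (BT.leaf (nat_lit 25488913)) (BT.leaf (nat_lit 25489181))))))) (BT.node (nat_lit 8989248) (BT.node (nat_lit 8988224) (BT.node (nat_lit 8987840) (BT.node (nat_lit 8987648) (BT.node (nat_lit 8987584) (BT.leaf (nat_lit 25489681)) (BT.leaf (nat_lit 25493521))) (BT.node (nat_lit 8987776) (BT.leaf (nat_lit 25493525)) (BT.leaf (nat_lit 32409109)))) (BT.node (nat_lit 8988096) (BT.node (nat_lit 8988032) (BT.leaf (nat_lit 50953241)) (BT.leaf (nat_lit 25495837))) (BT.node (nat_lit 8988160) (BT.leaf (nat_lit 34459169)) (BT.leaf (nat_lit 34458913))))) (BT.node (nat_lit 8988480) (BT.node (nat_lit 8988352) (BT.node (nat_lit 8988288) (BT.leaf (nat_lit 50452253)) (BT.leaf (nat_lit 50223117))) (BT.node (nat_lit 8988416) (BT.leaf (nat_lit 50224157)) (BT.leaf (nat_lit 28064021)))) (BT.node (nat_lit 8989120) (BT.node (nat_lit 8988864) (BT.leaf (nat_lit 33787153)) (BT.leaf (nat_lit 50493189))) (BT.node (nat_lit 8989184) (BT.leaf (nat_lit 33349649)) (BT.leaf (nat_lit 25500433)))))) (BT.node (nat_lit 8990080) (BT.node (nat_lit 8989696) (BT.node (nat_lit 8989568) (BT.node (nat_lit 8989312) (BT.leaf (nat_lit 25499929)) (BT.leaf (nat_lit 25500177))) (BT.node (nat_lit 8989632) (BT.leaf (nat_lit 25502993)) (BT.leaf (nat_lit 51442197)))) (BT.node (nat_lit 8989888) (BT.node (nat_lit 8989760) (BT.leaf (nat_lit 52070689)) (BT.leaf (nat_lit 25505301))) (BT.node (nat_lit 8990016) (BT.leaf (nat_lit 30622229)) (BT.leaf (nat_lit 33715481))))) (BT.node (nat_lit 8990784) (BT.node (nat_lit 8990656) (BT.node (nat_lit 8990336) (BT.leaf (nat_lit 25506065)) (BT.leaf (nat_lit 38002721))) (BT.node (nat_lit 8990720) (BT.leaf (nat_lit 50453013)) (BT.leaf (nat_lit 51443989)))) (BT.node (nat_lit 8991424) (BT.node (nat_lit 8990848) (BT.leaf (nat_lit 30056981)) (BT.leaf (nat_lit 25508369))) (BT.node (nat_lit 8991616) (BT.leaf (nat_lit 47723793)) (BT.leaf (nat_lit 37956885)))))))) (BT.node (nat_lit 8995968) (BT.node (nat_lit 8993472) (BT.node (nat_lit 8992704) (BT.node (nat_lit 8992064) (BT.node (nat_lit 8991872) (BT.node (nat_lit 8991744) (BT.leaf (nat_lit 25513489)) (BT.leaf (nat_lit 39219981))) (BT.node (nat_lit 8992000) (BT.leaf (nat_lit 33129733)) (BT.leaf (nat_lit 35809565)))) (BT.node (nat_lit 8992192) (BT.node (nat_lit 8992128) (BT.leaf (nat_lit 25515025)) (BT.leaf (nat_lit 33203481))) (BT.node (nat_lit 8992256) (BT.leaf (nat_lit 26377237)) (BT.leaf (nat_lit 37293341))))) (BT.node (nat_lit 8992960) (BT.node (nat_lit 8992832) (BT.node (nat_lit 8992768) (BT.leaf (nat_lit 27081497)) (BT.leaf (nat_lit 26902801))) (BT.node (nat_lit 8992896) (BT.leaf (nat_lit 25518353)) (BT.leaf (nat_lit 36483865)))) (BT.node (nat_lit 8993216) (BT.node (nat_lit 8993024) (BT.leaf (nat_lit 25518609)) (BT.leaf (nat_lit 25519377))) (BT.node (nat_lit 8993280) (BT.leaf (nat_lit 35867933)) (BT.leaf (nat_lit 25520401)))))) (BT.node (nat_lit 8994688) (BT.node (nat_lit 8993984) (BT.node (nat_lit 8993664) (BT.node (nat_lit 8993600) (BT.leaf (nat_lit 50194693)) (BT.leaf (nat_lit 35916549))) (BT.node (nat_lit 8993728) (BT.leaf (nat_lit 25521681)) (BT.leaf (nat_lit 48321313)))) (BT.node (nat_lit 8994176) (BT.node (nat_lit 8994048) (BT.leaf (nat_lit 49873941)) (BT.leaf (nat_lit 25523225))) (BT.node (nat_lit 8994560) (BT.leaf (nat_lit 25523473)) (BT.leaf (nat_lit 26164757))))) (BT.node (nat_lit 8994944) (BT.node (nat_lit 8994816) (BT.node (nat_lit 8994752) (BT.leaf (nat_lit 50355737)) (BT.leaf (nat_lit 25525261))) (BT.node (nat_lit 8994880) (BT.leaf (nat_lit 51450389)) (BT.leaf (nat_lit 50355725)))) (BT.node (nat_lit 8995456) (BT.node (nat_lit 8995072) (BT.leaf (nat_lit 25525281)) (BT.leaf (nat_lit 25525781))) (BT.node (nat_lit 8995840) (BT.leaf (nat_lit 26666773)) (BT.leaf (nat_lit 25530653))))))) (BT.node (nat_lit 8997504) (BT.node (nat_lit 8996736) (BT.node (nat_lit 8996416) (BT.node (nat_lit 8996288) (BT.node (nat_lit 8996224) (BT.leaf (nat_lit 51386885)) (BT.leaf (nat_lit 35463189))) (BT.node (nat_lit 8996352) (BT.leaf (nat_lit 26055953)) (BT.leaf (nat_lit 25531413)))) (BT.node (nat_lit 8996608) (BT.node (nat_lit 8996480) (BT.leaf (nat_lit 25532689)) (BT.leaf (nat_lit 25532945))) (BT.node (nat_lit 8996672) (BT.leaf (nat_lit 25533205)) (BT.leaf (nat_lit 51453717))))) (BT.node (nat_lit 8997056) (BT.node (nat_lit 8996864) (BT.node (nat_lit 8996800) (BT.leaf (nat_lit 47646981)) (BT.leaf (nat_lit 51128841))) (BT.node (nat_lit 8996928) (BT.leaf (nat_lit 49008661)) (BT.leaf (nat_lit 35987465)))) (BT.node (nat_lit 8997376) (BT.node (nat_lit 8997312) (BT.leaf (nat_lit 48334873)) (BT.leaf (nat_lit 31879969))) (BT.node (nat_lit 8997440) (BT.leaf (nat_lit 25538065)) (BT.leaf (nat_lit 25538321)))))) (BT.node (nat_lit 8998336) (BT.node (nat_lit 8997952) (BT.node (nat_lit 8997696) (BT.node (nat_lit 8997568) (BT.leaf (nat_lit 33397025)) (BT.leaf (nat_lit 25540105))) (BT.node (nat_lit 8997824) (BT.leaf (nat_lit 50140705)) (BT.leaf (nat_lit 25540125)))) (BT.node (nat_lit 8998144) (BT.node (nat_lit 8998016) (BT.leaf (nat_lit 36786709)) (BT.leaf (nat_lit 25541905))) (BT.node (nat_lit 8998208) (BT.leaf (nat_lit 25542417)) (BT.leaf (nat_lit 25543193))))) (BT.node (nat_lit 8998848) (BT.node (nat_lit 8998528) (BT.node (nat_lit 8998400) (BT.leaf (nat_lit 25543969)) (BT.leaf (nat_lit 25544465))) (BT.node (nat_lit 8998720) (BT.leaf (nat_lit 25547537)) (BT.leaf (nat_lit 51809541)))) (BT.node (nat_lit 8999040) (BT.node (nat_lit 8998912) (BT.leaf (nat_lit 49929745)) (BT.leaf (nat_lit 33787409))) (BT.node (nat_lit 8999104) (BT.leaf (nat_lit 25551889)) (BT.leaf (nat_lit 25552401)))))))))) (BT.node (nat_lit 9012224) (BT.node (nat_lit 9005248) (BT.node (nat_lit 9002432) (BT.node (nat_lit 9000832) (BT.node (nat_lit 8999680) (BT.node (nat_lit 8999424) (BT.node (nat_lit 8999296) (BT.node (nat_lit 8999232) (BT.leaf (nat_lit 25552913)) (BT.leaf (nat_lit 25553173))) (BT.node (nat_lit 8999360) (BT.leaf (nat_lit 25553177)) (BT.leaf (nat_lit 25553433)))) (BT.node (nat_lit 8999552) (BT.node (nat_lit 8999488) (BT.leaf (nat_lit 34071045)) (BT.leaf (nat_lit 25553945))) (BT.node (nat_lit 8999616) (BT.leaf (nat_lit 33691141)) (BT.leaf (nat_lit 27319829))))) (BT.node (nat_lit 9000064) (BT.node (nat_lit 8999808) (BT.node (nat_lit 8999744) (BT.leaf (nat_lit 25554961)) (BT.leaf (nat_lit 30839065))) (BT.node (nat_lit 9000000) (BT.leaf (nat_lit 34245125)) (BT.leaf (nat_lit 25556497)))) (BT.node (nat_lit 9000384) (BT.node (nat_lit 9000128) (BT.leaf (nat_lit 25556249)) (BT.leaf (nat_lit 25556253))) (BT.node (nat_lit 9000768) (BT.leaf (nat_lit 37164821)) (BT.leaf (nat_lit 51463689)))))) (BT.node (nat_lit 9001728) (BT.node (nat_lit 9001344) (BT.node (nat_lit 9001216) (BT.node (nat_lit 9000960) (BT.leaf (nat_lit 25561617)) (BT.leaf (nat_lit 25562897))) (BT.node (nat_lit 9001280) (BT.leaf (nat_lit 25563921)) (BT.leaf (nat_lit 26417681)))) (BT.node (nat_lit 9001600) (BT.node (nat_lit 9001472) (BT.leaf (nat_lit 26417425)) (BT.leaf (nat_lit 25565201))) (BT.node (nat_lit 9001664) (BT.leaf (nat_lit 35051021)) (BT.leaf (nat_lit 50181397))))) (BT.node (nat_lit 9002112) (BT.node (nat_lit 9001856) (BT.node (nat_lit 9001792) (BT.leaf (nat_lit 50314261)) (BT.leaf (nat_lit 35741721))) (BT.node (nat_lit 9001920) (BT.leaf (nat_lit 25999877)) (BT.leaf (nat_lit 51464993)))) (BT.node (nat_lit 9002304) (BT.node (nat_lit 9002176) (BT.leaf (nat_lit 51201293)) (BT.leaf (nat_lit 26350101))) (BT.node (nat_lit 9002368) (BT.leaf (nat_lit 25568529)) (BT.leaf (nat_lit 25568785))))))) (BT.node (nat_lit 9003776) (BT.node (nat_lit 9003200) (BT.node (nat_lit 9002816) (BT.node (nat_lit 9002560) (BT.node (nat_lit 9002496) (BT.leaf (nat_lit 25569297)) (BT.leaf (nat_lit 25569049))) (BT.node (nat_lit 9002688) (BT.leaf (nat_lit 25569053)) (BT.leaf (nat_lit 35876637)))) (BT.node (nat_lit 9003072) (BT.node (nat_lit 9002944) (BT.leaf (nat_lit 26232085)) (BT.leaf (nat_lit 37689361))) (BT.node (nat_lit 9003136) (BT.leaf (nat_lit 34151449)) (BT.leaf (nat_lit 34151453))))) (BT.node (nat_lit 9003520) (BT.node (nat_lit 9003328) (BT.node (nat_lit 9003264) (BT.leaf (nat_lit 34151457)) (BT.leaf (nat_lit 50243617))) (BT.node (nat_lit 9003392) (BT.leaf (nat_lit 43508513)) (BT.leaf (nat_lit 33859349)))) (BT.node (nat_lit 9003648) (BT.node (nat_lit 9003584) (BT.leaf (nat_lit 27758869)) (BT.leaf (nat_lit 26422289))) (BT.node (nat_lit 9003712) (BT.leaf (nat_lit 25572121)) (BT.leaf (nat_lit 50190101)))))) (BT.node (nat_lit 9004608) (BT.node (nat_lit 9004352) (BT.node (nat_lit 9004224) (BT.node (nat_lit 9004160) (BT.leaf (nat_lit 25573137)) (BT.leaf (nat_lit 25572881))) (BT.node (nat_lit 9004288) (BT.leaf (nat_lit 37076765)) (BT.leaf (nat_lit 25573405)))) (BT.node (nat_lit 9004480) (BT.node (nat_lit 9004416) (BT.leaf (nat_lit 25573653)) (BT.leaf (nat_lit 25573905))) (BT.node (nat_lit 9004544) (BT.leaf (nat_lit 25573909)) (BT.leaf (nat_lit 49961761))))) (BT.node (nat_lit 9004864) (BT.node (nat_lit 9004736) (BT.node (nat_lit 9004672) (BT.leaf (nat_lit 51167761)) (BT.leaf (nat_lit 25575189))) (BT.node (nat_lit 9004800) (BT.leaf (nat_lit 51141905)) (BT.leaf (nat_lit 25575701)))) (BT.node (nat_lit 9004992) (BT.node (nat_lit 9004928) (BT.leaf (nat_lit 49865237)) (BT.leaf (nat_lit 51470625))) (BT.node (nat_lit 9005056) (BT.leaf (nat_lit 25576209)) (BT.leaf (nat_lit 25576465)))))))) (BT.node (nat_lit 9009088) (BT.node (nat_lit 9007104) (BT.node (nat_lit 9006272) (BT.node (nat_lit 9005888) (BT.node (nat_lit 9005696) (BT.node (nat_lit 9005312) (BT.leaf (nat_lit 25576733)) (BT.leaf (nat_lit 28577565))) (BT.node (nat_lit 9005760) (BT.leaf (nat_lit 25577489)) (BT.leaf (nat_lit 51472157)))) (BT.node (nat_lit 9006144) (BT.node (nat_lit 9006016) (BT.leaf (nat_lit 35856917)) (BT.leaf (nat_lit 36582165))) (BT.node (nat_lit 9006208) (BT.leaf (nat_lit 51472649)) (BT.leaf (nat_lit 26165273))))) (BT.node (nat_lit 9006528) (BT.node (nat_lit 9006400) (BT.node (nat_lit 9006336) (BT.leaf (nat_lit 51472913)) (BT.leaf (nat_lit 50739461))) (BT.node (nat_lit 9006464) (BT.leaf (nat_lit 25580305)) (BT.leaf (nat_lit 25580309)))) (BT.node (nat_lit 9006912) (BT.node (nat_lit 9006592) (BT.leaf (nat_lit 51473673)) (BT.leaf (nat_lit 51474709))) (BT.node (nat_lit 9006976) (BT.leaf (nat_lit 51474961)) (BT.leaf (nat_lit 35059985)))))) (BT.node (nat_lit 9007680) (BT.node (nat_lit 9007424) (BT.node (nat_lit 9007296) (BT.node (nat_lit 9007168) (BT.leaf (nat_lit 25582865)) (BT.leaf (nat_lit 34725665))) (BT.node (nat_lit 9007360) (BT.leaf (nat_lit 51470105)) (BT.leaf (nat_lit 51148817)))) (BT.node (nat_lit 9007552) (BT.node (nat_lit 9007488) (BT.leaf (nat_lit 25584413)) (BT.leaf (nat_lit 51148821))) (BT.node (nat_lit 9007616) (BT.leaf (nat_lit 26559761)) (BT.leaf (nat_lit 25585169))))) (BT.node (nat_lit 9007936) (BT.node (nat_lit 9007808) (BT.node (nat_lit 9007744) (BT.leaf (nat_lit 35152673)) (BT.leaf (nat_lit 28513541))) (BT.node (nat_lit 9007872) (BT.leaf (nat_lit 25586193)) (BT.leaf (nat_lit 36174085)))) (BT.node (nat_lit 9008064) (BT.node (nat_lit 9008000) (BT.leaf (nat_lit 34472985)) (BT.leaf (nat_lit 25586709))) (BT.node (nat_lit 9008576) (BT.leaf (nat_lit 25587217)) (BT.leaf (nat_lit 51379725))))))) (BT.node (nat_lit 9011072) (BT.node (nat_lit 9010304) (BT.node (nat_lit 9009984) (BT.node (nat_lit 9009856) (BT.node (nat_lit 9009728) (BT.leaf (nat_lit 46334225)) (BT.leaf (nat_lit 33348357))) (BT.node (nat_lit 9009920) (BT.leaf (nat_lit 51479317)) (BT.leaf (nat_lit 35535385)))) (BT.node (nat_lit 9010176) (BT.node (nat_lit 9010048) (BT.leaf (nat_lit 35994137)) (BT.leaf (nat_lit 49911557))) (BT.node (nat_lit 9010240) (BT.leaf (nat_lit 46446597)) (BT.leaf (nat_lit 50735109))))) (BT.node (nat_lit 9010752) (BT.node (nat_lit 9010624) (BT.node (nat_lit 9010368) (BT.leaf (nat_lit 25593365)) (BT.leaf (nat_lit 27845909))) (BT.node (nat_lit 9010688) (BT.leaf (nat_lit 25594901)) (BT.leaf (nat_lit 25594909)))) (BT.node (nat_lit 9010944) (BT.node (nat_lit 9010880) (BT.leaf (nat_lit 46480665)) (BT.leaf (nat_lit 46955269))) (BT.node (nat_lit 9011008) (BT.leaf (nat_lit 51482393)) (BT.leaf (nat_lit 51481877)))))) (BT.node (nat_lit 9011648) (BT.node (nat_lit 9011328) (BT.node (nat_lit 9011200) (BT.node (nat_lit 9011136) (BT.leaf (nat_lit 25596437)) (BT.leaf (nat_lit 25596441))) (BT.node (nat_lit 9011264) (BT.leaf (nat_lit 25596445)) (BT.leaf (nat_lit 25596689)))) (BT.node (nat_lit 9011520) (BT.node (nat_lit 9011456) (BT.leaf (nat_lit 26841873)) (BT.leaf (nat_lit 25598241))) (BT.node (nat_lit 9011584) (BT.leaf (nat_lit 37484569)) (BT.leaf (nat_lit 51484441))))) (BT.node (nat_lit 9011968) (BT.node (nat_lit 9011840) (BT.node (nat_lit 9011776) (BT.leaf (nat_lit 25597457)) (BT.leaf (nat_lit 37484049))) (BT.node (nat_lit 9011904) (BT.leaf (nat_lit 51485469)) (BT.leaf (nat_lit 25598217)))) (BT.node (nat_lit 9012096) (BT.node (nat_lit 9012032) (BT.leaf (nat_lit 51484693)) (BT.leaf (nat_lit 25598233))) (BT.node (nat_lit 9012160) (BT.leaf (nat_lit 25598237)) (BT.leaf (nat_lit 25598481))))))))) (BT.node (nat_lit 9017984) (BT.node (nat_lit 9015104) (BT.node (nat_lit 9013568) (BT.node (nat_lit 9012800) (BT.node (nat_lit 9012480) (BT.node (nat_lit 9012352) (BT.node (nat_lit 9012288) (BT.leaf (nat_lit 25599009)) (BT.leaf (nat_lit 25599513))) (BT.node (nat_lit 9012416) (BT.leaf (nat_lit 25600017)) (BT.leaf (nat_lit 25600273)))) (BT.node (nat_lit 9012672) (BT.node (nat_lit 9012608) (BT.leaf (nat_lit 25601041)) (BT.leaf (nat_lit 50452001))) (BT.node (nat_lit 9012736) (BT.leaf (nat_lit 27332889)) (BT.leaf (nat_lit 25601553))))) (BT.node (nat_lit 9013312) (BT.node (nat_lit 9012992) (BT.node (nat_lit 9012928) (BT.leaf (nat_lit 25601557)) (BT.leaf (nat_lit 51487777))) (BT.node (nat_lit 9013184) (BT.leaf (nat_lit 46606625)) (BT.leaf (nat_lit 25604625)))) (BT.node (nat_lit 9013440) (BT.node (nat_lit 9013376) (BT.leaf (nat_lit 25605649)) (BT.leaf (nat_lit 46519313))) (BT.node (nat_lit 9013504) (BT.leaf (nat_lit 36692753)) (BT.leaf (nat_lit 25606149)))))) (BT.node (nat_lit 9014272) (BT.node (nat_lit 9013824) (BT.node (nat_lit 9013696) (BT.node (nat_lit 9013632) (BT.leaf (nat_lit 25606173)) (BT.leaf (nat_lit 25606673))) (BT.node (nat_lit 9013760) (BT.leaf (nat_lit 28214801)) (BT.leaf (nat_lit 36430873)))) (BT.node (nat_lit 9014144) (BT.node (nat_lit 9013888) (BT.leaf (nat_lit 50691093)) (BT.leaf (nat_lit 35923473))) (BT.node (nat_lit 9014208) (BT.leaf (nat_lit 25608465)) (BT.leaf (nat_lit 27224325))))) (BT.node (nat_lit 9014720) (BT.node (nat_lit 9014592) (BT.node (nat_lit 9014400) (BT.leaf (nat_lit 25608217)) (BT.leaf (nat_lit 27010321))) (BT.node (nat_lit 9014656) (BT.leaf (nat_lit 25608977)) (BT.leaf (nat_lit 36562969)))) (BT.node (nat_lit 9014976) (BT.node (nat_lit 9014912) (BT.leaf (nat_lit 37456157)) (BT.leaf (nat_lit 35373069))) (BT.node (nat_lit 9015040) (BT.leaf (nat_lit 25611025)) (BT.leaf (nat_lit 26278665))))))) (BT.node (nat_lit 9016768) (BT.node (nat_lit 9016192) (BT.node (nat_lit 9015616) (BT.node (nat_lit 9015488) (BT.node (nat_lit 9015296) (BT.leaf (nat_lit 25611537)) (BT.leaf (nat_lit 51481365))) (BT.node (nat_lit 9015552) (BT.leaf (nat_lit 47202565)) (BT.leaf (nat_lit 35555601)))) (BT.node (nat_lit 9016064) (BT.node (nat_lit 9015936) (BT.leaf (nat_lit 36046085)) (BT.leaf (nat_lit 25615893))) (BT.node (nat_lit 9016128) (BT.leaf (nat_lit 25615897)) (BT.leaf (nat_lit 25615901))))) (BT.node (nat_lit 9016512) (BT.node (nat_lit 9016384) (BT.node (nat_lit 9016320) (BT.leaf (nat_lit 25616657)) (BT.leaf (nat_lit 25617681))) (BT.node (nat_lit 9016448) (BT.leaf (nat_lit 33462037)) (BT.leaf (nat_lit 25618449)))) (BT.node (nat_lit 9016640) (BT.node (nat_lit 9016576) (BT.leaf (nat_lit 46854161)) (BT.leaf (nat_lit 25618713))) (BT.node (nat_lit 9016704) (BT.leaf (nat_lit 25618717)) (BT.leaf (nat_lit 25618949)))))) (BT.node (nat_lit 9017344) (BT.node (nat_lit 9017024) (BT.node (nat_lit 9016896) (BT.node (nat_lit 9016832) (BT.leaf (nat_lit 25618969)) (BT.leaf (nat_lit 25618973))) (BT.node (nat_lit 9016960) (BT.leaf (nat_lit 25619729)) (BT.leaf (nat_lit 25619481)))) (BT.node (nat_lit 9017152) (BT.node (nat_lit 9017088) (BT.leaf (nat_lit 25619485)) (BT.leaf (nat_lit 25619985))) (BT.node (nat_lit 9017216) (BT.leaf (nat_lit 46851085)) (BT.leaf (nat_lit 38901793))))) (BT.node (nat_lit 9017600) (BT.node (nat_lit 9017472) (BT.node (nat_lit 9017408) (BT.leaf (nat_lit 36989717)) (BT.leaf (nat_lit 36991753))) (BT.node (nat_lit 9017536) (BT.leaf (nat_lit 25621521)) (BT.leaf (nat_lit 25621777)))) (BT.node (nat_lit 9017792) (BT.node (nat_lit 9017728) (BT.leaf (nat_lit 36989469)) (BT.leaf (nat_lit 31568133))) (BT.node (nat_lit 9017920) (BT.leaf (nat_lit 33058057)) (BT.leaf (nat_lit 33931781)))))))) (BT.node (nat_lit 9020800) (BT.node (nat_lit 9019392) (BT.node (nat_lit 9018624) (BT.node (nat_lit 9018304) (BT.node (nat_lit 9018176) (BT.node (nat_lit 9018112) (BT.leaf (nat_lit 25622293)) (BT.leaf (nat_lit 35423765))) (BT.node (nat_lit 9018240) (BT.leaf (nat_lit 35530261)) (BT.leaf (nat_lit 35738389)))) (BT.node (nat_lit 9018432) (BT.node (nat_lit 9018368) (BT.leaf (nat_lit 36463877)) (BT.leaf (nat_lit 25623825))) (BT.node (nat_lit 9018496) (BT.leaf (nat_lit 25624337)) (BT.leaf (nat_lit 25624849))))) (BT.node (nat_lit 9019008) (BT.node (nat_lit 9018752) (BT.node (nat_lit 9018688) (BT.leaf (nat_lit 37108493)) (BT.leaf (nat_lit 51501345))) (BT.node (nat_lit 9018816) (BT.leaf (nat_lit 34626585)) (BT.leaf (nat_lit 50689049)))) (BT.node (nat_lit 9019200) (BT.node (nat_lit 9019072) (BT.leaf (nat_lit 47407893)) (BT.leaf (nat_lit 51502369))) (BT.node (nat_lit 9019328) (BT.leaf (nat_lit 33195013)) (BT.leaf (nat_lit 50514465)))))) (BT.node (nat_lit 9019904) (BT.node (nat_lit 9019648) (BT.node (nat_lit 9019520) (BT.node (nat_lit 9019456) (BT.leaf (nat_lit 37395993)) (BT.leaf (nat_lit 51379745))) (BT.node (nat_lit 9019584) (BT.leaf (nat_lit 25628945)) (BT.leaf (nat_lit 26248221)))) (BT.node (nat_lit 9019776) (BT.node (nat_lit 9019712) (BT.leaf (nat_lit 46566941)) (BT.leaf (nat_lit 25629461))) (BT.node (nat_lit 9019840) (BT.leaf (nat_lit 50353165)) (BT.leaf (nat_lit 25629977))))) (BT.node (nat_lit 9020288) (BT.node (nat_lit 9020096) (BT.node (nat_lit 9019968) (BT.leaf (nat_lit 25629981)) (BT.leaf (nat_lit 27147801))) (BT.node (nat_lit 9020224) (BT.leaf (nat_lit 37127713)) (BT.leaf (nat_lit 33557537)))) (BT.node (nat_lit 9020416) (BT.node (nat_lit 9020352) (BT.leaf (nat_lit 33584913)) (BT.leaf (nat_lit 31368981))) (BT.node (nat_lit 9020672) (BT.leaf (nat_lit 37156869)) (BT.leaf (nat_lit 51504397))))))) (BT.node (nat_lit 9023168) (BT.node (nat_lit 9022144) (BT.node (nat_lit 9021760) (BT.node (nat_lit 9021440) (BT.node (nat_lit 9021312) (BT.leaf (nat_lit 51505437)) (BT.leaf (nat_lit 25637649))) (BT.node (nat_lit 9021632) (BT.leaf (nat_lit 25637905)) (BT.leaf (nat_lit 50077473)))) (BT.node (nat_lit 9021952) (BT.node (nat_lit 9021888) (BT.leaf (nat_lit 26056465)) (BT.leaf (nat_lit 26056469))) (BT.node (nat_lit 9022080) (BT.leaf (nat_lit 33320981)) (BT.leaf (nat_lit 34434321))))) (BT.node (nat_lit 9022784) (BT.node (nat_lit 9022400) (BT.node (nat_lit 9022336) (BT.leaf (nat_lit 25984537)) (BT.leaf (nat_lit 25642005))) (BT.node (nat_lit 9022720) (BT.leaf (nat_lit 25642013)) (BT.leaf (nat_lit 48195861)))) (BT.node (nat_lit 9023040) (BT.node (nat_lit 9022912) (BT.leaf (nat_lit 50682897)) (BT.leaf (nat_lit 25644049))) (BT.node (nat_lit 9023104) (BT.leaf (nat_lit 36092445)) (BT.leaf (nat_lit 25729809)))))) (BT.node (nat_lit 9023872) (BT.node (nat_lit 9023552) (BT.node (nat_lit 9023424) (BT.node (nat_lit 9023296) (BT.leaf (nat_lit 36071713)) (BT.leaf (nat_lit 25729053))) (BT.node (nat_lit 9023488) (BT.leaf (nat_lit 25645841)) (BT.leaf (nat_lit 25646097)))) (BT.node (nat_lit 9023744) (BT.node (nat_lit 9023680) (BT.leaf (nat_lit 25647121)) (BT.leaf (nat_lit 25648917))) (BT.node (nat_lit 9023808) (BT.leaf (nat_lit 25771269)) (BT.leaf (nat_lit 25649425))))) (BT.node (nat_lit 9024384) (BT.node (nat_lit 9024128) (BT.node (nat_lit 9024000) (BT.leaf (nat_lit 26485017)) (BT.leaf (nat_lit 50305029))) (BT.node (nat_lit 9024256) (BT.leaf (nat_lit 27258385)) (BT.leaf (nat_lit 47567637)))) (BT.node (nat_lit 9024576) (BT.node (nat_lit 9024448) (BT.leaf (nat_lit 35664901)) (BT.leaf (nat_lit 25652241))) (BT.node (nat_lit 9024704) (BT.leaf (nat_lit 25653273)) (BT.leaf (nat_lit 49952517))))))))))) (BT.node (nat_lit 9048320) (BT.node (nat_lit 9036992) (BT.node (nat_lit 9030720) (BT.node (nat_lit 9027520) (BT.node (nat_lit 9025984) (BT.node (nat_lit 9025280) (BT.node (nat_lit 9025024) (BT.node (nat_lit 9024896) (BT.node (nat_lit 9024832) (BT.leaf (nat_lit 25653777)) (BT.leaf (nat_lit 25654033))) (BT.node (nat_lit 9024960) (BT.leaf (nat_lit 25654037)) (BT.leaf (nat_lit 36100125)))) (BT.node (nat_lit 9025152) (BT.node (nat_lit 9025088) (BT.leaf (nat_lit 25923089)) (BT.leaf (nat_lit 30950933))) (BT.node (nat_lit 9025216) (BT.leaf (nat_lit 50013457)) (BT.leaf (nat_lit 49438497))))) (BT.node (nat_lit 9025728) (BT.node (nat_lit 9025536) (BT.node (nat_lit 9025344) (BT.leaf (nat_lit 34129413)) (BT.leaf (nat_lit 34001413))) (BT.node (nat_lit 9025664) (BT.leaf (nat_lit 51515921)) (BT.leaf (nat_lit 29885713)))) (BT.node (nat_lit 9025856) (BT.node (nat_lit 9025792) (BT.leaf (nat_lit 26581793)) (BT.leaf (nat_lit 51516697))) (BT.node (nat_lit 9025920) (BT.leaf (nat_lit 26973981)) (BT.leaf (nat_lit 49888517)))))) (BT.node (nat_lit 9026880) (BT.node (nat_lit 9026432) (BT.node (nat_lit 9026240) (BT.node (nat_lit 9026176) (BT.leaf (nat_lit 37419029)) (BT.leaf (nat_lit 35632657))) (BT.node (nat_lit 9026368) (BT.leaf (nat_lit 25661201)) (BT.leaf (nat_lit 25661457)))) (BT.node (nat_lit 9026688) (BT.node (nat_lit 9026624) (BT.leaf (nat_lit 37421085)) (BT.leaf (nat_lit 29450517))) (BT.node (nat_lit 9026816) (BT.leaf (nat_lit 25663509)) (BT.leaf (nat_lit 25664533))))) (BT.node (nat_lit 9027200) (BT.node (nat_lit 9027008) (BT.node (nat_lit 9026944) (BT.leaf (nat_lit 25664785)) (BT.leaf (nat_lit 35991821))) (BT.node (nat_lit 9027136) (BT.leaf (nat_lit 51138821)) (BT.leaf (nat_lit 50854421)))) (BT.node (nat_lit 9027392) (BT.node (nat_lit 9027328) (BT.leaf (nat_lit 27071005)) (BT.leaf (nat_lit 37518621))) (BT.node (nat_lit 9027456) (BT.leaf (nat_lit 25945105)) (BT.leaf (nat_lit 25667857))))))) (BT.node (nat_lit 9029248) (BT.node (nat_lit 9028480) (BT.node (nat_lit 9028096) (BT.node (nat_lit 9027840) (BT.node (nat_lit 9027776) (BT.leaf (nat_lit 36272393)) (BT.leaf (nat_lit 46822681))) (BT.node (nat_lit 9028032) (BT.leaf (nat_lit 50247969)) (BT.leaf (nat_lit 51520017)))) (BT.node (nat_lit 9028224) (BT.node (nat_lit 9028160) (BT.leaf (nat_lit 25669893)) (BT.leaf (nat_lit 27175705))) (BT.node (nat_lit 9028416) (BT.leaf (nat_lit 36208149)) (BT.leaf (nat_lit 25670933))))) (BT.node (nat_lit 9028800) (BT.node (nat_lit 9028608) (BT.node (nat_lit 9028544) (BT.leaf (nat_lit 25670937)) (BT.leaf (nat_lit 25670941))) (BT.node (nat_lit 9028672) (BT.leaf (nat_lit 25671193)) (BT.leaf (nat_lit 51522081)))) (BT.node (nat_lit 9029056) (BT.node (nat_lit 9028992) (BT.leaf (nat_lit 27076373)) (BT.leaf (nat_lit 51427077))) (BT.node (nat_lit 9029184) (BT.leaf (nat_lit 25672469)) (BT.leaf (nat_lit 51243781)))))) (BT.node (nat_lit 9029888) (BT.node (nat_lit 9029568) (BT.node (nat_lit 9029440) (BT.node (nat_lit 9029312) (BT.leaf (nat_lit 36274721)) (BT.leaf (nat_lit 29538321))) (BT.node (nat_lit 9029504) (BT.leaf (nat_lit 36100637)) (BT.leaf (nat_lit 50013445)))) (BT.node (nat_lit 9029696) (BT.node (nat_lit 9029632) (BT.leaf (nat_lit 25674265)) (BT.leaf (nat_lit 33588257))) (BT.node (nat_lit 9029760) (BT.leaf (nat_lit 35358481)) (BT.leaf (nat_lit 40743697))))) (BT.node (nat_lit 9030400) (BT.node (nat_lit 9030080) (BT.node (nat_lit 9030016) (BT.leaf (nat_lit 33920533)) (BT.leaf (nat_lit 51526165))) (BT.node (nat_lit 9030336) (BT.leaf (nat_lit 36120089)) (BT.leaf (nat_lit 51527185)))) (BT.node (nat_lit 9030592) (BT.node (nat_lit 9030464) (BT.leaf (nat_lit 33522705)) (BT.leaf (nat_lit 51527709))) (BT.node (nat_lit 9030656) (BT.leaf (nat_lit 25678353)) (BT.leaf (nat_lit 25678609)))))))) (BT.node (nat_lit 9033792) (BT.node (nat_lit 9032256) (BT.node (nat_lit 9031488) (BT.node (nat_lit 9031104) (BT.node (nat_lit 9030912) (BT.node (nat_lit 9030848) (BT.leaf (nat_lit 25679381)) (BT.leaf (nat_lit 25690385))) (BT.node (nat_lit 9031040) (BT.leaf (nat_lit 51520021)) (BT.leaf (nat_lit 25681681)))) (BT.node (nat_lit 9031232) (BT.node (nat_lit 9031168) (BT.leaf (nat_lit 50251781)) (BT.leaf (nat_lit 25682193))) (BT.node (nat_lit 9031424) (BT.leaf (nat_lit 27969049)) (BT.leaf (nat_lit 26520597))))) (BT.node (nat_lit 9031936) (BT.node (nat_lit 9031680) (BT.node (nat_lit 9031616) (BT.leaf (nat_lit 36125721)) (BT.leaf (nat_lit 29592085))) (BT.node (nat_lit 9031872) (BT.leaf (nat_lit 25684497)) (BT.leaf (nat_lit 36715013)))) (BT.node (nat_lit 9032064) (BT.node (nat_lit 9032000) (BT.leaf (nat_lit 33144853)) (BT.leaf (nat_lit 26953489))) (BT.node (nat_lit 9032192) (BT.leaf (nat_lit 49981957)) (BT.leaf (nat_lit 37563665)))))) (BT.node (nat_lit 9033152) (BT.node (nat_lit 9032640) (BT.node (nat_lit 9032512) (BT.node (nat_lit 9032448) (BT.leaf (nat_lit 26953493)) (BT.leaf (nat_lit 25687577))) (BT.node (nat_lit 9032576) (BT.leaf (nat_lit 25687837)) (BT.leaf (nat_lit 51532321)))) (BT.node (nat_lit 9032768) (BT.node (nat_lit 9032704) (BT.leaf (nat_lit 25688849)) (BT.leaf (nat_lit 34468373))) (BT.node (nat_lit 9032832) (BT.leaf (nat_lit 25689369)) (BT.leaf (nat_lit 32787473))))) (BT.node (nat_lit 9033472) (BT.node (nat_lit 9033280) (BT.node (nat_lit 9033216) (BT.leaf (nat_lit 36209925)) (BT.leaf (nat_lit 50062625))) (BT.node (nat_lit 9033408) (BT.leaf (nat_lit 25692177)) (BT.leaf (nat_lit 39683333)))) (BT.node (nat_lit 9033664) (BT.node (nat_lit 9033600) (BT.leaf (nat_lit 34214433)) (BT.leaf (nat_lit 49974533))) (BT.node (nat_lit 9033728) (BT.leaf (nat_lit 25692949)) (BT.leaf (nat_lit 25692953))))))) (BT.node (nat_lit 9035456) (BT.node (nat_lit 9034752) (BT.node (nat_lit 9034304) (BT.node (nat_lit 9034176) (BT.node (nat_lit 9033920) (BT.leaf (nat_lit 25692957)) (BT.leaf (nat_lit 25693973))) (BT.node (nat_lit 9034240) (BT.leaf (nat_lit 25696273)) (BT.leaf (nat_lit 36941837)))) (BT.node (nat_lit 9034496) (BT.node (nat_lit 9034432) (BT.leaf (nat_lit 51538973)) (BT.leaf (nat_lit 25697813))) (BT.node (nat_lit 9034560) (BT.leaf (nat_lit 25698833)) (BT.leaf (nat_lit 25699089))))) (BT.node (nat_lit 9035072) (BT.node (nat_lit 9034880) (BT.node (nat_lit 9034816) (BT.leaf (nat_lit 48267041)) (BT.leaf (nat_lit 25700381))) (BT.node (nat_lit 9034944) (BT.leaf (nat_lit 25700625)) (BT.leaf (nat_lit 25701137)))) (BT.node (nat_lit 9035200) (BT.node (nat_lit 9035136) (BT.leaf (nat_lit 36140573)) (BT.leaf (nat_lit 33120529))) (BT.node (nat_lit 9035328) (BT.leaf (nat_lit 36462113)) (BT.leaf (nat_lit 36726553)))))) (BT.node (nat_lit 9036096) (BT.node (nat_lit 9035840) (BT.node (nat_lit 9035712) (BT.node (nat_lit 9035520) (BT.leaf (nat_lit 35041029)) (BT.leaf (nat_lit 25703953))) (BT.node (nat_lit 9035776) (BT.leaf (nat_lit 25704481)) (BT.leaf (nat_lit 51543321)))) (BT.node (nat_lit 9035968) (BT.node (nat_lit 9035904) (BT.leaf (nat_lit 36143645)) (BT.leaf (nat_lit 26852881))) (BT.node (nat_lit 9036032) (BT.leaf (nat_lit 51544337)) (BT.leaf (nat_lit 51544597))))) (BT.node (nat_lit 9036544) (BT.node (nat_lit 9036352) (BT.node (nat_lit 9036288) (BT.leaf (nat_lit 25705233)) (BT.leaf (nat_lit 27311385))) (BT.node (nat_lit 9036480) (BT.leaf (nat_lit 28235013)) (BT.leaf (nat_lit 25706513)))) (BT.node (nat_lit 9036800) (BT.node (nat_lit 9036672) (BT.leaf (nat_lit 25707269)) (BT.leaf (nat_lit 51546897))) (BT.node (nat_lit 9036928) (BT.leaf (nat_lit 25707541)) (BT.leaf (nat_lit 31924741))))))))) (BT.node (nat_lit 9042240) (BT.node (nat_lit 9039680) (BT.node (nat_lit 9038272) (BT.node (nat_lit 9037760) (BT.node (nat_lit 9037312) (BT.node (nat_lit 9037120) (BT.node (nat_lit 9037056) (BT.leaf (nat_lit 25709329)) (BT.leaf (nat_lit 26541333))) (BT.node (nat_lit 9037184) (BT.leaf (nat_lit 36148233)) (BT.leaf (nat_lit 35838741)))) (BT.node (nat_lit 9037568) (BT.node (nat_lit 9037504) (BT.leaf (nat_lit 47404565)) (BT.leaf (nat_lit 38190349))) (BT.node (nat_lit 9037632) (BT.leaf (nat_lit 29819681)) (BT.leaf (nat_lit 47264801))))) (BT.node (nat_lit 9038016) (BT.node (nat_lit 9037888) (BT.node (nat_lit 9037824) (BT.leaf (nat_lit 25712657)) (BT.leaf (nat_lit 51550225))) (BT.node (nat_lit 9037952) (BT.leaf (nat_lit 25713177)) (BT.leaf (nat_lit 25713181)))) (BT.node (nat_lit 9038144) (BT.node (nat_lit 9038080) (BT.leaf (nat_lit 25713425)) (BT.leaf (nat_lit 36667925))) (BT.node (nat_lit 9038208) (BT.leaf (nat_lit 25714193)) (BT.leaf (nat_lit 25715225)))))) (BT.node (nat_lit 9038976) (BT.node (nat_lit 9038592) (BT.node (nat_lit 9038464) (BT.node (nat_lit 9038336) (BT.leaf (nat_lit 25715229)) (BT.leaf (nat_lit 27355153))) (BT.node (nat_lit 9038528) (BT.leaf (nat_lit 25715733)) (BT.leaf (nat_lit 29387797)))) (BT.node (nat_lit 9038720) (BT.node (nat_lit 9038656) (BT.leaf (nat_lit 37211937)) (BT.leaf (nat_lit 36153881))) (BT.node (nat_lit 9038784) (BT.leaf (nat_lit 25716753)) (BT.leaf (nat_lit 25716769))))) (BT.node (nat_lit 9039424) (BT.node (nat_lit 9039232) (BT.node (nat_lit 9039168) (BT.leaf (nat_lit 49905673)) (BT.leaf (nat_lit 25718289))) (BT.node (nat_lit 9039296) (BT.leaf (nat_lit 27503133)) (BT.leaf (nat_lit 33272861)))) (BT.node (nat_lit 9039552) (BT.node (nat_lit 9039488) (BT.leaf (nat_lit 25719313)) (BT.leaf (nat_lit 25719825))) (BT.node (nat_lit 9039616) (BT.leaf (nat_lit 51554073)) (BT.leaf (nat_lit 26904605))))))) (BT.node (nat_lit 9041024) (BT.node (nat_lit 9040320) (BT.node (nat_lit 9039936) (BT.node (nat_lit 9039808) (BT.node (nat_lit 9039744) (BT.leaf (nat_lit 51553813)) (BT.leaf (nat_lit 47534877))) (BT.node (nat_lit 9039872) (BT.leaf (nat_lit 25721109)) (BT.leaf (nat_lit 25721113)))) (BT.node (nat_lit 9040064) (BT.node (nat_lit 9040000) (BT.leaf (nat_lit 25721117)) (BT.leaf (nat_lit 25721361))) (BT.node (nat_lit 9040256) (BT.leaf (nat_lit 40812833)) (BT.leaf (nat_lit 33064993))))) (BT.node (nat_lit 9040640) (BT.node (nat_lit 9040512) (BT.node (nat_lit 9040384) (BT.leaf (nat_lit 50739741)) (BT.leaf (nat_lit 50739721))) (BT.node (nat_lit 9040576) (BT.leaf (nat_lit 33064973)) (BT.leaf (nat_lit 51559193)))) (BT.node (nat_lit 9040768) (BT.node (nat_lit 9040704) (BT.leaf (nat_lit 25723157)) (BT.leaf (nat_lit 46992921))) (BT.node (nat_lit 9040960) (BT.leaf (nat_lit 25723413)) (BT.leaf (nat_lit 25724945)))))) (BT.node (nat_lit 9041728) (BT.node (nat_lit 9041408) (BT.node (nat_lit 9041216) (BT.node (nat_lit 9041152) (BT.leaf (nat_lit 25725201)) (BT.leaf (nat_lit 25725713))) (BT.node (nat_lit 9041344) (BT.leaf (nat_lit 25725977)) (BT.leaf (nat_lit 36165645)))) (BT.node (nat_lit 9041600) (BT.node (nat_lit 9041536) (BT.leaf (nat_lit 35406613)) (BT.leaf (nat_lit 25726497))) (BT.node (nat_lit 9041664) (BT.leaf (nat_lit 35839001)) (BT.leaf (nat_lit 50229781))))) (BT.node (nat_lit 9041984) (BT.node (nat_lit 9041856) (BT.node (nat_lit 9041792) (BT.leaf (nat_lit 50754821)) (BT.leaf (nat_lit 51563013))) (BT.node (nat_lit 9041920) (BT.leaf (nat_lit 25727517)) (BT.leaf (nat_lit 37157653)))) (BT.node (nat_lit 9042112) (BT.node (nat_lit 9042048) (BT.leaf (nat_lit 37157637)) (BT.leaf (nat_lit 51564549))) (BT.node (nat_lit 9042176) (BT.leaf (nat_lit 25727773)) (BT.leaf (nat_lit 51565333)))))))) (BT.node (nat_lit 9045248) (BT.node (nat_lit 9043904) (BT.node (nat_lit 9042944) (BT.node (nat_lit 9042560) (BT.node (nat_lit 9042432) (BT.node (nat_lit 9042368) (BT.leaf (nat_lit 51565845)) (BT.leaf (nat_lit 25729305))) (BT.node (nat_lit 9042496) (BT.leaf (nat_lit 25729309)) (BT.leaf (nat_lit 26663965)))) (BT.node (nat_lit 9042816) (BT.node (nat_lit 9042624) (BT.leaf (nat_lit 25730333)) (BT.leaf (nat_lit 33424133))) (BT.node (nat_lit 9042880) (BT.leaf (nat_lit 46326809)) (BT.leaf (nat_lit 25733393))))) (BT.node (nat_lit 9043392) (BT.node (nat_lit 9043072) (BT.node (nat_lit 9043008) (BT.leaf (nat_lit 25733141)) (BT.leaf (nat_lit 51566853))) (BT.node (nat_lit 9043200) (BT.leaf (nat_lit 25733149)) (BT.leaf (nat_lit 34944789)))) (BT.node (nat_lit 9043520) (BT.node (nat_lit 9043456) (BT.leaf (nat_lit 36301317)) (BT.leaf (nat_lit 49968405))) (BT.node (nat_lit 9043776) (BT.leaf (nat_lit 33350673)) (BT.leaf (nat_lit 37374725)))))) (BT.node (nat_lit 9044736) (BT.node (nat_lit 9044288) (BT.node (nat_lit 9044160) (BT.node (nat_lit 9043968) (BT.leaf (nat_lit 37381145)) (BT.leaf (nat_lit 26816785))) (BT.node (nat_lit 9044224) (BT.leaf (nat_lit 51568913)) (BT.leaf (nat_lit 25739537)))) (BT.node (nat_lit 9044544) (BT.node (nat_lit 9044480) (BT.leaf (nat_lit 26824985)) (BT.leaf (nat_lit 25741341))) (BT.node (nat_lit 9044608) (BT.leaf (nat_lit 25741585)) (BT.leaf (nat_lit 25742097))))) (BT.node (nat_lit 9044992) (BT.node (nat_lit 9044864) (BT.node (nat_lit 9044800) (BT.leaf (nat_lit 51570205)) (BT.leaf (nat_lit 25742877))) (BT.node (nat_lit 9044928) (BT.leaf (nat_lit 25743377)) (BT.leaf (nat_lit 25743637)))) (BT.node (nat_lit 9045120) (BT.node (nat_lit 9045056) (BT.leaf (nat_lit 25743641)) (BT.leaf (nat_lit 25743645))) (BT.node (nat_lit 9045184) (BT.leaf (nat_lit 29132053)) (BT.leaf (nat_lit 51572741))))))) (BT.node (nat_lit 9046976) (BT.node (nat_lit 9046144) (BT.node (nat_lit 9045696) (BT.node (nat_lit 9045440) (BT.node (nat_lit 9045312) (BT.leaf (nat_lit 25744157)) (BT.leaf (nat_lit 27259421))) (BT.node (nat_lit 9045632) (BT.leaf (nat_lit 26922769)) (BT.leaf (nat_lit 36829201)))) (BT.node (nat_lit 9045824) (BT.node (nat_lit 9045760) (BT.leaf (nat_lit 34774809)) (BT.leaf (nat_lit 51575069))) (BT.node (nat_lit 9046080) (BT.leaf (nat_lit 25747205)) (BT.leaf (nat_lit 33267989))))) (BT.node (nat_lit 9046464) (BT.node (nat_lit 9046272) (BT.node (nat_lit 9046208) (BT.leaf (nat_lit 27224837)) (BT.leaf (nat_lit 50998797))) (BT.node (nat_lit 9046400) (BT.leaf (nat_lit 51307785)) (BT.leaf (nat_lit 25748497)))) (BT.node (nat_lit 9046592) (BT.node (nat_lit 9046528) (BT.leaf (nat_lit 51576069)) (BT.leaf (nat_lit 25748253))) (BT.node (nat_lit 9046912) (BT.leaf (nat_lit 25749265)) (BT.leaf (nat_lit 25752081)))))) (BT.node (nat_lit 9047616) (BT.node (nat_lit 9047296) (BT.node (nat_lit 9047168) (BT.node (nat_lit 9047040) (BT.leaf (nat_lit 51577105)) (BT.leaf (nat_lit 51577873))) (BT.node (nat_lit 9047232) (BT.leaf (nat_lit 35554069)) (BT.leaf (nat_lit 29602577)))) (BT.node (nat_lit 9047488) (BT.node (nat_lit 9047360) (BT.leaf (nat_lit 51578629)) (BT.leaf (nat_lit 25753361))) (BT.node (nat_lit 9047552) (BT.leaf (nat_lit 50678813)) (BT.leaf (nat_lit 25755409))))) (BT.node (nat_lit 9048000) (BT.node (nat_lit 9047872) (BT.node (nat_lit 9047808) (BT.leaf (nat_lit 29769749)) (BT.leaf (nat_lit 25756433))) (BT.node (nat_lit 9047936) (BT.leaf (nat_lit 25756693)) (BT.leaf (nat_lit 25756945)))) (BT.node (nat_lit 9048192) (BT.node (nat_lit 9048064) (BT.leaf (nat_lit 25757457)) (BT.leaf (nat_lit 51580689))) (BT.node (nat_lit 9048256) (BT.leaf (nat_lit 25758481)) (BT.leaf (nat_lit 36057629)))))))))) (BT.node (nat_lit 9059200) (BT.node (nat_lit 9053056) (BT.node (nat_lit 9050688) (BT.node (nat_lit 9049536) (BT.node (nat_lit 9048960) (BT.node (nat_lit 9048704) (BT.node (nat_lit 9048448) (BT.node (nat_lit 9048384) (BT.leaf (nat_lit 26581777)) (BT.leaf (nat_lit 51581457))) (BT.node (nat_lit 9048640) (BT.leaf (nat_lit 25759001)) (BT.leaf (nat_lit 50661637)))) (BT.node (nat_lit 9048832) (BT.node (nat_lit 9048768) (BT.leaf (nat_lit 25759769)) (BT.leaf (nat_lit 25759773))) (BT.node (nat_lit 9048896) (BT.leaf (nat_lit 47212805)) (BT.leaf (nat_lit 25760785))))) (BT.node (nat_lit 9049216) (BT.node (nat_lit 9049088) (BT.node (nat_lit 9049024) (BT.leaf (nat_lit 50208801)) (BT.leaf (nat_lit 25761053))) (BT.node (nat_lit 9049152) (BT.leaf (nat_lit 25761297)) (BT.leaf (nat_lit 48366113)))) (BT.node (nat_lit 9049344) (BT.node (nat_lit 9049280) (BT.leaf (nat_lit 25761561)) (BT.leaf (nat_lit 25761565))) (BT.node (nat_lit 9049472) (BT.leaf (nat_lit 25761809)) (BT.leaf (nat_lit 52064261)))))) (BT.node (nat_lit 9050176) (BT.node (nat_lit 9049856) (BT.node (nat_lit 9049728) (BT.node (nat_lit 9049664) (BT.leaf (nat_lit 25762329)) (BT.leaf (nat_lit 25762577))) (BT.node (nat_lit 9049792) (BT.leaf (nat_lit 37587717)) (BT.leaf (nat_lit 25763605)))) (BT.node (nat_lit 9050048) (BT.node (nat_lit 9049984) (BT.leaf (nat_lit 25763857)) (BT.leaf (nat_lit 25764373))) (BT.node (nat_lit 9050112) (BT.leaf (nat_lit 25764625)) (BT.leaf (nat_lit 25764641))))) (BT.node (nat_lit 9050432) (BT.node (nat_lit 9050304) (BT.node (nat_lit 9050240) (BT.leaf (nat_lit 26256645)) (BT.leaf (nat_lit 51589649))) (BT.node (nat_lit 9050368) (BT.leaf (nat_lit 35694085)) (BT.leaf (nat_lit 25767953)))) (BT.node (nat_lit 9050560) (BT.node (nat_lit 9050496) (BT.leaf (nat_lit 25768473)) (BT.leaf (nat_lit 25768477))) (BT.node (nat_lit 9050624) (BT.leaf (nat_lit 25768725)) (BT.leaf (nat_lit 25769233))))))) (BT.node (nat_lit 9051840) (BT.node (nat_lit 9051264) (BT.node (nat_lit 9051008) (BT.node (nat_lit 9050880) (BT.node (nat_lit 9050752) (BT.leaf (nat_lit 25769249)) (BT.leaf (nat_lit 48974361))) (BT.node (nat_lit 9050944) (BT.leaf (nat_lit 25771037)) (BT.leaf (nat_lit 25771281)))) (BT.node (nat_lit 9051136) (BT.node (nat_lit 9051072) (BT.leaf (nat_lit 35456541)) (BT.leaf (nat_lit 25772561))) (BT.node (nat_lit 9051200) (BT.leaf (nat_lit 25773085)) (BT.leaf (nat_lit 50781457))))) (BT.node (nat_lit 9051584) (BT.node (nat_lit 9051456) (BT.node (nat_lit 9051328) (BT.leaf (nat_lit 50378781)) (BT.leaf (nat_lit 25773841))) (BT.node (nat_lit 9051520) (BT.leaf (nat_lit 27032337)) (BT.leaf (nat_lit 25775137)))) (BT.node (nat_lit 9051712) (BT.node (nat_lit 9051648) (BT.leaf (nat_lit 30033413)) (BT.leaf (nat_lit 25775381))) (BT.node (nat_lit 9051776) (BT.leaf (nat_lit 25775637)) (BT.leaf (nat_lit 35854877)))))) (BT.node (nat_lit 9052416) (BT.node (nat_lit 9052160) (BT.node (nat_lit 9052032) (BT.node (nat_lit 9051904) (BT.leaf (nat_lit 25775889)) (BT.leaf (nat_lit 44731677))) (BT.node (nat_lit 9052096) (BT.leaf (nat_lit 25777169)) (BT.leaf (nat_lit 25777429)))) (BT.node (nat_lit 9052288) (BT.node (nat_lit 9052224) (BT.leaf (nat_lit 25777437)) (BT.leaf (nat_lit 25777681))) (BT.node (nat_lit 9052352) (BT.leaf (nat_lit 25778449)) (BT.leaf (nat_lit 25777945))))) (BT.node (nat_lit 9052800) (BT.node (nat_lit 9052544) (BT.node (nat_lit 9052480) (BT.leaf (nat_lit 25777949)) (BT.leaf (nat_lit 25778193))) (BT.node (nat_lit 9052608) (BT.leaf (nat_lit 25778961)) (BT.leaf (nat_lit 25779733)))) (BT.node (nat_lit 9052928) (BT.node (nat_lit 9052864) (BT.leaf (nat_lit 34826009)) (BT.leaf (nat_lit 49653277))) (BT.node (nat_lit 9052992) (BT.leaf (nat_lit 34825997)) (BT.leaf (nat_lit 25781265)))))))) (BT.node (nat_lit 9056192) (BT.node (nat_lit 9054208) (BT.node (nat_lit 9053632) (BT.node (nat_lit 9053312) (BT.node (nat_lit 9053184) (BT.node (nat_lit 9053120) (BT.leaf (nat_lit 25781777)) (BT.leaf (nat_lit 25782545))) (BT.node (nat_lit 9053248) (BT.leaf (nat_lit 51597069)) (BT.leaf (nat_lit 36235533)))) (BT.node (nat_lit 9053504) (BT.node (nat_lit 9053376) (BT.leaf (nat_lit 25782813)) (BT.leaf (nat_lit 35578885))) (BT.node (nat_lit 9053568) (BT.leaf (nat_lit 50012957)) (BT.leaf (nat_lit 25783301))))) (BT.node (nat_lit 9053888) (BT.node (nat_lit 9053760) (BT.node (nat_lit 9053696) (BT.leaf (nat_lit 25783325)) (BT.leaf (nat_lit 25784337))) (BT.node (nat_lit 9053824) (BT.leaf (nat_lit 26388249)) (BT.leaf (nat_lit 35333129)))) (BT.node (nat_lit 9054080) (BT.node (nat_lit 9054016) (BT.leaf (nat_lit 49528341)) (BT.leaf (nat_lit 49520149))) (BT.node (nat_lit 9054144) (BT.leaf (nat_lit 31478809)) (BT.leaf (nat_lit 25785873)))))) (BT.node (nat_lit 9055168) (BT.node (nat_lit 9054912) (BT.node (nat_lit 9054592) (BT.node (nat_lit 9054272) (BT.leaf (nat_lit 48731165)) (BT.leaf (nat_lit 35358473))) (BT.node (nat_lit 9054848) (BT.leaf (nat_lit 25787409)) (BT.leaf (nat_lit 25787925)))) (BT.node (nat_lit 9055040) (BT.node (nat_lit 9054976) (BT.leaf (nat_lit 34288913)) (BT.leaf (nat_lit 25789457))) (BT.node (nat_lit 9055104) (BT.leaf (nat_lit 25789713)) (BT.leaf (nat_lit 25790225))))) (BT.node (nat_lit 9055680) (BT.node (nat_lit 9055552) (BT.node (nat_lit 9055296) (BT.leaf (nat_lit 51599905)) (BT.leaf (nat_lit 32472341))) (BT.node (nat_lit 9055616) (BT.leaf (nat_lit 27190545)) (BT.leaf (nat_lit 36222233)))) (BT.node (nat_lit 9055936) (BT.node (nat_lit 9055872) (BT.leaf (nat_lit 35771677)) (BT.leaf (nat_lit 37114401))) (BT.node (nat_lit 9056064) (BT.leaf (nat_lit 51246609)) (BT.leaf (nat_lit 51562773))))))) (BT.node (nat_lit 9058176) (BT.node (nat_lit 9057536) (BT.node (nat_lit 9056448) (BT.node (nat_lit 9056320) (BT.node (nat_lit 9056256) (BT.leaf (nat_lit 51603221)) (BT.leaf (nat_lit 49124881))) (BT.node (nat_lit 9056384) (BT.leaf (nat_lit 50112773)) (BT.leaf (nat_lit 51604001)))) (BT.node (nat_lit 9056768) (BT.node (nat_lit 9056576) (BT.leaf (nat_lit 34594309)) (BT.leaf (nat_lit 25795613))) (BT.node (nat_lit 9057472) (BT.leaf (nat_lit 35284757)) (BT.leaf (nat_lit 36245525))))) (BT.node (nat_lit 9057920) (BT.node (nat_lit 9057664) (BT.node (nat_lit 9057600) (BT.leaf (nat_lit 25798673)) (BT.leaf (nat_lit 25810973))) (BT.node (nat_lit 9057856) (BT.leaf (nat_lit 50844689)) (BT.leaf (nat_lit 25799441)))) (BT.node (nat_lit 9058048) (BT.node (nat_lit 9057984) (BT.leaf (nat_lit 25799701)) (BT.leaf (nat_lit 47259653))) (BT.node (nat_lit 9058112) (BT.leaf (nat_lit 46307361)) (BT.leaf (nat_lit 25799961)))))) (BT.node (nat_lit 9058688) (BT.node (nat_lit 9058432) (BT.node (nat_lit 9058304) (BT.node (nat_lit 9058240) (BT.leaf (nat_lit 25800221)) (BT.leaf (nat_lit 25800721))) (BT.node (nat_lit 9058368) (BT.leaf (nat_lit 32267013)) (BT.leaf (nat_lit 35197469)))) (BT.node (nat_lit 9058560) (BT.node (nat_lit 9058496) (BT.leaf (nat_lit 25801489)) (BT.leaf (nat_lit 25801493))) (BT.node (nat_lit 9058624) (BT.leaf (nat_lit 25894425)) (BT.leaf (nat_lit 25802529))))) (BT.node (nat_lit 9058944) (BT.node (nat_lit 9058816) (BT.node (nat_lit 9058752) (BT.leaf (nat_lit 25802521)) (BT.leaf (nat_lit 25802525))) (BT.node (nat_lit 9058880) (BT.leaf (nat_lit 27294737)) (BT.leaf (nat_lit 44461845)))) (BT.node (nat_lit 9059072) (BT.node (nat_lit 9059008) (BT.leaf (nat_lit 51375381)) (BT.leaf (nat_lit 25803281))) (BT.node (nat_lit 9059136) (BT.leaf (nat_lit 25803545)) (BT.leaf (nat_lit 25803549))))))))) (BT.node (nat_lit 9065472) (BT.node (nat_lit 9062208) (BT.node (nat_lit 9060864) (BT.node (nat_lit 9059968) (BT.node (nat_lit 9059648) (BT.node (nat_lit 9059456) (BT.node (nat_lit 9059392) (BT.leaf (nat_lit 51608341)) (BT.leaf (nat_lit 27751197))) (BT.node (nat_lit 9059584) (BT.leaf (nat_lit 50130181)) (BT.leaf (nat_lit 51610401)))) (BT.node (nat_lit 9059840) (BT.node (nat_lit 9059776) (BT.leaf (nat_lit 25806609)) (BT.leaf (nat_lit 25807121))) (BT.node (nat_lit 9059904) (BT.leaf (nat_lit 25807125)) (BT.leaf (nat_lit 35697681))))) (BT.node (nat_lit 9060416) (BT.node (nat_lit 9060288) (BT.node (nat_lit 9060224) (BT.leaf (nat_lit 51611677)) (BT.leaf (nat_lit 51612421))) (BT.node (nat_lit 9060352) (BT.leaf (nat_lit 25809437)) (BT.leaf (nat_lit 25810705)))) (BT.node (nat_lit 9060672) (BT.node (nat_lit 9060480) (BT.leaf (nat_lit 51595285)) (BT.leaf (nat_lit 50861329))) (BT.node (nat_lit 9060800) (BT.leaf (nat_lit 51614741)) (BT.leaf (nat_lit 25813273)))))) (BT.node (nat_lit 9061504) (BT.node (nat_lit 9061184) (BT.node (nat_lit 9060992) (BT.node (nat_lit 9060928) (BT.leaf (nat_lit 48332549)) (BT.leaf (nat_lit 49854469))) (BT.node (nat_lit 9061120) (BT.leaf (nat_lit 25813521)) (BT.leaf (nat_lit 25813777)))) (BT.node (nat_lit 9061376) (BT.node (nat_lit 9061248) (BT.leaf (nat_lit 31912969)) (BT.leaf (nat_lit 34447645))) (BT.node (nat_lit 9061440) (BT.leaf (nat_lit 36350725)) (BT.leaf (nat_lit 36350469))))) (BT.node (nat_lit 9061760) (BT.node (nat_lit 9061632) (BT.node (nat_lit 9061568) (BT.leaf (nat_lit 25817109)) (BT.leaf (nat_lit 25817361))) (BT.node (nat_lit 9061696) (BT.leaf (nat_lit 25817621)) (BT.leaf (nat_lit 25817629)))) (BT.node (nat_lit 9062080) (BT.node (nat_lit 9061824) (BT.leaf (nat_lit 34842389)) (BT.leaf (nat_lit 51608337))) (BT.node (nat_lit 9062144) (BT.leaf (nat_lit 48890385)) (BT.leaf (nat_lit 50853149))))))) (BT.node (nat_lit 9063488) (BT.node (nat_lit 9062848) (BT.node (nat_lit 9062592) (BT.node (nat_lit 9062464) (BT.node (nat_lit 9062272) (BT.leaf (nat_lit 43035397)) (BT.leaf (nat_lit 25821209))) (BT.node (nat_lit 9062528) (BT.leaf (nat_lit 25821981)) (BT.leaf (nat_lit 50864913)))) (BT.node (nat_lit 9062720) (BT.node (nat_lit 9062656) (BT.leaf (nat_lit 50864657)) (BT.leaf (nat_lit 33816353))) (BT.node (nat_lit 9062784) (BT.leaf (nat_lit 33816097)) (BT.leaf (nat_lit 25822737))))) (BT.node (nat_lit 9063232) (BT.node (nat_lit 9063040) (BT.node (nat_lit 9062912) (BT.leaf (nat_lit 25822993)) (BT.leaf (nat_lit 32812037))) (BT.node (nat_lit 9063168) (BT.leaf (nat_lit 25824529)) (BT.leaf (nat_lit 25824789)))) (BT.node (nat_lit 9063360) (BT.node (nat_lit 9063296) (BT.leaf (nat_lit 51623441)) (BT.leaf (nat_lit 52258309))) (BT.node (nat_lit 9063424) (BT.leaf (nat_lit 51577349)) (BT.leaf (nat_lit 50695429)))))) (BT.node (nat_lit 9064320) (BT.node (nat_lit 9064064) (BT.node (nat_lit 9063744) (BT.node (nat_lit 9063552) (BT.leaf (nat_lit 25826065)) (BT.leaf (nat_lit 25827349))) (BT.node (nat_lit 9064000) (BT.leaf (nat_lit 33307149)) (BT.leaf (nat_lit 46946821)))) (BT.node (nat_lit 9064192) (BT.node (nat_lit 9064128) (BT.leaf (nat_lit 25829649)) (BT.leaf (nat_lit 25829401))) (BT.node (nat_lit 9064256) (BT.leaf (nat_lit 25829405)) (BT.leaf (nat_lit 51625237))))) (BT.node (nat_lit 9065024) (BT.node (nat_lit 9064704) (BT.node (nat_lit 9064640) (BT.leaf (nat_lit 51625221)) (BT.leaf (nat_lit 50258977))) (BT.node (nat_lit 9064896) (BT.leaf (nat_lit 33862689)) (BT.leaf (nat_lit 51307789)))) (BT.node (nat_lit 9065280) (BT.node (nat_lit 9065216) (BT.leaf (nat_lit 33861665)) (BT.leaf (nat_lit 27676693))) (BT.node (nat_lit 9065344) (BT.leaf (nat_lit 50312225)) (BT.leaf (nat_lit 50261253)))))))) (BT.node (nat_lit 9068672) (BT.node (nat_lit 9067264) (BT.node (nat_lit 9066176) (BT.node (nat_lit 9065792) (BT.node (nat_lit 9065664) (BT.node (nat_lit 9065600) (BT.leaf (nat_lit 51627297)) (BT.leaf (nat_lit 25834521))) (BT.node (nat_lit 9065728) (BT.leaf (nat_lit 25834525)) (BT.leaf (nat_lit 25835281)))) (BT.node (nat_lit 9065920) (BT.node (nat_lit 9065856) (BT.leaf (nat_lit 33739801)) (BT.leaf (nat_lit 26382617))) (BT.node (nat_lit 9065984) (BT.leaf (nat_lit 25835809)) (BT.leaf (nat_lit 36073749))))) (BT.node (nat_lit 9066560) (BT.node (nat_lit 9066368) (BT.node (nat_lit 9066240) (BT.leaf (nat_lit 28213269)) (BT.leaf (nat_lit 25836833))) (BT.node (nat_lit 9066432) (BT.leaf (nat_lit 25837321)) (BT.leaf (nat_lit 25837337)))) (BT.node (nat_lit 9066944) (BT.node (nat_lit 9066816) (BT.leaf (nat_lit 25837345)) (BT.leaf (nat_lit 51628821))) (BT.node (nat_lit 9067008) (BT.leaf (nat_lit 25838877)) (BT.leaf (nat_lit 51629585)))))) (BT.node (nat_lit 9068096) (BT.node (nat_lit 9067584) (BT.node (nat_lit 9067392) (BT.node (nat_lit 9067328) (BT.leaf (nat_lit 25839633)) (BT.leaf (nat_lit 25839877))) (BT.node (nat_lit 9067520) (BT.leaf (nat_lit 51630353)) (BT.leaf (nat_lit 27132697)))) (BT.node (nat_lit 9067968) (BT.node (nat_lit 9067904) (BT.leaf (nat_lit 36147229)) (BT.leaf (nat_lit 51631889))) (BT.node (nat_lit 9068032) (BT.leaf (nat_lit 34985477)) (BT.leaf (nat_lit 25841693))))) (BT.node (nat_lit 9068352) (BT.node (nat_lit 9068224) (BT.node (nat_lit 9068160) (BT.leaf (nat_lit 51631893)) (BT.leaf (nat_lit 31494157))) (BT.node (nat_lit 9068288) (BT.leaf (nat_lit 25842705)) (BT.leaf (nat_lit 25842961)))) (BT.node (nat_lit 9068544) (BT.node (nat_lit 9068416) (BT.leaf (nat_lit 49830661)) (BT.leaf (nat_lit 25844241))) (BT.node (nat_lit 9068608) (BT.leaf (nat_lit 51632661)) (BT.leaf (nat_lit 25845781))))))) (BT.node (nat_lit 9069824) (BT.node (nat_lit 9069184) (BT.node (nat_lit 9068928) (BT.node (nat_lit 9068800) (BT.node (nat_lit 9068736) (BT.leaf (nat_lit 31301405)) (BT.leaf (nat_lit 28053525))) (BT.node (nat_lit 9068864) (BT.leaf (nat_lit 25846541)) (BT.leaf (nat_lit 28053269)))) (BT.node (nat_lit 9069056) (BT.node (nat_lit 9068992) (BT.leaf (nat_lit 25846561)) (BT.leaf (nat_lit 25846801))) (BT.node (nat_lit 9069120) (BT.leaf (nat_lit 25848085)) (BT.leaf (nat_lit 50532357))))) (BT.node (nat_lit 9069568) (BT.node (nat_lit 9069376) (BT.node (nat_lit 9069312) (BT.leaf (nat_lit 25848593)) (BT.leaf (nat_lit 41588741))) (BT.node (nat_lit 9069504) (BT.leaf (nat_lit 51634965)) (BT.leaf (nat_lit 33887261)))) (BT.node (nat_lit 9069696) (BT.node (nat_lit 9069632) (BT.leaf (nat_lit 25850129)) (BT.leaf (nat_lit 25850653))) (BT.node (nat_lit 9069760) (BT.leaf (nat_lit 51635997)) (BT.leaf (nat_lit 36075285)))))) (BT.node (nat_lit 9070784) (BT.node (nat_lit 9070528) (BT.node (nat_lit 9070336) (BT.node (nat_lit 9070016) (BT.leaf (nat_lit 51636513)) (BT.leaf (nat_lit 51637021))) (BT.node (nat_lit 9070464) (BT.leaf (nat_lit 27071769)) (BT.leaf (nat_lit 27419677)))) (BT.node (nat_lit 9070656) (BT.node (nat_lit 9070592) (BT.leaf (nat_lit 46883845)) (BT.leaf (nat_lit 25853713))) (BT.node (nat_lit 9070720) (BT.leaf (nat_lit 37519385)) (BT.leaf (nat_lit 25854481))))) (BT.node (nat_lit 9071040) (BT.node (nat_lit 9070912) (BT.node (nat_lit 9070848) (BT.leaf (nat_lit 49838341)) (BT.leaf (nat_lit 25855005))) (BT.node (nat_lit 9070976) (BT.leaf (nat_lit 49200137)) (BT.leaf (nat_lit 25855245)))) (BT.node (nat_lit 9071296) (BT.node (nat_lit 9071168) (BT.leaf (nat_lit 49199893)) (BT.leaf (nat_lit 25855509))) (BT.node (nat_lit 9071360) (BT.leaf (nat_lit 25856285)) (BT.leaf (nat_lit 34055969)))))))))))) (BT.node (nat_lit 9117440) (BT.node (nat_lit 9093568) (BT.node (nat_lit 9082176) (BT.node (nat_lit 9077184) (BT.node (nat_lit 9074432) (BT.node (nat_lit 9072896) (BT.node (nat_lit 9072064) (BT.node (nat_lit 9071808) (BT.node (nat_lit 9071552) (BT.node (nat_lit 9071488) (BT.leaf (nat_lit 36642325)) (BT.leaf (nat_lit 49709325))) (BT.node (nat_lit 9071744) (BT.leaf (nat_lit 51639825)) (BT.leaf (nat_lit 35770141)))) (BT.node (nat_lit 9071936) (BT.node (nat_lit 9071872) (BT.leaf (nat_lit 25858845)) (BT.leaf (nat_lit 26653977))) (BT.node (nat_lit 9072000) (BT.leaf (nat_lit 35818245)) (BT.leaf (nat_lit 36643345))))) (BT.node (nat_lit 9072640) (BT.node (nat_lit 9072256) (BT.node (nat_lit 9072192) (BT.leaf (nat_lit 51164433)) (BT.leaf (nat_lit 37905677))) (BT.node (nat_lit 9072576) (BT.leaf (nat_lit 25860629)) (BT.leaf (nat_lit 25861905)))) (BT.node (nat_lit 9072768) (BT.node (nat_lit 9072704) (BT.leaf (nat_lit 47438617)) (BT.leaf (nat_lit 29210117))) (BT.node (nat_lit 9072832) (BT.leaf (nat_lit 25862673)) (BT.leaf (nat_lit 36994593)))))) (BT.node (nat_lit 9073536) (BT.node (nat_lit 9073216) (BT.node (nat_lit 9073088) (BT.node (nat_lit 9072960) (BT.leaf (nat_lit 25863189)) (BT.leaf (nat_lit 25864209))) (BT.node (nat_lit 9073152) (BT.leaf (nat_lit 25973009)) (BT.leaf (nat_lit 25864465)))) (BT.node (nat_lit 9073408) (BT.node (nat_lit 9073280) (BT.leaf (nat_lit 25864713)) (BT.leaf (nat_lit 34567709))) (BT.node (nat_lit 9073472) (BT.leaf (nat_lit 52412181)) (BT.leaf (nat_lit 25864737))))) (BT.node (nat_lit 9074048) (BT.node (nat_lit 9073792) (BT.node (nat_lit 9073728) (BT.leaf (nat_lit 25864981)) (BT.leaf (nat_lit 51644437))) (BT.node (nat_lit 9073856) (BT.leaf (nat_lit 25865501)) (BT.leaf (nat_lit 46538257)))) (BT.node (nat_lit 9074304) (BT.node (nat_lit 9074240) (BT.leaf (nat_lit 25866513)) (BT.leaf (nat_lit 25867025))) (BT.node (nat_lit 9074368) (BT.leaf (nat_lit 47750433)) (BT.leaf (nat_lit 25868049))))))) (BT.node (nat_lit 9075584) (BT.node (nat_lit 9075072) (BT.node (nat_lit 9074752) (BT.node (nat_lit 9074560) (BT.node (nat_lit 9074496) (BT.leaf (nat_lit 31466005)) (BT.leaf (nat_lit 50426649))) (BT.node (nat_lit 9074624) (BT.leaf (nat_lit 31462933)) (BT.leaf (nat_lit 50928389)))) (BT.node (nat_lit 9074880) (BT.node (nat_lit 9074816) (BT.leaf (nat_lit 25869085)) (BT.leaf (nat_lit 25869841))) (BT.node (nat_lit 9075008) (BT.leaf (nat_lit 25869593)) (BT.leaf (nat_lit 27090193))))) (BT.node (nat_lit 9075328) (BT.node (nat_lit 9075200) (BT.node (nat_lit 9075136) (BT.leaf (nat_lit 27089937)) (BT.leaf (nat_lit 25870353))) (BT.node (nat_lit 9075264) (BT.leaf (nat_lit 28372229)) (BT.leaf (nat_lit 34900741)))) (BT.node (nat_lit 9075456) (BT.node (nat_lit 9075392) (BT.leaf (nat_lit 40646681)) (BT.leaf (nat_lit 48473361))) (BT.node (nat_lit 9075520) (BT.leaf (nat_lit 51648785)) (BT.leaf (nat_lit 25872409)))))) (BT.node (nat_lit 9076480) (BT.node (nat_lit 9075968) (BT.node (nat_lit 9075712) (BT.node (nat_lit 9075648) (BT.leaf (nat_lit 51648789)) (BT.leaf (nat_lit 25873169))) (BT.node (nat_lit 9075776) (BT.leaf (nat_lit 25873945)) (BT.leaf (nat_lit 25874205)))) (BT.node (nat_lit 9076096) (BT.node (nat_lit 9076032) (BT.leaf (nat_lit 35612181)) (BT.leaf (nat_lit 37081877))) (BT.node (nat_lit 9076160) (BT.leaf (nat_lit 51649557)) (BT.leaf (nat_lit 36169489))))) (BT.node (nat_lit 9076864) (BT.node (nat_lit 9076736) (BT.node (nat_lit 9076608) (BT.leaf (nat_lit 49981217)) (BT.leaf (nat_lit 29793797))) (BT.node (nat_lit 9076800) (BT.leaf (nat_lit 25880593)) (BT.leaf (nat_lit 51651345)))) (BT.node (nat_lit 9076992) (BT.node (nat_lit 9076928) (BT.leaf (nat_lit 25880857)) (BT.leaf (nat_lit 25880861))) (BT.node (nat_lit 9077120) (BT.leaf (nat_lit 36452877)) (BT.leaf (nat_lit 36308765)))))))) (BT.node (nat_lit 9079552) (BT.node (nat_lit 9078336) (BT.node (nat_lit 9077824) (BT.node (nat_lit 9077568) (BT.node (nat_lit 9077312) (BT.node (nat_lit 9077248) (BT.leaf (nat_lit 30817813)) (BT.leaf (nat_lit 25881873))) (BT.node (nat_lit 9077376) (BT.leaf (nat_lit 25882901)) (BT.leaf (nat_lit 25883141)))) (BT.node (nat_lit 9077696) (BT.node (nat_lit 9077632) (BT.leaf (nat_lit 51653905)) (BT.leaf (nat_lit 25883413))) (BT.node (nat_lit 9077760) (BT.leaf (nat_lit 25883669)) (BT.leaf (nat_lit 25884433))))) (BT.node (nat_lit 9078080) (BT.node (nat_lit 9077952) (BT.node (nat_lit 9077888) (BT.leaf (nat_lit 25884181)) (BT.leaf (nat_lit 25884437))) (BT.node (nat_lit 9078016) (BT.leaf (nat_lit 51655193)) (BT.leaf (nat_lit 36312349)))) (BT.node (nat_lit 9078208) (BT.node (nat_lit 9078144) (BT.leaf (nat_lit 26904581)) (BT.leaf (nat_lit 51654933))) (BT.node (nat_lit 9078272) (BT.leaf (nat_lit 27204617)) (BT.leaf (nat_lit 27204637)))))) (BT.node (nat_lit 9078976) (BT.node (nat_lit 9078656) (BT.node (nat_lit 9078464) (BT.node (nat_lit 9078400) (BT.leaf (nat_lit 35564305)) (BT.leaf (nat_lit 26751505))) (BT.node (nat_lit 9078592) (BT.leaf (nat_lit 51656473)) (BT.leaf (nat_lit 35565333)))) (BT.node (nat_lit 9078848) (BT.node (nat_lit 9078784) (BT.leaf (nat_lit 36463905)) (BT.leaf (nat_lit 36147973))) (BT.node (nat_lit 9078912) (BT.leaf (nat_lit 33725721)) (BT.leaf (nat_lit 33459217))))) (BT.node (nat_lit 9079296) (BT.node (nat_lit 9079168) (BT.node (nat_lit 9079104) (BT.leaf (nat_lit 25890577)) (BT.leaf (nat_lit 35152929))) (BT.node (nat_lit 9079232) (BT.leaf (nat_lit 36316957)) (BT.leaf (nat_lit 29654801)))) (BT.node (nat_lit 9079424) (BT.node (nat_lit 9079360) (BT.leaf (nat_lit 25892113)) (BT.leaf (nat_lit 26674449))) (BT.node (nat_lit 9079488) (BT.leaf (nat_lit 25892633)) (BT.leaf (nat_lit 25892637))))))) (BT.node (nat_lit 9080832) (BT.node (nat_lit 9080128) (BT.node (nat_lit 9079872) (BT.node (nat_lit 9079744) (BT.node (nat_lit 9079616) (BT.leaf (nat_lit 36145953)) (BT.leaf (nat_lit 25893649))) (BT.node (nat_lit 9079808) (BT.leaf (nat_lit 33272605)) (BT.leaf (nat_lit 33270553)))) (BT.node (nat_lit 9080000) (BT.node (nat_lit 9079936) (BT.leaf (nat_lit 51658001)) (BT.leaf (nat_lit 25894937))) (BT.node (nat_lit 9080064) (BT.leaf (nat_lit 25894941)) (BT.leaf (nat_lit 25895185))))) (BT.node (nat_lit 9080512) (BT.node (nat_lit 9080256) (BT.node (nat_lit 9080192) (BT.leaf (nat_lit 25896209)) (BT.leaf (nat_lit 36053765))) (BT.node (nat_lit 9080384) (BT.leaf (nat_lit 25896977)) (BT.leaf (nat_lit 25897245)))) (BT.node (nat_lit 9080704) (BT.node (nat_lit 9080576) (BT.leaf (nat_lit 25897749)) (BT.leaf (nat_lit 35681817))) (BT.node (nat_lit 9080768) (BT.leaf (nat_lit 50341913)) (BT.leaf (nat_lit 25898517)))))) (BT.node (nat_lit 9081600) (BT.node (nat_lit 9081280) (BT.node (nat_lit 9081088) (BT.node (nat_lit 9081024) (BT.leaf (nat_lit 25899029)) (BT.leaf (nat_lit 25899529))) (BT.node (nat_lit 9081216) (BT.leaf (nat_lit 40793121)) (BT.leaf (nat_lit 35608597)))) (BT.node (nat_lit 9081408) (BT.node (nat_lit 9081344) (BT.leaf (nat_lit 50434821)) (BT.leaf (nat_lit 50411549))) (BT.node (nat_lit 9081536) (BT.leaf (nat_lit 25902865)) (BT.leaf (nat_lit 25903881))))) (BT.node (nat_lit 9081920) (BT.node (nat_lit 9081792) (BT.node (nat_lit 9081728) (BT.leaf (nat_lit 50973205)) (BT.leaf (nat_lit 39994145))) (BT.node (nat_lit 9081856) (BT.leaf (nat_lit 37158673)) (BT.leaf (nat_lit 46714637)))) (BT.node (nat_lit 9082048) (BT.node (nat_lit 9081984) (BT.leaf (nat_lit 25905425)) (BT.leaf (nat_lit 51661333))) (BT.node (nat_lit 9082112) (BT.leaf (nat_lit 51661317)) (BT.leaf (nat_lit 25905689))))))))) (BT.node (nat_lit 9087488) (BT.node (nat_lit 9084608) (BT.node (nat_lit 9083328) (BT.node (nat_lit 9082688) (BT.node (nat_lit 9082432) (BT.node (nat_lit 9082304) (BT.node (nat_lit 9082240) (BT.leaf (nat_lit 25905693)) (BT.leaf (nat_lit 36327949))) (BT.node (nat_lit 9082368) (BT.leaf (nat_lit 51663637)) (BT.leaf (nat_lit 25906205)))) (BT.node (nat_lit 9082560) (BT.node (nat_lit 9082496) (BT.leaf (nat_lit 26694429)) (BT.leaf (nat_lit 25907217))) (BT.node (nat_lit 9082624) (BT.leaf (nat_lit 25907473)) (BT.leaf (nat_lit 51664649))))) (BT.node (nat_lit 9083008) (BT.node (nat_lit 9082880) (BT.node (nat_lit 9082816) (BT.leaf (nat_lit 26165781)) (BT.leaf (nat_lit 25908001))) (BT.node (nat_lit 9082944) (BT.leaf (nat_lit 36582681)) (BT.leaf (nat_lit 40013065)))) (BT.node (nat_lit 9083136) (BT.node (nat_lit 9083072) (BT.leaf (nat_lit 50986517)) (BT.leaf (nat_lit 25909265))) (BT.node (nat_lit 9083200) (BT.leaf (nat_lit 25909521)) (BT.leaf (nat_lit 25909789)))))) (BT.node (nat_lit 9083840) (BT.node (nat_lit 9083584) (BT.node (nat_lit 9083456) (BT.node (nat_lit 9083392) (BT.leaf (nat_lit 25910809)) (BT.leaf (nat_lit 25910813))) (BT.node (nat_lit 9083520) (BT.leaf (nat_lit 25912081)) (BT.leaf (nat_lit 37143829)))) (BT.node (nat_lit 9083712) (BT.node (nat_lit 9083648) (BT.leaf (nat_lit 35561505)) (BT.leaf (nat_lit 25913109))) (BT.node (nat_lit 9083776) (BT.leaf (nat_lit 25913365)) (BT.leaf (nat_lit 25913617))))) (BT.node (nat_lit 9084352) (BT.node (nat_lit 9084032) (BT.node (nat_lit 9083904) (BT.leaf (nat_lit 51668249)) (BT.leaf (nat_lit 36143621))) (BT.node (nat_lit 9084224) (BT.leaf (nat_lit 35986449)) (BT.leaf (nat_lit 33418525)))) (BT.node (nat_lit 9084480) (BT.node (nat_lit 9084416) (BT.leaf (nat_lit 40252933)) (BT.leaf (nat_lit 26956305))) (BT.node (nat_lit 9084544) (BT.leaf (nat_lit 36313373)) (BT.leaf (nat_lit 25916177))))))) (BT.node (nat_lit 9086080) (BT.node (nat_lit 9085312) (BT.node (nat_lit 9084992) (BT.node (nat_lit 9084800) (BT.node (nat_lit 9084736) (BT.leaf (nat_lit 25916957)) (BT.leaf (nat_lit 37396237))) (BT.node (nat_lit 9084864) (BT.leaf (nat_lit 46901269)) (BT.leaf (nat_lit 25917713)))) (BT.node (nat_lit 9085120) (BT.node (nat_lit 9085056) (BT.leaf (nat_lit 25918481)) (BT.leaf (nat_lit 25919761))) (BT.node (nat_lit 9085248) (BT.leaf (nat_lit 25920025)) (BT.leaf (nat_lit 28813853))))) (BT.node (nat_lit 9085632) (BT.node (nat_lit 9085504) (BT.node (nat_lit 9085376) (BT.leaf (nat_lit 36905237)) (BT.leaf (nat_lit 25922321))) (BT.node (nat_lit 9085568) (BT.leaf (nat_lit 25923609)) (BT.leaf (nat_lit 25923613)))) (BT.node (nat_lit 9085760) (BT.node (nat_lit 9085696) (BT.leaf (nat_lit 25923857)) (BT.leaf (nat_lit 25924369))) (BT.node (nat_lit 9085824) (BT.leaf (nat_lit 25924881)) (BT.leaf (nat_lit 33450517)))))) (BT.node (nat_lit 9086848) (BT.node (nat_lit 9086528) (BT.node (nat_lit 9086272) (BT.node (nat_lit 9086208) (BT.leaf (nat_lit 33603105)) (BT.leaf (nat_lit 46670101))) (BT.node (nat_lit 9086464) (BT.leaf (nat_lit 36344857)) (BT.leaf (nat_lit 51454473)))) (BT.node (nat_lit 9086720) (BT.node (nat_lit 9086592) (BT.leaf (nat_lit 33475349)) (BT.leaf (nat_lit 25930257))) (BT.node (nat_lit 9086784) (BT.leaf (nat_lit 25930513)) (BT.leaf (nat_lit 37558545))))) (BT.node (nat_lit 9087168) (BT.node (nat_lit 9086976) (BT.node (nat_lit 9086912) (BT.leaf (nat_lit 36701713)) (BT.leaf (nat_lit 25931029))) (BT.node (nat_lit 9087104) (BT.leaf (nat_lit 37465105)) (BT.leaf (nat_lit 25931289)))) (BT.node (nat_lit 9087296) (BT.node (nat_lit 9087232) (BT.leaf (nat_lit 25931541)) (BT.leaf (nat_lit 25931545))) (BT.node (nat_lit 9087424) (BT.leaf (nat_lit 25931549)) (BT.leaf (nat_lit 51677461)))))))) (BT.node (nat_lit 9090688) (BT.node (nat_lit 9089472) (BT.node (nat_lit 9088064) (BT.node (nat_lit 9087744) (BT.node (nat_lit 9087616) (BT.node (nat_lit 9087552) (BT.leaf (nat_lit 25932061)) (BT.leaf (nat_lit 25932313))) (BT.node (nat_lit 9087680) (BT.leaf (nat_lit 25933841)) (BT.leaf (nat_lit 25934097)))) (BT.node (nat_lit 9087872) (BT.node (nat_lit 9087808) (BT.leaf (nat_lit 25934865)) (BT.leaf (nat_lit 25981209))) (BT.node (nat_lit 9088000) (BT.leaf (nat_lit 25935121)) (BT.leaf (nat_lit 49235461))))) (BT.node (nat_lit 9088704) (BT.node (nat_lit 9088192) (BT.node (nat_lit 9088128) (BT.leaf (nat_lit 25935633)) (BT.leaf (nat_lit 25935893))) (BT.node (nat_lit 9088320) (BT.leaf (nat_lit 48697609)) (BT.leaf (nat_lit 25936145)))) (BT.node (nat_lit 9088832) (BT.node (nat_lit 9088768) (BT.leaf (nat_lit 25937169)) (BT.leaf (nat_lit 26704401))) (BT.node (nat_lit 9088896) (BT.leaf (nat_lit 25937433)) (BT.leaf (nat_lit 25937437)))))) (BT.node (nat_lit 9090112) (BT.node (nat_lit 9089856) (BT.node (nat_lit 9089664) (BT.node (nat_lit 9089600) (BT.leaf (nat_lit 25938969)) (BT.leaf (nat_lit 25939477))) (BT.node (nat_lit 9089728) (BT.leaf (nat_lit 25939729)) (BT.leaf (nat_lit 25939745)))) (BT.node (nat_lit 9089984) (BT.node (nat_lit 9089920) (BT.leaf (nat_lit 33619989)) (BT.leaf (nat_lit 37145877))) (BT.node (nat_lit 9090048) (BT.leaf (nat_lit 25942289)) (BT.leaf (nat_lit 25942545))))) (BT.node (nat_lit 9090368) (BT.node (nat_lit 9090240) (BT.node (nat_lit 9090176) (BT.leaf (nat_lit 25943321)) (BT.leaf (nat_lit 25944081))) (BT.node (nat_lit 9090304) (BT.leaf (nat_lit 25944325)) (BT.leaf (nat_lit 25944345)))) (BT.node (nat_lit 9090496) (BT.node (nat_lit 9090432) (BT.leaf (nat_lit 25944349)) (BT.leaf (nat_lit 25944861))) (BT.node (nat_lit 9090624) (BT.leaf (nat_lit 25949205)) (BT.leaf (nat_lit 26594821))))))) (BT.node (nat_lit 9092032) (BT.node (nat_lit 9091328) (BT.node (nat_lit 9091072) (BT.node (nat_lit 9090944) (BT.node (nat_lit 9090752) (BT.leaf (nat_lit 35778565)) (BT.leaf (nat_lit 25946385))) (BT.node (nat_lit 9091008) (BT.leaf (nat_lit 25947165)) (BT.leaf (nat_lit 25947417)))) (BT.node (nat_lit 9091200) (BT.node (nat_lit 9091136) (BT.leaf (nat_lit 25947421)) (BT.leaf (nat_lit 51690253))) (BT.node (nat_lit 9091264) (BT.leaf (nat_lit 25947673)) (BT.leaf (nat_lit 25947677))))) (BT.node (nat_lit 9091648) (BT.node (nat_lit 9091520) (BT.node (nat_lit 9091456) (BT.leaf (nat_lit 25948433)) (BT.leaf (nat_lit 33186081))) (BT.node (nat_lit 9091584) (BT.leaf (nat_lit 25949201)) (BT.leaf (nat_lit 25950993)))) (BT.node (nat_lit 9091904) (BT.node (nat_lit 9091776) (BT.leaf (nat_lit 26703377)) (BT.leaf (nat_lit 25951769))) (BT.node (nat_lit 9091968) (BT.leaf (nat_lit 25952025)) (BT.leaf (nat_lit 25952273)))))) (BT.node (nat_lit 9092736) (BT.node (nat_lit 9092416) (BT.node (nat_lit 9092288) (BT.node (nat_lit 9092224) (BT.leaf (nat_lit 37583125)) (BT.leaf (nat_lit 51693589))) (BT.node (nat_lit 9092352) (BT.leaf (nat_lit 25953309)) (BT.leaf (nat_lit 25953809)))) (BT.node (nat_lit 9092608) (BT.node (nat_lit 9092480) (BT.leaf (nat_lit 25953561)) (BT.leaf (nat_lit 25953565))) (BT.node (nat_lit 9092672) (BT.leaf (nat_lit 36657425)) (BT.leaf (nat_lit 25954321))))) (BT.node (nat_lit 9093120) (BT.node (nat_lit 9092992) (BT.node (nat_lit 9092800) (BT.leaf (nat_lit 25954337)) (BT.leaf (nat_lit 48739093))) (BT.node (nat_lit 9093056) (BT.leaf (nat_lit 51035653)) (BT.leaf (nat_lit 25955353)))) (BT.node (nat_lit 9093376) (BT.node (nat_lit 9093248) (BT.leaf (nat_lit 25955869)) (BT.leaf (nat_lit 26706705))) (BT.node (nat_lit 9093504) (BT.leaf (nat_lit 51698185)) (BT.leaf (nat_lit 51697173)))))))))) (BT.node (nat_lit 9106240) (BT.node (nat_lit 9099840) (BT.node (nat_lit 9096704) (BT.node (nat_lit 9094976) (BT.node (nat_lit 9094336) (BT.node (nat_lit 9093952) (BT.node (nat_lit 9093760) (BT.node (nat_lit 9093632) (BT.leaf (nat_lit 36374025)) (BT.leaf (nat_lit 25956881))) (BT.node (nat_lit 9093824) (BT.leaf (nat_lit 25956893)) (BT.leaf (nat_lit 51698201)))) (BT.node (nat_lit 9094144) (BT.node (nat_lit 9094080) (BT.leaf (nat_lit 51700501)) (BT.leaf (nat_lit 30849301))) (BT.node (nat_lit 9094272) (BT.leaf (nat_lit 25958425)) (BT.leaf (nat_lit 51464201))))) (BT.node (nat_lit 9094720) (BT.node (nat_lit 9094464) (BT.node (nat_lit 9094400) (BT.leaf (nat_lit 26331421)) (BT.leaf (nat_lit 51043089))) (BT.node (nat_lit 9094656) (BT.leaf (nat_lit 51042833)) (BT.leaf (nat_lit 25959185)))) (BT.node (nat_lit 9094848) (BT.node (nat_lit 9094784) (BT.leaf (nat_lit 25959697)) (BT.leaf (nat_lit 25959449))) (BT.node (nat_lit 9094912) (BT.leaf (nat_lit 25959453)) (BT.leaf (nat_lit 51285777)))))) (BT.node (nat_lit 9095744) (BT.node (nat_lit 9095424) (BT.node (nat_lit 9095104) (BT.node (nat_lit 9095040) (BT.leaf (nat_lit 26723601)) (BT.leaf (nat_lit 25960473))) (BT.node (nat_lit 9095360) (BT.leaf (nat_lit 26637329)) (BT.leaf (nat_lit 25960981)))) (BT.node (nat_lit 9095552) (BT.node (nat_lit 9095488) (BT.leaf (nat_lit 25961233)) (BT.leaf (nat_lit 25961237))) (BT.node (nat_lit 9095616) (BT.leaf (nat_lit 29254425)) (BT.leaf (nat_lit 29202457))))) (BT.node (nat_lit 9096320) (BT.node (nat_lit 9095872) (BT.node (nat_lit 9095808) (BT.leaf (nat_lit 40813333)) (BT.leaf (nat_lit 33715477))) (BT.node (nat_lit 9096128) (BT.leaf (nat_lit 51137545)) (BT.leaf (nat_lit 36771861)))) (BT.node (nat_lit 9096448) (BT.node (nat_lit 9096384) (BT.leaf (nat_lit 25965333)) (BT.leaf (nat_lit 25965337))) (BT.node (nat_lit 9096640) (BT.leaf (nat_lit 25965341)) (BT.leaf (nat_lit 25965853))))))) (BT.node (nat_lit 9098368) (BT.node (nat_lit 9097728) (BT.node (nat_lit 9097344) (BT.node (nat_lit 9097216) (BT.node (nat_lit 9097088) (BT.leaf (nat_lit 25966097)) (BT.leaf (nat_lit 51708949))) (BT.node (nat_lit 9097280) (BT.leaf (nat_lit 35343125)) (BT.leaf (nat_lit 35000861)))) (BT.node (nat_lit 9097600) (BT.node (nat_lit 9097408) (BT.leaf (nat_lit 35881505)) (BT.leaf (nat_lit 26725381))) (BT.node (nat_lit 9097664) (BT.leaf (nat_lit 51662357)) (BT.leaf (nat_lit 25969185))))) (BT.node (nat_lit 9098112) (BT.node (nat_lit 9097856) (BT.node (nat_lit 9097792) (BT.leaf (nat_lit 25969685)) (BT.leaf (nat_lit 25969945))) (BT.node (nat_lit 9097984) (BT.leaf (nat_lit 25970965)) (BT.leaf (nat_lit 25970973)))) (BT.node (nat_lit 9098240) (BT.node (nat_lit 9098176) (BT.leaf (nat_lit 39927829)) (BT.leaf (nat_lit 25971729))) (BT.node (nat_lit 9098304) (BT.leaf (nat_lit 25971985)) (BT.leaf (nat_lit 26253341)))))) (BT.node (nat_lit 9099072) (BT.node (nat_lit 9098624) (BT.node (nat_lit 9098496) (BT.node (nat_lit 9098432) (BT.leaf (nat_lit 34032409)) (BT.leaf (nat_lit 51286789))) (BT.node (nat_lit 9098560) (BT.leaf (nat_lit 25972765)) (BT.leaf (nat_lit 51712773)))) (BT.node (nat_lit 9098752) (BT.node (nat_lit 9098688) (BT.leaf (nat_lit 36394265)) (BT.leaf (nat_lit 25973785))) (BT.node (nat_lit 9099008) (BT.leaf (nat_lit 25973789)) (BT.leaf (nat_lit 51714581))))) (BT.node (nat_lit 9099328) (BT.node (nat_lit 9099200) (BT.node (nat_lit 9099136) (BT.leaf (nat_lit 25975065)) (BT.leaf (nat_lit 25975069))) (BT.node (nat_lit 9099264) (BT.leaf (nat_lit 31800837)) (BT.leaf (nat_lit 25975833)))) (BT.node (nat_lit 9099456) (BT.node (nat_lit 9099392) (BT.leaf (nat_lit 25975837)) (BT.leaf (nat_lit 25976089))) (BT.node (nat_lit 9099776) (BT.leaf (nat_lit 25976093)) (BT.leaf (nat_lit 51717141)))))))) (BT.node (nat_lit 9102976) (BT.node (nat_lit 9101440) (BT.node (nat_lit 9100608) (BT.node (nat_lit 9100288) (BT.node (nat_lit 9100096) (BT.node (nat_lit 9100032) (BT.leaf (nat_lit 51717397)) (BT.leaf (nat_lit 37481757))) (BT.node (nat_lit 9100224) (BT.leaf (nat_lit 25977877)) (BT.leaf (nat_lit 25978645)))) (BT.node (nat_lit 9100480) (BT.node (nat_lit 9100352) (BT.leaf (nat_lit 25978897)) (BT.leaf (nat_lit 25978913))) (BT.node (nat_lit 9100544) (BT.leaf (nat_lit 25980177)) (BT.leaf (nat_lit 25981713))))) (BT.node (nat_lit 9101056) (BT.node (nat_lit 9100800) (BT.node (nat_lit 9100736) (BT.leaf (nat_lit 25981969)) (BT.leaf (nat_lit 25982745))) (BT.node (nat_lit 9100928) (BT.leaf (nat_lit 25983237)) (BT.leaf (nat_lit 26745361)))) (BT.node (nat_lit 9101248) (BT.node (nat_lit 9101184) (BT.leaf (nat_lit 25984785)) (BT.leaf (nat_lit 25985565))) (BT.node (nat_lit 9101376) (BT.leaf (nat_lit 25985809)) (BT.leaf (nat_lit 51722517)))))) (BT.node (nat_lit 9102400) (BT.node (nat_lit 9101952) (BT.node (nat_lit 9101632) (BT.node (nat_lit 9101568) (BT.leaf (nat_lit 25986565)) (BT.leaf (nat_lit 25986589))) (BT.node (nat_lit 9101824) (BT.leaf (nat_lit 36205061)) (BT.leaf (nat_lit 51359749)))) (BT.node (nat_lit 9102080) (BT.node (nat_lit 9102016) (BT.leaf (nat_lit 46486805)) (BT.leaf (nat_lit 47364125))) (BT.node (nat_lit 9102336) (BT.leaf (nat_lit 25989393)) (BT.leaf (nat_lit 36656657))))) (BT.node (nat_lit 9102720) (BT.node (nat_lit 9102592) (BT.node (nat_lit 9102464) (BT.leaf (nat_lit 25990433)) (BT.leaf (nat_lit 25990677))) (BT.node (nat_lit 9102656) (BT.leaf (nat_lit 25990945)) (BT.leaf (nat_lit 25991433)))) (BT.node (nat_lit 9102848) (BT.node (nat_lit 9102784) (BT.leaf (nat_lit 25991437)) (BT.leaf (nat_lit 25991449))) (BT.node (nat_lit 9102912) (BT.leaf (nat_lit 25991697)) (BT.leaf (nat_lit 25991701))))))) (BT.node (nat_lit 9104768) (BT.node (nat_lit 9103744) (BT.node (nat_lit 9103424) (BT.node (nat_lit 9103232) (BT.node (nat_lit 9103168) (BT.leaf (nat_lit 25991957)) (BT.leaf (nat_lit 25992221))) (BT.node (nat_lit 9103296) (BT.leaf (nat_lit 25992729)) (BT.leaf (nat_lit 25992733)))) (BT.node (nat_lit 9103616) (BT.node (nat_lit 9103488) (BT.leaf (nat_lit 50161933)) (BT.leaf (nat_lit 51626013))) (BT.node (nat_lit 9103680) (BT.leaf (nat_lit 51728401)) (BT.leaf (nat_lit 51728913))))) (BT.node (nat_lit 9104320) (BT.node (nat_lit 9103936) (BT.node (nat_lit 9103872) (BT.leaf (nat_lit 51728909)) (BT.leaf (nat_lit 51007753))) (BT.node (nat_lit 9104064) (BT.leaf (nat_lit 25994757)) (BT.leaf (nat_lit 51729681)))) (BT.node (nat_lit 9104512) (BT.node (nat_lit 9104384) (BT.leaf (nat_lit 33895189)) (BT.leaf (nat_lit 36310557))) (BT.node (nat_lit 9104576) (BT.leaf (nat_lit 26349073)) (BT.leaf (nat_lit 46469905)))))) (BT.node (nat_lit 9105600) (BT.node (nat_lit 9105152) (BT.node (nat_lit 9104960) (BT.node (nat_lit 9104896) (BT.leaf (nat_lit 50033937)) (BT.leaf (nat_lit 25998109))) (BT.node (nat_lit 9105024) (BT.leaf (nat_lit 37662237)) (BT.leaf (nat_lit 25998609)))) (BT.node (nat_lit 9105472) (BT.node (nat_lit 9105280) (BT.leaf (nat_lit 25999125)) (BT.leaf (nat_lit 26000405))) (BT.node (nat_lit 9105536) (BT.leaf (nat_lit 26001937)) (BT.leaf (nat_lit 51731725))))) (BT.node (nat_lit 9105920) (BT.node (nat_lit 9105728) (BT.node (nat_lit 9105664) (BT.leaf (nat_lit 49692689)) (BT.leaf (nat_lit 26003217))) (BT.node (nat_lit 9105792) (BT.leaf (nat_lit 26003221)) (BT.leaf (nat_lit 28578845)))) (BT.node (nat_lit 9106112) (BT.node (nat_lit 9106048) (BT.leaf (nat_lit 33875205)) (BT.leaf (nat_lit 26003981))) (BT.node (nat_lit 9106176) (BT.leaf (nat_lit 26003993)) (BT.leaf (nat_lit 26003997))))))))) (BT.node (nat_lit 9111872) (BT.node (nat_lit 9109184) (BT.node (nat_lit 9107392) (BT.node (nat_lit 9106880) (BT.node (nat_lit 9106496) (BT.node (nat_lit 9106368) (BT.node (nat_lit 9106304) (BT.leaf (nat_lit 35113749)) (BT.leaf (nat_lit 26004245))) (BT.node (nat_lit 9106432) (BT.leaf (nat_lit 26004501)) (BT.leaf (nat_lit 30817817)))) (BT.node (nat_lit 9106624) (BT.node (nat_lit 9106560) (BT.leaf (nat_lit 32613401)) (BT.leaf (nat_lit 27963165))) (BT.node (nat_lit 9106688) (BT.leaf (nat_lit 51734293)) (BT.leaf (nat_lit 47495173))))) (BT.node (nat_lit 9107136) (BT.node (nat_lit 9107008) (BT.node (nat_lit 9106944) (BT.leaf (nat_lit 26005777)) (BT.leaf (nat_lit 27259417))) (BT.node (nat_lit 9107072) (BT.leaf (nat_lit 26276881)) (BT.leaf (nat_lit 50009377)))) (BT.node (nat_lit 9107264) (BT.node (nat_lit 9107200) (BT.leaf (nat_lit 50072589)) (BT.leaf (nat_lit 27057669))) (BT.node (nat_lit 9107328) (BT.leaf (nat_lit 51307525)) (BT.leaf (nat_lit 36432417)))))) (BT.node (nat_lit 9108416) (BT.node (nat_lit 9108096) (BT.node (nat_lit 9107520) (BT.node (nat_lit 9107456) (BT.leaf (nat_lit 51307805)) (BT.leaf (nat_lit 37426961))) (BT.node (nat_lit 9107712) (BT.leaf (nat_lit 35611425)) (BT.leaf (nat_lit 34477317)))) (BT.node (nat_lit 9108224) (BT.node (nat_lit 9108160) (BT.leaf (nat_lit 51737621)) (BT.leaf (nat_lit 26126865))) (BT.node (nat_lit 9108288) (BT.leaf (nat_lit 33418017)) (BT.leaf (nat_lit 26011669))))) (BT.node (nat_lit 9108864) (BT.node (nat_lit 9108736) (BT.node (nat_lit 9108544) (BT.leaf (nat_lit 50071557)) (BT.leaf (nat_lit 26012441))) (BT.node (nat_lit 9108800) (BT.leaf (nat_lit 37668101)) (BT.leaf (nat_lit 37668629)))) (BT.node (nat_lit 9109056) (BT.node (nat_lit 9108928) (BT.leaf (nat_lit 31427609)) (BT.leaf (nat_lit 26013969))) (BT.node (nat_lit 9109120) (BT.leaf (nat_lit 50108165)) (BT.leaf (nat_lit 38768673))))))) (BT.node (nat_lit 9110784) (BT.node (nat_lit 9109952) (BT.node (nat_lit 9109632) (BT.node (nat_lit 9109312) (BT.node (nat_lit 9109248) (BT.leaf (nat_lit 32320785)) (BT.leaf (nat_lit 26015513))) (BT.node (nat_lit 9109504) (BT.leaf (nat_lit 26015517)) (BT.leaf (nat_lit 26016533)))) (BT.node (nat_lit 9109760) (BT.node (nat_lit 9109696) (BT.leaf (nat_lit 26016537)) (BT.leaf (nat_lit 51742981))) (BT.node (nat_lit 9109888) (BT.leaf (nat_lit 43731205)) (BT.leaf (nat_lit 26017305))))) (BT.node (nat_lit 9110336) (BT.node (nat_lit 9110208) (BT.node (nat_lit 9110144) (BT.leaf (nat_lit 26017309)) (BT.leaf (nat_lit 51106321))) (BT.node (nat_lit 9110272) (BT.leaf (nat_lit 26018073)) (BT.leaf (nat_lit 26018077)))) (BT.node (nat_lit 9110656) (BT.node (nat_lit 9110592) (BT.leaf (nat_lit 26018589)) (BT.leaf (nat_lit 26019093))) (BT.node (nat_lit 9110720) (BT.leaf (nat_lit 26019601)) (BT.leaf (nat_lit 30104089)))))) (BT.node (nat_lit 9111360) (BT.node (nat_lit 9111104) (BT.node (nat_lit 9110976) (BT.node (nat_lit 9110848) (BT.leaf (nat_lit 36112153)) (BT.leaf (nat_lit 51745553))) (BT.node (nat_lit 9111040) (BT.leaf (nat_lit 36444189)) (BT.leaf (nat_lit 36310277)))) (BT.node (nat_lit 9111232) (BT.node (nat_lit 9111168) (BT.leaf (nat_lit 26020885)) (BT.leaf (nat_lit 35807761))) (BT.node (nat_lit 9111296) (BT.leaf (nat_lit 26021393)) (BT.leaf (nat_lit 26021397))))) (BT.node (nat_lit 9111616) (BT.node (nat_lit 9111488) (BT.node (nat_lit 9111424) (BT.leaf (nat_lit 26770449)) (BT.leaf (nat_lit 26770193))) (BT.node (nat_lit 9111552) (BT.leaf (nat_lit 26021657)) (BT.leaf (nat_lit 26021661)))) (BT.node (nat_lit 9111744) (BT.node (nat_lit 9111680) (BT.leaf (nat_lit 26021905)) (BT.leaf (nat_lit 26021909))) (BT.node (nat_lit 9111808) (BT.leaf (nat_lit 26022161)) (BT.leaf (nat_lit 26022165)))))))) (BT.node (nat_lit 9114432) (BT.node (nat_lit 9113088) (BT.node (nat_lit 9112512) (BT.node (nat_lit 9112128) (BT.node (nat_lit 9112000) (BT.node (nat_lit 9111936) (BT.leaf (nat_lit 34012697)) (BT.leaf (nat_lit 26022929))) (BT.node (nat_lit 9112064) (BT.leaf (nat_lit 51296785)) (BT.leaf (nat_lit 37517585)))) (BT.node (nat_lit 9112384) (BT.node (nat_lit 9112320) (BT.leaf (nat_lit 50242833)) (BT.leaf (nat_lit 33586961))) (BT.node (nat_lit 9112448) (BT.leaf (nat_lit 36449305)) (BT.leaf (nat_lit 26024209))))) (BT.node (nat_lit 9112768) (BT.node (nat_lit 9112640) (BT.node (nat_lit 9112576) (BT.leaf (nat_lit 26024225)) (BT.leaf (nat_lit 49841429))) (BT.node (nat_lit 9112704) (BT.leaf (nat_lit 26025233)) (BT.leaf (nat_lit 26025489)))) (BT.node (nat_lit 9112960) (BT.node (nat_lit 9112896) (BT.leaf (nat_lit 36306949)) (BT.leaf (nat_lit 33534481))) (BT.node (nat_lit 9113024) (BT.leaf (nat_lit 36451609)) (BT.leaf (nat_lit 26026513)))))) (BT.node (nat_lit 9113664) (BT.node (nat_lit 9113344) (BT.node (nat_lit 9113216) (BT.node (nat_lit 9113152) (BT.leaf (nat_lit 33418273)) (BT.leaf (nat_lit 26990365))) (BT.node (nat_lit 9113280) (BT.leaf (nat_lit 51087381)) (BT.leaf (nat_lit 51748885)))) (BT.node (nat_lit 9113472) (BT.node (nat_lit 9113408) (BT.leaf (nat_lit 36171297)) (BT.leaf (nat_lit 46706461))) (BT.node (nat_lit 9113600) (BT.leaf (nat_lit 26030097)) (BT.leaf (nat_lit 51749397))))) (BT.node (nat_lit 9114112) (BT.node (nat_lit 9113984) (BT.node (nat_lit 9113728) (BT.leaf (nat_lit 51749637)) (BT.leaf (nat_lit 26031633))) (BT.node (nat_lit 9114048) (BT.leaf (nat_lit 26080529)) (BT.leaf (nat_lit 35330593)))) (BT.node (nat_lit 9114240) (BT.node (nat_lit 9114176) (BT.leaf (nat_lit 26032661)) (BT.leaf (nat_lit 50196493))) (BT.node (nat_lit 9114368) (BT.leaf (nat_lit 34030869)) (BT.leaf (nat_lit 27961621))))))) (BT.node (nat_lit 9115904) (BT.node (nat_lit 9115200) (BT.node (nat_lit 9114752) (BT.node (nat_lit 9114560) (BT.node (nat_lit 9114496) (BT.leaf (nat_lit 26034193)) (BT.leaf (nat_lit 26034461))) (BT.node (nat_lit 9114688) (BT.leaf (nat_lit 32496405)) (BT.leaf (nat_lit 26035221)))) (BT.node (nat_lit 9114944) (BT.node (nat_lit 9114816) (BT.leaf (nat_lit 26035477)) (BT.leaf (nat_lit 26035485))) (BT.node (nat_lit 9115008) (BT.leaf (nat_lit 36047905)) (BT.leaf (nat_lit 26036505))))) (BT.node (nat_lit 9115520) (BT.node (nat_lit 9115328) (BT.node (nat_lit 9115264) (BT.leaf (nat_lit 51753489)) (BT.leaf (nat_lit 28810513))) (BT.node (nat_lit 9115392) (BT.leaf (nat_lit 33428765)) (BT.leaf (nat_lit 33428745)))) (BT.node (nat_lit 9115648) (BT.node (nat_lit 9115584) (BT.leaf (nat_lit 30137861)) (BT.leaf (nat_lit 26037781))) (BT.node (nat_lit 9115840) (BT.leaf (nat_lit 36896029)) (BT.leaf (nat_lit 51754517)))))) (BT.node (nat_lit 9116544) (BT.node (nat_lit 9116288) (BT.node (nat_lit 9116160) (BT.node (nat_lit 9115968) (BT.leaf (nat_lit 47037969)) (BT.leaf (nat_lit 51755289))) (BT.node (nat_lit 9116224) (BT.leaf (nat_lit 34994965)) (BT.leaf (nat_lit 36465181)))) (BT.node (nat_lit 9116416) (BT.node (nat_lit 9116352) (BT.leaf (nat_lit 36755217)) (BT.leaf (nat_lit 50075141))) (BT.node (nat_lit 9116480) (BT.leaf (nat_lit 27730449)) (BT.leaf (nat_lit 36465689))))) (BT.node (nat_lit 9116800) (BT.node (nat_lit 9116672) (BT.node (nat_lit 9116608) (BT.leaf (nat_lit 51755525)) (BT.leaf (nat_lit 31234837))) (BT.node (nat_lit 9116736) (BT.leaf (nat_lit 36493341)) (BT.leaf (nat_lit 51755793)))) (BT.node (nat_lit 9117056) (BT.node (nat_lit 9116864) (BT.leaf (nat_lit 37360413)) (BT.leaf (nat_lit 37360133))) (BT.node (nat_lit 9117312) (BT.leaf (nat_lit 26043409)) (BT.leaf (nat_lit 27096325))))))))))) (BT.node (nat_lit 9147712) (BT.node (nat_lit 9132352) (BT.node (nat_lit 9124992) (BT.node (nat_lit 9120896) (BT.node (nat_lit 9118848) (BT.node (nat_lit 9118208) (BT.node (nat_lit 9117888) (BT.node (nat_lit 9117632) (BT.node (nat_lit 9117504) (BT.leaf (nat_lit 27256089)) (BT.leaf (nat_lit 51757329))) (BT.node (nat_lit 9117696) (BT.leaf (nat_lit 27219225)) (BT.leaf (nat_lit 37382425)))) (BT.node (nat_lit 9118016) (BT.node (nat_lit 9117952) (BT.leaf (nat_lit 51757845)) (BT.leaf (nat_lit 51758097))) (BT.node (nat_lit 9118144) (BT.leaf (nat_lit 31292933)) (BT.leaf (nat_lit 26047001))))) (BT.node (nat_lit 9118528) (BT.node (nat_lit 9118336) (BT.node (nat_lit 9118272) (BT.leaf (nat_lit 26047005)) (BT.leaf (nat_lit 26047249))) (BT.node (nat_lit 9118464) (BT.leaf (nat_lit 26047509)) (BT.leaf (nat_lit 35440389)))) (BT.node (nat_lit 9118720) (BT.node (nat_lit 9118592) (BT.leaf (nat_lit 26049297)) (BT.leaf (nat_lit 36498973))) (BT.node (nat_lit 9118784) (BT.leaf (nat_lit 51759385)) (BT.leaf (nat_lit 51759121)))))) (BT.node (nat_lit 9119936) (BT.node (nat_lit 9119232) (BT.node (nat_lit 9119040) (BT.node (nat_lit 9118912) (BT.leaf (nat_lit 36545305)) (BT.leaf (nat_lit 51759897))) (BT.node (nat_lit 9119168) (BT.leaf (nat_lit 51760145)) (BT.leaf (nat_lit 26052125)))) (BT.node (nat_lit 9119808) (BT.node (nat_lit 9119488) (BT.leaf (nat_lit 26052121)) (BT.leaf (nat_lit 37662229))) (BT.node (nat_lit 9119872) (BT.leaf (nat_lit 26055441)) (BT.leaf (nat_lit 46467589))))) (BT.node (nat_lit 9120320) (BT.node (nat_lit 9120064) (BT.node (nat_lit 9120000) (BT.leaf (nat_lit 26055709)) (BT.leaf (nat_lit 26158361))) (BT.node (nat_lit 9120128) (BT.leaf (nat_lit 36018437)) (BT.leaf (nat_lit 28776993)))) (BT.node (nat_lit 9120512) (BT.node (nat_lit 9120448) (BT.leaf (nat_lit 26058001)) (BT.leaf (nat_lit 51763997))) (BT.node (nat_lit 9120576) (BT.leaf (nat_lit 26058773)) (BT.leaf (nat_lit 26058781))))))) (BT.node (nat_lit 9123264) (BT.node (nat_lit 9121664) (BT.node (nat_lit 9121152) (BT.node (nat_lit 9121024) (BT.node (nat_lit 9120960) (BT.leaf (nat_lit 37443609)) (BT.leaf (nat_lit 37252625))) (BT.node (nat_lit 9121088) (BT.leaf (nat_lit 27194649)) (BT.leaf (nat_lit 37638153)))) (BT.node (nat_lit 9121344) (BT.node (nat_lit 9121280) (BT.leaf (nat_lit 37662485)) (BT.leaf (nat_lit 26060305))) (BT.node (nat_lit 9121408) (BT.leaf (nat_lit 51766037)) (BT.leaf (nat_lit 26060565))))) (BT.node (nat_lit 9122240) (BT.node (nat_lit 9121920) (BT.node (nat_lit 9121792) (BT.leaf (nat_lit 51295493)) (BT.leaf (nat_lit 26652949))) (BT.node (nat_lit 9122112) (BT.leaf (nat_lit 51767061)) (BT.leaf (nat_lit 26839045)))) (BT.node (nat_lit 9123008) (BT.node (nat_lit 9122816) (BT.leaf (nat_lit 26064149)) (BT.leaf (nat_lit 26065949))) (BT.node (nat_lit 9123072) (BT.leaf (nat_lit 27168273)) (BT.leaf (nat_lit 51770133)))))) (BT.node (nat_lit 9124096) (BT.node (nat_lit 9123712) (BT.node (nat_lit 9123456) (BT.node (nat_lit 9123328) (BT.leaf (nat_lit 51770389)) (BT.leaf (nat_lit 51770641))) (BT.node (nat_lit 9123584) (BT.leaf (nat_lit 33304841)) (BT.leaf (nat_lit 36941081)))) (BT.node (nat_lit 9123968) (BT.node (nat_lit 9123776) (BT.leaf (nat_lit 26860057)) (BT.leaf (nat_lit 37286937))) (BT.node (nat_lit 9124032) (BT.leaf (nat_lit 26069521)) (BT.leaf (nat_lit 26903577))))) (BT.node (nat_lit 9124736) (BT.node (nat_lit 9124480) (BT.node (nat_lit 9124160) (BT.leaf (nat_lit 26069777)) (BT.leaf (nat_lit 37326621))) (BT.node (nat_lit 9124608) (BT.leaf (nat_lit 26072081)) (BT.leaf (nat_lit 26722321)))) (BT.node (nat_lit 9124864) (BT.node (nat_lit 9124800) (BT.leaf (nat_lit 37660433)) (BT.leaf (nat_lit 37658897))) (BT.node (nat_lit 9124928) (BT.leaf (nat_lit 26073105)) (BT.leaf (nat_lit 35916037)))))))) (BT.node (nat_lit 9129152) (BT.node (nat_lit 9126976) (BT.node (nat_lit 9125696) (BT.node (nat_lit 9125248) (BT.node (nat_lit 9125120) (BT.node (nat_lit 9125056) (BT.leaf (nat_lit 27217677)) (BT.leaf (nat_lit 51773457))) (BT.node (nat_lit 9125184) (BT.leaf (nat_lit 51401989)) (BT.leaf (nat_lit 49825285)))) (BT.node (nat_lit 9125440) (BT.node (nat_lit 9125312) (BT.leaf (nat_lit 26074897)) (BT.leaf (nat_lit 26074901))) (BT.node (nat_lit 9125632) (BT.leaf (nat_lit 37679381)) (BT.leaf (nat_lit 26866209))))) (BT.node (nat_lit 9126464) (BT.node (nat_lit 9126208) (BT.node (nat_lit 9125760) (BT.leaf (nat_lit 26075929)) (BT.leaf (nat_lit 49869317))) (BT.node (nat_lit 9126272) (BT.leaf (nat_lit 51777285)) (BT.leaf (nat_lit 37485829)))) (BT.node (nat_lit 9126592) (BT.node (nat_lit 9126528) (BT.leaf (nat_lit 36506141)) (BT.leaf (nat_lit 52387349))) (BT.node (nat_lit 9126912) (BT.leaf (nat_lit 37279253)) (BT.leaf (nat_lit 37222681)))))) (BT.node (nat_lit 9127808) (BT.node (nat_lit 9127424) (BT.node (nat_lit 9127296) (BT.node (nat_lit 9127168) (BT.leaf (nat_lit 26079505)) (BT.leaf (nat_lit 51782413))) (BT.node (nat_lit 9127360) (BT.leaf (nat_lit 51782685)) (BT.leaf (nat_lit 26080277)))) (BT.node (nat_lit 9127552) (BT.node (nat_lit 9127488) (BT.leaf (nat_lit 51782933)) (BT.leaf (nat_lit 26080533))) (BT.node (nat_lit 9127616) (BT.leaf (nat_lit 26080785)) (BT.leaf (nat_lit 26080789))))) (BT.node (nat_lit 9128192) (BT.node (nat_lit 9128064) (BT.node (nat_lit 9127872) (BT.leaf (nat_lit 36989445)) (BT.leaf (nat_lit 26082325))) (BT.node (nat_lit 9128128) (BT.leaf (nat_lit 26085137)) (BT.leaf (nat_lit 26085401)))) (BT.node (nat_lit 9128704) (BT.node (nat_lit 9128640) (BT.leaf (nat_lit 26085405)) (BT.leaf (nat_lit 36908569))) (BT.node (nat_lit 9129024) (BT.leaf (nat_lit 37505557)) (BT.leaf (nat_lit 26090257))))))) (BT.node (nat_lit 9130816) (BT.node (nat_lit 9130048) (BT.node (nat_lit 9129472) (BT.node (nat_lit 9129280) (BT.node (nat_lit 9129216) (BT.leaf (nat_lit 51095585)) (BT.leaf (nat_lit 26091805))) (BT.node (nat_lit 9129408) (BT.leaf (nat_lit 26093333)) (BT.leaf (nat_lit 37501713)))) (BT.node (nat_lit 9129664) (BT.node (nat_lit 9129600) (BT.leaf (nat_lit 26093585)) (BT.leaf (nat_lit 37557009))) (BT.node (nat_lit 9129920) (BT.leaf (nat_lit 37063693)) (BT.leaf (nat_lit 26358281))))) (BT.node (nat_lit 9130368) (BT.node (nat_lit 9130176) (BT.node (nat_lit 9130112) (BT.leaf (nat_lit 37537049)) (BT.leaf (nat_lit 36470041))) (BT.node (nat_lit 9130240) (BT.leaf (nat_lit 51789841)) (BT.leaf (nat_lit 26096145)))) (BT.node (nat_lit 9130560) (BT.node (nat_lit 9130432) (BT.leaf (nat_lit 26096405)) (BT.leaf (nat_lit 36588813))) (BT.node (nat_lit 9130752) (BT.leaf (nat_lit 48129309)) (BT.leaf (nat_lit 35488533)))))) (BT.node (nat_lit 9131392) (BT.node (nat_lit 9131072) (BT.node (nat_lit 9130944) (BT.node (nat_lit 9130880) (BT.leaf (nat_lit 35488785)) (BT.leaf (nat_lit 29258001))) (BT.node (nat_lit 9131008) (BT.leaf (nat_lit 34560785)) (BT.leaf (nat_lit 26098709)))) (BT.node (nat_lit 9131264) (BT.node (nat_lit 9131200) (BT.leaf (nat_lit 31232285)) (BT.leaf (nat_lit 37537045))) (BT.node (nat_lit 9131328) (BT.leaf (nat_lit 26099729)) (BT.leaf (nat_lit 36469777))))) (BT.node (nat_lit 9131840) (BT.node (nat_lit 9131520) (BT.node (nat_lit 9131456) (BT.leaf (nat_lit 51792133)) (BT.leaf (nat_lit 26100765))) (BT.node (nat_lit 9131776) (BT.leaf (nat_lit 27105809)) (BT.leaf (nat_lit 26102289)))) (BT.node (nat_lit 9131968) (BT.node (nat_lit 9131904) (BT.leaf (nat_lit 26102045)) (BT.leaf (nat_lit 35916317))) (BT.node (nat_lit 9132096) (BT.leaf (nat_lit 37121049)) (BT.leaf (nat_lit 26103057))))))))) (BT.node (nat_lit 9140224) (BT.node (nat_lit 9135488) (BT.node (nat_lit 9133824) (BT.node (nat_lit 9133248) (BT.node (nat_lit 9132992) (BT.node (nat_lit 9132800) (BT.node (nat_lit 9132416) (BT.leaf (nat_lit 51792929)) (BT.leaf (nat_lit 51908377))) (BT.node (nat_lit 9132928) (BT.leaf (nat_lit 26107417)) (BT.leaf (nat_lit 26107665)))) (BT.node (nat_lit 9133120) (BT.node (nat_lit 9133056) (BT.leaf (nat_lit 51794709)) (BT.leaf (nat_lit 26108949))) (BT.node (nat_lit 9133184) (BT.leaf (nat_lit 51207945)) (BT.leaf (nat_lit 51795477))))) (BT.node (nat_lit 9133568) (BT.node (nat_lit 9133440) (BT.node (nat_lit 9133312) (BT.leaf (nat_lit 26109213)) (BT.leaf (nat_lit 37039625))) (BT.node (nat_lit 9133504) (BT.leaf (nat_lit 26109969)) (BT.leaf (nat_lit 51796761)))) (BT.node (nat_lit 9133696) (BT.node (nat_lit 9133632) (BT.leaf (nat_lit 51797013)) (BT.leaf (nat_lit 51798033))) (BT.node (nat_lit 9133760) (BT.leaf (nat_lit 26110489)) (BT.leaf (nat_lit 26110493)))))) (BT.node (nat_lit 9134784) (BT.node (nat_lit 9134528) (BT.node (nat_lit 9134016) (BT.node (nat_lit 9133952) (BT.leaf (nat_lit 37143061)) (BT.leaf (nat_lit 26743841))) (BT.node (nat_lit 9134400) (BT.leaf (nat_lit 51258633)) (BT.leaf (nat_lit 51801105)))) (BT.node (nat_lit 9134656) (BT.node (nat_lit 9134592) (BT.leaf (nat_lit 26115089)) (BT.leaf (nat_lit 27384349))) (BT.node (nat_lit 9134720) (BT.leaf (nat_lit 34775585)) (BT.leaf (nat_lit 36477977))))) (BT.node (nat_lit 9135040) (BT.node (nat_lit 9134912) (BT.node (nat_lit 9134848) (BT.leaf (nat_lit 27221781)) (BT.leaf (nat_lit 26116881))) (BT.node (nat_lit 9134976) (BT.leaf (nat_lit 27222041)) (BT.leaf (nat_lit 26117137)))) (BT.node (nat_lit 9135232) (BT.node (nat_lit 9135168) (BT.leaf (nat_lit 37638173)) (BT.leaf (nat_lit 26117397))) (BT.node (nat_lit 9135424) (BT.leaf (nat_lit 26117405)) (BT.leaf (nat_lit 51765517))))))) (BT.node (nat_lit 9137536) (BT.node (nat_lit 9136256) (BT.node (nat_lit 9135872) (BT.node (nat_lit 9135680) (BT.node (nat_lit 9135552) (BT.leaf (nat_lit 37521425)) (BT.leaf (nat_lit 26226449))) (BT.node (nat_lit 9135744) (BT.leaf (nat_lit 26275857)) (BT.leaf (nat_lit 36542745)))) (BT.node (nat_lit 9136128) (BT.node (nat_lit 9136000) (BT.leaf (nat_lit 26274833)) (BT.leaf (nat_lit 26119953))) (BT.node (nat_lit 9136192) (BT.leaf (nat_lit 36544797)) (BT.leaf (nat_lit 36496389))))) (BT.node (nat_lit 9136704) (BT.node (nat_lit 9136576) (BT.node (nat_lit 9136320) (BT.leaf (nat_lit 26121233)) (BT.leaf (nat_lit 36718853))) (BT.node (nat_lit 9136640) (BT.leaf (nat_lit 51807761)) (BT.leaf (nat_lit 26123537)))) (BT.node (nat_lit 9137216) (BT.node (nat_lit 9137152) (BT.leaf (nat_lit 35518749)) (BT.leaf (nat_lit 51704605))) (BT.node (nat_lit 9137344) (BT.leaf (nat_lit 47524885)) (BT.leaf (nat_lit 36630789)))))) (BT.node (nat_lit 9139136) (BT.node (nat_lit 9137856) (BT.node (nat_lit 9137728) (BT.node (nat_lit 9137600) (BT.leaf (nat_lit 26999841)) (BT.leaf (nat_lit 36044045))) (BT.node (nat_lit 9137792) (BT.leaf (nat_lit 51810581)) (BT.leaf (nat_lit 51737617)))) (BT.node (nat_lit 9138240) (BT.node (nat_lit 9137920) (BT.leaf (nat_lit 51780637)) (BT.leaf (nat_lit 26853637))) (BT.node (nat_lit 9138944) (BT.leaf (nat_lit 51811849)) (BT.leaf (nat_lit 51882501))))) (BT.node (nat_lit 9139712) (BT.node (nat_lit 9139584) (BT.node (nat_lit 9139328) (BT.leaf (nat_lit 37578261)) (BT.leaf (nat_lit 26136081))) (BT.node (nat_lit 9139648) (BT.leaf (nat_lit 26137365)) (BT.leaf (nat_lit 27229981)))) (BT.node (nat_lit 9139968) (BT.node (nat_lit 9139776) (BT.leaf (nat_lit 26138129)) (BT.leaf (nat_lit 51789593))) (BT.node (nat_lit 9140160) (BT.leaf (nat_lit 26851861)) (BT.leaf (nat_lit 27218465)))))))) (BT.node (nat_lit 9144128) (BT.node (nat_lit 9142080) (BT.node (nat_lit 9141248) (BT.node (nat_lit 9140608) (BT.node (nat_lit 9140352) (BT.node (nat_lit 9140288) (BT.leaf (nat_lit 26141201)) (BT.leaf (nat_lit 51813149))) (BT.node (nat_lit 9140544) (BT.leaf (nat_lit 26141713)) (BT.leaf (nat_lit 36056857)))) (BT.node (nat_lit 9140800) (BT.node (nat_lit 9140736) (BT.leaf (nat_lit 33355797)) (BT.leaf (nat_lit 27224581))) (BT.node (nat_lit 9140928) (BT.leaf (nat_lit 26143001)) (BT.leaf (nat_lit 36562445))))) (BT.node (nat_lit 9141696) (BT.node (nat_lit 9141440) (BT.node (nat_lit 9141376) (BT.leaf (nat_lit 33421585)) (BT.leaf (nat_lit 50743569))) (BT.node (nat_lit 9141632) (BT.leaf (nat_lit 33423109)) (BT.leaf (nat_lit 51821073)))) (BT.node (nat_lit 9141888) (BT.node (nat_lit 9141760) (BT.leaf (nat_lit 51821069)) (BT.leaf (nat_lit 51821329))) (BT.node (nat_lit 9141952) (BT.leaf (nat_lit 26148629)) (BT.leaf (nat_lit 26148633)))))) (BT.node (nat_lit 9143296) (BT.node (nat_lit 9142976) (BT.node (nat_lit 9142784) (BT.node (nat_lit 9142528) (BT.leaf (nat_lit 27157257)) (BT.leaf (nat_lit 26984713))) (BT.node (nat_lit 9142912) (BT.leaf (nat_lit 26852641)) (BT.leaf (nat_lit 36571933)))) (BT.node (nat_lit 9143104) (BT.node (nat_lit 9143040) (BT.leaf (nat_lit 37675793)) (BT.leaf (nat_lit 26153233))) (BT.node (nat_lit 9143232) (BT.leaf (nat_lit 26153745)) (BT.leaf (nat_lit 26154257))))) (BT.node (nat_lit 9143552) (BT.node (nat_lit 9143424) (BT.node (nat_lit 9143360) (BT.leaf (nat_lit 26154261)) (BT.leaf (nat_lit 26154513))) (BT.node (nat_lit 9143488) (BT.leaf (nat_lit 26154517)) (BT.leaf (nat_lit 26192405)))) (BT.node (nat_lit 9143680) (BT.node (nat_lit 9143616) (BT.leaf (nat_lit 26156305)) (BT.leaf (nat_lit 26156309))) (BT.node (nat_lit 9143744) (BT.leaf (nat_lit 26156561)) (BT.leaf (nat_lit 37214233))))))) (BT.node (nat_lit 9145728) (BT.node (nat_lit 9144960) (BT.node (nat_lit 9144704) (BT.node (nat_lit 9144384) (BT.node (nat_lit 9144320) (BT.leaf (nat_lit 51832597)) (BT.leaf (nat_lit 36470801))) (BT.node (nat_lit 9144576) (BT.leaf (nat_lit 36470545)) (BT.leaf (nat_lit 26159889)))) (BT.node (nat_lit 9144832) (BT.node (nat_lit 9144768) (BT.leaf (nat_lit 26160145)) (BT.leaf (nat_lit 32628229))) (BT.node (nat_lit 9144896) (BT.leaf (nat_lit 26160409)) (BT.leaf (nat_lit 26160413))))) (BT.node (nat_lit 9145408) (BT.node (nat_lit 9145088) (BT.node (nat_lit 9145024) (BT.leaf (nat_lit 26160657)) (BT.leaf (nat_lit 26160661))) (BT.node (nat_lit 9145280) (BT.leaf (nat_lit 26160913)) (BT.leaf (nat_lit 26162201)))) (BT.node (nat_lit 9145600) (BT.node (nat_lit 9145536) (BT.leaf (nat_lit 26162713)) (BT.leaf (nat_lit 26163473))) (BT.node (nat_lit 9145664) (BT.leaf (nat_lit 35897105)) (BT.leaf (nat_lit 26164241)))))) (BT.node (nat_lit 9146688) (BT.node (nat_lit 9146176) (BT.node (nat_lit 9145856) (BT.node (nat_lit 9145792) (BT.leaf (nat_lit 26165521)) (BT.leaf (nat_lit 26165269))) (BT.node (nat_lit 9145920) (BT.leaf (nat_lit 26166033)) (BT.leaf (nat_lit 26165789)))) (BT.node (nat_lit 9146560) (BT.node (nat_lit 9146432) (BT.leaf (nat_lit 51784473)) (BT.leaf (nat_lit 46969105))) (BT.node (nat_lit 9146624) (BT.leaf (nat_lit 26168849)) (BT.leaf (nat_lit 26169617))))) (BT.node (nat_lit 9147200) (BT.node (nat_lit 9147072) (BT.node (nat_lit 9146752) (BT.leaf (nat_lit 26169621)) (BT.leaf (nat_lit 26169873))) (BT.node (nat_lit 9147136) (BT.leaf (nat_lit 51838225)) (BT.leaf (nat_lit 27014929)))) (BT.node (nat_lit 9147456) (BT.node (nat_lit 9147264) (BT.leaf (nat_lit 51838485)) (BT.leaf (nat_lit 26611485))) (BT.node (nat_lit 9147648) (BT.leaf (nat_lit 36855049)) (BT.leaf (nat_lit 26997257)))))))))) (BT.node (nat_lit 9163776) (BT.node (nat_lit 9155136) (BT.node (nat_lit 9150976) (BT.node (nat_lit 9149568) (BT.node (nat_lit 9148736) (BT.node (nat_lit 9148352) (BT.node (nat_lit 9148096) (BT.node (nat_lit 9147968) (BT.leaf (nat_lit 47243013)) (BT.leaf (nat_lit 26173201))) (BT.node (nat_lit 9148288) (BT.leaf (nat_lit 27253525)) (BT.leaf (nat_lit 37060357)))) (BT.node (nat_lit 9148480) (BT.node (nat_lit 9148416) (BT.leaf (nat_lit 51789333)) (BT.leaf (nat_lit 26175765))) (BT.node (nat_lit 9148544) (BT.leaf (nat_lit 26176017)) (BT.leaf (nat_lit 26176277))))) (BT.node (nat_lit 9149120) (BT.node (nat_lit 9148864) (BT.node (nat_lit 9148800) (BT.leaf (nat_lit 26828825)) (BT.leaf (nat_lit 26178577))) (BT.node (nat_lit 9148928) (BT.leaf (nat_lit 26178325)) (BT.leaf (nat_lit 26178329)))) (BT.node (nat_lit 9149312) (BT.node (nat_lit 9149184) (BT.leaf (nat_lit 26178837)) (BT.leaf (nat_lit 32120581))) (BT.node (nat_lit 9149376) (BT.leaf (nat_lit 51333145)) (BT.leaf (nat_lit 26180373)))))) (BT.node (nat_lit 9150208) (BT.node (nat_lit 9149952) (BT.node (nat_lit 9149696) (BT.node (nat_lit 9149632) (BT.leaf (nat_lit 26180625)) (BT.leaf (nat_lit 26899233))) (BT.node (nat_lit 9149760) (BT.leaf (nat_lit 27142429)) (BT.leaf (nat_lit 26180885)))) (BT.node (nat_lit 9150080) (BT.node (nat_lit 9150016) (BT.leaf (nat_lit 50433809)) (BT.leaf (nat_lit 36775705))) (BT.node (nat_lit 9150144) (BT.leaf (nat_lit 37544461)) (BT.leaf (nat_lit 51843601))))) (BT.node (nat_lit 9150464) (BT.node (nat_lit 9150336) (BT.node (nat_lit 9150272) (BT.leaf (nat_lit 26627601)) (BT.leaf (nat_lit 51843857))) (BT.node (nat_lit 9150400) (BT.leaf (nat_lit 51844625)) (BT.leaf (nat_lit 26184725)))) (BT.node (nat_lit 9150784) (BT.node (nat_lit 9150656) (BT.leaf (nat_lit 26183961)) (BT.leaf (nat_lit 26184209))) (BT.node (nat_lit 9150848) (BT.leaf (nat_lit 26184465)) (BT.leaf (nat_lit 26184469))))))) (BT.node (nat_lit 9152768) (BT.node (nat_lit 9152000) (BT.node (nat_lit 9151552) (BT.node (nat_lit 9151424) (BT.node (nat_lit 9151040) (BT.leaf (nat_lit 35658269)) (BT.leaf (nat_lit 26185233))) (BT.node (nat_lit 9151488) (BT.leaf (nat_lit 37092101)) (BT.leaf (nat_lit 26188561)))) (BT.node (nat_lit 9151680) (BT.node (nat_lit 9151616) (BT.leaf (nat_lit 26188821)) (BT.leaf (nat_lit 26188829))) (BT.node (nat_lit 9151744) (BT.leaf (nat_lit 26189853)) (BT.leaf (nat_lit 27056665))))) (BT.node (nat_lit 9152256) (BT.node (nat_lit 9152128) (BT.node (nat_lit 9152064) (BT.leaf (nat_lit 26190609)) (BT.leaf (nat_lit 27032849))) (BT.node (nat_lit 9152192) (BT.leaf (nat_lit 51849489)) (BT.leaf (nat_lit 26191889)))) (BT.node (nat_lit 9152512) (BT.node (nat_lit 9152448) (BT.leaf (nat_lit 51850257)) (BT.leaf (nat_lit 26191633))) (BT.node (nat_lit 9152640) (BT.leaf (nat_lit 27241733)) (BT.leaf (nat_lit 51851289)))))) (BT.node (nat_lit 9153856) (BT.node (nat_lit 9153344) (BT.node (nat_lit 9153216) (BT.node (nat_lit 9152960) (BT.leaf (nat_lit 51851541)) (BT.leaf (nat_lit 37559817))) (BT.node (nat_lit 9153280) (BT.leaf (nat_lit 51852053)) (BT.leaf (nat_lit 36706061)))) (BT.node (nat_lit 9153600) (BT.node (nat_lit 9153472) (BT.leaf (nat_lit 51852565)) (BT.leaf (nat_lit 51201313))) (BT.node (nat_lit 9153664) (BT.leaf (nat_lit 36780833)) (BT.leaf (nat_lit 26197265))))) (BT.node (nat_lit 9154560) (BT.node (nat_lit 9154112) (BT.node (nat_lit 9154048) (BT.leaf (nat_lit 49829909)) (BT.leaf (nat_lit 36616477))) (BT.node (nat_lit 9154240) (BT.leaf (nat_lit 26470165)) (BT.leaf (nat_lit 51202337)))) (BT.node (nat_lit 9154752) (BT.node (nat_lit 9154688) (BT.leaf (nat_lit 37564933)) (BT.leaf (nat_lit 36781345))) (BT.node (nat_lit 9154880) (BT.leaf (nat_lit 26815001)) (BT.leaf (nat_lit 26200349)))))))) (BT.node (nat_lit 9158976) (BT.node (nat_lit 9157184) (BT.node (nat_lit 9156544) (BT.node (nat_lit 9155712) (BT.node (nat_lit 9155392) (BT.node (nat_lit 9155264) (BT.leaf (nat_lit 26201617)) (BT.leaf (nat_lit 51370757))) (BT.node (nat_lit 9155520) (BT.leaf (nat_lit 51856665)) (BT.leaf (nat_lit 26604817)))) (BT.node (nat_lit 9156224) (BT.node (nat_lit 9156160) (BT.leaf (nat_lit 26280729)) (BT.leaf (nat_lit 26206229))) (BT.node (nat_lit 9156416) (BT.leaf (nat_lit 36685585)) (BT.leaf (nat_lit 37600289))))) (BT.node (nat_lit 9156800) (BT.node (nat_lit 9156672) (BT.node (nat_lit 9156608) (BT.leaf (nat_lit 27021577)) (BT.leaf (nat_lit 36531985))) (BT.node (nat_lit 9156736) (BT.leaf (nat_lit 51861777)) (BT.leaf (nat_lit 26208789)))) (BT.node (nat_lit 9156992) (BT.node (nat_lit 9156928) (BT.leaf (nat_lit 26964769)) (BT.leaf (nat_lit 51137041))) (BT.node (nat_lit 9157056) (BT.leaf (nat_lit 35619085)) (BT.leaf (nat_lit 35424277)))))) (BT.node (nat_lit 9158336) (BT.node (nat_lit 9157632) (BT.node (nat_lit 9157312) (BT.node (nat_lit 9157248) (BT.leaf (nat_lit 26212897)) (BT.leaf (nat_lit 26213649))) (BT.node (nat_lit 9157440) (BT.leaf (nat_lit 51863045)) (BT.leaf (nat_lit 26214421)))) (BT.node (nat_lit 9157760) (BT.node (nat_lit 9157696) (BT.leaf (nat_lit 26215701)) (BT.leaf (nat_lit 26217737))) (BT.node (nat_lit 9158272) (BT.leaf (nat_lit 26217741)) (BT.leaf (nat_lit 36158481))))) (BT.node (nat_lit 9158720) (BT.node (nat_lit 9158528) (BT.node (nat_lit 9158464) (BT.leaf (nat_lit 36633113)) (BT.leaf (nat_lit 37456913))) (BT.node (nat_lit 9158656) (BT.leaf (nat_lit 26221841)) (BT.leaf (nat_lit 26221597)))) (BT.node (nat_lit 9158848) (BT.node (nat_lit 9158784) (BT.leaf (nat_lit 35435013)) (BT.leaf (nat_lit 26222101))) (BT.node (nat_lit 9158912) (BT.leaf (nat_lit 36241673)) (BT.leaf (nat_lit 36635417))))))) (BT.node (nat_lit 9160832) (BT.node (nat_lit 9159936) (BT.node (nat_lit 9159616) (BT.node (nat_lit 9159360) (BT.node (nat_lit 9159296) (BT.leaf (nat_lit 26224149)) (BT.leaf (nat_lit 26227485))) (BT.node (nat_lit 9159424) (BT.leaf (nat_lit 49608197)) (BT.leaf (nat_lit 26227989)))) (BT.node (nat_lit 9159744) (BT.node (nat_lit 9159680) (BT.leaf (nat_lit 26229525)) (BT.leaf (nat_lit 37337877))) (BT.node (nat_lit 9159808) (BT.leaf (nat_lit 36599065)) (BT.leaf (nat_lit 51842841))))) (BT.node (nat_lit 9160192) (BT.node (nat_lit 9160064) (BT.node (nat_lit 9160000) (BT.leaf (nat_lit 36599053)) (BT.leaf (nat_lit 35562005))) (BT.node (nat_lit 9160128) (BT.leaf (nat_lit 26231569)) (BT.leaf (nat_lit 26706965)))) (BT.node (nat_lit 9160512) (BT.node (nat_lit 9160384) (BT.leaf (nat_lit 51331333)) (BT.leaf (nat_lit 51599365))) (BT.node (nat_lit 9160576) (BT.leaf (nat_lit 34151177)) (BT.leaf (nat_lit 35906077)))))) (BT.node (nat_lit 9162880) (BT.node (nat_lit 9162112) (BT.node (nat_lit 9161728) (BT.node (nat_lit 9161216) (BT.leaf (nat_lit 51146013)) (BT.leaf (nat_lit 36927253))) (BT.node (nat_lit 9161984) (BT.leaf (nat_lit 26236693)) (BT.leaf (nat_lit 32397341)))) (BT.node (nat_lit 9162304) (BT.node (nat_lit 9162240) (BT.leaf (nat_lit 26238997)) (BT.leaf (nat_lit 37548049))) (BT.node (nat_lit 9162624) (BT.leaf (nat_lit 26239249)) (BT.leaf (nat_lit 26873881))))) (BT.node (nat_lit 9163200) (BT.node (nat_lit 9163008) (BT.node (nat_lit 9162944) (BT.leaf (nat_lit 36469277)) (BT.leaf (nat_lit 26240533))) (BT.node (nat_lit 9163136) (BT.leaf (nat_lit 26240789)) (BT.leaf (nat_lit 49804305)))) (BT.node (nat_lit 9163648) (BT.node (nat_lit 9163264) (BT.leaf (nat_lit 36633349)) (BT.leaf (nat_lit 37285381))) (BT.node (nat_lit 9163712) (BT.leaf (nat_lit 26242069)) (BT.leaf (nat_lit 26881305))))))))) (BT.node (nat_lit 9171520) (BT.node (nat_lit 9167872) (BT.node (nat_lit 9165760) (BT.node (nat_lit 9164352) (BT.node (nat_lit 9164096) (BT.node (nat_lit 9163904) (BT.node (nat_lit 9163840) (BT.leaf (nat_lit 26898717)) (BT.leaf (nat_lit 51880209))) (BT.node (nat_lit 9164032) (BT.leaf (nat_lit 26881293)) (BT.leaf (nat_lit 37342237)))) (BT.node (nat_lit 9164224) (BT.node (nat_lit 9164160) (BT.leaf (nat_lit 26242581)) (BT.leaf (nat_lit 37114137))) (BT.node (nat_lit 9164288) (BT.leaf (nat_lit 26242837)) (BT.leaf (nat_lit 37562897))))) (BT.node (nat_lit 9164992) (BT.node (nat_lit 9164480) (BT.node (nat_lit 9164416) (BT.leaf (nat_lit 36657177)) (BT.leaf (nat_lit 37119493))) (BT.node (nat_lit 9164928) (BT.leaf (nat_lit 37119749)) (BT.leaf (nat_lit 37559821)))) (BT.node (nat_lit 9165376) (BT.node (nat_lit 9165248) (BT.leaf (nat_lit 26833937)) (BT.leaf (nat_lit 26245905))) (BT.node (nat_lit 9165568) (BT.leaf (nat_lit 26246161)) (BT.leaf (nat_lit 26247193)))))) (BT.node (nat_lit 9166912) (BT.node (nat_lit 9166336) (BT.node (nat_lit 9166144) (BT.node (nat_lit 9166080) (BT.leaf (nat_lit 26247705)) (BT.leaf (nat_lit 51379721))) (BT.node (nat_lit 9166272) (BT.leaf (nat_lit 26248465)) (BT.leaf (nat_lit 36953613)))) (BT.node (nat_lit 9166784) (BT.node (nat_lit 9166400) (BT.leaf (nat_lit 26249753)) (BT.leaf (nat_lit 26856721))) (BT.node (nat_lit 9166848) (BT.leaf (nat_lit 26252045)) (BT.leaf (nat_lit 51885073))))) (BT.node (nat_lit 9167296) (BT.node (nat_lit 9167040) (BT.node (nat_lit 9166976) (BT.leaf (nat_lit 26253321)) (BT.leaf (nat_lit 26253345))) (BT.node (nat_lit 9167104) (BT.leaf (nat_lit 51885341)) (BT.leaf (nat_lit 37605405)))) (BT.node (nat_lit 9167424) (BT.node (nat_lit 9167360) (BT.leaf (nat_lit 37537313)) (BT.leaf (nat_lit 26253845))) (BT.node (nat_lit 9167616) (BT.leaf (nat_lit 50799125)) (BT.leaf (nat_lit 37449225))))))) (BT.node (nat_lit 9170048) (BT.node (nat_lit 9168704) (BT.node (nat_lit 9168256) (BT.node (nat_lit 9168000) (BT.node (nat_lit 9167936) (BT.leaf (nat_lit 26854429)) (BT.leaf (nat_lit 26255637))) (BT.node (nat_lit 9168128) (BT.leaf (nat_lit 27266841)) (BT.leaf (nat_lit 35880977)))) (BT.node (nat_lit 9168448) (BT.node (nat_lit 9168320) (BT.leaf (nat_lit 26256669)) (BT.leaf (nat_lit 26256929))) (BT.node (nat_lit 9168512) (BT.leaf (nat_lit 35770649)) (BT.leaf (nat_lit 26712349))))) (BT.node (nat_lit 9169472) (BT.node (nat_lit 9169280) (BT.node (nat_lit 9168832) (BT.leaf (nat_lit 51888157)) (BT.leaf (nat_lit 26258961))) (BT.node (nat_lit 9169408) (BT.leaf (nat_lit 51890713)) (BT.leaf (nat_lit 51891225)))) (BT.node (nat_lit 9169600) (BT.node (nat_lit 9169536) (BT.leaf (nat_lit 51891485)) (BT.leaf (nat_lit 50513941))) (BT.node (nat_lit 9169920) (BT.leaf (nat_lit 51891209)) (BT.leaf (nat_lit 27223069)))))) (BT.node (nat_lit 9170816) (BT.node (nat_lit 9170496) (BT.node (nat_lit 9170304) (BT.node (nat_lit 9170240) (BT.leaf (nat_lit 26262533)) (BT.leaf (nat_lit 26263049))) (BT.node (nat_lit 9170368) (BT.leaf (nat_lit 26263053)) (BT.leaf (nat_lit 26263057)))) (BT.node (nat_lit 9170624) (BT.node (nat_lit 9170560) (BT.leaf (nat_lit 26263069)) (BT.leaf (nat_lit 26263313))) (BT.node (nat_lit 9170688) (BT.leaf (nat_lit 26263317)) (BT.leaf (nat_lit 26263573))))) (BT.node (nat_lit 9171264) (BT.node (nat_lit 9171136) (BT.node (nat_lit 9171008) (BT.leaf (nat_lit 26264081)) (BT.leaf (nat_lit 26265097))) (BT.node (nat_lit 9171200) (BT.leaf (nat_lit 26281753)) (BT.leaf (nat_lit 26600973)))) (BT.node (nat_lit 9171392) (BT.node (nat_lit 9171328) (BT.leaf (nat_lit 26600985)) (BT.leaf (nat_lit 26281741))) (BT.node (nat_lit 9171456) (BT.leaf (nat_lit 26266373)) (BT.leaf (nat_lit 37017117)))))))) (BT.node (nat_lit 9175424) (BT.node (nat_lit 9173696) (BT.node (nat_lit 9172544) (BT.node (nat_lit 9172096) (BT.node (nat_lit 9171712) (BT.node (nat_lit 9171584) (BT.leaf (nat_lit 26266645)) (BT.leaf (nat_lit 27185177))) (BT.node (nat_lit 9172032) (BT.leaf (nat_lit 26267153)) (BT.leaf (nat_lit 26588189)))) (BT.node (nat_lit 9172416) (BT.node (nat_lit 9172352) (BT.leaf (nat_lit 36986377)) (BT.leaf (nat_lit 26269205))) (BT.node (nat_lit 9172480) (BT.leaf (nat_lit 36986397)) (BT.leaf (nat_lit 26269473))))) (BT.node (nat_lit 9173184) (BT.node (nat_lit 9172800) (BT.node (nat_lit 9172672) (BT.leaf (nat_lit 26867737)) (BT.leaf (nat_lit 26886169))) (BT.node (nat_lit 9172928) (BT.leaf (nat_lit 51808277)) (BT.leaf (nat_lit 26271257)))) (BT.node (nat_lit 9173504) (BT.node (nat_lit 9173440) (BT.leaf (nat_lit 27155725)) (BT.leaf (nat_lit 37246213))) (BT.node (nat_lit 9173568) (BT.leaf (nat_lit 36671773)) (BT.leaf (nat_lit 26272529)))))) (BT.node (nat_lit 9174656) (BT.node (nat_lit 9174400) (BT.node (nat_lit 9174208) (BT.node (nat_lit 9173888) (BT.leaf (nat_lit 51653405)) (BT.leaf (nat_lit 26273305))) (BT.node (nat_lit 9174272) (BT.leaf (nat_lit 51340317)) (BT.leaf (nat_lit 26274321)))) (BT.node (nat_lit 9174528) (BT.node (nat_lit 9174464) (BT.leaf (nat_lit 36539421)) (BT.leaf (nat_lit 26274581))) (BT.node (nat_lit 9174592) (BT.leaf (nat_lit 26274837)) (BT.leaf (nat_lit 26275077))))) (BT.node (nat_lit 9174912) (BT.node (nat_lit 9174784) (BT.node (nat_lit 9174720) (BT.leaf (nat_lit 26275097)) (BT.leaf (nat_lit 26275101))) (BT.node (nat_lit 9174848) (BT.leaf (nat_lit 37146893)) (BT.leaf (nat_lit 26275861)))) (BT.node (nat_lit 9175104) (BT.node (nat_lit 9175040) (BT.leaf (nat_lit 51902229)) (BT.leaf (nat_lit 26902533))) (BT.node (nat_lit 9175360) (BT.leaf (nat_lit 37292805)) (BT.leaf (nat_lit 36540165))))))) (BT.node (nat_lit 9177792) (BT.node (nat_lit 9176256) (BT.node (nat_lit 9175936) (BT.node (nat_lit 9175680) (BT.node (nat_lit 9175552) (BT.leaf (nat_lit 27109893)) (BT.leaf (nat_lit 26280725))) (BT.node (nat_lit 9175808) (BT.leaf (nat_lit 27196933)) (BT.leaf (nat_lit 36496409)))) (BT.node (nat_lit 9176064) (BT.node (nat_lit 9176000) (BT.leaf (nat_lit 26281993)) (BT.leaf (nat_lit 26281997))) (BT.node (nat_lit 9176128) (BT.leaf (nat_lit 26282013)) (BT.leaf (nat_lit 26283033))))) (BT.node (nat_lit 9176896) (BT.node (nat_lit 9176512) (BT.node (nat_lit 9176320) (BT.leaf (nat_lit 51905305)) (BT.leaf (nat_lit 36611081))) (BT.node (nat_lit 9176832) (BT.leaf (nat_lit 51905541)) (BT.leaf (nat_lit 47126033)))) (BT.node (nat_lit 9177600) (BT.node (nat_lit 9177152) (BT.leaf (nat_lit 35779601)) (BT.leaf (nat_lit 27258901))) (BT.node (nat_lit 9177664) (BT.leaf (nat_lit 37307169)) (BT.leaf (nat_lit 51906325)))))) (BT.node (nat_lit 9178816) (BT.node (nat_lit 9178304) (BT.node (nat_lit 9177920) (BT.node (nat_lit 9177856) (BT.leaf (nat_lit 51854613)) (BT.leaf (nat_lit 51855125))) (BT.node (nat_lit 9178176) (BT.leaf (nat_lit 37029405)) (BT.leaf (nat_lit 26291997)))) (BT.node (nat_lit 9178688) (BT.node (nat_lit 9178368) (BT.leaf (nat_lit 26293009)) (BT.leaf (nat_lit 26293269))) (BT.node (nat_lit 9178752) (BT.leaf (nat_lit 49852437)) (BT.leaf (nat_lit 36127761))))) (BT.node (nat_lit 9179264) (BT.node (nat_lit 9178944) (BT.node (nat_lit 9178880) (BT.leaf (nat_lit 26295317)) (BT.leaf (nat_lit 51907861))) (BT.node (nat_lit 9179136) (BT.leaf (nat_lit 26295573)) (BT.leaf (nat_lit 51772941)))) (BT.node (nat_lit 9179392) (BT.node (nat_lit 9179328) (BT.leaf (nat_lit 51909921)) (BT.leaf (nat_lit 26296601))) (BT.node (nat_lit 9179456) (BT.leaf (nat_lit 37709333)) (BT.leaf (nat_lit 36717577)))))))))))))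
noncomputable def big0_e71680 : BT Nat := (BT.node (nat_lit 9283072) (BT.node (nat_lit 9233344) (BT.node (nat_lit 9207680) (BT.node (nat_lit 9194496) (BT.node (nat_lit 9187328) (BT.node (nat_lit 9182464) (BT.node (nat_lit 9180864) (BT.node (nat_lit 9180224) (BT.node (nat_lit 9179904) (BT.node (nat_lit 9179648) (BT.node (nat_lit 9179584) (BT.leaf (nat_lit 26296861)) (BT.leaf (nat_lit 26297105))) (BT.node (nat_lit 9179712) (BT.leaf (nat_lit 26297109)) (BT.leaf (nat_lit 51911185)))) (BT.node (nat_lit 9180096) (BT.node (nat_lit 9180032) (BT.leaf (nat_lit 35626001)) (BT.leaf (nat_lit 26299913))) (BT.node (nat_lit 9180160) (BT.leaf (nat_lit 26299917)) (BT.leaf (nat_lit 26299929))))) (BT.node (nat_lit 9180544) (BT.node (nat_lit 9180352) (BT.node (nat_lit 9180288) (BT.leaf (nat_lit 51288597)) (BT.leaf (nat_lit 36481809))) (BT.node (nat_lit 9180416) (BT.leaf (nat_lit 35558677)) (BT.leaf (nat_lit 35558937)))) (BT.node (nat_lit 9180736) (BT.node (nat_lit 9180608) (BT.leaf (nat_lit 38451225)) (BT.leaf (nat_lit 26301965))) (BT.node (nat_lit 9180800) (BT.leaf (nat_lit 26301977)) (BT.leaf (nat_lit 38451213)))))) (BT.node (nat_lit 9181888) (BT.node (nat_lit 9181312) (BT.node (nat_lit 9181056) (BT.node (nat_lit 9180928) (BT.leaf (nat_lit 36878357)) (BT.leaf (nat_lit 26302225))) (BT.node (nat_lit 9181120) (BT.leaf (nat_lit 26302485)) (BT.leaf (nat_lit 26302749)))) (BT.node (nat_lit 9181632) (BT.node (nat_lit 9181568) (BT.leaf (nat_lit 51916053)) (BT.leaf (nat_lit 35879685))) (BT.node (nat_lit 9181760) (BT.leaf (nat_lit 26747653)) (BT.leaf (nat_lit 33329173))))) (BT.node (nat_lit 9182144) (BT.node (nat_lit 9182016) (BT.node (nat_lit 9181952) (BT.leaf (nat_lit 33297173)) (BT.leaf (nat_lit 26305301))) (BT.node (nat_lit 9182080) (BT.leaf (nat_lit 33920797)) (BT.leaf (nat_lit 36728605)))) (BT.node (nat_lit 9182336) (BT.node (nat_lit 9182208) (BT.leaf (nat_lit 35428101)) (BT.leaf (nat_lit 36509469))) (BT.node (nat_lit 9182400) (BT.leaf (nat_lit 51917341)) (BT.leaf (nat_lit 26306325))))))) (BT.node (nat_lit 9185152) (BT.node (nat_lit 9183616) (BT.node (nat_lit 9183040) (BT.node (nat_lit 9182656) (BT.node (nat_lit 9182528) (BT.leaf (nat_lit 26306565)) (BT.leaf (nat_lit 26306577))) (BT.node (nat_lit 9182912) (BT.leaf (nat_lit 26307101)) (BT.leaf (nat_lit 26308113)))) (BT.node (nat_lit 9183360) (BT.node (nat_lit 9183104) (BT.leaf (nat_lit 26308633)) (BT.leaf (nat_lit 26308637))) (BT.node (nat_lit 9183488) (BT.leaf (nat_lit 26309393)) (BT.leaf (nat_lit 51919641))))) (BT.node (nat_lit 9184128) (BT.node (nat_lit 9184000) (BT.node (nat_lit 9183744) (BT.leaf (nat_lit 26311193)) (BT.leaf (nat_lit 51919877))) (BT.node (nat_lit 9184064) (BT.leaf (nat_lit 51920405)) (BT.leaf (nat_lit 26688261)))) (BT.node (nat_lit 9184448) (BT.node (nat_lit 9184256) (BT.leaf (nat_lit 51921693)) (BT.leaf (nat_lit 51922189))) (BT.node (nat_lit 9184640) (BT.leaf (nat_lit 51923473)) (BT.leaf (nat_lit 51923213)))))) (BT.node (nat_lit 9185728) (BT.node (nat_lit 9185472) (BT.node (nat_lit 9185280) (BT.node (nat_lit 9185216) (BT.leaf (nat_lit 51926037)) (BT.leaf (nat_lit 26315793))) (BT.node (nat_lit 9185408) (BT.leaf (nat_lit 51360545)) (BT.leaf (nat_lit 48930581)))) (BT.node (nat_lit 9185600) (BT.node (nat_lit 9185536) (BT.leaf (nat_lit 37440265)) (BT.leaf (nat_lit 48433689))) (BT.node (nat_lit 9185664) (BT.leaf (nat_lit 47700757)) (BT.leaf (nat_lit 26317329))))) (BT.node (nat_lit 9186752) (BT.node (nat_lit 9186368) (BT.node (nat_lit 9186112) (BT.leaf (nat_lit 37368845)) (BT.leaf (nat_lit 36653089))) (BT.node (nat_lit 9186688) (BT.leaf (nat_lit 26320413)) (BT.leaf (nat_lit 26709765)))) (BT.node (nat_lit 9187136) (BT.node (nat_lit 9186816) (BT.leaf (nat_lit 26321681)) (BT.leaf (nat_lit 51802141))) (BT.node (nat_lit 9187264) (BT.leaf (nat_lit 37125393)) (BT.leaf (nat_lit 50807557)))))))) (BT.node (nat_lit 9191040) (BT.node (nat_lit 9188928) (BT.node (nat_lit 9188352) (BT.node (nat_lit 9187712) (BT.node (nat_lit 9187520) (BT.node (nat_lit 9187392) (BT.leaf (nat_lit 50807569)) (BT.leaf (nat_lit 26323485))) (BT.node (nat_lit 9187584) (BT.leaf (nat_lit 31295513)) (BT.leaf (nat_lit 26324241)))) (BT.node (nat_lit 9188160) (BT.node (nat_lit 9187904) (BT.leaf (nat_lit 33173021)) (BT.leaf (nat_lit 26327313))) (BT.node (nat_lit 9188288) (BT.leaf (nat_lit 37373465)) (BT.leaf (nat_lit 26932505))))) (BT.node (nat_lit 9188608) (BT.node (nat_lit 9188480) (BT.node (nat_lit 9188416) (BT.leaf (nat_lit 37661713)) (BT.leaf (nat_lit 51932945))) (BT.node (nat_lit 9188544) (BT.leaf (nat_lit 26330389)) (BT.leaf (nat_lit 46574349)))) (BT.node (nat_lit 9188800) (BT.node (nat_lit 9188736) (BT.leaf (nat_lit 26330397)) (BT.leaf (nat_lit 51935521))) (BT.node (nat_lit 9188864) (BT.leaf (nat_lit 26330905)) (BT.leaf (nat_lit 51935749)))))) (BT.node (nat_lit 9190336) (BT.node (nat_lit 9189952) (BT.node (nat_lit 9189824) (BT.node (nat_lit 9189248) (BT.leaf (nat_lit 36989973)) (BT.leaf (nat_lit 26332433))) (BT.node (nat_lit 9189888) (BT.leaf (nat_lit 51269893)) (BT.leaf (nat_lit 46555165)))) (BT.node (nat_lit 9190144) (BT.node (nat_lit 9190080) (BT.leaf (nat_lit 46555145)) (BT.leaf (nat_lit 51499541))) (BT.node (nat_lit 9190208) (BT.leaf (nat_lit 33881629)) (BT.leaf (nat_lit 34137877))))) (BT.node (nat_lit 9190784) (BT.node (nat_lit 9190528) (BT.node (nat_lit 9190464) (BT.leaf (nat_lit 26335761)) (BT.leaf (nat_lit 50014477))) (BT.node (nat_lit 9190720) (BT.leaf (nat_lit 37691925)) (BT.leaf (nat_lit 49919245)))) (BT.node (nat_lit 9190912) (BT.node (nat_lit 9190848) (BT.leaf (nat_lit 26339605)) (BT.leaf (nat_lit 26339345))) (BT.node (nat_lit 9190976) (BT.leaf (nat_lit 26339601)) (BT.leaf (nat_lit 26340625))))))) (BT.node (nat_lit 9192640) (BT.node (nat_lit 9192000) (BT.node (nat_lit 9191488) (BT.node (nat_lit 9191168) (BT.node (nat_lit 9191104) (BT.leaf (nat_lit 27263749)) (BT.leaf (nat_lit 26342421))) (BT.node (nat_lit 9191424) (BT.leaf (nat_lit 26342429)) (BT.leaf (nat_lit 51940373)))) (BT.node (nat_lit 9191744) (BT.node (nat_lit 9191552) (BT.leaf (nat_lit 26344985)) (BT.leaf (nat_lit 51940617))) (BT.node (nat_lit 9191808) (BT.leaf (nat_lit 35537925)) (BT.leaf (nat_lit 26347025))))) (BT.node (nat_lit 9192320) (BT.node (nat_lit 9192128) (BT.node (nat_lit 9192064) (BT.leaf (nat_lit 35667461)) (BT.leaf (nat_lit 51766813))) (BT.node (nat_lit 9192256) (BT.leaf (nat_lit 37677333)) (BT.leaf (nat_lit 37552149)))) (BT.node (nat_lit 9192512) (BT.node (nat_lit 9192384) (BT.leaf (nat_lit 35463685)) (BT.leaf (nat_lit 50505221))) (BT.node (nat_lit 9192576) (BT.leaf (nat_lit 26349337)) (BT.leaf (nat_lit 26349341)))))) (BT.node (nat_lit 9193920) (BT.node (nat_lit 9193152) (BT.node (nat_lit 9192768) (BT.node (nat_lit 9192704) (BT.leaf (nat_lit 26349593)) (BT.leaf (nat_lit 26349597))) (BT.node (nat_lit 9192960) (BT.leaf (nat_lit 26349845)) (BT.leaf (nat_lit 35848989)))) (BT.node (nat_lit 9193664) (BT.node (nat_lit 9193280) (BT.leaf (nat_lit 26351381)) (BT.leaf (nat_lit 26352145))) (BT.node (nat_lit 9193856) (BT.leaf (nat_lit 27081477)) (BT.leaf (nat_lit 37380637))))) (BT.node (nat_lit 9194240) (BT.node (nat_lit 9194112) (BT.node (nat_lit 9193984) (BT.leaf (nat_lit 51912465)) (BT.leaf (nat_lit 37373205))) (BT.node (nat_lit 9194176) (BT.leaf (nat_lit 26355481)) (BT.leaf (nat_lit 51943953)))) (BT.node (nat_lit 9194368) (BT.node (nat_lit 9194304) (BT.leaf (nat_lit 26356757)) (BT.leaf (nat_lit 26356241))) (BT.node (nat_lit 9194432) (BT.leaf (nat_lit 26356497)) (BT.leaf (nat_lit 35906845))))))))) (BT.node (nat_lit 9200576) (BT.node (nat_lit 9197952) (BT.node (nat_lit 9196608) (BT.node (nat_lit 9195328) (BT.node (nat_lit 9194944) (BT.node (nat_lit 9194624) (BT.node (nat_lit 9194560) (BT.leaf (nat_lit 26358285)) (BT.leaf (nat_lit 36924449))) (BT.node (nat_lit 9194752) (BT.leaf (nat_lit 27219997)) (BT.leaf (nat_lit 37532449)))) (BT.node (nat_lit 9195136) (BT.node (nat_lit 9195072) (BT.leaf (nat_lit 36528389)) (BT.leaf (nat_lit 51362069))) (BT.node (nat_lit 9195200) (BT.leaf (nat_lit 51362053)) (BT.leaf (nat_lit 51945221))))) (BT.node (nat_lit 9196288) (BT.node (nat_lit 9195520) (BT.node (nat_lit 9195456) (BT.leaf (nat_lit 51362325)) (BT.leaf (nat_lit 26361109))) (BT.node (nat_lit 9196224) (BT.leaf (nat_lit 26361105)) (BT.leaf (nat_lit 26364437)))) (BT.node (nat_lit 9196480) (BT.node (nat_lit 9196352) (BT.leaf (nat_lit 26364441)) (BT.leaf (nat_lit 26364445))) (BT.node (nat_lit 9196544) (BT.leaf (nat_lit 37111073)) (BT.leaf (nat_lit 46578197)))))) (BT.node (nat_lit 9197376) (BT.node (nat_lit 9196928) (BT.node (nat_lit 9196800) (BT.node (nat_lit 9196672) (BT.leaf (nat_lit 26570757)) (BT.leaf (nat_lit 36786457))) (BT.node (nat_lit 9196864) (BT.leaf (nat_lit 49992209)) (BT.leaf (nat_lit 51897101)))) (BT.node (nat_lit 9197184) (BT.node (nat_lit 9197120) (BT.leaf (nat_lit 35748113)) (BT.leaf (nat_lit 26369045))) (BT.node (nat_lit 9197312) (BT.leaf (nat_lit 51203845)) (BT.leaf (nat_lit 51411465))))) (BT.node (nat_lit 9197632) (BT.node (nat_lit 9197504) (BT.node (nat_lit 9197440) (BT.leaf (nat_lit 35945741)) (BT.leaf (nat_lit 26369313))) (BT.node (nat_lit 9197568) (BT.leaf (nat_lit 26369557)) (BT.leaf (nat_lit 26369813)))) (BT.node (nat_lit 9197760) (BT.node (nat_lit 9197696) (BT.leaf (nat_lit 26370073)) (BT.leaf (nat_lit 33771041))) (BT.node (nat_lit 9197888) (BT.leaf (nat_lit 35855393)) (BT.leaf (nat_lit 35855649))))))) (BT.node (nat_lit 9199424) (BT.node (nat_lit 9198784) (BT.node (nat_lit 9198528) (BT.node (nat_lit 9198144) (BT.node (nat_lit 9198016) (BT.leaf (nat_lit 31176205)) (BT.leaf (nat_lit 51951633))) (BT.node (nat_lit 9198400) (BT.leaf (nat_lit 26371601)) (BT.leaf (nat_lit 26372625)))) (BT.node (nat_lit 9198656) (BT.node (nat_lit 9198592) (BT.leaf (nat_lit 27231765)) (BT.leaf (nat_lit 26373657))) (BT.node (nat_lit 9198720) (BT.leaf (nat_lit 26373661)) (BT.leaf (nat_lit 34358553))))) (BT.node (nat_lit 9199040) (BT.node (nat_lit 9198912) (BT.node (nat_lit 9198848) (BT.leaf (nat_lit 51953669)) (BT.leaf (nat_lit 35010849))) (BT.node (nat_lit 9198976) (BT.leaf (nat_lit 36017173)) (BT.leaf (nat_lit 26375697)))) (BT.node (nat_lit 9199296) (BT.node (nat_lit 9199232) (BT.leaf (nat_lit 26375453)) (BT.leaf (nat_lit 26376221))) (BT.node (nat_lit 9199360) (BT.leaf (nat_lit 26376465)) (BT.leaf (nat_lit 26376989)))))) (BT.node (nat_lit 9199936) (BT.node (nat_lit 9199680) (BT.node (nat_lit 9199552) (BT.node (nat_lit 9199488) (BT.leaf (nat_lit 26377241)) (BT.leaf (nat_lit 26378517))) (BT.node (nat_lit 9199616) (BT.leaf (nat_lit 27063045)) (BT.leaf (nat_lit 26383137)))) (BT.node (nat_lit 9199808) (BT.node (nat_lit 9199744) (BT.leaf (nat_lit 35483149)) (BT.leaf (nat_lit 26380309))) (BT.node (nat_lit 9199872) (BT.leaf (nat_lit 51957521)) (BT.leaf (nat_lit 26380569))))) (BT.node (nat_lit 9200320) (BT.node (nat_lit 9200128) (BT.node (nat_lit 9200000) (BT.leaf (nat_lit 26380573)) (BT.leaf (nat_lit 37509665))) (BT.node (nat_lit 9200192) (BT.leaf (nat_lit 37434893)) (BT.leaf (nat_lit 51959313)))) (BT.node (nat_lit 9200448) (BT.node (nat_lit 9200384) (BT.leaf (nat_lit 51959833)) (BT.leaf (nat_lit 51960081))) (BT.node (nat_lit 9200512) (BT.leaf (nat_lit 51329297)) (BT.leaf (nat_lit 51960857)))))))) (BT.node (nat_lit 9204224) (BT.node (nat_lit 9202432) (BT.node (nat_lit 9201600) (BT.node (nat_lit 9200832) (BT.node (nat_lit 9200704) (BT.node (nat_lit 9200640) (BT.leaf (nat_lit 26382873)) (BT.leaf (nat_lit 26382877))) (BT.node (nat_lit 9200768) (BT.leaf (nat_lit 51330065)) (BT.leaf (nat_lit 26383121)))) (BT.node (nat_lit 9200960) (BT.node (nat_lit 9200896) (BT.leaf (nat_lit 51795461)) (BT.leaf (nat_lit 51962133))) (BT.node (nat_lit 9201152) (BT.leaf (nat_lit 26383377)) (BT.leaf (nat_lit 36556557))))) (BT.node (nat_lit 9201856) (BT.node (nat_lit 9201728) (BT.node (nat_lit 9201664) (BT.leaf (nat_lit 26385937)) (BT.leaf (nat_lit 51314693))) (BT.node (nat_lit 9201792) (BT.leaf (nat_lit 26386457)) (BT.leaf (nat_lit 51963653)))) (BT.node (nat_lit 9202176) (BT.node (nat_lit 9201920) (BT.leaf (nat_lit 35333145)) (BT.leaf (nat_lit 26388497))) (BT.node (nat_lit 9202304) (BT.leaf (nat_lit 26391321)) (BT.leaf (nat_lit 26392597)))))) (BT.node (nat_lit 9203328) (BT.node (nat_lit 9202880) (BT.node (nat_lit 9202560) (BT.node (nat_lit 9202496) (BT.leaf (nat_lit 26394141)) (BT.leaf (nat_lit 26395669))) (BT.node (nat_lit 9202752) (BT.leaf (nat_lit 26395673)) (BT.leaf (nat_lit 26397717)))) (BT.node (nat_lit 9203072) (BT.node (nat_lit 9203008) (BT.leaf (nat_lit 26398489)) (BT.leaf (nat_lit 37672225))) (BT.node (nat_lit 9203264) (BT.leaf (nat_lit 37672481)) (BT.leaf (nat_lit 27064857))))) (BT.node (nat_lit 9203584) (BT.node (nat_lit 9203456) (BT.node (nat_lit 9203392) (BT.leaf (nat_lit 26399505)) (BT.leaf (nat_lit 35485725))) (BT.node (nat_lit 9203520) (BT.leaf (nat_lit 51602721)) (BT.leaf (nat_lit 26401041)))) (BT.node (nat_lit 9203840) (BT.node (nat_lit 9203712) (BT.leaf (nat_lit 50174225)) (BT.leaf (nat_lit 26401565))) (BT.node (nat_lit 9203904) (BT.leaf (nat_lit 51278869)) (BT.leaf (nat_lit 35519777))))))) (BT.node (nat_lit 9206336) (BT.node (nat_lit 9204928) (BT.node (nat_lit 9204608) (BT.node (nat_lit 9204352) (BT.node (nat_lit 9204288) (BT.leaf (nat_lit 51452933)) (BT.leaf (nat_lit 36816905))) (BT.node (nat_lit 9204544) (BT.leaf (nat_lit 26404113)) (BT.leaf (nat_lit 26404373)))) (BT.node (nat_lit 9204736) (BT.node (nat_lit 9204672) (BT.leaf (nat_lit 26404633)) (BT.leaf (nat_lit 26404637))) (BT.node (nat_lit 9204864) (BT.leaf (nat_lit 31841569)) (BT.leaf (nat_lit 26404893))))) (BT.node (nat_lit 9205568) (BT.node (nat_lit 9205120) (BT.node (nat_lit 9205056) (BT.leaf (nat_lit 50540305)) (BT.leaf (nat_lit 26407957))) (BT.node (nat_lit 9205504) (BT.leaf (nat_lit 26408977)) (BT.leaf (nat_lit 37335581)))) (BT.node (nat_lit 9206080) (BT.node (nat_lit 9206016) (BT.leaf (nat_lit 26410005)) (BT.leaf (nat_lit 26411537))) (BT.node (nat_lit 9206144) (BT.leaf (nat_lit 26411293)) (BT.leaf (nat_lit 26412049)))))) (BT.node (nat_lit 9207040) (BT.node (nat_lit 9206784) (BT.node (nat_lit 9206528) (BT.node (nat_lit 9206464) (BT.leaf (nat_lit 26413333)) (BT.leaf (nat_lit 36367877))) (BT.node (nat_lit 9206592) (BT.leaf (nat_lit 36678153)) (BT.leaf (nat_lit 51891213)))) (BT.node (nat_lit 9206912) (BT.node (nat_lit 9206848) (BT.leaf (nat_lit 37581845)) (BT.leaf (nat_lit 27233057))) (BT.node (nat_lit 9206976) (BT.leaf (nat_lit 26418705)) (BT.leaf (nat_lit 36018949))))) (BT.node (nat_lit 9207296) (BT.node (nat_lit 9207168) (BT.node (nat_lit 9207104) (BT.leaf (nat_lit 26418965)) (BT.leaf (nat_lit 26419221))) (BT.node (nat_lit 9207232) (BT.leaf (nat_lit 27107341)) (BT.leaf (nat_lit 51945489)))) (BT.node (nat_lit 9207424) (BT.node (nat_lit 9207360) (BT.leaf (nat_lit 26658821)) (BT.leaf (nat_lit 26422549))) (BT.node (nat_lit 9207488) (BT.leaf (nat_lit 26422801)) (BT.leaf (nat_lit 51976981)))))))))) (BT.node (nat_lit 9219392) (BT.node (nat_lit 9213056) (BT.node (nat_lit 9210432) (BT.node (nat_lit 9209408) (BT.node (nat_lit 9208832) (BT.node (nat_lit 9208512) (BT.node (nat_lit 9208192) (BT.node (nat_lit 9207744) (BT.leaf (nat_lit 26423825)) (BT.leaf (nat_lit 51978529))) (BT.node (nat_lit 9208256) (BT.leaf (nat_lit 26425369)) (BT.leaf (nat_lit 26425621)))) (BT.node (nat_lit 9208704) (BT.node (nat_lit 9208640) (BT.leaf (nat_lit 26426141)) (BT.leaf (nat_lit 26427153))) (BT.node (nat_lit 9208768) (BT.leaf (nat_lit 26427409)) (BT.leaf (nat_lit 36952837))))) (BT.node (nat_lit 9209088) (BT.node (nat_lit 9208960) (BT.node (nat_lit 9208896) (BT.leaf (nat_lit 37226013)) (BT.leaf (nat_lit 26428681))) (BT.node (nat_lit 9209024) (BT.leaf (nat_lit 35077137)) (BT.leaf (nat_lit 26428433)))) (BT.node (nat_lit 9209280) (BT.node (nat_lit 9209216) (BT.leaf (nat_lit 36495121)) (BT.leaf (nat_lit 26429969))) (BT.node (nat_lit 9209344) (BT.leaf (nat_lit 26429721)) (BT.leaf (nat_lit 51344409)))))) (BT.node (nat_lit 9209920) (BT.node (nat_lit 9209664) (BT.node (nat_lit 9209536) (BT.node (nat_lit 9209472) (BT.leaf (nat_lit 51984929)) (BT.leaf (nat_lit 51985185))) (BT.node (nat_lit 9209600) (BT.leaf (nat_lit 51985441)) (BT.leaf (nat_lit 51985697)))) (BT.node (nat_lit 9209792) (BT.node (nat_lit 9209728) (BT.leaf (nat_lit 51178773)) (BT.leaf (nat_lit 31580933))) (BT.node (nat_lit 9209856) (BT.leaf (nat_lit 38005005)) (BT.leaf (nat_lit 39222041))))) (BT.node (nat_lit 9210176) (BT.node (nat_lit 9210048) (BT.node (nat_lit 9209984) (BT.leaf (nat_lit 51200033)) (BT.leaf (nat_lit 49917701))) (BT.node (nat_lit 9210112) (BT.leaf (nat_lit 26432017)) (BT.leaf (nat_lit 34055945)))) (BT.node (nat_lit 9210304) (BT.node (nat_lit 9210240) (BT.leaf (nat_lit 26433297)) (BT.leaf (nat_lit 26433045))) (BT.node (nat_lit 9210368) (BT.leaf (nat_lit 26433049)) (BT.leaf (nat_lit 26433053))))))) (BT.node (nat_lit 9211840) (BT.node (nat_lit 9211008) (BT.node (nat_lit 9210752) (BT.node (nat_lit 9210624) (BT.node (nat_lit 9210560) (BT.leaf (nat_lit 47453473)) (BT.leaf (nat_lit 26434077))) (BT.node (nat_lit 9210688) (BT.leaf (nat_lit 50610705)) (BT.leaf (nat_lit 26435097)))) (BT.node (nat_lit 9210880) (BT.node (nat_lit 9210816) (BT.leaf (nat_lit 36843277)) (BT.leaf (nat_lit 33308949))) (BT.node (nat_lit 9210944) (BT.leaf (nat_lit 46785037)) (BT.leaf (nat_lit 49942805))))) (BT.node (nat_lit 9211584) (BT.node (nat_lit 9211456) (BT.node (nat_lit 9211072) (BT.leaf (nat_lit 28729109)) (BT.leaf (nat_lit 33309209))) (BT.node (nat_lit 9211520) (BT.leaf (nat_lit 51989765)) (BT.leaf (nat_lit 26437389)))) (BT.node (nat_lit 9211712) (BT.node (nat_lit 9211648) (BT.leaf (nat_lit 26437393)) (BT.leaf (nat_lit 26437401))) (BT.node (nat_lit 9211776) (BT.leaf (nat_lit 26437405)) (BT.leaf (nat_lit 26437409)))))) (BT.node (nat_lit 9212352) (BT.node (nat_lit 9212096) (BT.node (nat_lit 9211968) (BT.node (nat_lit 9211904) (BT.leaf (nat_lit 26437649)) (BT.leaf (nat_lit 26437653))) (BT.node (nat_lit 9212032) (BT.leaf (nat_lit 26437905)) (BT.leaf (nat_lit 26438149)))) (BT.node (nat_lit 9212224) (BT.node (nat_lit 9212160) (BT.leaf (nat_lit 26438929)) (BT.leaf (nat_lit 47305233))) (BT.node (nat_lit 9212288) (BT.leaf (nat_lit 46802193)) (BT.leaf (nat_lit 26439449))))) (BT.node (nat_lit 9212800) (BT.node (nat_lit 9212480) (BT.node (nat_lit 9212416) (BT.leaf (nat_lit 26439453)) (BT.leaf (nat_lit 26439697))) (BT.node (nat_lit 9212544) (BT.leaf (nat_lit 51992609)) (BT.leaf (nat_lit 26440209)))) (BT.node (nat_lit 9212928) (BT.node (nat_lit 9212864) (BT.leaf (nat_lit 26441237)) (BT.leaf (nat_lit 26441241))) (BT.node (nat_lit 9212992) (BT.leaf (nat_lit 27292933)) (BT.leaf (nat_lit 26441757)))))))) (BT.node (nat_lit 9215872) (BT.node (nat_lit 9214208) (BT.node (nat_lit 9213696) (BT.node (nat_lit 9213440) (BT.node (nat_lit 9213184) (BT.node (nat_lit 9213120) (BT.leaf (nat_lit 26442245)) (BT.leaf (nat_lit 51996181))) (BT.node (nat_lit 9213376) (BT.leaf (nat_lit 37111841)) (BT.leaf (nat_lit 26443797)))) (BT.node (nat_lit 9213568) (BT.node (nat_lit 9213504) (BT.leaf (nat_lit 26444305)) (BT.leaf (nat_lit 35718169))) (BT.node (nat_lit 9213632) (BT.leaf (nat_lit 50058001)) (BT.leaf (nat_lit 41346581))))) (BT.node (nat_lit 9213952) (BT.node (nat_lit 9213824) (BT.node (nat_lit 9213760) (BT.leaf (nat_lit 33733905)) (BT.leaf (nat_lit 26445845))) (BT.node (nat_lit 9213888) (BT.leaf (nat_lit 36018181)) (BT.leaf (nat_lit 36479513)))) (BT.node (nat_lit 9214080) (BT.node (nat_lit 9214016) (BT.leaf (nat_lit 26446357)) (BT.leaf (nat_lit 33642257))) (BT.node (nat_lit 9214144) (BT.leaf (nat_lit 26446865)) (BT.leaf (nat_lit 49961249)))))) (BT.node (nat_lit 9214976) (BT.node (nat_lit 9214528) (BT.node (nat_lit 9214336) (BT.node (nat_lit 9214272) (BT.leaf (nat_lit 49828129)) (BT.leaf (nat_lit 26448913))) (BT.node (nat_lit 9214464) (BT.leaf (nat_lit 26448661)) (BT.leaf (nat_lit 26448917)))) (BT.node (nat_lit 9214848) (BT.node (nat_lit 9214720) (BT.leaf (nat_lit 26449425)) (BT.leaf (nat_lit 26449945))) (BT.node (nat_lit 9214912) (BT.leaf (nat_lit 29506837)) (BT.leaf (nat_lit 26450193))))) (BT.node (nat_lit 9215552) (BT.node (nat_lit 9215296) (BT.node (nat_lit 9215104) (BT.leaf (nat_lit 36043013)) (BT.leaf (nat_lit 27261721))) (BT.node (nat_lit 9215360) (BT.leaf (nat_lit 35242525)) (BT.leaf (nat_lit 51228181)))) (BT.node (nat_lit 9215744) (BT.node (nat_lit 9215616) (BT.leaf (nat_lit 52000533)) (BT.leaf (nat_lit 26452497))) (BT.node (nat_lit 9215808) (BT.leaf (nat_lit 26452253)) (BT.leaf (nat_lit 26453013))))))) (BT.node (nat_lit 9218112) (BT.node (nat_lit 9217088) (BT.node (nat_lit 9216512) (BT.node (nat_lit 9216192) (BT.node (nat_lit 9215936) (BT.leaf (nat_lit 26453017)) (BT.leaf (nat_lit 26453021))) (BT.node (nat_lit 9216384) (BT.leaf (nat_lit 26454033)) (BT.leaf (nat_lit 36924173)))) (BT.node (nat_lit 9216832) (BT.node (nat_lit 9216768) (BT.leaf (nat_lit 26456593)) (BT.leaf (nat_lit 26457117))) (BT.node (nat_lit 9217024) (BT.leaf (nat_lit 36198677)) (BT.leaf (nat_lit 26457873))))) (BT.node (nat_lit 9217792) (BT.node (nat_lit 9217408) (BT.node (nat_lit 9217216) (BT.leaf (nat_lit 26458133)) (BT.leaf (nat_lit 49832709))) (BT.node (nat_lit 9217536) (BT.leaf (nat_lit 52008709)) (BT.leaf (nat_lit 26458653)))) (BT.node (nat_lit 9217984) (BT.node (nat_lit 9217856) (BT.leaf (nat_lit 26459913)) (BT.leaf (nat_lit 26459917))) (BT.node (nat_lit 9218048) (BT.leaf (nat_lit 26459929)) (BT.leaf (nat_lit 26459933)))))) (BT.node (nat_lit 9218752) (BT.node (nat_lit 9218496) (BT.node (nat_lit 9218368) (BT.node (nat_lit 9218304) (BT.leaf (nat_lit 26459937)) (BT.leaf (nat_lit 26765341))) (BT.node (nat_lit 9218432) (BT.leaf (nat_lit 26460437)) (BT.leaf (nat_lit 26460945)))) (BT.node (nat_lit 9218624) (BT.node (nat_lit 9218560) (BT.leaf (nat_lit 26460697)) (BT.leaf (nat_lit 26461201))) (BT.node (nat_lit 9218688) (BT.leaf (nat_lit 26461457)) (BT.leaf (nat_lit 36875021))))) (BT.node (nat_lit 9219008) (BT.node (nat_lit 9218880) (BT.node (nat_lit 9218816) (BT.leaf (nat_lit 26958869)) (BT.leaf (nat_lit 37402381))) (BT.node (nat_lit 9218944) (BT.leaf (nat_lit 36142869)) (BT.leaf (nat_lit 48519185)))) (BT.node (nat_lit 9219264) (BT.node (nat_lit 9219200) (BT.leaf (nat_lit 26581537)) (BT.leaf (nat_lit 26462489))) (BT.node (nat_lit 9219328) (BT.leaf (nat_lit 26462493)) (BT.leaf (nat_lit 26462737))))))))) (BT.node (nat_lit 9225728) (BT.node (nat_lit 9222272) (BT.node (nat_lit 9220608) (BT.node (nat_lit 9220032) (BT.node (nat_lit 9219776) (BT.node (nat_lit 9219584) (BT.node (nat_lit 9219456) (BT.leaf (nat_lit 26462993)) (BT.leaf (nat_lit 36877077))) (BT.node (nat_lit 9219648) (BT.leaf (nat_lit 26464017)) (BT.leaf (nat_lit 26464537)))) (BT.node (nat_lit 9219904) (BT.node (nat_lit 9219840) (BT.leaf (nat_lit 37554949)) (BT.leaf (nat_lit 29452293))) (BT.node (nat_lit 9219968) (BT.leaf (nat_lit 26465049)) (BT.leaf (nat_lit 26465053))))) (BT.node (nat_lit 9220352) (BT.node (nat_lit 9220160) (BT.node (nat_lit 9220096) (BT.leaf (nat_lit 26465297)) (BT.leaf (nat_lit 26465301))) (BT.node (nat_lit 9220224) (BT.leaf (nat_lit 26465553)) (BT.leaf (nat_lit 26465557)))) (BT.node (nat_lit 9220480) (BT.node (nat_lit 9220416) (BT.leaf (nat_lit 51042837)) (BT.leaf (nat_lit 50962449))) (BT.node (nat_lit 9220544) (BT.leaf (nat_lit 26467097)) (BT.leaf (nat_lit 26466837)))))) (BT.node (nat_lit 9221376) (BT.node (nat_lit 9221056) (BT.node (nat_lit 9220800) (BT.node (nat_lit 9220672) (BT.leaf (nat_lit 27355913)) (BT.leaf (nat_lit 51042577))) (BT.node (nat_lit 9220928) (BT.leaf (nat_lit 26467857)) (BT.leaf (nat_lit 26468625)))) (BT.node (nat_lit 9221248) (BT.node (nat_lit 9221184) (BT.leaf (nat_lit 26470417)) (BT.leaf (nat_lit 27215125))) (BT.node (nat_lit 9221312) (BT.leaf (nat_lit 52019733)) (BT.leaf (nat_lit 33600773))))) (BT.node (nat_lit 9221824) (BT.node (nat_lit 9221568) (BT.node (nat_lit 9221504) (BT.leaf (nat_lit 52020245)) (BT.leaf (nat_lit 36887309))) (BT.node (nat_lit 9221696) (BT.leaf (nat_lit 46622981)) (BT.leaf (nat_lit 48642581)))) (BT.node (nat_lit 9221952) (BT.node (nat_lit 9221888) (BT.leaf (nat_lit 35531797)) (BT.leaf (nat_lit 34959889))) (BT.node (nat_lit 9222016) (BT.leaf (nat_lit 36774685)) (BT.leaf (nat_lit 37238301))))))) (BT.node (nat_lit 9224128) (BT.node (nat_lit 9223168) (BT.node (nat_lit 9222784) (BT.node (nat_lit 9222656) (BT.node (nat_lit 9222336) (BT.leaf (nat_lit 27030545)) (BT.leaf (nat_lit 36889113))) (BT.node (nat_lit 9222720) (BT.leaf (nat_lit 52022545)) (BT.leaf (nat_lit 26476829)))) (BT.node (nat_lit 9222976) (BT.node (nat_lit 9222848) (BT.leaf (nat_lit 26477073)) (BT.leaf (nat_lit 27212317))) (BT.node (nat_lit 9223104) (BT.leaf (nat_lit 50420501)) (BT.leaf (nat_lit 26478613))))) (BT.node (nat_lit 9223680) (BT.node (nat_lit 9223296) (BT.node (nat_lit 9223232) (BT.leaf (nat_lit 52023573)) (BT.leaf (nat_lit 52023305))) (BT.node (nat_lit 9223424) (BT.leaf (nat_lit 26567709)) (BT.leaf (nat_lit 51261957)))) (BT.node (nat_lit 9223872) (BT.node (nat_lit 9223808) (BT.leaf (nat_lit 36928545)) (BT.leaf (nat_lit 26479889))) (BT.node (nat_lit 9224000) (BT.leaf (nat_lit 50605589)) (BT.leaf (nat_lit 34045713)))))) (BT.node (nat_lit 9224960) (BT.node (nat_lit 9224704) (BT.node (nat_lit 9224576) (BT.node (nat_lit 9224512) (BT.leaf (nat_lit 52024845)) (BT.leaf (nat_lit 36965921))) (BT.node (nat_lit 9224640) (BT.leaf (nat_lit 29260037)) (BT.leaf (nat_lit 50860321)))) (BT.node (nat_lit 9224832) (BT.node (nat_lit 9224768) (BT.leaf (nat_lit 26483485)) (BT.leaf (nat_lit 51069445))) (BT.node (nat_lit 9224896) (BT.leaf (nat_lit 37443093)) (BT.leaf (nat_lit 52027669))))) (BT.node (nat_lit 9225344) (BT.node (nat_lit 9225152) (BT.node (nat_lit 9225088) (BT.leaf (nat_lit 26484241)) (BT.leaf (nat_lit 26484509))) (BT.node (nat_lit 9225216) (BT.leaf (nat_lit 51849753)) (BT.leaf (nat_lit 52028949)))) (BT.node (nat_lit 9225600) (BT.node (nat_lit 9225472) (BT.leaf (nat_lit 52030741)) (BT.leaf (nat_lit 37290785))) (BT.node (nat_lit 9225664) (BT.leaf (nat_lit 36716561)) (BT.leaf (nat_lit 52031777)))))))) (BT.node (nat_lit 9229952) (BT.node (nat_lit 9227392) (BT.node (nat_lit 9226496) (BT.node (nat_lit 9226048) (BT.node (nat_lit 9225920) (BT.node (nat_lit 9225792) (BT.leaf (nat_lit 52032545)) (BT.leaf (nat_lit 52033057))) (BT.node (nat_lit 9225984) (BT.leaf (nat_lit 26863893)) (BT.leaf (nat_lit 26486801)))) (BT.node (nat_lit 9226240) (BT.node (nat_lit 9226176) (BT.leaf (nat_lit 37539597)) (BT.leaf (nat_lit 52030217))) (BT.node (nat_lit 9226304) (BT.leaf (nat_lit 26487569)) (BT.leaf (nat_lit 37575685))))) (BT.node (nat_lit 9227136) (BT.node (nat_lit 9226816) (BT.node (nat_lit 9226560) (BT.leaf (nat_lit 51814433)) (BT.leaf (nat_lit 37238561))) (BT.node (nat_lit 9226944) (BT.leaf (nat_lit 26490129)) (BT.leaf (nat_lit 26490389)))) (BT.node (nat_lit 9227264) (BT.node (nat_lit 9227200) (BT.leaf (nat_lit 37536277)) (BT.leaf (nat_lit 26491665))) (BT.node (nat_lit 9227328) (BT.leaf (nat_lit 35896089)) (BT.leaf (nat_lit 26492437)))))) (BT.node (nat_lit 9228928) (BT.node (nat_lit 9228288) (BT.node (nat_lit 9228096) (BT.node (nat_lit 9228032) (BT.leaf (nat_lit 26492441)) (BT.leaf (nat_lit 38549269))) (BT.node (nat_lit 9228224) (BT.leaf (nat_lit 52039201)) (BT.leaf (nat_lit 26496533)))) (BT.node (nat_lit 9228800) (BT.node (nat_lit 9228736) (BT.leaf (nat_lit 50424085)) (BT.leaf (nat_lit 49906693))) (BT.node (nat_lit 9228864) (BT.leaf (nat_lit 40749857)) (BT.leaf (nat_lit 50144005))))) (BT.node (nat_lit 9229184) (BT.node (nat_lit 9229056) (BT.node (nat_lit 9228992) (BT.leaf (nat_lit 26500113)) (BT.leaf (nat_lit 26500117))) (BT.node (nat_lit 9229120) (BT.leaf (nat_lit 36932613)) (BT.leaf (nat_lit 46391581)))) (BT.node (nat_lit 9229696) (BT.node (nat_lit 9229376) (BT.leaf (nat_lit 26500881)) (BT.leaf (nat_lit 36272397))) (BT.node (nat_lit 9229824) (BT.leaf (nat_lit 27849237)) (BT.leaf (nat_lit 46973461))))))) (BT.node (nat_lit 9231936) (BT.node (nat_lit 9231360) (BT.node (nat_lit 9231104) (BT.node (nat_lit 9230848) (BT.node (nat_lit 9230016) (BT.leaf (nat_lit 52041989)) (BT.leaf (nat_lit 51507717))) (BT.node (nat_lit 9231040) (BT.leaf (nat_lit 52046617)) (BT.leaf (nat_lit 52046101)))) (BT.node (nat_lit 9231232) (BT.node (nat_lit 9231168) (BT.leaf (nat_lit 49886485)) (BT.leaf (nat_lit 26508817))) (BT.node (nat_lit 9231296) (BT.leaf (nat_lit 29786653)) (BT.leaf (nat_lit 50992405))))) (BT.node (nat_lit 9231680) (BT.node (nat_lit 9231488) (BT.node (nat_lit 9231424) (BT.leaf (nat_lit 49932305)) (BT.leaf (nat_lit 34606101))) (BT.node (nat_lit 9231552) (BT.leaf (nat_lit 33585681)) (BT.leaf (nat_lit 26510097)))) (BT.node (nat_lit 9231808) (BT.node (nat_lit 9231744) (BT.leaf (nat_lit 37224729)) (BT.leaf (nat_lit 37658885))) (BT.node (nat_lit 9231872) (BT.leaf (nat_lit 52047889)) (BT.leaf (nat_lit 26511893)))))) (BT.node (nat_lit 9232576) (BT.node (nat_lit 9232192) (BT.node (nat_lit 9232064) (BT.node (nat_lit 9232000) (BT.leaf (nat_lit 26511897)) (BT.leaf (nat_lit 26511901))) (BT.node (nat_lit 9232128) (BT.leaf (nat_lit 26512413)) (BT.leaf (nat_lit 26513173)))) (BT.node (nat_lit 9232448) (BT.node (nat_lit 9232320) (BT.leaf (nat_lit 52049425)) (BT.leaf (nat_lit 26514965))) (BT.node (nat_lit 9232512) (BT.leaf (nat_lit 26513949)) (BT.leaf (nat_lit 52050193))))) (BT.node (nat_lit 9232832) (BT.node (nat_lit 9232704) (BT.node (nat_lit 9232640) (BT.leaf (nat_lit 28482329)) (BT.leaf (nat_lit 52048905))) (BT.node (nat_lit 9232768) (BT.leaf (nat_lit 26515217)) (BT.leaf (nat_lit 50207005)))) (BT.node (nat_lit 9233088) (BT.node (nat_lit 9233024) (BT.leaf (nat_lit 26516497)) (BT.leaf (nat_lit 51581189))) (BT.node (nat_lit 9233152) (BT.leaf (nat_lit 26518033)) (BT.leaf (nat_lit 51417633))))))))))) (BT.node (nat_lit 9258304) (BT.node (nat_lit 9245120) (BT.node (nat_lit 9240256) (BT.node (nat_lit 9236928) (BT.node (nat_lit 9235264) (BT.node (nat_lit 9234176) (BT.node (nat_lit 9233792) (BT.node (nat_lit 9233472) (BT.node (nat_lit 9233408) (BT.leaf (nat_lit 26520849)) (BT.leaf (nat_lit 27268381))) (BT.node (nat_lit 9233664) (BT.leaf (nat_lit 52054033)) (BT.leaf (nat_lit 26521625)))) (BT.node (nat_lit 9234048) (BT.node (nat_lit 9233856) (BT.leaf (nat_lit 26521873)) (BT.leaf (nat_lit 26990093))) (BT.node (nat_lit 9234112) (BT.leaf (nat_lit 26982661)) (BT.leaf (nat_lit 33147681))))) (BT.node (nat_lit 9234880) (BT.node (nat_lit 9234304) (BT.node (nat_lit 9234240) (BT.leaf (nat_lit 51243525)) (BT.leaf (nat_lit 47775249))) (BT.node (nat_lit 9234368) (BT.leaf (nat_lit 26523921)) (BT.leaf (nat_lit 26524177)))) (BT.node (nat_lit 9235136) (BT.node (nat_lit 9234944) (BT.leaf (nat_lit 52058901)) (BT.leaf (nat_lit 35539729))) (BT.node (nat_lit 9235200) (BT.leaf (nat_lit 34359045)) (BT.leaf (nat_lit 26527505)))))) (BT.node (nat_lit 9236352) (BT.node (nat_lit 9235648) (BT.node (nat_lit 9235456) (BT.node (nat_lit 9235392) (BT.leaf (nat_lit 33757457)) (BT.leaf (nat_lit 36947485))) (BT.node (nat_lit 9235584) (BT.leaf (nat_lit 37441045)) (BT.leaf (nat_lit 51267093)))) (BT.node (nat_lit 9236160) (BT.node (nat_lit 9236096) (BT.leaf (nat_lit 26528529)) (BT.leaf (nat_lit 26530069))) (BT.node (nat_lit 9236224) (BT.leaf (nat_lit 35575829)) (BT.leaf (nat_lit 26531345))))) (BT.node (nat_lit 9236608) (BT.node (nat_lit 9236480) (BT.node (nat_lit 9236416) (BT.leaf (nat_lit 35575061)) (BT.leaf (nat_lit 26532113))) (BT.node (nat_lit 9236544) (BT.leaf (nat_lit 52062225)) (BT.leaf (nat_lit 26532625)))) (BT.node (nat_lit 9236800) (BT.node (nat_lit 9236672) (BT.leaf (nat_lit 28604693)) (BT.leaf (nat_lit 46953761))) (BT.node (nat_lit 9236864) (BT.leaf (nat_lit 29452577)) (BT.leaf (nat_lit 26994961))))))) (BT.node (nat_lit 9238400) (BT.node (nat_lit 9237696) (BT.node (nat_lit 9237376) (BT.node (nat_lit 9237184) (BT.node (nat_lit 9237056) (BT.leaf (nat_lit 26994705)) (BT.leaf (nat_lit 26533405))) (BT.node (nat_lit 9237248) (BT.leaf (nat_lit 36468245)) (BT.leaf (nat_lit 35456537)))) (BT.node (nat_lit 9237568) (BT.node (nat_lit 9237440) (BT.leaf (nat_lit 26853905)) (BT.leaf (nat_lit 50734865))) (BT.node (nat_lit 9237632) (BT.leaf (nat_lit 26536213)) (BT.leaf (nat_lit 36868101))))) (BT.node (nat_lit 9238016) (BT.node (nat_lit 9237824) (BT.node (nat_lit 9237760) (BT.leaf (nat_lit 26536729)) (BT.leaf (nat_lit 26536733))) (BT.node (nat_lit 9237952) (BT.leaf (nat_lit 52065541)) (BT.leaf (nat_lit 33280533)))) (BT.node (nat_lit 9238144) (BT.node (nat_lit 9238080) (BT.leaf (nat_lit 26539793)) (BT.leaf (nat_lit 48773653))) (BT.node (nat_lit 9238208) (BT.leaf (nat_lit 26540049)) (BT.leaf (nat_lit 48771101)))))) (BT.node (nat_lit 9239232) (BT.node (nat_lit 9238784) (BT.node (nat_lit 9238656) (BT.node (nat_lit 9238592) (BT.leaf (nat_lit 30631957)) (BT.leaf (nat_lit 26542097))) (BT.node (nat_lit 9238720) (BT.leaf (nat_lit 50405397)) (BT.leaf (nat_lit 26542869)))) (BT.node (nat_lit 9239040) (BT.node (nat_lit 9238848) (BT.leaf (nat_lit 26543125)) (BT.leaf (nat_lit 26543133))) (BT.node (nat_lit 9239104) (BT.leaf (nat_lit 26543901)) (BT.leaf (nat_lit 26544145))))) (BT.node (nat_lit 9239680) (BT.node (nat_lit 9239488) (BT.node (nat_lit 9239296) (BT.leaf (nat_lit 26544657)) (BT.leaf (nat_lit 37123333))) (BT.node (nat_lit 9239616) (BT.leaf (nat_lit 26545181)) (BT.leaf (nat_lit 37125381)))) (BT.node (nat_lit 9240064) (BT.node (nat_lit 9240000) (BT.leaf (nat_lit 27224345)) (BT.leaf (nat_lit 26547221))) (BT.node (nat_lit 9240128) (BT.leaf (nat_lit 26547225)) (BT.leaf (nat_lit 26547229)))))))) (BT.node (nat_lit 9242752) (BT.node (nat_lit 9241408) (BT.node (nat_lit 9240768) (BT.node (nat_lit 9240512) (BT.node (nat_lit 9240384) (BT.node (nat_lit 9240320) (BT.leaf (nat_lit 26547997)) (BT.leaf (nat_lit 36949533))) (BT.node (nat_lit 9240448) (BT.leaf (nat_lit 26549777)) (BT.leaf (nat_lit 26550037)))) (BT.node (nat_lit 9240640) (BT.node (nat_lit 9240576) (BT.leaf (nat_lit 26550041)) (BT.leaf (nat_lit 26550289))) (BT.node (nat_lit 9240704) (BT.leaf (nat_lit 26550545)) (BT.leaf (nat_lit 26550801))))) (BT.node (nat_lit 9241024) (BT.node (nat_lit 9240896) (BT.node (nat_lit 9240832) (BT.leaf (nat_lit 49916177)) (BT.leaf (nat_lit 26551065))) (BT.node (nat_lit 9240960) (BT.leaf (nat_lit 26551069)) (BT.leaf (nat_lit 26551317)))) (BT.node (nat_lit 9241216) (BT.node (nat_lit 9241088) (BT.leaf (nat_lit 26551321)) (BT.leaf (nat_lit 26551325))) (BT.node (nat_lit 9241280) (BT.leaf (nat_lit 26552849)) (BT.leaf (nat_lit 26553105)))))) (BT.node (nat_lit 9242112) (BT.node (nat_lit 9241664) (BT.node (nat_lit 9241536) (BT.node (nat_lit 9241472) (BT.leaf (nat_lit 26553621)) (BT.leaf (nat_lit 26553877))) (BT.node (nat_lit 9241600) (BT.leaf (nat_lit 26553881)) (BT.leaf (nat_lit 26553885)))) (BT.node (nat_lit 9241920) (BT.node (nat_lit 9241728) (BT.leaf (nat_lit 51562005)) (BT.leaf (nat_lit 26924309))) (BT.node (nat_lit 9241984) (BT.leaf (nat_lit 26688537)) (BT.leaf (nat_lit 26554385))))) (BT.node (nat_lit 9242368) (BT.node (nat_lit 9242240) (BT.node (nat_lit 9242176) (BT.leaf (nat_lit 26554641)) (BT.leaf (nat_lit 51561757))) (BT.node (nat_lit 9242304) (BT.leaf (nat_lit 46591773)) (BT.leaf (nat_lit 36141853)))) (BT.node (nat_lit 9242624) (BT.node (nat_lit 9242496) (BT.leaf (nat_lit 52079393)) (BT.leaf (nat_lit 28063765))) (BT.node (nat_lit 9242688) (BT.leaf (nat_lit 33561365)) (BT.leaf (nat_lit 26558225))))))) (BT.node (nat_lit 9243840) (BT.node (nat_lit 9243264) (BT.node (nat_lit 9243008) (BT.node (nat_lit 9242880) (BT.node (nat_lit 9242816) (BT.leaf (nat_lit 26558481)) (BT.leaf (nat_lit 48774421))) (BT.node (nat_lit 9242944) (BT.leaf (nat_lit 37225497)) (BT.leaf (nat_lit 37441541)))) (BT.node (nat_lit 9243136) (BT.node (nat_lit 9243072) (BT.leaf (nat_lit 52081937)) (BT.leaf (nat_lit 26559513))) (BT.node (nat_lit 9243200) (BT.leaf (nat_lit 26560273)) (BT.leaf (nat_lit 26560533))))) (BT.node (nat_lit 9243584) (BT.node (nat_lit 9243392) (BT.node (nat_lit 9243328) (BT.leaf (nat_lit 40803845)) (BT.leaf (nat_lit 26560541))) (BT.node (nat_lit 9243520) (BT.leaf (nat_lit 26560785)) (BT.leaf (nat_lit 26561049)))) (BT.node (nat_lit 9243712) (BT.node (nat_lit 9243648) (BT.leaf (nat_lit 26561053)) (BT.leaf (nat_lit 26563345))) (BT.node (nat_lit 9243776) (BT.leaf (nat_lit 52084229)) (BT.leaf (nat_lit 26564121)))))) (BT.node (nat_lit 9244416) (BT.node (nat_lit 9244096) (BT.node (nat_lit 9243968) (BT.node (nat_lit 9243904) (BT.leaf (nat_lit 36767257)) (BT.leaf (nat_lit 26564369))) (BT.node (nat_lit 9244032) (BT.leaf (nat_lit 51649313)) (BT.leaf (nat_lit 26565145)))) (BT.node (nat_lit 9244224) (BT.node (nat_lit 9244160) (BT.leaf (nat_lit 32724741)) (BT.leaf (nat_lit 40582689))) (BT.node (nat_lit 9244352) (BT.leaf (nat_lit 44614661)) (BT.leaf (nat_lit 35760901))))) (BT.node (nat_lit 9244672) (BT.node (nat_lit 9244544) (BT.node (nat_lit 9244480) (BT.leaf (nat_lit 26567189)) (BT.leaf (nat_lit 26567441))) (BT.node (nat_lit 9244608) (BT.leaf (nat_lit 47108625)) (BT.leaf (nat_lit 26567705)))) (BT.node (nat_lit 9244928) (BT.node (nat_lit 9244864) (BT.leaf (nat_lit 26568209)) (BT.leaf (nat_lit 46880517))) (BT.node (nat_lit 9244992) (BT.leaf (nat_lit 30583329)) (BT.leaf (nat_lit 26569497))))))))) (BT.node (nat_lit 9252032) (BT.node (nat_lit 9248192) (BT.node (nat_lit 9246592) (BT.node (nat_lit 9245696) (BT.node (nat_lit 9245376) (BT.node (nat_lit 9245248) (BT.node (nat_lit 9245184) (BT.leaf (nat_lit 51456281)) (BT.leaf (nat_lit 37105413))) (BT.node (nat_lit 9245312) (BT.leaf (nat_lit 26570773)) (BT.leaf (nat_lit 26571025)))) (BT.node (nat_lit 9245568) (BT.node (nat_lit 9245504) (BT.leaf (nat_lit 26571029)) (BT.leaf (nat_lit 26571293))) (BT.node (nat_lit 9245632) (BT.leaf (nat_lit 26571797)) (BT.leaf (nat_lit 34646545))))) (BT.node (nat_lit 9245952) (BT.node (nat_lit 9245824) (BT.node (nat_lit 9245760) (BT.leaf (nat_lit 36983053)) (BT.leaf (nat_lit 46777373))) (BT.node (nat_lit 9245888) (BT.leaf (nat_lit 26573329)) (BT.leaf (nat_lit 26573345)))) (BT.node (nat_lit 9246080) (BT.node (nat_lit 9246016) (BT.leaf (nat_lit 26573589)) (BT.leaf (nat_lit 26573845))) (BT.node (nat_lit 9246144) (BT.leaf (nat_lit 26574105)) (BT.leaf (nat_lit 26574109)))))) (BT.node (nat_lit 9247424) (BT.node (nat_lit 9246912) (BT.node (nat_lit 9246720) (BT.node (nat_lit 9246656) (BT.leaf (nat_lit 26574869)) (BT.leaf (nat_lit 36495897))) (BT.node (nat_lit 9246848) (BT.leaf (nat_lit 26575125)) (BT.leaf (nat_lit 27042077)))) (BT.node (nat_lit 9247168) (BT.node (nat_lit 9246976) (BT.leaf (nat_lit 37562373)) (BT.leaf (nat_lit 26575637))) (BT.node (nat_lit 9247360) (BT.leaf (nat_lit 26886149)) (BT.leaf (nat_lit 27005201))))) (BT.node (nat_lit 9247744) (BT.node (nat_lit 9247552) (BT.node (nat_lit 9247488) (BT.leaf (nat_lit 27004945)) (BT.leaf (nat_lit 26577689))) (BT.node (nat_lit 9247616) (BT.leaf (nat_lit 26577693)) (BT.leaf (nat_lit 26578193)))) (BT.node (nat_lit 9247936) (BT.node (nat_lit 9247872) (BT.leaf (nat_lit 26578973)) (BT.leaf (nat_lit 26579229))) (BT.node (nat_lit 9248128) (BT.leaf (nat_lit 36990229)) (BT.leaf (nat_lit 52098577))))))) (BT.node (nat_lit 9250112) (BT.node (nat_lit 9249024) (BT.node (nat_lit 9248640) (BT.node (nat_lit 9248384) (BT.node (nat_lit 9248320) (BT.leaf (nat_lit 26582033)) (BT.leaf (nat_lit 51617313))) (BT.node (nat_lit 9248512) (BT.leaf (nat_lit 26583325)) (BT.leaf (nat_lit 52005665)))) (BT.node (nat_lit 9248896) (BT.node (nat_lit 9248832) (BT.leaf (nat_lit 26584593)) (BT.leaf (nat_lit 26584841))) (BT.node (nat_lit 9248960) (BT.leaf (nat_lit 31912469)) (BT.leaf (nat_lit 26585621))))) (BT.node (nat_lit 9249280) (BT.node (nat_lit 9249152) (BT.node (nat_lit 9249088) (BT.leaf (nat_lit 26584857)) (BT.leaf (nat_lit 26584861))) (BT.node (nat_lit 9249216) (BT.leaf (nat_lit 26585105)) (BT.leaf (nat_lit 31912729)))) (BT.node (nat_lit 9249408) (BT.node (nat_lit 9249344) (BT.leaf (nat_lit 26585349)) (BT.leaf (nat_lit 26585361))) (BT.node (nat_lit 9249728) (BT.leaf (nat_lit 26585365)) (BT.leaf (nat_lit 26586133)))))) (BT.node (nat_lit 9251008) (BT.node (nat_lit 9250560) (BT.node (nat_lit 9250368) (BT.node (nat_lit 9250176) (BT.leaf (nat_lit 36684817)) (BT.leaf (nat_lit 36986889))) (BT.node (nat_lit 9250432) (BT.leaf (nat_lit 36986909)) (BT.leaf (nat_lit 26588681)))) (BT.node (nat_lit 9250880) (BT.node (nat_lit 9250752) (BT.leaf (nat_lit 26588957)) (BT.leaf (nat_lit 52103961))) (BT.node (nat_lit 9250944) (BT.leaf (nat_lit 52104477)) (BT.leaf (nat_lit 51600145))))) (BT.node (nat_lit 9251328) (BT.node (nat_lit 9251136) (BT.node (nat_lit 9251072) (BT.leaf (nat_lit 26589969)) (BT.leaf (nat_lit 52104977))) (BT.node (nat_lit 9251200) (BT.leaf (nat_lit 51601941)) (BT.leaf (nat_lit 52105241)))) (BT.node (nat_lit 9251648) (BT.node (nat_lit 9251392) (BT.leaf (nat_lit 26591001)) (BT.leaf (nat_lit 26591005))) (BT.node (nat_lit 9251904) (BT.leaf (nat_lit 26591765)) (BT.leaf (nat_lit 37023005)))))))) (BT.node (nat_lit 9255104) (BT.node (nat_lit 9253440) (BT.node (nat_lit 9252864) (BT.node (nat_lit 9252416) (BT.node (nat_lit 9252160) (BT.node (nat_lit 9252100) (BT.leaf (nat_lit 37022985)) (BT.leaf (nat_lit 588688))) (BT.node (nat_lit 9252224) (BT.leaf (nat_lit 52157209)) (BT.leaf (nat_lit 26854425)))) (BT.node (nat_lit 9252544) (BT.node (nat_lit 9252480) (BT.leaf (nat_lit 26594077)) (BT.leaf (nat_lit 26594329))) (BT.node (nat_lit 9252736) (BT.leaf (nat_lit 26594333)) (BT.leaf (nat_lit 26594833))))) (BT.node (nat_lit 9253184) (BT.node (nat_lit 9252992) (BT.node (nat_lit 9252928) (BT.leaf (nat_lit 26595089)) (BT.leaf (nat_lit 52110365))) (BT.node (nat_lit 9253056) (BT.leaf (nat_lit 37488925)) (BT.leaf (nat_lit 37488905)))) (BT.node (nat_lit 9253312) (BT.node (nat_lit 9253248) (BT.leaf (nat_lit 26596117)) (BT.leaf (nat_lit 26596369))) (BT.node (nat_lit 9253376) (BT.leaf (nat_lit 26596373)) (BT.leaf (nat_lit 26596613)))))) (BT.node (nat_lit 9254464) (BT.node (nat_lit 9253952) (BT.node (nat_lit 9253696) (BT.node (nat_lit 9253632) (BT.leaf (nat_lit 51866393)) (BT.leaf (nat_lit 37279517))) (BT.node (nat_lit 9253824) (BT.leaf (nat_lit 26597397)) (BT.leaf (nat_lit 36998941)))) (BT.node (nat_lit 9254272) (BT.node (nat_lit 9254016) (BT.leaf (nat_lit 37188125)) (BT.leaf (nat_lit 26598677))) (BT.node (nat_lit 9254400) (BT.leaf (nat_lit 26852625)) (BT.leaf (nat_lit 26917661))))) (BT.node (nat_lit 9254848) (BT.node (nat_lit 9254720) (BT.node (nat_lit 9254528) (BT.leaf (nat_lit 26601237)) (BT.leaf (nat_lit 26601241))) (BT.node (nat_lit 9254784) (BT.leaf (nat_lit 26601757)) (BT.leaf (nat_lit 26601989)))) (BT.node (nat_lit 9254976) (BT.node (nat_lit 9254912) (BT.leaf (nat_lit 26602001)) (BT.leaf (nat_lit 26602521))) (BT.node (nat_lit 9255040) (BT.leaf (nat_lit 26602781)) (BT.leaf (nat_lit 37006617))))))) (BT.node (nat_lit 9256448) (BT.node (nat_lit 9255680) (BT.node (nat_lit 9255424) (BT.node (nat_lit 9255296) (BT.node (nat_lit 9255232) (BT.leaf (nat_lit 26603021)) (BT.leaf (nat_lit 52106517))) (BT.node (nat_lit 9255360) (BT.leaf (nat_lit 27096345)) (BT.leaf (nat_lit 26603541)))) (BT.node (nat_lit 9255552) (BT.node (nat_lit 9255488) (BT.leaf (nat_lit 26603801)) (BT.leaf (nat_lit 26603805))) (BT.node (nat_lit 9255616) (BT.leaf (nat_lit 26604297)) (BT.leaf (nat_lit 26604305))))) (BT.node (nat_lit 9256128) (BT.node (nat_lit 9255872) (BT.node (nat_lit 9255744) (BT.leaf (nat_lit 27201561)) (BT.leaf (nat_lit 26604565))) (BT.node (nat_lit 9256000) (BT.leaf (nat_lit 26605085)) (BT.leaf (nat_lit 26606609)))) (BT.node (nat_lit 9256320) (BT.node (nat_lit 9256192) (BT.leaf (nat_lit 26607633)) (BT.leaf (nat_lit 35537433))) (BT.node (nat_lit 9256384) (BT.leaf (nat_lit 26608409)) (BT.leaf (nat_lit 26609173)))))) (BT.node (nat_lit 9257216) (BT.node (nat_lit 9256960) (BT.node (nat_lit 9256576) (BT.node (nat_lit 9256512) (BT.leaf (nat_lit 26609425)) (BT.leaf (nat_lit 26609429))) (BT.node (nat_lit 9256640) (BT.leaf (nat_lit 26610197)) (BT.leaf (nat_lit 26610201)))) (BT.node (nat_lit 9257088) (BT.node (nat_lit 9257024) (BT.leaf (nat_lit 26611217)) (BT.leaf (nat_lit 51224865))) (BT.node (nat_lit 9257152) (BT.leaf (nat_lit 36648481)) (BT.leaf (nat_lit 37306657))))) (BT.node (nat_lit 9257408) (BT.node (nat_lit 9257285) (BT.node (nat_lit 9257280) (BT.leaf (nat_lit 51225121)) (BT.leaf (nat_lit 26730005))) (BT.node (nat_lit 9257344) (BT.leaf (nat_lit 580464)) (BT.leaf (nat_lit 51859729)))) (BT.node (nat_lit 9257984) (BT.node (nat_lit 9257728) (BT.leaf (nat_lit 49862153)) (BT.leaf (nat_lit 28879117))) (BT.node (nat_lit 9258176) (BT.leaf (nat_lit 37518341)) (BT.leaf (nat_lit 26616593)))))))))) (BT.node (nat_lit 9271232) (BT.node (nat_lit 9265536) (BT.node (nat_lit 9262016) (BT.node (nat_lit 9260352) (BT.node (nat_lit 9259584) (BT.node (nat_lit 9259008) (BT.node (nat_lit 9258688) (BT.node (nat_lit 9258432) (BT.leaf (nat_lit 26616349)) (BT.leaf (nat_lit 36512517))) (BT.node (nat_lit 9258816) (BT.leaf (nat_lit 26620945)) (BT.leaf (nat_lit 50509337)))) (BT.node (nat_lit 9259200) (BT.node (nat_lit 9259136) (BT.leaf (nat_lit 50553093)) (BT.leaf (nat_lit 26626833))) (BT.node (nat_lit 9259392) (BT.leaf (nat_lit 26626837)) (BT.leaf (nat_lit 26630165))))) (BT.node (nat_lit 9259840) (BT.node (nat_lit 9259712) (BT.node (nat_lit 9259648) (BT.leaf (nat_lit 26630929)) (BT.leaf (nat_lit 37507613))) (BT.node (nat_lit 9259776) (BT.leaf (nat_lit 35481885)) (BT.leaf (nat_lit 26631185)))) (BT.node (nat_lit 9260096) (BT.node (nat_lit 9259904) (BT.leaf (nat_lit 37168661)) (BT.leaf (nat_lit 27149845))) (BT.node (nat_lit 9260224) (BT.leaf (nat_lit 30906885)) (BT.leaf (nat_lit 34367001)))))) (BT.node (nat_lit 9261248) (BT.node (nat_lit 9260800) (BT.node (nat_lit 9260544) (BT.node (nat_lit 9260416) (BT.leaf (nat_lit 26633237)) (BT.leaf (nat_lit 26633493))) (BT.node (nat_lit 9260608) (BT.leaf (nat_lit 51605529)) (BT.leaf (nat_lit 27671313)))) (BT.node (nat_lit 9261120) (BT.node (nat_lit 9261056) (BT.leaf (nat_lit 50526469)) (BT.leaf (nat_lit 27123973))) (BT.node (nat_lit 9261184) (BT.leaf (nat_lit 26640149)) (BT.leaf (nat_lit 26640153))))) (BT.node (nat_lit 9261568) (BT.node (nat_lit 9261376) (BT.node (nat_lit 9261312) (BT.leaf (nat_lit 26640401)) (BT.leaf (nat_lit 26640661))) (BT.node (nat_lit 9261504) (BT.leaf (nat_lit 26640669)) (BT.leaf (nat_lit 29384481)))) (BT.node (nat_lit 9261696) (BT.node (nat_lit 9261632) (BT.leaf (nat_lit 30105121)) (BT.leaf (nat_lit 44569629))) (BT.node (nat_lit 9261760) (BT.leaf (nat_lit 26642193)) (BT.leaf (nat_lit 44568601))))))) (BT.node (nat_lit 9263616) (BT.node (nat_lit 9262784) (BT.node (nat_lit 9262464) (BT.node (nat_lit 9262144) (BT.node (nat_lit 9262080) (BT.leaf (nat_lit 26643993)) (BT.leaf (nat_lit 52131617))) (BT.node (nat_lit 9262336) (BT.leaf (nat_lit 26644505)) (BT.leaf (nat_lit 26645777)))) (BT.node (nat_lit 9262656) (BT.node (nat_lit 9262528) (BT.leaf (nat_lit 51978005)) (BT.leaf (nat_lit 40894741))) (BT.node (nat_lit 9262720) (BT.leaf (nat_lit 26646553)) (BT.leaf (nat_lit 50060565))))) (BT.node (nat_lit 9263232) (BT.node (nat_lit 9262976) (BT.node (nat_lit 9262848) (BT.leaf (nat_lit 33671177)) (BT.leaf (nat_lit 26647313))) (BT.node (nat_lit 9263040) (BT.leaf (nat_lit 51342085)) (BT.leaf (nat_lit 36877317)))) (BT.node (nat_lit 9263488) (BT.node (nat_lit 9263424) (BT.leaf (nat_lit 36792089)) (BT.leaf (nat_lit 52134929))) (BT.node (nat_lit 9263552) (BT.leaf (nat_lit 29465377)) (BT.leaf (nat_lit 31174685)))))) (BT.node (nat_lit 9264192) (BT.node (nat_lit 9263872) (BT.node (nat_lit 9263744) (BT.node (nat_lit 9263680) (BT.leaf (nat_lit 26650385)) (BT.leaf (nat_lit 26650389))) (BT.node (nat_lit 9263808) (BT.leaf (nat_lit 52135445)) (BT.leaf (nat_lit 30133281)))) (BT.node (nat_lit 9264064) (BT.node (nat_lit 9264000) (BT.leaf (nat_lit 50343969)) (BT.leaf (nat_lit 52135697))) (BT.node (nat_lit 9264128) (BT.leaf (nat_lit 36284169)) (BT.leaf (nat_lit 52136473))))) (BT.node (nat_lit 9264512) (BT.node (nat_lit 9264320) (BT.node (nat_lit 9264256) (BT.leaf (nat_lit 46442253)) (BT.leaf (nat_lit 30130977))) (BT.node (nat_lit 9264448) (BT.leaf (nat_lit 52136985)) (BT.leaf (nat_lit 26653717)))) (BT.node (nat_lit 9265088) (BT.node (nat_lit 9264576) (BT.leaf (nat_lit 26653721)) (BT.leaf (nat_lit 26653725))) (BT.node (nat_lit 9265408) (BT.leaf (nat_lit 52138001)) (BT.leaf (nat_lit 26656797)))))))) (BT.node (nat_lit 9268160) (BT.node (nat_lit 9267072) (BT.node (nat_lit 9266368) (BT.node (nat_lit 9265984) (BT.node (nat_lit 9265856) (BT.node (nat_lit 9265664) (BT.leaf (nat_lit 26657301)) (BT.leaf (nat_lit 26657565))) (BT.node (nat_lit 9265920) (BT.leaf (nat_lit 49938453)) (BT.leaf (nat_lit 52139285)))) (BT.node (nat_lit 9266240) (BT.node (nat_lit 9266176) (BT.leaf (nat_lit 36261125)) (BT.leaf (nat_lit 51852821))) (BT.node (nat_lit 9266304) (BT.leaf (nat_lit 29965061)) (BT.leaf (nat_lit 38354465))))) (BT.node (nat_lit 9266752) (BT.node (nat_lit 9266560) (BT.node (nat_lit 9266496) (BT.leaf (nat_lit 28076829)) (BT.leaf (nat_lit 52140817))) (BT.node (nat_lit 9266688) (BT.leaf (nat_lit 27969813)) (BT.leaf (nat_lit 29766421)))) (BT.node (nat_lit 9266880) (BT.node (nat_lit 9266816) (BT.leaf (nat_lit 26661905)) (BT.leaf (nat_lit 26661909))) (BT.node (nat_lit 9267008) (BT.leaf (nat_lit 26662161)) (BT.leaf (nat_lit 26663193)))))) (BT.node (nat_lit 9267648) (BT.node (nat_lit 9267328) (BT.node (nat_lit 9267200) (BT.node (nat_lit 9267136) (BT.leaf (nat_lit 32663049)) (BT.leaf (nat_lit 28881925))) (BT.node (nat_lit 9267264) (BT.leaf (nat_lit 29303573)) (BT.leaf (nat_lit 33733649)))) (BT.node (nat_lit 9267520) (BT.node (nat_lit 9267392) (BT.leaf (nat_lit 26664209)) (BT.leaf (nat_lit 50367005))) (BT.node (nat_lit 9267584) (BT.leaf (nat_lit 51197985)) (BT.leaf (nat_lit 26665497))))) (BT.node (nat_lit 9267904) (BT.node (nat_lit 9267776) (BT.node (nat_lit 9267712) (BT.leaf (nat_lit 26665501)) (BT.leaf (nat_lit 42154501))) (BT.node (nat_lit 9267840) (BT.leaf (nat_lit 26666005)) (BT.leaf (nat_lit 26666009)))) (BT.node (nat_lit 9268032) (BT.node (nat_lit 9267968) (BT.leaf (nat_lit 49395717)) (BT.leaf (nat_lit 26666257))) (BT.node (nat_lit 9268096) (BT.leaf (nat_lit 29748749)) (BT.leaf (nat_lit 34096405))))))) (BT.node (nat_lit 9269504) (BT.node (nat_lit 9268928) (BT.node (nat_lit 9268608) (BT.node (nat_lit 9268288) (BT.node (nat_lit 9268224) (BT.leaf (nat_lit 34099221)) (BT.leaf (nat_lit 26668049))) (BT.node (nat_lit 9268480) (BT.leaf (nat_lit 26667797)) (BT.leaf (nat_lit 37222429)))) (BT.node (nat_lit 9268800) (BT.node (nat_lit 9268736) (BT.leaf (nat_lit 52147733)) (BT.leaf (nat_lit 26668565))) (BT.node (nat_lit 9268864) (BT.leaf (nat_lit 26668817)) (BT.leaf (nat_lit 26668821))))) (BT.node (nat_lit 9269248) (BT.node (nat_lit 9269056) (BT.node (nat_lit 9268992) (BT.leaf (nat_lit 26669073)) (BT.leaf (nat_lit 26669077))) (BT.node (nat_lit 9269184) (BT.leaf (nat_lit 26669329)) (BT.leaf (nat_lit 26669585)))) (BT.node (nat_lit 9269376) (BT.node (nat_lit 9269312) (BT.leaf (nat_lit 27253277)) (BT.leaf (nat_lit 26670357))) (BT.node (nat_lit 9269440) (BT.leaf (nat_lit 26670361)) (BT.leaf (nat_lit 26670365)))))) (BT.node (nat_lit 9270528) (BT.node (nat_lit 9270016) (BT.node (nat_lit 9269760) (BT.node (nat_lit 9269632) (BT.leaf (nat_lit 28977677)) (BT.leaf (nat_lit 26671377))) (BT.node (nat_lit 9269952) (BT.leaf (nat_lit 26672153)) (BT.leaf (nat_lit 36991493)))) (BT.node (nat_lit 9270272) (BT.node (nat_lit 9270080) (BT.leaf (nat_lit 26673169)) (BT.leaf (nat_lit 26673685))) (BT.node (nat_lit 9270464) (BT.leaf (nat_lit 26674961)) (BT.leaf (nat_lit 35453457))))) (BT.node (nat_lit 9270784) (BT.node (nat_lit 9270656) (BT.node (nat_lit 9270592) (BT.leaf (nat_lit 51260169)) (BT.leaf (nat_lit 49865221))) (BT.node (nat_lit 9270720) (BT.leaf (nat_lit 42147857)) (BT.leaf (nat_lit 48456209)))) (BT.node (nat_lit 9270912) (BT.node (nat_lit 9270848) (BT.leaf (nat_lit 36156693)) (BT.leaf (nat_lit 26676753))) (BT.node (nat_lit 9271040) (BT.leaf (nat_lit 26677009)) (BT.leaf (nat_lit 36477981))))))))) (BT.node (nat_lit 9277312) (BT.node (nat_lit 9274688) (BT.node (nat_lit 9272832) (BT.node (nat_lit 9271872) (BT.node (nat_lit 9271616) (BT.node (nat_lit 9271360) (BT.node (nat_lit 9271296) (BT.leaf (nat_lit 26678557)) (BT.leaf (nat_lit 32267545))) (BT.node (nat_lit 9271552) (BT.leaf (nat_lit 26679069)) (BT.leaf (nat_lit 26806549)))) (BT.node (nat_lit 9271744) (BT.node (nat_lit 9271680) (BT.leaf (nat_lit 51839773)) (BT.leaf (nat_lit 51704353))) (BT.node (nat_lit 9271808) (BT.leaf (nat_lit 37381125)) (BT.leaf (nat_lit 26681869))))) (BT.node (nat_lit 9272320) (BT.node (nat_lit 9272192) (BT.node (nat_lit 9271936) (BT.leaf (nat_lit 52154129)) (BT.leaf (nat_lit 51803425))) (BT.node (nat_lit 9272256) (BT.leaf (nat_lit 52123425)) (BT.leaf (nat_lit 26682389)))) (BT.node (nat_lit 9272448) (BT.node (nat_lit 9272384) (BT.leaf (nat_lit 26682641)) (BT.leaf (nat_lit 26682901))) (BT.node (nat_lit 9272768) (BT.leaf (nat_lit 26682909)) (BT.leaf (nat_lit 27120157)))))) (BT.node (nat_lit 9273920) (BT.node (nat_lit 9273536) (BT.node (nat_lit 9273024) (BT.node (nat_lit 9272960) (BT.leaf (nat_lit 26684949)) (BT.leaf (nat_lit 37013017))) (BT.node (nat_lit 9273088) (BT.leaf (nat_lit 26685457)) (BT.leaf (nat_lit 52159245)))) (BT.node (nat_lit 9273664) (BT.node (nat_lit 9273600) (BT.leaf (nat_lit 26686485)) (BT.leaf (nat_lit 26686741))) (BT.node (nat_lit 9273856) (BT.leaf (nat_lit 36652817)) (BT.leaf (nat_lit 37576969))))) (BT.node (nat_lit 9274176) (BT.node (nat_lit 9274048) (BT.node (nat_lit 9273984) (BT.leaf (nat_lit 37095449)) (BT.leaf (nat_lit 26687509))) (BT.node (nat_lit 9274112) (BT.leaf (nat_lit 26687765)) (BT.leaf (nat_lit 52162325)))) (BT.node (nat_lit 9274432) (BT.node (nat_lit 9274304) (BT.leaf (nat_lit 51662101)) (BT.leaf (nat_lit 52162837))) (BT.node (nat_lit 9274624) (BT.leaf (nat_lit 26689041)) (BT.leaf (nat_lit 52163609))))))) (BT.node (nat_lit 9276160) (BT.node (nat_lit 9275328) (BT.node (nat_lit 9275072) (BT.node (nat_lit 9274880) (BT.node (nat_lit 9274816) (BT.leaf (nat_lit 52163861)) (BT.leaf (nat_lit 26690833))) (BT.node (nat_lit 9275008) (BT.leaf (nat_lit 27022853)) (BT.leaf (nat_lit 52106001)))) (BT.node (nat_lit 9275200) (BT.node (nat_lit 9275136) (BT.leaf (nat_lit 52165129)) (BT.leaf (nat_lit 52165397))) (BT.node (nat_lit 9275264) (BT.leaf (nat_lit 37597985)) (BT.leaf (nat_lit 35645465))))) (BT.node (nat_lit 9275840) (BT.node (nat_lit 9275712) (BT.node (nat_lit 9275392) (BT.leaf (nat_lit 26692629)) (BT.leaf (nat_lit 26693393))) (BT.node (nat_lit 9275776) (BT.leaf (nat_lit 27124237)) (BT.leaf (nat_lit 37103389)))) (BT.node (nat_lit 9275968) (BT.node (nat_lit 9275904) (BT.leaf (nat_lit 36517653)) (BT.leaf (nat_lit 26696473))) (BT.node (nat_lit 9276096) (BT.leaf (nat_lit 35565337)) (BT.leaf (nat_lit 51131169)))))) (BT.node (nat_lit 9276672) (BT.node (nat_lit 9276416) (BT.node (nat_lit 9276288) (BT.node (nat_lit 9276224) (BT.leaf (nat_lit 35665413)) (BT.leaf (nat_lit 26696965))) (BT.node (nat_lit 9276352) (BT.leaf (nat_lit 26696981)) (BT.leaf (nat_lit 37483545)))) (BT.node (nat_lit 9276544) (BT.node (nat_lit 9276480) (BT.leaf (nat_lit 26697237)) (BT.leaf (nat_lit 26697481))) (BT.node (nat_lit 9276608) (BT.leaf (nat_lit 26697485)) (BT.leaf (nat_lit 26697749))))) (BT.node (nat_lit 9276992) (BT.node (nat_lit 9276864) (BT.node (nat_lit 9276800) (BT.leaf (nat_lit 51170065)) (BT.leaf (nat_lit 35872537))) (BT.node (nat_lit 9276928) (BT.leaf (nat_lit 26698777)) (BT.leaf (nat_lit 26698781)))) (BT.node (nat_lit 9277120) (BT.node (nat_lit 9277056) (BT.leaf (nat_lit 26699033)) (BT.leaf (nat_lit 33260569))) (BT.node (nat_lit 9277248) (BT.leaf (nat_lit 26699281)) (BT.leaf (nat_lit 49081861)))))))) (BT.node (nat_lit 9280384) (BT.node (nat_lit 9278848) (BT.node (nat_lit 9277952) (BT.node (nat_lit 9277696) (BT.node (nat_lit 9277504) (BT.node (nat_lit 9277440) (BT.leaf (nat_lit 42751009)) (BT.leaf (nat_lit 46334497))) (BT.node (nat_lit 9277632) (BT.leaf (nat_lit 26702097)) (BT.leaf (nat_lit 26702361)))) (BT.node (nat_lit 9277824) (BT.node (nat_lit 9277760) (BT.leaf (nat_lit 26702365)) (BT.leaf (nat_lit 26702613))) (BT.node (nat_lit 9277888) (BT.leaf (nat_lit 26702617)) (BT.leaf (nat_lit 26702621))))) (BT.node (nat_lit 9278464) (BT.node (nat_lit 9278336) (BT.node (nat_lit 9278144) (BT.leaf (nat_lit 27127833)) (BT.leaf (nat_lit 27127821))) (BT.node (nat_lit 9278400) (BT.leaf (nat_lit 36158469)) (BT.leaf (nat_lit 26703893)))) (BT.node (nat_lit 9278592) (BT.node (nat_lit 9278528) (BT.leaf (nat_lit 26704149)) (BT.leaf (nat_lit 36703249))) (BT.node (nat_lit 9278656) (BT.leaf (nat_lit 27130393)) (BT.leaf (nat_lit 37585433)))))) (BT.node (nat_lit 9279744) (BT.node (nat_lit 9279488) (BT.node (nat_lit 9279040) (BT.node (nat_lit 9278976) (BT.leaf (nat_lit 26704417)) (BT.leaf (nat_lit 36703237))) (BT.node (nat_lit 9279424) (BT.leaf (nat_lit 26704917)) (BT.leaf (nat_lit 26818073)))) (BT.node (nat_lit 9279616) (BT.node (nat_lit 9279552) (BT.leaf (nat_lit 26705685)) (BT.leaf (nat_lit 37593117))) (BT.node (nat_lit 9279680) (BT.leaf (nat_lit 27139357)) (BT.leaf (nat_lit 27139337))))) (BT.node (nat_lit 9280128) (BT.node (nat_lit 9279872) (BT.node (nat_lit 9279808) (BT.leaf (nat_lit 37118745)) (BT.leaf (nat_lit 26706197))) (BT.node (nat_lit 9279936) (BT.leaf (nat_lit 27165977)) (BT.leaf (nat_lit 37595929)))) (BT.node (nat_lit 9280256) (BT.node (nat_lit 9280192) (BT.leaf (nat_lit 51332877)) (BT.leaf (nat_lit 26707221))) (BT.node (nat_lit 9280320) (BT.leaf (nat_lit 27106065)) (BT.leaf (nat_lit 26707481))))))) (BT.node (nat_lit 9281664) (BT.node (nat_lit 9281024) (BT.node (nat_lit 9280768) (BT.node (nat_lit 9280512) (BT.node (nat_lit 9280448) (BT.leaf (nat_lit 26707485)) (BT.leaf (nat_lit 26707729))) (BT.node (nat_lit 9280640) (BT.leaf (nat_lit 26707985)) (BT.leaf (nat_lit 36499729)))) (BT.node (nat_lit 9280896) (BT.node (nat_lit 9280832) (BT.leaf (nat_lit 26708497)) (BT.leaf (nat_lit 36526105))) (BT.node (nat_lit 9280960) (BT.leaf (nat_lit 26708753)) (BT.leaf (nat_lit 26709009))))) (BT.node (nat_lit 9281408) (BT.node (nat_lit 9281152) (BT.node (nat_lit 9281088) (BT.leaf (nat_lit 26709013)) (BT.leaf (nat_lit 26709273))) (BT.node (nat_lit 9281344) (BT.leaf (nat_lit 26709277)) (BT.leaf (nat_lit 26709789)))) (BT.node (nat_lit 9281536) (BT.node (nat_lit 9281472) (BT.leaf (nat_lit 36206617)) (BT.leaf (nat_lit 51675677))) (BT.node (nat_lit 9281600) (BT.leaf (nat_lit 26710289)) (BT.leaf (nat_lit 51675657)))))) (BT.node (nat_lit 9282368) (BT.node (nat_lit 9281920) (BT.node (nat_lit 9281792) (BT.node (nat_lit 9281728) (BT.leaf (nat_lit 26710305)) (BT.leaf (nat_lit 26710549))) (BT.node (nat_lit 9281856) (BT.leaf (nat_lit 48807429)) (BT.leaf (nat_lit 26710809)))) (BT.node (nat_lit 9282240) (BT.node (nat_lit 9281984) (BT.leaf (nat_lit 49936645)) (BT.leaf (nat_lit 51202077))) (BT.node (nat_lit 9282304) (BT.leaf (nat_lit 51682069)) (BT.leaf (nat_lit 37128969))))) (BT.node (nat_lit 9282688) (BT.node (nat_lit 9282560) (BT.node (nat_lit 9282432) (BT.leaf (nat_lit 52179733)) (BT.leaf (nat_lit 26712861))) (BT.node (nat_lit 9282624) (BT.leaf (nat_lit 36200729)) (BT.leaf (nat_lit 51692825)))) (BT.node (nat_lit 9282944) (BT.node (nat_lit 9282816) (BT.leaf (nat_lit 26713361)) (BT.leaf (nat_lit 37139997))) (BT.node (nat_lit 9283008) (BT.leaf (nat_lit 37139977)) (BT.leaf (nat_lit 37131801)))))))))))) (BT.node (nat_lit 9336960) (BT.node (nat_lit 9308032) (BT.node (nat_lit 9295296) (BT.node (nat_lit 9288448) (BT.node (nat_lit 9285824) (BT.node (nat_lit 9284544) (BT.node (nat_lit 9283776) (BT.node (nat_lit 9283392) (BT.node (nat_lit 9283264) (BT.node (nat_lit 9283200) (BT.leaf (nat_lit 26715417)) (BT.leaf (nat_lit 26715665))) (BT.node (nat_lit 9283328) (BT.leaf (nat_lit 26715933)) (BT.leaf (nat_lit 26716433)))) (BT.node (nat_lit 9283648) (BT.node (nat_lit 9283584) (BT.leaf (nat_lit 26717201)) (BT.leaf (nat_lit 26718481))) (BT.node (nat_lit 9283712) (BT.leaf (nat_lit 37610261)) (BT.leaf (nat_lit 37134601))))) (BT.node (nat_lit 9284224) (BT.node (nat_lit 9284032) (BT.node (nat_lit 9283840) (BT.leaf (nat_lit 50836757)) (BT.leaf (nat_lit 28284425))) (BT.node (nat_lit 9284096) (BT.leaf (nat_lit 26719773)) (BT.leaf (nat_lit 49022745)))) (BT.node (nat_lit 9284352) (BT.node (nat_lit 9284288) (BT.leaf (nat_lit 26720017)) (BT.leaf (nat_lit 37126921))) (BT.node (nat_lit 9284480) (BT.leaf (nat_lit 26720033)) (BT.leaf (nat_lit 26720517)))))) (BT.node (nat_lit 9285312) (BT.node (nat_lit 9284992) (BT.node (nat_lit 9284800) (BT.node (nat_lit 9284736) (BT.leaf (nat_lit 26720537)) (BT.leaf (nat_lit 51196189))) (BT.node (nat_lit 9284928) (BT.leaf (nat_lit 26721809)) (BT.leaf (nat_lit 26818077)))) (BT.node (nat_lit 9285120) (BT.node (nat_lit 9285056) (BT.leaf (nat_lit 26722069)) (BT.leaf (nat_lit 26722325))) (BT.node (nat_lit 9285248) (BT.leaf (nat_lit 26722565)) (BT.leaf (nat_lit 26722589))))) (BT.node (nat_lit 9285568) (BT.node (nat_lit 9285440) (BT.node (nat_lit 9285376) (BT.leaf (nat_lit 52185629)) (BT.leaf (nat_lit 26723093))) (BT.node (nat_lit 9285504) (BT.leaf (nat_lit 26723349)) (BT.leaf (nat_lit 26724629)))) (BT.node (nat_lit 9285696) (BT.node (nat_lit 9285632) (BT.leaf (nat_lit 49919265)) (BT.leaf (nat_lit 26725137))) (BT.node (nat_lit 9285760) (BT.leaf (nat_lit 51788065)) (BT.leaf (nat_lit 36517153))))))) (BT.node (nat_lit 9287168) (BT.node (nat_lit 9286656) (BT.node (nat_lit 9286144) (BT.node (nat_lit 9285952) (BT.node (nat_lit 9285888) (BT.leaf (nat_lit 37580321)) (BT.leaf (nat_lit 52186913))) (BT.node (nat_lit 9286080) (BT.leaf (nat_lit 37580313)) (BT.leaf (nat_lit 26725905)))) (BT.node (nat_lit 9286464) (BT.node (nat_lit 9286336) (BT.leaf (nat_lit 52165145)) (BT.leaf (nat_lit 27185181))) (BT.node (nat_lit 9286528) (BT.leaf (nat_lit 36699425)) (BT.leaf (nat_lit 37466885))))) (BT.node (nat_lit 9286912) (BT.node (nat_lit 9286784) (BT.node (nat_lit 9286720) (BT.leaf (nat_lit 27096349)) (BT.leaf (nat_lit 26727957))) (BT.node (nat_lit 9286848) (BT.leaf (nat_lit 41275669)) (BT.leaf (nat_lit 26728205)))) (BT.node (nat_lit 9287040) (BT.node (nat_lit 9286976) (BT.leaf (nat_lit 26728217)) (BT.leaf (nat_lit 27178253))) (BT.node (nat_lit 9287104) (BT.leaf (nat_lit 35282965)) (BT.leaf (nat_lit 26728469)))))) (BT.node (nat_lit 9287936) (BT.node (nat_lit 9287488) (BT.node (nat_lit 9287360) (BT.node (nat_lit 9287296) (BT.leaf (nat_lit 26728725)) (BT.leaf (nat_lit 27191833))) (BT.node (nat_lit 9287424) (BT.leaf (nat_lit 27179805)) (BT.leaf (nat_lit 51601165)))) (BT.node (nat_lit 9287616) (BT.node (nat_lit 9287552) (BT.leaf (nat_lit 27095325)) (BT.leaf (nat_lit 27095825))) (BT.node (nat_lit 9287744) (BT.leaf (nat_lit 26730769)) (BT.leaf (nat_lit 26731289))))) (BT.node (nat_lit 9288192) (BT.node (nat_lit 9288064) (BT.node (nat_lit 9288000) (BT.leaf (nat_lit 49020185)) (BT.leaf (nat_lit 26731801))) (BT.node (nat_lit 9288128) (BT.leaf (nat_lit 26731805)) (BT.leaf (nat_lit 26732053)))) (BT.node (nat_lit 9288320) (BT.node (nat_lit 9288256) (BT.leaf (nat_lit 26732297)) (BT.leaf (nat_lit 26732301))) (BT.node (nat_lit 9288384) (BT.leaf (nat_lit 26732313)) (BT.leaf (nat_lit 26732317)))))))) (BT.node (nat_lit 9291904) (BT.node (nat_lit 9290304) (BT.node (nat_lit 9289216) (BT.node (nat_lit 9288704) (BT.node (nat_lit 9288576) (BT.node (nat_lit 9288512) (BT.leaf (nat_lit 26732321)) (BT.leaf (nat_lit 26733073))) (BT.node (nat_lit 9288640) (BT.leaf (nat_lit 26733337)) (BT.leaf (nat_lit 26733341)))) (BT.node (nat_lit 9289088) (BT.node (nat_lit 9288768) (BT.leaf (nat_lit 26733833)) (BT.leaf (nat_lit 26733857))) (BT.node (nat_lit 9289152) (BT.leaf (nat_lit 36992517)) (BT.leaf (nat_lit 27203613))))) (BT.node (nat_lit 9289536) (BT.node (nat_lit 9289408) (BT.node (nat_lit 9289280) (BT.leaf (nat_lit 26735889)) (BT.leaf (nat_lit 27166993))) (BT.node (nat_lit 9289472) (BT.leaf (nat_lit 26736657)) (BT.leaf (nat_lit 26737685)))) (BT.node (nat_lit 9289664) (BT.node (nat_lit 9289600) (BT.leaf (nat_lit 46726421)) (BT.leaf (nat_lit 26737169))) (BT.node (nat_lit 9290240) (BT.leaf (nat_lit 36403737)) (BT.leaf (nat_lit 26743825)))))) (BT.node (nat_lit 9291392) (BT.node (nat_lit 9290880) (BT.node (nat_lit 9290624) (BT.node (nat_lit 9290560) (BT.leaf (nat_lit 26740501)) (BT.leaf (nat_lit 37162509))) (BT.node (nat_lit 9290816) (BT.leaf (nat_lit 52196117)) (BT.leaf (nat_lit 50180377)))) (BT.node (nat_lit 9291264) (BT.node (nat_lit 9291200) (BT.leaf (nat_lit 33723421)) (BT.leaf (nat_lit 26743073))) (BT.node (nat_lit 9291328) (BT.leaf (nat_lit 26743317)) (BT.leaf (nat_lit 36626457))))) (BT.node (nat_lit 9291648) (BT.node (nat_lit 9291520) (BT.node (nat_lit 9291456) (BT.leaf (nat_lit 26743573)) (BT.leaf (nat_lit 26745621))) (BT.node (nat_lit 9291584) (BT.leaf (nat_lit 26746909)) (BT.leaf (nat_lit 26746889)))) (BT.node (nat_lit 9291776) (BT.node (nat_lit 9291712) (BT.leaf (nat_lit 27171341)) (BT.leaf (nat_lit 36544793))) (BT.node (nat_lit 9291840) (BT.leaf (nat_lit 26744085)) (BT.leaf (nat_lit 26744341))))))) (BT.node (nat_lit 9293312) (BT.node (nat_lit 9292416) (BT.node (nat_lit 9292160) (BT.node (nat_lit 9292032) (BT.node (nat_lit 9291968) (BT.leaf (nat_lit 52199709)) (BT.leaf (nat_lit 37578525))) (BT.node (nat_lit 9292096) (BT.leaf (nat_lit 37578505)) (BT.leaf (nat_lit 37168153)))) (BT.node (nat_lit 9292288) (BT.node (nat_lit 9292224) (BT.leaf (nat_lit 26744609)) (BT.leaf (nat_lit 37017113))) (BT.node (nat_lit 9292352) (BT.leaf (nat_lit 26744853)) (BT.leaf (nat_lit 26745109))))) (BT.node (nat_lit 9292800) (BT.node (nat_lit 9292672) (BT.node (nat_lit 9292544) (BT.leaf (nat_lit 27170829)) (BT.leaf (nat_lit 27170841))) (BT.node (nat_lit 9292736) (BT.leaf (nat_lit 37167117)) (BT.leaf (nat_lit 26745889)))) (BT.node (nat_lit 9292992) (BT.node (nat_lit 9292928) (BT.leaf (nat_lit 26746905)) (BT.leaf (nat_lit 26746893))) (BT.node (nat_lit 9293120) (BT.leaf (nat_lit 26746913)) (BT.leaf (nat_lit 26747409)))))) (BT.node (nat_lit 9294272) (BT.node (nat_lit 9293888) (BT.node (nat_lit 9293440) (BT.node (nat_lit 9293376) (BT.leaf (nat_lit 26748441)) (BT.leaf (nat_lit 26748445))) (BT.node (nat_lit 9293632) (BT.leaf (nat_lit 26748689)) (BT.leaf (nat_lit 26749209)))) (BT.node (nat_lit 9294016) (BT.node (nat_lit 9293952) (BT.leaf (nat_lit 52053789)) (BT.leaf (nat_lit 26750737))) (BT.node (nat_lit 9294208) (BT.leaf (nat_lit 26750741)) (BT.leaf (nat_lit 27171873))))) (BT.node (nat_lit 9294656) (BT.node (nat_lit 9294528) (BT.node (nat_lit 9294464) (BT.leaf (nat_lit 52206613)) (BT.leaf (nat_lit 34383641))) (BT.node (nat_lit 9294592) (BT.leaf (nat_lit 26753041)) (BT.leaf (nat_lit 52207381)))) (BT.node (nat_lit 9295168) (BT.node (nat_lit 9295040) (BT.leaf (nat_lit 52207637)) (BT.leaf (nat_lit 35231509))) (BT.node (nat_lit 9295232) (BT.leaf (nat_lit 51084049)) (BT.leaf (nat_lit 35328033))))))))) (BT.node (nat_lit 9301184) (BT.node (nat_lit 9298496) (BT.node (nat_lit 9296704) (BT.node (nat_lit 9295936) (BT.node (nat_lit 9295616) (BT.node (nat_lit 9295488) (BT.node (nat_lit 9295360) (BT.leaf (nat_lit 33861409)) (BT.leaf (nat_lit 27962389))) (BT.node (nat_lit 9295552) (BT.leaf (nat_lit 51454477)) (BT.leaf (nat_lit 37181977)))) (BT.node (nat_lit 9295808) (BT.node (nat_lit 9295744) (BT.leaf (nat_lit 29725205)) (BT.leaf (nat_lit 36006417))) (BT.node (nat_lit 9295872) (BT.leaf (nat_lit 26759957)) (BT.leaf (nat_lit 48538129))))) (BT.node (nat_lit 9296192) (BT.node (nat_lit 9296064) (BT.node (nat_lit 9296000) (BT.leaf (nat_lit 28911877)) (BT.leaf (nat_lit 50715153))) (BT.node (nat_lit 9296128) (BT.leaf (nat_lit 34708745)) (BT.leaf (nat_lit 26761233)))) (BT.node (nat_lit 9296448) (BT.node (nat_lit 9296384) (BT.leaf (nat_lit 26761237)) (BT.leaf (nat_lit 26763025))) (BT.node (nat_lit 9296512) (BT.leaf (nat_lit 26762773)) (BT.leaf (nat_lit 26762781)))))) (BT.node (nat_lit 9297600) (BT.node (nat_lit 9297024) (BT.node (nat_lit 9296896) (BT.node (nat_lit 9296768) (BT.leaf (nat_lit 52211233)) (BT.leaf (nat_lit 35678229))) (BT.node (nat_lit 9296960) (BT.leaf (nat_lit 36830749)) (BT.leaf (nat_lit 26763793)))) (BT.node (nat_lit 9297280) (BT.node (nat_lit 9297152) (BT.leaf (nat_lit 37270789)) (BT.leaf (nat_lit 37695005))) (BT.node (nat_lit 9297408) (BT.leaf (nat_lit 26765333)) (BT.leaf (nat_lit 26765585))))) (BT.node (nat_lit 9298112) (BT.node (nat_lit 9297856) (BT.node (nat_lit 9297664) (BT.leaf (nat_lit 26766357)) (BT.leaf (nat_lit 51910409))) (BT.node (nat_lit 9298048) (BT.leaf (nat_lit 36291353)) (BT.leaf (nat_lit 52007941)))) (BT.node (nat_lit 9298240) (BT.node (nat_lit 9298176) (BT.leaf (nat_lit 47337225)) (BT.leaf (nat_lit 47337229))) (BT.node (nat_lit 9298368) (BT.leaf (nat_lit 52217349)) (BT.leaf (nat_lit 34472981))))))) (BT.node (nat_lit 9299904) (BT.node (nat_lit 9299392) (BT.node (nat_lit 9299072) (BT.node (nat_lit 9298816) (BT.node (nat_lit 9298624) (BT.leaf (nat_lit 52218145)) (BT.leaf (nat_lit 29093917))) (BT.node (nat_lit 9298944) (BT.leaf (nat_lit 52219157)) (BT.leaf (nat_lit 26768657)))) (BT.node (nat_lit 9299200) (BT.node (nat_lit 9299136) (BT.leaf (nat_lit 46878497)) (BT.leaf (nat_lit 37288217))) (BT.node (nat_lit 9299264) (BT.leaf (nat_lit 51418653)) (BT.leaf (nat_lit 26769681))))) (BT.node (nat_lit 9299648) (BT.node (nat_lit 9299520) (BT.node (nat_lit 9299456) (BT.leaf (nat_lit 26769937)) (BT.leaf (nat_lit 26769941))) (BT.node (nat_lit 9299584) (BT.leaf (nat_lit 26770961)) (BT.leaf (nat_lit 26770709)))) (BT.node (nat_lit 9299776) (BT.node (nat_lit 9299712) (BT.leaf (nat_lit 37011985)) (BT.leaf (nat_lit 26771993))) (BT.node (nat_lit 9299840) (BT.leaf (nat_lit 52221717)) (BT.leaf (nat_lit 50003233)))))) (BT.node (nat_lit 9300480) (BT.node (nat_lit 9300160) (BT.node (nat_lit 9300032) (BT.node (nat_lit 9299968) (BT.leaf (nat_lit 52222237)) (BT.leaf (nat_lit 52223249))) (BT.node (nat_lit 9300096) (BT.leaf (nat_lit 52224025)) (BT.leaf (nat_lit 50062369)))) (BT.node (nat_lit 9300352) (BT.node (nat_lit 9300224) (BT.leaf (nat_lit 26774033)) (BT.leaf (nat_lit 50062349))) (BT.node (nat_lit 9300416) (BT.leaf (nat_lit 26775069)) (BT.leaf (nat_lit 26775317))))) (BT.node (nat_lit 9300864) (BT.node (nat_lit 9300736) (BT.node (nat_lit 9300672) (BT.leaf (nat_lit 37103393)) (BT.leaf (nat_lit 26776337))) (BT.node (nat_lit 9300800) (BT.leaf (nat_lit 26776597)) (BT.leaf (nat_lit 26776849)))) (BT.node (nat_lit 9301056) (BT.node (nat_lit 9300992) (BT.leaf (nat_lit 26777109)) (BT.leaf (nat_lit 26777617))) (BT.node (nat_lit 9301120) (BT.leaf (nat_lit 26777621)) (BT.leaf (nat_lit 26777877)))))))) (BT.node (nat_lit 9304000) (BT.node (nat_lit 9302528) (BT.node (nat_lit 9301952) (BT.node (nat_lit 9301440) (BT.node (nat_lit 9301312) (BT.node (nat_lit 9301248) (BT.leaf (nat_lit 26777881)) (BT.leaf (nat_lit 26777885))) (BT.node (nat_lit 9301376) (BT.leaf (nat_lit 51444997)) (BT.leaf (nat_lit 50611217)))) (BT.node (nat_lit 9301696) (BT.node (nat_lit 9301504) (BT.leaf (nat_lit 50610961)) (BT.leaf (nat_lit 36191765))) (BT.node (nat_lit 9301888) (BT.leaf (nat_lit 52228625)) (BT.leaf (nat_lit 33083413))))) (BT.node (nat_lit 9302208) (BT.node (nat_lit 9302080) (BT.node (nat_lit 9302016) (BT.leaf (nat_lit 26780945)) (BT.leaf (nat_lit 47205125))) (BT.node (nat_lit 9302144) (BT.leaf (nat_lit 26780701)) (BT.leaf (nat_lit 26781461)))) (BT.node (nat_lit 9302400) (BT.node (nat_lit 9302336) (BT.leaf (nat_lit 26781465)) (BT.leaf (nat_lit 26782225))) (BT.node (nat_lit 9302464) (BT.leaf (nat_lit 26782481)) (BT.leaf (nat_lit 30672929)))))) (BT.node (nat_lit 9303040) (BT.node (nat_lit 9302784) (BT.node (nat_lit 9302656) (BT.node (nat_lit 9302592) (BT.leaf (nat_lit 26783249)) (BT.leaf (nat_lit 52230677))) (BT.node (nat_lit 9302720) (BT.leaf (nat_lit 33428749)) (BT.leaf (nat_lit 26784793)))) (BT.node (nat_lit 9302912) (BT.node (nat_lit 9302848) (BT.leaf (nat_lit 30272021)) (BT.leaf (nat_lit 27425297))) (BT.node (nat_lit 9302976) (BT.leaf (nat_lit 47609101)) (BT.leaf (nat_lit 30271765))))) (BT.node (nat_lit 9303552) (BT.node (nat_lit 9303232) (BT.node (nat_lit 9303168) (BT.leaf (nat_lit 33428761)) (BT.leaf (nat_lit 37655069))) (BT.node (nat_lit 9303424) (BT.leaf (nat_lit 27210773)) (BT.leaf (nat_lit 36667681)))) (BT.node (nat_lit 9303680) (BT.node (nat_lit 9303616) (BT.leaf (nat_lit 51341829)) (BT.leaf (nat_lit 26786329))) (BT.node (nat_lit 9303936) (BT.leaf (nat_lit 26786577)) (BT.leaf (nat_lit 36070149))))))) (BT.node (nat_lit 9306112) (BT.node (nat_lit 9305024) (BT.node (nat_lit 9304512) (BT.node (nat_lit 9304384) (BT.node (nat_lit 9304256) (BT.leaf (nat_lit 26787601)) (BT.leaf (nat_lit 52233221))) (BT.node (nat_lit 9304448) (BT.leaf (nat_lit 37645061)) (BT.leaf (nat_lit 37555205)))) (BT.node (nat_lit 9304704) (BT.node (nat_lit 9304576) (BT.leaf (nat_lit 26789405)) (BT.leaf (nat_lit 26789649))) (BT.node (nat_lit 9304960) (BT.leaf (nat_lit 26789909)) (BT.leaf (nat_lit 27202053))))) (BT.node (nat_lit 9305600) (BT.node (nat_lit 9305472) (BT.node (nat_lit 9305344) (BT.leaf (nat_lit 52235797)) (BT.leaf (nat_lit 52236561))) (BT.node (nat_lit 9305536) (BT.leaf (nat_lit 48654341)) (BT.leaf (nat_lit 36041233)))) (BT.node (nat_lit 9305728) (BT.node (nat_lit 9305664) (BT.leaf (nat_lit 52236817)) (BT.leaf (nat_lit 35474965))) (BT.node (nat_lit 9305984) (BT.leaf (nat_lit 51903261)) (BT.leaf (nat_lit 37659169)))))) (BT.node (nat_lit 9307264) (BT.node (nat_lit 9306368) (BT.node (nat_lit 9306240) (BT.node (nat_lit 9306176) (BT.leaf (nat_lit 51176713)) (BT.leaf (nat_lit 52237585))) (BT.node (nat_lit 9306304) (BT.leaf (nat_lit 33352725)) (BT.leaf (nat_lit 33350417)))) (BT.node (nat_lit 9306688) (BT.node (nat_lit 9306496) (BT.leaf (nat_lit 52043025)) (BT.leaf (nat_lit 33326853))) (BT.node (nat_lit 9306752) (BT.leaf (nat_lit 33895185)) (BT.leaf (nat_lit 34130693))))) (BT.node (nat_lit 9307712) (BT.node (nat_lit 9307584) (BT.node (nat_lit 9307456) (BT.leaf (nat_lit 37371937)) (BT.leaf (nat_lit 37509405))) (BT.node (nat_lit 9307648) (BT.leaf (nat_lit 51707665)) (BT.leaf (nat_lit 26800657)))) (BT.node (nat_lit 9307904) (BT.node (nat_lit 9307776) (BT.leaf (nat_lit 26800409)) (BT.leaf (nat_lit 26800413))) (BT.node (nat_lit 9307968) (BT.leaf (nat_lit 26801425)) (BT.leaf (nat_lit 26801693)))))))))) (BT.node (nat_lit 9322560) (BT.node (nat_lit 9315072) (BT.node (nat_lit 9311936) (BT.node (nat_lit 9310336) (BT.node (nat_lit 9309056) (BT.node (nat_lit 9308736) (BT.node (nat_lit 9308480) (BT.node (nat_lit 9308416) (BT.leaf (nat_lit 37234713)) (BT.leaf (nat_lit 48336149))) (BT.node (nat_lit 9308672) (BT.leaf (nat_lit 31853601)) (BT.leaf (nat_lit 52153365)))) (BT.node (nat_lit 9308864) (BT.node (nat_lit 9308800) (BT.leaf (nat_lit 51849757)) (BT.leaf (nat_lit 51817493))) (BT.node (nat_lit 9308928) (BT.leaf (nat_lit 48334865)) (BT.leaf (nat_lit 49149957))))) (BT.node (nat_lit 9309952) (BT.node (nat_lit 9309568) (BT.node (nat_lit 9309440) (BT.leaf (nat_lit 33297937)) (BT.leaf (nat_lit 37074441))) (BT.node (nat_lit 9309632) (BT.leaf (nat_lit 37443589)) (BT.leaf (nat_lit 26808085)))) (BT.node (nat_lit 9310208) (BT.node (nat_lit 9310144) (BT.leaf (nat_lit 26809353)) (BT.leaf (nat_lit 26809369))) (BT.node (nat_lit 9310272) (BT.leaf (nat_lit 26809373)) (BT.leaf (nat_lit 52241937)))))) (BT.node (nat_lit 9311104) (BT.node (nat_lit 9310592) (BT.node (nat_lit 9310464) (BT.node (nat_lit 9310400) (BT.leaf (nat_lit 26810129)) (BT.leaf (nat_lit 52242961))) (BT.node (nat_lit 9310528) (BT.leaf (nat_lit 52243729)) (BT.leaf (nat_lit 52244761)))) (BT.node (nat_lit 9310784) (BT.node (nat_lit 9310720) (BT.leaf (nat_lit 52245013)) (BT.leaf (nat_lit 27034645))) (BT.node (nat_lit 9310976) (BT.leaf (nat_lit 26810641)) (BT.leaf (nat_lit 52247061))))) (BT.node (nat_lit 9311360) (BT.node (nat_lit 9311232) (BT.node (nat_lit 9311168) (BT.leaf (nat_lit 37298977)) (BT.leaf (nat_lit 51824917))) (BT.node (nat_lit 9311296) (BT.leaf (nat_lit 27157009)) (BT.leaf (nat_lit 37245469)))) (BT.node (nat_lit 9311808) (BT.node (nat_lit 9311552) (BT.leaf (nat_lit 52174609)) (BT.leaf (nat_lit 27157273))) (BT.node (nat_lit 9311872) (BT.leaf (nat_lit 52120337)) (BT.leaf (nat_lit 26815005))))))) (BT.node (nat_lit 9313728) (BT.node (nat_lit 9313024) (BT.node (nat_lit 9312768) (BT.node (nat_lit 9312384) (BT.node (nat_lit 9312128) (BT.leaf (nat_lit 52250641)) (BT.leaf (nat_lit 52153877))) (BT.node (nat_lit 9312704) (BT.leaf (nat_lit 26818321)) (BT.leaf (nat_lit 35491845)))) (BT.node (nat_lit 9312896) (BT.node (nat_lit 9312832) (BT.leaf (nat_lit 37655049)) (BT.leaf (nat_lit 26819601))) (BT.node (nat_lit 9312960) (BT.leaf (nat_lit 36393249)) (BT.leaf (nat_lit 37655829))))) (BT.node (nat_lit 9313472) (BT.node (nat_lit 9313280) (BT.node (nat_lit 9313152) (BT.leaf (nat_lit 52237077)) (BT.leaf (nat_lit 52237081))) (BT.node (nat_lit 9313344) (BT.leaf (nat_lit 37528341)) (BT.leaf (nat_lit 37443605)))) (BT.node (nat_lit 9313600) (BT.node (nat_lit 9313536) (BT.leaf (nat_lit 51765533)) (BT.leaf (nat_lit 26823189))) (BT.node (nat_lit 9313664) (BT.leaf (nat_lit 51835665)) (BT.leaf (nat_lit 26823197)))))) (BT.node (nat_lit 9314240) (BT.node (nat_lit 9313984) (BT.node (nat_lit 9313856) (BT.node (nat_lit 9313792) (BT.leaf (nat_lit 34623769)) (BT.leaf (nat_lit 46976285))) (BT.node (nat_lit 9313920) (BT.leaf (nat_lit 26823701)) (BT.leaf (nat_lit 26823705)))) (BT.node (nat_lit 9314112) (BT.node (nat_lit 9314048) (BT.leaf (nat_lit 26823709)) (BT.leaf (nat_lit 51615257))) (BT.node (nat_lit 9314176) (BT.leaf (nat_lit 26823953)) (BT.leaf (nat_lit 30528793))))) (BT.node (nat_lit 9314624) (BT.node (nat_lit 9314432) (BT.node (nat_lit 9314304) (BT.leaf (nat_lit 26824209)) (BT.leaf (nat_lit 26824465))) (BT.node (nat_lit 9314496) (BT.leaf (nat_lit 51839769)) (BT.leaf (nat_lit 37222425)))) (BT.node (nat_lit 9314752) (BT.node (nat_lit 9314688) (BT.leaf (nat_lit 51803681)) (BT.leaf (nat_lit 26825497))) (BT.node (nat_lit 9314944) (BT.leaf (nat_lit 52257313)) (BT.leaf (nat_lit 37224969)))))))) (BT.node (nat_lit 9319104) (BT.node (nat_lit 9317120) (BT.node (nat_lit 9316288) (BT.node (nat_lit 9315840) (BT.node (nat_lit 9315520) (BT.node (nat_lit 9315136) (BT.leaf (nat_lit 48817697)) (BT.leaf (nat_lit 50868253))) (BT.node (nat_lit 9315776) (BT.leaf (nat_lit 52259349)) (BT.leaf (nat_lit 26940421)))) (BT.node (nat_lit 9316032) (BT.node (nat_lit 9315904) (BT.leaf (nat_lit 51277317)) (BT.leaf (nat_lit 51277061))) (BT.node (nat_lit 9316096) (BT.leaf (nat_lit 26832405)) (BT.leaf (nat_lit 36571665))))) (BT.node (nat_lit 9316608) (BT.node (nat_lit 9316480) (BT.node (nat_lit 9316416) (BT.leaf (nat_lit 26833169)) (BT.leaf (nat_lit 51828257))) (BT.node (nat_lit 9316544) (BT.leaf (nat_lit 26835229)) (BT.leaf (nat_lit 35640837)))) (BT.node (nat_lit 9316928) (BT.node (nat_lit 9316800) (BT.leaf (nat_lit 50433825)) (BT.leaf (nat_lit 26835985))) (BT.node (nat_lit 9316992) (BT.leaf (nat_lit 35637521)) (BT.leaf (nat_lit 52263189)))))) (BT.node (nat_lit 9318016) (BT.node (nat_lit 9317504) (BT.node (nat_lit 9317376) (BT.node (nat_lit 9317248) (BT.leaf (nat_lit 52111381)) (BT.leaf (nat_lit 52111365))) (BT.node (nat_lit 9317440) (BT.leaf (nat_lit 52263949)) (BT.leaf (nat_lit 26840085)))) (BT.node (nat_lit 9317696) (BT.node (nat_lit 9317632) (BT.leaf (nat_lit 36531217)) (BT.leaf (nat_lit 35748625))) (BT.node (nat_lit 9317760) (BT.leaf (nat_lit 26841105)) (BT.leaf (nat_lit 52266773))))) (BT.node (nat_lit 9318720) (BT.node (nat_lit 9318464) (BT.node (nat_lit 9318336) (BT.leaf (nat_lit 52267033)) (BT.leaf (nat_lit 52263953))) (BT.node (nat_lit 9318532) (BT.leaf (nat_lit 26842657)) (BT.leaf (nat_lit 588576)))) (BT.node (nat_lit 9318976) (BT.node (nat_lit 9318912) (BT.leaf (nat_lit 37273877)) (BT.leaf (nat_lit 51904029))) (BT.node (nat_lit 9319040) (BT.leaf (nat_lit 36702237)) (BT.leaf (nat_lit 26844177))))))) (BT.node (nat_lit 9321024) (BT.node (nat_lit 9320000) (BT.node (nat_lit 9319488) (BT.node (nat_lit 9319296) (BT.node (nat_lit 9319168) (BT.leaf (nat_lit 36702217)) (BT.leaf (nat_lit 37276441))) (BT.node (nat_lit 9319360) (BT.leaf (nat_lit 26844437)) (BT.leaf (nat_lit 26844693)))) (BT.node (nat_lit 9319872) (BT.node (nat_lit 9319808) (BT.leaf (nat_lit 26845209)) (BT.leaf (nat_lit 52270605))) (BT.node (nat_lit 9319936) (BT.leaf (nat_lit 36608261)) (BT.leaf (nat_lit 37451013))))) (BT.node (nat_lit 9320768) (BT.node (nat_lit 9320640) (BT.node (nat_lit 9320576) (BT.leaf (nat_lit 52263965)) (BT.leaf (nat_lit 27236373))) (BT.node (nat_lit 9320704) (BT.leaf (nat_lit 27237917)) (BT.leaf (nat_lit 26850321)))) (BT.node (nat_lit 9320896) (BT.node (nat_lit 9320832) (BT.leaf (nat_lit 27237897)) (BT.leaf (nat_lit 27232525))) (BT.node (nat_lit 9320960) (BT.leaf (nat_lit 26850337)) (BT.leaf (nat_lit 27202077)))))) (BT.node (nat_lit 9321792) (BT.node (nat_lit 9321280) (BT.node (nat_lit 9321152) (BT.node (nat_lit 9321088) (BT.leaf (nat_lit 26850581)) (BT.leaf (nat_lit 26850837))) (BT.node (nat_lit 9321216) (BT.leaf (nat_lit 26851077)) (BT.leaf (nat_lit 26851097)))) (BT.node (nat_lit 9321664) (BT.node (nat_lit 9321344) (BT.leaf (nat_lit 26851101)) (BT.leaf (nat_lit 27234841))) (BT.node (nat_lit 9321728) (BT.leaf (nat_lit 26860061)) (BT.leaf (nat_lit 26860041))))) (BT.node (nat_lit 9322176) (BT.node (nat_lit 9322048) (BT.node (nat_lit 9321920) (BT.leaf (nat_lit 37328405)) (BT.leaf (nat_lit 37328413))) (BT.node (nat_lit 9322112) (BT.leaf (nat_lit 26853137)) (BT.leaf (nat_lit 37496857)))) (BT.node (nat_lit 9322432) (BT.node (nat_lit 9322240) (BT.leaf (nat_lit 26853393)) (BT.leaf (nat_lit 37293061))) (BT.node (nat_lit 9322496) (BT.leaf (nat_lit 27054865)) (BT.leaf (nat_lit 51849481))))))))) (BT.node (nat_lit 9330176) (BT.node (nat_lit 9326656) (BT.node (nat_lit 9324608) (BT.node (nat_lit 9323328) (BT.node (nat_lit 9322944) (BT.node (nat_lit 9322752) (BT.node (nat_lit 9322688) (BT.leaf (nat_lit 52264217)) (BT.leaf (nat_lit 26855701))) (BT.node (nat_lit 9322880) (BT.leaf (nat_lit 27039761)) (BT.leaf (nat_lit 26856213)))) (BT.node (nat_lit 9323200) (BT.node (nat_lit 9323008) (BT.leaf (nat_lit 26875153)) (BT.leaf (nat_lit 26873605))) (BT.node (nat_lit 9323264) (BT.leaf (nat_lit 37328409)) (BT.leaf (nat_lit 26903581))))) (BT.node (nat_lit 9324032) (BT.node (nat_lit 9323520) (BT.node (nat_lit 9323392) (BT.leaf (nat_lit 26858769)) (BT.leaf (nat_lit 26902549))) (BT.node (nat_lit 9323840) (BT.leaf (nat_lit 37287197)) (BT.leaf (nat_lit 37225501)))) (BT.node (nat_lit 9324224) (BT.node (nat_lit 9324096) (BT.leaf (nat_lit 51806485)) (BT.leaf (nat_lit 26958369))) (BT.node (nat_lit 9324416) (BT.leaf (nat_lit 27223065)) (BT.leaf (nat_lit 26864665)))))) (BT.node (nat_lit 9325248) (BT.node (nat_lit 9324928) (BT.node (nat_lit 9324736) (BT.node (nat_lit 9324672) (BT.leaf (nat_lit 37298717)) (BT.leaf (nat_lit 46697749))) (BT.node (nat_lit 9324800) (BT.leaf (nat_lit 52301077)) (BT.leaf (nat_lit 37298953)))) (BT.node (nat_lit 9325120) (BT.node (nat_lit 9324992) (BT.leaf (nat_lit 37284113)) (BT.leaf (nat_lit 37299737))) (BT.node (nat_lit 9325184) (BT.leaf (nat_lit 37275925)) (BT.leaf (nat_lit 37277213))))) (BT.node (nat_lit 9325888) (BT.node (nat_lit 9325568) (BT.node (nat_lit 9325440) (BT.leaf (nat_lit 26866193)) (BT.leaf (nat_lit 26866453))) (BT.node (nat_lit 9325824) (BT.leaf (nat_lit 51856653)) (BT.leaf (nat_lit 26867717)))) (BT.node (nat_lit 9326400) (BT.node (nat_lit 9326336) (BT.leaf (nat_lit 26867733)) (BT.leaf (nat_lit 37165593))) (BT.node (nat_lit 9326592) (BT.leaf (nat_lit 35561493)) (BT.leaf (nat_lit 26869793))))))) (BT.node (nat_lit 9328768) (BT.node (nat_lit 9327552) (BT.node (nat_lit 9327232) (BT.node (nat_lit 9326784) (BT.node (nat_lit 9326720) (BT.leaf (nat_lit 26870293)) (BT.leaf (nat_lit 26870793))) (BT.node (nat_lit 9327168) (BT.leaf (nat_lit 37487877)) (BT.leaf (nat_lit 26871569)))) (BT.node (nat_lit 9327424) (BT.node (nat_lit 9327296) (BT.leaf (nat_lit 36822301)) (BT.leaf (nat_lit 26871825))) (BT.node (nat_lit 9327488) (BT.leaf (nat_lit 27156497)) (BT.leaf (nat_lit 27135005))))) (BT.node (nat_lit 9328064) (BT.node (nat_lit 9327744) (BT.node (nat_lit 9327680) (BT.leaf (nat_lit 37586201)) (BT.leaf (nat_lit 52287237))) (BT.node (nat_lit 9327808) (BT.leaf (nat_lit 26873621)) (BT.leaf (nat_lit 27134985)))) (BT.node (nat_lit 9328384) (BT.node (nat_lit 9328320) (BT.leaf (nat_lit 51878685)) (BT.leaf (nat_lit 26874901))) (BT.node (nat_lit 9328704) (BT.leaf (nat_lit 26875157)) (BT.leaf (nat_lit 37671941)))))) (BT.node (nat_lit 9329600) (BT.node (nat_lit 9329216) (BT.node (nat_lit 9328896) (BT.node (nat_lit 9328832) (BT.leaf (nat_lit 37014809)) (BT.leaf (nat_lit 26877709))) (BT.node (nat_lit 9329152) (BT.leaf (nat_lit 26877713)) (BT.leaf (nat_lit 26877973)))) (BT.node (nat_lit 9329408) (BT.node (nat_lit 9329280) (BT.leaf (nat_lit 26878229)) (BT.leaf (nat_lit 26878489))) (BT.node (nat_lit 9329536) (BT.leaf (nat_lit 26878737)) (BT.leaf (nat_lit 26878753))))) (BT.node (nat_lit 9329920) (BT.node (nat_lit 9329728) (BT.node (nat_lit 9329664) (BT.leaf (nat_lit 26878993)) (BT.leaf (nat_lit 52201733))) (BT.node (nat_lit 9329856) (BT.leaf (nat_lit 26879237)) (BT.leaf (nat_lit 52290309)))) (BT.node (nat_lit 9330048) (BT.node (nat_lit 9329984) (BT.leaf (nat_lit 37270549)) (BT.leaf (nat_lit 26881309))) (BT.node (nat_lit 9330112) (BT.leaf (nat_lit 52199957)) (BT.leaf (nat_lit 26879761)))))))) (BT.node (nat_lit 9334272) (BT.node (nat_lit 9332224) (BT.node (nat_lit 9331008) (BT.node (nat_lit 9330624) (BT.node (nat_lit 9330496) (BT.node (nat_lit 9330432) (BT.leaf (nat_lit 52199941)) (BT.leaf (nat_lit 52292101))) (BT.node (nat_lit 9330560) (BT.leaf (nat_lit 26881045)) (BT.leaf (nat_lit 52200965)))) (BT.node (nat_lit 9330752) (BT.node (nat_lit 9330688) (BT.leaf (nat_lit 26881313)) (BT.leaf (nat_lit 37578757))) (BT.node (nat_lit 9330880) (BT.leaf (nat_lit 26881565)) (BT.leaf (nat_lit 26882057))))) (BT.node (nat_lit 9331968) (BT.node (nat_lit 9331648) (BT.node (nat_lit 9331584) (BT.leaf (nat_lit 36700437)) (BT.leaf (nat_lit 26917153))) (BT.node (nat_lit 9331776) (BT.leaf (nat_lit 26903573)) (BT.leaf (nat_lit 26886941)))) (BT.node (nat_lit 9332096) (BT.node (nat_lit 9332032) (BT.leaf (nat_lit 26916897)) (BT.leaf (nat_lit 26886165))) (BT.node (nat_lit 9332160) (BT.leaf (nat_lit 52294929)) (BT.leaf (nat_lit 52295453)))))) (BT.node (nat_lit 9333312) (BT.node (nat_lit 9332672) (BT.node (nat_lit 9332352) (BT.node (nat_lit 9332288) (BT.leaf (nat_lit 52295185)) (BT.leaf (nat_lit 26887185))) (BT.node (nat_lit 9332480) (BT.leaf (nat_lit 26887441)) (BT.leaf (nat_lit 26887457)))) (BT.node (nat_lit 9332800) (BT.node (nat_lit 9332736) (BT.leaf (nat_lit 26887961)) (BT.leaf (nat_lit 26888209))) (BT.node (nat_lit 9332992) (BT.leaf (nat_lit 26889501)) (BT.leaf (nat_lit 37011973))))) (BT.node (nat_lit 9333696) (BT.node (nat_lit 9333504) (BT.node (nat_lit 9333440) (BT.leaf (nat_lit 26891025)) (BT.leaf (nat_lit 26891281))) (BT.node (nat_lit 9333568) (BT.leaf (nat_lit 51823649)) (BT.leaf (nat_lit 26892305)))) (BT.node (nat_lit 9333888) (BT.node (nat_lit 9333824) (BT.leaf (nat_lit 26891549)) (BT.leaf (nat_lit 52298257))) (BT.node (nat_lit 9333952) (BT.leaf (nat_lit 37017093)) (BT.leaf (nat_lit 26893597))))))) (BT.node (nat_lit 9335744) (BT.node (nat_lit 9335168) (BT.node (nat_lit 9334784) (BT.node (nat_lit 9334528) (BT.node (nat_lit 9334464) (BT.leaf (nat_lit 37313309)) (BT.leaf (nat_lit 52300313))) (BT.node (nat_lit 9334592) (BT.leaf (nat_lit 51297817)) (BT.leaf (nat_lit 26894869)))) (BT.node (nat_lit 9334912) (BT.node (nat_lit 9334848) (BT.leaf (nat_lit 52200453)) (BT.leaf (nat_lit 26897937))) (BT.node (nat_lit 9335040) (BT.leaf (nat_lit 26897953)) (BT.leaf (nat_lit 27119129))))) (BT.node (nat_lit 9335360) (BT.node (nat_lit 9335232) (BT.node (nat_lit 9335172) (BT.leaf (nat_lit 52201477)) (BT.leaf (nat_lit 585808))) (BT.node (nat_lit 9335296) (BT.leaf (nat_lit 26898965)) (BT.leaf (nat_lit 26899217)))) (BT.node (nat_lit 9335552) (BT.node (nat_lit 9335424) (BT.leaf (nat_lit 26899985)) (BT.leaf (nat_lit 27194885))) (BT.node (nat_lit 9335680) (BT.leaf (nat_lit 36539909)) (BT.leaf (nat_lit 26902545)))))) (BT.node (nat_lit 9336448) (BT.node (nat_lit 9336192) (BT.node (nat_lit 9335872) (BT.node (nat_lit 9335808) (BT.leaf (nat_lit 37328925)) (BT.leaf (nat_lit 37343769))) (BT.node (nat_lit 9335936) (BT.leaf (nat_lit 52302877)) (BT.leaf (nat_lit 52302609)))) (BT.node (nat_lit 9336320) (BT.node (nat_lit 9336256) (BT.leaf (nat_lit 26904865)) (BT.leaf (nat_lit 27195929))) (BT.node (nat_lit 9336384) (BT.leaf (nat_lit 26905361)) (BT.leaf (nat_lit 26905873))))) (BT.node (nat_lit 9336582) (BT.node (nat_lit 9336576) (BT.node (nat_lit 9336512) (BT.leaf (nat_lit 26906129)) (BT.leaf (nat_lit 26906373))) (BT.node (nat_lit 9336579) (BT.leaf (nat_lit 26906641)) (BT.leaf (nat_lit 808428)))) (BT.node (nat_lit 9336768) (BT.node (nat_lit 9336584) (BT.leaf (nat_lit 808428)) (BT.leaf (nat_lit 808428))) (BT.node (nat_lit 9336896) (BT.leaf (nat_lit 52395029)) (BT.leaf (nat_lit 37611525))))))))))) (BT.node (nat_lit 9364416) (BT.node (nat_lit 9350784) (BT.node (nat_lit 9342976) (BT.node (nat_lit 9339648) (BT.node (nat_lit 9338176) (BT.node (nat_lit 9337536) (BT.node (nat_lit 9337280) (BT.node (nat_lit 9337088) (BT.node (nat_lit 9337024) (BT.leaf (nat_lit 26907929)) (BT.leaf (nat_lit 26908165))) (BT.node (nat_lit 9337152) (BT.leaf (nat_lit 26908177)) (BT.leaf (nat_lit 26908181)))) (BT.node (nat_lit 9337408) (BT.node (nat_lit 9337344) (BT.leaf (nat_lit 26909713)) (BT.leaf (nat_lit 37259013))) (BT.node (nat_lit 9337472) (BT.leaf (nat_lit 26909981)) (BT.leaf (nat_lit 52307729))))) (BT.node (nat_lit 9337792) (BT.node (nat_lit 9337664) (BT.node (nat_lit 9337600) (BT.leaf (nat_lit 26910237)) (BT.leaf (nat_lit 37626649))) (BT.node (nat_lit 9337728) (BT.leaf (nat_lit 50789133)) (BT.leaf (nat_lit 33031693)))) (BT.node (nat_lit 9337984) (BT.node (nat_lit 9337920) (BT.leaf (nat_lit 37201429)) (BT.leaf (nat_lit 49819937))) (BT.node (nat_lit 9338112) (BT.leaf (nat_lit 37462533)) (BT.leaf (nat_lit 51814413)))))) (BT.node (nat_lit 9339008) (BT.node (nat_lit 9338624) (BT.node (nat_lit 9338304) (BT.node (nat_lit 9338240) (BT.leaf (nat_lit 52310789)) (BT.leaf (nat_lit 52311309))) (BT.node (nat_lit 9338368) (BT.leaf (nat_lit 37353501)) (BT.leaf (nat_lit 52312341)))) (BT.node (nat_lit 9338752) (BT.node (nat_lit 9338688) (BT.leaf (nat_lit 26914065)) (BT.leaf (nat_lit 52313377))) (BT.node (nat_lit 9338944) (BT.leaf (nat_lit 36947741)) (BT.leaf (nat_lit 26916369))))) (BT.node (nat_lit 9339392) (BT.node (nat_lit 9339200) (BT.node (nat_lit 9339136) (BT.leaf (nat_lit 26916121)) (BT.leaf (nat_lit 51198493))) (BT.node (nat_lit 9339264) (BT.leaf (nat_lit 26916625)) (BT.leaf (nat_lit 26917921)))) (BT.node (nat_lit 9339520) (BT.node (nat_lit 9339456) (BT.leaf (nat_lit 26918673)) (BT.leaf (nat_lit 51216153))) (BT.node (nat_lit 9339584) (BT.leaf (nat_lit 26918929)) (BT.leaf (nat_lit 37542405))))))) (BT.node (nat_lit 9341632) (BT.node (nat_lit 9340416) (BT.node (nat_lit 9340096) (BT.node (nat_lit 9339968) (BT.node (nat_lit 9339840) (BT.leaf (nat_lit 37372189)) (BT.leaf (nat_lit 27086877))) (BT.node (nat_lit 9340032) (BT.leaf (nat_lit 37505565)) (BT.leaf (nat_lit 52315665)))) (BT.node (nat_lit 9340288) (BT.node (nat_lit 9340160) (BT.leaf (nat_lit 52315921)) (BT.leaf (nat_lit 52316181))) (BT.node (nat_lit 9340352) (BT.leaf (nat_lit 26922257)) (BT.leaf (nat_lit 26922005))))) (BT.node (nat_lit 9341312) (BT.node (nat_lit 9341120) (BT.node (nat_lit 9340544) (BT.leaf (nat_lit 26922009)) (BT.leaf (nat_lit 50774789))) (BT.node (nat_lit 9341248) (BT.leaf (nat_lit 37463569)) (BT.leaf (nat_lit 37365785)))) (BT.node (nat_lit 9341440) (BT.node (nat_lit 9341376) (BT.leaf (nat_lit 26925585)) (BT.leaf (nat_lit 28340769))) (BT.node (nat_lit 9341568) (BT.leaf (nat_lit 29882641)) (BT.leaf (nat_lit 26926097)))))) (BT.node (nat_lit 9342336) (BT.node (nat_lit 9342016) (BT.node (nat_lit 9341888) (BT.node (nat_lit 9341760) (BT.leaf (nat_lit 26926353)) (BT.leaf (nat_lit 36753173))) (BT.node (nat_lit 9341952) (BT.leaf (nat_lit 51756805)) (BT.leaf (nat_lit 37373469)))) (BT.node (nat_lit 9342208) (BT.node (nat_lit 9342080) (BT.leaf (nat_lit 26927377)) (BT.leaf (nat_lit 29882909))) (BT.node (nat_lit 9342272) (BT.leaf (nat_lit 46976021)) (BT.leaf (nat_lit 31641877))))) (BT.node (nat_lit 9342656) (BT.node (nat_lit 9342464) (BT.node (nat_lit 9342400) (BT.leaf (nat_lit 26928401)) (BT.leaf (nat_lit 31642145))) (BT.node (nat_lit 9342592) (BT.leaf (nat_lit 26928657)) (BT.leaf (nat_lit 46554377)))) (BT.node (nat_lit 9342848) (BT.node (nat_lit 9342784) (BT.leaf (nat_lit 26929173)) (BT.leaf (nat_lit 26929181))) (BT.node (nat_lit 9342912) (BT.leaf (nat_lit 50794757)) (BT.leaf (nat_lit 46976025)))))))) (BT.node (nat_lit 9347328) (BT.node (nat_lit 9344512) (BT.node (nat_lit 9343680) (BT.node (nat_lit 9343424) (BT.node (nat_lit 9343296) (BT.node (nat_lit 9343040) (BT.leaf (nat_lit 36471813)) (BT.leaf (nat_lit 52320529))) (BT.node (nat_lit 9343360) (BT.leaf (nat_lit 52317213)) (BT.leaf (nat_lit 52320785)))) (BT.node (nat_lit 9343552) (BT.node (nat_lit 9343488) (BT.leaf (nat_lit 51932941)) (BT.leaf (nat_lit 52321041))) (BT.node (nat_lit 9343616) (BT.leaf (nat_lit 51838469)) (BT.leaf (nat_lit 52321301))))) (BT.node (nat_lit 9344256) (BT.node (nat_lit 9344064) (BT.node (nat_lit 9343936) (BT.leaf (nat_lit 36056601)) (BT.leaf (nat_lit 52323105))) (BT.node (nat_lit 9344128) (BT.leaf (nat_lit 26935057)) (BT.leaf (nat_lit 52258821)))) (BT.node (nat_lit 9344384) (BT.node (nat_lit 9344320) (BT.leaf (nat_lit 36629777)) (BT.leaf (nat_lit 27082017))) (BT.node (nat_lit 9344448) (BT.leaf (nat_lit 36852257)) (BT.leaf (nat_lit 26936849)))))) (BT.node (nat_lit 9345472) (BT.node (nat_lit 9345088) (BT.node (nat_lit 9344896) (BT.node (nat_lit 9344768) (BT.leaf (nat_lit 51578145)) (BT.leaf (nat_lit 35906581))) (BT.node (nat_lit 9344960) (BT.leaf (nat_lit 37380629)) (BT.leaf (nat_lit 37380633)))) (BT.node (nat_lit 9345216) (BT.node (nat_lit 9345152) (BT.leaf (nat_lit 26940441)) (BT.leaf (nat_lit 37436433))) (BT.node (nat_lit 9345280) (BT.leaf (nat_lit 51911961)) (BT.leaf (nat_lit 52326161))))) (BT.node (nat_lit 9346368) (BT.node (nat_lit 9345664) (BT.node (nat_lit 9345600) (BT.leaf (nat_lit 37457685)) (BT.leaf (nat_lit 52327441))) (BT.node (nat_lit 9346176) (BT.leaf (nat_lit 52322069)) (BT.leaf (nat_lit 26944025)))) (BT.node (nat_lit 9346880) (BT.node (nat_lit 9346496) (BT.leaf (nat_lit 28807697)) (BT.leaf (nat_lit 44590341))) (BT.node (nat_lit 9347200) (BT.leaf (nat_lit 52344333)) (BT.leaf (nat_lit 37405189))))))) (BT.node (nat_lit 9348672) (BT.node (nat_lit 9348032) (BT.node (nat_lit 9347584) (BT.node (nat_lit 9347456) (BT.node (nat_lit 9347392) (BT.leaf (nat_lit 26948125)) (BT.leaf (nat_lit 26948381))) (BT.node (nat_lit 9347520) (BT.leaf (nat_lit 52333345)) (BT.leaf (nat_lit 26997261)))) (BT.node (nat_lit 9347840) (BT.node (nat_lit 9347776) (BT.leaf (nat_lit 33656341)) (BT.leaf (nat_lit 26950929))) (BT.node (nat_lit 9347904) (BT.leaf (nat_lit 26951441)) (BT.leaf (nat_lit 27224605))))) (BT.node (nat_lit 9348352) (BT.node (nat_lit 9348224) (BT.node (nat_lit 9348160) (BT.leaf (nat_lit 46434317)) (BT.leaf (nat_lit 26952217))) (BT.node (nat_lit 9348288) (BT.leaf (nat_lit 50632981)) (BT.leaf (nat_lit 37689605)))) (BT.node (nat_lit 9348480) (BT.node (nat_lit 9348416) (BT.leaf (nat_lit 27091221)) (BT.leaf (nat_lit 29895941))) (BT.node (nat_lit 9348544) (BT.leaf (nat_lit 29896453)) (BT.leaf (nat_lit 28535841)))))) (BT.node (nat_lit 9349504) (BT.node (nat_lit 9348928) (BT.node (nat_lit 9348800) (BT.node (nat_lit 9348736) (BT.leaf (nat_lit 34869529)) (BT.leaf (nat_lit 35346949))) (BT.node (nat_lit 9348864) (BT.leaf (nat_lit 33356557)) (BT.leaf (nat_lit 26955537)))) (BT.node (nat_lit 9349056) (BT.node (nat_lit 9348992) (BT.leaf (nat_lit 26955793)) (BT.leaf (nat_lit 26955797))) (BT.node (nat_lit 9349376) (BT.leaf (nat_lit 26956053)) (BT.leaf (nat_lit 26956829))))) (BT.node (nat_lit 9350528) (BT.node (nat_lit 9349888) (BT.node (nat_lit 9349760) (BT.leaf (nat_lit 52338209)) (BT.leaf (nat_lit 52338185))) (BT.node (nat_lit 9350336) (BT.leaf (nat_lit 37241881)) (BT.leaf (nat_lit 26958341)))) (BT.node (nat_lit 9350656) (BT.node (nat_lit 9350592) (BT.leaf (nat_lit 42577925)) (BT.leaf (nat_lit 36102933))) (BT.node (nat_lit 9350720) (BT.leaf (nat_lit 37555717)) (BT.leaf (nat_lit 47472405))))))))) (BT.node (nat_lit 9358528) (BT.node (nat_lit 9354624) (BT.node (nat_lit 9352768) (BT.node (nat_lit 9351488) (BT.node (nat_lit 9351104) (BT.node (nat_lit 9350912) (BT.node (nat_lit 9350848) (BT.leaf (nat_lit 52340753)) (BT.leaf (nat_lit 26959901))) (BT.node (nat_lit 9351040) (BT.leaf (nat_lit 27351305)) (BT.leaf (nat_lit 47473949)))) (BT.node (nat_lit 9351296) (BT.node (nat_lit 9351168) (BT.leaf (nat_lit 49316109)) (BT.leaf (nat_lit 46612249))) (BT.node (nat_lit 9351424) (BT.leaf (nat_lit 26961169)) (BT.leaf (nat_lit 26961437))))) (BT.node (nat_lit 9351872) (BT.node (nat_lit 9351616) (BT.node (nat_lit 9351552) (BT.leaf (nat_lit 31869725)) (BT.leaf (nat_lit 28339489))) (BT.node (nat_lit 9351680) (BT.leaf (nat_lit 26962193)) (BT.leaf (nat_lit 26962709)))) (BT.node (nat_lit 9352000) (BT.node (nat_lit 9351936) (BT.leaf (nat_lit 31577633)) (BT.leaf (nat_lit 33469457))) (BT.node (nat_lit 9352384) (BT.leaf (nat_lit 34147853)) (BT.leaf (nat_lit 50525209)))))) (BT.node (nat_lit 9353792) (BT.node (nat_lit 9353152) (BT.node (nat_lit 9352960) (BT.node (nat_lit 9352896) (BT.leaf (nat_lit 37544477)) (BT.leaf (nat_lit 26969617))) (BT.node (nat_lit 9353088) (BT.leaf (nat_lit 49452045)) (BT.leaf (nat_lit 52344081)))) (BT.node (nat_lit 9353472) (BT.node (nat_lit 9353216) (BT.leaf (nat_lit 52344601)) (BT.leaf (nat_lit 51814933))) (BT.node (nat_lit 9353536) (BT.leaf (nat_lit 37520921)) (BT.leaf (nat_lit 52024861))))) (BT.node (nat_lit 9354368) (BT.node (nat_lit 9353984) (BT.node (nat_lit 9353920) (BT.leaf (nat_lit 52199193)) (BT.leaf (nat_lit 52347669))) (BT.node (nat_lit 9354048) (BT.leaf (nat_lit 37244421)) (BT.leaf (nat_lit 52345621)))) (BT.node (nat_lit 9354496) (BT.node (nat_lit 9354432) (BT.leaf (nat_lit 51979541)) (BT.leaf (nat_lit 52346133))) (BT.node (nat_lit 9354560) (BT.leaf (nat_lit 52349981)) (BT.leaf (nat_lit 52350485))))))) (BT.node (nat_lit 9356096) (BT.node (nat_lit 9355264) (BT.node (nat_lit 9354880) (BT.node (nat_lit 9354752) (BT.node (nat_lit 9354688) (BT.leaf (nat_lit 52058373)) (BT.leaf (nat_lit 36103713))) (BT.node (nat_lit 9354816) (BT.leaf (nat_lit 26974225)) (BT.leaf (nat_lit 52352033)))) (BT.node (nat_lit 9355136) (BT.node (nat_lit 9355008) (BT.leaf (nat_lit 37440289)) (BT.leaf (nat_lit 26975761))) (BT.node (nat_lit 9355200) (BT.leaf (nat_lit 50048021)) (BT.leaf (nat_lit 50880785))))) (BT.node (nat_lit 9355712) (BT.node (nat_lit 9355584) (BT.node (nat_lit 9355392) (BT.leaf (nat_lit 31295493)) (BT.leaf (nat_lit 26977553))) (BT.node (nat_lit 9355648) (BT.leaf (nat_lit 34592793)) (BT.leaf (nat_lit 47117853)))) (BT.node (nat_lit 9355840) (BT.node (nat_lit 9355776) (BT.leaf (nat_lit 26978581)) (BT.leaf (nat_lit 26978585))) (BT.node (nat_lit 9355904) (BT.leaf (nat_lit 26978589)) (BT.leaf (nat_lit 26978833)))))) (BT.node (nat_lit 9357696) (BT.node (nat_lit 9356992) (BT.node (nat_lit 9356736) (BT.node (nat_lit 9356672) (BT.leaf (nat_lit 26979857)) (BT.leaf (nat_lit 36430101))) (BT.node (nat_lit 9356800) (BT.leaf (nat_lit 51524877)) (BT.leaf (nat_lit 27434257)))) (BT.node (nat_lit 9357376) (BT.node (nat_lit 9357312) (BT.leaf (nat_lit 52042505)) (BT.leaf (nat_lit 46697505))) (BT.node (nat_lit 9357504) (BT.leaf (nat_lit 26983697)) (BT.leaf (nat_lit 52045829))))) (BT.node (nat_lit 9358208) (BT.node (nat_lit 9357952) (BT.node (nat_lit 9357824) (BT.leaf (nat_lit 26984209)) (BT.leaf (nat_lit 51764257))) (BT.node (nat_lit 9358016) (BT.leaf (nat_lit 26984733)) (BT.leaf (nat_lit 43946273)))) (BT.node (nat_lit 9358400) (BT.node (nat_lit 9358272) (BT.leaf (nat_lit 26987277)) (BT.leaf (nat_lit 26987293))) (BT.node (nat_lit 9358464) (BT.leaf (nat_lit 26987801)) (BT.leaf (nat_lit 26987805)))))))) (BT.node (nat_lit 9361920) (BT.node (nat_lit 9360384) (BT.node (nat_lit 9359424) (BT.node (nat_lit 9358976) (BT.node (nat_lit 9358720) (BT.node (nat_lit 9358592) (BT.leaf (nat_lit 31298849)) (BT.leaf (nat_lit 26988305))) (BT.node (nat_lit 9358848) (BT.leaf (nat_lit 37579797)) (BT.leaf (nat_lit 52362257)))) (BT.node (nat_lit 9359104) (BT.node (nat_lit 9359040) (BT.leaf (nat_lit 51748617)) (BT.leaf (nat_lit 33418769))) (BT.node (nat_lit 9359168) (BT.leaf (nat_lit 51912217)) (BT.leaf (nat_lit 52363549))))) (BT.node (nat_lit 9360064) (BT.node (nat_lit 9359872) (BT.node (nat_lit 9359552) (BT.leaf (nat_lit 37576225)) (BT.leaf (nat_lit 37576481))) (BT.node (nat_lit 9359936) (BT.leaf (nat_lit 26993169)) (BT.leaf (nat_lit 37650205)))) (BT.node (nat_lit 9360256) (BT.node (nat_lit 9360128) (BT.leaf (nat_lit 52367893)) (BT.leaf (nat_lit 37531681))) (BT.node (nat_lit 9360320) (BT.leaf (nat_lit 26995993)) (BT.leaf (nat_lit 37443097)))))) (BT.node (nat_lit 9361024) (BT.node (nat_lit 9360768) (BT.node (nat_lit 9360576) (BT.node (nat_lit 9360448) (BT.leaf (nat_lit 37528865)) (BT.leaf (nat_lit 37528609))) (BT.node (nat_lit 9360640) (BT.leaf (nat_lit 35622933)) (BT.leaf (nat_lit 37253921)))) (BT.node (nat_lit 9360896) (BT.node (nat_lit 9360832) (BT.leaf (nat_lit 52368401)) (BT.leaf (nat_lit 52161817))) (BT.node (nat_lit 9360960) (BT.leaf (nat_lit 37413905)) (BT.leaf (nat_lit 35002889))))) (BT.node (nat_lit 9361344) (BT.node (nat_lit 9361152) (BT.node (nat_lit 9361088) (BT.leaf (nat_lit 47296277)) (BT.leaf (nat_lit 26997009))) (BT.node (nat_lit 9361280) (BT.leaf (nat_lit 35077893)) (BT.leaf (nat_lit 36727569)))) (BT.node (nat_lit 9361536) (BT.node (nat_lit 9361408) (BT.leaf (nat_lit 28215057)) (BT.leaf (nat_lit 26998277))) (BT.node (nat_lit 9361792) (BT.leaf (nat_lit 51210785)) (BT.leaf (nat_lit 52371209))))))) (BT.node (nat_lit 9363328) (BT.node (nat_lit 9362688) (BT.node (nat_lit 9362176) (BT.node (nat_lit 9362048) (BT.node (nat_lit 9361984) (BT.leaf (nat_lit 26999837)) (BT.leaf (nat_lit 27000081))) (BT.node (nat_lit 9362112) (BT.leaf (nat_lit 27001353)) (BT.leaf (nat_lit 27001105)))) (BT.node (nat_lit 9362304) (BT.node (nat_lit 9362240) (BT.leaf (nat_lit 36535073)) (BT.leaf (nat_lit 36534817))) (BT.node (nat_lit 9362432) (BT.leaf (nat_lit 52174357)) (BT.leaf (nat_lit 52374801))))) (BT.node (nat_lit 9363008) (BT.node (nat_lit 9362816) (BT.node (nat_lit 9362752) (BT.leaf (nat_lit 27004689)) (BT.leaf (nat_lit 52395033))) (BT.node (nat_lit 9362944) (BT.leaf (nat_lit 52375317)) (BT.leaf (nat_lit 31848737)))) (BT.node (nat_lit 9363136) (BT.node (nat_lit 9363072) (BT.leaf (nat_lit 37684485)) (BT.leaf (nat_lit 28191265))) (BT.node (nat_lit 9363200) (BT.leaf (nat_lit 27006749)) (BT.leaf (nat_lit 27006993)))))) (BT.node (nat_lit 9363904) (BT.node (nat_lit 9363648) (BT.node (nat_lit 9363520) (BT.node (nat_lit 9363456) (BT.leaf (nat_lit 27007249)) (BT.leaf (nat_lit 27008529))) (BT.node (nat_lit 9363584) (BT.leaf (nat_lit 27008789)) (BT.leaf (nat_lit 39211013)))) (BT.node (nat_lit 9363776) (BT.node (nat_lit 9363712) (BT.leaf (nat_lit 27008797)) (BT.leaf (nat_lit 38487053))) (BT.node (nat_lit 9363840) (BT.leaf (nat_lit 27009301)) (BT.leaf (nat_lit 27009305))))) (BT.node (nat_lit 9364160) (BT.node (nat_lit 9364032) (BT.node (nat_lit 9363968) (BT.leaf (nat_lit 51130641)) (BT.leaf (nat_lit 27009809))) (BT.node (nat_lit 9364096) (BT.leaf (nat_lit 27010065)) (BT.leaf (nat_lit 27010585)))) (BT.node (nat_lit 9364288) (BT.node (nat_lit 9364224) (BT.leaf (nat_lit 37451277)) (BT.leaf (nat_lit 37219869))) (BT.node (nat_lit 9364352) (BT.leaf (nat_lit 27053841)) (BT.leaf (nat_lit 27012369)))))))))) (BT.node (nat_lit 9377856) (BT.node (nat_lit 9371008) (BT.node (nat_lit 9368256) (BT.node (nat_lit 9367104) (BT.node (nat_lit 9365952) (BT.node (nat_lit 9365120) (BT.node (nat_lit 9364736) (BT.node (nat_lit 9364608) (BT.leaf (nat_lit 37393437)) (BT.leaf (nat_lit 27013149))) (BT.node (nat_lit 9364928) (BT.leaf (nat_lit 46968609)) (BT.leaf (nat_lit 52274709)))) (BT.node (nat_lit 9365696) (BT.node (nat_lit 9365632) (BT.leaf (nat_lit 37344789)) (BT.leaf (nat_lit 51856673))) (BT.node (nat_lit 9365888) (BT.leaf (nat_lit 51856417)) (BT.leaf (nat_lit 52250633))))) (BT.node (nat_lit 9366336) (BT.node (nat_lit 9366144) (BT.node (nat_lit 9366080) (BT.leaf (nat_lit 27018261)) (BT.leaf (nat_lit 27018509))) (BT.node (nat_lit 9366272) (BT.leaf (nat_lit 52385045)) (BT.leaf (nat_lit 37497629)))) (BT.node (nat_lit 9366720) (BT.node (nat_lit 9366656) (BT.leaf (nat_lit 27019029)) (BT.leaf (nat_lit 52386573))) (BT.node (nat_lit 9367040) (BT.leaf (nat_lit 36539929)) (BT.leaf (nat_lit 51171101)))))) (BT.node (nat_lit 9367488) (BT.node (nat_lit 9367302) (BT.node (nat_lit 9367232) (BT.node (nat_lit 9367168) (BT.leaf (nat_lit 37100057)) (BT.leaf (nat_lit 36598789))) (BT.node (nat_lit 9367296) (BT.leaf (nat_lit 27022869)) (BT.leaf (nat_lit 27023121)))) (BT.node (nat_lit 9367360) (BT.node (nat_lit 9367303) (BT.leaf (nat_lit 779096)) (BT.leaf (nat_lit 779096))) (BT.node (nat_lit 9367424) (BT.leaf (nat_lit 37165089)) (BT.leaf (nat_lit 36971541))))) (BT.node (nat_lit 9367872) (BT.node (nat_lit 9367680) (BT.node (nat_lit 9367552) (BT.leaf (nat_lit 37381141)) (BT.leaf (nat_lit 27023889))) (BT.node (nat_lit 9367744) (BT.leaf (nat_lit 51163413)) (BT.leaf (nat_lit 36606217)))) (BT.node (nat_lit 9368064) (BT.node (nat_lit 9368000) (BT.leaf (nat_lit 38878981)) (BT.leaf (nat_lit 27025945))) (BT.node (nat_lit 9368128) (BT.leaf (nat_lit 50499861)) (BT.leaf (nat_lit 51878433))))))) (BT.node (nat_lit 9369408) (BT.node (nat_lit 9368832) (BT.node (nat_lit 9368576) (BT.node (nat_lit 9368384) (BT.node (nat_lit 9368320) (BT.leaf (nat_lit 52297493)) (BT.leaf (nat_lit 51851525))) (BT.node (nat_lit 9368512) (BT.leaf (nat_lit 37272069)) (BT.leaf (nat_lit 27028253)))) (BT.node (nat_lit 9368704) (BT.node (nat_lit 9368640) (BT.leaf (nat_lit 27028489)) (BT.leaf (nat_lit 27028493))) (BT.node (nat_lit 9368768) (BT.leaf (nat_lit 27029269)) (BT.leaf (nat_lit 27028505))))) (BT.node (nat_lit 9369152) (BT.node (nat_lit 9368960) (BT.node (nat_lit 9368896) (BT.leaf (nat_lit 27028509)) (BT.leaf (nat_lit 48752149))) (BT.node (nat_lit 9369088) (BT.leaf (nat_lit 27028757)) (BT.leaf (nat_lit 27029521)))) (BT.node (nat_lit 9369280) (BT.node (nat_lit 9369216) (BT.leaf (nat_lit 27029277)) (BT.leaf (nat_lit 27029785))) (BT.node (nat_lit 9369344) (BT.leaf (nat_lit 27029789)) (BT.leaf (nat_lit 27030025)))))) (BT.node (nat_lit 9370304) (BT.node (nat_lit 9369792) (BT.node (nat_lit 9369536) (BT.node (nat_lit 9369472) (BT.leaf (nat_lit 27030029)) (BT.leaf (nat_lit 27030041))) (BT.node (nat_lit 9369664) (BT.leaf (nat_lit 27030045)) (BT.leaf (nat_lit 27030293)))) (BT.node (nat_lit 9369984) (BT.node (nat_lit 9369920) (BT.leaf (nat_lit 52394261)) (BT.leaf (nat_lit 27031573))) (BT.node (nat_lit 9370048) (BT.leaf (nat_lit 36492057)) (BT.leaf (nat_lit 27032341))))) (BT.node (nat_lit 9370688) (BT.node (nat_lit 9370432) (BT.node (nat_lit 9370368) (BT.leaf (nat_lit 37496853)) (BT.leaf (nat_lit 37287685))) (BT.node (nat_lit 9370496) (BT.leaf (nat_lit 27124497)) (BT.leaf (nat_lit 52395017)))) (BT.node (nat_lit 9370880) (BT.node (nat_lit 9370816) (BT.leaf (nat_lit 27034653)) (BT.leaf (nat_lit 51763993))) (BT.node (nat_lit 9370944) (BT.leaf (nat_lit 52396305)) (BT.leaf (nat_lit 27035157)))))))) (BT.node (nat_lit 9374656) (BT.node (nat_lit 9372928) (BT.node (nat_lit 9372032) (BT.node (nat_lit 9371456) (BT.node (nat_lit 9371136) (BT.node (nat_lit 9371072) (BT.leaf (nat_lit 37465369)) (BT.leaf (nat_lit 52385561))) (BT.node (nat_lit 9371328) (BT.leaf (nat_lit 27035665)) (BT.leaf (nat_lit 27035925)))) (BT.node (nat_lit 9371840) (BT.node (nat_lit 9371712) (BT.leaf (nat_lit 37302305)) (BT.leaf (nat_lit 27037205))) (BT.node (nat_lit 9371968) (BT.leaf (nat_lit 27037973)) (BT.leaf (nat_lit 51865629))))) (BT.node (nat_lit 9372416) (BT.node (nat_lit 9372288) (BT.node (nat_lit 9372224) (BT.leaf (nat_lit 51865609)) (BT.leaf (nat_lit 27038485))) (BT.node (nat_lit 9372352) (BT.leaf (nat_lit 27154201)) (BT.leaf (nat_lit 27039765)))) (BT.node (nat_lit 9372608) (BT.node (nat_lit 9372480) (BT.leaf (nat_lit 27040273)) (BT.leaf (nat_lit 27050765))) (BT.node (nat_lit 9372736) (BT.leaf (nat_lit 27040529)) (BT.leaf (nat_lit 37499161)))))) (BT.node (nat_lit 9373952) (BT.node (nat_lit 9373504) (BT.node (nat_lit 9373248) (BT.node (nat_lit 9373184) (BT.leaf (nat_lit 51892769)) (BT.leaf (nat_lit 37596449))) (BT.node (nat_lit 9373312) (BT.leaf (nat_lit 36680217)) (BT.leaf (nat_lit 51339545)))) (BT.node (nat_lit 9373696) (BT.node (nat_lit 9373632) (BT.leaf (nat_lit 27044369)) (BT.leaf (nat_lit 27266845))) (BT.node (nat_lit 9373888) (BT.leaf (nat_lit 27045141)) (BT.leaf (nat_lit 37326341))))) (BT.node (nat_lit 9374336) (BT.node (nat_lit 9374208) (BT.node (nat_lit 9374080) (BT.leaf (nat_lit 27055893)) (BT.leaf (nat_lit 37327109))) (BT.node (nat_lit 9374272) (BT.leaf (nat_lit 52399889)) (BT.leaf (nat_lit 52400153)))) (BT.node (nat_lit 9374528) (BT.node (nat_lit 9374400) (BT.leaf (nat_lit 37117965)) (BT.leaf (nat_lit 27048465))) (BT.node (nat_lit 9374592) (BT.leaf (nat_lit 27049489)) (BT.leaf (nat_lit 27049733))))))) (BT.node (nat_lit 9376320) (BT.node (nat_lit 9375424) (BT.node (nat_lit 9374976) (BT.node (nat_lit 9374784) (BT.node (nat_lit 9374720) (BT.leaf (nat_lit 27049753)) (BT.leaf (nat_lit 51901445))) (BT.node (nat_lit 9374912) (BT.leaf (nat_lit 51901701)) (BT.leaf (nat_lit 51901985)))) (BT.node (nat_lit 9375104) (BT.node (nat_lit 9375040) (BT.leaf (nat_lit 36698629)) (BT.leaf (nat_lit 37611809))) (BT.node (nat_lit 9375168) (BT.leaf (nat_lit 36698393)) (BT.leaf (nat_lit 27051793))))) (BT.node (nat_lit 9375744) (BT.node (nat_lit 9375552) (BT.node (nat_lit 9375488) (BT.leaf (nat_lit 36539933)) (BT.leaf (nat_lit 27053077))) (BT.node (nat_lit 9375680) (BT.leaf (nat_lit 27053585)) (BT.leaf (nat_lit 37342981)))) (BT.node (nat_lit 9375936) (BT.node (nat_lit 9375872) (BT.leaf (nat_lit 51849485)) (BT.leaf (nat_lit 52405017))) (BT.node (nat_lit 9376128) (BT.leaf (nat_lit 52404753)) (BT.leaf (nat_lit 27057681)))))) (BT.node (nat_lit 9377344) (BT.node (nat_lit 9376832) (BT.node (nat_lit 9376704) (BT.node (nat_lit 9376384) (BT.leaf (nat_lit 51786517)) (BT.leaf (nat_lit 52405521))) (BT.node (nat_lit 9376768) (BT.leaf (nat_lit 29066525)) (BT.leaf (nat_lit 34659341)))) (BT.node (nat_lit 9377024) (BT.node (nat_lit 9376896) (BT.leaf (nat_lit 27060509)) (BT.leaf (nat_lit 51625233))) (BT.node (nat_lit 9377088) (BT.leaf (nat_lit 27061009)) (BT.leaf (nat_lit 27061265))))) (BT.node (nat_lit 9377600) (BT.node (nat_lit 9377472) (BT.node (nat_lit 9377408) (BT.leaf (nat_lit 51704597)) (BT.leaf (nat_lit 37039369))) (BT.node (nat_lit 9377536) (BT.leaf (nat_lit 27239437)) (BT.leaf (nat_lit 52407313)))) (BT.node (nat_lit 9377728) (BT.node (nat_lit 9377664) (BT.leaf (nat_lit 51183885)) (BT.leaf (nat_lit 27063065))) (BT.node (nat_lit 9377792) (BT.leaf (nat_lit 27063069)) (BT.leaf (nat_lit 51891469))))))))) (BT.node (nat_lit 9383424) (BT.node (nat_lit 9380544) (BT.node (nat_lit 9379520) (BT.node (nat_lit 9378816) (BT.node (nat_lit 9378432) (BT.node (nat_lit 9378240) (BT.node (nat_lit 9378176) (BT.leaf (nat_lit 52291861)) (BT.leaf (nat_lit 51184149))) (BT.node (nat_lit 9378368) (BT.leaf (nat_lit 35489561)) (BT.leaf (nat_lit 33059349)))) (BT.node (nat_lit 9378688) (BT.node (nat_lit 9378624) (BT.leaf (nat_lit 37513497)) (BT.leaf (nat_lit 27067913))) (BT.node (nat_lit 9378752) (BT.leaf (nat_lit 27067917)) (BT.leaf (nat_lit 27067933))))) (BT.node (nat_lit 9379072) (BT.node (nat_lit 9378944) (BT.node (nat_lit 9378880) (BT.leaf (nat_lit 27068177)) (BT.leaf (nat_lit 27068181))) (BT.node (nat_lit 9379008) (BT.leaf (nat_lit 35552261)) (BT.leaf (nat_lit 27068437)))) (BT.node (nat_lit 9379392) (BT.node (nat_lit 9379328) (BT.leaf (nat_lit 27068693)) (BT.leaf (nat_lit 27069969))) (BT.node (nat_lit 9379456) (BT.leaf (nat_lit 46467865)) (BT.leaf (nat_lit 35552277)))))) (BT.node (nat_lit 9380160) (BT.node (nat_lit 9379776) (BT.node (nat_lit 9379648) (BT.node (nat_lit 9379584) (BT.leaf (nat_lit 35552285)) (BT.leaf (nat_lit 27070737))) (BT.node (nat_lit 9379712) (BT.leaf (nat_lit 35747857)) (BT.leaf (nat_lit 49918981)))) (BT.node (nat_lit 9379904) (BT.node (nat_lit 9379840) (BT.leaf (nat_lit 27071253)) (BT.leaf (nat_lit 36839949))) (BT.node (nat_lit 9380096) (BT.leaf (nat_lit 37576709)) (BT.leaf (nat_lit 27073301))))) (BT.node (nat_lit 9380353) (BT.node (nat_lit 9380288) (BT.node (nat_lit 9380224) (BT.leaf (nat_lit 51911941)) (BT.leaf (nat_lit 51912197))) (BT.node (nat_lit 9380352) (BT.leaf (nat_lit 52359953)) (BT.leaf (nat_lit 51267333)))) (BT.node (nat_lit 9380360) (BT.node (nat_lit 9380356) (BT.leaf (nat_lit 809440)) (BT.leaf (nat_lit 809440))) (BT.node (nat_lit 9380416) (BT.leaf (nat_lit 809440)) (BT.leaf (nat_lit 52409349))))))) (BT.node (nat_lit 9382336) (BT.node (nat_lit 9381248) (BT.node (nat_lit 9380928) (BT.node (nat_lit 9380672) (BT.node (nat_lit 9380608) (BT.leaf (nat_lit 52410645)) (BT.leaf (nat_lit 34922529))) (BT.node (nat_lit 9380800) (BT.leaf (nat_lit 51204897)) (BT.leaf (nat_lit 36634901)))) (BT.node (nat_lit 9381056) (BT.node (nat_lit 9380992) (BT.leaf (nat_lit 49510925)) (BT.leaf (nat_lit 49510937))) (BT.node (nat_lit 9381120) (BT.leaf (nat_lit 49510941)) (BT.leaf (nat_lit 48619029))))) (BT.node (nat_lit 9381824) (BT.node (nat_lit 9381696) (BT.node (nat_lit 9381312) (BT.leaf (nat_lit 27076117)) (BT.leaf (nat_lit 27076625))) (BT.node (nat_lit 9381760) (BT.leaf (nat_lit 35815197)) (BT.leaf (nat_lit 27077393)))) (BT.node (nat_lit 9382144) (BT.node (nat_lit 9382080) (BT.leaf (nat_lit 27077397)) (BT.leaf (nat_lit 27081501))) (BT.node (nat_lit 9382208) (BT.leaf (nat_lit 37531413)) (BT.leaf (nat_lit 37528601)))))) (BT.node (nat_lit 9382848) (BT.node (nat_lit 9382592) (BT.node (nat_lit 9382464) (BT.node (nat_lit 9382400) (BT.leaf (nat_lit 27078929)) (BT.leaf (nat_lit 31543329))) (BT.node (nat_lit 9382528) (BT.leaf (nat_lit 27079185)) (BT.leaf (nat_lit 31546885)))) (BT.node (nat_lit 9382720) (BT.node (nat_lit 9382656) (BT.leaf (nat_lit 27079697)) (BT.leaf (nat_lit 27079957))) (BT.node (nat_lit 9382784) (BT.leaf (nat_lit 38098209)) (BT.leaf (nat_lit 48676617))))) (BT.node (nat_lit 9383104) (BT.node (nat_lit 9382976) (BT.node (nat_lit 9382912) (BT.leaf (nat_lit 36496673)) (BT.leaf (nat_lit 37326357))) (BT.node (nat_lit 9383040) (BT.leaf (nat_lit 37520665)) (BT.leaf (nat_lit 50433805)))) (BT.node (nat_lit 9383296) (BT.node (nat_lit 9383168) (BT.leaf (nat_lit 35797001)) (BT.leaf (nat_lit 50243093))) (BT.node (nat_lit 9383360) (BT.leaf (nat_lit 33095701)) (BT.leaf (nat_lit 27083025)))))))) (BT.node (nat_lit 9386304) (BT.node (nat_lit 9384960) (BT.node (nat_lit 9384128) (BT.node (nat_lit 9383744) (BT.node (nat_lit 9383616) (BT.node (nat_lit 9383552) (BT.leaf (nat_lit 33413645)) (BT.leaf (nat_lit 27084561))) (BT.node (nat_lit 9383680) (BT.leaf (nat_lit 27084817)) (BT.leaf (nat_lit 27085073)))) (BT.node (nat_lit 9384000) (BT.node (nat_lit 9383936) (BT.leaf (nat_lit 27085333)) (BT.leaf (nat_lit 27085585))) (BT.node (nat_lit 9384064) (BT.leaf (nat_lit 46788121)) (BT.leaf (nat_lit 37357061))))) (BT.node (nat_lit 9384512) (BT.node (nat_lit 9384256) (BT.node (nat_lit 9384192) (BT.leaf (nat_lit 37505305)) (BT.leaf (nat_lit 52315657))) (BT.node (nat_lit 9384320) (BT.leaf (nat_lit 52422417)) (BT.leaf (nat_lit 52422677)))) (BT.node (nat_lit 9384832) (BT.node (nat_lit 9384704) (BT.leaf (nat_lit 52158981)) (BT.leaf (nat_lit 36902933))) (BT.node (nat_lit 9384896) (BT.leaf (nat_lit 27087889)) (BT.leaf (nat_lit 52031509)))))) (BT.node (nat_lit 9385664) (BT.node (nat_lit 9385408) (BT.node (nat_lit 9385280) (BT.node (nat_lit 9385152) (BT.leaf (nat_lit 36740869)) (BT.leaf (nat_lit 36741665))) (BT.node (nat_lit 9385344) (BT.leaf (nat_lit 27088913)) (BT.leaf (nat_lit 36754949)))) (BT.node (nat_lit 9385536) (BT.node (nat_lit 9385472) (BT.leaf (nat_lit 27089177)) (BT.leaf (nat_lit 27089429))) (BT.node (nat_lit 9385600) (BT.leaf (nat_lit 27089437)) (BT.leaf (nat_lit 27089681))))) (BT.node (nat_lit 9385984) (BT.node (nat_lit 9385792) (BT.node (nat_lit 9385728) (BT.leaf (nat_lit 27089941)) (BT.leaf (nat_lit 27090197))) (BT.node (nat_lit 9385856) (BT.leaf (nat_lit 27090453)) (BT.leaf (nat_lit 27090457)))) (BT.node (nat_lit 9386112) (BT.node (nat_lit 9386048) (BT.leaf (nat_lit 52429085)) (BT.leaf (nat_lit 52429321))) (BT.node (nat_lit 9386240) (BT.leaf (nat_lit 37702165)) (BT.leaf (nat_lit 27092497))))))) (BT.node (nat_lit 9387520) (BT.node (nat_lit 9386816) (BT.node (nat_lit 9386560) (BT.node (nat_lit 9386432) (BT.node (nat_lit 9386368) (BT.leaf (nat_lit 27092753)) (BT.leaf (nat_lit 27093013))) (BT.node (nat_lit 9386496) (BT.leaf (nat_lit 30033157)) (BT.leaf (nat_lit 27093265)))) (BT.node (nat_lit 9386688) (BT.node (nat_lit 9386624) (BT.leaf (nat_lit 27182085)) (BT.leaf (nat_lit 27094041))) (BT.node (nat_lit 9386752) (BT.leaf (nat_lit 27094045)) (BT.leaf (nat_lit 36828689))))) (BT.node (nat_lit 9387072) (BT.node (nat_lit 9386944) (BT.node (nat_lit 9386880) (BT.leaf (nat_lit 52291353)) (BT.leaf (nat_lit 52431637))) (BT.node (nat_lit 9387008) (BT.leaf (nat_lit 52323861)) (BT.leaf (nat_lit 27096857)))) (BT.node (nat_lit 9387328) (BT.node (nat_lit 9387264) (BT.leaf (nat_lit 52432665)) (BT.leaf (nat_lit 52433169))) (BT.node (nat_lit 9387456) (BT.leaf (nat_lit 27098129)) (BT.leaf (nat_lit 27098641)))))) (BT.node (nat_lit 9388480) (BT.node (nat_lit 9387968) (BT.node (nat_lit 9387712) (BT.node (nat_lit 9387648) (BT.leaf (nat_lit 52360461)) (BT.leaf (nat_lit 27099165))) (BT.node (nat_lit 9387776) (BT.leaf (nat_lit 52433953)) (BT.leaf (nat_lit 27099677)))) (BT.node (nat_lit 9388224) (BT.node (nat_lit 9388032) (BT.leaf (nat_lit 34149153)) (BT.leaf (nat_lit 46434337))) (BT.node (nat_lit 9388288) (BT.leaf (nat_lit 37549077)) (BT.leaf (nat_lit 51940621))))) (BT.node (nat_lit 9388800) (BT.node (nat_lit 9388672) (BT.node (nat_lit 9388544) (BT.leaf (nat_lit 35882261)) (BT.leaf (nat_lit 52434709))) (BT.node (nat_lit 9388736) (BT.leaf (nat_lit 27103249)) (BT.leaf (nat_lit 27103505)))) (BT.node (nat_lit 9388928) (BT.node (nat_lit 9388864) (BT.leaf (nat_lit 27103769)) (BT.leaf (nat_lit 27103773))) (BT.node (nat_lit 9389056) (BT.leaf (nat_lit 27104017)) (BT.leaf (nat_lit 27104533)))))))))))))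
noncomputable def big0_e73728 : BT Nat := (BT.node (nat_lit 9463232) (BT.node (nat_lit 9431616) (BT.node (nat_lit 9412992) (BT.node (nat_lit 9401984) (BT.node (nat_lit 9396928) (BT.node (nat_lit 9394048) (BT.node (nat_lit 9391488) (BT.node (nat_lit 9389760) (BT.node (nat_lit 9389376) (BT.node (nat_lit 9389248) (BT.node (nat_lit 9389184) (BT.leaf (nat_lit 37608709)) (BT.leaf (nat_lit 27104785))) (BT.node (nat_lit 9389312) (BT.leaf (nat_lit 37614085)) (BT.leaf (nat_lit 27105297)))) (BT.node (nat_lit 9389504) (BT.node (nat_lit 9389440) (BT.leaf (nat_lit 27105301)) (BT.leaf (nat_lit 27105553))) (BT.node (nat_lit 9389632) (BT.leaf (nat_lit 37569049)) (BT.leaf (nat_lit 36986629))))) (BT.node (nat_lit 9390784) (BT.node (nat_lit 9390592) (BT.node (nat_lit 9389952) (BT.leaf (nat_lit 37342233)) (BT.leaf (nat_lit 27156997))) (BT.node (nat_lit 9390720) (BT.leaf (nat_lit 27112473)) (BT.leaf (nat_lit 36685829)))) (BT.node (nat_lit 9391232) (BT.node (nat_lit 9390912) (BT.leaf (nat_lit 27113489)) (BT.leaf (nat_lit 36558365))) (BT.node (nat_lit 9391424) (BT.leaf (nat_lit 52195873)) (BT.leaf (nat_lit 34142489)))))) (BT.node (nat_lit 9392448) (BT.node (nat_lit 9392064) (BT.node (nat_lit 9391744) (BT.node (nat_lit 9391616) (BT.leaf (nat_lit 27115281)) (BT.leaf (nat_lit 27182881))) (BT.node (nat_lit 9392000) (BT.leaf (nat_lit 27116549)) (BT.leaf (nat_lit 27143953)))) (BT.node (nat_lit 9392192) (BT.node (nat_lit 9392128) (BT.leaf (nat_lit 27118361)) (BT.leaf (nat_lit 27118613))) (BT.node (nat_lit 9392256) (BT.leaf (nat_lit 36698129)) (BT.leaf (nat_lit 51901961))))) (BT.node (nat_lit 9393600) (BT.node (nat_lit 9392832) (BT.node (nat_lit 9392512) (BT.leaf (nat_lit 27119125)) (BT.leaf (nat_lit 52437533))) (BT.node (nat_lit 9392896) (BT.leaf (nat_lit 36598293)) (BT.leaf (nat_lit 27120149)))) (BT.node (nat_lit 9393728) (BT.node (nat_lit 9393664) (BT.leaf (nat_lit 52157717)) (BT.leaf (nat_lit 51694877))) (BT.node (nat_lit 9393920) (BT.leaf (nat_lit 27121681)) (BT.leaf (nat_lit 27122201))))))) (BT.node (nat_lit 9395520) (BT.node (nat_lit 9394560) (BT.node (nat_lit 9394304) (BT.node (nat_lit 9394176) (BT.node (nat_lit 9394112) (BT.leaf (nat_lit 52111133)) (BT.leaf (nat_lit 52111113))) (BT.node (nat_lit 9394240) (BT.leaf (nat_lit 52161045)) (BT.leaf (nat_lit 27122709)))) (BT.node (nat_lit 9394432) (BT.node (nat_lit 9394368) (BT.leaf (nat_lit 27123465)) (BT.leaf (nat_lit 52174621))) (BT.node (nat_lit 9394496) (BT.leaf (nat_lit 27123473)) (BT.leaf (nat_lit 52174601))))) (BT.node (nat_lit 9394944) (BT.node (nat_lit 9394688) (BT.node (nat_lit 9394624) (BT.leaf (nat_lit 27123489)) (BT.leaf (nat_lit 27123733))) (BT.node (nat_lit 9394752) (BT.leaf (nat_lit 27123993)) (BT.leaf (nat_lit 37598489)))) (BT.node (nat_lit 9395264) (BT.node (nat_lit 9395072) (BT.leaf (nat_lit 27124257)) (BT.leaf (nat_lit 27124757))) (BT.node (nat_lit 9395456) (BT.leaf (nat_lit 27125781)) (BT.leaf (nat_lit 27126305)))))) (BT.node (nat_lit 9396160) (BT.node (nat_lit 9395904) (BT.node (nat_lit 9395648) (BT.node (nat_lit 9395584) (BT.leaf (nat_lit 27127837)) (BT.leaf (nat_lit 27127329))) (BT.node (nat_lit 9395776) (BT.leaf (nat_lit 27127817)) (BT.leaf (nat_lit 27128081)))) (BT.node (nat_lit 9396032) (BT.node (nat_lit 9395968) (BT.leaf (nat_lit 27128097)) (BT.leaf (nat_lit 27150601))) (BT.node (nat_lit 9396096) (BT.leaf (nat_lit 27128353)) (BT.leaf (nat_lit 27130397))))) (BT.node (nat_lit 9396480) (BT.node (nat_lit 9396352) (BT.node (nat_lit 9396224) (BT.leaf (nat_lit 37116169)) (BT.leaf (nat_lit 27129121))) (BT.node (nat_lit 9396416) (BT.leaf (nat_lit 27130377)) (BT.leaf (nat_lit 27130401)))) (BT.node (nat_lit 9396672) (BT.node (nat_lit 9396544) (BT.leaf (nat_lit 37317125)) (BT.leaf (nat_lit 51182857))) (BT.node (nat_lit 9396864) (BT.leaf (nat_lit 27131157)) (BT.leaf (nat_lit 37117961)))))))) (BT.node (nat_lit 9399616) (BT.node (nat_lit 9398208) (BT.node (nat_lit 9397632) (BT.node (nat_lit 9397184) (BT.node (nat_lit 9397056) (BT.node (nat_lit 9396992) (BT.leaf (nat_lit 51630617)) (BT.leaf (nat_lit 27132937))) (BT.node (nat_lit 9397120) (BT.leaf (nat_lit 36652045)) (BT.leaf (nat_lit 36652057)))) (BT.node (nat_lit 9397312) (BT.node (nat_lit 9397248) (BT.leaf (nat_lit 37310745)) (BT.leaf (nat_lit 27134993))) (BT.node (nat_lit 9397568) (BT.leaf (nat_lit 27135253)) (BT.leaf (nat_lit 27137037))))) (BT.node (nat_lit 9397888) (BT.node (nat_lit 9397760) (BT.node (nat_lit 9397696) (BT.leaf (nat_lit 27137553)) (BT.leaf (nat_lit 27137809))) (BT.node (nat_lit 9397824) (BT.leaf (nat_lit 27162137)) (BT.leaf (nat_lit 27138073)))) (BT.node (nat_lit 9398080) (BT.node (nat_lit 9398016) (BT.leaf (nat_lit 27138077)) (BT.leaf (nat_lit 27138337))) (BT.node (nat_lit 9398144) (BT.leaf (nat_lit 27138577)) (BT.leaf (nat_lit 27139353)))))) (BT.node (nat_lit 9398912) (BT.node (nat_lit 9398528) (BT.node (nat_lit 9398336) (BT.node (nat_lit 9398272) (BT.leaf (nat_lit 27138593)) (BT.leaf (nat_lit 27139341))) (BT.node (nat_lit 9398464) (BT.leaf (nat_lit 27139361)) (BT.leaf (nat_lit 27139869)))) (BT.node (nat_lit 9398656) (BT.node (nat_lit 9398592) (BT.leaf (nat_lit 27140117)) (BT.leaf (nat_lit 27140373))) (BT.node (nat_lit 9398784) (BT.leaf (nat_lit 27140625)) (BT.leaf (nat_lit 27140881))))) (BT.node (nat_lit 9399232) (BT.node (nat_lit 9399040) (BT.node (nat_lit 9398976) (BT.leaf (nat_lit 51332873)) (BT.leaf (nat_lit 27165961))) (BT.node (nat_lit 9399104) (BT.leaf (nat_lit 27165981)) (BT.leaf (nat_lit 27142681)))) (BT.node (nat_lit 9399488) (BT.node (nat_lit 9399424) (BT.leaf (nat_lit 27143449)) (BT.leaf (nat_lit 37103373))) (BT.node (nat_lit 9399552) (BT.leaf (nat_lit 27143957)) (BT.leaf (nat_lit 36492061))))))) (BT.node (nat_lit 9400960) (BT.node (nat_lit 9400448) (BT.node (nat_lit 9400064) (BT.node (nat_lit 9399936) (BT.node (nat_lit 9399744) (BT.leaf (nat_lit 27144213)) (BT.leaf (nat_lit 27144981))) (BT.node (nat_lit 9400000) (BT.leaf (nat_lit 27147553)) (BT.leaf (nat_lit 52381969)))) (BT.node (nat_lit 9400256) (BT.node (nat_lit 9400128) (BT.leaf (nat_lit 27150097)) (BT.leaf (nat_lit 27150625))) (BT.node (nat_lit 9400384) (BT.leaf (nat_lit 27151633)) (BT.leaf (nat_lit 37270813))))) (BT.node (nat_lit 9400704) (BT.node (nat_lit 9400576) (BT.node (nat_lit 9400512) (BT.leaf (nat_lit 36485145)) (BT.leaf (nat_lit 33842709))) (BT.node (nat_lit 9400640) (BT.leaf (nat_lit 27152657)) (BT.leaf (nat_lit 27152913)))) (BT.node (nat_lit 9400832) (BT.node (nat_lit 9400768) (BT.leaf (nat_lit 27153157)) (BT.leaf (nat_lit 27153177))) (BT.node (nat_lit 9400896) (BT.leaf (nat_lit 37497361)) (BT.leaf (nat_lit 52271893)))))) (BT.node (nat_lit 9401472) (BT.node (nat_lit 9401280) (BT.node (nat_lit 9401152) (BT.node (nat_lit 9401024) (BT.leaf (nat_lit 27154969)) (BT.leaf (nat_lit 27155217))) (BT.node (nat_lit 9401216) (BT.leaf (nat_lit 36669465)) (BT.leaf (nat_lit 51339277)))) (BT.node (nat_lit 9401408) (BT.node (nat_lit 9401344) (BT.leaf (nat_lit 36544517)) (BT.leaf (nat_lit 27155989))) (BT.node (nat_lit 9401409) (BT.leaf (nat_lit 52203801)) (BT.leaf (nat_lit 809488))))) (BT.node (nat_lit 9401728) (BT.node (nat_lit 9401600) (BT.node (nat_lit 9401536) (BT.leaf (nat_lit 27157525)) (BT.leaf (nat_lit 37441813))) (BT.node (nat_lit 9401664) (BT.leaf (nat_lit 27160337)) (BT.leaf (nat_lit 27160593)))) (BT.node (nat_lit 9401856) (BT.node (nat_lit 9401792) (BT.leaf (nat_lit 27160837)) (BT.leaf (nat_lit 27160857))) (BT.node (nat_lit 9401920) (BT.leaf (nat_lit 27160861)) (BT.leaf (nat_lit 27161121))))))))) (BT.node (nat_lit 9407168) (BT.node (nat_lit 9404544) (BT.node (nat_lit 9403072) (BT.node (nat_lit 9402560) (BT.node (nat_lit 9402304) (BT.node (nat_lit 9402176) (BT.node (nat_lit 9402048) (BT.leaf (nat_lit 27161361)) (BT.leaf (nat_lit 27161377))) (BT.node (nat_lit 9402240) (BT.leaf (nat_lit 28468253)) (BT.leaf (nat_lit 27162145)))) (BT.node (nat_lit 9402432) (BT.node (nat_lit 9402368) (BT.leaf (nat_lit 27162657)) (BT.leaf (nat_lit 27162909))) (BT.node (nat_lit 9402496) (BT.leaf (nat_lit 27163157)) (BT.leaf (nat_lit 27163413))))) (BT.node (nat_lit 9402816) (BT.node (nat_lit 9402688) (BT.node (nat_lit 9402624) (BT.leaf (nat_lit 27163665)) (BT.leaf (nat_lit 27163681))) (BT.node (nat_lit 9402752) (BT.leaf (nat_lit 27163921)) (BT.leaf (nat_lit 27164165)))) (BT.node (nat_lit 9402944) (BT.node (nat_lit 9402880) (BT.leaf (nat_lit 37636129)) (BT.leaf (nat_lit 27165985))) (BT.node (nat_lit 9403008) (BT.leaf (nat_lit 27166233)) (BT.leaf (nat_lit 27166237)))))) (BT.node (nat_lit 9403776) (BT.node (nat_lit 9403392) (BT.node (nat_lit 9403200) (BT.node (nat_lit 9403136) (BT.leaf (nat_lit 27166469)) (BT.leaf (nat_lit 27166485))) (BT.node (nat_lit 9403264) (BT.leaf (nat_lit 27166737)) (BT.leaf (nat_lit 27166741)))) (BT.node (nat_lit 9403584) (BT.node (nat_lit 9403520) (BT.leaf (nat_lit 27182365)) (BT.leaf (nat_lit 27194905))) (BT.node (nat_lit 9403712) (BT.leaf (nat_lit 27167253)) (BT.leaf (nat_lit 37637405))))) (BT.node (nat_lit 9404288) (BT.node (nat_lit 9404096) (BT.node (nat_lit 9404032) (BT.leaf (nat_lit 27168529)) (BT.leaf (nat_lit 27169313))) (BT.node (nat_lit 9404224) (BT.leaf (nat_lit 27169569)) (BT.leaf (nat_lit 27170065)))) (BT.node (nat_lit 9404416) (BT.node (nat_lit 9404352) (BT.leaf (nat_lit 27170081)) (BT.leaf (nat_lit 27170337))) (BT.node (nat_lit 9404480) (BT.leaf (nat_lit 27170849)) (BT.leaf (nat_lit 27171361))))))) (BT.node (nat_lit 9406144) (BT.node (nat_lit 9405696) (BT.node (nat_lit 9405376) (BT.node (nat_lit 9404864) (BT.node (nat_lit 9404800) (BT.leaf (nat_lit 27171617)) (BT.leaf (nat_lit 27173389))) (BT.node (nat_lit 9404992) (BT.leaf (nat_lit 27173653)) (BT.leaf (nat_lit 27173921)))) (BT.node (nat_lit 9405504) (BT.node (nat_lit 9405440) (BT.leaf (nat_lit 37146889)) (BT.leaf (nat_lit 27176201))) (BT.node (nat_lit 9405632) (BT.leaf (nat_lit 27176465)) (BT.leaf (nat_lit 27176481))))) (BT.node (nat_lit 9405952) (BT.node (nat_lit 9405824) (BT.node (nat_lit 9405760) (BT.leaf (nat_lit 27176721)) (BT.leaf (nat_lit 27176737))) (BT.node (nat_lit 9405888) (BT.leaf (nat_lit 27176965)) (BT.leaf (nat_lit 27176985)))) (BT.node (nat_lit 9406080) (BT.node (nat_lit 9406016) (BT.leaf (nat_lit 27176989)) (BT.leaf (nat_lit 27177233))) (BT.node (nat_lit 9406085) (BT.leaf (nat_lit 27177489)) (BT.leaf (nat_lit 646520)))))) (BT.node (nat_lit 9406662) (BT.node (nat_lit 9406528) (BT.node (nat_lit 9406272) (BT.node (nat_lit 9406208) (BT.leaf (nat_lit 32665865)) (BT.leaf (nat_lit 27177505))) (BT.node (nat_lit 9406336) (BT.leaf (nat_lit 32665885)) (BT.leaf (nat_lit 27178001)))) (BT.node (nat_lit 9406592) (BT.node (nat_lit 9406532) (BT.leaf (nat_lit 27178525)) (BT.leaf (nat_lit 618864))) (BT.node (nat_lit 9406656) (BT.leaf (nat_lit 39612185)) (BT.leaf (nat_lit 32956433))))) (BT.node (nat_lit 9406848) (BT.node (nat_lit 9406728) (BT.node (nat_lit 9406720) (BT.leaf (nat_lit 817320)) (BT.leaf (nat_lit 27178773))) (BT.node (nat_lit 9406784) (BT.leaf (nat_lit 705912)) (BT.leaf (nat_lit 45383185)))) (BT.node (nat_lit 9407040) (BT.node (nat_lit 9406912) (BT.leaf (nat_lit 37596165)) (BT.leaf (nat_lit 27180297))) (BT.node (nat_lit 9407104) (BT.leaf (nat_lit 27182369)) (BT.leaf (nat_lit 27182613)))))))) (BT.node (nat_lit 9409477) (BT.node (nat_lit 9408320) (BT.node (nat_lit 9407744) (BT.node (nat_lit 9407488) (BT.node (nat_lit 9407296) (BT.node (nat_lit 9407232) (BT.leaf (nat_lit 27183377)) (BT.leaf (nat_lit 27183633))) (BT.node (nat_lit 9407360) (BT.leaf (nat_lit 27183901)) (BT.leaf (nat_lit 36699153)))) (BT.node (nat_lit 9407616) (BT.node (nat_lit 9407552) (BT.leaf (nat_lit 52235549)) (BT.leaf (nat_lit 27185693))) (BT.node (nat_lit 9407680) (BT.leaf (nat_lit 27185937)) (BT.leaf (nat_lit 27186449))))) (BT.node (nat_lit 9408000) (BT.node (nat_lit 9407872) (BT.node (nat_lit 9407808) (BT.leaf (nat_lit 27186465)) (BT.leaf (nat_lit 27186705))) (BT.node (nat_lit 9407936) (BT.leaf (nat_lit 27186721)) (BT.leaf (nat_lit 27186949)))) (BT.node (nat_lit 9408192) (BT.node (nat_lit 9408128) (BT.leaf (nat_lit 27187217)) (BT.leaf (nat_lit 27187473))) (BT.node (nat_lit 9408256) (BT.leaf (nat_lit 27187489)) (BT.leaf (nat_lit 27187989)))))) (BT.node (nat_lit 9408832) (BT.node (nat_lit 9408576) (BT.node (nat_lit 9408448) (BT.node (nat_lit 9408384) (BT.leaf (nat_lit 27188241)) (BT.leaf (nat_lit 27188257))) (BT.node (nat_lit 9408512) (BT.leaf (nat_lit 27189017)) (BT.leaf (nat_lit 27189021)))) (BT.node (nat_lit 9408704) (BT.node (nat_lit 9408640) (BT.leaf (nat_lit 27189269)) (BT.leaf (nat_lit 27189521))) (BT.node (nat_lit 9408768) (BT.leaf (nat_lit 27189525)) (BT.leaf (nat_lit 27189777))))) (BT.node (nat_lit 9409280) (BT.node (nat_lit 9409152) (BT.node (nat_lit 9408896) (BT.leaf (nat_lit 37610501)) (BT.leaf (nat_lit 27190033))) (BT.node (nat_lit 9409216) (BT.leaf (nat_lit 27191313)) (BT.leaf (nat_lit 27192341)))) (BT.node (nat_lit 9409408) (BT.node (nat_lit 9409344) (BT.leaf (nat_lit 27192597)) (BT.leaf (nat_lit 37328389))) (BT.node (nat_lit 9409472) (BT.leaf (nat_lit 27193349)) (BT.leaf (nat_lit 27193873))))))) (BT.node (nat_lit 9411328) (BT.node (nat_lit 9410696) (BT.node (nat_lit 9409984) (BT.node (nat_lit 9409536) (BT.node (nat_lit 9409479) (BT.leaf (nat_lit 588480)) (BT.leaf (nat_lit 588480))) (BT.node (nat_lit 9409856) (BT.leaf (nat_lit 27222037)) (BT.leaf (nat_lit 27197461)))) (BT.node (nat_lit 9410112) (BT.node (nat_lit 9410048) (BT.leaf (nat_lit 27198481)) (BT.leaf (nat_lit 51971857))) (BT.node (nat_lit 9410176) (BT.leaf (nat_lit 27199513)) (BT.leaf (nat_lit 27199517))))) (BT.node (nat_lit 9411008) (BT.node (nat_lit 9410880) (BT.node (nat_lit 9410759) (BT.leaf (nat_lit 800048)) (BT.leaf (nat_lit 811676))) (BT.node (nat_lit 9410944) (BT.leaf (nat_lit 37296405)) (BT.leaf (nat_lit 27201041)))) (BT.node (nat_lit 9411200) (BT.node (nat_lit 9411136) (BT.leaf (nat_lit 27201565)) (BT.leaf (nat_lit 27202337))) (BT.node (nat_lit 9411264) (BT.leaf (nat_lit 27202577)) (BT.leaf (nat_lit 27202833)))))) (BT.node (nat_lit 9412096) (BT.node (nat_lit 9411584) (BT.node (nat_lit 9411456) (BT.node (nat_lit 9411392) (BT.leaf (nat_lit 27203097)) (BT.leaf (nat_lit 27203101))) (BT.node (nat_lit 9411520) (BT.leaf (nat_lit 27203861)) (BT.leaf (nat_lit 27204885)))) (BT.node (nat_lit 9411776) (BT.node (nat_lit 9411648) (BT.leaf (nat_lit 27205137)) (BT.leaf (nat_lit 27205141))) (BT.node (nat_lit 9411840) (BT.leaf (nat_lit 36593689)) (BT.leaf (nat_lit 41263137))))) (BT.node (nat_lit 9412544) (BT.node (nat_lit 9412352) (BT.node (nat_lit 9412288) (BT.leaf (nat_lit 51947553)) (BT.leaf (nat_lit 37649437))) (BT.node (nat_lit 9412416) (BT.leaf (nat_lit 52364565)) (BT.leaf (nat_lit 52364813)))) (BT.node (nat_lit 9412736) (BT.node (nat_lit 9412608) (BT.leaf (nat_lit 49899025)) (BT.leaf (nat_lit 38784273))) (BT.node (nat_lit 9412928) (BT.leaf (nat_lit 27207453)) (BT.leaf (nat_lit 50594321)))))))))) (BT.node (nat_lit 9422976) (BT.node (nat_lit 9418368) (BT.node (nat_lit 9415552) (BT.node (nat_lit 9414400) (BT.node (nat_lit 9413760) (BT.node (nat_lit 9413504) (BT.node (nat_lit 9413376) (BT.node (nat_lit 9413056) (BT.leaf (nat_lit 52057097)) (BT.leaf (nat_lit 27208213))) (BT.node (nat_lit 9413440) (BT.leaf (nat_lit 52227333)) (BT.leaf (nat_lit 51658501)))) (BT.node (nat_lit 9413632) (BT.node (nat_lit 9413508) (BT.leaf (nat_lit 27209241)) (BT.leaf (nat_lit 778388))) (BT.node (nat_lit 9413696) (BT.leaf (nat_lit 27210513)) (BT.leaf (nat_lit 35855137))))) (BT.node (nat_lit 9414080) (BT.node (nat_lit 9413888) (BT.node (nat_lit 9413824) (BT.leaf (nat_lit 27211285)) (BT.leaf (nat_lit 31280917))) (BT.node (nat_lit 9413952) (BT.leaf (nat_lit 37404449)) (BT.leaf (nat_lit 37263133)))) (BT.node (nat_lit 9414336) (BT.node (nat_lit 9414208) (BT.leaf (nat_lit 36775685)) (BT.leaf (nat_lit 35874065))) (BT.node (nat_lit 9414341) (BT.leaf (nat_lit 27214609)) (BT.leaf (nat_lit 783772)))))) (BT.node (nat_lit 9414848) (BT.node (nat_lit 9414592) (BT.node (nat_lit 9414464) (BT.node (nat_lit 9414401) (BT.leaf (nat_lit 33691653)) (BT.leaf (nat_lit 783744))) (BT.node (nat_lit 9414528) (BT.leaf (nat_lit 37288221)) (BT.leaf (nat_lit 27215633)))) (BT.node (nat_lit 9414720) (BT.node (nat_lit 9414656) (BT.leaf (nat_lit 51424517)) (BT.leaf (nat_lit 27215389))) (BT.node (nat_lit 9414784) (BT.leaf (nat_lit 36471833)) (BT.leaf (nat_lit 37427985))))) (BT.node (nat_lit 9415232) (BT.node (nat_lit 9415104) (BT.node (nat_lit 9414912) (BT.leaf (nat_lit 27217673)) (BT.leaf (nat_lit 34148885))) (BT.node (nat_lit 9415168) (BT.leaf (nat_lit 37659161)) (BT.leaf (nat_lit 37660957)))) (BT.node (nat_lit 9415424) (BT.node (nat_lit 9415360) (BT.leaf (nat_lit 52042513)) (BT.leaf (nat_lit 52327433))) (BT.node (nat_lit 9415488) (BT.leaf (nat_lit 37371929)) (BT.leaf (nat_lit 37660933))))))) (BT.node (nat_lit 9416832) (BT.node (nat_lit 9416192) (BT.node (nat_lit 9415872) (BT.node (nat_lit 9415680) (BT.node (nat_lit 9415616) (BT.leaf (nat_lit 27221777)) (BT.leaf (nat_lit 37637401))) (BT.node (nat_lit 9415744) (BT.leaf (nat_lit 37343521)) (BT.leaf (nat_lit 27222045)))) (BT.node (nat_lit 9416064) (BT.node (nat_lit 9415936) (BT.leaf (nat_lit 37638169)) (BT.leaf (nat_lit 27255301))) (BT.node (nat_lit 9416128) (BT.leaf (nat_lit 27224601)) (BT.leaf (nat_lit 37451273))))) (BT.node (nat_lit 9416576) (BT.node (nat_lit 9416448) (BT.node (nat_lit 9416256) (BT.leaf (nat_lit 37690885)) (BT.leaf (nat_lit 27225889))) (BT.node (nat_lit 9416512) (BT.leaf (nat_lit 27235857)) (BT.leaf (nat_lit 27228945)))) (BT.node (nat_lit 9416704) (BT.node (nat_lit 9416640) (BT.leaf (nat_lit 33536281)) (BT.leaf (nat_lit 27229209))) (BT.node (nat_lit 9416768) (BT.leaf (nat_lit 27229213)) (BT.leaf (nat_lit 52274453)))))) (BT.node (nat_lit 9417472) (BT.node (nat_lit 9417152) (BT.node (nat_lit 9416960) (BT.node (nat_lit 9416896) (BT.leaf (nat_lit 27230481)) (BT.leaf (nat_lit 37284109))) (BT.node (nat_lit 9417024) (BT.leaf (nat_lit 27230497)) (BT.leaf (nat_lit 27230737)))) (BT.node (nat_lit 9417344) (BT.node (nat_lit 9417280) (BT.leaf (nat_lit 27230753)) (BT.leaf (nat_lit 27237901))) (BT.node (nat_lit 9417408) (BT.leaf (nat_lit 27231265)) (BT.leaf (nat_lit 27231505))))) (BT.node (nat_lit 9417792) (BT.node (nat_lit 9417600) (BT.node (nat_lit 9417536) (BT.leaf (nat_lit 27232281)) (BT.leaf (nat_lit 27231521))) (BT.node (nat_lit 9417664) (BT.leaf (nat_lit 27232269)) (BT.leaf (nat_lit 27237913)))) (BT.node (nat_lit 9418048) (BT.node (nat_lit 9417984) (BT.leaf (nat_lit 27232785)) (BT.leaf (nat_lit 27234849))) (BT.node (nat_lit 9418112) (BT.leaf (nat_lit 37672461)) (BT.leaf (nat_lit 52272661)))))))) (BT.node (nat_lit 9421056) (BT.node (nat_lit 9419904) (BT.node (nat_lit 9419072) (BT.node (nat_lit 9418688) (BT.node (nat_lit 9418560) (BT.node (nat_lit 9418496) (BT.leaf (nat_lit 37671189)) (BT.leaf (nat_lit 27236129))) (BT.node (nat_lit 9418624) (BT.leaf (nat_lit 27236385)) (BT.leaf (nat_lit 27236613)))) (BT.node (nat_lit 9418816) (BT.node (nat_lit 9418752) (BT.leaf (nat_lit 27236897)) (BT.leaf (nat_lit 27237153))) (BT.node (nat_lit 9418944) (BT.leaf (nat_lit 27237397)) (BT.leaf (nat_lit 36608281))))) (BT.node (nat_lit 9419392) (BT.node (nat_lit 9419264) (BT.node (nat_lit 9419200) (BT.leaf (nat_lit 27237921)) (BT.leaf (nat_lit 27238417))) (BT.node (nat_lit 9419328) (BT.leaf (nat_lit 27238929)) (BT.leaf (nat_lit 27241249)))) (BT.node (nat_lit 9419520) (BT.node (nat_lit 9419456) (BT.leaf (nat_lit 27242513)) (BT.leaf (nat_lit 27242769))) (BT.node (nat_lit 9419840) (BT.leaf (nat_lit 27243033)) (BT.leaf (nat_lit 27243553)))))) (BT.node (nat_lit 9420484) (BT.node (nat_lit 9420096) (BT.node (nat_lit 9419908) (BT.node (nat_lit 9419905) (BT.leaf (nat_lit 27243797)) (BT.leaf (nat_lit 810512))) (BT.node (nat_lit 9420032) (BT.leaf (nat_lit 810512)) (BT.leaf (nat_lit 27244309)))) (BT.node (nat_lit 9420288) (BT.node (nat_lit 9420160) (BT.leaf (nat_lit 37589273)) (BT.leaf (nat_lit 27244561))) (BT.node (nat_lit 9420480) (BT.leaf (nat_lit 27244577)) (BT.leaf (nat_lit 27245341))))) (BT.node (nat_lit 9420800) (BT.node (nat_lit 9420672) (BT.node (nat_lit 9420544) (BT.leaf (nat_lit 793076)) (BT.leaf (nat_lit 27245589))) (BT.node (nat_lit 9420736) (BT.leaf (nat_lit 27245841)) (BT.leaf (nat_lit 27246105)))) (BT.node (nat_lit 9420928) (BT.node (nat_lit 9420864) (BT.leaf (nat_lit 27250953)) (BT.leaf (nat_lit 33981721))) (BT.node (nat_lit 9420992) (BT.leaf (nat_lit 27246609)) (BT.leaf (nat_lit 27920145))))))) (BT.node (nat_lit 9421957) (BT.node (nat_lit 9421632) (BT.node (nat_lit 9421248) (BT.node (nat_lit 9421127) (BT.node (nat_lit 9421120) (BT.leaf (nat_lit 37683993)) (BT.leaf (nat_lit 27247121))) (BT.node (nat_lit 9421184) (BT.leaf (nat_lit 629748)) (BT.leaf (nat_lit 35674389)))) (BT.node (nat_lit 9421376) (BT.node (nat_lit 9421312) (BT.leaf (nat_lit 31544853)) (BT.leaf (nat_lit 27248409))) (BT.node (nat_lit 9421440) (BT.leaf (nat_lit 35207957)) (BT.leaf (nat_lit 27248657))))) (BT.node (nat_lit 9421760) (BT.node (nat_lit 9421699) (BT.node (nat_lit 9421696) (BT.leaf (nat_lit 27248929)) (BT.leaf (nat_lit 27249173))) (BT.node (nat_lit 9421702) (BT.leaf (nat_lit 742272)) (BT.leaf (nat_lit 742272)))) (BT.node (nat_lit 9421888) (BT.node (nat_lit 9421824) (BT.leaf (nat_lit 27250957)) (BT.leaf (nat_lit 27251217))) (BT.node (nat_lit 9421952) (BT.leaf (nat_lit 27251477)) (BT.leaf (nat_lit 27251481)))))) (BT.node (nat_lit 9422464) (BT.node (nat_lit 9422278) (BT.node (nat_lit 9422144) (BT.node (nat_lit 9422080) (BT.leaf (nat_lit 688332)) (BT.leaf (nat_lit 40456713))) (BT.node (nat_lit 9422272) (BT.leaf (nat_lit 27251993)) (BT.leaf (nat_lit 27252241)))) (BT.node (nat_lit 9422336) (BT.node (nat_lit 9422279) (BT.leaf (nat_lit 672624)) (BT.leaf (nat_lit 672624))) (BT.node (nat_lit 9422400) (BT.leaf (nat_lit 27252509)) (BT.leaf (nat_lit 27253273))))) (BT.node (nat_lit 9422720) (BT.node (nat_lit 9422592) (BT.node (nat_lit 9422528) (BT.leaf (nat_lit 37547529)) (BT.leaf (nat_lit 51765281))) (BT.node (nat_lit 9422656) (BT.leaf (nat_lit 27255313)) (BT.leaf (nat_lit 52301065)))) (BT.node (nat_lit 9422848) (BT.node (nat_lit 9422784) (BT.leaf (nat_lit 52267793)) (BT.leaf (nat_lit 27255329))) (BT.node (nat_lit 9422912) (BT.leaf (nat_lit 51901981)) (BT.leaf (nat_lit 27255813))))))))) (BT.node (nat_lit 9427584) (BT.node (nat_lit 9425600) (BT.node (nat_lit 9424000) (BT.node (nat_lit 9423424) (BT.node (nat_lit 9423109) (BT.node (nat_lit 9423040) (BT.node (nat_lit 9422981) (BT.leaf (nat_lit 27256593)) (BT.leaf (nat_lit 811524))) (BT.node (nat_lit 9423104) (BT.leaf (nat_lit 52062753)) (BT.leaf (nat_lit 27257625)))) (BT.node (nat_lit 9423232) (BT.node (nat_lit 9423168) (BT.leaf (nat_lit 786760)) (BT.leaf (nat_lit 27257629))) (BT.node (nat_lit 9423360) (BT.leaf (nat_lit 36500245)) (BT.leaf (nat_lit 36700433))))) (BT.node (nat_lit 9423680) (BT.node (nat_lit 9423552) (BT.node (nat_lit 9423488) (BT.leaf (nat_lit 49818377)) (BT.leaf (nat_lit 31115797))) (BT.node (nat_lit 9423616) (BT.leaf (nat_lit 50262289)) (BT.leaf (nat_lit 35848217)))) (BT.node (nat_lit 9423744) (BT.node (nat_lit 9423684) (BT.leaf (nat_lit 34191377)) (BT.leaf (nat_lit 778672))) (BT.node (nat_lit 9423936) (BT.leaf (nat_lit 52213269)) (BT.leaf (nat_lit 51771405)))))) (BT.node (nat_lit 9424768) (BT.node (nat_lit 9424391) (BT.node (nat_lit 9424192) (BT.node (nat_lit 9424064) (BT.leaf (nat_lit 52118037)) (BT.leaf (nat_lit 52437525))) (BT.node (nat_lit 9424384) (BT.leaf (nat_lit 27262485)) (BT.leaf (nat_lit 27263765)))) (BT.node (nat_lit 9424452) (BT.node (nat_lit 9424448) (BT.leaf (nat_lit 728372)) (BT.leaf (nat_lit 27263773))) (BT.node (nat_lit 9424640) (BT.leaf (nat_lit 793064)) (BT.leaf (nat_lit 52046625))))) (BT.node (nat_lit 9425216) (BT.node (nat_lit 9425088) (BT.node (nat_lit 9424832) (BT.leaf (nat_lit 27264281)) (BT.leaf (nat_lit 37605913))) (BT.node (nat_lit 9425152) (BT.leaf (nat_lit 27264789)) (BT.leaf (nat_lit 51220769)))) (BT.node (nat_lit 9425408) (BT.node (nat_lit 9425344) (BT.leaf (nat_lit 27265553)) (BT.leaf (nat_lit 36484641))) (BT.node (nat_lit 9425536) (BT.leaf (nat_lit 37663521)) (BT.leaf (nat_lit 36484385))))))) (BT.node (nat_lit 9426560) (BT.node (nat_lit 9426048) (BT.node (nat_lit 9425797) (BT.node (nat_lit 9425728) (BT.node (nat_lit 9425664) (BT.leaf (nat_lit 27268897)) (BT.leaf (nat_lit 30124305))) (BT.node (nat_lit 9425792) (BT.leaf (nat_lit 43305477)) (BT.leaf (nat_lit 51125793)))) (BT.node (nat_lit 9425920) (BT.node (nat_lit 9425856) (BT.leaf (nat_lit 599592)) (BT.leaf (nat_lit 37703193))) (BT.node (nat_lit 9425984) (BT.leaf (nat_lit 44335633)) (BT.leaf (nat_lit 30558997))))) (BT.node (nat_lit 9426304) (BT.node (nat_lit 9426176) (BT.node (nat_lit 9426112) (BT.leaf (nat_lit 34901253)) (BT.leaf (nat_lit 48279073))) (BT.node (nat_lit 9426240) (BT.leaf (nat_lit 33932061)) (BT.leaf (nat_lit 33932041)))) (BT.node (nat_lit 9426432) (BT.node (nat_lit 9426368) (BT.leaf (nat_lit 48981253)) (BT.leaf (nat_lit 35445257))) (BT.node (nat_lit 9426496) (BT.leaf (nat_lit 47087889)) (BT.leaf (nat_lit 28401429)))))) (BT.node (nat_lit 9427072) (BT.node (nat_lit 9426816) (BT.node (nat_lit 9426688) (BT.node (nat_lit 9426624) (BT.leaf (nat_lit 34102789)) (BT.leaf (nat_lit 28401437))) (BT.node (nat_lit 9426752) (BT.leaf (nat_lit 28544025)) (BT.leaf (nat_lit 31574305)))) (BT.node (nat_lit 9426944) (BT.node (nat_lit 9426880) (BT.leaf (nat_lit 46876449)) (BT.leaf (nat_lit 51343121))) (BT.node (nat_lit 9427008) (BT.leaf (nat_lit 41994761)) (BT.leaf (nat_lit 38603297))))) (BT.node (nat_lit 9427328) (BT.node (nat_lit 9427200) (BT.node (nat_lit 9427136) (BT.leaf (nat_lit 29083673)) (BT.leaf (nat_lit 37809689))) (BT.node (nat_lit 9427264) (BT.leaf (nat_lit 28509213)) (BT.leaf (nat_lit 29539353)))) (BT.node (nat_lit 9427456) (BT.node (nat_lit 9427392) (BT.leaf (nat_lit 32765729)) (BT.leaf (nat_lit 36717593))) (BT.node (nat_lit 9427520) (BT.leaf (nat_lit 36717597)) (BT.leaf (nat_lit 41995277)))))))) (BT.node (nat_lit 9429568) (BT.node (nat_lit 9428544) (BT.node (nat_lit 9428032) (BT.node (nat_lit 9427840) (BT.node (nat_lit 9427712) (BT.node (nat_lit 9427648) (BT.leaf (nat_lit 29385489)) (BT.leaf (nat_lit 27387665))) (BT.node (nat_lit 9427776) (BT.leaf (nat_lit 28310037)) (BT.leaf (nat_lit 28310041)))) (BT.node (nat_lit 9427909) (BT.node (nat_lit 9427904) (BT.leaf (nat_lit 34464785)) (BT.leaf (nat_lit 32681501))) (BT.node (nat_lit 9427968) (BT.leaf (nat_lit 628356)) (BT.leaf (nat_lit 32440857))))) (BT.node (nat_lit 9428288) (BT.node (nat_lit 9428160) (BT.node (nat_lit 9428096) (BT.leaf (nat_lit 32440861)) (BT.leaf (nat_lit 34508309))) (BT.node (nat_lit 9428224) (BT.leaf (nat_lit 27284753)) (BT.leaf (nat_lit 34508561)))) (BT.node (nat_lit 9428416) (BT.node (nat_lit 9428352) (BT.leaf (nat_lit 30072325)) (BT.leaf (nat_lit 31073289))) (BT.node (nat_lit 9428480) (BT.leaf (nat_lit 41941013)) (BT.leaf (nat_lit 28891153)))))) (BT.node (nat_lit 9429056) (BT.node (nat_lit 9428800) (BT.node (nat_lit 9428672) (BT.node (nat_lit 9428608) (BT.leaf (nat_lit 28232725)) (BT.leaf (nat_lit 43644193))) (BT.node (nat_lit 9428736) (BT.leaf (nat_lit 39060485)) (BT.leaf (nat_lit 31523861)))) (BT.node (nat_lit 9428928) (BT.node (nat_lit 9428864) (BT.leaf (nat_lit 40183585)) (BT.leaf (nat_lit 40183329))) (BT.node (nat_lit 9428992) (BT.leaf (nat_lit 38395145)) (BT.leaf (nat_lit 32540705))))) (BT.node (nat_lit 9429312) (BT.node (nat_lit 9429184) (BT.node (nat_lit 9429120) (BT.leaf (nat_lit 52370961)) (BT.leaf (nat_lit 49790221))) (BT.node (nat_lit 9429248) (BT.leaf (nat_lit 39780641)) (BT.leaf (nat_lit 46326537)))) (BT.node (nat_lit 9429440) (BT.node (nat_lit 9429376) (BT.leaf (nat_lit 46532625)) (BT.leaf (nat_lit 39961369))) (BT.node (nat_lit 9429504) (BT.leaf (nat_lit 39725837)) (BT.leaf (nat_lit 29554965))))))) (BT.node (nat_lit 9430592) (BT.node (nat_lit 9430080) (BT.node (nat_lit 9429824) (BT.node (nat_lit 9429696) (BT.node (nat_lit 9429632) (BT.leaf (nat_lit 29554973)) (BT.leaf (nat_lit 43645957))) (BT.node (nat_lit 9429760) (BT.leaf (nat_lit 43646213)) (BT.leaf (nat_lit 46526473)))) (BT.node (nat_lit 9429952) (BT.node (nat_lit 9429888) (BT.leaf (nat_lit 38860309)) (BT.leaf (nat_lit 32612129))) (BT.node (nat_lit 9430016) (BT.leaf (nat_lit 49763333)) (BT.leaf (nat_lit 27285521))))) (BT.node (nat_lit 9430336) (BT.node (nat_lit 9430208) (BT.node (nat_lit 9430144) (BT.leaf (nat_lit 27285009)) (BT.leaf (nat_lit 49885453))) (BT.node (nat_lit 9430272) (BT.leaf (nat_lit 32714009)) (BT.leaf (nat_lit 32714013)))) (BT.node (nat_lit 9430464) (BT.node (nat_lit 9430400) (BT.leaf (nat_lit 27286289)) (BT.leaf (nat_lit 50597125))) (BT.node (nat_lit 9430528) (BT.leaf (nat_lit 30149913)) (BT.leaf (nat_lit 30149917)))))) (BT.node (nat_lit 9431104) (BT.node (nat_lit 9430848) (BT.node (nat_lit 9430720) (BT.node (nat_lit 9430656) (BT.leaf (nat_lit 37964293)) (BT.leaf (nat_lit 28422661))) (BT.node (nat_lit 9430784) (BT.leaf (nat_lit 39536133)) (BT.leaf (nat_lit 39057669)))) (BT.node (nat_lit 9430976) (BT.node (nat_lit 9430912) (BT.leaf (nat_lit 27638297)) (BT.leaf (nat_lit 46771477))) (BT.node (nat_lit 9431040) (BT.leaf (nat_lit 33453085)) (BT.leaf (nat_lit 38894597))))) (BT.node (nat_lit 9431360) (BT.node (nat_lit 9431232) (BT.node (nat_lit 9431168) (BT.leaf (nat_lit 44404505)) (BT.leaf (nat_lit 47297569))) (BT.node (nat_lit 9431296) (BT.leaf (nat_lit 38172433)) (BT.leaf (nat_lit 33885709)))) (BT.node (nat_lit 9431488) (BT.node (nat_lit 9431424) (BT.leaf (nat_lit 39806225)) (BT.leaf (nat_lit 31306517))) (BT.node (nat_lit 9431552) (BT.leaf (nat_lit 51120401)) (BT.leaf (nat_lit 41335585))))))))))) (BT.node (nat_lit 9447296) (BT.node (nat_lit 9439552) (BT.node (nat_lit 9435584) (BT.node (nat_lit 9433600) (BT.node (nat_lit 9432640) (BT.node (nat_lit 9432128) (BT.node (nat_lit 9431872) (BT.node (nat_lit 9431744) (BT.node (nat_lit 9431680) (BT.leaf (nat_lit 44987397)) (BT.leaf (nat_lit 32524313))) (BT.node (nat_lit 9431808) (BT.leaf (nat_lit 40176901)) (BT.leaf (nat_lit 45553689)))) (BT.node (nat_lit 9432000) (BT.node (nat_lit 9431936) (BT.leaf (nat_lit 33013785)) (BT.leaf (nat_lit 32476689))) (BT.node (nat_lit 9432064) (BT.leaf (nat_lit 38318861)) (BT.leaf (nat_lit 32476705))))) (BT.node (nat_lit 9432384) (BT.node (nat_lit 9432256) (BT.node (nat_lit 9432192) (BT.leaf (nat_lit 40293893)) (BT.leaf (nat_lit 27288849))) (BT.node (nat_lit 9432320) (BT.leaf (nat_lit 32526881)) (BT.leaf (nat_lit 31173385)))) (BT.node (nat_lit 9432512) (BT.node (nat_lit 9432448) (BT.leaf (nat_lit 39537953)) (BT.leaf (nat_lit 46260741))) (BT.node (nat_lit 9432576) (BT.leaf (nat_lit 48222217)) (BT.leaf (nat_lit 47943433)))))) (BT.node (nat_lit 9433152) (BT.node (nat_lit 9432896) (BT.node (nat_lit 9432768) (BT.node (nat_lit 9432704) (BT.leaf (nat_lit 48202513)) (BT.leaf (nat_lit 49944857))) (BT.node (nat_lit 9432832) (BT.leaf (nat_lit 34183961)) (BT.leaf (nat_lit 27291141)))) (BT.node (nat_lit 9433024) (BT.node (nat_lit 9432960) (BT.leaf (nat_lit 40534293)) (BT.leaf (nat_lit 44312601))) (BT.node (nat_lit 9433088) (BT.leaf (nat_lit 28897285)) (BT.leaf (nat_lit 41057057))))) (BT.node (nat_lit 9433344) (BT.node (nat_lit 9433221) (BT.node (nat_lit 9433216) (BT.leaf (nat_lit 34426389)) (BT.leaf (nat_lit 31053857))) (BT.node (nat_lit 9433280) (BT.leaf (nat_lit 790592)) (BT.leaf (nat_lit 30771465)))) (BT.node (nat_lit 9433472) (BT.node (nat_lit 9433408) (BT.leaf (nat_lit 29367321)) (BT.leaf (nat_lit 29367325))) (BT.node (nat_lit 9433536) (BT.leaf (nat_lit 27617565)) (BT.leaf (nat_lit 33041429))))))) (BT.node (nat_lit 9434624) (BT.node (nat_lit 9434112) (BT.node (nat_lit 9433856) (BT.node (nat_lit 9433728) (BT.node (nat_lit 9433664) (BT.leaf (nat_lit 45018637)) (BT.leaf (nat_lit 50843153))) (BT.node (nat_lit 9433792) (BT.leaf (nat_lit 31128341)) (BT.leaf (nat_lit 27567649)))) (BT.node (nat_lit 9433984) (BT.node (nat_lit 9433920) (BT.leaf (nat_lit 31127301)) (BT.leaf (nat_lit 27661593))) (BT.node (nat_lit 9434048) (BT.leaf (nat_lit 28422929)) (BT.leaf (nat_lit 46291489))))) (BT.node (nat_lit 9434368) (BT.node (nat_lit 9434240) (BT.node (nat_lit 9434176) (BT.leaf (nat_lit 27333917)) (BT.leaf (nat_lit 29795357))) (BT.node (nat_lit 9434304) (BT.leaf (nat_lit 46467081)) (BT.leaf (nat_lit 33030665)))) (BT.node (nat_lit 9434496) (BT.node (nat_lit 9434432) (BT.leaf (nat_lit 33042197)) (BT.leaf (nat_lit 36030233))) (BT.node (nat_lit 9434560) (BT.leaf (nat_lit 41861397)) (BT.leaf (nat_lit 30539281)))))) (BT.node (nat_lit 9435072) (BT.node (nat_lit 9434816) (BT.node (nat_lit 9434752) (BT.node (nat_lit 9434688) (BT.leaf (nat_lit 29794333)) (BT.leaf (nat_lit 41861405))) (BT.node (nat_lit 9434757) (BT.leaf (nat_lit 48482065)) (BT.leaf (nat_lit 609832)))) (BT.node (nat_lit 9434944) (BT.node (nat_lit 9434880) (BT.leaf (nat_lit 48482081)) (BT.leaf (nat_lit 29800733))) (BT.node (nat_lit 9435008) (BT.leaf (nat_lit 32983061)) (BT.leaf (nat_lit 42066197))))) (BT.node (nat_lit 9435328) (BT.node (nat_lit 9435200) (BT.node (nat_lit 9435136) (BT.leaf (nat_lit 46336009)) (BT.leaf (nat_lit 47289109))) (BT.node (nat_lit 9435264) (BT.leaf (nat_lit 51607053)) (BT.leaf (nat_lit 41818633)))) (BT.node (nat_lit 9435456) (BT.node (nat_lit 9435392) (BT.leaf (nat_lit 38257421)) (BT.leaf (nat_lit 47662353))) (BT.node (nat_lit 9435520) (BT.leaf (nat_lit 29717273)) (BT.leaf (nat_lit 29717277)))))))) (BT.node (nat_lit 9437504) (BT.node (nat_lit 9436480) (BT.node (nat_lit 9436032) (BT.node (nat_lit 9435776) (BT.node (nat_lit 9435652) (BT.node (nat_lit 9435648) (BT.leaf (nat_lit 31148829)) (BT.leaf (nat_lit 34869785))) (BT.node (nat_lit 9435712) (BT.leaf (nat_lit 597596)) (BT.leaf (nat_lit 32923909)))) (BT.node (nat_lit 9435904) (BT.node (nat_lit 9435840) (BT.leaf (nat_lit 27295237)) (BT.leaf (nat_lit 29776905))) (BT.node (nat_lit 9435968) (BT.leaf (nat_lit 38741277)) (BT.leaf (nat_lit 27296529))))) (BT.node (nat_lit 9436224) (BT.node (nat_lit 9436096) (BT.node (nat_lit 9436033) (BT.leaf (nat_lit 27296017)) (BT.leaf (nat_lit 764180))) (BT.node (nat_lit 9436160) (BT.leaf (nat_lit 32451597)) (BT.leaf (nat_lit 37744409)))) (BT.node (nat_lit 9436352) (BT.node (nat_lit 9436288) (BT.leaf (nat_lit 31137313)) (BT.leaf (nat_lit 40535073))) (BT.node (nat_lit 9436416) (BT.leaf (nat_lit 28073753)) (BT.leaf (nat_lit 30420229)))))) (BT.node (nat_lit 9436992) (BT.node (nat_lit 9436736) (BT.node (nat_lit 9436608) (BT.node (nat_lit 9436544) (BT.leaf (nat_lit 43128325)) (BT.leaf (nat_lit 46738705))) (BT.node (nat_lit 9436672) (BT.leaf (nat_lit 28719889)) (BT.leaf (nat_lit 51217937)))) (BT.node (nat_lit 9436864) (BT.node (nat_lit 9436800) (BT.leaf (nat_lit 28135441)) (BT.leaf (nat_lit 31101445))) (BT.node (nat_lit 9436928) (BT.leaf (nat_lit 30300937)) (BT.leaf (nat_lit 30300941))))) (BT.node (nat_lit 9437248) (BT.node (nat_lit 9437120) (BT.node (nat_lit 9437056) (BT.leaf (nat_lit 27301909)) (BT.leaf (nat_lit 30300953))) (BT.node (nat_lit 9437184) (BT.leaf (nat_lit 30300957)) (BT.leaf (nat_lit 28445717)))) (BT.node (nat_lit 9437376) (BT.node (nat_lit 9437312) (BT.leaf (nat_lit 49733905)) (BT.leaf (nat_lit 48606233))) (BT.node (nat_lit 9437440) (BT.leaf (nat_lit 31114773)) (BT.leaf (nat_lit 38271753))))))) (BT.node (nat_lit 9438528) (BT.node (nat_lit 9438016) (BT.node (nat_lit 9437760) (BT.node (nat_lit 9437632) (BT.node (nat_lit 9437568) (BT.leaf (nat_lit 51731989)) (BT.leaf (nat_lit 27629593))) (BT.node (nat_lit 9437696) (BT.leaf (nat_lit 46501401)) (BT.leaf (nat_lit 28109073)))) (BT.node (nat_lit 9437888) (BT.node (nat_lit 9437824) (BT.leaf (nat_lit 38299925)) (BT.leaf (nat_lit 27629581))) (BT.node (nat_lit 9437952) (BT.leaf (nat_lit 49740037)) (BT.leaf (nat_lit 43379717))))) (BT.node (nat_lit 9438272) (BT.node (nat_lit 9438144) (BT.node (nat_lit 9438080) (BT.leaf (nat_lit 28972065)) (BT.leaf (nat_lit 27364629))) (BT.node (nat_lit 9438208) (BT.leaf (nat_lit 38122757)) (BT.leaf (nat_lit 33412881)))) (BT.node (nat_lit 9438400) (BT.node (nat_lit 9438336) (BT.leaf (nat_lit 35169557)) (BT.leaf (nat_lit 34748945))) (BT.node (nat_lit 9438464) (BT.leaf (nat_lit 37753885)) (BT.leaf (nat_lit 38894085)))))) (BT.node (nat_lit 9439040) (BT.node (nat_lit 9438784) (BT.node (nat_lit 9438656) (BT.node (nat_lit 9438592) (BT.leaf (nat_lit 27402261)) (BT.leaf (nat_lit 38310925))) (BT.node (nat_lit 9438720) (BT.leaf (nat_lit 31421717)) (BT.leaf (nat_lit 27304465)))) (BT.node (nat_lit 9438912) (BT.node (nat_lit 9438848) (BT.leaf (nat_lit 30469657)) (BT.leaf (nat_lit 27620629))) (BT.node (nat_lit 9438976) (BT.leaf (nat_lit 27620633)) (BT.leaf (nat_lit 27620637))))) (BT.node (nat_lit 9439296) (BT.node (nat_lit 9439168) (BT.node (nat_lit 9439104) (BT.leaf (nat_lit 47333397)) (BT.leaf (nat_lit 31086613))) (BT.node (nat_lit 9439232) (BT.leaf (nat_lit 31086621)) (BT.leaf (nat_lit 35301393)))) (BT.node (nat_lit 9439424) (BT.node (nat_lit 9439360) (BT.leaf (nat_lit 37082629)) (BT.leaf (nat_lit 33838097))) (BT.node (nat_lit 9439488) (BT.leaf (nat_lit 32953117)) (BT.leaf (nat_lit 38263321))))))))) (BT.node (nat_lit 9443520) (BT.node (nat_lit 9441600) (BT.node (nat_lit 9440576) (BT.node (nat_lit 9440064) (BT.node (nat_lit 9439808) (BT.node (nat_lit 9439680) (BT.node (nat_lit 9439616) (BT.leaf (nat_lit 38263325)) (BT.leaf (nat_lit 52297757))) (BT.node (nat_lit 9439744) (BT.leaf (nat_lit 30200597)) (BT.leaf (nat_lit 30200601)))) (BT.node (nat_lit 9439936) (BT.node (nat_lit 9439872) (BT.leaf (nat_lit 30200605)) (BT.leaf (nat_lit 35973141))) (BT.node (nat_lit 9440000) (BT.leaf (nat_lit 29104913)) (BT.leaf (nat_lit 28459525))))) (BT.node (nat_lit 9440320) (BT.node (nat_lit 9440192) (BT.node (nat_lit 9440128) (BT.leaf (nat_lit 49922325)) (BT.leaf (nat_lit 40857861))) (BT.node (nat_lit 9440256) (BT.leaf (nat_lit 42035721)) (BT.leaf (nat_lit 31590689)))) (BT.node (nat_lit 9440448) (BT.node (nat_lit 9440384) (BT.leaf (nat_lit 50551317)) (BT.leaf (nat_lit 30097953))) (BT.node (nat_lit 9440512) (BT.leaf (nat_lit 47725581)) (BT.leaf (nat_lit 43807257)))))) (BT.node (nat_lit 9441088) (BT.node (nat_lit 9440832) (BT.node (nat_lit 9440704) (BT.node (nat_lit 9440640) (BT.leaf (nat_lit 30397197)) (BT.leaf (nat_lit 46710561))) (BT.node (nat_lit 9440768) (BT.leaf (nat_lit 48516869)) (BT.leaf (nat_lit 29991965)))) (BT.node (nat_lit 9440960) (BT.node (nat_lit 9440896) (BT.leaf (nat_lit 38974469)) (BT.leaf (nat_lit 35153697))) (BT.node (nat_lit 9441024) (BT.leaf (nat_lit 35277089)) (BT.leaf (nat_lit 31553313))))) (BT.node (nat_lit 9441344) (BT.node (nat_lit 9441216) (BT.node (nat_lit 9441152) (BT.leaf (nat_lit 31642389)) (BT.leaf (nat_lit 29456393))) (BT.node (nat_lit 9441280) (BT.leaf (nat_lit 43723297)) (BT.leaf (nat_lit 46417945)))) (BT.node (nat_lit 9441472) (BT.node (nat_lit 9441408) (BT.leaf (nat_lit 42867729)) (BT.leaf (nat_lit 39847201))) (BT.node (nat_lit 9441536) (BT.leaf (nat_lit 29692693)) (BT.leaf (nat_lit 39630625))))))) (BT.node (nat_lit 9442560) (BT.node (nat_lit 9442048) (BT.node (nat_lit 9441856) (BT.node (nat_lit 9441728) (BT.node (nat_lit 9441664) (BT.leaf (nat_lit 38966021)) (BT.leaf (nat_lit 28632097))) (BT.node (nat_lit 9441792) (BT.leaf (nat_lit 30774557)) (BT.leaf (nat_lit 43160341)))) (BT.node (nat_lit 9441925) (BT.node (nat_lit 9441920) (BT.leaf (nat_lit 32720405)) (BT.leaf (nat_lit 37767449))) (BT.node (nat_lit 9441984) (BT.leaf (nat_lit 658112)) (BT.leaf (nat_lit 47347217))))) (BT.node (nat_lit 9442304) (BT.node (nat_lit 9442176) (BT.node (nat_lit 9442112) (BT.leaf (nat_lit 27395857)) (BT.leaf (nat_lit 27936017))) (BT.node (nat_lit 9442240) (BT.leaf (nat_lit 30959881)) (BT.leaf (nat_lit 44418081)))) (BT.node (nat_lit 9442432) (BT.node (nat_lit 9442368) (BT.leaf (nat_lit 38038025)) (BT.leaf (nat_lit 27812885))) (BT.node (nat_lit 9442496) (BT.leaf (nat_lit 40175621)) (BT.leaf (nat_lit 38994977)))))) (BT.node (nat_lit 9443008) (BT.node (nat_lit 9442816) (BT.node (nat_lit 9442688) (BT.node (nat_lit 9442624) (BT.leaf (nat_lit 34851597)) (BT.leaf (nat_lit 32964641))) (BT.node (nat_lit 9442752) (BT.leaf (nat_lit 27311881)) (BT.leaf (nat_lit 31514401)))) (BT.node (nat_lit 9442880) (BT.node (nat_lit 9442821) (BT.leaf (nat_lit 42959877)) (BT.leaf (nat_lit 754508))) (BT.node (nat_lit 9442944) (BT.leaf (nat_lit 27673121)) (BT.leaf (nat_lit 29112597))))) (BT.node (nat_lit 9443264) (BT.node (nat_lit 9443136) (BT.node (nat_lit 9443072) (BT.leaf (nat_lit 29017873)) (BT.leaf (nat_lit 31522593))) (BT.node (nat_lit 9443200) (BT.leaf (nat_lit 27443225)) (BT.leaf (nat_lit 37705489)))) (BT.node (nat_lit 9443392) (BT.node (nat_lit 9443328) (BT.leaf (nat_lit 29860881)) (BT.leaf (nat_lit 42234141))) (BT.node (nat_lit 9443456) (BT.leaf (nat_lit 34264345)) (BT.leaf (nat_lit 28985361)))))))) (BT.node (nat_lit 9445312) (BT.node (nat_lit 9444544) (BT.node (nat_lit 9444032) (BT.node (nat_lit 9443776) (BT.node (nat_lit 9443648) (BT.node (nat_lit 9443584) (BT.leaf (nat_lit 46336277)) (BT.leaf (nat_lit 27906577))) (BT.node (nat_lit 9443712) (BT.leaf (nat_lit 28662277)) (BT.leaf (nat_lit 36331285)))) (BT.node (nat_lit 9443904) (BT.node (nat_lit 9443840) (BT.leaf (nat_lit 31783697)) (BT.leaf (nat_lit 31782929))) (BT.node (nat_lit 9443968) (BT.leaf (nat_lit 43396373)) (BT.leaf (nat_lit 27890449))))) (BT.node (nat_lit 9444288) (BT.node (nat_lit 9444160) (BT.node (nat_lit 9444096) (BT.leaf (nat_lit 30075169)) (BT.leaf (nat_lit 30071829))) (BT.node (nat_lit 9444224) (BT.leaf (nat_lit 30071833)) (BT.leaf (nat_lit 30071837)))) (BT.node (nat_lit 9444416) (BT.node (nat_lit 9444352) (BT.leaf (nat_lit 36523805)) (BT.leaf (nat_lit 38352657))) (BT.node (nat_lit 9444480) (BT.leaf (nat_lit 33195537)) (BT.leaf (nat_lit 27316241)))))) (BT.node (nat_lit 9444929) (BT.node (nat_lit 9444736) (BT.node (nat_lit 9444608) (BT.node (nat_lit 9444545) (BT.leaf (nat_lit 41320729)) (BT.leaf (nat_lit 757156))) (BT.node (nat_lit 9444672) (BT.leaf (nat_lit 31074329)) (BT.leaf (nat_lit 31074333)))) (BT.node (nat_lit 9444864) (BT.node (nat_lit 9444800) (BT.leaf (nat_lit 42662917)) (BT.leaf (nat_lit 33047569))) (BT.node (nat_lit 9444928) (BT.leaf (nat_lit 46633501)) (BT.leaf (nat_lit 41406749))))) (BT.node (nat_lit 9445064) (BT.node (nat_lit 9444992) (BT.node (nat_lit 9444930) (BT.leaf (nat_lit 782652)) (BT.leaf (nat_lit 782652))) (BT.node (nat_lit 9445056) (BT.leaf (nat_lit 46633481)) (BT.leaf (nat_lit 30246413)))) (BT.node (nat_lit 9445184) (BT.node (nat_lit 9445120) (BT.leaf (nat_lit 601580)) (BT.leaf (nat_lit 33579041))) (BT.node (nat_lit 9445248) (BT.leaf (nat_lit 41569541)) (BT.leaf (nat_lit 41569565))))))) (BT.node (nat_lit 9446272) (BT.node (nat_lit 9445824) (BT.node (nat_lit 9445568) (BT.node (nat_lit 9445440) (BT.node (nat_lit 9445376) (BT.leaf (nat_lit 50981901)) (BT.leaf (nat_lit 30867485))) (BT.node (nat_lit 9445504) (BT.leaf (nat_lit 30173717)) (BT.leaf (nat_lit 44172053)))) (BT.node (nat_lit 9445696) (BT.node (nat_lit 9445632) (BT.leaf (nat_lit 37782041)) (BT.leaf (nat_lit 27421469))) (BT.node (nat_lit 9445760) (BT.leaf (nat_lit 46380817)) (BT.leaf (nat_lit 51460629))))) (BT.node (nat_lit 9446016) (BT.node (nat_lit 9445952) (BT.node (nat_lit 9445888) (BT.leaf (nat_lit 28861209)) (BT.leaf (nat_lit 28861213))) (BT.node (nat_lit 9445958) (BT.leaf (nat_lit 28032529)) (BT.leaf (nat_lit 608704)))) (BT.node (nat_lit 9446144) (BT.node (nat_lit 9446080) (BT.leaf (nat_lit 27443737)) (BT.leaf (nat_lit 27443741))) (BT.node (nat_lit 9446208) (BT.leaf (nat_lit 27320337)) (BT.leaf (nat_lit 50330141)))))) (BT.node (nat_lit 9446784) (BT.node (nat_lit 9446528) (BT.node (nat_lit 9446400) (BT.node (nat_lit 9446336) (BT.leaf (nat_lit 33984285)) (BT.leaf (nat_lit 46884885))) (BT.node (nat_lit 9446464) (BT.leaf (nat_lit 33984265)) (BT.leaf (nat_lit 37785625)))) (BT.node (nat_lit 9446656) (BT.node (nat_lit 9446592) (BT.leaf (nat_lit 48240917)) (BT.leaf (nat_lit 27315225))) (BT.node (nat_lit 9446720) (BT.leaf (nat_lit 31501845)) (BT.leaf (nat_lit 46884869))))) (BT.node (nat_lit 9447040) (BT.node (nat_lit 9446912) (BT.node (nat_lit 9446848) (BT.leaf (nat_lit 46884889)) (BT.leaf (nat_lit 46884893))) (BT.node (nat_lit 9446976) (BT.leaf (nat_lit 34761501)) (BT.leaf (nat_lit 36196621)))) (BT.node (nat_lit 9447168) (BT.node (nat_lit 9447104) (BT.leaf (nat_lit 31734049)) (BT.leaf (nat_lit 31129361))) (BT.node (nat_lit 9447232) (BT.leaf (nat_lit 45169933)) (BT.leaf (nat_lit 37788697)))))))))) (BT.node (nat_lit 9455424) (BT.node (nat_lit 9451392) (BT.node (nat_lit 9449344) (BT.node (nat_lit 9448320) (BT.node (nat_lit 9447808) (BT.node (nat_lit 9447552) (BT.node (nat_lit 9447424) (BT.node (nat_lit 9447360) (BT.leaf (nat_lit 27974429)) (BT.leaf (nat_lit 42188569))) (BT.node (nat_lit 9447488) (BT.leaf (nat_lit 27412497)) (BT.leaf (nat_lit 27412513)))) (BT.node (nat_lit 9447680) (BT.node (nat_lit 9447616) (BT.leaf (nat_lit 29913353)) (BT.leaf (nat_lit 40155653))) (BT.node (nat_lit 9447744) (BT.leaf (nat_lit 34104593)) (BT.leaf (nat_lit 28029213))))) (BT.node (nat_lit 9448064) (BT.node (nat_lit 9447936) (BT.node (nat_lit 9447872) (BT.leaf (nat_lit 34104849)) (BT.leaf (nat_lit 41063441))) (BT.node (nat_lit 9448000) (BT.leaf (nat_lit 31941133)) (BT.leaf (nat_lit 44684805)))) (BT.node (nat_lit 9448192) (BT.node (nat_lit 9448128) (BT.leaf (nat_lit 37793813)) (BT.leaf (nat_lit 37794337))) (BT.node (nat_lit 9448256) (BT.leaf (nat_lit 43008289)) (BT.leaf (nat_lit 37793293)))))) (BT.node (nat_lit 9448832) (BT.node (nat_lit 9448576) (BT.node (nat_lit 9448448) (BT.node (nat_lit 9448384) (BT.leaf (nat_lit 46620437)) (BT.leaf (nat_lit 31061785))) (BT.node (nat_lit 9448512) (BT.leaf (nat_lit 40743713)) (BT.leaf (nat_lit 46620697)))) (BT.node (nat_lit 9448704) (BT.node (nat_lit 9448640) (BT.leaf (nat_lit 31061789)) (BT.leaf (nat_lit 43653125))) (BT.node (nat_lit 9448768) (BT.leaf (nat_lit 31481877)) (BT.leaf (nat_lit 32931873))))) (BT.node (nat_lit 9449088) (BT.node (nat_lit 9448960) (BT.node (nat_lit 9448896) (BT.leaf (nat_lit 46401033)) (BT.leaf (nat_lit 28842517))) (BT.node (nat_lit 9449024) (BT.leaf (nat_lit 27522569)) (BT.leaf (nat_lit 27522573)))) (BT.node (nat_lit 9449216) (BT.node (nat_lit 9449152) (BT.leaf (nat_lit 27522577)) (BT.leaf (nat_lit 27522585))) (BT.node (nat_lit 9449280) (BT.leaf (nat_lit 27522589)) (BT.leaf (nat_lit 31680277))))))) (BT.node (nat_lit 9450368) (BT.node (nat_lit 9449856) (BT.node (nat_lit 9449600) (BT.node (nat_lit 9449472) (BT.node (nat_lit 9449408) (BT.leaf (nat_lit 33049885)) (BT.leaf (nat_lit 47859721))) (BT.node (nat_lit 9449536) (BT.leaf (nat_lit 27524373)) (BT.leaf (nat_lit 27327769)))) (BT.node (nat_lit 9449728) (BT.node (nat_lit 9449664) (BT.leaf (nat_lit 37712417)) (BT.leaf (nat_lit 37712901))) (BT.node (nat_lit 9449792) (BT.leaf (nat_lit 29505545)) (BT.leaf (nat_lit 29505549))))) (BT.node (nat_lit 9450112) (BT.node (nat_lit 9449984) (BT.node (nat_lit 9449920) (BT.leaf (nat_lit 29505553)) (BT.leaf (nat_lit 29505561))) (BT.node (nat_lit 9450048) (BT.leaf (nat_lit 34325781)) (BT.leaf (nat_lit 34057753)))) (BT.node (nat_lit 9450240) (BT.node (nat_lit 9450176) (BT.leaf (nat_lit 48305937)) (BT.leaf (nat_lit 38051857))) (BT.node (nat_lit 9450304) (BT.leaf (nat_lit 29505817)) (BT.leaf (nat_lit 29505821)))))) (BT.node (nat_lit 9450880) (BT.node (nat_lit 9450624) (BT.node (nat_lit 9450496) (BT.node (nat_lit 9450432) (BT.leaf (nat_lit 31047457)) (BT.leaf (nat_lit 46207521))) (BT.node (nat_lit 9450560) (BT.leaf (nat_lit 38917129)) (BT.leaf (nat_lit 43655445)))) (BT.node (nat_lit 9450752) (BT.node (nat_lit 9450688) (BT.leaf (nat_lit 38609177)) (BT.leaf (nat_lit 42028313))) (BT.node (nat_lit 9450816) (BT.leaf (nat_lit 33949717)) (BT.leaf (nat_lit 29911581))))) (BT.node (nat_lit 9451136) (BT.node (nat_lit 9451008) (BT.node (nat_lit 9450944) (BT.leaf (nat_lit 29911561)) (BT.leaf (nat_lit 46595341))) (BT.node (nat_lit 9451072) (BT.leaf (nat_lit 27981345)) (BT.leaf (nat_lit 38661665)))) (BT.node (nat_lit 9451264) (BT.node (nat_lit 9451200) (BT.leaf (nat_lit 29256213)) (BT.leaf (nat_lit 42413061))) (BT.node (nat_lit 9451328) (BT.leaf (nat_lit 41835541)) (BT.leaf (nat_lit 41835549)))))))) (BT.node (nat_lit 9453376) (BT.node (nat_lit 9452416) (BT.node (nat_lit 9451904) (BT.node (nat_lit 9451648) (BT.node (nat_lit 9451520) (BT.node (nat_lit 9451456) (BT.leaf (nat_lit 49369377)) (BT.leaf (nat_lit 38000153))) (BT.node (nat_lit 9451584) (BT.leaf (nat_lit 38923781)) (BT.leaf (nat_lit 29480977)))) (BT.node (nat_lit 9451776) (BT.node (nat_lit 9451712) (BT.leaf (nat_lit 32353813)) (BT.leaf (nat_lit 38320153))) (BT.node (nat_lit 9451840) (BT.leaf (nat_lit 31939853)) (BT.leaf (nat_lit 31343885))))) (BT.node (nat_lit 9452160) (BT.node (nat_lit 9452032) (BT.node (nat_lit 9451968) (BT.leaf (nat_lit 42861585)) (BT.leaf (nat_lit 27331105))) (BT.node (nat_lit 9452096) (BT.leaf (nat_lit 46710041)) (BT.leaf (nat_lit 41297421)))) (BT.node (nat_lit 9452288) (BT.node (nat_lit 9452224) (BT.leaf (nat_lit 40589589)) (BT.leaf (nat_lit 41057049))) (BT.node (nat_lit 9452352) (BT.leaf (nat_lit 41057053)) (BT.leaf (nat_lit 50293253)))))) (BT.node (nat_lit 9452864) (BT.node (nat_lit 9452609) (BT.node (nat_lit 9452544) (BT.node (nat_lit 9452480) (BT.leaf (nat_lit 47685125)) (BT.leaf (nat_lit 32680217))) (BT.node (nat_lit 9452608) (BT.leaf (nat_lit 35579669)) (BT.leaf (nat_lit 40862497)))) (BT.node (nat_lit 9452736) (BT.node (nat_lit 9452672) (BT.leaf (nat_lit 794864)) (BT.leaf (nat_lit 50327065))) (BT.node (nat_lit 9452800) (BT.leaf (nat_lit 27332381)) (BT.leaf (nat_lit 29247517))))) (BT.node (nat_lit 9453120) (BT.node (nat_lit 9452992) (BT.node (nat_lit 9452928) (BT.leaf (nat_lit 46217761)) (BT.leaf (nat_lit 33979933))) (BT.node (nat_lit 9453056) (BT.leaf (nat_lit 31509269)) (BT.leaf (nat_lit 48488965)))) (BT.node (nat_lit 9453248) (BT.node (nat_lit 9453184) (BT.leaf (nat_lit 27834641)) (BT.leaf (nat_lit 28671513))) (BT.node (nat_lit 9453312) (BT.leaf (nat_lit 27333405)) (BT.leaf (nat_lit 41226773))))))) (BT.node (nat_lit 9454400) (BT.node (nat_lit 9453888) (BT.node (nat_lit 9453632) (BT.node (nat_lit 9453504) (BT.node (nat_lit 9453440) (BT.leaf (nat_lit 29966869)) (BT.leaf (nat_lit 37813513))) (BT.node (nat_lit 9453568) (BT.leaf (nat_lit 33054997)) (BT.leaf (nat_lit 47762453)))) (BT.node (nat_lit 9453760) (BT.node (nat_lit 9453696) (BT.leaf (nat_lit 47763465)) (BT.leaf (nat_lit 34460697))) (BT.node (nat_lit 9453824) (BT.leaf (nat_lit 28404501)) (BT.leaf (nat_lit 30750981))))) (BT.node (nat_lit 9454144) (BT.node (nat_lit 9454016) (BT.node (nat_lit 9453952) (BT.leaf (nat_lit 29968397)) (BT.leaf (nat_lit 41497889))) (BT.node (nat_lit 9454080) (BT.leaf (nat_lit 46476297)) (BT.leaf (nat_lit 48561953)))) (BT.node (nat_lit 9454272) (BT.node (nat_lit 9454208) (BT.leaf (nat_lit 48482329)) (BT.leaf (nat_lit 37816581))) (BT.node (nat_lit 9454336) (BT.leaf (nat_lit 29703429)) (BT.leaf (nat_lit 29039621)))))) (BT.node (nat_lit 9454912) (BT.node (nat_lit 9454656) (BT.node (nat_lit 9454528) (BT.node (nat_lit 9454464) (BT.leaf (nat_lit 30597897)) (BT.leaf (nat_lit 39646213))) (BT.node (nat_lit 9454592) (BT.leaf (nat_lit 27334929)) (BT.leaf (nat_lit 50621729)))) (BT.node (nat_lit 9454784) (BT.node (nat_lit 9454720) (BT.leaf (nat_lit 46604317)) (BT.leaf (nat_lit 32055325))) (BT.node (nat_lit 9454848) (BT.leaf (nat_lit 32055305)) (BT.leaf (nat_lit 37819161))))) (BT.node (nat_lit 9455168) (BT.node (nat_lit 9455040) (BT.node (nat_lit 9454976) (BT.leaf (nat_lit 45286933)) (BT.leaf (nat_lit 30205205))) (BT.node (nat_lit 9455104) (BT.leaf (nat_lit 27335697)) (BT.leaf (nat_lit 27335441)))) (BT.node (nat_lit 9455296) (BT.node (nat_lit 9455232) (BT.leaf (nat_lit 27828245)) (BT.leaf (nat_lit 46053409))) (BT.node (nat_lit 9455360) (BT.leaf (nat_lit 41088009)) (BT.leaf (nat_lit 31226373))))))))) (BT.node (nat_lit 9459328) (BT.node (nat_lit 9457280) (BT.node (nat_lit 9456256) (BT.node (nat_lit 9455936) (BT.node (nat_lit 9455680) (BT.node (nat_lit 9455552) (BT.node (nat_lit 9455488) (BT.leaf (nat_lit 43935509)) (BT.leaf (nat_lit 30423573))) (BT.node (nat_lit 9455616) (BT.leaf (nat_lit 46195461)) (BT.leaf (nat_lit 27336469)))) (BT.node (nat_lit 9455808) (BT.node (nat_lit 9455744) (BT.leaf (nat_lit 34500641)) (BT.leaf (nat_lit 37981457))) (BT.node (nat_lit 9455872) (BT.leaf (nat_lit 38545161)) (BT.leaf (nat_lit 44764957))))) (BT.node (nat_lit 9456071) (BT.node (nat_lit 9456064) (BT.node (nat_lit 9456000) (BT.leaf (nat_lit 32360717)) (BT.leaf (nat_lit 28350225))) (BT.node (nat_lit 9456069) (BT.leaf (nat_lit 28209681)) (BT.leaf (nat_lit 731328)))) (BT.node (nat_lit 9456192) (BT.node (nat_lit 9456128) (BT.leaf (nat_lit 731328)) (BT.leaf (nat_lit 46957329))) (BT.node (nat_lit 9456199) (BT.leaf (nat_lit 37734661)) (BT.leaf (nat_lit 658084)))))) (BT.node (nat_lit 9456768) (BT.node (nat_lit 9456512) (BT.node (nat_lit 9456384) (BT.node (nat_lit 9456320) (BT.leaf (nat_lit 45018649)) (BT.leaf (nat_lit 32061717))) (BT.node (nat_lit 9456448) (BT.leaf (nat_lit 52220193)) (BT.leaf (nat_lit 46875673)))) (BT.node (nat_lit 9456640) (BT.node (nat_lit 9456576) (BT.leaf (nat_lit 38945797)) (BT.leaf (nat_lit 39436813))) (BT.node (nat_lit 9456704) (BT.leaf (nat_lit 32627717)) (BT.leaf (nat_lit 32924949))))) (BT.node (nat_lit 9457024) (BT.node (nat_lit 9456896) (BT.node (nat_lit 9456832) (BT.leaf (nat_lit 38213909)) (BT.leaf (nat_lit 31333125))) (BT.node (nat_lit 9456960) (BT.leaf (nat_lit 31414277)) (BT.leaf (nat_lit 51623693)))) (BT.node (nat_lit 9457152) (BT.node (nat_lit 9457088) (BT.leaf (nat_lit 32730649)) (BT.leaf (nat_lit 51623709))) (BT.node (nat_lit 9457216) (BT.leaf (nat_lit 43378457)) (BT.leaf (nat_lit 31582737))))))) (BT.node (nat_lit 9458304) (BT.node (nat_lit 9457792) (BT.node (nat_lit 9457536) (BT.node (nat_lit 9457408) (BT.node (nat_lit 9457344) (BT.leaf (nat_lit 32942093)) (BT.leaf (nat_lit 48710673))) (BT.node (nat_lit 9457472) (BT.leaf (nat_lit 32710425)) (BT.leaf (nat_lit 31441669)))) (BT.node (nat_lit 9457664) (BT.node (nat_lit 9457600) (BT.leaf (nat_lit 27573273)) (BT.leaf (nat_lit 48100613))) (BT.node (nat_lit 9457728) (BT.leaf (nat_lit 38957849)) (BT.leaf (nat_lit 38805001))))) (BT.node (nat_lit 9458048) (BT.node (nat_lit 9457920) (BT.node (nat_lit 9457856) (BT.leaf (nat_lit 38410245)) (BT.leaf (nat_lit 31386133))) (BT.node (nat_lit 9457984) (BT.leaf (nat_lit 38413849)) (BT.leaf (nat_lit 48090141)))) (BT.node (nat_lit 9458176) (BT.node (nat_lit 9458112) (BT.leaf (nat_lit 30875409)) (BT.leaf (nat_lit 32512017))) (BT.node (nat_lit 9458240) (BT.leaf (nat_lit 34978321)) (BT.leaf (nat_lit 47238149)))))) (BT.node (nat_lit 9458816) (BT.node (nat_lit 9458560) (BT.node (nat_lit 9458432) (BT.node (nat_lit 9458368) (BT.leaf (nat_lit 35728661)) (BT.leaf (nat_lit 38813713))) (BT.node (nat_lit 9458496) (BT.leaf (nat_lit 29178633)) (BT.leaf (nat_lit 46893321)))) (BT.node (nat_lit 9458688) (BT.node (nat_lit 9458624) (BT.leaf (nat_lit 37953289)) (BT.leaf (nat_lit 47527961))) (BT.node (nat_lit 9458752) (BT.leaf (nat_lit 32419589)) (BT.leaf (nat_lit 28528137))))) (BT.node (nat_lit 9459072) (BT.node (nat_lit 9458944) (BT.node (nat_lit 9458880) (BT.leaf (nat_lit 37835033)) (BT.leaf (nat_lit 31321617))) (BT.node (nat_lit 9459008) (BT.leaf (nat_lit 27345937)) (BT.leaf (nat_lit 49481753)))) (BT.node (nat_lit 9459200) (BT.node (nat_lit 9459136) (BT.leaf (nat_lit 27347985)) (BT.leaf (nat_lit 27347729))) (BT.node (nat_lit 9459264) (BT.leaf (nat_lit 37837085)) (BT.leaf (nat_lit 38629397)))))))) (BT.node (nat_lit 9461184) (BT.node (nat_lit 9460224) (BT.node (nat_lit 9459776) (BT.node (nat_lit 9459584) (BT.node (nat_lit 9459456) (BT.node (nat_lit 9459392) (BT.leaf (nat_lit 31628321)) (BT.leaf (nat_lit 32185621))) (BT.node (nat_lit 9459520) (BT.leaf (nat_lit 35084305)) (BT.leaf (nat_lit 41072405)))) (BT.node (nat_lit 9459648) (BT.node (nat_lit 9459589) (BT.leaf (nat_lit 28864289)) (BT.leaf (nat_lit 727796))) (BT.node (nat_lit 9459712) (BT.leaf (nat_lit 47022853)) (BT.leaf (nat_lit 38097925))))) (BT.node (nat_lit 9459968) (BT.node (nat_lit 9459840) (BT.node (nat_lit 9459781) (BT.leaf (nat_lit 39301389)) (BT.leaf (nat_lit 773068))) (BT.node (nat_lit 9459904) (BT.leaf (nat_lit 49476641)) (BT.leaf (nat_lit 46636821)))) (BT.node (nat_lit 9460096) (BT.node (nat_lit 9460032) (BT.leaf (nat_lit 36750113)) (BT.leaf (nat_lit 43808533))) (BT.node (nat_lit 9460160) (BT.leaf (nat_lit 50199585)) (BT.leaf (nat_lit 51829769)))))) (BT.node (nat_lit 9460736) (BT.node (nat_lit 9460480) (BT.node (nat_lit 9460352) (BT.node (nat_lit 9460288) (BT.leaf (nat_lit 33288213)) (BT.leaf (nat_lit 39802125))) (BT.node (nat_lit 9460416) (BT.leaf (nat_lit 34933781)) (BT.leaf (nat_lit 51435273)))) (BT.node (nat_lit 9460608) (BT.node (nat_lit 9460544) (BT.leaf (nat_lit 43916305)) (BT.leaf (nat_lit 43427593))) (BT.node (nat_lit 9460672) (BT.leaf (nat_lit 31965189)) (BT.leaf (nat_lit 32347409))))) (BT.node (nat_lit 9460992) (BT.node (nat_lit 9460864) (BT.node (nat_lit 9460800) (BT.leaf (nat_lit 27847701)) (BT.leaf (nat_lit 39801865))) (BT.node (nat_lit 9460928) (BT.leaf (nat_lit 30206989)) (BT.leaf (nat_lit 27603217)))) (BT.node (nat_lit 9461061) (BT.node (nat_lit 9461056) (BT.leaf (nat_lit 39645461)) (BT.leaf (nat_lit 39062025))) (BT.node (nat_lit 9461120) (BT.leaf (nat_lit 628948)) (BT.leaf (nat_lit 37844249))))))) (BT.node (nat_lit 9462208) (BT.node (nat_lit 9461696) (BT.node (nat_lit 9461440) (BT.node (nat_lit 9461312) (BT.node (nat_lit 9461248) (BT.leaf (nat_lit 42087189)) (BT.leaf (nat_lit 40646417))) (BT.node (nat_lit 9461376) (BT.leaf (nat_lit 39919109)) (BT.leaf (nat_lit 28101397)))) (BT.node (nat_lit 9461568) (BT.node (nat_lit 9461504) (BT.leaf (nat_lit 48811037)) (BT.leaf (nat_lit 35233553))) (BT.node (nat_lit 9461632) (BT.leaf (nat_lit 31328789)) (BT.leaf (nat_lit 31328793))))) (BT.node (nat_lit 9461952) (BT.node (nat_lit 9461824) (BT.node (nat_lit 9461760) (BT.leaf (nat_lit 31328797)) (BT.leaf (nat_lit 46737929))) (BT.node (nat_lit 9461888) (BT.leaf (nat_lit 35442189)) (BT.leaf (nat_lit 46940961)))) (BT.node (nat_lit 9462080) (BT.node (nat_lit 9462016) (BT.leaf (nat_lit 51154453)) (BT.leaf (nat_lit 32325409))) (BT.node (nat_lit 9462144) (BT.leaf (nat_lit 35031557)) (BT.leaf (nat_lit 29765637)))))) (BT.node (nat_lit 9462720) (BT.node (nat_lit 9462464) (BT.node (nat_lit 9462336) (BT.node (nat_lit 9462272) (BT.leaf (nat_lit 31780129)) (BT.leaf (nat_lit 42758421))) (BT.node (nat_lit 9462400) (BT.leaf (nat_lit 31942669)) (BT.leaf (nat_lit 27532049)))) (BT.node (nat_lit 9462592) (BT.node (nat_lit 9462528) (BT.leaf (nat_lit 44883465)) (BT.leaf (nat_lit 39823109))) (BT.node (nat_lit 9462656) (BT.leaf (nat_lit 32951841)) (BT.leaf (nat_lit 39924997))))) (BT.node (nat_lit 9462976) (BT.node (nat_lit 9462848) (BT.node (nat_lit 9462784) (BT.leaf (nat_lit 39437317)) (BT.leaf (nat_lit 44321565))) (BT.node (nat_lit 9462912) (BT.leaf (nat_lit 32554769)) (BT.leaf (nat_lit 27832597)))) (BT.node (nat_lit 9463104) (BT.node (nat_lit 9463040) (BT.leaf (nat_lit 28456225)) (BT.leaf (nat_lit 30742049))) (BT.node (nat_lit 9463168) (BT.leaf (nat_lit 46645277)) (BT.leaf (nat_lit 27364369)))))))))))) (BT.node (nat_lit 9494213) (BT.node (nat_lit 9478848) (BT.node (nat_lit 9471296) (BT.node (nat_lit 9467328) (BT.node (nat_lit 9465280) (BT.node (nat_lit 9464256) (BT.node (nat_lit 9463744) (BT.node (nat_lit 9463488) (BT.node (nat_lit 9463360) (BT.node (nat_lit 9463296) (BT.leaf (nat_lit 27364625)) (BT.leaf (nat_lit 31594529))) (BT.node (nat_lit 9463424) (BT.leaf (nat_lit 27793177)) (BT.leaf (nat_lit 27793181)))) (BT.node (nat_lit 9463616) (BT.node (nat_lit 9463552) (BT.leaf (nat_lit 49185285)) (BT.leaf (nat_lit 38983457))) (BT.node (nat_lit 9463680) (BT.leaf (nat_lit 38983201)) (BT.leaf (nat_lit 36839197))))) (BT.node (nat_lit 9464000) (BT.node (nat_lit 9463872) (BT.node (nat_lit 9463808) (BT.leaf (nat_lit 29169941)) (BT.leaf (nat_lit 41197333))) (BT.node (nat_lit 9463936) (BT.leaf (nat_lit 28196105)) (BT.leaf (nat_lit 43747873)))) (BT.node (nat_lit 9464128) (BT.node (nat_lit 9464064) (BT.leaf (nat_lit 49384453)) (BT.leaf (nat_lit 31637281))) (BT.node (nat_lit 9464192) (BT.leaf (nat_lit 30480905)) (BT.leaf (nat_lit 30480909)))))) (BT.node (nat_lit 9464768) (BT.node (nat_lit 9464512) (BT.node (nat_lit 9464384) (BT.node (nat_lit 9464320) (BT.leaf (nat_lit 27367189)) (BT.leaf (nat_lit 44150045))) (BT.node (nat_lit 9464448) (BT.leaf (nat_lit 27623177)) (BT.leaf (nat_lit 34455833)))) (BT.node (nat_lit 9464640) (BT.node (nat_lit 9464576) (BT.leaf (nat_lit 43532053)) (BT.leaf (nat_lit 46756617))) (BT.node (nat_lit 9464704) (BT.leaf (nat_lit 38117665)) (BT.leaf (nat_lit 30369557))))) (BT.node (nat_lit 9465024) (BT.node (nat_lit 9464896) (BT.node (nat_lit 9464832) (BT.leaf (nat_lit 29174541)) (BT.leaf (nat_lit 47304973))) (BT.node (nat_lit 9464960) (BT.leaf (nat_lit 29525269)) (BT.leaf (nat_lit 32833305)))) (BT.node (nat_lit 9465152) (BT.node (nat_lit 9465088) (BT.leaf (nat_lit 31639841)) (BT.leaf (nat_lit 40352017))) (BT.node (nat_lit 9465216) (BT.leaf (nat_lit 39278093)) (BT.leaf (nat_lit 37860633))))))) (BT.node (nat_lit 9466304) (BT.node (nat_lit 9465792) (BT.node (nat_lit 9465536) (BT.node (nat_lit 9465408) (BT.node (nat_lit 9465344) (BT.leaf (nat_lit 39263761)) (BT.leaf (nat_lit 39725849))) (BT.node (nat_lit 9465472) (BT.leaf (nat_lit 39277581)) (BT.leaf (nat_lit 38082849)))) (BT.node (nat_lit 9465664) (BT.node (nat_lit 9465600) (BT.leaf (nat_lit 28879893)) (BT.leaf (nat_lit 34698785))) (BT.node (nat_lit 9465728) (BT.leaf (nat_lit 32198917)) (BT.leaf (nat_lit 44367877))))) (BT.node (nat_lit 9466048) (BT.node (nat_lit 9465920) (BT.node (nat_lit 9465856) (BT.leaf (nat_lit 48855561)) (BT.leaf (nat_lit 31394825))) (BT.node (nat_lit 9465984) (BT.leaf (nat_lit 28231197)) (BT.leaf (nat_lit 51399201)))) (BT.node (nat_lit 9466176) (BT.node (nat_lit 9466112) (BT.leaf (nat_lit 28231177)) (BT.leaf (nat_lit 39273237))) (BT.node (nat_lit 9466240) (BT.leaf (nat_lit 31394849)) (BT.leaf (nat_lit 27530261)))))) (BT.node (nat_lit 9466816) (BT.node (nat_lit 9466560) (BT.node (nat_lit 9466432) (BT.node (nat_lit 9466368) (BT.leaf (nat_lit 31662613)) (BT.leaf (nat_lit 43655429))) (BT.node (nat_lit 9466496) (BT.leaf (nat_lit 46817561)) (BT.leaf (nat_lit 46817301)))) (BT.node (nat_lit 9466688) (BT.node (nat_lit 9466624) (BT.leaf (nat_lit 28231433)) (BT.leaf (nat_lit 46817549))) (BT.node (nat_lit 9466752) (BT.leaf (nat_lit 46535189)) (BT.leaf (nat_lit 27702037))))) (BT.node (nat_lit 9467072) (BT.node (nat_lit 9466944) (BT.node (nat_lit 9466880) (BT.leaf (nat_lit 27368977)) (BT.leaf (nat_lit 33014289))) (BT.node (nat_lit 9467008) (BT.leaf (nat_lit 48577045)) (BT.leaf (nat_lit 28298005)))) (BT.node (nat_lit 9467200) (BT.node (nat_lit 9467136) (BT.leaf (nat_lit 28029721)) (BT.leaf (nat_lit 31204629))) (BT.node (nat_lit 9467264) (BT.leaf (nat_lit 43838997)) (BT.leaf (nat_lit 32428321)))))))) (BT.node (nat_lit 9469312) (BT.node (nat_lit 9468288) (BT.node (nat_lit 9467840) (BT.node (nat_lit 9467584) (BT.node (nat_lit 9467456) (BT.node (nat_lit 9467392) (BT.leaf (nat_lit 28206601)) (BT.leaf (nat_lit 28292625))) (BT.node (nat_lit 9467520) (BT.leaf (nat_lit 48536865)) (BT.leaf (nat_lit 30014737)))) (BT.node (nat_lit 9467712) (BT.node (nat_lit 9467648) (BT.leaf (nat_lit 43323937)) (BT.leaf (nat_lit 35368481))) (BT.node (nat_lit 9467776) (BT.leaf (nat_lit 30715397)) (BT.leaf (nat_lit 45211157))))) (BT.node (nat_lit 9468032) (BT.node (nat_lit 9467908) (BT.node (nat_lit 9467904) (BT.leaf (nat_lit 29841941)) (BT.leaf (nat_lit 38699285))) (BT.node (nat_lit 9467968) (BT.leaf (nat_lit 696928)) (BT.leaf (nat_lit 29878541)))) (BT.node (nat_lit 9468160) (BT.node (nat_lit 9468096) (BT.leaf (nat_lit 44344865)) (BT.leaf (nat_lit 30335249))) (BT.node (nat_lit 9468224) (BT.leaf (nat_lit 38439185)) (BT.leaf (nat_lit 31695393)))))) (BT.node (nat_lit 9468800) (BT.node (nat_lit 9468544) (BT.node (nat_lit 9468416) (BT.node (nat_lit 9468352) (BT.leaf (nat_lit 42120993)) (BT.leaf (nat_lit 39929605))) (BT.node (nat_lit 9468480) (BT.leaf (nat_lit 45604869)) (BT.leaf (nat_lit 27375377)))) (BT.node (nat_lit 9468672) (BT.node (nat_lit 9468608) (BT.leaf (nat_lit 41431317)) (BT.leaf (nat_lit 27438109))) (BT.node (nat_lit 9468736) (BT.leaf (nat_lit 50762769)) (BT.leaf (nat_lit 45892625))))) (BT.node (nat_lit 9469056) (BT.node (nat_lit 9468928) (BT.node (nat_lit 9468864) (BT.leaf (nat_lit 29284641)) (BT.leaf (nat_lit 47176457))) (BT.node (nat_lit 9468992) (BT.leaf (nat_lit 41912861)) (BT.leaf (nat_lit 50319389)))) (BT.node (nat_lit 9469184) (BT.node (nat_lit 9469120) (BT.leaf (nat_lit 29894413)) (BT.leaf (nat_lit 46753309))) (BT.node (nat_lit 9469248) (BT.leaf (nat_lit 49044513)) (BT.leaf (nat_lit 49044001))))))) (BT.node (nat_lit 9470336) (BT.node (nat_lit 9469824) (BT.node (nat_lit 9469568) (BT.node (nat_lit 9469440) (BT.node (nat_lit 9469376) (BT.leaf (nat_lit 49482785)) (BT.leaf (nat_lit 40160533))) (BT.node (nat_lit 9469504) (BT.leaf (nat_lit 38297885)) (BT.leaf (nat_lit 32552709)))) (BT.node (nat_lit 9469696) (BT.node (nat_lit 9469632) (BT.leaf (nat_lit 44625441)) (BT.leaf (nat_lit 42363409))) (BT.node (nat_lit 9469760) (BT.leaf (nat_lit 39727377)) (BT.leaf (nat_lit 41851141))))) (BT.node (nat_lit 9470080) (BT.node (nat_lit 9469952) (BT.node (nat_lit 9469888) (BT.leaf (nat_lit 41852421)) (BT.leaf (nat_lit 28129801))) (BT.node (nat_lit 9470016) (BT.leaf (nat_lit 37065989)) (BT.leaf (nat_lit 46675233)))) (BT.node (nat_lit 9470208) (BT.node (nat_lit 9470144) (BT.leaf (nat_lit 51390725)) (BT.leaf (nat_lit 28129821))) (BT.node (nat_lit 9470272) (BT.leaf (nat_lit 29761301)) (BT.leaf (nat_lit 47790341)))))) (BT.node (nat_lit 9470848) (BT.node (nat_lit 9470592) (BT.node (nat_lit 9470464) (BT.node (nat_lit 9470400) (BT.leaf (nat_lit 31121941)) (BT.leaf (nat_lit 33068309))) (BT.node (nat_lit 9470528) (BT.leaf (nat_lit 48459277)) (BT.leaf (nat_lit 43735317)))) (BT.node (nat_lit 9470720) (BT.node (nat_lit 9470656) (BT.leaf (nat_lit 41863969)) (BT.leaf (nat_lit 37390353))) (BT.node (nat_lit 9470784) (BT.leaf (nat_lit 37444113)) (BT.leaf (nat_lit 29979937))))) (BT.node (nat_lit 9471040) (BT.node (nat_lit 9470912) (BT.node (nat_lit 9470854) (BT.leaf (nat_lit 48182277)) (BT.leaf (nat_lit 754568))) (BT.node (nat_lit 9470976) (BT.leaf (nat_lit 42811665)) (BT.leaf (nat_lit 41881349)))) (BT.node (nat_lit 9471168) (BT.node (nat_lit 9471104) (BT.leaf (nat_lit 28216349)) (BT.leaf (nat_lit 46402337))) (BT.node (nat_lit 9471232) (BT.leaf (nat_lit 29198357)) (BT.leaf (nat_lit 33712409))))))))) (BT.node (nat_lit 9474752) (BT.node (nat_lit 9472896) (BT.node (nat_lit 9472134) (BT.node (nat_lit 9471808) (BT.node (nat_lit 9471552) (BT.node (nat_lit 9471424) (BT.node (nat_lit 9471360) (BT.leaf (nat_lit 27382033)) (BT.leaf (nat_lit 27381777))) (BT.node (nat_lit 9471488) (BT.leaf (nat_lit 48324881)) (BT.leaf (nat_lit 48324885)))) (BT.node (nat_lit 9471680) (BT.node (nat_lit 9471616) (BT.leaf (nat_lit 30724641)) (BT.leaf (nat_lit 47090181))) (BT.node (nat_lit 9471744) (BT.leaf (nat_lit 28770309)) (BT.leaf (nat_lit 49833493))))) (BT.node (nat_lit 9472064) (BT.node (nat_lit 9471936) (BT.node (nat_lit 9471872) (BT.leaf (nat_lit 47831821)) (BT.leaf (nat_lit 29031449))) (BT.node (nat_lit 9472000) (BT.leaf (nat_lit 47779361)) (BT.leaf (nat_lit 27521805)))) (BT.node (nat_lit 9472130) (BT.node (nat_lit 9472128) (BT.leaf (nat_lit 27383317)) (BT.leaf (nat_lit 41113365))) (BT.node (nat_lit 9472131) (BT.leaf (nat_lit 771908)) (BT.leaf (nat_lit 771908)))))) (BT.node (nat_lit 9472448) (BT.node (nat_lit 9472260) (BT.node (nat_lit 9472192) (BT.node (nat_lit 9472135) (BT.leaf (nat_lit 771908)) (BT.leaf (nat_lit 771908))) (BT.node (nat_lit 9472256) (BT.leaf (nat_lit 32127257)) (BT.leaf (nat_lit 30557201)))) (BT.node (nat_lit 9472320) (BT.node (nat_lit 9472264) (BT.leaf (nat_lit 670552)) (BT.leaf (nat_lit 670552))) (BT.node (nat_lit 9472384) (BT.leaf (nat_lit 31693837)) (BT.leaf (nat_lit 48472853))))) (BT.node (nat_lit 9472640) (BT.node (nat_lit 9472512) (BT.node (nat_lit 9472455) (BT.leaf (nat_lit 28889361)) (BT.leaf (nat_lit 670844))) (BT.node (nat_lit 9472576) (BT.leaf (nat_lit 29523221)) (BT.leaf (nat_lit 48472857)))) (BT.node (nat_lit 9472768) (BT.node (nat_lit 9472704) (BT.leaf (nat_lit 30732041)) (BT.leaf (nat_lit 33075469))) (BT.node (nat_lit 9472832) (BT.leaf (nat_lit 35948309)) (BT.leaf (nat_lit 45918741))))))) (BT.node (nat_lit 9473856) (BT.node (nat_lit 9473408) (BT.node (nat_lit 9473152) (BT.node (nat_lit 9473024) (BT.node (nat_lit 9472960) (BT.leaf (nat_lit 45918745)) (BT.leaf (nat_lit 45918749))) (BT.node (nat_lit 9473088) (BT.leaf (nat_lit 37986069)) (BT.leaf (nat_lit 38179333)))) (BT.node (nat_lit 9473280) (BT.node (nat_lit 9473216) (BT.leaf (nat_lit 29750549)) (BT.leaf (nat_lit 30196241))) (BT.node (nat_lit 9473344) (BT.leaf (nat_lit 32160265)) (BT.leaf (nat_lit 34888469))))) (BT.node (nat_lit 9473605) (BT.node (nat_lit 9473536) (BT.node (nat_lit 9473472) (BT.leaf (nat_lit 32998681)) (BT.leaf (nat_lit 32998685))) (BT.node (nat_lit 9473600) (BT.leaf (nat_lit 34473233)) (BT.leaf (nat_lit 44872481)))) (BT.node (nat_lit 9473728) (BT.node (nat_lit 9473664) (BT.leaf (nat_lit 818580)) (BT.leaf (nat_lit 36776465))) (BT.node (nat_lit 9473792) (BT.leaf (nat_lit 42587909)) (BT.leaf (nat_lit 36422685)))))) (BT.node (nat_lit 9474304) (BT.node (nat_lit 9474048) (BT.node (nat_lit 9473984) (BT.node (nat_lit 9473920) (BT.leaf (nat_lit 48970273)) (BT.leaf (nat_lit 35015701))) (BT.node (nat_lit 9473989) (BT.leaf (nat_lit 44444193)) (BT.leaf (nat_lit 652284)))) (BT.node (nat_lit 9474176) (BT.node (nat_lit 9474112) (BT.leaf (nat_lit 37953541)) (BT.leaf (nat_lit 45591317))) (BT.node (nat_lit 9474240) (BT.leaf (nat_lit 36889361)) (BT.leaf (nat_lit 39650573))))) (BT.node (nat_lit 9474560) (BT.node (nat_lit 9474432) (BT.node (nat_lit 9474368) (BT.leaf (nat_lit 28338193)) (BT.leaf (nat_lit 35015705))) (BT.node (nat_lit 9474496) (BT.leaf (nat_lit 44647953)) (BT.leaf (nat_lit 44435725)))) (BT.node (nat_lit 9474628) (BT.node (nat_lit 9474624) (BT.leaf (nat_lit 31329569)) (BT.leaf (nat_lit 28059425))) (BT.node (nat_lit 9474688) (BT.leaf (nat_lit 787764)) (BT.leaf (nat_lit 41970437)))))))) (BT.node (nat_lit 9476800) (BT.node (nat_lit 9475776) (BT.node (nat_lit 9475264) (BT.node (nat_lit 9475008) (BT.node (nat_lit 9474880) (BT.node (nat_lit 9474816) (BT.leaf (nat_lit 49514009)) (BT.leaf (nat_lit 49514013))) (BT.node (nat_lit 9474944) (BT.leaf (nat_lit 38373649)) (BT.leaf (nat_lit 32029721)))) (BT.node (nat_lit 9475136) (BT.node (nat_lit 9475072) (BT.leaf (nat_lit 43646997)) (BT.leaf (nat_lit 46108949))) (BT.node (nat_lit 9475200) (BT.leaf (nat_lit 32903961)) (BT.leaf (nat_lit 46108957))))) (BT.node (nat_lit 9475520) (BT.node (nat_lit 9475392) (BT.node (nat_lit 9475328) (BT.leaf (nat_lit 27390725)) (BT.leaf (nat_lit 31191841))) (BT.node (nat_lit 9475456) (BT.leaf (nat_lit 50596629)) (BT.leaf (nat_lit 38159125)))) (BT.node (nat_lit 9475648) (BT.node (nat_lit 9475584) (BT.leaf (nat_lit 35094049)) (BT.leaf (nat_lit 29908245))) (BT.node (nat_lit 9475712) (BT.leaf (nat_lit 29908249)) (BT.leaf (nat_lit 41796869)))))) (BT.node (nat_lit 9476288) (BT.node (nat_lit 9476032) (BT.node (nat_lit 9475904) (BT.node (nat_lit 9475840) (BT.leaf (nat_lit 46705433)) (BT.leaf (nat_lit 30798865))) (BT.node (nat_lit 9475968) (BT.leaf (nat_lit 30798869)) (BT.leaf (nat_lit 51954193)))) (BT.node (nat_lit 9476160) (BT.node (nat_lit 9476096) (BT.leaf (nat_lit 31412001)) (BT.leaf (nat_lit 27585553))) (BT.node (nat_lit 9476224) (BT.leaf (nat_lit 37904909)) (BT.leaf (nat_lit 36288021))))) (BT.node (nat_lit 9476544) (BT.node (nat_lit 9476416) (BT.node (nat_lit 9476352) (BT.leaf (nat_lit 27598617)) (BT.leaf (nat_lit 29794061))) (BT.node (nat_lit 9476480) (BT.leaf (nat_lit 46476293)) (BT.leaf (nat_lit 36288281)))) (BT.node (nat_lit 9476672) (BT.node (nat_lit 9476608) (BT.leaf (nat_lit 29792789)) (BT.leaf (nat_lit 41488149))) (BT.node (nat_lit 9476736) (BT.leaf (nat_lit 28999697)) (BT.leaf (nat_lit 45752085))))))) (BT.node (nat_lit 9477824) (BT.node (nat_lit 9477312) (BT.node (nat_lit 9477056) (BT.node (nat_lit 9476928) (BT.node (nat_lit 9476864) (BT.leaf (nat_lit 34980377)) (BT.leaf (nat_lit 35245837))) (BT.node (nat_lit 9476992) (BT.leaf (nat_lit 28270353)) (BT.leaf (nat_lit 32720145)))) (BT.node (nat_lit 9477184) (BT.node (nat_lit 9477120) (BT.leaf (nat_lit 45636889)) (BT.leaf (nat_lit 45947145))) (BT.node (nat_lit 9477248) (BT.leaf (nat_lit 44230149)) (BT.leaf (nat_lit 31482629))))) (BT.node (nat_lit 9477568) (BT.node (nat_lit 9477440) (BT.node (nat_lit 9477376) (BT.leaf (nat_lit 27399953)) (BT.leaf (nat_lit 27454981))) (BT.node (nat_lit 9477504) (BT.leaf (nat_lit 27454997)) (BT.leaf (nat_lit 35101985)))) (BT.node (nat_lit 9477696) (BT.node (nat_lit 9477632) (BT.leaf (nat_lit 35101729)) (BT.leaf (nat_lit 27401489))) (BT.node (nat_lit 9477760) (BT.leaf (nat_lit 44214293)) (BT.leaf (nat_lit 29651481)))))) (BT.node (nat_lit 9478336) (BT.node (nat_lit 9478080) (BT.node (nat_lit 9477952) (BT.node (nat_lit 9477888) (BT.leaf (nat_lit 31007501)) (BT.leaf (nat_lit 32582421))) (BT.node (nat_lit 9478016) (BT.leaf (nat_lit 31512593)) (BT.leaf (nat_lit 38974233)))) (BT.node (nat_lit 9478208) (BT.node (nat_lit 9478144) (BT.leaf (nat_lit 27609105)) (BT.leaf (nat_lit 27608853))) (BT.node (nat_lit 9478272) (BT.leaf (nat_lit 27608857)) (BT.leaf (nat_lit 46711045))))) (BT.node (nat_lit 9478592) (BT.node (nat_lit 9478464) (BT.node (nat_lit 9478400) (BT.leaf (nat_lit 31418137)) (BT.leaf (nat_lit 31416341))) (BT.node (nat_lit 9478528) (BT.leaf (nat_lit 46847753)) (BT.leaf (nat_lit 31418125)))) (BT.node (nat_lit 9478720) (BT.node (nat_lit 9478656) (BT.leaf (nat_lit 29749281)) (BT.leaf (nat_lit 27396637))) (BT.node (nat_lit 9478784) (BT.leaf (nat_lit 29750293)) (BT.leaf (nat_lit 32232965)))))))))) (BT.node (nat_lit 9486336) (BT.node (nat_lit 9482752) (BT.node (nat_lit 9480896) (BT.node (nat_lit 9479872) (BT.node (nat_lit 9479360) (BT.node (nat_lit 9479104) (BT.node (nat_lit 9478976) (BT.node (nat_lit 9478912) (BT.leaf (nat_lit 38315529)) (BT.leaf (nat_lit 27402005))) (BT.node (nat_lit 9479040) (BT.leaf (nat_lit 43865877)) (BT.leaf (nat_lit 39603477)))) (BT.node (nat_lit 9479232) (BT.node (nat_lit 9479168) (BT.leaf (nat_lit 38111777)) (BT.leaf (nat_lit 32579353))) (BT.node (nat_lit 9479296) (BT.leaf (nat_lit 32579357)) (BT.leaf (nat_lit 27403793))))) (BT.node (nat_lit 9479616) (BT.node (nat_lit 9479488) (BT.node (nat_lit 9479424) (BT.leaf (nat_lit 27570197)) (BT.leaf (nat_lit 42921737))) (BT.node (nat_lit 9479552) (BT.leaf (nat_lit 31147025)) (BT.leaf (nat_lit 33379101)))) (BT.node (nat_lit 9479744) (BT.node (nat_lit 9479680) (BT.leaf (nat_lit 48664581)) (BT.leaf (nat_lit 38067489))) (BT.node (nat_lit 9479808) (BT.leaf (nat_lit 29208345)) (BT.leaf (nat_lit 29208349)))))) (BT.node (nat_lit 9480384) (BT.node (nat_lit 9480128) (BT.node (nat_lit 9480000) (BT.node (nat_lit 9479936) (BT.leaf (nat_lit 27397401)) (BT.leaf (nat_lit 29008661))) (BT.node (nat_lit 9480064) (BT.leaf (nat_lit 30945301)) (BT.leaf (nat_lit 47416609)))) (BT.node (nat_lit 9480256) (BT.node (nat_lit 9480192) (BT.leaf (nat_lit 32814361)) (BT.leaf (nat_lit 32814365))) (BT.node (nat_lit 9480320) (BT.leaf (nat_lit 49217029)) (BT.leaf (nat_lit 40876565))))) (BT.node (nat_lit 9480640) (BT.node (nat_lit 9480512) (BT.node (nat_lit 9480448) (BT.leaf (nat_lit 40876569)) (BT.leaf (nat_lit 40876573))) (BT.node (nat_lit 9480576) (BT.leaf (nat_lit 45464837)) (BT.leaf (nat_lit 40793621)))) (BT.node (nat_lit 9480768) (BT.node (nat_lit 9480704) (BT.leaf (nat_lit 27409169)) (BT.leaf (nat_lit 27408657))) (BT.node (nat_lit 9480832) (BT.leaf (nat_lit 31285513)) (BT.leaf (nat_lit 32928773))))))) (BT.node (nat_lit 9481728) (BT.node (nat_lit 9481408) (BT.node (nat_lit 9481152) (BT.node (nat_lit 9481024) (BT.node (nat_lit 9480960) (BT.leaf (nat_lit 33394441)) (BT.leaf (nat_lit 39494421))) (BT.node (nat_lit 9481088) (BT.leaf (nat_lit 27531029)) (BT.leaf (nat_lit 38202645)))) (BT.node (nat_lit 9481280) (BT.node (nat_lit 9481216) (BT.leaf (nat_lit 29825797)) (BT.leaf (nat_lit 33349897))) (BT.node (nat_lit 9481344) (BT.leaf (nat_lit 31096337)) (BT.leaf (nat_lit 28150801))))) (BT.node (nat_lit 9481536) (BT.node (nat_lit 9481472) (BT.node (nat_lit 9481413) (BT.leaf (nat_lit 32364065)) (BT.leaf (nat_lit 637352))) (BT.node (nat_lit 9481479) (BT.leaf (nat_lit 46774305)) (BT.leaf (nat_lit 708612)))) (BT.node (nat_lit 9481605) (BT.node (nat_lit 9481600) (BT.leaf (nat_lit 37952793)) (BT.leaf (nat_lit 37952797))) (BT.node (nat_lit 9481664) (BT.leaf (nat_lit 708608)) (BT.leaf (nat_lit 42081301)))))) (BT.node (nat_lit 9482240) (BT.node (nat_lit 9481984) (BT.node (nat_lit 9481856) (BT.node (nat_lit 9481792) (BT.leaf (nat_lit 31396121)) (BT.leaf (nat_lit 46632469))) (BT.node (nat_lit 9481920) (BT.leaf (nat_lit 41564165)) (BT.leaf (nat_lit 27415557)))) (BT.node (nat_lit 9482112) (BT.node (nat_lit 9482048) (BT.leaf (nat_lit 47676705)) (BT.leaf (nat_lit 28792857))) (BT.node (nat_lit 9482176) (BT.leaf (nat_lit 28792861)) (BT.leaf (nat_lit 38598433))))) (BT.node (nat_lit 9482496) (BT.node (nat_lit 9482368) (BT.node (nat_lit 9482304) (BT.leaf (nat_lit 35662609)) (BT.leaf (nat_lit 27415825))) (BT.node (nat_lit 9482432) (BT.leaf (nat_lit 35662873)) (BT.leaf (nat_lit 35662877)))) (BT.node (nat_lit 9482624) (BT.node (nat_lit 9482560) (BT.leaf (nat_lit 46833421)) (BT.leaf (nat_lit 29621025))) (BT.node (nat_lit 9482688) (BT.leaf (nat_lit 37892365)) (BT.leaf (nat_lit 44181525)))))))) (BT.node (nat_lit 9484417) (BT.node (nat_lit 9483520) (BT.node (nat_lit 9483136) (BT.node (nat_lit 9482944) (BT.node (nat_lit 9482816) (BT.node (nat_lit 9482760) (BT.leaf (nat_lit 27871497)) (BT.leaf (nat_lit 728556))) (BT.node (nat_lit 9482880) (BT.leaf (nat_lit 41036809)) (BT.leaf (nat_lit 28635673)))) (BT.node (nat_lit 9483008) (BT.node (nat_lit 9482951) (BT.leaf (nat_lit 44594449)) (BT.leaf (nat_lit 763076))) (BT.node (nat_lit 9483072) (BT.leaf (nat_lit 50281493)) (BT.leaf (nat_lit 32487173))))) (BT.node (nat_lit 9483392) (BT.node (nat_lit 9483264) (BT.node (nat_lit 9483200) (BT.leaf (nat_lit 46844957)) (BT.leaf (nat_lit 31610133))) (BT.node (nat_lit 9483328) (BT.leaf (nat_lit 30322449)) (BT.leaf (nat_lit 46844941)))) (BT.node (nat_lit 9483400) (BT.node (nat_lit 9483396) (BT.leaf (nat_lit 37828629)) (BT.leaf (nat_lit 704544))) (BT.node (nat_lit 9483456) (BT.leaf (nat_lit 704544)) (BT.leaf (nat_lit 47751941)))))) (BT.node (nat_lit 9484032) (BT.node (nat_lit 9483776) (BT.node (nat_lit 9483648) (BT.node (nat_lit 9483584) (BT.leaf (nat_lit 43009821)) (BT.leaf (nat_lit 29945609))) (BT.node (nat_lit 9483712) (BT.leaf (nat_lit 40952597)) (BT.leaf (nat_lit 43193113)))) (BT.node (nat_lit 9483904) (BT.node (nat_lit 9483840) (BT.leaf (nat_lit 27452681)) (BT.leaf (nat_lit 46885653))) (BT.node (nat_lit 9483968) (BT.leaf (nat_lit 29094165)) (BT.leaf (nat_lit 27452697))))) (BT.node (nat_lit 9484224) (BT.node (nat_lit 9484096) (BT.node (nat_lit 9484036) (BT.leaf (nat_lit 27452701)) (BT.leaf (nat_lit 787388))) (BT.node (nat_lit 9484160) (BT.leaf (nat_lit 27419657)) (BT.leaf (nat_lit 34566169)))) (BT.node (nat_lit 9484352) (BT.node (nat_lit 9484288) (BT.leaf (nat_lit 40976917)) (BT.leaf (nat_lit 45230369))) (BT.node (nat_lit 9484416) (BT.leaf (nat_lit 29667601)) (BT.leaf (nat_lit 40022817))))))) (BT.node (nat_lit 9485312) (BT.node (nat_lit 9484800) (BT.node (nat_lit 9484544) (BT.node (nat_lit 9484419) (BT.node (nat_lit 9484418) (BT.leaf (nat_lit 767444)) (BT.leaf (nat_lit 767444))) (BT.node (nat_lit 9484480) (BT.leaf (nat_lit 767444)) (BT.leaf (nat_lit 40264197)))) (BT.node (nat_lit 9484672) (BT.node (nat_lit 9484608) (BT.leaf (nat_lit 29259285)) (BT.leaf (nat_lit 41201673))) (BT.node (nat_lit 9484736) (BT.leaf (nat_lit 40737549)) (BT.leaf (nat_lit 28949257))))) (BT.node (nat_lit 9485056) (BT.node (nat_lit 9484928) (BT.node (nat_lit 9484864) (BT.leaf (nat_lit 28949261)) (BT.leaf (nat_lit 47996705))) (BT.node (nat_lit 9484992) (BT.leaf (nat_lit 45489173)) (BT.leaf (nat_lit 32697621)))) (BT.node (nat_lit 9485184) (BT.node (nat_lit 9485120) (BT.leaf (nat_lit 39608337)) (BT.leaf (nat_lit 31655685))) (BT.node (nat_lit 9485248) (BT.leaf (nat_lit 39766817)) (BT.leaf (nat_lit 30467869)))))) (BT.node (nat_lit 9485824) (BT.node (nat_lit 9485568) (BT.node (nat_lit 9485440) (BT.node (nat_lit 9485376) (BT.leaf (nat_lit 37956117)) (BT.leaf (nat_lit 31969289))) (BT.node (nat_lit 9485504) (BT.leaf (nat_lit 27422225)) (BT.leaf (nat_lit 44366877)))) (BT.node (nat_lit 9485696) (BT.node (nat_lit 9485632) (BT.leaf (nat_lit 29670681)) (BT.leaf (nat_lit 42155269))) (BT.node (nat_lit 9485760) (BT.leaf (nat_lit 28836361)) (BT.leaf (nat_lit 28836365))))) (BT.node (nat_lit 9486080) (BT.node (nat_lit 9485952) (BT.node (nat_lit 9485888) (BT.leaf (nat_lit 30490385)) (BT.leaf (nat_lit 28836377))) (BT.node (nat_lit 9486016) (BT.leaf (nat_lit 28836381)) (BT.leaf (nat_lit 28836385)))) (BT.node (nat_lit 9486208) (BT.node (nat_lit 9486144) (BT.leaf (nat_lit 28836629)) (BT.leaf (nat_lit 29871901))) (BT.node (nat_lit 9486272) (BT.leaf (nat_lit 51399177)) (BT.leaf (nat_lit 30679841))))))))) (BT.node (nat_lit 9490240) (BT.node (nat_lit 9488320) (BT.node (nat_lit 9487360) (BT.node (nat_lit 9486848) (BT.node (nat_lit 9486592) (BT.node (nat_lit 9486464) (BT.node (nat_lit 9486400) (BT.leaf (nat_lit 30360849)) (BT.leaf (nat_lit 46705437))) (BT.node (nat_lit 9486528) (BT.leaf (nat_lit 39090209)) (BT.leaf (nat_lit 28792081)))) (BT.node (nat_lit 9486720) (BT.node (nat_lit 9486656) (BT.leaf (nat_lit 42471965)) (BT.leaf (nat_lit 44429077))) (BT.node (nat_lit 9486784) (BT.leaf (nat_lit 41131029)) (BT.leaf (nat_lit 36289037))))) (BT.node (nat_lit 9487104) (BT.node (nat_lit 9486976) (BT.node (nat_lit 9486912) (BT.leaf (nat_lit 30828833)) (BT.leaf (nat_lit 32017165))) (BT.node (nat_lit 9487040) (BT.leaf (nat_lit 46468129)) (BT.leaf (nat_lit 27969053)))) (BT.node (nat_lit 9487232) (BT.node (nat_lit 9487168) (BT.leaf (nat_lit 30272029)) (BT.leaf (nat_lit 27675165))) (BT.node (nat_lit 9487296) (BT.leaf (nat_lit 41164821)) (BT.leaf (nat_lit 32813069)))))) (BT.node (nat_lit 9487808) (BT.node (nat_lit 9487616) (BT.node (nat_lit 9487488) (BT.node (nat_lit 9487424) (BT.leaf (nat_lit 35298077)) (BT.leaf (nat_lit 47067665))) (BT.node (nat_lit 9487552) (BT.leaf (nat_lit 35299861)) (BT.leaf (nat_lit 35299869)))) (BT.node (nat_lit 9487680) (BT.node (nat_lit 9487621) (BT.leaf (nat_lit 43749637)) (BT.leaf (nat_lit 680636))) (BT.node (nat_lit 9487744) (BT.leaf (nat_lit 46640665)) (BT.leaf (nat_lit 33275673))))) (BT.node (nat_lit 9488064) (BT.node (nat_lit 9487936) (BT.node (nat_lit 9487872) (BT.leaf (nat_lit 40876833)) (BT.leaf (nat_lit 38422293))) (BT.node (nat_lit 9488000) (BT.leaf (nat_lit 37952029)) (BT.leaf (nat_lit 34739473)))) (BT.node (nat_lit 9488192) (BT.node (nat_lit 9488128) (BT.leaf (nat_lit 28038941)) (BT.leaf (nat_lit 31568901))) (BT.node (nat_lit 9488256) (BT.leaf (nat_lit 35095825)) (BT.leaf (nat_lit 37953313))))))) (BT.node (nat_lit 9489216) (BT.node (nat_lit 9488832) (BT.node (nat_lit 9488576) (BT.node (nat_lit 9488448) (BT.node (nat_lit 9488384) (BT.leaf (nat_lit 39545621)) (BT.leaf (nat_lit 28885265))) (BT.node (nat_lit 9488512) (BT.leaf (nat_lit 32521989)) (BT.leaf (nat_lit 52234269)))) (BT.node (nat_lit 9488704) (BT.node (nat_lit 9488640) (BT.leaf (nat_lit 31298569)) (BT.leaf (nat_lit 42488081))) (BT.node (nat_lit 9488768) (BT.leaf (nat_lit 28422945)) (BT.leaf (nat_lit 28295697))))) (BT.node (nat_lit 9489028) (BT.node (nat_lit 9488960) (BT.node (nat_lit 9488896) (BT.leaf (nat_lit 28424965)) (BT.leaf (nat_lit 52218885))) (BT.node (nat_lit 9489024) (BT.leaf (nat_lit 48027929)) (BT.leaf (nat_lit 43910917)))) (BT.node (nat_lit 9489088) (BT.node (nat_lit 9489029) (BT.leaf (nat_lit 774756)) (BT.leaf (nat_lit 667308))) (BT.node (nat_lit 9489152) (BT.leaf (nat_lit 32162313)) (BT.leaf (nat_lit 43298309)))))) (BT.node (nat_lit 9489728) (BT.node (nat_lit 9489472) (BT.node (nat_lit 9489344) (BT.node (nat_lit 9489280) (BT.leaf (nat_lit 27972369)) (BT.leaf (nat_lit 48384777))) (BT.node (nat_lit 9489408) (BT.leaf (nat_lit 31327493)) (BT.leaf (nat_lit 46412821)))) (BT.node (nat_lit 9489600) (BT.node (nat_lit 9489536) (BT.leaf (nat_lit 39038985)) (BT.leaf (nat_lit 28085513))) (BT.node (nat_lit 9489664) (BT.leaf (nat_lit 38449413)) (BT.leaf (nat_lit 47809541))))) (BT.node (nat_lit 9489984) (BT.node (nat_lit 9489856) (BT.node (nat_lit 9489792) (BT.leaf (nat_lit 39038477)) (BT.leaf (nat_lit 32159005))) (BT.node (nat_lit 9489920) (BT.leaf (nat_lit 32374277)) (BT.leaf (nat_lit 30466321)))) (BT.node (nat_lit 9490112) (BT.node (nat_lit 9490048) (BT.leaf (nat_lit 30818081)) (BT.leaf (nat_lit 47069457))) (BT.node (nat_lit 9490176) (BT.leaf (nat_lit 27803673)) (BT.leaf (nat_lit 33534225)))))))) (BT.node (nat_lit 9492288) (BT.node (nat_lit 9491264) (BT.node (nat_lit 9490752) (BT.node (nat_lit 9490496) (BT.node (nat_lit 9490368) (BT.node (nat_lit 9490304) (BT.leaf (nat_lit 32881157)) (BT.leaf (nat_lit 30055457))) (BT.node (nat_lit 9490432) (BT.leaf (nat_lit 29527073)) (BT.leaf (nat_lit 51761669)))) (BT.node (nat_lit 9490624) (BT.node (nat_lit 9490560) (BT.leaf (nat_lit 35313673)) (BT.leaf (nat_lit 27958549))) (BT.node (nat_lit 9490688) (BT.leaf (nat_lit 31210757)) (BT.leaf (nat_lit 29504021))))) (BT.node (nat_lit 9491008) (BT.node (nat_lit 9490880) (BT.node (nat_lit 9490816) (BT.leaf (nat_lit 29504273)) (BT.leaf (nat_lit 29826325))) (BT.node (nat_lit 9490944) (BT.leaf (nat_lit 33918745)) (BT.leaf (nat_lit 30202385)))) (BT.node (nat_lit 9491136) (BT.node (nat_lit 9491072) (BT.leaf (nat_lit 44344337)) (BT.leaf (nat_lit 42948369))) (BT.node (nat_lit 9491200) (BT.leaf (nat_lit 39535877)) (BT.leaf (nat_lit 29816837)))))) (BT.node (nat_lit 9491776) (BT.node (nat_lit 9491520) (BT.node (nat_lit 9491392) (BT.node (nat_lit 9491328) (BT.leaf (nat_lit 34239005)) (BT.leaf (nat_lit 27915273))) (BT.node (nat_lit 9491456) (BT.leaf (nat_lit 27803669)) (BT.leaf (nat_lit 29590025)))) (BT.node (nat_lit 9491648) (BT.node (nat_lit 9491584) (BT.leaf (nat_lit 37965849)) (BT.leaf (nat_lit 43660553))) (BT.node (nat_lit 9491712) (BT.leaf (nat_lit 29735953)) (BT.leaf (nat_lit 34460701))))) (BT.node (nat_lit 9492032) (BT.node (nat_lit 9491904) (BT.node (nat_lit 9491840) (BT.leaf (nat_lit 32249357)) (BT.leaf (nat_lit 49250589))) (BT.node (nat_lit 9491968) (BT.leaf (nat_lit 27560213)) (BT.leaf (nat_lit 27560217)))) (BT.node (nat_lit 9492160) (BT.node (nat_lit 9492096) (BT.leaf (nat_lit 27560221)) (BT.leaf (nat_lit 45237265))) (BT.node (nat_lit 9492224) (BT.leaf (nat_lit 38599961)) (BT.leaf (nat_lit 29826577))))))) (BT.node (nat_lit 9493312) (BT.node (nat_lit 9492800) (BT.node (nat_lit 9492544) (BT.node (nat_lit 9492416) (BT.node (nat_lit 9492352) (BT.leaf (nat_lit 47155229)) (BT.leaf (nat_lit 40282885))) (BT.node (nat_lit 9492480) (BT.leaf (nat_lit 42242309)) (BT.leaf (nat_lit 27435793)))) (BT.node (nat_lit 9492672) (BT.node (nat_lit 9492608) (BT.leaf (nat_lit 43497493)) (BT.leaf (nat_lit 34413849))) (BT.node (nat_lit 9492736) (BT.leaf (nat_lit 27436305)) (BT.leaf (nat_lit 41528345))))) (BT.node (nat_lit 9493056) (BT.node (nat_lit 9492928) (BT.node (nat_lit 9492864) (BT.leaf (nat_lit 41526549)) (BT.leaf (nat_lit 27437333))) (BT.node (nat_lit 9492992) (BT.leaf (nat_lit 41528333)) (BT.leaf (nat_lit 41981217)))) (BT.node (nat_lit 9493184) (BT.node (nat_lit 9493120) (BT.leaf (nat_lit 39590937)) (BT.leaf (nat_lit 41527309))) (BT.node (nat_lit 9493248) (BT.leaf (nat_lit 30682893)) (BT.leaf (nat_lit 33579285)))))) (BT.node (nat_lit 9493760) (BT.node (nat_lit 9493568) (BT.node (nat_lit 9493440) (BT.node (nat_lit 9493376) (BT.leaf (nat_lit 30697481)) (BT.leaf (nat_lit 29842437))) (BT.node (nat_lit 9493504) (BT.leaf (nat_lit 30982669)) (BT.leaf (nat_lit 49771553)))) (BT.node (nat_lit 9493696) (BT.node (nat_lit 9493632) (BT.leaf (nat_lit 30697245)) (BT.leaf (nat_lit 47413265))) (BT.node (nat_lit 9493701) (BT.leaf (nat_lit 29601289)) (BT.leaf (nat_lit 740620))))) (BT.node (nat_lit 9494016) (BT.node (nat_lit 9493888) (BT.node (nat_lit 9493824) (BT.leaf (nat_lit 27438865)) (BT.leaf (nat_lit 27626261))) (BT.node (nat_lit 9493952) (BT.leaf (nat_lit 48467993)) (BT.leaf (nat_lit 48467997)))) (BT.node (nat_lit 9494144) (BT.node (nat_lit 9494080) (BT.leaf (nat_lit 36843041)) (BT.leaf (nat_lit 27439121))) (BT.node (nat_lit 9494208) (BT.leaf (nat_lit 43384853)) (BT.leaf (nat_lit 46089229))))))))))) (BT.node (nat_lit 9509703) (BT.node (nat_lit 9502016) (BT.node (nat_lit 9497920) (BT.node (nat_lit 9496005) (BT.node (nat_lit 9495168) (BT.node (nat_lit 9494656) (BT.node (nat_lit 9494464) (BT.node (nat_lit 9494336) (BT.node (nat_lit 9494272) (BT.leaf (nat_lit 714640)) (BT.leaf (nat_lit 32900129))) (BT.node (nat_lit 9494400) (BT.leaf (nat_lit 42463505)) (BT.leaf (nat_lit 42240533)))) (BT.node (nat_lit 9494531) (BT.node (nat_lit 9494528) (BT.leaf (nat_lit 46085397)) (BT.leaf (nat_lit 49448469))) (BT.node (nat_lit 9494592) (BT.leaf (nat_lit 674064)) (BT.leaf (nat_lit 42240029))))) (BT.node (nat_lit 9494912) (BT.node (nat_lit 9494784) (BT.node (nat_lit 9494720) (BT.leaf (nat_lit 29096465)) (BT.leaf (nat_lit 29096469))) (BT.node (nat_lit 9494848) (BT.leaf (nat_lit 28038421)) (BT.leaf (nat_lit 31601185)))) (BT.node (nat_lit 9495040) (BT.node (nat_lit 9494976) (BT.leaf (nat_lit 32538145)) (BT.leaf (nat_lit 37055009))) (BT.node (nat_lit 9495104) (BT.leaf (nat_lit 47866657)) (BT.leaf (nat_lit 28038937)))))) (BT.node (nat_lit 9495680) (BT.node (nat_lit 9495424) (BT.node (nat_lit 9495296) (BT.node (nat_lit 9495232) (BT.leaf (nat_lit 42595617)) (BT.leaf (nat_lit 28032289))) (BT.node (nat_lit 9495360) (BT.leaf (nat_lit 32964361)) (BT.leaf (nat_lit 38118933)))) (BT.node (nat_lit 9495552) (BT.node (nat_lit 9495488) (BT.leaf (nat_lit 32964385)) (BT.leaf (nat_lit 27443229))) (BT.node (nat_lit 9495616) (BT.leaf (nat_lit 41989141)) (BT.leaf (nat_lit 27698705))))) (BT.node (nat_lit 9495872) (BT.node (nat_lit 9495744) (BT.node (nat_lit 9495684) (BT.leaf (nat_lit 45649941)) (BT.leaf (nat_lit 599964))) (BT.node (nat_lit 9495808) (BT.leaf (nat_lit 38957837)) (BT.leaf (nat_lit 40844565)))) (BT.node (nat_lit 9495936) (BT.node (nat_lit 9495877) (BT.leaf (nat_lit 37183001)) (BT.leaf (nat_lit 774436))) (BT.node (nat_lit 9496000) (BT.leaf (nat_lit 47501593)) (BT.leaf (nat_lit 37984285))))))) (BT.node (nat_lit 9496896) (BT.node (nat_lit 9496384) (BT.node (nat_lit 9496128) (BT.node (nat_lit 9496069) (BT.node (nat_lit 9496064) (BT.leaf (nat_lit 676616)) (BT.leaf (nat_lit 47992333))) (BT.node (nat_lit 9496072) (BT.leaf (nat_lit 795856)) (BT.leaf (nat_lit 795856)))) (BT.node (nat_lit 9496256) (BT.node (nat_lit 9496192) (BT.leaf (nat_lit 27866657)) (BT.leaf (nat_lit 32415765))) (BT.node (nat_lit 9496320) (BT.leaf (nat_lit 27445009)) (BT.leaf (nat_lit 27444497))))) (BT.node (nat_lit 9496640) (BT.node (nat_lit 9496512) (BT.node (nat_lit 9496448) (BT.leaf (nat_lit 42921741)) (BT.leaf (nat_lit 31067669))) (BT.node (nat_lit 9496576) (BT.leaf (nat_lit 30714641)) (BT.leaf (nat_lit 37992985)))) (BT.node (nat_lit 9496768) (BT.node (nat_lit 9496704) (BT.leaf (nat_lit 42377477)) (BT.leaf (nat_lit 27446801))) (BT.node (nat_lit 9496832) (BT.leaf (nat_lit 42377497)) (BT.leaf (nat_lit 29392661)))))) (BT.node (nat_lit 9497408) (BT.node (nat_lit 9497152) (BT.node (nat_lit 9497024) (BT.node (nat_lit 9496960) (BT.leaf (nat_lit 29861137)) (BT.leaf (nat_lit 51074589))) (BT.node (nat_lit 9497088) (BT.leaf (nat_lit 30022417)) (BT.leaf (nat_lit 27552261)))) (BT.node (nat_lit 9497280) (BT.node (nat_lit 9497216) (BT.leaf (nat_lit 27449361)) (BT.leaf (nat_lit 27552281))) (BT.node (nat_lit 9497344) (BT.leaf (nat_lit 27552285)) (BT.leaf (nat_lit 35443985))))) (BT.node (nat_lit 9497664) (BT.node (nat_lit 9497536) (BT.node (nat_lit 9497472) (BT.leaf (nat_lit 34301457)) (BT.leaf (nat_lit 28529937))) (BT.node (nat_lit 9497600) (BT.leaf (nat_lit 28361233)) (BT.leaf (nat_lit 33631261)))) (BT.node (nat_lit 9497792) (BT.node (nat_lit 9497728) (BT.leaf (nat_lit 31277333)) (BT.leaf (nat_lit 31277337))) (BT.node (nat_lit 9497856) (BT.leaf (nat_lit 31277341)) (BT.leaf (nat_lit 46967565)))))))) (BT.node (nat_lit 9499968) (BT.node (nat_lit 9498944) (BT.node (nat_lit 9498432) (BT.node (nat_lit 9498176) (BT.node (nat_lit 9498048) (BT.node (nat_lit 9497984) (BT.leaf (nat_lit 28931077)) (BT.leaf (nat_lit 30510873))) (BT.node (nat_lit 9498112) (BT.leaf (nat_lit 30510877)) (BT.leaf (nat_lit 31067925)))) (BT.node (nat_lit 9498304) (BT.node (nat_lit 9498240) (BT.leaf (nat_lit 27450909)) (BT.leaf (nat_lit 31067413))) (BT.node (nat_lit 9498368) (BT.leaf (nat_lit 43737377)) (BT.leaf (nat_lit 29726729))))) (BT.node (nat_lit 9498688) (BT.node (nat_lit 9498560) (BT.node (nat_lit 9498496) (BT.leaf (nat_lit 29726733)) (BT.leaf (nat_lit 46680341))) (BT.node (nat_lit 9498624) (BT.leaf (nat_lit 29726749)) (BT.leaf (nat_lit 29727249)))) (BT.node (nat_lit 9498816) (BT.node (nat_lit 9498752) (BT.leaf (nat_lit 40332577)) (BT.leaf (nat_lit 38997277))) (BT.node (nat_lit 9498880) (BT.leaf (nat_lit 28936965)) (BT.leaf (nat_lit 46716437)))))) (BT.node (nat_lit 9499456) (BT.node (nat_lit 9499200) (BT.node (nat_lit 9499072) (BT.node (nat_lit 9499008) (BT.leaf (nat_lit 29830917)) (BT.leaf (nat_lit 47424005))) (BT.node (nat_lit 9499136) (BT.leaf (nat_lit 38983685)) (BT.leaf (nat_lit 28305169)))) (BT.node (nat_lit 9499328) (BT.node (nat_lit 9499264) (BT.leaf (nat_lit 29317641)) (BT.leaf (nat_lit 27458061))) (BT.node (nat_lit 9499392) (BT.leaf (nat_lit 46928405)) (BT.leaf (nat_lit 40885781))))) (BT.node (nat_lit 9499712) (BT.node (nat_lit 9499584) (BT.node (nat_lit 9499520) (BT.leaf (nat_lit 29558301)) (BT.leaf (nat_lit 30134801))) (BT.node (nat_lit 9499648) (BT.leaf (nat_lit 28335637)) (BT.leaf (nat_lit 28004897)))) (BT.node (nat_lit 9499840) (BT.node (nat_lit 9499776) (BT.leaf (nat_lit 30472965)) (BT.leaf (nat_lit 28297489))) (BT.node (nat_lit 9499904) (BT.leaf (nat_lit 32228369)) (BT.leaf (nat_lit 33834005))))))) (BT.node (nat_lit 9500992) (BT.node (nat_lit 9500480) (BT.node (nat_lit 9500224) (BT.node (nat_lit 9500096) (BT.node (nat_lit 9500032) (BT.leaf (nat_lit 33388305)) (BT.leaf (nat_lit 46710037))) (BT.node (nat_lit 9500160) (BT.leaf (nat_lit 34450437)) (BT.leaf (nat_lit 48140057)))) (BT.node (nat_lit 9500352) (BT.node (nat_lit 9500288) (BT.leaf (nat_lit 39537425)) (BT.leaf (nat_lit 48512801))) (BT.node (nat_lit 9500416) (BT.leaf (nat_lit 27541013)) (BT.leaf (nat_lit 28005125))))) (BT.node (nat_lit 9500736) (BT.node (nat_lit 9500608) (BT.node (nat_lit 9500544) (BT.leaf (nat_lit 39866117)) (BT.leaf (nat_lit 40515601))) (BT.node (nat_lit 9500672) (BT.leaf (nat_lit 28045833)) (BT.leaf (nat_lit 30105865)))) (BT.node (nat_lit 9500864) (BT.node (nat_lit 9500800) (BT.leaf (nat_lit 30508821)) (BT.leaf (nat_lit 30508825))) (BT.node (nat_lit 9500928) (BT.leaf (nat_lit 42885657)) (BT.leaf (nat_lit 36837909)))))) (BT.node (nat_lit 9501504) (BT.node (nat_lit 9501248) (BT.node (nat_lit 9501120) (BT.node (nat_lit 9501056) (BT.leaf (nat_lit 32941829)) (BT.leaf (nat_lit 41579013))) (BT.node (nat_lit 9501184) (BT.leaf (nat_lit 27458317)) (BT.leaf (nat_lit 41511949)))) (BT.node (nat_lit 9501376) (BT.node (nat_lit 9501312) (BT.leaf (nat_lit 43147797)) (BT.leaf (nat_lit 33008133))) (BT.node (nat_lit 9501440) (BT.leaf (nat_lit 37997321)) (BT.leaf (nat_lit 43045129))))) (BT.node (nat_lit 9501760) (BT.node (nat_lit 9501632) (BT.node (nat_lit 9501568) (BT.leaf (nat_lit 36198161)) (BT.leaf (nat_lit 29509141))) (BT.node (nat_lit 9501696) (BT.leaf (nat_lit 33714713)) (BT.leaf (nat_lit 40626453)))) (BT.node (nat_lit 9501888) (BT.node (nat_lit 9501824) (BT.leaf (nat_lit 37760009)) (BT.leaf (nat_lit 41622789))) (BT.node (nat_lit 9501952) (BT.leaf (nat_lit 28996869)) (BT.leaf (nat_lit 44387361))))))))) (BT.node (nat_lit 9506048) (BT.node (nat_lit 9504000) (BT.node (nat_lit 9502976) (BT.node (nat_lit 9502528) (BT.node (nat_lit 9502272) (BT.node (nat_lit 9502144) (BT.node (nat_lit 9502080) (BT.leaf (nat_lit 28291853)) (BT.leaf (nat_lit 38914337))) (BT.node (nat_lit 9502208) (BT.leaf (nat_lit 38914069)) (BT.leaf (nat_lit 28999429)))) (BT.node (nat_lit 9502400) (BT.node (nat_lit 9502336) (BT.leaf (nat_lit 38915601)) (BT.leaf (nat_lit 33581573))) (BT.node (nat_lit 9502464) (BT.leaf (nat_lit 28291865)) (BT.leaf (nat_lit 28291869))))) (BT.node (nat_lit 9502720) (BT.node (nat_lit 9502597) (BT.node (nat_lit 9502592) (BT.leaf (nat_lit 27460373)) (BT.leaf (nat_lit 51240461))) (BT.node (nat_lit 9502656) (BT.leaf (nat_lit 800628)) (BT.leaf (nat_lit 39672593)))) (BT.node (nat_lit 9502848) (BT.node (nat_lit 9502784) (BT.leaf (nat_lit 29592853)) (BT.leaf (nat_lit 29156889))) (BT.node (nat_lit 9502912) (BT.leaf (nat_lit 27460633)) (BT.leaf (nat_lit 30529049)))))) (BT.node (nat_lit 9503488) (BT.node (nat_lit 9503232) (BT.node (nat_lit 9503104) (BT.node (nat_lit 9503040) (BT.leaf (nat_lit 47247113)) (BT.leaf (nat_lit 48099869))) (BT.node (nat_lit 9503168) (BT.leaf (nat_lit 27460877)) (BT.leaf (nat_lit 30498053)))) (BT.node (nat_lit 9503360) (BT.node (nat_lit 9503296) (BT.leaf (nat_lit 43889697)) (BT.leaf (nat_lit 45132805))) (BT.node (nat_lit 9503424) (BT.leaf (nat_lit 31974417)) (BT.leaf (nat_lit 38075397))))) (BT.node (nat_lit 9503744) (BT.node (nat_lit 9503616) (BT.node (nat_lit 9503552) (BT.leaf (nat_lit 40820241)) (BT.leaf (nat_lit 31944453))) (BT.node (nat_lit 9503680) (BT.leaf (nat_lit 27460897)) (BT.leaf (nat_lit 38007817)))) (BT.node (nat_lit 9503872) (BT.node (nat_lit 9503808) (BT.leaf (nat_lit 38007821)) (BT.leaf (nat_lit 38007825))) (BT.node (nat_lit 9503936) (BT.leaf (nat_lit 30907921)) (BT.leaf (nat_lit 45703941))))))) (BT.node (nat_lit 9505024) (BT.node (nat_lit 9504512) (BT.node (nat_lit 9504256) (BT.node (nat_lit 9504128) (BT.node (nat_lit 9504064) (BT.leaf (nat_lit 43900181)) (BT.leaf (nat_lit 44832517))) (BT.node (nat_lit 9504192) (BT.leaf (nat_lit 38947361)) (BT.leaf (nat_lit 43166981)))) (BT.node (nat_lit 9504384) (BT.node (nat_lit 9504320) (BT.leaf (nat_lit 46000901)) (BT.leaf (nat_lit 39314209))) (BT.node (nat_lit 9504448) (BT.leaf (nat_lit 43659805)) (BT.leaf (nat_lit 39742213))))) (BT.node (nat_lit 9504768) (BT.node (nat_lit 9504640) (BT.node (nat_lit 9504576) (BT.leaf (nat_lit 38936581)) (BT.leaf (nat_lit 44704029))) (BT.node (nat_lit 9504704) (BT.leaf (nat_lit 27979021)) (BT.leaf (nat_lit 47725577)))) (BT.node (nat_lit 9504896) (BT.node (nat_lit 9504832) (BT.leaf (nat_lit 28182297)) (BT.leaf (nat_lit 30397193))) (BT.node (nat_lit 9504960) (BT.leaf (nat_lit 48210973)) (BT.leaf (nat_lit 48394013)))))) (BT.node (nat_lit 9505536) (BT.node (nat_lit 9505280) (BT.node (nat_lit 9505152) (BT.node (nat_lit 9505088) (BT.leaf (nat_lit 29912593)) (BT.leaf (nat_lit 49241369))) (BT.node (nat_lit 9505216) (BT.leaf (nat_lit 39297569)) (BT.leaf (nat_lit 31087885)))) (BT.node (nat_lit 9505408) (BT.node (nat_lit 9505344) (BT.leaf (nat_lit 31087889)) (BT.leaf (nat_lit 32067861))) (BT.node (nat_lit 9505472) (BT.leaf (nat_lit 30506017)) (BT.leaf (nat_lit 34791969))))) (BT.node (nat_lit 9505792) (BT.node (nat_lit 9505664) (BT.node (nat_lit 9505600) (BT.leaf (nat_lit 37902869)) (BT.leaf (nat_lit 30506273))) (BT.node (nat_lit 9505728) (BT.leaf (nat_lit 48950561)) (BT.leaf (nat_lit 47725597)))) (BT.node (nat_lit 9505920) (BT.node (nat_lit 9505856) (BT.leaf (nat_lit 28836625)) (BT.leaf (nat_lit 49561349))) (BT.node (nat_lit 9505984) (BT.leaf (nat_lit 32161305)) (BT.leaf (nat_lit 32161309)))))))) (BT.node (nat_lit 9507968) (BT.node (nat_lit 9507072) (BT.node (nat_lit 9506560) (BT.node (nat_lit 9506304) (BT.node (nat_lit 9506176) (BT.node (nat_lit 9506112) (BT.leaf (nat_lit 30397201)) (BT.leaf (nat_lit 28981025))) (BT.node (nat_lit 9506240) (BT.leaf (nat_lit 32851717)) (BT.leaf (nat_lit 31812385)))) (BT.node (nat_lit 9506432) (BT.node (nat_lit 9506368) (BT.leaf (nat_lit 30509857)) (BT.leaf (nat_lit 32551953))) (BT.node (nat_lit 9506496) (BT.leaf (nat_lit 38333965)) (BT.leaf (nat_lit 46344977))))) (BT.node (nat_lit 9506816) (BT.node (nat_lit 9506688) (BT.node (nat_lit 9506624) (BT.leaf (nat_lit 32428053)) (BT.leaf (nat_lit 29571101))) (BT.node (nat_lit 9506752) (BT.leaf (nat_lit 46047009)) (BT.leaf (nat_lit 31690513)))) (BT.node (nat_lit 9506944) (BT.node (nat_lit 9506880) (BT.leaf (nat_lit 27465757)) (BT.leaf (nat_lit 30210837))) (BT.node (nat_lit 9507008) (BT.leaf (nat_lit 46447885)) (BT.leaf (nat_lit 29826065)))))) (BT.node (nat_lit 9507520) (BT.node (nat_lit 9507328) (BT.node (nat_lit 9507200) (BT.node (nat_lit 9507136) (BT.leaf (nat_lit 31877137)) (BT.leaf (nat_lit 43508757))) (BT.node (nat_lit 9507264) (BT.leaf (nat_lit 30357537)) (BT.leaf (nat_lit 28816661)))) (BT.node (nat_lit 9507398) (BT.node (nat_lit 9507392) (BT.leaf (nat_lit 27470621)) (BT.leaf (nat_lit 42328865))) (BT.node (nat_lit 9507456) (BT.leaf (nat_lit 626184)) (BT.leaf (nat_lit 30357529))))) (BT.node (nat_lit 9507776) (BT.node (nat_lit 9507648) (BT.node (nat_lit 9507584) (BT.leaf (nat_lit 30357533)) (BT.leaf (nat_lit 33258001))) (BT.node (nat_lit 9507712) (BT.leaf (nat_lit 27472657)) (BT.leaf (nat_lit 31149589)))) (BT.node (nat_lit 9507840) (BT.node (nat_lit 9507781) (BT.leaf (nat_lit 52001545)) (BT.leaf (nat_lit 594368))) (BT.node (nat_lit 9507904) (BT.leaf (nat_lit 31149597)) (BT.leaf (nat_lit 27757833))))))) (BT.node (nat_lit 9508928) (BT.node (nat_lit 9508416) (BT.node (nat_lit 9508165) (BT.node (nat_lit 9508096) (BT.node (nat_lit 9508032) (BT.leaf (nat_lit 27757837)) (BT.leaf (nat_lit 27757841))) (BT.node (nat_lit 9508160) (BT.leaf (nat_lit 27757849)) (BT.leaf (nat_lit 45029125)))) (BT.node (nat_lit 9508288) (BT.node (nat_lit 9508224) (BT.leaf (nat_lit 630000)) (BT.leaf (nat_lit 27757857))) (BT.node (nat_lit 9508352) (BT.leaf (nat_lit 40710165)) (BT.leaf (nat_lit 31665937))))) (BT.node (nat_lit 9508672) (BT.node (nat_lit 9508544) (BT.node (nat_lit 9508480) (BT.leaf (nat_lit 27473413)) (BT.leaf (nat_lit 38245921))) (BT.node (nat_lit 9508608) (BT.leaf (nat_lit 47458069)) (BT.leaf (nat_lit 28133905)))) (BT.node (nat_lit 9508800) (BT.node (nat_lit 9508736) (BT.leaf (nat_lit 32179465)) (BT.leaf (nat_lit 47465241))) (BT.node (nat_lit 9508864) (BT.leaf (nat_lit 40441873)) (BT.leaf (nat_lit 37767949)))))) (BT.node (nat_lit 9509440) (BT.node (nat_lit 9509184) (BT.node (nat_lit 9509056) (BT.node (nat_lit 9508992) (BT.leaf (nat_lit 42380301)) (BT.leaf (nat_lit 31933977))) (BT.node (nat_lit 9509120) (BT.leaf (nat_lit 32997125)) (BT.leaf (nat_lit 31953693)))) (BT.node (nat_lit 9509312) (BT.node (nat_lit 9509248) (BT.leaf (nat_lit 28278805)) (BT.leaf (nat_lit 34767129))) (BT.node (nat_lit 9509376) (BT.leaf (nat_lit 28362257)) (BT.leaf (nat_lit 31934237))))) (BT.node (nat_lit 9509632) (BT.node (nat_lit 9509504) (BT.node (nat_lit 9509443) (BT.leaf (nat_lit 49054221)) (BT.leaf (nat_lit 700932))) (BT.node (nat_lit 9509568) (BT.leaf (nat_lit 29432069)) (BT.leaf (nat_lit 47141397)))) (BT.node (nat_lit 9509701) (BT.node (nat_lit 9509696) (BT.leaf (nat_lit 43752225)) (BT.leaf (nat_lit 43089425))) (BT.node (nat_lit 9509702) (BT.leaf (nat_lit 713464)) (BT.leaf (nat_lit 597600)))))))))) (BT.node (nat_lit 9517120) (BT.node (nat_lit 9513472) (BT.node (nat_lit 9511616) (BT.node (nat_lit 9510656) (BT.node (nat_lit 9510144) (BT.node (nat_lit 9509888) (BT.node (nat_lit 9509760) (BT.node (nat_lit 9509704) (BT.leaf (nat_lit 597600)) (BT.leaf (nat_lit 753844))) (BT.node (nat_lit 9509824) (BT.leaf (nat_lit 30382613)) (BT.leaf (nat_lit 33507089)))) (BT.node (nat_lit 9510016) (BT.node (nat_lit 9509952) (BT.leaf (nat_lit 31149593)) (BT.leaf (nat_lit 29441053))) (BT.node (nat_lit 9510080) (BT.leaf (nat_lit 42854921)) (BT.leaf (nat_lit 27478545))))) (BT.node (nat_lit 9510400) (BT.node (nat_lit 9510272) (BT.node (nat_lit 9510208) (BT.leaf (nat_lit 42854421)) (BT.leaf (nat_lit 32430361))) (BT.node (nat_lit 9510336) (BT.leaf (nat_lit 32430365)) (BT.leaf (nat_lit 38034185)))) (BT.node (nat_lit 9510528) (BT.node (nat_lit 9510464) (BT.leaf (nat_lit 51051041)) (BT.leaf (nat_lit 38568213))) (BT.node (nat_lit 9510592) (BT.leaf (nat_lit 38568217)) (BT.leaf (nat_lit 38568221)))))) (BT.node (nat_lit 9511104) (BT.node (nat_lit 9510912) (BT.node (nat_lit 9510784) (BT.node (nat_lit 9510720) (BT.leaf (nat_lit 40530721)) (BT.leaf (nat_lit 38653957))) (BT.node (nat_lit 9510848) (BT.leaf (nat_lit 40717069)) (BT.leaf (nat_lit 27478801)))) (BT.node (nat_lit 9510976) (BT.node (nat_lit 9510916) (BT.leaf (nat_lit 31702289)) (BT.leaf (nat_lit 763648))) (BT.node (nat_lit 9511040) (BT.leaf (nat_lit 29772561)) (BT.leaf (nat_lit 27479837))))) (BT.node (nat_lit 9511360) (BT.node (nat_lit 9511232) (BT.node (nat_lit 9511168) (BT.leaf (nat_lit 27479833)) (BT.leaf (nat_lit 27480081))) (BT.node (nat_lit 9511296) (BT.leaf (nat_lit 29429265)) (BT.leaf (nat_lit 45729029)))) (BT.node (nat_lit 9511488) (BT.node (nat_lit 9511424) (BT.leaf (nat_lit 38260229)) (BT.leaf (nat_lit 39835653))) (BT.node (nat_lit 9511552) (BT.leaf (nat_lit 27476241)) (BT.leaf (nat_lit 50196241))))))) (BT.node (nat_lit 9512640) (BT.node (nat_lit 9512128) (BT.node (nat_lit 9511872) (BT.node (nat_lit 9511744) (BT.node (nat_lit 9511680) (BT.leaf (nat_lit 31387929)) (BT.leaf (nat_lit 31387933))) (BT.node (nat_lit 9511808) (BT.leaf (nat_lit 38322697)) (BT.leaf (nat_lit 47292697)))) (BT.node (nat_lit 9512000) (BT.node (nat_lit 9511936) (BT.leaf (nat_lit 27481113)) (BT.leaf (nat_lit 48911109))) (BT.node (nat_lit 9512064) (BT.leaf (nat_lit 38190869)) (BT.leaf (nat_lit 27481117))))) (BT.node (nat_lit 9512384) (BT.node (nat_lit 9512256) (BT.node (nat_lit 9512192) (BT.leaf (nat_lit 30150917)) (BT.leaf (nat_lit 27481617))) (BT.node (nat_lit 9512320) (BT.leaf (nat_lit 51657237)) (BT.leaf (nat_lit 27475729)))) (BT.node (nat_lit 9512512) (BT.node (nat_lit 9512448) (BT.leaf (nat_lit 51308309)) (BT.leaf (nat_lit 50710033))) (BT.node (nat_lit 9512576) (BT.leaf (nat_lit 43780885)) (BT.leaf (nat_lit 50889497)))))) (BT.node (nat_lit 9513152) (BT.node (nat_lit 9512896) (BT.node (nat_lit 9512768) (BT.node (nat_lit 9512704) (BT.leaf (nat_lit 42815493)) (BT.leaf (nat_lit 29044741))) (BT.node (nat_lit 9512832) (BT.leaf (nat_lit 43560221)) (BT.leaf (nat_lit 38049285)))) (BT.node (nat_lit 9513024) (BT.node (nat_lit 9512960) (BT.leaf (nat_lit 34849821)) (BT.leaf (nat_lit 46346265))) (BT.node (nat_lit 9513088) (BT.leaf (nat_lit 29552645)) (BT.leaf (nat_lit 27486481))))) (BT.node (nat_lit 9513280) (BT.node (nat_lit 9513219) (BT.node (nat_lit 9513216) (BT.leaf (nat_lit 46969377)) (BT.leaf (nat_lit 35459605))) (BT.node (nat_lit 9513221) (BT.leaf (nat_lit 799464)) (BT.leaf (nat_lit 799464)))) (BT.node (nat_lit 9513346) (BT.node (nat_lit 9513344) (BT.leaf (nat_lit 27489049)) (BT.leaf (nat_lit 44227601))) (BT.node (nat_lit 9513408) (BT.leaf (nat_lit 660528)) (BT.leaf (nat_lit 49165081)))))))) (BT.node (nat_lit 9515141) (BT.node (nat_lit 9514432) (BT.node (nat_lit 9513984) (BT.node (nat_lit 9513728) (BT.node (nat_lit 9513600) (BT.node (nat_lit 9513536) (BT.leaf (nat_lit 27489565)) (BT.leaf (nat_lit 27489053))) (BT.node (nat_lit 9513664) (BT.leaf (nat_lit 42069537)) (BT.leaf (nat_lit 47747861)))) (BT.node (nat_lit 9513856) (BT.node (nat_lit 9513792) (BT.leaf (nat_lit 28367369)) (BT.leaf (nat_lit 28367373))) (BT.node (nat_lit 9513920) (BT.leaf (nat_lit 33100053)) (BT.leaf (nat_lit 28367385))))) (BT.node (nat_lit 9514176) (BT.node (nat_lit 9514112) (BT.node (nat_lit 9514048) (BT.leaf (nat_lit 46389013)) (BT.leaf (nat_lit 27488025))) (BT.node (nat_lit 9514114) (BT.leaf (nat_lit 28477189)) (BT.leaf (nat_lit 733432)))) (BT.node (nat_lit 9514304) (BT.node (nat_lit 9514240) (BT.leaf (nat_lit 28477461)) (BT.leaf (nat_lit 28915205))) (BT.node (nat_lit 9514368) (BT.leaf (nat_lit 27488029)) (BT.leaf (nat_lit 28915221)))))) (BT.node (nat_lit 9514759) (BT.node (nat_lit 9514624) (BT.node (nat_lit 9514560) (BT.node (nat_lit 9514496) (BT.leaf (nat_lit 33828357)) (BT.leaf (nat_lit 27308561))) (BT.node (nat_lit 9514567) (BT.leaf (nat_lit 37906465)) (BT.leaf (nat_lit 738044)))) (BT.node (nat_lit 9514688) (BT.node (nat_lit 9514625) (BT.leaf (nat_lit 40453913)) (BT.leaf (nat_lit 608040))) (BT.node (nat_lit 9514752) (BT.leaf (nat_lit 29071389)) (BT.leaf (nat_lit 37906693))))) (BT.node (nat_lit 9515008) (BT.node (nat_lit 9514880) (BT.node (nat_lit 9514816) (BT.leaf (nat_lit 782928)) (BT.leaf (nat_lit 43550497))) (BT.node (nat_lit 9514944) (BT.leaf (nat_lit 43264517)) (BT.leaf (nat_lit 32602145)))) (BT.node (nat_lit 9515072) (BT.node (nat_lit 9515013) (BT.leaf (nat_lit 37767437)) (BT.leaf (nat_lit 658124))) (BT.node (nat_lit 9515136) (BT.leaf (nat_lit 32335649)) (BT.leaf (nat_lit 38258437))))))) (BT.node (nat_lit 9516160) (BT.node (nat_lit 9515648) (BT.node (nat_lit 9515392) (BT.node (nat_lit 9515264) (BT.node (nat_lit 9515200) (BT.leaf (nat_lit 741488)) (BT.leaf (nat_lit 46312733))) (BT.node (nat_lit 9515328) (BT.leaf (nat_lit 49817365)) (BT.leaf (nat_lit 44613637)))) (BT.node (nat_lit 9515520) (BT.node (nat_lit 9515456) (BT.leaf (nat_lit 44612101)) (BT.leaf (nat_lit 27491857))) (BT.node (nat_lit 9515584) (BT.leaf (nat_lit 44621061)) (BT.leaf (nat_lit 32719121))))) (BT.node (nat_lit 9515904) (BT.node (nat_lit 9515776) (BT.node (nat_lit 9515712) (BT.leaf (nat_lit 42886149)) (BT.leaf (nat_lit 30774553))) (BT.node (nat_lit 9515840) (BT.leaf (nat_lit 38679573)) (BT.leaf (nat_lit 33934349)))) (BT.node (nat_lit 9516032) (BT.node (nat_lit 9515968) (BT.leaf (nat_lit 47710993)) (BT.leaf (nat_lit 36765973))) (BT.node (nat_lit 9516096) (BT.leaf (nat_lit 28470557)) (BT.leaf (nat_lit 27493905)))))) (BT.node (nat_lit 9516608) (BT.node (nat_lit 9516352) (BT.node (nat_lit 9516225) (BT.node (nat_lit 9516224) (BT.leaf (nat_lit 27560469)) (BT.leaf (nat_lit 27560473))) (BT.node (nat_lit 9516288) (BT.leaf (nat_lit 785232)) (BT.leaf (nat_lit 27560477)))) (BT.node (nat_lit 9516480) (BT.node (nat_lit 9516416) (BT.leaf (nat_lit 31243269)) (BT.leaf (nat_lit 49787909))) (BT.node (nat_lit 9516544) (BT.leaf (nat_lit 49452549)) (BT.leaf (nat_lit 45832213))))) (BT.node (nat_lit 9516864) (BT.node (nat_lit 9516736) (BT.node (nat_lit 9516672) (BT.leaf (nat_lit 45832221)) (BT.leaf (nat_lit 29089797))) (BT.node (nat_lit 9516800) (BT.leaf (nat_lit 29089817)) (BT.leaf (nat_lit 34167073)))) (BT.node (nat_lit 9516992) (BT.node (nat_lit 9516928) (BT.leaf (nat_lit 46978837)) (BT.leaf (nat_lit 30559257))) (BT.node (nat_lit 9517056) (BT.leaf (nat_lit 30559261)) (BT.leaf (nat_lit 37393941))))))))) (BT.node (nat_lit 9521024) (BT.node (nat_lit 9519108) (BT.node (nat_lit 9518144) (BT.node (nat_lit 9517632) (BT.node (nat_lit 9517376) (BT.node (nat_lit 9517248) (BT.node (nat_lit 9517184) (BT.leaf (nat_lit 28272161)) (BT.leaf (nat_lit 27833373))) (BT.node (nat_lit 9517312) (BT.leaf (nat_lit 27547669)) (BT.leaf (nat_lit 48198929)))) (BT.node (nat_lit 9517504) (BT.node (nat_lit 9517440) (BT.leaf (nat_lit 38723093)) (BT.leaf (nat_lit 28176153))) (BT.node (nat_lit 9517568) (BT.leaf (nat_lit 34134033)) (BT.leaf (nat_lit 28341521))))) (BT.node (nat_lit 9517888) (BT.node (nat_lit 9517760) (BT.node (nat_lit 9517696) (BT.leaf (nat_lit 38718993)) (BT.leaf (nat_lit 39929377))) (BT.node (nat_lit 9517824) (BT.leaf (nat_lit 46804753)) (BT.leaf (nat_lit 30093065)))) (BT.node (nat_lit 9518016) (BT.node (nat_lit 9517952) (BT.leaf (nat_lit 43567381)) (BT.leaf (nat_lit 27500549))) (BT.node (nat_lit 9518080) (BT.leaf (nat_lit 39789345)) (BT.leaf (nat_lit 32684313)))))) (BT.node (nat_lit 9518656) (BT.node (nat_lit 9518400) (BT.node (nat_lit 9518272) (BT.node (nat_lit 9518208) (BT.leaf (nat_lit 45947397)) (BT.leaf (nat_lit 39181317))) (BT.node (nat_lit 9518336) (BT.leaf (nat_lit 37826337)) (BT.leaf (nat_lit 42993173)))) (BT.node (nat_lit 9518528) (BT.node (nat_lit 9518464) (BT.leaf (nat_lit 27736593)) (BT.leaf (nat_lit 38073625))) (BT.node (nat_lit 9518592) (BT.leaf (nat_lit 50183701)) (BT.leaf (nat_lit 47526929))))) (BT.node (nat_lit 9518912) (BT.node (nat_lit 9518784) (BT.node (nat_lit 9518720) (BT.leaf (nat_lit 42780437)) (BT.leaf (nat_lit 28941601))) (BT.node (nat_lit 9518848) (BT.leaf (nat_lit 29768205)) (BT.leaf (nat_lit 42835985)))) (BT.node (nat_lit 9519040) (BT.node (nat_lit 9518976) (BT.leaf (nat_lit 44693781)) (BT.leaf (nat_lit 36909585))) (BT.node (nat_lit 9519104) (BT.leaf (nat_lit 33997073)) (BT.leaf (nat_lit 43473161))))))) (BT.node (nat_lit 9520064) (BT.node (nat_lit 9519616) (BT.node (nat_lit 9519360) (BT.node (nat_lit 9519232) (BT.node (nat_lit 9519168) (BT.leaf (nat_lit 627432)) (BT.leaf (nat_lit 45050145))) (BT.node (nat_lit 9519296) (BT.leaf (nat_lit 30104601)) (BT.leaf (nat_lit 32631073)))) (BT.node (nat_lit 9519488) (BT.node (nat_lit 9519424) (BT.leaf (nat_lit 38874385)) (BT.leaf (nat_lit 46438157))) (BT.node (nat_lit 9519552) (BT.leaf (nat_lit 29385229)) (BT.leaf (nat_lit 28261141))))) (BT.node (nat_lit 9519808) (BT.node (nat_lit 9519744) (BT.node (nat_lit 9519680) (BT.leaf (nat_lit 42834977)) (BT.leaf (nat_lit 28416789))) (BT.node (nat_lit 9519750) (BT.leaf (nat_lit 28417041)) (BT.leaf (nat_lit 738028)))) (BT.node (nat_lit 9519936) (BT.node (nat_lit 9519872) (BT.leaf (nat_lit 32480265)) (BT.leaf (nat_lit 34670353))) (BT.node (nat_lit 9520000) (BT.leaf (nat_lit 29581089)) (BT.leaf (nat_lit 34852621)))))) (BT.node (nat_lit 9520576) (BT.node (nat_lit 9520320) (BT.node (nat_lit 9520192) (BT.node (nat_lit 9520128) (BT.leaf (nat_lit 29919493)) (BT.leaf (nat_lit 37831685))) (BT.node (nat_lit 9520256) (BT.leaf (nat_lit 38797321)) (BT.leaf (nat_lit 28367389)))) (BT.node (nat_lit 9520448) (BT.node (nat_lit 9520384) (BT.leaf (nat_lit 37861409)) (BT.leaf (nat_lit 30124549))) (BT.node (nat_lit 9520512) (BT.leaf (nat_lit 30903329)) (BT.leaf (nat_lit 30189589))))) (BT.node (nat_lit 9520768) (BT.node (nat_lit 9520645) (BT.node (nat_lit 9520640) (BT.leaf (nat_lit 30018313)) (BT.leaf (nat_lit 40077857))) (BT.node (nat_lit 9520704) (BT.leaf (nat_lit 606212)) (BT.leaf (nat_lit 42214413)))) (BT.node (nat_lit 9520896) (BT.node (nat_lit 9520832) (BT.leaf (nat_lit 32770849)) (BT.leaf (nat_lit 32199173))) (BT.node (nat_lit 9520960) (BT.leaf (nat_lit 43406621)) (BT.leaf (nat_lit 47802133)))))))) (BT.node (nat_lit 9523008) (BT.node (nat_lit 9521984) (BT.node (nat_lit 9521472) (BT.node (nat_lit 9521216) (BT.node (nat_lit 9521152) (BT.node (nat_lit 9521088) (BT.leaf (nat_lit 28397841)) (BT.leaf (nat_lit 38084637))) (BT.node (nat_lit 9521155) (BT.leaf (nat_lit 27508757)) (BT.leaf (nat_lit 725704)))) (BT.node (nat_lit 9521344) (BT.node (nat_lit 9521280) (BT.leaf (nat_lit 28397857)) (BT.leaf (nat_lit 38965253))) (BT.node (nat_lit 9521408) (BT.leaf (nat_lit 32608009)) (BT.leaf (nat_lit 32608029))))) (BT.node (nat_lit 9521728) (BT.node (nat_lit 9521600) (BT.node (nat_lit 9521536) (BT.leaf (nat_lit 38803725)) (BT.leaf (nat_lit 38802185))) (BT.node (nat_lit 9521664) (BT.leaf (nat_lit 32200709)) (BT.leaf (nat_lit 28040225)))) (BT.node (nat_lit 9521856) (BT.node (nat_lit 9521792) (BT.leaf (nat_lit 27702293)) (BT.leaf (nat_lit 34877729))) (BT.node (nat_lit 9521920) (BT.leaf (nat_lit 49592865)) (BT.leaf (nat_lit 49377057)))))) (BT.node (nat_lit 9522496) (BT.node (nat_lit 9522240) (BT.node (nat_lit 9522112) (BT.node (nat_lit 9522048) (BT.leaf (nat_lit 27509265)) (BT.leaf (nat_lit 35819273))) (BT.node (nat_lit 9522176) (BT.leaf (nat_lit 51374869)) (BT.leaf (nat_lit 51375881)))) (BT.node (nat_lit 9522368) (BT.node (nat_lit 9522304) (BT.leaf (nat_lit 33144085)) (BT.leaf (nat_lit 27513621))) (BT.node (nat_lit 9522432) (BT.leaf (nat_lit 30182161)) (BT.leaf (nat_lit 29098273))))) (BT.node (nat_lit 9522752) (BT.node (nat_lit 9522624) (BT.node (nat_lit 9522560) (BT.leaf (nat_lit 48749345)) (BT.leaf (nat_lit 32260629))) (BT.node (nat_lit 9522688) (BT.leaf (nat_lit 38382881)) (BT.leaf (nat_lit 31005713)))) (BT.node (nat_lit 9522880) (BT.node (nat_lit 9522816) (BT.leaf (nat_lit 38199569)) (BT.leaf (nat_lit 27678481))) (BT.node (nat_lit 9522944) (BT.leaf (nat_lit 46365217)) (BT.leaf (nat_lit 31619105))))))) (BT.node (nat_lit 9523840) (BT.node (nat_lit 9523520) (BT.node (nat_lit 9523264) (BT.node (nat_lit 9523136) (BT.node (nat_lit 9523072) (BT.leaf (nat_lit 48576033)) (BT.leaf (nat_lit 42215961))) (BT.node (nat_lit 9523200) (BT.leaf (nat_lit 27513105)) (BT.leaf (nat_lit 27512849)))) (BT.node (nat_lit 9523392) (BT.node (nat_lit 9523328) (BT.leaf (nat_lit 27512081)) (BT.leaf (nat_lit 28716057))) (BT.node (nat_lit 9523456) (BT.leaf (nat_lit 28716061)) (BT.leaf (nat_lit 32427781))))) (BT.node (nat_lit 9523776) (BT.node (nat_lit 9523648) (BT.node (nat_lit 9523584) (BT.leaf (nat_lit 44677397)) (BT.leaf (nat_lit 36319493))) (BT.node (nat_lit 9523712) (BT.leaf (nat_lit 27550489)) (BT.leaf (nat_lit 27550493)))) (BT.node (nat_lit 9523782) (BT.node (nat_lit 9523781) (BT.leaf (nat_lit 28158481)) (BT.leaf (nat_lit 600280))) (BT.node (nat_lit 9523783) (BT.leaf (nat_lit 600280)) (BT.leaf (nat_lit 600280)))))) (BT.node (nat_lit 9524352) (BT.node (nat_lit 9524096) (BT.node (nat_lit 9523968) (BT.node (nat_lit 9523904) (BT.leaf (nat_lit 29080353)) (BT.leaf (nat_lit 42273309))) (BT.node (nat_lit 9524032) (BT.leaf (nat_lit 27516689)) (BT.leaf (nat_lit 29956117)))) (BT.node (nat_lit 9524224) (BT.node (nat_lit 9524160) (BT.leaf (nat_lit 31249185)) (BT.leaf (nat_lit 29899789))) (BT.node (nat_lit 9524288) (BT.leaf (nat_lit 43709445)) (BT.leaf (nat_lit 30018833))))) (BT.node (nat_lit 9524608) (BT.node (nat_lit 9524480) (BT.node (nat_lit 9524416) (BT.leaf (nat_lit 27330065)) (BT.leaf (nat_lit 32026121))) (BT.node (nat_lit 9524544) (BT.leaf (nat_lit 33302301)) (BT.leaf (nat_lit 28021525)))) (BT.node (nat_lit 9524736) (BT.node (nat_lit 9524672) (BT.leaf (nat_lit 30031645)) (BT.leaf (nat_lit 38340641))) (BT.node (nat_lit 9524800) (BT.leaf (nat_lit 38099229)) (BT.leaf (nat_lit 46479125)))))))))))))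
noncomputable def big0_e75776 : BT Nat := (BT.node (nat_lit 9586688) (BT.node (nat_lit 9556032) (BT.node (nat_lit 9540480) (BT.node (nat_lit 9532800) (BT.node (nat_lit 9528896) (BT.node (nat_lit 9526848) (BT.node (nat_lit 9525824) (BT.node (nat_lit 9525312) (BT.node (nat_lit 9525056) (BT.node (nat_lit 9524928) (BT.node (nat_lit 9524869) (BT.leaf (nat_lit 40588549)) (BT.leaf (nat_lit 701504))) (BT.node (nat_lit 9524992) (BT.leaf (nat_lit 44696333)) (BT.leaf (nat_lit 42841361)))) (BT.node (nat_lit 9525184) (BT.node (nat_lit 9525120) (BT.leaf (nat_lit 41998361)) (BT.leaf (nat_lit 37850913))) (BT.node (nat_lit 9525248) (BT.leaf (nat_lit 31428889)) (BT.leaf (nat_lit 33141773))))) (BT.node (nat_lit 9525568) (BT.node (nat_lit 9525440) (BT.node (nat_lit 9525376) (BT.leaf (nat_lit 33141769)) (BT.leaf (nat_lit 33141785))) (BT.node (nat_lit 9525504) (BT.leaf (nat_lit 33141789)) (BT.leaf (nat_lit 28007193)))) (BT.node (nat_lit 9525696) (BT.node (nat_lit 9525632) (BT.leaf (nat_lit 31631621)) (BT.leaf (nat_lit 30742021))) (BT.node (nat_lit 9525760) (BT.leaf (nat_lit 39596805)) (BT.leaf (nat_lit 29616149)))))) (BT.node (nat_lit 9526336) (BT.node (nat_lit 9526080) (BT.node (nat_lit 9525952) (BT.node (nat_lit 9525888) (BT.leaf (nat_lit 27519249)) (BT.leaf (nat_lit 29914145))) (BT.node (nat_lit 9526016) (BT.leaf (nat_lit 27519505)) (BT.leaf (nat_lit 32958497)))) (BT.node (nat_lit 9526208) (BT.node (nat_lit 9526144) (BT.leaf (nat_lit 28118553)) (BT.leaf (nat_lit 28118557))) (BT.node (nat_lit 9526272) (BT.leaf (nat_lit 31105549)) (BT.leaf (nat_lit 49475089))))) (BT.node (nat_lit 9526592) (BT.node (nat_lit 9526464) (BT.node (nat_lit 9526400) (BT.leaf (nat_lit 27520529)) (BT.leaf (nat_lit 27519761))) (BT.node (nat_lit 9526528) (BT.leaf (nat_lit 45424153)) (BT.leaf (nat_lit 45424157)))) (BT.node (nat_lit 9526720) (BT.node (nat_lit 9526656) (BT.leaf (nat_lit 31107873)) (BT.leaf (nat_lit 46782993))) (BT.node (nat_lit 9526784) (BT.leaf (nat_lit 46128645)) (BT.leaf (nat_lit 46207237))))))) (BT.node (nat_lit 9527872) (BT.node (nat_lit 9527360) (BT.node (nat_lit 9527104) (BT.node (nat_lit 9526976) (BT.node (nat_lit 9526912) (BT.leaf (nat_lit 39253021)) (BT.leaf (nat_lit 37976865))) (BT.node (nat_lit 9527040) (BT.leaf (nat_lit 43209233)) (BT.leaf (nat_lit 29282069)))) (BT.node (nat_lit 9527232) (BT.node (nat_lit 9527168) (BT.leaf (nat_lit 29282073)) (BT.leaf (nat_lit 34978053))) (BT.node (nat_lit 9527296) (BT.leaf (nat_lit 27521801)) (BT.leaf (nat_lit 27521797))))) (BT.node (nat_lit 9527616) (BT.node (nat_lit 9527488) (BT.node (nat_lit 9527424) (BT.leaf (nat_lit 41297413)) (BT.leaf (nat_lit 44882437))) (BT.node (nat_lit 9527552) (BT.leaf (nat_lit 27522069)) (BT.leaf (nat_lit 49108233)))) (BT.node (nat_lit 9527744) (BT.node (nat_lit 9527680) (BT.leaf (nat_lit 41602309)) (BT.leaf (nat_lit 32185605))) (BT.node (nat_lit 9527808) (BT.leaf (nat_lit 31106057)) (BT.leaf (nat_lit 30350861)))))) (BT.node (nat_lit 9528384) (BT.node (nat_lit 9528128) (BT.node (nat_lit 9528000) (BT.node (nat_lit 9527936) (BT.leaf (nat_lit 50547469)) (BT.leaf (nat_lit 29290505))) (BT.node (nat_lit 9528064) (BT.leaf (nat_lit 48123413)) (BT.leaf (nat_lit 33806625)))) (BT.node (nat_lit 9528256) (BT.node (nat_lit 9528192) (BT.leaf (nat_lit 46391841)) (BT.leaf (nat_lit 32446725))) (BT.node (nat_lit 9528320) (BT.leaf (nat_lit 30209569)) (BT.leaf (nat_lit 32314397))))) (BT.node (nat_lit 9528640) (BT.node (nat_lit 9528512) (BT.node (nat_lit 9528448) (BT.leaf (nat_lit 27524873)) (BT.leaf (nat_lit 27524617))) (BT.node (nat_lit 9528576) (BT.leaf (nat_lit 28577545)) (BT.leaf (nat_lit 48396293)))) (BT.node (nat_lit 9528768) (BT.node (nat_lit 9528704) (BT.leaf (nat_lit 28577561)) (BT.leaf (nat_lit 30390037))) (BT.node (nat_lit 9528832) (BT.leaf (nat_lit 49702405)) (BT.leaf (nat_lit 38115097)))))))) (BT.node (nat_lit 9530880) (BT.node (nat_lit 9529920) (BT.node (nat_lit 9529408) (BT.node (nat_lit 9529152) (BT.node (nat_lit 9529024) (BT.node (nat_lit 9528960) (BT.leaf (nat_lit 36281873)) (BT.leaf (nat_lit 33753621))) (BT.node (nat_lit 9529088) (BT.leaf (nat_lit 27522333)) (BT.leaf (nat_lit 40058913)))) (BT.node (nat_lit 9529280) (BT.node (nat_lit 9529216) (BT.leaf (nat_lit 32936225)) (BT.leaf (nat_lit 31490841))) (BT.node (nat_lit 9529344) (BT.leaf (nat_lit 44007949)) (BT.leaf (nat_lit 34455821))))) (BT.node (nat_lit 9529664) (BT.node (nat_lit 9529536) (BT.node (nat_lit 9529472) (BT.leaf (nat_lit 30969877)) (BT.leaf (nat_lit 50932761))) (BT.node (nat_lit 9529600) (BT.leaf (nat_lit 44019481)) (BT.leaf (nat_lit 27524877)))) (BT.node (nat_lit 9529792) (BT.node (nat_lit 9529728) (BT.leaf (nat_lit 40752149)) (BT.leaf (nat_lit 28785697))) (BT.node (nat_lit 9529856) (BT.leaf (nat_lit 31113737)) (BT.leaf (nat_lit 47709709)))))) (BT.node (nat_lit 9530373) (BT.node (nat_lit 9530176) (BT.node (nat_lit 9530048) (BT.node (nat_lit 9529984) (BT.leaf (nat_lit 47651617)) (BT.leaf (nat_lit 47651361))) (BT.node (nat_lit 9530112) (BT.leaf (nat_lit 32864789)) (BT.leaf (nat_lit 50595857)))) (BT.node (nat_lit 9530304) (BT.node (nat_lit 9530240) (BT.leaf (nat_lit 36094733)) (BT.leaf (nat_lit 30010385))) (BT.node (nat_lit 9530368) (BT.leaf (nat_lit 46176021)) (BT.leaf (nat_lit 29196573))))) (BT.node (nat_lit 9530624) (BT.node (nat_lit 9530496) (BT.node (nat_lit 9530432) (BT.leaf (nat_lit 637116)) (BT.leaf (nat_lit 48328225))) (BT.node (nat_lit 9530560) (BT.leaf (nat_lit 42103585)) (BT.leaf (nat_lit 41873941)))) (BT.node (nat_lit 9530752) (BT.node (nat_lit 9530688) (BT.leaf (nat_lit 41873945)) (BT.leaf (nat_lit 51232289))) (BT.node (nat_lit 9530816) (BT.leaf (nat_lit 33884437)) (BT.leaf (nat_lit 34379537))))))) (BT.node (nat_lit 9531840) (BT.node (nat_lit 9531392) (BT.node (nat_lit 9531136) (BT.node (nat_lit 9531008) (BT.node (nat_lit 9530944) (BT.leaf (nat_lit 28577809)) (BT.leaf (nat_lit 48453397))) (BT.node (nat_lit 9531072) (BT.leaf (nat_lit 31218457)) (BT.leaf (nat_lit 31218461)))) (BT.node (nat_lit 9531264) (BT.node (nat_lit 9531200) (BT.leaf (nat_lit 29746461)) (BT.leaf (nat_lit 40394785))) (BT.node (nat_lit 9531328) (BT.leaf (nat_lit 38619157)) (BT.leaf (nat_lit 30917393))))) (BT.node (nat_lit 9531584) (BT.node (nat_lit 9531456) (BT.node (nat_lit 9531398) (BT.leaf (nat_lit 29913609)) (BT.leaf (nat_lit 753772))) (BT.node (nat_lit 9531520) (BT.leaf (nat_lit 34566429)) (BT.leaf (nat_lit 36212769)))) (BT.node (nat_lit 9531712) (BT.node (nat_lit 9531648) (BT.leaf (nat_lit 31141397)) (BT.leaf (nat_lit 35114521))) (BT.node (nat_lit 9531776) (BT.leaf (nat_lit 28381961)) (BT.leaf (nat_lit 28381965)))))) (BT.node (nat_lit 9532288) (BT.node (nat_lit 9532096) (BT.node (nat_lit 9531968) (BT.node (nat_lit 9531904) (BT.leaf (nat_lit 27534869)) (BT.leaf (nat_lit 45458205))) (BT.node (nat_lit 9532032) (BT.leaf (nat_lit 49398789)) (BT.leaf (nat_lit 27532825)))) (BT.node (nat_lit 9532160) (BT.node (nat_lit 9532098) (BT.leaf (nat_lit 39647237)) (BT.leaf (nat_lit 722428))) (BT.node (nat_lit 9532224) (BT.leaf (nat_lit 32966421)) (BT.leaf (nat_lit 27534109))))) (BT.node (nat_lit 9532544) (BT.node (nat_lit 9532416) (BT.node (nat_lit 9532352) (BT.leaf (nat_lit 27533341)) (BT.leaf (nat_lit 27532829))) (BT.node (nat_lit 9532480) (BT.leaf (nat_lit 38408725)) (BT.leaf (nat_lit 31752713)))) (BT.node (nat_lit 9532672) (BT.node (nat_lit 9532608) (BT.leaf (nat_lit 47797781)) (BT.leaf (nat_lit 30561813))) (BT.node (nat_lit 9532736) (BT.leaf (nat_lit 31752729)) (BT.leaf (nat_lit 31752733))))))))) (BT.node (nat_lit 9536640) (BT.node (nat_lit 9534592) (BT.node (nat_lit 9533696) (BT.node (nat_lit 9533312) (BT.node (nat_lit 9533056) (BT.node (nat_lit 9532928) (BT.node (nat_lit 9532864) (BT.leaf (nat_lit 35331861)) (BT.leaf (nat_lit 47798041))) (BT.node (nat_lit 9532992) (BT.leaf (nat_lit 31629085)) (BT.leaf (nat_lit 31946773)))) (BT.node (nat_lit 9533184) (BT.node (nat_lit 9533120) (BT.leaf (nat_lit 50267169)) (BT.leaf (nat_lit 33832709))) (BT.node (nat_lit 9533248) (BT.leaf (nat_lit 30561817)) (BT.leaf (nat_lit 30561821))))) (BT.node (nat_lit 9533509) (BT.node (nat_lit 9533440) (BT.node (nat_lit 9533376) (BT.leaf (nat_lit 27536657)) (BT.leaf (nat_lit 27536401))) (BT.node (nat_lit 9533504) (BT.leaf (nat_lit 28061209)) (BT.leaf (nat_lit 27536913)))) (BT.node (nat_lit 9533568) (BT.node (nat_lit 9533511) (BT.leaf (nat_lit 758156)) (BT.leaf (nat_lit 758156))) (BT.node (nat_lit 9533632) (BT.leaf (nat_lit 32881185)) (BT.leaf (nat_lit 30294297)))))) (BT.node (nat_lit 9534144) (BT.node (nat_lit 9533888) (BT.node (nat_lit 9533765) (BT.node (nat_lit 9533760) (BT.leaf (nat_lit 31027977)) (BT.leaf (nat_lit 31029013))) (BT.node (nat_lit 9533824) (BT.leaf (nat_lit 605908)) (BT.leaf (nat_lit 28587297)))) (BT.node (nat_lit 9534016) (BT.node (nat_lit 9533952) (BT.leaf (nat_lit 39949341)) (BT.leaf (nat_lit 46119201))) (BT.node (nat_lit 9534080) (BT.leaf (nat_lit 31416841)) (BT.leaf (nat_lit 44835341))))) (BT.node (nat_lit 9534400) (BT.node (nat_lit 9534272) (BT.node (nat_lit 9534208) (BT.leaf (nat_lit 43331349)) (BT.leaf (nat_lit 38645009))) (BT.node (nat_lit 9534336) (BT.leaf (nat_lit 38645013)) (BT.leaf (nat_lit 46119685)))) (BT.node (nat_lit 9534528) (BT.node (nat_lit 9534464) (BT.leaf (nat_lit 40143365)) (BT.leaf (nat_lit 32322569))) (BT.node (nat_lit 9534536) (BT.leaf (nat_lit 32322573)) (BT.leaf (nat_lit 624904))))))) (BT.node (nat_lit 9535616) (BT.node (nat_lit 9535104) (BT.node (nat_lit 9534848) (BT.node (nat_lit 9534720) (BT.node (nat_lit 9534656) (BT.leaf (nat_lit 32322585)) (BT.leaf (nat_lit 32322589))) (BT.node (nat_lit 9534784) (BT.leaf (nat_lit 49815573)) (BT.leaf (nat_lit 30054929)))) (BT.node (nat_lit 9534976) (BT.node (nat_lit 9534912) (BT.leaf (nat_lit 31821317)) (BT.leaf (nat_lit 39349765))) (BT.node (nat_lit 9535040) (BT.leaf (nat_lit 27987737)) (BT.leaf (nat_lit 30766865))))) (BT.node (nat_lit 9535360) (BT.node (nat_lit 9535232) (BT.node (nat_lit 9535168) (BT.leaf (nat_lit 27539741)) (BT.leaf (nat_lit 27539737))) (BT.node (nat_lit 9535296) (BT.leaf (nat_lit 27540001)) (BT.leaf (nat_lit 43246865)))) (BT.node (nat_lit 9535488) (BT.node (nat_lit 9535424) (BT.leaf (nat_lit 45720081)) (BT.leaf (nat_lit 31051281))) (BT.node (nat_lit 9535552) (BT.leaf (nat_lit 34424097)) (BT.leaf (nat_lit 27603993)))))) (BT.node (nat_lit 9536128) (BT.node (nat_lit 9535872) (BT.node (nat_lit 9535744) (BT.node (nat_lit 9535680) (BT.leaf (nat_lit 27603997)) (BT.leaf (nat_lit 46924817))) (BT.node (nat_lit 9535808) (BT.leaf (nat_lit 44271637)) (BT.leaf (nat_lit 29951009)))) (BT.node (nat_lit 9536000) (BT.node (nat_lit 9535936) (BT.leaf (nat_lit 41306401)) (BT.leaf (nat_lit 33152025))) (BT.node (nat_lit 9536064) (BT.leaf (nat_lit 27542537)) (BT.leaf (nat_lit 46724885))))) (BT.node (nat_lit 9536384) (BT.node (nat_lit 9536256) (BT.node (nat_lit 9536192) (BT.leaf (nat_lit 27541533)) (BT.leaf (nat_lit 40323105))) (BT.node (nat_lit 9536320) (BT.leaf (nat_lit 50807045)) (BT.leaf (nat_lit 41011733)))) (BT.node (nat_lit 9536512) (BT.node (nat_lit 9536448) (BT.leaf (nat_lit 43224845)) (BT.leaf (nat_lit 49182241))) (BT.node (nat_lit 9536576) (BT.leaf (nat_lit 35216161)) (BT.leaf (nat_lit 34579225)))))))) (BT.node (nat_lit 9538432) (BT.node (nat_lit 9537664) (BT.node (nat_lit 9537152) (BT.node (nat_lit 9536896) (BT.node (nat_lit 9536768) (BT.node (nat_lit 9536704) (BT.leaf (nat_lit 29339425)) (BT.leaf (nat_lit 43321109))) (BT.node (nat_lit 9536832) (BT.leaf (nat_lit 34347529)) (BT.leaf (nat_lit 42754825)))) (BT.node (nat_lit 9537024) (BT.node (nat_lit 9536960) (BT.leaf (nat_lit 31327501)) (BT.leaf (nat_lit 38148125))) (BT.node (nat_lit 9537088) (BT.leaf (nat_lit 30599173)) (BT.leaf (nat_lit 38548245))))) (BT.node (nat_lit 9537408) (BT.node (nat_lit 9537280) (BT.node (nat_lit 9537216) (BT.leaf (nat_lit 27759889)) (BT.leaf (nat_lit 27544849))) (BT.node (nat_lit 9537344) (BT.leaf (nat_lit 31276041)) (BT.leaf (nat_lit 41925381)))) (BT.node (nat_lit 9537536) (BT.node (nat_lit 9537472) (BT.leaf (nat_lit 39913505)) (BT.leaf (nat_lit 27546633))) (BT.node (nat_lit 9537600) (BT.leaf (nat_lit 27546629)) (BT.leaf (nat_lit 42227225)))))) (BT.node (nat_lit 9538176) (BT.node (nat_lit 9537920) (BT.node (nat_lit 9537792) (BT.node (nat_lit 9537728) (BT.leaf (nat_lit 40005137)) (BT.leaf (nat_lit 32984353))) (BT.node (nat_lit 9537856) (BT.leaf (nat_lit 30313989)) (BT.leaf (nat_lit 32527393)))) (BT.node (nat_lit 9538048) (BT.node (nat_lit 9537984) (BT.leaf (nat_lit 39891489)) (BT.leaf (nat_lit 48959001))) (BT.node (nat_lit 9538112) (BT.leaf (nat_lit 28709153)) (BT.leaf (nat_lit 29376785))))) (BT.node (nat_lit 9538370) (BT.node (nat_lit 9538304) (BT.node (nat_lit 9538240) (BT.leaf (nat_lit 32917785)) (BT.leaf (nat_lit 32917789))) (BT.node (nat_lit 9538368) (BT.leaf (nat_lit 44957461)) (BT.leaf (nat_lit 27548949)))) (BT.node (nat_lit 9538372) (BT.node (nat_lit 9538371) (BT.leaf (nat_lit 652980)) (BT.leaf (nat_lit 774464))) (BT.node (nat_lit 9538376) (BT.leaf (nat_lit 774464)) (BT.leaf (nat_lit 652980))))))) (BT.node (nat_lit 9539456) (BT.node (nat_lit 9538944) (BT.node (nat_lit 9538688) (BT.node (nat_lit 9538560) (BT.node (nat_lit 9538496) (BT.leaf (nat_lit 50158865)) (BT.leaf (nat_lit 33688081))) (BT.node (nat_lit 9538624) (BT.leaf (nat_lit 33688077)) (BT.leaf (nat_lit 33906437)))) (BT.node (nat_lit 9538816) (BT.node (nat_lit 9538752) (BT.leaf (nat_lit 35709717)) (BT.leaf (nat_lit 47503121))) (BT.node (nat_lit 9538880) (BT.leaf (nat_lit 47503113)) (BT.leaf (nat_lit 28286477))))) (BT.node (nat_lit 9539200) (BT.node (nat_lit 9539072) (BT.node (nat_lit 9539008) (BT.leaf (nat_lit 47869965)) (BT.leaf (nat_lit 28635165))) (BT.node (nat_lit 9539136) (BT.leaf (nat_lit 30139913)) (BT.leaf (nat_lit 28902929)))) (BT.node (nat_lit 9539328) (BT.node (nat_lit 9539264) (BT.leaf (nat_lit 44099101)) (BT.leaf (nat_lit 28902945))) (BT.node (nat_lit 9539392) (BT.leaf (nat_lit 46730273)) (BT.leaf (nat_lit 39040033)))))) (BT.node (nat_lit 9539968) (BT.node (nat_lit 9539712) (BT.node (nat_lit 9539584) (BT.node (nat_lit 9539520) (BT.leaf (nat_lit 27550473)) (BT.leaf (nat_lit 39893793))) (BT.node (nat_lit 9539648) (BT.leaf (nat_lit 41026313)) (BT.leaf (nat_lit 41026589)))) (BT.node (nat_lit 9539840) (BT.node (nat_lit 9539776) (BT.leaf (nat_lit 44497685)) (BT.leaf (nat_lit 39894817))) (BT.node (nat_lit 9539904) (BT.leaf (nat_lit 39894561)) (BT.leaf (nat_lit 39895073))))) (BT.node (nat_lit 9540224) (BT.node (nat_lit 9540096) (BT.node (nat_lit 9540032) (BT.leaf (nat_lit 27784721)) (BT.leaf (nat_lit 42221593))) (BT.node (nat_lit 9540160) (BT.leaf (nat_lit 39895301)) (BT.leaf (nat_lit 47124245)))) (BT.node (nat_lit 9540352) (BT.node (nat_lit 9540288) (BT.leaf (nat_lit 47124253)) (BT.leaf (nat_lit 28622357))) (BT.node (nat_lit 9540416) (BT.leaf (nat_lit 47223061)) (BT.leaf (nat_lit 50763297)))))))))) (BT.node (nat_lit 9548352) (BT.node (nat_lit 9544256) (BT.node (nat_lit 9542336) (BT.node (nat_lit 9541504) (BT.node (nat_lit 9540992) (BT.node (nat_lit 9540736) (BT.node (nat_lit 9540608) (BT.node (nat_lit 9540544) (BT.leaf (nat_lit 42206737)) (BT.leaf (nat_lit 27551505))) (BT.node (nat_lit 9540672) (BT.leaf (nat_lit 28440853)) (BT.leaf (nat_lit 47440397)))) (BT.node (nat_lit 9540864) (BT.node (nat_lit 9540800) (BT.leaf (nat_lit 47439893)) (BT.leaf (nat_lit 48897541))) (BT.node (nat_lit 9540928) (BT.leaf (nat_lit 27554841)) (BT.leaf (nat_lit 41537029))))) (BT.node (nat_lit 9541248) (BT.node (nat_lit 9541120) (BT.node (nat_lit 9541056) (BT.leaf (nat_lit 47807001)) (BT.leaf (nat_lit 35003917))) (BT.node (nat_lit 9541184) (BT.leaf (nat_lit 33991945)) (BT.leaf (nat_lit 30724373)))) (BT.node (nat_lit 9541376) (BT.node (nat_lit 9541312) (BT.leaf (nat_lit 30724377)) (BT.leaf (nat_lit 30724381))) (BT.node (nat_lit 9541440) (BT.leaf (nat_lit 38170125)) (BT.leaf (nat_lit 27557649)))))) (BT.node (nat_lit 9541952) (BT.node (nat_lit 9541760) (BT.node (nat_lit 9541632) (BT.node (nat_lit 9541568) (BT.leaf (nat_lit 39024133)) (BT.leaf (nat_lit 28343577))) (BT.node (nat_lit 9541696) (BT.leaf (nat_lit 47934213)) (BT.leaf (nat_lit 27558165)))) (BT.node (nat_lit 9541824) (BT.node (nat_lit 9541764) (BT.leaf (nat_lit 41201421)) (BT.leaf (nat_lit 654096))) (BT.node (nat_lit 9541888) (BT.leaf (nat_lit 48657413)) (BT.leaf (nat_lit 33116949))))) (BT.node (nat_lit 9542084) (BT.node (nat_lit 9542020) (BT.node (nat_lit 9542016) (BT.leaf (nat_lit 31358477)) (BT.leaf (nat_lit 38742793))) (BT.node (nat_lit 9542080) (BT.leaf (nat_lit 785816)) (BT.leaf (nat_lit 49796629)))) (BT.node (nat_lit 9542208) (BT.node (nat_lit 9542144) (BT.leaf (nat_lit 613312)) (BT.leaf (nat_lit 27558425))) (BT.node (nat_lit 9542272) (BT.leaf (nat_lit 29802513)) (BT.leaf (nat_lit 27558429))))))) (BT.node (nat_lit 9543232) (BT.node (nat_lit 9542784) (BT.node (nat_lit 9542528) (BT.node (nat_lit 9542408) (BT.node (nat_lit 9542400) (BT.leaf (nat_lit 49386785)) (BT.leaf (nat_lit 46676233))) (BT.node (nat_lit 9542464) (BT.leaf (nat_lit 734296)) (BT.leaf (nat_lit 38170637)))) (BT.node (nat_lit 9542656) (BT.node (nat_lit 9542592) (BT.leaf (nat_lit 43531541)) (BT.leaf (nat_lit 42589205))) (BT.node (nat_lit 9542720) (BT.leaf (nat_lit 35026197)) (BT.leaf (nat_lit 45115157))))) (BT.node (nat_lit 9543040) (BT.node (nat_lit 9542912) (BT.node (nat_lit 9542848) (BT.leaf (nat_lit 41768225)) (BT.leaf (nat_lit 31708165))) (BT.node (nat_lit 9542976) (BT.leaf (nat_lit 28701985)) (BT.leaf (nat_lit 42496281)))) (BT.node (nat_lit 9543111) (BT.node (nat_lit 9543104) (BT.leaf (nat_lit 31834909)) (BT.leaf (nat_lit 29165837))) (BT.node (nat_lit 9543168) (BT.leaf (nat_lit 627320)) (BT.leaf (nat_lit 42280213)))))) (BT.node (nat_lit 9543744) (BT.node (nat_lit 9543488) (BT.node (nat_lit 9543360) (BT.node (nat_lit 9543296) (BT.leaf (nat_lit 29587205)) (BT.leaf (nat_lit 47940357))) (BT.node (nat_lit 9543424) (BT.leaf (nat_lit 31993869)) (BT.leaf (nat_lit 40001797)))) (BT.node (nat_lit 9543616) (BT.node (nat_lit 9543552) (BT.leaf (nat_lit 44322325)) (BT.leaf (nat_lit 43104265))) (BT.node (nat_lit 9543680) (BT.leaf (nat_lit 30258181)) (BT.leaf (nat_lit 44323361))))) (BT.node (nat_lit 9544000) (BT.node (nat_lit 9543872) (BT.node (nat_lit 9543808) (BT.leaf (nat_lit 28772369)) (BT.leaf (nat_lit 31963409))) (BT.node (nat_lit 9543936) (BT.leaf (nat_lit 31406605)) (BT.leaf (nat_lit 37092381)))) (BT.node (nat_lit 9544128) (BT.node (nat_lit 9544064) (BT.leaf (nat_lit 47322133)) (BT.leaf (nat_lit 31406621))) (BT.node (nat_lit 9544192) (BT.leaf (nat_lit 48857873)) (BT.leaf (nat_lit 40782869)))))))) (BT.node (nat_lit 9546304) (BT.node (nat_lit 9545280) (BT.node (nat_lit 9544768) (BT.node (nat_lit 9544512) (BT.node (nat_lit 9544384) (BT.node (nat_lit 9544320) (BT.leaf (nat_lit 41382689)) (BT.leaf (nat_lit 51686161))) (BT.node (nat_lit 9544448) (BT.leaf (nat_lit 38177305)) (BT.leaf (nat_lit 27564305)))) (BT.node (nat_lit 9544640) (BT.node (nat_lit 9544576) (BT.leaf (nat_lit 32386841)) (BT.leaf (nat_lit 32386845))) (BT.node (nat_lit 9544704) (BT.leaf (nat_lit 29584661)) (BT.leaf (nat_lit 39453717))))) (BT.node (nat_lit 9545024) (BT.node (nat_lit 9544896) (BT.node (nat_lit 9544832) (BT.leaf (nat_lit 39723281)) (BT.leaf (nat_lit 50559249))) (BT.node (nat_lit 9544960) (BT.leaf (nat_lit 47206933)) (BT.leaf (nat_lit 27567621)))) (BT.node (nat_lit 9545152) (BT.node (nat_lit 9545088) (BT.leaf (nat_lit 47978013)) (BT.leaf (nat_lit 36299285))) (BT.node (nat_lit 9545216) (BT.leaf (nat_lit 27568145)) (BT.leaf (nat_lit 28074001)))))) (BT.node (nat_lit 9545792) (BT.node (nat_lit 9545536) (BT.node (nat_lit 9545408) (BT.node (nat_lit 9545344) (BT.leaf (nat_lit 28972561)) (BT.leaf (nat_lit 34264329))) (BT.node (nat_lit 9545472) (BT.leaf (nat_lit 44423445)) (BT.leaf (nat_lit 33312785)))) (BT.node (nat_lit 9545664) (BT.node (nat_lit 9545600) (BT.leaf (nat_lit 38257161)) (BT.leaf (nat_lit 43212817))) (BT.node (nat_lit 9545728) (BT.leaf (nat_lit 32221209)) (BT.leaf (nat_lit 32365829))))) (BT.node (nat_lit 9546048) (BT.node (nat_lit 9545920) (BT.node (nat_lit 9545856) (BT.leaf (nat_lit 48949265)) (BT.leaf (nat_lit 27878417))) (BT.node (nat_lit 9545984) (BT.leaf (nat_lit 30397457)) (BT.leaf (nat_lit 33884701)))) (BT.node (nat_lit 9546176) (BT.node (nat_lit 9546112) (BT.leaf (nat_lit 30296085)) (BT.leaf (nat_lit 46634769))) (BT.node (nat_lit 9546240) (BT.leaf (nat_lit 33056021)) (BT.leaf (nat_lit 29117969))))))) (BT.node (nat_lit 9547328) (BT.node (nat_lit 9546816) (BT.node (nat_lit 9546560) (BT.node (nat_lit 9546432) (BT.node (nat_lit 9546368) (BT.leaf (nat_lit 33122325)) (BT.leaf (nat_lit 29117985))) (BT.node (nat_lit 9546496) (BT.leaf (nat_lit 29857797)) (BT.leaf (nat_lit 49256989)))) (BT.node (nat_lit 9546688) (BT.node (nat_lit 9546624) (BT.leaf (nat_lit 29097237)) (BT.leaf (nat_lit 38789397))) (BT.node (nat_lit 9546752) (BT.leaf (nat_lit 39481113)) (BT.leaf (nat_lit 38811673))))) (BT.node (nat_lit 9547072) (BT.node (nat_lit 9546944) (BT.node (nat_lit 9546880) (BT.leaf (nat_lit 29523477)) (BT.leaf (nat_lit 38187805))) (BT.node (nat_lit 9547008) (BT.leaf (nat_lit 34446861)) (BT.leaf (nat_lit 47709729)))) (BT.node (nat_lit 9547200) (BT.node (nat_lit 9547136) (BT.leaf (nat_lit 31374365)) (BT.leaf (nat_lit 28387605))) (BT.node (nat_lit 9547264) (BT.leaf (nat_lit 28387609)) (BT.leaf (nat_lit 38821665)))))) (BT.node (nat_lit 9547840) (BT.node (nat_lit 9547584) (BT.node (nat_lit 9547456) (BT.node (nat_lit 9547392) (BT.leaf (nat_lit 41798681)) (BT.leaf (nat_lit 27577353))) (BT.node (nat_lit 9547520) (BT.leaf (nat_lit 42581765)) (BT.leaf (nat_lit 32451589)))) (BT.node (nat_lit 9547712) (BT.node (nat_lit 9547648) (BT.leaf (nat_lit 31329541)) (BT.leaf (nat_lit 31561221))) (BT.node (nat_lit 9547776) (BT.leaf (nat_lit 31758113)) (BT.leaf (nat_lit 27579937))))) (BT.node (nat_lit 9548032) (BT.node (nat_lit 9547904) (BT.node (nat_lit 9547845) (BT.leaf (nat_lit 30559253)) (BT.leaf (nat_lit 751836))) (BT.node (nat_lit 9547968) (BT.leaf (nat_lit 44647705)) (BT.leaf (nat_lit 29819913)))) (BT.node (nat_lit 9548160) (BT.node (nat_lit 9548096) (BT.leaf (nat_lit 28109329)) (BT.leaf (nat_lit 27993605))) (BT.node (nat_lit 9548224) (BT.leaf (nat_lit 47085317)) (BT.leaf (nat_lit 44200453))))))))) (BT.node (nat_lit 9552384) (BT.node (nat_lit 9550400) (BT.node (nat_lit 9549376) (BT.node (nat_lit 9548864) (BT.node (nat_lit 9548608) (BT.node (nat_lit 9548480) (BT.node (nat_lit 9548416) (BT.leaf (nat_lit 31000845)) (BT.leaf (nat_lit 49459477))) (BT.node (nat_lit 9548544) (BT.leaf (nat_lit 38253841)) (BT.leaf (nat_lit 27394577)))) (BT.node (nat_lit 9548736) (BT.node (nat_lit 9548672) (BT.leaf (nat_lit 48570133)) (BT.leaf (nat_lit 47640089))) (BT.node (nat_lit 9548800) (BT.leaf (nat_lit 44199685)) (BT.leaf (nat_lit 46492445))))) (BT.node (nat_lit 9549120) (BT.node (nat_lit 9548992) (BT.node (nat_lit 9548928) (BT.leaf (nat_lit 29823005)) (BT.leaf (nat_lit 29822985))) (BT.node (nat_lit 9549056) (BT.leaf (nat_lit 38195737)) (BT.leaf (nat_lit 28843041)))) (BT.node (nat_lit 9549248) (BT.node (nat_lit 9549184) (BT.leaf (nat_lit 28845077)) (BT.leaf (nat_lit 29222941))) (BT.node (nat_lit 9549312) (BT.leaf (nat_lit 27582225)) (BT.leaf (nat_lit 31150865)))))) (BT.node (nat_lit 9549888) (BT.node (nat_lit 9549632) (BT.node (nat_lit 9549504) (BT.node (nat_lit 9549440) (BT.leaf (nat_lit 27395345)) (BT.leaf (nat_lit 28077077))) (BT.node (nat_lit 9549568) (BT.leaf (nat_lit 29797913)) (BT.leaf (nat_lit 29797917)))) (BT.node (nat_lit 9549760) (BT.node (nat_lit 9549696) (BT.leaf (nat_lit 45169945)) (BT.leaf (nat_lit 45169949))) (BT.node (nat_lit 9549824) (BT.leaf (nat_lit 27630345)) (BT.leaf (nat_lit 38090773))))) (BT.node (nat_lit 9550144) (BT.node (nat_lit 9550016) (BT.node (nat_lit 9549952) (BT.leaf (nat_lit 38289929)) (BT.leaf (nat_lit 28829961))) (BT.node (nat_lit 9550080) (BT.leaf (nat_lit 50564369)) (BT.leaf (nat_lit 30469641)))) (BT.node (nat_lit 9550272) (BT.node (nat_lit 9550208) (BT.leaf (nat_lit 28608773)) (BT.leaf (nat_lit 39050785))) (BT.node (nat_lit 9550336) (BT.leaf (nat_lit 32559365)) (BT.leaf (nat_lit 34940177))))))) (BT.node (nat_lit 9551424) (BT.node (nat_lit 9550912) (BT.node (nat_lit 9550656) (BT.node (nat_lit 9550528) (BT.node (nat_lit 9550464) (BT.leaf (nat_lit 44244493)) (BT.leaf (nat_lit 37827873))) (BT.node (nat_lit 9550592) (BT.leaf (nat_lit 50398753)) (BT.leaf (nat_lit 37828385)))) (BT.node (nat_lit 9550784) (BT.node (nat_lit 9550720) (BT.leaf (nat_lit 35308573)) (BT.leaf (nat_lit 39627025))) (BT.node (nat_lit 9550848) (BT.leaf (nat_lit 33025285)) (BT.leaf (nat_lit 30485005))))) (BT.node (nat_lit 9551168) (BT.node (nat_lit 9551040) (BT.node (nat_lit 9550976) (BT.leaf (nat_lit 50945813)) (BT.leaf (nat_lit 34671877))) (BT.node (nat_lit 9551104) (BT.leaf (nat_lit 28002325)) (BT.leaf (nat_lit 28002329)))) (BT.node (nat_lit 9551296) (BT.node (nat_lit 9551232) (BT.leaf (nat_lit 41599765)) (BT.leaf (nat_lit 44336901))) (BT.node (nat_lit 9551360) (BT.leaf (nat_lit 32374557)) (BT.leaf (nat_lit 47931921)))))) (BT.node (nat_lit 9551936) (BT.node (nat_lit 9551680) (BT.node (nat_lit 9551552) (BT.node (nat_lit 9551488) (BT.leaf (nat_lit 29639445)) (BT.leaf (nat_lit 30114073))) (BT.node (nat_lit 9551616) (BT.leaf (nat_lit 33031953)) (BT.leaf (nat_lit 49192461)))) (BT.node (nat_lit 9551808) (BT.node (nat_lit 9551744) (BT.leaf (nat_lit 52309021)) (BT.leaf (nat_lit 40885257))) (BT.node (nat_lit 9551872) (BT.leaf (nat_lit 32879121)) (BT.leaf (nat_lit 29196057))))) (BT.node (nat_lit 9552192) (BT.node (nat_lit 9552064) (BT.node (nat_lit 9552000) (BT.leaf (nat_lit 38315533)) (BT.leaf (nat_lit 43988765))) (BT.node (nat_lit 9552128) (BT.leaf (nat_lit 48688661)) (BT.leaf (nat_lit 32572437)))) (BT.node (nat_lit 9552320) (BT.node (nat_lit 9552256) (BT.leaf (nat_lit 29005329)) (BT.leaf (nat_lit 39071245))) (BT.node (nat_lit 9552323) (BT.leaf (nat_lit 39070741)) (BT.leaf (nat_lit 654684)))))))) (BT.node (nat_lit 9554240) (BT.node (nat_lit 9553280) (BT.node (nat_lit 9552896) (BT.node (nat_lit 9552640) (BT.node (nat_lit 9552512) (BT.node (nat_lit 9552448) (BT.leaf (nat_lit 29894405)) (BT.leaf (nat_lit 34934549))) (BT.node (nat_lit 9552576) (BT.leaf (nat_lit 32153365)) (BT.leaf (nat_lit 29812489)))) (BT.node (nat_lit 9552768) (BT.node (nat_lit 9552704) (BT.leaf (nat_lit 27589381)) (BT.leaf (nat_lit 40541469))) (BT.node (nat_lit 9552832) (BT.leaf (nat_lit 30194465)) (BT.leaf (nat_lit 32828697))))) (BT.node (nat_lit 9553024) (BT.node (nat_lit 9552900) (BT.node (nat_lit 9552899) (BT.leaf (nat_lit 32828701)) (BT.leaf (nat_lit 697512))) (BT.node (nat_lit 9552960) (BT.leaf (nat_lit 697512)) (BT.leaf (nat_lit 29918989)))) (BT.node (nat_lit 9553152) (BT.node (nat_lit 9553088) (BT.leaf (nat_lit 49405209)) (BT.leaf (nat_lit 49405213))) (BT.node (nat_lit 9553216) (BT.leaf (nat_lit 27591953)) (BT.leaf (nat_lit 27591697)))))) (BT.node (nat_lit 9553792) (BT.node (nat_lit 9553536) (BT.node (nat_lit 9553408) (BT.node (nat_lit 9553344) (BT.leaf (nat_lit 31420193)) (BT.leaf (nat_lit 27592465))) (BT.node (nat_lit 9553472) (BT.leaf (nat_lit 27592209)) (BT.leaf (nat_lit 27579153)))) (BT.node (nat_lit 9553664) (BT.node (nat_lit 9553600) (BT.leaf (nat_lit 32956693)) (BT.leaf (nat_lit 31340321))) (BT.node (nat_lit 9553728) (BT.leaf (nat_lit 31340065)) (BT.leaf (nat_lit 30092309))))) (BT.node (nat_lit 9554048) (BT.node (nat_lit 9553920) (BT.node (nat_lit 9553856) (BT.leaf (nat_lit 29730065)) (BT.leaf (nat_lit 27592977))) (BT.node (nat_lit 9553984) (BT.leaf (nat_lit 27578385)) (BT.leaf (nat_lit 27592721)))) (BT.node (nat_lit 9554112) (BT.node (nat_lit 9554053) (BT.leaf (nat_lit 43575585)) (BT.leaf (nat_lit 705416))) (BT.node (nat_lit 9554176) (BT.leaf (nat_lit 27593489)) (BT.leaf (nat_lit 38883333))))))) (BT.node (nat_lit 9555072) (BT.node (nat_lit 9554624) (BT.node (nat_lit 9554432) (BT.node (nat_lit 9554304) (BT.node (nat_lit 9554245) (BT.leaf (nat_lit 43203873)) (BT.leaf (nat_lit 690768))) (BT.node (nat_lit 9554368) (BT.leaf (nat_lit 31485985)) (BT.leaf (nat_lit 27610141)))) (BT.node (nat_lit 9554500) (BT.node (nat_lit 9554496) (BT.leaf (nat_lit 27594257)) (BT.leaf (nat_lit 33696281))) (BT.node (nat_lit 9554560) (BT.leaf (nat_lit 783796)) (BT.leaf (nat_lit 38351109))))) (BT.node (nat_lit 9554880) (BT.node (nat_lit 9554752) (BT.node (nat_lit 9554688) (BT.leaf (nat_lit 28052769)) (BT.leaf (nat_lit 27393553))) (BT.node (nat_lit 9554816) (BT.leaf (nat_lit 29742597)) (BT.leaf (nat_lit 30187545)))) (BT.node (nat_lit 9554944) (BT.node (nat_lit 9554886) (BT.leaf (nat_lit 31789841)) (BT.leaf (nat_lit 648504))) (BT.node (nat_lit 9555008) (BT.leaf (nat_lit 34287393)) (BT.leaf (nat_lit 47436053)))))) (BT.node (nat_lit 9555584) (BT.node (nat_lit 9555328) (BT.node (nat_lit 9555200) (BT.node (nat_lit 9555136) (BT.leaf (nat_lit 27596313)) (BT.leaf (nat_lit 47892485))) (BT.node (nat_lit 9555264) (BT.leaf (nat_lit 45889557)) (BT.leaf (nat_lit 27596317)))) (BT.node (nat_lit 9555456) (BT.node (nat_lit 9555392) (BT.leaf (nat_lit 31956229)) (BT.leaf (nat_lit 42597909))) (BT.node (nat_lit 9555520) (BT.leaf (nat_lit 35048713)) (BT.leaf (nat_lit 35048717))))) (BT.node (nat_lit 9555840) (BT.node (nat_lit 9555712) (BT.node (nat_lit 9555648) (BT.leaf (nat_lit 33130773)) (BT.leaf (nat_lit 35048729))) (BT.node (nat_lit 9555776) (BT.leaf (nat_lit 46771733)) (BT.leaf (nat_lit 28912133)))) (BT.node (nat_lit 9555910) (BT.node (nat_lit 9555904) (BT.leaf (nat_lit 27581465)) (BT.leaf (nat_lit 40754181))) (BT.node (nat_lit 9555968) (BT.leaf (nat_lit 606292)) (BT.leaf (nat_lit 27937557))))))))))) (BT.node (nat_lit 9571328) (BT.node (nat_lit 9563712) (BT.node (nat_lit 9560064) (BT.node (nat_lit 9558016) (BT.node (nat_lit 9556992) (BT.node (nat_lit 9556544) (BT.node (nat_lit 9556288) (BT.node (nat_lit 9556160) (BT.node (nat_lit 9556096) (BT.leaf (nat_lit 50376465)) (BT.leaf (nat_lit 28839445))) (BT.node (nat_lit 9556224) (BT.leaf (nat_lit 29819917)) (BT.leaf (nat_lit 28840209)))) (BT.node (nat_lit 9556416) (BT.node (nat_lit 9556352) (BT.leaf (nat_lit 31939093)) (BT.leaf (nat_lit 32876577))) (BT.node (nat_lit 9556480) (BT.leaf (nat_lit 43183365)) (BT.leaf (nat_lit 41912845))))) (BT.node (nat_lit 9556800) (BT.node (nat_lit 9556672) (BT.node (nat_lit 9556608) (BT.leaf (nat_lit 28959009)) (BT.leaf (nat_lit 47693849))) (BT.node (nat_lit 9556736) (BT.leaf (nat_lit 49460237)) (BT.leaf (nat_lit 31813909)))) (BT.node (nat_lit 9556928) (BT.node (nat_lit 9556864) (BT.leaf (nat_lit 49461001)) (BT.leaf (nat_lit 47693837))) (BT.node (nat_lit 9556932) (BT.leaf (nat_lit 32755209)) (BT.leaf (nat_lit 649576)))))) (BT.node (nat_lit 9557504) (BT.node (nat_lit 9557248) (BT.node (nat_lit 9557120) (BT.node (nat_lit 9557056) (BT.leaf (nat_lit 45423125)) (BT.leaf (nat_lit 44850437))) (BT.node (nat_lit 9557184) (BT.leaf (nat_lit 27600145)) (BT.leaf (nat_lit 27599889)))) (BT.node (nat_lit 9557376) (BT.node (nat_lit 9557312) (BT.leaf (nat_lit 31813913)) (BT.leaf (nat_lit 31813917))) (BT.node (nat_lit 9557440) (BT.leaf (nat_lit 27599633)) (BT.leaf (nat_lit 41136929))))) (BT.node (nat_lit 9557760) (BT.node (nat_lit 9557632) (BT.node (nat_lit 9557568) (BT.leaf (nat_lit 37815321)) (BT.leaf (nat_lit 37815325))) (BT.node (nat_lit 9557696) (BT.leaf (nat_lit 30003733)) (BT.leaf (nat_lit 30003741)))) (BT.node (nat_lit 9557888) (BT.node (nat_lit 9557824) (BT.leaf (nat_lit 39246113)) (BT.leaf (nat_lit 31425569))) (BT.node (nat_lit 9557952) (BT.leaf (nat_lit 30761249)) (BT.leaf (nat_lit 31337505))))))) (BT.node (nat_lit 9559040) (BT.node (nat_lit 9558528) (BT.node (nat_lit 9558272) (BT.node (nat_lit 9558144) (BT.node (nat_lit 9558080) (BT.leaf (nat_lit 27603989)) (BT.leaf (nat_lit 40558625))) (BT.node (nat_lit 9558208) (BT.leaf (nat_lit 30414597)) (BT.leaf (nat_lit 42542369)))) (BT.node (nat_lit 9558400) (BT.node (nat_lit 9558336) (BT.leaf (nat_lit 43237409)) (BT.leaf (nat_lit 32158481))) (BT.node (nat_lit 9558464) (BT.leaf (nat_lit 29414917)) (BT.leaf (nat_lit 29709341))))) (BT.node (nat_lit 9558784) (BT.node (nat_lit 9558656) (BT.node (nat_lit 9558592) (BT.leaf (nat_lit 39886869)) (BT.leaf (nat_lit 44218401))) (BT.node (nat_lit 9558720) (BT.leaf (nat_lit 47385889)) (BT.leaf (nat_lit 47386117)))) (BT.node (nat_lit 9558848) (BT.node (nat_lit 9558787) (BT.leaf (nat_lit 38121989)) (BT.leaf (nat_lit 658000))) (BT.node (nat_lit 9558976) (BT.leaf (nat_lit 38237209)) (BT.leaf (nat_lit 31000849)))))) (BT.node (nat_lit 9559552) (BT.node (nat_lit 9559296) (BT.node (nat_lit 9559168) (BT.node (nat_lit 9559104) (BT.leaf (nat_lit 31000853)) (BT.leaf (nat_lit 28125721))) (BT.node (nat_lit 9559232) (BT.leaf (nat_lit 28125725)) (BT.leaf (nat_lit 37886989)))) (BT.node (nat_lit 9559424) (BT.node (nat_lit 9559360) (BT.leaf (nat_lit 43568673)) (BT.leaf (nat_lit 31970053))) (BT.node (nat_lit 9559488) (BT.leaf (nat_lit 45817617)) (BT.leaf (nat_lit 29485077))))) (BT.node (nat_lit 9559808) (BT.node (nat_lit 9559680) (BT.node (nat_lit 9559616) (BT.leaf (nat_lit 39246089)) (BT.leaf (nat_lit 41909537))) (BT.node (nat_lit 9559744) (BT.leaf (nat_lit 39246105)) (BT.leaf (nat_lit 41405957)))) (BT.node (nat_lit 9559936) (BT.node (nat_lit 9559872) (BT.leaf (nat_lit 38209825)) (BT.leaf (nat_lit 32101393))) (BT.node (nat_lit 9560000) (BT.leaf (nat_lit 29894917)) (BT.leaf (nat_lit 29894933)))))))) (BT.node (nat_lit 9561792) (BT.node (nat_lit 9561088) (BT.node (nat_lit 9560576) (BT.node (nat_lit 9560320) (BT.node (nat_lit 9560192) (BT.node (nat_lit 9560128) (BT.leaf (nat_lit 28051213)) (BT.leaf (nat_lit 32661017))) (BT.node (nat_lit 9560256) (BT.leaf (nat_lit 40060449)) (BT.leaf (nat_lit 41415685)))) (BT.node (nat_lit 9560448) (BT.node (nat_lit 9560384) (BT.leaf (nat_lit 41415697)) (BT.leaf (nat_lit 28051205))) (BT.node (nat_lit 9560512) (BT.leaf (nat_lit 28051217)) (BT.leaf (nat_lit 28051221))))) (BT.node (nat_lit 9560832) (BT.node (nat_lit 9560704) (BT.node (nat_lit 9560640) (BT.leaf (nat_lit 28319761)) (BT.leaf (nat_lit 27608593))) (BT.node (nat_lit 9560768) (BT.leaf (nat_lit 41889541)) (BT.leaf (nat_lit 27608337)))) (BT.node (nat_lit 9560960) (BT.node (nat_lit 9560896) (BT.leaf (nat_lit 42543877)) (BT.leaf (nat_lit 44421893))) (BT.node (nat_lit 9561024) (BT.leaf (nat_lit 27609361)) (BT.leaf (nat_lit 46498061)))))) (BT.node (nat_lit 9561476) (BT.node (nat_lit 9561344) (BT.node (nat_lit 9561216) (BT.node (nat_lit 9561152) (BT.leaf (nat_lit 31484953)) (BT.leaf (nat_lit 41909513))) (BT.node (nat_lit 9561280) (BT.leaf (nat_lit 44008737)) (BT.leaf (nat_lit 42263561)))) (BT.node (nat_lit 9561472) (BT.node (nat_lit 9561408) (BT.leaf (nat_lit 27610641)) (BT.leaf (nat_lit 36009241))) (BT.node (nat_lit 9561473) (BT.leaf (nat_lit 27609881)) (BT.leaf (nat_lit 794228))))) (BT.node (nat_lit 9561664) (BT.node (nat_lit 9561536) (BT.node (nat_lit 9561480) (BT.leaf (nat_lit 794228)) (BT.leaf (nat_lit 794228))) (BT.node (nat_lit 9561600) (BT.leaf (nat_lit 50084377)) (BT.leaf (nat_lit 48498693)))) (BT.node (nat_lit 9561729) (BT.node (nat_lit 9561728) (BT.leaf (nat_lit 27609885)) (BT.leaf (nat_lit 43490589))) (BT.node (nat_lit 9561730) (BT.leaf (nat_lit 604640)) (BT.leaf (nat_lit 604640))))))) (BT.node (nat_lit 9562752) (BT.node (nat_lit 9562304) (BT.node (nat_lit 9562048) (BT.node (nat_lit 9561920) (BT.node (nat_lit 9561856) (BT.leaf (nat_lit 27610137)) (BT.leaf (nat_lit 27610385))) (BT.node (nat_lit 9561984) (BT.leaf (nat_lit 42586885)) (BT.leaf (nat_lit 27610897)))) (BT.node (nat_lit 9562176) (BT.node (nat_lit 9562112) (BT.leaf (nat_lit 39368729)) (BT.leaf (nat_lit 48894213))) (BT.node (nat_lit 9562240) (BT.leaf (nat_lit 27611409)) (BT.leaf (nat_lit 44664581))))) (BT.node (nat_lit 9562496) (BT.node (nat_lit 9562432) (BT.node (nat_lit 9562368) (BT.leaf (nat_lit 42314757)) (BT.leaf (nat_lit 27383057))) (BT.node (nat_lit 9562440) (BT.leaf (nat_lit 43180805)) (BT.leaf (nat_lit 768380)))) (BT.node (nat_lit 9562624) (BT.node (nat_lit 9562560) (BT.leaf (nat_lit 44213025)) (BT.leaf (nat_lit 49389061))) (BT.node (nat_lit 9562688) (BT.leaf (nat_lit 27612945)) (BT.leaf (nat_lit 27612433)))))) (BT.node (nat_lit 9563264) (BT.node (nat_lit 9563008) (BT.node (nat_lit 9562880) (BT.node (nat_lit 9562816) (BT.leaf (nat_lit 31478553)) (BT.leaf (nat_lit 31478557))) (BT.node (nat_lit 9562944) (BT.leaf (nat_lit 32954121)) (BT.leaf (nat_lit 29222681)))) (BT.node (nat_lit 9563136) (BT.node (nat_lit 9563072) (BT.leaf (nat_lit 28845345)) (BT.leaf (nat_lit 38105349))) (BT.node (nat_lit 9563200) (BT.leaf (nat_lit 27613713)) (BT.leaf (nat_lit 32954137))))) (BT.node (nat_lit 9563520) (BT.node (nat_lit 9563392) (BT.node (nat_lit 9563328) (BT.leaf (nat_lit 32954141)) (BT.leaf (nat_lit 34672917))) (BT.node (nat_lit 9563456) (BT.leaf (nat_lit 39301381)) (BT.leaf (nat_lit 32582165)))) (BT.node (nat_lit 9563584) (BT.node (nat_lit 9563524) (BT.leaf (nat_lit 32833301)) (BT.leaf (nat_lit 614088))) (BT.node (nat_lit 9563648) (BT.leaf (nat_lit 39301405)) (BT.leaf (nat_lit 40614173))))))))) (BT.node (nat_lit 9567424) (BT.node (nat_lit 9565440) (BT.node (nat_lit 9564672) (BT.node (nat_lit 9564224) (BT.node (nat_lit 9563968) (BT.node (nat_lit 9563840) (BT.node (nat_lit 9563776) (BT.leaf (nat_lit 28253713)) (BT.leaf (nat_lit 28253717))) (BT.node (nat_lit 9563904) (BT.leaf (nat_lit 41825309)) (BT.leaf (nat_lit 37742877)))) (BT.node (nat_lit 9564096) (BT.node (nat_lit 9564032) (BT.leaf (nat_lit 31128849)) (BT.leaf (nat_lit 41226757))) (BT.node (nat_lit 9564160) (BT.leaf (nat_lit 38256153)) (BT.leaf (nat_lit 31128865))))) (BT.node (nat_lit 9564424) (BT.node (nat_lit 9564352) (BT.node (nat_lit 9564288) (BT.leaf (nat_lit 48650773)) (BT.leaf (nat_lit 49232149))) (BT.node (nat_lit 9564416) (BT.leaf (nat_lit 27616773)) (BT.leaf (nat_lit 42760709)))) (BT.node (nat_lit 9564548) (BT.node (nat_lit 9564480) (BT.leaf (nat_lit 764964)) (BT.leaf (nat_lit 49676309))) (BT.node (nat_lit 9564608) (BT.leaf (nat_lit 611832)) (BT.leaf (nat_lit 28456977)))))) (BT.node (nat_lit 9565000) (BT.node (nat_lit 9564800) (BT.node (nat_lit 9564736) (BT.node (nat_lit 9564680) (BT.leaf (nat_lit 40825877)) (BT.leaf (nat_lit 635896))) (BT.node (nat_lit 9564740) (BT.leaf (nat_lit 47667481)) (BT.leaf (nat_lit 694888)))) (BT.node (nat_lit 9564928) (BT.node (nat_lit 9564864) (BT.leaf (nat_lit 38259485)) (BT.leaf (nat_lit 29783053))) (BT.node (nat_lit 9564992) (BT.leaf (nat_lit 33894173)) (BT.leaf (nat_lit 45608469))))) (BT.node (nat_lit 9565248) (BT.node (nat_lit 9565120) (BT.node (nat_lit 9565056) (BT.leaf (nat_lit 634488)) (BT.leaf (nat_lit 31688989))) (BT.node (nat_lit 9565184) (BT.leaf (nat_lit 39826197)) (BT.leaf (nat_lit 39826201)))) (BT.node (nat_lit 9565312) (BT.node (nat_lit 9565253) (BT.leaf (nat_lit 40604681)) (BT.leaf (nat_lit 623028))) (BT.node (nat_lit 9565376) (BT.leaf (nat_lit 34282001)) (BT.leaf (nat_lit 33747477))))))) (BT.node (nat_lit 9566400) (BT.node (nat_lit 9565888) (BT.node (nat_lit 9565632) (BT.node (nat_lit 9565509) (BT.node (nat_lit 9565504) (BT.leaf (nat_lit 34090009)) (BT.leaf (nat_lit 29356037))) (BT.node (nat_lit 9565568) (BT.leaf (nat_lit 766556)) (BT.leaf (nat_lit 38273285)))) (BT.node (nat_lit 9565760) (BT.node (nat_lit 9565696) (BT.leaf (nat_lit 28622605)) (BT.leaf (nat_lit 42016777))) (BT.node (nat_lit 9565824) (BT.leaf (nat_lit 38653729)) (BT.leaf (nat_lit 46897937))))) (BT.node (nat_lit 9566144) (BT.node (nat_lit 9566016) (BT.node (nat_lit 9565952) (BT.leaf (nat_lit 50240021)) (BT.leaf (nat_lit 31017249))) (BT.node (nat_lit 9566080) (BT.leaf (nat_lit 28622617)) (BT.leaf (nat_lit 28622621)))) (BT.node (nat_lit 9566272) (BT.node (nat_lit 9566208) (BT.leaf (nat_lit 32656417)) (BT.leaf (nat_lit 28866321))) (BT.node (nat_lit 9566336) (BT.leaf (nat_lit 35404569)) (BT.leaf (nat_lit 40250145)))))) (BT.node (nat_lit 9566912) (BT.node (nat_lit 9566656) (BT.node (nat_lit 9566528) (BT.node (nat_lit 9566464) (BT.leaf (nat_lit 30422801)) (BT.leaf (nat_lit 41538073))) (BT.node (nat_lit 9566592) (BT.leaf (nat_lit 39939605)) (BT.leaf (nat_lit 30637577)))) (BT.node (nat_lit 9566784) (BT.node (nat_lit 9566720) (BT.leaf (nat_lit 41642261)) (BT.leaf (nat_lit 41020193))) (BT.node (nat_lit 9566848) (BT.leaf (nat_lit 30487825)) (BT.leaf (nat_lit 47581189))))) (BT.node (nat_lit 9567168) (BT.node (nat_lit 9567040) (BT.node (nat_lit 9566976) (BT.leaf (nat_lit 28565021)) (BT.leaf (nat_lit 49916693))) (BT.node (nat_lit 9567104) (BT.leaf (nat_lit 41613585)) (BT.leaf (nat_lit 32796437)))) (BT.node (nat_lit 9567296) (BT.node (nat_lit 9567232) (BT.leaf (nat_lit 30662673)) (BT.leaf (nat_lit 39168017))) (BT.node (nat_lit 9567360) (BT.leaf (nat_lit 38924805)) (BT.leaf (nat_lit 34478089)))))))) (BT.node (nat_lit 9569408) (BT.node (nat_lit 9568384) (BT.node (nat_lit 9567872) (BT.node (nat_lit 9567680) (BT.node (nat_lit 9567552) (BT.node (nat_lit 9567488) (BT.leaf (nat_lit 33137937)) (BT.leaf (nat_lit 27892249))) (BT.node (nat_lit 9567616) (BT.leaf (nat_lit 33578517)) (BT.leaf (nat_lit 29276181)))) (BT.node (nat_lit 9567744) (BT.node (nat_lit 9567685) (BT.leaf (nat_lit 31160865)) (BT.leaf (nat_lit 694164))) (BT.node (nat_lit 9567808) (BT.leaf (nat_lit 42484741)) (BT.leaf (nat_lit 31163937))))) (BT.node (nat_lit 9568128) (BT.node (nat_lit 9568000) (BT.node (nat_lit 9567936) (BT.leaf (nat_lit 38661645)) (BT.leaf (nat_lit 42693913))) (BT.node (nat_lit 9568064) (BT.leaf (nat_lit 30983457)) (BT.leaf (nat_lit 30983201)))) (BT.node (nat_lit 9568256) (BT.node (nat_lit 9568192) (BT.leaf (nat_lit 31697945)) (BT.leaf (nat_lit 31697949))) (BT.node (nat_lit 9568320) (BT.leaf (nat_lit 52401425)) (BT.leaf (nat_lit 44349217)))))) (BT.node (nat_lit 9568896) (BT.node (nat_lit 9568640) (BT.node (nat_lit 9568512) (BT.node (nat_lit 9568448) (BT.leaf (nat_lit 52401429)) (BT.leaf (nat_lit 30229777))) (BT.node (nat_lit 9568576) (BT.leaf (nat_lit 42183705)) (BT.leaf (nat_lit 43549473)))) (BT.node (nat_lit 9568768) (BT.node (nat_lit 9568704) (BT.leaf (nat_lit 40916997)) (BT.leaf (nat_lit 41553669))) (BT.node (nat_lit 9568832) (BT.leaf (nat_lit 42180109)) (BT.leaf (nat_lit 27623701))))) (BT.node (nat_lit 9569152) (BT.node (nat_lit 9569024) (BT.node (nat_lit 9568960) (BT.leaf (nat_lit 32332569)) (BT.leaf (nat_lit 32332573))) (BT.node (nat_lit 9569088) (BT.leaf (nat_lit 42180129)) (BT.leaf (nat_lit 31648021)))) (BT.node (nat_lit 9569280) (BT.node (nat_lit 9569216) (BT.leaf (nat_lit 43550469)) (BT.leaf (nat_lit 28105745))) (BT.node (nat_lit 9569344) (BT.leaf (nat_lit 38203661)) (BT.leaf (nat_lit 29002257))))))) (BT.node (nat_lit 9570432) (BT.node (nat_lit 9569920) (BT.node (nat_lit 9569664) (BT.node (nat_lit 9569536) (BT.node (nat_lit 9569472) (BT.leaf (nat_lit 47031569)) (BT.leaf (nat_lit 30499617))) (BT.node (nat_lit 9569600) (BT.leaf (nat_lit 45606409)) (BT.leaf (nat_lit 32574225)))) (BT.node (nat_lit 9569792) (BT.node (nat_lit 9569728) (BT.leaf (nat_lit 38497045)) (BT.leaf (nat_lit 32573981))) (BT.node (nat_lit 9569856) (BT.leaf (nat_lit 39033105)) (BT.leaf (nat_lit 32818197))))) (BT.node (nat_lit 9570176) (BT.node (nat_lit 9570048) (BT.node (nat_lit 9569984) (BT.leaf (nat_lit 42842653)) (BT.leaf (nat_lit 38513421))) (BT.node (nat_lit 9570112) (BT.leaf (nat_lit 27625745)) (BT.leaf (nat_lit 38497053)))) (BT.node (nat_lit 9570304) (BT.node (nat_lit 9570240) (BT.leaf (nat_lit 49472285)) (BT.leaf (nat_lit 38281757))) (BT.node (nat_lit 9570368) (BT.leaf (nat_lit 43539461)) (BT.leaf (nat_lit 45187349)))))) (BT.node (nat_lit 9570816) (BT.node (nat_lit 9570624) (BT.node (nat_lit 9570560) (BT.node (nat_lit 9570496) (BT.leaf (nat_lit 49380621)) (BT.leaf (nat_lit 48088333))) (BT.node (nat_lit 9570566) (BT.leaf (nat_lit 43785237)) (BT.leaf (nat_lit 776304)))) (BT.node (nat_lit 9570688) (BT.node (nat_lit 9570631) (BT.leaf (nat_lit 49679641)) (BT.leaf (nat_lit 773416))) (BT.node (nat_lit 9570752) (BT.leaf (nat_lit 28000025)) (BT.leaf (nat_lit 30988549))))) (BT.node (nat_lit 9571072) (BT.node (nat_lit 9570944) (BT.node (nat_lit 9570880) (BT.leaf (nat_lit 31086869)) (BT.leaf (nat_lit 31086873))) (BT.node (nat_lit 9571008) (BT.leaf (nat_lit 31086877)) (BT.leaf (nat_lit 29700625)))) (BT.node (nat_lit 9571200) (BT.node (nat_lit 9571136) (BT.leaf (nat_lit 28943629)) (BT.leaf (nat_lit 31496737))) (BT.node (nat_lit 9571264) (BT.leaf (nat_lit 29636629)) (BT.leaf (nat_lit 29636613)))))))))) (BT.node (nat_lit 9579264) (BT.node (nat_lit 9575360) (BT.node (nat_lit 9573376) (BT.node (nat_lit 9572352) (BT.node (nat_lit 9571840) (BT.node (nat_lit 9571584) (BT.node (nat_lit 9571456) (BT.node (nat_lit 9571392) (BT.leaf (nat_lit 49598981)) (BT.leaf (nat_lit 46951173))) (BT.node (nat_lit 9571520) (BT.leaf (nat_lit 38552841)) (BT.leaf (nat_lit 48423189)))) (BT.node (nat_lit 9571712) (BT.node (nat_lit 9571648) (BT.leaf (nat_lit 43758113)) (BT.leaf (nat_lit 38559773))) (BT.node (nat_lit 9571776) (BT.leaf (nat_lit 32570637)) (BT.leaf (nat_lit 32825365))))) (BT.node (nat_lit 9572096) (BT.node (nat_lit 9571968) (BT.node (nat_lit 9571904) (BT.leaf (nat_lit 44038149)) (BT.leaf (nat_lit 27630349))) (BT.node (nat_lit 9572032) (BT.leaf (nat_lit 39610125)) (BT.leaf (nat_lit 40974881)))) (BT.node (nat_lit 9572224) (BT.node (nat_lit 9572160) (BT.leaf (nat_lit 27630361)) (BT.leaf (nat_lit 27630365))) (BT.node (nat_lit 9572288) (BT.leaf (nat_lit 27627529)) (BT.leaf (nat_lit 48080657)))))) (BT.node (nat_lit 9572864) (BT.node (nat_lit 9572608) (BT.node (nat_lit 9572480) (BT.node (nat_lit 9572416) (BT.leaf (nat_lit 28002829)) (BT.leaf (nat_lit 33736201))) (BT.node (nat_lit 9572544) (BT.leaf (nat_lit 42807573)) (BT.leaf (nat_lit 30508805)))) (BT.node (nat_lit 9572736) (BT.node (nat_lit 9572672) (BT.leaf (nat_lit 45670933)) (BT.leaf (nat_lit 30508829))) (BT.node (nat_lit 9572800) (BT.leaf (nat_lit 27627533)) (BT.leaf (nat_lit 38653701))))) (BT.node (nat_lit 9573120) (BT.node (nat_lit 9572992) (BT.node (nat_lit 9572928) (BT.leaf (nat_lit 38653721)) (BT.leaf (nat_lit 29673497))) (BT.node (nat_lit 9573056) (BT.leaf (nat_lit 29673501)) (BT.leaf (nat_lit 29638177)))) (BT.node (nat_lit 9573248) (BT.node (nat_lit 9573184) (BT.leaf (nat_lit 28002841)) (BT.leaf (nat_lit 28002845))) (BT.node (nat_lit 9573312) (BT.leaf (nat_lit 29625097)) (BT.leaf (nat_lit 41591813))))))) (BT.node (nat_lit 9574464) (BT.node (nat_lit 9573952) (BT.node (nat_lit 9573696) (BT.node (nat_lit 9573504) (BT.node (nat_lit 9573440) (BT.leaf (nat_lit 50886937)) (BT.leaf (nat_lit 50886941))) (BT.node (nat_lit 9573568) (BT.leaf (nat_lit 27628821)) (BT.leaf (nat_lit 45814045)))) (BT.node (nat_lit 9573824) (BT.node (nat_lit 9573760) (BT.leaf (nat_lit 40692509)) (BT.leaf (nat_lit 32656401))) (BT.node (nat_lit 9573888) (BT.leaf (nat_lit 32656405)) (BT.leaf (nat_lit 38035717))))) (BT.node (nat_lit 9574208) (BT.node (nat_lit 9574080) (BT.node (nat_lit 9574016) (BT.leaf (nat_lit 45123865)) (BT.leaf (nat_lit 38944537))) (BT.node (nat_lit 9574144) (BT.leaf (nat_lit 44138501)) (BT.leaf (nat_lit 35195677)))) (BT.node (nat_lit 9574336) (BT.node (nat_lit 9574272) (BT.leaf (nat_lit 42512145)) (BT.leaf (nat_lit 48698909))) (BT.node (nat_lit 9574400) (BT.leaf (nat_lit 29562641)) (BT.leaf (nat_lit 29562645)))))) (BT.node (nat_lit 9574919) (BT.node (nat_lit 9574720) (BT.node (nat_lit 9574592) (BT.node (nat_lit 9574528) (BT.leaf (nat_lit 38206485)) (BT.leaf (nat_lit 28127757))) (BT.node (nat_lit 9574656) (BT.leaf (nat_lit 43758105)) (BT.leaf (nat_lit 31825677)))) (BT.node (nat_lit 9574848) (BT.node (nat_lit 9574784) (BT.leaf (nat_lit 38742817)) (BT.leaf (nat_lit 32151305))) (BT.node (nat_lit 9574912) (BT.leaf (nat_lit 39117849)) (BT.leaf (nat_lit 43378205))))) (BT.node (nat_lit 9575104) (BT.node (nat_lit 9574976) (BT.node (nat_lit 9574920) (BT.leaf (nat_lit 762804)) (BT.leaf (nat_lit 762804))) (BT.node (nat_lit 9575040) (BT.leaf (nat_lit 49665029)) (BT.leaf (nat_lit 29283345)))) (BT.node (nat_lit 9575232) (BT.node (nat_lit 9575168) (BT.leaf (nat_lit 49467401)) (BT.leaf (nat_lit 46342673))) (BT.node (nat_lit 9575296) (BT.leaf (nat_lit 50784005)) (BT.leaf (nat_lit 32473373)))))))) (BT.node (nat_lit 9577344) (BT.node (nat_lit 9576320) (BT.node (nat_lit 9575872) (BT.node (nat_lit 9575616) (BT.node (nat_lit 9575488) (BT.node (nat_lit 9575424) (BT.leaf (nat_lit 35130649)) (BT.leaf (nat_lit 40990229))) (BT.node (nat_lit 9575552) (BT.leaf (nat_lit 38267937)) (BT.leaf (nat_lit 30481685)))) (BT.node (nat_lit 9575744) (BT.node (nat_lit 9575680) (BT.leaf (nat_lit 44669725)) (BT.leaf (nat_lit 27649285))) (BT.node (nat_lit 9575808) (BT.leaf (nat_lit 39558173)) (BT.leaf (nat_lit 32445189))))) (BT.node (nat_lit 9576128) (BT.node (nat_lit 9576000) (BT.node (nat_lit 9575936) (BT.leaf (nat_lit 44902409)) (BT.leaf (nat_lit 32157713))) (BT.node (nat_lit 9576064) (BT.leaf (nat_lit 47308305)) (BT.leaf (nat_lit 31815453)))) (BT.node (nat_lit 9576192) (BT.node (nat_lit 9576135) (BT.leaf (nat_lit 30897933)) (BT.leaf (nat_lit 645668))) (BT.node (nat_lit 9576256) (BT.leaf (nat_lit 29650713)) (BT.leaf (nat_lit 29650717)))))) (BT.node (nat_lit 9576832) (BT.node (nat_lit 9576576) (BT.node (nat_lit 9576448) (BT.node (nat_lit 9576384) (BT.leaf (nat_lit 44921093)) (BT.leaf (nat_lit 30543117))) (BT.node (nat_lit 9576512) (BT.leaf (nat_lit 44793365)) (BT.leaf (nat_lit 31911445)))) (BT.node (nat_lit 9576704) (BT.node (nat_lit 9576640) (BT.leaf (nat_lit 39430173)) (BT.leaf (nat_lit 45424141))) (BT.node (nat_lit 9576768) (BT.leaf (nat_lit 45424397)) (BT.leaf (nat_lit 45015329))))) (BT.node (nat_lit 9577088) (BT.node (nat_lit 9576960) (BT.node (nat_lit 9576896) (BT.leaf (nat_lit 27631889)) (BT.leaf (nat_lit 43799313))) (BT.node (nat_lit 9577024) (BT.leaf (nat_lit 35124741)) (BT.leaf (nat_lit 28846353)))) (BT.node (nat_lit 9577216) (BT.node (nat_lit 9577152) (BT.leaf (nat_lit 29195797)) (BT.leaf (nat_lit 29594401))) (BT.node (nat_lit 9577280) (BT.leaf (nat_lit 45495049)) (BT.leaf (nat_lit 51125001))))))) (BT.node (nat_lit 9578304) (BT.node (nat_lit 9577856) (BT.node (nat_lit 9577600) (BT.node (nat_lit 9577472) (BT.node (nat_lit 9577408) (BT.leaf (nat_lit 30765345)) (BT.leaf (nat_lit 46479373))) (BT.node (nat_lit 9577536) (BT.leaf (nat_lit 31421201)) (BT.leaf (nat_lit 48690449)))) (BT.node (nat_lit 9577728) (BT.node (nat_lit 9577664) (BT.leaf (nat_lit 28939541)) (BT.leaf (nat_lit 28939289))) (BT.node (nat_lit 9577792) (BT.leaf (nat_lit 48689429)) (BT.leaf (nat_lit 38310937))))) (BT.node (nat_lit 9578048) (BT.node (nat_lit 9577922) (BT.node (nat_lit 9577920) (BT.leaf (nat_lit 27632153)) (BT.leaf (nat_lit 41101585))) (BT.node (nat_lit 9577984) (BT.leaf (nat_lit 688300)) (BT.leaf (nat_lit 41103129)))) (BT.node (nat_lit 9578176) (BT.node (nat_lit 9578112) (BT.leaf (nat_lit 33140241)) (BT.leaf (nat_lit 38701089))) (BT.node (nat_lit 9578240) (BT.leaf (nat_lit 49702173)) (BT.leaf (nat_lit 27635729)))))) (BT.node (nat_lit 9578816) (BT.node (nat_lit 9578560) (BT.node (nat_lit 9578432) (BT.node (nat_lit 9578368) (BT.leaf (nat_lit 27634961)) (BT.leaf (nat_lit 27634705))) (BT.node (nat_lit 9578496) (BT.leaf (nat_lit 29191457)) (BT.leaf (nat_lit 32518945)))) (BT.node (nat_lit 9578688) (BT.node (nat_lit 9578624) (BT.leaf (nat_lit 44130821)) (BT.leaf (nat_lit 44289053))) (BT.node (nat_lit 9578752) (BT.leaf (nat_lit 27635985)) (BT.leaf (nat_lit 46247437))))) (BT.node (nat_lit 9579072) (BT.node (nat_lit 9578944) (BT.node (nat_lit 9578880) (BT.leaf (nat_lit 38701073)) (BT.leaf (nat_lit 37915665))) (BT.node (nat_lit 9579008) (BT.leaf (nat_lit 37915421)) (BT.leaf (nat_lit 40077845)))) (BT.node (nat_lit 9579200) (BT.node (nat_lit 9579136) (BT.leaf (nat_lit 39625497)) (BT.leaf (nat_lit 39625501))) (BT.node (nat_lit 9579206) (BT.leaf (nat_lit 39841029)) (BT.leaf (nat_lit 666244))))))))) (BT.node (nat_lit 9583168) (BT.node (nat_lit 9581184) (BT.node (nat_lit 9580160) (BT.node (nat_lit 9579712) (BT.node (nat_lit 9579520) (BT.node (nat_lit 9579392) (BT.node (nat_lit 9579328) (BT.leaf (nat_lit 39841041)) (BT.leaf (nat_lit 43732497))) (BT.node (nat_lit 9579456) (BT.leaf (nat_lit 48693529)) (BT.leaf (nat_lit 32271121)))) (BT.node (nat_lit 9579648) (BT.node (nat_lit 9579584) (BT.leaf (nat_lit 50179349)) (BT.leaf (nat_lit 32845601))) (BT.node (nat_lit 9579653) (BT.leaf (nat_lit 32845345)) (BT.leaf (nat_lit 776360))))) (BT.node (nat_lit 9579968) (BT.node (nat_lit 9579840) (BT.node (nat_lit 9579776) (BT.leaf (nat_lit 39392021)) (BT.leaf (nat_lit 27993105))) (BT.node (nat_lit 9579904) (BT.leaf (nat_lit 32388101)) (BT.leaf (nat_lit 27637265)))) (BT.node (nat_lit 9580032) (BT.node (nat_lit 9579973) (BT.leaf (nat_lit 38320157)) (BT.leaf (nat_lit 771128))) (BT.node (nat_lit 9580096) (BT.leaf (nat_lit 49685525)) (BT.leaf (nat_lit 34024209)))))) (BT.node (nat_lit 9580672) (BT.node (nat_lit 9580416) (BT.node (nat_lit 9580288) (BT.node (nat_lit 9580224) (BT.leaf (nat_lit 42837013)) (BT.leaf (nat_lit 47592709))) (BT.node (nat_lit 9580352) (BT.leaf (nat_lit 47707153)) (BT.leaf (nat_lit 30634773)))) (BT.node (nat_lit 9580544) (BT.node (nat_lit 9580480) (BT.leaf (nat_lit 38321433)) (BT.leaf (nat_lit 39363609))) (BT.node (nat_lit 9580608) (BT.leaf (nat_lit 29661957)) (BT.leaf (nat_lit 46867985))))) (BT.node (nat_lit 9580928) (BT.node (nat_lit 9580800) (BT.node (nat_lit 9580736) (BT.leaf (nat_lit 48261649)) (BT.leaf (nat_lit 43602721))) (BT.node (nat_lit 9580864) (BT.leaf (nat_lit 32492037)) (BT.leaf (nat_lit 39741445)))) (BT.node (nat_lit 9581056) (BT.node (nat_lit 9580992) (BT.leaf (nat_lit 36461601)) (BT.leaf (nat_lit 46508297))) (BT.node (nat_lit 9581120) (BT.leaf (nat_lit 32539141)) (BT.leaf (nat_lit 38890005))))))) (BT.node (nat_lit 9582148) (BT.node (nat_lit 9581696) (BT.node (nat_lit 9581440) (BT.node (nat_lit 9581312) (BT.node (nat_lit 9581248) (BT.leaf (nat_lit 38890773)) (BT.leaf (nat_lit 38733829))) (BT.node (nat_lit 9581376) (BT.leaf (nat_lit 38890273)) (BT.leaf (nat_lit 27641633)))) (BT.node (nat_lit 9581568) (BT.node (nat_lit 9581504) (BT.leaf (nat_lit 27641889)) (BT.leaf (nat_lit 27642145))) (BT.node (nat_lit 9581632) (BT.leaf (nat_lit 29651997)) (BT.leaf (nat_lit 38326813))))) (BT.node (nat_lit 9581952) (BT.node (nat_lit 9581824) (BT.node (nat_lit 9581760) (BT.leaf (nat_lit 49189397)) (BT.leaf (nat_lit 34432029))) (BT.node (nat_lit 9581888) (BT.leaf (nat_lit 39027225)) (BT.leaf (nat_lit 44142865)))) (BT.node (nat_lit 9582080) (BT.node (nat_lit 9582016) (BT.leaf (nat_lit 39224081)) (BT.leaf (nat_lit 40715269))) (BT.node (nat_lit 9582144) (BT.leaf (nat_lit 41183761)) (BT.leaf (nat_lit 33152281)))))) (BT.node (nat_lit 9582656) (BT.node (nat_lit 9582400) (BT.node (nat_lit 9582272) (BT.node (nat_lit 9582208) (BT.leaf (nat_lit 722592)) (BT.leaf (nat_lit 45117465))) (BT.node (nat_lit 9582336) (BT.leaf (nat_lit 39238173)) (BT.leaf (nat_lit 31731741)))) (BT.node (nat_lit 9582528) (BT.node (nat_lit 9582464) (BT.leaf (nat_lit 33021973)) (BT.leaf (nat_lit 27647237))) (BT.node (nat_lit 9582592) (BT.leaf (nat_lit 39927313)) (BT.leaf (nat_lit 39927577))))) (BT.node (nat_lit 9582912) (BT.node (nat_lit 9582784) (BT.node (nat_lit 9582720) (BT.leaf (nat_lit 39927581)) (BT.leaf (nat_lit 28829977))) (BT.node (nat_lit 9582848) (BT.leaf (nat_lit 33144341)) (BT.leaf (nat_lit 34301461)))) (BT.node (nat_lit 9583040) (BT.node (nat_lit 9582976) (BT.leaf (nat_lit 28704533)) (BT.leaf (nat_lit 41036825))) (BT.node (nat_lit 9583104) (BT.leaf (nat_lit 27647261)) (BT.leaf (nat_lit 29340693)))))))) (BT.node (nat_lit 9585088) (BT.node (nat_lit 9584128) (BT.node (nat_lit 9583618) (BT.node (nat_lit 9583424) (BT.node (nat_lit 9583296) (BT.node (nat_lit 9583232) (BT.leaf (nat_lit 45140997)) (BT.leaf (nat_lit 38333981))) (BT.node (nat_lit 9583360) (BT.leaf (nat_lit 40397589)) (BT.leaf (nat_lit 45141025)))) (BT.node (nat_lit 9583552) (BT.node (nat_lit 9583488) (BT.leaf (nat_lit 49379081)) (BT.leaf (nat_lit 38326793))) (BT.node (nat_lit 9583616) (BT.leaf (nat_lit 29595921)) (BT.leaf (nat_lit 45424917))))) (BT.node (nat_lit 9583872) (BT.node (nat_lit 9583744) (BT.node (nat_lit 9583680) (BT.leaf (nat_lit 631272)) (BT.leaf (nat_lit 29595937))) (BT.node (nat_lit 9583808) (BT.leaf (nat_lit 27653393)) (BT.leaf (nat_lit 51551521)))) (BT.node (nat_lit 9584000) (BT.node (nat_lit 9583936) (BT.leaf (nat_lit 27640593)) (BT.leaf (nat_lit 28921621))) (BT.node (nat_lit 9584064) (BT.leaf (nat_lit 28921625)) (BT.leaf (nat_lit 28921629)))))) (BT.node (nat_lit 9584576) (BT.node (nat_lit 9584320) (BT.node (nat_lit 9584256) (BT.node (nat_lit 9584192) (BT.leaf (nat_lit 51551237)) (BT.leaf (nat_lit 29972761))) (BT.node (nat_lit 9584259) (BT.leaf (nat_lit 31611413)) (BT.leaf (nat_lit 678964)))) (BT.node (nat_lit 9584448) (BT.node (nat_lit 9584384) (BT.leaf (nat_lit 44041761)) (BT.leaf (nat_lit 48818969))) (BT.node (nat_lit 9584512) (BT.leaf (nat_lit 37739037)) (BT.leaf (nat_lit 32714261))))) (BT.node (nat_lit 9584832) (BT.node (nat_lit 9584704) (BT.node (nat_lit 9584640) (BT.leaf (nat_lit 28991253)) (BT.leaf (nat_lit 46372641))) (BT.node (nat_lit 9584768) (BT.leaf (nat_lit 30150169)) (BT.leaf (nat_lit 30150173)))) (BT.node (nat_lit 9584960) (BT.node (nat_lit 9584896) (BT.leaf (nat_lit 27655441)) (BT.leaf (nat_lit 47358481))) (BT.node (nat_lit 9585024) (BT.leaf (nat_lit 38098701)) (BT.leaf (nat_lit 38098713))))))) (BT.node (nat_lit 9585921) (BT.node (nat_lit 9585540) (BT.node (nat_lit 9585344) (BT.node (nat_lit 9585216) (BT.node (nat_lit 9585152) (BT.leaf (nat_lit 28210949)) (BT.leaf (nat_lit 46948117))) (BT.node (nat_lit 9585280) (BT.leaf (nat_lit 47691797)) (BT.leaf (nat_lit 27660817)))) (BT.node (nat_lit 9585472) (BT.node (nat_lit 9585408) (BT.leaf (nat_lit 27660561)) (BT.leaf (nat_lit 35392789))) (BT.node (nat_lit 9585536) (BT.leaf (nat_lit 27660305)) (BT.leaf (nat_lit 40967445))))) (BT.node (nat_lit 9585728) (BT.node (nat_lit 9585664) (BT.node (nat_lit 9585600) (BT.leaf (nat_lit 794924)) (BT.leaf (nat_lit 27661337))) (BT.node (nat_lit 9585668) (BT.leaf (nat_lit 27662109)) (BT.leaf (nat_lit 719356)))) (BT.node (nat_lit 9585856) (BT.node (nat_lit 9585792) (BT.leaf (nat_lit 39905541)) (BT.leaf (nat_lit 27662869))) (BT.node (nat_lit 9585920) (BT.leaf (nat_lit 27661597)) (BT.leaf (nat_lit 31355681)))))) (BT.node (nat_lit 9586304) (BT.node (nat_lit 9586112) (BT.node (nat_lit 9585988) (BT.node (nat_lit 9585984) (BT.leaf (nat_lit 703396)) (BT.leaf (nat_lit 27662105))) (BT.node (nat_lit 9586048) (BT.leaf (nat_lit 740220)) (BT.leaf (nat_lit 27662625)))) (BT.node (nat_lit 9586240) (BT.node (nat_lit 9586176) (BT.leaf (nat_lit 38621189)) (BT.leaf (nat_lit 49136645))) (BT.node (nat_lit 9586243) (BT.leaf (nat_lit 39370001)) (BT.leaf (nat_lit 814472))))) (BT.node (nat_lit 9586496) (BT.node (nat_lit 9586369) (BT.node (nat_lit 9586368) (BT.leaf (nat_lit 33148685)) (BT.leaf (nat_lit 47848473))) (BT.node (nat_lit 9586432) (BT.leaf (nat_lit 721932)) (BT.leaf (nat_lit 28208157)))) (BT.node (nat_lit 9586568) (BT.node (nat_lit 9586560) (BT.leaf (nat_lit 29292305)) (BT.leaf (nat_lit 45018653))) (BT.node (nat_lit 9586624) (BT.leaf (nat_lit 703412)) (BT.leaf (nat_lit 39681057)))))))))))) (BT.node (nat_lit 9617408) (BT.node (nat_lit 9601984) (BT.node (nat_lit 9594048) (BT.node (nat_lit 9590152) (BT.node (nat_lit 9588480) (BT.node (nat_lit 9587648) (BT.node (nat_lit 9587136) (BT.node (nat_lit 9586888) (BT.node (nat_lit 9586816) (BT.node (nat_lit 9586752) (BT.leaf (nat_lit 47685141)) (BT.leaf (nat_lit 45016841))) (BT.node (nat_lit 9586880) (BT.leaf (nat_lit 29971993)) (BT.leaf (nat_lit 39239941)))) (BT.node (nat_lit 9587008) (BT.node (nat_lit 9586944) (BT.leaf (nat_lit 788172)) (BT.leaf (nat_lit 49151001))) (BT.node (nat_lit 9587072) (BT.leaf (nat_lit 30871073)) (BT.leaf (nat_lit 32088077))))) (BT.node (nat_lit 9587392) (BT.node (nat_lit 9587264) (BT.node (nat_lit 9587200) (BT.leaf (nat_lit 50293277)) (BT.leaf (nat_lit 28820233))) (BT.node (nat_lit 9587328) (BT.leaf (nat_lit 28820237)) (BT.leaf (nat_lit 27923989)))) (BT.node (nat_lit 9587520) (BT.node (nat_lit 9587456) (BT.leaf (nat_lit 28820249)) (BT.leaf (nat_lit 28820253))) (BT.node (nat_lit 9587584) (BT.leaf (nat_lit 28820257)) (BT.leaf (nat_lit 29626129)))))) (BT.node (nat_lit 9588096) (BT.node (nat_lit 9587840) (BT.node (nat_lit 9587718) (BT.node (nat_lit 9587712) (BT.leaf (nat_lit 37689113)) (BT.leaf (nat_lit 34252305))) (BT.node (nat_lit 9587776) (BT.leaf (nat_lit 770872)) (BT.leaf (nat_lit 38588441)))) (BT.node (nat_lit 9587968) (BT.node (nat_lit 9587904) (BT.leaf (nat_lit 36173857)) (BT.leaf (nat_lit 39239429))) (BT.node (nat_lit 9588032) (BT.leaf (nat_lit 43148829)) (BT.leaf (nat_lit 44142869))))) (BT.node (nat_lit 9588352) (BT.node (nat_lit 9588224) (BT.node (nat_lit 9588160) (BT.leaf (nat_lit 48702493)) (BT.leaf (nat_lit 33150741))) (BT.node (nat_lit 9588288) (BT.leaf (nat_lit 49056785)) (BT.leaf (nat_lit 38352921)))) (BT.node (nat_lit 9588416) (BT.node (nat_lit 9588354) (BT.leaf (nat_lit 50842137)) (BT.leaf (nat_lit 775368))) (BT.node (nat_lit 9588421) (BT.leaf (nat_lit 39794461)) (BT.leaf (nat_lit 695972))))))) (BT.node (nat_lit 9589504) (BT.node (nat_lit 9588992) (BT.node (nat_lit 9588736) (BT.node (nat_lit 9588608) (BT.node (nat_lit 9588544) (BT.leaf (nat_lit 36464913)) (BT.leaf (nat_lit 33192205))) (BT.node (nat_lit 9588672) (BT.leaf (nat_lit 27666965)) (BT.leaf (nat_lit 28563461)))) (BT.node (nat_lit 9588864) (BT.node (nat_lit 9588800) (BT.leaf (nat_lit 48626437)) (BT.leaf (nat_lit 28561433))) (BT.node (nat_lit 9588928) (BT.leaf (nat_lit 27666709)) (BT.leaf (nat_lit 27773193))))) (BT.node (nat_lit 9589248) (BT.node (nat_lit 9589120) (BT.node (nat_lit 9589056) (BT.leaf (nat_lit 27773197)) (BT.leaf (nat_lit 27773209))) (BT.node (nat_lit 9589184) (BT.leaf (nat_lit 27773213)) (BT.leaf (nat_lit 33326113)))) (BT.node (nat_lit 9589376) (BT.node (nat_lit 9589312) (BT.leaf (nat_lit 27773449)) (BT.leaf (nat_lit 27773453))) (BT.node (nat_lit 9589440) (BT.leaf (nat_lit 33151761)) (BT.leaf (nat_lit 27773465)))))) (BT.node (nat_lit 9589888) (BT.node (nat_lit 9589760) (BT.node (nat_lit 9589632) (BT.node (nat_lit 9589568) (BT.leaf (nat_lit 27666209)) (BT.leaf (nat_lit 46653209))) (BT.node (nat_lit 9589696) (BT.leaf (nat_lit 27644953)) (BT.leaf (nat_lit 29928981)))) (BT.node (nat_lit 9589828) (BT.node (nat_lit 9589824) (BT.leaf (nat_lit 27666973)) (BT.leaf (nat_lit 27923997))) (BT.node (nat_lit 9589829) (BT.leaf (nat_lit 771868)) (BT.leaf (nat_lit 771868))))) (BT.node (nat_lit 9590080) (BT.node (nat_lit 9590016) (BT.node (nat_lit 9589952) (BT.leaf (nat_lit 27644957)) (BT.leaf (nat_lit 39650577))) (BT.node (nat_lit 9590020) (BT.leaf (nat_lit 27795989)) (BT.leaf (nat_lit 771864)))) (BT.node (nat_lit 9590147) (BT.node (nat_lit 9590144) (BT.leaf (nat_lit 27666969)) (BT.leaf (nat_lit 44120581))) (BT.node (nat_lit 9590150) (BT.leaf (nat_lit 644828)) (BT.leaf (nat_lit 644436)))))))) (BT.node (nat_lit 9592000) (BT.node (nat_lit 9590984) (BT.node (nat_lit 9590592) (BT.node (nat_lit 9590400) (BT.node (nat_lit 9590272) (BT.node (nat_lit 9590208) (BT.leaf (nat_lit 644436)) (BT.leaf (nat_lit 29810969))) (BT.node (nat_lit 9590336) (BT.leaf (nat_lit 44120593)) (BT.leaf (nat_lit 34051613)))) (BT.node (nat_lit 9590466) (BT.node (nat_lit 9590464) (BT.leaf (nat_lit 41880861)) (BT.leaf (nat_lit 43916829))) (BT.node (nat_lit 9590528) (BT.leaf (nat_lit 759104)) (BT.leaf (nat_lit 38327837))))) (BT.node (nat_lit 9590784) (BT.node (nat_lit 9590658) (BT.node (nat_lit 9590656) (BT.leaf (nat_lit 38327577)) (BT.leaf (nat_lit 38559769))) (BT.node (nat_lit 9590720) (BT.leaf (nat_lit 602500)) (BT.leaf (nat_lit 43766549)))) (BT.node (nat_lit 9590912) (BT.node (nat_lit 9590848) (BT.leaf (nat_lit 27669265)) (BT.leaf (nat_lit 27669009))) (BT.node (nat_lit 9590976) (BT.leaf (nat_lit 27668753)) (BT.leaf (nat_lit 39874821)))))) (BT.node (nat_lit 9591488) (BT.node (nat_lit 9591232) (BT.node (nat_lit 9591104) (BT.node (nat_lit 9591040) (BT.leaf (nat_lit 634444)) (BT.leaf (nat_lit 31751177))) (BT.node (nat_lit 9591168) (BT.leaf (nat_lit 27668497)) (BT.leaf (nat_lit 29498373)))) (BT.node (nat_lit 9591360) (BT.node (nat_lit 9591296) (BT.leaf (nat_lit 49860381)) (BT.leaf (nat_lit 49861909))) (BT.node (nat_lit 9591424) (BT.leaf (nat_lit 33155349)) (BT.leaf (nat_lit 49861141))))) (BT.node (nat_lit 9591744) (BT.node (nat_lit 9591616) (BT.node (nat_lit 9591552) (BT.leaf (nat_lit 52363797)) (BT.leaf (nat_lit 31617045))) (BT.node (nat_lit 9591680) (BT.leaf (nat_lit 40325921)) (BT.leaf (nat_lit 31617053)))) (BT.node (nat_lit 9591872) (BT.node (nat_lit 9591808) (BT.leaf (nat_lit 36463897)) (BT.leaf (nat_lit 36463901))) (BT.node (nat_lit 9591936) (BT.leaf (nat_lit 46468101)) (BT.leaf (nat_lit 46468117))))))) (BT.node (nat_lit 9593024) (BT.node (nat_lit 9592512) (BT.node (nat_lit 9592256) (BT.node (nat_lit 9592128) (BT.node (nat_lit 9592064) (BT.leaf (nat_lit 29388309)) (BT.leaf (nat_lit 29750037))) (BT.node (nat_lit 9592192) (BT.leaf (nat_lit 49756193)) (BT.leaf (nat_lit 32799749)))) (BT.node (nat_lit 9592384) (BT.node (nat_lit 9592320) (BT.leaf (nat_lit 38861077)) (BT.leaf (nat_lit 27673093))) (BT.node (nat_lit 9592448) (BT.leaf (nat_lit 27700501)) (BT.leaf (nat_lit 27937801))))) (BT.node (nat_lit 9592768) (BT.node (nat_lit 9592640) (BT.node (nat_lit 9592576) (BT.leaf (nat_lit 38804237)) (BT.leaf (nat_lit 27939105))) (BT.node (nat_lit 9592704) (BT.leaf (nat_lit 29756181)) (BT.leaf (nat_lit 27943189)))) (BT.node (nat_lit 9592896) (BT.node (nat_lit 9592832) (BT.leaf (nat_lit 45818653)) (BT.leaf (nat_lit 39725853))) (BT.node (nat_lit 9592960) (BT.leaf (nat_lit 35272213)) (BT.leaf (nat_lit 35272217)))))) (BT.node (nat_lit 9593536) (BT.node (nat_lit 9593280) (BT.node (nat_lit 9593152) (BT.node (nat_lit 9593088) (BT.leaf (nat_lit 35272221)) (BT.leaf (nat_lit 27674629))) (BT.node (nat_lit 9593216) (BT.leaf (nat_lit 37948693)) (BT.leaf (nat_lit 27929621)))) (BT.node (nat_lit 9593408) (BT.node (nat_lit 9593344) (BT.leaf (nat_lit 27929625)) (BT.leaf (nat_lit 27929629))) (BT.node (nat_lit 9593472) (BT.leaf (nat_lit 46658325)) (BT.leaf (nat_lit 47864593))))) (BT.node (nat_lit 9593792) (BT.node (nat_lit 9593664) (BT.node (nat_lit 9593600) (BT.leaf (nat_lit 47864601)) (BT.leaf (nat_lit 47864605))) (BT.node (nat_lit 9593728) (BT.leaf (nat_lit 47864609)) (BT.leaf (nat_lit 31154453)))) (BT.node (nat_lit 9593920) (BT.node (nat_lit 9593856) (BT.leaf (nat_lit 28452373)) (BT.leaf (nat_lit 47544089))) (BT.node (nat_lit 9593984) (BT.leaf (nat_lit 29559837)) (BT.leaf (nat_lit 49355533))))))))) (BT.node (nat_lit 9598080) (BT.node (nat_lit 9596096) (BT.node (nat_lit 9595072) (BT.node (nat_lit 9594560) (BT.node (nat_lit 9594304) (BT.node (nat_lit 9594176) (BT.node (nat_lit 9594112) (BT.leaf (nat_lit 47544609)) (BT.leaf (nat_lit 41453333))) (BT.node (nat_lit 9594240) (BT.leaf (nat_lit 31387937)) (BT.leaf (nat_lit 43643141)))) (BT.node (nat_lit 9594432) (BT.node (nat_lit 9594368) (BT.leaf (nat_lit 38793249)) (BT.leaf (nat_lit 31069209))) (BT.node (nat_lit 9594496) (BT.leaf (nat_lit 31069213)) (BT.leaf (nat_lit 44056837))))) (BT.node (nat_lit 9594816) (BT.node (nat_lit 9594688) (BT.node (nat_lit 9594624) (BT.leaf (nat_lit 27702809)) (BT.leaf (nat_lit 27702813))) (BT.node (nat_lit 9594752) (BT.leaf (nat_lit 33159953)) (BT.leaf (nat_lit 30088725)))) (BT.node (nat_lit 9594944) (BT.node (nat_lit 9594880) (BT.leaf (nat_lit 39726089)) (BT.leaf (nat_lit 28558353))) (BT.node (nat_lit 9595008) (BT.leaf (nat_lit 37783829)) (BT.leaf (nat_lit 37783833)))))) (BT.node (nat_lit 9595584) (BT.node (nat_lit 9595328) (BT.node (nat_lit 9595200) (BT.node (nat_lit 9595136) (BT.leaf (nat_lit 37783837)) (BT.leaf (nat_lit 46964761))) (BT.node (nat_lit 9595264) (BT.leaf (nat_lit 51802373)) (BT.leaf (nat_lit 47125277)))) (BT.node (nat_lit 9595456) (BT.node (nat_lit 9595392) (BT.leaf (nat_lit 49393417)) (BT.leaf (nat_lit 47125257))) (BT.node (nat_lit 9595520) (BT.leaf (nat_lit 38381593)) (BT.leaf (nat_lit 32691745))))) (BT.node (nat_lit 9595840) (BT.node (nat_lit 9595712) (BT.node (nat_lit 9595648) (BT.leaf (nat_lit 28438037)) (BT.leaf (nat_lit 46880033))) (BT.node (nat_lit 9595776) (BT.leaf (nat_lit 30133025)) (BT.leaf (nat_lit 31380001)))) (BT.node (nat_lit 9595968) (BT.node (nat_lit 9595904) (BT.leaf (nat_lit 31455777)) (BT.leaf (nat_lit 35085321))) (BT.node (nat_lit 9596032) (BT.leaf (nat_lit 35085325)) (BT.leaf (nat_lit 40640773))))))) (BT.node (nat_lit 9597120) (BT.node (nat_lit 9596608) (BT.node (nat_lit 9596352) (BT.node (nat_lit 9596224) (BT.node (nat_lit 9596160) (BT.leaf (nat_lit 35085341)) (BT.leaf (nat_lit 39838241))) (BT.node (nat_lit 9596288) (BT.leaf (nat_lit 49454113)) (BT.leaf (nat_lit 49393441)))) (BT.node (nat_lit 9596480) (BT.node (nat_lit 9596416) (BT.leaf (nat_lit 38367773)) (BT.leaf (nat_lit 37716237))) (BT.node (nat_lit 9596544) (BT.leaf (nat_lit 28750881)) (BT.leaf (nat_lit 41117189))))) (BT.node (nat_lit 9596864) (BT.node (nat_lit 9596736) (BT.node (nat_lit 9596672) (BT.leaf (nat_lit 27689745)) (BT.leaf (nat_lit 40801309))) (BT.node (nat_lit 9596800) (BT.leaf (nat_lit 46419465)) (BT.leaf (nat_lit 28750353)))) (BT.node (nat_lit 9596992) (BT.node (nat_lit 9596928) (BT.leaf (nat_lit 38367757)) (BT.leaf (nat_lit 28750369))) (BT.node (nat_lit 9597056) (BT.leaf (nat_lit 28440069)) (BT.leaf (nat_lit 37716249)))))) (BT.node (nat_lit 9597568) (BT.node (nat_lit 9597376) (BT.node (nat_lit 9597248) (BT.node (nat_lit 9597184) (BT.leaf (nat_lit 28440081)) (BT.leaf (nat_lit 27690777))) (BT.node (nat_lit 9597312) (BT.leaf (nat_lit 28440097)) (BT.leaf (nat_lit 27281937)))) (BT.node (nat_lit 9597440) (BT.node (nat_lit 9597382) (BT.leaf (nat_lit 41115925)) (BT.leaf (nat_lit 614628))) (BT.node (nat_lit 9597504) (BT.leaf (nat_lit 29546757)) (BT.leaf (nat_lit 49267981))))) (BT.node (nat_lit 9597824) (BT.node (nat_lit 9597696) (BT.node (nat_lit 9597632) (BT.leaf (nat_lit 29546769)) (BT.leaf (nat_lit 27675421))) (BT.node (nat_lit 9597760) (BT.leaf (nat_lit 28242693)) (BT.leaf (nat_lit 27680529)))) (BT.node (nat_lit 9597952) (BT.node (nat_lit 9597888) (BT.leaf (nat_lit 28418325)) (BT.leaf (nat_lit 28418329))) (BT.node (nat_lit 9598016) (BT.leaf (nat_lit 28418333)) (BT.leaf (nat_lit 27669777)))))))) (BT.node (nat_lit 9600192) (BT.node (nat_lit 9599104) (BT.node (nat_lit 9598592) (BT.node (nat_lit 9598336) (BT.node (nat_lit 9598208) (BT.node (nat_lit 9598144) (BT.leaf (nat_lit 30061061)) (BT.leaf (nat_lit 28986389))) (BT.node (nat_lit 9598272) (BT.leaf (nat_lit 28986393)) (BT.leaf (nat_lit 28986397)))) (BT.node (nat_lit 9598464) (BT.node (nat_lit 9598400) (BT.leaf (nat_lit 28034337)) (BT.leaf (nat_lit 38958085))) (BT.node (nat_lit 9598528) (BT.leaf (nat_lit 27697169)) (BT.leaf (nat_lit 29996821))))) (BT.node (nat_lit 9598848) (BT.node (nat_lit 9598720) (BT.node (nat_lit 9598656) (BT.leaf (nat_lit 29996825)) (BT.leaf (nat_lit 29996829))) (BT.node (nat_lit 9598784) (BT.leaf (nat_lit 27676433)) (BT.leaf (nat_lit 39491605)))) (BT.node (nat_lit 9598976) (BT.node (nat_lit 9598912) (BT.leaf (nat_lit 27698701)) (BT.leaf (nat_lit 28100881))) (BT.node (nat_lit 9599040) (BT.leaf (nat_lit 28879385)) (BT.leaf (nat_lit 43986721)))))) (BT.node (nat_lit 9599616) (BT.node (nat_lit 9599360) (BT.node (nat_lit 9599232) (BT.node (nat_lit 9599168) (BT.leaf (nat_lit 39258389)) (BT.leaf (nat_lit 42980381))) (BT.node (nat_lit 9599296) (BT.leaf (nat_lit 38799893)) (BT.leaf (nat_lit 29111329)))) (BT.node (nat_lit 9599488) (BT.node (nat_lit 9599424) (BT.leaf (nat_lit 33162513)) (BT.leaf (nat_lit 31375877))) (BT.node (nat_lit 9599552) (BT.leaf (nat_lit 32966173)) (BT.leaf (nat_lit 28476433))))) (BT.node (nat_lit 9599872) (BT.node (nat_lit 9599744) (BT.node (nat_lit 9599680) (BT.leaf (nat_lit 46302221)) (BT.leaf (nat_lit 41162013))) (BT.node (nat_lit 9599808) (BT.leaf (nat_lit 41645337)) (BT.leaf (nat_lit 32656157)))) (BT.node (nat_lit 9600000) (BT.node (nat_lit 9599936) (BT.leaf (nat_lit 38401305)) (BT.leaf (nat_lit 31930897))) (BT.node (nat_lit 9600128) (BT.leaf (nat_lit 31930901)) (BT.leaf (nat_lit 32654873))))))) (BT.node (nat_lit 9600960) (BT.node (nat_lit 9600576) (BT.node (nat_lit 9600448) (BT.node (nat_lit 9600320) (BT.node (nat_lit 9600256) (BT.leaf (nat_lit 32654877)) (BT.leaf (nat_lit 39465733))) (BT.node (nat_lit 9600384) (BT.leaf (nat_lit 38398497)) (BT.leaf (nat_lit 47864585)))) (BT.node (nat_lit 9600512) (BT.node (nat_lit 9600456) (BT.leaf (nat_lit 37983765)) (BT.leaf (nat_lit 607144))) (BT.node (nat_lit 9600519) (BT.leaf (nat_lit 49562649)) (BT.leaf (nat_lit 676604))))) (BT.node (nat_lit 9600710) (BT.node (nat_lit 9600640) (BT.node (nat_lit 9600584) (BT.leaf (nat_lit 32674077)) (BT.leaf (nat_lit 774428))) (BT.node (nat_lit 9600704) (BT.leaf (nat_lit 48663045)) (BT.leaf (nat_lit 34389269)))) (BT.node (nat_lit 9600832) (BT.node (nat_lit 9600768) (BT.leaf (nat_lit 679848)) (BT.leaf (nat_lit 45844757))) (BT.node (nat_lit 9600896) (BT.leaf (nat_lit 38405133)) (BT.leaf (nat_lit 27963937)))))) (BT.node (nat_lit 9601472) (BT.node (nat_lit 9601216) (BT.node (nat_lit 9601088) (BT.node (nat_lit 9601024) (BT.leaf (nat_lit 44814881)) (BT.leaf (nat_lit 27699217))) (BT.node (nat_lit 9601152) (BT.leaf (nat_lit 41035033)) (BT.leaf (nat_lit 48759557)))) (BT.node (nat_lit 9601344) (BT.node (nat_lit 9601280) (BT.leaf (nat_lit 28920329)) (BT.leaf (nat_lit 46562837))) (BT.node (nat_lit 9601408) (BT.leaf (nat_lit 27963665)) (BT.leaf (nat_lit 46526477))))) (BT.node (nat_lit 9601728) (BT.node (nat_lit 9601600) (BT.node (nat_lit 9601536) (BT.leaf (nat_lit 27963681)) (BT.leaf (nat_lit 44254981))) (BT.node (nat_lit 9601664) (BT.leaf (nat_lit 27699737)) (BT.leaf (nat_lit 44814369)))) (BT.node (nat_lit 9601856) (BT.node (nat_lit 9601792) (BT.leaf (nat_lit 32612377)) (BT.leaf (nat_lit 41493269))) (BT.node (nat_lit 9601920) (BT.leaf (nat_lit 51021589)) (BT.leaf (nat_lit 44815893)))))))))) (BT.node (nat_lit 9609856) (BT.node (nat_lit 9606016) (BT.node (nat_lit 9603976) (BT.node (nat_lit 9603008) (BT.node (nat_lit 9602496) (BT.node (nat_lit 9602240) (BT.node (nat_lit 9602112) (BT.node (nat_lit 9602048) (BT.leaf (nat_lit 44835593)) (BT.leaf (nat_lit 28689177))) (BT.node (nat_lit 9602176) (BT.leaf (nat_lit 44257541)) (BT.leaf (nat_lit 28830749)))) (BT.node (nat_lit 9602368) (BT.node (nat_lit 9602304) (BT.leaf (nat_lit 44835609)) (BT.leaf (nat_lit 44835613))) (BT.node (nat_lit 9602432) (BT.leaf (nat_lit 28676369)) (BT.leaf (nat_lit 28676373))))) (BT.node (nat_lit 9602752) (BT.node (nat_lit 9602624) (BT.node (nat_lit 9602560) (BT.leaf (nat_lit 44258309)) (BT.leaf (nat_lit 43276305))) (BT.node (nat_lit 9602688) (BT.leaf (nat_lit 49756697)) (BT.leaf (nat_lit 43339269)))) (BT.node (nat_lit 9602880) (BT.node (nat_lit 9602816) (BT.leaf (nat_lit 35395857)) (BT.leaf (nat_lit 35395865))) (BT.node (nat_lit 9602944) (BT.leaf (nat_lit 49756685)) (BT.leaf (nat_lit 35395873)))))) (BT.node (nat_lit 9603520) (BT.node (nat_lit 9603264) (BT.node (nat_lit 9603136) (BT.node (nat_lit 9603072) (BT.leaf (nat_lit 33014037)) (BT.leaf (nat_lit 28811285))) (BT.node (nat_lit 9603200) (BT.leaf (nat_lit 30579997)) (BT.leaf (nat_lit 33611013)))) (BT.node (nat_lit 9603392) (BT.node (nat_lit 9603328) (BT.leaf (nat_lit 27700497)) (BT.leaf (nat_lit 27700241))) (BT.node (nat_lit 9603456) (BT.leaf (nat_lit 41798413)) (BT.leaf (nat_lit 41798669))))) (BT.node (nat_lit 9603776) (BT.node (nat_lit 9603648) (BT.node (nat_lit 9603584) (BT.leaf (nat_lit 27937805)) (BT.leaf (nat_lit 27937809))) (BT.node (nat_lit 9603712) (BT.leaf (nat_lit 27937817)) (BT.leaf (nat_lit 27937825)))) (BT.node (nat_lit 9603904) (BT.node (nat_lit 9603840) (BT.leaf (nat_lit 32418069)) (BT.leaf (nat_lit 38370585))) (BT.node (nat_lit 9603968) (BT.leaf (nat_lit 46534677)) (BT.leaf (nat_lit 38631173))))))) (BT.node (nat_lit 9604997) (BT.node (nat_lit 9604544) (BT.node (nat_lit 9604224) (BT.node (nat_lit 9604096) (BT.node (nat_lit 9604032) (BT.leaf (nat_lit 619440)) (BT.leaf (nat_lit 27285001))) (BT.node (nat_lit 9604160) (BT.leaf (nat_lit 38370573)) (BT.leaf (nat_lit 28475937)))) (BT.node (nat_lit 9604352) (BT.node (nat_lit 9604288) (BT.leaf (nat_lit 37718033)) (BT.leaf (nat_lit 41834257))) (BT.node (nat_lit 9604480) (BT.leaf (nat_lit 44068373)) (BT.leaf (nat_lit 29080337))))) (BT.node (nat_lit 9604800) (BT.node (nat_lit 9604672) (BT.node (nat_lit 9604608) (BT.leaf (nat_lit 31243013)) (BT.leaf (nat_lit 40256005))) (BT.node (nat_lit 9604736) (BT.leaf (nat_lit 41302293)) (BT.leaf (nat_lit 41302301)))) (BT.node (nat_lit 9604928) (BT.node (nat_lit 9604864) (BT.leaf (nat_lit 46966817)) (BT.leaf (nat_lit 30547481))) (BT.node (nat_lit 9604992) (BT.leaf (nat_lit 42884357)) (BT.leaf (nat_lit 31569937)))))) (BT.node (nat_lit 9605504) (BT.node (nat_lit 9605248) (BT.node (nat_lit 9605120) (BT.node (nat_lit 9605056) (BT.leaf (nat_lit 670372)) (BT.leaf (nat_lit 27702817))) (BT.node (nat_lit 9605184) (BT.leaf (nat_lit 43644169)) (BT.leaf (nat_lit 39267873)))) (BT.node (nat_lit 9605376) (BT.node (nat_lit 9605312) (BT.leaf (nat_lit 39268385)) (BT.leaf (nat_lit 39268129))) (BT.node (nat_lit 9605440) (BT.leaf (nat_lit 46894113)) (BT.leaf (nat_lit 30534937))))) (BT.node (nat_lit 9605760) (BT.node (nat_lit 9605632) (BT.node (nat_lit 9605568) (BT.leaf (nat_lit 31559197)) (BT.leaf (nat_lit 37952025))) (BT.node (nat_lit 9605696) (BT.leaf (nat_lit 38964249)) (BT.leaf (nat_lit 48574241)))) (BT.node (nat_lit 9605888) (BT.node (nat_lit 9605824) (BT.leaf (nat_lit 42777869)) (BT.leaf (nat_lit 31512341))) (BT.node (nat_lit 9605952) (BT.leaf (nat_lit 33017117)) (BT.leaf (nat_lit 49787937)))))))) (BT.node (nat_lit 9607936) (BT.node (nat_lit 9606918) (BT.node (nat_lit 9606528) (BT.node (nat_lit 9606272) (BT.node (nat_lit 9606144) (BT.node (nat_lit 9606080) (BT.leaf (nat_lit 31517713)) (BT.leaf (nat_lit 31517717))) (BT.node (nat_lit 9606208) (BT.leaf (nat_lit 46893073)) (BT.leaf (nat_lit 27702033)))) (BT.node (nat_lit 9606400) (BT.node (nat_lit 9606336) (BT.leaf (nat_lit 27703313)) (BT.leaf (nat_lit 44074785))) (BT.node (nat_lit 9606464) (BT.leaf (nat_lit 38954265)) (BT.leaf (nat_lit 38954269))))) (BT.node (nat_lit 9606784) (BT.node (nat_lit 9606656) (BT.node (nat_lit 9606592) (BT.leaf (nat_lit 28520965)) (BT.leaf (nat_lit 27343877))) (BT.node (nat_lit 9606720) (BT.leaf (nat_lit 28551697)) (BT.leaf (nat_lit 44690445)))) (BT.node (nat_lit 9606912) (BT.node (nat_lit 9606848) (BT.leaf (nat_lit 52309005)) (BT.leaf (nat_lit 50887957))) (BT.node (nat_lit 9606917) (BT.leaf (nat_lit 40170757)) (BT.leaf (nat_lit 767924)))))) (BT.node (nat_lit 9607424) (BT.node (nat_lit 9607168) (BT.node (nat_lit 9607040) (BT.node (nat_lit 9606976) (BT.leaf (nat_lit 767924)) (BT.leaf (nat_lit 39976981))) (BT.node (nat_lit 9607104) (BT.leaf (nat_lit 48818465)) (BT.leaf (nat_lit 27705361)))) (BT.node (nat_lit 9607296) (BT.node (nat_lit 9607232) (BT.leaf (nat_lit 31469073)) (BT.leaf (nat_lit 28270097))) (BT.node (nat_lit 9607360) (BT.leaf (nat_lit 39051269)) (BT.leaf (nat_lit 30066453))))) (BT.node (nat_lit 9607680) (BT.node (nat_lit 9607552) (BT.node (nat_lit 9607488) (BT.leaf (nat_lit 30066457)) (BT.leaf (nat_lit 30066461))) (BT.node (nat_lit 9607616) (BT.leaf (nat_lit 28472597)) (BT.leaf (nat_lit 28472601)))) (BT.node (nat_lit 9607808) (BT.node (nat_lit 9607744) (BT.leaf (nat_lit 28472605)) (BT.leaf (nat_lit 28264465))) (BT.node (nat_lit 9607872) (BT.leaf (nat_lit 30010901)) (BT.leaf (nat_lit 30010905))))))) (BT.node (nat_lit 9608960) (BT.node (nat_lit 9608448) (BT.node (nat_lit 9608192) (BT.node (nat_lit 9608064) (BT.node (nat_lit 9608000) (BT.leaf (nat_lit 30010909)) (BT.leaf (nat_lit 28325661))) (BT.node (nat_lit 9608128) (BT.leaf (nat_lit 29386257)) (BT.leaf (nat_lit 29386261)))) (BT.node (nat_lit 9608320) (BT.node (nat_lit 9608256) (BT.leaf (nat_lit 27714329)) (BT.leaf (nat_lit 27980053))) (BT.node (nat_lit 9608384) (BT.leaf (nat_lit 27980057)) (BT.leaf (nat_lit 27980061))))) (BT.node (nat_lit 9608704) (BT.node (nat_lit 9608576) (BT.node (nat_lit 9608512) (BT.leaf (nat_lit 27717137)) (BT.leaf (nat_lit 30815241))) (BT.node (nat_lit 9608640) (BT.leaf (nat_lit 27716881)) (BT.leaf (nat_lit 46863133)))) (BT.node (nat_lit 9608832) (BT.node (nat_lit 9608768) (BT.leaf (nat_lit 35885073)) (BT.leaf (nat_lit 28423957))) (BT.node (nat_lit 9608896) (BT.leaf (nat_lit 46545177)) (BT.leaf (nat_lit 41083149)))))) (BT.node (nat_lit 9609408) (BT.node (nat_lit 9609216) (BT.node (nat_lit 9609088) (BT.node (nat_lit 9609024) (BT.leaf (nat_lit 36818205)) (BT.leaf (nat_lit 38435085))) (BT.node (nat_lit 9609152) (BT.leaf (nat_lit 29308961)) (BT.leaf (nat_lit 46865441)))) (BT.node (nat_lit 9609344) (BT.node (nat_lit 9609280) (BT.leaf (nat_lit 38435097)) (BT.leaf (nat_lit 28424737))) (BT.node (nat_lit 9609347) (BT.leaf (nat_lit 30464021)) (BT.leaf (nat_lit 748824))))) (BT.node (nat_lit 9609664) (BT.node (nat_lit 9609536) (BT.node (nat_lit 9609472) (BT.leaf (nat_lit 38437917)) (BT.leaf (nat_lit 52123153))) (BT.node (nat_lit 9609600) (BT.leaf (nat_lit 50851349)) (BT.leaf (nat_lit 28680465)))) (BT.node (nat_lit 9609792) (BT.node (nat_lit 9609728) (BT.leaf (nat_lit 36818189)) (BT.leaf (nat_lit 28680481))) (BT.node (nat_lit 9609796) (BT.leaf (nat_lit 30226693)) (BT.leaf (nat_lit 749932))))))))) (BT.node (nat_lit 9613888) (BT.node (nat_lit 9611904) (BT.node (nat_lit 9610880) (BT.node (nat_lit 9610368) (BT.node (nat_lit 9610112) (BT.node (nat_lit 9609984) (BT.node (nat_lit 9609920) (BT.leaf (nat_lit 36789781)) (BT.leaf (nat_lit 51949597))) (BT.node (nat_lit 9610048) (BT.leaf (nat_lit 27723537)) (BT.leaf (nat_lit 30464025)))) (BT.node (nat_lit 9610240) (BT.node (nat_lit 9610176) (BT.leaf (nat_lit 51013921)) (BT.leaf (nat_lit 36790533))) (BT.node (nat_lit 9610304) (BT.leaf (nat_lit 27723033)) (BT.leaf (nat_lit 47944473))))) (BT.node (nat_lit 9610624) (BT.node (nat_lit 9610496) (BT.node (nat_lit 9610432) (BT.leaf (nat_lit 36984581)) (BT.leaf (nat_lit 34802705))) (BT.node (nat_lit 9610560) (BT.leaf (nat_lit 40087581)) (BT.leaf (nat_lit 47744789)))) (BT.node (nat_lit 9610752) (BT.node (nat_lit 9610688) (BT.leaf (nat_lit 37205765)) (BT.leaf (nat_lit 40087577))) (BT.node (nat_lit 9610816) (BT.leaf (nat_lit 38122761)) (BT.leaf (nat_lit 38442253)))))) (BT.node (nat_lit 9611392) (BT.node (nat_lit 9611136) (BT.node (nat_lit 9611008) (BT.node (nat_lit 9610944) (BT.leaf (nat_lit 29617429)) (BT.leaf (nat_lit 47082009))) (BT.node (nat_lit 9611072) (BT.leaf (nat_lit 47082013)) (BT.leaf (nat_lit 29617441)))) (BT.node (nat_lit 9611264) (BT.node (nat_lit 9611200) (BT.leaf (nat_lit 48286753)) (BT.leaf (nat_lit 48765729))) (BT.node (nat_lit 9611328) (BT.leaf (nat_lit 48718357)) (BT.leaf (nat_lit 38122777))))) (BT.node (nat_lit 9611648) (BT.node (nat_lit 9611520) (BT.node (nat_lit 9611456) (BT.leaf (nat_lit 38122781)) (BT.leaf (nat_lit 35525921))) (BT.node (nat_lit 9611584) (BT.leaf (nat_lit 28498957)) (BT.leaf (nat_lit 47255557)))) (BT.node (nat_lit 9611776) (BT.node (nat_lit 9611712) (BT.leaf (nat_lit 46868761)) (BT.leaf (nat_lit 28498961))) (BT.node (nat_lit 9611840) (BT.leaf (nat_lit 48718365)) (BT.leaf (nat_lit 28333853))))))) (BT.node (nat_lit 9612864) (BT.node (nat_lit 9612416) (BT.node (nat_lit 9612160) (BT.node (nat_lit 9612032) (BT.node (nat_lit 9611968) (BT.leaf (nat_lit 32729365)) (BT.leaf (nat_lit 30049569))) (BT.node (nat_lit 9612096) (BT.leaf (nat_lit 27740693)) (BT.leaf (nat_lit 38448669)))) (BT.node (nat_lit 9612288) (BT.node (nat_lit 9612224) (BT.leaf (nat_lit 28801297)) (BT.leaf (nat_lit 38458905))) (BT.node (nat_lit 9612352) (BT.leaf (nat_lit 28431621)) (BT.leaf (nat_lit 51398433))))) (BT.node (nat_lit 9612672) (BT.node (nat_lit 9612544) (BT.node (nat_lit 9612480) (BT.leaf (nat_lit 51343889)) (BT.leaf (nat_lit 32850437))) (BT.node (nat_lit 9612608) (BT.leaf (nat_lit 38491913)) (BT.leaf (nat_lit 38893317)))) (BT.node (nat_lit 9612800) (BT.node (nat_lit 9612736) (BT.leaf (nat_lit 50687493)) (BT.leaf (nat_lit 29036313))) (BT.node (nat_lit 9612804) (BT.leaf (nat_lit 27770901)) (BT.leaf (nat_lit 706660)))))) (BT.node (nat_lit 9613376) (BT.node (nat_lit 9613120) (BT.node (nat_lit 9612992) (BT.node (nat_lit 9612928) (BT.leaf (nat_lit 27729937)) (BT.leaf (nat_lit 27730193))) (BT.node (nat_lit 9613056) (BT.leaf (nat_lit 27743497)) (BT.leaf (nat_lit 27743501)))) (BT.node (nat_lit 9613248) (BT.node (nat_lit 9613184) (BT.leaf (nat_lit 27730709)) (BT.leaf (nat_lit 27743513))) (BT.node (nat_lit 9613312) (BT.leaf (nat_lit 27743517)) (BT.leaf (nat_lit 27743521))))) (BT.node (nat_lit 9613632) (BT.node (nat_lit 9613504) (BT.node (nat_lit 9613440) (BT.leaf (nat_lit 41067285)) (BT.leaf (nat_lit 28193285))) (BT.node (nat_lit 9613568) (BT.leaf (nat_lit 27731217)) (BT.leaf (nat_lit 32534805)))) (BT.node (nat_lit 9613760) (BT.node (nat_lit 9613696) (BT.leaf (nat_lit 27733773)) (BT.leaf (nat_lit 28020749))) (BT.node (nat_lit 9613824) (BT.leaf (nat_lit 31403029)) (BT.leaf (nat_lit 31400465)))))))) (BT.node (nat_lit 9615552) (BT.node (nat_lit 9614664) (BT.node (nat_lit 9614400) (BT.node (nat_lit 9614144) (BT.node (nat_lit 9614016) (BT.node (nat_lit 9613952) (BT.leaf (nat_lit 32761365)) (BT.leaf (nat_lit 27733769))) (BT.node (nat_lit 9614080) (BT.leaf (nat_lit 30031649)) (BT.leaf (nat_lit 44747789)))) (BT.node (nat_lit 9614272) (BT.node (nat_lit 9614208) (BT.leaf (nat_lit 27734545)) (BT.leaf (nat_lit 28185873))) (BT.node (nat_lit 9614336) (BT.leaf (nat_lit 28599317)) (BT.leaf (nat_lit 32349701))))) (BT.node (nat_lit 9614656) (BT.node (nat_lit 9614528) (BT.node (nat_lit 9614464) (BT.leaf (nat_lit 27734033)) (BT.leaf (nat_lit 40469513))) (BT.node (nat_lit 9614592) (BT.leaf (nat_lit 46977037)) (BT.leaf (nat_lit 30492949)))) (BT.node (nat_lit 9614659) (BT.node (nat_lit 9614658) (BT.leaf (nat_lit 39712005)) (BT.leaf (nat_lit 689036))) (BT.node (nat_lit 9614660) (BT.leaf (nat_lit 689036)) (BT.leaf (nat_lit 689036)))))) (BT.node (nat_lit 9615168) (BT.node (nat_lit 9614912) (BT.node (nat_lit 9614784) (BT.node (nat_lit 9614720) (BT.leaf (nat_lit 689036)) (BT.leaf (nat_lit 28191765))) (BT.node (nat_lit 9614848) (BT.leaf (nat_lit 27734793)) (BT.leaf (nat_lit 27735053)))) (BT.node (nat_lit 9615040) (BT.node (nat_lit 9614976) (BT.leaf (nat_lit 27728909)) (BT.leaf (nat_lit 34524957))) (BT.node (nat_lit 9615104) (BT.leaf (nat_lit 27735305)) (BT.leaf (nat_lit 27734797))))) (BT.node (nat_lit 9615296) (BT.node (nat_lit 9615236) (BT.node (nat_lit 9615232) (BT.leaf (nat_lit 27735049)) (BT.leaf (nat_lit 29036317))) (BT.node (nat_lit 9615240) (BT.leaf (nat_lit 684252)) (BT.leaf (nat_lit 684252)))) (BT.node (nat_lit 9615424) (BT.node (nat_lit 9615360) (BT.leaf (nat_lit 27735309)) (BT.leaf (nat_lit 45355797))) (BT.node (nat_lit 9615488) (BT.leaf (nat_lit 49793561)) (BT.leaf (nat_lit 52050437))))))) (BT.node (nat_lit 9616448) (BT.node (nat_lit 9615936) (BT.node (nat_lit 9615680) (BT.node (nat_lit 9615617) (BT.node (nat_lit 9615616) (BT.leaf (nat_lit 38451209)) (BT.leaf (nat_lit 27735321))) (BT.node (nat_lit 9615620) (BT.leaf (nat_lit 794356)) (BT.leaf (nat_lit 794356)))) (BT.node (nat_lit 9615808) (BT.node (nat_lit 9615744) (BT.leaf (nat_lit 41200929)) (BT.leaf (nat_lit 38451229))) (BT.node (nat_lit 9615872) (BT.leaf (nat_lit 28688673)) (BT.leaf (nat_lit 33027337))))) (BT.node (nat_lit 9616192) (BT.node (nat_lit 9616064) (BT.node (nat_lit 9616000) (BT.leaf (nat_lit 33027341)) (BT.leaf (nat_lit 33027345))) (BT.node (nat_lit 9616128) (BT.leaf (nat_lit 27728905)) (BT.leaf (nat_lit 33027361)))) (BT.node (nat_lit 9616320) (BT.node (nat_lit 9616256) (BT.leaf (nat_lit 31880213)) (BT.leaf (nat_lit 27737365))) (BT.node (nat_lit 9616384) (BT.leaf (nat_lit 38465549)) (BT.leaf (nat_lit 52306965)))))) (BT.node (nat_lit 9616960) (BT.node (nat_lit 9616704) (BT.node (nat_lit 9616576) (BT.node (nat_lit 9616512) (BT.leaf (nat_lit 33174037)) (BT.leaf (nat_lit 28841497))) (BT.node (nat_lit 9616640) (BT.leaf (nat_lit 31467805)) (BT.leaf (nat_lit 51188997)))) (BT.node (nat_lit 9616832) (BT.node (nat_lit 9616768) (BT.leaf (nat_lit 35479581)) (BT.leaf (nat_lit 51808005))) (BT.node (nat_lit 9616896) (BT.leaf (nat_lit 52307209)) (BT.leaf (nat_lit 49977885))))) (BT.node (nat_lit 9617152) (BT.node (nat_lit 9617088) (BT.node (nat_lit 9617024) (BT.leaf (nat_lit 27738137)) (BT.leaf (nat_lit 27738389))) (BT.node (nat_lit 9617094) (BT.leaf (nat_lit 40020997)) (BT.leaf (nat_lit 637104)))) (BT.node (nat_lit 9617280) (BT.node (nat_lit 9617216) (BT.leaf (nat_lit 52307477)) (BT.leaf (nat_lit 33175317))) (BT.node (nat_lit 9617344) (BT.leaf (nat_lit 28413721)) (BT.leaf (nat_lit 28413725))))))))))) (BT.node (nat_lit 9632320) (BT.node (nat_lit 9625216) (BT.node (nat_lit 9621248) (BT.node (nat_lit 9619392) (BT.node (nat_lit 9618432) (BT.node (nat_lit 9617920) (BT.node (nat_lit 9617664) (BT.node (nat_lit 9617536) (BT.node (nat_lit 9617472) (BT.leaf (nat_lit 37080093)) (BT.leaf (nat_lit 27738653))) (BT.node (nat_lit 9617600) (BT.leaf (nat_lit 33029141)) (BT.leaf (nat_lit 27739161)))) (BT.node (nat_lit 9617792) (BT.node (nat_lit 9617728) (BT.leaf (nat_lit 36573705)) (BT.leaf (nat_lit 27740425))) (BT.node (nat_lit 9617856) (BT.leaf (nat_lit 28601097)) (BT.leaf (nat_lit 29788937))))) (BT.node (nat_lit 9618176) (BT.node (nat_lit 9618048) (BT.node (nat_lit 9617984) (BT.leaf (nat_lit 39811873)) (BT.leaf (nat_lit 29463057))) (BT.node (nat_lit 9618112) (BT.leaf (nat_lit 52353045)) (BT.leaf (nat_lit 27739665)))) (BT.node (nat_lit 9618304) (BT.node (nat_lit 9618240) (BT.leaf (nat_lit 27739921)) (BT.leaf (nat_lit 38491917))) (BT.node (nat_lit 9618368) (BT.leaf (nat_lit 39208481)) (BT.leaf (nat_lit 32372761)))))) (BT.node (nat_lit 9618944) (BT.node (nat_lit 9618688) (BT.node (nat_lit 9618560) (BT.node (nat_lit 9618496) (BT.leaf (nat_lit 32372765)) (BT.leaf (nat_lit 39426821))) (BT.node (nat_lit 9618624) (BT.leaf (nat_lit 28431881)) (BT.leaf (nat_lit 28431885)))) (BT.node (nat_lit 9618816) (BT.node (nat_lit 9618752) (BT.leaf (nat_lit 27740949)) (BT.leaf (nat_lit 31574297))) (BT.node (nat_lit 9618880) (BT.leaf (nat_lit 38278405)) (BT.leaf (nat_lit 41847565))))) (BT.node (nat_lit 9619200) (BT.node (nat_lit 9619072) (BT.node (nat_lit 9619008) (BT.leaf (nat_lit 28406545)) (BT.leaf (nat_lit 28406549))) (BT.node (nat_lit 9619136) (BT.leaf (nat_lit 44319249)) (BT.leaf (nat_lit 38483221)))) (BT.node (nat_lit 9619264) (BT.node (nat_lit 9619205) (BT.leaf (nat_lit 40901661)) (BT.leaf (nat_lit 744824))) (BT.node (nat_lit 9619328) (BT.leaf (nat_lit 39426069)) (BT.leaf (nat_lit 39425825))))))) (BT.node (nat_lit 9620352) (BT.node (nat_lit 9619904) (BT.node (nat_lit 9619584) (BT.node (nat_lit 9619461) (BT.node (nat_lit 9619456) (BT.leaf (nat_lit 37406485)) (BT.leaf (nat_lit 43011089))) (BT.node (nat_lit 9619520) (BT.leaf (nat_lit 702056)) (BT.leaf (nat_lit 39748113)))) (BT.node (nat_lit 9619776) (BT.node (nat_lit 9619648) (BT.leaf (nat_lit 39361557)) (BT.leaf (nat_lit 44693277))) (BT.node (nat_lit 9619840) (BT.leaf (nat_lit 41576725)) (BT.leaf (nat_lit 27741201))))) (BT.node (nat_lit 9620096) (BT.node (nat_lit 9619976) (BT.node (nat_lit 9619968) (BT.leaf (nat_lit 44293141)) (BT.leaf (nat_lit 42222857))) (BT.node (nat_lit 9620032) (BT.leaf (nat_lit 698412)) (BT.leaf (nat_lit 38479897)))) (BT.node (nat_lit 9620224) (BT.node (nat_lit 9620160) (BT.leaf (nat_lit 40155657)) (BT.leaf (nat_lit 31824661))) (BT.node (nat_lit 9620288) (BT.leaf (nat_lit 27741969)) (BT.leaf (nat_lit 38481677)))))) (BT.node (nat_lit 9620672) (BT.node (nat_lit 9620480) (BT.node (nat_lit 9620359) (BT.node (nat_lit 9620353) (BT.leaf (nat_lit 39746837)) (BT.leaf (nat_lit 617376))) (BT.node (nat_lit 9620416) (BT.leaf (nat_lit 617376)) (BT.leaf (nat_lit 27730453)))) (BT.node (nat_lit 9620546) (BT.node (nat_lit 9620544) (BT.leaf (nat_lit 38453013)) (BT.leaf (nat_lit 42347013))) (BT.node (nat_lit 9620608) (BT.leaf (nat_lit 752936)) (BT.leaf (nat_lit 38453513))))) (BT.node (nat_lit 9620928) (BT.node (nat_lit 9620800) (BT.node (nat_lit 9620736) (BT.leaf (nat_lit 30648353)) (BT.leaf (nat_lit 30146309))) (BT.node (nat_lit 9620864) (BT.leaf (nat_lit 49978117)) (BT.leaf (nat_lit 27742241)))) (BT.node (nat_lit 9621056) (BT.node (nat_lit 9620992) (BT.leaf (nat_lit 29341201)) (BT.leaf (nat_lit 27811861))) (BT.node (nat_lit 9621120) (BT.leaf (nat_lit 35828497)) (BT.leaf (nat_lit 27742993)))))))) (BT.node (nat_lit 9623296) (BT.node (nat_lit 9622272) (BT.node (nat_lit 9621760) (BT.node (nat_lit 9621504) (BT.node (nat_lit 9621376) (BT.node (nat_lit 9621312) (BT.leaf (nat_lit 31548689)) (BT.leaf (nat_lit 44322069))) (BT.node (nat_lit 9621440) (BT.leaf (nat_lit 33907229)) (BT.leaf (nat_lit 38486541)))) (BT.node (nat_lit 9621632) (BT.node (nat_lit 9621568) (BT.leaf (nat_lit 28172577)) (BT.leaf (nat_lit 47668249))) (BT.node (nat_lit 9621696) (BT.leaf (nat_lit 27731477)) (BT.leaf (nat_lit 38486553))))) (BT.node (nat_lit 9622016) (BT.node (nat_lit 9621888) (BT.node (nat_lit 9621824) (BT.leaf (nat_lit 28186657)) (BT.leaf (nat_lit 39317525))) (BT.node (nat_lit 9621952) (BT.leaf (nat_lit 47668237)) (BT.leaf (nat_lit 31399709)))) (BT.node (nat_lit 9622144) (BT.node (nat_lit 9622080) (BT.leaf (nat_lit 37452305)) (BT.leaf (nat_lit 27744537))) (BT.node (nat_lit 9622208) (BT.leaf (nat_lit 28191009)) (BT.leaf (nat_lit 28906261)))))) (BT.node (nat_lit 9622784) (BT.node (nat_lit 9622528) (BT.node (nat_lit 9622400) (BT.node (nat_lit 9622336) (BT.leaf (nat_lit 27745553)) (BT.leaf (nat_lit 40006681))) (BT.node (nat_lit 9622464) (BT.leaf (nat_lit 40006685)) (BT.leaf (nat_lit 33033497)))) (BT.node (nat_lit 9622656) (BT.node (nat_lit 9622592) (BT.leaf (nat_lit 33033501)) (BT.leaf (nat_lit 44082457))) (BT.node (nat_lit 9622720) (BT.leaf (nat_lit 28621073)) (BT.leaf (nat_lit 46913565))))) (BT.node (nat_lit 9623040) (BT.node (nat_lit 9622912) (BT.node (nat_lit 9622848) (BT.leaf (nat_lit 39713309)) (BT.leaf (nat_lit 39728913))) (BT.node (nat_lit 9622976) (BT.leaf (nat_lit 46913561)) (BT.leaf (nat_lit 45763605)))) (BT.node (nat_lit 9623168) (BT.node (nat_lit 9623104) (BT.leaf (nat_lit 37218329)) (BT.leaf (nat_lit 52234265))) (BT.node (nat_lit 9623232) (BT.leaf (nat_lit 27889937)) (BT.leaf (nat_lit 32671265))))))) (BT.node (nat_lit 9624320) (BT.node (nat_lit 9623808) (BT.node (nat_lit 9623552) (BT.node (nat_lit 9623424) (BT.node (nat_lit 9623360) (BT.leaf (nat_lit 39056397)) (BT.leaf (nat_lit 31597065))) (BT.node (nat_lit 9623488) (BT.leaf (nat_lit 31597069)) (BT.leaf (nat_lit 27747861)))) (BT.node (nat_lit 9623680) (BT.node (nat_lit 9623616) (BT.leaf (nat_lit 51831057)) (BT.leaf (nat_lit 27748125))) (BT.node (nat_lit 9623744) (BT.leaf (nat_lit 37123869)) (BT.leaf (nat_lit 44712225))))) (BT.node (nat_lit 9624064) (BT.node (nat_lit 9623936) (BT.node (nat_lit 9623872) (BT.leaf (nat_lit 27748121)) (BT.leaf (nat_lit 43611909))) (BT.node (nat_lit 9624000) (BT.leaf (nat_lit 38703117)) (BT.leaf (nat_lit 32659481)))) (BT.node (nat_lit 9624192) (BT.node (nat_lit 9624128) (BT.leaf (nat_lit 32659485)) (BT.leaf (nat_lit 27748369))) (BT.node (nat_lit 9624256) (BT.leaf (nat_lit 38280453)) (BT.leaf (nat_lit 38513417)))))) (BT.node (nat_lit 9624768) (BT.node (nat_lit 9624512) (BT.node (nat_lit 9624448) (BT.node (nat_lit 9624384) (BT.leaf (nat_lit 31409441)) (BT.leaf (nat_lit 27749637))) (BT.node (nat_lit 9624453) (BT.leaf (nat_lit 46189345)) (BT.leaf (nat_lit 634480)))) (BT.node (nat_lit 9624640) (BT.node (nat_lit 9624576) (BT.leaf (nat_lit 46020885)) (BT.leaf (nat_lit 45613073))) (BT.node (nat_lit 9624704) (BT.leaf (nat_lit 38851077)) (BT.leaf (nat_lit 27762701))))) (BT.node (nat_lit 9624960) (BT.node (nat_lit 9624832) (BT.node (nat_lit 9624775) (BT.leaf (nat_lit 36078101)) (BT.leaf (nat_lit 764296))) (BT.node (nat_lit 9624896) (BT.leaf (nat_lit 33494557)) (BT.leaf (nat_lit 30604293)))) (BT.node (nat_lit 9625088) (BT.node (nat_lit 9625024) (BT.leaf (nat_lit 28073241)) (BT.leaf (nat_lit 28073245))) (BT.node (nat_lit 9625152) (BT.leaf (nat_lit 28263713)) (BT.leaf (nat_lit 29660437))))))))) (BT.node (nat_lit 9629120) (BT.node (nat_lit 9627072) (BT.node (nat_lit 9626112) (BT.node (nat_lit 9625600) (BT.node (nat_lit 9625408) (BT.node (nat_lit 9625344) (BT.node (nat_lit 9625280) (BT.leaf (nat_lit 27754001)) (BT.leaf (nat_lit 38727189))) (BT.node (nat_lit 9625348) (BT.leaf (nat_lit 47803929)) (BT.leaf (nat_lit 714800)))) (BT.node (nat_lit 9625472) (BT.node (nat_lit 9625413) (BT.leaf (nat_lit 38849029)) (BT.leaf (nat_lit 770668))) (BT.node (nat_lit 9625536) (BT.leaf (nat_lit 41784085)) (BT.leaf (nat_lit 38604301))))) (BT.node (nat_lit 9625856) (BT.node (nat_lit 9625728) (BT.node (nat_lit 9625664) (BT.leaf (nat_lit 42393885)) (BT.leaf (nat_lit 34690325))) (BT.node (nat_lit 9625792) (BT.leaf (nat_lit 34690329)) (BT.leaf (nat_lit 34690333)))) (BT.node (nat_lit 9625984) (BT.node (nat_lit 9625920) (BT.leaf (nat_lit 27755793)) (BT.leaf (nat_lit 29552405))) (BT.node (nat_lit 9626048) (BT.leaf (nat_lit 50215685)) (BT.leaf (nat_lit 29503265)))))) (BT.node (nat_lit 9626560) (BT.node (nat_lit 9626304) (BT.node (nat_lit 9626180) (BT.node (nat_lit 9626176) (BT.leaf (nat_lit 49122309)) (BT.leaf (nat_lit 49122565))) (BT.node (nat_lit 9626240) (BT.leaf (nat_lit 615452)) (BT.leaf (nat_lit 45967137)))) (BT.node (nat_lit 9626432) (BT.node (nat_lit 9626368) (BT.leaf (nat_lit 42396697)) (BT.leaf (nat_lit 30683141))) (BT.node (nat_lit 9626496) (BT.leaf (nat_lit 42392849)) (BT.leaf (nat_lit 31227153))))) (BT.node (nat_lit 9626816) (BT.node (nat_lit 9626688) (BT.node (nat_lit 9626624) (BT.leaf (nat_lit 43320097)) (BT.leaf (nat_lit 46031905))) (BT.node (nat_lit 9626752) (BT.leaf (nat_lit 30741261)) (BT.leaf (nat_lit 48586273)))) (BT.node (nat_lit 9626944) (BT.node (nat_lit 9626880) (BT.leaf (nat_lit 48586017)) (BT.leaf (nat_lit 27756049))) (BT.node (nat_lit 9627008) (BT.leaf (nat_lit 29661461)) (BT.leaf (nat_lit 44099105))))))) (BT.node (nat_lit 9628096) (BT.node (nat_lit 9627584) (BT.node (nat_lit 9627328) (BT.node (nat_lit 9627200) (BT.node (nat_lit 9627136) (BT.leaf (nat_lit 31923973)) (BT.leaf (nat_lit 40828449))) (BT.node (nat_lit 9627264) (BT.leaf (nat_lit 28563477)) (BT.leaf (nat_lit 28563481)))) (BT.node (nat_lit 9627456) (BT.node (nat_lit 9627392) (BT.leaf (nat_lit 28563485)) (BT.leaf (nat_lit 44099081))) (BT.node (nat_lit 9627520) (BT.leaf (nat_lit 44043809)) (BT.leaf (nat_lit 49448457))))) (BT.node (nat_lit 9627840) (BT.node (nat_lit 9627712) (BT.node (nat_lit 9627648) (BT.leaf (nat_lit 29153813)) (BT.leaf (nat_lit 30595873))) (BT.node (nat_lit 9627776) (BT.leaf (nat_lit 44081185)) (BT.leaf (nat_lit 48128533)))) (BT.node (nat_lit 9627968) (BT.node (nat_lit 9627904) (BT.leaf (nat_lit 48914969)) (BT.leaf (nat_lit 40494113))) (BT.node (nat_lit 9628032) (BT.leaf (nat_lit 48049433)) (BT.leaf (nat_lit 29936913)))))) (BT.node (nat_lit 9628608) (BT.node (nat_lit 9628352) (BT.node (nat_lit 9628224) (BT.node (nat_lit 9628160) (BT.leaf (nat_lit 30444573)) (BT.leaf (nat_lit 27757593))) (BT.node (nat_lit 9628288) (BT.leaf (nat_lit 39344653)) (BT.leaf (nat_lit 41451781)))) (BT.node (nat_lit 9628480) (BT.node (nat_lit 9628416) (BT.leaf (nat_lit 50553877)) (BT.leaf (nat_lit 41452045))) (BT.node (nat_lit 9628544) (BT.leaf (nat_lit 41458445)) (BT.leaf (nat_lit 38279953))))) (BT.node (nat_lit 9628864) (BT.node (nat_lit 9628736) (BT.node (nat_lit 9628672) (BT.leaf (nat_lit 45413913)) (BT.leaf (nat_lit 38487301))) (BT.node (nat_lit 9628800) (BT.leaf (nat_lit 38514713)) (BT.leaf (nat_lit 31547665)))) (BT.node (nat_lit 9628992) (BT.node (nat_lit 9628928) (BT.leaf (nat_lit 31547669)) (BT.leaf (nat_lit 34508577))) (BT.node (nat_lit 9629056) (BT.leaf (nat_lit 33789961)) (BT.leaf (nat_lit 45969697)))))))) (BT.node (nat_lit 9630656) (BT.node (nat_lit 9629703) (BT.node (nat_lit 9629443) (BT.node (nat_lit 9629313) (BT.node (nat_lit 9629248) (BT.node (nat_lit 9629184) (BT.leaf (nat_lit 39802145)) (BT.leaf (nat_lit 44521741))) (BT.node (nat_lit 9629312) (BT.leaf (nat_lit 41384197)) (BT.leaf (nat_lit 41569057)))) (BT.node (nat_lit 9629376) (BT.node (nat_lit 9629316) (BT.leaf (nat_lit 680696)) (BT.leaf (nat_lit 680696))) (BT.node (nat_lit 9629440) (BT.leaf (nat_lit 43997701)) (BT.leaf (nat_lit 43998241))))) (BT.node (nat_lit 9629632) (BT.node (nat_lit 9629504) (BT.node (nat_lit 9629445) (BT.leaf (nat_lit 692540)) (BT.leaf (nat_lit 692540))) (BT.node (nat_lit 9629568) (BT.leaf (nat_lit 43604997)) (BT.leaf (nat_lit 32648737)))) (BT.node (nat_lit 9629701) (BT.node (nat_lit 9629696) (BT.leaf (nat_lit 31355909)) (BT.leaf (nat_lit 31461393))) (BT.node (nat_lit 9629702) (BT.leaf (nat_lit 748176)) (BT.leaf (nat_lit 748176)))))) (BT.node (nat_lit 9630144) (BT.node (nat_lit 9629952) (BT.node (nat_lit 9629824) (BT.node (nat_lit 9629760) (BT.leaf (nat_lit 748176)) (BT.leaf (nat_lit 28538385))) (BT.node (nat_lit 9629888) (BT.leaf (nat_lit 46568453)) (BT.leaf (nat_lit 29356565)))) (BT.node (nat_lit 9630016) (BT.node (nat_lit 9629956) (BT.leaf (nat_lit 48064533)) (BT.leaf (nat_lit 625860))) (BT.node (nat_lit 9630080) (BT.leaf (nat_lit 32634649)) (BT.leaf (nat_lit 27766545))))) (BT.node (nat_lit 9630400) (BT.node (nat_lit 9630272) (BT.node (nat_lit 9630208) (BT.leaf (nat_lit 27765521)) (BT.leaf (nat_lit 39659533))) (BT.node (nat_lit 9630336) (BT.leaf (nat_lit 27765265)) (BT.leaf (nat_lit 27766789)))) (BT.node (nat_lit 9630528) (BT.node (nat_lit 9630464) (BT.leaf (nat_lit 44560905)) (BT.leaf (nat_lit 31406601))) (BT.node (nat_lit 9630592) (BT.leaf (nat_lit 47323653)) (BT.leaf (nat_lit 46043157))))))) (BT.node (nat_lit 9631488) (BT.node (nat_lit 9631040) (BT.node (nat_lit 9630912) (BT.node (nat_lit 9630784) (BT.node (nat_lit 9630720) (BT.leaf (nat_lit 38981913)) (BT.leaf (nat_lit 38334473))) (BT.node (nat_lit 9630848) (BT.leaf (nat_lit 28960025)) (BT.leaf (nat_lit 28960029)))) (BT.node (nat_lit 9630917) (BT.node (nat_lit 9630913) (BT.leaf (nat_lit 46424605)) (BT.leaf (nat_lit 628040))) (BT.node (nat_lit 9630976) (BT.leaf (nat_lit 628040)) (BT.leaf (nat_lit 46424589))))) (BT.node (nat_lit 9631232) (BT.node (nat_lit 9631168) (BT.node (nat_lit 9631104) (BT.leaf (nat_lit 44486409)) (BT.leaf (nat_lit 32428037))) (BT.node (nat_lit 9631173) (BT.leaf (nat_lit 40614169)) (BT.leaf (nat_lit 771556)))) (BT.node (nat_lit 9631360) (BT.node (nat_lit 9631296) (BT.leaf (nat_lit 50891281)) (BT.leaf (nat_lit 49379861))) (BT.node (nat_lit 9631424) (BT.leaf (nat_lit 37953825)) (BT.leaf (nat_lit 32672261)))))) (BT.node (nat_lit 9631944) (BT.node (nat_lit 9631744) (BT.node (nat_lit 9631616) (BT.node (nat_lit 9631552) (BT.leaf (nat_lit 28844057)) (BT.leaf (nat_lit 28844061))) (BT.node (nat_lit 9631680) (BT.leaf (nat_lit 28620313)) (BT.leaf (nat_lit 28620317)))) (BT.node (nat_lit 9631872) (BT.node (nat_lit 9631808) (BT.leaf (nat_lit 41164825)) (BT.leaf (nat_lit 39305477))) (BT.node (nat_lit 9631936) (BT.leaf (nat_lit 43009057)) (BT.leaf (nat_lit 44014345))))) (BT.node (nat_lit 9632064) (BT.node (nat_lit 9632002) (BT.node (nat_lit 9632000) (BT.leaf (nat_lit 805976)) (BT.leaf (nat_lit 51222305))) (BT.node (nat_lit 9632006) (BT.leaf (nat_lit 773612)) (BT.leaf (nat_lit 773612)))) (BT.node (nat_lit 9632192) (BT.node (nat_lit 9632128) (BT.leaf (nat_lit 49522693)) (BT.leaf (nat_lit 46567941))) (BT.node (nat_lit 9632256) (BT.leaf (nat_lit 32078609)) (BT.leaf (nat_lit 30086665)))))))))) (BT.node (nat_lit 9640128) (BT.node (nat_lit 9636288) (BT.node (nat_lit 9634304) (BT.node (nat_lit 9633280) (BT.node (nat_lit 9632832) (BT.node (nat_lit 9632576) (BT.node (nat_lit 9632448) (BT.node (nat_lit 9632384) (BT.leaf (nat_lit 51450629)) (BT.leaf (nat_lit 51623689))) (BT.node (nat_lit 9632512) (BT.leaf (nat_lit 49728285)) (BT.leaf (nat_lit 41534469)))) (BT.node (nat_lit 9632704) (BT.node (nat_lit 9632640) (BT.leaf (nat_lit 30315041)) (BT.leaf (nat_lit 29666057))) (BT.node (nat_lit 9632768) (BT.leaf (nat_lit 28267553)) (BT.leaf (nat_lit 38899985))))) (BT.node (nat_lit 9633024) (BT.node (nat_lit 9632900) (BT.node (nat_lit 9632896) (BT.leaf (nat_lit 28280337)) (BT.leaf (nat_lit 51526937))) (BT.node (nat_lit 9632960) (BT.leaf (nat_lit 731852)) (BT.leaf (nat_lit 37542161)))) (BT.node (nat_lit 9633152) (BT.node (nat_lit 9633088) (BT.leaf (nat_lit 34413853)) (BT.leaf (nat_lit 48127237))) (BT.node (nat_lit 9633216) (BT.leaf (nat_lit 50425365)) (BT.leaf (nat_lit 48127257)))))) (BT.node (nat_lit 9633792) (BT.node (nat_lit 9633536) (BT.node (nat_lit 9633408) (BT.node (nat_lit 9633344) (BT.leaf (nat_lit 48127261)) (BT.leaf (nat_lit 27771153))) (BT.node (nat_lit 9633472) (BT.leaf (nat_lit 30178585)) (BT.leaf (nat_lit 30178589)))) (BT.node (nat_lit 9633664) (BT.node (nat_lit 9633600) (BT.leaf (nat_lit 38567181)) (BT.leaf (nat_lit 46216209))) (BT.node (nat_lit 9633728) (BT.leaf (nat_lit 28422149)) (BT.leaf (nat_lit 30856969))))) (BT.node (nat_lit 9634048) (BT.node (nat_lit 9633920) (BT.node (nat_lit 9633856) (BT.leaf (nat_lit 30201869)) (BT.leaf (nat_lit 40262921))) (BT.node (nat_lit 9633984) (BT.leaf (nat_lit 28964881)) (BT.leaf (nat_lit 45408773)))) (BT.node (nat_lit 9634176) (BT.node (nat_lit 9634112) (BT.leaf (nat_lit 42013729)) (BT.leaf (nat_lit 45617157))) (BT.node (nat_lit 9634240) (BT.leaf (nat_lit 47726597)) (BT.leaf (nat_lit 29950985))))))) (BT.node (nat_lit 9635264) (BT.node (nat_lit 9634752) (BT.node (nat_lit 9634504) (BT.node (nat_lit 9634432) (BT.node (nat_lit 9634368) (BT.leaf (nat_lit 27799833)) (BT.leaf (nat_lit 45508373))) (BT.node (nat_lit 9634496) (BT.leaf (nat_lit 39671825)) (BT.leaf (nat_lit 38538269)))) (BT.node (nat_lit 9634624) (BT.node (nat_lit 9634560) (BT.leaf (nat_lit 682056)) (BT.leaf (nat_lit 32244757))) (BT.node (nat_lit 9634688) (BT.leaf (nat_lit 28748577)) (BT.leaf (nat_lit 39072801))))) (BT.node (nat_lit 9635008) (BT.node (nat_lit 9634880) (BT.node (nat_lit 9634816) (BT.leaf (nat_lit 39058197)) (BT.leaf (nat_lit 39092237))) (BT.node (nat_lit 9634944) (BT.leaf (nat_lit 42294021)) (BT.leaf (nat_lit 42294041)))) (BT.node (nat_lit 9635136) (BT.node (nat_lit 9635072) (BT.leaf (nat_lit 30841105)) (BT.leaf (nat_lit 29958665))) (BT.node (nat_lit 9635200) (BT.leaf (nat_lit 30841369)) (BT.leaf (nat_lit 30236437)))))) (BT.node (nat_lit 9635776) (BT.node (nat_lit 9635520) (BT.node (nat_lit 9635392) (BT.node (nat_lit 9635328) (BT.leaf (nat_lit 31272725)) (BT.leaf (nat_lit 29403653))) (BT.node (nat_lit 9635456) (BT.leaf (nat_lit 35026457)) (BT.leaf (nat_lit 28404245)))) (BT.node (nat_lit 9635648) (BT.node (nat_lit 9635584) (BT.leaf (nat_lit 47147781)) (BT.leaf (nat_lit 28404253))) (BT.node (nat_lit 9635712) (BT.leaf (nat_lit 38545157)) (BT.leaf (nat_lit 47831825))))) (BT.node (nat_lit 9636032) (BT.node (nat_lit 9635904) (BT.node (nat_lit 9635840) (BT.leaf (nat_lit 30947361)) (BT.leaf (nat_lit 34457877))) (BT.node (nat_lit 9635968) (BT.leaf (nat_lit 33025825)) (BT.leaf (nat_lit 47237141)))) (BT.node (nat_lit 9636160) (BT.node (nat_lit 9636096) (BT.leaf (nat_lit 29693965)) (BT.leaf (nat_lit 29247265))) (BT.node (nat_lit 9636224) (BT.leaf (nat_lit 36272673)) (BT.leaf (nat_lit 32725253)))))))) (BT.node (nat_lit 9638272) (BT.node (nat_lit 9637312) (BT.node (nat_lit 9636800) (BT.node (nat_lit 9636544) (BT.node (nat_lit 9636416) (BT.node (nat_lit 9636352) (BT.leaf (nat_lit 31892769)) (BT.leaf (nat_lit 31892761))) (BT.node (nat_lit 9636480) (BT.leaf (nat_lit 31892765)) (BT.leaf (nat_lit 39375621)))) (BT.node (nat_lit 9636672) (BT.node (nat_lit 9636608) (BT.leaf (nat_lit 46576137)) (BT.leaf (nat_lit 31822353))) (BT.node (nat_lit 9636736) (BT.leaf (nat_lit 34456605)) (BT.leaf (nat_lit 33052181))))) (BT.node (nat_lit 9637056) (BT.node (nat_lit 9636928) (BT.node (nat_lit 9636864) (BT.leaf (nat_lit 46708501)) (BT.leaf (nat_lit 27775505))) (BT.node (nat_lit 9636992) (BT.leaf (nat_lit 30219541)) (BT.leaf (nat_lit 27779089)))) (BT.node (nat_lit 9637184) (BT.node (nat_lit 9637120) (BT.leaf (nat_lit 27778833)) (BT.leaf (nat_lit 41085217))) (BT.node (nat_lit 9637248) (BT.leaf (nat_lit 28614421)) (BT.leaf (nat_lit 46602505)))))) (BT.node (nat_lit 9637760) (BT.node (nat_lit 9637504) (BT.node (nat_lit 9637376) (BT.node (nat_lit 9637317) (BT.leaf (nat_lit 49793797)) (BT.leaf (nat_lit 813104))) (BT.node (nat_lit 9637440) (BT.leaf (nat_lit 27776273)) (BT.leaf (nat_lit 38913057)))) (BT.node (nat_lit 9637632) (BT.node (nat_lit 9637568) (BT.leaf (nat_lit 48507681)) (BT.leaf (nat_lit 38917125))) (BT.node (nat_lit 9637696) (BT.leaf (nat_lit 29247253)) (BT.leaf (nat_lit 29247257))))) (BT.node (nat_lit 9638016) (BT.node (nat_lit 9637888) (BT.node (nat_lit 9637824) (BT.leaf (nat_lit 29247261)) (BT.leaf (nat_lit 27900705))) (BT.node (nat_lit 9637952) (BT.leaf (nat_lit 38585121)) (BT.leaf (nat_lit 27900697)))) (BT.node (nat_lit 9638144) (BT.node (nat_lit 9638080) (BT.leaf (nat_lit 27900701)) (BT.leaf (nat_lit 50426901))) (BT.node (nat_lit 9638208) (BT.leaf (nat_lit 27781401)) (BT.leaf (nat_lit 46031381))))))) (BT.node (nat_lit 9639104) (BT.node (nat_lit 9638599) (BT.node (nat_lit 9638472) (BT.node (nat_lit 9638400) (BT.node (nat_lit 9638336) (BT.leaf (nat_lit 38650633)) (BT.leaf (nat_lit 47722505))) (BT.node (nat_lit 9638464) (BT.leaf (nat_lit 27781141)) (BT.leaf (nat_lit 51725849)))) (BT.node (nat_lit 9638592) (BT.node (nat_lit 9638528) (BT.leaf (nat_lit 754612)) (BT.leaf (nat_lit 38653717))) (BT.node (nat_lit 9638596) (BT.leaf (nat_lit 35305249)) (BT.leaf (nat_lit 714740))))) (BT.node (nat_lit 9638848) (BT.node (nat_lit 9638720) (BT.node (nat_lit 9638656) (BT.leaf (nat_lit 714740)) (BT.leaf (nat_lit 43175957))) (BT.node (nat_lit 9638784) (BT.leaf (nat_lit 28424453)) (BT.leaf (nat_lit 47827217)))) (BT.node (nat_lit 9638976) (BT.node (nat_lit 9638912) (BT.leaf (nat_lit 35617305)) (BT.leaf (nat_lit 27792417))) (BT.node (nat_lit 9639040) (BT.leaf (nat_lit 31043333)) (BT.leaf (nat_lit 43446805)))))) (BT.node (nat_lit 9639616) (BT.node (nat_lit 9639360) (BT.node (nat_lit 9639232) (BT.node (nat_lit 9639168) (BT.leaf (nat_lit 29267973)) (BT.leaf (nat_lit 31289621))) (BT.node (nat_lit 9639296) (BT.leaf (nat_lit 31289629)) (BT.leaf (nat_lit 27784461)))) (BT.node (nat_lit 9639488) (BT.node (nat_lit 9639424) (BT.leaf (nat_lit 31969801)) (BT.leaf (nat_lit 29945613))) (BT.node (nat_lit 9639552) (BT.leaf (nat_lit 31718433)) (BT.leaf (nat_lit 31969817))))) (BT.node (nat_lit 9639872) (BT.node (nat_lit 9639744) (BT.node (nat_lit 9639680) (BT.leaf (nat_lit 28127493)) (BT.leaf (nat_lit 39667489))) (BT.node (nat_lit 9639808) (BT.leaf (nat_lit 38583301)) (BT.leaf (nat_lit 41324829)))) (BT.node (nat_lit 9640000) (BT.node (nat_lit 9639936) (BT.leaf (nat_lit 44855573)) (BT.leaf (nat_lit 42580485))) (BT.node (nat_lit 9640064) (BT.leaf (nat_lit 48656901)) (BT.leaf (nat_lit 40946709))))))))) (BT.node (nat_lit 9643904) (BT.node (nat_lit 9642054) (BT.node (nat_lit 9641152) (BT.node (nat_lit 9640640) (BT.node (nat_lit 9640384) (BT.node (nat_lit 9640256) (BT.node (nat_lit 9640192) (BT.leaf (nat_lit 41692437)) (BT.leaf (nat_lit 44419341))) (BT.node (nat_lit 9640320) (BT.leaf (nat_lit 33495573)) (BT.leaf (nat_lit 27800609)))) (BT.node (nat_lit 9640512) (BT.node (nat_lit 9640448) (BT.leaf (nat_lit 48126481)) (BT.leaf (nat_lit 28594457))) (BT.node (nat_lit 9640576) (BT.leaf (nat_lit 28281889)) (BT.leaf (nat_lit 39777553))))) (BT.node (nat_lit 9640896) (BT.node (nat_lit 9640768) (BT.node (nat_lit 9640709) (BT.leaf (nat_lit 39777041)) (BT.leaf (nat_lit 716388))) (BT.node (nat_lit 9640832) (BT.leaf (nat_lit 33187601)) (BT.leaf (nat_lit 28284961)))) (BT.node (nat_lit 9641024) (BT.node (nat_lit 9640960) (BT.leaf (nat_lit 31265057)) (BT.leaf (nat_lit 27787281))) (BT.node (nat_lit 9641088) (BT.leaf (nat_lit 31265569)) (BT.leaf (nat_lit 31265313)))))) (BT.node (nat_lit 9641600) (BT.node (nat_lit 9641408) (BT.node (nat_lit 9641280) (BT.node (nat_lit 9641216) (BT.leaf (nat_lit 48458501)) (BT.leaf (nat_lit 44309509))) (BT.node (nat_lit 9641344) (BT.leaf (nat_lit 34015761)) (BT.leaf (nat_lit 39533085)))) (BT.node (nat_lit 9641472) (BT.node (nat_lit 9641413) (BT.leaf (nat_lit 30148641)) (BT.leaf (nat_lit 700512))) (BT.node (nat_lit 9641536) (BT.leaf (nat_lit 29955849)) (BT.leaf (nat_lit 38578721))))) (BT.node (nat_lit 9641856) (BT.node (nat_lit 9641728) (BT.node (nat_lit 9641664) (BT.leaf (nat_lit 45906949)) (BT.leaf (nat_lit 38043673))) (BT.node (nat_lit 9641792) (BT.leaf (nat_lit 38043677)) (BT.leaf (nat_lit 48647445)))) (BT.node (nat_lit 9641984) (BT.node (nat_lit 9641920) (BT.leaf (nat_lit 28966929)) (BT.leaf (nat_lit 49813517))) (BT.node (nat_lit 9642048) (BT.leaf (nat_lit 41290505)) (BT.leaf (nat_lit 38034189))))))) (BT.node (nat_lit 9643008) (BT.node (nat_lit 9642496) (BT.node (nat_lit 9642240) (BT.node (nat_lit 9642112) (BT.node (nat_lit 9642055) (BT.leaf (nat_lit 658428)) (BT.leaf (nat_lit 658428))) (BT.node (nat_lit 9642176) (BT.leaf (nat_lit 29970201)) (BT.leaf (nat_lit 29970205)))) (BT.node (nat_lit 9642368) (BT.node (nat_lit 9642304) (BT.leaf (nat_lit 28458249)) (BT.leaf (nat_lit 28458253))) (BT.node (nat_lit 9642432) (BT.leaf (nat_lit 27792405)) (BT.leaf (nat_lit 28458265))))) (BT.node (nat_lit 9642752) (BT.node (nat_lit 9642624) (BT.node (nat_lit 9642560) (BT.leaf (nat_lit 28458269)) (BT.leaf (nat_lit 28458273))) (BT.node (nat_lit 9642688) (BT.leaf (nat_lit 30038297)) (BT.leaf (nat_lit 30038301)))) (BT.node (nat_lit 9642880) (BT.node (nat_lit 9642816) (BT.leaf (nat_lit 28891397)) (BT.leaf (nat_lit 28658709))) (BT.node (nat_lit 9642944) (BT.leaf (nat_lit 28658713)) (BT.leaf (nat_lit 29311521)))))) (BT.node (nat_lit 9643392) (BT.node (nat_lit 9643264) (BT.node (nat_lit 9643136) (BT.node (nat_lit 9643072) (BT.leaf (nat_lit 44994837)) (BT.leaf (nat_lit 29312261))) (BT.node (nat_lit 9643200) (BT.leaf (nat_lit 31138313)) (BT.leaf (nat_lit 31138317)))) (BT.node (nat_lit 9643332) (BT.node (nat_lit 9643328) (BT.leaf (nat_lit 48581921)) (BT.leaf (nat_lit 33507609))) (BT.node (nat_lit 9643336) (BT.leaf (nat_lit 696812)) (BT.leaf (nat_lit 666984))))) (BT.node (nat_lit 9643648) (BT.node (nat_lit 9643520) (BT.node (nat_lit 9643456) (BT.leaf (nat_lit 42589717)) (BT.leaf (nat_lit 42352657))) (BT.node (nat_lit 9643584) (BT.leaf (nat_lit 32913425)) (BT.leaf (nat_lit 31139609)))) (BT.node (nat_lit 9643776) (BT.node (nat_lit 9643712) (BT.leaf (nat_lit 29315589)) (BT.leaf (nat_lit 48428037))) (BT.node (nat_lit 9643840) (BT.leaf (nat_lit 29666565)) (BT.leaf (nat_lit 28565789)))))))) (BT.node (nat_lit 9645888) (BT.node (nat_lit 9644928) (BT.node (nat_lit 9644416) (BT.node (nat_lit 9644160) (BT.node (nat_lit 9644032) (BT.node (nat_lit 9643968) (BT.leaf (nat_lit 30201865)) (BT.leaf (nat_lit 32002849))) (BT.node (nat_lit 9644096) (BT.leaf (nat_lit 32453661)) (BT.leaf (nat_lit 41040405)))) (BT.node (nat_lit 9644288) (BT.node (nat_lit 9644224) (BT.leaf (nat_lit 30201881)) (BT.leaf (nat_lit 30201885))) (BT.node (nat_lit 9644352) (BT.leaf (nat_lit 46577177)) (BT.leaf (nat_lit 50186529))))) (BT.node (nat_lit 9644672) (BT.node (nat_lit 9644544) (BT.node (nat_lit 9644480) (BT.leaf (nat_lit 46577165)) (BT.leaf (nat_lit 47392529))) (BT.node (nat_lit 9644608) (BT.leaf (nat_lit 28839193)) (BT.leaf (nat_lit 28839197)))) (BT.node (nat_lit 9644800) (BT.node (nat_lit 9644736) (BT.leaf (nat_lit 39359237)) (BT.leaf (nat_lit 38578713))) (BT.node (nat_lit 9644864) (BT.leaf (nat_lit 34060821)) (BT.leaf (nat_lit 34060825)))))) (BT.node (nat_lit 9645376) (BT.node (nat_lit 9645184) (BT.node (nat_lit 9645056) (BT.node (nat_lit 9644992) (BT.leaf (nat_lit 34060829)) (BT.leaf (nat_lit 32042505))) (BT.node (nat_lit 9645120) (BT.leaf (nat_lit 27797025)) (BT.leaf (nat_lit 27796997)))) (BT.node (nat_lit 9645251) (BT.node (nat_lit 9645248) (BT.leaf (nat_lit 33070353)) (BT.leaf (nat_lit 28427797))) (BT.node (nat_lit 9645312) (BT.leaf (nat_lit 733016)) (BT.leaf (nat_lit 29950733))))) (BT.node (nat_lit 9645632) (BT.node (nat_lit 9645504) (BT.node (nat_lit 9645440) (BT.leaf (nat_lit 48224789)) (BT.leaf (nat_lit 29950989))) (BT.node (nat_lit 9645568) (BT.leaf (nat_lit 32747525)) (BT.leaf (nat_lit 38536713)))) (BT.node (nat_lit 9645760) (BT.node (nat_lit 9645696) (BT.leaf (nat_lit 49227533)) (BT.leaf (nat_lit 50188053))) (BT.node (nat_lit 9645824) (BT.leaf (nat_lit 38287385)) (BT.leaf (nat_lit 38287389))))))) (BT.node (nat_lit 9646852) (BT.node (nat_lit 9646336) (BT.node (nat_lit 9646144) (BT.node (nat_lit 9646016) (BT.node (nat_lit 9645952) (BT.leaf (nat_lit 29894409)) (BT.leaf (nat_lit 45581061))) (BT.node (nat_lit 9646080) (BT.leaf (nat_lit 27799561)) (BT.leaf (nat_lit 39667481)))) (BT.node (nat_lit 9646272) (BT.node (nat_lit 9646208) (BT.leaf (nat_lit 39677201)) (BT.leaf (nat_lit 48743709))) (BT.node (nat_lit 9646280) (BT.leaf (nat_lit 40055565)) (BT.leaf (nat_lit 769780))))) (BT.node (nat_lit 9646656) (BT.node (nat_lit 9646464) (BT.node (nat_lit 9646400) (BT.leaf (nat_lit 42112537)) (BT.leaf (nat_lit 40894473))) (BT.node (nat_lit 9646528) (BT.leaf (nat_lit 46646793)) (BT.leaf (nat_lit 42112525)))) (BT.node (nat_lit 9646784) (BT.node (nat_lit 9646720) (BT.leaf (nat_lit 45501205)) (BT.leaf (nat_lit 29270797))) (BT.node (nat_lit 9646848) (BT.leaf (nat_lit 51073813)) (BT.leaf (nat_lit 37734405)))))) (BT.node (nat_lit 9647488) (BT.node (nat_lit 9647104) (BT.node (nat_lit 9646976) (BT.node (nat_lit 9646912) (BT.leaf (nat_lit 620008)) (BT.leaf (nat_lit 27915541))) (BT.node (nat_lit 9647040) (BT.leaf (nat_lit 40917269)) (BT.leaf (nat_lit 43933717)))) (BT.node (nat_lit 9647296) (BT.node (nat_lit 9647168) (BT.leaf (nat_lit 49038869)) (BT.leaf (nat_lit 39119393))) (BT.node (nat_lit 9647424) (BT.leaf (nat_lit 42112265)) (BT.leaf (nat_lit 32346133))))) (BT.node (nat_lit 9647744) (BT.node (nat_lit 9647616) (BT.node (nat_lit 9647552) (BT.leaf (nat_lit 50957837)) (BT.leaf (nat_lit 33494809))) (BT.node (nat_lit 9647680) (BT.leaf (nat_lit 36320021)) (BT.leaf (nat_lit 38593313)))) (BT.node (nat_lit 9647872) (BT.node (nat_lit 9647808) (BT.leaf (nat_lit 40302369)) (BT.leaf (nat_lit 32995361))) (BT.node (nat_lit 9647936) (BT.leaf (nat_lit 28085537)) (BT.leaf (nat_lit 29224221)))))))))))))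
noncomputable def big0_e77824 : BT Nat := (BT.node (nat_lit 9708352) (BT.node (nat_lit 9678336) (BT.node (nat_lit 9662976) (BT.node (nat_lit 9655232) (BT.node (nat_lit 9651328) (BT.node (nat_lit 9649728) (BT.node (nat_lit 9648832) (BT.node (nat_lit 9648384) (BT.node (nat_lit 9648128) (BT.node (nat_lit 9648000) (BT.node (nat_lit 9647944) (BT.leaf (nat_lit 610436)) (BT.leaf (nat_lit 610436))) (BT.node (nat_lit 9648064) (BT.leaf (nat_lit 29224205)) (BT.leaf (nat_lit 28085521)))) (BT.node (nat_lit 9648256) (BT.node (nat_lit 9648192) (BT.leaf (nat_lit 32995345)) (BT.leaf (nat_lit 45607181))) (BT.node (nat_lit 9648320) (BT.leaf (nat_lit 29435153)) (BT.leaf (nat_lit 28902941))))) (BT.node (nat_lit 9648584) (BT.node (nat_lit 9648512) (BT.node (nat_lit 9648448) (BT.leaf (nat_lit 28392721)) (BT.leaf (nat_lit 50957853))) (BT.node (nat_lit 9648576) (BT.leaf (nat_lit 27801105)) (BT.leaf (nat_lit 39395605)))) (BT.node (nat_lit 9648704) (BT.node (nat_lit 9648640) (BT.leaf (nat_lit 789168)) (BT.leaf (nat_lit 27800849))) (BT.node (nat_lit 9648768) (BT.leaf (nat_lit 48592401)) (BT.leaf (nat_lit 38541065)))))) (BT.node (nat_lit 9649216) (BT.node (nat_lit 9649024) (BT.node (nat_lit 9648960) (BT.node (nat_lit 9648896) (BT.leaf (nat_lit 29574917)) (BT.leaf (nat_lit 27802129))) (BT.node (nat_lit 9648965) (BT.leaf (nat_lit 40175629)) (BT.leaf (nat_lit 743996)))) (BT.node (nat_lit 9649093) (BT.node (nat_lit 9649088) (BT.leaf (nat_lit 50641181)) (BT.leaf (nat_lit 49674501))) (BT.node (nat_lit 9649152) (BT.leaf (nat_lit 743992)) (BT.leaf (nat_lit 38596377))))) (BT.node (nat_lit 9649472) (BT.node (nat_lit 9649344) (BT.node (nat_lit 9649280) (BT.leaf (nat_lit 28312089)) (BT.leaf (nat_lit 41691657))) (BT.node (nat_lit 9649408) (BT.leaf (nat_lit 38597661)) (BT.leaf (nat_lit 34501653)))) (BT.node (nat_lit 9649600) (BT.node (nat_lit 9649536) (BT.leaf (nat_lit 30980121)) (BT.leaf (nat_lit 41821445))) (BT.node (nat_lit 9649664) (BT.leaf (nat_lit 33192221)) (BT.leaf (nat_lit 42219025))))))) (BT.node (nat_lit 9650560) (BT.node (nat_lit 9650114) (BT.node (nat_lit 9649984) (BT.node (nat_lit 9649856) (BT.node (nat_lit 9649792) (BT.leaf (nat_lit 33192201)) (BT.leaf (nat_lit 29958157))) (BT.node (nat_lit 9649920) (BT.leaf (nat_lit 33191697)) (BT.leaf (nat_lit 43334917)))) (BT.node (nat_lit 9650112) (BT.node (nat_lit 9650048) (BT.leaf (nat_lit 37965845)) (BT.leaf (nat_lit 46586913))) (BT.node (nat_lit 9650113) (BT.leaf (nat_lit 39000353)) (BT.leaf (nat_lit 692156))))) (BT.node (nat_lit 9650304) (BT.node (nat_lit 9650176) (BT.node (nat_lit 9650115) (BT.leaf (nat_lit 692156)) (BT.leaf (nat_lit 692156))) (BT.node (nat_lit 9650240) (BT.leaf (nat_lit 30360097)) (BT.leaf (nat_lit 33971217)))) (BT.node (nat_lit 9650432) (BT.node (nat_lit 9650368) (BT.leaf (nat_lit 43289113)) (BT.leaf (nat_lit 28361477))) (BT.node (nat_lit 9650496) (BT.leaf (nat_lit 28147733)) (BT.leaf (nat_lit 30360081)))))) (BT.node (nat_lit 9650944) (BT.node (nat_lit 9650752) (BT.node (nat_lit 9650688) (BT.node (nat_lit 9650624) (BT.leaf (nat_lit 30360085)) (BT.leaf (nat_lit 39000337))) (BT.node (nat_lit 9650694) (BT.leaf (nat_lit 40177677)) (BT.leaf (nat_lit 655268)))) (BT.node (nat_lit 9650821) (BT.node (nat_lit 9650816) (BT.leaf (nat_lit 39928069)) (BT.leaf (nat_lit 39929357))) (BT.node (nat_lit 9650880) (BT.leaf (nat_lit 754724)) (BT.leaf (nat_lit 27805457))))) (BT.node (nat_lit 9651075) (BT.node (nat_lit 9651072) (BT.node (nat_lit 9651008) (BT.leaf (nat_lit 27804689)) (BT.leaf (nat_lit 27804433))) (BT.node (nat_lit 9651074) (BT.leaf (nat_lit 40212245)) (BT.leaf (nat_lit 607160)))) (BT.node (nat_lit 9651200) (BT.node (nat_lit 9651136) (BT.leaf (nat_lit 607160)) (BT.leaf (nat_lit 27962653))) (BT.node (nat_lit 9651264) (BT.leaf (nat_lit 43118613)) (BT.leaf (nat_lit 39107873)))))))) (BT.node (nat_lit 9653184) (BT.node (nat_lit 9652160) (BT.node (nat_lit 9651717) (BT.node (nat_lit 9651520) (BT.node (nat_lit 9651456) (BT.node (nat_lit 9651392) (BT.leaf (nat_lit 39108881)) (BT.leaf (nat_lit 30699285))) (BT.node (nat_lit 9651461) (BT.leaf (nat_lit 42120973)) (BT.leaf (nat_lit 717692)))) (BT.node (nat_lit 9651648) (BT.node (nat_lit 9651584) (BT.leaf (nat_lit 37708049)) (BT.leaf (nat_lit 43120149))) (BT.node (nat_lit 9651712) (BT.leaf (nat_lit 27806481)) (BT.leaf (nat_lit 47329805))))) (BT.node (nat_lit 9651904) (BT.node (nat_lit 9651779) (BT.node (nat_lit 9651776) (BT.leaf (nat_lit 737716)) (BT.leaf (nat_lit 40808969))) (BT.node (nat_lit 9651840) (BT.leaf (nat_lit 728924)) (BT.leaf (nat_lit 44542217)))) (BT.node (nat_lit 9652032) (BT.node (nat_lit 9651968) (BT.leaf (nat_lit 48702725)) (BT.leaf (nat_lit 36438797))) (BT.node (nat_lit 9652096) (BT.leaf (nat_lit 50642705)) (BT.leaf (nat_lit 38353161)))))) (BT.node (nat_lit 9652672) (BT.node (nat_lit 9652416) (BT.node (nat_lit 9652288) (BT.node (nat_lit 9652224) (BT.leaf (nat_lit 32748833)) (BT.leaf (nat_lit 28155913))) (BT.node (nat_lit 9652352) (BT.leaf (nat_lit 28155917)) (BT.leaf (nat_lit 49057569)))) (BT.node (nat_lit 9652544) (BT.node (nat_lit 9652480) (BT.leaf (nat_lit 32123169)) (BT.leaf (nat_lit 40343061))) (BT.node (nat_lit 9652608) (BT.leaf (nat_lit 27809809)) (BT.leaf (nat_lit 32595225))))) (BT.node (nat_lit 9652928) (BT.node (nat_lit 9652800) (BT.node (nat_lit 9652736) (BT.leaf (nat_lit 32595229)) (BT.leaf (nat_lit 32141829))) (BT.node (nat_lit 9652864) (BT.leaf (nat_lit 39124485)) (BT.leaf (nat_lit 46690849)))) (BT.node (nat_lit 9653056) (BT.node (nat_lit 9652992) (BT.leaf (nat_lit 27871001)) (BT.leaf (nat_lit 27871005))) (BT.node (nat_lit 9653120) (BT.leaf (nat_lit 28756489)) (BT.leaf (nat_lit 28756493))))))) (BT.node (nat_lit 9654208) (BT.node (nat_lit 9653696) (BT.node (nat_lit 9653440) (BT.node (nat_lit 9653312) (BT.node (nat_lit 9653248) (BT.leaf (nat_lit 28756505)) (BT.leaf (nat_lit 28756509))) (BT.node (nat_lit 9653376) (BT.leaf (nat_lit 38920981)) (BT.leaf (nat_lit 32586257)))) (BT.node (nat_lit 9653568) (BT.node (nat_lit 9653504) (BT.leaf (nat_lit 33196049)) (BT.leaf (nat_lit 28331033))) (BT.node (nat_lit 9653632) (BT.leaf (nat_lit 28331037)) (BT.leaf (nat_lit 38935301))))) (BT.node (nat_lit 9653952) (BT.node (nat_lit 9653824) (BT.node (nat_lit 9653760) (BT.leaf (nat_lit 41093153)) (BT.leaf (nat_lit 28667409))) (BT.node (nat_lit 9653888) (BT.leaf (nat_lit 27812881)) (BT.leaf (nat_lit 27776017)))) (BT.node (nat_lit 9654080) (BT.node (nat_lit 9654016) (BT.leaf (nat_lit 27812625)) (BT.leaf (nat_lit 27813393))) (BT.node (nat_lit 9654144) (BT.leaf (nat_lit 27813137)) (BT.leaf (nat_lit 28405781)))))) (BT.node (nat_lit 9654720) (BT.node (nat_lit 9654464) (BT.node (nat_lit 9654336) (BT.node (nat_lit 9654272) (BT.leaf (nat_lit 27813905)) (BT.leaf (nat_lit 27813649))) (BT.node (nat_lit 9654400) (BT.leaf (nat_lit 38849313)) (BT.leaf (nat_lit 32286213)))) (BT.node (nat_lit 9654592) (BT.node (nat_lit 9654528) (BT.leaf (nat_lit 27814161)) (BT.leaf (nat_lit 31270917))) (BT.node (nat_lit 9654656) (BT.leaf (nat_lit 51088405)) (BT.leaf (nat_lit 30717721))))) (BT.node (nat_lit 9654976) (BT.node (nat_lit 9654848) (BT.node (nat_lit 9654784) (BT.leaf (nat_lit 39155205)) (BT.leaf (nat_lit 30961697))) (BT.node (nat_lit 9654912) (BT.leaf (nat_lit 44861969)) (BT.leaf (nat_lit 38653189)))) (BT.node (nat_lit 9655104) (BT.node (nat_lit 9655040) (BT.leaf (nat_lit 42689797)) (BT.leaf (nat_lit 39159557))) (BT.node (nat_lit 9655168) (BT.leaf (nat_lit 28153633)) (BT.leaf (nat_lit 38343701))))))))) (BT.node (nat_lit 9659136) (BT.node (nat_lit 9657344) (BT.node (nat_lit 9656320) (BT.node (nat_lit 9655744) (BT.node (nat_lit 9655488) (BT.node (nat_lit 9655360) (BT.node (nat_lit 9655296) (BT.leaf (nat_lit 39308577)) (BT.leaf (nat_lit 38345505))) (BT.node (nat_lit 9655424) (BT.leaf (nat_lit 32101409)) (BT.leaf (nat_lit 27816721)))) (BT.node (nat_lit 9655616) (BT.node (nat_lit 9655552) (BT.leaf (nat_lit 27817233)) (BT.leaf (nat_lit 31138593))) (BT.node (nat_lit 9655680) (BT.leaf (nat_lit 27818265)) (BT.leaf (nat_lit 27818269))))) (BT.node (nat_lit 9656000) (BT.node (nat_lit 9655872) (BT.node (nat_lit 9655808) (BT.leaf (nat_lit 29690117)) (BT.leaf (nat_lit 27818769))) (BT.node (nat_lit 9655936) (BT.leaf (nat_lit 27818513)) (BT.leaf (nat_lit 39646241)))) (BT.node (nat_lit 9656128) (BT.node (nat_lit 9656064) (BT.leaf (nat_lit 27819033)) (BT.leaf (nat_lit 39627541))) (BT.node (nat_lit 9656192) (BT.leaf (nat_lit 29692933)) (BT.leaf (nat_lit 41661701)))))) (BT.node (nat_lit 9656832) (BT.node (nat_lit 9656576) (BT.node (nat_lit 9656448) (BT.node (nat_lit 9656384) (BT.leaf (nat_lit 48262917)) (BT.leaf (nat_lit 29805593))) (BT.node (nat_lit 9656512) (BT.leaf (nat_lit 29805597)) (BT.leaf (nat_lit 44211465)))) (BT.node (nat_lit 9656704) (BT.node (nat_lit 9656640) (BT.leaf (nat_lit 31326473)) (BT.leaf (nat_lit 31326477))) (BT.node (nat_lit 9656768) (BT.leaf (nat_lit 39139617)) (BT.leaf (nat_lit 31326489))))) (BT.node (nat_lit 9657088) (BT.node (nat_lit 9656960) (BT.node (nat_lit 9656896) (BT.leaf (nat_lit 31326493)) (BT.leaf (nat_lit 49969685))) (BT.node (nat_lit 9657024) (BT.leaf (nat_lit 39374853)) (BT.leaf (nat_lit 47463969)))) (BT.node (nat_lit 9657216) (BT.node (nat_lit 9657152) (BT.leaf (nat_lit 28074529)) (BT.leaf (nat_lit 28074525))) (BT.node (nat_lit 9657280) (BT.leaf (nat_lit 47436293)) (BT.leaf (nat_lit 49690141))))))) (BT.node (nat_lit 9658240) (BT.node (nat_lit 9657792) (BT.node (nat_lit 9657600) (BT.node (nat_lit 9657472) (BT.node (nat_lit 9657408) (BT.leaf (nat_lit 28145925)) (BT.leaf (nat_lit 49754649))) (BT.node (nat_lit 9657536) (BT.leaf (nat_lit 27824913)) (BT.leaf (nat_lit 27824657)))) (BT.node (nat_lit 9657664) (BT.node (nat_lit 9657601) (BT.leaf (nat_lit 43239189)) (BT.leaf (nat_lit 750508))) (BT.node (nat_lit 9657728) (BT.leaf (nat_lit 28146465)) (BT.leaf (nat_lit 27825937))))) (BT.node (nat_lit 9657984) (BT.node (nat_lit 9657856) (BT.node (nat_lit 9657793) (BT.leaf (nat_lit 33521177)) (BT.leaf (nat_lit 662636))) (BT.node (nat_lit 9657920) (BT.leaf (nat_lit 30028821)) (BT.leaf (nat_lit 45634053)))) (BT.node (nat_lit 9658112) (BT.node (nat_lit 9658048) (BT.leaf (nat_lit 27777553)) (BT.leaf (nat_lit 27826193))) (BT.node (nat_lit 9658176) (BT.leaf (nat_lit 38632733)) (BT.leaf (nat_lit 31277317)))))) (BT.node (nat_lit 9658624) (BT.node (nat_lit 9658376) (BT.node (nat_lit 9658368) (BT.node (nat_lit 9658304) (BT.leaf (nat_lit 27826961)) (BT.leaf (nat_lit 27827985))) (BT.node (nat_lit 9658370) (BT.leaf (nat_lit 43559173)) (BT.leaf (nat_lit 611516)))) (BT.node (nat_lit 9658496) (BT.node (nat_lit 9658432) (BT.leaf (nat_lit 611516)) (BT.leaf (nat_lit 46294809))) (BT.node (nat_lit 9658560) (BT.leaf (nat_lit 28311065)) (BT.leaf (nat_lit 27827225))))) (BT.node (nat_lit 9658880) (BT.node (nat_lit 9658752) (BT.node (nat_lit 9658688) (BT.leaf (nat_lit 32318481)) (BT.leaf (nat_lit 27827485))) (BT.node (nat_lit 9658816) (BT.leaf (nat_lit 27827229)) (BT.leaf (nat_lit 39394821)))) (BT.node (nat_lit 9659008) (BT.node (nat_lit 9658944) (BT.leaf (nat_lit 27827481)) (BT.leaf (nat_lit 43790853))) (BT.node (nat_lit 9659072) (BT.leaf (nat_lit 27828753)) (BT.leaf (nat_lit 48229649)))))))) (BT.node (nat_lit 9661120) (BT.node (nat_lit 9660160) (BT.node (nat_lit 9659648) (BT.node (nat_lit 9659392) (BT.node (nat_lit 9659264) (BT.node (nat_lit 9659200) (BT.leaf (nat_lit 37062161)) (BT.leaf (nat_lit 36912397))) (BT.node (nat_lit 9659328) (BT.leaf (nat_lit 35737881)) (BT.leaf (nat_lit 27828249)))) (BT.node (nat_lit 9659520) (BT.node (nat_lit 9659456) (BT.leaf (nat_lit 44333345)) (BT.leaf (nat_lit 28312349))) (BT.node (nat_lit 9659584) (BT.leaf (nat_lit 27828253)) (BT.leaf (nat_lit 43932945))))) (BT.node (nat_lit 9659904) (BT.node (nat_lit 9659776) (BT.node (nat_lit 9659712) (BT.leaf (nat_lit 27830033)) (BT.leaf (nat_lit 27829265))) (BT.node (nat_lit 9659840) (BT.leaf (nat_lit 38856985)) (BT.leaf (nat_lit 40221717)))) (BT.node (nat_lit 9660032) (BT.node (nat_lit 9659968) (BT.leaf (nat_lit 34203937)) (BT.leaf (nat_lit 34412577))) (BT.node (nat_lit 9660096) (BT.leaf (nat_lit 27778825)) (BT.leaf (nat_lit 28260121)))))) (BT.node (nat_lit 9660672) (BT.node (nat_lit 9660416) (BT.node (nat_lit 9660288) (BT.node (nat_lit 9660224) (BT.leaf (nat_lit 27830801)) (BT.leaf (nat_lit 27830289))) (BT.node (nat_lit 9660352) (BT.leaf (nat_lit 41032993)) (BT.leaf (nat_lit 29335837)))) (BT.node (nat_lit 9660544) (BT.node (nat_lit 9660480) (BT.leaf (nat_lit 51984657)) (BT.leaf (nat_lit 27831065))) (BT.node (nat_lit 9660608) (BT.leaf (nat_lit 39781653)) (BT.leaf (nat_lit 47392273))))) (BT.node (nat_lit 9660864) (BT.node (nat_lit 9660800) (BT.node (nat_lit 9660736) (BT.leaf (nat_lit 39233305)) (BT.leaf (nat_lit 39399173))) (BT.node (nat_lit 9660802) (BT.leaf (nat_lit 29335317)) (BT.leaf (nat_lit 623988)))) (BT.node (nat_lit 9660992) (BT.node (nat_lit 9660928) (BT.leaf (nat_lit 29336349)) (BT.leaf (nat_lit 39224337))) (BT.node (nat_lit 9661056) (BT.leaf (nat_lit 48223517)) (BT.leaf (nat_lit 27957521))))))) (BT.node (nat_lit 9661952) (BT.node (nat_lit 9661569) (BT.node (nat_lit 9661376) (BT.node (nat_lit 9661248) (BT.node (nat_lit 9661184) (BT.leaf (nat_lit 27957525)) (BT.leaf (nat_lit 28285217))) (BT.node (nat_lit 9661312) (BT.leaf (nat_lit 48585501)) (BT.leaf (nat_lit 38645533)))) (BT.node (nat_lit 9661504) (BT.node (nat_lit 9661440) (BT.leaf (nat_lit 31265541)) (BT.leaf (nat_lit 30025233))) (BT.node (nat_lit 9661568) (BT.leaf (nat_lit 27831569)) (BT.leaf (nat_lit 46361873))))) (BT.node (nat_lit 9661696) (BT.node (nat_lit 9661632) (BT.node (nat_lit 9661576) (BT.leaf (nat_lit 785248)) (BT.leaf (nat_lit 785248))) (BT.node (nat_lit 9661640) (BT.leaf (nat_lit 41144865)) (BT.leaf (nat_lit 785252)))) (BT.node (nat_lit 9661824) (BT.node (nat_lit 9661760) (BT.leaf (nat_lit 46241557)) (BT.leaf (nat_lit 44257041))) (BT.node (nat_lit 9661888) (BT.leaf (nat_lit 44257045)) (BT.leaf (nat_lit 42305045)))))) (BT.node (nat_lit 9662464) (BT.node (nat_lit 9662208) (BT.node (nat_lit 9662080) (BT.node (nat_lit 9662016) (BT.leaf (nat_lit 48389141)) (BT.leaf (nat_lit 38552329))) (BT.node (nat_lit 9662144) (BT.leaf (nat_lit 33269265)) (BT.leaf (nat_lit 32144161)))) (BT.node (nat_lit 9662336) (BT.node (nat_lit 9662272) (BT.leaf (nat_lit 42519301)) (BT.leaf (nat_lit 41690657))) (BT.node (nat_lit 9662400) (BT.leaf (nat_lit 41690401)) (BT.leaf (nat_lit 45774865))))) (BT.node (nat_lit 9662720) (BT.node (nat_lit 9662592) (BT.node (nat_lit 9662528) (BT.leaf (nat_lit 30472209)) (BT.leaf (nat_lit 30472213))) (BT.node (nat_lit 9662656) (BT.leaf (nat_lit 46095109)) (BT.leaf (nat_lit 46098181)))) (BT.node (nat_lit 9662848) (BT.node (nat_lit 9662784) (BT.leaf (nat_lit 27833369)) (BT.leaf (nat_lit 28947473))) (BT.node (nat_lit 9662912) (BT.leaf (nat_lit 28879649)) (BT.leaf (nat_lit 37821709)))))))))) (BT.node (nat_lit 9670656) (BT.node (nat_lit 9666944) (BT.node (nat_lit 9664960) (BT.node (nat_lit 9663872) (BT.node (nat_lit 9663360) (BT.node (nat_lit 9663232) (BT.node (nat_lit 9663104) (BT.node (nat_lit 9663040) (BT.leaf (nat_lit 44168729)) (BT.leaf (nat_lit 44168737))) (BT.node (nat_lit 9663168) (BT.leaf (nat_lit 42595593)) (BT.leaf (nat_lit 28879633)))) (BT.node (nat_lit 9663240) (BT.node (nat_lit 9663236) (BT.leaf (nat_lit 45817113)) (BT.leaf (nat_lit 718288))) (BT.node (nat_lit 9663296) (BT.leaf (nat_lit 718288)) (BT.leaf (nat_lit 49494041))))) (BT.node (nat_lit 9663616) (BT.node (nat_lit 9663488) (BT.node (nat_lit 9663424) (BT.leaf (nat_lit 38653725)) (BT.leaf (nat_lit 45817101))) (BT.node (nat_lit 9663552) (BT.leaf (nat_lit 27834657)) (BT.leaf (nat_lit 49971485)))) (BT.node (nat_lit 9663744) (BT.node (nat_lit 9663680) (BT.leaf (nat_lit 46852101)) (BT.leaf (nat_lit 33360901))) (BT.node (nat_lit 9663808) (BT.leaf (nat_lit 28537877)) (BT.leaf (nat_lit 39160097)))))) (BT.node (nat_lit 9664448) (BT.node (nat_lit 9664192) (BT.node (nat_lit 9664000) (BT.node (nat_lit 9663936) (BT.leaf (nat_lit 42791713)) (BT.leaf (nat_lit 48131349))) (BT.node (nat_lit 9664128) (BT.leaf (nat_lit 33225241)) (BT.leaf (nat_lit 38552845)))) (BT.node (nat_lit 9664320) (BT.node (nat_lit 9664256) (BT.leaf (nat_lit 32804117)) (BT.leaf (nat_lit 51676705))) (BT.node (nat_lit 9664384) (BT.leaf (nat_lit 41693201)) (BT.leaf (nat_lit 35949077))))) (BT.node (nat_lit 9664704) (BT.node (nat_lit 9664576) (BT.node (nat_lit 9664512) (BT.leaf (nat_lit 33002273)) (BT.leaf (nat_lit 46852385))) (BT.node (nat_lit 9664640) (BT.leaf (nat_lit 46852129)) (BT.leaf (nat_lit 29733393)))) (BT.node (nat_lit 9664832) (BT.node (nat_lit 9664768) (BT.leaf (nat_lit 31793173)) (BT.leaf (nat_lit 37785109))) (BT.node (nat_lit 9664896) (BT.leaf (nat_lit 37786633)) (BT.leaf (nat_lit 40767245))))))) (BT.node (nat_lit 9665920) (BT.node (nat_lit 9665472) (BT.node (nat_lit 9665216) (BT.node (nat_lit 9665088) (BT.node (nat_lit 9665024) (BT.leaf (nat_lit 43452193)) (BT.leaf (nat_lit 32697633))) (BT.node (nat_lit 9665152) (BT.leaf (nat_lit 44857633)) (BT.leaf (nat_lit 30245397)))) (BT.node (nat_lit 9665344) (BT.node (nat_lit 9665280) (BT.leaf (nat_lit 50575137)) (BT.leaf (nat_lit 50825221))) (BT.node (nat_lit 9665408) (BT.leaf (nat_lit 49068037)) (BT.leaf (nat_lit 41730069))))) (BT.node (nat_lit 9665728) (BT.node (nat_lit 9665600) (BT.node (nat_lit 9665536) (BT.leaf (nat_lit 32053269)) (BT.leaf (nat_lit 47793433))) (BT.node (nat_lit 9665664) (BT.leaf (nat_lit 32053001)) (BT.leaf (nat_lit 47792917)))) (BT.node (nat_lit 9665856) (BT.node (nat_lit 9665792) (BT.leaf (nat_lit 38662681)) (BT.leaf (nat_lit 32027169))) (BT.node (nat_lit 9665864) (BT.leaf (nat_lit 41009177)) (BT.leaf (nat_lit 617516)))))) (BT.node (nat_lit 9666432) (BT.node (nat_lit 9666176) (BT.node (nat_lit 9666048) (BT.node (nat_lit 9665984) (BT.leaf (nat_lit 47792921)) (BT.leaf (nat_lit 45169941))) (BT.node (nat_lit 9666112) (BT.leaf (nat_lit 42180105)) (BT.leaf (nat_lit 46265881)))) (BT.node (nat_lit 9666304) (BT.node (nat_lit 9666240) (BT.leaf (nat_lit 48460805)) (BT.leaf (nat_lit 48834325))) (BT.node (nat_lit 9666368) (BT.leaf (nat_lit 29696533)) (BT.leaf (nat_lit 29696537))))) (BT.node (nat_lit 9666688) (BT.node (nat_lit 9666560) (BT.node (nat_lit 9666496) (BT.leaf (nat_lit 31764753)) (BT.leaf (nat_lit 34080793))) (BT.node (nat_lit 9666624) (BT.leaf (nat_lit 32429589)) (BT.leaf (nat_lit 27846429)))) (BT.node (nat_lit 9666816) (BT.node (nat_lit 9666752) (BT.leaf (nat_lit 28634129)) (BT.leaf (nat_lit 28634133))) (BT.node (nat_lit 9666880) (BT.leaf (nat_lit 27846425)) (BT.leaf (nat_lit 36854813)))))))) (BT.node (nat_lit 9668864) (BT.node (nat_lit 9667904) (BT.node (nat_lit 9667392) (BT.node (nat_lit 9667136) (BT.node (nat_lit 9667072) (BT.node (nat_lit 9667008) (BT.leaf (nat_lit 28432409)) (BT.leaf (nat_lit 29451041))) (BT.node (nat_lit 9667076) (BT.leaf (nat_lit 34797081)) (BT.leaf (nat_lit 793444)))) (BT.node (nat_lit 9667264) (BT.node (nat_lit 9667200) (BT.leaf (nat_lit 36875553)) (BT.leaf (nat_lit 47473953))) (BT.node (nat_lit 9667328) (BT.leaf (nat_lit 31641605)) (BT.leaf (nat_lit 48976417))))) (BT.node (nat_lit 9667648) (BT.node (nat_lit 9667520) (BT.node (nat_lit 9667456) (BT.leaf (nat_lit 48976673)) (BT.leaf (nat_lit 37451797))) (BT.node (nat_lit 9667584) (BT.leaf (nat_lit 48977185)) (BT.leaf (nat_lit 45952289)))) (BT.node (nat_lit 9667776) (BT.node (nat_lit 9667712) (BT.leaf (nat_lit 31612689)) (BT.leaf (nat_lit 43661069))) (BT.node (nat_lit 9667840) (BT.leaf (nat_lit 43661065)) (BT.leaf (nat_lit 39622933)))))) (BT.node (nat_lit 9668416) (BT.node (nat_lit 9668160) (BT.node (nat_lit 9668032) (BT.node (nat_lit 9667968) (BT.leaf (nat_lit 50796565)) (BT.leaf (nat_lit 38670881))) (BT.node (nat_lit 9668096) (BT.leaf (nat_lit 29811221)) (BT.leaf (nat_lit 29811225)))) (BT.node (nat_lit 9668288) (BT.node (nat_lit 9668224) (BT.leaf (nat_lit 51790861)) (BT.leaf (nat_lit 51743257))) (BT.node (nat_lit 9668352) (BT.leaf (nat_lit 34684449)) (BT.leaf (nat_lit 27851793))))) (BT.node (nat_lit 9668608) (BT.node (nat_lit 9668544) (BT.node (nat_lit 9668480) (BT.leaf (nat_lit 35885601)) (BT.leaf (nat_lit 33212945))) (BT.node (nat_lit 9668549) (BT.leaf (nat_lit 34713889)) (BT.leaf (nat_lit 748160)))) (BT.node (nat_lit 9668736) (BT.node (nat_lit 9668672) (BT.leaf (nat_lit 31662881)) (BT.leaf (nat_lit 49868065))) (BT.node (nat_lit 9668800) (BT.leaf (nat_lit 51211297)) (BT.leaf (nat_lit 51211553))))))) (BT.node (nat_lit 9669696) (BT.node (nat_lit 9669184) (BT.node (nat_lit 9669120) (BT.node (nat_lit 9668992) (BT.node (nat_lit 9668928) (BT.leaf (nat_lit 51212065)) (BT.leaf (nat_lit 51211809))) (BT.node (nat_lit 9669056) (BT.leaf (nat_lit 37242905)) (BT.leaf (nat_lit 46541081)))) (BT.node (nat_lit 9669126) (BT.node (nat_lit 9669122) (BT.leaf (nat_lit 45809173)) (BT.leaf (nat_lit 607008))) (BT.node (nat_lit 9669128) (BT.leaf (nat_lit 607008)) (BT.leaf (nat_lit 607008))))) (BT.node (nat_lit 9669440) (BT.node (nat_lit 9669312) (BT.node (nat_lit 9669248) (BT.leaf (nat_lit 51940109)) (BT.leaf (nat_lit 27843077))) (BT.node (nat_lit 9669376) (BT.leaf (nat_lit 30467865)) (BT.leaf (nat_lit 29411345)))) (BT.node (nat_lit 9669568) (BT.node (nat_lit 9669504) (BT.leaf (nat_lit 29411349)) (BT.leaf (nat_lit 27855121))) (BT.node (nat_lit 9669632) (BT.leaf (nat_lit 27843345)) (BT.leaf (nat_lit 29698581)))))) (BT.node (nat_lit 9670144) (BT.node (nat_lit 9669893) (BT.node (nat_lit 9669824) (BT.node (nat_lit 9669760) (BT.leaf (nat_lit 31964185)) (BT.leaf (nat_lit 47859741))) (BT.node (nat_lit 9669888) (BT.leaf (nat_lit 27854609)) (BT.leaf (nat_lit 31285537)))) (BT.node (nat_lit 9670016) (BT.node (nat_lit 9669952) (BT.leaf (nat_lit 798492)) (BT.leaf (nat_lit 40620557))) (BT.node (nat_lit 9670080) (BT.leaf (nat_lit 37793053)) (BT.leaf (nat_lit 29698065))))) (BT.node (nat_lit 9670400) (BT.node (nat_lit 9670272) (BT.node (nat_lit 9670208) (BT.leaf (nat_lit 29698069)) (BT.leaf (nat_lit 27846929))) (BT.node (nat_lit 9670336) (BT.leaf (nat_lit 47746065)) (BT.leaf (nat_lit 29551897)))) (BT.node (nat_lit 9670528) (BT.node (nat_lit 9670464) (BT.leaf (nat_lit 29551901)) (BT.leaf (nat_lit 27863569))) (BT.node (nat_lit 9670592) (BT.leaf (nat_lit 36421909)) (BT.leaf (nat_lit 36421913))))))))) (BT.node (nat_lit 9674560) (BT.node (nat_lit 9672704) (BT.node (nat_lit 9671680) (BT.node (nat_lit 9671168) (BT.node (nat_lit 9670912) (BT.node (nat_lit 9670784) (BT.node (nat_lit 9670720) (BT.leaf (nat_lit 36421917)) (BT.leaf (nat_lit 27863313))) (BT.node (nat_lit 9670848) (BT.leaf (nat_lit 27863317)) (BT.leaf (nat_lit 29942553)))) (BT.node (nat_lit 9671040) (BT.node (nat_lit 9670976) (BT.leaf (nat_lit 29942813)) (BT.leaf (nat_lit 47749405))) (BT.node (nat_lit 9671104) (BT.leaf (nat_lit 29742105)) (BT.leaf (nat_lit 29742109))))) (BT.node (nat_lit 9671424) (BT.node (nat_lit 9671296) (BT.node (nat_lit 9671232) (BT.leaf (nat_lit 40702741)) (BT.leaf (nat_lit 40702749))) (BT.node (nat_lit 9671360) (BT.leaf (nat_lit 32599565)) (BT.leaf (nat_lit 39773453)))) (BT.node (nat_lit 9671552) (BT.node (nat_lit 9671488) (BT.leaf (nat_lit 32599321)) (BT.leaf (nat_lit 32599325))) (BT.node (nat_lit 9671616) (BT.leaf (nat_lit 30599433)) (BT.leaf (nat_lit 30599437)))))) (BT.node (nat_lit 9672192) (BT.node (nat_lit 9671936) (BT.node (nat_lit 9671808) (BT.node (nat_lit 9671744) (BT.leaf (nat_lit 30599449)) (BT.leaf (nat_lit 47746325))) (BT.node (nat_lit 9671872) (BT.leaf (nat_lit 36332309)) (BT.leaf (nat_lit 45653005)))) (BT.node (nat_lit 9672064) (BT.node (nat_lit 9672000) (BT.leaf (nat_lit 38497805)) (BT.leaf (nat_lit 37984021))) (BT.node (nat_lit 9672128) (BT.leaf (nat_lit 50610977)) (BT.leaf (nat_lit 50611233))))) (BT.node (nat_lit 9672448) (BT.node (nat_lit 9672320) (BT.node (nat_lit 9672256) (BT.leaf (nat_lit 51301381)) (BT.leaf (nat_lit 46627861))) (BT.node (nat_lit 9672384) (BT.leaf (nat_lit 27869465)) (BT.leaf (nat_lit 28561681)))) (BT.node (nat_lit 9672576) (BT.node (nat_lit 9672512) (BT.leaf (nat_lit 28561685)) (BT.leaf (nat_lit 27869469))) (BT.node (nat_lit 9672640) (BT.leaf (nat_lit 31397125)) (BT.leaf (nat_lit 49220121))))))) (BT.node (nat_lit 9673472) (BT.node (nat_lit 9673088) (BT.node (nat_lit 9672898) (BT.node (nat_lit 9672832) (BT.node (nat_lit 9672768) (BT.leaf (nat_lit 27868945)) (BT.leaf (nat_lit 45516821))) (BT.node (nat_lit 9672896) (BT.leaf (nat_lit 45516825)) (BT.leaf (nat_lit 45858337)))) (BT.node (nat_lit 9672960) (BT.node (nat_lit 9672901) (BT.leaf (nat_lit 716488)) (BT.leaf (nat_lit 716488))) (BT.node (nat_lit 9673024) (BT.leaf (nat_lit 37926665)) (BT.leaf (nat_lit 37926929))))) (BT.node (nat_lit 9673344) (BT.node (nat_lit 9673216) (BT.node (nat_lit 9673152) (BT.leaf (nat_lit 27873029)) (BT.leaf (nat_lit 39890181))) (BT.node (nat_lit 9673280) (BT.leaf (nat_lit 46355989)) (BT.leaf (nat_lit 33306401)))) (BT.node (nat_lit 9673348) (BT.node (nat_lit 9673345) (BT.leaf (nat_lit 38693661)) (BT.leaf (nat_lit 628240))) (BT.node (nat_lit 9673408) (BT.leaf (nat_lit 628240)) (BT.leaf (nat_lit 46631957)))))) (BT.node (nat_lit 9673984) (BT.node (nat_lit 9673728) (BT.node (nat_lit 9673600) (BT.node (nat_lit 9673536) (BT.leaf (nat_lit 34184469)) (BT.leaf (nat_lit 38694413))) (BT.node (nat_lit 9673664) (BT.leaf (nat_lit 46461729)) (BT.leaf (nat_lit 43298849)))) (BT.node (nat_lit 9673856) (BT.node (nat_lit 9673792) (BT.leaf (nat_lit 38695197)) (BT.leaf (nat_lit 31467525))) (BT.node (nat_lit 9673920) (BT.leaf (nat_lit 43582481)) (BT.leaf (nat_lit 35144201))))) (BT.node (nat_lit 9674304) (BT.node (nat_lit 9674112) (BT.node (nat_lit 9674048) (BT.leaf (nat_lit 31463449)) (BT.leaf (nat_lit 50989581))) (BT.node (nat_lit 9674176) (BT.leaf (nat_lit 27326737)) (BT.leaf (nat_lit 44184069)))) (BT.node (nat_lit 9674432) (BT.node (nat_lit 9674368) (BT.leaf (nat_lit 34590725)) (BT.leaf (nat_lit 32514333))) (BT.node (nat_lit 9674496) (BT.leaf (nat_lit 49733133)) (BT.leaf (nat_lit 27876101)))))))) (BT.node (nat_lit 9676352) (BT.node (nat_lit 9675392) (BT.node (nat_lit 9674944) (BT.node (nat_lit 9674754) (BT.node (nat_lit 9674688) (BT.node (nat_lit 9674624) (BT.leaf (nat_lit 35675397)) (BT.leaf (nat_lit 27876633))) (BT.node (nat_lit 9674752) (BT.leaf (nat_lit 37195297)) (BT.leaf (nat_lit 37871633)))) (BT.node (nat_lit 9674816) (BT.node (nat_lit 9674755) (BT.leaf (nat_lit 801592)) (BT.leaf (nat_lit 801592))) (BT.node (nat_lit 9674880) (BT.leaf (nat_lit 39179553)) (BT.leaf (nat_lit 27877905))))) (BT.node (nat_lit 9675136) (BT.node (nat_lit 9675008) (BT.node (nat_lit 9674952) (BT.leaf (nat_lit 28183305)) (BT.leaf (nat_lit 631648))) (BT.node (nat_lit 9675072) (BT.leaf (nat_lit 28183309)) (BT.leaf (nat_lit 27878933)))) (BT.node (nat_lit 9675264) (BT.node (nat_lit 9675200) (BT.leaf (nat_lit 48833045)) (BT.leaf (nat_lit 48902673))) (BT.node (nat_lit 9675328) (BT.leaf (nat_lit 44286981)) (BT.leaf (nat_lit 41324297)))))) (BT.node (nat_lit 9675840) (BT.node (nat_lit 9675648) (BT.node (nat_lit 9675520) (BT.node (nat_lit 9675456) (BT.leaf (nat_lit 43807757)) (BT.leaf (nat_lit 30655009))) (BT.node (nat_lit 9675584) (BT.leaf (nat_lit 48519949)) (BT.leaf (nat_lit 44712453)))) (BT.node (nat_lit 9675776) (BT.node (nat_lit 9675712) (BT.leaf (nat_lit 48521241)) (BT.leaf (nat_lit 48520725))) (BT.node (nat_lit 9675779) (BT.leaf (nat_lit 39199777)) (BT.leaf (nat_lit 734492))))) (BT.node (nat_lit 9676096) (BT.node (nat_lit 9675968) (BT.node (nat_lit 9675904) (BT.leaf (nat_lit 46683145)) (BT.leaf (nat_lit 48521229))) (BT.node (nat_lit 9676032) (BT.leaf (nat_lit 28610081)) (BT.leaf (nat_lit 36880917)))) (BT.node (nat_lit 9676224) (BT.node (nat_lit 9676160) (BT.leaf (nat_lit 27880465)) (BT.leaf (nat_lit 27880713))) (BT.node (nat_lit 9676288) (BT.leaf (nat_lit 27880973)) (BT.leaf (nat_lit 30389005))))))) (BT.node (nat_lit 9677376) (BT.node (nat_lit 9676864) (BT.node (nat_lit 9676608) (BT.node (nat_lit 9676480) (BT.node (nat_lit 9676416) (BT.leaf (nat_lit 30482969)) (BT.leaf (nat_lit 30482973))) (BT.node (nat_lit 9676544) (BT.leaf (nat_lit 30482977)) (BT.leaf (nat_lit 27880717)))) (BT.node (nat_lit 9676736) (BT.node (nat_lit 9676672) (BT.leaf (nat_lit 27880969)) (BT.leaf (nat_lit 33218313))) (BT.node (nat_lit 9676800) (BT.leaf (nat_lit 27881749)) (BT.leaf (nat_lit 38710549))))) (BT.node (nat_lit 9677120) (BT.node (nat_lit 9676992) (BT.node (nat_lit 9676928) (BT.leaf (nat_lit 30482465)) (BT.leaf (nat_lit 30484497))) (BT.node (nat_lit 9677056) (BT.leaf (nat_lit 38711065)) (BT.leaf (nat_lit 39220485)))) (BT.node (nat_lit 9677248) (BT.node (nat_lit 9677184) (BT.leaf (nat_lit 38709789)) (BT.leaf (nat_lit 30484257))) (BT.node (nat_lit 9677312) (BT.leaf (nat_lit 27881489)) (BT.leaf (nat_lit 33218329)))))) (BT.node (nat_lit 9677829) (BT.node (nat_lit 9677632) (BT.node (nat_lit 9677504) (BT.node (nat_lit 9677440) (BT.leaf (nat_lit 48018197)) (BT.leaf (nat_lit 38711061))) (BT.node (nat_lit 9677568) (BT.leaf (nat_lit 31636257)) (BT.leaf (nat_lit 38705181)))) (BT.node (nat_lit 9677760) (BT.node (nat_lit 9677696) (BT.leaf (nat_lit 30389021)) (BT.leaf (nat_lit 28755473))) (BT.node (nat_lit 9677824) (BT.leaf (nat_lit 30389001)) (BT.leaf (nat_lit 28755489))))) (BT.node (nat_lit 9678080) (BT.node (nat_lit 9677952) (BT.node (nat_lit 9677888) (BT.leaf (nat_lit 628084)) (BT.leaf (nat_lit 27883793))) (BT.node (nat_lit 9678016) (BT.leaf (nat_lit 33526805)) (BT.leaf (nat_lit 32581645)))) (BT.node (nat_lit 9678208) (BT.node (nat_lit 9678144) (BT.leaf (nat_lit 39192837)) (BT.leaf (nat_lit 43106073))) (BT.node (nat_lit 9678272) (BT.leaf (nat_lit 29790481)) (BT.leaf (nat_lit 27887633))))))))))) (BT.node (nat_lit 9693120) (BT.node (nat_lit 9685952) (BT.node (nat_lit 9682240) (BT.node (nat_lit 9680384) (BT.node (nat_lit 9679360) (BT.node (nat_lit 9678848) (BT.node (nat_lit 9678592) (BT.node (nat_lit 9678464) (BT.node (nat_lit 9678400) (BT.leaf (nat_lit 49947141)) (BT.leaf (nat_lit 39193097))) (BT.node (nat_lit 9678528) (BT.leaf (nat_lit 39193101)) (BT.leaf (nat_lit 39193113)))) (BT.node (nat_lit 9678720) (BT.node (nat_lit 9678656) (BT.leaf (nat_lit 39193117)) (BT.leaf (nat_lit 50688789))) (BT.node (nat_lit 9678784) (BT.leaf (nat_lit 28488737)) (BT.leaf (nat_lit 32832281))))) (BT.node (nat_lit 9679104) (BT.node (nat_lit 9678976) (BT.node (nat_lit 9678912) (BT.leaf (nat_lit 32832285)) (BT.leaf (nat_lit 27888913))) (BT.node (nat_lit 9679040) (BT.leaf (nat_lit 38725409)) (BT.leaf (nat_lit 38725153)))) (BT.node (nat_lit 9679232) (BT.node (nat_lit 9679168) (BT.leaf (nat_lit 32581649)) (BT.leaf (nat_lit 48462869))) (BT.node (nat_lit 9679296) (BT.leaf (nat_lit 40153873)) (BT.leaf (nat_lit 45148437)))))) (BT.node (nat_lit 9679872) (BT.node (nat_lit 9679616) (BT.node (nat_lit 9679488) (BT.node (nat_lit 9679424) (BT.leaf (nat_lit 27889169)) (BT.leaf (nat_lit 39183125))) (BT.node (nat_lit 9679552) (BT.leaf (nat_lit 45425433)) (BT.leaf (nat_lit 39184389)))) (BT.node (nat_lit 9679744) (BT.node (nat_lit 9679680) (BT.leaf (nat_lit 39605533)) (BT.leaf (nat_lit 38070537))) (BT.node (nat_lit 9679808) (BT.leaf (nat_lit 27889429)) (BT.leaf (nat_lit 27747093))))) (BT.node (nat_lit 9680128) (BT.node (nat_lit 9680000) (BT.node (nat_lit 9679936) (BT.leaf (nat_lit 43104785)) (BT.leaf (nat_lit 43104789))) (BT.node (nat_lit 9680064) (BT.leaf (nat_lit 31162397)) (BT.leaf (nat_lit 31162129)))) (BT.node (nat_lit 9680256) (BT.node (nat_lit 9680192) (BT.leaf (nat_lit 31162133)) (BT.leaf (nat_lit 37764101))) (BT.node (nat_lit 9680320) (BT.leaf (nat_lit 31166993)) (BT.leaf (nat_lit 27889681))))))) (BT.node (nat_lit 9681288) (BT.node (nat_lit 9680896) (BT.node (nat_lit 9680640) (BT.node (nat_lit 9680512) (BT.node (nat_lit 9680448) (BT.leaf (nat_lit 37885729)) (BT.leaf (nat_lit 45763613))) (BT.node (nat_lit 9680576) (BT.leaf (nat_lit 27890961)) (BT.leaf (nat_lit 43397653)))) (BT.node (nat_lit 9680768) (BT.node (nat_lit 9680704) (BT.leaf (nat_lit 32099609)) (BT.leaf (nat_lit 32099613))) (BT.node (nat_lit 9680832) (BT.leaf (nat_lit 27891205)) (BT.leaf (nat_lit 37897241))))) (BT.node (nat_lit 9681152) (BT.node (nat_lit 9681024) (BT.node (nat_lit 9680960) (BT.leaf (nat_lit 37897245)) (BT.leaf (nat_lit 32250905))) (BT.node (nat_lit 9681088) (BT.leaf (nat_lit 27987473)) (BT.leaf (nat_lit 43353365)))) (BT.node (nat_lit 9681224) (BT.node (nat_lit 9681216) (BT.leaf (nat_lit 37885713)) (BT.leaf (nat_lit 47854101))) (BT.node (nat_lit 9681280) (BT.leaf (nat_lit 818024)) (BT.leaf (nat_lit 34792969)))))) (BT.node (nat_lit 9681728) (BT.node (nat_lit 9681472) (BT.node (nat_lit 9681352) (BT.node (nat_lit 9681344) (BT.leaf (nat_lit 818032)) (BT.leaf (nat_lit 47854861))) (BT.node (nat_lit 9681408) (BT.leaf (nat_lit 818036)) (BT.leaf (nat_lit 37422881)))) (BT.node (nat_lit 9681600) (BT.node (nat_lit 9681536) (BT.leaf (nat_lit 28539929)) (BT.leaf (nat_lit 31807253))) (BT.node (nat_lit 9681664) (BT.leaf (nat_lit 27891985)) (BT.leaf (nat_lit 38726925))))) (BT.node (nat_lit 9681984) (BT.node (nat_lit 9681856) (BT.node (nat_lit 9681792) (BT.leaf (nat_lit 27317269)) (BT.leaf (nat_lit 38726937))) (BT.node (nat_lit 9681920) (BT.leaf (nat_lit 38269985)) (BT.leaf (nat_lit 27892257)))) (BT.node (nat_lit 9682112) (BT.node (nat_lit 9682048) (BT.leaf (nat_lit 29629453)) (BT.leaf (nat_lit 29629457))) (BT.node (nat_lit 9682176) (BT.leaf (nat_lit 27358493)) (BT.leaf (nat_lit 46633497)))))))) (BT.node (nat_lit 9684096) (BT.node (nat_lit 9683136) (BT.node (nat_lit 9682624) (BT.node (nat_lit 9682374) (BT.node (nat_lit 9682368) (BT.node (nat_lit 9682304) (BT.leaf (nat_lit 48427793)) (BT.leaf (nat_lit 46633485))) (BT.node (nat_lit 9682373) (BT.leaf (nat_lit 30246433)) (BT.leaf (nat_lit 664080)))) (BT.node (nat_lit 9682496) (BT.node (nat_lit 9682432) (BT.leaf (nat_lit 647032)) (BT.leaf (nat_lit 27893009))) (BT.node (nat_lit 9682560) (BT.leaf (nat_lit 30396693)) (BT.leaf (nat_lit 27895057))))) (BT.node (nat_lit 9682880) (BT.node (nat_lit 9682752) (BT.node (nat_lit 9682688) (BT.leaf (nat_lit 27893777)) (BT.leaf (nat_lit 27894801))) (BT.node (nat_lit 9682816) (BT.leaf (nat_lit 30171909)) (BT.leaf (nat_lit 27895581)))) (BT.node (nat_lit 9683008) (BT.node (nat_lit 9682944) (BT.leaf (nat_lit 27895837)) (BT.leaf (nat_lit 30171921))) (BT.node (nat_lit 9683072) (BT.leaf (nat_lit 32274709)) (BT.leaf (nat_lit 27896601)))))) (BT.node (nat_lit 9683648) (BT.node (nat_lit 9683392) (BT.node (nat_lit 9683264) (BT.node (nat_lit 9683200) (BT.leaf (nat_lit 51677957)) (BT.leaf (nat_lit 51026181))) (BT.node (nat_lit 9683328) (BT.leaf (nat_lit 27896081)) (BT.leaf (nat_lit 27896849)))) (BT.node (nat_lit 9683520) (BT.node (nat_lit 9683456) (BT.leaf (nat_lit 42204421)) (BT.leaf (nat_lit 31732513))) (BT.node (nat_lit 9683584) (BT.leaf (nat_lit 44046857)) (BT.leaf (nat_lit 31734033))))) (BT.node (nat_lit 9683904) (BT.node (nat_lit 9683776) (BT.node (nat_lit 9683712) (BT.leaf (nat_lit 38089241)) (BT.leaf (nat_lit 27910417))) (BT.node (nat_lit 9683840) (BT.leaf (nat_lit 28712213)) (BT.leaf (nat_lit 28712217)))) (BT.node (nat_lit 9684032) (BT.node (nat_lit 9683968) (BT.leaf (nat_lit 40186373)) (BT.leaf (nat_lit 33225245))) (BT.node (nat_lit 9684033) (BT.leaf (nat_lit 39160353)) (BT.leaf (nat_lit 723288))))))) (BT.node (nat_lit 9685120) (BT.node (nat_lit 9684608) (BT.node (nat_lit 9684352) (BT.node (nat_lit 9684224) (BT.node (nat_lit 9684160) (BT.leaf (nat_lit 44740129)) (BT.leaf (nat_lit 52410629))) (BT.node (nat_lit 9684288) (BT.leaf (nat_lit 38145297)) (BT.leaf (nat_lit 27900953)))) (BT.node (nat_lit 9684480) (BT.node (nat_lit 9684416) (BT.leaf (nat_lit 34549277)) (BT.leaf (nat_lit 28496405))) (BT.node (nat_lit 9684544) (BT.leaf (nat_lit 37954837)) (BT.leaf (nat_lit 27645701))))) (BT.node (nat_lit 9684864) (BT.node (nat_lit 9684736) (BT.node (nat_lit 9684672) (BT.leaf (nat_lit 29849865)) (BT.leaf (nat_lit 29849869))) (BT.node (nat_lit 9684800) (BT.leaf (nat_lit 29849881)) (BT.leaf (nat_lit 29849885)))) (BT.node (nat_lit 9684992) (BT.node (nat_lit 9684928) (BT.leaf (nat_lit 31368473)) (BT.leaf (nat_lit 29272849))) (BT.node (nat_lit 9685056) (BT.leaf (nat_lit 46574869)) (BT.leaf (nat_lit 27645469)))))) (BT.node (nat_lit 9685504) (BT.node (nat_lit 9685312) (BT.node (nat_lit 9685248) (BT.node (nat_lit 9685184) (BT.leaf (nat_lit 39059221)) (BT.leaf (nat_lit 44821765))) (BT.node (nat_lit 9685256) (BT.leaf (nat_lit 29156869)) (BT.leaf (nat_lit 738924)))) (BT.node (nat_lit 9685384) (BT.node (nat_lit 9685376) (BT.leaf (nat_lit 30829829)) (BT.leaf (nat_lit 38741273))) (BT.node (nat_lit 9685440) (BT.leaf (nat_lit 738936)) (BT.leaf (nat_lit 29156641))))) (BT.node (nat_lit 9685701) (BT.node (nat_lit 9685632) (BT.node (nat_lit 9685568) (BT.leaf (nat_lit 30361617)) (BT.leaf (nat_lit 45318165))) (BT.node (nat_lit 9685696) (BT.leaf (nat_lit 38742813)) (BT.leaf (nat_lit 48441365)))) (BT.node (nat_lit 9685824) (BT.node (nat_lit 9685760) (BT.leaf (nat_lit 704972)) (BT.leaf (nat_lit 40203269))) (BT.node (nat_lit 9685888) (BT.leaf (nat_lit 38333725)) (BT.leaf (nat_lit 31055133))))))))) (BT.node (nat_lit 9689600) (BT.node (nat_lit 9687808) (BT.node (nat_lit 9686848) (BT.node (nat_lit 9686336) (BT.node (nat_lit 9686080) (BT.node (nat_lit 9685956) (BT.node (nat_lit 9685954) (BT.leaf (nat_lit 32302613)) (BT.leaf (nat_lit 760272))) (BT.node (nat_lit 9686016) (BT.leaf (nat_lit 760272)) (BT.leaf (nat_lit 38256905)))) (BT.node (nat_lit 9686208) (BT.node (nat_lit 9686144) (BT.leaf (nat_lit 43968021)) (BT.leaf (nat_lit 41826325))) (BT.node (nat_lit 9686272) (BT.leaf (nat_lit 41024785)) (BT.leaf (nat_lit 41736477))))) (BT.node (nat_lit 9686592) (BT.node (nat_lit 9686464) (BT.node (nat_lit 9686400) (BT.leaf (nat_lit 27908113)) (BT.leaf (nat_lit 27902225))) (BT.node (nat_lit 9686528) (BT.leaf (nat_lit 38745609)) (BT.leaf (nat_lit 28812821)))) (BT.node (nat_lit 9686720) (BT.node (nat_lit 9686656) (BT.leaf (nat_lit 28812825)) (BT.leaf (nat_lit 28812829))) (BT.node (nat_lit 9686784) (BT.leaf (nat_lit 27907345)) (BT.leaf (nat_lit 51640077)))))) (BT.node (nat_lit 9687296) (BT.node (nat_lit 9687040) (BT.node (nat_lit 9686976) (BT.node (nat_lit 9686912) (BT.leaf (nat_lit 52137493)) (BT.leaf (nat_lit 37058325))) (BT.node (nat_lit 9686980) (BT.leaf (nat_lit 46880289)) (BT.leaf (nat_lit 773528)))) (BT.node (nat_lit 9687168) (BT.node (nat_lit 9687104) (BT.leaf (nat_lit 34181397)) (BT.leaf (nat_lit 40003605))) (BT.node (nat_lit 9687232) (BT.leaf (nat_lit 31362053)) (BT.leaf (nat_lit 39728417))))) (BT.node (nat_lit 9687552) (BT.node (nat_lit 9687424) (BT.node (nat_lit 9687360) (BT.leaf (nat_lit 29271585)) (BT.leaf (nat_lit 46510597))) (BT.node (nat_lit 9687488) (BT.leaf (nat_lit 38749465)) (BT.leaf (nat_lit 40012549)))) (BT.node (nat_lit 9687680) (BT.node (nat_lit 9687616) (BT.leaf (nat_lit 35278097)) (BT.leaf (nat_lit 38754821))) (BT.node (nat_lit 9687744) (BT.leaf (nat_lit 41259293)) (BT.leaf (nat_lit 34239505))))))) (BT.node (nat_lit 9688704) (BT.node (nat_lit 9688320) (BT.node (nat_lit 9688064) (BT.node (nat_lit 9687936) (BT.node (nat_lit 9687872) (BT.leaf (nat_lit 27915525)) (BT.leaf (nat_lit 34604809))) (BT.node (nat_lit 9688000) (BT.leaf (nat_lit 51033873)) (BT.leaf (nat_lit 34604825)))) (BT.node (nat_lit 9688192) (BT.node (nat_lit 9688128) (BT.leaf (nat_lit 34604829)) (BT.leaf (nat_lit 51033889))) (BT.node (nat_lit 9688256) (BT.leaf (nat_lit 27332893)) (BT.leaf (nat_lit 46517509))))) (BT.node (nat_lit 9688517) (BT.node (nat_lit 9688448) (BT.node (nat_lit 9688384) (BT.leaf (nat_lit 31428629)) (BT.leaf (nat_lit 27912721))) (BT.node (nat_lit 9688512) (BT.leaf (nat_lit 36196641)) (BT.leaf (nat_lit 31172633)))) (BT.node (nat_lit 9688581) (BT.node (nat_lit 9688576) (BT.leaf (nat_lit 760044)) (BT.leaf (nat_lit 31172637))) (BT.node (nat_lit 9688640) (BT.leaf (nat_lit 676004)) (BT.leaf (nat_lit 31351829)))))) (BT.node (nat_lit 9689216) (BT.node (nat_lit 9688960) (BT.node (nat_lit 9688832) (BT.node (nat_lit 9688768) (BT.leaf (nat_lit 37894681)) (BT.leaf (nat_lit 48961289))) (BT.node (nat_lit 9688896) (BT.leaf (nat_lit 36886793)) (BT.leaf (nat_lit 36886797)))) (BT.node (nat_lit 9689088) (BT.node (nat_lit 9689024) (BT.leaf (nat_lit 31509525)) (BT.leaf (nat_lit 49200661))) (BT.node (nat_lit 9689152) (BT.leaf (nat_lit 38756121)) (BT.leaf (nat_lit 36320533))))) (BT.node (nat_lit 9689350) (BT.node (nat_lit 9689344) (BT.node (nat_lit 9689280) (BT.leaf (nat_lit 51122185)) (BT.leaf (nat_lit 42536209))) (BT.node (nat_lit 9689345) (BT.leaf (nat_lit 41875745)) (BT.leaf (nat_lit 635608)))) (BT.node (nat_lit 9689472) (BT.node (nat_lit 9689408) (BT.leaf (nat_lit 635608)) (BT.leaf (nat_lit 27913757))) (BT.node (nat_lit 9689536) (BT.leaf (nat_lit 42613521)) (BT.leaf (nat_lit 40680213)))))))) (BT.node (nat_lit 9691266) (BT.node (nat_lit 9690432) (BT.node (nat_lit 9690112) (BT.node (nat_lit 9689856) (BT.node (nat_lit 9689728) (BT.node (nat_lit 9689664) (BT.leaf (nat_lit 27913753)) (BT.leaf (nat_lit 30693905))) (BT.node (nat_lit 9689792) (BT.leaf (nat_lit 34365973)) (BT.leaf (nat_lit 27914765)))) (BT.node (nat_lit 9689984) (BT.node (nat_lit 9689920) (BT.leaf (nat_lit 29085721)) (BT.leaf (nat_lit 29085729))) (BT.node (nat_lit 9690048) (BT.leaf (nat_lit 27914761)) (BT.leaf (nat_lit 28671521))))) (BT.node (nat_lit 9690240) (BT.node (nat_lit 9690176) (BT.node (nat_lit 9690116) (BT.leaf (nat_lit 43909141)) (BT.leaf (nat_lit 790132))) (BT.node (nat_lit 9690180) (BT.leaf (nat_lit 38587417)) (BT.leaf (nat_lit 685208)))) (BT.node (nat_lit 9690308) (BT.node (nat_lit 9690304) (BT.leaf (nat_lit 27915037)) (BT.leaf (nat_lit 41647377))) (BT.node (nat_lit 9690368) (BT.leaf (nat_lit 765996)) (BT.leaf (nat_lit 31498785)))))) (BT.node (nat_lit 9690944) (BT.node (nat_lit 9690688) (BT.node (nat_lit 9690560) (BT.node (nat_lit 9690496) (BT.leaf (nat_lit 27915033)) (BT.leaf (nat_lit 27918613))) (BT.node (nat_lit 9690624) (BT.leaf (nat_lit 37826825)) (BT.leaf (nat_lit 37826829)))) (BT.node (nat_lit 9690816) (BT.node (nat_lit 9690752) (BT.leaf (nat_lit 37826841)) (BT.leaf (nat_lit 37826845))) (BT.node (nat_lit 9690880) (BT.leaf (nat_lit 32790045)) (BT.leaf (nat_lit 46647065))))) (BT.node (nat_lit 9691072) (BT.node (nat_lit 9690949) (BT.node (nat_lit 9690947) (BT.leaf (nat_lit 44261921)) (BT.leaf (nat_lit 619760))) (BT.node (nat_lit 9691008) (BT.leaf (nat_lit 609012)) (BT.leaf (nat_lit 46648585)))) (BT.node (nat_lit 9691200) (BT.node (nat_lit 9691136) (BT.leaf (nat_lit 46516997)) (BT.leaf (nat_lit 27918097))) (BT.node (nat_lit 9691264) (BT.leaf (nat_lit 32944661)) (BT.leaf (nat_lit 39235333))))))) (BT.node (nat_lit 9692160) (BT.node (nat_lit 9691712) (BT.node (nat_lit 9691460) (BT.node (nat_lit 9691392) (BT.node (nat_lit 9691328) (BT.leaf (nat_lit 777224)) (BT.leaf (nat_lit 27917841))) (BT.node (nat_lit 9691456) (BT.leaf (nat_lit 48652313)) (BT.leaf (nat_lit 27900185)))) (BT.node (nat_lit 9691584) (BT.node (nat_lit 9691520) (BT.leaf (nat_lit 614056)) (BT.leaf (nat_lit 27918873))) (BT.node (nat_lit 9691648) (BT.leaf (nat_lit 39299345)) (BT.leaf (nat_lit 32756757))))) (BT.node (nat_lit 9691968) (BT.node (nat_lit 9691840) (BT.node (nat_lit 9691776) (BT.leaf (nat_lit 34575389)) (BT.leaf (nat_lit 27900189))) (BT.node (nat_lit 9691904) (BT.leaf (nat_lit 27918877)) (BT.leaf (nat_lit 29365781)))) (BT.node (nat_lit 9692037) (BT.node (nat_lit 9692032) (BT.leaf (nat_lit 42429969)) (BT.leaf (nat_lit 38768413))) (BT.node (nat_lit 9692096) (BT.leaf (nat_lit 706172)) (BT.leaf (nat_lit 32193033)))))) (BT.node (nat_lit 9692608) (BT.node (nat_lit 9692352) (BT.node (nat_lit 9692288) (BT.node (nat_lit 9692224) (BT.leaf (nat_lit 27919889)) (BT.leaf (nat_lit 30627601))) (BT.node (nat_lit 9692293) (BT.leaf (nat_lit 39794457)) (BT.leaf (nat_lit 613116)))) (BT.node (nat_lit 9692480) (BT.node (nat_lit 9692416) (BT.leaf (nat_lit 34235409)) (BT.leaf (nat_lit 28623385))) (BT.node (nat_lit 9692544) (BT.leaf (nat_lit 39706145)) (BT.leaf (nat_lit 39714585))))) (BT.node (nat_lit 9692864) (BT.node (nat_lit 9692736) (BT.node (nat_lit 9692672) (BT.leaf (nat_lit 27921689)) (BT.leaf (nat_lit 30176273))) (BT.node (nat_lit 9692800) (BT.leaf (nat_lit 29207829)) (BT.leaf (nat_lit 28097805)))) (BT.node (nat_lit 9692992) (BT.node (nat_lit 9692928) (BT.leaf (nat_lit 38739981)) (BT.leaf (nat_lit 32807713))) (BT.node (nat_lit 9693056) (BT.leaf (nat_lit 28097801)) (BT.leaf (nat_lit 38849561)))))))))) (BT.node (nat_lit 9700672) (BT.node (nat_lit 9696640) (BT.node (nat_lit 9694976) (BT.node (nat_lit 9694080) (BT.node (nat_lit 9693569) (BT.node (nat_lit 9693376) (BT.node (nat_lit 9693248) (BT.node (nat_lit 9693184) (BT.leaf (nat_lit 27923221)) (BT.leaf (nat_lit 28097817))) (BT.node (nat_lit 9693312) (BT.leaf (nat_lit 28097821)) (BT.leaf (nat_lit 37965593)))) (BT.node (nat_lit 9693504) (BT.node (nat_lit 9693440) (BT.leaf (nat_lit 31840273)) (BT.leaf (nat_lit 38738457))) (BT.node (nat_lit 9693568) (BT.leaf (nat_lit 48729885)) (BT.leaf (nat_lit 37957393))))) (BT.node (nat_lit 9693824) (BT.node (nat_lit 9693696) (BT.node (nat_lit 9693632) (BT.leaf (nat_lit 745452)) (BT.leaf (nat_lit 38740489))) (BT.node (nat_lit 9693760) (BT.leaf (nat_lit 37965601)) (BT.leaf (nat_lit 32400913)))) (BT.node (nat_lit 9693952) (BT.node (nat_lit 9693888) (BT.leaf (nat_lit 27663889)) (BT.leaf (nat_lit 43757589))) (BT.node (nat_lit 9694016) (BT.leaf (nat_lit 27665425)) (BT.leaf (nat_lit 27665429)))))) (BT.node (nat_lit 9694467) (BT.node (nat_lit 9694336) (BT.node (nat_lit 9694208) (BT.node (nat_lit 9694144) (BT.leaf (nat_lit 38738717)) (BT.leaf (nat_lit 41654289))) (BT.node (nat_lit 9694272) (BT.leaf (nat_lit 41654305)) (BT.leaf (nat_lit 36327449)))) (BT.node (nat_lit 9694464) (BT.node (nat_lit 9694400) (BT.leaf (nat_lit 27923481)) (BT.leaf (nat_lit 27903001))) (BT.node (nat_lit 9694466) (BT.leaf (nat_lit 27538453)) (BT.leaf (nat_lit 756664))))) (BT.node (nat_lit 9694724) (BT.node (nat_lit 9694656) (BT.node (nat_lit 9694592) (BT.leaf (nat_lit 756664)) (BT.leaf (nat_lit 48295705))) (BT.node (nat_lit 9694720) (BT.leaf (nat_lit 38741269)) (BT.leaf (nat_lit 40625693)))) (BT.node (nat_lit 9694848) (BT.node (nat_lit 9694784) (BT.leaf (nat_lit 705064)) (BT.leaf (nat_lit 42150941))) (BT.node (nat_lit 9694912) (BT.leaf (nat_lit 46522117)) (BT.leaf (nat_lit 30361113))))))) (BT.node (nat_lit 9695680) (BT.node (nat_lit 9695296) (BT.node (nat_lit 9695171) (BT.node (nat_lit 9695168) (BT.node (nat_lit 9695104) (BT.leaf (nat_lit 30361117)) (BT.leaf (nat_lit 38218005))) (BT.node (nat_lit 9695170) (BT.leaf (nat_lit 39246085)) (BT.leaf (nat_lit 706580)))) (BT.node (nat_lit 9695175) (BT.node (nat_lit 9695174) (BT.leaf (nat_lit 706580)) (BT.leaf (nat_lit 706580))) (BT.node (nat_lit 9695232) (BT.leaf (nat_lit 706580)) (BT.leaf (nat_lit 39249669))))) (BT.node (nat_lit 9695424) (BT.node (nat_lit 9695302) (BT.node (nat_lit 9695298) (BT.leaf (nat_lit 36785925)) (BT.leaf (nat_lit 801000))) (BT.node (nat_lit 9695360) (BT.leaf (nat_lit 801000)) (BT.leaf (nat_lit 29538325)))) (BT.node (nat_lit 9695552) (BT.node (nat_lit 9695488) (BT.leaf (nat_lit 34159893)) (BT.leaf (nat_lit 47679513))) (BT.node (nat_lit 9695616) (BT.leaf (nat_lit 29971465)) (BT.leaf (nat_lit 48537633)))))) (BT.node (nat_lit 9696192) (BT.node (nat_lit 9695936) (BT.node (nat_lit 9695808) (BT.node (nat_lit 9695744) (BT.leaf (nat_lit 42688289)) (BT.leaf (nat_lit 27926033))) (BT.node (nat_lit 9695872) (BT.leaf (nat_lit 27925777)) (BT.leaf (nat_lit 32090629)))) (BT.node (nat_lit 9696064) (BT.node (nat_lit 9696000) (BT.leaf (nat_lit 49899037)) (BT.leaf (nat_lit 52336673))) (BT.node (nat_lit 9696128) (BT.leaf (nat_lit 38784541)) (BT.leaf (nat_lit 33231125))))) (BT.node (nat_lit 9696448) (BT.node (nat_lit 9696320) (BT.node (nat_lit 9696256) (BT.leaf (nat_lit 52244501)) (BT.leaf (nat_lit 27926801))) (BT.node (nat_lit 9696384) (BT.leaf (nat_lit 27926545)) (BT.leaf (nat_lit 27926289)))) (BT.node (nat_lit 9696576) (BT.node (nat_lit 9696512) (BT.leaf (nat_lit 45625605)) (BT.leaf (nat_lit 39371809))) (BT.node (nat_lit 9696578) (BT.leaf (nat_lit 41830661)) (BT.leaf (nat_lit 742120)))))))) (BT.node (nat_lit 9698688) (BT.node (nat_lit 9697664) (BT.node (nat_lit 9697152) (BT.node (nat_lit 9696896) (BT.node (nat_lit 9696768) (BT.node (nat_lit 9696704) (BT.leaf (nat_lit 33792773)) (BT.leaf (nat_lit 33792777))) (BT.node (nat_lit 9696832) (BT.leaf (nat_lit 33792781)) (BT.leaf (nat_lit 33792793)))) (BT.node (nat_lit 9697024) (BT.node (nat_lit 9696960) (BT.leaf (nat_lit 33792797)) (BT.leaf (nat_lit 33792801))) (BT.node (nat_lit 9697088) (BT.leaf (nat_lit 33414673)) (BT.leaf (nat_lit 49376033))))) (BT.node (nat_lit 9697408) (BT.node (nat_lit 9697280) (BT.node (nat_lit 9697216) (BT.leaf (nat_lit 40669957)) (BT.leaf (nat_lit 32664865))) (BT.node (nat_lit 9697344) (BT.leaf (nat_lit 40876825)) (BT.leaf (nat_lit 38811677)))) (BT.node (nat_lit 9697536) (BT.node (nat_lit 9697472) (BT.leaf (nat_lit 28384273)) (BT.leaf (nat_lit 28384277))) (BT.node (nat_lit 9697600) (BT.leaf (nat_lit 39692549)) (BT.leaf (nat_lit 27929873)))))) (BT.node (nat_lit 9698176) (BT.node (nat_lit 9697920) (BT.node (nat_lit 9697792) (BT.node (nat_lit 9697728) (BT.leaf (nat_lit 42274825)) (BT.leaf (nat_lit 46708997))) (BT.node (nat_lit 9697856) (BT.leaf (nat_lit 37925653)) (BT.leaf (nat_lit 27930373)))) (BT.node (nat_lit 9698048) (BT.node (nat_lit 9697984) (BT.leaf (nat_lit 46665737)) (BT.leaf (nat_lit 31513877))) (BT.node (nat_lit 9698112) (BT.leaf (nat_lit 31513881)) (BT.leaf (nat_lit 31513885))))) (BT.node (nat_lit 9698432) (BT.node (nat_lit 9698304) (BT.node (nat_lit 9698240) (BT.leaf (nat_lit 29695517)) (BT.leaf (nat_lit 29695265))) (BT.node (nat_lit 9698368) (BT.leaf (nat_lit 27938837)) (BT.leaf (nat_lit 33237793)))) (BT.node (nat_lit 9698560) (BT.node (nat_lit 9698496) (BT.leaf (nat_lit 33237537)) (BT.leaf (nat_lit 33015573))) (BT.node (nat_lit 9698624) (BT.leaf (nat_lit 40165637)) (BT.leaf (nat_lit 27933201))))))) (BT.node (nat_lit 9699712) (BT.node (nat_lit 9699200) (BT.node (nat_lit 9698944) (BT.node (nat_lit 9698816) (BT.node (nat_lit 9698752) (BT.leaf (nat_lit 29202709)) (BT.leaf (nat_lit 31909653))) (BT.node (nat_lit 9698880) (BT.leaf (nat_lit 27933713)) (BT.leaf (nat_lit 45904141)))) (BT.node (nat_lit 9699072) (BT.node (nat_lit 9699008) (BT.leaf (nat_lit 47259425)) (BT.leaf (nat_lit 49371401))) (BT.node (nat_lit 9699136) (BT.leaf (nat_lit 38371617)) (BT.leaf (nat_lit 30720793))))) (BT.node (nat_lit 9699456) (BT.node (nat_lit 9699328) (BT.node (nat_lit 9699264) (BT.leaf (nat_lit 30720797)) (BT.leaf (nat_lit 32540421))) (BT.node (nat_lit 9699392) (BT.leaf (nat_lit 38411797)) (BT.leaf (nat_lit 44167713)))) (BT.node (nat_lit 9699584) (BT.node (nat_lit 9699520) (BT.leaf (nat_lit 43551753)) (BT.leaf (nat_lit 46070557))) (BT.node (nat_lit 9699648) (BT.leaf (nat_lit 44056865)) (BT.leaf (nat_lit 47802389)))))) (BT.node (nat_lit 9700165) (BT.node (nat_lit 9699968) (BT.node (nat_lit 9699840) (BT.node (nat_lit 9699776) (BT.leaf (nat_lit 38798601)) (BT.leaf (nat_lit 32854545))) (BT.node (nat_lit 9699904) (BT.leaf (nat_lit 38674453)) (BT.leaf (nat_lit 38084621)))) (BT.node (nat_lit 9700096) (BT.node (nat_lit 9700032) (BT.leaf (nat_lit 32854561)) (BT.leaf (nat_lit 31713037))) (BT.node (nat_lit 9700160) (BT.leaf (nat_lit 38083865)) (BT.leaf (nat_lit 45338117))))) (BT.node (nat_lit 9700416) (BT.node (nat_lit 9700288) (BT.node (nat_lit 9700224) (BT.leaf (nat_lit 719908)) (BT.leaf (nat_lit 32854809))) (BT.node (nat_lit 9700352) (BT.leaf (nat_lit 46965521)) (BT.leaf (nat_lit 28384773)))) (BT.node (nat_lit 9700544) (BT.node (nat_lit 9700480) (BT.leaf (nat_lit 48110085)) (BT.leaf (nat_lit 46955545))) (BT.node (nat_lit 9700608) (BT.leaf (nat_lit 29897493)) (BT.leaf (nat_lit 38426133))))))))) (BT.node (nat_lit 9704576) (BT.node (nat_lit 9702656) (BT.node (nat_lit 9701632) (BT.node (nat_lit 9701128) (BT.node (nat_lit 9700928) (BT.node (nat_lit 9700800) (BT.node (nat_lit 9700736) (BT.leaf (nat_lit 27937553)) (BT.leaf (nat_lit 39279133))) (BT.node (nat_lit 9700864) (BT.leaf (nat_lit 27943429)) (BT.leaf (nat_lit 39725345)))) (BT.node (nat_lit 9701056) (BT.node (nat_lit 9700992) (BT.leaf (nat_lit 38802205)) (BT.leaf (nat_lit 29079825))) (BT.node (nat_lit 9701120) (BT.leaf (nat_lit 29756437)) (BT.leaf (nat_lit 30444569))))) (BT.node (nat_lit 9701376) (BT.node (nat_lit 9701248) (BT.node (nat_lit 9701184) (BT.leaf (nat_lit 668244)) (BT.leaf (nat_lit 30088721))) (BT.node (nat_lit 9701312) (BT.leaf (nat_lit 31447573)) (BT.leaf (nat_lit 30959897)))) (BT.node (nat_lit 9701504) (BT.node (nat_lit 9701440) (BT.leaf (nat_lit 30959901)) (BT.leaf (nat_lit 44146709))) (BT.node (nat_lit 9701568) (BT.leaf (nat_lit 30958881)) (BT.leaf (nat_lit 39545373)))))) (BT.node (nat_lit 9702144) (BT.node (nat_lit 9701888) (BT.node (nat_lit 9701760) (BT.node (nat_lit 9701696) (BT.leaf (nat_lit 30959129)) (BT.leaf (nat_lit 30959133))) (BT.node (nat_lit 9701824) (BT.leaf (nat_lit 30958865)) (BT.leaf (nat_lit 42059033)))) (BT.node (nat_lit 9702016) (BT.node (nat_lit 9701952) (BT.leaf (nat_lit 41270557)) (BT.leaf (nat_lit 41271569))) (BT.node (nat_lit 9702080) (BT.leaf (nat_lit 29920277)) (BT.leaf (nat_lit 45465873))))) (BT.node (nat_lit 9702400) (BT.node (nat_lit 9702272) (BT.node (nat_lit 9702208) (BT.leaf (nat_lit 49905181)) (BT.leaf (nat_lit 38422037))) (BT.node (nat_lit 9702336) (BT.leaf (nat_lit 46371353)) (BT.leaf (nat_lit 31559189)))) (BT.node (nat_lit 9702528) (BT.node (nat_lit 9702464) (BT.leaf (nat_lit 40182277)) (BT.leaf (nat_lit 27939857))) (BT.node (nat_lit 9702592) (BT.leaf (nat_lit 41391393)) (BT.leaf (nat_lit 49357061))))))) (BT.node (nat_lit 9703552) (BT.node (nat_lit 9703168) (BT.node (nat_lit 9702912) (BT.node (nat_lit 9702784) (BT.node (nat_lit 9702720) (BT.leaf (nat_lit 29922333)) (BT.leaf (nat_lit 46962973))) (BT.node (nat_lit 9702848) (BT.leaf (nat_lit 51347473)) (BT.leaf (nat_lit 38187025)))) (BT.node (nat_lit 9703040) (BT.node (nat_lit 9702976) (BT.leaf (nat_lit 46962953)) (BT.leaf (nat_lit 38187041))) (BT.node (nat_lit 9703104) (BT.leaf (nat_lit 29182213)) (BT.leaf (nat_lit 29182233))))) (BT.node (nat_lit 9703424) (BT.node (nat_lit 9703296) (BT.node (nat_lit 9703232) (BT.leaf (nat_lit 39486725)) (BT.leaf (nat_lit 27940633))) (BT.node (nat_lit 9703360) (BT.leaf (nat_lit 28524065)) (BT.leaf (nat_lit 27940129)))) (BT.node (nat_lit 9703488) (BT.node (nat_lit 9703428) (BT.leaf (nat_lit 29922329)) (BT.leaf (nat_lit 693728))) (BT.node (nat_lit 9703492) (BT.leaf (nat_lit 28519949)) (BT.leaf (nat_lit 767340)))))) (BT.node (nat_lit 9704064) (BT.node (nat_lit 9703808) (BT.node (nat_lit 9703680) (BT.node (nat_lit 9703616) (BT.leaf (nat_lit 29921045)) (BT.leaf (nat_lit 27940117))) (BT.node (nat_lit 9703744) (BT.leaf (nat_lit 28519969)) (BT.leaf (nat_lit 40865797)))) (BT.node (nat_lit 9703936) (BT.node (nat_lit 9703872) (BT.leaf (nat_lit 46656277)) (BT.leaf (nat_lit 30937605))) (BT.node (nat_lit 9704000) (BT.leaf (nat_lit 27940881)) (BT.leaf (nat_lit 30937625))))) (BT.node (nat_lit 9704320) (BT.node (nat_lit 9704192) (BT.node (nat_lit 9704128) (BT.leaf (nat_lit 30937629)) (BT.leaf (nat_lit 27940889))) (BT.node (nat_lit 9704256) (BT.leaf (nat_lit 46655257)) (BT.leaf (nat_lit 27940897)))) (BT.node (nat_lit 9704448) (BT.node (nat_lit 9704384) (BT.leaf (nat_lit 31518497)) (BT.leaf (nat_lit 27941153))) (BT.node (nat_lit 9704512) (BT.leaf (nat_lit 41413641)) (BT.leaf (nat_lit 48825365)))))))) (BT.node (nat_lit 9706304) (BT.node (nat_lit 9705408) (BT.node (nat_lit 9704896) (BT.node (nat_lit 9704704) (BT.node (nat_lit 9704580) (BT.node (nat_lit 9704579) (BT.leaf (nat_lit 32798241)) (BT.leaf (nat_lit 716032))) (BT.node (nat_lit 9704640) (BT.leaf (nat_lit 690276)) (BT.leaf (nat_lit 42750725)))) (BT.node (nat_lit 9704832) (BT.node (nat_lit 9704768) (BT.leaf (nat_lit 42065181)) (BT.leaf (nat_lit 42062101))) (BT.node (nat_lit 9704837) (BT.leaf (nat_lit 45461793)) (BT.leaf (nat_lit 657276))))) (BT.node (nat_lit 9705152) (BT.node (nat_lit 9705024) (BT.node (nat_lit 9704960) (BT.leaf (nat_lit 42755617)) (BT.leaf (nat_lit 39496481))) (BT.node (nat_lit 9705088) (BT.leaf (nat_lit 47741977)) (BT.leaf (nat_lit 43180293)))) (BT.node (nat_lit 9705280) (BT.node (nat_lit 9705216) (BT.leaf (nat_lit 43180305)) (BT.leaf (nat_lit 43180309))) (BT.node (nat_lit 9705344) (BT.leaf (nat_lit 27616017)) (BT.leaf (nat_lit 48439841)))))) (BT.node (nat_lit 9705856) (BT.node (nat_lit 9705600) (BT.node (nat_lit 9705536) (BT.node (nat_lit 9705472) (BT.leaf (nat_lit 30125581)) (BT.leaf (nat_lit 30123805))) (BT.node (nat_lit 9705541) (BT.leaf (nat_lit 32990469)) (BT.leaf (nat_lit 661440)))) (BT.node (nat_lit 9705728) (BT.node (nat_lit 9705664) (BT.leaf (nat_lit 49371425)) (BT.leaf (nat_lit 45460001))) (BT.node (nat_lit 9705792) (BT.leaf (nat_lit 29867541)) (BT.leaf (nat_lit 38823453))))) (BT.node (nat_lit 9706053) (BT.node (nat_lit 9705984) (BT.node (nat_lit 9705920) (BT.leaf (nat_lit 30122501)) (BT.leaf (nat_lit 41798665))) (BT.node (nat_lit 9706048) (BT.leaf (nat_lit 37982997)) (BT.leaf (nat_lit 28032273)))) (BT.node (nat_lit 9706176) (BT.node (nat_lit 9706112) (BT.leaf (nat_lit 608708)) (BT.leaf (nat_lit 30125601))) (BT.node (nat_lit 9706240) (BT.leaf (nat_lit 30125573)) (BT.leaf (nat_lit 42052361))))))) (BT.node (nat_lit 9707328) (BT.node (nat_lit 9706816) (BT.node (nat_lit 9706560) (BT.node (nat_lit 9706432) (BT.node (nat_lit 9706368) (BT.leaf (nat_lit 42050841)) (BT.leaf (nat_lit 30122513))) (BT.node (nat_lit 9706496) (BT.leaf (nat_lit 30122517)) (BT.leaf (nat_lit 32550917)))) (BT.node (nat_lit 9706688) (BT.node (nat_lit 9706624) (BT.leaf (nat_lit 32550921)) (BT.leaf (nat_lit 32550925))) (BT.node (nat_lit 9706752) (BT.leaf (nat_lit 27943441)) (BT.leaf (nat_lit 32550937))))) (BT.node (nat_lit 9707072) (BT.node (nat_lit 9706944) (BT.node (nat_lit 9706880) (BT.leaf (nat_lit 32550941)) (BT.leaf (nat_lit 27942941))) (BT.node (nat_lit 9706948) (BT.leaf (nat_lit 48665889)) (BT.leaf (nat_lit 689988)))) (BT.node (nat_lit 9707200) (BT.node (nat_lit 9707136) (BT.leaf (nat_lit 48666401)) (BT.leaf (nat_lit 48666145))) (BT.node (nat_lit 9707264) (BT.leaf (nat_lit 41798409)) (BT.leaf (nat_lit 42053385)))))) (BT.node (nat_lit 9707840) (BT.node (nat_lit 9707584) (BT.node (nat_lit 9707456) (BT.node (nat_lit 9707392) (BT.leaf (nat_lit 27944209)) (BT.leaf (nat_lit 27944465))) (BT.node (nat_lit 9707520) (BT.leaf (nat_lit 35006229)) (BT.leaf (nat_lit 35006729)))) (BT.node (nat_lit 9707712) (BT.node (nat_lit 9707648) (BT.leaf (nat_lit 35006237)) (BT.leaf (nat_lit 27354385))) (BT.node (nat_lit 9707776) (BT.leaf (nat_lit 30080533)) (BT.leaf (nat_lit 30080537))))) (BT.node (nat_lit 9708096) (BT.node (nat_lit 9707968) (BT.node (nat_lit 9707904) (BT.leaf (nat_lit 30080541)) (BT.leaf (nat_lit 30533893))) (BT.node (nat_lit 9708032) (BT.leaf (nat_lit 30377753)) (BT.leaf (nat_lit 30377757)))) (BT.node (nat_lit 9708224) (BT.node (nat_lit 9708160) (BT.leaf (nat_lit 27945489)) (BT.leaf (nat_lit 38832909))) (BT.node (nat_lit 9708288) (BT.leaf (nat_lit 47742741)) (BT.leaf (nat_lit 30533905)))))))))))) (BT.node (nat_lit 9738304) (BT.node (nat_lit 9723456) (BT.node (nat_lit 9716352) (BT.node (nat_lit 9712448) (BT.node (nat_lit 9710400) (BT.node (nat_lit 9709376) (BT.node (nat_lit 9708864) (BT.node (nat_lit 9708608) (BT.node (nat_lit 9708480) (BT.node (nat_lit 9708416) (BT.leaf (nat_lit 30533913)) (BT.leaf (nat_lit 30533917))) (BT.node (nat_lit 9708544) (BT.leaf (nat_lit 30059801)) (BT.leaf (nat_lit 28527377)))) (BT.node (nat_lit 9708736) (BT.node (nat_lit 9708672) (BT.leaf (nat_lit 47743001)) (BT.leaf (nat_lit 31525137))) (BT.node (nat_lit 9708800) (BT.leaf (nat_lit 31525141)) (BT.leaf (nat_lit 27946517))))) (BT.node (nat_lit 9709120) (BT.node (nat_lit 9708992) (BT.node (nat_lit 9708928) (BT.leaf (nat_lit 50353417)) (BT.leaf (nat_lit 50353421))) (BT.node (nat_lit 9709056) (BT.leaf (nat_lit 33238805)) (BT.leaf (nat_lit 50353433)))) (BT.node (nat_lit 9709248) (BT.node (nat_lit 9709184) (BT.leaf (nat_lit 50353437)) (BT.leaf (nat_lit 31534613))) (BT.node (nat_lit 9709312) (BT.leaf (nat_lit 28376857)) (BT.leaf (nat_lit 50733601)))))) (BT.node (nat_lit 9709888) (BT.node (nat_lit 9709632) (BT.node (nat_lit 9709504) (BT.node (nat_lit 9709440) (BT.leaf (nat_lit 31514645)) (BT.leaf (nat_lit 27947549))) (BT.node (nat_lit 9709568) (BT.leaf (nat_lit 50733345)) (BT.leaf (nat_lit 31514133)))) (BT.node (nat_lit 9709760) (BT.node (nat_lit 9709696) (BT.leaf (nat_lit 27947545)) (BT.leaf (nat_lit 38839053))) (BT.node (nat_lit 9709824) (BT.leaf (nat_lit 47805725)) (BT.leaf (nat_lit 47805705))))) (BT.node (nat_lit 9710144) (BT.node (nat_lit 9710016) (BT.node (nat_lit 9709952) (BT.leaf (nat_lit 38839321)) (BT.leaf (nat_lit 52002337))) (BT.node (nat_lit 9710080) (BT.leaf (nat_lit 39462689)) (BT.leaf (nat_lit 46891525)))) (BT.node (nat_lit 9710272) (BT.node (nat_lit 9710208) (BT.leaf (nat_lit 49200645)) (BT.leaf (nat_lit 49200649))) (BT.node (nat_lit 9710336) (BT.leaf (nat_lit 27950865)) (BT.leaf (nat_lit 30950169))))))) (BT.node (nat_lit 9711424) (BT.node (nat_lit 9710912) (BT.node (nat_lit 9710656) (BT.node (nat_lit 9710528) (BT.node (nat_lit 9710464) (BT.leaf (nat_lit 30950173)) (BT.leaf (nat_lit 27950881))) (BT.node (nat_lit 9710592) (BT.leaf (nat_lit 27951137)) (BT.leaf (nat_lit 27951649)))) (BT.node (nat_lit 9710784) (BT.node (nat_lit 9710720) (BT.leaf (nat_lit 27951393)) (BT.leaf (nat_lit 27932177))) (BT.node (nat_lit 9710848) (BT.leaf (nat_lit 30951957)) (BT.leaf (nat_lit 42338309))))) (BT.node (nat_lit 9711168) (BT.node (nat_lit 9711040) (BT.node (nat_lit 9710976) (BT.leaf (nat_lit 31172373)) (BT.leaf (nat_lit 31172381))) (BT.node (nat_lit 9711104) (BT.leaf (nat_lit 40597533)) (BT.leaf (nat_lit 39462681)))) (BT.node (nat_lit 9711296) (BT.node (nat_lit 9711232) (BT.leaf (nat_lit 42070025)) (BT.leaf (nat_lit 27928593))) (BT.node (nat_lit 9711360) (BT.leaf (nat_lit 34429461)) (BT.leaf (nat_lit 34429465)))))) (BT.node (nat_lit 9711936) (BT.node (nat_lit 9711680) (BT.node (nat_lit 9711552) (BT.node (nat_lit 9711488) (BT.leaf (nat_lit 34429469)) (BT.leaf (nat_lit 38838025))) (BT.node (nat_lit 9711616) (BT.leaf (nat_lit 38838029)) (BT.leaf (nat_lit 31518997)))) (BT.node (nat_lit 9711808) (BT.node (nat_lit 9711744) (BT.leaf (nat_lit 38838049)) (BT.leaf (nat_lit 28243737))) (BT.node (nat_lit 9711872) (BT.leaf (nat_lit 51545605)) (BT.leaf (nat_lit 27929113))))) (BT.node (nat_lit 9712192) (BT.node (nat_lit 9712064) (BT.node (nat_lit 9712000) (BT.leaf (nat_lit 28044305)) (BT.leaf (nat_lit 28044309))) (BT.node (nat_lit 9712128) (BT.leaf (nat_lit 49906181)) (BT.leaf (nat_lit 27957009)))) (BT.node (nat_lit 9712320) (BT.node (nat_lit 9712256) (BT.leaf (nat_lit 38873357)) (BT.leaf (nat_lit 45215777))) (BT.node (nat_lit 9712384) (BT.leaf (nat_lit 39646217)) (BT.leaf (nat_lit 46736161)))))))) (BT.node (nat_lit 9714432) (BT.node (nat_lit 9713472) (BT.node (nat_lit 9712960) (BT.node (nat_lit 9712704) (BT.node (nat_lit 9712576) (BT.node (nat_lit 9712512) (BT.leaf (nat_lit 39726617)) (BT.leaf (nat_lit 46722837))) (BT.node (nat_lit 9712640) (BT.leaf (nat_lit 36201493)) (BT.leaf (nat_lit 29178629)))) (BT.node (nat_lit 9712832) (BT.node (nat_lit 9712768) (BT.leaf (nat_lit 47854873)) (BT.leaf (nat_lit 47854357))) (BT.node (nat_lit 9712896) (BT.leaf (nat_lit 27959569)) (BT.leaf (nat_lit 38861345))))) (BT.node (nat_lit 9713216) (BT.node (nat_lit 9713088) (BT.node (nat_lit 9713024) (BT.leaf (nat_lit 40642061)) (BT.leaf (nat_lit 31319065))) (BT.node (nat_lit 9713152) (BT.leaf (nat_lit 29867281)) (BT.leaf (nat_lit 28114197)))) (BT.node (nat_lit 9713344) (BT.node (nat_lit 9713280) (BT.leaf (nat_lit 28114201)) (BT.leaf (nat_lit 28114205))) (BT.node (nat_lit 9713408) (BT.leaf (nat_lit 33837845)) (BT.leaf (nat_lit 34126601)))))) (BT.node (nat_lit 9713928) (BT.node (nat_lit 9713728) (BT.node (nat_lit 9713600) (BT.node (nat_lit 9713536) (BT.leaf (nat_lit 47151881)) (BT.leaf (nat_lit 38944789))) (BT.node (nat_lit 9713664) (BT.leaf (nat_lit 38854153)) (BT.leaf (nat_lit 51751185)))) (BT.node (nat_lit 9713856) (BT.node (nat_lit 9713792) (BT.leaf (nat_lit 29330181)) (BT.leaf (nat_lit 31879957))) (BT.node (nat_lit 9713920) (BT.leaf (nat_lit 29331489)) (BT.leaf (nat_lit 30232081))))) (BT.node (nat_lit 9714176) (BT.node (nat_lit 9714048) (BT.node (nat_lit 9713984) (BT.leaf (nat_lit 806988)) (BT.leaf (nat_lit 34888721))) (BT.node (nat_lit 9714112) (BT.leaf (nat_lit 47859229)) (BT.leaf (nat_lit 27960857)))) (BT.node (nat_lit 9714304) (BT.node (nat_lit 9714240) (BT.leaf (nat_lit 38856989)) (BT.leaf (nat_lit 43337485))) (BT.node (nat_lit 9714368) (BT.leaf (nat_lit 49562393)) (BT.leaf (nat_lit 41458441))))))) (BT.node (nat_lit 9715456) (BT.node (nat_lit 9714944) (BT.node (nat_lit 9714688) (BT.node (nat_lit 9714560) (BT.node (nat_lit 9714496) (BT.leaf (nat_lit 41334305)) (BT.leaf (nat_lit 41452041))) (BT.node (nat_lit 9714624) (BT.leaf (nat_lit 27962649)) (BT.leaf (nat_lit 32818449)))) (BT.node (nat_lit 9714816) (BT.node (nat_lit 9714752) (BT.leaf (nat_lit 39790597)) (BT.leaf (nat_lit 42121493))) (BT.node (nat_lit 9714880) (BT.leaf (nat_lit 28392737)) (BT.leaf (nat_lit 34060833))))) (BT.node (nat_lit 9715200) (BT.node (nat_lit 9715072) (BT.node (nat_lit 9715008) (BT.leaf (nat_lit 45557521)) (BT.leaf (nat_lit 32970757))) (BT.node (nat_lit 9715136) (BT.leaf (nat_lit 38405145)) (BT.leaf (nat_lit 27963673)))) (BT.node (nat_lit 9715328) (BT.node (nat_lit 9715264) (BT.leaf (nat_lit 46191121)) (BT.leaf (nat_lit 49502489))) (BT.node (nat_lit 9715392) (BT.leaf (nat_lit 33246229)) (BT.leaf (nat_lit 32654881)))))) (BT.node (nat_lit 9715904) (BT.node (nat_lit 9715712) (BT.node (nat_lit 9715584) (BT.node (nat_lit 9715520) (BT.leaf (nat_lit 32652577)) (BT.leaf (nat_lit 28812305))) (BT.node (nat_lit 9715648) (BT.leaf (nat_lit 39729693)) (BT.leaf (nat_lit 29511689)))) (BT.node (nat_lit 9715779) (BT.node (nat_lit 9715776) (BT.leaf (nat_lit 33798173)) (BT.leaf (nat_lit 32760097))) (BT.node (nat_lit 9715840) (BT.leaf (nat_lit 646272)) (BT.leaf (nat_lit 33798153))))) (BT.node (nat_lit 9716160) (BT.node (nat_lit 9716032) (BT.node (nat_lit 9715968) (BT.leaf (nat_lit 29511709)) (BT.leaf (nat_lit 48665633))) (BT.node (nat_lit 9716096) (BT.leaf (nat_lit 36903957)) (BT.leaf (nat_lit 49210385)))) (BT.node (nat_lit 9716224) (BT.node (nat_lit 9716165) (BT.leaf (nat_lit 27964945)) (BT.leaf (nat_lit 813036))) (BT.node (nat_lit 9716288) (BT.leaf (nat_lit 27965201)) (BT.leaf (nat_lit 30616341))))))))) (BT.node (nat_lit 9719424) (BT.node (nat_lit 9717760) (BT.node (nat_lit 9717064) (BT.node (nat_lit 9716736) (BT.node (nat_lit 9716480) (BT.node (nat_lit 9716418) (BT.node (nat_lit 9716416) (BT.leaf (nat_lit 50954757)) (BT.leaf (nat_lit 38120209))) (BT.node (nat_lit 9716423) (BT.leaf (nat_lit 705896)) (BT.leaf (nat_lit 609292)))) (BT.node (nat_lit 9716608) (BT.node (nat_lit 9716544) (BT.leaf (nat_lit 31859473)) (BT.leaf (nat_lit 47301921))) (BT.node (nat_lit 9716672) (BT.leaf (nat_lit 31800345)) (BT.leaf (nat_lit 31800349))))) (BT.node (nat_lit 9716992) (BT.node (nat_lit 9716864) (BT.node (nat_lit 9716800) (BT.leaf (nat_lit 30328581)) (BT.leaf (nat_lit 38850849))) (BT.node (nat_lit 9716928) (BT.leaf (nat_lit 38721313)) (BT.leaf (nat_lit 36408081)))) (BT.node (nat_lit 9716996) (BT.node (nat_lit 9716993) (BT.leaf (nat_lit 31394069)) (BT.leaf (nat_lit 648208))) (BT.node (nat_lit 9717056) (BT.leaf (nat_lit 648208)) (BT.leaf (nat_lit 50893337)))))) (BT.node (nat_lit 9717380) (BT.node (nat_lit 9717252) (BT.node (nat_lit 9717184) (BT.node (nat_lit 9717120) (BT.leaf (nat_lit 706240)) (BT.leaf (nat_lit 48092705))) (BT.node (nat_lit 9717248) (BT.leaf (nat_lit 43050273)) (BT.leaf (nat_lit 28397829)))) (BT.node (nat_lit 9717316) (BT.node (nat_lit 9717312) (BT.leaf (nat_lit 750700)) (BT.leaf (nat_lit 29923101))) (BT.node (nat_lit 9717376) (BT.leaf (nat_lit 721584)) (BT.leaf (nat_lit 31624985))))) (BT.node (nat_lit 9717568) (BT.node (nat_lit 9717440) (BT.node (nat_lit 9717384) (BT.leaf (nat_lit 665660)) (BT.leaf (nat_lit 665660))) (BT.node (nat_lit 9717504) (BT.leaf (nat_lit 40239633)) (BT.leaf (nat_lit 43653137)))) (BT.node (nat_lit 9717696) (BT.node (nat_lit 9717632) (BT.leaf (nat_lit 39524869)) (BT.leaf (nat_lit 39525665))) (BT.node (nat_lit 9717700) (BT.leaf (nat_lit 41060129)) (BT.leaf (nat_lit 714776))))))) (BT.node (nat_lit 9718720) (BT.node (nat_lit 9718208) (BT.node (nat_lit 9717952) (BT.node (nat_lit 9717888) (BT.node (nat_lit 9717824) (BT.leaf (nat_lit 32941069)) (BT.leaf (nat_lit 27967765))) (BT.node (nat_lit 9717892) (BT.leaf (nat_lit 44402697)) (BT.leaf (nat_lit 710816)))) (BT.node (nat_lit 9718080) (BT.node (nat_lit 9718016) (BT.leaf (nat_lit 44095521)) (BT.leaf (nat_lit 48679429))) (BT.node (nat_lit 9718144) (BT.leaf (nat_lit 40420117)) (BT.leaf (nat_lit 48832533))))) (BT.node (nat_lit 9718464) (BT.node (nat_lit 9718336) (BT.node (nat_lit 9718272) (BT.leaf (nat_lit 41406213)) (BT.leaf (nat_lit 42986785))) (BT.node (nat_lit 9718400) (BT.leaf (nat_lit 43578389)) (BT.leaf (nat_lit 41406729)))) (BT.node (nat_lit 9718592) (BT.node (nat_lit 9718528) (BT.leaf (nat_lit 44096517)) (BT.leaf (nat_lit 31132689))) (BT.node (nat_lit 9718656) (BT.leaf (nat_lit 27969033)) (BT.leaf (nat_lit 43710989)))))) (BT.node (nat_lit 9718980) (BT.node (nat_lit 9718855) (BT.node (nat_lit 9718848) (BT.node (nat_lit 9718784) (BT.leaf (nat_lit 44097029)) (BT.leaf (nat_lit 38703125))) (BT.node (nat_lit 9718854) (BT.leaf (nat_lit 39550213)) (BT.leaf (nat_lit 707512)))) (BT.node (nat_lit 9718919) (BT.node (nat_lit 9718912) (BT.leaf (nat_lit 707512)) (BT.leaf (nat_lit 45425953))) (BT.node (nat_lit 9718976) (BT.leaf (nat_lit 682920)) (BT.leaf (nat_lit 38168081))))) (BT.node (nat_lit 9719232) (BT.node (nat_lit 9719104) (BT.node (nat_lit 9719040) (BT.leaf (nat_lit 818920)) (BT.leaf (nat_lit 33248533))) (BT.node (nat_lit 9719168) (BT.leaf (nat_lit 42316813)) (BT.leaf (nat_lit 39311389)))) (BT.node (nat_lit 9719296) (BT.node (nat_lit 9719236) (BT.leaf (nat_lit 31803925)) (BT.leaf (nat_lit 772836))) (BT.node (nat_lit 9719360) (BT.leaf (nat_lit 27971345)) (BT.leaf (nat_lit 27971089)))))))) (BT.node (nat_lit 9721472) (BT.node (nat_lit 9720448) (BT.node (nat_lit 9719936) (BT.node (nat_lit 9719680) (BT.node (nat_lit 9719552) (BT.node (nat_lit 9719488) (BT.leaf (nat_lit 28800021)) (BT.leaf (nat_lit 50556193))) (BT.node (nat_lit 9719616) (BT.leaf (nat_lit 40161285)) (BT.leaf (nat_lit 27588885)))) (BT.node (nat_lit 9719808) (BT.node (nat_lit 9719744) (BT.leaf (nat_lit 36833057)) (BT.leaf (nat_lit 50202373))) (BT.node (nat_lit 9719872) (BT.leaf (nat_lit 28128545)) (BT.leaf (nat_lit 39650569))))) (BT.node (nat_lit 9720192) (BT.node (nat_lit 9720064) (BT.node (nat_lit 9720000) (BT.leaf (nat_lit 51290901)) (BT.leaf (nat_lit 30390801))) (BT.node (nat_lit 9720128) (BT.leaf (nat_lit 41136401)) (BT.leaf (nat_lit 39656213)))) (BT.node (nat_lit 9720320) (BT.node (nat_lit 9720256) (BT.leaf (nat_lit 46725893)) (BT.leaf (nat_lit 29982493))) (BT.node (nat_lit 9720384) (BT.leaf (nat_lit 50476817)) (BT.leaf (nat_lit 28306449)))))) (BT.node (nat_lit 9720960) (BT.node (nat_lit 9720704) (BT.node (nat_lit 9720576) (BT.node (nat_lit 9720512) (BT.leaf (nat_lit 28307225)) (BT.leaf (nat_lit 28307229))) (BT.node (nat_lit 9720640) (BT.leaf (nat_lit 46291461)) (BT.leaf (nat_lit 27978769)))) (BT.node (nat_lit 9720832) (BT.node (nat_lit 9720768) (BT.leaf (nat_lit 27978257)) (BT.leaf (nat_lit 31089425))) (BT.node (nat_lit 9720896) (BT.leaf (nat_lit 39256089)) (BT.leaf (nat_lit 31481097))))) (BT.node (nat_lit 9721216) (BT.node (nat_lit 9721088) (BT.node (nat_lit 9721024) (BT.leaf (nat_lit 31481101)) (BT.leaf (nat_lit 40814613))) (BT.node (nat_lit 9721152) (BT.leaf (nat_lit 46064161)) (BT.leaf (nat_lit 38094113)))) (BT.node (nat_lit 9721344) (BT.node (nat_lit 9721280) (BT.leaf (nat_lit 28936721)) (BT.leaf (nat_lit 40814597))) (BT.node (nat_lit 9721408) (BT.leaf (nat_lit 40814617)) (BT.leaf (nat_lit 40814621))))))) (BT.node (nat_lit 9722496) (BT.node (nat_lit 9721984) (BT.node (nat_lit 9721728) (BT.node (nat_lit 9721600) (BT.node (nat_lit 9721536) (BT.leaf (nat_lit 31091489)) (BT.leaf (nat_lit 38610197))) (BT.node (nat_lit 9721664) (BT.leaf (nat_lit 30365445)) (BT.leaf (nat_lit 30365985)))) (BT.node (nat_lit 9721856) (BT.node (nat_lit 9721792) (BT.leaf (nat_lit 28087317)) (BT.leaf (nat_lit 31093025))) (BT.node (nat_lit 9721920) (BT.leaf (nat_lit 33075489)) (BT.leaf (nat_lit 28087061))))) (BT.node (nat_lit 9722240) (BT.node (nat_lit 9722112) (BT.node (nat_lit 9722048) (BT.leaf (nat_lit 44437001)) (BT.leaf (nat_lit 42157065))) (BT.node (nat_lit 9722176) (BT.leaf (nat_lit 42492949)) (BT.leaf (nat_lit 31657493)))) (BT.node (nat_lit 9722368) (BT.node (nat_lit 9722304) (BT.leaf (nat_lit 44434205)) (BT.leaf (nat_lit 27981329))) (BT.node (nat_lit 9722432) (BT.leaf (nat_lit 31731717)) (BT.leaf (nat_lit 32391941)))))) (BT.node (nat_lit 9722944) (BT.node (nat_lit 9722752) (BT.node (nat_lit 9722624) (BT.node (nat_lit 9722560) (BT.leaf (nat_lit 31732257)) (BT.leaf (nat_lit 45688073))) (BT.node (nat_lit 9722688) (BT.leaf (nat_lit 38337037)) (BT.leaf (nat_lit 38324257)))) (BT.node (nat_lit 9722823) (BT.node (nat_lit 9722816) (BT.leaf (nat_lit 32572181)) (BT.leaf (nat_lit 48023557))) (BT.node (nat_lit 9722880) (BT.leaf (nat_lit 745644)) (BT.leaf (nat_lit 28725777))))) (BT.node (nat_lit 9723200) (BT.node (nat_lit 9723072) (BT.node (nat_lit 9723008) (BT.leaf (nat_lit 29920541)) (BT.leaf (nat_lit 29920525))) (BT.node (nat_lit 9723136) (BT.leaf (nat_lit 32536081)) (BT.leaf (nat_lit 43750689)))) (BT.node (nat_lit 9723328) (BT.node (nat_lit 9723264) (BT.leaf (nat_lit 37445401)) (BT.leaf (nat_lit 27985161))) (BT.node (nat_lit 9723392) (BT.leaf (nat_lit 45259025)) (BT.leaf (nat_lit 38450453)))))))))) (BT.node (nat_lit 9730624) (BT.node (nat_lit 9726912) (BT.node (nat_lit 9725184) (BT.node (nat_lit 9724352) (BT.node (nat_lit 9723904) (BT.node (nat_lit 9723648) (BT.node (nat_lit 9723525) (BT.node (nat_lit 9723520) (BT.leaf (nat_lit 45260041)) (BT.leaf (nat_lit 43999009))) (BT.node (nat_lit 9723584) (BT.leaf (nat_lit 682300)) (BT.leaf (nat_lit 37753881)))) (BT.node (nat_lit 9723776) (BT.node (nat_lit 9723712) (BT.leaf (nat_lit 46247961)) (BT.leaf (nat_lit 31082517))) (BT.node (nat_lit 9723840) (BT.leaf (nat_lit 39330593)) (BT.leaf (nat_lit 32099077))))) (BT.node (nat_lit 9724096) (BT.node (nat_lit 9724032) (BT.node (nat_lit 9723968) (BT.leaf (nat_lit 51387681)) (BT.leaf (nat_lit 51388165))) (BT.node (nat_lit 9724037) (BT.leaf (nat_lit 45985285)) (BT.leaf (nat_lit 716024)))) (BT.node (nat_lit 9724224) (BT.node (nat_lit 9724160) (BT.leaf (nat_lit 46634009)) (BT.leaf (nat_lit 27986445))) (BT.node (nat_lit 9724288) (BT.leaf (nat_lit 27986457)) (BT.leaf (nat_lit 46633997)))))) (BT.node (nat_lit 9724673) (BT.node (nat_lit 9724608) (BT.node (nat_lit 9724480) (BT.node (nat_lit 9724416) (BT.leaf (nat_lit 49928981)) (BT.leaf (nat_lit 27986449))) (BT.node (nat_lit 9724544) (BT.leaf (nat_lit 35228177)) (BT.leaf (nat_lit 47213573)))) (BT.node (nat_lit 9724613) (BT.node (nat_lit 9724610) (BT.leaf (nat_lit 44060677)) (BT.leaf (nat_lit 814728))) (BT.node (nat_lit 9724672) (BT.leaf (nat_lit 642160)) (BT.leaf (nat_lit 40257313))))) (BT.node (nat_lit 9724928) (BT.node (nat_lit 9724800) (BT.node (nat_lit 9724736) (BT.leaf (nat_lit 637584)) (BT.leaf (nat_lit 27986705))) (BT.node (nat_lit 9724864) (BT.leaf (nat_lit 37068821)) (BT.leaf (nat_lit 32001541)))) (BT.node (nat_lit 9725056) (BT.node (nat_lit 9724992) (BT.leaf (nat_lit 37966597)) (BT.leaf (nat_lit 31074825))) (BT.node (nat_lit 9725120) (BT.leaf (nat_lit 37896993)) (BT.leaf (nat_lit 32253985))))))) (BT.node (nat_lit 9726144) (BT.node (nat_lit 9725632) (BT.node (nat_lit 9725440) (BT.node (nat_lit 9725312) (BT.node (nat_lit 9725248) (BT.leaf (nat_lit 42265609)) (BT.leaf (nat_lit 38095877))) (BT.node (nat_lit 9725376) (BT.leaf (nat_lit 28684805)) (BT.leaf (nat_lit 49720085)))) (BT.node (nat_lit 9725568) (BT.node (nat_lit 9725504) (BT.leaf (nat_lit 28859673)) (BT.leaf (nat_lit 41835525))) (BT.node (nat_lit 9725571) (BT.leaf (nat_lit 29340689)) (BT.leaf (nat_lit 740872))))) (BT.node (nat_lit 9725888) (BT.node (nat_lit 9725760) (BT.node (nat_lit 9725696) (BT.leaf (nat_lit 45564421)) (BT.leaf (nat_lit 29709321))) (BT.node (nat_lit 9725824) (BT.leaf (nat_lit 30540805)) (BT.leaf (nat_lit 29439749)))) (BT.node (nat_lit 9726016) (BT.node (nat_lit 9725952) (BT.leaf (nat_lit 31021841)) (BT.leaf (nat_lit 41194265))) (BT.node (nat_lit 9726080) (BT.leaf (nat_lit 50084625)) (BT.leaf (nat_lit 47805461)))))) (BT.node (nat_lit 9726470) (BT.node (nat_lit 9726400) (BT.node (nat_lit 9726272) (BT.node (nat_lit 9726208) (BT.leaf (nat_lit 49778181)) (BT.leaf (nat_lit 29813277))) (BT.node (nat_lit 9726336) (BT.leaf (nat_lit 46684445)) (BT.leaf (nat_lit 32217873)))) (BT.node (nat_lit 9726466) (BT.node (nat_lit 9726464) (BT.leaf (nat_lit 32217877)) (BT.leaf (nat_lit 43491077))) (BT.node (nat_lit 9726467) (BT.leaf (nat_lit 762940)) (BT.leaf (nat_lit 762940))))) (BT.node (nat_lit 9726656) (BT.node (nat_lit 9726528) (BT.node (nat_lit 9726471) (BT.leaf (nat_lit 762940)) (BT.leaf (nat_lit 762940))) (BT.node (nat_lit 9726592) (BT.leaf (nat_lit 31628825)) (BT.leaf (nat_lit 31628829)))) (BT.node (nat_lit 9726784) (BT.node (nat_lit 9726720) (BT.leaf (nat_lit 27991313)) (BT.leaf (nat_lit 27991057))) (BT.node (nat_lit 9726848) (BT.leaf (nat_lit 30718753)) (BT.leaf (nat_lit 42989849)))))))) (BT.node (nat_lit 9728768) (BT.node (nat_lit 9727936) (BT.node (nat_lit 9727424) (BT.node (nat_lit 9727168) (BT.node (nat_lit 9727040) (BT.node (nat_lit 9726976) (BT.leaf (nat_lit 29037573)) (BT.leaf (nat_lit 41714461))) (BT.node (nat_lit 9727104) (BT.leaf (nat_lit 31804429)) (BT.leaf (nat_lit 33901069)))) (BT.node (nat_lit 9727296) (BT.node (nat_lit 9727232) (BT.leaf (nat_lit 29039137)) (BT.leaf (nat_lit 31759365))) (BT.node (nat_lit 9727360) (BT.leaf (nat_lit 34354717)) (BT.leaf (nat_lit 39934493))))) (BT.node (nat_lit 9727680) (BT.node (nat_lit 9727552) (BT.node (nat_lit 9727488) (BT.leaf (nat_lit 31702305)) (BT.leaf (nat_lit 34913553))) (BT.node (nat_lit 9727616) (BT.leaf (nat_lit 34202897)) (BT.leaf (nat_lit 29896469)))) (BT.node (nat_lit 9727808) (BT.node (nat_lit 9727744) (BT.leaf (nat_lit 28630033)) (BT.leaf (nat_lit 34143001))) (BT.node (nat_lit 9727872) (BT.leaf (nat_lit 31197189)) (BT.leaf (nat_lit 31148297)))))) (BT.node (nat_lit 9728256) (BT.node (nat_lit 9728064) (BT.node (nat_lit 9728004) (BT.node (nat_lit 9728000) (BT.leaf (nat_lit 31776517)) (BT.leaf (nat_lit 38912285))) (BT.node (nat_lit 9728005) (BT.leaf (nat_lit 624256)) (BT.leaf (nat_lit 624256)))) (BT.node (nat_lit 9728192) (BT.node (nat_lit 9728128) (BT.leaf (nat_lit 31148557)) (BT.leaf (nat_lit 42833697))) (BT.node (nat_lit 9728197) (BT.leaf (nat_lit 31148301)) (BT.leaf (nat_lit 732024))))) (BT.node (nat_lit 9728512) (BT.node (nat_lit 9728384) (BT.node (nat_lit 9728320) (BT.leaf (nat_lit 34044181)) (BT.leaf (nat_lit 46333973))) (BT.node (nat_lit 9728448) (BT.leaf (nat_lit 38008329)) (BT.leaf (nat_lit 31778821)))) (BT.node (nat_lit 9728640) (BT.node (nat_lit 9728576) (BT.leaf (nat_lit 38008337)) (BT.leaf (nat_lit 37906437))) (BT.node (nat_lit 9728704) (BT.leaf (nat_lit 29071385)) (BT.leaf (nat_lit 29287189))))))) (BT.node (nat_lit 9729664) (BT.node (nat_lit 9729280) (BT.node (nat_lit 9729024) (BT.node (nat_lit 9728896) (BT.node (nat_lit 9728832) (BT.leaf (nat_lit 32606481)) (BT.leaf (nat_lit 31974405))) (BT.node (nat_lit 9728960) (BT.leaf (nat_lit 31974413)) (BT.leaf (nat_lit 38008601)))) (BT.node (nat_lit 9729152) (BT.node (nat_lit 9729088) (BT.leaf (nat_lit 38008605)) (BT.leaf (nat_lit 32719385))) (BT.node (nat_lit 9729216) (BT.leaf (nat_lit 32719389)) (BT.leaf (nat_lit 46079249))))) (BT.node (nat_lit 9729412) (BT.node (nat_lit 9729352) (BT.node (nat_lit 9729344) (BT.leaf (nat_lit 48579605)) (BT.leaf (nat_lit 38550281))) (BT.node (nat_lit 9729408) (BT.leaf (nat_lit 757564)) (BT.leaf (nat_lit 37802009)))) (BT.node (nat_lit 9729536) (BT.node (nat_lit 9729472) (BT.leaf (nat_lit 690168)) (BT.leaf (nat_lit 37802013))) (BT.node (nat_lit 9729600) (BT.leaf (nat_lit 30177289)) (BT.leaf (nat_lit 30659589)))))) (BT.node (nat_lit 9730176) (BT.node (nat_lit 9729920) (BT.node (nat_lit 9729792) (BT.node (nat_lit 9729728) (BT.leaf (nat_lit 30177305)) (BT.leaf (nat_lit 30454789))) (BT.node (nat_lit 9729856) (BT.leaf (nat_lit 29174805)) (BT.leaf (nat_lit 28000793)))) (BT.node (nat_lit 9730048) (BT.node (nat_lit 9729984) (BT.leaf (nat_lit 30680853)) (BT.leaf (nat_lit 30482197))) (BT.node (nat_lit 9730112) (BT.leaf (nat_lit 28817685)) (BT.leaf (nat_lit 34050069))))) (BT.node (nat_lit 9730371) (BT.node (nat_lit 9730304) (BT.node (nat_lit 9730240) (BT.leaf (nat_lit 38755077)) (BT.leaf (nat_lit 50395153))) (BT.node (nat_lit 9730368) (BT.leaf (nat_lit 43153697)) (BT.leaf (nat_lit 43361301)))) (BT.node (nat_lit 9730496) (BT.node (nat_lit 9730432) (BT.leaf (nat_lit 674764)) (BT.leaf (nat_lit 47622689))) (BT.node (nat_lit 9730560) (BT.leaf (nat_lit 28006925)) (BT.leaf (nat_lit 44414481))))))))) (BT.node (nat_lit 9734405) (BT.node (nat_lit 9732416) (BT.node (nat_lit 9731648) (BT.node (nat_lit 9731136) (BT.node (nat_lit 9730880) (BT.node (nat_lit 9730752) (BT.node (nat_lit 9730688) (BT.leaf (nat_lit 41887237)) (BT.leaf (nat_lit 48614677))) (BT.node (nat_lit 9730816) (BT.leaf (nat_lit 36158993)) (BT.leaf (nat_lit 44724741)))) (BT.node (nat_lit 9731008) (BT.node (nat_lit 9730944) (BT.leaf (nat_lit 31159305)) (BT.leaf (nat_lit 48348181))) (BT.node (nat_lit 9731072) (BT.leaf (nat_lit 39098645)) (BT.leaf (nat_lit 43456785))))) (BT.node (nat_lit 9731392) (BT.node (nat_lit 9731264) (BT.node (nat_lit 9731200) (BT.leaf (nat_lit 43456273)) (BT.leaf (nat_lit 40421649))) (BT.node (nat_lit 9731328) (BT.leaf (nat_lit 45487633)) (BT.leaf (nat_lit 28007181)))) (BT.node (nat_lit 9731520) (BT.node (nat_lit 9731456) (BT.leaf (nat_lit 31236101)) (BT.leaf (nat_lit 37804053))) (BT.node (nat_lit 9731584) (BT.leaf (nat_lit 44573465)) (BT.leaf (nat_lit 32564001)))))) (BT.node (nat_lit 9732160) (BT.node (nat_lit 9731904) (BT.node (nat_lit 9731776) (BT.node (nat_lit 9731712) (BT.leaf (nat_lit 30488581)) (BT.leaf (nat_lit 43713029))) (BT.node (nat_lit 9731840) (BT.leaf (nat_lit 47909661)) (BT.leaf (nat_lit 40355589)))) (BT.node (nat_lit 9732032) (BT.node (nat_lit 9731968) (BT.leaf (nat_lit 38007585)) (BT.leaf (nat_lit 29263621))) (BT.node (nat_lit 9732096) (BT.leaf (nat_lit 36053521)) (BT.leaf (nat_lit 44230177))))) (BT.node (nat_lit 9732291) (BT.node (nat_lit 9732288) (BT.node (nat_lit 9732224) (BT.leaf (nat_lit 38008097)) (BT.leaf (nat_lit 49106957))) (BT.node (nat_lit 9732290) (BT.leaf (nat_lit 29071637)) (BT.leaf (nat_lit 754052)))) (BT.node (nat_lit 9732295) (BT.node (nat_lit 9732294) (BT.leaf (nat_lit 754052)) (BT.leaf (nat_lit 754052))) (BT.node (nat_lit 9732352) (BT.leaf (nat_lit 754052)) (BT.leaf (nat_lit 28008721))))))) (BT.node (nat_lit 9733376) (BT.node (nat_lit 9732864) (BT.node (nat_lit 9732672) (BT.node (nat_lit 9732544) (BT.node (nat_lit 9732480) (BT.leaf (nat_lit 39551777)) (BT.leaf (nat_lit 46353953))) (BT.node (nat_lit 9732608) (BT.leaf (nat_lit 38009889)) (BT.leaf (nat_lit 38009633)))) (BT.node (nat_lit 9732740) (BT.node (nat_lit 9732736) (BT.leaf (nat_lit 32566029)) (BT.leaf (nat_lit 44508701))) (BT.node (nat_lit 9732800) (BT.leaf (nat_lit 638828)) (BT.leaf (nat_lit 40760337))))) (BT.node (nat_lit 9733120) (BT.node (nat_lit 9732992) (BT.node (nat_lit 9732928) (BT.leaf (nat_lit 33263893)) (BT.leaf (nat_lit 44484121))) (BT.node (nat_lit 9733056) (BT.leaf (nat_lit 44430097)) (BT.leaf (nat_lit 44431649)))) (BT.node (nat_lit 9733248) (BT.node (nat_lit 9733184) (BT.leaf (nat_lit 42324253)) (BT.leaf (nat_lit 44203553))) (BT.node (nat_lit 9733312) (BT.leaf (nat_lit 42834693)) (BT.leaf (nat_lit 42837281)))))) (BT.node (nat_lit 9733888) (BT.node (nat_lit 9733632) (BT.node (nat_lit 9733504) (BT.node (nat_lit 9733440) (BT.leaf (nat_lit 41061921)) (BT.leaf (nat_lit 32572421))) (BT.node (nat_lit 9733568) (BT.leaf (nat_lit 31332373)) (BT.leaf (nat_lit 37791253)))) (BT.node (nat_lit 9733760) (BT.node (nat_lit 9733696) (BT.leaf (nat_lit 42842145)) (BT.leaf (nat_lit 44585237))) (BT.node (nat_lit 9733824) (BT.leaf (nat_lit 42853637)) (BT.leaf (nat_lit 41064737))))) (BT.node (nat_lit 9734144) (BT.node (nat_lit 9734016) (BT.node (nat_lit 9733952) (BT.leaf (nat_lit 31332377)) (BT.leaf (nat_lit 31332381))) (BT.node (nat_lit 9734080) (BT.leaf (nat_lit 32573957)) (BT.leaf (nat_lit 32574241)))) (BT.node (nat_lit 9734336) (BT.node (nat_lit 9734272) (BT.leaf (nat_lit 39033361)) (BT.leaf (nat_lit 38018337))) (BT.node (nat_lit 9734400) (BT.leaf (nat_lit 30240785)) (BT.leaf (nat_lit 37781005)))))))) (BT.node (nat_lit 9736320) (BT.node (nat_lit 9735424) (BT.node (nat_lit 9734912) (BT.node (nat_lit 9734656) (BT.node (nat_lit 9734528) (BT.node (nat_lit 9734464) (BT.leaf (nat_lit 631112)) (BT.leaf (nat_lit 33265937))) (BT.node (nat_lit 9734592) (BT.leaf (nat_lit 31006477)) (BT.leaf (nat_lit 46502929)))) (BT.node (nat_lit 9734784) (BT.node (nat_lit 9734720) (BT.leaf (nat_lit 33266449)) (BT.leaf (nat_lit 38066965))) (BT.node (nat_lit 9734848) (BT.leaf (nat_lit 49213701)) (BT.leaf (nat_lit 49670921))))) (BT.node (nat_lit 9735168) (BT.node (nat_lit 9735040) (BT.node (nat_lit 9734976) (BT.leaf (nat_lit 48514057)) (BT.leaf (nat_lit 48514313))) (BT.node (nat_lit 9735104) (BT.leaf (nat_lit 40633369)) (BT.leaf (nat_lit 31006729)))) (BT.node (nat_lit 9735296) (BT.node (nat_lit 9735232) (BT.leaf (nat_lit 32094485)) (BT.leaf (nat_lit 33935893))) (BT.node (nat_lit 9735360) (BT.leaf (nat_lit 50306581)) (BT.leaf (nat_lit 29993241)))))) (BT.node (nat_lit 9735808) (BT.node (nat_lit 9735552) (BT.node (nat_lit 9735490) (BT.node (nat_lit 9735488) (BT.leaf (nat_lit 48417037)) (BT.leaf (nat_lit 32581637))) (BT.node (nat_lit 9735493) (BT.leaf (nat_lit 647924)) (BT.leaf (nat_lit 647924)))) (BT.node (nat_lit 9735680) (BT.node (nat_lit 9735616) (BT.leaf (nat_lit 40209669)) (BT.leaf (nat_lit 37918225))) (BT.node (nat_lit 9735744) (BT.leaf (nat_lit 37937681)) (BT.leaf (nat_lit 47574549))))) (BT.node (nat_lit 9736064) (BT.node (nat_lit 9735936) (BT.node (nat_lit 9735872) (BT.leaf (nat_lit 28014361)) (BT.leaf (nat_lit 30214165))) (BT.node (nat_lit 9736000) (BT.leaf (nat_lit 31503889)) (BT.leaf (nat_lit 31745809)))) (BT.node (nat_lit 9736192) (BT.node (nat_lit 9736128) (BT.leaf (nat_lit 31746321)) (BT.leaf (nat_lit 35365129))) (BT.node (nat_lit 9736256) (BT.leaf (nat_lit 40799749)) (BT.leaf (nat_lit 28553497))))))) (BT.node (nat_lit 9737344) (BT.node (nat_lit 9736832) (BT.node (nat_lit 9736576) (BT.node (nat_lit 9736448) (BT.node (nat_lit 9736384) (BT.leaf (nat_lit 28553501)) (BT.leaf (nat_lit 50357785))) (BT.node (nat_lit 9736512) (BT.leaf (nat_lit 32294689)) (BT.leaf (nat_lit 28021521)))) (BT.node (nat_lit 9736704) (BT.node (nat_lit 9736640) (BT.leaf (nat_lit 49946377)) (BT.leaf (nat_lit 51919889))) (BT.node (nat_lit 9736768) (BT.leaf (nat_lit 38946585)) (BT.leaf (nat_lit 46785313))))) (BT.node (nat_lit 9737088) (BT.node (nat_lit 9736960) (BT.node (nat_lit 9736896) (BT.leaf (nat_lit 31332357)) (BT.leaf (nat_lit 34040849))) (BT.node (nat_lit 9737024) (BT.leaf (nat_lit 30104605)) (BT.leaf (nat_lit 30334225)))) (BT.node (nat_lit 9737216) (BT.node (nat_lit 9737152) (BT.leaf (nat_lit 37901581)) (BT.leaf (nat_lit 31373845))) (BT.node (nat_lit 9737280) (BT.leaf (nat_lit 46707733)) (BT.leaf (nat_lit 33018373)))))) (BT.node (nat_lit 9737856) (BT.node (nat_lit 9737600) (BT.node (nat_lit 9737472) (BT.node (nat_lit 9737408) (BT.leaf (nat_lit 49452577)) (BT.leaf (nat_lit 48573985))) (BT.node (nat_lit 9737536) (BT.leaf (nat_lit 32665365)) (BT.leaf (nat_lit 32665369)))) (BT.node (nat_lit 9737728) (BT.node (nat_lit 9737664) (BT.leaf (nat_lit 32665373)) (BT.leaf (nat_lit 28899077))) (BT.node (nat_lit 9737792) (BT.leaf (nat_lit 28899093)) (BT.leaf (nat_lit 28899097))))) (BT.node (nat_lit 9738048) (BT.node (nat_lit 9737984) (BT.node (nat_lit 9737920) (BT.leaf (nat_lit 28899101)) (BT.leaf (nat_lit 32544517))) (BT.node (nat_lit 9737989) (BT.leaf (nat_lit 47156253)) (BT.leaf (nat_lit 713180)))) (BT.node (nat_lit 9738176) (BT.node (nat_lit 9738112) (BT.leaf (nat_lit 36320005)) (BT.leaf (nat_lit 28027141))) (BT.node (nat_lit 9738240) (BT.leaf (nat_lit 35395349)) (BT.leaf (nat_lit 40638753))))))))))) (BT.node (nat_lit 9754112) (BT.node (nat_lit 9746176) (BT.node (nat_lit 9742343) (BT.node (nat_lit 9740288) (BT.node (nat_lit 9739264) (BT.node (nat_lit 9738752) (BT.node (nat_lit 9738501) (BT.node (nat_lit 9738432) (BT.node (nat_lit 9738368) (BT.leaf (nat_lit 35236369)) (BT.leaf (nat_lit 32430113))) (BT.node (nat_lit 9738496) (BT.leaf (nat_lit 38960657)) (BT.leaf (nat_lit 39869449)))) (BT.node (nat_lit 9738624) (BT.node (nat_lit 9738560) (BT.leaf (nat_lit 667860)) (BT.leaf (nat_lit 28225297))) (BT.node (nat_lit 9738688) (BT.leaf (nat_lit 31217169)) (BT.leaf (nat_lit 45851409))))) (BT.node (nat_lit 9739008) (BT.node (nat_lit 9738880) (BT.node (nat_lit 9738816) (BT.leaf (nat_lit 36248593)) (BT.leaf (nat_lit 49584901))) (BT.node (nat_lit 9738944) (BT.leaf (nat_lit 49918485)) (BT.leaf (nat_lit 33625889)))) (BT.node (nat_lit 9739136) (BT.node (nat_lit 9739072) (BT.leaf (nat_lit 46509845)) (BT.leaf (nat_lit 32193825))) (BT.node (nat_lit 9739200) (BT.leaf (nat_lit 33274645)) (BT.leaf (nat_lit 32256009)))))) (BT.node (nat_lit 9739776) (BT.node (nat_lit 9739520) (BT.node (nat_lit 9739392) (BT.node (nat_lit 9739328) (BT.leaf (nat_lit 27443733)) (BT.leaf (nat_lit 39725317))) (BT.node (nat_lit 9739456) (BT.leaf (nat_lit 38957853)) (BT.leaf (nat_lit 37830421)))) (BT.node (nat_lit 9739648) (BT.node (nat_lit 9739584) (BT.leaf (nat_lit 34302737)) (BT.leaf (nat_lit 32400401))) (BT.node (nat_lit 9739712) (BT.leaf (nat_lit 27692821)) (BT.leaf (nat_lit 27904033))))) (BT.node (nat_lit 9740032) (BT.node (nat_lit 9739904) (BT.node (nat_lit 9739840) (BT.leaf (nat_lit 35090465)) (BT.leaf (nat_lit 28713493))) (BT.node (nat_lit 9739968) (BT.leaf (nat_lit 32425249)) (BT.leaf (nat_lit 38952737)))) (BT.node (nat_lit 9740160) (BT.node (nat_lit 9740096) (BT.leaf (nat_lit 34982945)) (BT.leaf (nat_lit 34982689))) (BT.node (nat_lit 9740224) (BT.leaf (nat_lit 39261465)) (BT.leaf (nat_lit 38031125))))))) (BT.node (nat_lit 9741440) (BT.node (nat_lit 9740800) (BT.node (nat_lit 9740544) (BT.node (nat_lit 9740416) (BT.node (nat_lit 9740352) (BT.leaf (nat_lit 32194833)) (BT.leaf (nat_lit 38961693))) (BT.node (nat_lit 9740480) (BT.leaf (nat_lit 45199365)) (BT.leaf (nat_lit 28037905)))) (BT.node (nat_lit 9740672) (BT.node (nat_lit 9740608) (BT.leaf (nat_lit 38950945)) (BT.leaf (nat_lit 28714777))) (BT.node (nat_lit 9740736) (BT.leaf (nat_lit 28714781)) (BT.leaf (nat_lit 40238361))))) (BT.node (nat_lit 9741120) (BT.node (nat_lit 9740992) (BT.node (nat_lit 9740928) (BT.leaf (nat_lit 38949921)) (BT.leaf (nat_lit 44658949))) (BT.node (nat_lit 9741056) (BT.leaf (nat_lit 28382497)) (BT.leaf (nat_lit 42336533)))) (BT.node (nat_lit 9741248) (BT.node (nat_lit 9741184) (BT.leaf (nat_lit 33016853)) (BT.leaf (nat_lit 28040209))) (BT.node (nat_lit 9741376) (BT.leaf (nat_lit 28039697)) (BT.leaf (nat_lit 28040465)))))) (BT.node (nat_lit 9741952) (BT.node (nat_lit 9741696) (BT.node (nat_lit 9741568) (BT.node (nat_lit 9741504) (BT.leaf (nat_lit 44653061)) (BT.leaf (nat_lit 29001745))) (BT.node (nat_lit 9741632) (BT.leaf (nat_lit 42855445)) (BT.leaf (nat_lit 31307793)))) (BT.node (nat_lit 9741824) (BT.node (nat_lit 9741760) (BT.leaf (nat_lit 32438549)) (BT.leaf (nat_lit 31049233))) (BT.node (nat_lit 9741888) (BT.leaf (nat_lit 37951761)) (BT.leaf (nat_lit 28042513))))) (BT.node (nat_lit 9742208) (BT.node (nat_lit 9742080) (BT.node (nat_lit 9742016) (BT.leaf (nat_lit 40717065)) (BT.leaf (nat_lit 31676437))) (BT.node (nat_lit 9742144) (BT.leaf (nat_lit 35064325)) (BT.leaf (nat_lit 31676445)))) (BT.node (nat_lit 9742336) (BT.node (nat_lit 9742272) (BT.leaf (nat_lit 43450129)) (BT.leaf (nat_lit 42421537))) (BT.node (nat_lit 9742341) (BT.leaf (nat_lit 39429153)) (BT.leaf (nat_lit 699892)))))))) (BT.node (nat_lit 9744256) (BT.node (nat_lit 9743360) (BT.node (nat_lit 9742848) (BT.node (nat_lit 9742592) (BT.node (nat_lit 9742464) (BT.node (nat_lit 9742400) (BT.leaf (nat_lit 699892)) (BT.leaf (nat_lit 38000137))) (BT.node (nat_lit 9742528) (BT.leaf (nat_lit 49740301)) (BT.leaf (nat_lit 33834013)))) (BT.node (nat_lit 9742720) (BT.node (nat_lit 9742656) (BT.leaf (nat_lit 34480145)) (BT.leaf (nat_lit 29907233))) (BT.node (nat_lit 9742784) (BT.leaf (nat_lit 29906977)) (BT.leaf (nat_lit 29639701))))) (BT.node (nat_lit 9743104) (BT.node (nat_lit 9742976) (BT.node (nat_lit 9742912) (BT.leaf (nat_lit 30936849)) (BT.leaf (nat_lit 38099729))) (BT.node (nat_lit 9743040) (BT.leaf (nat_lit 31941129)) (BT.leaf (nat_lit 44831005)))) (BT.node (nat_lit 9743232) (BT.node (nat_lit 9743168) (BT.leaf (nat_lit 35299865)) (BT.leaf (nat_lit 29820177))) (BT.node (nat_lit 9743296) (BT.leaf (nat_lit 38947605)) (BT.leaf (nat_lit 42067733)))))) (BT.node (nat_lit 9743748) (BT.node (nat_lit 9743556) (BT.node (nat_lit 9743488) (BT.node (nat_lit 9743424) (BT.leaf (nat_lit 28047129)) (BT.leaf (nat_lit 38107425))) (BT.node (nat_lit 9743552) (BT.leaf (nat_lit 38974237)) (BT.leaf (nat_lit 30607381)))) (BT.node (nat_lit 9743680) (BT.node (nat_lit 9743616) (BT.leaf (nat_lit 698760)) (BT.leaf (nat_lit 32182049))) (BT.node (nat_lit 9743744) (BT.leaf (nat_lit 31485969)) (BT.leaf (nat_lit 38944541))))) (BT.node (nat_lit 9744000) (BT.node (nat_lit 9743872) (BT.node (nat_lit 9743808) (BT.leaf (nat_lit 690736)) (BT.leaf (nat_lit 41757969))) (BT.node (nat_lit 9743936) (BT.leaf (nat_lit 28046597)) (BT.leaf (nat_lit 49057301)))) (BT.node (nat_lit 9744128) (BT.node (nat_lit 9744064) (BT.leaf (nat_lit 31431437)) (BT.leaf (nat_lit 28046869))) (BT.node (nat_lit 9744192) (BT.leaf (nat_lit 37915909)) (BT.leaf (nat_lit 31431457))))))) (BT.node (nat_lit 9745280) (BT.node (nat_lit 9744768) (BT.node (nat_lit 9744512) (BT.node (nat_lit 9744384) (BT.node (nat_lit 9744320) (BT.leaf (nat_lit 34978849)) (BT.leaf (nat_lit 38111265))) (BT.node (nat_lit 9744448) (BT.leaf (nat_lit 42868237)) (BT.leaf (nat_lit 44348181)))) (BT.node (nat_lit 9744640) (BT.node (nat_lit 9744576) (BT.leaf (nat_lit 48158217)) (BT.leaf (nat_lit 41322261))) (BT.node (nat_lit 9744704) (BT.leaf (nat_lit 40406021)) (BT.leaf (nat_lit 48439573))))) (BT.node (nat_lit 9745024) (BT.node (nat_lit 9744896) (BT.node (nat_lit 9744832) (BT.leaf (nat_lit 38978841)) (BT.leaf (nat_lit 41791493))) (BT.node (nat_lit 9744960) (BT.leaf (nat_lit 46865425)) (BT.leaf (nat_lit 27304725)))) (BT.node (nat_lit 9745152) (BT.node (nat_lit 9745088) (BT.leaf (nat_lit 38103557)) (BT.leaf (nat_lit 49436193))) (BT.node (nat_lit 9745216) (BT.leaf (nat_lit 31939849)) (BT.leaf (nat_lit 38435601)))))) (BT.node (nat_lit 9745664) (BT.node (nat_lit 9745473) (BT.node (nat_lit 9745408) (BT.node (nat_lit 9745344) (BT.leaf (nat_lit 37752585)) (BT.leaf (nat_lit 42177289))) (BT.node (nat_lit 9745472) (BT.leaf (nat_lit 42177293)) (BT.leaf (nat_lit 32443425)))) (BT.node (nat_lit 9745536) (BT.node (nat_lit 9745478) (BT.leaf (nat_lit 689252)) (BT.leaf (nat_lit 689252))) (BT.node (nat_lit 9745600) (BT.leaf (nat_lit 42177305)) (BT.leaf (nat_lit 42177309))))) (BT.node (nat_lit 9745920) (BT.node (nat_lit 9745792) (BT.node (nat_lit 9745728) (BT.leaf (nat_lit 49184789)) (BT.leaf (nat_lit 32580113))) (BT.node (nat_lit 9745856) (BT.leaf (nat_lit 32380697)) (BT.leaf (nat_lit 32380701)))) (BT.node (nat_lit 9746048) (BT.node (nat_lit 9745984) (BT.leaf (nat_lit 32442385)) (BT.leaf (nat_lit 46350869))) (BT.node (nat_lit 9746112) (BT.leaf (nat_lit 42715913)) (BT.leaf (nat_lit 28052241))))))))) (BT.node (nat_lit 9750272) (BT.node (nat_lit 9748224) (BT.node (nat_lit 9747200) (BT.node (nat_lit 9746688) (BT.node (nat_lit 9746432) (BT.node (nat_lit 9746304) (BT.node (nat_lit 9746240) (BT.leaf (nat_lit 28052245)) (BT.leaf (nat_lit 46402069))) (BT.node (nat_lit 9746368) (BT.leaf (nat_lit 31748877)) (BT.leaf (nat_lit 38994957)))) (BT.node (nat_lit 9746560) (BT.node (nat_lit 9746496) (BT.leaf (nat_lit 48390433)) (BT.leaf (nat_lit 35365145))) (BT.node (nat_lit 9746624) (BT.leaf (nat_lit 35365149)) (BT.leaf (nat_lit 27925009))))) (BT.node (nat_lit 9746944) (BT.node (nat_lit 9746816) (BT.node (nat_lit 9746752) (BT.leaf (nat_lit 31645957)) (BT.leaf (nat_lit 39757573))) (BT.node (nat_lit 9746880) (BT.leaf (nat_lit 38987529)) (BT.leaf (nat_lit 35513877)))) (BT.node (nat_lit 9747072) (BT.node (nat_lit 9747008) (BT.leaf (nat_lit 38114565)) (BT.leaf (nat_lit 44199181))) (BT.node (nat_lit 9747136) (BT.leaf (nat_lit 34287901)) (BT.leaf (nat_lit 29212945)))))) (BT.node (nat_lit 9747712) (BT.node (nat_lit 9747456) (BT.node (nat_lit 9747328) (BT.node (nat_lit 9747264) (BT.leaf (nat_lit 31214353)) (BT.leaf (nat_lit 34088993))) (BT.node (nat_lit 9747392) (BT.leaf (nat_lit 34288149)) (BT.leaf (nat_lit 34566425)))) (BT.node (nat_lit 9747584) (BT.node (nat_lit 9747520) (BT.leaf (nat_lit 38194465)) (BT.leaf (nat_lit 42173197))) (BT.node (nat_lit 9747648) (BT.leaf (nat_lit 39752985)) (BT.leaf (nat_lit 28489493))))) (BT.node (nat_lit 9747968) (BT.node (nat_lit 9747840) (BT.node (nat_lit 9747776) (BT.leaf (nat_lit 28489497)) (BT.leaf (nat_lit 28489501))) (BT.node (nat_lit 9747904) (BT.leaf (nat_lit 37999877)) (BT.leaf (nat_lit 48838689)))) (BT.node (nat_lit 9748096) (BT.node (nat_lit 9748032) (BT.leaf (nat_lit 42715925)) (BT.leaf (nat_lit 28959001))) (BT.node (nat_lit 9748160) (BT.leaf (nat_lit 31486741)) (BT.leaf (nat_lit 43076881))))))) (BT.node (nat_lit 9749312) (BT.node (nat_lit 9748800) (BT.node (nat_lit 9748480) (BT.node (nat_lit 9748352) (BT.node (nat_lit 9748288) (BT.leaf (nat_lit 40564233)) (BT.leaf (nat_lit 30990357))) (BT.node (nat_lit 9748416) (BT.leaf (nat_lit 28584709)) (BT.leaf (nat_lit 47962393)))) (BT.node (nat_lit 9748672) (BT.node (nat_lit 9748544) (BT.leaf (nat_lit 47067405)) (BT.leaf (nat_lit 30284065))) (BT.node (nat_lit 9748736) (BT.leaf (nat_lit 38120469)) (BT.leaf (nat_lit 44334597))))) (BT.node (nat_lit 9749056) (BT.node (nat_lit 9748928) (BT.node (nat_lit 9748864) (BT.leaf (nat_lit 28059409)) (BT.leaf (nat_lit 33279249))) (BT.node (nat_lit 9748992) (BT.leaf (nat_lit 42936089)) (BT.leaf (nat_lit 38296085)))) (BT.node (nat_lit 9749184) (BT.node (nat_lit 9749120) (BT.leaf (nat_lit 38974993)) (BT.leaf (nat_lit 38974997))) (BT.node (nat_lit 9749248) (BT.leaf (nat_lit 27425809)) (BT.leaf (nat_lit 28059665)))))) (BT.node (nat_lit 9749760) (BT.node (nat_lit 9749568) (BT.node (nat_lit 9749440) (BT.node (nat_lit 9749376) (BT.leaf (nat_lit 27451921)) (BT.leaf (nat_lit 38997273))) (BT.node (nat_lit 9749504) (BT.leaf (nat_lit 40069921)) (BT.leaf (nat_lit 44822029)))) (BT.node (nat_lit 9749637) (BT.node (nat_lit 9749632) (BT.leaf (nat_lit 38931973)) (BT.leaf (nat_lit 32017161))) (BT.node (nat_lit 9749696) (BT.leaf (nat_lit 639448)) (BT.leaf (nat_lit 30289697))))) (BT.node (nat_lit 9750016) (BT.node (nat_lit 9749888) (BT.node (nat_lit 9749824) (BT.leaf (nat_lit 45657877)) (BT.leaf (nat_lit 39993369))) (BT.node (nat_lit 9749952) (BT.leaf (nat_lit 39993373)) (BT.leaf (nat_lit 51098385)))) (BT.node (nat_lit 9750144) (BT.node (nat_lit 9750080) (BT.leaf (nat_lit 31034389)) (BT.leaf (nat_lit 38602773))) (BT.node (nat_lit 9750208) (BT.leaf (nat_lit 32874265)) (BT.leaf (nat_lit 32874269)))))))) (BT.node (nat_lit 9752256) (BT.node (nat_lit 9751296) (BT.node (nat_lit 9750784) (BT.node (nat_lit 9750528) (BT.node (nat_lit 9750400) (BT.node (nat_lit 9750336) (BT.leaf (nat_lit 41852693)) (BT.leaf (nat_lit 30692369))) (BT.node (nat_lit 9750464) (BT.leaf (nat_lit 28061213)) (BT.leaf (nat_lit 30915609)))) (BT.node (nat_lit 9750656) (BT.node (nat_lit 9750592) (BT.leaf (nat_lit 28061969)) (BT.leaf (nat_lit 28060177))) (BT.node (nat_lit 9750720) (BT.leaf (nat_lit 38602777)) (BT.leaf (nat_lit 28061457))))) (BT.node (nat_lit 9751040) (BT.node (nat_lit 9750912) (BT.node (nat_lit 9750848) (BT.leaf (nat_lit 39405845)) (BT.leaf (nat_lit 30294301))) (BT.node (nat_lit 9750976) (BT.leaf (nat_lit 40120337)) (BT.leaf (nat_lit 47360789)))) (BT.node (nat_lit 9751168) (BT.node (nat_lit 9751104) (BT.leaf (nat_lit 47360773)) (BT.leaf (nat_lit 28162577))) (BT.node (nat_lit 9751232) (BT.leaf (nat_lit 47447317)) (BT.leaf (nat_lit 38034453)))))) (BT.node (nat_lit 9751808) (BT.node (nat_lit 9751552) (BT.node (nat_lit 9751424) (BT.node (nat_lit 9751360) (BT.leaf (nat_lit 38034457)) (BT.leaf (nat_lit 28879113))) (BT.node (nat_lit 9751488) (BT.leaf (nat_lit 52120837)) (BT.leaf (nat_lit 31672353)))) (BT.node (nat_lit 9751680) (BT.node (nat_lit 9751616) (BT.leaf (nat_lit 28879129)) (BT.leaf (nat_lit 28879133))) (BT.node (nat_lit 9751744) (BT.leaf (nat_lit 46323477)) (BT.leaf (nat_lit 28066841))))) (BT.node (nat_lit 9752000) (BT.node (nat_lit 9751872) (BT.node (nat_lit 9751816) (BT.leaf (nat_lit 32770825)) (BT.leaf (nat_lit 693244))) (BT.node (nat_lit 9751936) (BT.leaf (nat_lit 28912149)) (BT.leaf (nat_lit 28066845)))) (BT.node (nat_lit 9752128) (BT.node (nat_lit 9752064) (BT.leaf (nat_lit 28224529)) (BT.leaf (nat_lit 28224533))) (BT.node (nat_lit 9752192) (BT.leaf (nat_lit 38598177)) (BT.leaf (nat_lit 39956757))))))) (BT.node (nat_lit 9753152) (BT.node (nat_lit 9752704) (BT.node (nat_lit 9752448) (BT.node (nat_lit 9752384) (BT.node (nat_lit 9752320) (BT.leaf (nat_lit 41027845)) (BT.leaf (nat_lit 47062561))) (BT.node (nat_lit 9752389) (BT.leaf (nat_lit 28712729)) (BT.leaf (nat_lit 625168)))) (BT.node (nat_lit 9752576) (BT.node (nat_lit 9752512) (BT.leaf (nat_lit 40006177)) (BT.leaf (nat_lit 42149397))) (BT.node (nat_lit 9752640) (BT.leaf (nat_lit 37957385)) (BT.leaf (nat_lit 32758561))))) (BT.node (nat_lit 9752900) (BT.node (nat_lit 9752832) (BT.node (nat_lit 9752768) (BT.leaf (nat_lit 28677409)) (BT.leaf (nat_lit 31463181))) (BT.node (nat_lit 9752896) (BT.leaf (nat_lit 32162329)) (BT.leaf (nat_lit 32162317)))) (BT.node (nat_lit 9753024) (BT.node (nat_lit 9752960) (BT.leaf (nat_lit 662592)) (BT.leaf (nat_lit 49228317))) (BT.node (nat_lit 9753088) (BT.leaf (nat_lit 48729881)) (BT.leaf (nat_lit 39892241)))))) (BT.node (nat_lit 9753664) (BT.node (nat_lit 9753408) (BT.node (nat_lit 9753280) (BT.node (nat_lit 9753216) (BT.leaf (nat_lit 31059729)) (BT.leaf (nat_lit 30980129))) (BT.node (nat_lit 9753344) (BT.leaf (nat_lit 51355141)) (BT.leaf (nat_lit 51355153)))) (BT.node (nat_lit 9753536) (BT.node (nat_lit 9753472) (BT.leaf (nat_lit 42703377)) (BT.leaf (nat_lit 28069649))) (BT.node (nat_lit 9753600) (BT.leaf (nat_lit 39960581)) (BT.leaf (nat_lit 44102681))))) (BT.node (nat_lit 9753856) (BT.node (nat_lit 9753728) (BT.node (nat_lit 9753672) (BT.leaf (nat_lit 31416845)) (BT.leaf (nat_lit 689100))) (BT.node (nat_lit 9753792) (BT.leaf (nat_lit 41962245)) (BT.leaf (nat_lit 40893473)))) (BT.node (nat_lit 9753984) (BT.node (nat_lit 9753920) (BT.leaf (nat_lit 29582097)) (BT.leaf (nat_lit 43253281))) (BT.node (nat_lit 9754048) (BT.leaf (nat_lit 45556997)) (BT.leaf (nat_lit 48029205)))))))))) (BT.node (nat_lit 9761728) (BT.node (nat_lit 9757888) (BT.node (nat_lit 9755904) (BT.node (nat_lit 9755008) (BT.node (nat_lit 9754624) (BT.node (nat_lit 9754368) (BT.node (nat_lit 9754240) (BT.node (nat_lit 9754176) (BT.leaf (nat_lit 47406877)) (BT.leaf (nat_lit 28711429))) (BT.node (nat_lit 9754304) (BT.leaf (nat_lit 39294213)) (BT.leaf (nat_lit 28683041)))) (BT.node (nat_lit 9754496) (BT.node (nat_lit 9754432) (BT.leaf (nat_lit 41031429)) (BT.leaf (nat_lit 39927045))) (BT.node (nat_lit 9754560) (BT.leaf (nat_lit 41030421)) (BT.leaf (nat_lit 47567109))))) (BT.node (nat_lit 9754757) (BT.node (nat_lit 9754693) (BT.node (nat_lit 9754688) (BT.leaf (nat_lit 42706709)) (BT.leaf (nat_lit 29959429))) (BT.node (nat_lit 9754752) (BT.leaf (nat_lit 750548)) (BT.leaf (nat_lit 45101829)))) (BT.node (nat_lit 9754880) (BT.node (nat_lit 9754816) (BT.leaf (nat_lit 660776)) (BT.leaf (nat_lit 40277025))) (BT.node (nat_lit 9754944) (BT.leaf (nat_lit 30606097)) (BT.leaf (nat_lit 42402577)))))) (BT.node (nat_lit 9755522) (BT.node (nat_lit 9755264) (BT.node (nat_lit 9755136) (BT.node (nat_lit 9755072) (BT.leaf (nat_lit 32483333)) (BT.leaf (nat_lit 28564741))) (BT.node (nat_lit 9755200) (BT.leaf (nat_lit 39872261)) (BT.leaf (nat_lit 32711457)))) (BT.node (nat_lit 9755392) (BT.node (nat_lit 9755328) (BT.leaf (nat_lit 42387973)) (BT.leaf (nat_lit 38146069))) (BT.node (nat_lit 9755456) (BT.leaf (nat_lit 37957389)) (BT.leaf (nat_lit 35130653))))) (BT.node (nat_lit 9755648) (BT.node (nat_lit 9755524) (BT.node (nat_lit 9755523) (BT.leaf (nat_lit 685576)) (BT.leaf (nat_lit 685576))) (BT.node (nat_lit 9755528) (BT.leaf (nat_lit 705300)) (BT.leaf (nat_lit 705300)))) (BT.node (nat_lit 9755776) (BT.node (nat_lit 9755712) (BT.leaf (nat_lit 46118685)) (BT.leaf (nat_lit 37957641))) (BT.node (nat_lit 9755840) (BT.leaf (nat_lit 30159373)) (BT.leaf (nat_lit 31298573))))))) (BT.node (nat_lit 9756868) (BT.node (nat_lit 9756416) (BT.node (nat_lit 9756160) (BT.node (nat_lit 9756032) (BT.node (nat_lit 9755968) (BT.leaf (nat_lit 48457749)) (BT.leaf (nat_lit 29964305))) (BT.node (nat_lit 9756096) (BT.leaf (nat_lit 38880545)) (BT.leaf (nat_lit 43818009)))) (BT.node (nat_lit 9756288) (BT.node (nat_lit 9756224) (BT.leaf (nat_lit 43818013)) (BT.leaf (nat_lit 28077329))) (BT.node (nat_lit 9756352) (BT.leaf (nat_lit 28078609)) (BT.leaf (nat_lit 28076561))))) (BT.node (nat_lit 9756672) (BT.node (nat_lit 9756544) (BT.node (nat_lit 9756480) (BT.leaf (nat_lit 44423701)) (BT.leaf (nat_lit 44110341))) (BT.node (nat_lit 9756608) (BT.leaf (nat_lit 38327305)) (BT.leaf (nat_lit 42580497)))) (BT.node (nat_lit 9756800) (BT.node (nat_lit 9756736) (BT.leaf (nat_lit 29325077)) (BT.leaf (nat_lit 39027229))) (BT.node (nat_lit 9756864) (BT.leaf (nat_lit 38167813)) (BT.leaf (nat_lit 45687301)))))) (BT.node (nat_lit 9757376) (BT.node (nat_lit 9757120) (BT.node (nat_lit 9756992) (BT.node (nat_lit 9756928) (BT.leaf (nat_lit 689724)) (BT.leaf (nat_lit 27558169))) (BT.node (nat_lit 9757056) (BT.leaf (nat_lit 28078105)) (BT.leaf (nat_lit 28078361)))) (BT.node (nat_lit 9757248) (BT.node (nat_lit 9757184) (BT.leaf (nat_lit 42134289)) (BT.leaf (nat_lit 34432025))) (BT.node (nat_lit 9757312) (BT.leaf (nat_lit 28078109)) (BT.leaf (nat_lit 28078365))))) (BT.node (nat_lit 9757632) (BT.node (nat_lit 9757504) (BT.node (nat_lit 9757440) (BT.leaf (nat_lit 43725317)) (BT.leaf (nat_lit 42233353))) (BT.node (nat_lit 9757568) (BT.leaf (nat_lit 38320673)) (BT.leaf (nat_lit 45148449)))) (BT.node (nat_lit 9757760) (BT.node (nat_lit 9757696) (BT.leaf (nat_lit 49249817)) (BT.leaf (nat_lit 49249821))) (BT.node (nat_lit 9757824) (BT.leaf (nat_lit 28876305)) (BT.leaf (nat_lit 44205833)))))))) (BT.node (nat_lit 9759808) (BT.node (nat_lit 9758848) (BT.node (nat_lit 9758336) (BT.node (nat_lit 9758144) (BT.node (nat_lit 9758016) (BT.node (nat_lit 9757952) (BT.leaf (nat_lit 41769233)) (BT.leaf (nat_lit 28080929))) (BT.node (nat_lit 9758080) (BT.leaf (nat_lit 38320649)) (BT.leaf (nat_lit 36819477)))) (BT.node (nat_lit 9758208) (BT.node (nat_lit 9758146) (BT.leaf (nat_lit 45696033)) (BT.leaf (nat_lit 701848))) (BT.node (nat_lit 9758272) (BT.leaf (nat_lit 50982917)) (BT.leaf (nat_lit 30499081))))) (BT.node (nat_lit 9758592) (BT.node (nat_lit 9758464) (BT.node (nat_lit 9758400) (BT.leaf (nat_lit 30499077)) (BT.leaf (nat_lit 30499097))) (BT.node (nat_lit 9758528) (BT.leaf (nat_lit 30499101)) (BT.leaf (nat_lit 29792277)))) (BT.node (nat_lit 9758720) (BT.node (nat_lit 9758656) (BT.leaf (nat_lit 39034121)) (BT.leaf (nat_lit 28106777))) (BT.node (nat_lit 9758784) (BT.leaf (nat_lit 28106781)) (BT.leaf (nat_lit 38879509)))))) (BT.node (nat_lit 9759360) (BT.node (nat_lit 9759104) (BT.node (nat_lit 9758976) (BT.node (nat_lit 9758912) (BT.leaf (nat_lit 27427609)) (BT.leaf (nat_lit 28080153))) (BT.node (nat_lit 9759040) (BT.leaf (nat_lit 28701969)) (BT.leaf (nat_lit 28108565)))) (BT.node (nat_lit 9759232) (BT.node (nat_lit 9759168) (BT.leaf (nat_lit 43300881)) (BT.leaf (nat_lit 33820945))) (BT.node (nat_lit 9759296) (BT.leaf (nat_lit 47547397)) (BT.leaf (nat_lit 29562373))))) (BT.node (nat_lit 9759552) (BT.node (nat_lit 9759488) (BT.node (nat_lit 9759424) (BT.leaf (nat_lit 33820961)) (BT.leaf (nat_lit 46977049))) (BT.node (nat_lit 9759490) (BT.leaf (nat_lit 43541533)) (BT.leaf (nat_lit 614772)))) (BT.node (nat_lit 9759680) (BT.node (nat_lit 9759616) (BT.leaf (nat_lit 28284705)) (BT.leaf (nat_lit 47032609))) (BT.node (nat_lit 9759744) (BT.leaf (nat_lit 47034629)) (BT.leaf (nat_lit 50483733))))))) (BT.node (nat_lit 9760704) (BT.node (nat_lit 9760192) (BT.node (nat_lit 9759936) (BT.node (nat_lit 9759815) (BT.node (nat_lit 9759814) (BT.leaf (nat_lit 33901829)) (BT.leaf (nat_lit 676128))) (BT.node (nat_lit 9759872) (BT.leaf (nat_lit 676128)) (BT.leaf (nat_lit 30148889)))) (BT.node (nat_lit 9760064) (BT.node (nat_lit 9760000) (BT.leaf (nat_lit 30148893)) (BT.leaf (nat_lit 48122645))) (BT.node (nat_lit 9760128) (BT.leaf (nat_lit 39781897)) (BT.leaf (nat_lit 44099085))))) (BT.node (nat_lit 9760448) (BT.node (nat_lit 9760320) (BT.node (nat_lit 9760256) (BT.leaf (nat_lit 41208093)) (BT.leaf (nat_lit 30572301))) (BT.node (nat_lit 9760384) (BT.leaf (nat_lit 28085257)) (BT.leaf (nat_lit 43266581)))) (BT.node (nat_lit 9760576) (BT.node (nat_lit 9760512) (BT.leaf (nat_lit 47345173)) (BT.leaf (nat_lit 28635669))) (BT.node (nat_lit 9760640) (BT.leaf (nat_lit 38179085)) (BT.leaf (nat_lit 28085517)))))) (BT.node (nat_lit 9761216) (BT.node (nat_lit 9760960) (BT.node (nat_lit 9760832) (BT.node (nat_lit 9760768) (BT.leaf (nat_lit 50601481)) (BT.leaf (nat_lit 49424925))) (BT.node (nat_lit 9760896) (BT.leaf (nat_lit 48866309)) (BT.leaf (nat_lit 28666649)))) (BT.node (nat_lit 9761088) (BT.node (nat_lit 9761024) (BT.leaf (nat_lit 49424653)) (BT.leaf (nat_lit 30597137))) (BT.node (nat_lit 9761152) (BT.leaf (nat_lit 30597141)) (BT.leaf (nat_lit 37765137))))) (BT.node (nat_lit 9761472) (BT.node (nat_lit 9761344) (BT.node (nat_lit 9761280) (BT.leaf (nat_lit 31340293)) (BT.leaf (nat_lit 28087577))) (BT.node (nat_lit 9761408) (BT.leaf (nat_lit 30163985)) (BT.leaf (nat_lit 31340309)))) (BT.node (nat_lit 9761600) (BT.node (nat_lit 9761536) (BT.leaf (nat_lit 34970377)) (BT.leaf (nat_lit 34856205))) (BT.node (nat_lit 9761664) (BT.leaf (nat_lit 28087825)) (BT.leaf (nat_lit 40026145))))))))) (BT.node (nat_lit 9765760) (BT.node (nat_lit 9763776) (BT.node (nat_lit 9762752) (BT.node (nat_lit 9762240) (BT.node (nat_lit 9761984) (BT.node (nat_lit 9761856) (BT.node (nat_lit 9761792) (BT.leaf (nat_lit 30175517)) (BT.leaf (nat_lit 51549193))) (BT.node (nat_lit 9761920) (BT.leaf (nat_lit 51549197)) (BT.leaf (nat_lit 30358293)))) (BT.node (nat_lit 9762112) (BT.node (nat_lit 9762048) (BT.leaf (nat_lit 38035225)) (BT.leaf (nat_lit 38035229))) (BT.node (nat_lit 9762176) (BT.leaf (nat_lit 51549217)) (BT.leaf (nat_lit 31092241))))) (BT.node (nat_lit 9762496) (BT.node (nat_lit 9762368) (BT.node (nat_lit 9762304) (BT.leaf (nat_lit 30358281)) (BT.leaf (nat_lit 41528581))) (BT.node (nat_lit 9762432) (BT.leaf (nat_lit 30358297)) (BT.leaf (nat_lit 30358301)))) (BT.node (nat_lit 9762624) (BT.node (nat_lit 9762560) (BT.leaf (nat_lit 33075485)) (BT.leaf (nat_lit 50459677))) (BT.node (nat_lit 9762688) (BT.leaf (nat_lit 47208737)) (BT.leaf (nat_lit 46469641)))))) (BT.node (nat_lit 9763264) (BT.node (nat_lit 9763008) (BT.node (nat_lit 9762880) (BT.node (nat_lit 9762816) (BT.leaf (nat_lit 28271121)) (BT.leaf (nat_lit 28092177))) (BT.node (nat_lit 9762944) (BT.leaf (nat_lit 28091409)) (BT.leaf (nat_lit 28296217)))) (BT.node (nat_lit 9763136) (BT.node (nat_lit 9763072) (BT.leaf (nat_lit 28296221)) (BT.leaf (nat_lit 28094225))) (BT.node (nat_lit 9763200) (BT.leaf (nat_lit 28093713)) (BT.leaf (nat_lit 48097297))))) (BT.node (nat_lit 9763520) (BT.node (nat_lit 9763392) (BT.node (nat_lit 9763328) (BT.leaf (nat_lit 29391129)) (BT.leaf (nat_lit 29391133))) (BT.node (nat_lit 9763456) (BT.leaf (nat_lit 28451081)) (BT.leaf (nat_lit 49225997)))) (BT.node (nat_lit 9763648) (BT.node (nat_lit 9763584) (BT.leaf (nat_lit 47325205)) (BT.leaf (nat_lit 32241669))) (BT.node (nat_lit 9763712) (BT.leaf (nat_lit 30393361)) (BT.leaf (nat_lit 34796045))))))) (BT.node (nat_lit 9764800) (BT.node (nat_lit 9764288) (BT.node (nat_lit 9764032) (BT.node (nat_lit 9763904) (BT.node (nat_lit 9763840) (BT.leaf (nat_lit 50914069)) (BT.leaf (nat_lit 29328661))) (BT.node (nat_lit 9763968) (BT.leaf (nat_lit 32492293)) (BT.leaf (nat_lit 49443105)))) (BT.node (nat_lit 9764160) (BT.node (nat_lit 9764096) (BT.leaf (nat_lit 28097553)) (BT.leaf (nat_lit 28097557))) (BT.node (nat_lit 9764224) (BT.leaf (nat_lit 32642081)) (BT.leaf (nat_lit 38893601))))) (BT.node (nat_lit 9764544) (BT.node (nat_lit 9764416) (BT.node (nat_lit 9764352) (BT.leaf (nat_lit 38450721)) (BT.leaf (nat_lit 30980125))) (BT.node (nat_lit 9764480) (BT.leaf (nat_lit 38900001)) (BT.leaf (nat_lit 38777869)))) (BT.node (nat_lit 9764672) (BT.node (nat_lit 9764608) (BT.leaf (nat_lit 31169053)) (BT.leaf (nat_lit 31295761))) (BT.node (nat_lit 9764736) (BT.leaf (nat_lit 45983761)) (BT.leaf (nat_lit 30979853)))))) (BT.node (nat_lit 9765312) (BT.node (nat_lit 9765056) (BT.node (nat_lit 9764928) (BT.node (nat_lit 9764864) (BT.leaf (nat_lit 33295645)) (BT.leaf (nat_lit 41916165))) (BT.node (nat_lit 9764992) (BT.leaf (nat_lit 40165409)) (BT.leaf (nat_lit 39464469)))) (BT.node (nat_lit 9765184) (BT.node (nat_lit 9765120) (BT.leaf (nat_lit 41234713)) (BT.leaf (nat_lit 41234717))) (BT.node (nat_lit 9765248) (BT.leaf (nat_lit 30060053)) (BT.leaf (nat_lit 30060057))))) (BT.node (nat_lit 9765568) (BT.node (nat_lit 9765440) (BT.node (nat_lit 9765376) (BT.leaf (nat_lit 40183557)) (BT.leaf (nat_lit 32029189))) (BT.node (nat_lit 9765504) (BT.leaf (nat_lit 47864589)) (BT.leaf (nat_lit 48577297)))) (BT.node (nat_lit 9765639) (BT.node (nat_lit 9765632) (BT.leaf (nat_lit 39062041)) (BT.leaf (nat_lit 39062029))) (BT.node (nat_lit 9765696) (BT.leaf (nat_lit 758916)) (BT.leaf (nat_lit 39279621)))))))) (BT.node (nat_lit 9767808) (BT.node (nat_lit 9766784) (BT.node (nat_lit 9766272) (BT.node (nat_lit 9766016) (BT.node (nat_lit 9765888) (BT.node (nat_lit 9765824) (BT.leaf (nat_lit 40167201)) (BT.leaf (nat_lit 48122381))) (BT.node (nat_lit 9765952) (BT.leaf (nat_lit 33936409)) (BT.leaf (nat_lit 29087773)))) (BT.node (nat_lit 9766144) (BT.node (nat_lit 9766080) (BT.leaf (nat_lit 34352145)) (BT.leaf (nat_lit 30149409))) (BT.node (nat_lit 9766208) (BT.leaf (nat_lit 34352401)) (BT.leaf (nat_lit 38734869))))) (BT.node (nat_lit 9766528) (BT.node (nat_lit 9766400) (BT.node (nat_lit 9766336) (BT.leaf (nat_lit 49426193)) (BT.leaf (nat_lit 40054021))) (BT.node (nat_lit 9766464) (BT.leaf (nat_lit 31253537)) (BT.leaf (nat_lit 39723797)))) (BT.node (nat_lit 9766656) (BT.node (nat_lit 9766592) (BT.leaf (nat_lit 38573829)) (BT.leaf (nat_lit 32323605))) (BT.node (nat_lit 9766720) (BT.leaf (nat_lit 36732185)) (BT.leaf (nat_lit 36732189)))))) (BT.node (nat_lit 9767296) (BT.node (nat_lit 9767040) (BT.node (nat_lit 9766912) (BT.node (nat_lit 9766848) (BT.leaf (nat_lit 39091213)) (BT.leaf (nat_lit 39500313))) (BT.node (nat_lit 9766976) (BT.leaf (nat_lit 42293765)) (BT.leaf (nat_lit 29130517)))) (BT.node (nat_lit 9767168) (BT.node (nat_lit 9767104) (BT.leaf (nat_lit 29130525)) (BT.leaf (nat_lit 29039637))) (BT.node (nat_lit 9767232) (BT.leaf (nat_lit 35324693)) (BT.leaf (nat_lit 30254369))))) (BT.node (nat_lit 9767552) (BT.node (nat_lit 9767424) (BT.node (nat_lit 9767360) (BT.leaf (nat_lit 38274573)) (BT.leaf (nat_lit 31056145))) (BT.node (nat_lit 9767488) (BT.leaf (nat_lit 30254613)) (BT.leaf (nat_lit 31201297)))) (BT.node (nat_lit 9767680) (BT.node (nat_lit 9767616) (BT.leaf (nat_lit 36162065)) (BT.leaf (nat_lit 46752017))) (BT.node (nat_lit 9767744) (BT.leaf (nat_lit 46457121)) (BT.leaf (nat_lit 38209305))))))) (BT.node (nat_lit 9768640) (BT.node (nat_lit 9768192) (BT.node (nat_lit 9768064) (BT.node (nat_lit 9767936) (BT.node (nat_lit 9767872) (BT.leaf (nat_lit 38209309)) (BT.leaf (nat_lit 49192457))) (BT.node (nat_lit 9768000) (BT.leaf (nat_lit 27760157)) (BT.leaf (nat_lit 40928529)))) (BT.node (nat_lit 9768132) (BT.node (nat_lit 9768128) (BT.leaf (nat_lit 27760137)) (BT.leaf (nat_lit 49192477))) (BT.node (nat_lit 9768136) (BT.leaf (nat_lit 773324)) (BT.leaf (nat_lit 773324))))) (BT.node (nat_lit 9768448) (BT.node (nat_lit 9768320) (BT.node (nat_lit 9768256) (BT.leaf (nat_lit 28109317)) (BT.leaf (nat_lit 39584801))) (BT.node (nat_lit 9768384) (BT.leaf (nat_lit 47709713)) (BT.leaf (nat_lit 38654989)))) (BT.node (nat_lit 9768517) (BT.node (nat_lit 9768512) (BT.leaf (nat_lit 49885717)) (BT.leaf (nat_lit 41359649))) (BT.node (nat_lit 9768576) (BT.leaf (nat_lit 772116)) (BT.leaf (nat_lit 45572109)))))) (BT.node (nat_lit 9769088) (BT.node (nat_lit 9768896) (BT.node (nat_lit 9768768) (BT.node (nat_lit 9768704) (BT.leaf (nat_lit 31141901)) (BT.leaf (nat_lit 45576469))) (BT.node (nat_lit 9768832) (BT.leaf (nat_lit 32473365)) (BT.leaf (nat_lit 27498513)))) (BT.node (nat_lit 9769024) (BT.node (nat_lit 9768960) (BT.leaf (nat_lit 44994069)) (BT.leaf (nat_lit 42697505))) (BT.node (nat_lit 9769032) (BT.leaf (nat_lit 28111121)) (BT.leaf (nat_lit 807388))))) (BT.node (nat_lit 9769280) (BT.node (nat_lit 9769156) (BT.node (nat_lit 9769152) (BT.leaf (nat_lit 27778321)) (BT.leaf (nat_lit 41830165))) (BT.node (nat_lit 9769216) (BT.leaf (nat_lit 710604)) (BT.leaf (nat_lit 39077149)))) (BT.node (nat_lit 9769408) (BT.node (nat_lit 9769344) (BT.leaf (nat_lit 42387717)) (BT.leaf (nat_lit 47230241))) (BT.node (nat_lit 9769472) (BT.leaf (nat_lit 32115465)) (BT.leaf (nat_lit 46194965)))))))))))))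
noncomputable def big0_e79872 : BT Nat := (BT.node (nat_lit 9829952) (BT.node (nat_lit 9801024) (BT.node (nat_lit 9785408) (BT.node (nat_lit 9777344) (BT.node (nat_lit 9773440) (BT.node (nat_lit 9771520) (BT.node (nat_lit 9770496) (BT.node (nat_lit 9769984) (BT.node (nat_lit 9769728) (BT.node (nat_lit 9769600) (BT.node (nat_lit 9769536) (BT.leaf (nat_lit 757892)) (BT.leaf (nat_lit 31649553))) (BT.node (nat_lit 9769664) (BT.leaf (nat_lit 30276377)) (BT.leaf (nat_lit 30276381)))) (BT.node (nat_lit 9769856) (BT.node (nat_lit 9769792) (BT.leaf (nat_lit 31914245)) (BT.leaf (nat_lit 31918369))) (BT.node (nat_lit 9769920) (BT.leaf (nat_lit 30890245)) (BT.leaf (nat_lit 45023765))))) (BT.node (nat_lit 9770240) (BT.node (nat_lit 9770112) (BT.node (nat_lit 9770048) (BT.leaf (nat_lit 35996437)) (BT.leaf (nat_lit 28114961))) (BT.node (nat_lit 9770176) (BT.leaf (nat_lit 39212553)) (BT.leaf (nat_lit 28283153)))) (BT.node (nat_lit 9770368) (BT.node (nat_lit 9770304) (BT.leaf (nat_lit 45932549)) (BT.leaf (nat_lit 40066573))) (BT.node (nat_lit 9770432) (BT.leaf (nat_lit 37773333)) (BT.leaf (nat_lit 37773585)))))) (BT.node (nat_lit 9771008) (BT.node (nat_lit 9770752) (BT.node (nat_lit 9770624) (BT.node (nat_lit 9770560) (BT.leaf (nat_lit 30201097)) (BT.leaf (nat_lit 34897413))) (BT.node (nat_lit 9770688) (BT.leaf (nat_lit 42424097)) (BT.leaf (nat_lit 40066589)))) (BT.node (nat_lit 9770880) (BT.node (nat_lit 9770816) (BT.leaf (nat_lit 36390677)) (BT.leaf (nat_lit 36390661))) (BT.node (nat_lit 9770944) (BT.leaf (nat_lit 30201113)) (BT.leaf (nat_lit 30201117))))) (BT.node (nat_lit 9771264) (BT.node (nat_lit 9771136) (BT.node (nat_lit 9771072) (BT.leaf (nat_lit 31802117)) (BT.leaf (nat_lit 31792145))) (BT.node (nat_lit 9771200) (BT.leaf (nat_lit 41931269)) (BT.leaf (nat_lit 41025541)))) (BT.node (nat_lit 9771392) (BT.node (nat_lit 9771328) (BT.leaf (nat_lit 31261729)) (BT.leaf (nat_lit 43917829))) (BT.node (nat_lit 9771456) (BT.leaf (nat_lit 28288801)) (BT.leaf (nat_lit 38178825))))))) (BT.node (nat_lit 9772544) (BT.node (nat_lit 9772032) (BT.node (nat_lit 9771776) (BT.node (nat_lit 9771648) (BT.node (nat_lit 9771584) (BT.leaf (nat_lit 32477705)) (BT.leaf (nat_lit 40288533))) (BT.node (nat_lit 9771712) (BT.leaf (nat_lit 39563781)) (BT.leaf (nat_lit 43196677)))) (BT.node (nat_lit 9771904) (BT.node (nat_lit 9771840) (BT.leaf (nat_lit 30047493)) (BT.leaf (nat_lit 29845253))) (BT.node (nat_lit 9771968) (BT.leaf (nat_lit 32150305)) (BT.leaf (nat_lit 45050401))))) (BT.node (nat_lit 9772288) (BT.node (nat_lit 9772160) (BT.node (nat_lit 9772096) (BT.leaf (nat_lit 31801605)) (BT.leaf (nat_lit 39712281))) (BT.node (nat_lit 9772224) (BT.leaf (nat_lit 39712285)) (BT.leaf (nat_lit 32975377)))) (BT.node (nat_lit 9772416) (BT.node (nat_lit 9772352) (BT.leaf (nat_lit 32833049)) (BT.leaf (nat_lit 32833053))) (BT.node (nat_lit 9772480) (BT.leaf (nat_lit 36180509)) (BT.leaf (nat_lit 32160517)))))) (BT.node (nat_lit 9773056) (BT.node (nat_lit 9772800) (BT.node (nat_lit 9772672) (BT.node (nat_lit 9772608) (BT.leaf (nat_lit 40192005)) (BT.leaf (nat_lit 39901965))) (BT.node (nat_lit 9772736) (BT.leaf (nat_lit 30927393)) (BT.leaf (nat_lit 46632733)))) (BT.node (nat_lit 9772928) (BT.node (nat_lit 9772864) (BT.leaf (nat_lit 49850901)) (BT.leaf (nat_lit 41406741))) (BT.node (nat_lit 9772992) (BT.leaf (nat_lit 30691333)) (BT.leaf (nat_lit 35303941))))) (BT.node (nat_lit 9773188) (BT.node (nat_lit 9773184) (BT.node (nat_lit 9773120) (BT.leaf (nat_lit 48216353)) (BT.leaf (nat_lit 28106769))) (BT.node (nat_lit 9773185) (BT.leaf (nat_lit 30692385)) (BT.leaf (nat_lit 655764)))) (BT.node (nat_lit 9773312) (BT.node (nat_lit 9773248) (BT.leaf (nat_lit 751512)) (BT.leaf (nat_lit 30692129))) (BT.node (nat_lit 9773376) (BT.leaf (nat_lit 30257929)) (BT.leaf (nat_lit 30257933)))))))) (BT.node (nat_lit 9775362) (BT.node (nat_lit 9774400) (BT.node (nat_lit 9773952) (BT.node (nat_lit 9773696) (BT.node (nat_lit 9773568) (BT.node (nat_lit 9773504) (BT.leaf (nat_lit 30257945)) (BT.leaf (nat_lit 42499349))) (BT.node (nat_lit 9773632) (BT.leaf (nat_lit 30692881)) (BT.leaf (nat_lit 48964613)))) (BT.node (nat_lit 9773824) (BT.node (nat_lit 9773760) (BT.leaf (nat_lit 42470689)) (BT.leaf (nat_lit 28118033))) (BT.node (nat_lit 9773888) (BT.leaf (nat_lit 43097889)) (BT.leaf (nat_lit 31179781))))) (BT.node (nat_lit 9774149) (BT.node (nat_lit 9774080) (BT.node (nat_lit 9774016) (BT.leaf (nat_lit 43923997)) (BT.leaf (nat_lit 41108757))) (BT.node (nat_lit 9774144) (BT.leaf (nat_lit 44622881)) (BT.leaf (nat_lit 34163217)))) (BT.node (nat_lit 9774272) (BT.node (nat_lit 9774208) (BT.leaf (nat_lit 669192)) (BT.leaf (nat_lit 32166917))) (BT.node (nat_lit 9774336) (BT.leaf (nat_lit 32319757)) (BT.leaf (nat_lit 28119573)))))) (BT.node (nat_lit 9774912) (BT.node (nat_lit 9774656) (BT.node (nat_lit 9774528) (BT.node (nat_lit 9774464) (BT.leaf (nat_lit 32319769)) (BT.leaf (nat_lit 32319773))) (BT.node (nat_lit 9774592) (BT.leaf (nat_lit 32319777)) (BT.leaf (nat_lit 41321745)))) (BT.node (nat_lit 9774784) (BT.node (nat_lit 9774720) (BT.leaf (nat_lit 43078405)) (BT.leaf (nat_lit 32711429))) (BT.node (nat_lit 9774848) (BT.leaf (nat_lit 39564041)) (BT.leaf (nat_lit 42408213))))) (BT.node (nat_lit 9775168) (BT.node (nat_lit 9775040) (BT.node (nat_lit 9774976) (BT.leaf (nat_lit 40942597)) (BT.leaf (nat_lit 39883025))) (BT.node (nat_lit 9775104) (BT.leaf (nat_lit 34990345)) (BT.leaf (nat_lit 39891205)))) (BT.node (nat_lit 9775296) (BT.node (nat_lit 9775232) (BT.leaf (nat_lit 28121361)) (BT.leaf (nat_lit 28123921))) (BT.node (nat_lit 9775360) (BT.leaf (nat_lit 38479905)) (BT.leaf (nat_lit 31264801))))))) (BT.node (nat_lit 9776448) (BT.node (nat_lit 9775936) (BT.node (nat_lit 9775616) (BT.node (nat_lit 9775488) (BT.node (nat_lit 9775424) (BT.leaf (nat_lit 738760)) (BT.leaf (nat_lit 28121617))) (BT.node (nat_lit 9775552) (BT.leaf (nat_lit 41723157)) (BT.leaf (nat_lit 43758093)))) (BT.node (nat_lit 9775808) (BT.node (nat_lit 9775744) (BT.leaf (nat_lit 28122117)) (BT.leaf (nat_lit 38616345))) (BT.node (nat_lit 9775872) (BT.leaf (nat_lit 41003041)) (BT.leaf (nat_lit 49099525))))) (BT.node (nat_lit 9776192) (BT.node (nat_lit 9776064) (BT.node (nat_lit 9776000) (BT.leaf (nat_lit 40300301)) (BT.leaf (nat_lit 43753749))) (BT.node (nat_lit 9776128) (BT.leaf (nat_lit 28361505)) (BT.leaf (nat_lit 40171277)))) (BT.node (nat_lit 9776320) (BT.node (nat_lit 9776256) (BT.leaf (nat_lit 28123673)) (BT.leaf (nat_lit 28361489))) (BT.node (nat_lit 9776384) (BT.leaf (nat_lit 28361493)) (BT.leaf (nat_lit 28123677)))))) (BT.node (nat_lit 9776832) (BT.node (nat_lit 9776576) (BT.node (nat_lit 9776518) (BT.node (nat_lit 9776512) (BT.leaf (nat_lit 41854737)) (BT.leaf (nat_lit 38193677))) (BT.node (nat_lit 9776519) (BT.leaf (nat_lit 655052)) (BT.leaf (nat_lit 655052)))) (BT.node (nat_lit 9776704) (BT.node (nat_lit 9776640) (BT.leaf (nat_lit 28125201)) (BT.leaf (nat_lit 28124433))) (BT.node (nat_lit 9776768) (BT.leaf (nat_lit 28124177)) (BT.leaf (nat_lit 29145633))))) (BT.node (nat_lit 9777024) (BT.node (nat_lit 9776896) (BT.node (nat_lit 9776837) (BT.leaf (nat_lit 30836741)) (BT.leaf (nat_lit 738604))) (BT.node (nat_lit 9776960) (BT.leaf (nat_lit 49747741)) (BT.leaf (nat_lit 39924749)))) (BT.node (nat_lit 9777156) (BT.node (nat_lit 9777088) (BT.leaf (nat_lit 31400709)) (BT.leaf (nat_lit 31400721))) (BT.node (nat_lit 9777280) (BT.leaf (nat_lit 688800)) (BT.leaf (nat_lit 37875977))))))))) (BT.node (nat_lit 9781440) (BT.node (nat_lit 9779264) (BT.node (nat_lit 9778368) (BT.node (nat_lit 9777856) (BT.node (nat_lit 9777600) (BT.node (nat_lit 9777472) (BT.node (nat_lit 9777408) (BT.leaf (nat_lit 29553165)) (BT.leaf (nat_lit 39072781))) (BT.node (nat_lit 9777536) (BT.leaf (nat_lit 29553177)) (BT.leaf (nat_lit 29553181)))) (BT.node (nat_lit 9777728) (BT.node (nat_lit 9777664) (BT.leaf (nat_lit 27543305)) (BT.leaf (nat_lit 29759001))) (BT.node (nat_lit 9777792) (BT.leaf (nat_lit 29759005)) (BT.leaf (nat_lit 47420933))))) (BT.node (nat_lit 9778112) (BT.node (nat_lit 9777984) (BT.node (nat_lit 9777920) (BT.leaf (nat_lit 41043461)) (BT.leaf (nat_lit 49610529))) (BT.node (nat_lit 9778048) (BT.leaf (nat_lit 47421217)) (BT.leaf (nat_lit 29817625)))) (BT.node (nat_lit 9778240) (BT.node (nat_lit 9778176) (BT.leaf (nat_lit 29817629)) (BT.leaf (nat_lit 41948421))) (BT.node (nat_lit 9778304) (BT.leaf (nat_lit 44237849)) (BT.leaf (nat_lit 39666961)))))) (BT.node (nat_lit 9778816) (BT.node (nat_lit 9778624) (BT.node (nat_lit 9778496) (BT.node (nat_lit 9778432) (BT.leaf (nat_lit 39666965)) (BT.leaf (nat_lit 45448465))) (BT.node (nat_lit 9778560) (BT.leaf (nat_lit 38584837)) (BT.leaf (nat_lit 37891361)))) (BT.node (nat_lit 9778692) (BT.node (nat_lit 9778688) (BT.leaf (nat_lit 40733465)) (BT.leaf (nat_lit 41415701))) (BT.node (nat_lit 9778752) (BT.leaf (nat_lit 638924)) (BT.leaf (nat_lit 39681029))))) (BT.node (nat_lit 9779072) (BT.node (nat_lit 9778944) (BT.node (nat_lit 9778880) (BT.leaf (nat_lit 44842005)) (BT.leaf (nat_lit 43246625))) (BT.node (nat_lit 9779008) (BT.leaf (nat_lit 38167057)) (BT.leaf (nat_lit 48296725)))) (BT.node (nat_lit 9779200) (BT.node (nat_lit 9779136) (BT.leaf (nat_lit 32944393)) (BT.leaf (nat_lit 39072533))) (BT.node (nat_lit 9779203) (BT.leaf (nat_lit 48253213)) (BT.leaf (nat_lit 664732))))))) (BT.node (nat_lit 9780416) (BT.node (nat_lit 9779712) (BT.node (nat_lit 9779460) (BT.node (nat_lit 9779392) (BT.node (nat_lit 9779328) (BT.leaf (nat_lit 32944409)) (BT.leaf (nat_lit 32944413))) (BT.node (nat_lit 9779456) (BT.leaf (nat_lit 34350613)) (BT.leaf (nat_lit 38327557)))) (BT.node (nat_lit 9779584) (BT.node (nat_lit 9779520) (BT.leaf (nat_lit 760260)) (BT.leaf (nat_lit 27760153))) (BT.node (nat_lit 9779648) (BT.leaf (nat_lit 32866321)) (BT.leaf (nat_lit 27760141))))) (BT.node (nat_lit 9780160) (BT.node (nat_lit 9779843) (BT.node (nat_lit 9779840) (BT.leaf (nat_lit 46845701)) (BT.leaf (nat_lit 30052629))) (BT.node (nat_lit 9780096) (BT.leaf (nat_lit 675748)) (BT.leaf (nat_lit 38225941)))) (BT.node (nat_lit 9780288) (BT.node (nat_lit 9780224) (BT.leaf (nat_lit 29088277)) (BT.leaf (nat_lit 40893973))) (BT.node (nat_lit 9780352) (BT.leaf (nat_lit 50505505)) (BT.leaf (nat_lit 47417889)))))) (BT.node (nat_lit 9780928) (BT.node (nat_lit 9780672) (BT.node (nat_lit 9780544) (BT.node (nat_lit 9780480) (BT.leaf (nat_lit 50505761)) (BT.leaf (nat_lit 28826629))) (BT.node (nat_lit 9780608) (BT.leaf (nat_lit 42221321)) (BT.leaf (nat_lit 29145365)))) (BT.node (nat_lit 9780800) (BT.node (nat_lit 9780736) (BT.leaf (nat_lit 40823329)) (BT.leaf (nat_lit 40823325))) (BT.node (nat_lit 9780864) (BT.leaf (nat_lit 29145113)) (BT.leaf (nat_lit 44751377))))) (BT.node (nat_lit 9781184) (BT.node (nat_lit 9781056) (BT.node (nat_lit 9780992) (BT.leaf (nat_lit 42481925)) (BT.leaf (nat_lit 38283297))) (BT.node (nat_lit 9781120) (BT.leaf (nat_lit 40409625)) (BT.leaf (nat_lit 40409629)))) (BT.node (nat_lit 9781312) (BT.node (nat_lit 9781248) (BT.leaf (nat_lit 32140293)) (BT.leaf (nat_lit 30545433))) (BT.node (nat_lit 9781376) (BT.leaf (nat_lit 49059077)) (BT.leaf (nat_lit 34551313)))))))) (BT.node (nat_lit 9783360) (BT.node (nat_lit 9782341) (BT.node (nat_lit 9781952) (BT.node (nat_lit 9781696) (BT.node (nat_lit 9781568) (BT.node (nat_lit 9781504) (BT.leaf (nat_lit 32014369)) (BT.leaf (nat_lit 46545425))) (BT.node (nat_lit 9781632) (BT.leaf (nat_lit 37825797)) (BT.leaf (nat_lit 44383005)))) (BT.node (nat_lit 9781824) (BT.node (nat_lit 9781760) (BT.leaf (nat_lit 41062661)) (BT.leaf (nat_lit 28278289))) (BT.node (nat_lit 9781888) (BT.leaf (nat_lit 31571985)) (BT.leaf (nat_lit 41232929))))) (BT.node (nat_lit 9782144) (BT.node (nat_lit 9782016) (BT.node (nat_lit 9781957) (BT.leaf (nat_lit 32021025)) (BT.leaf (nat_lit 817388))) (BT.node (nat_lit 9782080) (BT.leaf (nat_lit 30916873)) (BT.leaf (nat_lit 30916877)))) (BT.node (nat_lit 9782272) (BT.node (nat_lit 9782216) (BT.leaf (nat_lit 39368993)) (BT.leaf (nat_lit 755648))) (BT.node (nat_lit 9782336) (BT.leaf (nat_lit 40104469)) (BT.leaf (nat_lit 37855757)))))) (BT.node (nat_lit 9782848) (BT.node (nat_lit 9782592) (BT.node (nat_lit 9782464) (BT.node (nat_lit 9782400) (BT.leaf (nat_lit 618360)) (BT.leaf (nat_lit 28132881))) (BT.node (nat_lit 9782528) (BT.leaf (nat_lit 32023841)) (BT.leaf (nat_lit 32024353)))) (BT.node (nat_lit 9782720) (BT.node (nat_lit 9782656) (BT.leaf (nat_lit 48700945)) (BT.leaf (nat_lit 31728925))) (BT.node (nat_lit 9782784) (BT.leaf (nat_lit 42800673)) (BT.leaf (nat_lit 38651397))))) (BT.node (nat_lit 9783104) (BT.node (nat_lit 9782976) (BT.node (nat_lit 9782912) (BT.leaf (nat_lit 44140565)) (BT.leaf (nat_lit 40750089))) (BT.node (nat_lit 9783040) (BT.leaf (nat_lit 28208661)) (BT.leaf (nat_lit 31678229)))) (BT.node (nat_lit 9783232) (BT.node (nat_lit 9783168) (BT.leaf (nat_lit 31678233)) (BT.leaf (nat_lit 41841933))) (BT.node (nat_lit 9783296) (BT.leaf (nat_lit 40955401)) (BT.leaf (nat_lit 40955405))))))) (BT.node (nat_lit 9784384) (BT.node (nat_lit 9783872) (BT.node (nat_lit 9783616) (BT.node (nat_lit 9783488) (BT.node (nat_lit 9783424) (BT.leaf (nat_lit 28659477)) (BT.leaf (nat_lit 32109573))) (BT.node (nat_lit 9783552) (BT.leaf (nat_lit 28137497)) (BT.leaf (nat_lit 28137501)))) (BT.node (nat_lit 9783744) (BT.node (nat_lit 9783680) (BT.leaf (nat_lit 28138001)) (BT.leaf (nat_lit 28137745))) (BT.node (nat_lit 9783808) (BT.leaf (nat_lit 28659481)) (BT.leaf (nat_lit 28659485))))) (BT.node (nat_lit 9784128) (BT.node (nat_lit 9784000) (BT.node (nat_lit 9783936) (BT.leaf (nat_lit 48108565)) (BT.leaf (nat_lit 48503581))) (BT.node (nat_lit 9784064) (BT.leaf (nat_lit 28139029)) (BT.leaf (nat_lit 29689605)))) (BT.node (nat_lit 9784256) (BT.node (nat_lit 9784192) (BT.leaf (nat_lit 39136281)) (BT.leaf (nat_lit 38271237))) (BT.node (nat_lit 9784320) (BT.leaf (nat_lit 28138265)) (BT.leaf (nat_lit 30994961)))))) (BT.node (nat_lit 9784896) (BT.node (nat_lit 9784640) (BT.node (nat_lit 9784512) (BT.node (nat_lit 9784448) (BT.leaf (nat_lit 28138269)) (BT.leaf (nat_lit 32720401))) (BT.node (nat_lit 9784576) (BT.leaf (nat_lit 43270945)) (BT.leaf (nat_lit 43479317)))) (BT.node (nat_lit 9784768) (BT.node (nat_lit 9784704) (BT.leaf (nat_lit 46447109)) (BT.leaf (nat_lit 30803733))) (BT.node (nat_lit 9784832) (BT.leaf (nat_lit 30086921)) (BT.leaf (nat_lit 30086925))))) (BT.node (nat_lit 9785152) (BT.node (nat_lit 9785024) (BT.node (nat_lit 9784960) (BT.leaf (nat_lit 28141589)) (BT.leaf (nat_lit 30086941))) (BT.node (nat_lit 9785088) (BT.leaf (nat_lit 30086945)) (BT.leaf (nat_lit 28113177)))) (BT.node (nat_lit 9785280) (BT.node (nat_lit 9785216) (BT.leaf (nat_lit 40560653)) (BT.leaf (nat_lit 30794005))) (BT.node (nat_lit 9785344) (BT.leaf (nat_lit 30055177)) (BT.leaf (nat_lit 30055181)))))))))) (BT.node (nat_lit 9793280) (BT.node (nat_lit 9789312) (BT.node (nat_lit 9787392) (BT.node (nat_lit 9786432) (BT.node (nat_lit 9785920) (BT.node (nat_lit 9785664) (BT.node (nat_lit 9785536) (BT.node (nat_lit 9785472) (BT.leaf (nat_lit 36276257)) (BT.leaf (nat_lit 30055193))) (BT.node (nat_lit 9785600) (BT.leaf (nat_lit 30055197)) (BT.leaf (nat_lit 35245321)))) (BT.node (nat_lit 9785792) (BT.node (nat_lit 9785728) (BT.leaf (nat_lit 28142109)) (BT.leaf (nat_lit 29684257))) (BT.node (nat_lit 9785856) (BT.leaf (nat_lit 29684485)) (BT.leaf (nat_lit 47837701))))) (BT.node (nat_lit 9786176) (BT.node (nat_lit 9786048) (BT.node (nat_lit 9785984) (BT.leaf (nat_lit 28142609)) (BT.leaf (nat_lit 38064901))) (BT.node (nat_lit 9786112) (BT.leaf (nat_lit 47609889)) (BT.leaf (nat_lit 48081421)))) (BT.node (nat_lit 9786304) (BT.node (nat_lit 9786240) (BT.leaf (nat_lit 28145937)) (BT.leaf (nat_lit 28145681))) (BT.node (nat_lit 9786368) (BT.leaf (nat_lit 28406805)) (BT.leaf (nat_lit 46405649)))))) (BT.node (nat_lit 9786880) (BT.node (nat_lit 9786624) (BT.node (nat_lit 9786560) (BT.node (nat_lit 9786496) (BT.leaf (nat_lit 47830789)) (BT.leaf (nat_lit 32374293))) (BT.node (nat_lit 9786565) (BT.leaf (nat_lit 39075085)) (BT.leaf (nat_lit 770952)))) (BT.node (nat_lit 9786752) (BT.node (nat_lit 9786688) (BT.leaf (nat_lit 33302281)) (BT.leaf (nat_lit 28146705))) (BT.node (nat_lit 9786816) (BT.leaf (nat_lit 40046109)) (BT.leaf (nat_lit 43911433))))) (BT.node (nat_lit 9787136) (BT.node (nat_lit 9787008) (BT.node (nat_lit 9786944) (BT.leaf (nat_lit 31274781)) (BT.leaf (nat_lit 28146205))) (BT.node (nat_lit 9787072) (BT.leaf (nat_lit 45373957)) (BT.leaf (nat_lit 48500765)))) (BT.node (nat_lit 9787264) (BT.node (nat_lit 9787200) (BT.leaf (nat_lit 28147473)) (BT.leaf (nat_lit 28146961))) (BT.node (nat_lit 9787328) (BT.leaf (nat_lit 39836165)) (BT.leaf (nat_lit 32594181))))))) (BT.node (nat_lit 9788288) (BT.node (nat_lit 9787779) (BT.node (nat_lit 9787648) (BT.node (nat_lit 9787520) (BT.node (nat_lit 9787456) (BT.leaf (nat_lit 31275033)) (BT.leaf (nat_lit 37829905))) (BT.node (nat_lit 9787584) (BT.leaf (nat_lit 43753501)) (BT.leaf (nat_lit 28148753)))) (BT.node (nat_lit 9787776) (BT.node (nat_lit 9787712) (BT.leaf (nat_lit 28148241)) (BT.leaf (nat_lit 28147985))) (BT.node (nat_lit 9787778) (BT.leaf (nat_lit 49005589)) (BT.leaf (nat_lit 776816))))) (BT.node (nat_lit 9788032) (BT.node (nat_lit 9787904) (BT.node (nat_lit 9787840) (BT.leaf (nat_lit 776816)) (BT.leaf (nat_lit 42239517))) (BT.node (nat_lit 9787968) (BT.leaf (nat_lit 51317793)) (BT.leaf (nat_lit 30850333)))) (BT.node (nat_lit 9788160) (BT.node (nat_lit 9788096) (BT.leaf (nat_lit 32899077)) (BT.leaf (nat_lit 28149533))) (BT.node (nat_lit 9788224) (BT.leaf (nat_lit 33699861)) (BT.leaf (nat_lit 35254805)))))) (BT.node (nat_lit 9788800) (BT.node (nat_lit 9788544) (BT.node (nat_lit 9788416) (BT.node (nat_lit 9788352) (BT.leaf (nat_lit 39075849)) (BT.leaf (nat_lit 41819405))) (BT.node (nat_lit 9788480) (BT.leaf (nat_lit 49339165)) (BT.leaf (nat_lit 30419213)))) (BT.node (nat_lit 9788672) (BT.node (nat_lit 9788608) (BT.leaf (nat_lit 40331781)) (BT.leaf (nat_lit 32978965))) (BT.node (nat_lit 9788736) (BT.leaf (nat_lit 40924941)) (BT.leaf (nat_lit 43146773))))) (BT.node (nat_lit 9789056) (BT.node (nat_lit 9788928) (BT.node (nat_lit 9788864) (BT.leaf (nat_lit 43146781)) (BT.leaf (nat_lit 28152353))) (BT.node (nat_lit 9788992) (BT.leaf (nat_lit 38005269)) (BT.leaf (nat_lit 42808857)))) (BT.node (nat_lit 9789184) (BT.node (nat_lit 9789120) (BT.leaf (nat_lit 39343377)) (BT.leaf (nat_lit 43929633))) (BT.node (nat_lit 9789248) (BT.leaf (nat_lit 41818637)) (BT.leaf (nat_lit 44416537)))))))) (BT.node (nat_lit 9791296) (BT.node (nat_lit 9790272) (BT.node (nat_lit 9789824) (BT.node (nat_lit 9789568) (BT.node (nat_lit 9789440) (BT.node (nat_lit 9789376) (BT.leaf (nat_lit 43773709)) (BT.leaf (nat_lit 40925205))) (BT.node (nat_lit 9789504) (BT.leaf (nat_lit 45924381)) (BT.leaf (nat_lit 29338385)))) (BT.node (nat_lit 9789696) (BT.node (nat_lit 9789632) (BT.leaf (nat_lit 30758169)) (BT.leaf (nat_lit 30758173))) (BT.node (nat_lit 9789760) (BT.leaf (nat_lit 36235805)) (BT.leaf (nat_lit 32469765))))) (BT.node (nat_lit 9790080) (BT.node (nat_lit 9789952) (BT.node (nat_lit 9789888) (BT.leaf (nat_lit 42693665)) (BT.leaf (nat_lit 28483873))) (BT.node (nat_lit 9790016) (BT.leaf (nat_lit 30964769)) (BT.leaf (nat_lit 39160329)))) (BT.node (nat_lit 9790208) (BT.node (nat_lit 9790144) (BT.leaf (nat_lit 43767317)) (BT.leaf (nat_lit 33008413))) (BT.node (nat_lit 9790216) (BT.leaf (nat_lit 39077901)) (BT.leaf (nat_lit 683912)))))) (BT.node (nat_lit 9790784) (BT.node (nat_lit 9790528) (BT.node (nat_lit 9790400) (BT.node (nat_lit 9790336) (BT.leaf (nat_lit 40671005)) (BT.leaf (nat_lit 32115473))) (BT.node (nat_lit 9790464) (BT.leaf (nat_lit 49038613)) (BT.leaf (nat_lit 46195485)))) (BT.node (nat_lit 9790656) (BT.node (nat_lit 9790592) (BT.leaf (nat_lit 29228565)) (BT.leaf (nat_lit 38362893))) (BT.node (nat_lit 9790720) (BT.leaf (nat_lit 37933601)) (BT.leaf (nat_lit 30412569))))) (BT.node (nat_lit 9791040) (BT.node (nat_lit 9790912) (BT.node (nat_lit 9790848) (BT.leaf (nat_lit 30412573)) (BT.leaf (nat_lit 31924505))) (BT.node (nat_lit 9790976) (BT.leaf (nat_lit 31924509)) (BT.leaf (nat_lit 28483845)))) (BT.node (nat_lit 9791168) (BT.node (nat_lit 9791104) (BT.leaf (nat_lit 28483857)) (BT.leaf (nat_lit 28483861))) (BT.node (nat_lit 9791232) (BT.leaf (nat_lit 42693649)) (BT.leaf (nat_lit 43767069))))))) (BT.node (nat_lit 9792256) (BT.node (nat_lit 9791745) (BT.node (nat_lit 9791552) (BT.node (nat_lit 9791424) (BT.node (nat_lit 9791360) (BT.leaf (nat_lit 44076065)) (BT.leaf (nat_lit 31860753))) (BT.node (nat_lit 9791488) (BT.leaf (nat_lit 31860757)) (BT.leaf (nat_lit 33068053)))) (BT.node (nat_lit 9791680) (BT.node (nat_lit 9791616) (BT.leaf (nat_lit 41189141)) (BT.leaf (nat_lit 46383897))) (BT.node (nat_lit 9791744) (BT.leaf (nat_lit 34444317)) (BT.leaf (nat_lit 28983569))))) (BT.node (nat_lit 9792000) (BT.node (nat_lit 9791872) (BT.node (nat_lit 9791808) (BT.leaf (nat_lit 659024)) (BT.leaf (nat_lit 34444297))) (BT.node (nat_lit 9791936) (BT.leaf (nat_lit 46383885)) (BT.leaf (nat_lit 28983585)))) (BT.node (nat_lit 9792128) (BT.node (nat_lit 9792064) (BT.leaf (nat_lit 27359773)) (BT.leaf (nat_lit 29197845))) (BT.node (nat_lit 9792192) (BT.leaf (nat_lit 28156433)) (BT.leaf (nat_lit 52052245)))))) (BT.node (nat_lit 9792768) (BT.node (nat_lit 9792512) (BT.node (nat_lit 9792384) (BT.node (nat_lit 9792320) (BT.leaf (nat_lit 30470417)) (BT.leaf (nat_lit 39084065))) (BT.node (nat_lit 9792448) (BT.leaf (nat_lit 49697057)) (BT.leaf (nat_lit 45114885)))) (BT.node (nat_lit 9792640) (BT.node (nat_lit 9792576) (BT.leaf (nat_lit 43517189)) (BT.leaf (nat_lit 48472861))) (BT.node (nat_lit 9792704) (BT.leaf (nat_lit 48473113)) (BT.leaf (nat_lit 38662433))))) (BT.node (nat_lit 9793024) (BT.node (nat_lit 9792896) (BT.node (nat_lit 9792832) (BT.leaf (nat_lit 47477769)) (BT.leaf (nat_lit 39171097))) (BT.node (nat_lit 9792960) (BT.leaf (nat_lit 31646241)) (BT.leaf (nat_lit 33058329)))) (BT.node (nat_lit 9793152) (BT.node (nat_lit 9793088) (BT.leaf (nat_lit 41272085)) (BT.leaf (nat_lit 38993953))) (BT.node (nat_lit 9793216) (BT.leaf (nat_lit 29021465)) (BT.leaf (nat_lit 29021469))))))))) (BT.node (nat_lit 9796992) (BT.node (nat_lit 9795008) (BT.node (nat_lit 9794113) (BT.node (nat_lit 9793792) (BT.node (nat_lit 9793536) (BT.node (nat_lit 9793408) (BT.node (nat_lit 9793344) (BT.leaf (nat_lit 32868897)) (BT.leaf (nat_lit 32386581))) (BT.node (nat_lit 9793472) (BT.leaf (nat_lit 32386585)) (BT.leaf (nat_lit 32386589)))) (BT.node (nat_lit 9793664) (BT.node (nat_lit 9793600) (BT.leaf (nat_lit 47202081)) (BT.leaf (nat_lit 28264217))) (BT.node (nat_lit 9793728) (BT.leaf (nat_lit 28264221)) (BT.leaf (nat_lit 30761993))))) (BT.node (nat_lit 9793920) (BT.node (nat_lit 9793858) (BT.node (nat_lit 9793856) (BT.leaf (nat_lit 47072529)) (BT.leaf (nat_lit 41167137))) (BT.node (nat_lit 9793861) (BT.leaf (nat_lit 637168)) (BT.leaf (nat_lit 637168)))) (BT.node (nat_lit 9794048) (BT.node (nat_lit 9793984) (BT.leaf (nat_lit 28163097)) (BT.leaf (nat_lit 28163353))) (BT.node (nat_lit 9794112) (BT.leaf (nat_lit 41166353)) (BT.leaf (nat_lit 48046597)))))) (BT.node (nat_lit 9794496) (BT.node (nat_lit 9794240) (BT.node (nat_lit 9794120) (BT.node (nat_lit 9794116) (BT.leaf (nat_lit 721592)) (BT.leaf (nat_lit 721592))) (BT.node (nat_lit 9794176) (BT.leaf (nat_lit 721592)) (BT.leaf (nat_lit 37446149)))) (BT.node (nat_lit 9794368) (BT.node (nat_lit 9794304) (BT.leaf (nat_lit 35539229)) (BT.leaf (nat_lit 30763017))) (BT.node (nat_lit 9794432) (BT.leaf (nat_lit 47209221)) (BT.leaf (nat_lit 31444237))))) (BT.node (nat_lit 9794752) (BT.node (nat_lit 9794624) (BT.node (nat_lit 9794560) (BT.leaf (nat_lit 34337825)) (BT.leaf (nat_lit 30763041))) (BT.node (nat_lit 9794688) (BT.leaf (nat_lit 28166421)) (BT.leaf (nat_lit 36983817)))) (BT.node (nat_lit 9794880) (BT.node (nat_lit 9794816) (BT.leaf (nat_lit 46776341)) (BT.leaf (nat_lit 50873877))) (BT.node (nat_lit 9794944) (BT.leaf (nat_lit 39179805)) (BT.leaf (nat_lit 36983837))))))) (BT.node (nat_lit 9795968) (BT.node (nat_lit 9795456) (BT.node (nat_lit 9795264) (BT.node (nat_lit 9795136) (BT.node (nat_lit 9795072) (BT.leaf (nat_lit 28655905)) (BT.leaf (nat_lit 28169501))) (BT.node (nat_lit 9795200) (BT.leaf (nat_lit 29548049)) (BT.leaf (nat_lit 29548053)))) (BT.node (nat_lit 9795329) (BT.node (nat_lit 9795328) (BT.leaf (nat_lit 28172305)) (BT.leaf (nat_lit 30169889))) (BT.node (nat_lit 9795392) (BT.leaf (nat_lit 748260)) (BT.leaf (nat_lit 28186121))))) (BT.node (nat_lit 9795712) (BT.node (nat_lit 9795584) (BT.node (nat_lit 9795520) (BT.leaf (nat_lit 28172817)) (BT.leaf (nat_lit 45947141))) (BT.node (nat_lit 9795648) (BT.leaf (nat_lit 36834845)) (BT.leaf (nat_lit 28174609)))) (BT.node (nat_lit 9795840) (BT.node (nat_lit 9795776) (BT.leaf (nat_lit 28174865)) (BT.leaf (nat_lit 28175377))) (BT.node (nat_lit 9795904) (BT.leaf (nat_lit 34708253)) (BT.leaf (nat_lit 30859285)))))) (BT.node (nat_lit 9796480) (BT.node (nat_lit 9796224) (BT.node (nat_lit 9796096) (BT.node (nat_lit 9796032) (BT.leaf (nat_lit 40027157)) (BT.leaf (nat_lit 43958549))) (BT.node (nat_lit 9796160) (BT.leaf (nat_lit 31162393)) (BT.leaf (nat_lit 34762249)))) (BT.node (nat_lit 9796352) (BT.node (nat_lit 9796288) (BT.leaf (nat_lit 50357525)) (BT.leaf (nat_lit 28178961))) (BT.node (nat_lit 9796416) (BT.leaf (nat_lit 31784213)) (BT.leaf (nat_lit 39185417))))) (BT.node (nat_lit 9796736) (BT.node (nat_lit 9796608) (BT.node (nat_lit 9796544) (BT.leaf (nat_lit 33313557)) (BT.leaf (nat_lit 44568085))) (BT.node (nat_lit 9796672) (BT.leaf (nat_lit 44569609)) (BT.leaf (nat_lit 51177493)))) (BT.node (nat_lit 9796864) (BT.node (nat_lit 9796800) (BT.leaf (nat_lit 48903961)) (BT.leaf (nat_lit 50687521))) (BT.node (nat_lit 9796928) (BT.leaf (nat_lit 29454101)) (BT.leaf (nat_lit 28181777)))))))) (BT.node (nat_lit 9799104) (BT.node (nat_lit 9798080) (BT.node (nat_lit 9797568) (BT.node (nat_lit 9797248) (BT.node (nat_lit 9797120) (BT.node (nat_lit 9797056) (BT.leaf (nat_lit 28181009)) (BT.leaf (nat_lit 52256545))) (BT.node (nat_lit 9797184) (BT.leaf (nat_lit 28337689)) (BT.leaf (nat_lit 28337693)))) (BT.node (nat_lit 9797440) (BT.node (nat_lit 9797376) (BT.leaf (nat_lit 28182033)) (BT.leaf (nat_lit 38070541))) (BT.node (nat_lit 9797504) (BT.leaf (nat_lit 39190029)) (BT.leaf (nat_lit 42669853))))) (BT.node (nat_lit 9797824) (BT.node (nat_lit 9797696) (BT.node (nat_lit 9797632) (BT.leaf (nat_lit 42669833)) (BT.leaf (nat_lit 39190297))) (BT.node (nat_lit 9797760) (BT.leaf (nat_lit 44278549)) (BT.leaf (nat_lit 38019349)))) (BT.node (nat_lit 9797952) (BT.node (nat_lit 9797888) (BT.leaf (nat_lit 28611605)) (BT.leaf (nat_lit 28182545))) (BT.node (nat_lit 9798016) (BT.leaf (nat_lit 39330573)) (BT.leaf (nat_lit 40623137)))))) (BT.node (nat_lit 9798592) (BT.node (nat_lit 9798336) (BT.node (nat_lit 9798208) (BT.node (nat_lit 9798144) (BT.leaf (nat_lit 36158729)) (BT.leaf (nat_lit 49443873))) (BT.node (nat_lit 9798272) (BT.leaf (nat_lit 31850257)) (BT.leaf (nat_lit 47811861)))) (BT.node (nat_lit 9798464) (BT.node (nat_lit 9798400) (BT.leaf (nat_lit 28186125)) (BT.leaf (nat_lit 32381961))) (BT.node (nat_lit 9798528) (BT.leaf (nat_lit 40205333)) (BT.leaf (nat_lit 31081997))))) (BT.node (nat_lit 9798848) (BT.node (nat_lit 9798720) (BT.node (nat_lit 9798656) (BT.leaf (nat_lit 28184593)) (BT.leaf (nat_lit 28186385))) (BT.node (nat_lit 9798784) (BT.leaf (nat_lit 36104981)) (BT.leaf (nat_lit 46061849)))) (BT.node (nat_lit 9798976) (BT.node (nat_lit 9798912) (BT.leaf (nat_lit 50707477)) (BT.leaf (nat_lit 28189473))) (BT.node (nat_lit 9799040) (BT.leaf (nat_lit 28189217)) (BT.leaf (nat_lit 37455893))))))) (BT.node (nat_lit 9800000) (BT.node (nat_lit 9799616) (BT.node (nat_lit 9799360) (BT.node (nat_lit 9799232) (BT.node (nat_lit 9799168) (BT.leaf (nat_lit 32831505)) (BT.leaf (nat_lit 32831509))) (BT.node (nat_lit 9799296) (BT.leaf (nat_lit 39902993)) (BT.leaf (nat_lit 44914197)))) (BT.node (nat_lit 9799488) (BT.node (nat_lit 9799424) (BT.leaf (nat_lit 28186897)) (BT.leaf (nat_lit 28187397))) (BT.node (nat_lit 9799552) (BT.leaf (nat_lit 32381977)) (BT.leaf (nat_lit 32381981))))) (BT.node (nat_lit 9799872) (BT.node (nat_lit 9799744) (BT.node (nat_lit 9799680) (BT.leaf (nat_lit 34708249)) (BT.leaf (nat_lit 31551493))) (BT.node (nat_lit 9799808) (BT.leaf (nat_lit 27746325)) (BT.leaf (nat_lit 38702597)))) (BT.node (nat_lit 9799938) (BT.node (nat_lit 9799936) (BT.leaf (nat_lit 32384013)) (BT.leaf (nat_lit 44097301))) (BT.node (nat_lit 9799943) (BT.leaf (nat_lit 681404)) (BT.leaf (nat_lit 681404)))))) (BT.node (nat_lit 9800512) (BT.node (nat_lit 9800256) (BT.node (nat_lit 9800128) (BT.node (nat_lit 9800064) (BT.leaf (nat_lit 32384025)) (BT.leaf (nat_lit 47853325))) (BT.node (nat_lit 9800192) (BT.leaf (nat_lit 32384033)) (BT.leaf (nat_lit 37646613)))) (BT.node (nat_lit 9800384) (BT.node (nat_lit 9800320) (BT.leaf (nat_lit 30402841)) (BT.leaf (nat_lit 30402845))) (BT.node (nat_lit 9800448) (BT.leaf (nat_lit 28188677)) (BT.leaf (nat_lit 32250909))))) (BT.node (nat_lit 9800768) (BT.node (nat_lit 9800640) (BT.node (nat_lit 9800576) (BT.leaf (nat_lit 38722821)) (BT.leaf (nat_lit 38183185))) (BT.node (nat_lit 9800704) (BT.leaf (nat_lit 31080973)) (BT.leaf (nat_lit 28189705)))) (BT.node (nat_lit 9800896) (BT.node (nat_lit 9800832) (BT.leaf (nat_lit 38722321)) (BT.leaf (nat_lit 28176393))) (BT.node (nat_lit 9800960) (BT.leaf (nat_lit 31080985)) (BT.leaf (nat_lit 28189709))))))))))) (BT.node (nat_lit 9814976) (BT.node (nat_lit 9808326) (BT.node (nat_lit 9804928) (BT.node (nat_lit 9803200) (BT.node (nat_lit 9802048) (BT.node (nat_lit 9801536) (BT.node (nat_lit 9801280) (BT.node (nat_lit 9801152) (BT.node (nat_lit 9801088) (BT.leaf (nat_lit 28190741)) (BT.leaf (nat_lit 49399841))) (BT.node (nat_lit 9801216) (BT.leaf (nat_lit 27891733)) (BT.leaf (nat_lit 41320713)))) (BT.node (nat_lit 9801408) (BT.node (nat_lit 9801344) (BT.leaf (nat_lit 41320721)) (BT.leaf (nat_lit 41320733))) (BT.node (nat_lit 9801472) (BT.leaf (nat_lit 28190481)) (BT.leaf (nat_lit 34438929))))) (BT.node (nat_lit 9801800) (BT.node (nat_lit 9801728) (BT.node (nat_lit 9801664) (BT.leaf (nat_lit 38726425)) (BT.leaf (nat_lit 28191505))) (BT.node (nat_lit 9801793) (BT.leaf (nat_lit 28191761)) (BT.leaf (nat_lit 818388)))) (BT.node (nat_lit 9801920) (BT.node (nat_lit 9801856) (BT.leaf (nat_lit 818388)) (BT.leaf (nat_lit 37453341))) (BT.node (nat_lit 9801984) (BT.leaf (nat_lit 30031641)) (BT.leaf (nat_lit 44816145)))))) (BT.node (nat_lit 9802560) (BT.node (nat_lit 9802304) (BT.node (nat_lit 9802176) (BT.node (nat_lit 9802112) (BT.leaf (nat_lit 44086277)) (BT.leaf (nat_lit 49274389))) (BT.node (nat_lit 9802240) (BT.leaf (nat_lit 37152273)) (BT.leaf (nat_lit 30111237)))) (BT.node (nat_lit 9802432) (BT.node (nat_lit 9802368) (BT.leaf (nat_lit 28192273)) (BT.leaf (nat_lit 28904729))) (BT.node (nat_lit 9802496) (BT.leaf (nat_lit 40304137)) (BT.leaf (nat_lit 42229021))))) (BT.node (nat_lit 9802880) (BT.node (nat_lit 9802752) (BT.node (nat_lit 9802688) (BT.leaf (nat_lit 28192533)) (BT.leaf (nat_lit 47889669))) (BT.node (nat_lit 9802816) (BT.leaf (nat_lit 35571225)) (BT.leaf (nat_lit 37454353)))) (BT.node (nat_lit 9803072) (BT.node (nat_lit 9802950) (BT.leaf (nat_lit 45774085)) (BT.leaf (nat_lit 818420))) (BT.node (nat_lit 9803136) (BT.leaf (nat_lit 28192785)) (BT.leaf (nat_lit 28190993))))))) (BT.node (nat_lit 9804096) (BT.node (nat_lit 9803654) (BT.node (nat_lit 9803456) (BT.node (nat_lit 9803328) (BT.node (nat_lit 9803264) (BT.leaf (nat_lit 39080473)) (BT.leaf (nat_lit 39080477))) (BT.node (nat_lit 9803392) (BT.leaf (nat_lit 28347161)) (BT.leaf (nat_lit 29147153)))) (BT.node (nat_lit 9803584) (BT.node (nat_lit 9803520) (BT.leaf (nat_lit 47858437)) (BT.leaf (nat_lit 28194069))) (BT.node (nat_lit 9803648) (BT.leaf (nat_lit 40774689)) (BT.leaf (nat_lit 30034705))))) (BT.node (nat_lit 9803840) (BT.node (nat_lit 9803712) (BT.node (nat_lit 9803655) (BT.leaf (nat_lit 648740)) (BT.leaf (nat_lit 648740))) (BT.node (nat_lit 9803776) (BT.leaf (nat_lit 33318165)) (BT.leaf (nat_lit 38469409)))) (BT.node (nat_lit 9803968) (BT.node (nat_lit 9803904) (BT.leaf (nat_lit 38469153)) (BT.leaf (nat_lit 36527129))) (BT.node (nat_lit 9804032) (BT.leaf (nat_lit 30677257)) (BT.leaf (nat_lit 52114445)))))) (BT.node (nat_lit 9804416) (BT.node (nat_lit 9804352) (BT.node (nat_lit 9804224) (BT.node (nat_lit 9804160) (BT.leaf (nat_lit 52114449)) (BT.leaf (nat_lit 28194845))) (BT.node (nat_lit 9804288) (BT.leaf (nat_lit 51189509)) (BT.leaf (nat_lit 51792389)))) (BT.node (nat_lit 9804355) (BT.node (nat_lit 9804354) (BT.leaf (nat_lit 38105889)) (BT.leaf (nat_lit 672960))) (BT.node (nat_lit 9804357) (BT.leaf (nat_lit 672960)) (BT.leaf (nat_lit 672960))))) (BT.node (nat_lit 9804672) (BT.node (nat_lit 9804544) (BT.node (nat_lit 9804480) (BT.leaf (nat_lit 30037525)) (BT.leaf (nat_lit 28194841))) (BT.node (nat_lit 9804608) (BT.leaf (nat_lit 38003729)) (BT.leaf (nat_lit 38005001)))) (BT.node (nat_lit 9804800) (BT.node (nat_lit 9804736) (BT.leaf (nat_lit 38003745)) (BT.leaf (nat_lit 37854737))) (BT.node (nat_lit 9804864) (BT.leaf (nat_lit 39222045)) (BT.leaf (nat_lit 36838421)))))))) (BT.node (nat_lit 9806592) (BT.node (nat_lit 9805824) (BT.node (nat_lit 9805376) (BT.node (nat_lit 9805120) (BT.node (nat_lit 9805056) (BT.node (nat_lit 9804992) (BT.leaf (nat_lit 37854753)) (BT.leaf (nat_lit 42658069))) (BT.node (nat_lit 9805060) (BT.leaf (nat_lit 40061197)) (BT.leaf (nat_lit 642488)))) (BT.node (nat_lit 9805248) (BT.node (nat_lit 9805184) (BT.leaf (nat_lit 38005025)) (BT.leaf (nat_lit 39222557))) (BT.node (nat_lit 9805312) (BT.leaf (nat_lit 31112993)) (BT.leaf (nat_lit 41771029))))) (BT.node (nat_lit 9805576) (BT.node (nat_lit 9805504) (BT.node (nat_lit 9805440) (BT.leaf (nat_lit 28195605)) (BT.leaf (nat_lit 39222029))) (BT.node (nat_lit 9805568) (BT.leaf (nat_lit 36838165)) (BT.leaf (nat_lit 37855753)))) (BT.node (nat_lit 9805696) (BT.node (nat_lit 9805632) (BT.leaf (nat_lit 683060)) (BT.leaf (nat_lit 36837653))) (BT.node (nat_lit 9805760) (BT.leaf (nat_lit 31112481)) (BT.leaf (nat_lit 30680597)))))) (BT.node (nat_lit 9806084) (BT.node (nat_lit 9806016) (BT.node (nat_lit 9805952) (BT.node (nat_lit 9805888) (BT.leaf (nat_lit 50660869)) (BT.leaf (nat_lit 49117729))) (BT.node (nat_lit 9805957) (BT.leaf (nat_lit 49287193)) (BT.leaf (nat_lit 695956)))) (BT.node (nat_lit 9806021) (BT.node (nat_lit 9806020) (BT.leaf (nat_lit 45686285)) (BT.leaf (nat_lit 689728))) (BT.node (nat_lit 9806080) (BT.leaf (nat_lit 750000)) (BT.leaf (nat_lit 38643989))))) (BT.node (nat_lit 9806336) (BT.node (nat_lit 9806208) (BT.node (nat_lit 9806144) (BT.leaf (nat_lit 659968)) (BT.leaf (nat_lit 46464801))) (BT.node (nat_lit 9806272) (BT.leaf (nat_lit 43916813)) (BT.leaf (nat_lit 52411169)))) (BT.node (nat_lit 9806464) (BT.node (nat_lit 9806400) (BT.leaf (nat_lit 32062725)) (BT.leaf (nat_lit 35462429))) (BT.node (nat_lit 9806528) (BT.leaf (nat_lit 30870289)) (BT.leaf (nat_lit 30870293))))))) (BT.node (nat_lit 9807488) (BT.node (nat_lit 9806976) (BT.node (nat_lit 9806725) (BT.node (nat_lit 9806656) (BT.node (nat_lit 9806599) (BT.leaf (nat_lit 34996505)) (BT.leaf (nat_lit 756112))) (BT.node (nat_lit 9806720) (BT.leaf (nat_lit 49356037)) (BT.leaf (nat_lit 44143133)))) (BT.node (nat_lit 9806848) (BT.node (nat_lit 9806784) (BT.leaf (nat_lit 706848)) (BT.leaf (nat_lit 38332697))) (BT.node (nat_lit 9806912) (BT.leaf (nat_lit 33319701)) (BT.leaf (nat_lit 28202513))))) (BT.node (nat_lit 9807232) (BT.node (nat_lit 9807104) (BT.node (nat_lit 9807040) (BT.leaf (nat_lit 39228173)) (BT.leaf (nat_lit 28196881))) (BT.node (nat_lit 9807168) (BT.leaf (nat_lit 30531349)) (BT.leaf (nat_lit 30531353)))) (BT.node (nat_lit 9807360) (BT.node (nat_lit 9807296) (BT.leaf (nat_lit 30531357)) (BT.leaf (nat_lit 30531361))) (BT.node (nat_lit 9807424) (BT.leaf (nat_lit 48392221)) (BT.leaf (nat_lit 45686289)))))) (BT.node (nat_lit 9807936) (BT.node (nat_lit 9807680) (BT.node (nat_lit 9807556) (BT.node (nat_lit 9807552) (BT.leaf (nat_lit 48392725)) (BT.leaf (nat_lit 28578325))) (BT.node (nat_lit 9807616) (BT.leaf (nat_lit 773536)) (BT.leaf (nat_lit 51024389)))) (BT.node (nat_lit 9807808) (BT.node (nat_lit 9807744) (BT.leaf (nat_lit 28578333)) (BT.leaf (nat_lit 32428565))) (BT.node (nat_lit 9807872) (BT.leaf (nat_lit 51375905)) (BT.leaf (nat_lit 39231257))))) (BT.node (nat_lit 9808128) (BT.node (nat_lit 9808005) (BT.node (nat_lit 9808000) (BT.leaf (nat_lit 37077261)) (BT.leaf (nat_lit 42239261))) (BT.node (nat_lit 9808064) (BT.leaf (nat_lit 673832)) (BT.leaf (nat_lit 46510853)))) (BT.node (nat_lit 9808256) (BT.node (nat_lit 9808192) (BT.leaf (nat_lit 45560337)) (BT.leaf (nat_lit 28204573))) (BT.node (nat_lit 9808320) (BT.leaf (nat_lit 29292561)) (BT.leaf (nat_lit 29292565))))))))) (BT.node (nat_lit 9811523) (BT.node (nat_lit 9809856) (BT.node (nat_lit 9809152) (BT.node (nat_lit 9808832) (BT.node (nat_lit 9808576) (BT.node (nat_lit 9808448) (BT.node (nat_lit 9808384) (BT.leaf (nat_lit 659976)) (BT.leaf (nat_lit 28205081))) (BT.node (nat_lit 9808512) (BT.leaf (nat_lit 47737353)) (BT.leaf (nat_lit 50634013)))) (BT.node (nat_lit 9808704) (BT.node (nat_lit 9808640) (BT.leaf (nat_lit 31107605)) (BT.leaf (nat_lit 31107613))) (BT.node (nat_lit 9808768) (BT.leaf (nat_lit 28211213)) (BT.leaf (nat_lit 28211473))))) (BT.node (nat_lit 9809024) (BT.node (nat_lit 9808961) (BT.node (nat_lit 9808896) (BT.leaf (nat_lit 40380697)) (BT.leaf (nat_lit 27912465))) (BT.node (nat_lit 9808968) (BT.leaf (nat_lit 686180)) (BT.leaf (nat_lit 768672)))) (BT.node (nat_lit 9809029) (BT.node (nat_lit 9809025) (BT.leaf (nat_lit 39116833)) (BT.leaf (nat_lit 686184))) (BT.node (nat_lit 9809088) (BT.leaf (nat_lit 686184)) (BT.leaf (nat_lit 33324053)))))) (BT.node (nat_lit 9809472) (BT.node (nat_lit 9809344) (BT.node (nat_lit 9809280) (BT.node (nat_lit 9809216) (BT.leaf (nat_lit 37841949)) (BT.leaf (nat_lit 28213013))) (BT.node (nat_lit 9809283) (BT.leaf (nat_lit 28309009)) (BT.leaf (nat_lit 751280)))) (BT.node (nat_lit 9809410) (BT.node (nat_lit 9809408) (BT.leaf (nat_lit 31125785)) (BT.leaf (nat_lit 28309025))) (BT.node (nat_lit 9809414) (BT.leaf (nat_lit 644800)) (BT.leaf (nat_lit 644800))))) (BT.node (nat_lit 9809728) (BT.node (nat_lit 9809600) (BT.node (nat_lit 9809536) (BT.leaf (nat_lit 28852761)) (BT.leaf (nat_lit 31122197))) (BT.node (nat_lit 9809664) (BT.leaf (nat_lit 48485141)) (BT.leaf (nat_lit 49468933)))) (BT.node (nat_lit 9809797) (BT.node (nat_lit 9809792) (BT.leaf (nat_lit 30870809)) (BT.leaf (nat_lit 31123213))) (BT.node (nat_lit 9809800) (BT.leaf (nat_lit 768436)) (BT.leaf (nat_lit 793560))))))) (BT.node (nat_lit 9810688) (BT.node (nat_lit 9810176) (BT.node (nat_lit 9810048) (BT.node (nat_lit 9809920) (BT.node (nat_lit 9809857) (BT.leaf (nat_lit 44542237)) (BT.leaf (nat_lit 793564))) (BT.node (nat_lit 9809984) (BT.leaf (nat_lit 29804829)) (BT.leaf (nat_lit 43374625)))) (BT.node (nat_lit 9810115) (BT.node (nat_lit 9810112) (BT.leaf (nat_lit 31121949)) (BT.leaf (nat_lit 29918229))) (BT.node (nat_lit 9810118) (BT.leaf (nat_lit 636508)) (BT.leaf (nat_lit 636508))))) (BT.node (nat_lit 9810432) (BT.node (nat_lit 9810304) (BT.node (nat_lit 9810240) (BT.leaf (nat_lit 29918985)) (BT.leaf (nat_lit 27273489))) (BT.node (nat_lit 9810368) (BT.leaf (nat_lit 28215837)) (BT.leaf (nat_lit 34577425)))) (BT.node (nat_lit 9810560) (BT.node (nat_lit 9810496) (BT.leaf (nat_lit 39356189)) (BT.leaf (nat_lit 34348313))) (BT.node (nat_lit 9810624) (BT.leaf (nat_lit 28216345)) (BT.leaf (nat_lit 28217365)))))) (BT.node (nat_lit 9811200) (BT.node (nat_lit 9810944) (BT.node (nat_lit 9810816) (BT.node (nat_lit 9810752) (BT.leaf (nat_lit 33696529)) (BT.leaf (nat_lit 40717837))) (BT.node (nat_lit 9810880) (BT.leaf (nat_lit 28217117)) (BT.leaf (nat_lit 34580253)))) (BT.node (nat_lit 9811072) (BT.node (nat_lit 9811008) (BT.leaf (nat_lit 28216605)) (BT.leaf (nat_lit 28217113))) (BT.node (nat_lit 9811136) (BT.leaf (nat_lit 37882649)) (BT.leaf (nat_lit 40898841))))) (BT.node (nat_lit 9811394) (BT.node (nat_lit 9811328) (BT.node (nat_lit 9811264) (BT.leaf (nat_lit 28217877)) (BT.leaf (nat_lit 29156893))) (BT.node (nat_lit 9811392) (BT.leaf (nat_lit 33329693)) (BT.leaf (nat_lit 38231057)))) (BT.node (nat_lit 9811456) (BT.node (nat_lit 9811400) (BT.leaf (nat_lit 810484)) (BT.leaf (nat_lit 810484))) (BT.node (nat_lit 9811520) (BT.leaf (nat_lit 33329673)) (BT.leaf (nat_lit 47726869)))))))) (BT.node (nat_lit 9813248) (BT.node (nat_lit 9812480) (BT.node (nat_lit 9811968) (BT.node (nat_lit 9811712) (BT.node (nat_lit 9811584) (BT.node (nat_lit 9811527) (BT.leaf (nat_lit 810488)) (BT.leaf (nat_lit 810488))) (BT.node (nat_lit 9811648) (BT.leaf (nat_lit 29850385)) (BT.leaf (nat_lit 33329933)))) (BT.node (nat_lit 9811840) (BT.node (nat_lit 9811776) (BT.leaf (nat_lit 49655577)) (BT.leaf (nat_lit 49655581))) (BT.node (nat_lit 9811904) (BT.leaf (nat_lit 49655585)) (BT.leaf (nat_lit 28218657))))) (BT.node (nat_lit 9812224) (BT.node (nat_lit 9812096) (BT.node (nat_lit 9812032) (BT.leaf (nat_lit 28219425)) (BT.leaf (nat_lit 28219169))) (BT.node (nat_lit 9812160) (BT.leaf (nat_lit 31368477)) (BT.leaf (nat_lit 29957141)))) (BT.node (nat_lit 9812352) (BT.node (nat_lit 9812288) (BT.leaf (nat_lit 28220945)) (BT.leaf (nat_lit 28220689))) (BT.node (nat_lit 9812416) (BT.leaf (nat_lit 37873941)) (BT.leaf (nat_lit 47353877)))))) (BT.node (nat_lit 9812804) (BT.node (nat_lit 9812672) (BT.node (nat_lit 9812548) (BT.node (nat_lit 9812544) (BT.leaf (nat_lit 44453129)) (BT.leaf (nat_lit 29794585))) (BT.node (nat_lit 9812608) (BT.leaf (nat_lit 744992)) (BT.leaf (nat_lit 43742217)))) (BT.node (nat_lit 9812736) (BT.node (nat_lit 9812673) (BT.leaf (nat_lit 49429765)) (BT.leaf (nat_lit 749020))) (BT.node (nat_lit 9812800) (BT.leaf (nat_lit 28221469)) (BT.leaf (nat_lit 31372317))))) (BT.node (nat_lit 9812996) (BT.node (nat_lit 9812928) (BT.node (nat_lit 9812864) (BT.leaf (nat_lit 770068)) (BT.leaf (nat_lit 32303889))) (BT.node (nat_lit 9812992) (BT.leaf (nat_lit 40848669)) (BT.leaf (nat_lit 28221465)))) (BT.node (nat_lit 9813120) (BT.node (nat_lit 9813056) (BT.leaf (nat_lit 658352)) (BT.leaf (nat_lit 28222737))) (BT.node (nat_lit 9813184) (BT.leaf (nat_lit 28222481)) (BT.leaf (nat_lit 51915781))))))) (BT.node (nat_lit 9814016) (BT.node (nat_lit 9813504) (BT.node (nat_lit 9813312) (BT.node (nat_lit 9813254) (BT.node (nat_lit 9813250) (BT.leaf (nat_lit 38864161)) (BT.leaf (nat_lit 705884))) (BT.node (nat_lit 9813255) (BT.leaf (nat_lit 705884)) (BT.leaf (nat_lit 705884)))) (BT.node (nat_lit 9813376) (BT.node (nat_lit 9813316) (BT.leaf (nat_lit 39253533)) (BT.leaf (nat_lit 789956))) (BT.node (nat_lit 9813440) (BT.leaf (nat_lit 38864389)) (BT.leaf (nat_lit 28221969))))) (BT.node (nat_lit 9813760) (BT.node (nat_lit 9813632) (BT.node (nat_lit 9813568) (BT.leaf (nat_lit 51921677)) (BT.leaf (nat_lit 49957397))) (BT.node (nat_lit 9813696) (BT.leaf (nat_lit 39254281)) (BT.leaf (nat_lit 33332501)))) (BT.node (nat_lit 9813888) (BT.node (nat_lit 9813824) (BT.leaf (nat_lit 39254809)) (BT.leaf (nat_lit 52350229))) (BT.node (nat_lit 9813952) (BT.leaf (nat_lit 44630293)) (BT.leaf (nat_lit 39256093)))))) (BT.node (nat_lit 9814464) (BT.node (nat_lit 9814208) (BT.node (nat_lit 9814144) (BT.node (nat_lit 9814080) (BT.leaf (nat_lit 30277645)) (BT.leaf (nat_lit 31908377))) (BT.node (nat_lit 9814148) (BT.leaf (nat_lit 37864989)) (BT.leaf (nat_lit 619152)))) (BT.node (nat_lit 9814336) (BT.node (nat_lit 9814272) (BT.leaf (nat_lit 40309521)) (BT.leaf (nat_lit 37864969))) (BT.node (nat_lit 9814400) (BT.leaf (nat_lit 31908365)) (BT.leaf (nat_lit 46888481))))) (BT.node (nat_lit 9814720) (BT.node (nat_lit 9814592) (BT.node (nat_lit 9814528) (BT.leaf (nat_lit 29837845)) (BT.leaf (nat_lit 32326933))) (BT.node (nat_lit 9814656) (BT.leaf (nat_lit 28225041)) (BT.leaf (nat_lit 30921989)))) (BT.node (nat_lit 9814848) (BT.node (nat_lit 9814784) (BT.leaf (nat_lit 50846241)) (BT.leaf (nat_lit 30922009))) (BT.node (nat_lit 9814912) (BT.leaf (nat_lit 30922013)) (BT.leaf (nat_lit 48865825)))))))))) (BT.node (nat_lit 9822912) (BT.node (nat_lit 9818688) (BT.node (nat_lit 9816832) (BT.node (nat_lit 9816000) (BT.node (nat_lit 9815488) (BT.node (nat_lit 9815232) (BT.node (nat_lit 9815104) (BT.node (nat_lit 9815040) (BT.leaf (nat_lit 28226321)) (BT.leaf (nat_lit 28520213))) (BT.node (nat_lit 9815168) (BT.leaf (nat_lit 28520217)) (BT.leaf (nat_lit 28520221)))) (BT.node (nat_lit 9815360) (BT.node (nat_lit 9815296) (BT.leaf (nat_lit 38039829)) (BT.leaf (nat_lit 29441045))) (BT.node (nat_lit 9815424) (BT.leaf (nat_lit 31716881)) (BT.leaf (nat_lit 28227345))))) (BT.node (nat_lit 9815744) (BT.node (nat_lit 9815616) (BT.node (nat_lit 9815552) (BT.leaf (nat_lit 30181397)) (BT.leaf (nat_lit 30181401))) (BT.node (nat_lit 9815680) (BT.leaf (nat_lit 30181405)) (BT.leaf (nat_lit 43978245)))) (BT.node (nat_lit 9815872) (BT.node (nat_lit 9815808) (BT.leaf (nat_lit 31066637)) (BT.leaf (nat_lit 43056149))) (BT.node (nat_lit 9815936) (BT.leaf (nat_lit 43056157)) (BT.leaf (nat_lit 48707605)))))) (BT.node (nat_lit 9816328) (BT.node (nat_lit 9816256) (BT.node (nat_lit 9816128) (BT.node (nat_lit 9816064) (BT.leaf (nat_lit 31522325)) (BT.leaf (nat_lit 31066649))) (BT.node (nat_lit 9816192) (BT.leaf (nat_lit 31066653)) (BT.leaf (nat_lit 41457937)))) (BT.node (nat_lit 9816320) (BT.node (nat_lit 9816261) (BT.leaf (nat_lit 32984585)) (BT.leaf (nat_lit 777668))) (BT.node (nat_lit 9816325) (BT.leaf (nat_lit 39265049)) (BT.leaf (nat_lit 653240))))) (BT.node (nat_lit 9816576) (BT.node (nat_lit 9816448) (BT.node (nat_lit 9816384) (BT.leaf (nat_lit 659656)) (BT.leaf (nat_lit 39277577))) (BT.node (nat_lit 9816512) (BT.leaf (nat_lit 48823313)) (BT.leaf (nat_lit 43419401)))) (BT.node (nat_lit 9816704) (BT.node (nat_lit 9816640) (BT.leaf (nat_lit 28229653)) (BT.leaf (nat_lit 43722001))) (BT.node (nat_lit 9816768) (BT.leaf (nat_lit 43556625)) (BT.leaf (nat_lit 43556629))))))) (BT.node (nat_lit 9817792) (BT.node (nat_lit 9817344) (BT.node (nat_lit 9817088) (BT.node (nat_lit 9816960) (BT.node (nat_lit 9816896) (BT.leaf (nat_lit 32535825)) (BT.leaf (nat_lit 41967649))) (BT.node (nat_lit 9817024) (BT.leaf (nat_lit 31859977)) (BT.leaf (nat_lit 31859993)))) (BT.node (nat_lit 9817216) (BT.node (nat_lit 9817152) (BT.leaf (nat_lit 31859997)) (BT.leaf (nat_lit 45460753))) (BT.node (nat_lit 9817280) (BT.leaf (nat_lit 45460757)) (BT.leaf (nat_lit 43055633))))) (BT.node (nat_lit 9817536) (BT.node (nat_lit 9817472) (BT.node (nat_lit 9817408) (BT.leaf (nat_lit 31625753)) (BT.leaf (nat_lit 48825625))) (BT.node (nat_lit 9817475) (BT.leaf (nat_lit 43419921)) (BT.leaf (nat_lit 762880)))) (BT.node (nat_lit 9817664) (BT.node (nat_lit 9817600) (BT.leaf (nat_lit 48790793)) (BT.leaf (nat_lit 43549985))) (BT.node (nat_lit 9817728) (BT.leaf (nat_lit 42515973)) (BT.leaf (nat_lit 49333021)))))) (BT.node (nat_lit 9818176) (BT.node (nat_lit 9817925) (BT.node (nat_lit 9817920) (BT.node (nat_lit 9817856) (BT.leaf (nat_lit 43984901)) (BT.leaf (nat_lit 39493637))) (BT.node (nat_lit 9817921) (BT.leaf (nat_lit 28230161)) (BT.leaf (nat_lit 619140)))) (BT.node (nat_lit 9818048) (BT.node (nat_lit 9817984) (BT.leaf (nat_lit 619140)) (BT.leaf (nat_lit 34945561))) (BT.node (nat_lit 9818112) (BT.leaf (nat_lit 28230177)) (BT.leaf (nat_lit 28230689))))) (BT.node (nat_lit 9818432) (BT.node (nat_lit 9818304) (BT.node (nat_lit 9818240) (BT.leaf (nat_lit 43987205)) (BT.leaf (nat_lit 49224989))) (BT.node (nat_lit 9818368) (BT.leaf (nat_lit 45204485)) (BT.leaf (nat_lit 31908369)))) (BT.node (nat_lit 9818560) (BT.node (nat_lit 9818496) (BT.leaf (nat_lit 31908381)) (BT.leaf (nat_lit 31908385))) (BT.node (nat_lit 9818624) (BT.leaf (nat_lit 37862161)) (BT.leaf (nat_lit 30277641)))))))) (BT.node (nat_lit 9820864) (BT.node (nat_lit 9819712) (BT.node (nat_lit 9819139) (BT.node (nat_lit 9818944) (BT.node (nat_lit 9818816) (BT.node (nat_lit 9818752) (BT.leaf (nat_lit 41888281)) (BT.leaf (nat_lit 31648281))) (BT.node (nat_lit 9818880) (BT.leaf (nat_lit 43549969)) (BT.leaf (nat_lit 43549973)))) (BT.node (nat_lit 9819072) (BT.node (nat_lit 9819008) (BT.leaf (nat_lit 28232465)) (BT.leaf (nat_lit 45831189))) (BT.node (nat_lit 9819136) (BT.leaf (nat_lit 28232709)) (BT.leaf (nat_lit 41299461))))) (BT.node (nat_lit 9819456) (BT.node (nat_lit 9819328) (BT.node (nat_lit 9819200) (BT.leaf (nat_lit 794164)) (BT.leaf (nat_lit 44367885))) (BT.node (nat_lit 9819392) (BT.leaf (nat_lit 31445281)) (BT.leaf (nat_lit 37719573)))) (BT.node (nat_lit 9819584) (BT.node (nat_lit 9819520) (BT.leaf (nat_lit 37718049)) (BT.leaf (nat_lit 41361945))) (BT.node (nat_lit 9819648) (BT.leaf (nat_lit 38822681)) (BT.leaf (nat_lit 39501333)))))) (BT.node (nat_lit 9820224) (BT.node (nat_lit 9819968) (BT.node (nat_lit 9819840) (BT.node (nat_lit 9819776) (BT.leaf (nat_lit 43672865)) (BT.leaf (nat_lit 39280389))) (BT.node (nat_lit 9819904) (BT.leaf (nat_lit 28233733)) (BT.leaf (nat_lit 44250401)))) (BT.node (nat_lit 9820096) (BT.node (nat_lit 9820032) (BT.leaf (nat_lit 42332961)) (BT.leaf (nat_lit 41330713))) (BT.node (nat_lit 9820160) (BT.leaf (nat_lit 41330717)) (BT.leaf (nat_lit 32882697))))) (BT.node (nat_lit 9820480) (BT.node (nat_lit 9820352) (BT.node (nat_lit 9820288) (BT.leaf (nat_lit 32882713)) (BT.leaf (nat_lit 32882717))) (BT.node (nat_lit 9820416) (BT.leaf (nat_lit 32882721)) (BT.leaf (nat_lit 39725329)))) (BT.node (nat_lit 9820672) (BT.node (nat_lit 9820544) (BT.leaf (nat_lit 43328025)) (BT.leaf (nat_lit 32268061))) (BT.node (nat_lit 9820736) (BT.leaf (nat_lit 39455509)) (BT.leaf (nat_lit 38397445))))))) (BT.node (nat_lit 9821888) (BT.node (nat_lit 9821376) (BT.node (nat_lit 9821120) (BT.node (nat_lit 9820992) (BT.node (nat_lit 9820928) (BT.leaf (nat_lit 30189065)) (BT.leaf (nat_lit 30189069))) (BT.node (nat_lit 9821056) (BT.leaf (nat_lit 34678561)) (BT.leaf (nat_lit 30189081)))) (BT.node (nat_lit 9821248) (BT.node (nat_lit 9821184) (BT.leaf (nat_lit 50457109)) (BT.leaf (nat_lit 28238609))) (BT.node (nat_lit 9821312) (BT.leaf (nat_lit 28520469)) (BT.leaf (nat_lit 28520473))))) (BT.node (nat_lit 9821632) (BT.node (nat_lit 9821504) (BT.node (nat_lit 9821440) (BT.leaf (nat_lit 28520477)) (BT.leaf (nat_lit 29777429))) (BT.node (nat_lit 9821568) (BT.leaf (nat_lit 28240401)) (BT.leaf (nat_lit 39259661)))) (BT.node (nat_lit 9821760) (BT.node (nat_lit 9821696) (BT.leaf (nat_lit 28239633)) (BT.leaf (nat_lit 29539865))) (BT.node (nat_lit 9821824) (BT.leaf (nat_lit 29539869)) (BT.leaf (nat_lit 48874769)))))) (BT.node (nat_lit 9822400) (BT.node (nat_lit 9822144) (BT.node (nat_lit 9822016) (BT.node (nat_lit 9821952) (BT.leaf (nat_lit 39261209)) (BT.leaf (nat_lit 37868553))) (BT.node (nat_lit 9822080) (BT.leaf (nat_lit 30424097)) (BT.leaf (nat_lit 48788489)))) (BT.node (nat_lit 9822272) (BT.node (nat_lit 9822208) (BT.leaf (nat_lit 37868573)) (BT.leaf (nat_lit 40436241))) (BT.node (nat_lit 9822336) (BT.leaf (nat_lit 28241693)) (BT.leaf (nat_lit 29441553))))) (BT.node (nat_lit 9822656) (BT.node (nat_lit 9822528) (BT.node (nat_lit 9822464) (BT.leaf (nat_lit 39261193)) (BT.leaf (nat_lit 29441569))) (BT.node (nat_lit 9822592) (BT.leaf (nat_lit 30944289)) (BT.leaf (nat_lit 28240673)))) (BT.node (nat_lit 9822784) (BT.node (nat_lit 9822720) (BT.leaf (nat_lit 28241941)) (BT.leaf (nat_lit 33338129))) (BT.node (nat_lit 9822848) (BT.leaf (nat_lit 30084885)) (BT.leaf (nat_lit 39877141))))))))) (BT.node (nat_lit 9826432) (BT.node (nat_lit 9824768) (BT.node (nat_lit 9823936) (BT.node (nat_lit 9823424) (BT.node (nat_lit 9823168) (BT.node (nat_lit 9823040) (BT.node (nat_lit 9822976) (BT.leaf (nat_lit 28242205)) (BT.leaf (nat_lit 31911953))) (BT.node (nat_lit 9823104) (BT.leaf (nat_lit 31911957)) (BT.leaf (nat_lit 31935241)))) (BT.node (nat_lit 9823296) (BT.node (nat_lit 9823232) (BT.leaf (nat_lit 31935245)) (BT.leaf (nat_lit 28247573))) (BT.node (nat_lit 9823360) (BT.leaf (nat_lit 31935257)) (BT.leaf (nat_lit 31935261))))) (BT.node (nat_lit 9823680) (BT.node (nat_lit 9823552) (BT.node (nat_lit 9823488) (BT.leaf (nat_lit 39881749)) (BT.leaf (nat_lit 39212557))) (BT.node (nat_lit 9823616) (BT.leaf (nat_lit 39934993)) (BT.leaf (nat_lit 39398669)))) (BT.node (nat_lit 9823808) (BT.node (nat_lit 9823744) (BT.leaf (nat_lit 39294489)) (BT.leaf (nat_lit 47543833))) (BT.node (nat_lit 9823872) (BT.leaf (nat_lit 35201825)) (BT.leaf (nat_lit 31624973)))))) (BT.node (nat_lit 9824448) (BT.node (nat_lit 9824192) (BT.node (nat_lit 9824064) (BT.node (nat_lit 9824000) (BT.leaf (nat_lit 31989273)) (BT.leaf (nat_lit 31989277))) (BT.node (nat_lit 9824128) (BT.leaf (nat_lit 29629473)) (BT.leaf (nat_lit 39435809)))) (BT.node (nat_lit 9824320) (BT.node (nat_lit 9824256) (BT.leaf (nat_lit 38699809)) (BT.leaf (nat_lit 32648709))) (BT.node (nat_lit 9824384) (BT.leaf (nat_lit 39406853)) (BT.leaf (nat_lit 47737117))))) (BT.node (nat_lit 9824704) (BT.node (nat_lit 9824576) (BT.node (nat_lit 9824512) (BT.leaf (nat_lit 29201669)) (BT.leaf (nat_lit 32753161))) (BT.node (nat_lit 9824640) (BT.leaf (nat_lit 32753165)) (BT.leaf (nat_lit 33341205)))) (BT.node (nat_lit 9824707) (BT.node (nat_lit 9824706) (BT.leaf (nat_lit 39380257)) (BT.leaf (nat_lit 632428))) (BT.node (nat_lit 9824709) (BT.leaf (nat_lit 632428)) (BT.leaf (nat_lit 632428))))))) (BT.node (nat_lit 9825472) (BT.node (nat_lit 9825152) (BT.node (nat_lit 9824900) (BT.node (nat_lit 9824836) (BT.node (nat_lit 9824832) (BT.leaf (nat_lit 33882901)) (BT.leaf (nat_lit 28251929))) (BT.node (nat_lit 9824896) (BT.leaf (nat_lit 775668)) (BT.leaf (nat_lit 28252185)))) (BT.node (nat_lit 9825024) (BT.node (nat_lit 9824960) (BT.leaf (nat_lit 773864)) (BT.leaf (nat_lit 27761949))) (BT.node (nat_lit 9825088) (BT.leaf (nat_lit 42380053)) (BT.leaf (nat_lit 28252189))))) (BT.node (nat_lit 9825288) (BT.node (nat_lit 9825280) (BT.node (nat_lit 9825216) (BT.leaf (nat_lit 37827605)) (BT.leaf (nat_lit 40398865))) (BT.node (nat_lit 9825281) (BT.leaf (nat_lit 45713685)) (BT.leaf (nat_lit 682792)))) (BT.node (nat_lit 9825408) (BT.node (nat_lit 9825344) (BT.leaf (nat_lit 682792)) (BT.leaf (nat_lit 49475869))) (BT.node (nat_lit 9825412) (BT.leaf (nat_lit 39301401)) (BT.leaf (nat_lit 773060)))))) (BT.node (nat_lit 9825984) (BT.node (nat_lit 9825728) (BT.node (nat_lit 9825600) (BT.node (nat_lit 9825536) (BT.leaf (nat_lit 28252689)) (BT.leaf (nat_lit 38981893))) (BT.node (nat_lit 9825664) (BT.leaf (nat_lit 28253201)) (BT.leaf (nat_lit 38724897)))) (BT.node (nat_lit 9825856) (BT.node (nat_lit 9825792) (BT.leaf (nat_lit 49559557)) (BT.leaf (nat_lit 30677785))) (BT.node (nat_lit 9825920) (BT.leaf (nat_lit 30677789)) (BT.leaf (nat_lit 39795737))))) (BT.node (nat_lit 9826176) (BT.node (nat_lit 9826048) (BT.node (nat_lit 9825987) (BT.leaf (nat_lit 32318741)) (BT.leaf (nat_lit 621804))) (BT.node (nat_lit 9826112) (BT.leaf (nat_lit 32835353)) (BT.leaf (nat_lit 51216657)))) (BT.node (nat_lit 9826304) (BT.node (nat_lit 9826240) (BT.leaf (nat_lit 41470237)) (BT.leaf (nat_lit 43707917))) (BT.node (nat_lit 9826368) (BT.leaf (nat_lit 47134985)) (BT.leaf (nat_lit 43355661)))))))) (BT.node (nat_lit 9828160) (BT.node (nat_lit 9827140) (BT.node (nat_lit 9826819) (BT.node (nat_lit 9826688) (BT.node (nat_lit 9826560) (BT.node (nat_lit 9826496) (BT.leaf (nat_lit 45217557)) (BT.leaf (nat_lit 32214549))) (BT.node (nat_lit 9826624) (BT.leaf (nat_lit 33341973)) (BT.leaf (nat_lit 38238469)))) (BT.node (nat_lit 9826816) (BT.node (nat_lit 9826752) (BT.leaf (nat_lit 42108961)) (BT.leaf (nat_lit 42104085))) (BT.node (nat_lit 9826818) (BT.leaf (nat_lit 45964577)) (BT.leaf (nat_lit 764544))))) (BT.node (nat_lit 9826944) (BT.node (nat_lit 9826823) (BT.node (nat_lit 9826822) (BT.leaf (nat_lit 764544)) (BT.leaf (nat_lit 764544))) (BT.node (nat_lit 9826880) (BT.leaf (nat_lit 764544)) (BT.leaf (nat_lit 32316421)))) (BT.node (nat_lit 9827072) (BT.node (nat_lit 9827008) (BT.leaf (nat_lit 31867653)) (BT.leaf (nat_lit 31784989))) (BT.node (nat_lit 9827136) (BT.leaf (nat_lit 32060961)) (BT.leaf (nat_lit 47848477)))))) (BT.node (nat_lit 9827648) (BT.node (nat_lit 9827392) (BT.node (nat_lit 9827264) (BT.node (nat_lit 9827200) (BT.leaf (nat_lit 656308)) (BT.leaf (nat_lit 33343253))) (BT.node (nat_lit 9827328) (BT.leaf (nat_lit 47848457)) (BT.leaf (nat_lit 30999061)))) (BT.node (nat_lit 9827520) (BT.node (nat_lit 9827456) (BT.leaf (nat_lit 33344277)) (BT.leaf (nat_lit 46146309))) (BT.node (nat_lit 9827584) (BT.leaf (nat_lit 32759061)) (BT.leaf (nat_lit 28258073))))) (BT.node (nat_lit 9827904) (BT.node (nat_lit 9827776) (BT.node (nat_lit 9827712) (BT.leaf (nat_lit 42741521)) (BT.leaf (nat_lit 43035661))) (BT.node (nat_lit 9827840) (BT.leaf (nat_lit 28258077)) (BT.leaf (nat_lit 37841929)))) (BT.node (nat_lit 9828032) (BT.node (nat_lit 9827968) (BT.leaf (nat_lit 39705621)) (BT.leaf (nat_lit 29156117))) (BT.node (nat_lit 9828096) (BT.leaf (nat_lit 46743577)) (BT.leaf (nat_lit 48458529))))))) (BT.node (nat_lit 9829120) (BT.node (nat_lit 9828608) (BT.node (nat_lit 9828416) (BT.node (nat_lit 9828288) (BT.node (nat_lit 9828224) (BT.leaf (nat_lit 46592777)) (BT.leaf (nat_lit 47781893))) (BT.node (nat_lit 9828352) (BT.leaf (nat_lit 34060809)) (BT.leaf (nat_lit 43267869)))) (BT.node (nat_lit 9828480) (BT.node (nat_lit 9828421) (BT.leaf (nat_lit 45933321)) (BT.leaf (nat_lit 621720))) (BT.node (nat_lit 9828544) (BT.leaf (nat_lit 40829197)) (BT.leaf (nat_lit 41815829))))) (BT.node (nat_lit 9828864) (BT.node (nat_lit 9828736) (BT.node (nat_lit 9828672) (BT.leaf (nat_lit 52208401)) (BT.leaf (nat_lit 28919833))) (BT.node (nat_lit 9828800) (BT.leaf (nat_lit 31519493)) (BT.leaf (nat_lit 35202065)))) (BT.node (nat_lit 9828992) (BT.node (nat_lit 9828928) (BT.leaf (nat_lit 49005577)) (BT.leaf (nat_lit 41029389))) (BT.node (nat_lit 9829056) (BT.leaf (nat_lit 28708629)) (BT.leaf (nat_lit 28707609)))))) (BT.node (nat_lit 9829570) (BT.node (nat_lit 9829376) (BT.node (nat_lit 9829248) (BT.node (nat_lit 9829184) (BT.leaf (nat_lit 40304673)) (BT.leaf (nat_lit 46314013))) (BT.node (nat_lit 9829312) (BT.leaf (nat_lit 29147157)) (BT.leaf (nat_lit 38487313)))) (BT.node (nat_lit 9829504) (BT.node (nat_lit 9829440) (BT.leaf (nat_lit 43133209)) (BT.leaf (nat_lit 48996101))) (BT.node (nat_lit 9829568) (BT.leaf (nat_lit 32816157)) (BT.leaf (nat_lit 28264977))))) (BT.node (nat_lit 9829696) (BT.node (nat_lit 9829575) (BT.node (nat_lit 9829574) (BT.leaf (nat_lit 690440)) (BT.leaf (nat_lit 690440))) (BT.node (nat_lit 9829632) (BT.leaf (nat_lit 690440)) (BT.leaf (nat_lit 38482185)))) (BT.node (nat_lit 9829824) (BT.node (nat_lit 9829760) (BT.leaf (nat_lit 42405137)) (BT.leaf (nat_lit 30926089))) (BT.node (nat_lit 9829888) (BT.leaf (nat_lit 38178849)) (BT.leaf (nat_lit 38153249)))))))))))) (BT.node (nat_lit 9860288) (BT.node (nat_lit 9845760) (BT.node (nat_lit 9838016) (BT.node (nat_lit 9834112) (BT.node (nat_lit 9832064) (BT.node (nat_lit 9830976) (BT.node (nat_lit 9830464) (BT.node (nat_lit 9830208) (BT.node (nat_lit 9830080) (BT.node (nat_lit 9830016) (BT.leaf (nat_lit 42010145)) (BT.leaf (nat_lit 40469533))) (BT.node (nat_lit 9830144) (BT.leaf (nat_lit 34687505)) (BT.leaf (nat_lit 45618965)))) (BT.node (nat_lit 9830336) (BT.node (nat_lit 9830272) (BT.leaf (nat_lit 42887185)) (BT.leaf (nat_lit 29714197))) (BT.node (nat_lit 9830400) (BT.leaf (nat_lit 40139545)) (BT.leaf (nat_lit 48368645))))) (BT.node (nat_lit 9830720) (BT.node (nat_lit 9830592) (BT.node (nat_lit 9830528) (BT.leaf (nat_lit 39615005)) (BT.leaf (nat_lit 28288281))) (BT.node (nat_lit 9830656) (BT.leaf (nat_lit 42353937)) (BT.leaf (nat_lit 35940873)))) (BT.node (nat_lit 9830848) (BT.node (nat_lit 9830784) (BT.leaf (nat_lit 28288269)) (BT.leaf (nat_lit 42353953))) (BT.node (nat_lit 9830912) (BT.leaf (nat_lit 46844953)) (BT.leaf (nat_lit 30514701)))))) (BT.node (nat_lit 9831552) (BT.node (nat_lit 9831296) (BT.node (nat_lit 9831104) (BT.node (nat_lit 9831040) (BT.leaf (nat_lit 30331673)) (BT.leaf (nat_lit 32375325))) (BT.node (nat_lit 9831168) (BT.leaf (nat_lit 41882629)) (BT.leaf (nat_lit 38552325)))) (BT.node (nat_lit 9831425) (BT.node (nat_lit 9831360) (BT.leaf (nat_lit 50886925)) (BT.leaf (nat_lit 39386377))) (BT.node (nat_lit 9831488) (BT.leaf (nat_lit 683724)) (BT.leaf (nat_lit 28273425))))) (BT.node (nat_lit 9831808) (BT.node (nat_lit 9831680) (BT.node (nat_lit 9831616) (BT.leaf (nat_lit 28273681)) (BT.leaf (nat_lit 38548769))) (BT.node (nat_lit 9831744) (BT.leaf (nat_lit 49793825)) (BT.leaf (nat_lit 49793569)))) (BT.node (nat_lit 9831936) (BT.node (nat_lit 9831872) (BT.leaf (nat_lit 40201989)) (BT.leaf (nat_lit 28275729))) (BT.node (nat_lit 9832000) (BT.leaf (nat_lit 28275473)) (BT.leaf (nat_lit 44908317))))))) (BT.node (nat_lit 9833088) (BT.node (nat_lit 9832576) (BT.node (nat_lit 9832320) (BT.node (nat_lit 9832192) (BT.node (nat_lit 9832128) (BT.leaf (nat_lit 28666637)) (BT.leaf (nat_lit 30923029))) (BT.node (nat_lit 9832256) (BT.leaf (nat_lit 39328521)) (BT.leaf (nat_lit 44684037)))) (BT.node (nat_lit 9832448) (BT.node (nat_lit 9832384) (BT.leaf (nat_lit 30716689)) (BT.leaf (nat_lit 30748185))) (BT.node (nat_lit 9832512) (BT.leaf (nat_lit 30748189)) (BT.leaf (nat_lit 29249045))))) (BT.node (nat_lit 9832832) (BT.node (nat_lit 9832704) (BT.node (nat_lit 9832640) (BT.leaf (nat_lit 49669397)) (BT.leaf (nat_lit 32832021))) (BT.node (nat_lit 9832768) (BT.leaf (nat_lit 30682401)) (BT.leaf (nat_lit 28941593)))) (BT.node (nat_lit 9832960) (BT.node (nat_lit 9832896) (BT.leaf (nat_lit 28941597)) (BT.leaf (nat_lit 43691553))) (BT.node (nat_lit 9833024) (BT.leaf (nat_lit 42276101)) (BT.leaf (nat_lit 40943137)))))) (BT.node (nat_lit 9833600) (BT.node (nat_lit 9833344) (BT.node (nat_lit 9833216) (BT.node (nat_lit 9833152) (BT.leaf (nat_lit 40942881)) (BT.leaf (nat_lit 30586385))) (BT.node (nat_lit 9833280) (BT.leaf (nat_lit 29712917)) (BT.leaf (nat_lit 49161477)))) (BT.node (nat_lit 9833472) (BT.node (nat_lit 9833408) (BT.leaf (nat_lit 29712925)) (BT.leaf (nat_lit 44916769))) (BT.node (nat_lit 9833536) (BT.leaf (nat_lit 43103493)) (BT.leaf (nat_lit 43104033))))) (BT.node (nat_lit 9833856) (BT.node (nat_lit 9833728) (BT.node (nat_lit 9833664) (BT.leaf (nat_lit 48177413)) (BT.leaf (nat_lit 40623129))) (BT.node (nat_lit 9833792) (BT.leaf (nat_lit 40623133)) (BT.leaf (nat_lit 44517653)))) (BT.node (nat_lit 9833984) (BT.node (nat_lit 9833920) (BT.leaf (nat_lit 44926725)) (BT.leaf (nat_lit 37945873))) (BT.node (nat_lit 9834048) (BT.leaf (nat_lit 32980485)) (BT.leaf (nat_lit 47112985)))))))) (BT.node (nat_lit 9836160) (BT.node (nat_lit 9835136) (BT.node (nat_lit 9834624) (BT.node (nat_lit 9834368) (BT.node (nat_lit 9834240) (BT.node (nat_lit 9834176) (BT.leaf (nat_lit 38688273)) (BT.leaf (nat_lit 28635413))) (BT.node (nat_lit 9834304) (BT.leaf (nat_lit 28596245)) (BT.leaf (nat_lit 48112913)))) (BT.node (nat_lit 9834496) (BT.node (nat_lit 9834432) (BT.leaf (nat_lit 47604513)) (BT.leaf (nat_lit 43439109))) (BT.node (nat_lit 9834560) (BT.leaf (nat_lit 41843221)) (BT.leaf (nat_lit 31656225))))) (BT.node (nat_lit 9834880) (BT.node (nat_lit 9834752) (BT.node (nat_lit 9834688) (BT.leaf (nat_lit 30280969)) (BT.leaf (nat_lit 30280973))) (BT.node (nat_lit 9834816) (BT.leaf (nat_lit 28279061)) (BT.leaf (nat_lit 30280985)))) (BT.node (nat_lit 9835008) (BT.node (nat_lit 9834944) (BT.leaf (nat_lit 30280989)) (BT.leaf (nat_lit 30280993))) (BT.node (nat_lit 9835072) (BT.leaf (nat_lit 30747921)) (BT.leaf (nat_lit 43194901)))))) (BT.node (nat_lit 9835648) (BT.node (nat_lit 9835392) (BT.node (nat_lit 9835264) (BT.node (nat_lit 9835200) (BT.leaf (nat_lit 31091473)) (BT.leaf (nat_lit 33764369))) (BT.node (nat_lit 9835328) (BT.leaf (nat_lit 29288985)) (BT.leaf (nat_lit 29288989)))) (BT.node (nat_lit 9835520) (BT.node (nat_lit 9835456) (BT.leaf (nat_lit 29589781)) (BT.leaf (nat_lit 28282389))) (BT.node (nat_lit 9835584) (BT.leaf (nat_lit 37541913)) (BT.leaf (nat_lit 39342089))))) (BT.node (nat_lit 9835904) (BT.node (nat_lit 9835776) (BT.node (nat_lit 9835712) (BT.leaf (nat_lit 39342877)) (BT.leaf (nat_lit 37541901))) (BT.node (nat_lit 9835840) (BT.leaf (nat_lit 44953349)) (BT.leaf (nat_lit 39155233)))) (BT.node (nat_lit 9836032) (BT.node (nat_lit 9835968) (BT.leaf (nat_lit 28284433)) (BT.leaf (nat_lit 28283665))) (BT.node (nat_lit 9836096) (BT.leaf (nat_lit 52182533)) (BT.leaf (nat_lit 39344669))))))) (BT.node (nat_lit 9836992) (BT.node (nat_lit 9836416) (BT.node (nat_lit 9836232) (BT.node (nat_lit 9836163) (BT.node (nat_lit 9836162) (BT.leaf (nat_lit 39038485)) (BT.leaf (nat_lit 742924))) (BT.node (nat_lit 9836224) (BT.leaf (nat_lit 742924)) (BT.leaf (nat_lit 48583957)))) (BT.node (nat_lit 9836296) (BT.node (nat_lit 9836288) (BT.leaf (nat_lit 742932)) (BT.leaf (nat_lit 39344921))) (BT.node (nat_lit 9836352) (BT.leaf (nat_lit 742936)) (BT.leaf (nat_lit 28284701))))) (BT.node (nat_lit 9836736) (BT.node (nat_lit 9836608) (BT.node (nat_lit 9836544) (BT.leaf (nat_lit 43540241)) (BT.leaf (nat_lit 28285189))) (BT.node (nat_lit 9836672) (BT.leaf (nat_lit 38564101)) (BT.leaf (nat_lit 32464413)))) (BT.node (nat_lit 9836864) (BT.node (nat_lit 9836800) (BT.leaf (nat_lit 28286985)) (BT.leaf (nat_lit 41326349))) (BT.node (nat_lit 9836928) (BT.leaf (nat_lit 31425305)) (BT.leaf (nat_lit 31425309)))))) (BT.node (nat_lit 9837504) (BT.node (nat_lit 9837248) (BT.node (nat_lit 9837120) (BT.node (nat_lit 9837056) (BT.leaf (nat_lit 28563985)) (BT.leaf (nat_lit 30062865))) (BT.node (nat_lit 9837184) (BT.leaf (nat_lit 28286473)) (BT.leaf (nat_lit 49311249)))) (BT.node (nat_lit 9837376) (BT.node (nat_lit 9837312) (BT.leaf (nat_lit 44476961)) (BT.leaf (nat_lit 28693529))) (BT.node (nat_lit 9837440) (BT.leaf (nat_lit 28693533)) (BT.leaf (nat_lit 34109713))))) (BT.node (nat_lit 9837760) (BT.node (nat_lit 9837632) (BT.node (nat_lit 9837568) (BT.leaf (nat_lit 32340753)) (BT.leaf (nat_lit 41326361))) (BT.node (nat_lit 9837696) (BT.leaf (nat_lit 43912453)) (BT.leaf (nat_lit 38118433)))) (BT.node (nat_lit 9837888) (BT.node (nat_lit 9837824) (BT.leaf (nat_lit 32005637)) (BT.leaf (nat_lit 44789537))) (BT.node (nat_lit 9837952) (BT.leaf (nat_lit 44014361)) (BT.leaf (nat_lit 30614545))))))))) (BT.node (nat_lit 9842048) (BT.node (nat_lit 9840000) (BT.node (nat_lit 9839040) (BT.node (nat_lit 9838528) (BT.node (nat_lit 9838272) (BT.node (nat_lit 9838144) (BT.node (nat_lit 9838080) (BT.leaf (nat_lit 30614549)) (BT.leaf (nat_lit 30331677))) (BT.node (nat_lit 9838208) (BT.leaf (nat_lit 42156305)) (BT.leaf (nat_lit 29351201)))) (BT.node (nat_lit 9838400) (BT.node (nat_lit 9838336) (BT.leaf (nat_lit 30514713)) (BT.leaf (nat_lit 30514717))) (BT.node (nat_lit 9838464) (BT.leaf (nat_lit 28269597)) (BT.leaf (nat_lit 31746833))))) (BT.node (nat_lit 9838784) (BT.node (nat_lit 9838656) (BT.node (nat_lit 9838592) (BT.leaf (nat_lit 48533269)) (BT.leaf (nat_lit 32479493))) (BT.node (nat_lit 9838720) (BT.leaf (nat_lit 42580489)) (BT.leaf (nat_lit 28288533)))) (BT.node (nat_lit 9838912) (BT.node (nat_lit 9838848) (BT.leaf (nat_lit 38765081)) (BT.leaf (nat_lit 38765085))) (BT.node (nat_lit 9838976) (BT.leaf (nat_lit 47537429)) (BT.leaf (nat_lit 35940877)))))) (BT.node (nat_lit 9839424) (BT.node (nat_lit 9839168) (BT.node (nat_lit 9839106) (BT.node (nat_lit 9839104) (BT.leaf (nat_lit 29468693)) (BT.leaf (nat_lit 49173529))) (BT.node (nat_lit 9839109) (BT.leaf (nat_lit 696696)) (BT.leaf (nat_lit 619792)))) (BT.node (nat_lit 9839296) (BT.node (nat_lit 9839232) (BT.leaf (nat_lit 28288025)) (BT.leaf (nat_lit 35711765))) (BT.node (nat_lit 9839360) (BT.leaf (nat_lit 29295377)) (BT.leaf (nat_lit 46398481))))) (BT.node (nat_lit 9839744) (BT.node (nat_lit 9839616) (BT.node (nat_lit 9839488) (BT.leaf (nat_lit 40346653)) (BT.leaf (nat_lit 31261465))) (BT.node (nat_lit 9839680) (BT.leaf (nat_lit 28838929)) (BT.leaf (nat_lit 44827141)))) (BT.node (nat_lit 9839872) (BT.node (nat_lit 9839808) (BT.leaf (nat_lit 39715337)) (BT.leaf (nat_lit 39359517))) (BT.node (nat_lit 9839936) (BT.leaf (nat_lit 32432141)) (BT.leaf (nat_lit 45126673))))))) (BT.node (nat_lit 9841024) (BT.node (nat_lit 9840512) (BT.node (nat_lit 9840256) (BT.node (nat_lit 9840128) (BT.node (nat_lit 9840064) (BT.leaf (nat_lit 45126677)) (BT.leaf (nat_lit 29266705))) (BT.node (nat_lit 9840192) (BT.leaf (nat_lit 29266709)) (BT.leaf (nat_lit 30063121)))) (BT.node (nat_lit 9840384) (BT.node (nat_lit 9840320) (BT.leaf (nat_lit 37774881)) (BT.leaf (nat_lit 40609557))) (BT.node (nat_lit 9840448) (BT.leaf (nat_lit 38476833)) (BT.leaf (nat_lit 36834837))))) (BT.node (nat_lit 9840768) (BT.node (nat_lit 9840640) (BT.node (nat_lit 9840576) (BT.leaf (nat_lit 41015313)) (BT.leaf (nat_lit 40260881))) (BT.node (nat_lit 9840704) (BT.leaf (nat_lit 32500257)) (BT.leaf (nat_lit 39425569)))) (BT.node (nat_lit 9840896) (BT.node (nat_lit 9840832) (BT.leaf (nat_lit 31999777)) (BT.leaf (nat_lit 39748869))) (BT.node (nat_lit 9840960) (BT.leaf (nat_lit 44312585)) (BT.leaf (nat_lit 51561237)))))) (BT.node (nat_lit 9841536) (BT.node (nat_lit 9841280) (BT.node (nat_lit 9841152) (BT.node (nat_lit 9841088) (BT.leaf (nat_lit 39448853)) (BT.leaf (nat_lit 39364121))) (BT.node (nat_lit 9841216) (BT.leaf (nat_lit 29271577)) (BT.leaf (nat_lit 29271581)))) (BT.node (nat_lit 9841408) (BT.node (nat_lit 9841344) (BT.leaf (nat_lit 43167765)) (BT.leaf (nat_lit 41557765))) (BT.node (nat_lit 9841472) (BT.leaf (nat_lit 28291601)) (BT.leaf (nat_lit 38988565))))) (BT.node (nat_lit 9841792) (BT.node (nat_lit 9841664) (BT.node (nat_lit 9841600) (BT.leaf (nat_lit 41062945)) (BT.leaf (nat_lit 52220185))) (BT.node (nat_lit 9841728) (BT.leaf (nat_lit 40829977)) (BT.leaf (nat_lit 32015905)))) (BT.node (nat_lit 9841920) (BT.node (nat_lit 9841856) (BT.leaf (nat_lit 31748113)) (BT.leaf (nat_lit 49237785))) (BT.node (nat_lit 9841984) (BT.leaf (nat_lit 48444681)) (BT.leaf (nat_lit 28293393)))))))) (BT.node (nat_lit 9843840) (BT.node (nat_lit 9843072) (BT.node (nat_lit 9842560) (BT.node (nat_lit 9842304) (BT.node (nat_lit 9842176) (BT.node (nat_lit 9842112) (BT.leaf (nat_lit 45284381)) (BT.leaf (nat_lit 29278985))) (BT.node (nat_lit 9842240) (BT.leaf (nat_lit 29278989)) (BT.leaf (nat_lit 28293909)))) (BT.node (nat_lit 9842432) (BT.node (nat_lit 9842368) (BT.leaf (nat_lit 48233237)) (BT.leaf (nat_lit 49258513))) (BT.node (nat_lit 9842496) (BT.leaf (nat_lit 34102801)) (BT.leaf (nat_lit 28295189))))) (BT.node (nat_lit 9842816) (BT.node (nat_lit 9842688) (BT.node (nat_lit 9842624) (BT.leaf (nat_lit 28309281)) (BT.leaf (nat_lit 28295173))) (BT.node (nat_lit 9842752) (BT.leaf (nat_lit 27498769)) (BT.leaf (nat_lit 28295953)))) (BT.node (nat_lit 9842944) (BT.node (nat_lit 9842880) (BT.leaf (nat_lit 30418965)) (BT.leaf (nat_lit 41784077))) (BT.node (nat_lit 9843008) (BT.leaf (nat_lit 39374601)) (BT.leaf (nat_lit 39838229)))))) (BT.node (nat_lit 9843456) (BT.node (nat_lit 9843203) (BT.node (nat_lit 9843200) (BT.node (nat_lit 9843136) (BT.leaf (nat_lit 41525781)) (BT.leaf (nat_lit 28669457))) (BT.node (nat_lit 9843202) (BT.leaf (nat_lit 30748437)) (BT.leaf (nat_lit 759608)))) (BT.node (nat_lit 9843328) (BT.node (nat_lit 9843264) (BT.leaf (nat_lit 759608)) (BT.leaf (nat_lit 41480965))) (BT.node (nat_lit 9843392) (BT.leaf (nat_lit 48375557)) (BT.leaf (nat_lit 29639697))))) (BT.node (nat_lit 9843712) (BT.node (nat_lit 9843584) (BT.node (nat_lit 9843520) (BT.leaf (nat_lit 44793885)) (BT.leaf (nat_lit 37712145))) (BT.node (nat_lit 9843648) (BT.leaf (nat_lit 29599761)) (BT.leaf (nat_lit 30772501)))) (BT.node (nat_lit 9843779) (BT.node (nat_lit 9843776) (BT.leaf (nat_lit 47429137)) (BT.leaf (nat_lit 42035973))) (BT.node (nat_lit 9843782) (BT.leaf (nat_lit 692928)) (BT.leaf (nat_lit 692928))))))) (BT.node (nat_lit 9844736) (BT.node (nat_lit 9844224) (BT.node (nat_lit 9843973) (BT.node (nat_lit 9843968) (BT.node (nat_lit 9843904) (BT.leaf (nat_lit 41778965)) (BT.leaf (nat_lit 32861729))) (BT.node (nat_lit 9843972) (BT.leaf (nat_lit 32609569)) (BT.leaf (nat_lit 713832)))) (BT.node (nat_lit 9844096) (BT.node (nat_lit 9844032) (BT.leaf (nat_lit 665616)) (BT.leaf (nat_lit 32862241))) (BT.node (nat_lit 9844160) (BT.leaf (nat_lit 28296729)) (BT.leaf (nat_lit 28951825))))) (BT.node (nat_lit 9844480) (BT.node (nat_lit 9844352) (BT.node (nat_lit 9844288) (BT.leaf (nat_lit 28951829)) (BT.leaf (nat_lit 30871045))) (BT.node (nat_lit 9844416) (BT.leaf (nat_lit 39636749)) (BT.leaf (nat_lit 28274705)))) (BT.node (nat_lit 9844608) (BT.node (nat_lit 9844544) (BT.leaf (nat_lit 28300305)) (BT.leaf (nat_lit 39796241))) (BT.node (nat_lit 9844672) (BT.leaf (nat_lit 49589509)) (BT.leaf (nat_lit 29299997)))))) (BT.node (nat_lit 9845248) (BT.node (nat_lit 9844992) (BT.node (nat_lit 9844864) (BT.node (nat_lit 9844800) (BT.leaf (nat_lit 39298825)) (BT.leaf (nat_lit 39298829))) (BT.node (nat_lit 9844928) (BT.leaf (nat_lit 33357589)) (BT.leaf (nat_lit 39298841)))) (BT.node (nat_lit 9845120) (BT.node (nat_lit 9845056) (BT.leaf (nat_lit 39298845)) (BT.leaf (nat_lit 38060565))) (BT.node (nat_lit 9845184) (BT.leaf (nat_lit 43586073)) (BT.leaf (nat_lit 38249737))))) (BT.node (nat_lit 9845504) (BT.node (nat_lit 9845376) (BT.node (nat_lit 9845312) (BT.leaf (nat_lit 43459333)) (BT.leaf (nat_lit 29076245))) (BT.node (nat_lit 9845440) (BT.leaf (nat_lit 38249753)) (BT.leaf (nat_lit 41484549)))) (BT.node (nat_lit 9845632) (BT.node (nat_lit 9845568) (BT.leaf (nat_lit 38249761)) (BT.leaf (nat_lit 29633297))) (BT.node (nat_lit 9845696) (BT.leaf (nat_lit 28303901)) (BT.leaf (nat_lit 41485345)))))))))) (BT.node (nat_lit 9852864) (BT.node (nat_lit 9849344) (BT.node (nat_lit 9847936) (BT.node (nat_lit 9846976) (BT.node (nat_lit 9846464) (BT.node (nat_lit 9846144) (BT.node (nat_lit 9845888) (BT.node (nat_lit 9845824) (BT.leaf (nat_lit 28273169)) (BT.leaf (nat_lit 28304145))) (BT.node (nat_lit 9846080) (BT.leaf (nat_lit 28303633)) (BT.leaf (nat_lit 48388129)))) (BT.node (nat_lit 9846272) (BT.node (nat_lit 9846208) (BT.leaf (nat_lit 39384861)) (BT.leaf (nat_lit 47620129))) (BT.node (nat_lit 9846400) (BT.leaf (nat_lit 30961673)) (BT.leaf (nat_lit 42800657))))) (BT.node (nat_lit 9846720) (BT.node (nat_lit 9846592) (BT.node (nat_lit 9846528) (BT.leaf (nat_lit 38650117)) (BT.leaf (nat_lit 33360401))) (BT.node (nat_lit 9846656) (BT.leaf (nat_lit 46097157)) (BT.leaf (nat_lit 43779609)))) (BT.node (nat_lit 9846848) (BT.node (nat_lit 9846784) (BT.leaf (nat_lit 31525405)) (BT.leaf (nat_lit 40650513))) (BT.node (nat_lit 9846912) (BT.leaf (nat_lit 40650517)) (BT.leaf (nat_lit 28309005)))))) (BT.node (nat_lit 9847430) (BT.node (nat_lit 9847232) (BT.node (nat_lit 9847104) (BT.node (nat_lit 9847040) (BT.leaf (nat_lit 30488585)) (BT.leaf (nat_lit 28309001))) (BT.node (nat_lit 9847168) (BT.leaf (nat_lit 49494021)) (BT.leaf (nat_lit 30488589)))) (BT.node (nat_lit 9847360) (BT.node (nat_lit 9847296) (BT.leaf (nat_lit 43882253)) (BT.leaf (nat_lit 38291217))) (BT.node (nat_lit 9847424) (BT.leaf (nat_lit 28309525)) (BT.leaf (nat_lit 43588881))))) (BT.node (nat_lit 9847680) (BT.node (nat_lit 9847552) (BT.node (nat_lit 9847488) (BT.leaf (nat_lit 651320)) (BT.leaf (nat_lit 49062417))) (BT.node (nat_lit 9847616) (BT.leaf (nat_lit 47563553)) (BT.leaf (nat_lit 28857881)))) (BT.node (nat_lit 9847808) (BT.node (nat_lit 9847744) (BT.leaf (nat_lit 43330593)) (BT.leaf (nat_lit 28310553))) (BT.node (nat_lit 9847872) (BT.leaf (nat_lit 28310297)) (BT.leaf (nat_lit 49221649))))))) (BT.node (nat_lit 9848640) (BT.node (nat_lit 9848198) (BT.node (nat_lit 9848064) (BT.node (nat_lit 9848005) (BT.node (nat_lit 9848000) (BT.leaf (nat_lit 28310813)) (BT.leaf (nat_lit 36153105))) (BT.node (nat_lit 9848008) (BT.leaf (nat_lit 619500)) (BT.leaf (nat_lit 619500)))) (BT.node (nat_lit 9848128) (BT.node (nat_lit 9848068) (BT.leaf (nat_lit 28310809)) (BT.leaf (nat_lit 747868))) (BT.node (nat_lit 9848192) (BT.leaf (nat_lit 28311061)) (BT.leaf (nat_lit 41674773))))) (BT.node (nat_lit 9848384) (BT.node (nat_lit 9848256) (BT.node (nat_lit 9848199) (BT.leaf (nat_lit 651148)) (BT.leaf (nat_lit 651148))) (BT.node (nat_lit 9848320) (BT.leaf (nat_lit 47909653)) (BT.leaf (nat_lit 28311321)))) (BT.node (nat_lit 9848512) (BT.node (nat_lit 9848448) (BT.leaf (nat_lit 28311577)) (BT.leaf (nat_lit 29684241))) (BT.node (nat_lit 9848576) (BT.leaf (nat_lit 41669657)) (BT.leaf (nat_lit 28311325)))))) (BT.node (nat_lit 9849026) (BT.node (nat_lit 9848896) (BT.node (nat_lit 9848768) (BT.node (nat_lit 9848704) (BT.leaf (nat_lit 28311581)) (BT.leaf (nat_lit 47909657))) (BT.node (nat_lit 9848832) (BT.leaf (nat_lit 28311829)) (BT.leaf (nat_lit 28312597)))) (BT.node (nat_lit 9848965) (BT.node (nat_lit 9848960) (BT.leaf (nat_lit 41717793)) (BT.leaf (nat_lit 46149665))) (BT.node (nat_lit 9849024) (BT.leaf (nat_lit 785272)) (BT.leaf (nat_lit 45998597))))) (BT.node (nat_lit 9849152) (BT.node (nat_lit 9849030) (BT.node (nat_lit 9849029) (BT.leaf (nat_lit 651280)) (BT.leaf (nat_lit 704632))) (BT.node (nat_lit 9849088) (BT.leaf (nat_lit 651280)) (BT.leaf (nat_lit 32779789)))) (BT.node (nat_lit 9849219) (BT.node (nat_lit 9849216) (BT.leaf (nat_lit 28312093)) (BT.leaf (nat_lit 43792389))) (BT.node (nat_lit 9849280) (BT.leaf (nat_lit 744000)) (BT.leaf (nat_lit 28312345)))))))) (BT.node (nat_lit 9851010) (BT.node (nat_lit 9850368) (BT.node (nat_lit 9849856) (BT.node (nat_lit 9849600) (BT.node (nat_lit 9849472) (BT.node (nat_lit 9849408) (BT.leaf (nat_lit 28313873)) (BT.leaf (nat_lit 28313105))) (BT.node (nat_lit 9849536) (BT.leaf (nat_lit 28312849)) (BT.leaf (nat_lit 29333273)))) (BT.node (nat_lit 9849728) (BT.node (nat_lit 9849664) (BT.leaf (nat_lit 29333277)) (BT.leaf (nat_lit 47886357))) (BT.node (nat_lit 9849792) (BT.leaf (nat_lit 29691157)) (BT.leaf (nat_lit 39926557))))) (BT.node (nat_lit 9850112) (BT.node (nat_lit 9849984) (BT.node (nat_lit 9849920) (BT.leaf (nat_lit 39294493)) (BT.leaf (nat_lit 41676301))) (BT.node (nat_lit 9850048) (BT.leaf (nat_lit 40185877)) (BT.leaf (nat_lit 38849297)))) (BT.node (nat_lit 9850240) (BT.node (nat_lit 9850176) (BT.leaf (nat_lit 28314897)) (BT.leaf (nat_lit 28314641))) (BT.node (nat_lit 9850304) (BT.leaf (nat_lit 46311437)) (BT.leaf (nat_lit 28315141)))))) (BT.node (nat_lit 9850568) (BT.node (nat_lit 9850561) (BT.node (nat_lit 9850496) (BT.node (nat_lit 9850432) (BT.leaf (nat_lit 38617625)) (BT.leaf (nat_lit 28315161))) (BT.node (nat_lit 9850560) (BT.leaf (nat_lit 41638161)) (BT.leaf (nat_lit 38602781)))) (BT.node (nat_lit 9850563) (BT.node (nat_lit 9850562) (BT.leaf (nat_lit 655264)) (BT.leaf (nat_lit 655264))) (BT.node (nat_lit 9850564) (BT.leaf (nat_lit 655264)) (BT.leaf (nat_lit 655264))))) (BT.node (nat_lit 9850816) (BT.node (nat_lit 9850688) (BT.node (nat_lit 9850624) (BT.leaf (nat_lit 655264)) (BT.leaf (nat_lit 28315165))) (BT.node (nat_lit 9850752) (BT.leaf (nat_lit 41937685)) (BT.leaf (nat_lit 43479841)))) (BT.node (nat_lit 9850944) (BT.node (nat_lit 9850880) (BT.leaf (nat_lit 28316693)) (BT.leaf (nat_lit 48982281))) (BT.node (nat_lit 9851008) (BT.leaf (nat_lit 51584261)) (BT.leaf (nat_lit 43480073))))))) (BT.node (nat_lit 9851972) (BT.node (nat_lit 9851520) (BT.node (nat_lit 9851264) (BT.node (nat_lit 9851136) (BT.node (nat_lit 9851072) (BT.leaf (nat_lit 681636)) (BT.leaf (nat_lit 35615773))) (BT.node (nat_lit 9851200) (BT.leaf (nat_lit 47341589)) (BT.leaf (nat_lit 37939993)))) (BT.node (nat_lit 9851392) (BT.node (nat_lit 9851328) (BT.leaf (nat_lit 39000097)) (BT.leaf (nat_lit 31192329))) (BT.node (nat_lit 9851456) (BT.leaf (nat_lit 39405337)) (BT.leaf (nat_lit 28587553))))) (BT.node (nat_lit 9851776) (BT.node (nat_lit 9851648) (BT.node (nat_lit 9851584) (BT.leaf (nat_lit 27358489)) (BT.leaf (nat_lit 38023445))) (BT.node (nat_lit 9851712) (BT.leaf (nat_lit 46402585)) (BT.leaf (nat_lit 45243669)))) (BT.node (nat_lit 9851904) (BT.node (nat_lit 9851840) (BT.leaf (nat_lit 42517521)) (BT.leaf (nat_lit 34488841))) (BT.node (nat_lit 9851968) (BT.leaf (nat_lit 50634517)) (BT.leaf (nat_lit 42037793)))))) (BT.node (nat_lit 9852416) (BT.node (nat_lit 9852160) (BT.node (nat_lit 9852096) (BT.node (nat_lit 9852032) (BT.leaf (nat_lit 687808)) (BT.leaf (nat_lit 51976965))) (BT.node (nat_lit 9852101) (BT.leaf (nat_lit 31186441)) (BT.leaf (nat_lit 696028)))) (BT.node (nat_lit 9852288) (BT.node (nat_lit 9852224) (BT.leaf (nat_lit 45119237)) (BT.leaf (nat_lit 38999301))) (BT.node (nat_lit 9852352) (BT.leaf (nat_lit 29694741)) (BT.leaf (nat_lit 29694745))))) (BT.node (nat_lit 9852616) (BT.node (nat_lit 9852544) (BT.node (nat_lit 9852480) (BT.leaf (nat_lit 35566109)) (BT.leaf (nat_lit 28320285))) (BT.node (nat_lit 9852608) (BT.leaf (nat_lit 28320541)) (BT.leaf (nat_lit 42060037)))) (BT.node (nat_lit 9852736) (BT.node (nat_lit 9852672) (BT.leaf (nat_lit 667052)) (BT.leaf (nat_lit 29694997))) (BT.node (nat_lit 9852800) (BT.leaf (nat_lit 28321305)) (BT.leaf (nat_lit 30600213))))))))) (BT.node (nat_lit 9856512) (BT.node (nat_lit 9854848) (BT.node (nat_lit 9853824) (BT.node (nat_lit 9853312) (BT.node (nat_lit 9853056) (BT.node (nat_lit 9852933) (BT.node (nat_lit 9852928) (BT.leaf (nat_lit 30600221)) (BT.leaf (nat_lit 43028001))) (BT.node (nat_lit 9852992) (BT.leaf (nat_lit 668220)) (BT.leaf (nat_lit 28321561)))) (BT.node (nat_lit 9853184) (BT.node (nat_lit 9853120) (BT.leaf (nat_lit 43509009)) (BT.leaf (nat_lit 34214421))) (BT.node (nat_lit 9853248) (BT.leaf (nat_lit 36133149)) (BT.leaf (nat_lit 28321565))))) (BT.node (nat_lit 9853568) (BT.node (nat_lit 9853440) (BT.node (nat_lit 9853376) (BT.leaf (nat_lit 34214677)) (BT.leaf (nat_lit 28639509))) (BT.node (nat_lit 9853504) (BT.leaf (nat_lit 28639513)) (BT.leaf (nat_lit 28639517)))) (BT.node (nat_lit 9853696) (BT.node (nat_lit 9853632) (BT.leaf (nat_lit 27360785)) (BT.leaf (nat_lit 29997333))) (BT.node (nat_lit 9853760) (BT.leaf (nat_lit 43742745)) (BT.leaf (nat_lit 43742749)))))) (BT.node (nat_lit 9854336) (BT.node (nat_lit 9854080) (BT.node (nat_lit 9853952) (BT.node (nat_lit 9853888) (BT.leaf (nat_lit 34741529)) (BT.leaf (nat_lit 51540229))) (BT.node (nat_lit 9854016) (BT.leaf (nat_lit 39658257)) (BT.leaf (nat_lit 39658261)))) (BT.node (nat_lit 9854208) (BT.node (nat_lit 9854144) (BT.leaf (nat_lit 27714333)) (BT.leaf (nat_lit 28325149))) (BT.node (nat_lit 9854272) (BT.leaf (nat_lit 28585233)) (BT.leaf (nat_lit 28585237))))) (BT.node (nat_lit 9854592) (BT.node (nat_lit 9854464) (BT.node (nat_lit 9854400) (BT.leaf (nat_lit 28325657)) (BT.leaf (nat_lit 28169497))) (BT.node (nat_lit 9854528) (BT.leaf (nat_lit 31208713)) (BT.leaf (nat_lit 31207193)))) (BT.node (nat_lit 9854720) (BT.node (nat_lit 9854656) (BT.leaf (nat_lit 48607765)) (BT.leaf (nat_lit 42857481))) (BT.node (nat_lit 9854784) (BT.leaf (nat_lit 48608521)) (BT.leaf (nat_lit 39296793))))))) (BT.node (nat_lit 9855872) (BT.node (nat_lit 9855360) (BT.node (nat_lit 9855104) (BT.node (nat_lit 9854976) (BT.node (nat_lit 9854912) (BT.leaf (nat_lit 43806725)) (BT.leaf (nat_lit 28183057))) (BT.node (nat_lit 9855040) (BT.leaf (nat_lit 31299849)) (BT.leaf (nat_lit 31299853)))) (BT.node (nat_lit 9855232) (BT.node (nat_lit 9855168) (BT.leaf (nat_lit 31299857)) (BT.leaf (nat_lit 31299873))) (BT.node (nat_lit 9855296) (BT.leaf (nat_lit 46633249)) (BT.leaf (nat_lit 28461845))))) (BT.node (nat_lit 9855616) (BT.node (nat_lit 9855488) (BT.node (nat_lit 9855424) (BT.leaf (nat_lit 31579413)) (BT.leaf (nat_lit 45406477))) (BT.node (nat_lit 9855552) (BT.leaf (nat_lit 28337937)) (BT.leaf (nat_lit 45444613)))) (BT.node (nat_lit 9855744) (BT.node (nat_lit 9855680) (BT.leaf (nat_lit 28338705)) (BT.leaf (nat_lit 28502033))) (BT.node (nat_lit 9855808) (BT.leaf (nat_lit 28605205)) (BT.leaf (nat_lit 36313121)))))) (BT.node (nat_lit 9856256) (BT.node (nat_lit 9856008) (BT.node (nat_lit 9855936) (BT.node (nat_lit 9855880) (BT.leaf (nat_lit 34813193)) (BT.leaf (nat_lit 811732))) (BT.node (nat_lit 9856000) (BT.leaf (nat_lit 46785561)) (BT.leaf (nat_lit 31574281)))) (BT.node (nat_lit 9856128) (BT.node (nat_lit 9856064) (BT.leaf (nat_lit 622092)) (BT.leaf (nat_lit 28341517))) (BT.node (nat_lit 9856192) (BT.leaf (nat_lit 47156765)) (BT.leaf (nat_lit 28191509))))) (BT.node (nat_lit 9856392) (BT.node (nat_lit 9856320) (BT.node (nat_lit 9856264) (BT.leaf (nat_lit 31574285)) (BT.leaf (nat_lit 690420))) (BT.node (nat_lit 9856384) (BT.leaf (nat_lit 28339729)) (BT.leaf (nat_lit 31999769)))) (BT.node (nat_lit 9856449) (BT.node (nat_lit 9856448) (BT.leaf (nat_lit 761340)) (BT.leaf (nat_lit 31999773))) (BT.node (nat_lit 9856456) (BT.leaf (nat_lit 761344)) (BT.leaf (nat_lit 761344)))))))) (BT.node (nat_lit 9858368) (BT.node (nat_lit 9857408) (BT.node (nat_lit 9856960) (BT.node (nat_lit 9856705) (BT.node (nat_lit 9856640) (BT.node (nat_lit 9856576) (BT.leaf (nat_lit 28341009)) (BT.leaf (nat_lit 31471893))) (BT.node (nat_lit 9856704) (BT.leaf (nat_lit 31471897)) (BT.leaf (nat_lit 31574301)))) (BT.node (nat_lit 9856832) (BT.node (nat_lit 9856768) (BT.leaf (nat_lit 761328)) (BT.leaf (nat_lit 28341265))) (BT.node (nat_lit 9856896) (BT.leaf (nat_lit 39436809)) (BT.leaf (nat_lit 28342545))))) (BT.node (nat_lit 9857216) (BT.node (nat_lit 9857088) (BT.node (nat_lit 9857024) (BT.leaf (nat_lit 28341777)) (BT.leaf (nat_lit 43820829))) (BT.node (nat_lit 9857152) (BT.leaf (nat_lit 31178505)) (BT.leaf (nat_lit 31178761)))) (BT.node (nat_lit 9857288) (BT.node (nat_lit 9857280) (BT.leaf (nat_lit 38867469)) (BT.leaf (nat_lit 34478093))) (BT.node (nat_lit 9857344) (BT.leaf (nat_lit 624996)) (BT.leaf (nat_lit 40000545)))))) (BT.node (nat_lit 9857856) (BT.node (nat_lit 9857600) (BT.node (nat_lit 9857536) (BT.node (nat_lit 9857472) (BT.leaf (nat_lit 38269457)) (BT.leaf (nat_lit 39421197))) (BT.node (nat_lit 9857541) (BT.leaf (nat_lit 50627593)) (BT.leaf (nat_lit 624964)))) (BT.node (nat_lit 9857728) (BT.node (nat_lit 9857664) (BT.leaf (nat_lit 39998241)) (BT.leaf (nat_lit 47183377))) (BT.node (nat_lit 9857792) (BT.leaf (nat_lit 48528157)) (BT.leaf (nat_lit 50724373))))) (BT.node (nat_lit 9858112) (BT.node (nat_lit 9857984) (BT.node (nat_lit 9857920) (BT.leaf (nat_lit 38867465)) (BT.leaf (nat_lit 28337929))) (BT.node (nat_lit 9858048) (BT.leaf (nat_lit 46872841)) (BT.leaf (nat_lit 31844897)))) (BT.node (nat_lit 9858240) (BT.node (nat_lit 9858176) (BT.leaf (nat_lit 28343825)) (BT.leaf (nat_lit 38867481))) (BT.node (nat_lit 9858304) (BT.leaf (nat_lit 38867485)) (BT.leaf (nat_lit 46872861))))))) (BT.node (nat_lit 9859392) (BT.node (nat_lit 9858880) (BT.node (nat_lit 9858624) (BT.node (nat_lit 9858496) (BT.node (nat_lit 9858432) (BT.leaf (nat_lit 48833029)) (BT.leaf (nat_lit 28345373))) (BT.node (nat_lit 9858560) (BT.leaf (nat_lit 31640865)) (BT.leaf (nat_lit 38023701)))) (BT.node (nat_lit 9858752) (BT.node (nat_lit 9858688) (BT.leaf (nat_lit 42007557)) (BT.leaf (nat_lit 39296525))) (BT.node (nat_lit 9858816) (BT.leaf (nat_lit 51774725)) (BT.leaf (nat_lit 44564485))))) (BT.node (nat_lit 9859136) (BT.node (nat_lit 9859008) (BT.node (nat_lit 9858944) (BT.leaf (nat_lit 39296533)) (BT.leaf (nat_lit 48613381))) (BT.node (nat_lit 9859072) (BT.leaf (nat_lit 32534297)) (BT.leaf (nat_lit 48724501)))) (BT.node (nat_lit 9859264) (BT.node (nat_lit 9859200) (BT.leaf (nat_lit 36579361)) (BT.leaf (nat_lit 50704149))) (BT.node (nat_lit 9859328) (BT.leaf (nat_lit 45636897)) (BT.leaf (nat_lit 46875913)))))) (BT.node (nat_lit 9859840) (BT.node (nat_lit 9859648) (BT.node (nat_lit 9859520) (BT.node (nat_lit 9859456) (BT.leaf (nat_lit 28346129)) (BT.leaf (nat_lit 48766229))) (BT.node (nat_lit 9859584) (BT.leaf (nat_lit 39441929)) (BT.leaf (nat_lit 39441933)))) (BT.node (nat_lit 9859713) (BT.node (nat_lit 9859712) (BT.leaf (nat_lit 39441937)) (BT.leaf (nat_lit 33586461))) (BT.node (nat_lit 9859776) (BT.leaf (nat_lit 816460)) (BT.leaf (nat_lit 34322209))))) (BT.node (nat_lit 9860096) (BT.node (nat_lit 9859968) (BT.node (nat_lit 9859904) (BT.leaf (nat_lit 51833357)) (BT.leaf (nat_lit 28347653))) (BT.node (nat_lit 9860032) (BT.leaf (nat_lit 28347925)) (BT.leaf (nat_lit 28348185)))) (BT.node (nat_lit 9860160) (BT.node (nat_lit 9860099) (BT.leaf (nat_lit 39130905)) (BT.leaf (nat_lit 816484))) (BT.node (nat_lit 9860224) (BT.leaf (nat_lit 51231237)) (BT.leaf (nat_lit 39209245))))))))))) (BT.node (nat_lit 9875584) (BT.node (nat_lit 9867712) (BT.node (nat_lit 9863808) (BT.node (nat_lit 9861957) (BT.node (nat_lit 9861248) (BT.node (nat_lit 9860736) (BT.node (nat_lit 9860544) (BT.node (nat_lit 9860416) (BT.node (nat_lit 9860352) (BT.leaf (nat_lit 28348189)) (BT.leaf (nat_lit 37255953))) (BT.node (nat_lit 9860480) (BT.leaf (nat_lit 42321925)) (BT.leaf (nat_lit 39437829)))) (BT.node (nat_lit 9860672) (BT.node (nat_lit 9860608) (BT.leaf (nat_lit 28348689)) (BT.leaf (nat_lit 38603289))) (BT.node (nat_lit 9860673) (BT.leaf (nat_lit 38603293)) (BT.leaf (nat_lit 816500))))) (BT.node (nat_lit 9860992) (BT.node (nat_lit 9860864) (BT.node (nat_lit 9860800) (BT.leaf (nat_lit 28348433)) (BT.leaf (nat_lit 28349197))) (BT.node (nat_lit 9860928) (BT.leaf (nat_lit 32941593)) (BT.leaf (nat_lit 28350229)))) (BT.node (nat_lit 9861120) (BT.node (nat_lit 9861056) (BT.leaf (nat_lit 28349449)) (BT.leaf (nat_lit 28349193))) (BT.node (nat_lit 9861184) (BT.leaf (nat_lit 33373961)) (BT.leaf (nat_lit 43155221)))))) (BT.node (nat_lit 9861575) (BT.node (nat_lit 9861504) (BT.node (nat_lit 9861376) (BT.node (nat_lit 9861312) (BT.leaf (nat_lit 28349453)) (BT.leaf (nat_lit 35362321))) (BT.node (nat_lit 9861440) (BT.leaf (nat_lit 32436505)) (BT.leaf (nat_lit 28349469)))) (BT.node (nat_lit 9861569) (BT.node (nat_lit 9861568) (BT.leaf (nat_lit 27880733)) (BT.leaf (nat_lit 43551757))) (BT.node (nat_lit 9861573) (BT.leaf (nat_lit 798564)) (BT.leaf (nat_lit 798564))))) (BT.node (nat_lit 9861760) (BT.node (nat_lit 9861632) (BT.node (nat_lit 9861576) (BT.leaf (nat_lit 723396)) (BT.leaf (nat_lit 798564))) (BT.node (nat_lit 9861696) (BT.leaf (nat_lit 39448093)) (BT.leaf (nat_lit 28349465)))) (BT.node (nat_lit 9861888) (BT.node (nat_lit 9861824) (BT.leaf (nat_lit 28349713)) (BT.leaf (nat_lit 33373977))) (BT.node (nat_lit 9861952) (BT.leaf (nat_lit 31183637)) (BT.leaf (nat_lit 41838369))))))) (BT.node (nat_lit 9862976) (BT.node (nat_lit 9862464) (BT.node (nat_lit 9862208) (BT.node (nat_lit 9862080) (BT.node (nat_lit 9862016) (BT.leaf (nat_lit 709328)) (BT.leaf (nat_lit 32436501))) (BT.node (nat_lit 9862144) (BT.leaf (nat_lit 32436257)) (BT.leaf (nat_lit 36165665)))) (BT.node (nat_lit 9862336) (BT.node (nat_lit 9862272) (BT.leaf (nat_lit 28667161)) (BT.leaf (nat_lit 28667165))) (BT.node (nat_lit 9862400) (BT.leaf (nat_lit 47184417)) (BT.leaf (nat_lit 39454729))))) (BT.node (nat_lit 9862720) (BT.node (nat_lit 9862592) (BT.node (nat_lit 9862528) (BT.leaf (nat_lit 49951761)) (BT.leaf (nat_lit 32474377))) (BT.node (nat_lit 9862656) (BT.leaf (nat_lit 32474381)) (BT.leaf (nat_lit 49951777)))) (BT.node (nat_lit 9862848) (BT.node (nat_lit 9862784) (BT.leaf (nat_lit 49951493)) (BT.leaf (nat_lit 32474393))) (BT.node (nat_lit 9862912) (BT.leaf (nat_lit 32474397)) (BT.leaf (nat_lit 33384989)))))) (BT.node (nat_lit 9863360) (BT.node (nat_lit 9863104) (BT.node (nat_lit 9863046) (BT.node (nat_lit 9863040) (BT.leaf (nat_lit 28359965)) (BT.leaf (nat_lit 45486361))) (BT.node (nat_lit 9863047) (BT.leaf (nat_lit 620164)) (BT.leaf (nat_lit 620164)))) (BT.node (nat_lit 9863232) (BT.node (nat_lit 9863168) (BT.leaf (nat_lit 28943125)) (BT.leaf (nat_lit 28360729))) (BT.node (nat_lit 9863296) (BT.leaf (nat_lit 41345557)) (BT.leaf (nat_lit 28647961))))) (BT.node (nat_lit 9863552) (BT.node (nat_lit 9863424) (BT.node (nat_lit 9863365) (BT.leaf (nat_lit 29329437)) (BT.leaf (nat_lit 644196))) (BT.node (nat_lit 9863488) (BT.leaf (nat_lit 37986321)) (BT.leaf (nat_lit 32745489)))) (BT.node (nat_lit 9863680) (BT.node (nat_lit 9863616) (BT.leaf (nat_lit 29879833)) (BT.leaf (nat_lit 29879837))) (BT.node (nat_lit 9863744) (BT.leaf (nat_lit 44903173)) (BT.leaf (nat_lit 38824453)))))))) (BT.node (nat_lit 9865664) (BT.node (nat_lit 9864776) (BT.node (nat_lit 9864320) (BT.node (nat_lit 9864064) (BT.node (nat_lit 9863936) (BT.node (nat_lit 9863872) (BT.leaf (nat_lit 34214673)) (BT.leaf (nat_lit 37717789))) (BT.node (nat_lit 9864000) (BT.leaf (nat_lit 44016921)) (BT.leaf (nat_lit 39498505)))) (BT.node (nat_lit 9864192) (BT.node (nat_lit 9864128) (BT.leaf (nat_lit 48152597)) (BT.leaf (nat_lit 41976353))) (BT.node (nat_lit 9864256) (BT.leaf (nat_lit 34429721)) (BT.leaf (nat_lit 34429725))))) (BT.node (nat_lit 9864576) (BT.node (nat_lit 9864448) (BT.node (nat_lit 9864384) (BT.leaf (nat_lit 40487701)) (BT.leaf (nat_lit 40866841))) (BT.node (nat_lit 9864512) (BT.leaf (nat_lit 42053893)) (BT.leaf (nat_lit 39487005)))) (BT.node (nat_lit 9864704) (BT.node (nat_lit 9864640) (BT.leaf (nat_lit 28364049)) (BT.leaf (nat_lit 28363537))) (BT.node (nat_lit 9864768) (BT.leaf (nat_lit 29181981)) (BT.leaf (nat_lit 43972357)))))) (BT.node (nat_lit 9865152) (BT.node (nat_lit 9864899) (BT.node (nat_lit 9864896) (BT.node (nat_lit 9864832) (BT.leaf (nat_lit 620232)) (BT.leaf (nat_lit 46394909))) (BT.node (nat_lit 9864898) (BT.leaf (nat_lit 35072261)) (BT.leaf (nat_lit 617900)))) (BT.node (nat_lit 9865024) (BT.node (nat_lit 9864960) (BT.leaf (nat_lit 617900)) (BT.leaf (nat_lit 46394889))) (BT.node (nat_lit 9865088) (BT.leaf (nat_lit 39459865)) (BT.leaf (nat_lit 29838357))))) (BT.node (nat_lit 9865408) (BT.node (nat_lit 9865280) (BT.node (nat_lit 9865216) (BT.leaf (nat_lit 38791457)) (BT.leaf (nat_lit 37953305))) (BT.node (nat_lit 9865344) (BT.leaf (nat_lit 49333253)) (BT.leaf (nat_lit 38812949)))) (BT.node (nat_lit 9865536) (BT.node (nat_lit 9865472) (BT.leaf (nat_lit 34697241)) (BT.leaf (nat_lit 34696213))) (BT.node (nat_lit 9865600) (BT.leaf (nat_lit 30174485)) (BT.leaf (nat_lit 34697229))))))) (BT.node (nat_lit 9866688) (BT.node (nat_lit 9866176) (BT.node (nat_lit 9865920) (BT.node (nat_lit 9865792) (BT.node (nat_lit 9865728) (BT.leaf (nat_lit 30174469)) (BT.leaf (nat_lit 30174489))) (BT.node (nat_lit 9865856) (BT.leaf (nat_lit 30174493)) (BT.leaf (nat_lit 40253461)))) (BT.node (nat_lit 9866048) (BT.node (nat_lit 9865984) (BT.leaf (nat_lit 38418721)) (BT.leaf (nat_lit 31238421))) (BT.node (nat_lit 9866112) (BT.leaf (nat_lit 39059973)) (BT.leaf (nat_lit 28367633))))) (BT.node (nat_lit 9866432) (BT.node (nat_lit 9866304) (BT.node (nat_lit 9866240) (BT.leaf (nat_lit 50863629)) (BT.leaf (nat_lit 43289121))) (BT.node (nat_lit 9866368) (BT.leaf (nat_lit 44124705)) (BT.leaf (nat_lit 31426593)))) (BT.node (nat_lit 9866560) (BT.node (nat_lit 9866496) (BT.leaf (nat_lit 41327889)) (BT.leaf (nat_lit 27405585))) (BT.node (nat_lit 9866624) (BT.leaf (nat_lit 28371473)) (BT.leaf (nat_lit 30059797)))))) (BT.node (nat_lit 9867200) (BT.node (nat_lit 9866944) (BT.node (nat_lit 9866816) (BT.node (nat_lit 9866752) (BT.leaf (nat_lit 30059805)) (BT.leaf (nat_lit 31068169))) (BT.node (nat_lit 9866880) (BT.leaf (nat_lit 31068173)) (BT.leaf (nat_lit 28374805)))) (BT.node (nat_lit 9867072) (BT.node (nat_lit 9867008) (BT.leaf (nat_lit 31068185)) (BT.leaf (nat_lit 31068189))) (BT.node (nat_lit 9867136) (BT.leaf (nat_lit 46529045)) (BT.leaf (nat_lit 48814369))))) (BT.node (nat_lit 9867456) (BT.node (nat_lit 9867328) (BT.node (nat_lit 9867264) (BT.leaf (nat_lit 50697249)) (BT.leaf (nat_lit 50697505))) (BT.node (nat_lit 9867392) (BT.leaf (nat_lit 28376341)) (BT.leaf (nat_lit 50698017)))) (BT.node (nat_lit 9867584) (BT.node (nat_lit 9867520) (BT.leaf (nat_lit 50697761)) (BT.leaf (nat_lit 27948057))) (BT.node (nat_lit 9867648) (BT.leaf (nat_lit 28377113)) (BT.leaf (nat_lit 34429973))))))))) (BT.node (nat_lit 9872000) (BT.node (nat_lit 9869760) (BT.node (nat_lit 9868736) (BT.node (nat_lit 9868224) (BT.node (nat_lit 9867968) (BT.node (nat_lit 9867840) (BT.node (nat_lit 9867776) (BT.leaf (nat_lit 28228637)) (BT.leaf (nat_lit 28377117))) (BT.node (nat_lit 9867904) (BT.leaf (nat_lit 34430229)) (BT.leaf (nat_lit 28228633)))) (BT.node (nat_lit 9868096) (BT.node (nat_lit 9868032) (BT.leaf (nat_lit 28239625)) (BT.leaf (nat_lit 37919773))) (BT.node (nat_lit 9868160) (BT.leaf (nat_lit 39457293)) (BT.leaf (nat_lit 31934753))))) (BT.node (nat_lit 9868480) (BT.node (nat_lit 9868352) (BT.node (nat_lit 9868288) (BT.leaf (nat_lit 28378901)) (BT.leaf (nat_lit 28377617))) (BT.node (nat_lit 9868416) (BT.leaf (nat_lit 40807193)) (BT.leaf (nat_lit 39457305)))) (BT.node (nat_lit 9868608) (BT.node (nat_lit 9868544) (BT.leaf (nat_lit 31151377)) (BT.leaf (nat_lit 28378393))) (BT.node (nat_lit 9868672) (BT.leaf (nat_lit 31151393)) (BT.leaf (nat_lit 27935521)))))) (BT.node (nat_lit 9869248) (BT.node (nat_lit 9868992) (BT.node (nat_lit 9868864) (BT.node (nat_lit 9868800) (BT.leaf (nat_lit 28377633)) (BT.leaf (nat_lit 33393169))) (BT.node (nat_lit 9868928) (BT.leaf (nat_lit 28377889)) (BT.leaf (nat_lit 48852485)))) (BT.node (nat_lit 9869120) (BT.node (nat_lit 9869056) (BT.leaf (nat_lit 37919769)) (BT.leaf (nat_lit 48852493))) (BT.node (nat_lit 9869184) (BT.leaf (nat_lit 48852505)) (BT.leaf (nat_lit 48852509))))) (BT.node (nat_lit 9869504) (BT.node (nat_lit 9869376) (BT.node (nat_lit 9869312) (BT.leaf (nat_lit 28554529)) (BT.leaf (nat_lit 28378893))) (BT.node (nat_lit 9869440) (BT.leaf (nat_lit 30036501)) (BT.leaf (nat_lit 30036505)))) (BT.node (nat_lit 9869632) (BT.node (nat_lit 9869568) (BT.leaf (nat_lit 42678793)) (BT.leaf (nat_lit 30731285))) (BT.node (nat_lit 9869696) (BT.leaf (nat_lit 28370709)) (BT.leaf (nat_lit 30909961))))))) (BT.node (nat_lit 9870912) (BT.node (nat_lit 9870272) (BT.node (nat_lit 9870016) (BT.node (nat_lit 9869888) (BT.node (nat_lit 9869824) (BT.leaf (nat_lit 30909965)) (BT.leaf (nat_lit 33393685))) (BT.node (nat_lit 9869952) (BT.leaf (nat_lit 30909977)) (BT.leaf (nat_lit 30909981)))) (BT.node (nat_lit 9870144) (BT.node (nat_lit 9870080) (BT.leaf (nat_lit 30909985)) (BT.leaf (nat_lit 29695245))) (BT.node (nat_lit 9870208) (BT.leaf (nat_lit 49260549)) (BT.leaf (nat_lit 46660129))))) (BT.node (nat_lit 9870592) (BT.node (nat_lit 9870400) (BT.node (nat_lit 9870336) (BT.leaf (nat_lit 34755617)) (BT.leaf (nat_lit 46365973))) (BT.node (nat_lit 9870464) (BT.leaf (nat_lit 45458201)) (BT.leaf (nat_lit 38407201)))) (BT.node (nat_lit 9870784) (BT.node (nat_lit 9870720) (BT.leaf (nat_lit 39501341)) (BT.leaf (nat_lit 39498509))) (BT.node (nat_lit 9870848) (BT.leaf (nat_lit 43510561)) (BT.leaf (nat_lit 43510557)))))) (BT.node (nat_lit 9871488) (BT.node (nat_lit 9871232) (BT.node (nat_lit 9871104) (BT.node (nat_lit 9871040) (BT.leaf (nat_lit 29695249)) (BT.leaf (nat_lit 31856665))) (BT.node (nat_lit 9871168) (BT.leaf (nat_lit 31856669)) (BT.leaf (nat_lit 28383505)))) (BT.node (nat_lit 9871360) (BT.node (nat_lit 9871296) (BT.leaf (nat_lit 51438861)) (BT.leaf (nat_lit 48623109))) (BT.node (nat_lit 9871424) (BT.leaf (nat_lit 47844893)) (BT.leaf (nat_lit 29082913))))) (BT.node (nat_lit 9871744) (BT.node (nat_lit 9871616) (BT.node (nat_lit 9871552) (BT.leaf (nat_lit 39692805)) (BT.leaf (nat_lit 29178889))) (BT.node (nat_lit 9871680) (BT.leaf (nat_lit 39692825)) (BT.leaf (nat_lit 39692829)))) (BT.node (nat_lit 9871872) (BT.node (nat_lit 9871808) (BT.leaf (nat_lit 37922313)) (BT.leaf (nat_lit 30797585))) (BT.node (nat_lit 9871936) (BT.leaf (nat_lit 28385305)) (BT.leaf (nat_lit 43989765)))))))) (BT.node (nat_lit 9873664) (BT.node (nat_lit 9872771) (BT.node (nat_lit 9872320) (BT.node (nat_lit 9872194) (BT.node (nat_lit 9872128) (BT.node (nat_lit 9872064) (BT.leaf (nat_lit 41271585)) (BT.leaf (nat_lit 28911381))) (BT.node (nat_lit 9872192) (BT.leaf (nat_lit 28384801)) (BT.leaf (nat_lit 45831941)))) (BT.node (nat_lit 9872259) (BT.node (nat_lit 9872256) (BT.leaf (nat_lit 638692)) (BT.leaf (nat_lit 39692573))) (BT.node (nat_lit 9872264) (BT.leaf (nat_lit 644844)) (BT.leaf (nat_lit 644844))))) (BT.node (nat_lit 9872576) (BT.node (nat_lit 9872448) (BT.node (nat_lit 9872384) (BT.leaf (nat_lit 46707993)) (BT.leaf (nat_lit 38867981))) (BT.node (nat_lit 9872512) (BT.leaf (nat_lit 38867985)) (BT.leaf (nat_lit 31394325)))) (BT.node (nat_lit 9872704) (BT.node (nat_lit 9872640) (BT.leaf (nat_lit 46707469)) (BT.leaf (nat_lit 38868001))) (BT.node (nat_lit 9872768) (BT.leaf (nat_lit 38800389)) (BT.leaf (nat_lit 41485573)))))) (BT.node (nat_lit 9873217) (BT.node (nat_lit 9873024) (BT.node (nat_lit 9872896) (BT.node (nat_lit 9872832) (BT.leaf (nat_lit 748368)) (BT.leaf (nat_lit 46888717))) (BT.node (nat_lit 9872960) (BT.leaf (nat_lit 32066337)) (BT.leaf (nat_lit 28385809)))) (BT.node (nat_lit 9873152) (BT.node (nat_lit 9873088) (BT.leaf (nat_lit 44840733)) (BT.leaf (nat_lit 32421645))) (BT.node (nat_lit 9873216) (BT.leaf (nat_lit 46888729)) (BT.leaf (nat_lit 43355657))))) (BT.node (nat_lit 9873408) (BT.node (nat_lit 9873280) (BT.node (nat_lit 9873224) (BT.leaf (nat_lit 755412)) (BT.leaf (nat_lit 755412))) (BT.node (nat_lit 9873344) (BT.leaf (nat_lit 33394457)) (BT.leaf (nat_lit 30891041)))) (BT.node (nat_lit 9873536) (BT.node (nat_lit 9873472) (BT.leaf (nat_lit 28385825)) (BT.leaf (nat_lit 28386081))) (BT.node (nat_lit 9873600) (BT.leaf (nat_lit 48781341)) (BT.leaf (nat_lit 46394905))))))) (BT.node (nat_lit 9874752) (BT.node (nat_lit 9874240) (BT.node (nat_lit 9873984) (BT.node (nat_lit 9873792) (BT.node (nat_lit 9873728) (BT.leaf (nat_lit 29534225)) (BT.leaf (nat_lit 46394893))) (BT.node (nat_lit 9873856) (BT.leaf (nat_lit 48622597)) (BT.leaf (nat_lit 28386321)))) (BT.node (nat_lit 9874112) (BT.node (nat_lit 9874048) (BT.leaf (nat_lit 37922057)) (BT.leaf (nat_lit 45462021))) (BT.node (nat_lit 9874176) (BT.leaf (nat_lit 38795525)) (BT.leaf (nat_lit 44889625))))) (BT.node (nat_lit 9874496) (BT.node (nat_lit 9874368) (BT.node (nat_lit 9874304) (BT.leaf (nat_lit 28940049)) (BT.leaf (nat_lit 28940053))) (BT.node (nat_lit 9874432) (BT.leaf (nat_lit 44451105)) (BT.leaf (nat_lit 39498013)))) (BT.node (nat_lit 9874624) (BT.node (nat_lit 9874560) (BT.leaf (nat_lit 37831189)) (BT.leaf (nat_lit 45327365))) (BT.node (nat_lit 9874688) (BT.leaf (nat_lit 50696469)) (BT.leaf (nat_lit 30530833)))))) (BT.node (nat_lit 9875136) (BT.node (nat_lit 9874880) (BT.node (nat_lit 9874756) (BT.node (nat_lit 9874755) (BT.leaf (nat_lit 32316181)) (BT.leaf (nat_lit 638204))) (BT.node (nat_lit 9874816) (BT.leaf (nat_lit 638204)) (BT.leaf (nat_lit 32316185)))) (BT.node (nat_lit 9875008) (BT.node (nat_lit 9874944) (BT.leaf (nat_lit 32316189)) (BT.leaf (nat_lit 46053909))) (BT.node (nat_lit 9875072) (BT.leaf (nat_lit 46053913)) (BT.leaf (nat_lit 46053917))))) (BT.node (nat_lit 9875392) (BT.node (nat_lit 9875264) (BT.node (nat_lit 9875200) (BT.leaf (nat_lit 31426565)) (BT.leaf (nat_lit 38128397))) (BT.node (nat_lit 9875328) (BT.leaf (nat_lit 41808649)) (BT.leaf (nat_lit 39725833)))) (BT.node (nat_lit 9875456) (BT.node (nat_lit 9875396) (BT.leaf (nat_lit 42361889)) (BT.leaf (nat_lit 710252))) (BT.node (nat_lit 9875520) (BT.leaf (nat_lit 46257433)) (BT.leaf (nat_lit 39497997)))))))))) (BT.node (nat_lit 9882880) (BT.node (nat_lit 9879168) (BT.node (nat_lit 9877444) (BT.node (nat_lit 9876483) (BT.node (nat_lit 9876096) (BT.node (nat_lit 9875840) (BT.node (nat_lit 9875712) (BT.node (nat_lit 9875648) (BT.leaf (nat_lit 32416273)) (BT.leaf (nat_lit 31337249))) (BT.node (nat_lit 9875776) (BT.leaf (nat_lit 28387105)) (BT.leaf (nat_lit 44252193)))) (BT.node (nat_lit 9875968) (BT.node (nat_lit 9875904) (BT.leaf (nat_lit 28387345)) (BT.leaf (nat_lit 38851865))) (BT.node (nat_lit 9876032) (BT.leaf (nat_lit 38851869)) (BT.leaf (nat_lit 39464709))))) (BT.node (nat_lit 9876352) (BT.node (nat_lit 9876224) (BT.node (nat_lit 9876160) (BT.leaf (nat_lit 28387873)) (BT.leaf (nat_lit 45629961))) (BT.node (nat_lit 9876288) (BT.leaf (nat_lit 28388117)) (BT.leaf (nat_lit 45629977)))) (BT.node (nat_lit 9876421) (BT.node (nat_lit 9876416) (BT.leaf (nat_lit 43289117)) (BT.leaf (nat_lit 46887453))) (BT.node (nat_lit 9876480) (BT.leaf (nat_lit 719620)) (BT.leaf (nat_lit 42189841)))))) (BT.node (nat_lit 9876992) (BT.node (nat_lit 9876736) (BT.node (nat_lit 9876608) (BT.node (nat_lit 9876544) (BT.leaf (nat_lit 772604)) (BT.leaf (nat_lit 32268049))) (BT.node (nat_lit 9876672) (BT.leaf (nat_lit 28388101)) (BT.leaf (nat_lit 28389917)))) (BT.node (nat_lit 9876864) (BT.node (nat_lit 9876800) (BT.leaf (nat_lit 38879505)) (BT.leaf (nat_lit 29929237))) (BT.node (nat_lit 9876928) (BT.leaf (nat_lit 48265733)) (BT.leaf (nat_lit 48996357))))) (BT.node (nat_lit 9877248) (BT.node (nat_lit 9877120) (BT.node (nat_lit 9877056) (BT.leaf (nat_lit 28392453)) (BT.leaf (nat_lit 38458657))) (BT.node (nat_lit 9877184) (BT.leaf (nat_lit 44098565)) (BT.leaf (nat_lit 44741381)))) (BT.node (nat_lit 9877376) (BT.node (nat_lit 9877312) (BT.leaf (nat_lit 44813581)) (BT.leaf (nat_lit 41795849))) (BT.node (nat_lit 9877440) (BT.leaf (nat_lit 29661973)) (BT.leaf (nat_lit 42459937))))))) (BT.node (nat_lit 9878272) (BT.node (nat_lit 9877952) (BT.node (nat_lit 9877696) (BT.node (nat_lit 9877568) (BT.node (nat_lit 9877504) (BT.leaf (nat_lit 759060)) (BT.leaf (nat_lit 29496353))) (BT.node (nat_lit 9877632) (BT.leaf (nat_lit 39510557)) (BT.leaf (nat_lit 43333133)))) (BT.node (nat_lit 9877824) (BT.node (nat_lit 9877760) (BT.leaf (nat_lit 41795601)) (BT.leaf (nat_lit 41795605))) (BT.node (nat_lit 9877888) (BT.leaf (nat_lit 28895505)) (BT.leaf (nat_lit 28896777))))) (BT.node (nat_lit 9878016) (BT.node (nat_lit 9877959) (BT.node (nat_lit 9877958) (BT.leaf (nat_lit 39318277)) (BT.leaf (nat_lit 622064))) (BT.node (nat_lit 9877960) (BT.leaf (nat_lit 622064)) (BT.leaf (nat_lit 622064)))) (BT.node (nat_lit 9878144) (BT.node (nat_lit 9878080) (BT.leaf (nat_lit 29366561)) (BT.leaf (nat_lit 45636613))) (BT.node (nat_lit 9878208) (BT.leaf (nat_lit 42960673)) (BT.leaf (nat_lit 47875101)))))) (BT.node (nat_lit 9878656) (BT.node (nat_lit 9878468) (BT.node (nat_lit 9878400) (BT.node (nat_lit 9878336) (BT.leaf (nat_lit 32806661)) (BT.leaf (nat_lit 29590041))) (BT.node (nat_lit 9878464) (BT.leaf (nat_lit 29590045)) (BT.leaf (nat_lit 39514141)))) (BT.node (nat_lit 9878528) (BT.node (nat_lit 9878472) (BT.leaf (nat_lit 653460)) (BT.leaf (nat_lit 653460))) (BT.node (nat_lit 9878592) (BT.leaf (nat_lit 46736157)) (BT.leaf (nat_lit 32001561))))) (BT.node (nat_lit 9878912) (BT.node (nat_lit 9878784) (BT.node (nat_lit 9878720) (BT.leaf (nat_lit 37966097)) (BT.leaf (nat_lit 37966101))) (BT.node (nat_lit 9878848) (BT.leaf (nat_lit 29507105)) (BT.leaf (nat_lit 32839201)))) (BT.node (nat_lit 9879040) (BT.node (nat_lit 9878976) (BT.leaf (nat_lit 30398229)) (BT.leaf (nat_lit 30398233))) (BT.node (nat_lit 9879104) (BT.leaf (nat_lit 30398237)) (BT.leaf (nat_lit 28524049)))))))) (BT.node (nat_lit 9881088) (BT.node (nat_lit 9880128) (BT.node (nat_lit 9879680) (BT.node (nat_lit 9879424) (BT.node (nat_lit 9879296) (BT.node (nat_lit 9879232) (BT.leaf (nat_lit 40853769)) (BT.leaf (nat_lit 40853773))) (BT.node (nat_lit 9879360) (BT.leaf (nat_lit 29208597)) (BT.leaf (nat_lit 29240341)))) (BT.node (nat_lit 9879552) (BT.node (nat_lit 9879488) (BT.leaf (nat_lit 40853789)) (BT.leaf (nat_lit 50609425))) (BT.node (nat_lit 9879616) (BT.leaf (nat_lit 47876637)) (BT.leaf (nat_lit 49133345))))) (BT.node (nat_lit 9879872) (BT.node (nat_lit 9879744) (BT.node (nat_lit 9879684) (BT.leaf (nat_lit 45013765)) (BT.leaf (nat_lit 794664))) (BT.node (nat_lit 9879808) (BT.leaf (nat_lit 36239637)) (BT.leaf (nat_lit 31603985)))) (BT.node (nat_lit 9880000) (BT.node (nat_lit 9879936) (BT.leaf (nat_lit 39485973)) (BT.leaf (nat_lit 28396817))) (BT.node (nat_lit 9880064) (BT.leaf (nat_lit 28396561)) (BT.leaf (nat_lit 52008217)))))) (BT.node (nat_lit 9880640) (BT.node (nat_lit 9880384) (BT.node (nat_lit 9880256) (BT.node (nat_lit 9880192) (BT.leaf (nat_lit 33668129)) (BT.leaf (nat_lit 28959253))) (BT.node (nat_lit 9880320) (BT.leaf (nat_lit 49028629)) (BT.leaf (nat_lit 39521033)))) (BT.node (nat_lit 9880512) (BT.node (nat_lit 9880448) (BT.leaf (nat_lit 33398293)) (BT.leaf (nat_lit 47792153))) (BT.node (nat_lit 9880576) (BT.leaf (nat_lit 47792157)) (BT.leaf (nat_lit 42635281))))) (BT.node (nat_lit 9880896) (BT.node (nat_lit 9880768) (BT.node (nat_lit 9880704) (BT.leaf (nat_lit 45000469)) (BT.leaf (nat_lit 29250833))) (BT.node (nat_lit 9880832) (BT.leaf (nat_lit 46073889)) (BT.leaf (nat_lit 50862853)))) (BT.node (nat_lit 9880960) (BT.node (nat_lit 9880900) (BT.leaf (nat_lit 48467225)) (BT.leaf (nat_lit 722368))) (BT.node (nat_lit 9881024) (BT.leaf (nat_lit 47187733)) (BT.leaf (nat_lit 29201441))))))) (BT.node (nat_lit 9881920) (BT.node (nat_lit 9881536) (BT.node (nat_lit 9881280) (BT.node (nat_lit 9881152) (BT.node (nat_lit 9881092) (BT.leaf (nat_lit 31624989)) (BT.leaf (nat_lit 681760))) (BT.node (nat_lit 9881216) (BT.leaf (nat_lit 37794577)) (BT.leaf (nat_lit 30152989)))) (BT.node (nat_lit 9881408) (BT.node (nat_lit 9881344) (BT.leaf (nat_lit 38977801)) (BT.leaf (nat_lit 37790233))) (BT.node (nat_lit 9881472) (BT.leaf (nat_lit 29629205)) (BT.leaf (nat_lit 28980501))))) (BT.node (nat_lit 9881728) (BT.node (nat_lit 9881605) (BT.node (nat_lit 9881600) (BT.leaf (nat_lit 33579017)) (BT.leaf (nat_lit 28343561))) (BT.node (nat_lit 9881664) (BT.leaf (nat_lit 684640)) (BT.leaf (nat_lit 39421213)))) (BT.node (nat_lit 9881792) (BT.node (nat_lit 9881733) (BT.leaf (nat_lit 39023625)) (BT.leaf (nat_lit 696268))) (BT.node (nat_lit 9881856) (BT.leaf (nat_lit 42470673)) (BT.leaf (nat_lit 42680845)))))) (BT.node (nat_lit 9882368) (BT.node (nat_lit 9882176) (BT.node (nat_lit 9882048) (BT.node (nat_lit 9881984) (BT.leaf (nat_lit 43816457)) (BT.leaf (nat_lit 38726685))) (BT.node (nat_lit 9882112) (BT.leaf (nat_lit 31064597)) (BT.leaf (nat_lit 28399377)))) (BT.node (nat_lit 9882304) (BT.node (nat_lit 9882240) (BT.leaf (nat_lit 34277653)) (BT.leaf (nat_lit 28421401))) (BT.node (nat_lit 9882308) (BT.leaf (nat_lit 34277661)) (BT.leaf (nat_lit 627520))))) (BT.node (nat_lit 9882624) (BT.node (nat_lit 9882496) (BT.node (nat_lit 9882432) (BT.leaf (nat_lit 30874129)) (BT.leaf (nat_lit 48742665))) (BT.node (nat_lit 9882560) (BT.leaf (nat_lit 33399573)) (BT.leaf (nat_lit 31492117)))) (BT.node (nat_lit 9882752) (BT.node (nat_lit 9882688) (BT.leaf (nat_lit 48740105)) (BT.leaf (nat_lit 33001489))) (BT.node (nat_lit 9882816) (BT.leaf (nat_lit 33526033)) (BT.leaf (nat_lit 34427909))))))))) (BT.node (nat_lit 9886784) (BT.node (nat_lit 9884800) (BT.node (nat_lit 9883776) (BT.node (nat_lit 9883264) (BT.node (nat_lit 9883136) (BT.node (nat_lit 9883008) (BT.node (nat_lit 9882944) (BT.leaf (nat_lit 40453921)) (BT.leaf (nat_lit 40454405))) (BT.node (nat_lit 9883072) (BT.leaf (nat_lit 33902361)) (BT.leaf (nat_lit 46499845)))) (BT.node (nat_lit 9883206) (BT.node (nat_lit 9883200) (BT.leaf (nat_lit 46904353)) (BT.leaf (nat_lit 42338337))) (BT.node (nat_lit 9883207) (BT.leaf (nat_lit 644424)) (BT.leaf (nat_lit 644424))))) (BT.node (nat_lit 9883520) (BT.node (nat_lit 9883392) (BT.node (nat_lit 9883328) (BT.leaf (nat_lit 33904913)) (BT.leaf (nat_lit 39533081))) (BT.node (nat_lit 9883456) (BT.leaf (nat_lit 47063821)) (BT.leaf (nat_lit 28414493)))) (BT.node (nat_lit 9883648) (BT.node (nat_lit 9883584) (BT.leaf (nat_lit 47939349)) (BT.leaf (nat_lit 40612885))) (BT.node (nat_lit 9883712) (BT.leaf (nat_lit 45440281)) (BT.leaf (nat_lit 40613145)))))) (BT.node (nat_lit 9884288) (BT.node (nat_lit 9884032) (BT.node (nat_lit 9883904) (BT.node (nat_lit 9883840) (BT.leaf (nat_lit 42191633)) (BT.leaf (nat_lit 50377749))) (BT.node (nat_lit 9883968) (BT.leaf (nat_lit 28422405)) (BT.leaf (nat_lit 31721753)))) (BT.node (nat_lit 9884160) (BT.node (nat_lit 9884096) (BT.leaf (nat_lit 31721757)) (BT.leaf (nat_lit 40898829))) (BT.node (nat_lit 9884224) (BT.leaf (nat_lit 46910981)) (BT.leaf (nat_lit 29411101))))) (BT.node (nat_lit 9884544) (BT.node (nat_lit 9884416) (BT.node (nat_lit 9884352) (BT.leaf (nat_lit 31396105)) (BT.leaf (nat_lit 29267213))) (BT.node (nat_lit 9884480) (BT.leaf (nat_lit 30500869)) (BT.leaf (nat_lit 38643209)))) (BT.node (nat_lit 9884672) (BT.node (nat_lit 9884608) (BT.leaf (nat_lit 49790229)) (BT.leaf (nat_lit 39538201))) (BT.node (nat_lit 9884736) (BT.leaf (nat_lit 39511581)) (BT.leaf (nat_lit 35058209))))))) (BT.node (nat_lit 9885760) (BT.node (nat_lit 9885248) (BT.node (nat_lit 9885056) (BT.node (nat_lit 9884928) (BT.node (nat_lit 9884864) (BT.leaf (nat_lit 48796445)) (BT.leaf (nat_lit 30922781))) (BT.node (nat_lit 9884992) (BT.leaf (nat_lit 28564745)) (BT.leaf (nat_lit 39539737)))) (BT.node (nat_lit 9885184) (BT.node (nat_lit 9885120) (BT.leaf (nat_lit 29582341)) (BT.leaf (nat_lit 43885589))) (BT.node (nat_lit 9885189) (BT.leaf (nat_lit 32983833)) (BT.leaf (nat_lit 653260))))) (BT.node (nat_lit 9885504) (BT.node (nat_lit 9885376) (BT.node (nat_lit 9885312) (BT.leaf (nat_lit 31306769)) (BT.leaf (nat_lit 33627421))) (BT.node (nat_lit 9885440) (BT.leaf (nat_lit 28797217)) (BT.leaf (nat_lit 32270353)))) (BT.node (nat_lit 9885632) (BT.node (nat_lit 9885568) (BT.leaf (nat_lit 38165509)) (BT.leaf (nat_lit 39542041))) (BT.node (nat_lit 9885696) (BT.leaf (nat_lit 48540437)) (BT.leaf (nat_lit 48540441)))))) (BT.node (nat_lit 9886272) (BT.node (nat_lit 9886016) (BT.node (nat_lit 9885888) (BT.node (nat_lit 9885824) (BT.leaf (nat_lit 48540445)) (BT.leaf (nat_lit 47176469))) (BT.node (nat_lit 9885952) (BT.leaf (nat_lit 31047713)) (BT.leaf (nat_lit 27337233)))) (BT.node (nat_lit 9886144) (BT.node (nat_lit 9886080) (BT.leaf (nat_lit 31487005)) (BT.leaf (nat_lit 43742733))) (BT.node (nat_lit 9886208) (BT.leaf (nat_lit 32354309)) (BT.leaf (nat_lit 32354053))))) (BT.node (nat_lit 9886528) (BT.node (nat_lit 9886400) (BT.node (nat_lit 9886336) (BT.leaf (nat_lit 32821009)) (BT.leaf (nat_lit 38095125))) (BT.node (nat_lit 9886464) (BT.leaf (nat_lit 43972897)) (BT.leaf (nat_lit 46323733)))) (BT.node (nat_lit 9886656) (BT.node (nat_lit 9886592) (BT.leaf (nat_lit 36241165)) (BT.leaf (nat_lit 39660049))) (BT.node (nat_lit 9886720) (BT.leaf (nat_lit 28634897)) (BT.leaf (nat_lit 32275489)))))))) (BT.node (nat_lit 9888704) (BT.node (nat_lit 9887744) (BT.node (nat_lit 9887296) (BT.node (nat_lit 9887040) (BT.node (nat_lit 9886912) (BT.node (nat_lit 9886848) (BT.leaf (nat_lit 29069845)) (BT.leaf (nat_lit 28613905))) (BT.node (nat_lit 9886976) (BT.leaf (nat_lit 28417057)) (BT.leaf (nat_lit 28805137)))) (BT.node (nat_lit 9887168) (BT.node (nat_lit 9887104) (BT.leaf (nat_lit 33461265)) (BT.leaf (nat_lit 28999457))) (BT.node (nat_lit 9887232) (BT.leaf (nat_lit 35617809)) (BT.leaf (nat_lit 28999685))))) (BT.node (nat_lit 9887552) (BT.node (nat_lit 9887424) (BT.node (nat_lit 9887360) (BT.leaf (nat_lit 30648861)) (BT.leaf (nat_lit 28638237))) (BT.node (nat_lit 9887488) (BT.leaf (nat_lit 39532321)) (BT.leaf (nat_lit 41070345)))) (BT.node (nat_lit 9887616) (BT.node (nat_lit 9887560) (BT.leaf (nat_lit 42485777)) (BT.leaf (nat_lit 760620))) (BT.node (nat_lit 9887680) (BT.leaf (nat_lit 46571537)) (BT.leaf (nat_lit 28416545)))))) (BT.node (nat_lit 9888192) (BT.node (nat_lit 9887936) (BT.node (nat_lit 9887816) (BT.node (nat_lit 9887808) (BT.leaf (nat_lit 28707861)) (BT.leaf (nat_lit 40604685))) (BT.node (nat_lit 9887872) (BT.leaf (nat_lit 681716)) (BT.leaf (nat_lit 39825181)))) (BT.node (nat_lit 9888064) (BT.node (nat_lit 9888000) (BT.leaf (nat_lit 28417029)) (BT.leaf (nat_lit 52109317))) (BT.node (nat_lit 9888128) (BT.leaf (nat_lit 48315397)) (BT.leaf (nat_lit 46465301))))) (BT.node (nat_lit 9888448) (BT.node (nat_lit 9888320) (BT.node (nat_lit 9888256) (BT.leaf (nat_lit 30310169)) (BT.leaf (nat_lit 30310173))) (BT.node (nat_lit 9888384) (BT.leaf (nat_lit 28418065)) (BT.leaf (nat_lit 28975137)))) (BT.node (nat_lit 9888576) (BT.node (nat_lit 9888512) (BT.leaf (nat_lit 43649037)) (BT.leaf (nat_lit 34648593))) (BT.node (nat_lit 9888640) (BT.leaf (nat_lit 48947745)) (BT.leaf (nat_lit 47015453))))))) (BT.node (nat_lit 9889536) (BT.node (nat_lit 9889029) (BT.node (nat_lit 9888903) (BT.node (nat_lit 9888832) (BT.node (nat_lit 9888768) (BT.leaf (nat_lit 28418581)) (BT.leaf (nat_lit 47015433))) (BT.node (nat_lit 9888896) (BT.leaf (nat_lit 30981909)) (BT.leaf (nat_lit 48364833)))) (BT.node (nat_lit 9888965) (BT.node (nat_lit 9888960) (BT.leaf (nat_lit 789120)) (BT.leaf (nat_lit 38711577))) (BT.node (nat_lit 9889024) (BT.leaf (nat_lit 775388)) (BT.leaf (nat_lit 38711581))))) (BT.node (nat_lit 9889280) (BT.node (nat_lit 9889152) (BT.node (nat_lit 9889088) (BT.leaf (nat_lit 760076)) (BT.leaf (nat_lit 34992133))) (BT.node (nat_lit 9889216) (BT.leaf (nat_lit 31708181)) (BT.leaf (nat_lit 46011413)))) (BT.node (nat_lit 9889344) (BT.node (nat_lit 9889287) (BT.leaf (nat_lit 28421893)) (BT.leaf (nat_lit 777452))) (BT.node (nat_lit 9889408) (BT.leaf (nat_lit 38306325)) (BT.leaf (nat_lit 28703005)))))) (BT.node (nat_lit 9889728) (BT.node (nat_lit 9889667) (BT.node (nat_lit 9889665) (BT.node (nat_lit 9889600) (BT.leaf (nat_lit 39996949)) (BT.leaf (nat_lit 39558169))) (BT.node (nat_lit 9889666) (BT.leaf (nat_lit 715748)) (BT.leaf (nat_lit 715748)))) (BT.node (nat_lit 9889670) (BT.node (nat_lit 9889669) (BT.leaf (nat_lit 715748)) (BT.leaf (nat_lit 715748))) (BT.node (nat_lit 9889671) (BT.leaf (nat_lit 715748)) (BT.leaf (nat_lit 715748))))) (BT.node (nat_lit 9889990) (BT.node (nat_lit 9889856) (BT.node (nat_lit 9889792) (BT.leaf (nat_lit 29190929)) (BT.leaf (nat_lit 39999497))) (BT.node (nat_lit 9889920) (BT.leaf (nat_lit 28469265)) (BT.leaf (nat_lit 39429385)))) (BT.node (nat_lit 9890048) (BT.node (nat_lit 9889991) (BT.leaf (nat_lit 693652)) (BT.leaf (nat_lit 693652))) (BT.node (nat_lit 9890112) (BT.leaf (nat_lit 42232333)) (BT.leaf (nat_lit 46214937)))))))))))))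
noncomputable def big0_e81920 : BT Nat := (BT.node (nat_lit 9951424) (BT.node (nat_lit 9921216) (BT.node (nat_lit 9905152) (BT.node (nat_lit 9897472) (BT.node (nat_lit 9893892) (BT.node (nat_lit 9892096) (BT.node (nat_lit 9891072) (BT.node (nat_lit 9890565) (BT.node (nat_lit 9890373) (BT.node (nat_lit 9890304) (BT.node (nat_lit 9890240) (BT.leaf (nat_lit 29816853)) (BT.leaf (nat_lit 29816865))) (BT.node (nat_lit 9890368) (BT.leaf (nat_lit 29292301)) (BT.leaf (nat_lit 43830025)))) (BT.node (nat_lit 9890496) (BT.node (nat_lit 9890432) (BT.leaf (nat_lit 722216)) (BT.leaf (nat_lit 39924489))) (BT.node (nat_lit 9890560) (BT.leaf (nat_lit 46263585)) (BT.leaf (nat_lit 31255833))))) (BT.node (nat_lit 9890816) (BT.node (nat_lit 9890688) (BT.node (nat_lit 9890624) (BT.leaf (nat_lit 773196)) (BT.leaf (nat_lit 29405201))) (BT.node (nat_lit 9890752) (BT.leaf (nat_lit 40228629)) (BT.leaf (nat_lit 27789341)))) (BT.node (nat_lit 9890944) (BT.node (nat_lit 9890880) (BT.leaf (nat_lit 49336837)) (BT.leaf (nat_lit 46022429))) (BT.node (nat_lit 9891008) (BT.leaf (nat_lit 37957409)) (BT.leaf (nat_lit 42084629)))))) (BT.node (nat_lit 9891584) (BT.node (nat_lit 9891328) (BT.node (nat_lit 9891200) (BT.node (nat_lit 9891136) (BT.leaf (nat_lit 41962257)) (BT.leaf (nat_lit 40897545))) (BT.node (nat_lit 9891264) (BT.leaf (nat_lit 45565473)) (BT.leaf (nat_lit 30026245)))) (BT.node (nat_lit 9891456) (BT.node (nat_lit 9891392) (BT.leaf (nat_lit 42221317)) (BT.leaf (nat_lit 42222085))) (BT.node (nat_lit 9891520) (BT.leaf (nat_lit 42222369)) (BT.leaf (nat_lit 43169285))))) (BT.node (nat_lit 9891840) (BT.node (nat_lit 9891712) (BT.node (nat_lit 9891648) (BT.leaf (nat_lit 42954757)) (BT.leaf (nat_lit 47893265))) (BT.node (nat_lit 9891776) (BT.leaf (nat_lit 28556049)) (BT.leaf (nat_lit 32373765)))) (BT.node (nat_lit 9891968) (BT.node (nat_lit 9891904) (BT.leaf (nat_lit 39567129)) (BT.leaf (nat_lit 40283425))) (BT.node (nat_lit 9892032) (BT.leaf (nat_lit 37959685)) (BT.leaf (nat_lit 49768737))))))) (BT.node (nat_lit 9892992) (BT.node (nat_lit 9892424) (BT.node (nat_lit 9892352) (BT.node (nat_lit 9892224) (BT.node (nat_lit 9892160) (BT.leaf (nat_lit 49768993)) (BT.leaf (nat_lit 49769221))) (BT.node (nat_lit 9892288) (BT.leaf (nat_lit 46691601)) (BT.leaf (nat_lit 31414805)))) (BT.node (nat_lit 9892417) (BT.node (nat_lit 9892416) (BT.leaf (nat_lit 32120845)) (BT.leaf (nat_lit 39923225))) (BT.node (nat_lit 9892420) (BT.leaf (nat_lit 700596)) (BT.leaf (nat_lit 769800))))) (BT.node (nat_lit 9892736) (BT.node (nat_lit 9892608) (BT.node (nat_lit 9892544) (BT.leaf (nat_lit 700596)) (BT.leaf (nat_lit 39923213))) (BT.node (nat_lit 9892672) (BT.leaf (nat_lit 47813141)) (BT.leaf (nat_lit 28431121)))) (BT.node (nat_lit 9892864) (BT.node (nat_lit 9892800) (BT.leaf (nat_lit 28431377)) (BT.leaf (nat_lit 29366545))) (BT.node (nat_lit 9892928) (BT.leaf (nat_lit 30026517)) (BT.leaf (nat_lit 28431877)))))) (BT.node (nat_lit 9893448) (BT.node (nat_lit 9893312) (BT.node (nat_lit 9893120) (BT.node (nat_lit 9893056) (BT.leaf (nat_lit 31058965)) (BT.leaf (nat_lit 28867345))) (BT.node (nat_lit 9893184) (BT.leaf (nat_lit 28867349)) (BT.leaf (nat_lit 34938897)))) (BT.node (nat_lit 9893376) (BT.node (nat_lit 9893313) (BT.leaf (nat_lit 41194517)) (BT.leaf (nat_lit 682892))) (BT.node (nat_lit 9893440) (BT.leaf (nat_lit 29735705)) (BT.leaf (nat_lit 27839761))))) (BT.node (nat_lit 9893696) (BT.node (nat_lit 9893568) (BT.node (nat_lit 9893504) (BT.leaf (nat_lit 728284)) (BT.leaf (nat_lit 50575389))) (BT.node (nat_lit 9893632) (BT.leaf (nat_lit 37715729)) (BT.leaf (nat_lit 29408525)))) (BT.node (nat_lit 9893824) (BT.node (nat_lit 9893760) (BT.leaf (nat_lit 44108805)) (BT.leaf (nat_lit 42205701))) (BT.node (nat_lit 9893888) (BT.leaf (nat_lit 43148305)) (BT.leaf (nat_lit 37976837)))))))) (BT.node (nat_lit 9895744) (BT.node (nat_lit 9894848) (BT.node (nat_lit 9894400) (BT.node (nat_lit 9894144) (BT.node (nat_lit 9894016) (BT.node (nat_lit 9893952) (BT.leaf (nat_lit 705936)) (BT.leaf (nat_lit 42208545))) (BT.node (nat_lit 9894080) (BT.leaf (nat_lit 41790489)) (BT.leaf (nat_lit 29391625)))) (BT.node (nat_lit 9894272) (BT.node (nat_lit 9894208) (BT.leaf (nat_lit 40072221)) (BT.leaf (nat_lit 40912401))) (BT.node (nat_lit 9894336) (BT.leaf (nat_lit 33747737)) (BT.leaf (nat_lit 33747741))))) (BT.node (nat_lit 9894656) (BT.node (nat_lit 9894528) (BT.node (nat_lit 9894464) (BT.leaf (nat_lit 32239381)) (BT.leaf (nat_lit 28441617))) (BT.node (nat_lit 9894592) (BT.leaf (nat_lit 38978073)) (BT.leaf (nat_lit 41481221)))) (BT.node (nat_lit 9894720) (BT.node (nat_lit 9894660) (BT.leaf (nat_lit 39580961)) (BT.leaf (nat_lit 693616))) (BT.node (nat_lit 9894784) (BT.leaf (nat_lit 29995285)) (BT.leaf (nat_lit 31003661)))))) (BT.node (nat_lit 9895236) (BT.node (nat_lit 9895045) (BT.node (nat_lit 9894976) (BT.node (nat_lit 9894912) (BT.leaf (nat_lit 37855513)) (BT.leaf (nat_lit 39220233))) (BT.node (nat_lit 9894978) (BT.leaf (nat_lit 28442897)) (BT.leaf (nat_lit 743584)))) (BT.node (nat_lit 9895168) (BT.node (nat_lit 9895104) (BT.leaf (nat_lit 643740)) (BT.leaf (nat_lit 36858133))) (BT.node (nat_lit 9895232) (BT.leaf (nat_lit 32361241)) (BT.leaf (nat_lit 41697053))))) (BT.node (nat_lit 9895488) (BT.node (nat_lit 9895360) (BT.node (nat_lit 9895296) (BT.leaf (nat_lit 706132)) (BT.leaf (nat_lit 40053513))) (BT.node (nat_lit 9895424) (BT.leaf (nat_lit 40099597)) (BT.leaf (nat_lit 28443665)))) (BT.node (nat_lit 9895616) (BT.node (nat_lit 9895552) (BT.leaf (nat_lit 31318789)) (BT.leaf (nat_lit 31318805))) (BT.node (nat_lit 9895680) (BT.leaf (nat_lit 42966277)) (BT.leaf (nat_lit 39582489))))))) (BT.node (nat_lit 9896576) (BT.node (nat_lit 9896192) (BT.node (nat_lit 9895936) (BT.node (nat_lit 9895872) (BT.node (nat_lit 9895808) (BT.leaf (nat_lit 28811025)) (BT.leaf (nat_lit 49331221))) (BT.node (nat_lit 9895874) (BT.leaf (nat_lit 31773205)) (BT.leaf (nat_lit 648476)))) (BT.node (nat_lit 9896064) (BT.node (nat_lit 9896000) (BT.leaf (nat_lit 28826905)) (BT.leaf (nat_lit 28826909))) (BT.node (nat_lit 9896128) (BT.leaf (nat_lit 33640217)) (BT.leaf (nat_lit 50129177))))) (BT.node (nat_lit 9896320) (BT.node (nat_lit 9896194) (BT.node (nat_lit 9896193) (BT.leaf (nat_lit 29120277)) (BT.leaf (nat_lit 786112))) (BT.node (nat_lit 9896256) (BT.leaf (nat_lit 786112)) (BT.leaf (nat_lit 39585309)))) (BT.node (nat_lit 9896448) (BT.node (nat_lit 9896384) (BT.leaf (nat_lit 33640205)) (BT.leaf (nat_lit 33944353))) (BT.node (nat_lit 9896512) (BT.leaf (nat_lit 45390597)) (BT.leaf (nat_lit 44411161)))))) (BT.node (nat_lit 9897032) (BT.node (nat_lit 9896832) (BT.node (nat_lit 9896704) (BT.node (nat_lit 9896640) (BT.leaf (nat_lit 43750681)) (BT.leaf (nat_lit 36260885))) (BT.node (nat_lit 9896768) (BT.leaf (nat_lit 47112465)) (BT.leaf (nat_lit 40946181)))) (BT.node (nat_lit 9896960) (BT.node (nat_lit 9896896) (BT.leaf (nat_lit 32881697)) (BT.leaf (nat_lit 39068933))) (BT.node (nat_lit 9897024) (BT.leaf (nat_lit 28453649)) (BT.leaf (nat_lit 41851397))))) (BT.node (nat_lit 9897216) (BT.node (nat_lit 9897152) (BT.node (nat_lit 9897088) (BT.leaf (nat_lit 708012)) (BT.leaf (nat_lit 28453393))) (BT.node (nat_lit 9897160) (BT.leaf (nat_lit 29404181)) (BT.leaf (nat_lit 770464)))) (BT.node (nat_lit 9897344) (BT.node (nat_lit 9897280) (BT.leaf (nat_lit 45369097)) (BT.leaf (nat_lit 47643669))) (BT.node (nat_lit 9897408) (BT.leaf (nat_lit 50064405)) (BT.leaf (nat_lit 40166421))))))))) (BT.node (nat_lit 9901312) (BT.node (nat_lit 9899392) (BT.node (nat_lit 9898432) (BT.node (nat_lit 9897984) (BT.node (nat_lit 9897728) (BT.node (nat_lit 9897600) (BT.node (nat_lit 9897536) (BT.leaf (nat_lit 28454929)) (BT.leaf (nat_lit 29404185))) (BT.node (nat_lit 9897664) (BT.leaf (nat_lit 45419781)) (BT.leaf (nat_lit 51236369)))) (BT.node (nat_lit 9897856) (BT.node (nat_lit 9897792) (BT.leaf (nat_lit 27449873)) (BT.leaf (nat_lit 51236373))) (BT.node (nat_lit 9897920) (BT.leaf (nat_lit 30072329)) (BT.leaf (nat_lit 46974993))))) (BT.node (nat_lit 9898176) (BT.node (nat_lit 9898048) (BT.node (nat_lit 9897986) (BT.leaf (nat_lit 34158109)) (BT.leaf (nat_lit 788104))) (BT.node (nat_lit 9898112) (BT.leaf (nat_lit 30072345)) (BT.leaf (nat_lit 30072349)))) (BT.node (nat_lit 9898304) (BT.node (nat_lit 9898240) (BT.leaf (nat_lit 45658901)) (BT.leaf (nat_lit 46973705))) (BT.node (nat_lit 9898368) (BT.leaf (nat_lit 30463253)) (BT.leaf (nat_lit 28601873)))))) (BT.node (nat_lit 9898888) (BT.node (nat_lit 9898688) (BT.node (nat_lit 9898560) (BT.node (nat_lit 9898496) (BT.leaf (nat_lit 30169877)) (BT.leaf (nat_lit 46789129))) (BT.node (nat_lit 9898624) (BT.leaf (nat_lit 28455189)) (BT.leaf (nat_lit 38455585)))) (BT.node (nat_lit 9898816) (BT.node (nat_lit 9898752) (BT.leaf (nat_lit 52219653)) (BT.leaf (nat_lit 47471369))) (BT.node (nat_lit 9898880) (BT.leaf (nat_lit 39182341)) (BT.leaf (nat_lit 40304653))))) (BT.node (nat_lit 9899136) (BT.node (nat_lit 9899008) (BT.node (nat_lit 9898944) (BT.leaf (nat_lit 775360)) (BT.leaf (nat_lit 32765985))) (BT.node (nat_lit 9899072) (BT.leaf (nat_lit 39666953)) (BT.leaf (nat_lit 48317969)))) (BT.node (nat_lit 9899264) (BT.node (nat_lit 9899200) (BT.leaf (nat_lit 32587801)) (BT.leaf (nat_lit 32587805))) (BT.node (nat_lit 9899328) (BT.leaf (nat_lit 37825057)) (BT.leaf (nat_lit 39568925))))))) (BT.node (nat_lit 9900416) (BT.node (nat_lit 9899904) (BT.node (nat_lit 9899648) (BT.node (nat_lit 9899520) (BT.node (nat_lit 9899456) (BT.leaf (nat_lit 30742037)) (BT.leaf (nat_lit 29184025))) (BT.node (nat_lit 9899584) (BT.leaf (nat_lit 35699733)) (BT.leaf (nat_lit 29627145)))) (BT.node (nat_lit 9899776) (BT.node (nat_lit 9899712) (BT.leaf (nat_lit 28455445)) (BT.leaf (nat_lit 29625101))) (BT.node (nat_lit 9899840) (BT.leaf (nat_lit 29625113)) (BT.leaf (nat_lit 29625117))))) (BT.node (nat_lit 9900160) (BT.node (nat_lit 9900032) (BT.node (nat_lit 9899968) (BT.leaf (nat_lit 29625121)) (BT.leaf (nat_lit 51628309))) (BT.node (nat_lit 9900096) (BT.leaf (nat_lit 47194897)) (BT.leaf (nat_lit 28456993)))) (BT.node (nat_lit 9900288) (BT.node (nat_lit 9900224) (BT.leaf (nat_lit 40465929)) (BT.leaf (nat_lit 33586457))) (BT.node (nat_lit 9900352) (BT.leaf (nat_lit 43025173)) (BT.leaf (nat_lit 39929609)))))) (BT.node (nat_lit 9900870) (BT.node (nat_lit 9900672) (BT.node (nat_lit 9900544) (BT.node (nat_lit 9900480) (BT.leaf (nat_lit 47198473)) (BT.leaf (nat_lit 33586445))) (BT.node (nat_lit 9900608) (BT.leaf (nat_lit 39929633)) (BT.leaf (nat_lit 30838041)))) (BT.node (nat_lit 9900800) (BT.node (nat_lit 9900736) (BT.leaf (nat_lit 30838045)) (BT.leaf (nat_lit 32753181))) (BT.node (nat_lit 9900864) (BT.leaf (nat_lit 38928389)) (BT.leaf (nat_lit 37754129))))) (BT.node (nat_lit 9901056) (BT.node (nat_lit 9900928) (BT.node (nat_lit 9900871) (BT.leaf (nat_lit 710568)) (BT.leaf (nat_lit 710568))) (BT.node (nat_lit 9900992) (BT.leaf (nat_lit 32953889)) (BT.leaf (nat_lit 28458513)))) (BT.node (nat_lit 9901184) (BT.node (nat_lit 9901120) (BT.leaf (nat_lit 31430689)) (BT.leaf (nat_lit 45279765))) (BT.node (nat_lit 9901248) (BT.leaf (nat_lit 32380705)) (BT.leaf (nat_lit 49255437)))))))) (BT.node (nat_lit 9903296) (BT.node (nat_lit 9902272) (BT.node (nat_lit 9901762) (BT.node (nat_lit 9901568) (BT.node (nat_lit 9901440) (BT.node (nat_lit 9901376) (BT.leaf (nat_lit 49255189)) (BT.leaf (nat_lit 37780745))) (BT.node (nat_lit 9901504) (BT.leaf (nat_lit 42494725)) (BT.leaf (nat_lit 31162657)))) (BT.node (nat_lit 9901696) (BT.node (nat_lit 9901632) (BT.leaf (nat_lit 48807453)) (BT.leaf (nat_lit 38309909))) (BT.node (nat_lit 9901760) (BT.leaf (nat_lit 31677201)) (BT.leaf (nat_lit 30367493))))) (BT.node (nat_lit 9902016) (BT.node (nat_lit 9901888) (BT.node (nat_lit 9901824) (BT.leaf (nat_lit 773988)) (BT.leaf (nat_lit 39607581))) (BT.node (nat_lit 9901952) (BT.leaf (nat_lit 49750277)) (BT.leaf (nat_lit 33950485)))) (BT.node (nat_lit 9902144) (BT.node (nat_lit 9902080) (BT.leaf (nat_lit 47850245)) (BT.leaf (nat_lit 32440341))) (BT.node (nat_lit 9902208) (BT.leaf (nat_lit 38125601)) (BT.leaf (nat_lit 47851041)))))) (BT.node (nat_lit 9902784) (BT.node (nat_lit 9902528) (BT.node (nat_lit 9902400) (BT.node (nat_lit 9902336) (BT.leaf (nat_lit 40428553)) (BT.leaf (nat_lit 46478345))) (BT.node (nat_lit 9902464) (BT.leaf (nat_lit 37760537)) (BT.leaf (nat_lit 31949841)))) (BT.node (nat_lit 9902656) (BT.node (nat_lit 9902592) (BT.leaf (nat_lit 31480853)) (BT.leaf (nat_lit 29908741))) (BT.node (nat_lit 9902720) (BT.leaf (nat_lit 41796621)) (BT.leaf (nat_lit 41796877))))) (BT.node (nat_lit 9903040) (BT.node (nat_lit 9902912) (BT.node (nat_lit 9902848) (BT.leaf (nat_lit 47852321)) (BT.leaf (nat_lit 50357253))) (BT.node (nat_lit 9902976) (BT.leaf (nat_lit 40417049)) (BT.leaf (nat_lit 34818589)))) (BT.node (nat_lit 9903168) (BT.node (nat_lit 9903104) (BT.leaf (nat_lit 28463365)) (BT.leaf (nat_lit 44538645))) (BT.node (nat_lit 9903232) (BT.leaf (nat_lit 37964037)) (BT.leaf (nat_lit 40376597))))))) (BT.node (nat_lit 9904192) (BT.node (nat_lit 9903681) (BT.node (nat_lit 9903488) (BT.node (nat_lit 9903360) (BT.node (nat_lit 9903300) (BT.leaf (nat_lit 41313561)) (BT.leaf (nat_lit 646732))) (BT.node (nat_lit 9903424) (BT.leaf (nat_lit 43684869)) (BT.leaf (nat_lit 44394529)))) (BT.node (nat_lit 9903616) (BT.node (nat_lit 9903552) (BT.leaf (nat_lit 44394785)) (BT.leaf (nat_lit 44395013))) (BT.node (nat_lit 9903680) (BT.leaf (nat_lit 45386505)) (BT.leaf (nat_lit 42541833))))) (BT.node (nat_lit 9903936) (BT.node (nat_lit 9903808) (BT.node (nat_lit 9903744) (BT.leaf (nat_lit 741408)) (BT.leaf (nat_lit 46457873))) (BT.node (nat_lit 9903872) (BT.leaf (nat_lit 28655641)) (BT.leaf (nat_lit 32868377)))) (BT.node (nat_lit 9904064) (BT.node (nat_lit 9904000) (BT.leaf (nat_lit 32868381)) (BT.leaf (nat_lit 28465441))) (BT.node (nat_lit 9904128) (BT.leaf (nat_lit 32940553)) (BT.leaf (nat_lit 31536913)))))) (BT.node (nat_lit 9904640) (BT.node (nat_lit 9904384) (BT.node (nat_lit 9904261) (BT.node (nat_lit 9904256) (BT.leaf (nat_lit 47081237)) (BT.leaf (nat_lit 28767773))) (BT.node (nat_lit 9904320) (BT.leaf (nat_lit 626580)) (BT.leaf (nat_lit 47081245)))) (BT.node (nat_lit 9904512) (BT.node (nat_lit 9904448) (BT.leaf (nat_lit 33840137)) (BT.leaf (nat_lit 29585681))) (BT.node (nat_lit 9904576) (BT.leaf (nat_lit 28822549)) (BT.leaf (nat_lit 48808197))))) (BT.node (nat_lit 9904896) (BT.node (nat_lit 9904768) (BT.node (nat_lit 9904704) (BT.leaf (nat_lit 46933509)) (BT.leaf (nat_lit 47174669))) (BT.node (nat_lit 9904832) (BT.leaf (nat_lit 31595041)) (BT.leaf (nat_lit 31105561)))) (BT.node (nat_lit 9905024) (BT.node (nat_lit 9904960) (BT.leaf (nat_lit 46933281)) (BT.leaf (nat_lit 28822801))) (BT.node (nat_lit 9905088) (BT.leaf (nat_lit 29621277)) (BT.leaf (nat_lit 40388365)))))))))) (BT.node (nat_lit 9913408) (BT.node (nat_lit 9909376) (BT.node (nat_lit 9907328) (BT.node (nat_lit 9906176) (BT.node (nat_lit 9905664) (BT.node (nat_lit 9905408) (BT.node (nat_lit 9905280) (BT.node (nat_lit 9905216) (BT.leaf (nat_lit 45260065)) (BT.leaf (nat_lit 50724629))) (BT.node (nat_lit 9905344) (BT.leaf (nat_lit 51951137)) (BT.leaf (nat_lit 32534037)))) (BT.node (nat_lit 9905536) (BT.node (nat_lit 9905472) (BT.leaf (nat_lit 32534041)) (BT.leaf (nat_lit 32534045))) (BT.node (nat_lit 9905600) (BT.leaf (nat_lit 35152657)) (BT.leaf (nat_lit 46614049))))) (BT.node (nat_lit 9905920) (BT.node (nat_lit 9905792) (BT.node (nat_lit 9905728) (BT.leaf (nat_lit 31176469)) (BT.leaf (nat_lit 38671645))) (BT.node (nat_lit 9905856) (BT.leaf (nat_lit 38664977)) (BT.leaf (nat_lit 38669089)))) (BT.node (nat_lit 9906048) (BT.node (nat_lit 9905984) (BT.leaf (nat_lit 28469013)) (BT.leaf (nat_lit 44245765))) (BT.node (nat_lit 9906112) (BT.leaf (nat_lit 38651673)) (BT.leaf (nat_lit 47146505)))))) (BT.node (nat_lit 9906752) (BT.node (nat_lit 9906496) (BT.node (nat_lit 9906368) (BT.node (nat_lit 9906304) (BT.leaf (nat_lit 40250633)) (BT.leaf (nat_lit 44623641))) (BT.node (nat_lit 9906432) (BT.leaf (nat_lit 39256085)) (BT.leaf (nat_lit 40309517)))) (BT.node (nat_lit 9906624) (BT.node (nat_lit 9906560) (BT.leaf (nat_lit 29589509)) (BT.leaf (nat_lit 31480857))) (BT.node (nat_lit 9906688) (BT.leaf (nat_lit 31480861)) (BT.leaf (nat_lit 40327177))))) (BT.node (nat_lit 9907072) (BT.node (nat_lit 9906944) (BT.node (nat_lit 9906816) (BT.leaf (nat_lit 38203169)) (BT.leaf (nat_lit 29696541))) (BT.node (nat_lit 9907008) (BT.leaf (nat_lit 29707809)) (BT.leaf (nat_lit 51689761)))) (BT.node (nat_lit 9907200) (BT.node (nat_lit 9907136) (BT.leaf (nat_lit 45662737)) (BT.leaf (nat_lit 48800289))) (BT.node (nat_lit 9907264) (BT.leaf (nat_lit 48800033)) (BT.leaf (nat_lit 43576325))))))) (BT.node (nat_lit 9908352) (BT.node (nat_lit 9907840) (BT.node (nat_lit 9907584) (BT.node (nat_lit 9907456) (BT.node (nat_lit 9907392) (BT.leaf (nat_lit 43576337)) (BT.leaf (nat_lit 40897045))) (BT.node (nat_lit 9907520) (BT.leaf (nat_lit 41709077)) (BT.leaf (nat_lit 41711637)))) (BT.node (nat_lit 9907712) (BT.node (nat_lit 9907648) (BT.leaf (nat_lit 31887377)) (BT.leaf (nat_lit 47379205))) (BT.node (nat_lit 9907776) (BT.leaf (nat_lit 29845521)) (BT.leaf (nat_lit 29701917))))) (BT.node (nat_lit 9908096) (BT.node (nat_lit 9907968) (BT.node (nat_lit 9907904) (BT.leaf (nat_lit 45721365)) (BT.leaf (nat_lit 46368517))) (BT.node (nat_lit 9908032) (BT.leaf (nat_lit 40240161)) (BT.leaf (nat_lit 42381573)))) (BT.node (nat_lit 9908224) (BT.node (nat_lit 9908160) (BT.leaf (nat_lit 39632153)) (BT.leaf (nat_lit 29578505))) (BT.node (nat_lit 9908288) (BT.leaf (nat_lit 46172693)) (BT.leaf (nat_lit 49727009)))))) (BT.node (nat_lit 9908864) (BT.node (nat_lit 9908608) (BT.node (nat_lit 9908480) (BT.node (nat_lit 9908416) (BT.leaf (nat_lit 30771469)) (BT.leaf (nat_lit 29073173))) (BT.node (nat_lit 9908544) (BT.leaf (nat_lit 39634205)) (BT.leaf (nat_lit 47235861)))) (BT.node (nat_lit 9908736) (BT.node (nat_lit 9908672) (BT.leaf (nat_lit 29037089)) (BT.leaf (nat_lit 30783249))) (BT.node (nat_lit 9908800) (BT.leaf (nat_lit 46835461)) (BT.leaf (nat_lit 40290573))))) (BT.node (nat_lit 9909120) (BT.node (nat_lit 9908992) (BT.node (nat_lit 9908928) (BT.leaf (nat_lit 29066005)) (BT.leaf (nat_lit 40290585))) (BT.node (nat_lit 9909056) (BT.leaf (nat_lit 32606485)) (BT.leaf (nat_lit 30909713)))) (BT.node (nat_lit 9909248) (BT.node (nat_lit 9909184) (BT.leaf (nat_lit 42826257)) (BT.leaf (nat_lit 30189845))) (BT.node (nat_lit 9909312) (BT.leaf (nat_lit 31987209)) (BT.leaf (nat_lit 32282389)))))))) (BT.node (nat_lit 9911360) (BT.node (nat_lit 9910400) (BT.node (nat_lit 9909888) (BT.node (nat_lit 9909632) (BT.node (nat_lit 9909504) (BT.node (nat_lit 9909440) (BT.leaf (nat_lit 28645409)) (BT.leaf (nat_lit 39638045))) (BT.node (nat_lit 9909568) (BT.leaf (nat_lit 29034509)) (BT.leaf (nat_lit 32024601)))) (BT.node (nat_lit 9909760) (BT.node (nat_lit 9909696) (BT.leaf (nat_lit 32024605)) (BT.leaf (nat_lit 28476961))) (BT.node (nat_lit 9909824) (BT.leaf (nat_lit 46939169)) (BT.leaf (nat_lit 32612897))))) (BT.node (nat_lit 9910144) (BT.node (nat_lit 9910016) (BT.node (nat_lit 9909952) (BT.leaf (nat_lit 44606213)) (BT.leaf (nat_lit 45653001))) (BT.node (nat_lit 9910080) (BT.leaf (nat_lit 43081233)) (BT.leaf (nat_lit 35138321)))) (BT.node (nat_lit 9910272) (BT.node (nat_lit 9910208) (BT.leaf (nat_lit 32714269)) (BT.leaf (nat_lit 31093265))) (BT.node (nat_lit 9910336) (BT.leaf (nat_lit 29036825)) (BT.leaf (nat_lit 47218201)))))) (BT.node (nat_lit 9910912) (BT.node (nat_lit 9910656) (BT.node (nat_lit 9910528) (BT.node (nat_lit 9910464) (BT.leaf (nat_lit 39641885)) (BT.leaf (nat_lit 29036813))) (BT.node (nat_lit 9910592) (BT.leaf (nat_lit 39020565)) (BT.leaf (nat_lit 48508701)))) (BT.node (nat_lit 9910784) (BT.node (nat_lit 9910720) (BT.leaf (nat_lit 28614933)) (BT.leaf (nat_lit 31681285))) (BT.node (nat_lit 9910848) (BT.leaf (nat_lit 31681561)) (BT.leaf (nat_lit 31681301))))) (BT.node (nat_lit 9911168) (BT.node (nat_lit 9911040) (BT.node (nat_lit 9910976) (BT.leaf (nat_lit 45289477)) (BT.leaf (nat_lit 27937821))) (BT.node (nat_lit 9911104) (BT.leaf (nat_lit 28475921)) (BT.leaf (nat_lit 44335905)))) (BT.node (nat_lit 9911232) (BT.node (nat_lit 9911173) (BT.leaf (nat_lit 33521181)) (BT.leaf (nat_lit 627088))) (BT.node (nat_lit 9911296) (BT.leaf (nat_lit 40145437)) (BT.leaf (nat_lit 37843973))))))) (BT.node (nat_lit 9912448) (BT.node (nat_lit 9911872) (BT.node (nat_lit 9911616) (BT.node (nat_lit 9911488) (BT.node (nat_lit 9911424) (BT.leaf (nat_lit 28476177)) (BT.leaf (nat_lit 50815505))) (BT.node (nat_lit 9911552) (BT.leaf (nat_lit 47160601)) (BT.leaf (nat_lit 41677845)))) (BT.node (nat_lit 9911744) (BT.node (nat_lit 9911680) (BT.leaf (nat_lit 39934469)) (BT.leaf (nat_lit 47221253))) (BT.node (nat_lit 9911808) (BT.leaf (nat_lit 46320661)) (BT.leaf (nat_lit 46235669))))) (BT.node (nat_lit 9912192) (BT.node (nat_lit 9912064) (BT.node (nat_lit 9911936) (BT.leaf (nat_lit 40642309)) (BT.leaf (nat_lit 31522321))) (BT.node (nat_lit 9912128) (BT.leaf (nat_lit 37970949)) (BT.leaf (nat_lit 49310213)))) (BT.node (nat_lit 9912320) (BT.node (nat_lit 9912256) (BT.leaf (nat_lit 51126029)) (BT.leaf (nat_lit 29766933))) (BT.node (nat_lit 9912384) (BT.leaf (nat_lit 28941089)) (BT.leaf (nat_lit 28485649)))))) (BT.node (nat_lit 9912896) (BT.node (nat_lit 9912642) (BT.node (nat_lit 9912576) (BT.node (nat_lit 9912512) (BT.leaf (nat_lit 28484881)) (BT.leaf (nat_lit 43625753))) (BT.node (nat_lit 9912640) (BT.leaf (nat_lit 27755289)) (BT.leaf (nat_lit 28791829)))) (BT.node (nat_lit 9912768) (BT.node (nat_lit 9912704) (BT.leaf (nat_lit 768712)) (BT.leaf (nat_lit 41744133))) (BT.node (nat_lit 9912832) (BT.leaf (nat_lit 29322757)) (BT.leaf (nat_lit 28486417))))) (BT.node (nat_lit 9913152) (BT.node (nat_lit 9913024) (BT.node (nat_lit 9912960) (BT.leaf (nat_lit 28485905)) (BT.leaf (nat_lit 29322777))) (BT.node (nat_lit 9913088) (BT.leaf (nat_lit 50817029)) (BT.leaf (nat_lit 27349777)))) (BT.node (nat_lit 9913280) (BT.node (nat_lit 9913216) (BT.leaf (nat_lit 41204257)) (BT.leaf (nat_lit 41208601))) (BT.node (nat_lit 9913344) (BT.leaf (nat_lit 29391633)) (BT.leaf (nat_lit 41208853))))))))) (BT.node (nat_lit 9917248) (BT.node (nat_lit 9915200) (BT.node (nat_lit 9914368) (BT.node (nat_lit 9913920) (BT.node (nat_lit 9913664) (BT.node (nat_lit 9913536) (BT.node (nat_lit 9913472) (BT.leaf (nat_lit 28903953)) (BT.leaf (nat_lit 43256865))) (BT.node (nat_lit 9913600) (BT.leaf (nat_lit 42392081)) (BT.leaf (nat_lit 39374609)))) (BT.node (nat_lit 9913792) (BT.node (nat_lit 9913728) (BT.leaf (nat_lit 38504477)) (BT.leaf (nat_lit 32655365))) (BT.node (nat_lit 9913856) (BT.leaf (nat_lit 34675221)) (BT.leaf (nat_lit 28487953))))) (BT.node (nat_lit 9914176) (BT.node (nat_lit 9914048) (BT.node (nat_lit 9913984) (BT.leaf (nat_lit 27767313)) (BT.leaf (nat_lit 34487321))) (BT.node (nat_lit 9914112) (BT.leaf (nat_lit 34487325)) (BT.leaf (nat_lit 45052421)))) (BT.node (nat_lit 9914245) (BT.node (nat_lit 9914240) (BT.leaf (nat_lit 39492869)) (BT.leaf (nat_lit 31489037))) (BT.node (nat_lit 9914304) (BT.leaf (nat_lit 631204)) (BT.leaf (nat_lit 40614413)))))) (BT.node (nat_lit 9914752) (BT.node (nat_lit 9914565) (BT.node (nat_lit 9914496) (BT.node (nat_lit 9914432) (BT.leaf (nat_lit 33431829)) (BT.leaf (nat_lit 30898205))) (BT.node (nat_lit 9914560) (BT.leaf (nat_lit 41282053)) (BT.leaf (nat_lit 30673953)))) (BT.node (nat_lit 9914624) (BT.node (nat_lit 9914566) (BT.leaf (nat_lit 758796)) (BT.leaf (nat_lit 758796))) (BT.node (nat_lit 9914688) (BT.leaf (nat_lit 46018069)) (BT.leaf (nat_lit 28491549))))) (BT.node (nat_lit 9915008) (BT.node (nat_lit 9914880) (BT.node (nat_lit 9914816) (BT.leaf (nat_lit 41414405)) (BT.leaf (nat_lit 38212357))) (BT.node (nat_lit 9914944) (BT.leaf (nat_lit 31492373)) (BT.leaf (nat_lit 28491793)))) (BT.node (nat_lit 9915072) (BT.node (nat_lit 9915012) (BT.leaf (nat_lit 27760925)) (BT.leaf (nat_lit 773856))) (BT.node (nat_lit 9915136) (BT.leaf (nat_lit 49542405)) (BT.leaf (nat_lit 29356309))))))) (BT.node (nat_lit 9916224) (BT.node (nat_lit 9915712) (BT.node (nat_lit 9915456) (BT.node (nat_lit 9915328) (BT.node (nat_lit 9915264) (BT.leaf (nat_lit 32785433)) (BT.leaf (nat_lit 27764241))) (BT.node (nat_lit 9915392) (BT.leaf (nat_lit 50891797)) (BT.leaf (nat_lit 27339793)))) (BT.node (nat_lit 9915584) (BT.node (nat_lit 9915520) (BT.leaf (nat_lit 28899349)) (BT.leaf (nat_lit 29605381))) (BT.node (nat_lit 9915648) (BT.leaf (nat_lit 28570385)) (BT.leaf (nat_lit 37827869))))) (BT.node (nat_lit 9915968) (BT.node (nat_lit 9915840) (BT.node (nat_lit 9915776) (BT.leaf (nat_lit 34092049)) (BT.leaf (nat_lit 50398745))) (BT.node (nat_lit 9915904) (BT.leaf (nat_lit 34092065)) (BT.leaf (nat_lit 28496401)))) (BT.node (nat_lit 9916096) (BT.node (nat_lit 9916032) (BT.leaf (nat_lit 30922273)) (BT.leaf (nat_lit 38765065))) (BT.node (nat_lit 9916160) (BT.leaf (nat_lit 42639109)) (BT.leaf (nat_lit 28496657)))))) (BT.node (nat_lit 9916736) (BT.node (nat_lit 9916480) (BT.node (nat_lit 9916352) (BT.node (nat_lit 9916288) (BT.leaf (nat_lit 31432225)) (BT.leaf (nat_lit 39628833))) (BT.node (nat_lit 9916416) (BT.leaf (nat_lit 44783905)) (BT.leaf (nat_lit 29908229)))) (BT.node (nat_lit 9916608) (BT.node (nat_lit 9916544) (BT.leaf (nat_lit 39077897)) (BT.leaf (nat_lit 32942089))) (BT.node (nat_lit 9916672) (BT.leaf (nat_lit 45096209)) (BT.leaf (nat_lit 28497937))))) (BT.node (nat_lit 9916992) (BT.node (nat_lit 9916864) (BT.node (nat_lit 9916800) (BT.leaf (nat_lit 38559009)) (BT.leaf (nat_lit 44237573))) (BT.node (nat_lit 9916928) (BT.leaf (nat_lit 31499269)) (BT.leaf (nat_lit 38020629)))) (BT.node (nat_lit 9917120) (BT.node (nat_lit 9917056) (BT.leaf (nat_lit 39297313)) (BT.leaf (nat_lit 47737121))) (BT.node (nat_lit 9917184) (BT.leaf (nat_lit 46695969)) (BT.leaf (nat_lit 28498953)))))))) (BT.node (nat_lit 9919296) (BT.node (nat_lit 9918272) (BT.node (nat_lit 9917760) (BT.node (nat_lit 9917504) (BT.node (nat_lit 9917376) (BT.node (nat_lit 9917312) (BT.leaf (nat_lit 45504005)) (BT.leaf (nat_lit 27576081))) (BT.node (nat_lit 9917440) (BT.leaf (nat_lit 28499217)) (BT.leaf (nat_lit 34984993)))) (BT.node (nat_lit 9917632) (BT.node (nat_lit 9917568) (BT.leaf (nat_lit 38868257)) (BT.leaf (nat_lit 32458245))) (BT.node (nat_lit 9917696) (BT.leaf (nat_lit 28500241)) (BT.leaf (nat_lit 28499985))))) (BT.node (nat_lit 9918016) (BT.node (nat_lit 9917888) (BT.node (nat_lit 9917824) (BT.leaf (nat_lit 35198237)) (BT.leaf (nat_lit 30766085))) (BT.node (nat_lit 9917952) (BT.leaf (nat_lit 44013345)) (BT.leaf (nat_lit 38537481)))) (BT.node (nat_lit 9918144) (BT.node (nat_lit 9918080) (BT.leaf (nat_lit 39659297)) (BT.leaf (nat_lit 31176201))) (BT.node (nat_lit 9918208) (BT.leaf (nat_lit 38010889)) (BT.leaf (nat_lit 45603077)))))) (BT.node (nat_lit 9918784) (BT.node (nat_lit 9918528) (BT.node (nat_lit 9918400) (BT.node (nat_lit 9918336) (BT.leaf (nat_lit 29239837)) (BT.leaf (nat_lit 35619597))) (BT.node (nat_lit 9918464) (BT.leaf (nat_lit 49813509)) (BT.leaf (nat_lit 47938069)))) (BT.node (nat_lit 9918656) (BT.node (nat_lit 9918592) (BT.leaf (nat_lit 28502789)) (BT.leaf (nat_lit 29526033))) (BT.node (nat_lit 9918720) (BT.leaf (nat_lit 31493909)) (BT.leaf (nat_lit 31176461))))) (BT.node (nat_lit 9919040) (BT.node (nat_lit 9918912) (BT.node (nat_lit 9918848) (BT.leaf (nat_lit 40461321)) (BT.leaf (nat_lit 29000461))) (BT.node (nat_lit 9918976) (BT.leaf (nat_lit 43382533)) (BT.leaf (nat_lit 27338265)))) (BT.node (nat_lit 9919168) (BT.node (nat_lit 9919104) (BT.leaf (nat_lit 39675913)) (BT.leaf (nat_lit 40661265))) (BT.node (nat_lit 9919232) (BT.leaf (nat_lit 27338269)) (BT.leaf (nat_lit 29643029))))))) (BT.node (nat_lit 9920192) (BT.node (nat_lit 9919680) (BT.node (nat_lit 9919552) (BT.node (nat_lit 9919424) (BT.node (nat_lit 9919360) (BT.leaf (nat_lit 45448453)) (BT.leaf (nat_lit 36244505))) (BT.node (nat_lit 9919488) (BT.leaf (nat_lit 42922757)) (BT.leaf (nat_lit 29296661)))) (BT.node (nat_lit 9919560) (BT.node (nat_lit 9919553) (BT.leaf (nat_lit 45016845)) (BT.leaf (nat_lit 670664))) (BT.node (nat_lit 9919616) (BT.leaf (nat_lit 670664)) (BT.leaf (nat_lit 45016849))))) (BT.node (nat_lit 9919936) (BT.node (nat_lit 9919808) (BT.node (nat_lit 9919744) (BT.leaf (nat_lit 45016861)) (BT.leaf (nat_lit 29810181))) (BT.node (nat_lit 9919809) (BT.leaf (nat_lit 47529753)) (BT.leaf (nat_lit 670688)))) (BT.node (nat_lit 9920064) (BT.node (nat_lit 9920000) (BT.leaf (nat_lit 45040405)) (BT.leaf (nat_lit 28508189))) (BT.node (nat_lit 9920128) (BT.leaf (nat_lit 30802705)) (BT.leaf (nat_lit 42117389)))))) (BT.node (nat_lit 9920704) (BT.node (nat_lit 9920448) (BT.node (nat_lit 9920320) (BT.node (nat_lit 9920256) (BT.leaf (nat_lit 37734425)) (BT.leaf (nat_lit 50186505))) (BT.node (nat_lit 9920384) (BT.leaf (nat_lit 43813409)) (BT.leaf (nat_lit 35001377)))) (BT.node (nat_lit 9920576) (BT.node (nat_lit 9920512) (BT.leaf (nat_lit 31544085)) (BT.leaf (nat_lit 31544089))) (BT.node (nat_lit 9920640) (BT.leaf (nat_lit 31544093)) (BT.leaf (nat_lit 43813389))))) (BT.node (nat_lit 9920960) (BT.node (nat_lit 9920832) (BT.node (nat_lit 9920768) (BT.leaf (nat_lit 28513809)) (BT.leaf (nat_lit 29148693))) (BT.node (nat_lit 9920896) (BT.leaf (nat_lit 29148697)) (BT.leaf (nat_lit 28514065)))) (BT.node (nat_lit 9921088) (BT.node (nat_lit 9921024) (BT.leaf (nat_lit 27503889)) (BT.leaf (nat_lit 29700885))) (BT.node (nat_lit 9921152) (BT.leaf (nat_lit 29700889)) (BT.leaf (nat_lit 29700893))))))))))) (BT.node (nat_lit 9936064) (BT.node (nat_lit 9928448) (BT.node (nat_lit 9924992) (BT.node (nat_lit 9923136) (BT.node (nat_lit 9922176) (BT.node (nat_lit 9921664) (BT.node (nat_lit 9921408) (BT.node (nat_lit 9921344) (BT.node (nat_lit 9921280) (BT.leaf (nat_lit 43004449)) (BT.leaf (nat_lit 49300997))) (BT.node (nat_lit 9921349) (BT.leaf (nat_lit 42062857)) (BT.leaf (nat_lit 690280)))) (BT.node (nat_lit 9921536) (BT.node (nat_lit 9921472) (BT.leaf (nat_lit 31451141)) (BT.leaf (nat_lit 29472533))) (BT.node (nat_lit 9921600) (BT.leaf (nat_lit 39686429)) (BT.leaf (nat_lit 34446857))))) (BT.node (nat_lit 9921920) (BT.node (nat_lit 9921792) (BT.node (nat_lit 9921728) (BT.leaf (nat_lit 29178637)) (BT.leaf (nat_lit 44165637))) (BT.node (nat_lit 9921856) (BT.leaf (nat_lit 41602073)) (BT.leaf (nat_lit 28528141)))) (BT.node (nat_lit 9922048) (BT.node (nat_lit 9921984) (BT.leaf (nat_lit 39687449)) (BT.leaf (nat_lit 47956741))) (BT.node (nat_lit 9922112) (BT.leaf (nat_lit 47087365)) (BT.leaf (nat_lit 30007829)))))) (BT.node (nat_lit 9922688) (BT.node (nat_lit 9922432) (BT.node (nat_lit 9922304) (BT.node (nat_lit 9922240) (BT.leaf (nat_lit 30007833)) (BT.leaf (nat_lit 30007837))) (BT.node (nat_lit 9922368) (BT.leaf (nat_lit 34446869)) (BT.leaf (nat_lit 40629509)))) (BT.node (nat_lit 9922560) (BT.node (nat_lit 9922496) (BT.leaf (nat_lit 30549281)) (BT.leaf (nat_lit 32017925))) (BT.node (nat_lit 9922624) (BT.leaf (nat_lit 44825117)) (BT.leaf (nat_lit 30549765))))) (BT.node (nat_lit 9922880) (BT.node (nat_lit 9922759) (BT.node (nat_lit 9922752) (BT.leaf (nat_lit 48101901)) (BT.leaf (nat_lit 28519953))) (BT.node (nat_lit 9922816) (BT.leaf (nat_lit 650020)) (BT.leaf (nat_lit 32023061)))) (BT.node (nat_lit 9923008) (BT.node (nat_lit 9922944) (BT.leaf (nat_lit 44882713)) (BT.leaf (nat_lit 32023069))) (BT.node (nat_lit 9923072) (BT.leaf (nat_lit 38186769)) (BT.leaf (nat_lit 34755613))))))) (BT.node (nat_lit 9924096) (BT.node (nat_lit 9923520) (BT.node (nat_lit 9923264) (BT.node (nat_lit 9923143) (BT.node (nat_lit 9923138) (BT.leaf (nat_lit 38790421)) (BT.leaf (nat_lit 739176))) (BT.node (nat_lit 9923200) (BT.leaf (nat_lit 739176)) (BT.leaf (nat_lit 39693085)))) (BT.node (nat_lit 9923392) (BT.node (nat_lit 9923328) (BT.leaf (nat_lit 35073541)) (BT.leaf (nat_lit 32364293))) (BT.node (nat_lit 9923456) (BT.leaf (nat_lit 31323665)) (BT.leaf (nat_lit 38806561))))) (BT.node (nat_lit 9923840) (BT.node (nat_lit 9923648) (BT.node (nat_lit 9923584) (BT.leaf (nat_lit 31321873)) (BT.leaf (nat_lit 43341061))) (BT.node (nat_lit 9923776) (BT.leaf (nat_lit 38426389)) (BT.leaf (nat_lit 39692293)))) (BT.node (nat_lit 9923968) (BT.node (nat_lit 9923904) (BT.leaf (nat_lit 32017929)) (BT.leaf (nat_lit 32017933))) (BT.node (nat_lit 9924032) (BT.leaf (nat_lit 41380629)) (BT.leaf (nat_lit 32017945)))))) (BT.node (nat_lit 9924672) (BT.node (nat_lit 9924352) (BT.node (nat_lit 9924224) (BT.node (nat_lit 9924160) (BT.leaf (nat_lit 32017949)) (BT.leaf (nat_lit 39369493))) (BT.node (nat_lit 9924288) (BT.leaf (nat_lit 42909957)) (BT.leaf (nat_lit 30857489)))) (BT.node (nat_lit 9924544) (BT.node (nat_lit 9924416) (BT.leaf (nat_lit 45615121)) (BT.leaf (nat_lit 32263441))) (BT.node (nat_lit 9924608) (BT.leaf (nat_lit 39494945)) (BT.leaf (nat_lit 31309321))))) (BT.node (nat_lit 9924736) (BT.node (nat_lit 9924679) (BT.node (nat_lit 9924678) (BT.leaf (nat_lit 31309325)) (BT.leaf (nat_lit 638428))) (BT.node (nat_lit 9924680) (BT.leaf (nat_lit 638428)) (BT.leaf (nat_lit 638428)))) (BT.node (nat_lit 9924864) (BT.node (nat_lit 9924800) (BT.leaf (nat_lit 28528661)) (BT.leaf (nat_lit 44309013))) (BT.node (nat_lit 9924928) (BT.leaf (nat_lit 29167365)) (BT.leaf (nat_lit 35072545)))))))) (BT.node (nat_lit 9926720) (BT.node (nat_lit 9925888) (BT.node (nat_lit 9925376) (BT.node (nat_lit 9925120) (BT.node (nat_lit 9924999) (BT.node (nat_lit 9924994) (BT.leaf (nat_lit 43989525)) (BT.leaf (nat_lit 739036))) (BT.node (nat_lit 9925056) (BT.leaf (nat_lit 739036)) (BT.leaf (nat_lit 38823705)))) (BT.node (nat_lit 9925248) (BT.node (nat_lit 9925184) (BT.leaf (nat_lit 48122145)) (BT.leaf (nat_lit 50445337))) (BT.node (nat_lit 9925312) (BT.leaf (nat_lit 42866197)) (BT.leaf (nat_lit 28529673))))) (BT.node (nat_lit 9925632) (BT.node (nat_lit 9925504) (BT.node (nat_lit 9925440) (BT.leaf (nat_lit 30953229)) (BT.leaf (nat_lit 52428821))) (BT.node (nat_lit 9925568) (BT.leaf (nat_lit 27345181)) (BT.leaf (nat_lit 51267605)))) (BT.node (nat_lit 9925760) (BT.node (nat_lit 9925696) (BT.leaf (nat_lit 51249949)) (BT.leaf (nat_lit 37025301))) (BT.node (nat_lit 9925824) (BT.leaf (nat_lit 28875797)) (BT.leaf (nat_lit 28875801)))))) (BT.node (nat_lit 9926208) (BT.node (nat_lit 9926019) (BT.node (nat_lit 9925959) (BT.node (nat_lit 9925952) (BT.leaf (nat_lit 28539153)) (BT.leaf (nat_lit 39979029))) (BT.node (nat_lit 9926016) (BT.leaf (nat_lit 752576)) (BT.leaf (nat_lit 28999961)))) (BT.node (nat_lit 9926084) (BT.node (nat_lit 9926080) (BT.leaf (nat_lit 672564)) (BT.leaf (nat_lit 39979037))) (BT.node (nat_lit 9926144) (BT.leaf (nat_lit 753132)) (BT.leaf (nat_lit 31218709))))) (BT.node (nat_lit 9926464) (BT.node (nat_lit 9926336) (BT.node (nat_lit 9926272) (BT.leaf (nat_lit 28539677)) (BT.leaf (nat_lit 31219733))) (BT.node (nat_lit 9926400) (BT.leaf (nat_lit 52197893)) (BT.leaf (nat_lit 28541201)))) (BT.node (nat_lit 9926592) (BT.node (nat_lit 9926528) (BT.leaf (nat_lit 28593681)) (BT.leaf (nat_lit 46592781))) (BT.node (nat_lit 9926656) (BT.leaf (nat_lit 31023381)) (BT.leaf (nat_lit 28221713))))))) (BT.node (nat_lit 9927552) (BT.node (nat_lit 9927040) (BT.node (nat_lit 9926784) (BT.node (nat_lit 9926723) (BT.node (nat_lit 9926722) (BT.leaf (nat_lit 43350801)) (BT.leaf (nat_lit 624636))) (BT.node (nat_lit 9926727) (BT.leaf (nat_lit 624636)) (BT.leaf (nat_lit 703156)))) (BT.node (nat_lit 9926912) (BT.node (nat_lit 9926848) (BT.leaf (nat_lit 38362913)) (BT.leaf (nat_lit 46553109))) (BT.node (nat_lit 9926976) (BT.leaf (nat_lit 36030741)) (BT.leaf (nat_lit 35077389))))) (BT.node (nat_lit 9927296) (BT.node (nat_lit 9927168) (BT.node (nat_lit 9927104) (BT.leaf (nat_lit 28544785)) (BT.leaf (nat_lit 30986529))) (BT.node (nat_lit 9927232) (BT.leaf (nat_lit 42120985)) (BT.leaf (nat_lit 28545041)))) (BT.node (nat_lit 9927424) (BT.node (nat_lit 9927360) (BT.leaf (nat_lit 32294677)) (BT.leaf (nat_lit 28545297))) (BT.node (nat_lit 9927488) (BT.leaf (nat_lit 28020765)) (BT.leaf (nat_lit 30986505)))))) (BT.node (nat_lit 9927941) (BT.node (nat_lit 9927808) (BT.node (nat_lit 9927680) (BT.node (nat_lit 9927616) (BT.leaf (nat_lit 30986509)) (BT.leaf (nat_lit 44093717))) (BT.node (nat_lit 9927744) (BT.leaf (nat_lit 30986521)) (BT.leaf (nat_lit 30986525)))) (BT.node (nat_lit 9927938) (BT.node (nat_lit 9927872) (BT.leaf (nat_lit 50110485)) (BT.leaf (nat_lit 28546577))) (BT.node (nat_lit 9927939) (BT.leaf (nat_lit 688936)) (BT.leaf (nat_lit 688936))))) (BT.node (nat_lit 9928192) (BT.node (nat_lit 9928064) (BT.node (nat_lit 9928000) (BT.leaf (nat_lit 688936)) (BT.leaf (nat_lit 44093725))) (BT.node (nat_lit 9928128) (BT.leaf (nat_lit 40349205)) (BT.leaf (nat_lit 39600389)))) (BT.node (nat_lit 9928320) (BT.node (nat_lit 9928256) (BT.leaf (nat_lit 40468229)) (BT.leaf (nat_lit 27297297))) (BT.node (nat_lit 9928384) (BT.leaf (nat_lit 38448401)) (BT.leaf (nat_lit 28618257))))))))) (BT.node (nat_lit 9932224) (BT.node (nat_lit 9930368) (BT.node (nat_lit 9929472) (BT.node (nat_lit 9928960) (BT.node (nat_lit 9928704) (BT.node (nat_lit 9928576) (BT.node (nat_lit 9928512) (BT.leaf (nat_lit 44831001)) (BT.leaf (nat_lit 32558597))) (BT.node (nat_lit 9928640) (BT.leaf (nat_lit 38907157)) (BT.leaf (nat_lit 46555409)))) (BT.node (nat_lit 9928832) (BT.node (nat_lit 9928768) (BT.leaf (nat_lit 28704273)) (BT.leaf (nat_lit 32120337))) (BT.node (nat_lit 9928896) (BT.leaf (nat_lit 42422305)) (BT.leaf (nat_lit 51990549))))) (BT.node (nat_lit 9929216) (BT.node (nat_lit 9929088) (BT.node (nat_lit 9929024) (BT.leaf (nat_lit 30082053)) (BT.leaf (nat_lit 41817605))) (BT.node (nat_lit 9929152) (BT.leaf (nat_lit 46333717)) (BT.leaf (nat_lit 32276501)))) (BT.node (nat_lit 9929344) (BT.node (nat_lit 9929280) (BT.leaf (nat_lit 31054089)) (BT.leaf (nat_lit 28551185))) (BT.node (nat_lit 9929408) (BT.leaf (nat_lit 48447761)) (BT.leaf (nat_lit 32278049)))))) (BT.node (nat_lit 9929861) (BT.node (nat_lit 9929728) (BT.node (nat_lit 9929600) (BT.node (nat_lit 9929536) (BT.leaf (nat_lit 34850593)) (BT.leaf (nat_lit 32024337))) (BT.node (nat_lit 9929664) (BT.leaf (nat_lit 40442641)) (BT.leaf (nat_lit 29774369)))) (BT.node (nat_lit 9929856) (BT.node (nat_lit 9929792) (BT.leaf (nat_lit 41632789)) (BT.leaf (nat_lit 32962337))) (BT.node (nat_lit 9929860) (BT.leaf (nat_lit 43782921)) (BT.leaf (nat_lit 722732))))) (BT.node (nat_lit 9930112) (BT.node (nat_lit 9929984) (BT.node (nat_lit 9929920) (BT.leaf (nat_lit 722732)) (BT.leaf (nat_lit 45748997))) (BT.node (nat_lit 9930048) (BT.leaf (nat_lit 44387341)) (BT.leaf (nat_lit 48508437)))) (BT.node (nat_lit 9930240) (BT.node (nat_lit 9930176) (BT.leaf (nat_lit 39952413)) (BT.leaf (nat_lit 28554513))) (BT.node (nat_lit 9930304) (BT.leaf (nat_lit 37726497)) (BT.leaf (nat_lit 45414405))))))) (BT.node (nat_lit 9931200) (BT.node (nat_lit 9930696) (BT.node (nat_lit 9930624) (BT.node (nat_lit 9930496) (BT.node (nat_lit 9930432) (BT.leaf (nat_lit 28557073)) (BT.leaf (nat_lit 28556561))) (BT.node (nat_lit 9930560) (BT.leaf (nat_lit 30954773)) (BT.leaf (nat_lit 30954777)))) (BT.node (nat_lit 9930692) (BT.node (nat_lit 9930688) (BT.leaf (nat_lit 29323541)) (BT.leaf (nat_lit 38179081))) (BT.node (nat_lit 9930694) (BT.leaf (nat_lit 700444)) (BT.leaf (nat_lit 700444))))) (BT.node (nat_lit 9930944) (BT.node (nat_lit 9930816) (BT.node (nat_lit 9930752) (BT.leaf (nat_lit 700444)) (BT.leaf (nat_lit 47388957))) (BT.node (nat_lit 9930880) (BT.leaf (nat_lit 34351129)) (BT.leaf (nat_lit 44828173)))) (BT.node (nat_lit 9931072) (BT.node (nat_lit 9931008) (BT.leaf (nat_lit 29879045)) (BT.leaf (nat_lit 43322649))) (BT.node (nat_lit 9931136) (BT.leaf (nat_lit 42352673)) (BT.leaf (nat_lit 27294225)))))) (BT.node (nat_lit 9931712) (BT.node (nat_lit 9931456) (BT.node (nat_lit 9931328) (BT.node (nat_lit 9931264) (BT.leaf (nat_lit 34351637)) (BT.leaf (nat_lit 32728861))) (BT.node (nat_lit 9931392) (BT.leaf (nat_lit 39281941)) (BT.leaf (nat_lit 39501337)))) (BT.node (nat_lit 9931584) (BT.node (nat_lit 9931520) (BT.leaf (nat_lit 38410261)) (BT.leaf (nat_lit 46820629))) (BT.node (nat_lit 9931648) (BT.leaf (nat_lit 34847765)) (BT.leaf (nat_lit 38849541))))) (BT.node (nat_lit 9931968) (BT.node (nat_lit 9931840) (BT.node (nat_lit 9931776) (BT.leaf (nat_lit 42449933)) (BT.leaf (nat_lit 46722841))) (BT.node (nat_lit 9931904) (BT.leaf (nat_lit 30163221)) (BT.leaf (nat_lit 39733261)))) (BT.node (nat_lit 9932096) (BT.node (nat_lit 9932032) (BT.leaf (nat_lit 30195733)) (BT.leaf (nat_lit 30197773))) (BT.node (nat_lit 9932160) (BT.leaf (nat_lit 29271565)) (BT.leaf (nat_lit 32531977)))))))) (BT.node (nat_lit 9934208) (BT.node (nat_lit 9933184) (BT.node (nat_lit 9932672) (BT.node (nat_lit 9932416) (BT.node (nat_lit 9932288) (BT.node (nat_lit 9932229) (BT.leaf (nat_lit 47013917)) (BT.leaf (nat_lit 625096))) (BT.node (nat_lit 9932352) (BT.leaf (nat_lit 46506261)) (BT.leaf (nat_lit 31945745)))) (BT.node (nat_lit 9932544) (BT.node (nat_lit 9932480) (BT.leaf (nat_lit 28564749)) (BT.leaf (nat_lit 39729689))) (BT.node (nat_lit 9932608) (BT.leaf (nat_lit 30684677)) (BT.leaf (nat_lit 29047057))))) (BT.node (nat_lit 9932928) (BT.node (nat_lit 9932800) (BT.node (nat_lit 9932736) (BT.leaf (nat_lit 30573317)) (BT.leaf (nat_lit 39232545))) (BT.node (nat_lit 9932864) (BT.leaf (nat_lit 39076129)) (BT.leaf (nat_lit 42408205)))) (BT.node (nat_lit 9933056) (BT.node (nat_lit 9932992) (BT.leaf (nat_lit 49228321)) (BT.leaf (nat_lit 39727373))) (BT.node (nat_lit 9933120) (BT.leaf (nat_lit 31888145)) (BT.leaf (nat_lit 31891217)))))) (BT.node (nat_lit 9933696) (BT.node (nat_lit 9933440) (BT.node (nat_lit 9933312) (BT.node (nat_lit 9933248) (BT.leaf (nat_lit 39933217)) (BT.leaf (nat_lit 38749973))) (BT.node (nat_lit 9933376) (BT.leaf (nat_lit 37498645)) (BT.leaf (nat_lit 40043549)))) (BT.node (nat_lit 9933568) (BT.node (nat_lit 9933504) (BT.leaf (nat_lit 29166609)) (BT.leaf (nat_lit 42550277))) (BT.node (nat_lit 9933632) (BT.leaf (nat_lit 37883417)) (BT.leaf (nat_lit 32482081))))) (BT.node (nat_lit 9933952) (BT.node (nat_lit 9933824) (BT.node (nat_lit 9933760) (BT.leaf (nat_lit 45566753)) (BT.leaf (nat_lit 32721669))) (BT.node (nat_lit 9933888) (BT.leaf (nat_lit 35129889)) (BT.leaf (nat_lit 28689669)))) (BT.node (nat_lit 9934080) (BT.node (nat_lit 9934016) (BT.leaf (nat_lit 28689953)) (BT.leaf (nat_lit 40844037))) (BT.node (nat_lit 9934144) (BT.leaf (nat_lit 29580577)) (BT.leaf (nat_lit 39729165))))))) (BT.node (nat_lit 9935040) (BT.node (nat_lit 9934720) (BT.node (nat_lit 9934464) (BT.node (nat_lit 9934336) (BT.node (nat_lit 9934272) (BT.leaf (nat_lit 47951897)) (BT.leaf (nat_lit 39737373))) (BT.node (nat_lit 9934400) (BT.leaf (nat_lit 49413153)) (BT.leaf (nat_lit 39917833)))) (BT.node (nat_lit 9934592) (BT.node (nat_lit 9934528) (BT.leaf (nat_lit 37719841)) (BT.leaf (nat_lit 39917849))) (BT.node (nat_lit 9934656) (BT.leaf (nat_lit 41020421)) (BT.leaf (nat_lit 50440989))))) (BT.node (nat_lit 9934976) (BT.node (nat_lit 9934848) (BT.node (nat_lit 9934784) (BT.leaf (nat_lit 28684565)) (BT.leaf (nat_lit 41765149))) (BT.node (nat_lit 9934912) (BT.leaf (nat_lit 44405777)) (BT.leaf (nat_lit 28404497)))) (BT.node (nat_lit 9934982) (BT.node (nat_lit 9934979) (BT.leaf (nat_lit 42276385)) (BT.leaf (nat_lit 742520))) (BT.node (nat_lit 9934983) (BT.leaf (nat_lit 742520)) (BT.leaf (nat_lit 742520)))))) (BT.node (nat_lit 9935552) (BT.node (nat_lit 9935296) (BT.node (nat_lit 9935168) (BT.node (nat_lit 9935104) (BT.leaf (nat_lit 29536793)) (BT.leaf (nat_lit 29536797))) (BT.node (nat_lit 9935232) (BT.leaf (nat_lit 40121617)) (BT.leaf (nat_lit 32491781)))) (BT.node (nat_lit 9935424) (BT.node (nat_lit 9935360) (BT.leaf (nat_lit 41800473)) (BT.leaf (nat_lit 32249377))) (BT.node (nat_lit 9935488) (BT.leaf (nat_lit 49219093)) (BT.leaf (nat_lit 43890445))))) (BT.node (nat_lit 9935808) (BT.node (nat_lit 9935680) (BT.node (nat_lit 9935616) (BT.leaf (nat_lit 39033377)) (BT.leaf (nat_lit 38017817))) (BT.node (nat_lit 9935744) (BT.leaf (nat_lit 38017821)) (BT.leaf (nat_lit 47957273)))) (BT.node (nat_lit 9935936) (BT.node (nat_lit 9935872) (BT.leaf (nat_lit 33019661)) (BT.leaf (nat_lit 34730017))) (BT.node (nat_lit 9936000) (BT.leaf (nat_lit 34729761)) (BT.leaf (nat_lit 29272845)))))))))) (BT.node (nat_lit 9943680) (BT.node (nat_lit 9939840) (BT.node (nat_lit 9937984) (BT.node (nat_lit 9936960) (BT.node (nat_lit 9936576) (BT.node (nat_lit 9936320) (BT.node (nat_lit 9936192) (BT.node (nat_lit 9936128) (BT.leaf (nat_lit 35979793)) (BT.leaf (nat_lit 28572181))) (BT.node (nat_lit 9936256) (BT.leaf (nat_lit 39745037)) (BT.leaf (nat_lit 47260945)))) (BT.node (nat_lit 9936448) (BT.node (nat_lit 9936384) (BT.leaf (nat_lit 47260941)) (BT.leaf (nat_lit 49788949))) (BT.node (nat_lit 9936512) (BT.leaf (nat_lit 33020181)) (BT.leaf (nat_lit 29336609))))) (BT.node (nat_lit 9936772) (BT.node (nat_lit 9936704) (BT.node (nat_lit 9936640) (BT.leaf (nat_lit 39538189)) (BT.leaf (nat_lit 32806433))) (BT.node (nat_lit 9936768) (BT.leaf (nat_lit 38471449)) (BT.leaf (nat_lit 38471453)))) (BT.node (nat_lit 9936832) (BT.node (nat_lit 9936773) (BT.leaf (nat_lit 691112)) (BT.leaf (nat_lit 691112))) (BT.node (nat_lit 9936896) (BT.leaf (nat_lit 40167949)) (BT.leaf (nat_lit 43271969)))))) (BT.node (nat_lit 9937472) (BT.node (nat_lit 9937216) (BT.node (nat_lit 9937088) (BT.node (nat_lit 9937024) (BT.leaf (nat_lit 42457605)) (BT.leaf (nat_lit 38477829))) (BT.node (nat_lit 9937152) (BT.leaf (nat_lit 48460297)) (BT.leaf (nat_lit 40607009)))) (BT.node (nat_lit 9937344) (BT.node (nat_lit 9937280) (BT.leaf (nat_lit 47601429)) (BT.leaf (nat_lit 28896781))) (BT.node (nat_lit 9937408) (BT.leaf (nat_lit 31698181)) (BT.leaf (nat_lit 32502277))))) (BT.node (nat_lit 9937728) (BT.node (nat_lit 9937600) (BT.node (nat_lit 9937536) (BT.leaf (nat_lit 29589269)) (BT.leaf (nat_lit 34171673))) (BT.node (nat_lit 9937664) (BT.leaf (nat_lit 32500001)) (BT.leaf (nat_lit 28845841)))) (BT.node (nat_lit 9937856) (BT.node (nat_lit 9937792) (BT.leaf (nat_lit 27791393)) (BT.leaf (nat_lit 28720133))) (BT.node (nat_lit 9937920) (BT.leaf (nat_lit 37827857)) (BT.leaf (nat_lit 36254221))))))) (BT.node (nat_lit 9938880) (BT.node (nat_lit 9938496) (BT.node (nat_lit 9938240) (BT.node (nat_lit 9938112) (BT.node (nat_lit 9938048) (BT.leaf (nat_lit 32509217)) (BT.leaf (nat_lit 32509445))) (BT.node (nat_lit 9938176) (BT.leaf (nat_lit 28839957)) (BT.leaf (nat_lit 38101009)))) (BT.node (nat_lit 9938368) (BT.node (nat_lit 9938304) (BT.leaf (nat_lit 29281557)) (BT.leaf (nat_lit 39752969))) (BT.node (nat_lit 9938432) (BT.leaf (nat_lit 37994245)) (BT.leaf (nat_lit 29281821))))) (BT.node (nat_lit 9938628) (BT.node (nat_lit 9938624) (BT.node (nat_lit 9938560) (BT.leaf (nat_lit 28578061)) (BT.leaf (nat_lit 28578077))) (BT.node (nat_lit 9938627) (BT.leaf (nat_lit 43513121)) (BT.leaf (nat_lit 631436)))) (BT.node (nat_lit 9938752) (BT.node (nat_lit 9938688) (BT.leaf (nat_lit 631436)) (BT.leaf (nat_lit 31142661))) (BT.node (nat_lit 9938816) (BT.leaf (nat_lit 39754777)) (BT.leaf (nat_lit 42289425)))))) (BT.node (nat_lit 9939328) (BT.node (nat_lit 9939136) (BT.node (nat_lit 9939008) (BT.node (nat_lit 9938944) (BT.leaf (nat_lit 31343625)) (BT.leaf (nat_lit 31104785))) (BT.node (nat_lit 9939072) (BT.leaf (nat_lit 44925985)) (BT.leaf (nat_lit 50501141)))) (BT.node (nat_lit 9939264) (BT.node (nat_lit 9939200) (BT.leaf (nat_lit 34612513)) (BT.leaf (nat_lit 36454917))) (BT.node (nat_lit 9939268) (BT.leaf (nat_lit 47250721)) (BT.leaf (nat_lit 787304))))) (BT.node (nat_lit 9939584) (BT.node (nat_lit 9939456) (BT.node (nat_lit 9939392) (BT.leaf (nat_lit 30972185)) (BT.leaf (nat_lit 30972189))) (BT.node (nat_lit 9939520) (BT.leaf (nat_lit 39758089)) (BT.leaf (nat_lit 33983509)))) (BT.node (nat_lit 9939712) (BT.node (nat_lit 9939648) (BT.leaf (nat_lit 38988065)) (BT.leaf (nat_lit 32706581))) (BT.node (nat_lit 9939776) (BT.leaf (nat_lit 40797981)) (BT.leaf (nat_lit 48842517)))))))) (BT.node (nat_lit 9941696) (BT.node (nat_lit 9940864) (BT.node (nat_lit 9940352) (BT.node (nat_lit 9940096) (BT.node (nat_lit 9939968) (BT.node (nat_lit 9939904) (BT.leaf (nat_lit 41800965)) (BT.leaf (nat_lit 48842525))) (BT.node (nat_lit 9940032) (BT.leaf (nat_lit 31981585)) (BT.leaf (nat_lit 49156113)))) (BT.node (nat_lit 9940224) (BT.node (nat_lit 9940160) (BT.leaf (nat_lit 39760137)) (BT.leaf (nat_lit 40749081))) (BT.node (nat_lit 9940288) (BT.leaf (nat_lit 41179669)) (BT.leaf (nat_lit 42521861))))) (BT.node (nat_lit 9940608) (BT.node (nat_lit 9940480) (BT.node (nat_lit 9940416) (BT.leaf (nat_lit 31144469)) (BT.leaf (nat_lit 44218629))) (BT.node (nat_lit 9940544) (BT.leaf (nat_lit 46034445)) (BT.leaf (nat_lit 43841057)))) (BT.node (nat_lit 9940736) (BT.node (nat_lit 9940672) (BT.leaf (nat_lit 46716165)) (BT.leaf (nat_lit 43247621))) (BT.node (nat_lit 9940800) (BT.leaf (nat_lit 43251741)) (BT.leaf (nat_lit 31152401)))))) (BT.node (nat_lit 9941248) (BT.node (nat_lit 9941120) (BT.node (nat_lit 9940992) (BT.node (nat_lit 9940928) (BT.leaf (nat_lit 31114529)) (BT.leaf (nat_lit 42480401))) (BT.node (nat_lit 9941056) (BT.leaf (nat_lit 39250193)) (BT.leaf (nat_lit 46022161)))) (BT.node (nat_lit 9941186) (BT.node (nat_lit 9941184) (BT.leaf (nat_lit 48900893)) (BT.leaf (nat_lit 32567317))) (BT.node (nat_lit 9941187) (BT.leaf (nat_lit 772932)) (BT.leaf (nat_lit 772932))))) (BT.node (nat_lit 9941440) (BT.node (nat_lit 9941312) (BT.node (nat_lit 9941253) (BT.leaf (nat_lit 39764761)) (BT.leaf (nat_lit 719108))) (BT.node (nat_lit 9941376) (BT.leaf (nat_lit 40124677)) (BT.leaf (nat_lit 40155401)))) (BT.node (nat_lit 9941504) (BT.node (nat_lit 9941445) (BT.leaf (nat_lit 44531221)) (BT.leaf (nat_lit 627076))) (BT.node (nat_lit 9941632) (BT.leaf (nat_lit 49386769)) (BT.leaf (nat_lit 37940513))))))) (BT.node (nat_lit 9942656) (BT.node (nat_lit 9942144) (BT.node (nat_lit 9941952) (BT.node (nat_lit 9941824) (BT.node (nat_lit 9941760) (BT.leaf (nat_lit 29283337)) (BT.leaf (nat_lit 40227605))) (BT.node (nat_lit 9941888) (BT.leaf (nat_lit 29414421)) (BT.leaf (nat_lit 29285129)))) (BT.node (nat_lit 9942080) (BT.node (nat_lit 9942016) (BT.leaf (nat_lit 45323269)) (BT.leaf (nat_lit 31657477))) (BT.node (nat_lit 9942085) (BT.leaf (nat_lit 37939977)) (BT.leaf (nat_lit 684908))))) (BT.node (nat_lit 9942400) (BT.node (nat_lit 9942272) (BT.node (nat_lit 9942208) (BT.leaf (nat_lit 31192349)) (BT.leaf (nat_lit 42555141))) (BT.node (nat_lit 9942336) (BT.leaf (nat_lit 43102481)) (BT.leaf (nat_lit 28586781)))) (BT.node (nat_lit 9942528) (BT.node (nat_lit 9942464) (BT.leaf (nat_lit 43063313)) (BT.leaf (nat_lit 34393881))) (BT.node (nat_lit 9942592) (BT.leaf (nat_lit 28586001)) (BT.leaf (nat_lit 28587025)))))) (BT.node (nat_lit 9943168) (BT.node (nat_lit 9942912) (BT.node (nat_lit 9942784) (BT.node (nat_lit 9942720) (BT.leaf (nat_lit 42157061)) (BT.leaf (nat_lit 39770633))) (BT.node (nat_lit 9942848) (BT.leaf (nat_lit 39901969)) (BT.leaf (nat_lit 43832089)))) (BT.node (nat_lit 9943040) (BT.node (nat_lit 9942976) (BT.leaf (nat_lit 43832093)) (BT.leaf (nat_lit 41116437))) (BT.node (nat_lit 9943104) (BT.leaf (nat_lit 32465937)) (BT.leaf (nat_lit 29396753))))) (BT.node (nat_lit 9943424) (BT.node (nat_lit 9943296) (BT.node (nat_lit 9943232) (BT.leaf (nat_lit 28588049)) (BT.leaf (nat_lit 31709209))) (BT.node (nat_lit 9943360) (BT.leaf (nat_lit 31709213)) (BT.leaf (nat_lit 47384085)))) (BT.node (nat_lit 9943552) (BT.node (nat_lit 9943488) (BT.leaf (nat_lit 39773449)) (BT.leaf (nat_lit 32599569))) (BT.node (nat_lit 9943616) (BT.leaf (nat_lit 32599577)) (BT.leaf (nat_lit 32599581))))))))) (BT.node (nat_lit 9947456) (BT.node (nat_lit 9945664) (BT.node (nat_lit 9944704) (BT.node (nat_lit 9944192) (BT.node (nat_lit 9943936) (BT.node (nat_lit 9943808) (BT.node (nat_lit 9943744) (BT.leaf (nat_lit 46924565)) (BT.leaf (nat_lit 28591645))) (BT.node (nat_lit 9943872) (BT.leaf (nat_lit 44458273)) (BT.leaf (nat_lit 47383837)))) (BT.node (nat_lit 9944064) (BT.node (nat_lit 9944000) (BT.leaf (nat_lit 43811593)) (BT.leaf (nat_lit 46973713))) (BT.node (nat_lit 9944128) (BT.leaf (nat_lit 50408453)) (BT.leaf (nat_lit 43811613))))) (BT.node (nat_lit 9944448) (BT.node (nat_lit 9944320) (BT.node (nat_lit 9944256) (BT.leaf (nat_lit 46973205)) (BT.leaf (nat_lit 28403481))) (BT.node (nat_lit 9944384) (BT.leaf (nat_lit 38151189)) (BT.leaf (nat_lit 28403485)))) (BT.node (nat_lit 9944576) (BT.node (nat_lit 9944512) (BT.leaf (nat_lit 28594461)) (BT.leaf (nat_lit 30816533))) (BT.node (nat_lit 9944640) (BT.leaf (nat_lit 47010833)) (BT.leaf (nat_lit 39539233)))))) (BT.node (nat_lit 9945160) (BT.node (nat_lit 9944960) (BT.node (nat_lit 9944832) (BT.node (nat_lit 9944768) (BT.leaf (nat_lit 38153485)) (BT.leaf (nat_lit 51506453))) (BT.node (nat_lit 9944896) (BT.leaf (nat_lit 42825493)) (BT.leaf (nat_lit 46742801)))) (BT.node (nat_lit 9945088) (BT.node (nat_lit 9945024) (BT.leaf (nat_lit 32023329)) (BT.leaf (nat_lit 32990497))) (BT.node (nat_lit 9945152) (BT.leaf (nat_lit 39857949)) (BT.leaf (nat_lit 41036813))))) (BT.node (nat_lit 9945408) (BT.node (nat_lit 9945280) (BT.node (nat_lit 9945216) (BT.leaf (nat_lit 640928)) (BT.leaf (nat_lit 33461781))) (BT.node (nat_lit 9945344) (BT.leaf (nat_lit 37974537)) (BT.leaf (nat_lit 41036829)))) (BT.node (nat_lit 9945536) (BT.node (nat_lit 9945472) (BT.leaf (nat_lit 41029153)) (BT.leaf (nat_lit 51293701))) (BT.node (nat_lit 9945600) (BT.leaf (nat_lit 41348117)) (BT.leaf (nat_lit 30707217))))))) (BT.node (nat_lit 9946496) (BT.node (nat_lit 9945984) (BT.node (nat_lit 9945856) (BT.node (nat_lit 9945792) (BT.node (nat_lit 9945728) (BT.leaf (nat_lit 30707221)) (BT.leaf (nat_lit 43079685))) (BT.node (nat_lit 9945796) (BT.leaf (nat_lit 37844741)) (BT.leaf (nat_lit 652904)))) (BT.node (nat_lit 9945861) (BT.node (nat_lit 9945860) (BT.leaf (nat_lit 30545169)) (BT.leaf (nat_lit 751684))) (BT.node (nat_lit 9945920) (BT.leaf (nat_lit 751684)) (BT.leaf (nat_lit 32904969))))) (BT.node (nat_lit 9946240) (BT.node (nat_lit 9946112) (BT.node (nat_lit 9946048) (BT.leaf (nat_lit 49721121)) (BT.leaf (nat_lit 32904993))) (BT.node (nat_lit 9946176) (BT.leaf (nat_lit 44338181)) (BT.leaf (nat_lit 29073933)))) (BT.node (nat_lit 9946368) (BT.node (nat_lit 9946304) (BT.leaf (nat_lit 30157577)) (BT.leaf (nat_lit 30575641))) (BT.node (nat_lit 9946432) (BT.leaf (nat_lit 42186509)) (BT.leaf (nat_lit 30238737)))))) (BT.node (nat_lit 9946944) (BT.node (nat_lit 9946752) (BT.node (nat_lit 9946624) (BT.node (nat_lit 9946560) (BT.leaf (nat_lit 39786269)) (BT.leaf (nat_lit 41229333))) (BT.node (nat_lit 9946688) (BT.leaf (nat_lit 42186529)) (BT.leaf (nat_lit 41229341)))) (BT.node (nat_lit 9946880) (BT.node (nat_lit 9946816) (BT.leaf (nat_lit 29708313)) (BT.leaf (nat_lit 29042953))) (BT.node (nat_lit 9946885) (BT.leaf (nat_lit 37471517)) (BT.leaf (nat_lit 695440))))) (BT.node (nat_lit 9947200) (BT.node (nat_lit 9947072) (BT.node (nat_lit 9947008) (BT.leaf (nat_lit 30105097)) (BT.leaf (nat_lit 37389329))) (BT.node (nat_lit 9947136) (BT.leaf (nat_lit 32822021)) (BT.leaf (nat_lit 28801285)))) (BT.node (nat_lit 9947328) (BT.node (nat_lit 9947264) (BT.leaf (nat_lit 28599825)) (BT.leaf (nat_lit 28599313))) (BT.node (nat_lit 9947392) (BT.leaf (nat_lit 30707733)) (BT.leaf (nat_lit 30707737)))))))) (BT.node (nat_lit 9949440) (BT.node (nat_lit 9948416) (BT.node (nat_lit 9947904) (BT.node (nat_lit 9947649) (BT.node (nat_lit 9947584) (BT.node (nat_lit 9947520) (BT.leaf (nat_lit 30707741)) (BT.leaf (nat_lit 31556617))) (BT.node (nat_lit 9947648) (BT.leaf (nat_lit 31556621)) (BT.leaf (nat_lit 32296737)))) (BT.node (nat_lit 9947776) (BT.node (nat_lit 9947712) (BT.leaf (nat_lit 762180)) (BT.leaf (nat_lit 31556633))) (BT.node (nat_lit 9947840) (BT.leaf (nat_lit 31556637)) (BT.leaf (nat_lit 31556641))))) (BT.node (nat_lit 9948160) (BT.node (nat_lit 9948032) (BT.node (nat_lit 9947968) (BT.leaf (nat_lit 39424033)) (BT.leaf (nat_lit 28602129))) (BT.node (nat_lit 9948096) (BT.leaf (nat_lit 28601361)) (BT.leaf (nat_lit 32663061)))) (BT.node (nat_lit 9948288) (BT.node (nat_lit 9948224) (BT.leaf (nat_lit 47508245)) (BT.leaf (nat_lit 41098781))) (BT.node (nat_lit 9948352) (BT.leaf (nat_lit 37068809)) (BT.leaf (nat_lit 32132629)))))) (BT.node (nat_lit 9948928) (BT.node (nat_lit 9948672) (BT.node (nat_lit 9948544) (BT.node (nat_lit 9948480) (BT.leaf (nat_lit 32132637)) (BT.leaf (nat_lit 29497361))) (BT.node (nat_lit 9948608) (BT.leaf (nat_lit 38769173)) (BT.leaf (nat_lit 37541649)))) (BT.node (nat_lit 9948800) (BT.node (nat_lit 9948736) (BT.leaf (nat_lit 39239189)) (BT.leaf (nat_lit 38101525))) (BT.node (nat_lit 9948864) (BT.leaf (nat_lit 34604813)) (BT.leaf (nat_lit 39795741))))) (BT.node (nat_lit 9949184) (BT.node (nat_lit 9949056) (BT.node (nat_lit 9948992) (BT.leaf (nat_lit 48986385)) (BT.leaf (nat_lit 32275469))) (BT.node (nat_lit 9949120) (BT.leaf (nat_lit 44896261)) (BT.leaf (nat_lit 44989973)))) (BT.node (nat_lit 9949312) (BT.node (nat_lit 9949248) (BT.leaf (nat_lit 32350993)) (BT.leaf (nat_lit 32916497))) (BT.node (nat_lit 9949376) (BT.leaf (nat_lit 28095505)) (BT.leaf (nat_lit 32638737))))))) (BT.node (nat_lit 9950464) (BT.node (nat_lit 9949952) (BT.node (nat_lit 9949696) (BT.node (nat_lit 9949568) (BT.node (nat_lit 9949504) (BT.leaf (nat_lit 44385561)) (BT.leaf (nat_lit 49106441))) (BT.node (nat_lit 9949632) (BT.leaf (nat_lit 28606481)) (BT.leaf (nat_lit 48770065)))) (BT.node (nat_lit 9949824) (BT.node (nat_lit 9949760) (BT.leaf (nat_lit 28607505)) (BT.leaf (nat_lit 28606737))) (BT.node (nat_lit 9949888) (BT.leaf (nat_lit 44776469)) (BT.leaf (nat_lit 30738713))))) (BT.node (nat_lit 9950208) (BT.node (nat_lit 9950080) (BT.node (nat_lit 9950016) (BT.leaf (nat_lit 40162061)) (BT.leaf (nat_lit 50449429))) (BT.node (nat_lit 9950144) (BT.leaf (nat_lit 28608017)) (BT.leaf (nat_lit 43923745)))) (BT.node (nat_lit 9950336) (BT.node (nat_lit 9950272) (BT.leaf (nat_lit 46004257)) (BT.leaf (nat_lit 41180945))) (BT.node (nat_lit 9950400) (BT.leaf (nat_lit 43885317)) (BT.leaf (nat_lit 36573197)))))) (BT.node (nat_lit 9950912) (BT.node (nat_lit 9950656) (BT.node (nat_lit 9950533) (BT.node (nat_lit 9950528) (BT.leaf (nat_lit 30033669)) (BT.leaf (nat_lit 38491909))) (BT.node (nat_lit 9950592) (BT.leaf (nat_lit 812736)) (BT.leaf (nat_lit 46612241)))) (BT.node (nat_lit 9950784) (BT.node (nat_lit 9950720) (BT.leaf (nat_lit 37402397)) (BT.leaf (nat_lit 28611345))) (BT.node (nat_lit 9950848) (BT.leaf (nat_lit 28611089)) (BT.leaf (nat_lit 40305685))))) (BT.node (nat_lit 9951168) (BT.node (nat_lit 9951040) (BT.node (nat_lit 9950976) (BT.leaf (nat_lit 40305689)) (BT.leaf (nat_lit 28611601))) (BT.node (nat_lit 9951104) (BT.leaf (nat_lit 52015901)) (BT.leaf (nat_lit 52134673)))) (BT.node (nat_lit 9951296) (BT.node (nat_lit 9951232) (BT.leaf (nat_lit 36880417)) (BT.leaf (nat_lit 28612113))) (BT.node (nat_lit 9951360) (BT.leaf (nat_lit 28612365)) (BT.leaf (nat_lit 39919897)))))))))))) (BT.node (nat_lit 9981504) (BT.node (nat_lit 9966912) (BT.node (nat_lit 9958912) (BT.node (nat_lit 9955328) (BT.node (nat_lit 9953344) (BT.node (nat_lit 9952384) (BT.node (nat_lit 9951936) (BT.node (nat_lit 9951680) (BT.node (nat_lit 9951552) (BT.node (nat_lit 9951488) (BT.leaf (nat_lit 28614165)) (BT.leaf (nat_lit 28612873))) (BT.node (nat_lit 9951616) (BT.leaf (nat_lit 28612361)) (BT.leaf (nat_lit 33466633)))) (BT.node (nat_lit 9951808) (BT.node (nat_lit 9951744) (BT.leaf (nat_lit 28613653)) (BT.leaf (nat_lit 37725469))) (BT.node (nat_lit 9951872) (BT.leaf (nat_lit 28612877)) (BT.leaf (nat_lit 47009545))))) (BT.node (nat_lit 9952192) (BT.node (nat_lit 9952064) (BT.node (nat_lit 9952000) (BT.leaf (nat_lit 46686241)) (BT.leaf (nat_lit 28613137))) (BT.node (nat_lit 9952128) (BT.leaf (nat_lit 46686725)) (BT.leaf (nat_lit 29847817)))) (BT.node (nat_lit 9952320) (BT.node (nat_lit 9952256) (BT.leaf (nat_lit 29847821)) (BT.leaf (nat_lit 29847837))) (BT.node (nat_lit 9952325) (BT.leaf (nat_lit 29847841)) (BT.leaf (nat_lit 737820)))))) (BT.node (nat_lit 9952896) (BT.node (nat_lit 9952640) (BT.node (nat_lit 9952512) (BT.node (nat_lit 9952448) (BT.leaf (nat_lit 33468177)) (BT.leaf (nat_lit 28616465))) (BT.node (nat_lit 9952576) (BT.leaf (nat_lit 30738701)) (BT.leaf (nat_lit 30039065)))) (BT.node (nat_lit 9952768) (BT.node (nat_lit 9952704) (BT.leaf (nat_lit 30039069)) (BT.leaf (nat_lit 47416329))) (BT.node (nat_lit 9952832) (BT.leaf (nat_lit 39810825)) (BT.leaf (nat_lit 47416345))))) (BT.node (nat_lit 9953152) (BT.node (nat_lit 9953024) (BT.node (nat_lit 9952960) (BT.leaf (nat_lit 47416349)) (BT.leaf (nat_lit 40819977))) (BT.node (nat_lit 9953088) (BT.leaf (nat_lit 38476809)) (BT.leaf (nat_lit 38947077)))) (BT.node (nat_lit 9953280) (BT.node (nat_lit 9953216) (BT.leaf (nat_lit 32000021)) (BT.leaf (nat_lit 41058841))) (BT.node (nat_lit 9953288) (BT.leaf (nat_lit 41058845)) (BT.leaf (nat_lit 632368))))))) (BT.node (nat_lit 9954368) (BT.node (nat_lit 9953856) (BT.node (nat_lit 9953600) (BT.node (nat_lit 9953472) (BT.node (nat_lit 9953408) (BT.leaf (nat_lit 28663573)) (BT.leaf (nat_lit 28708885))) (BT.node (nat_lit 9953536) (BT.leaf (nat_lit 28618001)) (BT.leaf (nat_lit 29788933)))) (BT.node (nat_lit 9953728) (BT.node (nat_lit 9953664) (BT.leaf (nat_lit 40689421)) (BT.leaf (nat_lit 40841505))) (BT.node (nat_lit 9953792) (BT.leaf (nat_lit 49276689)) (BT.leaf (nat_lit 28431625))))) (BT.node (nat_lit 9954112) (BT.node (nat_lit 9953984) (BT.node (nat_lit 9953920) (BT.leaf (nat_lit 39571465)) (BT.leaf (nat_lit 42826017))) (BT.node (nat_lit 9954048) (BT.leaf (nat_lit 49276705)) (BT.leaf (nat_lit 41458713)))) (BT.node (nat_lit 9954240) (BT.node (nat_lit 9954176) (BT.leaf (nat_lit 42365981)) (BT.leaf (nat_lit 30985489))) (BT.node (nat_lit 9954304) (BT.leaf (nat_lit 47619361)) (BT.leaf (nat_lit 29699601)))))) (BT.node (nat_lit 9954880) (BT.node (nat_lit 9954624) (BT.node (nat_lit 9954496) (BT.node (nat_lit 9954432) (BT.leaf (nat_lit 29699617)) (BT.leaf (nat_lit 28619025))) (BT.node (nat_lit 9954560) (BT.leaf (nat_lit 28431641)) (BT.leaf (nat_lit 45306913)))) (BT.node (nat_lit 9954752) (BT.node (nat_lit 9954688) (BT.leaf (nat_lit 28431629)) (BT.leaf (nat_lit 28600853))) (BT.node (nat_lit 9954816) (BT.leaf (nat_lit 38153481)) (BT.leaf (nat_lit 38153489))))) (BT.node (nat_lit 9955136) (BT.node (nat_lit 9955008) (BT.node (nat_lit 9954944) (BT.leaf (nat_lit 42452249)) (BT.leaf (nat_lit 32743193))) (BT.node (nat_lit 9955072) (BT.leaf (nat_lit 42452493)) (BT.leaf (nat_lit 28601117)))) (BT.node (nat_lit 9955200) (BT.node (nat_lit 9955144) (BT.leaf (nat_lit 44523533)) (BT.leaf (nat_lit 753476))) (BT.node (nat_lit 9955264) (BT.leaf (nat_lit 30698773)) (BT.leaf (nat_lit 28619545)))))))) (BT.node (nat_lit 9956992) (BT.node (nat_lit 9956036) (BT.node (nat_lit 9955840) (BT.node (nat_lit 9955584) (BT.node (nat_lit 9955456) (BT.node (nat_lit 9955392) (BT.leaf (nat_lit 28619549)) (BT.leaf (nat_lit 29368069))) (BT.node (nat_lit 9955520) (BT.leaf (nat_lit 50705681)) (BT.leaf (nat_lit 32720417)))) (BT.node (nat_lit 9955712) (BT.node (nat_lit 9955648) (BT.leaf (nat_lit 42955797)) (BT.leaf (nat_lit 31471121))) (BT.node (nat_lit 9955776) (BT.leaf (nat_lit 39533841)) (BT.leaf (nat_lit 28620833))))) (BT.node (nat_lit 9955847) (BT.node (nat_lit 9955843) (BT.node (nat_lit 9955842) (BT.leaf (nat_lit 44337413)) (BT.leaf (nat_lit 641812))) (BT.node (nat_lit 9955846) (BT.leaf (nat_lit 641812)) (BT.leaf (nat_lit 641812)))) (BT.node (nat_lit 9955968) (BT.node (nat_lit 9955904) (BT.leaf (nat_lit 641812)) (BT.leaf (nat_lit 39825433))) (BT.node (nat_lit 9956032) (BT.leaf (nat_lit 29367317)) (BT.leaf (nat_lit 41067545)))))) (BT.node (nat_lit 9956544) (BT.node (nat_lit 9956288) (BT.node (nat_lit 9956160) (BT.node (nat_lit 9956096) (BT.leaf (nat_lit 641084)) (BT.leaf (nat_lit 30162705))) (BT.node (nat_lit 9956224) (BT.leaf (nat_lit 28621329)) (BT.leaf (nat_lit 41927449)))) (BT.node (nat_lit 9956416) (BT.node (nat_lit 9956352) (BT.leaf (nat_lit 29368073)) (BT.leaf (nat_lit 29368077))) (BT.node (nat_lit 9956480) (BT.leaf (nat_lit 28621845)) (BT.leaf (nat_lit 41072409))))) (BT.node (nat_lit 9956736) (BT.node (nat_lit 9956672) (BT.node (nat_lit 9956608) (BT.leaf (nat_lit 41073421)) (BT.leaf (nat_lit 32637713))) (BT.node (nat_lit 9956677) (BT.leaf (nat_lit 40195105)) (BT.leaf (nat_lit 716068)))) (BT.node (nat_lit 9956864) (BT.node (nat_lit 9956800) (BT.leaf (nat_lit 31502085)) (BT.leaf (nat_lit 38139413))) (BT.node (nat_lit 9956928) (BT.leaf (nat_lit 38139417)) (BT.leaf (nat_lit 38139421))))))) (BT.node (nat_lit 9958016) (BT.node (nat_lit 9957504) (BT.node (nat_lit 9957248) (BT.node (nat_lit 9957120) (BT.node (nat_lit 9957056) (BT.leaf (nat_lit 27502609)) (BT.leaf (nat_lit 31827221))) (BT.node (nat_lit 9957184) (BT.leaf (nat_lit 39706137)) (BT.leaf (nat_lit 34649105)))) (BT.node (nat_lit 9957376) (BT.node (nat_lit 9957312) (BT.leaf (nat_lit 47429129)) (BT.leaf (nat_lit 38202389))) (BT.node (nat_lit 9957440) (BT.leaf (nat_lit 40511765)) (BT.leaf (nat_lit 39829513))))) (BT.node (nat_lit 9957760) (BT.node (nat_lit 9957632) (BT.node (nat_lit 9957568) (BT.leaf (nat_lit 50894865)) (BT.leaf (nat_lit 30249225))) (BT.node (nat_lit 9957696) (BT.leaf (nat_lit 48732437)) (BT.leaf (nat_lit 40804373)))) (BT.node (nat_lit 9957888) (BT.node (nat_lit 9957824) (BT.leaf (nat_lit 44202529)) (BT.leaf (nat_lit 45175045))) (BT.node (nat_lit 9957952) (BT.leaf (nat_lit 42987789)) (BT.leaf (nat_lit 31496709)))))) (BT.node (nat_lit 9958464) (BT.node (nat_lit 9958272) (BT.node (nat_lit 9958144) (BT.node (nat_lit 9958080) (BT.leaf (nat_lit 29708561)) (BT.leaf (nat_lit 29707289))) (BT.node (nat_lit 9958208) (BT.leaf (nat_lit 47735045)) (BT.leaf (nat_lit 31583521)))) (BT.node (nat_lit 9958336) (BT.node (nat_lit 9958277) (BT.leaf (nat_lit 39833373)) (BT.leaf (nat_lit 624264))) (BT.node (nat_lit 9958400) (BT.leaf (nat_lit 31057429)) (BT.leaf (nat_lit 39627525))))) (BT.node (nat_lit 9958656) (BT.node (nat_lit 9958528) (BT.node (nat_lit 9958471) (BT.leaf (nat_lit 43589905)) (BT.leaf (nat_lit 757928))) (BT.node (nat_lit 9958592) (BT.leaf (nat_lit 29151765)) (BT.leaf (nat_lit 50658565)))) (BT.node (nat_lit 9958784) (BT.node (nat_lit 9958720) (BT.leaf (nat_lit 51370513)) (BT.leaf (nat_lit 50658585))) (BT.node (nat_lit 9958848) (BT.leaf (nat_lit 50658589)) (BT.leaf (nat_lit 43025685))))))))) (BT.node (nat_lit 9962816) (BT.node (nat_lit 9960896) (BT.node (nat_lit 9959872) (BT.node (nat_lit 9959424) (BT.node (nat_lit 9959168) (BT.node (nat_lit 9959040) (BT.node (nat_lit 9958976) (BT.leaf (nat_lit 28626705)) (BT.leaf (nat_lit 38045717))) (BT.node (nat_lit 9959104) (BT.leaf (nat_lit 44054809)) (BT.leaf (nat_lit 32999693)))) (BT.node (nat_lit 9959296) (BT.node (nat_lit 9959232) (BT.leaf (nat_lit 51123217)) (BT.leaf (nat_lit 31825953))) (BT.node (nat_lit 9959360) (BT.leaf (nat_lit 41201437)) (BT.leaf (nat_lit 31360017))))) (BT.node (nat_lit 9959680) (BT.node (nat_lit 9959552) (BT.node (nat_lit 9959488) (BT.leaf (nat_lit 50955809)) (BT.leaf (nat_lit 39837721))) (BT.node (nat_lit 9959616) (BT.leaf (nat_lit 31360033)) (BT.leaf (nat_lit 33030933)))) (BT.node (nat_lit 9959748) (BT.node (nat_lit 9959744) (BT.leaf (nat_lit 44632097)) (BT.leaf (nat_lit 44631073))) (BT.node (nat_lit 9959808) (BT.leaf (nat_lit 632040)) (BT.leaf (nat_lit 37768469)))))) (BT.node (nat_lit 9960384) (BT.node (nat_lit 9960128) (BT.node (nat_lit 9960000) (BT.node (nat_lit 9959936) (BT.leaf (nat_lit 33000217)) (BT.leaf (nat_lit 47195657))) (BT.node (nat_lit 9960064) (BT.leaf (nat_lit 40865549)) (BT.leaf (nat_lit 37911833)))) (BT.node (nat_lit 9960256) (BT.node (nat_lit 9960192) (BT.leaf (nat_lit 37911837)) (BT.leaf (nat_lit 30079753))) (BT.node (nat_lit 9960320) (BT.leaf (nat_lit 38316041)) (BT.leaf (nat_lit 40650249))))) (BT.node (nat_lit 9960648) (BT.node (nat_lit 9960576) (BT.node (nat_lit 9960512) (BT.leaf (nat_lit 43986453)) (BT.leaf (nat_lit 43779617))) (BT.node (nat_lit 9960646) (BT.leaf (nat_lit 39583245)) (BT.leaf (nat_lit 719844)))) (BT.node (nat_lit 9960768) (BT.node (nat_lit 9960704) (BT.leaf (nat_lit 719844)) (BT.leaf (nat_lit 42598177))) (BT.node (nat_lit 9960832) (BT.leaf (nat_lit 44328197)) (BT.leaf (nat_lit 47897365))))))) (BT.node (nat_lit 9961792) (BT.node (nat_lit 9961280) (BT.node (nat_lit 9961152) (BT.node (nat_lit 9961024) (BT.node (nat_lit 9960960) (BT.leaf (nat_lit 32609553)) (BT.leaf (nat_lit 44610329))) (BT.node (nat_lit 9961088) (BT.leaf (nat_lit 28632593)) (BT.leaf (nat_lit 43264773)))) (BT.node (nat_lit 9961154) (BT.node (nat_lit 9961153) (BT.leaf (nat_lit 43798813)) (BT.leaf (nat_lit 697324))) (BT.node (nat_lit 9961216) (BT.leaf (nat_lit 697324)) (BT.leaf (nat_lit 48924437))))) (BT.node (nat_lit 9961536) (BT.node (nat_lit 9961408) (BT.node (nat_lit 9961344) (BT.leaf (nat_lit 33472021)) (BT.leaf (nat_lit 44615437))) (BT.node (nat_lit 9961472) (BT.leaf (nat_lit 30440721)) (BT.leaf (nat_lit 47236109)))) (BT.node (nat_lit 9961664) (BT.node (nat_lit 9961600) (BT.leaf (nat_lit 31135509)) (BT.leaf (nat_lit 46192929))) (BT.node (nat_lit 9961728) (BT.leaf (nat_lit 49776673)) (BT.leaf (nat_lit 49776417)))))) (BT.node (nat_lit 9962304) (BT.node (nat_lit 9962048) (BT.node (nat_lit 9961920) (BT.node (nat_lit 9961856) (BT.leaf (nat_lit 38068485)) (BT.leaf (nat_lit 29694749))) (BT.node (nat_lit 9961984) (BT.leaf (nat_lit 28679685)) (BT.leaf (nat_lit 41944837)))) (BT.node (nat_lit 9962176) (BT.node (nat_lit 9962112) (BT.leaf (nat_lit 29508885)) (BT.leaf (nat_lit 31946769))) (BT.node (nat_lit 9962240) (BT.leaf (nat_lit 31143173)) (BT.leaf (nat_lit 49792261))))) (BT.node (nat_lit 9962560) (BT.node (nat_lit 9962432) (BT.node (nat_lit 9962368) (BT.leaf (nat_lit 38203161)) (BT.leaf (nat_lit 39831841))) (BT.node (nat_lit 9962496) (BT.leaf (nat_lit 41179405)) (BT.leaf (nat_lit 39955461)))) (BT.node (nat_lit 9962688) (BT.node (nat_lit 9962624) (BT.leaf (nat_lit 45095693)) (BT.leaf (nat_lit 32839185))) (BT.node (nat_lit 9962752) (BT.leaf (nat_lit 28679705)) (BT.leaf (nat_lit 39630085)))))))) (BT.node (nat_lit 9964864) (BT.node (nat_lit 9963840) (BT.node (nat_lit 9963328) (BT.node (nat_lit 9963072) (BT.node (nat_lit 9962944) (BT.node (nat_lit 9962880) (BT.leaf (nat_lit 29502737)) (BT.leaf (nat_lit 29707793))) (BT.node (nat_lit 9963008) (BT.leaf (nat_lit 39631109)) (BT.leaf (nat_lit 37607189)))) (BT.node (nat_lit 9963200) (BT.node (nat_lit 9963136) (BT.leaf (nat_lit 29502741)) (BT.leaf (nat_lit 37609993))) (BT.node (nat_lit 9963264) (BT.leaf (nat_lit 39064073)) (BT.leaf (nat_lit 39064077))))) (BT.node (nat_lit 9963584) (BT.node (nat_lit 9963456) (BT.node (nat_lit 9963392) (BT.leaf (nat_lit 43387157)) (BT.leaf (nat_lit 50559761))) (BT.node (nat_lit 9963520) (BT.leaf (nat_lit 28420381)) (BT.leaf (nat_lit 30981141)))) (BT.node (nat_lit 9963712) (BT.node (nat_lit 9963648) (BT.leaf (nat_lit 32289057)) (BT.leaf (nat_lit 43387161))) (BT.node (nat_lit 9963776) (BT.leaf (nat_lit 37870345)) (BT.leaf (nat_lit 28635417)))))) (BT.node (nat_lit 9964352) (BT.node (nat_lit 9964096) (BT.node (nat_lit 9963968) (BT.node (nat_lit 9963904) (BT.leaf (nat_lit 39508497)) (BT.leaf (nat_lit 39781901))) (BT.node (nat_lit 9964032) (BT.leaf (nat_lit 28635421)) (BT.leaf (nat_lit 28635677)))) (BT.node (nat_lit 9964224) (BT.node (nat_lit 9964160) (BT.leaf (nat_lit 40004369)) (BT.leaf (nat_lit 50957845))) (BT.node (nat_lit 9964288) (BT.leaf (nat_lit 29879049)) (BT.leaf (nat_lit 29879053))))) (BT.node (nat_lit 9964608) (BT.node (nat_lit 9964480) (BT.node (nat_lit 9964416) (BT.leaf (nat_lit 29384465)) (BT.leaf (nat_lit 28557845))) (BT.node (nat_lit 9964544) (BT.leaf (nat_lit 37974541)) (BT.leaf (nat_lit 37974545)))) (BT.node (nat_lit 9964736) (BT.node (nat_lit 9964672) (BT.leaf (nat_lit 37974561)) (BT.leaf (nat_lit 47272717))) (BT.node (nat_lit 9964800) (BT.leaf (nat_lit 33748765)) (BT.leaf (nat_lit 28634377))))))) (BT.node (nat_lit 9965888) (BT.node (nat_lit 9965376) (BT.node (nat_lit 9965120) (BT.node (nat_lit 9964992) (BT.node (nat_lit 9964928) (BT.leaf (nat_lit 42959369)) (BT.leaf (nat_lit 28637449))) (BT.node (nat_lit 9965056) (BT.leaf (nat_lit 32329221)) (BT.leaf (nat_lit 48911637)))) (BT.node (nat_lit 9965248) (BT.node (nat_lit 9965184) (BT.leaf (nat_lit 32329237)) (BT.leaf (nat_lit 32329245))) (BT.node (nat_lit 9965312) (BT.leaf (nat_lit 32329249)) (BT.leaf (nat_lit 28638741))))) (BT.node (nat_lit 9965632) (BT.node (nat_lit 9965504) (BT.node (nat_lit 9965440) (BT.leaf (nat_lit 40295709)) (BT.leaf (nat_lit 28634385))) (BT.node (nat_lit 9965568) (BT.leaf (nat_lit 28820497)) (BT.leaf (nat_lit 28638493)))) (BT.node (nat_lit 9965760) (BT.node (nat_lit 9965696) (BT.leaf (nat_lit 42959393)) (BT.leaf (nat_lit 29785369))) (BT.node (nat_lit 9965824) (BT.leaf (nat_lit 28639001)) (BT.leaf (nat_lit 44593677)))))) (BT.node (nat_lit 9966400) (BT.node (nat_lit 9966144) (BT.node (nat_lit 9966016) (BT.node (nat_lit 9965952) (BT.leaf (nat_lit 28639005)) (BT.leaf (nat_lit 32390417))) (BT.node (nat_lit 9966080) (BT.leaf (nat_lit 29773601)) (BT.leaf (nat_lit 39836449)))) (BT.node (nat_lit 9966272) (BT.node (nat_lit 9966208) (BT.leaf (nat_lit 34466337)) (BT.leaf (nat_lit 35172897))) (BT.node (nat_lit 9966336) (BT.leaf (nat_lit 33897761)) (BT.leaf (nat_lit 40668945))))) (BT.node (nat_lit 9966656) (BT.node (nat_lit 9966528) (BT.node (nat_lit 9966464) (BT.leaf (nat_lit 31585825)) (BT.leaf (nat_lit 41622037))) (BT.node (nat_lit 9966592) (BT.leaf (nat_lit 50040349)) (BT.leaf (nat_lit 43016217)))) (BT.node (nat_lit 9966784) (BT.node (nat_lit 9966720) (BT.leaf (nat_lit 28646149)) (BT.leaf (nat_lit 30544145))) (BT.node (nat_lit 9966848) (BT.leaf (nat_lit 30544153)) (BT.leaf (nat_lit 43016205)))))))))) (BT.node (nat_lit 9974016) (BT.node (nat_lit 9970560) (BT.node (nat_lit 9968768) (BT.node (nat_lit 9967808) (BT.node (nat_lit 9967360) (BT.node (nat_lit 9967112) (BT.node (nat_lit 9967040) (BT.node (nat_lit 9966976) (BT.leaf (nat_lit 30544161)) (BT.leaf (nat_lit 34979089))) (BT.node (nat_lit 9967104) (BT.leaf (nat_lit 40842757)) (BT.leaf (nat_lit 49716753)))) (BT.node (nat_lit 9967232) (BT.node (nat_lit 9967168) (BT.leaf (nat_lit 650332)) (BT.leaf (nat_lit 38363937))) (BT.node (nat_lit 9967296) (BT.leaf (nat_lit 43730457)) (BT.leaf (nat_lit 31150357))))) (BT.node (nat_lit 9967552) (BT.node (nat_lit 9967424) (BT.node (nat_lit 9967366) (BT.leaf (nat_lit 43474709)) (BT.leaf (nat_lit 720944))) (BT.node (nat_lit 9967488) (BT.leaf (nat_lit 44988949)) (BT.leaf (nat_lit 44972569)))) (BT.node (nat_lit 9967680) (BT.node (nat_lit 9967616) (BT.leaf (nat_lit 35350557)) (BT.leaf (nat_lit 30187801))) (BT.node (nat_lit 9967744) (BT.leaf (nat_lit 28597529)) (BT.leaf (nat_lit 28642585)))))) (BT.node (nat_lit 9968320) (BT.node (nat_lit 9968064) (BT.node (nat_lit 9967936) (BT.node (nat_lit 9967872) (BT.leaf (nat_lit 28677137)) (BT.leaf (nat_lit 28677141))) (BT.node (nat_lit 9968000) (BT.leaf (nat_lit 28643601)) (BT.leaf (nat_lit 47944977)))) (BT.node (nat_lit 9968192) (BT.node (nat_lit 9968128) (BT.leaf (nat_lit 39099153)) (BT.leaf (nat_lit 32710429))) (BT.node (nat_lit 9968256) (BT.leaf (nat_lit 47464713)) (BT.leaf (nat_lit 41917729))))) (BT.node (nat_lit 9968512) (BT.node (nat_lit 9968448) (BT.node (nat_lit 9968384) (BT.leaf (nat_lit 41219869)) (BT.leaf (nat_lit 38260769))) (BT.node (nat_lit 9968453) (BT.leaf (nat_lit 39826205)) (BT.leaf (nat_lit 641760)))) (BT.node (nat_lit 9968640) (BT.node (nat_lit 9968576) (BT.leaf (nat_lit 40940053)) (BT.leaf (nat_lit 42393093))) (BT.node (nat_lit 9968704) (BT.leaf (nat_lit 29366809)) (BT.leaf (nat_lit 40604949))))))) (BT.node (nat_lit 9969600) (BT.node (nat_lit 9969152) (BT.node (nat_lit 9968901) (BT.node (nat_lit 9968896) (BT.node (nat_lit 9968832) (BT.leaf (nat_lit 41219849)) (BT.leaf (nat_lit 39875097))) (BT.node (nat_lit 9968899) (BT.leaf (nat_lit 43493401)) (BT.leaf (nat_lit 641504)))) (BT.node (nat_lit 9969024) (BT.node (nat_lit 9968960) (BT.leaf (nat_lit 641824)) (BT.leaf (nat_lit 39784461))) (BT.node (nat_lit 9969088) (BT.leaf (nat_lit 29366793)) (BT.leaf (nat_lit 30157585))))) (BT.node (nat_lit 9969408) (BT.node (nat_lit 9969280) (BT.node (nat_lit 9969216) (BT.leaf (nat_lit 30157589)) (BT.leaf (nat_lit 39876125))) (BT.node (nat_lit 9969344) (BT.leaf (nat_lit 28644881)) (BT.leaf (nat_lit 29359893)))) (BT.node (nat_lit 9969472) (BT.node (nat_lit 9969416) (BT.leaf (nat_lit 34794769)) (BT.leaf (nat_lit 639680))) (BT.node (nat_lit 9969536) (BT.leaf (nat_lit 30939153)) (BT.leaf (nat_lit 30939169)))))) (BT.node (nat_lit 9970112) (BT.node (nat_lit 9969856) (BT.node (nat_lit 9969728) (BT.node (nat_lit 9969664) (BT.leaf (nat_lit 40692997)) (BT.leaf (nat_lit 39963425))) (BT.node (nat_lit 9969792) (BT.leaf (nat_lit 49122317)) (BT.leaf (nat_lit 45294625)))) (BT.node (nat_lit 9969984) (BT.node (nat_lit 9969920) (BT.leaf (nat_lit 28644625)) (BT.leaf (nat_lit 31575045))) (BT.node (nat_lit 9970048) (BT.leaf (nat_lit 49267717)) (BT.leaf (nat_lit 41220365))))) (BT.node (nat_lit 9970304) (BT.node (nat_lit 9970241) (BT.node (nat_lit 9970176) (BT.leaf (nat_lit 50288405)) (BT.leaf (nat_lit 49727513))) (BT.node (nat_lit 9970243) (BT.leaf (nat_lit 752044)) (BT.leaf (nat_lit 752044)))) (BT.node (nat_lit 9970432) (BT.node (nat_lit 9970368) (BT.leaf (nat_lit 39786253)) (BT.leaf (nat_lit 30576417))) (BT.node (nat_lit 9970496) (BT.leaf (nat_lit 27342353)) (BT.leaf (nat_lit 39725857)))))))) (BT.node (nat_lit 9972224) (BT.node (nat_lit 9971328) (BT.node (nat_lit 9970888) (BT.node (nat_lit 9970756) (BT.node (nat_lit 9970688) (BT.node (nat_lit 9970624) (BT.leaf (nat_lit 38371361)) (BT.leaf (nat_lit 29867277))) (BT.node (nat_lit 9970752) (BT.leaf (nat_lit 46936597)) (BT.leaf (nat_lit 28652821)))) (BT.node (nat_lit 9970816) (BT.node (nat_lit 9970760) (BT.leaf (nat_lit 642320)) (BT.leaf (nat_lit 642320))) (BT.node (nat_lit 9970880) (BT.leaf (nat_lit 33943833)) (BT.leaf (nat_lit 33639965))))) (BT.node (nat_lit 9971136) (BT.node (nat_lit 9971008) (BT.node (nat_lit 9970944) (BT.leaf (nat_lit 659496)) (BT.leaf (nat_lit 28654613))) (BT.node (nat_lit 9971072) (BT.leaf (nat_lit 33639945)) (BT.leaf (nat_lit 46922253)))) (BT.node (nat_lit 9971200) (BT.node (nat_lit 9971137) (BT.leaf (nat_lit 35309089)) (BT.leaf (nat_lit 776484))) (BT.node (nat_lit 9971264) (BT.leaf (nat_lit 43793441)) (BT.leaf (nat_lit 46909973)))))) (BT.node (nat_lit 9971840) (BT.node (nat_lit 9971584) (BT.node (nat_lit 9971456) (BT.node (nat_lit 9971392) (BT.leaf (nat_lit 29294605)) (BT.leaf (nat_lit 49677573))) (BT.node (nat_lit 9971520) (BT.leaf (nat_lit 32900101)) (BT.leaf (nat_lit 29949981)))) (BT.node (nat_lit 9971712) (BT.node (nat_lit 9971648) (BT.leaf (nat_lit 29352469)) (BT.leaf (nat_lit 41219089))) (BT.node (nat_lit 9971776) (BT.leaf (nat_lit 41794593)) (BT.leaf (nat_lit 38236945))))) (BT.node (nat_lit 9972032) (BT.node (nat_lit 9971968) (BT.node (nat_lit 9971904) (BT.leaf (nat_lit 43018257)) (BT.leaf (nat_lit 30537501))) (BT.node (nat_lit 9971970) (BT.leaf (nat_lit 42419461)) (BT.leaf (nat_lit 767776)))) (BT.node (nat_lit 9972160) (BT.node (nat_lit 9972096) (BT.leaf (nat_lit 50806541)) (BT.leaf (nat_lit 29473045))) (BT.node (nat_lit 9972165) (BT.leaf (nat_lit 35951377)) (BT.leaf (nat_lit 772192))))))) (BT.node (nat_lit 9973056) (BT.node (nat_lit 9972550) (BT.node (nat_lit 9972480) (BT.node (nat_lit 9972352) (BT.node (nat_lit 9972288) (BT.leaf (nat_lit 29177373)) (BT.leaf (nat_lit 32904973))) (BT.node (nat_lit 9972416) (BT.leaf (nat_lit 38147617)) (BT.leaf (nat_lit 38322721)))) (BT.node (nat_lit 9972545) (BT.node (nat_lit 9972544) (BT.leaf (nat_lit 41788933)) (BT.leaf (nat_lit 52228373))) (BT.node (nat_lit 9972549) (BT.leaf (nat_lit 686760)) (BT.leaf (nat_lit 686760))))) (BT.node (nat_lit 9972800) (BT.node (nat_lit 9972672) (BT.node (nat_lit 9972608) (BT.leaf (nat_lit 686760)) (BT.leaf (nat_lit 43562005))) (BT.node (nat_lit 9972736) (BT.leaf (nat_lit 39834385)) (BT.leaf (nat_lit 50031633)))) (BT.node (nat_lit 9972928) (BT.node (nat_lit 9972864) (BT.leaf (nat_lit 32683537)) (BT.leaf (nat_lit 30648857))) (BT.node (nat_lit 9972992) (BT.leaf (nat_lit 29153049)) (BT.leaf (nat_lit 29153053)))))) (BT.node (nat_lit 9973511) (BT.node (nat_lit 9973312) (BT.node (nat_lit 9973184) (BT.node (nat_lit 9973120) (BT.leaf (nat_lit 29893385)) (BT.leaf (nat_lit 38155297))) (BT.node (nat_lit 9973248) (BT.leaf (nat_lit 41014025)) (BT.leaf (nat_lit 32343057)))) (BT.node (nat_lit 9973440) (BT.node (nat_lit 9973376) (BT.leaf (nat_lit 39232777)) (BT.leaf (nat_lit 46668053))) (BT.node (nat_lit 9973504) (BT.leaf (nat_lit 39927561)) (BT.leaf (nat_lit 29759493))))) (BT.node (nat_lit 9973760) (BT.node (nat_lit 9973632) (BT.node (nat_lit 9973568) (BT.leaf (nat_lit 623692)) (BT.leaf (nat_lit 34512393))) (BT.node (nat_lit 9973696) (BT.leaf (nat_lit 50646549)) (BT.leaf (nat_lit 47716121)))) (BT.node (nat_lit 9973888) (BT.node (nat_lit 9973824) (BT.leaf (nat_lit 28085529)) (BT.leaf (nat_lit 28864273))) (BT.node (nat_lit 9973952) (BT.leaf (nat_lit 49096461)) (BT.leaf (nat_lit 51474453))))))))) (BT.node (nat_lit 9977606) (BT.node (nat_lit 9975872) (BT.node (nat_lit 9974848) (BT.node (nat_lit 9974336) (BT.node (nat_lit 9974080) (BT.node (nat_lit 9974020) (BT.node (nat_lit 9974018) (BT.leaf (nat_lit 33809425)) (BT.leaf (nat_lit 744100))) (BT.node (nat_lit 9974023) (BT.leaf (nat_lit 744100)) (BT.leaf (nat_lit 744100)))) (BT.node (nat_lit 9974208) (BT.node (nat_lit 9974144) (BT.leaf (nat_lit 28943641)) (BT.leaf (nat_lit 28943645))) (BT.node (nat_lit 9974272) (BT.leaf (nat_lit 50385181)) (BT.leaf (nat_lit 27555333))))) (BT.node (nat_lit 9974592) (BT.node (nat_lit 9974464) (BT.node (nat_lit 9974400) (BT.leaf (nat_lit 32843297)) (BT.leaf (nat_lit 39584773))) (BT.node (nat_lit 9974528) (BT.leaf (nat_lit 41788181)) (BT.leaf (nat_lit 31699461)))) (BT.node (nat_lit 9974720) (BT.node (nat_lit 9974656) (BT.leaf (nat_lit 39898121)) (BT.leaf (nat_lit 28939797))) (BT.node (nat_lit 9974784) (BT.leaf (nat_lit 47224341)) (BT.leaf (nat_lit 47622153)))))) (BT.node (nat_lit 9975360) (BT.node (nat_lit 9975104) (BT.node (nat_lit 9974976) (BT.node (nat_lit 9974912) (BT.leaf (nat_lit 34435349)) (BT.leaf (nat_lit 47931937))) (BT.node (nat_lit 9975040) (BT.leaf (nat_lit 49312793)) (BT.leaf (nat_lit 47223829)))) (BT.node (nat_lit 9975232) (BT.node (nat_lit 9975168) (BT.leaf (nat_lit 28670481)) (BT.leaf (nat_lit 38164513))) (BT.node (nat_lit 9975296) (BT.leaf (nat_lit 38165281)) (BT.leaf (nat_lit 38165025))))) (BT.node (nat_lit 9975616) (BT.node (nat_lit 9975488) (BT.node (nat_lit 9975424) (BT.leaf (nat_lit 28694021)) (BT.leaf (nat_lit 28694277))) (BT.node (nat_lit 9975552) (BT.leaf (nat_lit 28695301)) (BT.leaf (nat_lit 28696325)))) (BT.node (nat_lit 9975744) (BT.node (nat_lit 9975680) (BT.leaf (nat_lit 30315289)) (BT.leaf (nat_lit 30315293))) (BT.node (nat_lit 9975808) (BT.leaf (nat_lit 39334433)) (BT.leaf (nat_lit 32966933))))))) (BT.node (nat_lit 9976704) (BT.node (nat_lit 9976192) (BT.node (nat_lit 9976128) (BT.node (nat_lit 9976000) (BT.node (nat_lit 9975936) (BT.leaf (nat_lit 31073541)) (BT.leaf (nat_lit 32060933))) (BT.node (nat_lit 9976064) (BT.leaf (nat_lit 39678225)) (BT.leaf (nat_lit 32060953)))) (BT.node (nat_lit 9976133) (BT.node (nat_lit 9976132) (BT.leaf (nat_lit 32060957)) (BT.leaf (nat_lit 732956))) (BT.node (nat_lit 9976136) (BT.leaf (nat_lit 732956)) (BT.leaf (nat_lit 732956))))) (BT.node (nat_lit 9976448) (BT.node (nat_lit 9976320) (BT.node (nat_lit 9976256) (BT.leaf (nat_lit 36433685)) (BT.leaf (nat_lit 33684761))) (BT.node (nat_lit 9976384) (BT.leaf (nat_lit 46470681)) (BT.leaf (nat_lit 28671773)))) (BT.node (nat_lit 9976576) (BT.node (nat_lit 9976512) (BT.leaf (nat_lit 27567645)) (BT.leaf (nat_lit 40772897))) (BT.node (nat_lit 9976640) (BT.leaf (nat_lit 31707937)) (BT.leaf (nat_lit 30254597)))))) (BT.node (nat_lit 9977152) (BT.node (nat_lit 9976896) (BT.node (nat_lit 9976768) (BT.node (nat_lit 9976711) (BT.leaf (nat_lit 29399313)) (BT.leaf (nat_lit 660444))) (BT.node (nat_lit 9976832) (BT.leaf (nat_lit 47105565)) (BT.leaf (nat_lit 48457221)))) (BT.node (nat_lit 9977024) (BT.node (nat_lit 9976960) (BT.leaf (nat_lit 44916745)) (BT.leaf (nat_lit 33962517))) (BT.node (nat_lit 9977088) (BT.leaf (nat_lit 41570053)) (BT.leaf (nat_lit 30257925))))) (BT.node (nat_lit 9977408) (BT.node (nat_lit 9977280) (BT.node (nat_lit 9977216) (BT.leaf (nat_lit 39605793)) (BT.leaf (nat_lit 44516869))) (BT.node (nat_lit 9977344) (BT.leaf (nat_lit 42498325)) (BT.leaf (nat_lit 45425949)))) (BT.node (nat_lit 9977536) (BT.node (nat_lit 9977472) (BT.leaf (nat_lit 48848909)) (BT.leaf (nat_lit 30256901))) (BT.node (nat_lit 9977600) (BT.leaf (nat_lit 39557137)) (BT.leaf (nat_lit 42630153)))))))) (BT.node (nat_lit 9979525) (BT.node (nat_lit 9978624) (BT.node (nat_lit 9978048) (BT.node (nat_lit 9977792) (BT.node (nat_lit 9977664) (BT.node (nat_lit 9977607) (BT.leaf (nat_lit 665816)) (BT.leaf (nat_lit 665816))) (BT.node (nat_lit 9977728) (BT.leaf (nat_lit 31710981)) (BT.leaf (nat_lit 30286613)))) (BT.node (nat_lit 9977920) (BT.node (nat_lit 9977856) (BT.leaf (nat_lit 31710725)) (BT.leaf (nat_lit 33845537))) (BT.node (nat_lit 9977984) (BT.leaf (nat_lit 42786337)) (BT.leaf (nat_lit 32345877))))) (BT.node (nat_lit 9978304) (BT.node (nat_lit 9978176) (BT.node (nat_lit 9978112) (BT.leaf (nat_lit 30544905)) (BT.leaf (nat_lit 52224537))) (BT.node (nat_lit 9978240) (BT.leaf (nat_lit 30982673)) (BT.leaf (nat_lit 41671705)))) (BT.node (nat_lit 9978432) (BT.node (nat_lit 9978368) (BT.leaf (nat_lit 30221077)) (BT.leaf (nat_lit 39913241))) (BT.node (nat_lit 9978496) (BT.leaf (nat_lit 46107917)) (BT.leaf (nat_lit 49405985)))))) (BT.node (nat_lit 9979136) (BT.node (nat_lit 9978880) (BT.node (nat_lit 9978752) (BT.node (nat_lit 9978688) (BT.leaf (nat_lit 40012553)) (BT.leaf (nat_lit 29759521))) (BT.node (nat_lit 9978816) (BT.leaf (nat_lit 39294229)) (BT.leaf (nat_lit 39915017)))) (BT.node (nat_lit 9979008) (BT.node (nat_lit 9978944) (BT.leaf (nat_lit 39934485)) (BT.leaf (nat_lit 41027869))) (BT.node (nat_lit 9979072) (BT.leaf (nat_lit 41027873)) (BT.leaf (nat_lit 48146697))))) (BT.node (nat_lit 9979392) (BT.node (nat_lit 9979264) (BT.node (nat_lit 9979200) (BT.leaf (nat_lit 29334809)) (BT.leaf (nat_lit 31076365))) (BT.node (nat_lit 9979328) (BT.leaf (nat_lit 39934489)) (BT.leaf (nat_lit 45772313)))) (BT.node (nat_lit 9979456) (BT.node (nat_lit 9979400) (BT.leaf (nat_lit 46143749)) (BT.leaf (nat_lit 683792))) (BT.node (nat_lit 9979520) (BT.leaf (nat_lit 29337365)) (BT.leaf (nat_lit 39727905))))))) (BT.node (nat_lit 9980544) (BT.node (nat_lit 9980032) (BT.node (nat_lit 9979776) (BT.node (nat_lit 9979648) (BT.node (nat_lit 9979584) (BT.leaf (nat_lit 693584)) (BT.leaf (nat_lit 37997081))) (BT.node (nat_lit 9979712) (BT.leaf (nat_lit 29337625)) (BT.leaf (nat_lit 31144717)))) (BT.node (nat_lit 9979904) (BT.node (nat_lit 9979840) (BT.leaf (nat_lit 40646177)) (BT.leaf (nat_lit 45553697))) (BT.node (nat_lit 9979968) (BT.leaf (nat_lit 41760777)) (BT.leaf (nat_lit 39805201))))) (BT.node (nat_lit 9980288) (BT.node (nat_lit 9980160) (BT.node (nat_lit 9980096) (BT.leaf (nat_lit 44056581)) (BT.leaf (nat_lit 32701465))) (BT.node (nat_lit 9980224) (BT.leaf (nat_lit 47052305)) (BT.leaf (nat_lit 47407381)))) (BT.node (nat_lit 9980416) (BT.node (nat_lit 9980352) (BT.leaf (nat_lit 41003025)) (BT.leaf (nat_lit 34409233))) (BT.node (nat_lit 9980480) (BT.leaf (nat_lit 50968341)) (BT.leaf (nat_lit 28689685)))))) (BT.node (nat_lit 9980992) (BT.node (nat_lit 9980800) (BT.node (nat_lit 9980672) (BT.node (nat_lit 9980608) (BT.leaf (nat_lit 43161877)) (BT.leaf (nat_lit 46914057))) (BT.node (nat_lit 9980736) (BT.leaf (nat_lit 39963413)) (BT.leaf (nat_lit 38038533)))) (BT.node (nat_lit 9980928) (BT.node (nat_lit 9980864) (BT.leaf (nat_lit 38038549)) (BT.leaf (nat_lit 43161885))) (BT.node (nat_lit 9980934) (BT.leaf (nat_lit 30599957)) (BT.leaf (nat_lit 767620))))) (BT.node (nat_lit 9981248) (BT.node (nat_lit 9981120) (BT.node (nat_lit 9981056) (BT.leaf (nat_lit 30599965)) (BT.leaf (nat_lit 32915217))) (BT.node (nat_lit 9981184) (BT.leaf (nat_lit 46545937)) (BT.leaf (nat_lit 39929349)))) (BT.node (nat_lit 9981376) (BT.node (nat_lit 9981312) (BT.leaf (nat_lit 39924761)) (BT.leaf (nat_lit 31076881))) (BT.node (nat_lit 9981440) (BT.leaf (nat_lit 46108953)) (BT.leaf (nat_lit 37636881))))))))))) (BT.node (nat_lit 9995264) (BT.node (nat_lit 9988608) (BT.node (nat_lit 9985152) (BT.node (nat_lit 9983168) (BT.node (nat_lit 9982208) (BT.node (nat_lit 9981888) (BT.node (nat_lit 9981696) (BT.node (nat_lit 9981632) (BT.node (nat_lit 9981568) (BT.leaf (nat_lit 39925769)) (BT.leaf (nat_lit 28679189))) (BT.node (nat_lit 9981634) (BT.leaf (nat_lit 32917525)) (BT.leaf (nat_lit 641116)))) (BT.node (nat_lit 9981760) (BT.node (nat_lit 9981704) (BT.leaf (nat_lit 39926553)) (BT.leaf (nat_lit 752000))) (BT.node (nat_lit 9981824) (BT.leaf (nat_lit 30573345)) (BT.leaf (nat_lit 49462809))))) (BT.node (nat_lit 9981952) (BT.node (nat_lit 9981895) (BT.node (nat_lit 9981890) (BT.leaf (nat_lit 38330133)) (BT.leaf (nat_lit 639804))) (BT.node (nat_lit 9981896) (BT.leaf (nat_lit 639804)) (BT.leaf (nat_lit 639804)))) (BT.node (nat_lit 9982080) (BT.node (nat_lit 9982016) (BT.leaf (nat_lit 37635097)) (BT.leaf (nat_lit 33740561))) (BT.node (nat_lit 9982144) (BT.leaf (nat_lit 45604885)) (BT.leaf (nat_lit 32476165)))))) (BT.node (nat_lit 9982656) (BT.node (nat_lit 9982402) (BT.node (nat_lit 9982336) (BT.node (nat_lit 9982272) (BT.leaf (nat_lit 32527377)) (BT.leaf (nat_lit 41958177))) (BT.node (nat_lit 9982400) (BT.leaf (nat_lit 43277845)) (BT.leaf (nat_lit 30787861)))) (BT.node (nat_lit 9982528) (BT.node (nat_lit 9982464) (BT.leaf (nat_lit 754184)) (BT.leaf (nat_lit 41022985))) (BT.node (nat_lit 9982592) (BT.leaf (nat_lit 41022989)) (BT.leaf (nat_lit 28681237))))) (BT.node (nat_lit 9982912) (BT.node (nat_lit 9982784) (BT.node (nat_lit 9982720) (BT.leaf (nat_lit 45942045)) (BT.leaf (nat_lit 32293393))) (BT.node (nat_lit 9982848) (BT.leaf (nat_lit 32293397)) (BT.leaf (nat_lit 37850645)))) (BT.node (nat_lit 9983040) (BT.node (nat_lit 9982976) (BT.leaf (nat_lit 47703073)) (BT.leaf (nat_lit 28662033))) (BT.node (nat_lit 9983104) (BT.leaf (nat_lit 28681745)) (BT.leaf (nat_lit 45916193))))))) (BT.node (nat_lit 9984064) (BT.node (nat_lit 9983617) (BT.node (nat_lit 9983424) (BT.node (nat_lit 9983296) (BT.node (nat_lit 9983232) (BT.leaf (nat_lit 43793681)) (BT.leaf (nat_lit 37612049))) (BT.node (nat_lit 9983360) (BT.leaf (nat_lit 31076357)) (BT.leaf (nat_lit 33632273)))) (BT.node (nat_lit 9983552) (BT.node (nat_lit 9983488) (BT.leaf (nat_lit 29327885)) (BT.leaf (nat_lit 46165525))) (BT.node (nat_lit 9983616) (BT.leaf (nat_lit 37348117)) (BT.leaf (nat_lit 51119881))))) (BT.node (nat_lit 9983872) (BT.node (nat_lit 9983744) (BT.node (nat_lit 9983680) (BT.leaf (nat_lit 735328)) (BT.leaf (nat_lit 37348625))) (BT.node (nat_lit 9983808) (BT.leaf (nat_lit 52306181)) (BT.leaf (nat_lit 29336345)))) (BT.node (nat_lit 9983942) (BT.node (nat_lit 9983936) (BT.leaf (nat_lit 52306193)) (BT.leaf (nat_lit 43337505))) (BT.node (nat_lit 9984000) (BT.leaf (nat_lit 690540)) (BT.leaf (nat_lit 51119889)))))) (BT.node (nat_lit 9984576) (BT.node (nat_lit 9984320) (BT.node (nat_lit 9984192) (BT.node (nat_lit 9984128) (BT.leaf (nat_lit 47416085)) (BT.leaf (nat_lit 28683293))) (BT.node (nat_lit 9984256) (BT.leaf (nat_lit 39537937)) (BT.leaf (nat_lit 39538205)))) (BT.node (nat_lit 9984448) (BT.node (nat_lit 9984384) (BT.leaf (nat_lit 28683289)) (BT.leaf (nat_lit 30844165))) (BT.node (nat_lit 9984512) (BT.leaf (nat_lit 49789973)) (BT.leaf (nat_lit 30844193))))) (BT.node (nat_lit 9984832) (BT.node (nat_lit 9984704) (BT.node (nat_lit 9984640) (BT.leaf (nat_lit 31076373)) (BT.leaf (nat_lit 47941905))) (BT.node (nat_lit 9984768) (BT.leaf (nat_lit 39938585)) (BT.leaf (nat_lit 37838865)))) (BT.node (nat_lit 9984960) (BT.node (nat_lit 9984896) (BT.leaf (nat_lit 38266129)) (BT.leaf (nat_lit 29337369))) (BT.node (nat_lit 9985088) (BT.leaf (nat_lit 38266145)) (BT.leaf (nat_lit 39917853)))))))) (BT.node (nat_lit 9986885) (BT.node (nat_lit 9985984) (BT.node (nat_lit 9985536) (BT.node (nat_lit 9985346) (BT.node (nat_lit 9985280) (BT.node (nat_lit 9985216) (BT.leaf (nat_lit 41202693)) (BT.leaf (nat_lit 46310689))) (BT.node (nat_lit 9985344) (BT.leaf (nat_lit 49633809)) (BT.leaf (nat_lit 43762441)))) (BT.node (nat_lit 9985408) (BT.node (nat_lit 9985348) (BT.leaf (nat_lit 667012)) (BT.leaf (nat_lit 667012))) (BT.node (nat_lit 9985472) (BT.leaf (nat_lit 49606173)) (BT.leaf (nat_lit 45562629))))) (BT.node (nat_lit 9985728) (BT.node (nat_lit 9985600) (BT.node (nat_lit 9985540) (BT.leaf (nat_lit 34160401)) (BT.leaf (nat_lit 788144))) (BT.node (nat_lit 9985664) (BT.leaf (nat_lit 39942169)) (BT.leaf (nat_lit 40175109)))) (BT.node (nat_lit 9985856) (BT.node (nat_lit 9985792) (BT.leaf (nat_lit 32447769)) (BT.leaf (nat_lit 32447773))) (BT.node (nat_lit 9985920) (BT.leaf (nat_lit 29601029)) (BT.leaf (nat_lit 29601033)))))) (BT.node (nat_lit 9986432) (BT.node (nat_lit 9986240) (BT.node (nat_lit 9986112) (BT.node (nat_lit 9986048) (BT.leaf (nat_lit 29601037)) (BT.leaf (nat_lit 28686101))) (BT.node (nat_lit 9986176) (BT.leaf (nat_lit 51988505)) (BT.leaf (nat_lit 46911501)))) (BT.node (nat_lit 9986368) (BT.node (nat_lit 9986304) (BT.leaf (nat_lit 49773841)) (BT.leaf (nat_lit 29313557))) (BT.node (nat_lit 9986372) (BT.leaf (nat_lit 29285133)) (BT.leaf (nat_lit 677072))))) (BT.node (nat_lit 9986688) (BT.node (nat_lit 9986560) (BT.node (nat_lit 9986496) (BT.leaf (nat_lit 28686357)) (BT.leaf (nat_lit 49230597))) (BT.node (nat_lit 9986624) (BT.leaf (nat_lit 42124549)) (BT.leaf (nat_lit 38112785)))) (BT.node (nat_lit 9986816) (BT.node (nat_lit 9986752) (BT.leaf (nat_lit 40045841)) (BT.leaf (nat_lit 29313309))) (BT.node (nat_lit 9986880) (BT.leaf (nat_lit 45986069)) (BT.leaf (nat_lit 42221577))))))) (BT.node (nat_lit 9987840) (BT.node (nat_lit 9987392) (BT.node (nat_lit 9987136) (BT.node (nat_lit 9987008) (BT.node (nat_lit 9986944) (BT.leaf (nat_lit 755376)) (BT.leaf (nat_lit 29662473))) (BT.node (nat_lit 9987072) (BT.leaf (nat_lit 39021601)) (BT.leaf (nat_lit 45062945)))) (BT.node (nat_lit 9987264) (BT.node (nat_lit 9987200) (BT.leaf (nat_lit 39738117)) (BT.leaf (nat_lit 46984197))) (BT.node (nat_lit 9987328) (BT.leaf (nat_lit 49201949)) (BT.leaf (nat_lit 39022625))))) (BT.node (nat_lit 9987592) (BT.node (nat_lit 9987520) (BT.node (nat_lit 9987456) (BT.leaf (nat_lit 39949337)) (BT.leaf (nat_lit 32711177))) (BT.node (nat_lit 9987584) (BT.leaf (nat_lit 32711445)) (BT.leaf (nat_lit 49591581)))) (BT.node (nat_lit 9987712) (BT.node (nat_lit 9987648) (BT.leaf (nat_lit 774820)) (BT.leaf (nat_lit 32711201))) (BT.node (nat_lit 9987776) (BT.leaf (nat_lit 32711449)) (BT.leaf (nat_lit 32711453)))))) (BT.node (nat_lit 9988224) (BT.node (nat_lit 9988032) (BT.node (nat_lit 9987908) (BT.node (nat_lit 9987904) (BT.leaf (nat_lit 32983045)) (BT.leaf (nat_lit 49266965))) (BT.node (nat_lit 9987968) (BT.leaf (nat_lit 674376)) (BT.leaf (nat_lit 45327897)))) (BT.node (nat_lit 9988103) (BT.node (nat_lit 9988096) (BT.leaf (nat_lit 34018577)) (BT.leaf (nat_lit 41200901))) (BT.node (nat_lit 9988160) (BT.leaf (nat_lit 740436)) (BT.leaf (nat_lit 46171149))))) (BT.node (nat_lit 9988357) (BT.node (nat_lit 9988288) (BT.node (nat_lit 9988229) (BT.leaf (nat_lit 49266969)) (BT.leaf (nat_lit 644084))) (BT.node (nat_lit 9988352) (BT.leaf (nat_lit 41221133)) (BT.leaf (nat_lit 39833357)))) (BT.node (nat_lit 9988480) (BT.node (nat_lit 9988416) (BT.leaf (nat_lit 707700)) (BT.leaf (nat_lit 41221149))) (BT.node (nat_lit 9988544) (BT.leaf (nat_lit 29955093)) (BT.leaf (nat_lit 32280085))))))))) (BT.node (nat_lit 9991744) (BT.node (nat_lit 9990208) (BT.node (nat_lit 9989248) (BT.node (nat_lit 9988872) (BT.node (nat_lit 9988866) (BT.node (nat_lit 9988736) (BT.node (nat_lit 9988672) (BT.leaf (nat_lit 43160849)) (BT.leaf (nat_lit 43160853))) (BT.node (nat_lit 9988800) (BT.leaf (nat_lit 28688657)) (BT.leaf (nat_lit 44837145)))) (BT.node (nat_lit 9988870) (BT.node (nat_lit 9988867) (BT.leaf (nat_lit 679776)) (BT.leaf (nat_lit 679776))) (BT.node (nat_lit 9988871) (BT.leaf (nat_lit 679776)) (BT.leaf (nat_lit 679776))))) (BT.node (nat_lit 9988992) (BT.node (nat_lit 9988929) (BT.node (nat_lit 9988928) (BT.leaf (nat_lit 679776)) (BT.leaf (nat_lit 39920141))) (BT.node (nat_lit 9988933) (BT.leaf (nat_lit 655652)) (BT.leaf (nat_lit 655652)))) (BT.node (nat_lit 9989120) (BT.node (nat_lit 9989056) (BT.leaf (nat_lit 28689185)) (BT.leaf (nat_lit 39022597))) (BT.node (nat_lit 9989184) (BT.leaf (nat_lit 37719821)) (BT.leaf (nat_lit 28676621)))))) (BT.node (nat_lit 9989760) (BT.node (nat_lit 9989504) (BT.node (nat_lit 9989376) (BT.node (nat_lit 9989312) (BT.leaf (nat_lit 39921677)) (BT.leaf (nat_lit 37719817))) (BT.node (nat_lit 9989440) (BT.leaf (nat_lit 39921689)) (BT.leaf (nat_lit 46143777)))) (BT.node (nat_lit 9989632) (BT.node (nat_lit 9989568) (BT.leaf (nat_lit 37719833)) (BT.leaf (nat_lit 37719837))) (BT.node (nat_lit 9989696) (BT.leaf (nat_lit 30410001)) (BT.leaf (nat_lit 30410005))))) (BT.node (nat_lit 9989953) (BT.node (nat_lit 9989888) (BT.node (nat_lit 9989824) (BT.leaf (nat_lit 39568413)) (BT.leaf (nat_lit 28689425))) (BT.node (nat_lit 9989952) (BT.leaf (nat_lit 31435025)) (BT.leaf (nat_lit 31435041)))) (BT.node (nat_lit 9990080) (BT.node (nat_lit 9990016) (BT.leaf (nat_lit 675832)) (BT.leaf (nat_lit 32120853))) (BT.node (nat_lit 9990144) (BT.leaf (nat_lit 32120857)) (BT.leaf (nat_lit 38451217))))))) (BT.node (nat_lit 9991040) (BT.node (nat_lit 9990592) (BT.node (nat_lit 9990402) (BT.node (nat_lit 9990336) (BT.node (nat_lit 9990272) (BT.leaf (nat_lit 39014165)) (BT.leaf (nat_lit 39962381))) (BT.node (nat_lit 9990400) (BT.leaf (nat_lit 47042061)) (BT.leaf (nat_lit 39949317)))) (BT.node (nat_lit 9990464) (BT.node (nat_lit 9990405) (BT.leaf (nat_lit 759152)) (BT.leaf (nat_lit 759152))) (BT.node (nat_lit 9990528) (BT.leaf (nat_lit 39961625)) (BT.leaf (nat_lit 40117765))))) (BT.node (nat_lit 9990848) (BT.node (nat_lit 9990720) (BT.node (nat_lit 9990656) (BT.leaf (nat_lit 40141061)) (BT.leaf (nat_lit 40117781))) (BT.node (nat_lit 9990784) (BT.leaf (nat_lit 47051021)) (BT.leaf (nat_lit 28677397)))) (BT.node (nat_lit 9990912) (BT.node (nat_lit 9990856) (BT.leaf (nat_lit 32280841)) (BT.leaf (nat_lit 775292))) (BT.node (nat_lit 9990976) (BT.leaf (nat_lit 50959649)) (BT.leaf (nat_lit 28689689)))))) (BT.node (nat_lit 9991424) (BT.node (nat_lit 9991232) (BT.node (nat_lit 9991168) (BT.node (nat_lit 9991104) (BT.leaf (nat_lit 46914061)) (BT.leaf (nat_lit 28690205))) (BT.node (nat_lit 9991175) (BT.leaf (nat_lit 41777421)) (BT.leaf (nat_lit 675868)))) (BT.node (nat_lit 9991360) (BT.node (nat_lit 9991296) (BT.leaf (nat_lit 28689693)) (BT.leaf (nat_lit 30684177))) (BT.node (nat_lit 9991368) (BT.leaf (nat_lit 30684181)) (BT.leaf (nat_lit 775800))))) (BT.node (nat_lit 9991556) (BT.node (nat_lit 9991552) (BT.node (nat_lit 9991488) (BT.leaf (nat_lit 28690201)) (BT.leaf (nat_lit 28690453))) (BT.node (nat_lit 9991553) (BT.leaf (nat_lit 39923229)) (BT.leaf (nat_lit 700124)))) (BT.node (nat_lit 9991616) (BT.node (nat_lit 9991560) (BT.leaf (nat_lit 700124)) (BT.leaf (nat_lit 700124))) (BT.node (nat_lit 9991680) (BT.leaf (nat_lit 32799505)) (BT.leaf (nat_lit 32799521)))))))) (BT.node (nat_lit 9993408) (BT.node (nat_lit 9992640) (BT.node (nat_lit 9992128) (BT.node (nat_lit 9992000) (BT.node (nat_lit 9991872) (BT.node (nat_lit 9991808) (BT.leaf (nat_lit 39567137)) (BT.leaf (nat_lit 46914073))) (BT.node (nat_lit 9991936) (BT.leaf (nat_lit 33485841)) (BT.leaf (nat_lit 28692753)))) (BT.node (nat_lit 9992069) (BT.node (nat_lit 9992065) (BT.leaf (nat_lit 41055001)) (BT.leaf (nat_lit 641480))) (BT.node (nat_lit 9992072) (BT.leaf (nat_lit 626388)) (BT.leaf (nat_lit 641480))))) (BT.node (nat_lit 9992384) (BT.node (nat_lit 9992256) (BT.node (nat_lit 9992192) (BT.leaf (nat_lit 28076049)) (BT.leaf (nat_lit 38985237))) (BT.node (nat_lit 9992320) (BT.leaf (nat_lit 49304069)) (BT.leaf (nat_lit 38985245)))) (BT.node (nat_lit 9992512) (BT.node (nat_lit 9992448) (BT.leaf (nat_lit 37932309)) (BT.leaf (nat_lit 44573453))) (BT.node (nat_lit 9992576) (BT.leaf (nat_lit 42887201)) (BT.leaf (nat_lit 32850977)))))) (BT.node (nat_lit 9993030) (BT.node (nat_lit 9992896) (BT.node (nat_lit 9992768) (BT.node (nat_lit 9992704) (BT.leaf (nat_lit 28695309)) (BT.leaf (nat_lit 32551433))) (BT.node (nat_lit 9992832) (BT.leaf (nat_lit 46114585)) (BT.leaf (nat_lit 30254357)))) (BT.node (nat_lit 9993024) (BT.node (nat_lit 9992960) (BT.leaf (nat_lit 31704857)) (BT.leaf (nat_lit 34933777))) (BT.node (nat_lit 9993029) (BT.leaf (nat_lit 45908753)) (BT.leaf (nat_lit 737804))))) (BT.node (nat_lit 9993152) (BT.node (nat_lit 9993088) (BT.node (nat_lit 9993031) (BT.leaf (nat_lit 737804)) (BT.leaf (nat_lit 737804))) (BT.node (nat_lit 9993096) (BT.leaf (nat_lit 45908757)) (BT.leaf (nat_lit 695052)))) (BT.node (nat_lit 9993280) (BT.node (nat_lit 9993216) (BT.leaf (nat_lit 39590677)) (BT.leaf (nat_lit 39591185))) (BT.node (nat_lit 9993344) (BT.leaf (nat_lit 30691077)) (BT.leaf (nat_lit 42489101))))))) (BT.node (nat_lit 9994304) (BT.node (nat_lit 9993920) (BT.node (nat_lit 9993664) (BT.node (nat_lit 9993536) (BT.node (nat_lit 9993472) (BT.leaf (nat_lit 30691093)) (BT.leaf (nat_lit 28695325))) (BT.node (nat_lit 9993600) (BT.leaf (nat_lit 42490901)) (BT.leaf (nat_lit 40143889)))) (BT.node (nat_lit 9993792) (BT.node (nat_lit 9993728) (BT.leaf (nat_lit 42490389)) (BT.leaf (nat_lit 28695321))) (BT.node (nat_lit 9993856) (BT.leaf (nat_lit 43584789)) (BT.leaf (nat_lit 43584793))))) (BT.node (nat_lit 9994114) (BT.node (nat_lit 9994048) (BT.node (nat_lit 9993984) (BT.leaf (nat_lit 43584797)) (BT.leaf (nat_lit 32051729))) (BT.node (nat_lit 9994112) (BT.leaf (nat_lit 28697121)) (BT.leaf (nat_lit 42608157)))) (BT.node (nat_lit 9994176) (BT.node (nat_lit 9994116) (BT.leaf (nat_lit 703716)) (BT.leaf (nat_lit 703716))) (BT.node (nat_lit 9994240) (BT.leaf (nat_lit 35027477)) (BT.leaf (nat_lit 28694553)))))) (BT.node (nat_lit 9994752) (BT.node (nat_lit 9994503) (BT.node (nat_lit 9994432) (BT.node (nat_lit 9994368) (BT.leaf (nat_lit 40625157)) (BT.leaf (nat_lit 28671517))) (BT.node (nat_lit 9994496) (BT.leaf (nat_lit 28694557)) (BT.leaf (nat_lit 32600081)))) (BT.node (nat_lit 9994624) (BT.node (nat_lit 9994560) (BT.leaf (nat_lit 767932)) (BT.leaf (nat_lit 28697101))) (BT.node (nat_lit 9994688) (BT.leaf (nat_lit 44483093)) (BT.leaf (nat_lit 28697097))))) (BT.node (nat_lit 9995008) (BT.node (nat_lit 9994880) (BT.node (nat_lit 9994816) (BT.leaf (nat_lit 39982861)) (BT.leaf (nat_lit 31684637))) (BT.node (nat_lit 9994944) (BT.leaf (nat_lit 42414349)) (BT.leaf (nat_lit 31676945)))) (BT.node (nat_lit 9995136) (BT.node (nat_lit 9995072) (BT.leaf (nat_lit 31676949)) (BT.leaf (nat_lit 42414365))) (BT.node (nat_lit 9995200) (BT.leaf (nat_lit 32565521)) (BT.leaf (nat_lit 32565537)))))))))) (BT.node (nat_lit 10002752) (BT.node (nat_lit 9998980) (BT.node (nat_lit 9997120) (BT.node (nat_lit 9996160) (BT.node (nat_lit 9995712) (BT.node (nat_lit 9995520) (BT.node (nat_lit 9995392) (BT.node (nat_lit 9995328) (BT.leaf (nat_lit 49181205)) (BT.leaf (nat_lit 29328405))) (BT.node (nat_lit 9995456) (BT.leaf (nat_lit 48183577)) (BT.leaf (nat_lit 31683865)))) (BT.node (nat_lit 9995588) (BT.node (nat_lit 9995584) (BT.leaf (nat_lit 41305109)) (BT.leaf (nat_lit 28694809))) (BT.node (nat_lit 9995648) (BT.leaf (nat_lit 695048)) (BT.leaf (nat_lit 52257813))))) (BT.node (nat_lit 9995907) (BT.node (nat_lit 9995840) (BT.node (nat_lit 9995776) (BT.leaf (nat_lit 40170773)) (BT.leaf (nat_lit 41605409))) (BT.node (nat_lit 9995904) (BT.leaf (nat_lit 29037589)) (BT.leaf (nat_lit 47901197)))) (BT.node (nat_lit 9996032) (BT.node (nat_lit 9995968) (BT.leaf (nat_lit 737812)) (BT.leaf (nat_lit 29037841))) (BT.node (nat_lit 9996096) (BT.leaf (nat_lit 51435297)) (BT.leaf (nat_lit 31826453)))))) (BT.node (nat_lit 9996672) (BT.node (nat_lit 9996416) (BT.node (nat_lit 9996288) (BT.node (nat_lit 9996224) (BT.leaf (nat_lit 31828233)) (BT.leaf (nat_lit 40336401))) (BT.node (nat_lit 9996352) (BT.leaf (nat_lit 39992609)) (BT.leaf (nat_lit 51829785)))) (BT.node (nat_lit 9996544) (BT.node (nat_lit 9996480) (BT.leaf (nat_lit 51829789)) (BT.leaf (nat_lit 49401377))) (BT.node (nat_lit 9996608) (BT.leaf (nat_lit 45162261)) (BT.leaf (nat_lit 39557653))))) (BT.node (nat_lit 9996864) (BT.node (nat_lit 9996736) (BT.node (nat_lit 9996673) (BT.leaf (nat_lit 39986441)) (BT.leaf (nat_lit 769556))) (BT.node (nat_lit 9996800) (BT.leaf (nat_lit 31706129)) (BT.leaf (nat_lit 39999501)))) (BT.node (nat_lit 9996992) (BT.node (nat_lit 9996928) (BT.leaf (nat_lit 39997973)) (BT.leaf (nat_lit 38306081))) (BT.node (nat_lit 9997056) (BT.leaf (nat_lit 29454353)) (BT.leaf (nat_lit 38268449))))))) (BT.node (nat_lit 9998144) (BT.node (nat_lit 9997632) (BT.node (nat_lit 9997376) (BT.node (nat_lit 9997248) (BT.node (nat_lit 9997184) (BT.leaf (nat_lit 38138145)) (BT.leaf (nat_lit 51117849))) (BT.node (nat_lit 9997312) (BT.leaf (nat_lit 30252813)) (BT.leaf (nat_lit 38170145)))) (BT.node (nat_lit 9997504) (BT.node (nat_lit 9997440) (BT.leaf (nat_lit 39034629)) (BT.leaf (nat_lit 28700933))) (BT.node (nat_lit 9997568) (BT.leaf (nat_lit 32321557)) (BT.leaf (nat_lit 28697881))))) (BT.node (nat_lit 9997952) (BT.node (nat_lit 9997760) (BT.node (nat_lit 9997696) (BT.leaf (nat_lit 31030801)) (BT.leaf (nat_lit 30253333))) (BT.node (nat_lit 9997888) (BT.leaf (nat_lit 46246933)) (BT.leaf (nat_lit 43530257)))) (BT.node (nat_lit 9998080) (BT.node (nat_lit 9998016) (BT.leaf (nat_lit 29572381)) (BT.leaf (nat_lit 30403333))) (BT.node (nat_lit 9998086) (BT.leaf (nat_lit 30294537)) (BT.leaf (nat_lit 749448)))))) (BT.node (nat_lit 9998528) (BT.node (nat_lit 9998336) (BT.node (nat_lit 9998272) (BT.node (nat_lit 9998208) (BT.leaf (nat_lit 43440645)) (BT.leaf (nat_lit 28700433))) (BT.node (nat_lit 9998279) (BT.leaf (nat_lit 28700177)) (BT.leaf (nat_lit 711596)))) (BT.node (nat_lit 9998400) (BT.node (nat_lit 9998338) (BT.leaf (nat_lit 30692109)) (BT.leaf (nat_lit 708188))) (BT.node (nat_lit 9998464) (BT.leaf (nat_lit 45323805)) (BT.leaf (nat_lit 36326405))))) (BT.node (nat_lit 9998784) (BT.node (nat_lit 9998656) (BT.node (nat_lit 9998592) (BT.leaf (nat_lit 36326409)) (BT.leaf (nat_lit 36326413))) (BT.node (nat_lit 9998720) (BT.leaf (nat_lit 32810249)) (BT.leaf (nat_lit 36326425)))) (BT.node (nat_lit 9998912) (BT.node (nat_lit 9998848) (BT.leaf (nat_lit 30253597)) (BT.leaf (nat_lit 45862417))) (BT.node (nat_lit 9998976) (BT.leaf (nat_lit 32874005)) (BT.leaf (nat_lit 30692373)))))))) (BT.node (nat_lit 10000896) (BT.node (nat_lit 10000000) (BT.node (nat_lit 9999488) (BT.node (nat_lit 9999232) (BT.node (nat_lit 9999040) (BT.node (nat_lit 9998984) (BT.leaf (nat_lit 776544)) (BT.leaf (nat_lit 776544))) (BT.node (nat_lit 9999168) (BT.leaf (nat_lit 42409489)) (BT.leaf (nat_lit 31995409)))) (BT.node (nat_lit 9999360) (BT.node (nat_lit 9999296) (BT.leaf (nat_lit 34478113)) (BT.leaf (nat_lit 39421449))) (BT.node (nat_lit 9999424) (BT.leaf (nat_lit 44917009)) (BT.leaf (nat_lit 39430425))))) (BT.node (nat_lit 9999744) (BT.node (nat_lit 9999616) (BT.node (nat_lit 9999552) (BT.leaf (nat_lit 39430429)) (BT.leaf (nat_lit 39421453))) (BT.node (nat_lit 9999680) (BT.leaf (nat_lit 31995161)) (BT.leaf (nat_lit 31995165)))) (BT.node (nat_lit 9999872) (BT.node (nat_lit 9999808) (BT.leaf (nat_lit 46726937)) (BT.leaf (nat_lit 38969361))) (BT.node (nat_lit 9999936) (BT.leaf (nat_lit 38969365)) (BT.leaf (nat_lit 39421469)))))) (BT.node (nat_lit 10000454) (BT.node (nat_lit 10000256) (BT.node (nat_lit 10000128) (BT.node (nat_lit 10000064) (BT.leaf (nat_lit 39429381)) (BT.leaf (nat_lit 39988233))) (BT.node (nat_lit 10000192) (BT.leaf (nat_lit 39421465)) (BT.leaf (nat_lit 44277509)))) (BT.node (nat_lit 10000384) (BT.node (nat_lit 10000320) (BT.leaf (nat_lit 39987469)) (BT.leaf (nat_lit 44277521))) (BT.node (nat_lit 10000448) (BT.leaf (nat_lit 44277537)) (BT.leaf (nat_lit 44521745))))) (BT.node (nat_lit 10000640) (BT.node (nat_lit 10000512) (BT.node (nat_lit 10000456) (BT.leaf (nat_lit 773728)) (BT.leaf (nat_lit 773728))) (BT.node (nat_lit 10000576) (BT.leaf (nat_lit 44522013)) (BT.leaf (nat_lit 45589253)))) (BT.node (nat_lit 10000768) (BT.node (nat_lit 10000704) (BT.leaf (nat_lit 44694545)) (BT.leaf (nat_lit 31709717))) (BT.node (nat_lit 10000832) (BT.leaf (nat_lit 45690897)) (BT.leaf (nat_lit 44524309))))))) (BT.node (nat_lit 10001797) (BT.node (nat_lit 10001408) (BT.node (nat_lit 10001152) (BT.node (nat_lit 10001024) (BT.node (nat_lit 10000960) (BT.leaf (nat_lit 29153561)) (BT.leaf (nat_lit 29153565))) (BT.node (nat_lit 10001088) (BT.leaf (nat_lit 39336969)) (BT.leaf (nat_lit 39336973)))) (BT.node (nat_lit 10001280) (BT.node (nat_lit 10001216) (BT.leaf (nat_lit 39336985)) (BT.leaf (nat_lit 39336989))) (BT.node (nat_lit 10001344) (BT.leaf (nat_lit 28709653)) (BT.leaf (nat_lit 29301017))))) (BT.node (nat_lit 10001664) (BT.node (nat_lit 10001536) (BT.node (nat_lit 10001472) (BT.leaf (nat_lit 29301021)) (BT.leaf (nat_lit 32071945))) (BT.node (nat_lit 10001600) (BT.leaf (nat_lit 31916557)) (BT.leaf (nat_lit 40893457)))) (BT.node (nat_lit 10001792) (BT.node (nat_lit 10001728) (BT.leaf (nat_lit 29365017)) (BT.leaf (nat_lit 29365021))) (BT.node (nat_lit 10001793) (BT.leaf (nat_lit 28416017)) (BT.leaf (nat_lit 732888)))))) (BT.node (nat_lit 10002304) (BT.node (nat_lit 10002048) (BT.node (nat_lit 10001920) (BT.node (nat_lit 10001856) (BT.leaf (nat_lit 732888)) (BT.leaf (nat_lit 28428049))) (BT.node (nat_lit 10001984) (BT.leaf (nat_lit 33906453)) (BT.leaf (nat_lit 33906457)))) (BT.node (nat_lit 10002176) (BT.node (nat_lit 10002112) (BT.leaf (nat_lit 33906461)) (BT.leaf (nat_lit 28708881))) (BT.node (nat_lit 10002240) (BT.leaf (nat_lit 31999241)) (BT.leaf (nat_lit 40242437))))) (BT.node (nat_lit 10002500) (BT.node (nat_lit 10002432) (BT.node (nat_lit 10002368) (BT.leaf (nat_lit 39313181)) (BT.leaf (nat_lit 39926537))) (BT.node (nat_lit 10002496) (BT.leaf (nat_lit 29039121)) (BT.leaf (nat_lit 40902661)))) (BT.node (nat_lit 10002624) (BT.node (nat_lit 10002560) (BT.leaf (nat_lit 651116)) (BT.leaf (nat_lit 28261917))) (BT.node (nat_lit 10002688) (BT.leaf (nat_lit 47929361)) (BT.leaf (nat_lit 39009305))))))))) (BT.node (nat_lit 10006784) (BT.node (nat_lit 10004672) (BT.node (nat_lit 10003776) (BT.node (nat_lit 10003264) (BT.node (nat_lit 10003008) (BT.node (nat_lit 10002880) (BT.node (nat_lit 10002816) (BT.leaf (nat_lit 41514017)) (BT.leaf (nat_lit 43278613))) (BT.node (nat_lit 10002944) (BT.leaf (nat_lit 39916565)) (BT.leaf (nat_lit 39009285)))) (BT.node (nat_lit 10003136) (BT.node (nat_lit 10003072) (BT.leaf (nat_lit 49304853)) (BT.leaf (nat_lit 42258973))) (BT.node (nat_lit 10003200) (BT.leaf (nat_lit 39933201)) (BT.leaf (nat_lit 36318469))))) (BT.node (nat_lit 10003520) (BT.node (nat_lit 10003392) (BT.node (nat_lit 10003328) (BT.leaf (nat_lit 36318485)) (BT.leaf (nat_lit 41949445))) (BT.node (nat_lit 10003456) (BT.leaf (nat_lit 42968349)) (BT.leaf (nat_lit 45269001)))) (BT.node (nat_lit 10003648) (BT.node (nat_lit 10003584) (BT.leaf (nat_lit 41788689)) (BT.leaf (nat_lit 38581005))) (BT.node (nat_lit 10003712) (BT.leaf (nat_lit 42342405)) (BT.leaf (nat_lit 30679573)))))) (BT.node (nat_lit 10004288) (BT.node (nat_lit 10004032) (BT.node (nat_lit 10003904) (BT.node (nat_lit 10003840) (BT.leaf (nat_lit 30679577)) (BT.leaf (nat_lit 30679581))) (BT.node (nat_lit 10003968) (BT.leaf (nat_lit 40654341)) (BT.leaf (nat_lit 45712645)))) (BT.node (nat_lit 10004160) (BT.node (nat_lit 10004096) (BT.leaf (nat_lit 36331781)) (BT.leaf (nat_lit 38159109))) (BT.node (nat_lit 10004224) (BT.leaf (nat_lit 41104669)) (BT.leaf (nat_lit 40013069))))) (BT.node (nat_lit 10004416) (BT.node (nat_lit 10004295) (BT.node (nat_lit 10004290) (BT.leaf (nat_lit 36331809)) (BT.leaf (nat_lit 640912))) (BT.node (nat_lit 10004352) (BT.leaf (nat_lit 640912)) (BT.leaf (nat_lit 28826641)))) (BT.node (nat_lit 10004544) (BT.node (nat_lit 10004480) (BT.leaf (nat_lit 32688657)) (BT.leaf (nat_lit 42404893))) (BT.node (nat_lit 10004608) (BT.leaf (nat_lit 30336785)) (BT.leaf (nat_lit 30336789))))))) (BT.node (nat_lit 10005760) (BT.node (nat_lit 10005312) (BT.node (nat_lit 10004992) (BT.node (nat_lit 10004864) (BT.node (nat_lit 10004800) (BT.leaf (nat_lit 28714261)) (BT.leaf (nat_lit 38748693))) (BT.node (nat_lit 10004928) (BT.leaf (nat_lit 30411541)) (BT.leaf (nat_lit 30411545)))) (BT.node (nat_lit 10005184) (BT.node (nat_lit 10005056) (BT.leaf (nat_lit 30411549)) (BT.leaf (nat_lit 40013085))) (BT.node (nat_lit 10005248) (BT.leaf (nat_lit 30034961)) (BT.leaf (nat_lit 33004049))))) (BT.node (nat_lit 10005568) (BT.node (nat_lit 10005440) (BT.node (nat_lit 10005376) (BT.leaf (nat_lit 34763553)) (BT.leaf (nat_lit 38468377))) (BT.node (nat_lit 10005504) (BT.leaf (nat_lit 38468381)) (BT.leaf (nat_lit 33918733)))) (BT.node (nat_lit 10005632) (BT.node (nat_lit 10005572) (BT.leaf (nat_lit 32879113)) (BT.leaf (nat_lit 632836))) (BT.node (nat_lit 10005696) (BT.leaf (nat_lit 30354449)) (BT.leaf (nat_lit 49116185)))))) (BT.node (nat_lit 10006272) (BT.node (nat_lit 10006016) (BT.node (nat_lit 10005888) (BT.node (nat_lit 10005824) (BT.leaf (nat_lit 28945673)) (BT.leaf (nat_lit 47402525))) (BT.node (nat_lit 10005952) (BT.leaf (nat_lit 49430305)) (BT.leaf (nat_lit 47402505)))) (BT.node (nat_lit 10006144) (BT.node (nat_lit 10006080) (BT.leaf (nat_lit 28945693)) (BT.leaf (nat_lit 31172117))) (BT.node (nat_lit 10006208) (BT.leaf (nat_lit 28718109)) (BT.leaf (nat_lit 40057873))))) (BT.node (nat_lit 10006528) (BT.node (nat_lit 10006400) (BT.node (nat_lit 10006336) (BT.leaf (nat_lit 40912149)) (BT.leaf (nat_lit 34415113))) (BT.node (nat_lit 10006464) (BT.leaf (nat_lit 33736205)) (BT.leaf (nat_lit 40033797)))) (BT.node (nat_lit 10006656) (BT.node (nat_lit 10006592) (BT.leaf (nat_lit 48913173)) (BT.leaf (nat_lit 50504965))) (BT.node (nat_lit 10006720) (BT.leaf (nat_lit 40061193)) (BT.leaf (nat_lit 40061201)))))))) (BT.node (nat_lit 10008768) (BT.node (nat_lit 10007808) (BT.node (nat_lit 10007296) (BT.node (nat_lit 10007040) (BT.node (nat_lit 10006912) (BT.node (nat_lit 10006848) (BT.leaf (nat_lit 50669081)) (BT.leaf (nat_lit 29317645))) (BT.node (nat_lit 10006976) (BT.leaf (nat_lit 28720145)) (BT.leaf (nat_lit 37996825)))) (BT.node (nat_lit 10007168) (BT.node (nat_lit 10007104) (BT.leaf (nat_lit 37996829)) (BT.leaf (nat_lit 35372297))) (BT.node (nat_lit 10007232) (BT.leaf (nat_lit 28574985)) (BT.leaf (nat_lit 40030217))))) (BT.node (nat_lit 10007552) (BT.node (nat_lit 10007424) (BT.node (nat_lit 10007360) (BT.leaf (nat_lit 47064597)) (BT.leaf (nat_lit 28717077))) (BT.node (nat_lit 10007488) (BT.leaf (nat_lit 28721161)) (BT.leaf (nat_lit 30465301)))) (BT.node (nat_lit 10007680) (BT.node (nat_lit 10007616) (BT.leaf (nat_lit 47403541)) (BT.leaf (nat_lit 40532245))) (BT.node (nat_lit 10007744) (BT.leaf (nat_lit 40030489)) (BT.leaf (nat_lit 28575765)))))) (BT.node (nat_lit 10008256) (BT.node (nat_lit 10008064) (BT.node (nat_lit 10007936) (BT.node (nat_lit 10007872) (BT.leaf (nat_lit 33737241)) (BT.leaf (nat_lit 32181777))) (BT.node (nat_lit 10008000) (BT.leaf (nat_lit 47064349)) (BT.leaf (nat_lit 28721177)))) (BT.node (nat_lit 10008133) (BT.node (nat_lit 10008128) (BT.leaf (nat_lit 47064853)) (BT.leaf (nat_lit 30286597))) (BT.node (nat_lit 10008192) (BT.leaf (nat_lit 642584)) (BT.leaf (nat_lit 32953629))))) (BT.node (nat_lit 10008512) (BT.node (nat_lit 10008384) (BT.node (nat_lit 10008320) (BT.leaf (nat_lit 32953633)) (BT.leaf (nat_lit 35404821))) (BT.node (nat_lit 10008448) (BT.leaf (nat_lit 35404829)) (BT.leaf (nat_lit 30465305)))) (BT.node (nat_lit 10008640) (BT.node (nat_lit 10008576) (BT.leaf (nat_lit 30465309)) (BT.leaf (nat_lit 40025369))) (BT.node (nat_lit 10008704) (BT.leaf (nat_lit 40992781)) (BT.leaf (nat_lit 38265109))))))) (BT.node (nat_lit 10009728) (BT.node (nat_lit 10009216) (BT.node (nat_lit 10008968) (BT.node (nat_lit 10008896) (BT.node (nat_lit 10008832) (BT.leaf (nat_lit 29302801)) (BT.leaf (nat_lit 47403293))) (BT.node (nat_lit 10008960) (BT.leaf (nat_lit 35138329)) (BT.leaf (nat_lit 28721945)))) (BT.node (nat_lit 10009088) (BT.node (nat_lit 10009024) (BT.leaf (nat_lit 680084)) (BT.leaf (nat_lit 35733001))) (BT.node (nat_lit 10009152) (BT.leaf (nat_lit 50721301)) (BT.leaf (nat_lit 30365701))))) (BT.node (nat_lit 10009472) (BT.node (nat_lit 10009344) (BT.node (nat_lit 10009280) (BT.leaf (nat_lit 30365705)) (BT.leaf (nat_lit 30365709))) (BT.node (nat_lit 10009408) (BT.leaf (nat_lit 28723221)) (BT.leaf (nat_lit 28991237)))) (BT.node (nat_lit 10009600) (BT.node (nat_lit 10009536) (BT.leaf (nat_lit 28722721)) (BT.leaf (nat_lit 30364945))) (BT.node (nat_lit 10009664) (BT.leaf (nat_lit 50270753)) (BT.leaf (nat_lit 46989573)))))) (BT.node (nat_lit 10010240) (BT.node (nat_lit 10009984) (BT.node (nat_lit 10009856) (BT.node (nat_lit 10009792) (BT.leaf (nat_lit 30357785)) (BT.leaf (nat_lit 30357789))) (BT.node (nat_lit 10009920) (BT.leaf (nat_lit 28729113)) (BT.leaf (nat_lit 41588753)))) (BT.node (nat_lit 10010112) (BT.node (nat_lit 10010048) (BT.leaf (nat_lit 37749013)) (BT.leaf (nat_lit 28729629))) (BT.node (nat_lit 10010176) (BT.leaf (nat_lit 34081565)) (BT.leaf (nat_lit 28729117))))) (BT.node (nat_lit 10010496) (BT.node (nat_lit 10010368) (BT.node (nat_lit 10010304) (BT.leaf (nat_lit 31633173)) (BT.leaf (nat_lit 28729625))) (BT.node (nat_lit 10010432) (BT.leaf (nat_lit 40719877)) (BT.leaf (nat_lit 28748557)))) (BT.node (nat_lit 10010624) (BT.node (nat_lit 10010560) (BT.leaf (nat_lit 42115869)) (BT.leaf (nat_lit 28482065))) (BT.node (nat_lit 10010688) (BT.leaf (nat_lit 45758725)) (BT.leaf (nat_lit 28740377)))))))))))))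
noncomputable def big0_e83968 : BT Nat := (BT.node (nat_lit 10072704) (BT.node (nat_lit 10041216) (BT.node (nat_lit 10026048) (BT.node (nat_lit 10018240) (BT.node (nat_lit 10014400) (BT.node (nat_lit 10012672) (BT.node (nat_lit 10011776) (BT.node (nat_lit 10011264) (BT.node (nat_lit 10011008) (BT.node (nat_lit 10010880) (BT.node (nat_lit 10010816) (BT.leaf (nat_lit 31681557)) (BT.leaf (nat_lit 31681565))) (BT.node (nat_lit 10010944) (BT.leaf (nat_lit 28750089)) (BT.leaf (nat_lit 39942917)))) (BT.node (nat_lit 10011136) (BT.node (nat_lit 10011072) (BT.leaf (nat_lit 44148749)) (BT.leaf (nat_lit 41909765))) (BT.node (nat_lit 10011200) (BT.leaf (nat_lit 41909781)) (BT.leaf (nat_lit 28741393))))) (BT.node (nat_lit 10011520) (BT.node (nat_lit 10011392) (BT.node (nat_lit 10011328) (BT.leaf (nat_lit 40060429)) (BT.leaf (nat_lit 32450589))) (BT.node (nat_lit 10011456) (BT.leaf (nat_lit 41173525)) (BT.leaf (nat_lit 29959685)))) (BT.node (nat_lit 10011648) (BT.node (nat_lit 10011584) (BT.leaf (nat_lit 29959701)) (BT.leaf (nat_lit 33127189))) (BT.node (nat_lit 10011712) (BT.leaf (nat_lit 40046345)) (BT.leaf (nat_lit 46475797)))))) (BT.node (nat_lit 10012160) (BT.node (nat_lit 10011972) (BT.node (nat_lit 10011904) (BT.node (nat_lit 10011840) (BT.leaf (nat_lit 28744733)) (BT.leaf (nat_lit 31419413))) (BT.node (nat_lit 10011968) (BT.leaf (nat_lit 41702169)) (BT.leaf (nat_lit 41702173)))) (BT.node (nat_lit 10012036) (BT.node (nat_lit 10012032) (BT.leaf (nat_lit 760752)) (BT.leaf (nat_lit 28939029))) (BT.node (nat_lit 10012096) (BT.leaf (nat_lit 760768)) (BT.leaf (nat_lit 37071369))))) (BT.node (nat_lit 10012416) (BT.node (nat_lit 10012288) (BT.node (nat_lit 10012224) (BT.leaf (nat_lit 48689433)) (BT.leaf (nat_lit 30351377))) (BT.node (nat_lit 10012352) (BT.leaf (nat_lit 28835861)) (BT.leaf (nat_lit 46921737)))) (BT.node (nat_lit 10012544) (BT.node (nat_lit 10012480) (BT.leaf (nat_lit 38115105)) (BT.leaf (nat_lit 29274897))) (BT.node (nat_lit 10012608) (BT.leaf (nat_lit 28762641)) (BT.leaf (nat_lit 38989585))))))) (BT.node (nat_lit 10013573) (BT.node (nat_lit 10013120) (BT.node (nat_lit 10012928) (BT.node (nat_lit 10012800) (BT.node (nat_lit 10012736) (BT.leaf (nat_lit 28746257)) (BT.leaf (nat_lit 30718485))) (BT.node (nat_lit 10012864) (BT.leaf (nat_lit 30718489)) (BT.leaf (nat_lit 39220237)))) (BT.node (nat_lit 10012996) (BT.node (nat_lit 10012992) (BT.leaf (nat_lit 38261513)) (BT.leaf (nat_lit 38261517))) (BT.node (nat_lit 10013056) (BT.leaf (nat_lit 737108)) (BT.leaf (nat_lit 45251089))))) (BT.node (nat_lit 10013376) (BT.node (nat_lit 10013248) (BT.node (nat_lit 10013184) (BT.leaf (nat_lit 38261529)) (BT.leaf (nat_lit 38261533))) (BT.node (nat_lit 10013312) (BT.leaf (nat_lit 32449049)) (BT.leaf (nat_lit 40099613)))) (BT.node (nat_lit 10013504) (BT.node (nat_lit 10013440) (BT.leaf (nat_lit 28056857)) (BT.leaf (nat_lit 31125281))) (BT.node (nat_lit 10013568) (BT.leaf (nat_lit 32245273)) (BT.leaf (nat_lit 41415693)))))) (BT.node (nat_lit 10013952) (BT.node (nat_lit 10013824) (BT.node (nat_lit 10013696) (BT.node (nat_lit 10013632) (BT.leaf (nat_lit 745740)) (BT.leaf (nat_lit 38587425))) (BT.node (nat_lit 10013760) (BT.leaf (nat_lit 37824801)) (BT.leaf (nat_lit 33505813)))) (BT.node (nat_lit 10013891) (BT.node (nat_lit 10013888) (BT.leaf (nat_lit 32244761)) (BT.leaf (nat_lit 32244765))) (BT.node (nat_lit 10013892) (BT.leaf (nat_lit 682688)) (BT.leaf (nat_lit 682688))))) (BT.node (nat_lit 10014144) (BT.node (nat_lit 10014080) (BT.node (nat_lit 10014016) (BT.leaf (nat_lit 32450845)) (BT.leaf (nat_lit 28748317))) (BT.node (nat_lit 10014083) (BT.leaf (nat_lit 48370209)) (BT.leaf (nat_lit 807916)))) (BT.node (nat_lit 10014272) (BT.node (nat_lit 10014208) (BT.leaf (nat_lit 38538005)) (BT.leaf (nat_lit 28748825))) (BT.node (nat_lit 10014336) (BT.leaf (nat_lit 36234501)) (BT.leaf (nat_lit 38190853)))))))) (BT.node (nat_lit 10016256) (BT.node (nat_lit 10015424) (BT.node (nat_lit 10014912) (BT.node (nat_lit 10014656) (BT.node (nat_lit 10014528) (BT.node (nat_lit 10014464) (BT.leaf (nat_lit 34996245)) (BT.leaf (nat_lit 47129861))) (BT.node (nat_lit 10014592) (BT.leaf (nat_lit 43352089)) (BT.leaf (nat_lit 32453381)))) (BT.node (nat_lit 10014784) (BT.node (nat_lit 10014720) (BT.leaf (nat_lit 32057621)) (BT.leaf (nat_lit 39518485))) (BT.node (nat_lit 10014848) (BT.leaf (nat_lit 50253089)) (BT.leaf (nat_lit 30004997))))) (BT.node (nat_lit 10015168) (BT.node (nat_lit 10015040) (BT.node (nat_lit 10014976) (BT.leaf (nat_lit 32869141)) (BT.leaf (nat_lit 40556041))) (BT.node (nat_lit 10015104) (BT.leaf (nat_lit 45880609)) (BT.leaf (nat_lit 38212101)))) (BT.node (nat_lit 10015296) (BT.node (nat_lit 10015232) (BT.leaf (nat_lit 32193053)) (BT.leaf (nat_lit 40358929))) (BT.node (nat_lit 10015360) (BT.leaf (nat_lit 39575309)) (BT.leaf (nat_lit 31880221)))))) (BT.node (nat_lit 10015873) (BT.node (nat_lit 10015680) (BT.node (nat_lit 10015552) (BT.node (nat_lit 10015488) (BT.leaf (nat_lit 41228825)) (BT.leaf (nat_lit 30619677))) (BT.node (nat_lit 10015616) (BT.leaf (nat_lit 42888481)) (BT.leaf (nat_lit 39552281)))) (BT.node (nat_lit 10015808) (BT.node (nat_lit 10015744) (BT.leaf (nat_lit 39552285)) (BT.leaf (nat_lit 32132869))) (BT.node (nat_lit 10015872) (BT.leaf (nat_lit 31492873)) (BT.leaf (nat_lit 32675105))))) (BT.node (nat_lit 10016000) (BT.node (nat_lit 10015877) (BT.node (nat_lit 10015876) (BT.leaf (nat_lit 629368)) (BT.leaf (nat_lit 629368))) (BT.node (nat_lit 10015936) (BT.leaf (nat_lit 629368)) (BT.leaf (nat_lit 32132881)))) (BT.node (nat_lit 10016128) (BT.node (nat_lit 10016064) (BT.leaf (nat_lit 32132889)) (BT.leaf (nat_lit 32132893))) (BT.node (nat_lit 10016192) (BT.leaf (nat_lit 38768149)) (BT.leaf (nat_lit 43888669))))))) (BT.node (nat_lit 10017216) (BT.node (nat_lit 10016768) (BT.node (nat_lit 10016512) (BT.node (nat_lit 10016384) (BT.node (nat_lit 10016320) (BT.leaf (nat_lit 42363161)) (BT.leaf (nat_lit 45100813))) (BT.node (nat_lit 10016448) (BT.leaf (nat_lit 41175841)) (BT.leaf (nat_lit 28750621)))) (BT.node (nat_lit 10016640) (BT.node (nat_lit 10016576) (BT.leaf (nat_lit 45511173)) (BT.leaf (nat_lit 45836313))) (BT.node (nat_lit 10016704) (BT.leaf (nat_lit 34266901)) (BT.leaf (nat_lit 29485333))))) (BT.node (nat_lit 10017024) (BT.node (nat_lit 10016896) (BT.node (nat_lit 10016832) (BT.leaf (nat_lit 28752145)) (BT.leaf (nat_lit 28741905))) (BT.node (nat_lit 10016960) (BT.leaf (nat_lit 30211861)) (BT.leaf (nat_lit 38969101)))) (BT.node (nat_lit 10017152) (BT.node (nat_lit 10017088) (BT.leaf (nat_lit 28749841)) (BT.leaf (nat_lit 41299741))) (BT.node (nat_lit 10017157) (BT.leaf (nat_lit 29530641)) (BT.leaf (nat_lit 765156)))))) (BT.node (nat_lit 10017728) (BT.node (nat_lit 10017472) (BT.node (nat_lit 10017344) (BT.node (nat_lit 10017280) (BT.leaf (nat_lit 40068633)) (BT.leaf (nat_lit 37631257))) (BT.node (nat_lit 10017408) (BT.leaf (nat_lit 29531397)) (BT.leaf (nat_lit 41306897)))) (BT.node (nat_lit 10017600) (BT.node (nat_lit 10017536) (BT.leaf (nat_lit 30763529)) (BT.leaf (nat_lit 43232265))) (BT.node (nat_lit 10017664) (BT.leaf (nat_lit 33507613)) (BT.leaf (nat_lit 42123793))))) (BT.node (nat_lit 10017984) (BT.node (nat_lit 10017856) (BT.node (nat_lit 10017792) (BT.leaf (nat_lit 28753429)) (BT.leaf (nat_lit 45232673))) (BT.node (nat_lit 10017920) (BT.leaf (nat_lit 37936929)) (BT.leaf (nat_lit 42027789)))) (BT.node (nat_lit 10018112) (BT.node (nat_lit 10018048) (BT.leaf (nat_lit 45427469)) (BT.leaf (nat_lit 41821205))) (BT.node (nat_lit 10018176) (BT.leaf (nat_lit 29391901)) (BT.leaf (nat_lit 42534421))))))))) (BT.node (nat_lit 10022080) (BT.node (nat_lit 10020032) (BT.node (nat_lit 10019264) (BT.node (nat_lit 10018752) (BT.node (nat_lit 10018496) (BT.node (nat_lit 10018368) (BT.node (nat_lit 10018304) (BT.leaf (nat_lit 41122837)) (BT.leaf (nat_lit 40072985))) (BT.node (nat_lit 10018432) (BT.leaf (nat_lit 30955541)) (BT.leaf (nat_lit 29391629)))) (BT.node (nat_lit 10018624) (BT.node (nat_lit 10018560) (BT.leaf (nat_lit 41123849)) (BT.leaf (nat_lit 44968217))) (BT.node (nat_lit 10018688) (BT.leaf (nat_lit 44968221)) (BT.leaf (nat_lit 32317473))))) (BT.node (nat_lit 10019008) (BT.node (nat_lit 10018880) (BT.node (nat_lit 10018816) (BT.leaf (nat_lit 32536581)) (BT.leaf (nat_lit 41729569))) (BT.node (nat_lit 10018944) (BT.leaf (nat_lit 42181381)) (BT.leaf (nat_lit 30357525)))) (BT.node (nat_lit 10019136) (BT.node (nat_lit 10019072) (BT.leaf (nat_lit 45331717)) (BT.leaf (nat_lit 29819909))) (BT.node (nat_lit 10019200) (BT.leaf (nat_lit 28755985)) (BT.leaf (nat_lit 33915669)))))) (BT.node (nat_lit 10019712) (BT.node (nat_lit 10019461) (BT.node (nat_lit 10019392) (BT.node (nat_lit 10019328) (BT.leaf (nat_lit 34709765)) (BT.leaf (nat_lit 41526045))) (BT.node (nat_lit 10019456) (BT.leaf (nat_lit 38882821)) (BT.leaf (nat_lit 41779977)))) (BT.node (nat_lit 10019584) (BT.node (nat_lit 10019520) (BT.leaf (nat_lit 760828)) (BT.leaf (nat_lit 31064853))) (BT.node (nat_lit 10019648) (BT.leaf (nat_lit 40078089)) (BT.leaf (nat_lit 29037337))))) (BT.node (nat_lit 10019846) (BT.node (nat_lit 10019840) (BT.node (nat_lit 10019776) (BT.leaf (nat_lit 29037341)) (BT.leaf (nat_lit 29037345))) (BT.node (nat_lit 10019843) (BT.leaf (nat_lit 46175493)) (BT.leaf (nat_lit 633288)))) (BT.node (nat_lit 10019904) (BT.node (nat_lit 10019848) (BT.leaf (nat_lit 633288)) (BT.leaf (nat_lit 633288))) (BT.node (nat_lit 10019968) (BT.leaf (nat_lit 31343389)) (BT.leaf (nat_lit 31422725))))))) (BT.node (nat_lit 10021056) (BT.node (nat_lit 10020544) (BT.node (nat_lit 10020288) (BT.node (nat_lit 10020160) (BT.node (nat_lit 10020096) (BT.leaf (nat_lit 28757521)) (BT.leaf (nat_lit 28743697))) (BT.node (nat_lit 10020224) (BT.leaf (nat_lit 45519137)) (BT.leaf (nat_lit 45518881)))) (BT.node (nat_lit 10020416) (BT.node (nat_lit 10020352) (BT.leaf (nat_lit 32858373)) (BT.leaf (nat_lit 28762897))) (BT.node (nat_lit 10020480) (BT.leaf (nat_lit 29419025)) (BT.leaf (nat_lit 28442641))))) (BT.node (nat_lit 10020800) (BT.node (nat_lit 10020672) (BT.node (nat_lit 10020608) (BT.leaf (nat_lit 45871365)) (BT.leaf (nat_lit 37752853))) (BT.node (nat_lit 10020736) (BT.leaf (nat_lit 37752857)) (BT.leaf (nat_lit 37752861)))) (BT.node (nat_lit 10020928) (BT.node (nat_lit 10020864) (BT.leaf (nat_lit 29712409)) (BT.leaf (nat_lit 32851473))) (BT.node (nat_lit 10020992) (BT.leaf (nat_lit 39578905)) (BT.leaf (nat_lit 39753489)))))) (BT.node (nat_lit 10021568) (BT.node (nat_lit 10021312) (BT.node (nat_lit 10021184) (BT.node (nat_lit 10021120) (BT.leaf (nat_lit 49396513)) (BT.leaf (nat_lit 30350361))) (BT.node (nat_lit 10021248) (BT.leaf (nat_lit 30350365)) (BT.leaf (nat_lit 47626505)))) (BT.node (nat_lit 10021440) (BT.node (nat_lit 10021376) (BT.leaf (nat_lit 43930389)) (BT.leaf (nat_lit 28761873))) (BT.node (nat_lit 10021504) (BT.leaf (nat_lit 28761361)) (BT.leaf (nat_lit 28761105))))) (BT.node (nat_lit 10021824) (BT.node (nat_lit 10021696) (BT.node (nat_lit 10021632) (BT.leaf (nat_lit 45495833)) (BT.leaf (nat_lit 45495837))) (BT.node (nat_lit 10021760) (BT.leaf (nat_lit 34957329)) (BT.leaf (nat_lit 42605829)))) (BT.node (nat_lit 10021952) (BT.node (nat_lit 10021888) (BT.leaf (nat_lit 46932241)) (BT.leaf (nat_lit 29616921))) (BT.node (nat_lit 10022016) (BT.leaf (nat_lit 29616925)) (BT.leaf (nat_lit 45242117)))))))) (BT.node (nat_lit 10024000) (BT.node (nat_lit 10023104) (BT.node (nat_lit 10022720) (BT.node (nat_lit 10022464) (BT.node (nat_lit 10022336) (BT.node (nat_lit 10022208) (BT.leaf (nat_lit 42523169)) (BT.leaf (nat_lit 29646873))) (BT.node (nat_lit 10022400) (BT.leaf (nat_lit 41614613)) (BT.leaf (nat_lit 47644449)))) (BT.node (nat_lit 10022592) (BT.node (nat_lit 10022528) (BT.leaf (nat_lit 29613833)) (BT.leaf (nat_lit 29613837))) (BT.node (nat_lit 10022656) (BT.leaf (nat_lit 29613849)) (BT.leaf (nat_lit 29613853))))) (BT.node (nat_lit 10022853) (BT.node (nat_lit 10022848) (BT.node (nat_lit 10022784) (BT.leaf (nat_lit 29757973)) (BT.leaf (nat_lit 28763921))) (BT.node (nat_lit 10022849) (BT.leaf (nat_lit 40941061)) (BT.leaf (nat_lit 673156)))) (BT.node (nat_lit 10022976) (BT.node (nat_lit 10022912) (BT.leaf (nat_lit 673156)) (BT.leaf (nat_lit 39220241))) (BT.node (nat_lit 10023040) (BT.leaf (nat_lit 39220245)) (BT.leaf (nat_lit 29576977)))))) (BT.node (nat_lit 10023616) (BT.node (nat_lit 10023360) (BT.node (nat_lit 10023232) (BT.node (nat_lit 10023168) (BT.leaf (nat_lit 37993757)) (BT.leaf (nat_lit 37994257))) (BT.node (nat_lit 10023296) (BT.leaf (nat_lit 48420385)) (BT.leaf (nat_lit 30678553)))) (BT.node (nat_lit 10023488) (BT.node (nat_lit 10023424) (BT.leaf (nat_lit 30678557)) (BT.leaf (nat_lit 29726745))) (BT.node (nat_lit 10023552) (BT.leaf (nat_lit 37994261)) (BT.leaf (nat_lit 28758029))))) (BT.node (nat_lit 10023752) (BT.node (nat_lit 10023684) (BT.node (nat_lit 10023680) (BT.leaf (nat_lit 28764937)) (BT.leaf (nat_lit 40029205))) (BT.node (nat_lit 10023744) (BT.leaf (nat_lit 743592)) (BT.leaf (nat_lit 28746773)))) (BT.node (nat_lit 10023872) (BT.node (nat_lit 10023808) (BT.leaf (nat_lit 743600)) (BT.leaf (nat_lit 40029213))) (BT.node (nat_lit 10023936) (BT.leaf (nat_lit 29647137)) (BT.leaf (nat_lit 49702153))))))) (BT.node (nat_lit 10025024) (BT.node (nat_lit 10024512) (BT.node (nat_lit 10024256) (BT.node (nat_lit 10024128) (BT.node (nat_lit 10024064) (BT.leaf (nat_lit 40094989)) (BT.leaf (nat_lit 28837905))) (BT.node (nat_lit 10024192) (BT.leaf (nat_lit 28837909)) (BT.leaf (nat_lit 28765469)))) (BT.node (nat_lit 10024384) (BT.node (nat_lit 10024320) (BT.leaf (nat_lit 32457497)) (BT.leaf (nat_lit 41121041))) (BT.node (nat_lit 10024448) (BT.leaf (nat_lit 28945941)) (BT.leaf (nat_lit 28766225))))) (BT.node (nat_lit 10024768) (BT.node (nat_lit 10024640) (BT.node (nat_lit 10024576) (BT.leaf (nat_lit 39577617)) (BT.leaf (nat_lit 28958745))) (BT.node (nat_lit 10024704) (BT.leaf (nat_lit 28958749)) (BT.leaf (nat_lit 47179797)))) (BT.node (nat_lit 10024896) (BT.node (nat_lit 10024832) (BT.leaf (nat_lit 28747277)) (BT.leaf (nat_lit 40098829))) (BT.node (nat_lit 10024960) (BT.leaf (nat_lit 29616661)) (BT.leaf (nat_lit 39629089)))))) (BT.node (nat_lit 10025536) (BT.node (nat_lit 10025280) (BT.node (nat_lit 10025152) (BT.node (nat_lit 10025088) (BT.leaf (nat_lit 28768021)) (BT.leaf (nat_lit 30609689))) (BT.node (nat_lit 10025216) (BT.leaf (nat_lit 30609693)) (BT.leaf (nat_lit 34673685)))) (BT.node (nat_lit 10025408) (BT.node (nat_lit 10025344) (BT.leaf (nat_lit 47081241)) (BT.leaf (nat_lit 38908193))) (BT.node (nat_lit 10025472) (BT.leaf (nat_lit 28767521)) (BT.leaf (nat_lit 46282013))))) (BT.node (nat_lit 10025792) (BT.node (nat_lit 10025664) (BT.node (nat_lit 10025600) (BT.leaf (nat_lit 30964253)) (BT.leaf (nat_lit 43210517))) (BT.node (nat_lit 10025728) (BT.leaf (nat_lit 46685713)) (BT.leaf (nat_lit 29417493)))) (BT.node (nat_lit 10025920) (BT.node (nat_lit 10025856) (BT.leaf (nat_lit 32858393)) (BT.leaf (nat_lit 32858397))) (BT.node (nat_lit 10025984) (BT.leaf (nat_lit 28769565)) (BT.leaf (nat_lit 29421853)))))))))) (BT.node (nat_lit 10033600) (BT.node (nat_lit 10030016) (BT.node (nat_lit 10027968) (BT.node (nat_lit 10026944) (BT.node (nat_lit 10026432) (BT.node (nat_lit 10026184) (BT.node (nat_lit 10026176) (BT.node (nat_lit 10026112) (BT.leaf (nat_lit 28769561)) (BT.leaf (nat_lit 51638033))) (BT.node (nat_lit 10026177) (BT.leaf (nat_lit 41484317)) (BT.leaf (nat_lit 768388)))) (BT.node (nat_lit 10026304) (BT.node (nat_lit 10026240) (BT.leaf (nat_lit 768388)) (BT.leaf (nat_lit 27527953))) (BT.node (nat_lit 10026368) (BT.leaf (nat_lit 41887777)) (BT.leaf (nat_lit 32239621))))) (BT.node (nat_lit 10026688) (BT.node (nat_lit 10026560) (BT.node (nat_lit 10026496) (BT.leaf (nat_lit 28742417)) (BT.leaf (nat_lit 40868121))) (BT.node (nat_lit 10026624) (BT.leaf (nat_lit 40868125)) (BT.leaf (nat_lit 35653649)))) (BT.node (nat_lit 10026816) (BT.node (nat_lit 10026752) (BT.leaf (nat_lit 38395153)) (BT.leaf (nat_lit 43226385))) (BT.node (nat_lit 10026880) (BT.leaf (nat_lit 40503073)) (BT.leaf (nat_lit 34377241)))))) (BT.node (nat_lit 10027456) (BT.node (nat_lit 10027200) (BT.node (nat_lit 10027072) (BT.node (nat_lit 10027008) (BT.leaf (nat_lit 35014421)) (BT.leaf (nat_lit 28773917))) (BT.node (nat_lit 10027136) (BT.leaf (nat_lit 35014673)) (BT.leaf (nat_lit 35014677)))) (BT.node (nat_lit 10027328) (BT.node (nat_lit 10027264) (BT.leaf (nat_lit 28773913)) (BT.leaf (nat_lit 31629077))) (BT.node (nat_lit 10027392) (BT.leaf (nat_lit 30158089)) (BT.leaf (nat_lit 48889877))))) (BT.node (nat_lit 10027712) (BT.node (nat_lit 10027584) (BT.node (nat_lit 10027520) (BT.leaf (nat_lit 28774933)) (BT.leaf (nat_lit 30158105))) (BT.node (nat_lit 10027648) (BT.leaf (nat_lit 30158109)) (BT.leaf (nat_lit 51091221)))) (BT.node (nat_lit 10027840) (BT.node (nat_lit 10027776) (BT.leaf (nat_lit 28867089)) (BT.leaf (nat_lit 50542105))) (BT.node (nat_lit 10027904) (BT.leaf (nat_lit 40109081)) (BT.leaf (nat_lit 40107789))))))) (BT.node (nat_lit 10028994) (BT.node (nat_lit 10028544) (BT.node (nat_lit 10028288) (BT.node (nat_lit 10028096) (BT.node (nat_lit 10028032) (BT.leaf (nat_lit 30741521)) (BT.leaf (nat_lit 47097113))) (BT.node (nat_lit 10028160) (BT.leaf (nat_lit 28778525)) (BT.leaf (nat_lit 28776209)))) (BT.node (nat_lit 10028416) (BT.node (nat_lit 10028352) (BT.leaf (nat_lit 28778769)) (BT.leaf (nat_lit 31930645))) (BT.node (nat_lit 10028480) (BT.leaf (nat_lit 31930649)) (BT.leaf (nat_lit 31930653))))) (BT.node (nat_lit 10028800) (BT.node (nat_lit 10028672) (BT.node (nat_lit 10028608) (BT.leaf (nat_lit 28774417)) (BT.leaf (nat_lit 28781073))) (BT.node (nat_lit 10028736) (BT.leaf (nat_lit 28436753)) (BT.leaf (nat_lit 50970117)))) (BT.node (nat_lit 10028928) (BT.node (nat_lit 10028864) (BT.leaf (nat_lit 40642073)) (BT.leaf (nat_lit 28780817))) (BT.node (nat_lit 10028992) (BT.leaf (nat_lit 27841565)) (BT.leaf (nat_lit 37981973)))))) (BT.node (nat_lit 10029504) (BT.node (nat_lit 10029248) (BT.node (nat_lit 10029120) (BT.node (nat_lit 10029056) (BT.leaf (nat_lit 803940)) (BT.leaf (nat_lit 28781585))) (BT.node (nat_lit 10029184) (BT.leaf (nat_lit 28437009)) (BT.leaf (nat_lit 32467221)))) (BT.node (nat_lit 10029376) (BT.node (nat_lit 10029312) (BT.leaf (nat_lit 32467225)) (BT.leaf (nat_lit 32467229))) (BT.node (nat_lit 10029440) (BT.leaf (nat_lit 28782353)) (BT.leaf (nat_lit 39956257))))) (BT.node (nat_lit 10029760) (BT.node (nat_lit 10029632) (BT.node (nat_lit 10029568) (BT.leaf (nat_lit 28795161)) (BT.leaf (nat_lit 28795165))) (BT.node (nat_lit 10029696) (BT.leaf (nat_lit 37946889)) (BT.leaf (nat_lit 28937489)))) (BT.node (nat_lit 10029888) (BT.node (nat_lit 10029824) (BT.leaf (nat_lit 46420501)) (BT.leaf (nat_lit 32465185))) (BT.node (nat_lit 10029952) (BT.leaf (nat_lit 27976473)) (BT.leaf (nat_lit 42695429)))))))) (BT.node (nat_lit 10031688) (BT.node (nat_lit 10030848) (BT.node (nat_lit 10030469) (BT.node (nat_lit 10030272) (BT.node (nat_lit 10030144) (BT.node (nat_lit 10030080) (BT.leaf (nat_lit 32465697)) (BT.leaf (nat_lit 37946893))) (BT.node (nat_lit 10030208) (BT.leaf (nat_lit 33963017)) (BT.leaf (nat_lit 33963021)))) (BT.node (nat_lit 10030400) (BT.node (nat_lit 10030336) (BT.leaf (nat_lit 33963033)) (BT.leaf (nat_lit 50973957))) (BT.node (nat_lit 10030464) (BT.leaf (nat_lit 49821205)) (BT.leaf (nat_lit 28784145))))) (BT.node (nat_lit 10030592) (BT.node (nat_lit 10030471) (BT.node (nat_lit 10030470) (BT.leaf (nat_lit 659208)) (BT.leaf (nat_lit 659208))) (BT.node (nat_lit 10030528) (BT.leaf (nat_lit 659208)) (BT.leaf (nat_lit 49403425)))) (BT.node (nat_lit 10030720) (BT.node (nat_lit 10030656) (BT.leaf (nat_lit 39971361)) (BT.leaf (nat_lit 45370905))) (BT.node (nat_lit 10030784) (BT.leaf (nat_lit 51389205)) (BT.leaf (nat_lit 32467717)))))) (BT.node (nat_lit 10031360) (BT.node (nat_lit 10031104) (BT.node (nat_lit 10030976) (BT.node (nat_lit 10030912) (BT.leaf (nat_lit 28785169)) (BT.leaf (nat_lit 28784657))) (BT.node (nat_lit 10031040) (BT.leaf (nat_lit 31657753)) (BT.leaf (nat_lit 31657757)))) (BT.node (nat_lit 10031232) (BT.node (nat_lit 10031168) (BT.leaf (nat_lit 43062025)) (BT.leaf (nat_lit 30615057))) (BT.node (nat_lit 10031296) (BT.leaf (nat_lit 41113881)) (BT.leaf (nat_lit 37946373))))) (BT.node (nat_lit 10031488) (BT.node (nat_lit 10031426) (BT.node (nat_lit 10031424) (BT.leaf (nat_lit 28786193)) (BT.leaf (nat_lit 31186197))) (BT.node (nat_lit 10031427) (BT.leaf (nat_lit 701920)) (BT.leaf (nat_lit 701920)))) (BT.node (nat_lit 10031616) (BT.node (nat_lit 10031552) (BT.leaf (nat_lit 42583329)) (BT.leaf (nat_lit 31186205))) (BT.node (nat_lit 10031680) (BT.leaf (nat_lit 43553285)) (BT.leaf (nat_lit 38999557))))))) (BT.node (nat_lit 10032704) (BT.node (nat_lit 10032192) (BT.node (nat_lit 10031936) (BT.node (nat_lit 10031808) (BT.node (nat_lit 10031744) (BT.leaf (nat_lit 812136)) (BT.leaf (nat_lit 28786961))) (BT.node (nat_lit 10031872) (BT.leaf (nat_lit 42546693)) (BT.leaf (nat_lit 42546949)))) (BT.node (nat_lit 10032064) (BT.node (nat_lit 10032000) (BT.leaf (nat_lit 41808149)) (BT.leaf (nat_lit 30490629))) (BT.node (nat_lit 10032128) (BT.leaf (nat_lit 32697117)) (BT.leaf (nat_lit 36961561))))) (BT.node (nat_lit 10032448) (BT.node (nat_lit 10032320) (BT.node (nat_lit 10032256) (BT.leaf (nat_lit 41112849)) (BT.leaf (nat_lit 28787229))) (BT.node (nat_lit 10032384) (BT.leaf (nat_lit 35659037)) (BT.leaf (nat_lit 30691601)))) (BT.node (nat_lit 10032576) (BT.node (nat_lit 10032512) (BT.leaf (nat_lit 28787225)) (BT.leaf (nat_lit 41808153))) (BT.node (nat_lit 10032640) (BT.leaf (nat_lit 41808157)) (BT.leaf (nat_lit 28787473)))))) (BT.node (nat_lit 10033216) (BT.node (nat_lit 10032960) (BT.node (nat_lit 10032832) (BT.node (nat_lit 10032768) (BT.leaf (nat_lit 35888409)) (BT.leaf (nat_lit 29729041))) (BT.node (nat_lit 10032896) (BT.leaf (nat_lit 40120069)) (BT.leaf (nat_lit 37928197)))) (BT.node (nat_lit 10033088) (BT.node (nat_lit 10033024) (BT.leaf (nat_lit 47165973)) (BT.leaf (nat_lit 40169761))) (BT.node (nat_lit 10033152) (BT.leaf (nat_lit 32984605)) (BT.leaf (nat_lit 28792593))))) (BT.node (nat_lit 10033472) (BT.node (nat_lit 10033344) (BT.node (nat_lit 10033280) (BT.leaf (nat_lit 44423201)) (BT.leaf (nat_lit 44531225))) (BT.node (nat_lit 10033408) (BT.leaf (nat_lit 28792865)) (BT.leaf (nat_lit 40145433)))) (BT.node (nat_lit 10033480) (BT.node (nat_lit 10033473) (BT.leaf (nat_lit 41148685)) (BT.leaf (nat_lit 629924))) (BT.node (nat_lit 10033536) (BT.leaf (nat_lit 629924)) (BT.leaf (nat_lit 40145417))))))))) (BT.node (nat_lit 10037376) (BT.node (nat_lit 10035584) (BT.node (nat_lit 10034624) (BT.node (nat_lit 10034112) (BT.node (nat_lit 10033856) (BT.node (nat_lit 10033728) (BT.node (nat_lit 10033664) (BT.leaf (nat_lit 42695457)) (BT.leaf (nat_lit 40318737))) (BT.node (nat_lit 10033792) (BT.leaf (nat_lit 31711493)) (BT.leaf (nat_lit 31711497)))) (BT.node (nat_lit 10033984) (BT.node (nat_lit 10033920) (BT.leaf (nat_lit 51751697)) (BT.leaf (nat_lit 28793621))) (BT.node (nat_lit 10034048) (BT.leaf (nat_lit 33845529)) (BT.leaf (nat_lit 33845533))))) (BT.node (nat_lit 10034368) (BT.node (nat_lit 10034240) (BT.node (nat_lit 10034176) (BT.leaf (nat_lit 31711521)) (BT.leaf (nat_lit 41744161))) (BT.node (nat_lit 10034304) (BT.leaf (nat_lit 45537313)) (BT.leaf (nat_lit 41941273)))) (BT.node (nat_lit 10034496) (BT.node (nat_lit 10034432) (BT.leaf (nat_lit 45536545)) (BT.leaf (nat_lit 38136837))) (BT.node (nat_lit 10034560) (BT.leaf (nat_lit 30197781)) (BT.leaf (nat_lit 41139469)))))) (BT.node (nat_lit 10035136) (BT.node (nat_lit 10034880) (BT.node (nat_lit 10034752) (BT.node (nat_lit 10034688) (BT.leaf (nat_lit 28796933)) (BT.leaf (nat_lit 46719749))) (BT.node (nat_lit 10034816) (BT.leaf (nat_lit 28793873)) (BT.leaf (nat_lit 40146181)))) (BT.node (nat_lit 10035008) (BT.node (nat_lit 10034944) (BT.leaf (nat_lit 30254085)) (BT.leaf (nat_lit 28791313))) (BT.node (nat_lit 10035072) (BT.leaf (nat_lit 28794641)) (BT.leaf (nat_lit 33520401))))) (BT.node (nat_lit 10035328) (BT.node (nat_lit 10035264) (BT.node (nat_lit 10035200) (BT.leaf (nat_lit 28795157)) (BT.leaf (nat_lit 40141069))) (BT.node (nat_lit 10035265) (BT.leaf (nat_lit 41145373)) (BT.leaf (nat_lit 681624)))) (BT.node (nat_lit 10035456) (BT.node (nat_lit 10035392) (BT.leaf (nat_lit 41145353)) (BT.leaf (nat_lit 38135557))) (BT.node (nat_lit 10035520) (BT.leaf (nat_lit 51268129)) (BT.leaf (nat_lit 28796677))))))) (BT.node (nat_lit 10036416) (BT.node (nat_lit 10036096) (BT.node (nat_lit 10035840) (BT.node (nat_lit 10035712) (BT.node (nat_lit 10035648) (BT.leaf (nat_lit 32971029)) (BT.leaf (nat_lit 46996229))) (BT.node (nat_lit 10035776) (BT.leaf (nat_lit 28795665)) (BT.leaf (nat_lit 30254113)))) (BT.node (nat_lit 10035968) (BT.node (nat_lit 10035904) (BT.leaf (nat_lit 28797473)) (BT.leaf (nat_lit 39971341))) (BT.node (nat_lit 10036032) (BT.leaf (nat_lit 39971337)) (BT.leaf (nat_lit 39971353))))) (BT.node (nat_lit 10036168) (BT.node (nat_lit 10036161) (BT.node (nat_lit 10036160) (BT.leaf (nat_lit 39971357)) (BT.leaf (nat_lit 28796957))) (BT.node (nat_lit 10036164) (BT.leaf (nat_lit 657976)) (BT.leaf (nat_lit 657976)))) (BT.node (nat_lit 10036288) (BT.node (nat_lit 10036224) (BT.leaf (nat_lit 657976)) (BT.leaf (nat_lit 41929757))) (BT.node (nat_lit 10036352) (BT.leaf (nat_lit 29400597)) (BT.leaf (nat_lit 39644437)))))) (BT.node (nat_lit 10036864) (BT.node (nat_lit 10036608) (BT.node (nat_lit 10036544) (BT.node (nat_lit 10036480) (BT.leaf (nat_lit 37089569)) (BT.leaf (nat_lit 28797189))) (BT.node (nat_lit 10036552) (BT.leaf (nat_lit 41768217)) (BT.leaf (nat_lit 798656)))) (BT.node (nat_lit 10036736) (BT.node (nat_lit 10036672) (BT.leaf (nat_lit 28797213)) (BT.leaf (nat_lit 30254097))) (BT.node (nat_lit 10036800) (BT.leaf (nat_lit 40147977)) (BT.leaf (nat_lit 31783433))))) (BT.node (nat_lit 10037120) (BT.node (nat_lit 10036992) (BT.node (nat_lit 10036928) (BT.leaf (nat_lit 28793365)) (BT.leaf (nat_lit 29165833))) (BT.node (nat_lit 10037056) (BT.leaf (nat_lit 42191137)) (BT.leaf (nat_lit 37725213)))) (BT.node (nat_lit 10037248) (BT.node (nat_lit 10037184) (BT.leaf (nat_lit 45237521)) (BT.leaf (nat_lit 45237517))) (BT.node (nat_lit 10037312) (BT.leaf (nat_lit 44926497)) (BT.leaf (nat_lit 35121945)))))))) (BT.node (nat_lit 10039424) (BT.node (nat_lit 10038400) (BT.node (nat_lit 10037888) (BT.node (nat_lit 10037632) (BT.node (nat_lit 10037504) (BT.node (nat_lit 10037440) (BT.leaf (nat_lit 41156365)) (BT.leaf (nat_lit 31783445))) (BT.node (nat_lit 10037568) (BT.leaf (nat_lit 29165853)) (BT.leaf (nat_lit 46456861)))) (BT.node (nat_lit 10037760) (BT.node (nat_lit 10037696) (BT.leaf (nat_lit 29653009)) (BT.leaf (nat_lit 33886233))) (BT.node (nat_lit 10037824) (BT.leaf (nat_lit 29165849)) (BT.leaf (nat_lit 28454165))))) (BT.node (nat_lit 10038144) (BT.node (nat_lit 10038016) (BT.node (nat_lit 10037952) (BT.leaf (nat_lit 28454149)) (BT.leaf (nat_lit 27539473))) (BT.node (nat_lit 10038080) (BT.leaf (nat_lit 28793105)) (BT.leaf (nat_lit 32161045)))) (BT.node (nat_lit 10038272) (BT.node (nat_lit 10038208) (BT.leaf (nat_lit 47143969)) (BT.leaf (nat_lit 42076165))) (BT.node (nat_lit 10038336) (BT.leaf (nat_lit 28797713)) (BT.leaf (nat_lit 28797717)))))) (BT.node (nat_lit 10038912) (BT.node (nat_lit 10038656) (BT.node (nat_lit 10038528) (BT.node (nat_lit 10038464) (BT.leaf (nat_lit 40135193)) (BT.leaf (nat_lit 39902981))) (BT.node (nat_lit 10038592) (BT.leaf (nat_lit 33886241)) (BT.leaf (nat_lit 29398545)))) (BT.node (nat_lit 10038784) (BT.node (nat_lit 10038720) (BT.leaf (nat_lit 44530953)) (BT.leaf (nat_lit 44925217))) (BT.node (nat_lit 10038848) (BT.leaf (nat_lit 46019345)) (BT.leaf (nat_lit 31996437))))) (BT.node (nat_lit 10039168) (BT.node (nat_lit 10039040) (BT.node (nat_lit 10038976) (BT.leaf (nat_lit 28800025)) (BT.leaf (nat_lit 29767445))) (BT.node (nat_lit 10039104) (BT.leaf (nat_lit 29767189)) (BT.leaf (nat_lit 30402313)))) (BT.node (nat_lit 10039296) (BT.node (nat_lit 10039232) (BT.leaf (nat_lit 30402317)) (BT.leaf (nat_lit 47975713))) (BT.node (nat_lit 10039360) (BT.leaf (nat_lit 30402329)) (BT.leaf (nat_lit 30402333))))))) (BT.node (nat_lit 10040192) (BT.node (nat_lit 10039808) (BT.node (nat_lit 10039680) (BT.node (nat_lit 10039552) (BT.node (nat_lit 10039488) (BT.leaf (nat_lit 34038805)) (BT.leaf (nat_lit 28420377))) (BT.node (nat_lit 10039616) (BT.leaf (nat_lit 30229013)) (BT.leaf (nat_lit 36915205)))) (BT.node (nat_lit 10039687) (BT.node (nat_lit 10039686) (BT.leaf (nat_lit 39308293)) (BT.leaf (nat_lit 723232))) (BT.node (nat_lit 10039744) (BT.leaf (nat_lit 723232)) (BT.leaf (nat_lit 42831121))))) (BT.node (nat_lit 10040000) (BT.node (nat_lit 10039872) (BT.node (nat_lit 10039813) (BT.leaf (nat_lit 38266633)) (BT.leaf (nat_lit 813140))) (BT.node (nat_lit 10039936) (BT.leaf (nat_lit 37522201)) (BT.leaf (nat_lit 52227589)))) (BT.node (nat_lit 10040128) (BT.node (nat_lit 10040064) (BT.leaf (nat_lit 28804121)) (BT.leaf (nat_lit 31235857))) (BT.node (nat_lit 10040129) (BT.leaf (nat_lit 48182297)) (BT.leaf (nat_lit 758888)))))) (BT.node (nat_lit 10040704) (BT.node (nat_lit 10040448) (BT.node (nat_lit 10040320) (BT.node (nat_lit 10040256) (BT.leaf (nat_lit 28804637)) (BT.leaf (nat_lit 34427925))) (BT.node (nat_lit 10040384) (BT.leaf (nat_lit 28421405)) (BT.leaf (nat_lit 30738197)))) (BT.node (nat_lit 10040576) (BT.node (nat_lit 10040512) (BT.leaf (nat_lit 30737429)) (BT.leaf (nat_lit 43169301))) (BT.node (nat_lit 10040640) (BT.leaf (nat_lit 29218069)) (BT.leaf (nat_lit 33531409))))) (BT.node (nat_lit 10040960) (BT.node (nat_lit 10040832) (BT.node (nat_lit 10040768) (BT.leaf (nat_lit 49046021)) (BT.leaf (nat_lit 40598789))) (BT.node (nat_lit 10040896) (BT.leaf (nat_lit 44409097)) (BT.leaf (nat_lit 48837401)))) (BT.node (nat_lit 10041088) (BT.node (nat_lit 10041024) (BT.leaf (nat_lit 28810269)) (BT.leaf (nat_lit 30319901))) (BT.node (nat_lit 10041152) (BT.leaf (nat_lit 47237665)) (BT.leaf (nat_lit 43765521))))))))))) (BT.node (nat_lit 10057092) (BT.node (nat_lit 10049024) (BT.node (nat_lit 10045248) (BT.node (nat_lit 10043264) (BT.node (nat_lit 10042240) (BT.node (nat_lit 10041728) (BT.node (nat_lit 10041472) (BT.node (nat_lit 10041344) (BT.node (nat_lit 10041280) (BT.leaf (nat_lit 39170581)) (BT.leaf (nat_lit 28810265))) (BT.node (nat_lit 10041408) (BT.leaf (nat_lit 31648269)) (BT.leaf (nat_lit 38794517)))) (BT.node (nat_lit 10041600) (BT.node (nat_lit 10041536) (BT.leaf (nat_lit 43644189)) (BT.leaf (nat_lit 43986701))) (BT.node (nat_lit 10041664) (BT.leaf (nat_lit 28832273)) (BT.leaf (nat_lit 43995909))))) (BT.node (nat_lit 10041984) (BT.node (nat_lit 10041856) (BT.node (nat_lit 10041792) (BT.leaf (nat_lit 37900293)) (BT.leaf (nat_lit 41981189))) (BT.node (nat_lit 10041920) (BT.leaf (nat_lit 37728029)) (BT.leaf (nat_lit 40186629)))) (BT.node (nat_lit 10042112) (BT.node (nat_lit 10042048) (BT.leaf (nat_lit 40185889)) (BT.leaf (nat_lit 40900373))) (BT.node (nat_lit 10042176) (BT.leaf (nat_lit 28813829)) (BT.leaf (nat_lit 32344837)))))) (BT.node (nat_lit 10042752) (BT.node (nat_lit 10042496) (BT.node (nat_lit 10042368) (BT.node (nat_lit 10042304) (BT.leaf (nat_lit 32344857)) (BT.leaf (nat_lit 32344861))) (BT.node (nat_lit 10042432) (BT.leaf (nat_lit 34583569)) (BT.leaf (nat_lit 32550661)))) (BT.node (nat_lit 10042624) (BT.node (nat_lit 10042560) (BT.leaf (nat_lit 29841169)) (BT.leaf (nat_lit 30369041))) (BT.node (nat_lit 10042688) (BT.leaf (nat_lit 47147037)) (BT.leaf (nat_lit 36872465))))) (BT.node (nat_lit 10043008) (BT.node (nat_lit 10042880) (BT.node (nat_lit 10042816) (BT.leaf (nat_lit 43427617)) (BT.leaf (nat_lit 31169557))) (BT.node (nat_lit 10042944) (BT.leaf (nat_lit 38531077)) (BT.leaf (nat_lit 31169049)))) (BT.node (nat_lit 10043136) (BT.node (nat_lit 10043072) (BT.leaf (nat_lit 30595105)) (BT.leaf (nat_lit 32894981))) (BT.node (nat_lit 10043200) (BT.leaf (nat_lit 34665989)) (BT.leaf (nat_lit 30023941))))))) (BT.node (nat_lit 10044224) (BT.node (nat_lit 10043712) (BT.node (nat_lit 10043456) (BT.node (nat_lit 10043392) (BT.node (nat_lit 10043328) (BT.leaf (nat_lit 32946437)) (BT.leaf (nat_lit 43216913))) (BT.node (nat_lit 10043397) (BT.leaf (nat_lit 38664481)) (BT.leaf (nat_lit 660704)))) (BT.node (nat_lit 10043584) (BT.node (nat_lit 10043520) (BT.leaf (nat_lit 29573901)) (BT.leaf (nat_lit 32987681))) (BT.node (nat_lit 10043648) (BT.leaf (nat_lit 43494677)) (BT.leaf (nat_lit 35384865))))) (BT.node (nat_lit 10043968) (BT.node (nat_lit 10043840) (BT.node (nat_lit 10043776) (BT.leaf (nat_lit 32532485)) (BT.leaf (nat_lit 50115337))) (BT.node (nat_lit 10043904) (BT.leaf (nat_lit 42253089)) (BT.leaf (nat_lit 39395345)))) (BT.node (nat_lit 10044096) (BT.node (nat_lit 10044032) (BT.leaf (nat_lit 31152913)) (BT.leaf (nat_lit 38463765))) (BT.node (nat_lit 10044160) (BT.leaf (nat_lit 41833989)) (BT.leaf (nat_lit 44971809)))))) (BT.node (nat_lit 10044736) (BT.node (nat_lit 10044480) (BT.node (nat_lit 10044352) (BT.node (nat_lit 10044288) (BT.leaf (nat_lit 32902689)) (BT.leaf (nat_lit 39573261))) (BT.node (nat_lit 10044416) (BT.leaf (nat_lit 41637401)) (BT.leaf (nat_lit 38193669)))) (BT.node (nat_lit 10044608) (BT.node (nat_lit 10044544) (BT.leaf (nat_lit 29956369)) (BT.leaf (nat_lit 47560217))) (BT.node (nat_lit 10044672) (BT.leaf (nat_lit 40178185)) (BT.leaf (nat_lit 29069601))))) (BT.node (nat_lit 10044992) (BT.node (nat_lit 10044864) (BT.node (nat_lit 10044800) (BT.leaf (nat_lit 40179229)) (BT.leaf (nat_lit 47560205))) (BT.node (nat_lit 10044928) (BT.leaf (nat_lit 30430497)) (BT.leaf (nat_lit 43475233)))) (BT.node (nat_lit 10045120) (BT.node (nat_lit 10045056) (BT.leaf (nat_lit 32719369)) (BT.leaf (nat_lit 37729029))) (BT.node (nat_lit 10045184) (BT.leaf (nat_lit 41204249)) (BT.leaf (nat_lit 41204253)))))))) (BT.node (nat_lit 10047168) (BT.node (nat_lit 10046272) (BT.node (nat_lit 10045760) (BT.node (nat_lit 10045504) (BT.node (nat_lit 10045376) (BT.node (nat_lit 10045312) (BT.leaf (nat_lit 47503117)) (BT.leaf (nat_lit 48921877))) (BT.node (nat_lit 10045440) (BT.leaf (nat_lit 36461345)) (BT.leaf (nat_lit 30554389)))) (BT.node (nat_lit 10045632) (BT.node (nat_lit 10045568) (BT.leaf (nat_lit 39671045)) (BT.leaf (nat_lit 38809877))) (BT.node (nat_lit 10045696) (BT.leaf (nat_lit 41234457)) (BT.leaf (nat_lit 41234461))))) (BT.node (nat_lit 10046016) (BT.node (nat_lit 10045888) (BT.node (nat_lit 10045824) (BT.leaf (nat_lit 35006997)) (BT.leaf (nat_lit 35007001))) (BT.node (nat_lit 10045952) (BT.leaf (nat_lit 35007005)) (BT.leaf (nat_lit 38396941)))) (BT.node (nat_lit 10046144) (BT.node (nat_lit 10046080) (BT.leaf (nat_lit 37979413)) (BT.leaf (nat_lit 37985825))) (BT.node (nat_lit 10046208) (BT.leaf (nat_lit 38330897)) (BT.leaf (nat_lit 28828177)))))) (BT.node (nat_lit 10046784) (BT.node (nat_lit 10046528) (BT.node (nat_lit 10046400) (BT.node (nat_lit 10046336) (BT.leaf (nat_lit 39792917)) (BT.leaf (nat_lit 39792921))) (BT.node (nat_lit 10046464) (BT.leaf (nat_lit 39792925)) (BT.leaf (nat_lit 38643205)))) (BT.node (nat_lit 10046656) (BT.node (nat_lit 10046592) (BT.leaf (nat_lit 41014809)) (BT.leaf (nat_lit 41014813))) (BT.node (nat_lit 10046720) (BT.leaf (nat_lit 31517985)) (BT.leaf (nat_lit 37718305))))) (BT.node (nat_lit 10046976) (BT.node (nat_lit 10046848) (BT.node (nat_lit 10046788) (BT.leaf (nat_lit 47226885)) (BT.leaf (nat_lit 635120))) (BT.node (nat_lit 10046912) (BT.leaf (nat_lit 41328153)) (BT.leaf (nat_lit 45852937)))) (BT.node (nat_lit 10047040) (BT.node (nat_lit 10046981) (BT.leaf (nat_lit 30599709)) (BT.leaf (nat_lit 670792))) (BT.node (nat_lit 10047104) (BT.leaf (nat_lit 48148237)) (BT.leaf (nat_lit 32375321))))))) (BT.node (nat_lit 10048064) (BT.node (nat_lit 10047552) (BT.node (nat_lit 10047424) (BT.node (nat_lit 10047296) (BT.node (nat_lit 10047232) (BT.leaf (nat_lit 42960405)) (BT.leaf (nat_lit 30573589))) (BT.node (nat_lit 10047360) (BT.leaf (nat_lit 38412313)) (BT.leaf (nat_lit 28832781)))) (BT.node (nat_lit 10047430) (BT.node (nat_lit 10047425) (BT.leaf (nat_lit 46302217)) (BT.leaf (nat_lit 627980))) (BT.node (nat_lit 10047488) (BT.leaf (nat_lit 627980)) (BT.leaf (nat_lit 28832793))))) (BT.node (nat_lit 10047808) (BT.node (nat_lit 10047680) (BT.node (nat_lit 10047616) (BT.leaf (nat_lit 38412301)) (BT.leaf (nat_lit 47114005))) (BT.node (nat_lit 10047744) (BT.leaf (nat_lit 28832785)) (BT.leaf (nat_lit 49259297)))) (BT.node (nat_lit 10047936) (BT.node (nat_lit 10047872) (BT.leaf (nat_lit 30208793)) (BT.leaf (nat_lit 51253781))) (BT.node (nat_lit 10048000) (BT.leaf (nat_lit 29586705)) (BT.leaf (nat_lit 40145953)))))) (BT.node (nat_lit 10048576) (BT.node (nat_lit 10048320) (BT.node (nat_lit 10048192) (BT.node (nat_lit 10048128) (BT.leaf (nat_lit 45859869)) (BT.leaf (nat_lit 29753617))) (BT.node (nat_lit 10048256) (BT.leaf (nat_lit 40644357)) (BT.leaf (nat_lit 50840341)))) (BT.node (nat_lit 10048448) (BT.node (nat_lit 10048384) (BT.leaf (nat_lit 30922261)) (BT.leaf (nat_lit 41054981))) (BT.node (nat_lit 10048512) (BT.leaf (nat_lit 30350857)) (BT.leaf (nat_lit 29382405))))) (BT.node (nat_lit 10048768) (BT.node (nat_lit 10048704) (BT.node (nat_lit 10048640) (BT.leaf (nat_lit 32820229)) (BT.leaf (nat_lit 42894113))) (BT.node (nat_lit 10048708) (BT.leaf (nat_lit 47569933)) (BT.leaf (nat_lit 672956)))) (BT.node (nat_lit 10048896) (BT.node (nat_lit 10048832) (BT.leaf (nat_lit 38525193)) (BT.leaf (nat_lit 31787297))) (BT.node (nat_lit 10048960) (BT.leaf (nat_lit 40030221)) (BT.leaf (nat_lit 44655393))))))))) (BT.node (nat_lit 10053120) (BT.node (nat_lit 10051012) (BT.node (nat_lit 10050048) (BT.node (nat_lit 10049536) (BT.node (nat_lit 10049280) (BT.node (nat_lit 10049152) (BT.node (nat_lit 10049088) (BT.leaf (nat_lit 34727441)) (BT.leaf (nat_lit 32953613))) (BT.node (nat_lit 10049216) (BT.leaf (nat_lit 31220513)) (BT.leaf (nat_lit 34921753)))) (BT.node (nat_lit 10049408) (BT.node (nat_lit 10049344) (BT.leaf (nat_lit 30350881)) (BT.leaf (nat_lit 30725921))) (BT.node (nat_lit 10049472) (BT.leaf (nat_lit 48453409)) (BT.leaf (nat_lit 30350873))))) (BT.node (nat_lit 10049792) (BT.node (nat_lit 10049664) (BT.node (nat_lit 10049600) (BT.leaf (nat_lit 30350877)) (BT.leaf (nat_lit 43110689))) (BT.node (nat_lit 10049728) (BT.leaf (nat_lit 40139553)) (BT.leaf (nat_lit 49750805)))) (BT.node (nat_lit 10049920) (BT.node (nat_lit 10049856) (BT.leaf (nat_lit 38965793)) (BT.leaf (nat_lit 45501469))) (BT.node (nat_lit 10049984) (BT.leaf (nat_lit 42606357)) (BT.leaf (nat_lit 28952601)))))) (BT.node (nat_lit 10050560) (BT.node (nat_lit 10050304) (BT.node (nat_lit 10050176) (BT.node (nat_lit 10050112) (BT.leaf (nat_lit 38062105)) (BT.leaf (nat_lit 38062109))) (BT.node (nat_lit 10050240) (BT.leaf (nat_lit 31790617)) (BT.leaf (nat_lit 44956421)))) (BT.node (nat_lit 10050432) (BT.node (nat_lit 10050368) (BT.leaf (nat_lit 35404825)) (BT.leaf (nat_lit 40360481))) (BT.node (nat_lit 10050496) (BT.leaf (nat_lit 28841481)) (BT.leaf (nat_lit 42745365))))) (BT.node (nat_lit 10050816) (BT.node (nat_lit 10050688) (BT.node (nat_lit 10050624) (BT.leaf (nat_lit 27380753)) (BT.leaf (nat_lit 43654405))) (BT.node (nat_lit 10050752) (BT.leaf (nat_lit 31798817)) (BT.leaf (nat_lit 30095633)))) (BT.node (nat_lit 10050944) (BT.node (nat_lit 10050880) (BT.leaf (nat_lit 45979169)) (BT.leaf (nat_lit 44670213))) (BT.node (nat_lit 10051008) (BT.leaf (nat_lit 38743061)) (BT.leaf (nat_lit 41520409))))))) (BT.node (nat_lit 10052096) (BT.node (nat_lit 10051520) (BT.node (nat_lit 10051264) (BT.node (nat_lit 10051136) (BT.node (nat_lit 10051072) (BT.leaf (nat_lit 648760)) (BT.leaf (nat_lit 31561493))) (BT.node (nat_lit 10051200) (BT.leaf (nat_lit 37836037)) (BT.leaf (nat_lit 49559329)))) (BT.node (nat_lit 10051392) (BT.node (nat_lit 10051328) (BT.leaf (nat_lit 44565537)) (BT.leaf (nat_lit 38938145))) (BT.node (nat_lit 10051456) (BT.leaf (nat_lit 41322513)) (BT.leaf (nat_lit 33540369))))) (BT.node (nat_lit 10051776) (BT.node (nat_lit 10051648) (BT.node (nat_lit 10051584) (BT.leaf (nat_lit 48574997)) (BT.leaf (nat_lit 28253197))) (BT.node (nat_lit 10051712) (BT.leaf (nat_lit 32954125)) (BT.leaf (nat_lit 49475861)))) (BT.node (nat_lit 10051968) (BT.node (nat_lit 10051904) (BT.leaf (nat_lit 46213129)) (BT.leaf (nat_lit 34165781))) (BT.node (nat_lit 10052032) (BT.leaf (nat_lit 50304277)) (BT.leaf (nat_lit 34165789)))))) (BT.node (nat_lit 10052608) (BT.node (nat_lit 10052352) (BT.node (nat_lit 10052224) (BT.node (nat_lit 10052160) (BT.leaf (nat_lit 29993245)) (BT.leaf (nat_lit 30355973))) (BT.node (nat_lit 10052288) (BT.leaf (nat_lit 30355985)) (BT.leaf (nat_lit 46801441)))) (BT.node (nat_lit 10052480) (BT.node (nat_lit 10052416) (BT.leaf (nat_lit 30542353)) (BT.leaf (nat_lit 50726937))) (BT.node (nat_lit 10052544) (BT.leaf (nat_lit 38555157)) (BT.leaf (nat_lit 49754653))))) (BT.node (nat_lit 10052864) (BT.node (nat_lit 10052736) (BT.node (nat_lit 10052672) (BT.leaf (nat_lit 38529297)) (BT.leaf (nat_lit 40662305))) (BT.node (nat_lit 10052800) (BT.leaf (nat_lit 29825041)) (BT.leaf (nat_lit 32569093)))) (BT.node (nat_lit 10052992) (BT.node (nat_lit 10052928) (BT.leaf (nat_lit 32569349)) (BT.leaf (nat_lit 49265173))) (BT.node (nat_lit 10053056) (BT.leaf (nat_lit 32951817)) (BT.leaf (nat_lit 43119649)))))))) (BT.node (nat_lit 10055168) (BT.node (nat_lit 10054080) (BT.node (nat_lit 10053568) (BT.node (nat_lit 10053376) (BT.node (nat_lit 10053248) (BT.node (nat_lit 10053184) (BT.leaf (nat_lit 38604313)) (BT.leaf (nat_lit 38604317))) (BT.node (nat_lit 10053312) (BT.leaf (nat_lit 31825185)) (BT.leaf (nat_lit 47769861)))) (BT.node (nat_lit 10053504) (BT.node (nat_lit 10053440) (BT.leaf (nat_lit 49752093)) (BT.leaf (nat_lit 33542677))) (BT.node (nat_lit 10053507) (BT.leaf (nat_lit 42140429)) (BT.leaf (nat_lit 774496))))) (BT.node (nat_lit 10053824) (BT.node (nat_lit 10053696) (BT.node (nat_lit 10053632) (BT.leaf (nat_lit 28853017)) (BT.leaf (nat_lit 38347553))) (BT.node (nat_lit 10053760) (BT.leaf (nat_lit 49362713)) (BT.leaf (nat_lit 28853021)))) (BT.node (nat_lit 10053952) (BT.node (nat_lit 10053888) (BT.leaf (nat_lit 46217741)) (BT.leaf (nat_lit 32951821))) (BT.node (nat_lit 10054016) (BT.leaf (nat_lit 31829281)) (BT.leaf (nat_lit 39107349)))))) (BT.node (nat_lit 10054592) (BT.node (nat_lit 10054336) (BT.node (nat_lit 10054208) (BT.node (nat_lit 10054144) (BT.leaf (nat_lit 32014853)) (BT.leaf (nat_lit 39126533))) (BT.node (nat_lit 10054272) (BT.leaf (nat_lit 37707545)) (BT.leaf (nat_lit 50791449)))) (BT.node (nat_lit 10054464) (BT.node (nat_lit 10054400) (BT.leaf (nat_lit 44516613)) (BT.leaf (nat_lit 29368097))) (BT.node (nat_lit 10054528) (BT.leaf (nat_lit 28855057)) (BT.leaf (nat_lit 47270921))))) (BT.node (nat_lit 10054912) (BT.node (nat_lit 10054784) (BT.node (nat_lit 10054720) (BT.leaf (nat_lit 28856341)) (BT.leaf (nat_lit 31834401))) (BT.node (nat_lit 10054848) (BT.leaf (nat_lit 28856325)) (BT.leaf (nat_lit 34216981)))) (BT.node (nat_lit 10055040) (BT.node (nat_lit 10054976) (BT.leaf (nat_lit 28857885)) (BT.leaf (nat_lit 34217237))) (BT.node (nat_lit 10055104) (BT.leaf (nat_lit 35144469)) (BT.leaf (nat_lit 30225689))))))) (BT.node (nat_lit 10056192) (BT.node (nat_lit 10055680) (BT.node (nat_lit 10055424) (BT.node (nat_lit 10055296) (BT.node (nat_lit 10055232) (BT.leaf (nat_lit 30225693)) (BT.leaf (nat_lit 46615045))) (BT.node (nat_lit 10055360) (BT.leaf (nat_lit 29717017)) (BT.leaf (nat_lit 29717021)))) (BT.node (nat_lit 10055552) (BT.node (nat_lit 10055488) (BT.leaf (nat_lit 38901025)) (BT.leaf (nat_lit 32910113))) (BT.node (nat_lit 10055616) (BT.leaf (nat_lit 50029845)) (BT.leaf (nat_lit 33466909))))) (BT.node (nat_lit 10055936) (BT.node (nat_lit 10055808) (BT.node (nat_lit 10055744) (BT.leaf (nat_lit 34085905)) (BT.leaf (nat_lit 30410017))) (BT.node (nat_lit 10055872) (BT.leaf (nat_lit 44407045)) (BT.leaf (nat_lit 28866829)))) (BT.node (nat_lit 10056064) (BT.node (nat_lit 10056000) (BT.leaf (nat_lit 42689569)) (BT.leaf (nat_lit 35189509))) (BT.node (nat_lit 10056128) (BT.leaf (nat_lit 40224541)) (BT.leaf (nat_lit 42270737)))))) (BT.node (nat_lit 10056704) (BT.node (nat_lit 10056448) (BT.node (nat_lit 10056320) (BT.node (nat_lit 10056256) (BT.leaf (nat_lit 41533445)) (BT.leaf (nat_lit 35368453))) (BT.node (nat_lit 10056384) (BT.leaf (nat_lit 31943705)) (BT.leaf (nat_lit 38097937)))) (BT.node (nat_lit 10056576) (BT.node (nat_lit 10056512) (BT.leaf (nat_lit 32074761)) (BT.leaf (nat_lit 40046089))) (BT.node (nat_lit 10056640) (BT.leaf (nat_lit 43323933)) (BT.leaf (nat_lit 38050593))))) (BT.node (nat_lit 10056901) (BT.node (nat_lit 10056832) (BT.node (nat_lit 10056768) (BT.leaf (nat_lit 40227085)) (BT.leaf (nat_lit 39018501))) (BT.node (nat_lit 10056896) (BT.leaf (nat_lit 30843157)) (BT.leaf (nat_lit 29314573)))) (BT.node (nat_lit 10057024) (BT.node (nat_lit 10056960) (BT.leaf (nat_lit 740640)) (BT.leaf (nat_lit 39945245))) (BT.node (nat_lit 10057088) (BT.leaf (nat_lit 49484037)) (BT.leaf (nat_lit 40985093)))))))))) (BT.node (nat_lit 10065024) (BT.node (nat_lit 10061184) (BT.node (nat_lit 10059136) (BT.node (nat_lit 10058112) (BT.node (nat_lit 10057600) (BT.node (nat_lit 10057344) (BT.node (nat_lit 10057216) (BT.node (nat_lit 10057152) (BT.leaf (nat_lit 719684)) (BT.leaf (nat_lit 49484549))) (BT.node (nat_lit 10057280) (BT.leaf (nat_lit 46224413)) (BT.leaf (nat_lit 39719177)))) (BT.node (nat_lit 10057472) (BT.node (nat_lit 10057408) (BT.leaf (nat_lit 44273173)) (BT.leaf (nat_lit 30672913))) (BT.node (nat_lit 10057536) (BT.leaf (nat_lit 44934661)) (BT.leaf (nat_lit 28859921))))) (BT.node (nat_lit 10057856) (BT.node (nat_lit 10057728) (BT.node (nat_lit 10057664) (BT.leaf (nat_lit 32250133)) (BT.leaf (nat_lit 44934681))) (BT.node (nat_lit 10057792) (BT.leaf (nat_lit 44934685)) (BT.leaf (nat_lit 37936909)))) (BT.node (nat_lit 10057984) (BT.node (nat_lit 10057920) (BT.leaf (nat_lit 45968149)) (BT.leaf (nat_lit 42715937))) (BT.node (nat_lit 10058048) (BT.leaf (nat_lit 43480097)) (BT.leaf (nat_lit 32962569)))))) (BT.node (nat_lit 10058624) (BT.node (nat_lit 10058368) (BT.node (nat_lit 10058240) (BT.node (nat_lit 10058176) (BT.leaf (nat_lit 31142405)) (BT.leaf (nat_lit 38538017))) (BT.node (nat_lit 10058304) (BT.leaf (nat_lit 31329057)) (BT.leaf (nat_lit 33840157)))) (BT.node (nat_lit 10058496) (BT.node (nat_lit 10058432) (BT.leaf (nat_lit 30578977)) (BT.leaf (nat_lit 40234013))) (BT.node (nat_lit 10058560) (BT.leaf (nat_lit 42718469)) (BT.leaf (nat_lit 43650849))))) (BT.node (nat_lit 10058880) (BT.node (nat_lit 10058752) (BT.node (nat_lit 10058688) (BT.leaf (nat_lit 47186957)) (BT.leaf (nat_lit 50959621))) (BT.node (nat_lit 10058816) (BT.leaf (nat_lit 42742533)) (BT.leaf (nat_lit 40235033)))) (BT.node (nat_lit 10059008) (BT.node (nat_lit 10058944) (BT.leaf (nat_lit 31589125)) (BT.leaf (nat_lit 31828997))) (BT.node (nat_lit 10059072) (BT.leaf (nat_lit 38257697)) (BT.leaf (nat_lit 34428185))))))) (BT.node (nat_lit 10060160) (BT.node (nat_lit 10059648) (BT.node (nat_lit 10059392) (BT.node (nat_lit 10059264) (BT.node (nat_lit 10059200) (BT.leaf (nat_lit 34428189)) (BT.leaf (nat_lit 37732885))) (BT.node (nat_lit 10059328) (BT.leaf (nat_lit 49061653)) (BT.leaf (nat_lit 28869137)))) (BT.node (nat_lit 10059520) (BT.node (nat_lit 10059456) (BT.leaf (nat_lit 28870673)) (BT.leaf (nat_lit 41485593))) (BT.node (nat_lit 10059584) (BT.leaf (nat_lit 40237833)) (BT.leaf (nat_lit 42750469))))) (BT.node (nat_lit 10059904) (BT.node (nat_lit 10059776) (BT.node (nat_lit 10059712) (BT.leaf (nat_lit 41485581)) (BT.leaf (nat_lit 35842069))) (BT.node (nat_lit 10059840) (BT.leaf (nat_lit 31795729)) (BT.leaf (nat_lit 41484301)))) (BT.node (nat_lit 10060032) (BT.node (nat_lit 10059968) (BT.leaf (nat_lit 42602245)) (BT.leaf (nat_lit 38965525))) (BT.node (nat_lit 10060096) (BT.leaf (nat_lit 38096389)) (BT.leaf (nat_lit 28871441)))))) (BT.node (nat_lit 10060672) (BT.node (nat_lit 10060416) (BT.node (nat_lit 10060288) (BT.node (nat_lit 10060224) (BT.leaf (nat_lit 43889689)) (BT.leaf (nat_lit 34115601))) (BT.node (nat_lit 10060352) (BT.leaf (nat_lit 31783185)) (BT.leaf (nat_lit 35121937)))) (BT.node (nat_lit 10060544) (BT.node (nat_lit 10060480) (BT.leaf (nat_lit 31706117)) (BT.leaf (nat_lit 29223713))) (BT.node (nat_lit 10060608) (BT.leaf (nat_lit 32996385)) (BT.leaf (nat_lit 38509593))))) (BT.node (nat_lit 10060928) (BT.node (nat_lit 10060800) (BT.node (nat_lit 10060736) (BT.leaf (nat_lit 38152981)) (BT.leaf (nat_lit 40168201))) (BT.node (nat_lit 10060864) (BT.leaf (nat_lit 31287313)) (BT.leaf (nat_lit 31248649)))) (BT.node (nat_lit 10061056) (BT.node (nat_lit 10060992) (BT.leaf (nat_lit 31248653)) (BT.leaf (nat_lit 31248665))) (BT.node (nat_lit 10061120) (BT.leaf (nat_lit 31248669)) (BT.leaf (nat_lit 39924245)))))))) (BT.node (nat_lit 10063232) (BT.node (nat_lit 10062208) (BT.node (nat_lit 10061696) (BT.node (nat_lit 10061440) (BT.node (nat_lit 10061312) (BT.node (nat_lit 10061248) (BT.leaf (nat_lit 41790497)) (BT.leaf (nat_lit 40292881))) (BT.node (nat_lit 10061376) (BT.leaf (nat_lit 38155541)) (BT.leaf (nat_lit 32745733)))) (BT.node (nat_lit 10061568) (BT.node (nat_lit 10061504) (BT.leaf (nat_lit 47032325)) (BT.leaf (nat_lit 38153505))) (BT.node (nat_lit 10061632) (BT.leaf (nat_lit 41057569)) (BT.leaf (nat_lit 40591117))))) (BT.node (nat_lit 10061952) (BT.node (nat_lit 10061824) (BT.node (nat_lit 10061760) (BT.leaf (nat_lit 40290569)) (BT.leaf (nat_lit 30066201))) (BT.node (nat_lit 10061888) (BT.leaf (nat_lit 40289561)) (BT.leaf (nat_lit 45355041)))) (BT.node (nat_lit 10062080) (BT.node (nat_lit 10062016) (BT.leaf (nat_lit 40248093)) (BT.leaf (nat_lit 35329037))) (BT.node (nat_lit 10062144) (BT.leaf (nat_lit 38429729)) (BT.leaf (nat_lit 29667849)))))) (BT.node (nat_lit 10062720) (BT.node (nat_lit 10062464) (BT.node (nat_lit 10062336) (BT.node (nat_lit 10062272) (BT.leaf (nat_lit 41929221)) (BT.leaf (nat_lit 40131853))) (BT.node (nat_lit 10062400) (BT.leaf (nat_lit 43970581)) (BT.leaf (nat_lit 29671453)))) (BT.node (nat_lit 10062592) (BT.node (nat_lit 10062528) (BT.leaf (nat_lit 32487201)) (BT.leaf (nat_lit 30411025))) (BT.node (nat_lit 10062656) (BT.leaf (nat_lit 40262925)) (BT.leaf (nat_lit 46889749))))) (BT.node (nat_lit 10062976) (BT.node (nat_lit 10062848) (BT.node (nat_lit 10062784) (BT.leaf (nat_lit 44367373)) (BT.leaf (nat_lit 39281413))) (BT.node (nat_lit 10062912) (BT.leaf (nat_lit 40314645)) (BT.leaf (nat_lit 41146905)))) (BT.node (nat_lit 10063104) (BT.node (nat_lit 10063040) (BT.leaf (nat_lit 41146909)) (BT.leaf (nat_lit 46308125))) (BT.node (nat_lit 10063168) (BT.leaf (nat_lit 36231949)) (BT.leaf (nat_lit 36231953))))))) (BT.node (nat_lit 10064128) (BT.node (nat_lit 10063682) (BT.node (nat_lit 10063488) (BT.node (nat_lit 10063360) (BT.node (nat_lit 10063296) (BT.leaf (nat_lit 36231961)) (BT.leaf (nat_lit 46937869))) (BT.node (nat_lit 10063424) (BT.leaf (nat_lit 36231969)) (BT.leaf (nat_lit 31238165)))) (BT.node (nat_lit 10063616) (BT.node (nat_lit 10063552) (BT.leaf (nat_lit 43314713)) (BT.leaf (nat_lit 47160605))) (BT.node (nat_lit 10063680) (BT.leaf (nat_lit 28920349)) (BT.leaf (nat_lit 29401365))))) (BT.node (nat_lit 10063872) (BT.node (nat_lit 10063744) (BT.node (nat_lit 10063683) (BT.leaf (nat_lit 736864)) (BT.leaf (nat_lit 736864))) (BT.node (nat_lit 10063808) (BT.leaf (nat_lit 44813849)) (BT.leaf (nat_lit 29401369)))) (BT.node (nat_lit 10064000) (BT.node (nat_lit 10063936) (BT.leaf (nat_lit 40941845)) (BT.leaf (nat_lit 38807813))) (BT.node (nat_lit 10064064) (BT.leaf (nat_lit 39265825)) (BT.leaf (nat_lit 44168197)))))) (BT.node (nat_lit 10064448) (BT.node (nat_lit 10064256) (BT.node (nat_lit 10064134) (BT.node (nat_lit 10064133) (BT.leaf (nat_lit 47151889)) (BT.leaf (nat_lit 670124))) (BT.node (nat_lit 10064192) (BT.leaf (nat_lit 670124)) (BT.leaf (nat_lit 28893201)))) (BT.node (nat_lit 10064384) (BT.node (nat_lit 10064320) (BT.leaf (nat_lit 37666069)) (BT.leaf (nat_lit 42947605))) (BT.node (nat_lit 10064389) (BT.leaf (nat_lit 40257305)) (BT.leaf (nat_lit 752108))))) (BT.node (nat_lit 10064640) (BT.node (nat_lit 10064512) (BT.node (nat_lit 10064454) (BT.leaf (nat_lit 41291025)) (BT.leaf (nat_lit 755120))) (BT.node (nat_lit 10064576) (BT.leaf (nat_lit 30024481)) (BT.leaf (nat_lit 42684949)))) (BT.node (nat_lit 10064768) (BT.node (nat_lit 10064704) (BT.leaf (nat_lit 29666061)) (BT.leaf (nat_lit 44533537))) (BT.node (nat_lit 10064896) (BT.leaf (nat_lit 41761549)) (BT.leaf (nat_lit 33647877))))))))) (BT.node (nat_lit 10068864) (BT.node (nat_lit 10066816) (BT.node (nat_lit 10065990) (BT.node (nat_lit 10065536) (BT.node (nat_lit 10065280) (BT.node (nat_lit 10065152) (BT.node (nat_lit 10065088) (BT.leaf (nat_lit 50538769)) (BT.leaf (nat_lit 50222609))) (BT.node (nat_lit 10065216) (BT.leaf (nat_lit 37347857)) (BT.leaf (nat_lit 28884757)))) (BT.node (nat_lit 10065408) (BT.node (nat_lit 10065344) (BT.leaf (nat_lit 39362329)) (BT.leaf (nat_lit 39362333))) (BT.node (nat_lit 10065472) (BT.leaf (nat_lit 36392465)) (BT.leaf (nat_lit 42585617))))) (BT.node (nat_lit 10065792) (BT.node (nat_lit 10065664) (BT.node (nat_lit 10065600) (BT.leaf (nat_lit 32572685)) (BT.leaf (nat_lit 27386649))) (BT.node (nat_lit 10065728) (BT.leaf (nat_lit 31676933)) (BT.leaf (nat_lit 31676677)))) (BT.node (nat_lit 10065920) (BT.node (nat_lit 10065856) (BT.leaf (nat_lit 47608841)) (BT.leaf (nat_lit 47608089))) (BT.node (nat_lit 10065984) (BT.leaf (nat_lit 46582561)) (BT.leaf (nat_lit 50305541)))))) (BT.node (nat_lit 10066432) (BT.node (nat_lit 10066176) (BT.node (nat_lit 10066048) (BT.node (nat_lit 10065991) (BT.leaf (nat_lit 756980)) (BT.leaf (nat_lit 740776))) (BT.node (nat_lit 10066112) (BT.leaf (nat_lit 30557713)) (BT.leaf (nat_lit 37937941)))) (BT.node (nat_lit 10066304) (BT.node (nat_lit 10066240) (BT.leaf (nat_lit 45296153)) (BT.leaf (nat_lit 45296157))) (BT.node (nat_lit 10066368) (BT.leaf (nat_lit 41630477)) (BT.leaf (nat_lit 37750045))))) (BT.node (nat_lit 10066560) (BT.node (nat_lit 10066497) (BT.node (nat_lit 10066496) (BT.leaf (nat_lit 50582809)) (BT.leaf (nat_lit 34392857))) (BT.node (nat_lit 10066500) (BT.leaf (nat_lit 703172)) (BT.leaf (nat_lit 703172)))) (BT.node (nat_lit 10066688) (BT.node (nat_lit 10066624) (BT.leaf (nat_lit 29951757)) (BT.leaf (nat_lit 46678293))) (BT.node (nat_lit 10066752) (BT.leaf (nat_lit 28146449)) (BT.leaf (nat_lit 36297737))))))) (BT.node (nat_lit 10067840) (BT.node (nat_lit 10067328) (BT.node (nat_lit 10067072) (BT.node (nat_lit 10066944) (BT.node (nat_lit 10066880) (BT.leaf (nat_lit 39834913)) (BT.leaf (nat_lit 39397397))) (BT.node (nat_lit 10067008) (BT.leaf (nat_lit 29326617)) (BT.leaf (nat_lit 29326621)))) (BT.node (nat_lit 10067200) (BT.node (nat_lit 10067136) (BT.leaf (nat_lit 47938833)) (BT.leaf (nat_lit 31924513))) (BT.node (nat_lit 10067264) (BT.leaf (nat_lit 29308945)) (BT.leaf (nat_lit 29662985))))) (BT.node (nat_lit 10067584) (BT.node (nat_lit 10067456) (BT.node (nat_lit 10067392) (BT.leaf (nat_lit 29663241)) (BT.leaf (nat_lit 28893701))) (BT.node (nat_lit 10067520) (BT.leaf (nat_lit 30989081)) (BT.leaf (nat_lit 30989085)))) (BT.node (nat_lit 10067712) (BT.node (nat_lit 10067648) (BT.leaf (nat_lit 29620229)) (BT.leaf (nat_lit 29620241))) (BT.node (nat_lit 10067776) (BT.leaf (nat_lit 47602457)) (BT.leaf (nat_lit 31440401)))))) (BT.node (nat_lit 10068352) (BT.node (nat_lit 10068096) (BT.node (nat_lit 10067968) (BT.node (nat_lit 10067904) (BT.leaf (nat_lit 50456341)) (BT.leaf (nat_lit 47382277))) (BT.node (nat_lit 10068032) (BT.leaf (nat_lit 47382293)) (BT.leaf (nat_lit 41955105)))) (BT.node (nat_lit 10068224) (BT.node (nat_lit 10068160) (BT.leaf (nat_lit 34589725)) (BT.leaf (nat_lit 38107653))) (BT.node (nat_lit 10068288) (BT.leaf (nat_lit 46133793)) (BT.leaf (nat_lit 46134021))))) (BT.node (nat_lit 10068608) (BT.node (nat_lit 10068480) (BT.node (nat_lit 10068416) (BT.leaf (nat_lit 46135073)) (BT.leaf (nat_lit 28890637))) (BT.node (nat_lit 10068544) (BT.leaf (nat_lit 31250705)) (BT.leaf (nat_lit 28877077)))) (BT.node (nat_lit 10068736) (BT.node (nat_lit 10068672) (BT.leaf (nat_lit 29663753)) (BT.leaf (nat_lit 28896269))) (BT.node (nat_lit 10068800) (BT.leaf (nat_lit 28877329)) (BT.leaf (nat_lit 29705749)))))))) (BT.node (nat_lit 10070464) (BT.node (nat_lit 10069824) (BT.node (nat_lit 10069376) (BT.node (nat_lit 10069120) (BT.node (nat_lit 10068992) (BT.node (nat_lit 10068928) (BT.leaf (nat_lit 28917521)) (BT.leaf (nat_lit 28896533))) (BT.node (nat_lit 10069056) (BT.leaf (nat_lit 33849113)) (BT.leaf (nat_lit 29042449)))) (BT.node (nat_lit 10069248) (BT.node (nat_lit 10069184) (BT.leaf (nat_lit 33849101)) (BT.leaf (nat_lit 29042465))) (BT.node (nat_lit 10069312) (BT.leaf (nat_lit 28896773)) (BT.leaf (nat_lit 28896273))))) (BT.node (nat_lit 10069632) (BT.node (nat_lit 10069504) (BT.node (nat_lit 10069440) (BT.leaf (nat_lit 31574041)) (BT.leaf (nat_lit 31574045))) (BT.node (nat_lit 10069568) (BT.leaf (nat_lit 48292897)) (BT.leaf (nat_lit 32947489)))) (BT.node (nat_lit 10069760) (BT.node (nat_lit 10069696) (BT.leaf (nat_lit 27314449)) (BT.leaf (nat_lit 28898065))) (BT.node (nat_lit 10069762) (BT.leaf (nat_lit 38899209)) (BT.leaf (nat_lit 774460)))))) (BT.node (nat_lit 10070144) (BT.node (nat_lit 10069952) (BT.node (nat_lit 10069892) (BT.node (nat_lit 10069888) (BT.leaf (nat_lit 40268549)) (BT.leaf (nat_lit 32132877))) (BT.node (nat_lit 10069893) (BT.leaf (nat_lit 662944)) (BT.leaf (nat_lit 662944)))) (BT.node (nat_lit 10070080) (BT.node (nat_lit 10070016) (BT.leaf (nat_lit 28898577)) (BT.leaf (nat_lit 31435285))) (BT.node (nat_lit 10070085) (BT.leaf (nat_lit 48292873)) (BT.leaf (nat_lit 721940))))) (BT.node (nat_lit 10070337) (BT.node (nat_lit 10070272) (BT.node (nat_lit 10070208) (BT.leaf (nat_lit 40278809)) (BT.leaf (nat_lit 39159057))) (BT.node (nat_lit 10070336) (BT.leaf (nat_lit 32766233)) (BT.leaf (nat_lit 31343637)))) (BT.node (nat_lit 10070400) (BT.node (nat_lit 10070344) (BT.leaf (nat_lit 673648)) (BT.leaf (nat_lit 673648))) (BT.node (nat_lit 10070407) (BT.leaf (nat_lit 30214161)) (BT.leaf (nat_lit 644792))))))) (BT.node (nat_lit 10071680) (BT.node (nat_lit 10071040) (BT.node (nat_lit 10070784) (BT.node (nat_lit 10070656) (BT.node (nat_lit 10070528) (BT.leaf (nat_lit 28899597)) (BT.leaf (nat_lit 40281881))) (BT.node (nat_lit 10070720) (BT.leaf (nat_lit 43138581)) (BT.leaf (nat_lit 47843353)))) (BT.node (nat_lit 10070912) (BT.node (nat_lit 10070848) (BT.leaf (nat_lit 46253089)) (BT.leaf (nat_lit 32865813))) (BT.node (nat_lit 10070976) (BT.leaf (nat_lit 30912005)) (BT.leaf (nat_lit 30912009))))) (BT.node (nat_lit 10071424) (BT.node (nat_lit 10071296) (BT.node (nat_lit 10071104) (BT.leaf (nat_lit 30912013)) (BT.leaf (nat_lit 30912017))) (BT.node (nat_lit 10071360) (BT.leaf (nat_lit 44812817)) (BT.leaf (nat_lit 38629649)))) (BT.node (nat_lit 10071552) (BT.node (nat_lit 10071488) (BT.leaf (nat_lit 29069581)) (BT.leaf (nat_lit 30339101))) (BT.node (nat_lit 10071616) (BT.leaf (nat_lit 41635869)) (BT.leaf (nat_lit 28900113)))))) (BT.node (nat_lit 10072192) (BT.node (nat_lit 10071936) (BT.node (nat_lit 10071808) (BT.node (nat_lit 10071744) (BT.leaf (nat_lit 29069593)) (BT.leaf (nat_lit 29069597))) (BT.node (nat_lit 10071872) (BT.leaf (nat_lit 47705621)) (BT.leaf (nat_lit 28878101)))) (BT.node (nat_lit 10072064) (BT.node (nat_lit 10072000) (BT.leaf (nat_lit 48356621)) (BT.leaf (nat_lit 30066205))) (BT.node (nat_lit 10072128) (BT.leaf (nat_lit 30339617)) (BT.leaf (nat_lit 42084613))))) (BT.node (nat_lit 10072448) (BT.node (nat_lit 10072320) (BT.node (nat_lit 10072256) (BT.leaf (nat_lit 28900129)) (BT.leaf (nat_lit 41635853))) (BT.node (nat_lit 10072384) (BT.leaf (nat_lit 35329029)) (BT.leaf (nat_lit 35329033)))) (BT.node (nat_lit 10072576) (BT.node (nat_lit 10072512) (BT.leaf (nat_lit 35329041)) (BT.leaf (nat_lit 35329057))) (BT.node (nat_lit 10072640) (BT.leaf (nat_lit 40290589)) (BT.leaf (nat_lit 39636001)))))))))))) (BT.node (nat_lit 10103808) (BT.node (nat_lit 10088320) (BT.node (nat_lit 10080448) (BT.node (nat_lit 10076416) (BT.node (nat_lit 10074624) (BT.node (nat_lit 10073792) (BT.node (nat_lit 10073280) (BT.node (nat_lit 10073024) (BT.node (nat_lit 10072832) (BT.node (nat_lit 10072768) (BT.leaf (nat_lit 35319045)) (BT.leaf (nat_lit 44586245))) (BT.node (nat_lit 10072896) (BT.leaf (nat_lit 49769989)) (BT.leaf (nat_lit 43782421)))) (BT.node (nat_lit 10073152) (BT.node (nat_lit 10073088) (BT.leaf (nat_lit 39635221)) (BT.leaf (nat_lit 39913733))) (BT.node (nat_lit 10073216) (BT.leaf (nat_lit 47606293)) (BT.leaf (nat_lit 28901397))))) (BT.node (nat_lit 10073536) (BT.node (nat_lit 10073408) (BT.node (nat_lit 10073344) (BT.leaf (nat_lit 49310221)) (BT.leaf (nat_lit 41637133))) (BT.node (nat_lit 10073472) (BT.leaf (nat_lit 48213265)) (BT.leaf (nat_lit 49310493)))) (BT.node (nat_lit 10073664) (BT.node (nat_lit 10073600) (BT.leaf (nat_lit 43289097)) (BT.leaf (nat_lit 50251285))) (BT.node (nat_lit 10073728) (BT.leaf (nat_lit 40249357)) (BT.leaf (nat_lit 39860233)))))) (BT.node (nat_lit 10074112) (BT.node (nat_lit 10073926) (BT.node (nat_lit 10073856) (BT.node (nat_lit 10073800) (BT.leaf (nat_lit 28901661)) (BT.leaf (nat_lit 687044))) (BT.node (nat_lit 10073920) (BT.leaf (nat_lit 46257953)) (BT.leaf (nat_lit 49089557)))) (BT.node (nat_lit 10073984) (BT.node (nat_lit 10073927) (BT.leaf (nat_lit 660180)) (BT.leaf (nat_lit 660180))) (BT.node (nat_lit 10074048) (BT.leaf (nat_lit 28902677)) (BT.leaf (nat_lit 28902177))))) (BT.node (nat_lit 10074368) (BT.node (nat_lit 10074240) (BT.node (nat_lit 10074176) (BT.leaf (nat_lit 47499285)) (BT.leaf (nat_lit 29671449))) (BT.node (nat_lit 10074304) (BT.leaf (nat_lit 45628449)) (BT.leaf (nat_lit 43670557)))) (BT.node (nat_lit 10074496) (BT.node (nat_lit 10074432) (BT.leaf (nat_lit 40131849)) (BT.leaf (nat_lit 40131857))) (BT.node (nat_lit 10074560) (BT.leaf (nat_lit 45629957)) (BT.leaf (nat_lit 40833825))))))) (BT.node (nat_lit 10075392) (BT.node (nat_lit 10075011) (BT.node (nat_lit 10074880) (BT.node (nat_lit 10074752) (BT.node (nat_lit 10074688) (BT.leaf (nat_lit 42967309)) (BT.leaf (nat_lit 30787361))) (BT.node (nat_lit 10074816) (BT.leaf (nat_lit 30888225)) (BT.leaf (nat_lit 38590497)))) (BT.node (nat_lit 10075008) (BT.node (nat_lit 10074944) (BT.leaf (nat_lit 38590241)) (BT.leaf (nat_lit 40017161))) (BT.node (nat_lit 10075010) (BT.leaf (nat_lit 28826645)) (BT.leaf (nat_lit 639924))))) (BT.node (nat_lit 10075136) (BT.node (nat_lit 10075015) (BT.node (nat_lit 10075012) (BT.leaf (nat_lit 639924)) (BT.leaf (nat_lit 639924))) (BT.node (nat_lit 10075072) (BT.leaf (nat_lit 639924)) (BT.leaf (nat_lit 39732501)))) (BT.node (nat_lit 10075264) (BT.node (nat_lit 10075200) (BT.leaf (nat_lit 38508809)) (BT.leaf (nat_lit 44313121))) (BT.node (nat_lit 10075328) (BT.leaf (nat_lit 47870473)) (BT.leaf (nat_lit 45171205)))))) (BT.node (nat_lit 10075904) (BT.node (nat_lit 10075648) (BT.node (nat_lit 10075520) (BT.node (nat_lit 10075456) (BT.leaf (nat_lit 38951957)) (BT.leaf (nat_lit 40301593))) (BT.node (nat_lit 10075584) (BT.leaf (nat_lit 48220165)) (BT.leaf (nat_lit 42340885)))) (BT.node (nat_lit 10075776) (BT.node (nat_lit 10075712) (BT.leaf (nat_lit 29288721)) (BT.leaf (nat_lit 49455129))) (BT.node (nat_lit 10075840) (BT.leaf (nat_lit 29288737)) (BT.leaf (nat_lit 42968857))))) (BT.node (nat_lit 10076160) (BT.node (nat_lit 10076032) (BT.node (nat_lit 10075968) (BT.leaf (nat_lit 44498185)) (BT.leaf (nat_lit 32765217))) (BT.node (nat_lit 10076096) (BT.leaf (nat_lit 38487329)) (BT.leaf (nat_lit 28904989)))) (BT.node (nat_lit 10076288) (BT.node (nat_lit 10076224) (BT.leaf (nat_lit 43132181)) (BT.leaf (nat_lit 28904985))) (BT.node (nat_lit 10076352) (BT.leaf (nat_lit 28905493)) (BT.leaf (nat_lit 39570441)))))))) (BT.node (nat_lit 10078400) (BT.node (nat_lit 10077440) (BT.node (nat_lit 10076928) (BT.node (nat_lit 10076672) (BT.node (nat_lit 10076544) (BT.node (nat_lit 10076480) (BT.leaf (nat_lit 39570445)) (BT.leaf (nat_lit 39570449))) (BT.node (nat_lit 10076608) (BT.leaf (nat_lit 39570465)) (BT.leaf (nat_lit 39801889)))) (BT.node (nat_lit 10076800) (BT.node (nat_lit 10076736) (BT.leaf (nat_lit 28906513)) (BT.leaf (nat_lit 47471373))) (BT.node (nat_lit 10076864) (BT.leaf (nat_lit 39207429)) (BT.leaf (nat_lit 38454305))))) (BT.node (nat_lit 10077184) (BT.node (nat_lit 10077056) (BT.node (nat_lit 10076992) (BT.leaf (nat_lit 32707333)) (BT.leaf (nat_lit 32707349))) (BT.node (nat_lit 10077120) (BT.leaf (nat_lit 34704665)) (BT.leaf (nat_lit 34704669)))) (BT.node (nat_lit 10077312) (BT.node (nat_lit 10077248) (BT.leaf (nat_lit 28909841)) (BT.leaf (nat_lit 28909845))) (BT.node (nat_lit 10077376) (BT.leaf (nat_lit 30937361)) (BT.leaf (nat_lit 48791061)))))) (BT.node (nat_lit 10077952) (BT.node (nat_lit 10077760) (BT.node (nat_lit 10077568) (BT.node (nat_lit 10077504) (BT.leaf (nat_lit 44308001)) (BT.leaf (nat_lit 37821721))) (BT.node (nat_lit 10077696) (BT.leaf (nat_lit 37821725)) (BT.leaf (nat_lit 45391109)))) (BT.node (nat_lit 10077888) (BT.node (nat_lit 10077824) (BT.leaf (nat_lit 44367369)) (BT.leaf (nat_lit 28915217))) (BT.node (nat_lit 10077889) (BT.leaf (nat_lit 43037449)) (BT.leaf (nat_lit 645992))))) (BT.node (nat_lit 10078208) (BT.node (nat_lit 10078080) (BT.node (nat_lit 10078016) (BT.leaf (nat_lit 40251169)) (BT.leaf (nat_lit 41327129))) (BT.node (nat_lit 10078144) (BT.leaf (nat_lit 45645317)) (BT.leaf (nat_lit 31408901)))) (BT.node (nat_lit 10078336) (BT.node (nat_lit 10078272) (BT.leaf (nat_lit 31408913)) (BT.leaf (nat_lit 31408917))) (BT.node (nat_lit 10078341) (BT.leaf (nat_lit 41645585)) (BT.leaf (nat_lit 629972))))))) (BT.node (nat_lit 10079488) (BT.node (nat_lit 10078976) (BT.node (nat_lit 10078720) (BT.node (nat_lit 10078592) (BT.node (nat_lit 10078528) (BT.leaf (nat_lit 40251157)) (BT.leaf (nat_lit 48665377))) (BT.node (nat_lit 10078656) (BT.leaf (nat_lit 43013905)) (BT.leaf (nat_lit 33564433)))) (BT.node (nat_lit 10078848) (BT.node (nat_lit 10078784) (BT.leaf (nat_lit 40134169)) (BT.leaf (nat_lit 40134173))) (BT.node (nat_lit 10078912) (BT.leaf (nat_lit 44157201)) (BT.leaf (nat_lit 31767817))))) (BT.node (nat_lit 10079232) (BT.node (nat_lit 10079104) (BT.node (nat_lit 10079040) (BT.leaf (nat_lit 28917009)) (BT.leaf (nat_lit 28918801))) (BT.node (nat_lit 10079168) (BT.leaf (nat_lit 28918033)) (BT.leaf (nat_lit 28917777)))) (BT.node (nat_lit 10079360) (BT.node (nat_lit 10079296) (BT.leaf (nat_lit 28832277)) (BT.leaf (nat_lit 46937885))) (BT.node (nat_lit 10079424) (BT.leaf (nat_lit 37845521)) (BT.leaf (nat_lit 46937865)))))) (BT.node (nat_lit 10080000) (BT.node (nat_lit 10079744) (BT.node (nat_lit 10079616) (BT.node (nat_lit 10079552) (BT.leaf (nat_lit 51568417)) (BT.leaf (nat_lit 40251153))) (BT.node (nat_lit 10079680) (BT.leaf (nat_lit 40335381)) (BT.leaf (nat_lit 40254733)))) (BT.node (nat_lit 10079872) (BT.node (nat_lit 10079808) (BT.leaf (nat_lit 39645721)) (BT.leaf (nat_lit 44070165))) (BT.node (nat_lit 10079936) (BT.leaf (nat_lit 42084369)) (BT.leaf (nat_lit 28920345))))) (BT.node (nat_lit 10080256) (BT.node (nat_lit 10080128) (BT.node (nat_lit 10080064) (BT.leaf (nat_lit 27757853)) (BT.leaf (nat_lit 40708377))) (BT.node (nat_lit 10080192) (BT.leaf (nat_lit 28919557)) (BT.leaf (nat_lit 40709653)))) (BT.node (nat_lit 10080320) (BT.node (nat_lit 10080261) (BT.leaf (nat_lit 51315729)) (BT.leaf (nat_lit 764328))) (BT.node (nat_lit 10080384) (BT.leaf (nat_lit 46229013)) (BT.leaf (nat_lit 39099677))))))))) (BT.node (nat_lit 10084480) (BT.node (nat_lit 10082496) (BT.node (nat_lit 10081472) (BT.node (nat_lit 10080960) (BT.node (nat_lit 10080704) (BT.node (nat_lit 10080576) (BT.node (nat_lit 10080512) (BT.leaf (nat_lit 39644433)) (BT.leaf (nat_lit 29400601))) (BT.node (nat_lit 10080640) (BT.leaf (nat_lit 29400605)) (BT.leaf (nat_lit 44979469)))) (BT.node (nat_lit 10080832) (BT.node (nat_lit 10080768) (BT.leaf (nat_lit 29400341)) (BT.leaf (nat_lit 40144645))) (BT.node (nat_lit 10080896) (BT.leaf (nat_lit 40144657)) (BT.leaf (nat_lit 40144661))))) (BT.node (nat_lit 10081216) (BT.node (nat_lit 10081088) (BT.node (nat_lit 10081024) (BT.leaf (nat_lit 50994181)) (BT.leaf (nat_lit 50994437))) (BT.node (nat_lit 10081152) (BT.leaf (nat_lit 44849177)) (BT.leaf (nat_lit 32257285)))) (BT.node (nat_lit 10081344) (BT.node (nat_lit 10081280) (BT.leaf (nat_lit 28926473)) (BT.leaf (nat_lit 33024533))) (BT.node (nat_lit 10081408) (BT.leaf (nat_lit 33024537)) (BT.leaf (nat_lit 40252937)))))) (BT.node (nat_lit 10081984) (BT.node (nat_lit 10081728) (BT.node (nat_lit 10081600) (BT.node (nat_lit 10081536) (BT.leaf (nat_lit 40252941)) (BT.leaf (nat_lit 34509329))) (BT.node (nat_lit 10081664) (BT.leaf (nat_lit 40252949)) (BT.leaf (nat_lit 28927257)))) (BT.node (nat_lit 10081856) (BT.node (nat_lit 10081792) (BT.leaf (nat_lit 37077281)) (BT.leaf (nat_lit 42697497))) (BT.node (nat_lit 10081920) (BT.leaf (nat_lit 28983317)) (BT.leaf (nat_lit 28983321))))) (BT.node (nat_lit 10082240) (BT.node (nat_lit 10082112) (BT.node (nat_lit 10082048) (BT.leaf (nat_lit 28983325)) (BT.leaf (nat_lit 38590741))) (BT.node (nat_lit 10082176) (BT.leaf (nat_lit 49298701)) (BT.leaf (nat_lit 32890393)))) (BT.node (nat_lit 10082368) (BT.node (nat_lit 10082304) (BT.leaf (nat_lit 28929561)) (BT.leaf (nat_lit 31499537))) (BT.node (nat_lit 10082432) (BT.leaf (nat_lit 31499541)) (BT.leaf (nat_lit 28930589))))))) (BT.node (nat_lit 10083584) (BT.node (nat_lit 10083008) (BT.node (nat_lit 10082752) (BT.node (nat_lit 10082624) (BT.node (nat_lit 10082560) (BT.leaf (nat_lit 40425733)) (BT.leaf (nat_lit 39608597))) (BT.node (nat_lit 10082688) (BT.leaf (nat_lit 45424649)) (BT.leaf (nat_lit 40712201)))) (BT.node (nat_lit 10082880) (BT.node (nat_lit 10082816) (BT.leaf (nat_lit 33570325)) (BT.leaf (nat_lit 40609309))) (BT.node (nat_lit 10082944) (BT.leaf (nat_lit 46142989)) (BT.leaf (nat_lit 44291089))))) (BT.node (nat_lit 10083328) (BT.node (nat_lit 10083136) (BT.node (nat_lit 10083072) (BT.leaf (nat_lit 44291093)) (BT.leaf (nat_lit 37722653))) (BT.node (nat_lit 10083264) (BT.leaf (nat_lit 39541509)) (BT.leaf (nat_lit 29760529)))) (BT.node (nat_lit 10083456) (BT.node (nat_lit 10083392) (BT.leaf (nat_lit 40166945)) (BT.leaf (nat_lit 38882337))) (BT.node (nat_lit 10083520) (BT.leaf (nat_lit 41308693)) (BT.leaf (nat_lit 28934929)))))) (BT.node (nat_lit 10084096) (BT.node (nat_lit 10083840) (BT.node (nat_lit 10083712) (BT.node (nat_lit 10083648) (BT.leaf (nat_lit 38821141)) (BT.leaf (nat_lit 38821145))) (BT.node (nat_lit 10083776) (BT.leaf (nat_lit 38821149)) (BT.leaf (nat_lit 28816657)))) (BT.node (nat_lit 10083968) (BT.node (nat_lit 10083904) (BT.leaf (nat_lit 44301601)) (BT.leaf (nat_lit 42948373))) (BT.node (nat_lit 10084032) (BT.leaf (nat_lit 43673349)) (BT.leaf (nat_lit 42621189))))) (BT.node (nat_lit 10084352) (BT.node (nat_lit 10084224) (BT.node (nat_lit 10084160) (BT.leaf (nat_lit 46974745)) (BT.leaf (nat_lit 29797665))) (BT.node (nat_lit 10084288) (BT.leaf (nat_lit 46974489)) (BT.leaf (nat_lit 28542489)))) (BT.node (nat_lit 10084420) (BT.node (nat_lit 10084416) (BT.leaf (nat_lit 49310485)) (BT.leaf (nat_lit 45368085))) (BT.node (nat_lit 10084424) (BT.leaf (nat_lit 667180)) (BT.leaf (nat_lit 667180)))))))) (BT.node (nat_lit 10086272) (BT.node (nat_lit 10085377) (BT.node (nat_lit 10084928) (BT.node (nat_lit 10084736) (BT.node (nat_lit 10084608) (BT.node (nat_lit 10084544) (BT.leaf (nat_lit 28937233)) (BT.leaf (nat_lit 28936977))) (BT.node (nat_lit 10084672) (BT.leaf (nat_lit 45070365)) (BT.leaf (nat_lit 46418449)))) (BT.node (nat_lit 10084864) (BT.node (nat_lit 10084800) (BT.leaf (nat_lit 32232985)) (BT.leaf (nat_lit 39591701))) (BT.node (nat_lit 10084865) (BT.leaf (nat_lit 39592713)) (BT.leaf (nat_lit 707268))))) (BT.node (nat_lit 10085184) (BT.node (nat_lit 10085056) (BT.node (nat_lit 10084992) (BT.leaf (nat_lit 36000529)) (BT.leaf (nat_lit 44857889))) (BT.node (nat_lit 10085120) (BT.leaf (nat_lit 39591453)) (BT.leaf (nat_lit 31093773)))) (BT.node (nat_lit 10085312) (BT.node (nat_lit 10085248) (BT.leaf (nat_lit 32232729)) (BT.leaf (nat_lit 32232733))) (BT.node (nat_lit 10085376) (BT.leaf (nat_lit 39739397)) (BT.leaf (nat_lit 43768597)))))) (BT.node (nat_lit 10085760) (BT.node (nat_lit 10085504) (BT.node (nat_lit 10085380) (BT.node (nat_lit 10085378) (BT.leaf (nat_lit 649784)) (BT.leaf (nat_lit 649784))) (BT.node (nat_lit 10085440) (BT.leaf (nat_lit 746532)) (BT.leaf (nat_lit 31646985)))) (BT.node (nat_lit 10085632) (BT.node (nat_lit 10085568) (BT.leaf (nat_lit 46847509)) (BT.leaf (nat_lit 35217437))) (BT.node (nat_lit 10085696) (BT.leaf (nat_lit 40194081)) (BT.leaf (nat_lit 40194337))))) (BT.node (nat_lit 10086016) (BT.node (nat_lit 10085888) (BT.node (nat_lit 10085824) (BT.leaf (nat_lit 48233221)) (BT.leaf (nat_lit 31868165))) (BT.node (nat_lit 10085952) (BT.leaf (nat_lit 41474069)) (BT.leaf (nat_lit 39608077)))) (BT.node (nat_lit 10086144) (BT.node (nat_lit 10086080) (BT.leaf (nat_lit 42583585)) (BT.leaf (nat_lit 41774597))) (BT.node (nat_lit 10086208) (BT.leaf (nat_lit 29490201)) (BT.leaf (nat_lit 37939221))))))) (BT.node (nat_lit 10087232) (BT.node (nat_lit 10086784) (BT.node (nat_lit 10086528) (BT.node (nat_lit 10086400) (BT.node (nat_lit 10086336) (BT.leaf (nat_lit 34833437)) (BT.leaf (nat_lit 46931725))) (BT.node (nat_lit 10086464) (BT.leaf (nat_lit 45824545)) (BT.leaf (nat_lit 47516169)))) (BT.node (nat_lit 10086656) (BT.node (nat_lit 10086592) (BT.leaf (nat_lit 42033413)) (BT.leaf (nat_lit 37939229))) (BT.node (nat_lit 10086720) (BT.leaf (nat_lit 34265361)) (BT.leaf (nat_lit 44118037))))) (BT.node (nat_lit 10086981) (BT.node (nat_lit 10086912) (BT.node (nat_lit 10086848) (BT.leaf (nat_lit 41102369)) (BT.leaf (nat_lit 37760013))) (BT.node (nat_lit 10086976) (BT.leaf (nat_lit 43111697)) (BT.leaf (nat_lit 49315857)))) (BT.node (nat_lit 10087104) (BT.node (nat_lit 10087040) (BT.leaf (nat_lit 646652)) (BT.leaf (nat_lit 29290513))) (BT.node (nat_lit 10087168) (BT.leaf (nat_lit 46316293)) (BT.leaf (nat_lit 48905761)))))) (BT.node (nat_lit 10087744) (BT.node (nat_lit 10087488) (BT.node (nat_lit 10087360) (BT.node (nat_lit 10087296) (BT.leaf (nat_lit 40611345)) (BT.leaf (nat_lit 47466769))) (BT.node (nat_lit 10087424) (BT.leaf (nat_lit 41615125)) (BT.leaf (nat_lit 44788485)))) (BT.node (nat_lit 10087616) (BT.node (nat_lit 10087552) (BT.leaf (nat_lit 41615129)) (BT.leaf (nat_lit 28943121))) (BT.node (nat_lit 10087680) (BT.leaf (nat_lit 30549785)) (BT.leaf (nat_lit 30549789))))) (BT.node (nat_lit 10088064) (BT.node (nat_lit 10087936) (BT.node (nat_lit 10087808) (BT.leaf (nat_lit 39826693)) (BT.leaf (nat_lit 29648905))) (BT.node (nat_lit 10088000) (BT.leaf (nat_lit 37860357)) (BT.leaf (nat_lit 29650957)))) (BT.node (nat_lit 10088192) (BT.node (nat_lit 10088128) (BT.leaf (nat_lit 28960281)) (BT.leaf (nat_lit 33994769))) (BT.node (nat_lit 10088256) (BT.leaf (nat_lit 30030109)) (BT.leaf (nat_lit 47178265)))))))))) (BT.node (nat_lit 10096256) (BT.node (nat_lit 10092416) (BT.node (nat_lit 10090368) (BT.node (nat_lit 10089344) (BT.node (nat_lit 10088832) (BT.node (nat_lit 10088576) (BT.node (nat_lit 10088448) (BT.node (nat_lit 10088384) (BT.leaf (nat_lit 28943377)) (BT.leaf (nat_lit 31178765))) (BT.node (nat_lit 10088512) (BT.leaf (nat_lit 28957965)) (BT.leaf (nat_lit 35539209)))) (BT.node (nat_lit 10088704) (BT.node (nat_lit 10088640) (BT.leaf (nat_lit 32359957)) (BT.leaf (nat_lit 32359969))) (BT.node (nat_lit 10088768) (BT.leaf (nat_lit 46133025)) (BT.leaf (nat_lit 40369953))))) (BT.node (nat_lit 10089088) (BT.node (nat_lit 10088960) (BT.node (nat_lit 10088896) (BT.leaf (nat_lit 42003489)) (BT.leaf (nat_lit 42012705))) (BT.node (nat_lit 10089024) (BT.leaf (nat_lit 44101385)) (BT.leaf (nat_lit 31261461)))) (BT.node (nat_lit 10089216) (BT.node (nat_lit 10089152) (BT.leaf (nat_lit 28939293)) (BT.leaf (nat_lit 41205253))) (BT.node (nat_lit 10089280) (BT.leaf (nat_lit 39844617)) (BT.leaf (nat_lit 43732765)))))) (BT.node (nat_lit 10089856) (BT.node (nat_lit 10089600) (BT.node (nat_lit 10089472) (BT.node (nat_lit 10089408) (BT.leaf (nat_lit 32021253)) (BT.leaf (nat_lit 42896161))) (BT.node (nat_lit 10089536) (BT.leaf (nat_lit 27281693)) (BT.leaf (nat_lit 37804569)))) (BT.node (nat_lit 10089728) (BT.node (nat_lit 10089664) (BT.leaf (nat_lit 37804573)) (BT.leaf (nat_lit 37804577))) (BT.node (nat_lit 10089792) (BT.leaf (nat_lit 40342025)) (BT.leaf (nat_lit 43154957))))) (BT.node (nat_lit 10090112) (BT.node (nat_lit 10089984) (BT.node (nat_lit 10089920) (BT.leaf (nat_lit 38388249)) (BT.leaf (nat_lit 38388253))) (BT.node (nat_lit 10090048) (BT.leaf (nat_lit 39666957)) (BT.leaf (nat_lit 44578833)))) (BT.node (nat_lit 10090240) (BT.node (nat_lit 10090176) (BT.leaf (nat_lit 46201349)) (BT.leaf (nat_lit 41606165))) (BT.node (nat_lit 10090304) (BT.leaf (nat_lit 37801733)) (BT.leaf (nat_lit 44547101))))))) (BT.node (nat_lit 10091456) (BT.node (nat_lit 10090944) (BT.node (nat_lit 10090624) (BT.node (nat_lit 10090496) (BT.node (nat_lit 10090432) (BT.leaf (nat_lit 43500557)) (BT.leaf (nat_lit 39608073))) (BT.node (nat_lit 10090560) (BT.leaf (nat_lit 28951329)) (BT.leaf (nat_lit 28948741)))) (BT.node (nat_lit 10090816) (BT.node (nat_lit 10090688) (BT.leaf (nat_lit 45870853)) (BT.leaf (nat_lit 43129869))) (BT.node (nat_lit 10090880) (BT.leaf (nat_lit 40199685)) (BT.leaf (nat_lit 44659973))))) (BT.node (nat_lit 10091200) (BT.node (nat_lit 10091072) (BT.node (nat_lit 10091008) (BT.leaf (nat_lit 31792389)) (BT.leaf (nat_lit 41340953))) (BT.node (nat_lit 10091136) (BT.leaf (nat_lit 41340957)) (BT.leaf (nat_lit 31661333)))) (BT.node (nat_lit 10091328) (BT.node (nat_lit 10091264) (BT.leaf (nat_lit 42632725)) (BT.leaf (nat_lit 40125705))) (BT.node (nat_lit 10091392) (BT.leaf (nat_lit 42632733)) (BT.leaf (nat_lit 46207777)))))) (BT.node (nat_lit 10092032) (BT.node (nat_lit 10091776) (BT.node (nat_lit 10091584) (BT.node (nat_lit 10091520) (BT.leaf (nat_lit 46208033)) (BT.leaf (nat_lit 46208801))) (BT.node (nat_lit 10091648) (BT.leaf (nat_lit 46208545)) (BT.leaf (nat_lit 31560453)))) (BT.node (nat_lit 10091904) (BT.node (nat_lit 10091840) (BT.leaf (nat_lit 43833365)) (BT.leaf (nat_lit 28949277))) (BT.node (nat_lit 10091968) (BT.leaf (nat_lit 31192597)) (BT.leaf (nat_lit 41489181))))) (BT.node (nat_lit 10092229) (BT.node (nat_lit 10092160) (BT.node (nat_lit 10092096) (BT.leaf (nat_lit 31111189)) (BT.leaf (nat_lit 31111193))) (BT.node (nat_lit 10092224) (BT.leaf (nat_lit 31111197)) (BT.leaf (nat_lit 31865613)))) (BT.node (nat_lit 10092288) (BT.node (nat_lit 10092230) (BT.leaf (nat_lit 698924)) (BT.leaf (nat_lit 698924))) (BT.node (nat_lit 10092352) (BT.leaf (nat_lit 51348509)) (BT.leaf (nat_lit 31188245)))))))) (BT.node (nat_lit 10094016) (BT.node (nat_lit 10093312) (BT.node (nat_lit 10092800) (BT.node (nat_lit 10092544) (BT.node (nat_lit 10092485) (BT.node (nat_lit 10092480) (BT.leaf (nat_lit 47467281)) (BT.leaf (nat_lit 31790341))) (BT.node (nat_lit 10092488) (BT.leaf (nat_lit 698940)) (BT.leaf (nat_lit 764624)))) (BT.node (nat_lit 10092672) (BT.node (nat_lit 10092608) (BT.leaf (nat_lit 47131141)) (BT.leaf (nat_lit 39608333))) (BT.node (nat_lit 10092736) (BT.leaf (nat_lit 48741641)) (BT.leaf (nat_lit 28952353))))) (BT.node (nat_lit 10093056) (BT.node (nat_lit 10092928) (BT.node (nat_lit 10092864) (BT.leaf (nat_lit 31791365)) (BT.leaf (nat_lit 33009669))) (BT.node (nat_lit 10092992) (BT.leaf (nat_lit 47171337)) (BT.leaf (nat_lit 40372253)))) (BT.node (nat_lit 10093184) (BT.node (nat_lit 10093120) (BT.leaf (nat_lit 28940309)) (BT.leaf (nat_lit 32021281))) (BT.node (nat_lit 10093248) (BT.leaf (nat_lit 41119493)) (BT.leaf (nat_lit 28463125)))))) (BT.node (nat_lit 10093632) (BT.node (nat_lit 10093504) (BT.node (nat_lit 10093384) (BT.node (nat_lit 10093376) (BT.leaf (nat_lit 41119505)) (BT.leaf (nat_lit 29528349))) (BT.node (nat_lit 10093440) (BT.leaf (nat_lit 775700)) (BT.leaf (nat_lit 41119521)))) (BT.node (nat_lit 10093569) (BT.node (nat_lit 10093568) (BT.leaf (nat_lit 43835397)) (BT.leaf (nat_lit 28950557))) (BT.node (nat_lit 10093572) (BT.leaf (nat_lit 644256)) (BT.leaf (nat_lit 644256))))) (BT.node (nat_lit 10093760) (BT.node (nat_lit 10093696) (BT.node (nat_lit 10093638) (BT.leaf (nat_lit 34267657)) (BT.leaf (nat_lit 645352))) (BT.node (nat_lit 10093700) (BT.leaf (nat_lit 29489681)) (BT.leaf (nat_lit 765976)))) (BT.node (nat_lit 10093888) (BT.node (nat_lit 10093824) (BT.leaf (nat_lit 41232673)) (BT.leaf (nat_lit 51462681))) (BT.node (nat_lit 10093952) (BT.leaf (nat_lit 28950561)) (BT.leaf (nat_lit 28950789))))))) (BT.node (nat_lit 10095232) (BT.node (nat_lit 10094592) (BT.node (nat_lit 10094272) (BT.node (nat_lit 10094144) (BT.node (nat_lit 10094080) (BT.leaf (nat_lit 28463121)) (BT.leaf (nat_lit 28951061))) (BT.node (nat_lit 10094208) (BT.leaf (nat_lit 29490205)) (BT.leaf (nat_lit 42630673)))) (BT.node (nat_lit 10094400) (BT.node (nat_lit 10094336) (BT.leaf (nat_lit 40374809)) (BT.leaf (nat_lit 29484309))) (BT.node (nat_lit 10094464) (BT.leaf (nat_lit 34830881)) (BT.leaf (nat_lit 45386273))))) (BT.node (nat_lit 10094976) (BT.node (nat_lit 10094784) (BT.node (nat_lit 10094720) (BT.leaf (nat_lit 28940553)) (BT.leaf (nat_lit 44103697))) (BT.node (nat_lit 10094848) (BT.leaf (nat_lit 40346893)) (BT.leaf (nat_lit 40380701)))) (BT.node (nat_lit 10095104) (BT.node (nat_lit 10095040) (BT.leaf (nat_lit 28952597)) (BT.leaf (nat_lit 28940569))) (BT.node (nat_lit 10095168) (BT.leaf (nat_lit 39354897)) (BT.leaf (nat_lit 28940557)))))) (BT.node (nat_lit 10095744) (BT.node (nat_lit 10095488) (BT.node (nat_lit 10095360) (BT.node (nat_lit 10095296) (BT.leaf (nat_lit 40927509)) (BT.leaf (nat_lit 47732241))) (BT.node (nat_lit 10095424) (BT.leaf (nat_lit 39761673)) (BT.leaf (nat_lit 42260497)))) (BT.node (nat_lit 10095616) (BT.node (nat_lit 10095552) (BT.leaf (nat_lit 46929425)) (BT.leaf (nat_lit 29898509))) (BT.node (nat_lit 10095680) (BT.leaf (nat_lit 37922077)) (BT.leaf (nat_lit 44294937))))) (BT.node (nat_lit 10096000) (BT.node (nat_lit 10095872) (BT.node (nat_lit 10095808) (BT.leaf (nat_lit 44294941)) (BT.leaf (nat_lit 45461785))) (BT.node (nat_lit 10095936) (BT.leaf (nat_lit 45391877)) (BT.leaf (nat_lit 29898517)))) (BT.node (nat_lit 10096128) (BT.node (nat_lit 10096064) (BT.leaf (nat_lit 31015185)) (BT.leaf (nat_lit 28953617))) (BT.node (nat_lit 10096192) (BT.leaf (nat_lit 39921437)) (BT.leaf (nat_lit 28947221))))))))) (BT.node (nat_lit 10100288) (BT.node (nat_lit 10098368) (BT.node (nat_lit 10097280) (BT.node (nat_lit 10096768) (BT.node (nat_lit 10096512) (BT.node (nat_lit 10096384) (BT.node (nat_lit 10096320) (BT.leaf (nat_lit 34452233)) (BT.leaf (nat_lit 34452237))) (BT.node (nat_lit 10096448) (BT.leaf (nat_lit 34452249)) (BT.leaf (nat_lit 34452253)))) (BT.node (nat_lit 10096640) (BT.node (nat_lit 10096576) (BT.leaf (nat_lit 34452257)) (BT.leaf (nat_lit 30694157))) (BT.node (nat_lit 10096704) (BT.leaf (nat_lit 45671201)) (BT.leaf (nat_lit 48080673))))) (BT.node (nat_lit 10097024) (BT.node (nat_lit 10096896) (BT.node (nat_lit 10096832) (BT.leaf (nat_lit 32115733)) (BT.leaf (nat_lit 48437509))) (BT.node (nat_lit 10096960) (BT.leaf (nat_lit 29025565)) (BT.leaf (nat_lit 38284813)))) (BT.node (nat_lit 10097152) (BT.node (nat_lit 10097088) (BT.leaf (nat_lit 47089669)) (BT.leaf (nat_lit 51002133))) (BT.node (nat_lit 10097216) (BT.leaf (nat_lit 31204369)) (BT.leaf (nat_lit 32643861)))))) (BT.node (nat_lit 10097792) (BT.node (nat_lit 10097536) (BT.node (nat_lit 10097408) (BT.node (nat_lit 10097344) (BT.leaf (nat_lit 47492881)) (BT.leaf (nat_lit 31691037))) (BT.node (nat_lit 10097472) (BT.leaf (nat_lit 45021717)) (BT.leaf (nat_lit 50748957)))) (BT.node (nat_lit 10097664) (BT.node (nat_lit 10097600) (BT.leaf (nat_lit 34181393)) (BT.leaf (nat_lit 33842449))) (BT.node (nat_lit 10097728) (BT.leaf (nat_lit 28957961)) (BT.leaf (nat_lit 28957729))))) (BT.node (nat_lit 10098112) (BT.node (nat_lit 10097920) (BT.node (nat_lit 10097856) (BT.leaf (nat_lit 32578081)) (BT.leaf (nat_lit 43998981))) (BT.node (nat_lit 10097984) (BT.leaf (nat_lit 32273681)) (BT.leaf (nat_lit 28958229)))) (BT.node (nat_lit 10098240) (BT.node (nat_lit 10098176) (BT.leaf (nat_lit 31178773)) (BT.leaf (nat_lit 31639313))) (BT.node (nat_lit 10098304) (BT.leaf (nat_lit 47589657)) (BT.leaf (nat_lit 31099153))))))) (BT.node (nat_lit 10099264) (BT.node (nat_lit 10098755) (BT.node (nat_lit 10098624) (BT.node (nat_lit 10098496) (BT.node (nat_lit 10098432) (BT.leaf (nat_lit 30361877)) (BT.leaf (nat_lit 41285653))) (BT.node (nat_lit 10098560) (BT.leaf (nat_lit 28057109)) (BT.leaf (nat_lit 49021457)))) (BT.node (nat_lit 10098696) (BT.node (nat_lit 10098688) (BT.leaf (nat_lit 28959509)) (BT.leaf (nat_lit 41385225))) (BT.node (nat_lit 10098752) (BT.leaf (nat_lit 755084)) (BT.leaf (nat_lit 44342277))))) (BT.node (nat_lit 10099008) (BT.node (nat_lit 10098880) (BT.node (nat_lit 10098816) (BT.leaf (nat_lit 677600)) (BT.leaf (nat_lit 31859729))) (BT.node (nat_lit 10098944) (BT.leaf (nat_lit 31097861)) (BT.leaf (nat_lit 33627921)))) (BT.node (nat_lit 10099136) (BT.node (nat_lit 10099072) (BT.leaf (nat_lit 29543201)) (BT.leaf (nat_lit 29650197))) (BT.node (nat_lit 10099200) (BT.leaf (nat_lit 32381457)) (BT.leaf (nat_lit 46511113)))))) (BT.node (nat_lit 10099776) (BT.node (nat_lit 10099520) (BT.node (nat_lit 10099392) (BT.node (nat_lit 10099328) (BT.leaf (nat_lit 28960285)) (BT.leaf (nat_lit 31489041))) (BT.node (nat_lit 10099456) (BT.leaf (nat_lit 28960793)) (BT.leaf (nat_lit 31489057)))) (BT.node (nat_lit 10099648) (BT.node (nat_lit 10099584) (BT.leaf (nat_lit 39300869)) (BT.leaf (nat_lit 39300873))) (BT.node (nat_lit 10099712) (BT.leaf (nat_lit 52299537)) (BT.leaf (nat_lit 28961557))))) (BT.node (nat_lit 10100032) (BT.node (nat_lit 10099904) (BT.node (nat_lit 10099840) (BT.leaf (nat_lit 31097889)) (BT.leaf (nat_lit 38302741))) (BT.node (nat_lit 10099968) (BT.leaf (nat_lit 31097877)) (BT.leaf (nat_lit 40400157)))) (BT.node (nat_lit 10100160) (BT.node (nat_lit 10100096) (BT.leaf (nat_lit 46458897)) (BT.leaf (nat_lit 30464277))) (BT.node (nat_lit 10100224) (BT.leaf (nat_lit 45708053)) (BT.leaf (nat_lit 46511129)))))))) (BT.node (nat_lit 10101888) (BT.node (nat_lit 10100992) (BT.node (nat_lit 10100608) (BT.node (nat_lit 10100352) (BT.node (nat_lit 10100293) (BT.node (nat_lit 10100291) (BT.leaf (nat_lit 37934853)) (BT.leaf (nat_lit 771052))) (BT.node (nat_lit 10100296) (BT.leaf (nat_lit 668564)) (BT.leaf (nat_lit 668564)))) (BT.node (nat_lit 10100480) (BT.node (nat_lit 10100416) (BT.leaf (nat_lit 29649685)) (BT.leaf (nat_lit 51108629))) (BT.node (nat_lit 10100544) (BT.leaf (nat_lit 40099093)) (BT.leaf (nat_lit 40099097))))) (BT.node (nat_lit 10100736) (BT.node (nat_lit 10100672) (BT.node (nat_lit 10100613) (BT.leaf (nat_lit 28767753)) (BT.leaf (nat_lit 735832))) (BT.node (nat_lit 10100680) (BT.leaf (nat_lit 29986833)) (BT.leaf (nat_lit 790688)))) (BT.node (nat_lit 10100864) (BT.node (nat_lit 10100800) (BT.leaf (nat_lit 29992965)) (BT.leaf (nat_lit 40223249))) (BT.node (nat_lit 10100928) (BT.leaf (nat_lit 31214853)) (BT.leaf (nat_lit 35166753)))))) (BT.node (nat_lit 10101504) (BT.node (nat_lit 10101248) (BT.node (nat_lit 10101120) (BT.node (nat_lit 10101056) (BT.leaf (nat_lit 32686345)) (BT.leaf (nat_lit 32686349))) (BT.node (nat_lit 10101184) (BT.leaf (nat_lit 32686353)) (BT.leaf (nat_lit 39125281)))) (BT.node (nat_lit 10101376) (BT.node (nat_lit 10101312) (BT.leaf (nat_lit 38611973)) (BT.leaf (nat_lit 39124757))) (BT.node (nat_lit 10101440) (BT.leaf (nat_lit 37756193)) (BT.leaf (nat_lit 48547861))))) (BT.node (nat_lit 10101632) (BT.node (nat_lit 10101571) (BT.node (nat_lit 10101568) (BT.leaf (nat_lit 42037277)) (BT.leaf (nat_lit 39296529))) (BT.node (nat_lit 10101573) (BT.leaf (nat_lit 649744)) (BT.leaf (nat_lit 649744)))) (BT.node (nat_lit 10101760) (BT.node (nat_lit 10101696) (BT.leaf (nat_lit 41409045)) (BT.leaf (nat_lit 41409029))) (BT.node (nat_lit 10101824) (BT.leaf (nat_lit 37780749)) (BT.leaf (nat_lit 31327253))))))) (BT.node (nat_lit 10102784) (BT.node (nat_lit 10102400) (BT.node (nat_lit 10102144) (BT.node (nat_lit 10102016) (BT.node (nat_lit 10101952) (BT.leaf (nat_lit 46196745)) (BT.leaf (nat_lit 30677269))) (BT.node (nat_lit 10102080) (BT.leaf (nat_lit 43296265)) (BT.leaf (nat_lit 49255701)))) (BT.node (nat_lit 10102272) (BT.node (nat_lit 10102208) (BT.leaf (nat_lit 38523933)) (BT.leaf (nat_lit 43365641))) (BT.node (nat_lit 10102336) (BT.leaf (nat_lit 45053985)) (BT.leaf (nat_lit 39604493))))) (BT.node (nat_lit 10102656) (BT.node (nat_lit 10102528) (BT.node (nat_lit 10102464) (BT.leaf (nat_lit 39123989)) (BT.leaf (nat_lit 49670917))) (BT.node (nat_lit 10102592) (BT.leaf (nat_lit 29290257)) (BT.leaf (nat_lit 29290261)))) (BT.node (nat_lit 10102722) (BT.node (nat_lit 10102720) (BT.leaf (nat_lit 32580101)) (BT.leaf (nat_lit 40797977))) (BT.node (nat_lit 10102728) (BT.leaf (nat_lit 637472)) (BT.leaf (nat_lit 637472)))))) (BT.node (nat_lit 10103296) (BT.node (nat_lit 10103040) (BT.node (nat_lit 10102912) (BT.node (nat_lit 10102848) (BT.leaf (nat_lit 40207905)) (BT.leaf (nat_lit 38305553))) (BT.node (nat_lit 10102976) (BT.leaf (nat_lit 38305557)) (BT.leaf (nat_lit 40208901)))) (BT.node (nat_lit 10103168) (BT.node (nat_lit 10103104) (BT.leaf (nat_lit 32582149)) (BT.leaf (nat_lit 30920205))) (BT.node (nat_lit 10103232) (BT.leaf (nat_lit 41697557)) (BT.leaf (nat_lit 42278921))))) (BT.node (nat_lit 10103552) (BT.node (nat_lit 10103424) (BT.node (nat_lit 10103360) (BT.leaf (nat_lit 28972821)) (BT.leaf (nat_lit 43838473))) (BT.node (nat_lit 10103488) (BT.leaf (nat_lit 43838489)) (BT.leaf (nat_lit 43838493)))) (BT.node (nat_lit 10103680) (BT.node (nat_lit 10103616) (BT.leaf (nat_lit 28974353)) (BT.leaf (nat_lit 28974097))) (BT.node (nat_lit 10103744) (BT.leaf (nat_lit 42339093)) (BT.leaf (nat_lit 41201697))))))))))) (BT.node (nat_lit 10119424) (BT.node (nat_lit 10111744) (BT.node (nat_lit 10107716) (BT.node (nat_lit 10105792) (BT.node (nat_lit 10104832) (BT.node (nat_lit 10104320) (BT.node (nat_lit 10104064) (BT.node (nat_lit 10103936) (BT.node (nat_lit 10103872) (BT.leaf (nat_lit 39555869)) (BT.leaf (nat_lit 48425993))) (BT.node (nat_lit 10104000) (BT.leaf (nat_lit 41201669)) (BT.leaf (nat_lit 41201677)))) (BT.node (nat_lit 10104192) (BT.node (nat_lit 10104128) (BT.leaf (nat_lit 31191313)) (BT.leaf (nat_lit 41201685))) (BT.node (nat_lit 10104256) (BT.leaf (nat_lit 39407365)) (BT.leaf (nat_lit 29912849))))) (BT.node (nat_lit 10104576) (BT.node (nat_lit 10104448) (BT.node (nat_lit 10104384) (BT.leaf (nat_lit 39407385)) (BT.leaf (nat_lit 30511649))) (BT.node (nat_lit 10104512) (BT.leaf (nat_lit 30511109)) (BT.leaf (nat_lit 28973077)))) (BT.node (nat_lit 10104704) (BT.node (nat_lit 10104640) (BT.leaf (nat_lit 30511121)) (BT.leaf (nat_lit 48548885))) (BT.node (nat_lit 10104768) (BT.leaf (nat_lit 30511137)) (BT.leaf (nat_lit 39406861)))))) (BT.node (nat_lit 10105344) (BT.node (nat_lit 10105088) (BT.node (nat_lit 10104960) (BT.node (nat_lit 10104896) (BT.leaf (nat_lit 28977689)) (BT.leaf (nat_lit 42869025))) (BT.node (nat_lit 10105024) (BT.leaf (nat_lit 45777697)) (BT.leaf (nat_lit 28976673)))) (BT.node (nat_lit 10105216) (BT.node (nat_lit 10105152) (BT.leaf (nat_lit 28976901)) (BT.leaf (nat_lit 31436553))) (BT.node (nat_lit 10105280) (BT.leaf (nat_lit 28978693)) (BT.leaf (nat_lit 29520913))))) (BT.node (nat_lit 10105600) (BT.node (nat_lit 10105472) (BT.node (nat_lit 10105408) (BT.leaf (nat_lit 47509521)) (BT.leaf (nat_lit 29520905))) (BT.node (nat_lit 10105536) (BT.leaf (nat_lit 34478105)) (BT.leaf (nat_lit 34478109)))) (BT.node (nat_lit 10105665) (BT.node (nat_lit 10105664) (BT.leaf (nat_lit 47509537)) (BT.leaf (nat_lit 29629449))) (BT.node (nat_lit 10105728) (BT.leaf (nat_lit 758896)) (BT.leaf (nat_lit 28462101))))))) (BT.node (nat_lit 10106816) (BT.node (nat_lit 10106304) (BT.node (nat_lit 10106048) (BT.node (nat_lit 10105920) (BT.node (nat_lit 10105856) (BT.leaf (nat_lit 35719697)) (BT.leaf (nat_lit 28979481))) (BT.node (nat_lit 10105984) (BT.leaf (nat_lit 43096337)) (BT.leaf (nat_lit 43096353)))) (BT.node (nat_lit 10106176) (BT.node (nat_lit 10106112) (BT.leaf (nat_lit 51321105)) (BT.leaf (nat_lit 28980001))) (BT.node (nat_lit 10106240) (BT.leaf (nat_lit 28980245)) (BT.leaf (nat_lit 29629465))))) (BT.node (nat_lit 10106560) (BT.node (nat_lit 10106432) (BT.node (nat_lit 10106368) (BT.leaf (nat_lit 42680849)) (BT.leaf (nat_lit 28979989))) (BT.node (nat_lit 10106496) (BT.leaf (nat_lit 29627921)) (BT.leaf (nat_lit 42035205)))) (BT.node (nat_lit 10106688) (BT.node (nat_lit 10106624) (BT.leaf (nat_lit 45712673)) (BT.leaf (nat_lit 49729569))) (BT.node (nat_lit 10106752) (BT.leaf (nat_lit 42343969)) (BT.leaf (nat_lit 40769049)))))) (BT.node (nat_lit 10107264) (BT.node (nat_lit 10107008) (BT.node (nat_lit 10106944) (BT.node (nat_lit 10106880) (BT.leaf (nat_lit 39608589)) (BT.leaf (nat_lit 49678877))) (BT.node (nat_lit 10106950) (BT.leaf (nat_lit 40395017)) (BT.leaf (nat_lit 743616)))) (BT.node (nat_lit 10107136) (BT.node (nat_lit 10107072) (BT.leaf (nat_lit 30015749)) (BT.leaf (nat_lit 30015761))) (BT.node (nat_lit 10107200) (BT.leaf (nat_lit 42074913)) (BT.leaf (nat_lit 48091909))))) (BT.node (nat_lit 10107520) (BT.node (nat_lit 10107392) (BT.node (nat_lit 10107328) (BT.leaf (nat_lit 48092421)) (BT.leaf (nat_lit 30363665))) (BT.node (nat_lit 10107456) (BT.leaf (nat_lit 38124817)) (BT.leaf (nat_lit 40769057)))) (BT.node (nat_lit 10107648) (BT.node (nat_lit 10107584) (BT.leaf (nat_lit 27463189)) (BT.leaf (nat_lit 39430673))) (BT.node (nat_lit 10107712) (BT.leaf (nat_lit 27908885)) (BT.leaf (nat_lit 29913369)))))))) (BT.node (nat_lit 10109696) (BT.node (nat_lit 10108672) (BT.node (nat_lit 10108165) (BT.node (nat_lit 10107968) (BT.node (nat_lit 10107840) (BT.node (nat_lit 10107776) (BT.leaf (nat_lit 720064)) (BT.leaf (nat_lit 29913373))) (BT.node (nat_lit 10107904) (BT.leaf (nat_lit 31435793)) (BT.leaf (nat_lit 31086617)))) (BT.node (nat_lit 10108096) (BT.node (nat_lit 10108032) (BT.leaf (nat_lit 45243653)) (BT.leaf (nat_lit 48953377))) (BT.node (nat_lit 10108160) (BT.leaf (nat_lit 41583641)) (BT.leaf (nat_lit 40341513))))) (BT.node (nat_lit 10108416) (BT.node (nat_lit 10108288) (BT.node (nat_lit 10108224) (BT.leaf (nat_lit 723460)) (BT.leaf (nat_lit 47777813))) (BT.node (nat_lit 10108352) (BT.leaf (nat_lit 44678405)) (BT.leaf (nat_lit 41586697)))) (BT.node (nat_lit 10108544) (BT.node (nat_lit 10108480) (BT.leaf (nat_lit 40395537)) (BT.leaf (nat_lit 28986885))) (BT.node (nat_lit 10108608) (BT.leaf (nat_lit 29826321)) (BT.leaf (nat_lit 29292053)))))) (BT.node (nat_lit 10109184) (BT.node (nat_lit 10108928) (BT.node (nat_lit 10108800) (BT.node (nat_lit 10108736) (BT.leaf (nat_lit 29292057)) (BT.leaf (nat_lit 29292061))) (BT.node (nat_lit 10108864) (BT.leaf (nat_lit 30405893)) (BT.leaf (nat_lit 30405905)))) (BT.node (nat_lit 10109056) (BT.node (nat_lit 10108992) (BT.leaf (nat_lit 34414357)) (BT.leaf (nat_lit 48026885))) (BT.node (nat_lit 10109120) (BT.leaf (nat_lit 47571477)) (BT.leaf (nat_lit 34414613))))) (BT.node (nat_lit 10109440) (BT.node (nat_lit 10109312) (BT.node (nat_lit 10109248) (BT.leaf (nat_lit 28988437)) (BT.leaf (nat_lit 29717513))) (BT.node (nat_lit 10109376) (BT.leaf (nat_lit 29717517)) (BT.leaf (nat_lit 45610769)))) (BT.node (nat_lit 10109568) (BT.node (nat_lit 10109504) (BT.leaf (nat_lit 29717529)) (BT.leaf (nat_lit 29717533))) (BT.node (nat_lit 10109632) (BT.leaf (nat_lit 29717537)) (BT.leaf (nat_lit 32163853))))))) (BT.node (nat_lit 10110720) (BT.node (nat_lit 10110208) (BT.node (nat_lit 10109952) (BT.node (nat_lit 10109824) (BT.node (nat_lit 10109760) (BT.leaf (nat_lit 28989977)) (BT.leaf (nat_lit 45153037))) (BT.node (nat_lit 10109888) (BT.leaf (nat_lit 32480789)) (BT.leaf (nat_lit 28989981)))) (BT.node (nat_lit 10110080) (BT.node (nat_lit 10110016) (BT.leaf (nat_lit 30065937)) (BT.leaf (nat_lit 32373269))) (BT.node (nat_lit 10110144) (BT.leaf (nat_lit 38180613)) (BT.leaf (nat_lit 28990481))))) (BT.node (nat_lit 10110464) (BT.node (nat_lit 10110336) (BT.node (nat_lit 10110272) (BT.leaf (nat_lit 28990225)) (BT.leaf (nat_lit 38180633))) (BT.node (nat_lit 10110400) (BT.leaf (nat_lit 38180637)) (BT.leaf (nat_lit 44058385)))) (BT.node (nat_lit 10110592) (BT.node (nat_lit 10110528) (BT.leaf (nat_lit 40436769)) (BT.leaf (nat_lit 28992289))) (BT.node (nat_lit 10110656) (BT.leaf (nat_lit 28992545)) (BT.leaf (nat_lit 47694869)))))) (BT.node (nat_lit 10111232) (BT.node (nat_lit 10110976) (BT.node (nat_lit 10110848) (BT.node (nat_lit 10110784) (BT.leaf (nat_lit 28994065)) (BT.leaf (nat_lit 28993313))) (BT.node (nat_lit 10110912) (BT.leaf (nat_lit 28993057)) (BT.leaf (nat_lit 28969997)))) (BT.node (nat_lit 10111104) (BT.node (nat_lit 10111040) (BT.leaf (nat_lit 29950225)) (BT.leaf (nat_lit 29950237))) (BT.node (nat_lit 10111168) (BT.leaf (nat_lit 29950241)) (BT.leaf (nat_lit 38531589))))) (BT.node (nat_lit 10111488) (BT.node (nat_lit 10111360) (BT.node (nat_lit 10111296) (BT.leaf (nat_lit 28994585)) (BT.leaf (nat_lit 38531601))) (BT.node (nat_lit 10111424) (BT.leaf (nat_lit 28996125)) (BT.leaf (nat_lit 38531617)))) (BT.node (nat_lit 10111616) (BT.node (nat_lit 10111552) (BT.leaf (nat_lit 32345349)) (BT.leaf (nat_lit 40436489))) (BT.node (nat_lit 10111680) (BT.leaf (nat_lit 32345377)) (BT.leaf (nat_lit 39719181))))))))) (BT.node (nat_lit 10115328) (BT.node (nat_lit 10113479) (BT.node (nat_lit 10112768) (BT.node (nat_lit 10112256) (BT.node (nat_lit 10112000) (BT.node (nat_lit 10111872) (BT.node (nat_lit 10111808) (BT.leaf (nat_lit 32241941)) (BT.leaf (nat_lit 51261461))) (BT.node (nat_lit 10111936) (BT.leaf (nat_lit 47734041)) (BT.leaf (nat_lit 47734045)))) (BT.node (nat_lit 10112128) (BT.node (nat_lit 10112064) (BT.leaf (nat_lit 39350021)) (BT.leaf (nat_lit 39350037))) (BT.node (nat_lit 10112192) (BT.leaf (nat_lit 42525453)) (BT.leaf (nat_lit 39350045))))) (BT.node (nat_lit 10112512) (BT.node (nat_lit 10112384) (BT.node (nat_lit 10112320) (BT.leaf (nat_lit 42525445)) (BT.leaf (nat_lit 42525457))) (BT.node (nat_lit 10112448) (BT.leaf (nat_lit 42525461)) (BT.leaf (nat_lit 39886085)))) (BT.node (nat_lit 10112640) (BT.node (nat_lit 10112576) (BT.leaf (nat_lit 39886097)) (BT.leaf (nat_lit 39886101))) (BT.node (nat_lit 10112704) (BT.leaf (nat_lit 33001741)) (BT.leaf (nat_lit 39603213)))))) (BT.node (nat_lit 10113216) (BT.node (nat_lit 10112964) (BT.node (nat_lit 10112896) (BT.node (nat_lit 10112832) (BT.leaf (nat_lit 30500117)) (BT.leaf (nat_lit 45291529))) (BT.node (nat_lit 10112960) (BT.leaf (nat_lit 46423065)) (BT.leaf (nat_lit 30742553)))) (BT.node (nat_lit 10113088) (BT.node (nat_lit 10113024) (BT.leaf (nat_lit 740228)) (BT.leaf (nat_lit 32015369))) (BT.node (nat_lit 10113152) (BT.leaf (nat_lit 28997921)) (BT.leaf (nat_lit 44963853))))) (BT.node (nat_lit 10113472) (BT.node (nat_lit 10113344) (BT.node (nat_lit 10113280) (BT.leaf (nat_lit 44632089)) (BT.leaf (nat_lit 43325973))) (BT.node (nat_lit 10113408) (BT.leaf (nat_lit 43325977)) (BT.leaf (nat_lit 38603285)))) (BT.node (nat_lit 10113475) (BT.node (nat_lit 10113474) (BT.leaf (nat_lit 38058261)) (BT.leaf (nat_lit 644096))) (BT.node (nat_lit 10113478) (BT.leaf (nat_lit 644096)) (BT.leaf (nat_lit 644096))))))) (BT.node (nat_lit 10114368) (BT.node (nat_lit 10113984) (BT.node (nat_lit 10113728) (BT.node (nat_lit 10113600) (BT.node (nat_lit 10113536) (BT.leaf (nat_lit 644096)) (BT.leaf (nat_lit 42852889))) (BT.node (nat_lit 10113664) (BT.leaf (nat_lit 28999713)) (BT.leaf (nat_lit 28458009)))) (BT.node (nat_lit 10113856) (BT.node (nat_lit 10113792) (BT.leaf (nat_lit 42851093)) (BT.leaf (nat_lit 45692701))) (BT.node (nat_lit 10113922) (BT.leaf (nat_lit 28458013)) (BT.leaf (nat_lit 756340))))) (BT.node (nat_lit 10114176) (BT.node (nat_lit 10114112) (BT.node (nat_lit 10114048) (BT.leaf (nat_lit 30987541)) (BT.leaf (nat_lit 43322129))) (BT.node (nat_lit 10114118) (BT.leaf (nat_lit 31852561)) (BT.leaf (nat_lit 671732)))) (BT.node (nat_lit 10114244) (BT.node (nat_lit 10114240) (BT.leaf (nat_lit 33582357)) (BT.leaf (nat_lit 38011141))) (BT.node (nat_lit 10114304) (BT.leaf (nat_lit 752588)) (BT.leaf (nat_lit 43047189)))))) (BT.node (nat_lit 10114820) (BT.node (nat_lit 10114624) (BT.node (nat_lit 10114496) (BT.node (nat_lit 10114432) (BT.leaf (nat_lit 32445461)) (BT.leaf (nat_lit 28997145))) (BT.node (nat_lit 10114560) (BT.leaf (nat_lit 28999965)) (BT.leaf (nat_lit 27460381)))) (BT.node (nat_lit 10114752) (BT.node (nat_lit 10114688) (BT.leaf (nat_lit 28997149)) (BT.leaf (nat_lit 34251805))) (BT.node (nat_lit 10114816) (BT.leaf (nat_lit 30742557)) (BT.leaf (nat_lit 38741017))))) (BT.node (nat_lit 10115072) (BT.node (nat_lit 10114944) (BT.node (nat_lit 10114880) (BT.leaf (nat_lit 637616)) (BT.leaf (nat_lit 29000217))) (BT.node (nat_lit 10115008) (BT.leaf (nat_lit 39597841)) (BT.leaf (nat_lit 39598361)))) (BT.node (nat_lit 10115200) (BT.node (nat_lit 10115136) (BT.leaf (nat_lit 39597077)) (BT.leaf (nat_lit 43111945))) (BT.node (nat_lit 10115264) (BT.leaf (nat_lit 48317981)) (BT.leaf (nat_lit 30855185)))))))) (BT.node (nat_lit 10117376) (BT.node (nat_lit 10116352) (BT.node (nat_lit 10115904) (BT.node (nat_lit 10115584) (BT.node (nat_lit 10115456) (BT.node (nat_lit 10115392) (BT.leaf (nat_lit 33843477)) (BT.leaf (nat_lit 29208849))) (BT.node (nat_lit 10115520) (BT.leaf (nat_lit 48099609)) (BT.leaf (nat_lit 48132629)))) (BT.node (nat_lit 10115712) (BT.node (nat_lit 10115648) (BT.leaf (nat_lit 45678109)) (BT.leaf (nat_lit 44107289))) (BT.node (nat_lit 10115840) (BT.leaf (nat_lit 38998293)) (BT.leaf (nat_lit 47194141))))) (BT.node (nat_lit 10116160) (BT.node (nat_lit 10116032) (BT.node (nat_lit 10115968) (BT.leaf (nat_lit 29627165)) (BT.leaf (nat_lit 32310789))) (BT.node (nat_lit 10116096) (BT.leaf (nat_lit 47647257)) (BT.leaf (nat_lit 39813153)))) (BT.node (nat_lit 10116232) (BT.node (nat_lit 10116224) (BT.leaf (nat_lit 42453785)) (BT.leaf (nat_lit 30787605))) (BT.node (nat_lit 10116288) (BT.leaf (nat_lit 663336)) (BT.leaf (nat_lit 44327961)))))) (BT.node (nat_lit 10116864) (BT.node (nat_lit 10116608) (BT.node (nat_lit 10116480) (BT.node (nat_lit 10116416) (BT.leaf (nat_lit 44327965)) (BT.leaf (nat_lit 29001761))) (BT.node (nat_lit 10116544) (BT.leaf (nat_lit 31822357)) (BT.leaf (nat_lit 43169805)))) (BT.node (nat_lit 10116736) (BT.node (nat_lit 10116672) (BT.leaf (nat_lit 44694561)) (BT.leaf (nat_lit 35857173))) (BT.node (nat_lit 10116800) (BT.leaf (nat_lit 50894353)) (BT.leaf (nat_lit 45596185))))) (BT.node (nat_lit 10117120) (BT.node (nat_lit 10116992) (BT.node (nat_lit 10116928) (BT.leaf (nat_lit 40480005)) (BT.leaf (nat_lit 29274389))) (BT.node (nat_lit 10117056) (BT.leaf (nat_lit 41214477)) (BT.leaf (nat_lit 46315537)))) (BT.node (nat_lit 10117248) (BT.node (nat_lit 10117184) (BT.leaf (nat_lit 29002513)) (BT.leaf (nat_lit 41214493))) (BT.node (nat_lit 10117312) (BT.leaf (nat_lit 41508877)) (BT.leaf (nat_lit 42611461))))))) (BT.node (nat_lit 10118336) (BT.node (nat_lit 10117824) (BT.node (nat_lit 10117568) (BT.node (nat_lit 10117383) (BT.node (nat_lit 10117378) (BT.leaf (nat_lit 39037961)) (BT.leaf (nat_lit 803372))) (BT.node (nat_lit 10117504) (BT.leaf (nat_lit 803372)) (BT.leaf (nat_lit 31780113)))) (BT.node (nat_lit 10117696) (BT.node (nat_lit 10117632) (BT.leaf (nat_lit 29001237)) (BT.leaf (nat_lit 41058313))) (BT.node (nat_lit 10117760) (BT.leaf (nat_lit 40464405)) (BT.leaf (nat_lit 28457237))))) (BT.node (nat_lit 10118144) (BT.node (nat_lit 10118016) (BT.node (nat_lit 10117888) (BT.leaf (nat_lit 40470281)) (BT.leaf (nat_lit 44185869))) (BT.node (nat_lit 10118080) (BT.leaf (nat_lit 32001029)) (BT.leaf (nat_lit 43277585)))) (BT.node (nat_lit 10118213) (BT.node (nat_lit 10118208) (BT.leaf (nat_lit 43277589)) (BT.leaf (nat_lit 29515537))) (BT.node (nat_lit 10118272) (BT.leaf (nat_lit 690476)) (BT.leaf (nat_lit 43326485)))))) (BT.node (nat_lit 10118912) (BT.node (nat_lit 10118784) (BT.node (nat_lit 10118464) (BT.node (nat_lit 10118400) (BT.leaf (nat_lit 44185881)) (BT.leaf (nat_lit 37790741))) (BT.node (nat_lit 10118536) (BT.leaf (nat_lit 40464401)) (BT.leaf (nat_lit 669516)))) (BT.node (nat_lit 10118791) (BT.node (nat_lit 10118790) (BT.leaf (nat_lit 42119701)) (BT.leaf (nat_lit 674448))) (BT.node (nat_lit 10118848) (BT.leaf (nat_lit 674448)) (BT.leaf (nat_lit 32753177))))) (BT.node (nat_lit 10119168) (BT.node (nat_lit 10119040) (BT.node (nat_lit 10118976) (BT.leaf (nat_lit 30178309)) (BT.leaf (nat_lit 29003537))) (BT.node (nat_lit 10119104) (BT.leaf (nat_lit 29004561)) (BT.leaf (nat_lit 29004305)))) (BT.node (nat_lit 10119296) (BT.node (nat_lit 10119232) (BT.leaf (nat_lit 44618005)) (BT.leaf (nat_lit 40476697))) (BT.node (nat_lit 10119360) (BT.leaf (nat_lit 32274453)) (BT.leaf (nat_lit 45782793)))))))))) (BT.node (nat_lit 10127296) (BT.node (nat_lit 10123584) (BT.node (nat_lit 10121600) (BT.node (nat_lit 10120576) (BT.node (nat_lit 10119936) (BT.node (nat_lit 10119680) (BT.node (nat_lit 10119552) (BT.node (nat_lit 10119488) (BT.leaf (nat_lit 30497805)) (BT.leaf (nat_lit 30497817))) (BT.node (nat_lit 10119616) (BT.leaf (nat_lit 45782813)) (BT.leaf (nat_lit 29003793)))) (BT.node (nat_lit 10119808) (BT.node (nat_lit 10119744) (BT.leaf (nat_lit 31830793)) (BT.leaf (nat_lit 29005585))) (BT.node (nat_lit 10119872) (BT.leaf (nat_lit 29768469)) (BT.leaf (nat_lit 31830809))))) (BT.node (nat_lit 10120192) (BT.node (nat_lit 10120064) (BT.node (nat_lit 10120000) (BT.leaf (nat_lit 31830813)) (BT.leaf (nat_lit 31830817))) (BT.node (nat_lit 10120128) (BT.leaf (nat_lit 46074885)) (BT.leaf (nat_lit 46928657)))) (BT.node (nat_lit 10120448) (BT.node (nat_lit 10120384) (BT.leaf (nat_lit 44624153)) (BT.leaf (nat_lit 44327445))) (BT.node (nat_lit 10120512) (BT.leaf (nat_lit 29584137)) (BT.leaf (nat_lit 29584141)))))) (BT.node (nat_lit 10121088) (BT.node (nat_lit 10120832) (BT.node (nat_lit 10120704) (BT.node (nat_lit 10120640) (BT.leaf (nat_lit 29007381)) (BT.leaf (nat_lit 29584153))) (BT.node (nat_lit 10120768) (BT.leaf (nat_lit 29584157)) (BT.leaf (nat_lit 29584161)))) (BT.node (nat_lit 10120960) (BT.node (nat_lit 10120896) (BT.leaf (nat_lit 36079381)) (BT.leaf (nat_lit 39411233))) (BT.node (nat_lit 10121024) (BT.leaf (nat_lit 47226893)) (BT.leaf (nat_lit 51210501))))) (BT.node (nat_lit 10121344) (BT.node (nat_lit 10121216) (BT.node (nat_lit 10121152) (BT.leaf (nat_lit 43368469)) (BT.leaf (nat_lit 29200417))) (BT.node (nat_lit 10121280) (BT.leaf (nat_lit 34326293)) (BT.leaf (nat_lit 34326549)))) (BT.node (nat_lit 10121472) (BT.node (nat_lit 10121408) (BT.leaf (nat_lit 29010449)) (BT.leaf (nat_lit 43861013))) (BT.node (nat_lit 10121536) (BT.leaf (nat_lit 43861017)) (BT.leaf (nat_lit 43861021))))))) (BT.node (nat_lit 10122624) (BT.node (nat_lit 10122112) (BT.node (nat_lit 10121856) (BT.node (nat_lit 10121728) (BT.node (nat_lit 10121664) (BT.leaf (nat_lit 43328277)) (BT.leaf (nat_lit 30840853))) (BT.node (nat_lit 10121792) (BT.leaf (nat_lit 47202321)) (BT.leaf (nat_lit 30084121)))) (BT.node (nat_lit 10121984) (BT.node (nat_lit 10121920) (BT.leaf (nat_lit 30084125)) (BT.leaf (nat_lit 27862289))) (BT.node (nat_lit 10122048) (BT.leaf (nat_lit 29013013)) (BT.leaf (nat_lit 30423305))))) (BT.node (nat_lit 10122368) (BT.node (nat_lit 10122240) (BT.node (nat_lit 10122176) (BT.leaf (nat_lit 30423309)) (BT.leaf (nat_lit 29014037))) (BT.node (nat_lit 10122304) (BT.leaf (nat_lit 30423321)) (BT.leaf (nat_lit 30423325)))) (BT.node (nat_lit 10122496) (BT.node (nat_lit 10122432) (BT.leaf (nat_lit 29560329)) (BT.leaf (nat_lit 29560333))) (BT.node (nat_lit 10122560) (BT.leaf (nat_lit 30573077)) (BT.leaf (nat_lit 29560345)))))) (BT.node (nat_lit 10123136) (BT.node (nat_lit 10122880) (BT.node (nat_lit 10122752) (BT.node (nat_lit 10122688) (BT.leaf (nat_lit 29560349)) (BT.leaf (nat_lit 46537233))) (BT.node (nat_lit 10122816) (BT.leaf (nat_lit 41456149)) (BT.leaf (nat_lit 30602261)))) (BT.node (nat_lit 10123008) (BT.node (nat_lit 10122944) (BT.leaf (nat_lit 30573081)) (BT.leaf (nat_lit 30573085))) (BT.node (nat_lit 10123072) (BT.leaf (nat_lit 29011465)) (BT.leaf (nat_lit 31923217))))) (BT.node (nat_lit 10123392) (BT.node (nat_lit 10123264) (BT.node (nat_lit 10123200) (BT.leaf (nat_lit 28446477)) (BT.leaf (nat_lit 31923225))) (BT.node (nat_lit 10123328) (BT.leaf (nat_lit 31923233)) (BT.leaf (nat_lit 29011469)))) (BT.node (nat_lit 10123520) (BT.node (nat_lit 10123456) (BT.leaf (nat_lit 31409937)) (BT.leaf (nat_lit 31409953))) (BT.node (nat_lit 10123525) (BT.leaf (nat_lit 32971013)) (BT.leaf (nat_lit 777540)))))))) (BT.node (nat_lit 10125440) (BT.node (nat_lit 10124480) (BT.node (nat_lit 10124096) (BT.node (nat_lit 10123840) (BT.node (nat_lit 10123712) (BT.node (nat_lit 10123648) (BT.leaf (nat_lit 32971797)) (BT.leaf (nat_lit 32971809))) (BT.node (nat_lit 10123776) (BT.leaf (nat_lit 45029137)) (BT.leaf (nat_lit 49763105)))) (BT.node (nat_lit 10123968) (BT.node (nat_lit 10123904) (BT.leaf (nat_lit 30574101)) (BT.leaf (nat_lit 46887189))) (BT.node (nat_lit 10124032) (BT.leaf (nat_lit 39456269)) (BT.leaf (nat_lit 39456273))))) (BT.node (nat_lit 10124291) (BT.node (nat_lit 10124224) (BT.node (nat_lit 10124160) (BT.leaf (nat_lit 47501597)) (BT.leaf (nat_lit 30840329))) (BT.node (nat_lit 10124288) (BT.leaf (nat_lit 28446493)) (BT.leaf (nat_lit 38497813)))) (BT.node (nat_lit 10124352) (BT.node (nat_lit 10124296) (BT.leaf (nat_lit 754776)) (BT.leaf (nat_lit 754776))) (BT.node (nat_lit 10124416) (BT.leaf (nat_lit 28446473)) (BT.leaf (nat_lit 30574105)))))) (BT.node (nat_lit 10124992) (BT.node (nat_lit 10124736) (BT.node (nat_lit 10124608) (BT.node (nat_lit 10124544) (BT.leaf (nat_lit 30574109)) (BT.leaf (nat_lit 31101209))) (BT.node (nat_lit 10124672) (BT.leaf (nat_lit 28334873)) (BT.leaf (nat_lit 29015833)))) (BT.node (nat_lit 10124864) (BT.node (nat_lit 10124800) (BT.leaf (nat_lit 36294933)) (BT.leaf (nat_lit 29016349))) (BT.node (nat_lit 10124928) (BT.leaf (nat_lit 28737565)) (BT.leaf (nat_lit 28334877))))) (BT.node (nat_lit 10125248) (BT.node (nat_lit 10125120) (BT.node (nat_lit 10125056) (BT.leaf (nat_lit 28738309)) (BT.leaf (nat_lit 31022609))) (BT.node (nat_lit 10125184) (BT.leaf (nat_lit 36295189)) (BT.leaf (nat_lit 29016345)))) (BT.node (nat_lit 10125376) (BT.node (nat_lit 10125312) (BT.leaf (nat_lit 29107733)) (BT.leaf (nat_lit 46989829))) (BT.node (nat_lit 10125384) (BT.leaf (nat_lit 51458333)) (BT.leaf (nat_lit 749956))))))) (BT.node (nat_lit 10126400) (BT.node (nat_lit 10125888) (BT.node (nat_lit 10125696) (BT.node (nat_lit 10125568) (BT.node (nat_lit 10125504) (BT.leaf (nat_lit 30354709)) (BT.leaf (nat_lit 28732445))) (BT.node (nat_lit 10125632) (BT.leaf (nat_lit 28733725)) (BT.leaf (nat_lit 29818389)))) (BT.node (nat_lit 10125768) (BT.node (nat_lit 10125761) (BT.leaf (nat_lit 28732441)) (BT.leaf (nat_lit 675448))) (BT.node (nat_lit 10125824) (BT.leaf (nat_lit 675448)) (BT.leaf (nat_lit 46184481))))) (BT.node (nat_lit 10126144) (BT.node (nat_lit 10126016) (BT.node (nat_lit 10125952) (BT.leaf (nat_lit 30762529)) (BT.leaf (nat_lit 35185437))) (BT.node (nat_lit 10126080) (BT.leaf (nat_lit 41165573)) (BT.leaf (nat_lit 35243029)))) (BT.node (nat_lit 10126272) (BT.node (nat_lit 10126208) (BT.leaf (nat_lit 35243041)) (BT.leaf (nat_lit 48381461))) (BT.node (nat_lit 10126336) (BT.leaf (nat_lit 30772769)) (BT.leaf (nat_lit 44576545)))))) (BT.node (nat_lit 10126912) (BT.node (nat_lit 10126656) (BT.node (nat_lit 10126528) (BT.node (nat_lit 10126464) (BT.leaf (nat_lit 40505369)) (BT.leaf (nat_lit 51753745))) (BT.node (nat_lit 10126592) (BT.leaf (nat_lit 49081373)) (BT.leaf (nat_lit 31681813)))) (BT.node (nat_lit 10126784) (BT.node (nat_lit 10126720) (BT.leaf (nat_lit 33035273)) (BT.leaf (nat_lit 42362629))) (BT.node (nat_lit 10126848) (BT.leaf (nat_lit 31751429)) (BT.leaf (nat_lit 40507161))))) (BT.node (nat_lit 10127048) (BT.node (nat_lit 10127040) (BT.node (nat_lit 10126976) (BT.leaf (nat_lit 33617425)) (BT.leaf (nat_lit 29707273))) (BT.node (nat_lit 10127044) (BT.leaf (nat_lit 29707797)) (BT.leaf (nat_lit 653004)))) (BT.node (nat_lit 10127168) (BT.node (nat_lit 10127104) (BT.leaf (nat_lit 653004)) (BT.leaf (nat_lit 29704981))) (BT.node (nat_lit 10127232) (BT.leaf (nat_lit 32413725)) (BT.leaf (nat_lit 27481109))))))))) (BT.node (nat_lit 10130304) (BT.node (nat_lit 10128520) (BT.node (nat_lit 10128131) (BT.node (nat_lit 10127808) (BT.node (nat_lit 10127552) (BT.node (nat_lit 10127424) (BT.node (nat_lit 10127360) (BT.leaf (nat_lit 29043477)) (BT.leaf (nat_lit 46268945))) (BT.node (nat_lit 10127488) (BT.leaf (nat_lit 45873161)) (BT.leaf (nat_lit 42457377)))) (BT.node (nat_lit 10127680) (BT.node (nat_lit 10127616) (BT.leaf (nat_lit 31751961)) (BT.leaf (nat_lit 29710093))) (BT.node (nat_lit 10127744) (BT.leaf (nat_lit 40507169)) (BT.leaf (nat_lit 41895189))))) (BT.node (nat_lit 10128000) (BT.node (nat_lit 10127936) (BT.node (nat_lit 10127872) (BT.leaf (nat_lit 30848281)) (BT.leaf (nat_lit 30848285))) (BT.node (nat_lit 10127941) (BT.leaf (nat_lit 39555357)) (BT.leaf (nat_lit 753984)))) (BT.node (nat_lit 10128128) (BT.node (nat_lit 10128064) (BT.leaf (nat_lit 29027353)) (BT.leaf (nat_lit 29027609))) (BT.node (nat_lit 10128130) (BT.leaf (nat_lit 43909665)) (BT.leaf (nat_lit 637652)))))) (BT.node (nat_lit 10128320) (BT.node (nat_lit 10128192) (BT.node (nat_lit 10128135) (BT.node (nat_lit 10128134) (BT.leaf (nat_lit 637652)) (BT.leaf (nat_lit 700416))) (BT.node (nat_lit 10128136) (BT.leaf (nat_lit 700416)) (BT.leaf (nat_lit 700416)))) (BT.node (nat_lit 10128200) (BT.node (nat_lit 10128193) (BT.leaf (nat_lit 30036509)) (BT.leaf (nat_lit 666776))) (BT.node (nat_lit 10128256) (BT.leaf (nat_lit 666776)) (BT.leaf (nat_lit 29027101))))) (BT.node (nat_lit 10128515) (BT.node (nat_lit 10128448) (BT.node (nat_lit 10128384) (BT.leaf (nat_lit 29027357)) (BT.leaf (nat_lit 29027613))) (BT.node (nat_lit 10128512) (BT.leaf (nat_lit 29394961)) (BT.leaf (nat_lit 31934737)))) (BT.node (nat_lit 10128518) (BT.node (nat_lit 10128516) (BT.leaf (nat_lit 637600)) (BT.leaf (nat_lit 642620))) (BT.node (nat_lit 10128519) (BT.leaf (nat_lit 637600)) (BT.leaf (nat_lit 637600))))))) (BT.node (nat_lit 10129472) (BT.node (nat_lit 10128960) (BT.node (nat_lit 10128768) (BT.node (nat_lit 10128640) (BT.node (nat_lit 10128576) (BT.leaf (nat_lit 683508)) (BT.leaf (nat_lit 40932377))) (BT.node (nat_lit 10128704) (BT.leaf (nat_lit 29028117)) (BT.leaf (nat_lit 29360905)))) (BT.node (nat_lit 10128896) (BT.node (nat_lit 10128832) (BT.leaf (nat_lit 29360909)) (BT.leaf (nat_lit 33678609))) (BT.node (nat_lit 10128900) (BT.leaf (nat_lit 29360921)) (BT.leaf (nat_lit 637724))))) (BT.node (nat_lit 10129216) (BT.node (nat_lit 10129088) (BT.node (nat_lit 10129024) (BT.leaf (nat_lit 29360925)) (BT.leaf (nat_lit 48158481))) (BT.node (nat_lit 10129152) (BT.leaf (nat_lit 31987213)) (BT.leaf (nat_lit 30871061)))) (BT.node (nat_lit 10129344) (BT.node (nat_lit 10129280) (BT.leaf (nat_lit 40517149)) (BT.leaf (nat_lit 29034501))) (BT.node (nat_lit 10129408) (BT.leaf (nat_lit 40517645)) (BT.leaf (nat_lit 49085973)))))) (BT.node (nat_lit 10129984) (BT.node (nat_lit 10129728) (BT.node (nat_lit 10129600) (BT.node (nat_lit 10129536) (BT.leaf (nat_lit 45411589)) (BT.leaf (nat_lit 30043929))) (BT.node (nat_lit 10129664) (BT.leaf (nat_lit 34766853)) (BT.leaf (nat_lit 43765013)))) (BT.node (nat_lit 10129856) (BT.node (nat_lit 10129792) (BT.leaf (nat_lit 46347013)) (BT.leaf (nat_lit 30211093))) (BT.node (nat_lit 10129920) (BT.leaf (nat_lit 34670085)) (BT.leaf (nat_lit 30046225))))) (BT.node (nat_lit 10130240) (BT.node (nat_lit 10130112) (BT.node (nat_lit 10130048) (BT.leaf (nat_lit 30046229)) (BT.leaf (nat_lit 45253409))) (BT.node (nat_lit 10130176) (BT.leaf (nat_lit 29029905)) (BT.leaf (nat_lit 39634437)))) (BT.node (nat_lit 10130243) (BT.node (nat_lit 10130242) (BT.leaf (nat_lit 43257349)) (BT.leaf (nat_lit 711444))) (BT.node (nat_lit 10130247) (BT.leaf (nat_lit 711444)) (BT.leaf (nat_lit 711444)))))))) (BT.node (nat_lit 10132224) (BT.node (nat_lit 10131200) (BT.node (nat_lit 10130816) (BT.node (nat_lit 10130560) (BT.node (nat_lit 10130432) (BT.node (nat_lit 10130368) (BT.leaf (nat_lit 41223173)) (BT.leaf (nat_lit 44325153))) (BT.node (nat_lit 10130496) (BT.leaf (nat_lit 30284305)) (BT.leaf (nat_lit 30158873)))) (BT.node (nat_lit 10130688) (BT.node (nat_lit 10130624) (BT.leaf (nat_lit 47899653)) (BT.leaf (nat_lit 30191109))) (BT.node (nat_lit 10130752) (BT.leaf (nat_lit 32255249)) (BT.leaf (nat_lit 32255253))))) (BT.node (nat_lit 10130944) (BT.node (nat_lit 10130884) (BT.node (nat_lit 10130880) (BT.leaf (nat_lit 29030429)) (BT.leaf (nat_lit 29200145))) (BT.node (nat_lit 10130885) (BT.leaf (nat_lit 637156)) (BT.leaf (nat_lit 637156)))) (BT.node (nat_lit 10131072) (BT.node (nat_lit 10131008) (BT.leaf (nat_lit 29200161)) (BT.leaf (nat_lit 48908569))) (BT.node (nat_lit 10131136) (BT.leaf (nat_lit 41559317)) (BT.leaf (nat_lit 39637261)))))) (BT.node (nat_lit 10131712) (BT.node (nat_lit 10131456) (BT.node (nat_lit 10131328) (BT.node (nat_lit 10131264) (BT.leaf (nat_lit 40516385)) (BT.leaf (nat_lit 29032197))) (BT.node (nat_lit 10131392) (BT.leaf (nat_lit 30718725)) (BT.leaf (nat_lit 30718729)))) (BT.node (nat_lit 10131584) (BT.node (nat_lit 10131520) (BT.leaf (nat_lit 30718733)) (BT.leaf (nat_lit 38891293))) (BT.node (nat_lit 10131648) (BT.leaf (nat_lit 40526105)) (BT.leaf (nat_lit 29973013))))) (BT.node (nat_lit 10131968) (BT.node (nat_lit 10131840) (BT.node (nat_lit 10131776) (BT.leaf (nat_lit 40527133)) (BT.leaf (nat_lit 29034505))) (BT.node (nat_lit 10131904) (BT.leaf (nat_lit 39797253)) (BT.leaf (nat_lit 29035025)))) (BT.node (nat_lit 10132096) (BT.node (nat_lit 10132032) (BT.leaf (nat_lit 29034769)) (BT.leaf (nat_lit 39797273))) (BT.node (nat_lit 10132160) (BT.leaf (nat_lit 39797277)) (BT.leaf (nat_lit 30047249))))))) (BT.node (nat_lit 10133056) (BT.node (nat_lit 10132544) (BT.node (nat_lit 10132418) (BT.node (nat_lit 10132352) (BT.node (nat_lit 10132288) (BT.leaf (nat_lit 30047253)) (BT.leaf (nat_lit 30929429))) (BT.node (nat_lit 10132416) (BT.leaf (nat_lit 44584993)) (BT.leaf (nat_lit 40908549)))) (BT.node (nat_lit 10132424) (BT.node (nat_lit 10132419) (BT.leaf (nat_lit 641432)) (BT.leaf (nat_lit 641432))) (BT.node (nat_lit 10132480) (BT.leaf (nat_lit 641432)) (BT.leaf (nat_lit 39633925))))) (BT.node (nat_lit 10132800) (BT.node (nat_lit 10132672) (BT.node (nat_lit 10132608) (BT.leaf (nat_lit 40446737)) (BT.leaf (nat_lit 44113689))) (BT.node (nat_lit 10132736) (BT.leaf (nat_lit 41717785)) (BT.leaf (nat_lit 30195217)))) (BT.node (nat_lit 10132928) (BT.node (nat_lit 10132864) (BT.leaf (nat_lit 30195737)) (BT.leaf (nat_lit 39727901))) (BT.node (nat_lit 10132992) (BT.leaf (nat_lit 40717597)) (BT.leaf (nat_lit 32740889)))))) (BT.node (nat_lit 10133632) (BT.node (nat_lit 10133376) (BT.node (nat_lit 10133184) (BT.node (nat_lit 10133120) (BT.leaf (nat_lit 47403289)) (BT.leaf (nat_lit 29302549))) (BT.node (nat_lit 10133248) (BT.leaf (nat_lit 29658377)) (BT.leaf (nat_lit 34931217)))) (BT.node (nat_lit 10133504) (BT.node (nat_lit 10133440) (BT.leaf (nat_lit 46687009)) (BT.leaf (nat_lit 38192405))) (BT.node (nat_lit 10133568) (BT.leaf (nat_lit 48402453)) (BT.leaf (nat_lit 33867793))))) (BT.node (nat_lit 10133888) (BT.node (nat_lit 10133760) (BT.node (nat_lit 10133696) (BT.leaf (nat_lit 43273497)) (BT.leaf (nat_lit 43273501))) (BT.node (nat_lit 10133824) (BT.leaf (nat_lit 35812125)) (BT.leaf (nat_lit 40535581)))) (BT.node (nat_lit 10134016) (BT.node (nat_lit 10133952) (BT.leaf (nat_lit 48402965)) (BT.leaf (nat_lit 29041429))) (BT.node (nat_lit 10134080) (BT.leaf (nat_lit 46164001)) (BT.leaf (nat_lit 46849045)))))))))))))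

end CF.Comp.J23B0
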