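import Cfsg.Agent.Comp.TCDefs

set_option autoImplicit false
set_option maxRecDepth 1000000
set_option maxHeartbeats 0
set_option Elab.async false

namespace CF.Comp.J23B0

noncomputable def big0_e86016 : BT Nat := (BT.node (nat_lit 10194880) (BT.node (nat_lit 10163776) (BT.node (nat_lit 10148929) (BT.node (nat_lit 10141568) (BT.node (nat_lit 10138112) (BT.node (nat_lit 10136256) (BT.node (nat_lit 10135232) (BT.node (nat_lit 10134720) (BT.node (nat_lit 10134400) (BT.node (nat_lit 10134272) (BT.node (nat_lit 10134208) (BT.leaf (nat_lit 31697941)) (BT.leaf (nat_lit 31599385))) (BT.node (nat_lit 10134336) (BT.leaf (nat_lit 30848017)) (BT.leaf (nat_lit 30848021)))) (BT.node (nat_lit 10134592) (BT.node (nat_lit 10134464) (BT.leaf (nat_lit 47221281)) (BT.leaf (nat_lit 42348293))) (BT.node (nat_lit 10134656) (BT.leaf (nat_lit 43146761)) (BT.leaf (nat_lit 39631125))))) (BT.node (nat_lit 10134976) (BT.node (nat_lit 10134848) (BT.node (nat_lit 10134784) (BT.leaf (nat_lit 45552901)) (BT.leaf (nat_lit 41537045))) (BT.node (nat_lit 10134912) (BT.leaf (nat_lit 43010849)) (BT.leaf (nat_lit 48340497)))) (BT.node (nat_lit 10135104) (BT.node (nat_lit 10135040) (BT.leaf (nat_lit 29043481)) (BT.leaf (nat_lit 38908957))) (BT.node (nat_lit 10135168) (BT.leaf (nat_lit 29043489)) (BT.leaf (nat_lit 42945053)))))) (BT.node (nat_lit 10135744) (BT.node (nat_lit 10135488) (BT.node (nat_lit 10135360) (BT.node (nat_lit 10135296) (BT.leaf (nat_lit 31760133)) (BT.leaf (nat_lit 32451605))) (BT.node (nat_lit 10135424) (BT.leaf (nat_lit 29812493)) (BT.leaf (nat_lit 29812497)))) (BT.node (nat_lit 10135680) (BT.node (nat_lit 10135616) (BT.leaf (nat_lit 29812513)) (BT.leaf (nat_lit 30989585))) (BT.node (nat_lit 10135688) (BT.leaf (nat_lit 42247181)) (BT.leaf (nat_lit 663204))))) (BT.node (nat_lit 10136000) (BT.node (nat_lit 10135872) (BT.node (nat_lit 10135808) (BT.leaf (nat_lit 29687069)) (BT.leaf (nat_lit 29691669))) (BT.node (nat_lit 10135936) (BT.leaf (nat_lit 46854929)) (BT.leaf (nat_lit 38596373)))) (BT.node (nat_lit 10136128) (BT.node (nat_lit 10136064) (BT.leaf (nat_lit 46854941)) (BT.leaf (nat_lit 29691929))) (BT.node (nat_lit 10136192) (BT.leaf (nat_lit 39396877)) (BT.leaf (nat_lit 39396629))))))) (BT.node (nat_lit 10137152) (BT.node (nat_lit 10136768) (BT.node (nat_lit 10136512) (BT.node (nat_lit 10136384) (BT.node (nat_lit 10136320) (BT.leaf (nat_lit 41938965)) (BT.leaf (nat_lit 35034393))) (BT.node (nat_lit 10136448) (BT.leaf (nat_lit 35034397)) (BT.leaf (nat_lit 29045009)))) (BT.node (nat_lit 10136640) (BT.node (nat_lit 10136576) (BT.leaf (nat_lit 41696021)) (BT.leaf (nat_lit 33861905))) (BT.node (nat_lit 10136704) (BT.leaf (nat_lit 29503769)) (BT.leaf (nat_lit 29050637))))) (BT.node (nat_lit 10136960) (BT.node (nat_lit 10136832) (BT.node (nat_lit 10136772) (BT.leaf (nat_lit 47228953)) (BT.leaf (nat_lit 635140))) (BT.node (nat_lit 10136896) (BT.leaf (nat_lit 29050137)) (BT.leaf (nat_lit 42252049)))) (BT.node (nat_lit 10137024) (BT.node (nat_lit 10136964) (BT.leaf (nat_lit 29050653)) (BT.leaf (nat_lit 759684))) (BT.node (nat_lit 10137088) (BT.leaf (nat_lit 30346525)) (BT.leaf (nat_lit 29048085)))))) (BT.node (nat_lit 10137600) (BT.node (nat_lit 10137344) (BT.node (nat_lit 10137216) (BT.node (nat_lit 10137160) (BT.leaf (nat_lit 30601477)) (BT.leaf (nat_lit 752372))) (BT.node (nat_lit 10137280) (BT.leaf (nat_lit 32549405)) (BT.leaf (nat_lit 29050649)))) (BT.node (nat_lit 10137472) (BT.node (nat_lit 10137408) (BT.leaf (nat_lit 44606469)) (BT.leaf (nat_lit 35160345))) (BT.node (nat_lit 10137536) (BT.leaf (nat_lit 35160349)) (BT.leaf (nat_lit 37712645))))) (BT.node (nat_lit 10137856) (BT.node (nat_lit 10137728) (BT.node (nat_lit 10137664) (BT.leaf (nat_lit 49562653)) (BT.leaf (nat_lit 52002593))) (BT.node (nat_lit 10137792) (BT.leaf (nat_lit 32535301)) (BT.leaf (nat_lit 35069473)))) (BT.node (nat_lit 10137984) (BT.node (nat_lit 10137920) (BT.leaf (nat_lit 32535321)) (BT.leaf (nat_lit 32535325))) (BT.node (nat_lit 10138048) (BT.leaf (nat_lit 30077969)) (BT.leaf (nat_lit 27820313)))))))) (BT.node (nat_lit 10139840) (BT.node (nat_lit 10138944) (BT.node (nat_lit 10138432) (BT.node (nat_lit 10138245) (BT.node (nat_lit 10138176) (BT.node (nat_lit 10138120) (BT.leaf (nat_lit 48374549)) (BT.leaf (nat_lit 664164))) (BT.node (nat_lit 10138240) (BT.leaf (nat_lit 30270741)) (BT.leaf (nat_lit 43559181)))) (BT.node (nat_lit 10138304) (BT.node (nat_lit 10138248) (BT.leaf (nat_lit 798052)) (BT.leaf (nat_lit 798052))) (BT.node (nat_lit 10138368) (BT.leaf (nat_lit 35298325)) (BT.leaf (nat_lit 29057809))))) (BT.node (nat_lit 10138688) (BT.node (nat_lit 10138560) (BT.node (nat_lit 10138496) (BT.leaf (nat_lit 29057297)) (BT.leaf (nat_lit 29054225))) (BT.node (nat_lit 10138624) (BT.leaf (nat_lit 29056529)) (BT.leaf (nat_lit 31384089)))) (BT.node (nat_lit 10138816) (BT.node (nat_lit 10138752) (BT.leaf (nat_lit 31384093)) (BT.leaf (nat_lit 40059657))) (BT.node (nat_lit 10138880) (BT.leaf (nat_lit 40059661)) (BT.leaf (nat_lit 29874965)))))) (BT.node (nat_lit 10139394) (BT.node (nat_lit 10139200) (BT.node (nat_lit 10139072) (BT.node (nat_lit 10139008) (BT.leaf (nat_lit 40059673)) (BT.leaf (nat_lit 40059677))) (BT.node (nat_lit 10139136) (BT.leaf (nat_lit 32176917)) (BT.leaf (nat_lit 29058073)))) (BT.node (nat_lit 10139328) (BT.node (nat_lit 10139264) (BT.leaf (nat_lit 48408325)) (BT.leaf (nat_lit 38053637))) (BT.node (nat_lit 10139392) (BT.leaf (nat_lit 29058077)) (BT.leaf (nat_lit 52221973))))) (BT.node (nat_lit 10139584) (BT.node (nat_lit 10139456) (BT.node (nat_lit 10139397) (BT.leaf (nat_lit 745472)) (BT.leaf (nat_lit 745472))) (BT.node (nat_lit 10139520) (BT.leaf (nat_lit 52028437)) (BT.leaf (nat_lit 29058833)))) (BT.node (nat_lit 10139712) (BT.node (nat_lit 10139648) (BT.leaf (nat_lit 49084421)) (BT.leaf (nat_lit 29874969))) (BT.node (nat_lit 10139776) (BT.leaf (nat_lit 29874973)) (BT.leaf (nat_lit 48919329))))))) (BT.node (nat_lit 10140800) (BT.node (nat_lit 10140288) (BT.node (nat_lit 10140096) (BT.node (nat_lit 10139968) (BT.node (nat_lit 10139904) (BT.leaf (nat_lit 30792457)) (BT.leaf (nat_lit 30792461))) (BT.node (nat_lit 10140032) (BT.leaf (nat_lit 30791445)) (BT.leaf (nat_lit 30792473)))) (BT.node (nat_lit 10140162) (BT.node (nat_lit 10140160) (BT.leaf (nat_lit 51096085)) (BT.leaf (nat_lit 29060357))) (BT.node (nat_lit 10140224) (BT.leaf (nat_lit 772760)) (BT.leaf (nat_lit 32546581))))) (BT.node (nat_lit 10140544) (BT.node (nat_lit 10140416) (BT.node (nat_lit 10140352) (BT.leaf (nat_lit 28113181)) (BT.leaf (nat_lit 30087189))) (BT.node (nat_lit 10140480) (BT.leaf (nat_lit 29059089)) (BT.leaf (nat_lit 28142865)))) (BT.node (nat_lit 10140672) (BT.node (nat_lit 10140608) (BT.leaf (nat_lit 30791449)) (BT.leaf (nat_lit 30791453))) (BT.node (nat_lit 10140736) (BT.leaf (nat_lit 29059601)) (BT.leaf (nat_lit 29059345)))))) (BT.node (nat_lit 10141248) (BT.node (nat_lit 10141056) (BT.node (nat_lit 10140928) (BT.node (nat_lit 10140864) (BT.leaf (nat_lit 29061149)) (BT.leaf (nat_lit 32537365))) (BT.node (nat_lit 10140992) (BT.leaf (nat_lit 29062673)) (BT.leaf (nat_lit 40564237)))) (BT.node (nat_lit 10141120) (BT.node (nat_lit 10141062) (BT.leaf (nat_lit 52304401)) (BT.leaf (nat_lit 810068))) (BT.node (nat_lit 10141184) (BT.leaf (nat_lit 38992921)) (BT.leaf (nat_lit 49506581))))) (BT.node (nat_lit 10141441) (BT.node (nat_lit 10141376) (BT.node (nat_lit 10141312) (BT.leaf (nat_lit 36601097)) (BT.leaf (nat_lit 30057733))) (BT.node (nat_lit 10141440) (BT.leaf (nat_lit 29061913)) (BT.leaf (nat_lit 49432593)))) (BT.node (nat_lit 10141443) (BT.node (nat_lit 10141442) (BT.leaf (nat_lit 660500)) (BT.leaf (nat_lit 660500))) (BT.node (nat_lit 10141504) (BT.leaf (nat_lit 660500)) (BT.leaf (nat_lit 47230745))))))))) (BT.node (nat_lit 10145280) (BT.node (nat_lit 10143360) (BT.node (nat_lit 10142592) (BT.node (nat_lit 10142080) (BT.node (nat_lit 10141824) (BT.node (nat_lit 10141696) (BT.node (nat_lit 10141632) (BT.leaf (nat_lit 29062685)) (BT.leaf (nat_lit 37210377))) (BT.node (nat_lit 10141760) (BT.leaf (nat_lit 30494745)) (BT.leaf (nat_lit 30494749)))) (BT.node (nat_lit 10141952) (BT.node (nat_lit 10141888) (BT.leaf (nat_lit 29062929)) (BT.leaf (nat_lit 29063457))) (BT.node (nat_lit 10142016) (BT.leaf (nat_lit 36383517)) (BT.leaf (nat_lit 51368469))))) (BT.node (nat_lit 10142336) (BT.node (nat_lit 10142208) (BT.node (nat_lit 10142144) (BT.leaf (nat_lit 42156061)) (BT.leaf (nat_lit 32812549))) (BT.node (nat_lit 10142272) (BT.leaf (nat_lit 45656841)) (BT.leaf (nat_lit 32812561)))) (BT.node (nat_lit 10142464) (BT.node (nat_lit 10142400) (BT.leaf (nat_lit 47610393)) (BT.leaf (nat_lit 34779421))) (BT.node (nat_lit 10142528) (BT.leaf (nat_lit 29063965)) (BT.leaf (nat_lit 31491093)))))) (BT.node (nat_lit 10143104) (BT.node (nat_lit 10142848) (BT.node (nat_lit 10142720) (BT.node (nat_lit 10142656) (BT.leaf (nat_lit 35356169)) (BT.leaf (nat_lit 35356173))) (BT.node (nat_lit 10142784) (BT.leaf (nat_lit 42753313)) (BT.leaf (nat_lit 35356185)))) (BT.node (nat_lit 10142976) (BT.node (nat_lit 10142912) (BT.leaf (nat_lit 35356189)) (BT.leaf (nat_lit 32610309))) (BT.node (nat_lit 10143040) (BT.leaf (nat_lit 40589069)) (BT.leaf (nat_lit 29065489))))) (BT.node (nat_lit 10143234) (BT.node (nat_lit 10143169) (BT.node (nat_lit 10143168) (BT.leaf (nat_lit 42057485)) (BT.leaf (nat_lit 44294945))) (BT.node (nat_lit 10143233) (BT.leaf (nat_lit 750704)) (BT.leaf (nat_lit 668272)))) (BT.node (nat_lit 10143236) (BT.node (nat_lit 10143235) (BT.leaf (nat_lit 668272)) (BT.leaf (nat_lit 668272))) (BT.node (nat_lit 10143296) (BT.leaf (nat_lit 668272)) (BT.leaf (nat_lit 48043037))))))) (BT.node (nat_lit 10144320) (BT.node (nat_lit 10143936) (BT.node (nat_lit 10143680) (BT.node (nat_lit 10143488) (BT.node (nat_lit 10143424) (BT.leaf (nat_lit 29065757)) (BT.leaf (nat_lit 29066013))) (BT.node (nat_lit 10143616) (BT.leaf (nat_lit 39382545)) (BT.leaf (nat_lit 32573209)))) (BT.node (nat_lit 10143808) (BT.node (nat_lit 10143744) (BT.leaf (nat_lit 32573213)) (BT.leaf (nat_lit 39632141))) (BT.node (nat_lit 10143872) (BT.leaf (nat_lit 42753293)) (BT.leaf (nat_lit 29068561))))) (BT.node (nat_lit 10144069) (BT.node (nat_lit 10144004) (BT.node (nat_lit 10144000) (BT.leaf (nat_lit 29068305)) (BT.leaf (nat_lit 41777173))) (BT.node (nat_lit 10144064) (BT.leaf (nat_lit 648168)) (BT.leaf (nat_lit 30440993)))) (BT.node (nat_lit 10144192) (BT.node (nat_lit 10144128) (BT.leaf (nat_lit 776980)) (BT.leaf (nat_lit 29073429))) (BT.node (nat_lit 10144256) (BT.leaf (nat_lit 29064213)) (BT.leaf (nat_lit 47236629)))))) (BT.node (nat_lit 10144768) (BT.node (nat_lit 10144520) (BT.node (nat_lit 10144448) (BT.node (nat_lit 10144384) (BT.leaf (nat_lit 30440977)) (BT.leaf (nat_lit 40529433))) (BT.node (nat_lit 10144512) (BT.leaf (nat_lit 29074185)) (BT.leaf (nat_lit 28302357)))) (BT.node (nat_lit 10144640) (BT.node (nat_lit 10144576) (BT.leaf (nat_lit 701368)) (BT.leaf (nat_lit 40589065))) (BT.node (nat_lit 10144704) (BT.leaf (nat_lit 42833681)) (BT.leaf (nat_lit 38099465))))) (BT.node (nat_lit 10145024) (BT.node (nat_lit 10144896) (BT.node (nat_lit 10144832) (BT.leaf (nat_lit 32607249)) (BT.leaf (nat_lit 29074437))) (BT.node (nat_lit 10144960) (BT.leaf (nat_lit 44610593)) (BT.leaf (nat_lit 32857113)))) (BT.node (nat_lit 10145152) (BT.node (nat_lit 10145088) (BT.leaf (nat_lit 32857117)) (BT.leaf (nat_lit 43475717))) (BT.node (nat_lit 10145216) (BT.leaf (nat_lit 30987793)) (BT.leaf (nat_lit 38916897)))))))) (BT.node (nat_lit 10147008) (BT.node (nat_lit 10146112) (BT.node (nat_lit 10145728) (BT.node (nat_lit 10145472) (BT.node (nat_lit 10145344) (BT.node (nat_lit 10145288) (BT.leaf (nat_lit 43719437)) (BT.leaf (nat_lit 678452))) (BT.node (nat_lit 10145408) (BT.leaf (nat_lit 43717901)) (BT.leaf (nat_lit 29067281)))) (BT.node (nat_lit 10145600) (BT.node (nat_lit 10145536) (BT.leaf (nat_lit 43867929)) (BT.leaf (nat_lit 30772757))) (BT.node (nat_lit 10145664) (BT.leaf (nat_lit 30184709)) (BT.leaf (nat_lit 50368533))))) (BT.node (nat_lit 10145925) (BT.node (nat_lit 10145856) (BT.node (nat_lit 10145792) (BT.leaf (nat_lit 44894493)) (BT.leaf (nat_lit 38905885))) (BT.node (nat_lit 10145920) (BT.leaf (nat_lit 29765649)) (BT.leaf (nat_lit 38905865)))) (BT.node (nat_lit 10145986) (BT.node (nat_lit 10145984) (BT.leaf (nat_lit 762196)) (BT.leaf (nat_lit 44895253))) (BT.node (nat_lit 10146048) (BT.leaf (nat_lit 762200)) (BT.leaf (nat_lit 30434321)))))) (BT.node (nat_lit 10146624) (BT.node (nat_lit 10146368) (BT.node (nat_lit 10146240) (BT.node (nat_lit 10146176) (BT.leaf (nat_lit 30184725)) (BT.leaf (nat_lit 30184729))) (BT.node (nat_lit 10146304) (BT.leaf (nat_lit 30184733)) (BT.leaf (nat_lit 39633941)))) (BT.node (nat_lit 10146496) (BT.node (nat_lit 10146432) (BT.leaf (nat_lit 29074197)) (BT.leaf (nat_lit 39843361))) (BT.node (nat_lit 10146560) (BT.leaf (nat_lit 40520981)) (BT.leaf (nat_lit 40520985))))) (BT.node (nat_lit 10146880) (BT.node (nat_lit 10146752) (BT.node (nat_lit 10146688) (BT.leaf (nat_lit 29765913)) (BT.leaf (nat_lit 29765917))) (BT.node (nat_lit 10146816) (BT.leaf (nat_lit 44695841)) (BT.leaf (nat_lit 42210589)))) (BT.node (nat_lit 10146944) (BT.node (nat_lit 10146884) (BT.leaf (nat_lit 34717969)) (BT.leaf (nat_lit 792896))) (BT.node (nat_lit 10146946) (BT.leaf (nat_lit 40246277)) (BT.leaf (nat_lit 722048))))))) (BT.node (nat_lit 10148032) (BT.node (nat_lit 10147520) (BT.node (nat_lit 10147264) (BT.node (nat_lit 10147136) (BT.node (nat_lit 10147072) (BT.leaf (nat_lit 40246289)) (BT.leaf (nat_lit 45754145))) (BT.node (nat_lit 10147200) (BT.leaf (nat_lit 44896029)) (BT.leaf (nat_lit 38099473)))) (BT.node (nat_lit 10147392) (BT.node (nat_lit 10147328) (BT.leaf (nat_lit 38099477)) (BT.leaf (nat_lit 38099489))) (BT.node (nat_lit 10147456) (BT.leaf (nat_lit 36273157)) (BT.leaf (nat_lit 42085153))))) (BT.node (nat_lit 10147776) (BT.node (nat_lit 10147648) (BT.node (nat_lit 10147584) (BT.leaf (nat_lit 32417285)) (BT.leaf (nat_lit 39635733))) (BT.node (nat_lit 10147712) (BT.leaf (nat_lit 43539985)) (BT.leaf (nat_lit 40246533)))) (BT.node (nat_lit 10147904) (BT.node (nat_lit 10147840) (BT.leaf (nat_lit 40578325)) (BT.leaf (nat_lit 43538449))) (BT.node (nat_lit 10147968) (BT.leaf (nat_lit 45754141)) (BT.leaf (nat_lit 29075985)))))) (BT.node (nat_lit 10148544) (BT.node (nat_lit 10148288) (BT.node (nat_lit 10148160) (BT.node (nat_lit 10148096) (BT.leaf (nat_lit 45479429)) (BT.leaf (nat_lit 43981081))) (BT.node (nat_lit 10148224) (BT.leaf (nat_lit 29069073)) (BT.leaf (nat_lit 43720217)))) (BT.node (nat_lit 10148416) (BT.node (nat_lit 10148352) (BT.leaf (nat_lit 37802245)) (BT.leaf (nat_lit 29076249))) (BT.node (nat_lit 10148480) (BT.leaf (nat_lit 38589201)) (BT.leaf (nat_lit 49497629))))) (BT.node (nat_lit 10148864) (BT.node (nat_lit 10148736) (BT.node (nat_lit 10148608) (BT.leaf (nat_lit 29076253)) (BT.leaf (nat_lit 43980049))) (BT.node (nat_lit 10148800) (BT.leaf (nat_lit 39757601)) (BT.leaf (nat_lit 29132313)))) (BT.node (nat_lit 10148867) (BT.node (nat_lit 10148866) (BT.leaf (nat_lit 29077525)) (BT.leaf (nat_lit 644736))) (BT.node (nat_lit 10148928) (BT.leaf (nat_lit 644736)) (BT.leaf (nat_lit 30822177)))))))))) (BT.node (nat_lit 10156288) (BT.node (nat_lit 10152704) (BT.node (nat_lit 10150656) (BT.node (nat_lit 10149696) (BT.node (nat_lit 10149376) (BT.node (nat_lit 10149184) (BT.node (nat_lit 10149056) (BT.node (nat_lit 10148992) (BT.leaf (nat_lit 671048)) (BT.leaf (nat_lit 30822433))) (BT.node (nat_lit 10149120) (BT.leaf (nat_lit 38757381)) (BT.leaf (nat_lit 30286109)))) (BT.node (nat_lit 10149312) (BT.node (nat_lit 10149248) (BT.leaf (nat_lit 34205189)) (BT.leaf (nat_lit 29077785))) (BT.node (nat_lit 10149313) (BT.leaf (nat_lit 49047561)) (BT.leaf (nat_lit 788516))))) (BT.node (nat_lit 10149504) (BT.node (nat_lit 10149383) (BT.node (nat_lit 10149377) (BT.leaf (nat_lit 42675469)) (BT.leaf (nat_lit 788520))) (BT.node (nat_lit 10149440) (BT.leaf (nat_lit 788520)) (BT.leaf (nat_lit 29078045)))) (BT.node (nat_lit 10149571) (BT.node (nat_lit 10149568) (BT.leaf (nat_lit 29077789)) (BT.leaf (nat_lit 40265989))) (BT.node (nat_lit 10149632) (BT.leaf (nat_lit 788524)) (BT.leaf (nat_lit 41859617)))))) (BT.node (nat_lit 10150208) (BT.node (nat_lit 10149952) (BT.node (nat_lit 10149824) (BT.node (nat_lit 10149760) (BT.leaf (nat_lit 29078041)) (BT.leaf (nat_lit 31587349))) (BT.node (nat_lit 10149888) (BT.leaf (nat_lit 31587353)) (BT.leaf (nat_lit 29919237)))) (BT.node (nat_lit 10150080) (BT.node (nat_lit 10150016) (BT.leaf (nat_lit 29589525)) (BT.leaf (nat_lit 29589533))) (BT.node (nat_lit 10150144) (BT.leaf (nat_lit 36241161)) (BT.leaf (nat_lit 39545865))))) (BT.node (nat_lit 10150407) (BT.node (nat_lit 10150336) (BT.node (nat_lit 10150272) (BT.leaf (nat_lit 29920289)) (BT.leaf (nat_lit 40616457))) (BT.node (nat_lit 10150400) (BT.leaf (nat_lit 41473805)) (BT.leaf (nat_lit 41532949)))) (BT.node (nat_lit 10150528) (BT.node (nat_lit 10150464) (BT.leaf (nat_lit 760692)) (BT.leaf (nat_lit 32957973))) (BT.node (nat_lit 10150592) (BT.leaf (nat_lit 44756997)) (BT.leaf (nat_lit 37861665))))))) (BT.node (nat_lit 10151680) (BT.node (nat_lit 10151168) (BT.node (nat_lit 10150912) (BT.node (nat_lit 10150784) (BT.node (nat_lit 10150720) (BT.leaf (nat_lit 45604373)) (BT.leaf (nat_lit 38849301))) (BT.node (nat_lit 10150848) (BT.leaf (nat_lit 29130777)) (BT.leaf (nat_lit 39512353)))) (BT.node (nat_lit 10151040) (BT.node (nat_lit 10150976) (BT.leaf (nat_lit 29088545)) (BT.leaf (nat_lit 30787845))) (BT.node (nat_lit 10151104) (BT.leaf (nat_lit 33659669)) (BT.leaf (nat_lit 30146841))))) (BT.node (nat_lit 10151424) (BT.node (nat_lit 10151296) (BT.node (nat_lit 10151232) (BT.leaf (nat_lit 39874833)) (BT.leaf (nat_lit 40691209))) (BT.node (nat_lit 10151360) (BT.leaf (nat_lit 39637009)) (BT.leaf (nat_lit 29085969)))) (BT.node (nat_lit 10151552) (BT.node (nat_lit 10151488) (BT.leaf (nat_lit 29085201)) (BT.leaf (nat_lit 47864081))) (BT.node (nat_lit 10151616) (BT.leaf (nat_lit 44758021)) (BT.leaf (nat_lit 31888905)))))) (BT.node (nat_lit 10152192) (BT.node (nat_lit 10151936) (BT.node (nat_lit 10151808) (BT.node (nat_lit 10151744) (BT.leaf (nat_lit 44605729)) (BT.leaf (nat_lit 33646873))) (BT.node (nat_lit 10151872) (BT.leaf (nat_lit 29142037)) (BT.leaf (nat_lit 39122697)))) (BT.node (nat_lit 10152064) (BT.node (nat_lit 10152000) (BT.leaf (nat_lit 39039261)) (BT.leaf (nat_lit 40608281))) (BT.node (nat_lit 10152128) (BT.leaf (nat_lit 46897669)) (BT.leaf (nat_lit 30816281))))) (BT.node (nat_lit 10152448) (BT.node (nat_lit 10152320) (BT.node (nat_lit 10152256) (BT.leaf (nat_lit 40711693)) (BT.leaf (nat_lit 30841889))) (BT.node (nat_lit 10152384) (BT.leaf (nat_lit 40331553)) (BT.leaf (nat_lit 41332229)))) (BT.node (nat_lit 10152576) (BT.node (nat_lit 10152512) (BT.leaf (nat_lit 32684297)) (BT.leaf (nat_lit 31884577))) (BT.node (nat_lit 10152640) (BT.leaf (nat_lit 35022361)) (BT.leaf (nat_lit 31070741)))))))) (BT.node (nat_lit 10154432) (BT.node (nat_lit 10153413) (BT.node (nat_lit 10153024) (BT.node (nat_lit 10152836) (BT.node (nat_lit 10152768) (BT.node (nat_lit 10152709) (BT.leaf (nat_lit 43380229)) (BT.leaf (nat_lit 645148))) (BT.node (nat_lit 10152832) (BT.leaf (nat_lit 40349209)) (BT.leaf (nat_lit 40349213)))) (BT.node (nat_lit 10152900) (BT.node (nat_lit 10152896) (BT.leaf (nat_lit 676364)) (BT.leaf (nat_lit 29245977))) (BT.node (nat_lit 10152960) (BT.leaf (nat_lit 737028)) (BT.leaf (nat_lit 48952349))))) (BT.node (nat_lit 10153221) (BT.node (nat_lit 10153152) (BT.node (nat_lit 10153088) (BT.leaf (nat_lit 31161865)) (BT.leaf (nat_lit 48951305))) (BT.node (nat_lit 10153216) (BT.leaf (nat_lit 40741129)) (BT.leaf (nat_lit 30543649)))) (BT.node (nat_lit 10153344) (BT.node (nat_lit 10153280) (BT.leaf (nat_lit 721848)) (BT.leaf (nat_lit 40622085))) (BT.node (nat_lit 10153408) (BT.leaf (nat_lit 48180257)) (BT.leaf (nat_lit 31564309)))))) (BT.node (nat_lit 10153920) (BT.node (nat_lit 10153664) (BT.node (nat_lit 10153536) (BT.node (nat_lit 10153472) (BT.leaf (nat_lit 762284)) (BT.leaf (nat_lit 29477409))) (BT.node (nat_lit 10153600) (BT.leaf (nat_lit 38253577)) (BT.leaf (nat_lit 35094549)))) (BT.node (nat_lit 10153792) (BT.node (nat_lit 10153728) (BT.leaf (nat_lit 46453017)) (BT.leaf (nat_lit 29521933))) (BT.node (nat_lit 10153856) (BT.leaf (nat_lit 34835993)) (BT.leaf (nat_lit 48781857))))) (BT.node (nat_lit 10154176) (BT.node (nat_lit 10154048) (BT.node (nat_lit 10153984) (BT.leaf (nat_lit 48273681)) (BT.leaf (nat_lit 32364061))) (BT.node (nat_lit 10154112) (BT.leaf (nat_lit 29476377)) (BT.leaf (nat_lit 45436689)))) (BT.node (nat_lit 10154304) (BT.node (nat_lit 10154240) (BT.leaf (nat_lit 38970133)) (BT.leaf (nat_lit 46972441))) (BT.node (nat_lit 10154368) (BT.leaf (nat_lit 46972445)) (BT.leaf (nat_lit 29186837))))))) (BT.node (nat_lit 10155328) (BT.node (nat_lit 10154944) (BT.node (nat_lit 10154688) (BT.node (nat_lit 10154560) (BT.node (nat_lit 10154496) (BT.leaf (nat_lit 40617481)) (BT.leaf (nat_lit 42662689))) (BT.node (nat_lit 10154624) (BT.leaf (nat_lit 47315477)) (BT.leaf (nat_lit 40865033)))) (BT.node (nat_lit 10154816) (BT.node (nat_lit 10154752) (BT.leaf (nat_lit 29493025)) (BT.leaf (nat_lit 30636305))) (BT.node (nat_lit 10154880) (BT.leaf (nat_lit 40781849)) (BT.leaf (nat_lit 48105493))))) (BT.node (nat_lit 10155136) (BT.node (nat_lit 10155008) (BT.node (nat_lit 10154949) (BT.leaf (nat_lit 38948873)) (BT.leaf (nat_lit 660472))) (BT.node (nat_lit 10155072) (BT.leaf (nat_lit 30534157)) (BT.leaf (nat_lit 29200669)))) (BT.node (nat_lit 10155200) (BT.node (nat_lit 10155141) (BT.leaf (nat_lit 42093845)) (BT.leaf (nat_lit 670288))) (BT.node (nat_lit 10155264) (BT.leaf (nat_lit 29196053)) (BT.leaf (nat_lit 31008525)))))) (BT.node (nat_lit 10155784) (BT.node (nat_lit 10155584) (BT.node (nat_lit 10155456) (BT.node (nat_lit 10155392) (BT.leaf (nat_lit 29195805)) (BT.leaf (nat_lit 29190945))) (BT.node (nat_lit 10155520) (BT.leaf (nat_lit 29093665)) (BT.leaf (nat_lit 32384289)))) (BT.node (nat_lit 10155712) (BT.node (nat_lit 10155648) (BT.leaf (nat_lit 40773405)) (BT.leaf (nat_lit 32834573))) (BT.node (nat_lit 10155776) (BT.leaf (nat_lit 40773389)) (BT.leaf (nat_lit 40772873))))) (BT.node (nat_lit 10156032) (BT.node (nat_lit 10155904) (BT.node (nat_lit 10155840) (BT.leaf (nat_lit 666600)) (BT.leaf (nat_lit 49112609))) (BT.node (nat_lit 10155968) (BT.leaf (nat_lit 31006753)) (BT.leaf (nat_lit 49158945)))) (BT.node (nat_lit 10156160) (BT.node (nat_lit 10156096) (BT.leaf (nat_lit 37953817)) (BT.leaf (nat_lit 47317765))) (BT.node (nat_lit 10156224) (BT.leaf (nat_lit 32384261)) (BT.leaf (nat_lit 32384273))))))))) (BT.node (nat_lit 10160192) (BT.node (nat_lit 10158208) (BT.node (nat_lit 10157312) (BT.node (nat_lit 10156800) (BT.node (nat_lit 10156544) (BT.node (nat_lit 10156416) (BT.node (nat_lit 10156352) (BT.leaf (nat_lit 42323481)) (BT.leaf (nat_lit 29093909))) (BT.node (nat_lit 10156480) (BT.leaf (nat_lit 48099597)) (BT.leaf (nat_lit 46803473)))) (BT.node (nat_lit 10156672) (BT.node (nat_lit 10156608) (BT.leaf (nat_lit 44233737)) (BT.leaf (nat_lit 29979677))) (BT.node (nat_lit 10156736) (BT.leaf (nat_lit 40806685)) (BT.leaf (nat_lit 30351893))))) (BT.node (nat_lit 10157056) (BT.node (nat_lit 10156928) (BT.node (nat_lit 10156864) (BT.leaf (nat_lit 30351897)) (BT.leaf (nat_lit 30351901))) (BT.node (nat_lit 10156992) (BT.leaf (nat_lit 33772057)) (BT.leaf (nat_lit 50155029)))) (BT.node (nat_lit 10157184) (BT.node (nat_lit 10157120) (BT.leaf (nat_lit 31495957)) (BT.leaf (nat_lit 34175261))) (BT.node (nat_lit 10157248) (BT.leaf (nat_lit 40452357)) (BT.leaf (nat_lit 33681437)))))) (BT.node (nat_lit 10157696) (BT.node (nat_lit 10157440) (BT.node (nat_lit 10157318) (BT.node (nat_lit 10157315) (BT.leaf (nat_lit 42215189)) (BT.leaf (nat_lit 806456))) (BT.node (nat_lit 10157376) (BT.leaf (nat_lit 806456)) (BT.leaf (nat_lit 39693089)))) (BT.node (nat_lit 10157568) (BT.node (nat_lit 10157504) (BT.leaf (nat_lit 27671057)) (BT.leaf (nat_lit 27285777))) (BT.node (nat_lit 10157632) (BT.leaf (nat_lit 31941909)) (BT.leaf (nat_lit 51185429))))) (BT.node (nat_lit 10157952) (BT.node (nat_lit 10157824) (BT.node (nat_lit 10157760) (BT.leaf (nat_lit 31941917)) (BT.leaf (nat_lit 27682321))) (BT.node (nat_lit 10157888) (BT.leaf (nat_lit 47126305)) (BT.leaf (nat_lit 31084821)))) (BT.node (nat_lit 10158080) (BT.node (nat_lit 10158016) (BT.leaf (nat_lit 47727897)) (BT.leaf (nat_lit 52079125))) (BT.node (nat_lit 10158144) (BT.leaf (nat_lit 44903177)) (BT.leaf (nat_lit 45199373))))))) (BT.node (nat_lit 10159168) (BT.node (nat_lit 10158656) (BT.node (nat_lit 10158400) (BT.node (nat_lit 10158336) (BT.node (nat_lit 10158272) (BT.leaf (nat_lit 39911961)) (BT.leaf (nat_lit 47040021))) (BT.node (nat_lit 10158342) (BT.leaf (nat_lit 30545697)) (BT.leaf (nat_lit 730204)))) (BT.node (nat_lit 10158528) (BT.node (nat_lit 10158464) (BT.leaf (nat_lit 46629637)) (BT.leaf (nat_lit 49940485))) (BT.node (nat_lit 10158592) (BT.leaf (nat_lit 49240085)) (BT.leaf (nat_lit 32558105))))) (BT.node (nat_lit 10158912) (BT.node (nat_lit 10158784) (BT.node (nat_lit 10158720) (BT.leaf (nat_lit 32558109)) (BT.leaf (nat_lit 44417809))) (BT.node (nat_lit 10158848) (BT.leaf (nat_lit 46785057)) (BT.leaf (nat_lit 48760845)))) (BT.node (nat_lit 10159040) (BT.node (nat_lit 10158976) (BT.leaf (nat_lit 32969505)) (BT.leaf (nat_lit 39919117))) (BT.node (nat_lit 10159104) (BT.leaf (nat_lit 40643081)) (BT.leaf (nat_lit 30802445)))))) (BT.node (nat_lit 10159680) (BT.node (nat_lit 10159424) (BT.node (nat_lit 10159296) (BT.node (nat_lit 10159232) (BT.leaf (nat_lit 51632645)) (BT.leaf (nat_lit 30802953))) (BT.node (nat_lit 10159360) (BT.leaf (nat_lit 30803209)) (BT.leaf (nat_lit 48920337)))) (BT.node (nat_lit 10159552) (BT.node (nat_lit 10159488) (BT.leaf (nat_lit 46439429)) (BT.leaf (nat_lit 41345041))) (BT.node (nat_lit 10159616) (BT.leaf (nat_lit 41345045)) (BT.leaf (nat_lit 46307353))))) (BT.node (nat_lit 10159936) (BT.node (nat_lit 10159808) (BT.node (nat_lit 10159744) (BT.leaf (nat_lit 40637721)) (BT.leaf (nat_lit 42942225))) (BT.node (nat_lit 10159872) (BT.leaf (nat_lit 31325973)) (BT.leaf (nat_lit 29248265)))) (BT.node (nat_lit 10160064) (BT.node (nat_lit 10160000) (BT.leaf (nat_lit 51632653)) (BT.leaf (nat_lit 32088097))) (BT.node (nat_lit 10160128) (BT.leaf (nat_lit 51632665)) (BT.leaf (nat_lit 29248285)))))))) (BT.node (nat_lit 10161920) (BT.node (nat_lit 10160965) (BT.node (nat_lit 10160518) (BT.node (nat_lit 10160388) (BT.node (nat_lit 10160320) (BT.node (nat_lit 10160256) (BT.leaf (nat_lit 51632673)) (BT.leaf (nat_lit 50845729))) (BT.node (nat_lit 10160384) (BT.leaf (nat_lit 50846497)) (BT.leaf (nat_lit 46166805)))) (BT.node (nat_lit 10160512) (BT.node (nat_lit 10160448) (BT.leaf (nat_lit 795652)) (BT.leaf (nat_lit 30124321))) (BT.node (nat_lit 10160515) (BT.leaf (nat_lit 31515397)) (BT.leaf (nat_lit 754584))))) (BT.node (nat_lit 10160768) (BT.node (nat_lit 10160640) (BT.node (nat_lit 10160576) (BT.leaf (nat_lit 754584)) (BT.leaf (nat_lit 40639005))) (BT.node (nat_lit 10160704) (BT.leaf (nat_lit 39455521)) (BT.leaf (nat_lit 39498513)))) (BT.node (nat_lit 10160896) (BT.node (nat_lit 10160832) (BT.leaf (nat_lit 31515141)) (BT.leaf (nat_lit 43986197))) (BT.node (nat_lit 10160960) (BT.leaf (nat_lit 41162245)) (BT.leaf (nat_lit 40643609)))))) (BT.node (nat_lit 10161472) (BT.node (nat_lit 10161216) (BT.node (nat_lit 10161088) (BT.node (nat_lit 10161024) (BT.leaf (nat_lit 761860)) (BT.leaf (nat_lit 39062049))) (BT.node (nat_lit 10161152) (BT.leaf (nat_lit 31522577)) (BT.leaf (nat_lit 31515401)))) (BT.node (nat_lit 10161344) (BT.node (nat_lit 10161280) (BT.leaf (nat_lit 31515405)) (BT.leaf (nat_lit 29112341))) (BT.node (nat_lit 10161408) (BT.leaf (nat_lit 34318105)) (BT.leaf (nat_lit 31515425))))) (BT.node (nat_lit 10161728) (BT.node (nat_lit 10161600) (BT.node (nat_lit 10161536) (BT.leaf (nat_lit 32685329)) (BT.leaf (nat_lit 41637145))) (BT.node (nat_lit 10161664) (BT.leaf (nat_lit 40646169)) (BT.leaf (nat_lit 32685065)))) (BT.node (nat_lit 10161796) (BT.node (nat_lit 10161792) (BT.leaf (nat_lit 50653205)) (BT.leaf (nat_lit 30086937))) (BT.node (nat_lit 10161856) (BT.leaf (nat_lit 647740)) (BT.leaf (nat_lit 48148753))))))) (BT.node (nat_lit 10162816) (BT.node (nat_lit 10162304) (BT.node (nat_lit 10162049) (BT.node (nat_lit 10161985) (BT.node (nat_lit 10161984) (BT.leaf (nat_lit 48148249)) (BT.leaf (nat_lit 45852957))) (BT.node (nat_lit 10162048) (BT.leaf (nat_lit 769096)) (BT.leaf (nat_lit 45852961)))) (BT.node (nat_lit 10162176) (BT.node (nat_lit 10162112) (BT.leaf (nat_lit 706472)) (BT.leaf (nat_lit 43089173))) (BT.node (nat_lit 10162240) (BT.leaf (nat_lit 39919121)) (BT.leaf (nat_lit 42252037))))) (BT.node (nat_lit 10162560) (BT.node (nat_lit 10162432) (BT.node (nat_lit 10162368) (BT.leaf (nat_lit 42409997)) (BT.leaf (nat_lit 30649117))) (BT.node (nat_lit 10162496) (BT.leaf (nat_lit 48188189)) (BT.leaf (nat_lit 46304021)))) (BT.node (nat_lit 10162688) (BT.node (nat_lit 10162624) (BT.leaf (nat_lit 44150049)) (BT.leaf (nat_lit 48762393))) (BT.node (nat_lit 10162752) (BT.leaf (nat_lit 48762401)) (BT.leaf (nat_lit 40650777)))))) (BT.node (nat_lit 10163264) (BT.node (nat_lit 10163072) (BT.node (nat_lit 10162944) (BT.node (nat_lit 10162880) (BT.leaf (nat_lit 51190817)) (BT.leaf (nat_lit 40327173))) (BT.node (nat_lit 10163008) (BT.leaf (nat_lit 29114385)) (BT.leaf (nat_lit 29114129)))) (BT.node (nat_lit 10163136) (BT.node (nat_lit 10163077) (BT.leaf (nat_lit 49113885)) (BT.leaf (nat_lit 777572))) (BT.node (nat_lit 10163200) (BT.leaf (nat_lit 51606049)) (BT.leaf (nat_lit 47418133))))) (BT.node (nat_lit 10163520) (BT.node (nat_lit 10163392) (BT.node (nat_lit 10163328) (BT.leaf (nat_lit 32892185)) (BT.leaf (nat_lit 28930585))) (BT.node (nat_lit 10163456) (BT.leaf (nat_lit 31202833)) (BT.leaf (nat_lit 32835097)))) (BT.node (nat_lit 10163648) (BT.node (nat_lit 10163584) (BT.leaf (nat_lit 28929565)) (BT.leaf (nat_lit 29115921))) (BT.node (nat_lit 10163712) (BT.leaf (nat_lit 48948769)) (BT.leaf (nat_lit 39301125))))))))))) (BT.node (nat_lit 10179648) (BT.node (nat_lit 10171776) (BT.node (nat_lit 10167808) (BT.node (nat_lit 10165760) (BT.node (nat_lit 10164736) (BT.node (nat_lit 10164288) (BT.node (nat_lit 10164032) (BT.node (nat_lit 10163904) (BT.node (nat_lit 10163840) (BT.leaf (nat_lit 37989657)) (BT.leaf (nat_lit 30079761))) (BT.node (nat_lit 10163968) (BT.leaf (nat_lit 30079765)) (BT.leaf (nat_lit 45931537)))) (BT.node (nat_lit 10164160) (BT.node (nat_lit 10164096) (BT.leaf (nat_lit 45931541)) (BT.leaf (nat_lit 39745029))) (BT.node (nat_lit 10164224) (BT.leaf (nat_lit 50089989)) (BT.leaf (nat_lit 29339677))))) (BT.node (nat_lit 10164544) (BT.node (nat_lit 10164416) (BT.node (nat_lit 10164352) (BT.leaf (nat_lit 27509777)) (BT.leaf (nat_lit 37835797))) (BT.node (nat_lit 10164480) (BT.leaf (nat_lit 36235809)) (BT.leaf (nat_lit 37835805)))) (BT.node (nat_lit 10164608) (BT.node (nat_lit 10164552) (BT.leaf (nat_lit 51321881)) (BT.leaf (nat_lit 805588))) (BT.node (nat_lit 10164672) (BT.leaf (nat_lit 40659465)) (BT.leaf (nat_lit 36254237)))))) (BT.node (nat_lit 10165248) (BT.node (nat_lit 10164992) (BT.node (nat_lit 10164864) (BT.node (nat_lit 10164800) (BT.leaf (nat_lit 32730913)) (BT.leaf (nat_lit 51557133))) (BT.node (nat_lit 10164928) (BT.leaf (nat_lit 48843809)) (BT.leaf (nat_lit 28445205)))) (BT.node (nat_lit 10165120) (BT.node (nat_lit 10165056) (BT.leaf (nat_lit 36254217)) (BT.leaf (nat_lit 50399265))) (BT.node (nat_lit 10165184) (BT.leaf (nat_lit 45812229)) (BT.leaf (nat_lit 52101145))))) (BT.node (nat_lit 10165504) (BT.node (nat_lit 10165376) (BT.node (nat_lit 10165312) (BT.leaf (nat_lit 48280069)) (BT.leaf (nat_lit 30876441))) (BT.node (nat_lit 10165440) (BT.leaf (nat_lit 36809225)) (BT.leaf (nat_lit 29893905)))) (BT.node (nat_lit 10165632) (BT.node (nat_lit 10165568) (BT.leaf (nat_lit 33640221)) (BT.leaf (nat_lit 29893921))) (BT.node (nat_lit 10165696) (BT.leaf (nat_lit 38201873)) (BT.leaf (nat_lit 46922249))))))) (BT.node (nat_lit 10166784) (BT.node (nat_lit 10166272) (BT.node (nat_lit 10166016) (BT.node (nat_lit 10165888) (BT.node (nat_lit 10165824) (BT.leaf (nat_lit 39751713)) (BT.leaf (nat_lit 33627169))) (BT.node (nat_lit 10165952) (BT.leaf (nat_lit 32497173)) (BT.leaf (nat_lit 48279301)))) (BT.node (nat_lit 10166144) (BT.node (nat_lit 10166080) (BT.leaf (nat_lit 48278277)) (BT.leaf (nat_lit 32733969))) (BT.node (nat_lit 10166208) (BT.leaf (nat_lit 32733985)) (BT.leaf (nat_lit 30333973))))) (BT.node (nat_lit 10166528) (BT.node (nat_lit 10166400) (BT.node (nat_lit 10166336) (BT.leaf (nat_lit 51855893)) (BT.leaf (nat_lit 37740065))) (BT.node (nat_lit 10166464) (BT.leaf (nat_lit 29126681)) (BT.leaf (nat_lit 30340881)))) (BT.node (nat_lit 10166656) (BT.node (nat_lit 10166592) (BT.leaf (nat_lit 30340885)) (BT.leaf (nat_lit 29127701))) (BT.node (nat_lit 10166720) (BT.leaf (nat_lit 52405265)) (BT.leaf (nat_lit 29815821)))))) (BT.node (nat_lit 10167296) (BT.node (nat_lit 10167040) (BT.node (nat_lit 10166912) (BT.node (nat_lit 10166848) (BT.leaf (nat_lit 33641237)) (BT.leaf (nat_lit 29815833))) (BT.node (nat_lit 10166976) (BT.leaf (nat_lit 29815837)) (BT.leaf (nat_lit 34636821)))) (BT.node (nat_lit 10167168) (BT.node (nat_lit 10167104) (BT.leaf (nat_lit 36235041)) (BT.leaf (nat_lit 49377825))) (BT.node (nat_lit 10167232) (BT.leaf (nat_lit 29128217)) (BT.leaf (nat_lit 41901065))))) (BT.node (nat_lit 10167552) (BT.node (nat_lit 10167424) (BT.node (nat_lit 10167360) (BT.leaf (nat_lit 30366229)) (BT.leaf (nat_lit 50410785))) (BT.node (nat_lit 10167488) (BT.leaf (nat_lit 49592353)) (BT.leaf (nat_lit 29128221)))) (BT.node (nat_lit 10167680) (BT.node (nat_lit 10167616) (BT.leaf (nat_lit 35456029)) (BT.leaf (nat_lit 35203609))) (BT.node (nat_lit 10167744) (BT.leaf (nat_lit 34807329)) (BT.leaf (nat_lit 43772449)))))))) (BT.node (nat_lit 10169856) (BT.node (nat_lit 10168832) (BT.node (nat_lit 10168320) (BT.node (nat_lit 10168064) (BT.node (nat_lit 10167936) (BT.node (nat_lit 10167872) (BT.leaf (nat_lit 29139717)) (BT.leaf (nat_lit 39551237))) (BT.node (nat_lit 10168000) (BT.leaf (nat_lit 43630613)) (BT.leaf (nat_lit 29129237)))) (BT.node (nat_lit 10168192) (BT.node (nat_lit 10168128) (BT.leaf (nat_lit 45607177)) (BT.leaf (nat_lit 46000133))) (BT.node (nat_lit 10168256) (BT.leaf (nat_lit 45348893)) (BT.leaf (nat_lit 37984289))))) (BT.node (nat_lit 10168576) (BT.node (nat_lit 10168448) (BT.node (nat_lit 10168384) (BT.leaf (nat_lit 40320801)) (BT.leaf (nat_lit 30840353))) (BT.node (nat_lit 10168512) (BT.leaf (nat_lit 40705041)) (BT.leaf (nat_lit 48672021)))) (BT.node (nat_lit 10168704) (BT.node (nat_lit 10168640) (BT.leaf (nat_lit 30840581)) (BT.leaf (nat_lit 40705541))) (BT.node (nat_lit 10168768) (BT.leaf (nat_lit 29130521)) (BT.leaf (nat_lit 29130781)))))) (BT.node (nat_lit 10169344) (BT.node (nat_lit 10169088) (BT.node (nat_lit 10168960) (BT.node (nat_lit 10168896) (BT.leaf (nat_lit 30842913)) (BT.leaf (nat_lit 29223701))) (BT.node (nat_lit 10169024) (BT.leaf (nat_lit 49121301)) (BT.leaf (nat_lit 39017989)))) (BT.node (nat_lit 10169216) (BT.node (nat_lit 10169152) (BT.leaf (nat_lit 29131285)) (BT.leaf (nat_lit 35150601))) (BT.node (nat_lit 10169280) (BT.leaf (nat_lit 35150605)) (BT.leaf (nat_lit 35150609))))) (BT.node (nat_lit 10169600) (BT.node (nat_lit 10169472) (BT.node (nat_lit 10169408) (BT.leaf (nat_lit 32107541)) (BT.leaf (nat_lit 35150621))) (BT.node (nat_lit 10169536) (BT.leaf (nat_lit 29132309)) (BT.leaf (nat_lit 39678241)))) (BT.node (nat_lit 10169728) (BT.node (nat_lit 10169664) (BT.leaf (nat_lit 42922785)) (BT.leaf (nat_lit 33642517))) (BT.node (nat_lit 10169792) (BT.leaf (nat_lit 42923553)) (BT.leaf (nat_lit 42068761))))))) (BT.node (nat_lit 10170880) (BT.node (nat_lit 10170368) (BT.node (nat_lit 10170112) (BT.node (nat_lit 10169984) (BT.node (nat_lit 10169920) (BT.leaf (nat_lit 29132573)) (BT.leaf (nat_lit 29132829))) (BT.node (nat_lit 10170048) (BT.leaf (nat_lit 45675013)) (BT.leaf (nat_lit 38750725)))) (BT.node (nat_lit 10170240) (BT.node (nat_lit 10170176) (BT.leaf (nat_lit 29133593)) (BT.leaf (nat_lit 29467921))) (BT.node (nat_lit 10170304) (BT.leaf (nat_lit 50866457)) (BT.leaf (nat_lit 41218309))))) (BT.node (nat_lit 10170624) (BT.node (nat_lit 10170496) (BT.node (nat_lit 10170432) (BT.leaf (nat_lit 29667853)) (BT.leaf (nat_lit 30425881))) (BT.node (nat_lit 10170560) (BT.leaf (nat_lit 48042269)) (BT.leaf (nat_lit 29667869)))) (BT.node (nat_lit 10170752) (BT.node (nat_lit 10170688) (BT.leaf (nat_lit 43628805)) (BT.leaf (nat_lit 39310597))) (BT.node (nat_lit 10170816) (BT.leaf (nat_lit 48972293)) (BT.leaf (nat_lit 30578721)))))) (BT.node (nat_lit 10171336) (BT.node (nat_lit 10171200) (BT.node (nat_lit 10171008) (BT.node (nat_lit 10170944) (BT.leaf (nat_lit 29136145)) (BT.leaf (nat_lit 29135889))) (BT.node (nat_lit 10171072) (BT.leaf (nat_lit 32759329)) (BT.leaf (nat_lit 41346821)))) (BT.node (nat_lit 10171328) (BT.node (nat_lit 10171264) (BT.leaf (nat_lit 49907461)) (BT.leaf (nat_lit 32605201))) (BT.node (nat_lit 10171332) (BT.leaf (nat_lit 46146821)) (BT.leaf (nat_lit 643416))))) (BT.node (nat_lit 10171584) (BT.node (nat_lit 10171456) (BT.node (nat_lit 10171392) (BT.leaf (nat_lit 643416)) (BT.leaf (nat_lit 29137949))) (BT.node (nat_lit 10171520) (BT.leaf (nat_lit 40671521)) (BT.leaf (nat_lit 41829653)))) (BT.node (nat_lit 10171712) (BT.node (nat_lit 10171656) (BT.leaf (nat_lit 29450501)) (BT.leaf (nat_lit 644368))) (BT.node (nat_lit 10171714) (BT.leaf (nat_lit 41362977)) (BT.leaf (nat_lit 644384))))))))) (BT.node (nat_lit 10175686) (BT.node (nat_lit 10173696) (BT.node (nat_lit 10172800) (BT.node (nat_lit 10172352) (BT.node (nat_lit 10172096) (BT.node (nat_lit 10171904) (BT.node (nat_lit 10171840) (BT.leaf (nat_lit 36106521)) (BT.leaf (nat_lit 42940177))) (BT.node (nat_lit 10172032) (BT.leaf (nat_lit 42940181)) (BT.leaf (nat_lit 29495557)))) (BT.node (nat_lit 10172224) (BT.node (nat_lit 10172160) (BT.leaf (nat_lit 29139217)) (BT.leaf (nat_lit 29138705))) (BT.node (nat_lit 10172288) (BT.leaf (nat_lit 40828693)) (BT.leaf (nat_lit 48404749))))) (BT.node (nat_lit 10172544) (BT.node (nat_lit 10172416) (BT.node (nat_lit 10172354) (BT.leaf (nat_lit 40211717)) (BT.leaf (nat_lit 647812))) (BT.node (nat_lit 10172480) (BT.leaf (nat_lit 29137425)) (BT.leaf (nat_lit 49410581)))) (BT.node (nat_lit 10172672) (BT.node (nat_lit 10172608) (BT.leaf (nat_lit 29503249)) (BT.leaf (nat_lit 47408141))) (BT.node (nat_lit 10172736) (BT.leaf (nat_lit 47275801)) (BT.leaf (nat_lit 51690269)))))) (BT.node (nat_lit 10173312) (BT.node (nat_lit 10173056) (BT.node (nat_lit 10172928) (BT.node (nat_lit 10172864) (BT.leaf (nat_lit 28690181)) (BT.leaf (nat_lit 48345113))) (BT.node (nat_lit 10172992) (BT.leaf (nat_lit 36106761)) (BT.leaf (nat_lit 39879197)))) (BT.node (nat_lit 10173184) (BT.node (nat_lit 10173120) (BT.leaf (nat_lit 48972577)) (BT.leaf (nat_lit 42970889))) (BT.node (nat_lit 10173248) (BT.leaf (nat_lit 36106781)) (BT.leaf (nat_lit 49618977))))) (BT.node (nat_lit 10173440) (BT.node (nat_lit 10173379) (BT.node (nat_lit 10173376) (BT.leaf (nat_lit 39878417)) (BT.leaf (nat_lit 48212513))) (BT.node (nat_lit 10173380) (BT.leaf (nat_lit 772096)) (BT.leaf (nat_lit 660968)))) (BT.node (nat_lit 10173568) (BT.node (nat_lit 10173504) (BT.leaf (nat_lit 30683153)) (BT.leaf (nat_lit 30683169))) (BT.node (nat_lit 10173632) (BT.leaf (nat_lit 39874065)) (BT.leaf (nat_lit 39551253))))))) (BT.node (nat_lit 10174720) (BT.node (nat_lit 10174272) (BT.node (nat_lit 10174016) (BT.node (nat_lit 10173824) (BT.node (nat_lit 10173760) (BT.leaf (nat_lit 39551257)) (BT.leaf (nat_lit 39551261))) (BT.node (nat_lit 10173888) (BT.leaf (nat_lit 41551369)) (BT.leaf (nat_lit 43623185)))) (BT.node (nat_lit 10174144) (BT.node (nat_lit 10174080) (BT.leaf (nat_lit 48293145)) (BT.leaf (nat_lit 29140249))) (BT.node (nat_lit 10174208) (BT.leaf (nat_lit 31142929)) (BT.leaf (nat_lit 29140765))))) (BT.node (nat_lit 10174464) (BT.node (nat_lit 10174344) (BT.node (nat_lit 10174336) (BT.leaf (nat_lit 38482189)) (BT.leaf (nat_lit 29783065))) (BT.node (nat_lit 10174400) (BT.leaf (nat_lit 717524)) (BT.leaf (nat_lit 38258961)))) (BT.node (nat_lit 10174592) (BT.node (nat_lit 10174528) (BT.leaf (nat_lit 29143061)) (BT.leaf (nat_lit 32739101))) (BT.node (nat_lit 10174656) (BT.leaf (nat_lit 48127009)) (BT.leaf (nat_lit 30817285)))))) (BT.node (nat_lit 10175232) (BT.node (nat_lit 10174976) (BT.node (nat_lit 10174848) (BT.node (nat_lit 10174784) (BT.leaf (nat_lit 48147717)) (BT.leaf (nat_lit 43031557))) (BT.node (nat_lit 10174912) (BT.leaf (nat_lit 29840145)) (BT.leaf (nat_lit 47837217)))) (BT.node (nat_lit 10175104) (BT.node (nat_lit 10175040) (BT.leaf (nat_lit 32050181)) (BT.leaf (nat_lit 42765849))) (BT.node (nat_lit 10175168) (BT.leaf (nat_lit 39456289)) (BT.leaf (nat_lit 29516825))))) (BT.node (nat_lit 10175488) (BT.node (nat_lit 10175360) (BT.node (nat_lit 10175296) (BT.leaf (nat_lit 29516829)) (BT.leaf (nat_lit 44339725))) (BT.node (nat_lit 10175424) (BT.leaf (nat_lit 44552197)) (BT.leaf (nat_lit 43906849)))) (BT.node (nat_lit 10175616) (BT.node (nat_lit 10175552) (BT.leaf (nat_lit 29146645)) (BT.leaf (nat_lit 32351249))) (BT.node (nat_lit 10175680) (BT.leaf (nat_lit 40823309)) (BT.leaf (nat_lit 29148433)))))))) (BT.node (nat_lit 10177664) (BT.node (nat_lit 10176640) (BT.node (nat_lit 10176128) (BT.node (nat_lit 10175873) (BT.node (nat_lit 10175808) (BT.node (nat_lit 10175744) (BT.leaf (nat_lit 713348)) (BT.leaf (nat_lit 47271189))) (BT.node (nat_lit 10175872) (BT.leaf (nat_lit 34057489)) (BT.leaf (nat_lit 38860809)))) (BT.node (nat_lit 10176000) (BT.node (nat_lit 10175936) (BT.leaf (nat_lit 682632)) (BT.leaf (nat_lit 48148769))) (BT.node (nat_lit 10176064) (BT.leaf (nat_lit 44799493)) (BT.leaf (nat_lit 45347361))))) (BT.node (nat_lit 10176384) (BT.node (nat_lit 10176256) (BT.node (nat_lit 10176192) (BT.leaf (nat_lit 41977097)) (BT.leaf (nat_lit 44757281))) (BT.node (nat_lit 10176320) (BT.leaf (nat_lit 31395353)) (BT.leaf (nat_lit 41977105)))) (BT.node (nat_lit 10176512) (BT.node (nat_lit 10176448) (BT.leaf (nat_lit 51422241)) (BT.leaf (nat_lit 50581005))) (BT.node (nat_lit 10176576) (BT.leaf (nat_lit 47284501)) (BT.leaf (nat_lit 38804497)))))) (BT.node (nat_lit 10177152) (BT.node (nat_lit 10176896) (BT.node (nat_lit 10176768) (BT.node (nat_lit 10176704) (BT.leaf (nat_lit 27758105)) (BT.leaf (nat_lit 38804513))) (BT.node (nat_lit 10176832) (BT.leaf (nat_lit 43509269)) (BT.leaf (nat_lit 40707081)))) (BT.node (nat_lit 10177024) (BT.node (nat_lit 10176960) (BT.leaf (nat_lit 41685009)) (BT.leaf (nat_lit 38512673))) (BT.node (nat_lit 10177088) (BT.leaf (nat_lit 38512417)) (BT.leaf (nat_lit 35709201))))) (BT.node (nat_lit 10177408) (BT.node (nat_lit 10177280) (BT.node (nat_lit 10177216) (BT.leaf (nat_lit 40320777)) (BT.leaf (nat_lit 30124817))) (BT.node (nat_lit 10177344) (BT.leaf (nat_lit 31888909)) (BT.leaf (nat_lit 40320785)))) (BT.node (nat_lit 10177536) (BT.node (nat_lit 10177472) (BT.leaf (nat_lit 37719557)) (BT.leaf (nat_lit 40497185))) (BT.node (nat_lit 10177600) (BT.leaf (nat_lit 34326813)) (BT.leaf (nat_lit 32265233))))))) (BT.node (nat_lit 10178688) (BT.node (nat_lit 10178176) (BT.node (nat_lit 10177920) (BT.node (nat_lit 10177792) (BT.node (nat_lit 10177728) (BT.leaf (nat_lit 43646981)) (BT.leaf (nat_lit 43636513))) (BT.node (nat_lit 10177856) (BT.leaf (nat_lit 31888921)) (BT.leaf (nat_lit 31888925)))) (BT.node (nat_lit 10178048) (BT.node (nat_lit 10177984) (BT.leaf (nat_lit 29153045)) (BT.leaf (nat_lit 46142993))) (BT.node (nat_lit 10178112) (BT.leaf (nat_lit 46143009)) (BT.leaf (nat_lit 41016861))))) (BT.node (nat_lit 10178432) (BT.node (nat_lit 10178304) (BT.node (nat_lit 10178240) (BT.leaf (nat_lit 40609305)) (BT.leaf (nat_lit 43622161))) (BT.node (nat_lit 10178368) (BT.leaf (nat_lit 29154321)) (BT.leaf (nat_lit 40897309)))) (BT.node (nat_lit 10178560) (BT.node (nat_lit 10178496) (BT.leaf (nat_lit 48146721)) (BT.leaf (nat_lit 35019021))) (BT.node (nat_lit 10178624) (BT.leaf (nat_lit 31695633)) (BT.leaf (nat_lit 42347797)))))) (BT.node (nat_lit 10179200) (BT.node (nat_lit 10178944) (BT.node (nat_lit 10178816) (BT.node (nat_lit 10178752) (BT.leaf (nat_lit 39356169)) (BT.leaf (nat_lit 46808593))) (BT.node (nat_lit 10178880) (BT.leaf (nat_lit 30828569)) (BT.leaf (nat_lit 49991173)))) (BT.node (nat_lit 10179072) (BT.node (nat_lit 10179008) (BT.leaf (nat_lit 29156381)) (BT.leaf (nat_lit 38004241))) (BT.node (nat_lit 10179136) (BT.leaf (nat_lit 29156617)) (BT.leaf (nat_lit 37443861))))) (BT.node (nat_lit 10179392) (BT.node (nat_lit 10179328) (BT.node (nat_lit 10179264) (BT.leaf (nat_lit 47242001)) (BT.leaf (nat_lit 44805653))) (BT.node (nat_lit 10179332) (BT.leaf (nat_lit 39246109)) (BT.leaf (nat_lit 769472)))) (BT.node (nat_lit 10179520) (BT.node (nat_lit 10179456) (BT.leaf (nat_lit 38588429)) (BT.leaf (nat_lit 29157397))) (BT.node (nat_lit 10179584) (BT.leaf (nat_lit 38043153)) (BT.leaf (nat_lit 50136073)))))))))) (BT.node (nat_lit 10187200) (BT.node (nat_lit 10183424) (BT.node (nat_lit 10181376) (BT.node (nat_lit 10180416) (BT.node (nat_lit 10180096) (BT.node (nat_lit 10179904) (BT.node (nat_lit 10179776) (BT.node (nat_lit 10179712) (BT.leaf (nat_lit 39115277)) (BT.leaf (nat_lit 40717849))) (BT.node (nat_lit 10179840) (BT.leaf (nat_lit 39245577)) (BT.leaf (nat_lit 39242521)))) (BT.node (nat_lit 10179975) (BT.node (nat_lit 10179968) (BT.leaf (nat_lit 39246093)) (BT.leaf (nat_lit 29156897))) (BT.node (nat_lit 10180032) (BT.leaf (nat_lit 685968)) (BT.leaf (nat_lit 51264545))))) (BT.node (nat_lit 10180352) (BT.node (nat_lit 10180224) (BT.node (nat_lit 10180160) (BT.leaf (nat_lit 41578769)) (BT.leaf (nat_lit 41608225))) (BT.node (nat_lit 10180288) (BT.leaf (nat_lit 29156125)) (BT.leaf (nat_lit 50136085)))) (BT.node (nat_lit 10180357) (BT.node (nat_lit 10180354) (BT.leaf (nat_lit 29593873)) (BT.leaf (nat_lit 700068))) (BT.node (nat_lit 10180359) (BT.leaf (nat_lit 646124)) (BT.leaf (nat_lit 700068)))))) (BT.node (nat_lit 10180864) (BT.node (nat_lit 10180608) (BT.node (nat_lit 10180480) (BT.node (nat_lit 10180420) (BT.leaf (nat_lit 32081181)) (BT.leaf (nat_lit 646128))) (BT.node (nat_lit 10180544) (BT.leaf (nat_lit 36637465)) (BT.leaf (nat_lit 50915333)))) (BT.node (nat_lit 10180736) (BT.node (nat_lit 10180672) (BT.leaf (nat_lit 47242257)) (BT.leaf (nat_lit 48290849))) (BT.node (nat_lit 10180800) (BT.leaf (nat_lit 32679713)) (BT.leaf (nat_lit 29160213))))) (BT.node (nat_lit 10181120) (BT.node (nat_lit 10180992) (BT.node (nat_lit 10180928) (BT.leaf (nat_lit 29851153)) (BT.leaf (nat_lit 47294221))) (BT.node (nat_lit 10181056) (BT.leaf (nat_lit 48290081)) (BT.leaf (nat_lit 29160981)))) (BT.node (nat_lit 10181248) (BT.node (nat_lit 10181184) (BT.leaf (nat_lit 35220513)) (BT.leaf (nat_lit 29851409))) (BT.node (nat_lit 10181312) (BT.leaf (nat_lit 29855257)) (BT.leaf (nat_lit 29159701))))))) (BT.node (nat_lit 10182400) (BT.node (nat_lit 10181888) (BT.node (nat_lit 10181632) (BT.node (nat_lit 10181504) (BT.node (nat_lit 10181440) (BT.leaf (nat_lit 29242649)) (BT.leaf (nat_lit 29855245))) (BT.node (nat_lit 10181568) (BT.leaf (nat_lit 29855249)) (BT.leaf (nat_lit 29242129)))) (BT.node (nat_lit 10181760) (BT.node (nat_lit 10181696) (BT.leaf (nat_lit 29855265)) (BT.leaf (nat_lit 30580509))) (BT.node (nat_lit 10181824) (BT.leaf (nat_lit 30580765)) (BT.leaf (nat_lit 37968661))))) (BT.node (nat_lit 10182144) (BT.node (nat_lit 10182016) (BT.node (nat_lit 10181952) (BT.leaf (nat_lit 29161745)) (BT.leaf (nat_lit 29161233))) (BT.node (nat_lit 10182080) (BT.leaf (nat_lit 29160977)) (BT.leaf (nat_lit 44589337)))) (BT.node (nat_lit 10182272) (BT.node (nat_lit 10182208) (BT.leaf (nat_lit 27985177)) (BT.leaf (nat_lit 32243217))) (BT.node (nat_lit 10182336) (BT.leaf (nat_lit 29453589)) (BT.leaf (nat_lit 29089041)))))) (BT.node (nat_lit 10182912) (BT.node (nat_lit 10182656) (BT.node (nat_lit 10182528) (BT.node (nat_lit 10182464) (BT.leaf (nat_lit 34855957)) (BT.leaf (nat_lit 32245013))) (BT.node (nat_lit 10182592) (BT.leaf (nat_lit 32245017)) (BT.leaf (nat_lit 32245021)))) (BT.node (nat_lit 10182784) (BT.node (nat_lit 10182720) (BT.leaf (nat_lit 29163281)) (BT.leaf (nat_lit 29164817))) (BT.node (nat_lit 10182848) (BT.leaf (nat_lit 29164561)) (BT.leaf (nat_lit 38873369))))) (BT.node (nat_lit 10183168) (BT.node (nat_lit 10183040) (BT.node (nat_lit 10182976) (BT.leaf (nat_lit 38873373)) (BT.leaf (nat_lit 29164305))) (BT.node (nat_lit 10183104) (BT.leaf (nat_lit 47356173)) (BT.leaf (nat_lit 49007393)))) (BT.node (nat_lit 10183296) (BT.node (nat_lit 10183232) (BT.leaf (nat_lit 31171333)) (BT.leaf (nat_lit 29242397))) (BT.node (nat_lit 10183360) (BT.leaf (nat_lit 47355933)) (BT.leaf (nat_lit 29270793)))))))) (BT.node (nat_lit 10185344) (BT.node (nat_lit 10184387) (BT.node (nat_lit 10183936) (BT.node (nat_lit 10183680) (BT.node (nat_lit 10183552) (BT.node (nat_lit 10183488) (BT.leaf (nat_lit 29270801)) (BT.leaf (nat_lit 30537493))) (BT.node (nat_lit 10183616) (BT.leaf (nat_lit 48315417)) (BT.leaf (nat_lit 33660181)))) (BT.node (nat_lit 10183808) (BT.node (nat_lit 10183744) (BT.leaf (nat_lit 31867417)) (BT.leaf (nat_lit 31867421))) (BT.node (nat_lit 10183872) (BT.leaf (nat_lit 49962261)) (BT.leaf (nat_lit 29168401))))) (BT.node (nat_lit 10184192) (BT.node (nat_lit 10184064) (BT.node (nat_lit 10184000) (BT.leaf (nat_lit 29167889)) (BT.leaf (nat_lit 29219093))) (BT.node (nat_lit 10184128) (BT.leaf (nat_lit 40736009)) (BT.leaf (nat_lit 33662997)))) (BT.node (nat_lit 10184320) (BT.node (nat_lit 10184256) (BT.leaf (nat_lit 43831321)) (BT.leaf (nat_lit 43831325))) (BT.node (nat_lit 10184384) (BT.leaf (nat_lit 43348741)) (BT.leaf (nat_lit 47793413)))))) (BT.node (nat_lit 10184896) (BT.node (nat_lit 10184640) (BT.node (nat_lit 10184512) (BT.node (nat_lit 10184448) (BT.leaf (nat_lit 758412)) (BT.leaf (nat_lit 48315937))) (BT.node (nat_lit 10184576) (BT.leaf (nat_lit 29905429)) (BT.leaf (nat_lit 44791045)))) (BT.node (nat_lit 10184768) (BT.node (nat_lit 10184704) (BT.leaf (nat_lit 30630177)) (BT.leaf (nat_lit 30629921))) (BT.node (nat_lit 10184832) (BT.leaf (nat_lit 46196741)) (BT.leaf (nat_lit 29192709))))) (BT.node (nat_lit 10185088) (BT.node (nat_lit 10185024) (BT.node (nat_lit 10184960) (BT.leaf (nat_lit 40739353)) (BT.leaf (nat_lit 29170957))) (BT.node (nat_lit 10185032) (BT.leaf (nat_lit 29089813)) (BT.leaf (nat_lit 760868)))) (BT.node (nat_lit 10185216) (BT.node (nat_lit 10185152) (BT.leaf (nat_lit 29170953)) (BT.leaf (nat_lit 44341261))) (BT.node (nat_lit 10185280) (BT.leaf (nat_lit 40100113)) (BT.leaf (nat_lit 31813653))))))) (BT.node (nat_lit 10186176) (BT.node (nat_lit 10185794) (BT.node (nat_lit 10185600) (BT.node (nat_lit 10185472) (BT.node (nat_lit 10185408) (BT.leaf (nat_lit 47784205)) (BT.leaf (nat_lit 29245961))) (BT.node (nat_lit 10185536) (BT.leaf (nat_lit 44342025)) (BT.leaf (nat_lit 29171989)))) (BT.node (nat_lit 10185728) (BT.node (nat_lit 10185664) (BT.leaf (nat_lit 43192589)) (BT.leaf (nat_lit 43192593))) (BT.node (nat_lit 10185792) (BT.leaf (nat_lit 45141785)) (BT.leaf (nat_lit 39685141))))) (BT.node (nat_lit 10185926) (BT.node (nat_lit 10185856) (BT.node (nat_lit 10185795) (BT.leaf (nat_lit 791108)) (BT.leaf (nat_lit 791108))) (BT.node (nat_lit 10185920) (BT.leaf (nat_lit 30859809)) (BT.leaf (nat_lit 37793289)))) (BT.node (nat_lit 10186048) (BT.node (nat_lit 10185984) (BT.leaf (nat_lit 746248)) (BT.leaf (nat_lit 40792865))) (BT.node (nat_lit 10186112) (BT.leaf (nat_lit 32325149)) (BT.leaf (nat_lit 45977349)))))) (BT.node (nat_lit 10186688) (BT.node (nat_lit 10186432) (BT.node (nat_lit 10186304) (BT.node (nat_lit 10186240) (BT.leaf (nat_lit 44355861)) (BT.leaf (nat_lit 29939997))) (BT.node (nat_lit 10186368) (BT.leaf (nat_lit 43658257)) (BT.leaf (nat_lit 51289889)))) (BT.node (nat_lit 10186560) (BT.node (nat_lit 10186496) (BT.leaf (nat_lit 30636321)) (BT.leaf (nat_lit 50523165))) (BT.node (nat_lit 10186624) (BT.leaf (nat_lit 45614597)) (BT.leaf (nat_lit 45615137))))) (BT.node (nat_lit 10186944) (BT.node (nat_lit 10186816) (BT.node (nat_lit 10186752) (BT.leaf (nat_lit 48326933)) (BT.leaf (nat_lit 40787717))) (BT.node (nat_lit 10186880) (BT.leaf (nat_lit 34717469)) (BT.leaf (nat_lit 30858257)))) (BT.node (nat_lit 10187072) (BT.node (nat_lit 10187008) (BT.leaf (nat_lit 29174545)) (BT.leaf (nat_lit 40389149))) (BT.node (nat_lit 10187136) (BT.leaf (nat_lit 29175317)) (BT.leaf (nat_lit 31103753))))))))) (BT.node (nat_lit 10191104) (BT.node (nat_lit 10189312) (BT.node (nat_lit 10188224) (BT.node (nat_lit 10187712) (BT.node (nat_lit 10187456) (BT.node (nat_lit 10187328) (BT.node (nat_lit 10187264) (BT.leaf (nat_lit 31103757)) (BT.leaf (nat_lit 33388549))) (BT.node (nat_lit 10187392) (BT.leaf (nat_lit 31103769)) (BT.leaf (nat_lit 31103773)))) (BT.node (nat_lit 10187584) (BT.node (nat_lit 10187520) (BT.leaf (nat_lit 29176853)) (BT.leaf (nat_lit 46802709))) (BT.node (nat_lit 10187648) (BT.leaf (nat_lit 44140569)) (BT.leaf (nat_lit 45547537))))) (BT.node (nat_lit 10187968) (BT.node (nat_lit 10187840) (BT.node (nat_lit 10187776) (BT.leaf (nat_lit 45918981)) (BT.leaf (nat_lit 32061701))) (BT.node (nat_lit 10187904) (BT.leaf (nat_lit 29177113)) (BT.leaf (nat_lit 30870533)))) (BT.node (nat_lit 10188096) (BT.node (nat_lit 10188032) (BT.leaf (nat_lit 43909129)) (BT.leaf (nat_lit 29294617))) (BT.node (nat_lit 10188160) (BT.leaf (nat_lit 29294621)) (BT.leaf (nat_lit 40758277)))))) (BT.node (nat_lit 10188736) (BT.node (nat_lit 10188480) (BT.node (nat_lit 10188352) (BT.node (nat_lit 10188288) (BT.leaf (nat_lit 35941141)) (BT.leaf (nat_lit 29179153))) (BT.node (nat_lit 10188416) (BT.leaf (nat_lit 52425753)) (BT.leaf (nat_lit 33342485)))) (BT.node (nat_lit 10188608) (BT.node (nat_lit 10188544) (BT.leaf (nat_lit 47310341)) (BT.leaf (nat_lit 38801173))) (BT.node (nat_lit 10188672) (BT.leaf (nat_lit 29179921)) (BT.leaf (nat_lit 27958033))))) (BT.node (nat_lit 10188992) (BT.node (nat_lit 10188864) (BT.node (nat_lit 10188800) (BT.leaf (nat_lit 43727137)) (BT.leaf (nat_lit 30615317))) (BT.node (nat_lit 10188928) (BT.leaf (nat_lit 41232901)) (BT.leaf (nat_lit 30614817)))) (BT.node (nat_lit 10189120) (BT.node (nat_lit 10189056) (BT.leaf (nat_lit 34819101)) (BT.leaf (nat_lit 40342289))) (BT.node (nat_lit 10189184) (BT.leaf (nat_lit 38889225)) (BT.leaf (nat_lit 31856661))))))) (BT.node (nat_lit 10190144) (BT.node (nat_lit 10189766) (BT.node (nat_lit 10189505) (BT.node (nat_lit 10189440) (BT.node (nat_lit 10189376) (BT.leaf (nat_lit 40877581)) (BT.leaf (nat_lit 29182749))) (BT.node (nat_lit 10189504) (BT.leaf (nat_lit 38850333)) (BT.leaf (nat_lit 29181977)))) (BT.node (nat_lit 10189696) (BT.node (nat_lit 10189632) (BT.leaf (nat_lit 796108)) (BT.leaf (nat_lit 39655705))) (BT.node (nat_lit 10189760) (BT.leaf (nat_lit 29183001)) (BT.leaf (nat_lit 38974217))))) (BT.node (nat_lit 10189888) (BT.node (nat_lit 10189768) (BT.node (nat_lit 10189767) (BT.leaf (nat_lit 685308)) (BT.leaf (nat_lit 685308))) (BT.node (nat_lit 10189824) (BT.leaf (nat_lit 685308)) (BT.leaf (nat_lit 40754717)))) (BT.node (nat_lit 10190016) (BT.node (nat_lit 10189952) (BT.leaf (nat_lit 29183005)) (BT.leaf (nat_lit 45799453))) (BT.node (nat_lit 10190080) (BT.leaf (nat_lit 47341077)) (BT.leaf (nat_lit 40760073)))))) (BT.node (nat_lit 10190656) (BT.node (nat_lit 10190400) (BT.node (nat_lit 10190272) (BT.node (nat_lit 10190208) (BT.leaf (nat_lit 33668885)) (BT.leaf (nat_lit 43686169))) (BT.node (nat_lit 10190336) (BT.leaf (nat_lit 43686173)) (BT.leaf (nat_lit 29184009)))) (BT.node (nat_lit 10190528) (BT.node (nat_lit 10190464) (BT.leaf (nat_lit 29970197)) (BT.leaf (nat_lit 47588365))) (BT.node (nat_lit 10190592) (BT.leaf (nat_lit 42992901)) (BT.leaf (nat_lit 31912473))))) (BT.node (nat_lit 10190912) (BT.node (nat_lit 10190784) (BT.node (nat_lit 10190720) (BT.leaf (nat_lit 41128737)) (BT.leaf (nat_lit 36995613))) (BT.node (nat_lit 10190848) (BT.leaf (nat_lit 30102801)) (BT.leaf (nat_lit 29971221)))) (BT.node (nat_lit 10190984) (BT.node (nat_lit 10190976) (BT.leaf (nat_lit 31912733)) (BT.leaf (nat_lit 39677193))) (BT.node (nat_lit 10191040) (BT.leaf (nat_lit 755256)) (BT.leaf (nat_lit 30859553)))))))) (BT.node (nat_lit 10193152) (BT.node (nat_lit 10192128) (BT.node (nat_lit 10191616) (BT.node (nat_lit 10191360) (BT.node (nat_lit 10191232) (BT.node (nat_lit 10191168) (BT.leaf (nat_lit 41164829)) (BT.leaf (nat_lit 40106517))) (BT.node (nat_lit 10191296) (BT.leaf (nat_lit 42973729)) (BT.leaf (nat_lit 47360797)))) (BT.node (nat_lit 10191488) (BT.node (nat_lit 10191424) (BT.leaf (nat_lit 48210441)) (BT.leaf (nat_lit 29186849))) (BT.node (nat_lit 10191552) (BT.leaf (nat_lit 30468117)) (BT.leaf (nat_lit 29198853))))) (BT.node (nat_lit 10191872) (BT.node (nat_lit 10191744) (BT.node (nat_lit 10191680) (BT.leaf (nat_lit 29985053)) (BT.leaf (nat_lit 37786653))) (BT.node (nat_lit 10191808) (BT.leaf (nat_lit 50124053)) (BT.leaf (nat_lit 29187349)))) (BT.node (nat_lit 10192000) (BT.node (nat_lit 10191936) (BT.leaf (nat_lit 41617945)) (BT.leaf (nat_lit 30468125))) (BT.node (nat_lit 10192064) (BT.leaf (nat_lit 41585173)) (BT.leaf (nat_lit 29190161)))))) (BT.node (nat_lit 10192576) (BT.node (nat_lit 10192384) (BT.node (nat_lit 10192256) (BT.node (nat_lit 10192192) (BT.leaf (nat_lit 29189393)) (BT.leaf (nat_lit 41585941))) (BT.node (nat_lit 10192320) (BT.leaf (nat_lit 34607893)) (BT.leaf (nat_lit 30866949)))) (BT.node (nat_lit 10192448) (BT.node (nat_lit 10192392) (BT.leaf (nat_lit 45204501)) (BT.leaf (nat_lit 677408))) (BT.node (nat_lit 10192512) (BT.leaf (nat_lit 43972625)) (BT.leaf (nat_lit 47510045))))) (BT.node (nat_lit 10192832) (BT.node (nat_lit 10192704) (BT.node (nat_lit 10192640) (BT.leaf (nat_lit 35719953)) (BT.leaf (nat_lit 30629893))) (BT.node (nat_lit 10192768) (BT.leaf (nat_lit 31911429)) (BT.leaf (nat_lit 32518929)))) (BT.node (nat_lit 10192960) (BT.node (nat_lit 10192896) (BT.leaf (nat_lit 29191709)) (BT.leaf (nat_lit 38874657))) (BT.node (nat_lit 10193024) (BT.leaf (nat_lit 33029137)) (BT.leaf (nat_lit 29093653))))))) (BT.node (nat_lit 10193985) (BT.node (nat_lit 10193600) (BT.node (nat_lit 10193344) (BT.node (nat_lit 10193224) (BT.node (nat_lit 10193216) (BT.leaf (nat_lit 48745997)) (BT.leaf (nat_lit 43906309))) (BT.node (nat_lit 10193280) (BT.leaf (nat_lit 747712)) (BT.leaf (nat_lit 50200089)))) (BT.node (nat_lit 10193472) (BT.node (nat_lit 10193408) (BT.leaf (nat_lit 31503637)) (BT.leaf (nat_lit 30101009))) (BT.node (nat_lit 10193536) (BT.leaf (nat_lit 30101025)) (BT.leaf (nat_lit 29191197))))) (BT.node (nat_lit 10193792) (BT.node (nat_lit 10193664) (BT.node (nat_lit 10193605) (BT.leaf (nat_lit 43613701)) (BT.leaf (nat_lit 712328))) (BT.node (nat_lit 10193728) (BT.leaf (nat_lit 38468621)) (BT.leaf (nat_lit 29195801)))) (BT.node (nat_lit 10193920) (BT.node (nat_lit 10193856) (BT.leaf (nat_lit 40868877)) (BT.leaf (nat_lit 29913613))) (BT.node (nat_lit 10193984) (BT.leaf (nat_lit 29196061)) (BT.leaf (nat_lit 40741409)))))) (BT.node (nat_lit 10194368) (BT.node (nat_lit 10194176) (BT.node (nat_lit 10194112) (BT.node (nat_lit 10194048) (BT.leaf (nat_lit 693188)) (BT.leaf (nat_lit 31008521))) (BT.node (nat_lit 10194113) (BT.leaf (nat_lit 37878049)) (BT.leaf (nat_lit 678636)))) (BT.node (nat_lit 10194245) (BT.node (nat_lit 10194240) (BT.leaf (nat_lit 40742917)) (BT.leaf (nat_lit 32581381))) (BT.node (nat_lit 10194304) (BT.leaf (nat_lit 658948)) (BT.leaf (nat_lit 49159201))))) (BT.node (nat_lit 10194690) (BT.node (nat_lit 10194624) (BT.node (nat_lit 10194560) (BT.leaf (nat_lit 43052037)) (BT.leaf (nat_lit 41221137))) (BT.node (nat_lit 10194688) (BT.leaf (nat_lit 43365145)) (BT.leaf (nat_lit 51210757)))) (BT.node (nat_lit 10194752) (BT.node (nat_lit 10194693) (BT.leaf (nat_lit 675408)) (BT.leaf (nat_lit 675408))) (BT.node (nat_lit 10194816) (BT.leaf (nat_lit 29200665)) (BT.leaf (nat_lit 29200921)))))))))))) (BT.node (nat_lit 10225728) (BT.node (nat_lit 10210304) (BT.node (nat_lit 10202752) (BT.node (nat_lit 10198848) (BT.node (nat_lit 10196800) (BT.node (nat_lit 10195847) (BT.node (nat_lit 10195392) (BT.node (nat_lit 10195136) (BT.node (nat_lit 10195008) (BT.node (nat_lit 10194944) (BT.leaf (nat_lit 40107013)) (BT.leaf (nat_lit 40781593))) (BT.node (nat_lit 10195072) (BT.leaf (nat_lit 29186333)) (BT.leaf (nat_lit 48157729)))) (BT.node (nat_lit 10195264) (BT.node (nat_lit 10195200) (BT.leaf (nat_lit 41165345)) (BT.leaf (nat_lit 32702989))) (BT.node (nat_lit 10195328) (BT.leaf (nat_lit 48250885)) (BT.leaf (nat_lit 29186329))))) (BT.node (nat_lit 10195648) (BT.node (nat_lit 10195520) (BT.node (nat_lit 10195456) (BT.leaf (nat_lit 29251345)) (BT.leaf (nat_lit 29251089))) (BT.node (nat_lit 10195584) (BT.leaf (nat_lit 31406877)) (BT.leaf (nat_lit 43005201)))) (BT.node (nat_lit 10195776) (BT.node (nat_lit 10195712) (BT.leaf (nat_lit 39690769)) (BT.leaf (nat_lit 31493145))) (BT.node (nat_lit 10195840) (BT.leaf (nat_lit 43005701)) (BT.leaf (nat_lit 48044833)))))) (BT.node (nat_lit 10196352) (BT.node (nat_lit 10196096) (BT.node (nat_lit 10195968) (BT.node (nat_lit 10195904) (BT.leaf (nat_lit 760596)) (BT.leaf (nat_lit 47325465))) (BT.node (nat_lit 10196032) (BT.leaf (nat_lit 29941013)) (BT.leaf (nat_lit 29941017)))) (BT.node (nat_lit 10196224) (BT.node (nat_lit 10196160) (BT.leaf (nat_lit 29941021)) (BT.leaf (nat_lit 44125981))) (BT.node (nat_lit 10196288) (BT.leaf (nat_lit 31713041)) (BT.leaf (nat_lit 34338053))))) (BT.node (nat_lit 10196608) (BT.node (nat_lit 10196480) (BT.node (nat_lit 10196416) (BT.leaf (nat_lit 38948881)) (BT.leaf (nat_lit 31407365))) (BT.node (nat_lit 10196544) (BT.leaf (nat_lit 49497377)) (BT.leaf (nat_lit 30534169)))) (BT.node (nat_lit 10196736) (BT.node (nat_lit 10196672) (BT.leaf (nat_lit 30534173)) (BT.leaf (nat_lit 40781853))) (BT.node (nat_lit 10196737) (BT.leaf (nat_lit 49496849)) (BT.leaf (nat_lit 760604))))))) (BT.node (nat_lit 10197824) (BT.node (nat_lit 10197312) (BT.node (nat_lit 10197056) (BT.node (nat_lit 10196928) (BT.node (nat_lit 10196864) (BT.leaf (nat_lit 30152985)) (BT.leaf (nat_lit 45350421))) (BT.node (nat_lit 10196992) (BT.leaf (nat_lit 40769313)) (BT.leaf (nat_lit 48327189)))) (BT.node (nat_lit 10197184) (BT.node (nat_lit 10197120) (BT.leaf (nat_lit 40746501)) (BT.leaf (nat_lit 32066837))) (BT.node (nat_lit 10197248) (BT.leaf (nat_lit 37922309)) (BT.leaf (nat_lit 31224069))))) (BT.node (nat_lit 10197568) (BT.node (nat_lit 10197440) (BT.node (nat_lit 10197376) (BT.leaf (nat_lit 29521925)) (BT.leaf (nat_lit 40747269))) (BT.node (nat_lit 10197504) (BT.leaf (nat_lit 47510293)) (BT.leaf (nat_lit 30861585)))) (BT.node (nat_lit 10197696) (BT.node (nat_lit 10197632) (BT.leaf (nat_lit 32364057)) (BT.leaf (nat_lit 27607825))) (BT.node (nat_lit 10197760) (BT.leaf (nat_lit 49440529)) (BT.leaf (nat_lit 32066073)))))) (BT.node (nat_lit 10198336) (BT.node (nat_lit 10198080) (BT.node (nat_lit 10197952) (BT.node (nat_lit 10197888) (BT.leaf (nat_lit 29521941)) (BT.leaf (nat_lit 48326405))) (BT.node (nat_lit 10198016) (BT.leaf (nat_lit 29521949)) (BT.leaf (nat_lit 42095137)))) (BT.node (nat_lit 10198208) (BT.node (nat_lit 10198146) (BT.leaf (nat_lit 34836501)) (BT.leaf (nat_lit 755044))) (BT.node (nat_lit 10198272) (BT.leaf (nat_lit 40793117)) (BT.leaf (nat_lit 34835733))))) (BT.node (nat_lit 10198592) (BT.node (nat_lit 10198464) (BT.node (nat_lit 10198400) (BT.leaf (nat_lit 30860321)) (BT.leaf (nat_lit 43355921))) (BT.node (nat_lit 10198528) (BT.leaf (nat_lit 37922329)) (BT.leaf (nat_lit 37922333)))) (BT.node (nat_lit 10198720) (BT.node (nat_lit 10198656) (BT.leaf (nat_lit 29189385)) (BT.leaf (nat_lit 38971149))) (BT.node (nat_lit 10198784) (BT.leaf (nat_lit 29091605)) (BT.leaf (nat_lit 38969633)))))))) (BT.node (nat_lit 10200768) (BT.node (nat_lit 10199872) (BT.node (nat_lit 10199360) (BT.node (nat_lit 10199104) (BT.node (nat_lit 10198976) (BT.node (nat_lit 10198912) (BT.leaf (nat_lit 29189389)) (BT.leaf (nat_lit 31910677))) (BT.node (nat_lit 10199040) (BT.leaf (nat_lit 38306581)) (BT.leaf (nat_lit 34228757)))) (BT.node (nat_lit 10199232) (BT.node (nat_lit 10199168) (BT.leaf (nat_lit 30866209)) (BT.leaf (nat_lit 29205025))) (BT.node (nat_lit 10199296) (BT.leaf (nat_lit 29175057)) (BT.leaf (nat_lit 40601113))))) (BT.node (nat_lit 10199616) (BT.node (nat_lit 10199488) (BT.node (nat_lit 10199424) (BT.leaf (nat_lit 40601117)) (BT.leaf (nat_lit 29205265))) (BT.node (nat_lit 10199552) (BT.leaf (nat_lit 38253581)) (BT.leaf (nat_lit 42883849)))) (BT.node (nat_lit 10199744) (BT.node (nat_lit 10199680) (BT.leaf (nat_lit 32579349)) (BT.leaf (nat_lit 38253585))) (BT.node (nat_lit 10199808) (BT.leaf (nat_lit 30356001)) (BT.leaf (nat_lit 39300893)))))) (BT.node (nat_lit 10200256) (BT.node (nat_lit 10200064) (BT.node (nat_lit 10200000) (BT.node (nat_lit 10199936) (BT.leaf (nat_lit 39657233)) (BT.leaf (nat_lit 50736917))) (BT.node (nat_lit 10200005) (BT.leaf (nat_lit 46275861)) (BT.leaf (nat_lit 639552)))) (BT.node (nat_lit 10200128) (BT.node (nat_lit 10200072) (BT.leaf (nat_lit 40807197)) (BT.leaf (nat_lit 791528))) (BT.node (nat_lit 10200192) (BT.leaf (nat_lit 40760353)) (BT.leaf (nat_lit 29209109))))) (BT.node (nat_lit 10200512) (BT.node (nat_lit 10200384) (BT.node (nat_lit 10200320) (BT.leaf (nat_lit 37893653)) (BT.leaf (nat_lit 38191365))) (BT.node (nat_lit 10200448) (BT.leaf (nat_lit 29207065)) (BT.leaf (nat_lit 38191377)))) (BT.node (nat_lit 10200640) (BT.node (nat_lit 10200576) (BT.leaf (nat_lit 49153057)) (BT.leaf (nat_lit 29207069))) (BT.node (nat_lit 10200704) (BT.leaf (nat_lit 46277141)) (BT.leaf (nat_lit 30855201))))))) (BT.node (nat_lit 10201600) (BT.node (nat_lit 10201154) (BT.node (nat_lit 10201024) (BT.node (nat_lit 10200896) (BT.node (nat_lit 10200832) (BT.leaf (nat_lit 30856725)) (BT.leaf (nat_lit 39830297))) (BT.node (nat_lit 10200960) (BT.leaf (nat_lit 39830561)) (BT.leaf (nat_lit 29207321)))) (BT.node (nat_lit 10201088) (BT.node (nat_lit 10201025) (BT.leaf (nat_lit 42107937)) (BT.leaf (nat_lit 656548))) (BT.node (nat_lit 10201152) (BT.leaf (nat_lit 32811525)) (BT.leaf (nat_lit 40801305))))) (BT.node (nat_lit 10201344) (BT.node (nat_lit 10201216) (BT.node (nat_lit 10201157) (BT.leaf (nat_lit 813668)) (BT.leaf (nat_lit 682052))) (BT.node (nat_lit 10201280) (BT.leaf (nat_lit 29207325)) (BT.leaf (nat_lit 38381329)))) (BT.node (nat_lit 10201472) (BT.node (nat_lit 10201408) (BT.leaf (nat_lit 49550365)) (BT.leaf (nat_lit 29209361))) (BT.node (nat_lit 10201536) (BT.leaf (nat_lit 49280017)) (BT.leaf (nat_lit 30400781)))))) (BT.node (nat_lit 10202176) (BT.node (nat_lit 10201856) (BT.node (nat_lit 10201728) (BT.node (nat_lit 10201664) (BT.leaf (nat_lit 29208085)) (BT.leaf (nat_lit 34544145))) (BT.node (nat_lit 10201792) (BT.leaf (nat_lit 47681313)) (BT.leaf (nat_lit 47813653)))) (BT.node (nat_lit 10201984) (BT.node (nat_lit 10201920) (BT.leaf (nat_lit 38010137)) (BT.leaf (nat_lit 38741021))) (BT.node (nat_lit 10202112) (BT.leaf (nat_lit 42989853)) (BT.leaf (nat_lit 30401309))))) (BT.node (nat_lit 10202432) (BT.node (nat_lit 10202304) (BT.node (nat_lit 10202240) (BT.leaf (nat_lit 42992929)) (BT.leaf (nat_lit 48330273))) (BT.node (nat_lit 10202368) (BT.leaf (nat_lit 29207557)) (BT.leaf (nat_lit 29207813)))) (BT.node (nat_lit 10202560) (BT.node (nat_lit 10202496) (BT.leaf (nat_lit 29207569)) (BT.leaf (nat_lit 30212373))) (BT.node (nat_lit 10202688) (BT.leaf (nat_lit 45175073)) (BT.leaf (nat_lit 29206801))))))))) (BT.node (nat_lit 10206405) (BT.node (nat_lit 10204800) (BT.node (nat_lit 10203776) (BT.node (nat_lit 10203264) (BT.node (nat_lit 10203008) (BT.node (nat_lit 10202880) (BT.node (nat_lit 10202816) (BT.leaf (nat_lit 29208081)) (BT.leaf (nat_lit 29394709))) (BT.node (nat_lit 10202944) (BT.leaf (nat_lit 29394713)) (BT.leaf (nat_lit 29394717)))) (BT.node (nat_lit 10203136) (BT.node (nat_lit 10203072) (BT.leaf (nat_lit 33714717)) (BT.leaf (nat_lit 36113925))) (BT.node (nat_lit 10203200) (BT.leaf (nat_lit 27765017)) (BT.leaf (nat_lit 31269909))))) (BT.node (nat_lit 10203520) (BT.node (nat_lit 10203392) (BT.node (nat_lit 10203328) (BT.leaf (nat_lit 29214749)) (BT.leaf (nat_lit 29209885))) (BT.node (nat_lit 10203456) (BT.leaf (nat_lit 31646725)) (BT.leaf (nat_lit 29028881)))) (BT.node (nat_lit 10203648) (BT.node (nat_lit 10203584) (BT.leaf (nat_lit 31646741)) (BT.leaf (nat_lit 33678617))) (BT.node (nat_lit 10203712) (BT.leaf (nat_lit 29361677)) (BT.leaf (nat_lit 34710033)))))) (BT.node (nat_lit 10204288) (BT.node (nat_lit 10204032) (BT.node (nat_lit 10203904) (BT.node (nat_lit 10203840) (BT.leaf (nat_lit 31345429)) (BT.leaf (nat_lit 33678605))) (BT.node (nat_lit 10203968) (BT.leaf (nat_lit 34710049)) (BT.leaf (nat_lit 47526945)))) (BT.node (nat_lit 10204160) (BT.node (nat_lit 10204096) (BT.leaf (nat_lit 37019653)) (BT.leaf (nat_lit 30351645))) (BT.node (nat_lit 10204224) (BT.leaf (nat_lit 29220885)) (BT.leaf (nat_lit 40817165))))) (BT.node (nat_lit 10204544) (BT.node (nat_lit 10204416) (BT.node (nat_lit 10204352) (BT.leaf (nat_lit 33681429)) (BT.leaf (nat_lit 40820237))) (BT.node (nat_lit 10204480) (BT.leaf (nat_lit 50154773)) (BT.leaf (nat_lit 36784913)))) (BT.node (nat_lit 10204672) (BT.node (nat_lit 10204608) (BT.leaf (nat_lit 29220625)) (BT.leaf (nat_lit 29221137))) (BT.node (nat_lit 10204736) (BT.leaf (nat_lit 28416801)) (BT.leaf (nat_lit 38929433))))))) (BT.node (nat_lit 10205696) (BT.node (nat_lit 10205184) (BT.node (nat_lit 10204994) (BT.node (nat_lit 10204928) (BT.node (nat_lit 10204864) (BT.leaf (nat_lit 29221649)) (BT.leaf (nat_lit 29222165))) (BT.node (nat_lit 10204992) (BT.leaf (nat_lit 40817181)) (BT.leaf (nat_lit 40901657)))) (BT.node (nat_lit 10205056) (BT.node (nat_lit 10204995) (BT.leaf (nat_lit 691128)) (BT.leaf (nat_lit 691128))) (BT.node (nat_lit 10205120) (BT.leaf (nat_lit 33681941)) (BT.leaf (nat_lit 31496225))))) (BT.node (nat_lit 10205440) (BT.node (nat_lit 10205312) (BT.node (nat_lit 10205248) (BT.leaf (nat_lit 29570829)) (BT.leaf (nat_lit 33682709))) (BT.node (nat_lit 10205376) (BT.leaf (nat_lit 41308449)) (BT.leaf (nat_lit 44206349)))) (BT.node (nat_lit 10205568) (BT.node (nat_lit 10205504) (BT.leaf (nat_lit 37958161)) (BT.leaf (nat_lit 52094229))) (BT.node (nat_lit 10205632) (BT.leaf (nat_lit 29238293)) (BT.leaf (nat_lit 29238021)))))) (BT.node (nat_lit 10206144) (BT.node (nat_lit 10205888) (BT.node (nat_lit 10205763) (BT.node (nat_lit 10205760) (BT.leaf (nat_lit 30646797)) (BT.leaf (nat_lit 38553889))) (BT.node (nat_lit 10205824) (BT.leaf (nat_lit 672220)) (BT.leaf (nat_lit 34625557)))) (BT.node (nat_lit 10206016) (BT.node (nat_lit 10205952) (BT.leaf (nat_lit 43381793)) (BT.leaf (nat_lit 39814173))) (BT.node (nat_lit 10206080) (BT.leaf (nat_lit 48886037)) (BT.leaf (nat_lit 40706081))))) (BT.node (nat_lit 10206338) (BT.node (nat_lit 10206272) (BT.node (nat_lit 10206208) (BT.leaf (nat_lit 32739337)) (BT.leaf (nat_lit 32499729))) (BT.node (nat_lit 10206336) (BT.leaf (nat_lit 33901837)) (BT.leaf (nat_lit 30596641)))) (BT.node (nat_lit 10206400) (BT.node (nat_lit 10206341) (BT.leaf (nat_lit 711744)) (BT.leaf (nat_lit 711744))) (BT.node (nat_lit 10206402) (BT.leaf (nat_lit 29225505)) (BT.leaf (nat_lit 711900)))))))) (BT.node (nat_lit 10208320) (BT.node (nat_lit 10207360) (BT.node (nat_lit 10206912) (BT.node (nat_lit 10206656) (BT.node (nat_lit 10206528) (BT.node (nat_lit 10206464) (BT.leaf (nat_lit 711900)) (BT.leaf (nat_lit 33901853))) (BT.node (nat_lit 10206592) (BT.leaf (nat_lit 29142805)) (BT.leaf (nat_lit 44488721)))) (BT.node (nat_lit 10206784) (BT.node (nat_lit 10206720) (BT.leaf (nat_lit 37725709)) (BT.leaf (nat_lit 29554209))) (BT.node (nat_lit 10206848) (BT.leaf (nat_lit 39653893)) (BT.leaf (nat_lit 39654177))))) (BT.node (nat_lit 10207168) (BT.node (nat_lit 10207040) (BT.node (nat_lit 10206976) (BT.leaf (nat_lit 43038981)) (BT.leaf (nat_lit 42350341))) (BT.node (nat_lit 10207104) (BT.leaf (nat_lit 31386649)) (BT.leaf (nat_lit 50773781)))) (BT.node (nat_lit 10207232) (BT.node (nat_lit 10207173) (BT.leaf (nat_lit 29228817)) (BT.leaf (nat_lit 686324))) (BT.node (nat_lit 10207296) (BT.leaf (nat_lit 40829213)) (BT.leaf (nat_lit 38152213)))))) (BT.node (nat_lit 10207872) (BT.node (nat_lit 10207616) (BT.node (nat_lit 10207488) (BT.node (nat_lit 10207424) (BT.leaf (nat_lit 39037217)) (BT.leaf (nat_lit 40829981))) (BT.node (nat_lit 10207552) (BT.leaf (nat_lit 41846549)) (BT.leaf (nat_lit 49448965)))) (BT.node (nat_lit 10207744) (BT.node (nat_lit 10207680) (BT.leaf (nat_lit 42697501)) (BT.leaf (nat_lit 30676497))) (BT.node (nat_lit 10207808) (BT.leaf (nat_lit 30816025)) (BT.leaf (nat_lit 38044949))))) (BT.node (nat_lit 10208069) (BT.node (nat_lit 10208000) (BT.node (nat_lit 10207936) (BT.leaf (nat_lit 41157133)) (BT.leaf (nat_lit 47456533))) (BT.node (nat_lit 10208064) (BT.leaf (nat_lit 46142753)) (BT.leaf (nat_lit 44311569)))) (BT.node (nat_lit 10208192) (BT.node (nat_lit 10208128) (BT.leaf (nat_lit 763560)) (BT.leaf (nat_lit 48795397))) (BT.node (nat_lit 10208256) (BT.leaf (nat_lit 48795413)) (BT.leaf (nat_lit 29959193))))))) (BT.node (nat_lit 10209344) (BT.node (nat_lit 10208832) (BT.node (nat_lit 10208576) (BT.node (nat_lit 10208448) (BT.node (nat_lit 10208384) (BT.leaf (nat_lit 29959197)) (BT.leaf (nat_lit 31890705))) (BT.node (nat_lit 10208512) (BT.leaf (nat_lit 41430789)) (BT.leaf (nat_lit 30816789)))) (BT.node (nat_lit 10208704) (BT.node (nat_lit 10208640) (BT.leaf (nat_lit 41951265)) (BT.leaf (nat_lit 30817033))) (BT.node (nat_lit 10208768) (BT.leaf (nat_lit 41951237)) (BT.leaf (nat_lit 29155601))))) (BT.node (nat_lit 10209088) (BT.node (nat_lit 10208960) (BT.node (nat_lit 10208896) (BT.leaf (nat_lit 29231633)) (BT.leaf (nat_lit 31696161))) (BT.node (nat_lit 10209024) (BT.leaf (nat_lit 29155617)) (BT.leaf (nat_lit 41430793)))) (BT.node (nat_lit 10209216) (BT.node (nat_lit 10209152) (BT.leaf (nat_lit 49425157)) (BT.leaf (nat_lit 41430041))) (BT.node (nat_lit 10209280) (BT.leaf (nat_lit 43034885)) (BT.leaf (nat_lit 40685341)))))) (BT.node (nat_lit 10209797) (BT.node (nat_lit 10209600) (BT.node (nat_lit 10209472) (BT.node (nat_lit 10209408) (BT.leaf (nat_lit 29553685)) (BT.leaf (nat_lit 41832709))) (BT.node (nat_lit 10209536) (BT.leaf (nat_lit 39654405)) (BT.leaf (nat_lit 32075781)))) (BT.node (nat_lit 10209728) (BT.node (nat_lit 10209664) (BT.leaf (nat_lit 39654149)) (BT.leaf (nat_lit 31873285))) (BT.node (nat_lit 10209792) (BT.leaf (nat_lit 41330181)) (BT.leaf (nat_lit 44196365))))) (BT.node (nat_lit 10210048) (BT.node (nat_lit 10209920) (BT.node (nat_lit 10209856) (BT.leaf (nat_lit 653096)) (BT.leaf (nat_lit 29233949))) (BT.node (nat_lit 10209984) (BT.leaf (nat_lit 29235485)) (BT.leaf (nat_lit 29235741)))) (BT.node (nat_lit 10210176) (BT.node (nat_lit 10210112) (BT.leaf (nat_lit 30594321)) (BT.leaf (nat_lit 50112541))) (BT.node (nat_lit 10210240) (BT.leaf (nat_lit 51072005)) (BT.leaf (nat_lit 29237009)))))))))) (BT.node (nat_lit 10217856) (BT.node (nat_lit 10214336) (BT.node (nat_lit 10212288) (BT.node (nat_lit 10211200) (BT.node (nat_lit 10210752) (BT.node (nat_lit 10210496) (BT.node (nat_lit 10210376) (BT.node (nat_lit 10210368) (BT.leaf (nat_lit 34212885)) (BT.leaf (nat_lit 47619081))) (BT.node (nat_lit 10210432) (BT.leaf (nat_lit 788576)) (BT.leaf (nat_lit 39571485)))) (BT.node (nat_lit 10210624) (BT.node (nat_lit 10210560) (BT.leaf (nat_lit 29234449)) (BT.leaf (nat_lit 41551365))) (BT.node (nat_lit 10210688) (BT.leaf (nat_lit 41551377)) (BT.leaf (nat_lit 39873297))))) (BT.node (nat_lit 10211008) (BT.node (nat_lit 10210880) (BT.node (nat_lit 10210816) (BT.leaf (nat_lit 38261013)) (BT.leaf (nat_lit 38261017))) (BT.node (nat_lit 10210944) (BT.leaf (nat_lit 38261021)) (BT.leaf (nat_lit 41928465)))) (BT.node (nat_lit 10211072) (BT.node (nat_lit 10211009) (BT.leaf (nat_lit 41928481)) (BT.leaf (nat_lit 772104))) (BT.node (nat_lit 10211136) (BT.leaf (nat_lit 45988869)) (BT.leaf (nat_lit 43390241)))))) (BT.node (nat_lit 10211776) (BT.node (nat_lit 10211520) (BT.node (nat_lit 10211392) (BT.node (nat_lit 10211264) (BT.leaf (nat_lit 29238301)) (BT.leaf (nat_lit 45988101))) (BT.node (nat_lit 10211456) (BT.leaf (nat_lit 29238297)) (BT.leaf (nat_lit 33692697)))) (BT.node (nat_lit 10211648) (BT.node (nat_lit 10211584) (BT.leaf (nat_lit 29238809)) (BT.leaf (nat_lit 29239065))) (BT.node (nat_lit 10211712) (BT.leaf (nat_lit 39028497)) (BT.leaf (nat_lit 48492301))))) (BT.node (nat_lit 10212032) (BT.node (nat_lit 10211904) (BT.node (nat_lit 10211840) (BT.leaf (nat_lit 29238813)) (BT.leaf (nat_lit 29239069))) (BT.node (nat_lit 10211968) (BT.leaf (nat_lit 32304657)) (BT.leaf (nat_lit 32304661)))) (BT.node (nat_lit 10212160) (BT.node (nat_lit 10212096) (BT.leaf (nat_lit 29239565)) (BT.leaf (nat_lit 49248017))) (BT.node (nat_lit 10212224) (BT.leaf (nat_lit 47766549)) (BT.leaf (nat_lit 49248025))))))) (BT.node (nat_lit 10213312) (BT.node (nat_lit 10212800) (BT.node (nat_lit 10212544) (BT.node (nat_lit 10212416) (BT.node (nat_lit 10212352) (BT.leaf (nat_lit 37443869)) (BT.leaf (nat_lit 47353885))) (BT.node (nat_lit 10212480) (BT.leaf (nat_lit 34300185)) (BT.leaf (nat_lit 34346009)))) (BT.node (nat_lit 10212672) (BT.node (nat_lit 10212608) (BT.leaf (nat_lit 29795089)) (BT.leaf (nat_lit 29795093))) (BT.node (nat_lit 10212736) (BT.leaf (nat_lit 29238557)) (BT.leaf (nat_lit 29240849))))) (BT.node (nat_lit 10213056) (BT.node (nat_lit 10212928) (BT.node (nat_lit 10212864) (BT.leaf (nat_lit 29240593)) (BT.leaf (nat_lit 37788437))) (BT.node (nat_lit 10212992) (BT.leaf (nat_lit 37788441)) (BT.leaf (nat_lit 37788445)))) (BT.node (nat_lit 10213184) (BT.node (nat_lit 10213120) (BT.leaf (nat_lit 29241617)) (BT.leaf (nat_lit 29241361))) (BT.node (nat_lit 10213248) (BT.leaf (nat_lit 32302873)) (BT.leaf (nat_lit 31371801)))))) (BT.node (nat_lit 10213824) (BT.node (nat_lit 10213568) (BT.node (nat_lit 10213440) (BT.node (nat_lit 10213376) (BT.leaf (nat_lit 31371805)) (BT.leaf (nat_lit 29157149))) (BT.node (nat_lit 10213504) (BT.leaf (nat_lit 29157129)) (BT.leaf (nat_lit 40853785)))) (BT.node (nat_lit 10213696) (BT.node (nat_lit 10213632) (BT.leaf (nat_lit 39517729)) (BT.leaf (nat_lit 50812705))) (BT.node (nat_lit 10213760) (BT.leaf (nat_lit 29242141)) (BT.leaf (nat_lit 48494617))))) (BT.node (nat_lit 10214080) (BT.node (nat_lit 10213952) (BT.node (nat_lit 10213888) (BT.leaf (nat_lit 29243161)) (BT.leaf (nat_lit 29243921))) (BT.node (nat_lit 10214016) (BT.leaf (nat_lit 38848789)) (BT.leaf (nat_lit 38676485)))) (BT.node (nat_lit 10214208) (BT.node (nat_lit 10214144) (BT.leaf (nat_lit 38848797)) (BT.leaf (nat_lit 29243409))) (BT.node (nat_lit 10214272) (BT.leaf (nat_lit 30639133)) (BT.leaf (nat_lit 29602321)))))))) (BT.node (nat_lit 10215936) (BT.node (nat_lit 10215360) (BT.node (nat_lit 10214848) (BT.node (nat_lit 10214592) (BT.node (nat_lit 10214464) (BT.node (nat_lit 10214400) (BT.leaf (nat_lit 50465825)) (BT.leaf (nat_lit 40612373))) (BT.node (nat_lit 10214528) (BT.leaf (nat_lit 29245217)) (BT.leaf (nat_lit 31590945)))) (BT.node (nat_lit 10214720) (BT.node (nat_lit 10214656) (BT.leaf (nat_lit 43041569)) (BT.leaf (nat_lit 47298585))) (BT.node (nat_lit 10214784) (BT.leaf (nat_lit 43983113)) (BT.leaf (nat_lit 29256725))))) (BT.node (nat_lit 10215104) (BT.node (nat_lit 10214976) (BT.node (nat_lit 10214912) (BT.leaf (nat_lit 47298573)) (BT.leaf (nat_lit 43989261))) (BT.node (nat_lit 10215040) (BT.leaf (nat_lit 29246749)) (BT.leaf (nat_lit 41334297)))) (BT.node (nat_lit 10215232) (BT.node (nat_lit 10215168) (BT.leaf (nat_lit 30985749)) (BT.leaf (nat_lit 49030661))) (BT.node (nat_lit 10215296) (BT.leaf (nat_lit 40601869)) (BT.leaf (nat_lit 49031449)))))) (BT.node (nat_lit 10215552) (BT.node (nat_lit 10215426) (BT.node (nat_lit 10215363) (BT.node (nat_lit 10215362) (BT.leaf (nat_lit 30575125)) (BT.leaf (nat_lit 676716))) (BT.node (nat_lit 10215424) (BT.leaf (nat_lit 812372)) (BT.leaf (nat_lit 46653729)))) (BT.node (nat_lit 10215429) (BT.node (nat_lit 10215427) (BT.leaf (nat_lit 710164)) (BT.leaf (nat_lit 710164))) (BT.node (nat_lit 10215488) (BT.leaf (nat_lit 710164)) (BT.leaf (nat_lit 29247769))))) (BT.node (nat_lit 10215683) (BT.node (nat_lit 10215680) (BT.node (nat_lit 10215616) (BT.leaf (nat_lit 29248025)) (BT.leaf (nat_lit 42141453))) (BT.node (nat_lit 10215682) (BT.leaf (nat_lit 42936093)) (BT.leaf (nat_lit 670872)))) (BT.node (nat_lit 10215808) (BT.node (nat_lit 10215744) (BT.leaf (nat_lit 670872)) (BT.leaf (nat_lit 42979105))) (BT.node (nat_lit 10215872) (BT.leaf (nat_lit 43040801)) (BT.leaf (nat_lit 41166613))))))) (BT.node (nat_lit 10216832) (BT.node (nat_lit 10216323) (BT.node (nat_lit 10216192) (BT.node (nat_lit 10216064) (BT.node (nat_lit 10216000) (BT.leaf (nat_lit 30893061)) (BT.leaf (nat_lit 41617677))) (BT.node (nat_lit 10216128) (BT.leaf (nat_lit 32954913)) (BT.leaf (nat_lit 29993229)))) (BT.node (nat_lit 10216320) (BT.node (nat_lit 10216256) (BT.leaf (nat_lit 29249825)) (BT.leaf (nat_lit 29187605))) (BT.node (nat_lit 10216322) (BT.leaf (nat_lit 32095009)) (BT.leaf (nat_lit 658920))))) (BT.node (nat_lit 10216576) (BT.node (nat_lit 10216448) (BT.node (nat_lit 10216384) (BT.leaf (nat_lit 658920)) (BT.leaf (nat_lit 47260181))) (BT.node (nat_lit 10216512) (BT.leaf (nat_lit 47307545)) (BT.leaf (nat_lit 40865801)))) (BT.node (nat_lit 10216704) (BT.node (nat_lit 10216640) (BT.leaf (nat_lit 33703957)) (BT.leaf (nat_lit 40866845))) (BT.node (nat_lit 10216768) (BT.leaf (nat_lit 47307533)) (BT.leaf (nat_lit 39686673)))))) (BT.node (nat_lit 10217344) (BT.node (nat_lit 10217088) (BT.node (nat_lit 10216960) (BT.node (nat_lit 10216896) (BT.leaf (nat_lit 39484945)) (BT.leaf (nat_lit 41270793))) (BT.node (nat_lit 10217024) (BT.leaf (nat_lit 38125585)) (BT.leaf (nat_lit 40858117)))) (BT.node (nat_lit 10217216) (BT.node (nat_lit 10217152) (BT.leaf (nat_lit 50888209)) (BT.leaf (nat_lit 31590433))) (BT.node (nat_lit 10217280) (BT.leaf (nat_lit 47945493)) (BT.leaf (nat_lit 36263969))))) (BT.node (nat_lit 10217600) (BT.node (nat_lit 10217472) (BT.node (nat_lit 10217408) (BT.leaf (nat_lit 32259093)) (BT.leaf (nat_lit 43230229))) (BT.node (nat_lit 10217536) (BT.leaf (nat_lit 43230233)) (BT.leaf (nat_lit 43293709)))) (BT.node (nat_lit 10217728) (BT.node (nat_lit 10217664) (BT.leaf (nat_lit 48325893)) (BT.leaf (nat_lit 40741893))) (BT.node (nat_lit 10217792) (BT.leaf (nat_lit 40741909)) (BT.leaf (nat_lit 40741913))))))))) (BT.node (nat_lit 10221825) (BT.node (nat_lit 10219845) (BT.node (nat_lit 10218880) (BT.node (nat_lit 10218368) (BT.node (nat_lit 10218112) (BT.node (nat_lit 10217984) (BT.node (nat_lit 10217920) (BT.leaf (nat_lit 40741917)) (BT.leaf (nat_lit 45792777))) (BT.node (nat_lit 10218048) (BT.leaf (nat_lit 38125317)) (BT.leaf (nat_lit 38125333)))) (BT.node (nat_lit 10218240) (BT.node (nat_lit 10218176) (BT.leaf (nat_lit 45531925)) (BT.leaf (nat_lit 32147205))) (BT.node (nat_lit 10218304) (BT.leaf (nat_lit 32147209)) (BT.leaf (nat_lit 29252629))))) (BT.node (nat_lit 10218624) (BT.node (nat_lit 10218496) (BT.node (nat_lit 10218432) (BT.leaf (nat_lit 32147229)) (BT.leaf (nat_lit 28984853))) (BT.node (nat_lit 10218560) (BT.leaf (nat_lit 29252881)) (BT.leaf (nat_lit 32157985)))) (BT.node (nat_lit 10218752) (BT.node (nat_lit 10218688) (BT.leaf (nat_lit 49213717)) (BT.leaf (nat_lit 29255445))) (BT.node (nat_lit 10218816) (BT.leaf (nat_lit 40878085)) (BT.leaf (nat_lit 47357729)))))) (BT.node (nat_lit 10219456) (BT.node (nat_lit 10219136) (BT.node (nat_lit 10219008) (BT.node (nat_lit 10218944) (BT.leaf (nat_lit 42156809)) (BT.leaf (nat_lit 29182729))) (BT.node (nat_lit 10219072) (BT.leaf (nat_lit 43057941)) (BT.leaf (nat_lit 37921297)))) (BT.node (nat_lit 10219264) (BT.node (nat_lit 10219200) (BT.leaf (nat_lit 29181965)) (BT.leaf (nat_lit 47310605))) (BT.node (nat_lit 10219328) (BT.leaf (nat_lit 49552133)) (BT.leaf (nat_lit 31601425))))) (BT.node (nat_lit 10219712) (BT.node (nat_lit 10219584) (BT.node (nat_lit 10219520) (BT.leaf (nat_lit 49356833)) (BT.leaf (nat_lit 42275089))) (BT.node (nat_lit 10219648) (BT.leaf (nat_lit 37863189)) (BT.leaf (nat_lit 42412313)))) (BT.node (nat_lit 10219840) (BT.node (nat_lit 10219776) (BT.leaf (nat_lit 42412317)) (BT.leaf (nat_lit 43060253))) (BT.node (nat_lit 10219844) (BT.leaf (nat_lit 50556449)) (BT.leaf (nat_lit 755176))))))) (BT.node (nat_lit 10220864) (BT.node (nat_lit 10220352) (BT.node (nat_lit 10220096) (BT.node (nat_lit 10219968) (BT.node (nat_lit 10219904) (BT.leaf (nat_lit 755176)) (BT.leaf (nat_lit 30902033))) (BT.node (nat_lit 10220032) (BT.leaf (nat_lit 30902037)) (BT.leaf (nat_lit 34362133)))) (BT.node (nat_lit 10220224) (BT.node (nat_lit 10220160) (BT.leaf (nat_lit 29258773)) (BT.leaf (nat_lit 47335709))) (BT.node (nat_lit 10220288) (BT.leaf (nat_lit 29981713)) (BT.leaf (nat_lit 47335689))))) (BT.node (nat_lit 10220608) (BT.node (nat_lit 10220480) (BT.node (nat_lit 10220416) (BT.leaf (nat_lit 29258261)) (BT.leaf (nat_lit 47657225))) (BT.node (nat_lit 10220544) (BT.leaf (nat_lit 46971925)) (BT.leaf (nat_lit 47657241)))) (BT.node (nat_lit 10220736) (BT.node (nat_lit 10220672) (BT.leaf (nat_lit 47657245)) (BT.leaf (nat_lit 35217689))) (BT.node (nat_lit 10220800) (BT.leaf (nat_lit 46678041)) (BT.leaf (nat_lit 30456337)))))) (BT.node (nat_lit 10221376) (BT.node (nat_lit 10221120) (BT.node (nat_lit 10220992) (BT.node (nat_lit 10220928) (BT.leaf (nat_lit 50361625)) (BT.leaf (nat_lit 34245917))) (BT.node (nat_lit 10221056) (BT.leaf (nat_lit 29259805)) (BT.leaf (nat_lit 33714465)))) (BT.node (nat_lit 10221248) (BT.node (nat_lit 10221184) (BT.leaf (nat_lit 44511249)) (BT.leaf (nat_lit 49466905))) (BT.node (nat_lit 10221312) (BT.leaf (nat_lit 29209117)) (BT.leaf (nat_lit 30114845))))) (BT.node (nat_lit 10221632) (BT.node (nat_lit 10221504) (BT.node (nat_lit 10221440) (BT.leaf (nat_lit 35305221)) (BT.leaf (nat_lit 41444633))) (BT.node (nat_lit 10221568) (BT.leaf (nat_lit 29264401)) (BT.leaf (nat_lit 42513429)))) (BT.node (nat_lit 10221760) (BT.node (nat_lit 10221696) (BT.leaf (nat_lit 44233753)) (BT.leaf (nat_lit 38778897))) (BT.node (nat_lit 10221824) (BT.leaf (nat_lit 29265169)) (BT.leaf (nat_lit 30016785)))))))) (BT.node (nat_lit 10223744) (BT.node (nat_lit 10222848) (BT.node (nat_lit 10222336) (BT.node (nat_lit 10222080) (BT.node (nat_lit 10221952) (BT.node (nat_lit 10221888) (BT.leaf (nat_lit 746904)) (BT.leaf (nat_lit 29264913))) (BT.node (nat_lit 10222016) (BT.leaf (nat_lit 29264917)) (BT.leaf (nat_lit 29211161)))) (BT.node (nat_lit 10222208) (BT.node (nat_lit 10222144) (BT.leaf (nat_lit 32934161)) (BT.leaf (nat_lit 29211421))) (BT.node (nat_lit 10222272) (BT.leaf (nat_lit 47332637)) (BT.leaf (nat_lit 29265429))))) (BT.node (nat_lit 10222592) (BT.node (nat_lit 10222464) (BT.node (nat_lit 10222400) (BT.leaf (nat_lit 33678621)) (BT.leaf (nat_lit 48513313))) (BT.node (nat_lit 10222528) (BT.leaf (nat_lit 33678601)) (BT.leaf (nat_lit 49987349)))) (BT.node (nat_lit 10222720) (BT.node (nat_lit 10222656) (BT.leaf (nat_lit 32446213)) (BT.leaf (nat_lit 28402193))) (BT.node (nat_lit 10222784) (BT.leaf (nat_lit 41414669)) (BT.leaf (nat_lit 43909153)))))) (BT.node (nat_lit 10223296) (BT.node (nat_lit 10223040) (BT.node (nat_lit 10222976) (BT.node (nat_lit 10222912) (BT.leaf (nat_lit 43444513)) (BT.leaf (nat_lit 43910689))) (BT.node (nat_lit 10222981) (BT.leaf (nat_lit 46261017)) (BT.leaf (nat_lit 763580)))) (BT.node (nat_lit 10223168) (BT.node (nat_lit 10223104) (BT.leaf (nat_lit 38148625)) (BT.leaf (nat_lit 30802701))) (BT.node (nat_lit 10223232) (BT.leaf (nat_lit 47694341)) (BT.leaf (nat_lit 41427221))))) (BT.node (nat_lit 10223493) (BT.node (nat_lit 10223424) (BT.node (nat_lit 10223360) (BT.leaf (nat_lit 41427225)) (BT.leaf (nat_lit 31916553))) (BT.node (nat_lit 10223488) (BT.leaf (nat_lit 37498641)) (BT.leaf (nat_lit 34061081)))) (BT.node (nat_lit 10223616) (BT.node (nat_lit 10223552) (BT.leaf (nat_lit 766184)) (BT.leaf (nat_lit 34061085))) (BT.node (nat_lit 10223680) (BT.leaf (nat_lit 35726869)) (BT.leaf (nat_lit 27786513))))))) (BT.node (nat_lit 10224768) (BT.node (nat_lit 10224256) (BT.node (nat_lit 10224000) (BT.node (nat_lit 10223872) (BT.node (nat_lit 10223808) (BT.leaf (nat_lit 29656325)) (BT.leaf (nat_lit 38598661))) (BT.node (nat_lit 10223936) (BT.leaf (nat_lit 39012869)) (BT.leaf (nat_lit 39892741)))) (BT.node (nat_lit 10224128) (BT.node (nat_lit 10224064) (BT.leaf (nat_lit 40267781)) (BT.leaf (nat_lit 32738565))) (BT.node (nat_lit 10224192) (BT.leaf (nat_lit 35015177)) (BT.leaf (nat_lit 43930657))))) (BT.node (nat_lit 10224512) (BT.node (nat_lit 10224384) (BT.node (nat_lit 10224320) (BT.leaf (nat_lit 48262669)) (BT.leaf (nat_lit 40897549))) (BT.node (nat_lit 10224448) (BT.leaf (nat_lit 37500693)) (BT.leaf (nat_lit 39564561)))) (BT.node (nat_lit 10224640) (BT.node (nat_lit 10224576) (BT.leaf (nat_lit 39564577)) (BT.leaf (nat_lit 30749209))) (BT.node (nat_lit 10224704) (BT.leaf (nat_lit 45926917)) (BT.leaf (nat_lit 50016793)))))) (BT.node (nat_lit 10225280) (BT.node (nat_lit 10225024) (BT.node (nat_lit 10224896) (BT.node (nat_lit 10224832) (BT.leaf (nat_lit 49217545)) (BT.leaf (nat_lit 31998753))) (BT.node (nat_lit 10224960) (BT.leaf (nat_lit 40899853)) (BT.leaf (nat_lit 43535125)))) (BT.node (nat_lit 10225152) (BT.node (nat_lit 10225088) (BT.leaf (nat_lit 48460317)) (BT.leaf (nat_lit 30697989))) (BT.node (nat_lit 10225216) (BT.leaf (nat_lit 39511841)) (BT.leaf (nat_lit 39510037))))) (BT.node (nat_lit 10225536) (BT.node (nat_lit 10225408) (BT.node (nat_lit 10225344) (BT.leaf (nat_lit 37725705)) (BT.leaf (nat_lit 38476813))) (BT.node (nat_lit 10225472) (BT.leaf (nat_lit 30146325)) (BT.leaf (nat_lit 43652869)))) (BT.node (nat_lit 10225602) (BT.node (nat_lit 10225600) (BT.leaf (nat_lit 38475013)) (BT.leaf (nat_lit 32743941))) (BT.node (nat_lit 10225664) (BT.leaf (nat_lit 691104)) (BT.leaf (nat_lit 41671709))))))))))) (BT.node (nat_lit 10240384) (BT.node (nat_lit 10233472) (BT.node (nat_lit 10229440) (BT.node (nat_lit 10227648) (BT.node (nat_lit 10226752) (BT.node (nat_lit 10226240) (BT.node (nat_lit 10225984) (BT.node (nat_lit 10225856) (BT.node (nat_lit 10225792) (BT.leaf (nat_lit 49790745)) (BT.leaf (nat_lit 29843725))) (BT.node (nat_lit 10225920) (BT.leaf (nat_lit 29353221)) (BT.leaf (nat_lit 40903433)))) (BT.node (nat_lit 10226112) (BT.node (nat_lit 10226048) (BT.leaf (nat_lit 31718417)) (BT.leaf (nat_lit 31718425))) (BT.node (nat_lit 10226176) (BT.leaf (nat_lit 31718429)) (BT.leaf (nat_lit 28565277))))) (BT.node (nat_lit 10226496) (BT.node (nat_lit 10226368) (BT.node (nat_lit 10226304) (BT.leaf (nat_lit 31211541)) (BT.leaf (nat_lit 39535373))) (BT.node (nat_lit 10226432) (BT.leaf (nat_lit 29817369)) (BT.leaf (nat_lit 29817373)))) (BT.node (nat_lit 10226624) (BT.node (nat_lit 10226560) (BT.leaf (nat_lit 32748065)) (BT.leaf (nat_lit 29351185))) (BT.node (nat_lit 10226688) (BT.leaf (nat_lit 32479513)) (BT.leaf (nat_lit 32479517)))))) (BT.node (nat_lit 10227208) (BT.node (nat_lit 10227008) (BT.node (nat_lit 10226880) (BT.node (nat_lit 10226816) (BT.leaf (nat_lit 40465669)) (BT.leaf (nat_lit 29274385))) (BT.node (nat_lit 10226944) (BT.leaf (nat_lit 49059361)) (BT.leaf (nat_lit 47423521)))) (BT.node (nat_lit 10227136) (BT.node (nat_lit 10227072) (BT.leaf (nat_lit 48237061)) (BT.leaf (nat_lit 37706513))) (BT.node (nat_lit 10227200) (BT.leaf (nat_lit 39844873)) (BT.leaf (nat_lit 39844877))))) (BT.node (nat_lit 10227392) (BT.node (nat_lit 10227266) (BT.node (nat_lit 10227264) (BT.leaf (nat_lit 702532)) (BT.leaf (nat_lit 29438229))) (BT.node (nat_lit 10227328) (BT.leaf (nat_lit 741604)) (BT.leaf (nat_lit 29761809)))) (BT.node (nat_lit 10227520) (BT.node (nat_lit 10227456) (BT.leaf (nat_lit 40933905)) (BT.leaf (nat_lit 29432601))) (BT.node (nat_lit 10227584) (BT.leaf (nat_lit 29432605)) (BT.leaf (nat_lit 29766917))))))) (BT.node (nat_lit 10228480) (BT.node (nat_lit 10227972) (BT.node (nat_lit 10227845) (BT.node (nat_lit 10227776) (BT.node (nat_lit 10227712) (BT.leaf (nat_lit 30227989)) (BT.leaf (nat_lit 44750613))) (BT.node (nat_lit 10227840) (BT.leaf (nat_lit 29275409)) (BT.leaf (nat_lit 41509125)))) (BT.node (nat_lit 10227968) (BT.node (nat_lit 10227904) (BT.leaf (nat_lit 680272)) (BT.leaf (nat_lit 41053445))) (BT.node (nat_lit 10227970) (BT.leaf (nat_lit 32440597)) (BT.leaf (nat_lit 649756))))) (BT.node (nat_lit 10228224) (BT.node (nat_lit 10228096) (BT.node (nat_lit 10228032) (BT.leaf (nat_lit 649756)) (BT.leaf (nat_lit 39576845))) (BT.node (nat_lit 10228160) (BT.leaf (nat_lit 49056533)) (BT.leaf (nat_lit 46277657)))) (BT.node (nat_lit 10228352) (BT.node (nat_lit 10228288) (BT.leaf (nat_lit 40511749)) (BT.leaf (nat_lit 41882897))) (BT.node (nat_lit 10228416) (BT.leaf (nat_lit 40913693)) (BT.leaf (nat_lit 46277645)))))) (BT.node (nat_lit 10228928) (BT.node (nat_lit 10228672) (BT.node (nat_lit 10228547) (BT.node (nat_lit 10228544) (BT.leaf (nat_lit 42186261)) (BT.leaf (nat_lit 30731269))) (BT.node (nat_lit 10228608) (BT.leaf (nat_lit 770008)) (BT.leaf (nat_lit 40022289)))) (BT.node (nat_lit 10228800) (BT.node (nat_lit 10228736) (BT.leaf (nat_lit 38207237)) (BT.leaf (nat_lit 37746437))) (BT.node (nat_lit 10228864) (BT.leaf (nat_lit 29986585)) (BT.leaf (nat_lit 29986589))))) (BT.node (nat_lit 10229184) (BT.node (nat_lit 10229056) (BT.node (nat_lit 10228992) (BT.leaf (nat_lit 39663893)) (BT.leaf (nat_lit 40346649))) (BT.node (nat_lit 10229120) (BT.leaf (nat_lit 38312721)) (BT.leaf (nat_lit 51685393)))) (BT.node (nat_lit 10229312) (BT.node (nat_lit 10229248) (BT.leaf (nat_lit 32623393)) (BT.leaf (nat_lit 41055521))) (BT.node (nat_lit 10229376) (BT.leaf (nat_lit 47345681)) (BT.leaf (nat_lit 51870497)))))))) (BT.node (nat_lit 10231424) (BT.node (nat_lit 10230528) (BT.node (nat_lit 10230016) (BT.node (nat_lit 10229696) (BT.node (nat_lit 10229568) (BT.node (nat_lit 10229504) (BT.leaf (nat_lit 28549149)) (BT.leaf (nat_lit 47345685))) (BT.node (nat_lit 10229632) (BT.leaf (nat_lit 38967557)) (BT.leaf (nat_lit 29279505)))) (BT.node (nat_lit 10229824) (BT.node (nat_lit 10229760) (BT.leaf (nat_lit 28407569)) (BT.leaf (nat_lit 32138773))) (BT.node (nat_lit 10229952) (BT.leaf (nat_lit 29280025)) (BT.leaf (nat_lit 43251221))))) (BT.node (nat_lit 10230272) (BT.node (nat_lit 10230144) (BT.node (nat_lit 10230080) (BT.leaf (nat_lit 29280541)) (BT.leaf (nat_lit 29280029))) (BT.node (nat_lit 10230208) (BT.leaf (nat_lit 41909509)) (BT.leaf (nat_lit 38226181)))) (BT.node (nat_lit 10230400) (BT.node (nat_lit 10230336) (BT.leaf (nat_lit 38626065)) (BT.leaf (nat_lit 38626069))) (BT.node (nat_lit 10230464) (BT.leaf (nat_lit 29281041)) (BT.leaf (nat_lit 29280785)))))) (BT.node (nat_lit 10230912) (BT.node (nat_lit 10230784) (BT.node (nat_lit 10230656) (BT.node (nat_lit 10230592) (BT.leaf (nat_lit 29821701)) (BT.leaf (nat_lit 28591641))) (BT.node (nat_lit 10230720) (BT.leaf (nat_lit 35251981)) (BT.leaf (nat_lit 35251733)))) (BT.node (nat_lit 10230791) (BT.node (nat_lit 10230790) (BT.leaf (nat_lit 32319753)) (BT.leaf (nat_lit 660360))) (BT.node (nat_lit 10230848) (BT.leaf (nat_lit 660360)) (BT.leaf (nat_lit 32606229))))) (BT.node (nat_lit 10231168) (BT.node (nat_lit 10231040) (BT.node (nat_lit 10230976) (BT.leaf (nat_lit 52052769)) (BT.leaf (nat_lit 41600801))) (BT.node (nat_lit 10231104) (BT.leaf (nat_lit 41495321)) (BT.leaf (nat_lit 27591957)))) (BT.node (nat_lit 10231296) (BT.node (nat_lit 10231232) (BT.leaf (nat_lit 30765321)) (BT.leaf (nat_lit 43773445))) (BT.node (nat_lit 10231360) (BT.leaf (nat_lit 39156997)) (BT.leaf (nat_lit 39154713))))))) (BT.node (nat_lit 10232448) (BT.node (nat_lit 10231936) (BT.node (nat_lit 10231680) (BT.node (nat_lit 10231552) (BT.node (nat_lit 10231488) (BT.leaf (nat_lit 39761421)) (BT.leaf (nat_lit 48635157))) (BT.node (nat_lit 10231616) (BT.leaf (nat_lit 43220741)) (BT.leaf (nat_lit 39159829)))) (BT.node (nat_lit 10231808) (BT.node (nat_lit 10231744) (BT.leaf (nat_lit 29282321)) (BT.leaf (nat_lit 46200585))) (BT.node (nat_lit 10231872) (BT.leaf (nat_lit 49086989)) (BT.leaf (nat_lit 43214853))))) (BT.node (nat_lit 10232192) (BT.node (nat_lit 10232064) (BT.node (nat_lit 10232000) (BT.leaf (nat_lit 40173345)) (BT.leaf (nat_lit 43211269))) (BT.node (nat_lit 10232128) (BT.leaf (nat_lit 32314393)) (BT.leaf (nat_lit 29283341)))) (BT.node (nat_lit 10232320) (BT.node (nat_lit 10232256) (BT.leaf (nat_lit 48202005)) (BT.leaf (nat_lit 31938053))) (BT.node (nat_lit 10232384) (BT.leaf (nat_lit 49077509)) (BT.leaf (nat_lit 29647893)))))) (BT.node (nat_lit 10232960) (BT.node (nat_lit 10232704) (BT.node (nat_lit 10232576) (BT.node (nat_lit 10232512) (BT.leaf (nat_lit 41913621)) (BT.leaf (nat_lit 29405205))) (BT.node (nat_lit 10232640) (BT.leaf (nat_lit 31138821)) (BT.leaf (nat_lit 32960785)))) (BT.node (nat_lit 10232832) (BT.node (nat_lit 10232768) (BT.leaf (nat_lit 40045845)) (BT.leaf (nat_lit 40930841))) (BT.node (nat_lit 10232896) (BT.leaf (nat_lit 46979865)) (BT.leaf (nat_lit 40931337))))) (BT.node (nat_lit 10233216) (BT.node (nat_lit 10233088) (BT.node (nat_lit 10233024) (BT.leaf (nat_lit 41116689)) (BT.leaf (nat_lit 40932381))) (BT.node (nat_lit 10233152) (BT.leaf (nat_lit 46979853)) (BT.leaf (nat_lit 40514337)))) (BT.node (nat_lit 10233344) (BT.node (nat_lit 10233280) (BT.leaf (nat_lit 32010773)) (BT.leaf (nat_lit 49466897))) (BT.node (nat_lit 10233408) (BT.leaf (nat_lit 29286917)) (BT.leaf (nat_lit 47235333))))))))) (BT.node (nat_lit 10236800) (BT.node (nat_lit 10235072) (BT.node (nat_lit 10234112) (BT.node (nat_lit 10233664) (BT.node (nat_lit 10233543) (BT.node (nat_lit 10233539) (BT.node (nat_lit 10233536) (BT.leaf (nat_lit 40910365)) (BT.leaf (nat_lit 29287185))) (BT.node (nat_lit 10233542) (BT.leaf (nat_lit 672652)) (BT.leaf (nat_lit 672652)))) (BT.node (nat_lit 10233602) (BT.node (nat_lit 10233600) (BT.leaf (nat_lit 672652)) (BT.leaf (nat_lit 49053205))) (BT.node (nat_lit 10233603) (BT.leaf (nat_lit 754024)) (BT.leaf (nat_lit 754024))))) (BT.node (nat_lit 10233920) (BT.node (nat_lit 10233792) (BT.node (nat_lit 10233728) (BT.leaf (nat_lit 29287697)) (BT.leaf (nat_lit 38646277))) (BT.node (nat_lit 10233856) (BT.leaf (nat_lit 41147425)) (BT.leaf (nat_lit 28556817)))) (BT.node (nat_lit 10233986) (BT.node (nat_lit 10233984) (BT.leaf (nat_lit 27294481)) (BT.leaf (nat_lit 32729361))) (BT.node (nat_lit 10234048) (BT.leaf (nat_lit 775000)) (BT.leaf (nat_lit 32333845)))))) (BT.node (nat_lit 10234624) (BT.node (nat_lit 10234368) (BT.node (nat_lit 10234240) (BT.node (nat_lit 10234176) (BT.leaf (nat_lit 29288465)) (BT.leaf (nat_lit 30780193))) (BT.node (nat_lit 10234304) (BT.leaf (nat_lit 39012633)) (BT.leaf (nat_lit 29289489)))) (BT.node (nat_lit 10234496) (BT.node (nat_lit 10234432) (BT.leaf (nat_lit 41107745)) (BT.leaf (nat_lit 42359829))) (BT.node (nat_lit 10234560) (BT.leaf (nat_lit 42392609)) (BT.leaf (nat_lit 34832145))))) (BT.node (nat_lit 10234880) (BT.node (nat_lit 10234752) (BT.node (nat_lit 10234688) (BT.leaf (nat_lit 43070753)) (BT.leaf (nat_lit 34832149))) (BT.node (nat_lit 10234816) (BT.leaf (nat_lit 41944861)) (BT.leaf (nat_lit 39874593)))) (BT.node (nat_lit 10235008) (BT.node (nat_lit 10234944) (BT.leaf (nat_lit 39783705)) (BT.leaf (nat_lit 39783709))) (BT.node (nat_lit 10235013) (BT.leaf (nat_lit 40842253)) (BT.leaf (nat_lit 644044))))))) (BT.node (nat_lit 10235776) (BT.node (nat_lit 10235464) (BT.node (nat_lit 10235392) (BT.node (nat_lit 10235200) (BT.node (nat_lit 10235136) (BT.leaf (nat_lit 40894997)) (BT.leaf (nat_lit 41944845))) (BT.node (nat_lit 10235328) (BT.leaf (nat_lit 46745605)) (BT.leaf (nat_lit 39098373)))) (BT.node (nat_lit 10235459) (BT.node (nat_lit 10235456) (BT.leaf (nat_lit 44061709)) (BT.leaf (nat_lit 42110477))) (BT.node (nat_lit 10235461) (BT.leaf (nat_lit 683540)) (BT.leaf (nat_lit 683540))))) (BT.node (nat_lit 10235586) (BT.node (nat_lit 10235584) (BT.node (nat_lit 10235520) (BT.leaf (nat_lit 683540)) (BT.leaf (nat_lit 38046229))) (BT.node (nat_lit 10235585) (BT.leaf (nat_lit 44061721)) (BT.leaf (nat_lit 716588)))) (BT.node (nat_lit 10235648) (BT.node (nat_lit 10235589) (BT.leaf (nat_lit 716588)) (BT.leaf (nat_lit 716588))) (BT.node (nat_lit 10235712) (BT.leaf (nat_lit 41148189)) (BT.leaf (nat_lit 45050393)))))) (BT.node (nat_lit 10236288) (BT.node (nat_lit 10236032) (BT.node (nat_lit 10235904) (BT.node (nat_lit 10235840) (BT.leaf (nat_lit 45050397)) (BT.leaf (nat_lit 38171909))) (BT.node (nat_lit 10235968) (BT.leaf (nat_lit 39334149)) (BT.leaf (nat_lit 44915973)))) (BT.node (nat_lit 10236160) (BT.node (nat_lit 10236096) (BT.leaf (nat_lit 39192069)) (BT.leaf (nat_lit 39334945))) (BT.node (nat_lit 10236224) (BT.leaf (nat_lit 39334689)) (BT.leaf (nat_lit 32551429))))) (BT.node (nat_lit 10236544) (BT.node (nat_lit 10236416) (BT.node (nat_lit 10236352) (BT.leaf (nat_lit 39970821)) (BT.leaf (nat_lit 42538001))) (BT.node (nat_lit 10236480) (BT.leaf (nat_lit 39909913)) (BT.leaf (nat_lit 31995909)))) (BT.node (nat_lit 10236672) (BT.node (nat_lit 10236608) (BT.leaf (nat_lit 46236949)) (BT.leaf (nat_lit 32871189))) (BT.node (nat_lit 10236736) (BT.leaf (nat_lit 48186393)) (BT.leaf (nat_lit 32145433)))))))) (BT.node (nat_lit 10238464) (BT.node (nat_lit 10237640) (BT.node (nat_lit 10237312) (BT.node (nat_lit 10237056) (BT.node (nat_lit 10236928) (BT.node (nat_lit 10236864) (BT.leaf (nat_lit 48219937)) (BT.leaf (nat_lit 41013789))) (BT.node (nat_lit 10236992) (BT.leaf (nat_lit 30044425)) (BT.leaf (nat_lit 28662549)))) (BT.node (nat_lit 10237184) (BT.node (nat_lit 10237120) (BT.leaf (nat_lit 30597913)) (BT.leaf (nat_lit 29893405))) (BT.node (nat_lit 10237248) (BT.leaf (nat_lit 30571269)) (BT.leaf (nat_lit 30571281))))) (BT.node (nat_lit 10237568) (BT.node (nat_lit 10237440) (BT.node (nat_lit 10237376) (BT.leaf (nat_lit 47035673)) (BT.leaf (nat_lit 36204561))) (BT.node (nat_lit 10237504) (BT.leaf (nat_lit 48315157)) (BT.leaf (nat_lit 45013793)))) (BT.node (nat_lit 10237636) (BT.node (nat_lit 10237632) (BT.leaf (nat_lit 32230673)) (BT.leaf (nat_lit 41047053))) (BT.node (nat_lit 10237637) (BT.leaf (nat_lit 682364)) (BT.leaf (nat_lit 682364)))))) (BT.node (nat_lit 10238080) (BT.node (nat_lit 10237888) (BT.node (nat_lit 10237760) (BT.node (nat_lit 10237696) (BT.leaf (nat_lit 682364)) (BT.leaf (nat_lit 49658657))) (BT.node (nat_lit 10237824) (BT.leaf (nat_lit 38118673)) (BT.leaf (nat_lit 45328921)))) (BT.node (nat_lit 10238016) (BT.node (nat_lit 10237952) (BT.leaf (nat_lit 32316953)) (BT.leaf (nat_lit 45328929))) (BT.node (nat_lit 10238022) (BT.leaf (nat_lit 41616645)) (BT.leaf (nat_lit 712296))))) (BT.node (nat_lit 10238336) (BT.node (nat_lit 10238208) (BT.node (nat_lit 10238144) (BT.leaf (nat_lit 29294853)) (BT.leaf (nat_lit 29295121))) (BT.node (nat_lit 10238272) (BT.leaf (nat_lit 47030541)) (BT.leaf (nat_lit 46908437)))) (BT.node (nat_lit 10238400) (BT.node (nat_lit 10238338) (BT.leaf (nat_lit 45915909)) (BT.leaf (nat_lit 797500))) (BT.node (nat_lit 10238402) (BT.leaf (nat_lit 43793697)) (BT.leaf (nat_lit 797504))))))) (BT.node (nat_lit 10239360) (BT.node (nat_lit 10238976) (BT.node (nat_lit 10238720) (BT.node (nat_lit 10238592) (BT.node (nat_lit 10238528) (BT.leaf (nat_lit 29296665)) (BT.leaf (nat_lit 34888477))) (BT.node (nat_lit 10238656) (BT.leaf (nat_lit 38342421)) (BT.leaf (nat_lit 47415313)))) (BT.node (nat_lit 10238848) (BT.node (nat_lit 10238784) (BT.leaf (nat_lit 47415317)) (BT.leaf (nat_lit 39103749))) (BT.node (nat_lit 10238912) (BT.leaf (nat_lit 38636053)) (BT.leaf (nat_lit 30716433))))) (BT.node (nat_lit 10239104) (BT.node (nat_lit 10239041) (BT.node (nat_lit 10239040) (BT.leaf (nat_lit 44953377)) (BT.leaf (nat_lit 46164769))) (BT.node (nat_lit 10239045) (BT.leaf (nat_lit 677104)) (BT.leaf (nat_lit 677104)))) (BT.node (nat_lit 10239232) (BT.node (nat_lit 10239168) (BT.leaf (nat_lit 28659729)) (BT.leaf (nat_lit 29297937))) (BT.node (nat_lit 10239296) (BT.leaf (nat_lit 46163745)) (BT.leaf (nat_lit 47189253)))))) (BT.node (nat_lit 10239872) (BT.node (nat_lit 10239616) (BT.node (nat_lit 10239488) (BT.node (nat_lit 10239424) (BT.leaf (nat_lit 44568353)) (BT.leaf (nat_lit 50840837))) (BT.node (nat_lit 10239552) (BT.leaf (nat_lit 31124245)) (BT.leaf (nat_lit 37881109)))) (BT.node (nat_lit 10239744) (BT.node (nat_lit 10239680) (BT.leaf (nat_lit 30105109)) (BT.leaf (nat_lit 30105113))) (BT.node (nat_lit 10239808) (BT.leaf (nat_lit 30105117)) (BT.leaf (nat_lit 31580953))))) (BT.node (nat_lit 10240128) (BT.node (nat_lit 10240000) (BT.node (nat_lit 10239936) (BT.leaf (nat_lit 31580957)) (BT.leaf (nat_lit 49572897))) (BT.node (nat_lit 10240064) (BT.leaf (nat_lit 44349209)) (BT.leaf (nat_lit 44349213)))) (BT.node (nat_lit 10240256) (BT.node (nat_lit 10240192) (BT.leaf (nat_lit 32275465)) (BT.leaf (nat_lit 32791313))) (BT.node (nat_lit 10240320) (BT.leaf (nat_lit 40466693)) (BT.leaf (nat_lit 49265437)))))))))) (BT.node (nat_lit 10248384) (BT.node (nat_lit 10244288) (BT.node (nat_lit 10242368) (BT.node (nat_lit 10241344) (BT.node (nat_lit 10240840) (BT.node (nat_lit 10240640) (BT.node (nat_lit 10240512) (BT.node (nat_lit 10240448) (BT.leaf (nat_lit 28707349)) (BT.leaf (nat_lit 39315717))) (BT.node (nat_lit 10240576) (BT.leaf (nat_lit 40464389)) (BT.leaf (nat_lit 40005653)))) (BT.node (nat_lit 10240768) (BT.node (nat_lit 10240704) (BT.leaf (nat_lit 43104261)) (BT.leaf (nat_lit 29301265))) (BT.node (nat_lit 10240832) (BT.leaf (nat_lit 40963341)) (BT.leaf (nat_lit 47236381))))) (BT.node (nat_lit 10241088) (BT.node (nat_lit 10240960) (BT.node (nat_lit 10240896) (BT.leaf (nat_lit 680296)) (BT.leaf (nat_lit 47236361))) (BT.node (nat_lit 10241024) (BT.leaf (nat_lit 41052165)) (BT.leaf (nat_lit 47235605)))) (BT.node (nat_lit 10241216) (BT.node (nat_lit 10241152) (BT.leaf (nat_lit 40577813)) (BT.leaf (nat_lit 38099469))) (BT.node (nat_lit 10241280) (BT.leaf (nat_lit 38106373)) (BT.leaf (nat_lit 43002389)))))) (BT.node (nat_lit 10241856) (BT.node (nat_lit 10241600) (BT.node (nat_lit 10241472) (BT.node (nat_lit 10241408) (BT.leaf (nat_lit 40910357)) (BT.leaf (nat_lit 46202145))) (BT.node (nat_lit 10241536) (BT.leaf (nat_lit 39831305)) (BT.leaf (nat_lit 27458569)))) (BT.node (nat_lit 10241728) (BT.node (nat_lit 10241664) (BT.leaf (nat_lit 33008161)) (BT.leaf (nat_lit 40507929))) (BT.node (nat_lit 10241792) (BT.leaf (nat_lit 37805317)) (BT.leaf (nat_lit 40972041))))) (BT.node (nat_lit 10242112) (BT.node (nat_lit 10241984) (BT.node (nat_lit 10241920) (BT.leaf (nat_lit 39680773)) (BT.leaf (nat_lit 39085337))) (BT.node (nat_lit 10242048) (BT.leaf (nat_lit 47375905)) (BT.leaf (nat_lit 36055329)))) (BT.node (nat_lit 10242240) (BT.node (nat_lit 10242176) (BT.leaf (nat_lit 29888537)) (BT.leaf (nat_lit 50016517))) (BT.node (nat_lit 10242304) (BT.leaf (nat_lit 31233553)) (BT.leaf (nat_lit 29888281))))))) (BT.node (nat_lit 10243328) (BT.node (nat_lit 10242818) (BT.node (nat_lit 10242624) (BT.node (nat_lit 10242496) (BT.node (nat_lit 10242432) (BT.leaf (nat_lit 50681365)) (BT.leaf (nat_lit 34855961))) (BT.node (nat_lit 10242560) (BT.leaf (nat_lit 29303321)) (BT.leaf (nat_lit 38239761)))) (BT.node (nat_lit 10242752) (BT.node (nat_lit 10242688) (BT.leaf (nat_lit 49194013)) (BT.leaf (nat_lit 29303581))) (BT.node (nat_lit 10242816) (BT.leaf (nat_lit 29303325)) (BT.leaf (nat_lit 30929433))))) (BT.node (nat_lit 10243008) (BT.node (nat_lit 10242880) (BT.node (nat_lit 10242819) (BT.leaf (nat_lit 755784)) (BT.leaf (nat_lit 808024))) (BT.node (nat_lit 10242944) (BT.leaf (nat_lit 47374881)) (BT.leaf (nat_lit 29303577)))) (BT.node (nat_lit 10243136) (BT.node (nat_lit 10243072) (BT.leaf (nat_lit 31483141)) (BT.leaf (nat_lit 44342285))) (BT.node (nat_lit 10243264) (BT.leaf (nat_lit 27458573)) (BT.leaf (nat_lit 41129489)))))) (BT.node (nat_lit 10243840) (BT.node (nat_lit 10243584) (BT.node (nat_lit 10243456) (BT.node (nat_lit 10243392) (BT.leaf (nat_lit 41129493)) (BT.leaf (nat_lit 29266453))) (BT.node (nat_lit 10243520) (BT.leaf (nat_lit 34688025)) (BT.leaf (nat_lit 44600093)))) (BT.node (nat_lit 10243712) (BT.node (nat_lit 10243648) (BT.leaf (nat_lit 42876445)) (BT.leaf (nat_lit 29304849))) (BT.node (nat_lit 10243776) (BT.leaf (nat_lit 32150805)) (BT.leaf (nat_lit 38694409))))) (BT.node (nat_lit 10244096) (BT.node (nat_lit 10243968) (BT.node (nat_lit 10243904) (BT.leaf (nat_lit 49197857)) (BT.leaf (nat_lit 30236697))) (BT.node (nat_lit 10244032) (BT.leaf (nat_lit 30236701)) (BT.leaf (nat_lit 31410705)))) (BT.node (nat_lit 10244224) (BT.node (nat_lit 10244160) (BT.leaf (nat_lit 46222353)) (BT.leaf (nat_lit 51969045))) (BT.node (nat_lit 10244229) (BT.leaf (nat_lit 32847621)) (BT.leaf (nat_lit 648284)))))))) (BT.node (nat_lit 10246272) (BT.node (nat_lit 10245312) (BT.node (nat_lit 10244800) (BT.node (nat_lit 10244544) (BT.node (nat_lit 10244416) (BT.node (nat_lit 10244352) (BT.leaf (nat_lit 40976921)) (BT.leaf (nat_lit 47600921))) (BT.node (nat_lit 10244480) (BT.leaf (nat_lit 28424477)) (BT.leaf (nat_lit 42504725)))) (BT.node (nat_lit 10244672) (BT.node (nat_lit 10244608) (BT.leaf (nat_lit 47696149)) (BT.leaf (nat_lit 30675721))) (BT.node (nat_lit 10244736) (BT.leaf (nat_lit 30675725)) (BT.leaf (nat_lit 29310485))))) (BT.node (nat_lit 10245056) (BT.node (nat_lit 10244928) (BT.node (nat_lit 10244864) (BT.leaf (nat_lit 47377413)) (BT.leaf (nat_lit 30149393))) (BT.node (nat_lit 10244992) (BT.leaf (nat_lit 29310469)) (BT.leaf (nat_lit 41809157)))) (BT.node (nat_lit 10245184) (BT.node (nat_lit 10245120) (BT.leaf (nat_lit 38275845)) (BT.leaf (nat_lit 40980249))) (BT.node (nat_lit 10245248) (BT.leaf (nat_lit 30843909)) (BT.leaf (nat_lit 40981277)))))) (BT.node (nat_lit 10245760) (BT.node (nat_lit 10245504) (BT.node (nat_lit 10245440) (BT.node (nat_lit 10245376) (BT.leaf (nat_lit 41809421)) (BT.leaf (nat_lit 32567305))) (BT.node (nat_lit 10245444) (BT.leaf (nat_lit 32567309)) (BT.leaf (nat_lit 754812)))) (BT.node (nat_lit 10245632) (BT.node (nat_lit 10245568) (BT.leaf (nat_lit 33735445)) (BT.leaf (nat_lit 32567321))) (BT.node (nat_lit 10245696) (BT.leaf (nat_lit 32567325)) (BT.leaf (nat_lit 29312533))))) (BT.node (nat_lit 10246016) (BT.node (nat_lit 10245888) (BT.node (nat_lit 10245824) (BT.leaf (nat_lit 36843809)) (BT.leaf (nat_lit 34702097))) (BT.node (nat_lit 10245952) (BT.leaf (nat_lit 46911497)) (BT.leaf (nat_lit 34702113)))) (BT.node (nat_lit 10246144) (BT.node (nat_lit 10246080) (BT.leaf (nat_lit 27793937)) (BT.leaf (nat_lit 28425745))) (BT.node (nat_lit 10246208) (BT.leaf (nat_lit 28685841)) (BT.leaf (nat_lit 42520093))))))) (BT.node (nat_lit 10247360) (BT.node (nat_lit 10246784) (BT.node (nat_lit 10246528) (BT.node (nat_lit 10246400) (BT.node (nat_lit 10246336) (BT.leaf (nat_lit 31258137)) (BT.leaf (nat_lit 40228361))) (BT.node (nat_lit 10246464) (BT.leaf (nat_lit 40228369)) (BT.leaf (nat_lit 29313565)))) (BT.node (nat_lit 10246656) (BT.node (nat_lit 10246592) (BT.leaf (nat_lit 31961617)) (BT.leaf (nat_lit 39946253))) (BT.node (nat_lit 10246720) (BT.leaf (nat_lit 31258145)) (BT.leaf (nat_lit 32713225))))) (BT.node (nat_lit 10247104) (BT.node (nat_lit 10246912) (BT.node (nat_lit 10246848) (BT.leaf (nat_lit 32713229)) (BT.leaf (nat_lit 32713493))) (BT.node (nat_lit 10246976) (BT.leaf (nat_lit 27795477)) (BT.leaf (nat_lit 39946261)))) (BT.node (nat_lit 10247232) (BT.node (nat_lit 10247168) (BT.leaf (nat_lit 46263321)) (BT.leaf (nat_lit 29315077))) (BT.node (nat_lit 10247296) (BT.leaf (nat_lit 32713497)) (BT.leaf (nat_lit 32713501)))))) (BT.node (nat_lit 10247872) (BT.node (nat_lit 10247616) (BT.node (nat_lit 10247488) (BT.node (nat_lit 10247424) (BT.leaf (nat_lit 41623585)) (BT.leaf (nat_lit 40025113))) (BT.node (nat_lit 10247552) (BT.leaf (nat_lit 38270477)) (BT.leaf (nat_lit 38569505)))) (BT.node (nat_lit 10247744) (BT.node (nat_lit 10247680) (BT.leaf (nat_lit 47378181)) (BT.leaf (nat_lit 40025101))) (BT.node (nat_lit 10247808) (BT.leaf (nat_lit 47378437)) (BT.leaf (nat_lit 29317393))))) (BT.node (nat_lit 10248128) (BT.node (nat_lit 10248000) (BT.node (nat_lit 10247936) (BT.leaf (nat_lit 28719633)) (BT.leaf (nat_lit 28715281))) (BT.node (nat_lit 10248064) (BT.leaf (nat_lit 38301721)) (BT.leaf (nat_lit 38301725)))) (BT.node (nat_lit 10248256) (BT.node (nat_lit 10248192) (BT.leaf (nat_lit 34415129)) (BT.leaf (nat_lit 45017877))) (BT.node (nat_lit 10248320) (BT.leaf (nat_lit 35405077)) (BT.leaf (nat_lit 29317661))))))))) (BT.node (nat_lit 10252096) (BT.node (nat_lit 10250240) (BT.node (nat_lit 10249282) (BT.node (nat_lit 10248896) (BT.node (nat_lit 10248640) (BT.node (nat_lit 10248512) (BT.node (nat_lit 10248448) (BT.leaf (nat_lit 33736221)) (BT.leaf (nat_lit 35405329))) (BT.node (nat_lit 10248576) (BT.leaf (nat_lit 35405333)) (BT.leaf (nat_lit 29317657)))) (BT.node (nat_lit 10248768) (BT.node (nat_lit 10248704) (BT.leaf (nat_lit 29319697)) (BT.leaf (nat_lit 29319441))) (BT.node (nat_lit 10248832) (BT.leaf (nat_lit 29318673)) (BT.leaf (nat_lit 39214617))))) (BT.node (nat_lit 10249152) (BT.node (nat_lit 10249024) (BT.node (nat_lit 10248960) (BT.leaf (nat_lit 39214621)) (BT.leaf (nat_lit 39340549))) (BT.node (nat_lit 10249088) (BT.leaf (nat_lit 29268493)) (BT.leaf (nat_lit 29320201)))) (BT.node (nat_lit 10249280) (BT.node (nat_lit 10249216) (BT.leaf (nat_lit 28716821)) (BT.leaf (nat_lit 32953377))) (BT.node (nat_lit 10249281) (BT.leaf (nat_lit 41768221)) (BT.leaf (nat_lit 652624)))))) (BT.node (nat_lit 10249728) (BT.node (nat_lit 10249472) (BT.node (nat_lit 10249344) (BT.node (nat_lit 10249288) (BT.leaf (nat_lit 652624)) (BT.leaf (nat_lit 652624))) (BT.node (nat_lit 10249408) (BT.leaf (nat_lit 40196385)) (BT.leaf (nat_lit 29319969)))) (BT.node (nat_lit 10249600) (BT.node (nat_lit 10249536) (BT.leaf (nat_lit 29320197)) (BT.leaf (nat_lit 32018449))) (BT.node (nat_lit 10249664) (BT.leaf (nat_lit 29320481)) (BT.leaf (nat_lit 28723985))))) (BT.node (nat_lit 10249984) (BT.node (nat_lit 10249856) (BT.node (nat_lit 10249792) (BT.leaf (nat_lit 31160089)) (BT.leaf (nat_lit 31160093))) (BT.node (nat_lit 10249920) (BT.leaf (nat_lit 50297869)) (BT.leaf (nat_lit 29320733)))) (BT.node (nat_lit 10250112) (BT.node (nat_lit 10250048) (BT.leaf (nat_lit 37757713)) (BT.leaf (nat_lit 51631649))) (BT.node (nat_lit 10250176) (BT.leaf (nat_lit 36723737)) (BT.leaf (nat_lit 36723741))))))) (BT.node (nat_lit 10251136) (BT.node (nat_lit 10250688) (BT.node (nat_lit 10250496) (BT.node (nat_lit 10250368) (BT.node (nat_lit 10250304) (BT.leaf (nat_lit 29324821)) (BT.leaf (nat_lit 49797381))) (BT.node (nat_lit 10250432) (BT.leaf (nat_lit 35940893)) (BT.leaf (nat_lit 32528133)))) (BT.node (nat_lit 10250624) (BT.node (nat_lit 10250560) (BT.leaf (nat_lit 34412557)) (BT.leaf (nat_lit 32342801))) (BT.node (nat_lit 10250632) (BT.leaf (nat_lit 39568153)) (BT.leaf (nat_lit 721000))))) (BT.node (nat_lit 10250887) (BT.node (nat_lit 10250816) (BT.node (nat_lit 10250752) (BT.leaf (nat_lit 47042837)) (BT.leaf (nat_lit 48384797))) (BT.node (nat_lit 10250880) (BT.leaf (nat_lit 47380229)) (BT.leaf (nat_lit 38749205)))) (BT.node (nat_lit 10251008) (BT.node (nat_lit 10250944) (BT.leaf (nat_lit 641092)) (BT.leaf (nat_lit 46107929))) (BT.node (nat_lit 10251072) (BT.leaf (nat_lit 46108941)) (BT.leaf (nat_lit 45852449)))))) (BT.node (nat_lit 10251648) (BT.node (nat_lit 10251456) (BT.node (nat_lit 10251264) (BT.node (nat_lit 10251200) (BT.leaf (nat_lit 31237893)) (BT.leaf (nat_lit 45916421))) (BT.node (nat_lit 10251328) (BT.leaf (nat_lit 39150113)) (BT.leaf (nat_lit 41762329)))) (BT.node (nat_lit 10251520) (BT.node (nat_lit 10251460) (BT.leaf (nat_lit 29328413)) (BT.leaf (nat_lit 767212))) (BT.node (nat_lit 10251584) (BT.leaf (nat_lit 50837253)) (BT.leaf (nat_lit 50837537))))) (BT.node (nat_lit 10251843) (BT.node (nat_lit 10251776) (BT.node (nat_lit 10251712) (BT.leaf (nat_lit 41424413)) (BT.leaf (nat_lit 29331733))) (BT.node (nat_lit 10251840) (BT.leaf (nat_lit 29550613)) (BT.leaf (nat_lit 45455369)))) (BT.node (nat_lit 10251968) (BT.node (nat_lit 10251904) (BT.leaf (nat_lit 810836)) (BT.leaf (nat_lit 30575645))) (BT.node (nat_lit 10252032) (BT.leaf (nat_lit 48104725)) (BT.leaf (nat_lit 29330709)))))))) (BT.node (nat_lit 10253632) (BT.node (nat_lit 10252800) (BT.node (nat_lit 10252352) (BT.node (nat_lit 10252290) (BT.node (nat_lit 10252224) (BT.node (nat_lit 10252160) (BT.leaf (nat_lit 28697113)) (BT.leaf (nat_lit 39786265))) (BT.node (nat_lit 10252288) (BT.leaf (nat_lit 42185233)) (BT.leaf (nat_lit 49112085)))) (BT.node (nat_lit 10252294) (BT.node (nat_lit 10252291) (BT.leaf (nat_lit 703188)) (BT.leaf (nat_lit 703188))) (BT.node (nat_lit 10252295) (BT.leaf (nat_lit 703188)) (BT.leaf (nat_lit 703188))))) (BT.node (nat_lit 10252544) (BT.node (nat_lit 10252416) (BT.node (nat_lit 10252357) (BT.leaf (nat_lit 32429585)) (BT.leaf (nat_lit 771568))) (BT.node (nat_lit 10252480) (BT.leaf (nat_lit 32011033)) (BT.leaf (nat_lit 44430865)))) (BT.node (nat_lit 10252672) (BT.node (nat_lit 10252608) (BT.leaf (nat_lit 29696785)) (BT.leaf (nat_lit 49547297))) (BT.node (nat_lit 10252736) (BT.leaf (nat_lit 32152597)) (BT.leaf (nat_lit 37842441)))))) (BT.node (nat_lit 10253120) (BT.node (nat_lit 10252933) (BT.node (nat_lit 10252928) (BT.node (nat_lit 10252864) (BT.leaf (nat_lit 32081681)) (BT.leaf (nat_lit 32081685))) (BT.node (nat_lit 10252932) (BT.leaf (nat_lit 29085725)) (BT.leaf (nat_lit 670152)))) (BT.node (nat_lit 10252996) (BT.node (nat_lit 10252992) (BT.leaf (nat_lit 670152)) (BT.leaf (nat_lit 42610453))) (BT.node (nat_lit 10253056) (BT.leaf (nat_lit 703660)) (BT.leaf (nat_lit 42890513))))) (BT.node (nat_lit 10253376) (BT.node (nat_lit 10253248) (BT.node (nat_lit 10253184) (BT.leaf (nat_lit 42890517)) (BT.leaf (nat_lit 41712149))) (BT.node (nat_lit 10253312) (BT.leaf (nat_lit 41712157)) (BT.leaf (nat_lit 51356173)))) (BT.node (nat_lit 10253504) (BT.node (nat_lit 10253440) (BT.leaf (nat_lit 39704353)) (BT.leaf (nat_lit 41014029))) (BT.node (nat_lit 10253568) (BT.leaf (nat_lit 39925781)) (BT.leaf (nat_lit 29333525))))))) (BT.node (nat_lit 10254592) (BT.node (nat_lit 10254144) (BT.node (nat_lit 10253888) (BT.node (nat_lit 10253760) (BT.node (nat_lit 10253696) (BT.leaf (nat_lit 39892761)) (BT.leaf (nat_lit 39927565))) (BT.node (nat_lit 10253824) (BT.leaf (nat_lit 47287061)) (BT.leaf (nat_lit 39927305)))) (BT.node (nat_lit 10254016) (BT.node (nat_lit 10253952) (BT.leaf (nat_lit 29336837)) (BT.leaf (nat_lit 42679305))) (BT.node (nat_lit 10254080) (BT.leaf (nat_lit 47222301)) (BT.leaf (nat_lit 46745349))))) (BT.node (nat_lit 10254400) (BT.node (nat_lit 10254272) (BT.node (nat_lit 10254208) (BT.leaf (nat_lit 29025557)) (BT.leaf (nat_lit 41017101))) (BT.node (nat_lit 10254336) (BT.leaf (nat_lit 39932949)) (BT.leaf (nat_lit 32528145)))) (BT.node (nat_lit 10254464) (BT.node (nat_lit 10254402) (BT.leaf (nat_lit 49710625)) (BT.leaf (nat_lit 772644))) (BT.node (nat_lit 10254528) (BT.leaf (nat_lit 32528161)) (BT.leaf (nat_lit 29611525)))))) (BT.node (nat_lit 10255168) (BT.node (nat_lit 10254912) (BT.node (nat_lit 10254720) (BT.node (nat_lit 10254656) (BT.leaf (nat_lit 29343253)) (BT.leaf (nat_lit 49251849))) (BT.node (nat_lit 10254848) (BT.leaf (nat_lit 40011269)) (BT.leaf (nat_lit 29335581)))) (BT.node (nat_lit 10255040) (BT.node (nat_lit 10254976) (BT.leaf (nat_lit 40896281)) (BT.leaf (nat_lit 38266897))) (BT.node (nat_lit 10255104) (BT.leaf (nat_lit 49407765)) (BT.leaf (nat_lit 32738589))))) (BT.node (nat_lit 10255424) (BT.node (nat_lit 10255296) (BT.node (nat_lit 10255232) (BT.leaf (nat_lit 29337629)) (BT.leaf (nat_lit 39156497))) (BT.node (nat_lit 10255360) (BT.leaf (nat_lit 29338137)) (BT.leaf (nat_lit 32779029)))) (BT.node (nat_lit 10255552) (BT.node (nat_lit 10255488) (BT.leaf (nat_lit 39939337)) (BT.leaf (nat_lit 43772681))) (BT.node (nat_lit 10255616) (BT.leaf (nat_lit 42890273)) (BT.leaf (nat_lit 30072849)))))))))))))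
noncomputable def big0_e88064 : BT Nat := (BT.node (nat_lit 10315648) (BT.node (nat_lit 10285312) (BT.node (nat_lit 10270336) (BT.node (nat_lit 10263616) (BT.node (nat_lit 10259648) (BT.node (nat_lit 10257600) (BT.node (nat_lit 10256704) (BT.node (nat_lit 10256192) (BT.node (nat_lit 10255936) (BT.node (nat_lit 10255808) (BT.node (nat_lit 10255744) (BT.leaf (nat_lit 29626381)) (BT.leaf (nat_lit 39929093))) (BT.node (nat_lit 10255872) (BT.leaf (nat_lit 31010841)) (BT.leaf (nat_lit 31010845)))) (BT.node (nat_lit 10256064) (BT.node (nat_lit 10256000) (BT.leaf (nat_lit 45138717)) (BT.leaf (nat_lit 43580697))) (BT.node (nat_lit 10256128) (BT.leaf (nat_lit 29626385)) (BT.leaf (nat_lit 29626389))))) (BT.node (nat_lit 10256448) (BT.node (nat_lit 10256320) (BT.node (nat_lit 10256256) (BT.leaf (nat_lit 43581473)) (BT.leaf (nat_lit 38744853))) (BT.node (nat_lit 10256384) (BT.leaf (nat_lit 33741329)) (BT.leaf (nat_lit 40196121)))) (BT.node (nat_lit 10256576) (BT.node (nat_lit 10256512) (BT.leaf (nat_lit 40196125)) (BT.leaf (nat_lit 41026333))) (BT.node (nat_lit 10256640) (BT.leaf (nat_lit 47288853)) (BT.leaf (nat_lit 31263765)))))) (BT.node (nat_lit 10257088) (BT.node (nat_lit 10256832) (BT.node (nat_lit 10256771) (BT.node (nat_lit 10256768) (BT.leaf (nat_lit 41026569)) (BT.leaf (nat_lit 29153557))) (BT.node (nat_lit 10256776) (BT.leaf (nat_lit 662532)) (BT.leaf (nat_lit 768724)))) (BT.node (nat_lit 10256960) (BT.node (nat_lit 10256896) (BT.leaf (nat_lit 39313429)) (BT.leaf (nat_lit 40019233))) (BT.node (nat_lit 10257024) (BT.leaf (nat_lit 39915021)) (BT.leaf (nat_lit 29341217))))) (BT.node (nat_lit 10257344) (BT.node (nat_lit 10257216) (BT.node (nat_lit 10257152) (BT.leaf (nat_lit 43338005)) (BT.leaf (nat_lit 39781141))) (BT.node (nat_lit 10257280) (BT.leaf (nat_lit 47886085)) (BT.leaf (nat_lit 47279381)))) (BT.node (nat_lit 10257472) (BT.node (nat_lit 10257408) (BT.leaf (nat_lit 28707605)) (BT.leaf (nat_lit 39009309))) (BT.node (nat_lit 10257536) (BT.leaf (nat_lit 47061525)) (BT.leaf (nat_lit 38572037))))))) (BT.node (nat_lit 10258625) (BT.node (nat_lit 10258112) (BT.node (nat_lit 10257856) (BT.node (nat_lit 10257728) (BT.node (nat_lit 10257664) (BT.leaf (nat_lit 39009293)) (BT.leaf (nat_lit 30044177))) (BT.node (nat_lit 10257792) (BT.leaf (nat_lit 28703765)) (BT.leaf (nat_lit 32917521)))) (BT.node (nat_lit 10257984) (BT.node (nat_lit 10257920) (BT.leaf (nat_lit 30573337)) (BT.leaf (nat_lit 40506901))) (BT.node (nat_lit 10258048) (BT.leaf (nat_lit 30765081)) (BT.leaf (nat_lit 30765085))))) (BT.node (nat_lit 10258368) (BT.node (nat_lit 10258240) (BT.node (nat_lit 10258176) (BT.leaf (nat_lit 39398673)) (BT.leaf (nat_lit 43325461))) (BT.node (nat_lit 10258304) (BT.leaf (nat_lit 45921809)) (BT.leaf (nat_lit 32985865)))) (BT.node (nat_lit 10258496) (BT.node (nat_lit 10258432) (BT.leaf (nat_lit 32986121)) (BT.leaf (nat_lit 29344273))) (BT.node (nat_lit 10258560) (BT.leaf (nat_lit 28427537)) (BT.leaf (nat_lit 29346321)))))) (BT.node (nat_lit 10259136) (BT.node (nat_lit 10258880) (BT.node (nat_lit 10258752) (BT.node (nat_lit 10258688) (BT.leaf (nat_lit 716672)) (BT.leaf (nat_lit 31417113))) (BT.node (nat_lit 10258816) (BT.leaf (nat_lit 31417117)) (BT.leaf (nat_lit 50822661)))) (BT.node (nat_lit 10259008) (BT.node (nat_lit 10258944) (BT.leaf (nat_lit 29346821)) (BT.leaf (nat_lit 30676765))) (BT.node (nat_lit 10259072) (BT.leaf (nat_lit 29347601)) (BT.leaf (nat_lit 35093785))))) (BT.node (nat_lit 10259392) (BT.node (nat_lit 10259264) (BT.node (nat_lit 10259200) (BT.leaf (nat_lit 47870217)) (BT.leaf (nat_lit 29348121))) (BT.node (nat_lit 10259328) (BT.leaf (nat_lit 40004121)) (BT.leaf (nat_lit 30098181)))) (BT.node (nat_lit 10259520) (BT.node (nat_lit 10259456) (BT.leaf (nat_lit 30098201)) (BT.leaf (nat_lit 30098205))) (BT.node (nat_lit 10259584) (BT.leaf (nat_lit 29349397)) (BT.leaf (nat_lit 40004381)))))))) (BT.node (nat_lit 10261568) (BT.node (nat_lit 10260672) (BT.node (nat_lit 10260160) (BT.node (nat_lit 10259904) (BT.node (nat_lit 10259776) (BT.node (nat_lit 10259712) (BT.leaf (nat_lit 33764625)) (BT.leaf (nat_lit 47421721))) (BT.node (nat_lit 10259840) (BT.leaf (nat_lit 29273861)) (BT.leaf (nat_lit 41927693)))) (BT.node (nat_lit 10260032) (BT.node (nat_lit 10259968) (BT.leaf (nat_lit 29749525)) (BT.leaf (nat_lit 29749529))) (BT.node (nat_lit 10260096) (BT.leaf (nat_lit 29749533)) (BT.leaf (nat_lit 35268641))))) (BT.node (nat_lit 10260416) (BT.node (nat_lit 10260288) (BT.node (nat_lit 10260224) (BT.leaf (nat_lit 29295137)) (BT.leaf (nat_lit 29351457))) (BT.node (nat_lit 10260352) (BT.leaf (nat_lit 29351685)) (BT.leaf (nat_lit 29352225)))) (BT.node (nat_lit 10260544) (BT.node (nat_lit 10260480) (BT.leaf (nat_lit 29351969)) (BT.leaf (nat_lit 39021321))) (BT.node (nat_lit 10260608) (BT.leaf (nat_lit 45362189)) (BT.leaf (nat_lit 29996561)))))) (BT.node (nat_lit 10261184) (BT.node (nat_lit 10260928) (BT.node (nat_lit 10260800) (BT.node (nat_lit 10260736) (BT.leaf (nat_lit 47053325)) (BT.leaf (nat_lit 28422677))) (BT.node (nat_lit 10260864) (BT.leaf (nat_lit 46909717)) (BT.leaf (nat_lit 29996577)))) (BT.node (nat_lit 10261056) (BT.node (nat_lit 10260992) (BT.leaf (nat_lit 33985541)) (BT.leaf (nat_lit 29353233))) (BT.node (nat_lit 10261120) (BT.leaf (nat_lit 33985561)) (BT.leaf (nat_lit 29675025))))) (BT.node (nat_lit 10261440) (BT.node (nat_lit 10261312) (BT.node (nat_lit 10261248) (BT.leaf (nat_lit 29354501)) (BT.leaf (nat_lit 28693253))) (BT.node (nat_lit 10261376) (BT.leaf (nat_lit 29355013)) (BT.leaf (nat_lit 33986565)))) (BT.node (nat_lit 10261505) (BT.node (nat_lit 10261504) (BT.leaf (nat_lit 28693265)) (BT.leaf (nat_lit 42228757))) (BT.node (nat_lit 10261508) (BT.leaf (nat_lit 659324)) (BT.leaf (nat_lit 659324))))))) (BT.node (nat_lit 10262592) (BT.node (nat_lit 10262080) (BT.node (nat_lit 10261760) (BT.node (nat_lit 10261632) (BT.node (nat_lit 10261573) (BT.leaf (nat_lit 44217605)) (BT.leaf (nat_lit 786432))) (BT.node (nat_lit 10261696) (BT.leaf (nat_lit 41046297)) (BT.leaf (nat_lit 40348689)))) (BT.node (nat_lit 10261952) (BT.node (nat_lit 10261824) (BT.leaf (nat_lit 45328413)) (BT.leaf (nat_lit 41805853))) (BT.node (nat_lit 10262016) (BT.leaf (nat_lit 29352989)) (BT.leaf (nat_lit 44314401))))) (BT.node (nat_lit 10262336) (BT.node (nat_lit 10262208) (BT.node (nat_lit 10262144) (BT.leaf (nat_lit 29357077)) (BT.leaf (nat_lit 29361441))) (BT.node (nat_lit 10262272) (BT.leaf (nat_lit 40812817)) (BT.leaf (nat_lit 41506309)))) (BT.node (nat_lit 10262464) (BT.node (nat_lit 10262400) (BT.leaf (nat_lit 40960033)) (BT.leaf (nat_lit 40960545))) (BT.node (nat_lit 10262528) (BT.leaf (nat_lit 49799193)) (BT.leaf (nat_lit 47381509)))))) (BT.node (nat_lit 10263040) (BT.node (nat_lit 10262848) (BT.node (nat_lit 10262720) (BT.node (nat_lit 10262656) (BT.leaf (nat_lit 43167237)) (BT.leaf (nat_lit 49799181))) (BT.node (nat_lit 10262784) (BT.leaf (nat_lit 31878945)) (BT.leaf (nat_lit 32333589)))) (BT.node (nat_lit 10262920) (BT.node (nat_lit 10262912) (BT.leaf (nat_lit 29356561)) (BT.leaf (nat_lit 45253401))) (BT.node (nat_lit 10262976) (BT.leaf (nat_lit 718976)) (BT.leaf (nat_lit 46315029))))) (BT.node (nat_lit 10263360) (BT.node (nat_lit 10263168) (BT.node (nat_lit 10263104) (BT.leaf (nat_lit 45253389)) (BT.leaf (nat_lit 40215573))) (BT.node (nat_lit 10263232) (BT.leaf (nat_lit 40964357)) (BT.leaf (nat_lit 46312717)))) (BT.node (nat_lit 10263488) (BT.node (nat_lit 10263424) (BT.leaf (nat_lit 42343701)) (BT.leaf (nat_lit 41080353))) (BT.node (nat_lit 10263552) (BT.leaf (nat_lit 48604945)) (BT.leaf (nat_lit 30904341))))))))) (BT.node (nat_lit 10266949) (BT.node (nat_lit 10264960) (BT.node (nat_lit 10264384) (BT.node (nat_lit 10264008) (BT.node (nat_lit 10263872) (BT.node (nat_lit 10263744) (BT.node (nat_lit 10263680) (BT.leaf (nat_lit 29646869)) (BT.leaf (nat_lit 41055005))) (BT.node (nat_lit 10263808) (BT.leaf (nat_lit 32004113)) (BT.leaf (nat_lit 40916513)))) (BT.node (nat_lit 10264000) (BT.node (nat_lit 10263936) (BT.leaf (nat_lit 49109253)) (BT.leaf (nat_lit 29544465))) (BT.node (nat_lit 10264005) (BT.leaf (nat_lit 39875597)) (BT.leaf (nat_lit 670100))))) (BT.node (nat_lit 10264256) (BT.node (nat_lit 10264128) (BT.node (nat_lit 10264064) (BT.leaf (nat_lit 670100)) (BT.leaf (nat_lit 41224205))) (BT.node (nat_lit 10264192) (BT.leaf (nat_lit 29360149)) (BT.leaf (nat_lit 42394905)))) (BT.node (nat_lit 10264264) (BT.node (nat_lit 10264257) (BT.leaf (nat_lit 43493385)) (BT.leaf (nat_lit 662432))) (BT.node (nat_lit 10264320) (BT.leaf (nat_lit 662432)) (BT.leaf (nat_lit 42394913)))))) (BT.node (nat_lit 10264640) (BT.node (nat_lit 10264392) (BT.node (nat_lit 10264387) (BT.node (nat_lit 10264386) (BT.leaf (nat_lit 40589337)) (BT.leaf (nat_lit 679496))) (BT.node (nat_lit 10264388) (BT.leaf (nat_lit 679496)) (BT.leaf (nat_lit 679496)))) (BT.node (nat_lit 10264576) (BT.node (nat_lit 10264512) (BT.leaf (nat_lit 746128)) (BT.leaf (nat_lit 29360133))) (BT.node (nat_lit 10264584) (BT.leaf (nat_lit 42954517)) (BT.leaf (nat_lit 672260))))) (BT.node (nat_lit 10264712) (BT.node (nat_lit 10264706) (BT.node (nat_lit 10264704) (BT.leaf (nat_lit 41369101)) (BT.leaf (nat_lit 47033365))) (BT.node (nat_lit 10264707) (BT.leaf (nat_lit 646396)) (BT.leaf (nat_lit 646396)))) (BT.node (nat_lit 10264832) (BT.node (nat_lit 10264768) (BT.leaf (nat_lit 646396)) (BT.leaf (nat_lit 41369117))) (BT.node (nat_lit 10264896) (BT.leaf (nat_lit 41371669)) (BT.leaf (nat_lit 30647573))))))) (BT.node (nat_lit 10265984) (BT.node (nat_lit 10265472) (BT.node (nat_lit 10265216) (BT.node (nat_lit 10265088) (BT.node (nat_lit 10265024) (BT.leaf (nat_lit 40388361)) (BT.leaf (nat_lit 45247253))) (BT.node (nat_lit 10265152) (BT.leaf (nat_lit 45247257)) (BT.leaf (nat_lit 41583625)))) (BT.node (nat_lit 10265344) (BT.node (nat_lit 10265280) (BT.leaf (nat_lit 34331153)) (BT.leaf (nat_lit 45697313))) (BT.node (nat_lit 10265408) (BT.leaf (nat_lit 45623065)) (BT.leaf (nat_lit 30269457))))) (BT.node (nat_lit 10265728) (BT.node (nat_lit 10265600) (BT.node (nat_lit 10265536) (BT.leaf (nat_lit 29361413)) (BT.leaf (nat_lit 39812641))) (BT.node (nat_lit 10265664) (BT.leaf (nat_lit 44225821)) (BT.leaf (nat_lit 29363233)))) (BT.node (nat_lit 10265856) (BT.node (nat_lit 10265792) (BT.leaf (nat_lit 37791493)) (BT.leaf (nat_lit 40960005))) (BT.node (nat_lit 10265920) (BT.leaf (nat_lit 29363221)) (BT.leaf (nat_lit 44693537)))))) (BT.node (nat_lit 10266496) (BT.node (nat_lit 10266240) (BT.node (nat_lit 10266112) (BT.node (nat_lit 10266048) (BT.leaf (nat_lit 44693281)) (BT.leaf (nat_lit 32815633))) (BT.node (nat_lit 10266176) (BT.leaf (nat_lit 32815637)) (BT.leaf (nat_lit 40817425)))) (BT.node (nat_lit 10266368) (BT.node (nat_lit 10266304) (BT.leaf (nat_lit 31875337)) (BT.leaf (nat_lit 50375965))) (BT.node (nat_lit 10266432) (BT.leaf (nat_lit 50375945)) (BT.leaf (nat_lit 31875357))))) (BT.node (nat_lit 10266752) (BT.node (nat_lit 10266624) (BT.node (nat_lit 10266560) (BT.leaf (nat_lit 31875361)) (BT.leaf (nat_lit 29365777))) (BT.node (nat_lit 10266688) (BT.leaf (nat_lit 45984793)) (BT.leaf (nat_lit 31368209)))) (BT.node (nat_lit 10266880) (BT.node (nat_lit 10266816) (BT.leaf (nat_lit 42679821)) (BT.leaf (nat_lit 46913301))) (BT.node (nat_lit 10266944) (BT.leaf (nat_lit 47416333)) (BT.leaf (nat_lit 40473633)))))))) (BT.node (nat_lit 10268609) (BT.node (nat_lit 10267784) (BT.node (nat_lit 10267456) (BT.node (nat_lit 10267200) (BT.node (nat_lit 10267072) (BT.node (nat_lit 10267008) (BT.leaf (nat_lit 754732)) (BT.leaf (nat_lit 42679817))) (BT.node (nat_lit 10267136) (BT.leaf (nat_lit 39551001)) (BT.leaf (nat_lit 41068829)))) (BT.node (nat_lit 10267328) (BT.node (nat_lit 10267264) (BT.leaf (nat_lit 41029385)) (BT.leaf (nat_lit 31708185))) (BT.node (nat_lit 10267392) (BT.leaf (nat_lit 42679837)) (BT.leaf (nat_lit 39315729))))) (BT.node (nat_lit 10267649) (BT.node (nat_lit 10267584) (BT.node (nat_lit 10267520) (BT.leaf (nat_lit 39550985)) (BT.leaf (nat_lit 29366049))) (BT.node (nat_lit 10267648) (BT.leaf (nat_lit 40001817)) (BT.leaf (nat_lit 30692897)))) (BT.node (nat_lit 10267713) (BT.node (nat_lit 10267712) (BT.leaf (nat_lit 656612)) (BT.leaf (nat_lit 32648209))) (BT.node (nat_lit 10267776) (BT.leaf (nat_lit 715780)) (BT.leaf (nat_lit 44521233)))))) (BT.node (nat_lit 10268160) (BT.node (nat_lit 10267969) (BT.node (nat_lit 10267904) (BT.node (nat_lit 10267840) (BT.leaf (nat_lit 716020)) (BT.leaf (nat_lit 51034897))) (BT.node (nat_lit 10267968) (BT.leaf (nat_lit 45985041)) (BT.leaf (nat_lit 43613705)))) (BT.node (nat_lit 10268032) (BT.node (nat_lit 10267970) (BT.leaf (nat_lit 673376)) (BT.leaf (nat_lit 673376))) (BT.node (nat_lit 10268096) (BT.leaf (nat_lit 29366797)) (BT.leaf (nat_lit 39823369))))) (BT.node (nat_lit 10268416) (BT.node (nat_lit 10268288) (BT.node (nat_lit 10268224) (BT.leaf (nat_lit 39874573)) (BT.leaf (nat_lit 41073677))) (BT.node (nat_lit 10268352) (BT.leaf (nat_lit 41224457)) (BT.leaf (nat_lit 41821717)))) (BT.node (nat_lit 10268544) (BT.node (nat_lit 10268480) (BT.leaf (nat_lit 29366817)) (BT.leaf (nat_lit 39825177))) (BT.node (nat_lit 10268608) (BT.leaf (nat_lit 39825437)) (BT.leaf (nat_lit 46312729))))))) (BT.node (nat_lit 10269376) (BT.node (nat_lit 10268992) (BT.node (nat_lit 10268736) (BT.node (nat_lit 10268613) (BT.node (nat_lit 10268611) (BT.leaf (nat_lit 655124)) (BT.leaf (nat_lit 723640))) (BT.node (nat_lit 10268672) (BT.leaf (nat_lit 655124)) (BT.leaf (nat_lit 31982341)))) (BT.node (nat_lit 10268864) (BT.node (nat_lit 10268800) (BT.leaf (nat_lit 46173469)) (BT.leaf (nat_lit 41072413))) (BT.node (nat_lit 10268928) (BT.leaf (nat_lit 28416797)) (BT.leaf (nat_lit 31982353))))) (BT.node (nat_lit 10269186) (BT.node (nat_lit 10269120) (BT.node (nat_lit 10269056) (BT.leaf (nat_lit 39825429)) (BT.leaf (nat_lit 39823385))) (BT.node (nat_lit 10269184) (BT.leaf (nat_lit 31982369)) (BT.leaf (nat_lit 29366789)))) (BT.node (nat_lit 10269248) (BT.node (nat_lit 10269192) (BT.leaf (nat_lit 675932)) (BT.leaf (nat_lit 675932))) (BT.node (nat_lit 10269312) (BT.leaf (nat_lit 43489049)) (BT.leaf (nat_lit 44337933)))))) (BT.node (nat_lit 10270016) (BT.node (nat_lit 10269760) (BT.node (nat_lit 10269568) (BT.node (nat_lit 10269504) (BT.leaf (nat_lit 29368089)) (BT.leaf (nat_lit 28416793))) (BT.node (nat_lit 10269696) (BT.leaf (nat_lit 29368093)) (BT.leaf (nat_lit 39551509)))) (BT.node (nat_lit 10269888) (BT.node (nat_lit 10269824) (BT.leaf (nat_lit 30279189)) (BT.leaf (nat_lit 31198997))) (BT.node (nat_lit 10269952) (BT.leaf (nat_lit 43838477)) (BT.leaf (nat_lit 31199005))))) (BT.node (nat_lit 10270147) (BT.node (nat_lit 10270144) (BT.node (nat_lit 10270080) (BT.leaf (nat_lit 47778841)) (BT.leaf (nat_lit 43582217))) (BT.node (nat_lit 10270146) (BT.leaf (nat_lit 43548421)) (BT.leaf (nat_lit 700752)))) (BT.node (nat_lit 10270208) (BT.node (nat_lit 10270148) (BT.leaf (nat_lit 700752)) (BT.leaf (nat_lit 700752))) (BT.node (nat_lit 10270272) (BT.leaf (nat_lit 29370401)) (BT.leaf (nat_lit 29370145)))))))))) (BT.node (nat_lit 10277958) (BT.node (nat_lit 10274304) (BT.node (nat_lit 10272256) (BT.node (nat_lit 10271232) (BT.node (nat_lit 10270720) (BT.node (nat_lit 10270593) (BT.node (nat_lit 10270464) (BT.node (nat_lit 10270400) (BT.leaf (nat_lit 39406601)) (BT.leaf (nat_lit 39406605))) (BT.node (nat_lit 10270528) (BT.leaf (nat_lit 39406617)) (BT.leaf (nat_lit 39406621)))) (BT.node (nat_lit 10270595) (BT.node (nat_lit 10270594) (BT.leaf (nat_lit 678464)) (BT.leaf (nat_lit 678464))) (BT.node (nat_lit 10270656) (BT.leaf (nat_lit 678464)) (BT.leaf (nat_lit 29360405))))) (BT.node (nat_lit 10270976) (BT.node (nat_lit 10270848) (BT.node (nat_lit 10270784) (BT.leaf (nat_lit 38979849)) (BT.leaf (nat_lit 38979853))) (BT.node (nat_lit 10270912) (BT.leaf (nat_lit 49616645)) (BT.leaf (nat_lit 38979865)))) (BT.node (nat_lit 10271104) (BT.node (nat_lit 10271040) (BT.leaf (nat_lit 38979869)) (BT.leaf (nat_lit 39347973))) (BT.node (nat_lit 10271168) (BT.leaf (nat_lit 40441093)) (BT.leaf (nat_lit 40449057)))))) (BT.node (nat_lit 10271744) (BT.node (nat_lit 10271488) (BT.node (nat_lit 10271360) (BT.node (nat_lit 10271296) (BT.leaf (nat_lit 29371665)) (BT.leaf (nat_lit 38053409))) (BT.node (nat_lit 10271424) (BT.leaf (nat_lit 39496473)) (BT.leaf (nat_lit 39496477)))) (BT.node (nat_lit 10271616) (BT.node (nat_lit 10271552) (BT.leaf (nat_lit 33839129)) (BT.leaf (nat_lit 38140689))) (BT.node (nat_lit 10271680) (BT.leaf (nat_lit 38140693)) (BT.leaf (nat_lit 29372445))))) (BT.node (nat_lit 10272000) (BT.node (nat_lit 10271872) (BT.node (nat_lit 10271808) (BT.leaf (nat_lit 33731101)) (BT.leaf (nat_lit 38140433))) (BT.node (nat_lit 10271936) (BT.leaf (nat_lit 38140437)) (BT.leaf (nat_lit 40449033)))) (BT.node (nat_lit 10272128) (BT.node (nat_lit 10272064) (BT.leaf (nat_lit 50840865)) (BT.leaf (nat_lit 34275865))) (BT.node (nat_lit 10272192) (BT.leaf (nat_lit 41090077)) (BT.leaf (nat_lit 29377045))))))) (BT.node (nat_lit 10273280) (BT.node (nat_lit 10272768) (BT.node (nat_lit 10272512) (BT.node (nat_lit 10272384) (BT.node (nat_lit 10272320) (BT.leaf (nat_lit 32742917)) (BT.leaf (nat_lit 47431705))) (BT.node (nat_lit 10272448) (BT.leaf (nat_lit 29376285)) (BT.leaf (nat_lit 33731357)))) (BT.node (nat_lit 10272640) (BT.node (nat_lit 10272576) (BT.leaf (nat_lit 29377813)) (BT.leaf (nat_lit 41090057))) (BT.node (nat_lit 10272704) (BT.leaf (nat_lit 30589457)) (BT.leaf (nat_lit 47011849))))) (BT.node (nat_lit 10273024) (BT.node (nat_lit 10272896) (BT.node (nat_lit 10272832) (BT.leaf (nat_lit 29376281)) (BT.leaf (nat_lit 48333845))) (BT.node (nat_lit 10272960) (BT.leaf (nat_lit 29376533)) (BT.leaf (nat_lit 33471001)))) (BT.node (nat_lit 10273152) (BT.node (nat_lit 10273088) (BT.leaf (nat_lit 49999637)) (BT.leaf (nat_lit 31259665))) (BT.node (nat_lit 10273216) (BT.leaf (nat_lit 33470989)) (BT.leaf (nat_lit 49182997)))))) (BT.node (nat_lit 10273792) (BT.node (nat_lit 10273536) (BT.node (nat_lit 10273408) (BT.node (nat_lit 10273344) (BT.leaf (nat_lit 27585045)) (BT.leaf (nat_lit 32842257))) (BT.node (nat_lit 10273472) (BT.leaf (nat_lit 29825809)) (BT.leaf (nat_lit 43649045)))) (BT.node (nat_lit 10273664) (BT.node (nat_lit 10273600) (BT.leaf (nat_lit 32691985)) (BT.leaf (nat_lit 39555353))) (BT.node (nat_lit 10273728) (BT.leaf (nat_lit 40511777)) (BT.leaf (nat_lit 47149573))))) (BT.node (nat_lit 10274048) (BT.node (nat_lit 10273920) (BT.node (nat_lit 10273856) (BT.leaf (nat_lit 32451853)) (BT.leaf (nat_lit 32451865))) (BT.node (nat_lit 10273984) (BT.leaf (nat_lit 32451869)) (BT.leaf (nat_lit 30724893)))) (BT.node (nat_lit 10274176) (BT.node (nat_lit 10274112) (BT.leaf (nat_lit 42987809)) (BT.leaf (nat_lit 41346057))) (BT.node (nat_lit 10274240) (BT.leaf (nat_lit 29380641)) (BT.leaf (nat_lit 30249229)))))))) (BT.node (nat_lit 10276032) (BT.node (nat_lit 10275200) (BT.node (nat_lit 10274816) (BT.node (nat_lit 10274560) (BT.node (nat_lit 10274432) (BT.node (nat_lit 10274368) (BT.leaf (nat_lit 30249233)) (BT.leaf (nat_lit 30249249))) (BT.node (nat_lit 10274496) (BT.leaf (nat_lit 42377501)) (BT.leaf (nat_lit 49268253)))) (BT.node (nat_lit 10274688) (BT.node (nat_lit 10274624) (BT.leaf (nat_lit 47015449)) (BT.leaf (nat_lit 46126597))) (BT.node (nat_lit 10274752) (BT.leaf (nat_lit 47015437)) (BT.leaf (nat_lit 42526485))))) (BT.node (nat_lit 10275072) (BT.node (nat_lit 10274944) (BT.node (nat_lit 10274880) (BT.leaf (nat_lit 42307077)) (BT.leaf (nat_lit 46215173))) (BT.node (nat_lit 10275008) (BT.leaf (nat_lit 39606789)) (BT.leaf (nat_lit 47171101)))) (BT.node (nat_lit 10275138) (BT.node (nat_lit 10275136) (BT.leaf (nat_lit 47171081)) (BT.leaf (nat_lit 43158297))) (BT.node (nat_lit 10275141) (BT.leaf (nat_lit 671648)) (BT.leaf (nat_lit 671648)))))) (BT.node (nat_lit 10275520) (BT.node (nat_lit 10275456) (BT.node (nat_lit 10275328) (BT.node (nat_lit 10275264) (BT.leaf (nat_lit 46931225)) (BT.leaf (nat_lit 40369929))) (BT.node (nat_lit 10275392) (BT.leaf (nat_lit 38311693)) (BT.leaf (nat_lit 38311957)))) (BT.node (nat_lit 10275460) (BT.node (nat_lit 10275458) (BT.leaf (nat_lit 38311705)) (BT.leaf (nat_lit 686176))) (BT.node (nat_lit 10275464) (BT.leaf (nat_lit 686176)) (BT.leaf (nat_lit 686176))))) (BT.node (nat_lit 10275776) (BT.node (nat_lit 10275648) (BT.node (nat_lit 10275584) (BT.leaf (nat_lit 46846725)) (BT.leaf (nat_lit 50448921))) (BT.node (nat_lit 10275712) (BT.leaf (nat_lit 30993953)) (BT.leaf (nat_lit 41103133)))) (BT.node (nat_lit 10275904) (BT.node (nat_lit 10275840) (BT.leaf (nat_lit 47167749)) (BT.leaf (nat_lit 40187681))) (BT.node (nat_lit 10275968) (BT.leaf (nat_lit 50658337)) (BT.leaf (nat_lit 38589721))))))) (BT.node (nat_lit 10277120) (BT.node (nat_lit 10276608) (BT.node (nat_lit 10276288) (BT.node (nat_lit 10276160) (BT.node (nat_lit 10276096) (BT.leaf (nat_lit 38589725)) (BT.leaf (nat_lit 47989781))) (BT.node (nat_lit 10276224) (BT.leaf (nat_lit 39328289)) (BT.leaf (nat_lit 44833057)))) (BT.node (nat_lit 10276416) (BT.node (nat_lit 10276352) (BT.leaf (nat_lit 41764869)) (BT.leaf (nat_lit 29754385))) (BT.node (nat_lit 10276480) (BT.leaf (nat_lit 32007441)) (BT.leaf (nat_lit 44179729))))) (BT.node (nat_lit 10276864) (BT.node (nat_lit 10276736) (BT.node (nat_lit 10276672) (BT.leaf (nat_lit 41769745)) (BT.leaf (nat_lit 41769749))) (BT.node (nat_lit 10276800) (BT.leaf (nat_lit 29444373)) (BT.leaf (nat_lit 34257953)))) (BT.node (nat_lit 10276992) (BT.node (nat_lit 10276928) (BT.leaf (nat_lit 31114513)) (BT.leaf (nat_lit 42460421))) (BT.node (nat_lit 10277056) (BT.leaf (nat_lit 31113749)) (BT.leaf (nat_lit 31417889)))))) (BT.node (nat_lit 10277632) (BT.node (nat_lit 10277376) (BT.node (nat_lit 10277248) (BT.node (nat_lit 10277184) (BT.leaf (nat_lit 41505029)) (BT.leaf (nat_lit 50183685))) (BT.node (nat_lit 10277312) (BT.leaf (nat_lit 29392645)) (BT.leaf (nat_lit 36996117)))) (BT.node (nat_lit 10277504) (BT.node (nat_lit 10277440) (BT.leaf (nat_lit 34296601)) (BT.leaf (nat_lit 34296605))) (BT.node (nat_lit 10277568) (BT.leaf (nat_lit 38034193)) (BT.leaf (nat_lit 39023121))))) (BT.node (nat_lit 10277888) (BT.node (nat_lit 10277760) (BT.node (nat_lit 10277696) (BT.leaf (nat_lit 30186773)) (BT.leaf (nat_lit 36851481))) (BT.node (nat_lit 10277824) (BT.leaf (nat_lit 36851485)) (BT.leaf (nat_lit 46089505)))) (BT.node (nat_lit 10277954) (BT.node (nat_lit 10277952) (BT.leaf (nat_lit 46086937)) (BT.leaf (nat_lit 30994965))) (BT.node (nat_lit 10277955) (BT.leaf (nat_lit 669112)) (BT.leaf (nat_lit 669112))))))))) (BT.node (nat_lit 10281856) (BT.node (nat_lit 10279876) (BT.node (nat_lit 10278976) (BT.node (nat_lit 10278400) (BT.node (nat_lit 10278144) (BT.node (nat_lit 10278016) (BT.node (nat_lit 10277959) (BT.leaf (nat_lit 669112)) (BT.leaf (nat_lit 669112))) (BT.node (nat_lit 10278080) (BT.leaf (nat_lit 43062789)) (BT.leaf (nat_lit 32599061)))) (BT.node (nat_lit 10278272) (BT.node (nat_lit 10278208) (BT.leaf (nat_lit 49490197)) (BT.leaf (nat_lit 48217369))) (BT.node (nat_lit 10278336) (BT.leaf (nat_lit 42079261)) (BT.leaf (nat_lit 27524113))))) (BT.node (nat_lit 10278720) (BT.node (nat_lit 10278528) (BT.node (nat_lit 10278464) (BT.leaf (nat_lit 49402909)) (BT.leaf (nat_lit 48217353))) (BT.node (nat_lit 10278656) (BT.leaf (nat_lit 44110597)) (BT.leaf (nat_lit 40552981)))) (BT.node (nat_lit 10278848) (BT.node (nat_lit 10278784) (BT.leaf (nat_lit 32694021)) (BT.leaf (nat_lit 41203733))) (BT.node (nat_lit 10278912) (BT.leaf (nat_lit 29388561)) (BT.leaf (nat_lit 29388305)))))) (BT.node (nat_lit 10279424) (BT.node (nat_lit 10279168) (BT.node (nat_lit 10279104) (BT.node (nat_lit 10279040) (BT.leaf (nat_lit 29388049)) (BT.leaf (nat_lit 38389273))) (BT.node (nat_lit 10279109) (BT.leaf (nat_lit 33420305)) (BT.leaf (nat_lit 781396)))) (BT.node (nat_lit 10279296) (BT.node (nat_lit 10279232) (BT.leaf (nat_lit 38191369)) (BT.leaf (nat_lit 28750865))) (BT.node (nat_lit 10279360) (BT.leaf (nat_lit 29389585)) (BT.leaf (nat_lit 48444961))))) (BT.node (nat_lit 10279680) (BT.node (nat_lit 10279552) (BT.node (nat_lit 10279488) (BT.leaf (nat_lit 30768409)) (BT.leaf (nat_lit 35238405))) (BT.node (nat_lit 10279616) (BT.leaf (nat_lit 45800469)) (BT.leaf (nat_lit 31193093)))) (BT.node (nat_lit 10279808) (BT.node (nat_lit 10279744) (BT.leaf (nat_lit 48358661)) (BT.leaf (nat_lit 41743637))) (BT.node (nat_lit 10279872) (BT.leaf (nat_lit 39575305)) (BT.leaf (nat_lit 34397201))))))) (BT.node (nat_lit 10280832) (BT.node (nat_lit 10280320) (BT.node (nat_lit 10280064) (BT.node (nat_lit 10279936) (BT.node (nat_lit 10279877) (BT.leaf (nat_lit 666148)) (BT.leaf (nat_lit 666148))) (BT.node (nat_lit 10280000) (BT.leaf (nat_lit 42507793)) (BT.leaf (nat_lit 42507797)))) (BT.node (nat_lit 10280192) (BT.node (nat_lit 10280128) (BT.leaf (nat_lit 45115929)) (BT.leaf (nat_lit 45764113))) (BT.node (nat_lit 10280256) (BT.leaf (nat_lit 42533645)) (BT.leaf (nat_lit 47170577))))) (BT.node (nat_lit 10280576) (BT.node (nat_lit 10280448) (BT.node (nat_lit 10280384) (BT.leaf (nat_lit 29390613)) (BT.leaf (nat_lit 32693509))) (BT.node (nat_lit 10280512) (BT.leaf (nat_lit 41732629)) (BT.leaf (nat_lit 31137297)))) (BT.node (nat_lit 10280704) (BT.node (nat_lit 10280640) (BT.leaf (nat_lit 32694277)) (BT.leaf (nat_lit 32963857))) (BT.node (nat_lit 10280768) (BT.leaf (nat_lit 43499289)) (BT.leaf (nat_lit 45382669)))))) (BT.node (nat_lit 10281344) (BT.node (nat_lit 10281088) (BT.node (nat_lit 10280960) (BT.node (nat_lit 10280896) (BT.leaf (nat_lit 43094021)) (BT.leaf (nat_lit 43094297))) (BT.node (nat_lit 10281024) (BT.leaf (nat_lit 32899349)) (BT.leaf (nat_lit 32899361)))) (BT.node (nat_lit 10281216) (BT.node (nat_lit 10281152) (BT.leaf (nat_lit 29391897)) (BT.leaf (nat_lit 40937489))) (BT.node (nat_lit 10281280) (BT.leaf (nat_lit 40937493)) (BT.leaf (nat_lit 32899617))))) (BT.node (nat_lit 10281600) (BT.node (nat_lit 10281472) (BT.node (nat_lit 10281408) (BT.leaf (nat_lit 30287121)) (BT.leaf (nat_lit 41125917))) (BT.node (nat_lit 10281536) (BT.leaf (nat_lit 33975057)) (BT.leaf (nat_lit 32967193)))) (BT.node (nat_lit 10281728) (BT.node (nat_lit 10281664) (BT.leaf (nat_lit 51748381)) (BT.leaf (nat_lit 48849181))) (BT.node (nat_lit 10281792) (BT.leaf (nat_lit 37972241)) (BT.leaf (nat_lit 43095829)))))))) (BT.node (nat_lit 10283456) (BT.node (nat_lit 10282560) (BT.node (nat_lit 10282178) (BT.node (nat_lit 10281991) (BT.node (nat_lit 10281984) (BT.node (nat_lit 10281920) (BT.leaf (nat_lit 47438873)) (BT.leaf (nat_lit 42991621))) (BT.node (nat_lit 10281990) (BT.leaf (nat_lit 45269537)) (BT.leaf (nat_lit 671756)))) (BT.node (nat_lit 10282112) (BT.node (nat_lit 10282048) (BT.leaf (nat_lit 671756)) (BT.leaf (nat_lit 42991629))) (BT.node (nat_lit 10282177) (BT.leaf (nat_lit 42991389)) (BT.leaf (nat_lit 671740))))) (BT.node (nat_lit 10282304) (BT.node (nat_lit 10282184) (BT.node (nat_lit 10282179) (BT.leaf (nat_lit 671740)) (BT.leaf (nat_lit 671740))) (BT.node (nat_lit 10282240) (BT.leaf (nat_lit 671740)) (BT.leaf (nat_lit 30541061)))) (BT.node (nat_lit 10282432) (BT.node (nat_lit 10282368) (BT.leaf (nat_lit 29394461)) (BT.leaf (nat_lit 42987785))) (BT.node (nat_lit 10282496) (BT.leaf (nat_lit 37705245)) (BT.leaf (nat_lit 38220065)))))) (BT.node (nat_lit 10282944) (BT.node (nat_lit 10282688) (BT.node (nat_lit 10282627) (BT.node (nat_lit 10282624) (BT.leaf (nat_lit 39768097)) (BT.leaf (nat_lit 38975237))) (BT.node (nat_lit 10282629) (BT.leaf (nat_lit 706728)) (BT.leaf (nat_lit 706728)))) (BT.node (nat_lit 10282816) (BT.node (nat_lit 10282752) (BT.leaf (nat_lit 47985173)) (BT.leaf (nat_lit 41751557))) (BT.node (nat_lit 10282880) (BT.leaf (nat_lit 37946905)) (BT.leaf (nat_lit 49404421))))) (BT.node (nat_lit 10283200) (BT.node (nat_lit 10283072) (BT.node (nat_lit 10283008) (BT.leaf (nat_lit 47103001)) (BT.leaf (nat_lit 30071309))) (BT.node (nat_lit 10283136) (BT.leaf (nat_lit 29733653)) (BT.leaf (nat_lit 30071321)))) (BT.node (nat_lit 10283328) (BT.node (nat_lit 10283264) (BT.leaf (nat_lit 50679557)) (BT.leaf (nat_lit 48395797))) (BT.node (nat_lit 10283392) (BT.leaf (nat_lit 29396241)) (BT.leaf (nat_lit 28784913))))))) (BT.node (nat_lit 10284352) (BT.node (nat_lit 10283840) (BT.node (nat_lit 10283584) (BT.node (nat_lit 10283522) (BT.node (nat_lit 10283520) (BT.leaf (nat_lit 29733657)) (BT.leaf (nat_lit 31093525))) (BT.node (nat_lit 10283523) (BT.leaf (nat_lit 744420)) (BT.leaf (nat_lit 744420)))) (BT.node (nat_lit 10283712) (BT.node (nat_lit 10283648) (BT.leaf (nat_lit 29400325)) (BT.leaf (nat_lit 33751829))) (BT.node (nat_lit 10283776) (BT.leaf (nat_lit 41138693)) (BT.leaf (nat_lit 32701701))))) (BT.node (nat_lit 10284096) (BT.node (nat_lit 10283968) (BT.node (nat_lit 10283904) (BT.leaf (nat_lit 32701189)) (BT.leaf (nat_lit 44069141))) (BT.node (nat_lit 10284032) (BT.leaf (nat_lit 41141509)) (BT.leaf (nat_lit 29397765)))) (BT.node (nat_lit 10284224) (BT.node (nat_lit 10284160) (BT.leaf (nat_lit 32159497)) (BT.leaf (nat_lit 46652949))) (BT.node (nat_lit 10284288) (BT.leaf (nat_lit 32159509)) (BT.leaf (nat_lit 41137437)))))) (BT.node (nat_lit 10284800) (BT.node (nat_lit 10284551) (BT.node (nat_lit 10284480) (BT.node (nat_lit 10284416) (BT.leaf (nat_lit 46652693)) (BT.leaf (nat_lit 32159521))) (BT.node (nat_lit 10284550) (BT.leaf (nat_lit 40138521)) (BT.leaf (nat_lit 688520)))) (BT.node (nat_lit 10284672) (BT.node (nat_lit 10284608) (BT.leaf (nat_lit 688520)) (BT.leaf (nat_lit 49582097))) (BT.node (nat_lit 10284736) (BT.leaf (nat_lit 39099673)) (BT.leaf (nat_lit 29400581))))) (BT.node (nat_lit 10285056) (BT.node (nat_lit 10284928) (BT.node (nat_lit 10284864) (BT.leaf (nat_lit 44835845)) (BT.leaf (nat_lit 44814865))) (BT.node (nat_lit 10284992) (BT.leaf (nat_lit 29401349)) (BT.leaf (nat_lit 28794897)))) (BT.node (nat_lit 10285184) (BT.node (nat_lit 10285120) (BT.leaf (nat_lit 28791057)) (BT.leaf (nat_lit 41150213))) (BT.node (nat_lit 10285248) (BT.leaf (nat_lit 29401605)) (BT.leaf (nat_lit 29397793))))))))))) (BT.node (nat_lit 10300352) (BT.node (nat_lit 10292800) (BT.node (nat_lit 10288896) (BT.node (nat_lit 10286918) (BT.node (nat_lit 10286208) (BT.node (nat_lit 10285824) (BT.node (nat_lit 10285568) (BT.node (nat_lit 10285440) (BT.node (nat_lit 10285376) (BT.leaf (nat_lit 29397537)) (BT.leaf (nat_lit 30254873))) (BT.node (nat_lit 10285504) (BT.leaf (nat_lit 30254877)) (BT.leaf (nat_lit 34080521)))) (BT.node (nat_lit 10285696) (BT.node (nat_lit 10285632) (BT.leaf (nat_lit 34080525)) (BT.leaf (nat_lit 34080537))) (BT.node (nat_lit 10285760) (BT.leaf (nat_lit 31027989)) (BT.leaf (nat_lit 41143325))))) (BT.node (nat_lit 10285952) (BT.node (nat_lit 10285829) (BT.node (nat_lit 10285828) (BT.leaf (nat_lit 27923477)) (BT.leaf (nat_lit 658536))) (BT.node (nat_lit 10285888) (BT.leaf (nat_lit 658536)) (BT.leaf (nat_lit 38646537)))) (BT.node (nat_lit 10286080) (BT.node (nat_lit 10286016) (BT.leaf (nat_lit 38646541)) (BT.leaf (nat_lit 39770133))) (BT.node (nat_lit 10286144) (BT.leaf (nat_lit 38646553)) (BT.leaf (nat_lit 38646557)))))) (BT.node (nat_lit 10286656) (BT.node (nat_lit 10286400) (BT.node (nat_lit 10286336) (BT.node (nat_lit 10286272) (BT.leaf (nat_lit 45629461)) (BT.leaf (nat_lit 29401093))) (BT.node (nat_lit 10286342) (BT.leaf (nat_lit 31519765)) (BT.leaf (nat_lit 681628)))) (BT.node (nat_lit 10286528) (BT.node (nat_lit 10286464) (BT.leaf (nat_lit 29400837)) (BT.leaf (nat_lit 29400081))) (BT.node (nat_lit 10286592) (BT.leaf (nat_lit 29401633)) (BT.leaf (nat_lit 41638665))))) (BT.node (nat_lit 10286856) (BT.node (nat_lit 10286784) (BT.node (nat_lit 10286720) (BT.leaf (nat_lit 40941837)) (BT.leaf (nat_lit 40134165))) (BT.node (nat_lit 10286848) (BT.leaf (nat_lit 40251681)) (BT.leaf (nat_lit 40297493)))) (BT.node (nat_lit 10286913) (BT.node (nat_lit 10286912) (BT.leaf (nat_lit 700548)) (BT.leaf (nat_lit 29400337))) (BT.node (nat_lit 10286917) (BT.leaf (nat_lit 707808)) (BT.leaf (nat_lit 707808))))))) (BT.node (nat_lit 10287872) (BT.node (nat_lit 10287360) (BT.node (nat_lit 10287104) (BT.node (nat_lit 10286976) (BT.node (nat_lit 10286919) (BT.leaf (nat_lit 707808)) (BT.leaf (nat_lit 707808))) (BT.node (nat_lit 10287040) (BT.leaf (nat_lit 41638681)) (BT.leaf (nat_lit 40941829)))) (BT.node (nat_lit 10287232) (BT.node (nat_lit 10287168) (BT.leaf (nat_lit 40941841)) (BT.leaf (nat_lit 29401373))) (BT.node (nat_lit 10287296) (BT.leaf (nat_lit 29400353)) (BT.leaf (nat_lit 29400609))))) (BT.node (nat_lit 10287616) (BT.node (nat_lit 10287488) (BT.node (nat_lit 10287424) (BT.leaf (nat_lit 39346189)) (BT.leaf (nat_lit 39346193))) (BT.node (nat_lit 10287552) (BT.leaf (nat_lit 46843921)) (BT.leaf (nat_lit 40297497)))) (BT.node (nat_lit 10287744) (BT.node (nat_lit 10287680) (BT.leaf (nat_lit 40297501)) (BT.leaf (nat_lit 45107717))) (BT.node (nat_lit 10287808) (BT.leaf (nat_lit 45629465)) (BT.leaf (nat_lit 39265301)))))) (BT.node (nat_lit 10288384) (BT.node (nat_lit 10288128) (BT.node (nat_lit 10288000) (BT.node (nat_lit 10287936) (BT.leaf (nat_lit 32777737)) (BT.leaf (nat_lit 32777741))) (BT.node (nat_lit 10288064) (BT.leaf (nat_lit 32777753)) (BT.leaf (nat_lit 32777757)))) (BT.node (nat_lit 10288256) (BT.node (nat_lit 10288192) (BT.leaf (nat_lit 31660053)) (BT.leaf (nat_lit 48522265))) (BT.node (nat_lit 10288320) (BT.leaf (nat_lit 42583305)) (BT.leaf (nat_lit 29402889))))) (BT.node (nat_lit 10288640) (BT.node (nat_lit 10288512) (BT.node (nat_lit 10288448) (BT.leaf (nat_lit 28793109)) (BT.leaf (nat_lit 33521673))) (BT.node (nat_lit 10288576) (BT.leaf (nat_lit 31734797)) (BT.leaf (nat_lit 34598937)))) (BT.node (nat_lit 10288768) (BT.node (nat_lit 10288704) (BT.leaf (nat_lit 31577873)) (BT.leaf (nat_lit 31734813))) (BT.node (nat_lit 10288832) (BT.leaf (nat_lit 34598945)) (BT.leaf (nat_lit 48877345)))))))) (BT.node (nat_lit 10290816) (BT.node (nat_lit 10289792) (BT.node (nat_lit 10289288) (BT.node (nat_lit 10289152) (BT.node (nat_lit 10289024) (BT.node (nat_lit 10288960) (BT.leaf (nat_lit 29403925)) (BT.leaf (nat_lit 49334809))) (BT.node (nat_lit 10289088) (BT.leaf (nat_lit 29403413)) (BT.leaf (nat_lit 42834189)))) (BT.node (nat_lit 10289282) (BT.node (nat_lit 10289216) (BT.leaf (nat_lit 38172445)) (BT.leaf (nat_lit 47442973))) (BT.node (nat_lit 10289285) (BT.leaf (nat_lit 679972)) (BT.leaf (nat_lit 693640))))) (BT.node (nat_lit 10289536) (BT.node (nat_lit 10289408) (BT.node (nat_lit 10289344) (BT.leaf (nat_lit 693640)) (BT.leaf (nat_lit 30970645))) (BT.node (nat_lit 10289472) (BT.leaf (nat_lit 31267605)) (BT.leaf (nat_lit 31981081)))) (BT.node (nat_lit 10289664) (BT.node (nat_lit 10289600) (BT.leaf (nat_lit 31981085)) (BT.leaf (nat_lit 29404433))) (BT.node (nat_lit 10289728) (BT.leaf (nat_lit 27522329)) (BT.leaf (nat_lit 31261205)))))) (BT.node (nat_lit 10290304) (BT.node (nat_lit 10290048) (BT.node (nat_lit 10289920) (BT.node (nat_lit 10289856) (BT.leaf (nat_lit 34953249)) (BT.leaf (nat_lit 29412625))) (BT.node (nat_lit 10289984) (BT.leaf (nat_lit 44007961)) (BT.leaf (nat_lit 45868309)))) (BT.node (nat_lit 10290176) (BT.node (nat_lit 10290112) (BT.leaf (nat_lit 37631769)) (BT.leaf (nat_lit 41162785))) (BT.node (nat_lit 10290240) (BT.leaf (nat_lit 38401285)) (BT.leaf (nat_lit 34267677))))) (BT.node (nat_lit 10290560) (BT.node (nat_lit 10290432) (BT.node (nat_lit 10290368) (BT.leaf (nat_lit 47086357)) (BT.leaf (nat_lit 31907861))) (BT.node (nat_lit 10290496) (BT.leaf (nat_lit 38398733)) (BT.leaf (nat_lit 38398469)))) (BT.node (nat_lit 10290688) (BT.node (nat_lit 10290624) (BT.leaf (nat_lit 41162009)) (BT.leaf (nat_lit 38398481))) (BT.node (nat_lit 10290752) (BT.leaf (nat_lit 44252421)) (BT.leaf (nat_lit 44252705))))))) (BT.node (nat_lit 10291776) (BT.node (nat_lit 10291328) (BT.node (nat_lit 10291072) (BT.node (nat_lit 10290944) (BT.node (nat_lit 10290880) (BT.leaf (nat_lit 43986705)) (BT.leaf (nat_lit 30654489))) (BT.node (nat_lit 10291008) (BT.leaf (nat_lit 41166369)) (BT.leaf (nat_lit 39003929)))) (BT.node (nat_lit 10291200) (BT.node (nat_lit 10291136) (BT.leaf (nat_lit 48192789)) (BT.leaf (nat_lit 46918677))) (BT.node (nat_lit 10291264) (BT.leaf (nat_lit 35653393)) (BT.leaf (nat_lit 29200645))))) (BT.node (nat_lit 10291520) (BT.node (nat_lit 10291393) (BT.node (nat_lit 10291392) (BT.leaf (nat_lit 29409045)) (BT.leaf (nat_lit 31518481))) (BT.node (nat_lit 10291456) (BT.leaf (nat_lit 741360)) (BT.leaf (nat_lit 29408545)))) (BT.node (nat_lit 10291648) (BT.node (nat_lit 10291584) (BT.leaf (nat_lit 49366293)) (BT.leaf (nat_lit 40503045))) (BT.node (nat_lit 10291712) (BT.leaf (nat_lit 28488989)) (BT.leaf (nat_lit 43228949)))))) (BT.node (nat_lit 10292288) (BT.node (nat_lit 10292032) (BT.node (nat_lit 10291904) (BT.node (nat_lit 10291840) (BT.leaf (nat_lit 40107269)) (BT.leaf (nat_lit 39175449))) (BT.node (nat_lit 10291968) (BT.leaf (nat_lit 39175453)) (BT.leaf (nat_lit 29410069)))) (BT.node (nat_lit 10292160) (BT.node (nat_lit 10292096) (BT.leaf (nat_lit 41168397)) (BT.leaf (nat_lit 47083797))) (BT.node (nat_lit 10292224) (BT.leaf (nat_lit 29849369)) (BT.leaf (nat_lit 29849373))))) (BT.node (nat_lit 10292544) (BT.node (nat_lit 10292416) (BT.node (nat_lit 10292352) (BT.leaf (nat_lit 29849377)) (BT.leaf (nat_lit 29410833))) (BT.node (nat_lit 10292480) (BT.leaf (nat_lit 43065349)) (BT.leaf (nat_lit 49584133)))) (BT.node (nat_lit 10292672) (BT.node (nat_lit 10292608) (BT.leaf (nat_lit 32705797)) (BT.leaf (nat_lit 37842465))) (BT.node (nat_lit 10292736) (BT.leaf (nat_lit 29411601)) (BT.leaf (nat_lit 43129881))))))))) (BT.node (nat_lit 10296768) (BT.node (nat_lit 10294784) (BT.node (nat_lit 10293824) (BT.node (nat_lit 10293312) (BT.node (nat_lit 10293056) (BT.node (nat_lit 10292928) (BT.node (nat_lit 10292864) (BT.leaf (nat_lit 30696197)) (BT.leaf (nat_lit 29413137))) (BT.node (nat_lit 10292992) (BT.leaf (nat_lit 29412881)) (BT.leaf (nat_lit 30696221)))) (BT.node (nat_lit 10293184) (BT.node (nat_lit 10293120) (BT.leaf (nat_lit 42523165)) (BT.leaf (nat_lit 38242833))) (BT.node (nat_lit 10293248) (BT.leaf (nat_lit 43248417)) (BT.leaf (nat_lit 46449945))))) (BT.node (nat_lit 10293568) (BT.node (nat_lit 10293440) (BT.node (nat_lit 10293376) (BT.leaf (nat_lit 38573329)) (BT.leaf (nat_lit 33507593))) (BT.node (nat_lit 10293504) (BT.leaf (nat_lit 34953241)) (BT.leaf (nat_lit 40930825)))) (BT.node (nat_lit 10293696) (BT.node (nat_lit 10293632) (BT.leaf (nat_lit 40226065)) (BT.leaf (nat_lit 40226081))) (BT.node (nat_lit 10293760) (BT.leaf (nat_lit 40930081)) (BT.leaf (nat_lit 29414177)))))) (BT.node (nat_lit 10294336) (BT.node (nat_lit 10294080) (BT.node (nat_lit 10293952) (BT.node (nat_lit 10293888) (BT.leaf (nat_lit 43232269)) (BT.leaf (nat_lit 32187421))) (BT.node (nat_lit 10294016) (BT.leaf (nat_lit 31255829)) (BT.leaf (nat_lit 46581281)))) (BT.node (nat_lit 10294208) (BT.node (nat_lit 10294144) (BT.leaf (nat_lit 30194457)) (BT.leaf (nat_lit 30194461))) (BT.node (nat_lit 10294272) (BT.leaf (nat_lit 28759057)) (BT.leaf (nat_lit 29415441))))) (BT.node (nat_lit 10294592) (BT.node (nat_lit 10294464) (BT.node (nat_lit 10294400) (BT.leaf (nat_lit 29898777)) (BT.leaf (nat_lit 49585441))) (BT.node (nat_lit 10294528) (BT.leaf (nat_lit 37754901)) (BT.leaf (nat_lit 49320981)))) (BT.node (nat_lit 10294661) (BT.node (nat_lit 10294656) (BT.leaf (nat_lit 49684505)) (BT.leaf (nat_lit 45387789))) (BT.node (nat_lit 10294720) (BT.leaf (nat_lit 773364)) (BT.leaf (nat_lit 32604949))))))) (BT.node (nat_lit 10295744) (BT.node (nat_lit 10295296) (BT.node (nat_lit 10295040) (BT.node (nat_lit 10294912) (BT.node (nat_lit 10294848) (BT.leaf (nat_lit 29913885)) (BT.leaf (nat_lit 40079125))) (BT.node (nat_lit 10294976) (BT.leaf (nat_lit 43927585)) (BT.leaf (nat_lit 45094937)))) (BT.node (nat_lit 10295168) (BT.node (nat_lit 10295104) (BT.leaf (nat_lit 34087445)) (BT.leaf (nat_lit 51967749))) (BT.node (nat_lit 10295232) (BT.leaf (nat_lit 50547729)) (BT.leaf (nat_lit 50174241))))) (BT.node (nat_lit 10295552) (BT.node (nat_lit 10295424) (BT.node (nat_lit 10295360) (BT.leaf (nat_lit 48394765)) (BT.leaf (nat_lit 33028101))) (BT.node (nat_lit 10295488) (BT.leaf (nat_lit 47091725)) (BT.leaf (nat_lit 47485717)))) (BT.node (nat_lit 10295616) (BT.node (nat_lit 10295557) (BT.leaf (nat_lit 41181977)) (BT.leaf (nat_lit 678300))) (BT.node (nat_lit 10295680) (BT.leaf (nat_lit 35677461)) (BT.leaf (nat_lit 33760781)))))) (BT.node (nat_lit 10296256) (BT.node (nat_lit 10296000) (BT.node (nat_lit 10295872) (BT.node (nat_lit 10295808) (BT.leaf (nat_lit 48573217)) (BT.leaf (nat_lit 50645281))) (BT.node (nat_lit 10295936) (BT.leaf (nat_lit 41187353)) (BT.leaf (nat_lit 49360397)))) (BT.node (nat_lit 10296128) (BT.node (nat_lit 10296064) (BT.leaf (nat_lit 47452681)) (BT.leaf (nat_lit 29421073))) (BT.node (nat_lit 10296192) (BT.leaf (nat_lit 29420817)) (BT.leaf (nat_lit 29420561))))) (BT.node (nat_lit 10296512) (BT.node (nat_lit 10296384) (BT.node (nat_lit 10296320) (BT.leaf (nat_lit 29420565)) (BT.leaf (nat_lit 50195477))) (BT.node (nat_lit 10296448) (BT.leaf (nat_lit 30052113)) (BT.leaf (nat_lit 30052129)))) (BT.node (nat_lit 10296640) (BT.node (nat_lit 10296576) (BT.leaf (nat_lit 29421585)) (BT.leaf (nat_lit 29421329))) (BT.node (nat_lit 10296704) (BT.leaf (nat_lit 43188501)) (BT.leaf (nat_lit 41182749)))))))) (BT.node (nat_lit 10298562) (BT.node (nat_lit 10297664) (BT.node (nat_lit 10297280) (BT.node (nat_lit 10297024) (BT.node (nat_lit 10296896) (BT.node (nat_lit 10296832) (BT.leaf (nat_lit 33760797)) (BT.leaf (nat_lit 33760777))) (BT.node (nat_lit 10296960) (BT.leaf (nat_lit 30362401)) (BT.leaf (nat_lit 41178373)))) (BT.node (nat_lit 10297152) (BT.node (nat_lit 10297088) (BT.leaf (nat_lit 27610133)) (BT.leaf (nat_lit 29421849))) (BT.node (nat_lit 10297216) (BT.leaf (nat_lit 40234261)) (BT.leaf (nat_lit 45354245))))) (BT.node (nat_lit 10297472) (BT.node (nat_lit 10297344) (BT.node (nat_lit 10297285) (BT.leaf (nat_lit 29422097)) (BT.leaf (nat_lit 649312))) (BT.node (nat_lit 10297408) (BT.leaf (nat_lit 29424657)) (BT.leaf (nat_lit 42518549)))) (BT.node (nat_lit 10297602) (BT.node (nat_lit 10297536) (BT.leaf (nat_lit 29423889)) (BT.leaf (nat_lit 42211589))) (BT.node (nat_lit 10297603) (BT.leaf (nat_lit 790736)) (BT.leaf (nat_lit 790736)))))) (BT.node (nat_lit 10298112) (BT.node (nat_lit 10297920) (BT.node (nat_lit 10297792) (BT.node (nat_lit 10297728) (BT.leaf (nat_lit 29423633)) (BT.leaf (nat_lit 48463893))) (BT.node (nat_lit 10297856) (BT.leaf (nat_lit 29617941)) (BT.leaf (nat_lit 45112333)))) (BT.node (nat_lit 10297984) (BT.node (nat_lit 10297923) (BT.leaf (nat_lit 43669517)) (BT.leaf (nat_lit 805744))) (BT.node (nat_lit 10298048) (BT.leaf (nat_lit 48463645)) (BT.leaf (nat_lit 28962069))))) (BT.node (nat_lit 10298368) (BT.node (nat_lit 10298240) (BT.node (nat_lit 10298176) (BT.leaf (nat_lit 40103189)) (BT.leaf (nat_lit 39573257))) (BT.node (nat_lit 10298304) (BT.leaf (nat_lit 45354017)) (BT.leaf (nat_lit 31486229)))) (BT.node (nat_lit 10298496) (BT.node (nat_lit 10298432) (BT.leaf (nat_lit 42730265)) (BT.leaf (nat_lit 39310869))) (BT.node (nat_lit 10298560) (BT.leaf (nat_lit 49587461)) (BT.leaf (nat_lit 43034889))))))) (BT.node (nat_lit 10299392) (BT.node (nat_lit 10298880) (BT.node (nat_lit 10298624) (BT.node (nat_lit 10298565) (BT.node (nat_lit 10298564) (BT.leaf (nat_lit 672412)) (BT.leaf (nat_lit 672412))) (BT.node (nat_lit 10298568) (BT.leaf (nat_lit 672412)) (BT.leaf (nat_lit 672412)))) (BT.node (nat_lit 10298752) (BT.node (nat_lit 10298688) (BT.leaf (nat_lit 45431321)) (BT.leaf (nat_lit 30431761))) (BT.node (nat_lit 10298816) (BT.leaf (nat_lit 42517277)) (BT.leaf (nat_lit 31949589))))) (BT.node (nat_lit 10299136) (BT.node (nat_lit 10299008) (BT.node (nat_lit 10298944) (BT.leaf (nat_lit 31949597)) (BT.leaf (nat_lit 42787845))) (BT.node (nat_lit 10299072) (BT.leaf (nat_lit 29424921)) (BT.leaf (nat_lit 29424925)))) (BT.node (nat_lit 10299264) (BT.node (nat_lit 10299200) (BT.leaf (nat_lit 42522401)) (BT.leaf (nat_lit 29426449))) (BT.node (nat_lit 10299328) (BT.leaf (nat_lit 29425937)) (BT.leaf (nat_lit 29425169)))))) (BT.node (nat_lit 10299840) (BT.node (nat_lit 10299588) (BT.node (nat_lit 10299520) (BT.node (nat_lit 10299456) (BT.leaf (nat_lit 29425425)) (BT.leaf (nat_lit 29426961))) (BT.node (nat_lit 10299584) (BT.leaf (nat_lit 28770321)) (BT.leaf (nat_lit 44435989)))) (BT.node (nat_lit 10299712) (BT.node (nat_lit 10299648) (BT.leaf (nat_lit 654528)) (BT.leaf (nat_lit 29426705))) (BT.node (nat_lit 10299776) (BT.leaf (nat_lit 29427985)) (BT.leaf (nat_lit 33761809))))) (BT.node (nat_lit 10300096) (BT.node (nat_lit 10299968) (BT.node (nat_lit 10299904) (BT.leaf (nat_lit 47175705)) (BT.leaf (nat_lit 29427481))) (BT.node (nat_lit 10300032) (BT.leaf (nat_lit 44013077)) (BT.leaf (nat_lit 37927957)))) (BT.node (nat_lit 10300224) (BT.node (nat_lit 10300160) (BT.leaf (nat_lit 45690649)) (BT.leaf (nat_lit 32280341))) (BT.node (nat_lit 10300288) (BT.leaf (nat_lit 39953689)) (BT.leaf (nat_lit 39953693)))))))))) (BT.node (nat_lit 10308096) (BT.node (nat_lit 10304064) (BT.node (nat_lit 10302080) (BT.node (nat_lit 10301124) (BT.node (nat_lit 10300736) (BT.node (nat_lit 10300480) (BT.node (nat_lit 10300416) (BT.node (nat_lit 10300356) (BT.leaf (nat_lit 38426897)) (BT.leaf (nat_lit 698244))) (BT.node (nat_lit 10300424) (BT.leaf (nat_lit 48492293)) (BT.leaf (nat_lit 760892)))) (BT.node (nat_lit 10300608) (BT.node (nat_lit 10300544) (BT.leaf (nat_lit 39838745)) (BT.leaf (nat_lit 29432337))) (BT.node (nat_lit 10300672) (BT.leaf (nat_lit 44856069)) (BT.leaf (nat_lit 35351825))))) (BT.node (nat_lit 10300992) (BT.node (nat_lit 10300864) (BT.node (nat_lit 10300800) (BT.leaf (nat_lit 29436449)) (BT.leaf (nat_lit 39959813))) (BT.node (nat_lit 10300928) (BT.leaf (nat_lit 33495045)) (BT.leaf (nat_lit 29435425)))) (BT.node (nat_lit 10301064) (BT.node (nat_lit 10301056) (BT.leaf (nat_lit 38510345)) (BT.leaf (nat_lit 39040517))) (BT.node (nat_lit 10301120) (BT.leaf (nat_lit 710212)) (BT.leaf (nat_lit 45453857)))))) (BT.node (nat_lit 10301568) (BT.node (nat_lit 10301313) (BT.node (nat_lit 10301248) (BT.node (nat_lit 10301184) (BT.leaf (nat_lit 714644)) (BT.leaf (nat_lit 28482333))) (BT.node (nat_lit 10301312) (BT.leaf (nat_lit 29433873)) (BT.leaf (nat_lit 43550237)))) (BT.node (nat_lit 10301440) (BT.node (nat_lit 10301376) (BT.leaf (nat_lit 697320)) (BT.leaf (nat_lit 45638689))) (BT.node (nat_lit 10301504) (BT.leaf (nat_lit 30569993)) (BT.leaf (nat_lit 30569997))))) (BT.node (nat_lit 10301824) (BT.node (nat_lit 10301696) (BT.node (nat_lit 10301632) (BT.leaf (nat_lit 33763349)) (BT.leaf (nat_lit 30570009))) (BT.node (nat_lit 10301760) (BT.leaf (nat_lit 48261381)) (BT.leaf (nat_lit 46851093)))) (BT.node (nat_lit 10301952) (BT.node (nat_lit 10301888) (BT.leaf (nat_lit 29435401)) (BT.leaf (nat_lit 33473289))) (BT.node (nat_lit 10302016) (BT.leaf (nat_lit 39652877)) (BT.leaf (nat_lit 51293705))))))) (BT.node (nat_lit 10303040) (BT.node (nat_lit 10302528) (BT.node (nat_lit 10302336) (BT.node (nat_lit 10302208) (BT.node (nat_lit 10302144) (BT.leaf (nat_lit 39040273)) (BT.leaf (nat_lit 39040289))) (BT.node (nat_lit 10302272) (BT.leaf (nat_lit 39040801)) (BT.leaf (nat_lit 29435169)))) (BT.node (nat_lit 10302405) (BT.node (nat_lit 10302400) (BT.leaf (nat_lit 39152913)) (BT.leaf (nat_lit 29435681))) (BT.node (nat_lit 10302464) (BT.leaf (nat_lit 663440)) (BT.leaf (nat_lit 48439073))))) (BT.node (nat_lit 10302784) (BT.node (nat_lit 10302656) (BT.node (nat_lit 10302592) (BT.leaf (nat_lit 29436185)) (BT.leaf (nat_lit 32437265))) (BT.node (nat_lit 10302720) (BT.leaf (nat_lit 29436189)) (BT.leaf (nat_lit 45857813)))) (BT.node (nat_lit 10302912) (BT.node (nat_lit 10302848) (BT.leaf (nat_lit 29433097)) (BT.leaf (nat_lit 29436429))) (BT.node (nat_lit 10302976) (BT.leaf (nat_lit 28637981)) (BT.leaf (nat_lit 29437193)))))) (BT.node (nat_lit 10303552) (BT.node (nat_lit 10303296) (BT.node (nat_lit 10303168) (BT.node (nat_lit 10303104) (BT.leaf (nat_lit 29433101)) (BT.leaf (nat_lit 29436425))) (BT.node (nat_lit 10303232) (BT.leaf (nat_lit 28638473)) (BT.leaf (nat_lit 29437197)))) (BT.node (nat_lit 10303424) (BT.node (nat_lit 10303360) (BT.leaf (nat_lit 33765397)) (BT.leaf (nat_lit 38912789))) (BT.node (nat_lit 10303488) (BT.leaf (nat_lit 44106001)) (BT.leaf (nat_lit 32602129))))) (BT.node (nat_lit 10303808) (BT.node (nat_lit 10303680) (BT.node (nat_lit 10303616) (BT.leaf (nat_lit 44611081)) (BT.leaf (nat_lit 48924693))) (BT.node (nat_lit 10303744) (BT.leaf (nat_lit 41214473)) (BT.leaf (nat_lit 29438485)))) (BT.node (nat_lit 10303936) (BT.node (nat_lit 10303872) (BT.leaf (nat_lit 40964101)) (BT.leaf (nat_lit 48924937))) (BT.node (nat_lit 10304000) (BT.leaf (nat_lit 39867929)) (BT.leaf (nat_lit 41215753)))))))) (BT.node (nat_lit 10306176) (BT.node (nat_lit 10305024) (BT.node (nat_lit 10304512) (BT.node (nat_lit 10304256) (BT.node (nat_lit 10304136) (BT.node (nat_lit 10304128) (BT.leaf (nat_lit 32695313)) (BT.leaf (nat_lit 31752221))) (BT.node (nat_lit 10304192) (BT.leaf (nat_lit 764188)) (BT.leaf (nat_lit 39867917)))) (BT.node (nat_lit 10304384) (BT.node (nat_lit 10304320) (BT.leaf (nat_lit 48907809)) (BT.leaf (nat_lit 41097989))) (BT.node (nat_lit 10304448) (BT.leaf (nat_lit 29762841)) (BT.leaf (nat_lit 39886597))))) (BT.node (nat_lit 10304768) (BT.node (nat_lit 10304640) (BT.node (nat_lit 10304576) (BT.leaf (nat_lit 40691225)) (BT.leaf (nat_lit 40691229))) (BT.node (nat_lit 10304704) (BT.leaf (nat_lit 39886601)) (BT.leaf (nat_lit 39886605)))) (BT.node (nat_lit 10304896) (BT.node (nat_lit 10304832) (BT.leaf (nat_lit 28642581)) (BT.leaf (nat_lit 42349069))) (BT.node (nat_lit 10304960) (BT.leaf (nat_lit 31991313)) (BT.leaf (nat_lit 42350357)))))) (BT.node (nat_lit 10305600) (BT.node (nat_lit 10305280) (BT.node (nat_lit 10305152) (BT.node (nat_lit 10305088) (BT.leaf (nat_lit 29442589)) (BT.leaf (nat_lit 42819089))) (BT.node (nat_lit 10305216) (BT.leaf (nat_lit 29442585)) (BT.leaf (nat_lit 29611025)))) (BT.node (nat_lit 10305472) (BT.node (nat_lit 10305344) (BT.leaf (nat_lit 48445973)) (BT.leaf (nat_lit 41221129))) (BT.node (nat_lit 10305536) (BT.leaf (nat_lit 40453917)) (BT.leaf (nat_lit 42852885))))) (BT.node (nat_lit 10305796) (BT.node (nat_lit 10305728) (BT.node (nat_lit 10305664) (BT.leaf (nat_lit 38058529)) (BT.leaf (nat_lit 42852893))) (BT.node (nat_lit 10305792) (BT.leaf (nat_lit 44331789)) (BT.leaf (nat_lit 31836433)))) (BT.node (nat_lit 10306048) (BT.node (nat_lit 10305920) (BT.leaf (nat_lit 765112)) (BT.leaf (nat_lit 31824145))) (BT.node (nat_lit 10306112) (BT.leaf (nat_lit 41056529)) (BT.leaf (nat_lit 41056545))))))) (BT.node (nat_lit 10307136) (BT.node (nat_lit 10306624) (BT.node (nat_lit 10306432) (BT.node (nat_lit 10306304) (BT.node (nat_lit 10306240) (BT.leaf (nat_lit 43259937)) (BT.leaf (nat_lit 40939809))) (BT.node (nat_lit 10306368) (BT.leaf (nat_lit 31754249)) (BT.leaf (nat_lit 45380629)))) (BT.node (nat_lit 10306496) (BT.node (nat_lit 10306438) (BT.leaf (nat_lit 31836421)) (BT.leaf (nat_lit 749108))) (BT.node (nat_lit 10306560) (BT.leaf (nat_lit 49727517)) (BT.leaf (nat_lit 32923933))))) (BT.node (nat_lit 10306880) (BT.node (nat_lit 10306752) (BT.node (nat_lit 10306688) (BT.leaf (nat_lit 30674193)) (BT.leaf (nat_lit 52329225))) (BT.node (nat_lit 10306816) (BT.leaf (nat_lit 41226777)) (BT.leaf (nat_lit 30674209)))) (BT.node (nat_lit 10307008) (BT.node (nat_lit 10306944) (BT.leaf (nat_lit 28799517)) (BT.leaf (nat_lit 38337557))) (BT.node (nat_lit 10307072) (BT.leaf (nat_lit 48961313)) (BT.leaf (nat_lit 32452369)))))) (BT.node (nat_lit 10307588) (BT.node (nat_lit 10307392) (BT.node (nat_lit 10307264) (BT.node (nat_lit 10307200) (BT.leaf (nat_lit 28647965)) (BT.leaf (nat_lit 39453217))) (BT.node (nat_lit 10307328) (BT.leaf (nat_lit 32695057)) (BT.leaf (nat_lit 28647945)))) (BT.node (nat_lit 10307520) (BT.node (nat_lit 10307456) (BT.leaf (nat_lit 30621217)) (BT.leaf (nat_lit 28800537))) (BT.node (nat_lit 10307584) (BT.leaf (nat_lit 30575633)) (BT.leaf (nat_lit 42608649))))) (BT.node (nat_lit 10307840) (BT.node (nat_lit 10307712) (BT.node (nat_lit 10307648) (BT.leaf (nat_lit 778104)) (BT.leaf (nat_lit 32658713))) (BT.node (nat_lit 10307776) (BT.leaf (nat_lit 32658717)) (BT.leaf (nat_lit 33774361)))) (BT.node (nat_lit 10307968) (BT.node (nat_lit 10307904) (BT.leaf (nat_lit 41378073)) (BT.leaf (nat_lit 41231901))) (BT.node (nat_lit 10308032) (BT.leaf (nat_lit 33774349)) (BT.leaf (nat_lit 34819097))))))))) (BT.node (nat_lit 10311936) (BT.node (nat_lit 10309953) (BT.node (nat_lit 10308992) (BT.node (nat_lit 10308544) (BT.node (nat_lit 10308288) (BT.node (nat_lit 10308160) (BT.node (nat_lit 10308097) (BT.leaf (nat_lit 40372233)) (BT.leaf (nat_lit 762988))) (BT.node (nat_lit 10308224) (BT.leaf (nat_lit 40372237)) (BT.leaf (nat_lit 32021017)))) (BT.node (nat_lit 10308416) (BT.node (nat_lit 10308352) (BT.leaf (nat_lit 32021021)) (BT.leaf (nat_lit 31865101))) (BT.node (nat_lit 10308480) (BT.leaf (nat_lit 41302297)) (BT.leaf (nat_lit 40182789))))) (BT.node (nat_lit 10308800) (BT.node (nat_lit 10308672) (BT.node (nat_lit 10308608) (BT.leaf (nat_lit 29448977)) (BT.leaf (nat_lit 41391125))) (BT.node (nat_lit 10308736) (BT.leaf (nat_lit 41397269)) (BT.leaf (nat_lit 29448721)))) (BT.node (nat_lit 10308932) (BT.node (nat_lit 10308864) (BT.leaf (nat_lit 44732937)) (BT.leaf (nat_lit 44732953))) (BT.node (nat_lit 10308936) (BT.leaf (nat_lit 715132)) (BT.leaf (nat_lit 775404)))))) (BT.node (nat_lit 10309504) (BT.node (nat_lit 10309248) (BT.node (nat_lit 10309120) (BT.node (nat_lit 10309056) (BT.leaf (nat_lit 31861261)) (BT.leaf (nat_lit 41397277))) (BT.node (nat_lit 10309184) (BT.leaf (nat_lit 29450013)) (BT.leaf (nat_lit 41391129)))) (BT.node (nat_lit 10309376) (BT.node (nat_lit 10309312) (BT.leaf (nat_lit 29450009)) (BT.leaf (nat_lit 32472601))) (BT.node (nat_lit 10309440) (BT.leaf (nat_lit 32472605)) (BT.leaf (nat_lit 32164613))))) (BT.node (nat_lit 10309760) (BT.node (nat_lit 10309632) (BT.node (nat_lit 10309568) (BT.leaf (nat_lit 32164625)) (BT.leaf (nat_lit 32682757))) (BT.node (nat_lit 10309696) (BT.leaf (nat_lit 42789137)) (BT.leaf (nat_lit 44765189)))) (BT.node (nat_lit 10309888) (BT.node (nat_lit 10309824) (BT.leaf (nat_lit 37118241)) (BT.leaf (nat_lit 37118497))) (BT.node (nat_lit 10309952) (BT.leaf (nat_lit 35223813)) (BT.leaf (nat_lit 27939089))))))) (BT.node (nat_lit 10310853) (BT.node (nat_lit 10310464) (BT.node (nat_lit 10310208) (BT.node (nat_lit 10310080) (BT.node (nat_lit 10310016) (BT.leaf (nat_lit 729068)) (BT.leaf (nat_lit 44707077))) (BT.node (nat_lit 10310144) (BT.leaf (nat_lit 29513229)) (BT.leaf (nat_lit 37118753)))) (BT.node (nat_lit 10310336) (BT.node (nat_lit 10310272) (BT.leaf (nat_lit 48973849)) (BT.leaf (nat_lit 37119009))) (BT.node (nat_lit 10310400) (BT.leaf (nat_lit 32667677)) (BT.leaf (nat_lit 41353997))))) (BT.node (nat_lit 10310656) (BT.node (nat_lit 10310529) (BT.node (nat_lit 10310528) (BT.leaf (nat_lit 32655621)) (BT.leaf (nat_lit 45818649))) (BT.node (nat_lit 10310592) (BT.leaf (nat_lit 715920)) (BT.leaf (nat_lit 29452045)))) (BT.node (nat_lit 10310784) (BT.node (nat_lit 10310720) (BT.leaf (nat_lit 29452041)) (BT.leaf (nat_lit 29453329))) (BT.node (nat_lit 10310848) (BT.leaf (nat_lit 38565397)) (BT.leaf (nat_lit 29453841)))))) (BT.node (nat_lit 10311424) (BT.node (nat_lit 10311104) (BT.node (nat_lit 10310976) (BT.node (nat_lit 10310912) (BT.leaf (nat_lit 708104)) (BT.leaf (nat_lit 31609633))) (BT.node (nat_lit 10311040) (BT.leaf (nat_lit 45318937)) (BT.leaf (nat_lit 44047901)))) (BT.node (nat_lit 10311232) (BT.node (nat_lit 10311168) (BT.leaf (nat_lit 31364621)) (BT.leaf (nat_lit 47175201))) (BT.node (nat_lit 10311360) (BT.leaf (nat_lit 29454097)) (BT.leaf (nat_lit 38893857))))) (BT.node (nat_lit 10311680) (BT.node (nat_lit 10311552) (BT.node (nat_lit 10311488) (BT.leaf (nat_lit 31597061)) (BT.leaf (nat_lit 48516125))) (BT.node (nat_lit 10311616) (BT.leaf (nat_lit 44277281)) (BT.leaf (nat_lit 43964437)))) (BT.node (nat_lit 10311808) (BT.node (nat_lit 10311744) (BT.leaf (nat_lit 43906317)) (BT.leaf (nat_lit 43000605))) (BT.node (nat_lit 10311872) (BT.leaf (nat_lit 29455381)) (BT.leaf (nat_lit 44346657)))))))) (BT.node (nat_lit 10314048) (BT.node (nat_lit 10313088) (BT.node (nat_lit 10312576) (BT.node (nat_lit 10312320) (BT.node (nat_lit 10312128) (BT.node (nat_lit 10312000) (BT.leaf (nat_lit 43960097)) (BT.leaf (nat_lit 44288517))) (BT.node (nat_lit 10312256) (BT.leaf (nat_lit 29455645)) (BT.leaf (nat_lit 44287237)))) (BT.node (nat_lit 10312448) (BT.node (nat_lit 10312384) (BT.leaf (nat_lit 39421729)) (BT.leaf (nat_lit 29456145))) (BT.node (nat_lit 10312512) (BT.leaf (nat_lit 45443333)) (BT.leaf (nat_lit 29455889))))) (BT.node (nat_lit 10312832) (BT.node (nat_lit 10312704) (BT.node (nat_lit 10312640) (BT.leaf (nat_lit 45260049)) (BT.leaf (nat_lit 49443853))) (BT.node (nat_lit 10312768) (BT.leaf (nat_lit 49249553)) (BT.leaf (nat_lit 31552277)))) (BT.node (nat_lit 10312960) (BT.node (nat_lit 10312896) (BT.leaf (nat_lit 29456657)) (BT.leaf (nat_lit 31551509))) (BT.node (nat_lit 10313024) (BT.leaf (nat_lit 31551513)) (BT.leaf (nat_lit 31551517)))))) (BT.node (nat_lit 10313544) (BT.node (nat_lit 10313344) (BT.node (nat_lit 10313216) (BT.node (nat_lit 10313152) (BT.leaf (nat_lit 47472649)) (BT.leaf (nat_lit 30393109))) (BT.node (nat_lit 10313280) (BT.leaf (nat_lit 30393113)) (BT.leaf (nat_lit 30393117)))) (BT.node (nat_lit 10313472) (BT.node (nat_lit 10313408) (BT.leaf (nat_lit 29458193)) (BT.leaf (nat_lit 32519173))) (BT.node (nat_lit 10313536) (BT.leaf (nat_lit 29462297)) (BT.leaf (nat_lit 49348617))))) (BT.node (nat_lit 10313792) (BT.node (nat_lit 10313664) (BT.node (nat_lit 10313600) (BT.leaf (nat_lit 772556)) (BT.leaf (nat_lit 32519189))) (BT.node (nat_lit 10313728) (BT.leaf (nat_lit 47118869)) (BT.leaf (nat_lit 34807829)))) (BT.node (nat_lit 10313920) (BT.node (nat_lit 10313856) (BT.leaf (nat_lit 29462301)) (BT.leaf (nat_lit 43821601))) (BT.node (nat_lit 10313984) (BT.leaf (nat_lit 30395413)) (BT.leaf (nat_lit 37644825))))))) (BT.node (nat_lit 10314822) (BT.node (nat_lit 10314496) (BT.node (nat_lit 10314246) (BT.node (nat_lit 10314176) (BT.node (nat_lit 10314112) (BT.leaf (nat_lit 36409881)) (BT.leaf (nat_lit 39803409))) (BT.node (nat_lit 10314240) (BT.leaf (nat_lit 28467989)) (BT.leaf (nat_lit 39674913)))) (BT.node (nat_lit 10314368) (BT.node (nat_lit 10314304) (BT.leaf (nat_lit 815504)) (BT.leaf (nat_lit 29464589))) (BT.node (nat_lit 10314432) (BT.leaf (nat_lit 31176465)) (BT.leaf (nat_lit 28905749))))) (BT.node (nat_lit 10314752) (BT.node (nat_lit 10314624) (BT.node (nat_lit 10314560) (BT.leaf (nat_lit 31176481)) (BT.leaf (nat_lit 36409869))) (BT.node (nat_lit 10314688) (BT.leaf (nat_lit 38671641)) (BT.leaf (nat_lit 29464837)))) (BT.node (nat_lit 10314818) (BT.node (nat_lit 10314816) (BT.leaf (nat_lit 40305693)) (BT.leaf (nat_lit 49623829))) (BT.node (nat_lit 10314819) (BT.leaf (nat_lit 670172)) (BT.leaf (nat_lit 670172)))))) (BT.node (nat_lit 10315205) (BT.node (nat_lit 10315008) (BT.node (nat_lit 10314880) (BT.node (nat_lit 10314823) (BT.leaf (nat_lit 670172)) (BT.leaf (nat_lit 670172))) (BT.node (nat_lit 10314944) (BT.leaf (nat_lit 47237653)) (BT.leaf (nat_lit 39792673)))) (BT.node (nat_lit 10315136) (BT.node (nat_lit 10315072) (BT.leaf (nat_lit 29603349)) (BT.leaf (nat_lit 29467409))) (BT.node (nat_lit 10315200) (BT.leaf (nat_lit 38754069)) (BT.leaf (nat_lit 31172377))))) (BT.node (nat_lit 10315400) (BT.node (nat_lit 10315328) (BT.node (nat_lit 10315264) (BT.leaf (nat_lit 664256)) (BT.leaf (nat_lit 44358661))) (BT.node (nat_lit 10315392) (BT.leaf (nat_lit 32310041)) (BT.leaf (nat_lit 27914517)))) (BT.node (nat_lit 10315520) (BT.node (nat_lit 10315456) (BT.leaf (nat_lit 688344)) (BT.leaf (nat_lit 30854945))) (BT.node (nat_lit 10315584) (BT.leaf (nat_lit 39555097)) (BT.leaf (nat_lit 48403733)))))))))))) (BT.node (nat_lit 10344896) (BT.node (nat_lit 10330432) (BT.node (nat_lit 10323008) (BT.node (nat_lit 10319552) (BT.node (nat_lit 10317760) (BT.node (nat_lit 10316672) (BT.node (nat_lit 10316160) (BT.node (nat_lit 10315904) (BT.node (nat_lit 10315776) (BT.node (nat_lit 10315712) (BT.leaf (nat_lit 36122893)) (BT.leaf (nat_lit 49046805))) (BT.node (nat_lit 10315840) (BT.leaf (nat_lit 36330261)) (BT.leaf (nat_lit 40595465)))) (BT.node (nat_lit 10316032) (BT.node (nat_lit 10315968) (BT.leaf (nat_lit 48186909)) (BT.leaf (nat_lit 30173977))) (BT.node (nat_lit 10316096) (BT.leaf (nat_lit 31807761)) (BT.leaf (nat_lit 49624085))))) (BT.node (nat_lit 10316416) (BT.node (nat_lit 10316288) (BT.node (nat_lit 10316224) (BT.leaf (nat_lit 44173837)) (BT.leaf (nat_lit 31646493))) (BT.node (nat_lit 10316352) (BT.leaf (nat_lit 50980629)) (BT.leaf (nat_lit 42888221)))) (BT.node (nat_lit 10316544) (BT.node (nat_lit 10316480) (BT.leaf (nat_lit 29468437)) (BT.leaf (nat_lit 42325773))) (BT.node (nat_lit 10316608) (BT.leaf (nat_lit 29469717)) (BT.leaf (nat_lit 42048277)))))) (BT.node (nat_lit 10317248) (BT.node (nat_lit 10316992) (BT.node (nat_lit 10316800) (BT.node (nat_lit 10316736) (BT.leaf (nat_lit 42325789)) (BT.leaf (nat_lit 30114837))) (BT.node (nat_lit 10316928) (BT.leaf (nat_lit 31851809)) (BT.leaf (nat_lit 47739909)))) (BT.node (nat_lit 10317120) (BT.node (nat_lit 10317056) (BT.leaf (nat_lit 29468701)) (BT.leaf (nat_lit 43225377))) (BT.node (nat_lit 10317184) (BT.leaf (nat_lit 31492369)) (BT.leaf (nat_lit 32446237))))) (BT.node (nat_lit 10317504) (BT.node (nat_lit 10317376) (BT.node (nat_lit 10317312) (BT.leaf (nat_lit 29468697)) (BT.leaf (nat_lit 34558981))) (BT.node (nat_lit 10317440) (BT.leaf (nat_lit 48155681)) (BT.leaf (nat_lit 39489037)))) (BT.node (nat_lit 10317632) (BT.node (nat_lit 10317568) (BT.leaf (nat_lit 40865813)) (BT.leaf (nat_lit 45778181))) (BT.node (nat_lit 10317696) (BT.leaf (nat_lit 39692553)) (BT.leaf (nat_lit 41270553))))))) (BT.node (nat_lit 10318656) (BT.node (nat_lit 10318208) (BT.node (nat_lit 10318016) (BT.node (nat_lit 10317888) (BT.node (nat_lit 10317824) (BT.leaf (nat_lit 37833745)) (BT.leaf (nat_lit 40866573))) (BT.node (nat_lit 10317952) (BT.leaf (nat_lit 39486225)) (BT.leaf (nat_lit 47709445)))) (BT.node (nat_lit 10318144) (BT.node (nat_lit 10318080) (BT.leaf (nat_lit 47341081)) (BT.leaf (nat_lit 35205653))) (BT.node (nat_lit 10318148) (BT.leaf (nat_lit 40949529)) (BT.leaf (nat_lit 797268))))) (BT.node (nat_lit 10318464) (BT.node (nat_lit 10318336) (BT.node (nat_lit 10318272) (BT.leaf (nat_lit 40949533)) (BT.leaf (nat_lit 41885209))) (BT.node (nat_lit 10318400) (BT.leaf (nat_lit 29518869)) (BT.leaf (nat_lit 45362209)))) (BT.node (nat_lit 10318528) (BT.node (nat_lit 10318469) (BT.leaf (nat_lit 44649221)) (BT.leaf (nat_lit 774284))) (BT.node (nat_lit 10318592) (BT.leaf (nat_lit 33803549)) (BT.leaf (nat_lit 29446165)))))) (BT.node (nat_lit 10319104) (BT.node (nat_lit 10318853) (BT.node (nat_lit 10318784) (BT.node (nat_lit 10318720) (BT.leaf (nat_lit 33803529)) (BT.leaf (nat_lit 31865633))) (BT.node (nat_lit 10318848) (BT.leaf (nat_lit 31865605)) (BT.leaf (nat_lit 45832217)))) (BT.node (nat_lit 10318976) (BT.node (nat_lit 10318912) (BT.leaf (nat_lit 718124)) (BT.leaf (nat_lit 33774365))) (BT.node (nat_lit 10319040) (BT.leaf (nat_lit 45765645)) (BT.leaf (nat_lit 41376777))))) (BT.node (nat_lit 10319296) (BT.node (nat_lit 10319168) (BT.node (nat_lit 10319109) (BT.leaf (nat_lit 45765665)) (BT.leaf (nat_lit 765520))) (BT.node (nat_lit 10319232) (BT.leaf (nat_lit 29491717)) (BT.leaf (nat_lit 31592989)))) (BT.node (nat_lit 10319424) (BT.node (nat_lit 10319360) (BT.leaf (nat_lit 32646937)) (BT.leaf (nat_lit 29473561))) (BT.node (nat_lit 10319488) (BT.leaf (nat_lit 29473565)) (BT.leaf (nat_lit 31869457)))))))) (BT.node (nat_lit 10321280) (BT.node (nat_lit 10320448) (BT.node (nat_lit 10319936) (BT.node (nat_lit 10319744) (BT.node (nat_lit 10319680) (BT.node (nat_lit 10319616) (BT.leaf (nat_lit 33775637)) (BT.leaf (nat_lit 39699977))) (BT.node (nat_lit 10319683) (BT.leaf (nat_lit 45961249)) (BT.leaf (nat_lit 706244)))) (BT.node (nat_lit 10319812) (BT.node (nat_lit 10319808) (BT.leaf (nat_lit 37835281)) (BT.leaf (nat_lit 43979021))) (BT.node (nat_lit 10319872) (BT.leaf (nat_lit 690148)) (BT.leaf (nat_lit 43342365))))) (BT.node (nat_lit 10320192) (BT.node (nat_lit 10320064) (BT.node (nat_lit 10320000) (BT.leaf (nat_lit 44719905)) (BT.leaf (nat_lit 43342345))) (BT.node (nat_lit 10320128) (BT.leaf (nat_lit 41280025)) (BT.leaf (nat_lit 41279009)))) (BT.node (nat_lit 10320320) (BT.node (nat_lit 10320256) (BT.leaf (nat_lit 43401753)) (BT.leaf (nat_lit 40600337))) (BT.node (nat_lit 10320384) (BT.leaf (nat_lit 48090657)) (BT.leaf (nat_lit 29536781)))))) (BT.node (nat_lit 10320897) (BT.node (nat_lit 10320704) (BT.node (nat_lit 10320576) (BT.node (nat_lit 10320512) (BT.leaf (nat_lit 44306457)) (BT.leaf (nat_lit 35947289))) (BT.node (nat_lit 10320640) (BT.leaf (nat_lit 29474329)) (BT.leaf (nat_lit 39544593)))) (BT.node (nat_lit 10320832) (BT.node (nat_lit 10320768) (BT.leaf (nat_lit 43860497)) (BT.leaf (nat_lit 33775901))) (BT.node (nat_lit 10320896) (BT.leaf (nat_lit 29474333)) (BT.leaf (nat_lit 40339229))))) (BT.node (nat_lit 10321028) (BT.node (nat_lit 10320960) (BT.node (nat_lit 10320903) (BT.leaf (nat_lit 681200)) (BT.leaf (nat_lit 681200))) (BT.node (nat_lit 10321024) (BT.leaf (nat_lit 45800481)) (BT.leaf (nat_lit 50557189)))) (BT.node (nat_lit 10321152) (BT.node (nat_lit 10321088) (BT.leaf (nat_lit 768824)) (BT.leaf (nat_lit 29486357))) (BT.node (nat_lit 10321216) (BT.leaf (nat_lit 31856645)) (BT.leaf (nat_lit 31856929))))))) (BT.node (nat_lit 10322176) (BT.node (nat_lit 10321664) (BT.node (nat_lit 10321413) (BT.node (nat_lit 10321408) (BT.node (nat_lit 10321344) (BT.leaf (nat_lit 39519245)) (BT.leaf (nat_lit 35215649))) (BT.node (nat_lit 10321412) (BT.leaf (nat_lit 41306373)) (BT.leaf (nat_lit 684756)))) (BT.node (nat_lit 10321536) (BT.node (nat_lit 10321472) (BT.leaf (nat_lit 684756)) (BT.leaf (nat_lit 40754185))) (BT.node (nat_lit 10321600) (BT.leaf (nat_lit 49626885)) (BT.leaf (nat_lit 45961477))))) (BT.node (nat_lit 10321920) (BT.node (nat_lit 10321792) (BT.node (nat_lit 10321728) (BT.leaf (nat_lit 42214921)) (BT.leaf (nat_lit 43997445))) (BT.node (nat_lit 10321856) (BT.leaf (nat_lit 38222613)) (BT.leaf (nat_lit 43406601)))) (BT.node (nat_lit 10322048) (BT.node (nat_lit 10321984) (BT.leaf (nat_lit 47709213)) (BT.leaf (nat_lit 43405341))) (BT.node (nat_lit 10322112) (BT.leaf (nat_lit 45201185)) (BT.leaf (nat_lit 33782553)))))) (BT.node (nat_lit 10322624) (BT.node (nat_lit 10322432) (BT.node (nat_lit 10322304) (BT.node (nat_lit 10322240) (BT.leaf (nat_lit 29487633)) (BT.leaf (nat_lit 40068869))) (BT.node (nat_lit 10322368) (BT.leaf (nat_lit 42913809)) (BT.leaf (nat_lit 33807129)))) (BT.node (nat_lit 10322497) (BT.node (nat_lit 10322496) (BT.leaf (nat_lit 30866957)) (BT.leaf (nat_lit 44296213))) (BT.node (nat_lit 10322560) (BT.leaf (nat_lit 782512)) (BT.leaf (nat_lit 43830801))))) (BT.node (nat_lit 10322880) (BT.node (nat_lit 10322752) (BT.node (nat_lit 10322688) (BT.leaf (nat_lit 36996869)) (BT.leaf (nat_lit 49257249))) (BT.node (nat_lit 10322816) (BT.leaf (nat_lit 50495005)) (BT.leaf (nat_lit 30626837)))) (BT.node (nat_lit 10322950) (BT.node (nat_lit 10322944) (BT.leaf (nat_lit 37653537)) (BT.leaf (nat_lit 31900165))) (BT.node (nat_lit 10322951) (BT.leaf (nat_lit 771220)) (BT.leaf (nat_lit 771220))))))))) (BT.node (nat_lit 10326336) (BT.node (nat_lit 10324868) (BT.node (nat_lit 10324032) (BT.node (nat_lit 10323520) (BT.node (nat_lit 10323264) (BT.node (nat_lit 10323136) (BT.node (nat_lit 10323072) (BT.leaf (nat_lit 41418265)) (BT.leaf (nat_lit 46898441))) (BT.node (nat_lit 10323200) (BT.leaf (nat_lit 30250261)) (BT.leaf (nat_lit 30250001)))) (BT.node (nat_lit 10323392) (BT.node (nat_lit 10323328) (BT.leaf (nat_lit 29482525)) (BT.leaf (nat_lit 30251013))) (BT.node (nat_lit 10323456) (BT.leaf (nat_lit 29482013)) (BT.leaf (nat_lit 30251025))))) (BT.node (nat_lit 10323776) (BT.node (nat_lit 10323648) (BT.node (nat_lit 10323584) (BT.leaf (nat_lit 29539357)) (BT.leaf (nat_lit 30251041))) (BT.node (nat_lit 10323712) (BT.leaf (nat_lit 50248225)) (BT.leaf (nat_lit 47876889)))) (BT.node (nat_lit 10323904) (BT.node (nat_lit 10323840) (BT.leaf (nat_lit 29539097)) (BT.leaf (nat_lit 47250449))) (BT.node (nat_lit 10323968) (BT.leaf (nat_lit 47685149)) (BT.leaf (nat_lit 31900181)))))) (BT.node (nat_lit 10324544) (BT.node (nat_lit 10324352) (BT.node (nat_lit 10324160) (BT.node (nat_lit 10324096) (BT.leaf (nat_lit 48318477)) (BT.leaf (nat_lit 31900189))) (BT.node (nat_lit 10324288) (BT.leaf (nat_lit 42006805)) (BT.leaf (nat_lit 41811717)))) (BT.node (nat_lit 10324416) (BT.node (nat_lit 10324357) (BT.leaf (nat_lit 39691037)) (BT.leaf (nat_lit 774768))) (BT.node (nat_lit 10324480) (BT.leaf (nat_lit 33949205)) (BT.leaf (nat_lit 32706577))))) (BT.node (nat_lit 10324800) (BT.node (nat_lit 10324672) (BT.node (nat_lit 10324608) (BT.leaf (nat_lit 41602077)) (BT.leaf (nat_lit 42909701))) (BT.node (nat_lit 10324736) (BT.leaf (nat_lit 29483537)) (BT.leaf (nat_lit 29484049)))) (BT.node (nat_lit 10324864) (BT.node (nat_lit 10324803) (BT.leaf (nat_lit 42904865)) (BT.leaf (nat_lit 646724))) (BT.node (nat_lit 10324865) (BT.leaf (nat_lit 41279521)) (BT.leaf (nat_lit 645416))))))) (BT.node (nat_lit 10325574) (BT.node (nat_lit 10325248) (BT.node (nat_lit 10324997) (BT.node (nat_lit 10324928) (BT.node (nat_lit 10324869) (BT.leaf (nat_lit 645416)) (BT.leaf (nat_lit 645416))) (BT.node (nat_lit 10324992) (BT.leaf (nat_lit 29487377)) (BT.leaf (nat_lit 41280289)))) (BT.node (nat_lit 10325120) (BT.node (nat_lit 10325056) (BT.leaf (nat_lit 742056)) (BT.leaf (nat_lit 41280033))) (BT.node (nat_lit 10325184) (BT.leaf (nat_lit 29484313)) (BT.leaf (nat_lit 29484569))))) (BT.node (nat_lit 10325504) (BT.node (nat_lit 10325376) (BT.node (nat_lit 10325312) (BT.leaf (nat_lit 49626401)) (BT.leaf (nat_lit 41391113))) (BT.node (nat_lit 10325440) (BT.leaf (nat_lit 29484317)) (BT.leaf (nat_lit 29484573)))) (BT.node (nat_lit 10325507) (BT.node (nat_lit 10325506) (BT.leaf (nat_lit 32772385)) (BT.leaf (nat_lit 646820))) (BT.node (nat_lit 10325568) (BT.leaf (nat_lit 646820)) (BT.leaf (nat_lit 41234697)))))) (BT.node (nat_lit 10326016) (BT.node (nat_lit 10325760) (BT.node (nat_lit 10325632) (BT.node (nat_lit 10325575) (BT.leaf (nat_lit 742444)) (BT.leaf (nat_lit 742444))) (BT.node (nat_lit 10325696) (BT.leaf (nat_lit 40068629)) (BT.leaf (nat_lit 48969485)))) (BT.node (nat_lit 10325888) (BT.node (nat_lit 10325824) (BT.leaf (nat_lit 48969501)) (BT.leaf (nat_lit 47466005))) (BT.node (nat_lit 10325952) (BT.leaf (nat_lit 27762457)) (BT.leaf (nat_lit 30470161))))) (BT.node (nat_lit 10326152) (BT.node (nat_lit 10326144) (BT.node (nat_lit 10326080) (BT.leaf (nat_lit 30470165)) (BT.leaf (nat_lit 48103961))) (BT.node (nat_lit 10326145) (BT.leaf (nat_lit 31000841)) (BT.leaf (nat_lit 719276)))) (BT.node (nat_lit 10326272) (BT.node (nat_lit 10326208) (BT.leaf (nat_lit 719276)) (BT.leaf (nat_lit 31000597))) (BT.node (nat_lit 10326276) (BT.leaf (nat_lit 27524893)) (BT.leaf (nat_lit 698844)))))))) (BT.node (nat_lit 10328384) (BT.node (nat_lit 10327360) (BT.node (nat_lit 10326848) (BT.node (nat_lit 10326592) (BT.node (nat_lit 10326464) (BT.node (nat_lit 10326400) (BT.leaf (nat_lit 29527829)) (BT.leaf (nat_lit 31860249))) (BT.node (nat_lit 10326528) (BT.leaf (nat_lit 33783573)) (BT.leaf (nat_lit 48534277)))) (BT.node (nat_lit 10326720) (BT.node (nat_lit 10326656) (BT.leaf (nat_lit 29473053)) (BT.leaf (nat_lit 29487373))) (BT.node (nat_lit 10326784) (BT.leaf (nat_lit 29487369)) (BT.leaf (nat_lit 32643353))))) (BT.node (nat_lit 10327104) (BT.node (nat_lit 10326976) (BT.node (nat_lit 10326912) (BT.leaf (nat_lit 38780681)) (BT.leaf (nat_lit 40374553))) (BT.node (nat_lit 10327040) (BT.leaf (nat_lit 40068369)) (BT.leaf (nat_lit 40068637)))) (BT.node (nat_lit 10327232) (BT.node (nat_lit 10327168) (BT.leaf (nat_lit 29528085)) (BT.leaf (nat_lit 29486865))) (BT.node (nat_lit 10327296) (BT.leaf (nat_lit 29485073)) (BT.leaf (nat_lit 31803161)))))) (BT.node (nat_lit 10327872) (BT.node (nat_lit 10327616) (BT.node (nat_lit 10327488) (BT.node (nat_lit 10327424) (BT.leaf (nat_lit 31803165)) (BT.leaf (nat_lit 29528329))) (BT.node (nat_lit 10327552) (BT.leaf (nat_lit 29446677)) (BT.leaf (nat_lit 44968989)))) (BT.node (nat_lit 10327744) (BT.node (nat_lit 10327680) (BT.leaf (nat_lit 29489169)) (BT.leaf (nat_lit 29489441))) (BT.node (nat_lit 10327808) (BT.leaf (nat_lit 45981217)) (BT.leaf (nat_lit 29491477))))) (BT.node (nat_lit 10328128) (BT.node (nat_lit 10328000) (BT.node (nat_lit 10327936) (BT.leaf (nat_lit 31904273)) (BT.leaf (nat_lit 44785173))) (BT.node (nat_lit 10328064) (BT.leaf (nat_lit 29489953)) (BT.leaf (nat_lit 41118213)))) (BT.node (nat_lit 10328256) (BT.node (nat_lit 10328192) (BT.leaf (nat_lit 31192081)) (BT.leaf (nat_lit 43725857))) (BT.node (nat_lit 10328320) (BT.leaf (nat_lit 36199453)) (BT.leaf (nat_lit 30366481))))))) (BT.node (nat_lit 10329408) (BT.node (nat_lit 10328896) (BT.node (nat_lit 10328640) (BT.node (nat_lit 10328512) (BT.node (nat_lit 10328448) (BT.leaf (nat_lit 47516173)) (BT.leaf (nat_lit 36199449))) (BT.node (nat_lit 10328576) (BT.leaf (nat_lit 44786441)) (BT.leaf (nat_lit 29489425)))) (BT.node (nat_lit 10328768) (BT.node (nat_lit 10328704) (BT.leaf (nat_lit 41378325)) (BT.leaf (nat_lit 41378329))) (BT.node (nat_lit 10328832) (BT.leaf (nat_lit 41378333)) (BT.leaf (nat_lit 29489937))))) (BT.node (nat_lit 10329152) (BT.node (nat_lit 10329024) (BT.node (nat_lit 10328960) (BT.leaf (nat_lit 50227989)) (BT.leaf (nat_lit 47491085))) (BT.node (nat_lit 10329088) (BT.leaf (nat_lit 31838741)) (BT.leaf (nat_lit 33784865)))) (BT.node (nat_lit 10329280) (BT.node (nat_lit 10329216) (BT.leaf (nat_lit 45837329)) (BT.leaf (nat_lit 49533985))) (BT.node (nat_lit 10329344) (BT.leaf (nat_lit 33785105)) (BT.leaf (nat_lit 49534753)))))) (BT.node (nat_lit 10329920) (BT.node (nat_lit 10329664) (BT.node (nat_lit 10329536) (BT.node (nat_lit 10329472) (BT.leaf (nat_lit 29490973)) (BT.leaf (nat_lit 43804177))) (BT.node (nat_lit 10329600) (BT.leaf (nat_lit 45803781)) (BT.leaf (nat_lit 29491729)))) (BT.node (nat_lit 10329792) (BT.node (nat_lit 10329728) (BT.leaf (nat_lit 29446929)) (BT.leaf (nat_lit 29491473))) (BT.node (nat_lit 10329856) (BT.leaf (nat_lit 31637013)) (BT.leaf (nat_lit 40376089))))) (BT.node (nat_lit 10330176) (BT.node (nat_lit 10330048) (BT.node (nat_lit 10329984) (BT.leaf (nat_lit 43727645)) (BT.leaf (nat_lit 31637521))) (BT.node (nat_lit 10330112) (BT.leaf (nat_lit 31637537)) (BT.leaf (nat_lit 30892309)))) (BT.node (nat_lit 10330304) (BT.node (nat_lit 10330240) (BT.leaf (nat_lit 31806741)) (BT.leaf (nat_lit 39204621))) (BT.node (nat_lit 10330368) (BT.leaf (nat_lit 34792213)) (BT.leaf (nat_lit 43397909)))))))))) (BT.node (nat_lit 10337600) (BT.node (nat_lit 10333696) (BT.node (nat_lit 10332291) (BT.node (nat_lit 10331456) (BT.node (nat_lit 10330944) (BT.node (nat_lit 10330688) (BT.node (nat_lit 10330560) (BT.node (nat_lit 10330496) (BT.leaf (nat_lit 49297177)) (BT.leaf (nat_lit 43091213))) (BT.node (nat_lit 10330624) (BT.leaf (nat_lit 48091417)) (BT.leaf (nat_lit 42865169)))) (BT.node (nat_lit 10330816) (BT.node (nat_lit 10330752) (BT.leaf (nat_lit 48953109)) (BT.leaf (nat_lit 30935313))) (BT.node (nat_lit 10330880) (BT.leaf (nat_lit 30609181)) (BT.leaf (nat_lit 43357193))))) (BT.node (nat_lit 10331200) (BT.node (nat_lit 10331072) (BT.node (nat_lit 10331008) (BT.leaf (nat_lit 43574789)) (BT.leaf (nat_lit 34792989))) (BT.node (nat_lit 10331136) (BT.leaf (nat_lit 38022933)) (BT.leaf (nat_lit 45019409)))) (BT.node (nat_lit 10331328) (BT.node (nat_lit 10331264) (BT.leaf (nat_lit 39027473)) (BT.leaf (nat_lit 32570641))) (BT.node (nat_lit 10331392) (BT.leaf (nat_lit 46029845)) (BT.leaf (nat_lit 48685085)))))) (BT.node (nat_lit 10331968) (BT.node (nat_lit 10331712) (BT.node (nat_lit 10331584) (BT.node (nat_lit 10331520) (BT.leaf (nat_lit 43344413)) (BT.leaf (nat_lit 42977553))) (BT.node (nat_lit 10331648) (BT.leaf (nat_lit 43343393)) (BT.leaf (nat_lit 41338913)))) (BT.node (nat_lit 10331840) (BT.node (nat_lit 10331776) (BT.leaf (nat_lit 41327133)) (BT.leaf (nat_lit 42925325))) (BT.node (nat_lit 10331904) (BT.leaf (nat_lit 38852357)) (BT.leaf (nat_lit 32029205))))) (BT.node (nat_lit 10332162) (BT.node (nat_lit 10332096) (BT.node (nat_lit 10332032) (BT.leaf (nat_lit 40638725)) (BT.leaf (nat_lit 35936529))) (BT.node (nat_lit 10332160) (BT.leaf (nat_lit 46234137)) (BT.leaf (nat_lit 31873797)))) (BT.node (nat_lit 10332288) (BT.node (nat_lit 10332224) (BT.leaf (nat_lit 718560)) (BT.leaf (nat_lit 33790741))) (BT.node (nat_lit 10332290) (BT.leaf (nat_lit 41333281)) (BT.leaf (nat_lit 775516))))))) (BT.node (nat_lit 10332800) (BT.node (nat_lit 10332544) (BT.node (nat_lit 10332355) (BT.node (nat_lit 10332352) (BT.node (nat_lit 10332293) (BT.leaf (nat_lit 775516)) (BT.leaf (nat_lit 775516))) (BT.node (nat_lit 10332354) (BT.leaf (nat_lit 49652757)) (BT.leaf (nat_lit 775520)))) (BT.node (nat_lit 10332418) (BT.node (nat_lit 10332416) (BT.leaf (nat_lit 775520)) (BT.leaf (nat_lit 39279877))) (BT.node (nat_lit 10332480) (BT.leaf (nat_lit 690564)) (BT.leaf (nat_lit 29495577))))) (BT.node (nat_lit 10332672) (BT.node (nat_lit 10332610) (BT.node (nat_lit 10332608) (BT.leaf (nat_lit 29495833)) (BT.leaf (nat_lit 44219909))) (BT.node (nat_lit 10332611) (BT.leaf (nat_lit 718620)) (BT.leaf (nat_lit 718620)))) (BT.node (nat_lit 10332679) (BT.node (nat_lit 10332678) (BT.leaf (nat_lit 49652765)) (BT.leaf (nat_lit 775812))) (BT.node (nat_lit 10332736) (BT.leaf (nat_lit 775812)) (BT.leaf (nat_lit 29495581)))))) (BT.node (nat_lit 10333184) (BT.node (nat_lit 10332935) (BT.node (nat_lit 10332928) (BT.node (nat_lit 10332864) (BT.leaf (nat_lit 29495837)) (BT.leaf (nat_lit 44744993))) (BT.node (nat_lit 10332934) (BT.leaf (nat_lit 43389217)) (BT.leaf (nat_lit 718592)))) (BT.node (nat_lit 10333056) (BT.node (nat_lit 10332992) (BT.leaf (nat_lit 718592)) (BT.leaf (nat_lit 29496337))) (BT.node (nat_lit 10333120) (BT.leaf (nat_lit 45636633)) (BT.leaf (nat_lit 40829961))))) (BT.node (nat_lit 10333440) (BT.node (nat_lit 10333312) (BT.node (nat_lit 10333248) (BT.leaf (nat_lit 33792277)) (BT.leaf (nat_lit 41329441))) (BT.node (nat_lit 10333376) (BT.leaf (nat_lit 42938381)) (BT.leaf (nat_lit 41327393)))) (BT.node (nat_lit 10333568) (BT.node (nat_lit 10333504) (BT.leaf (nat_lit 38401569)) (BT.leaf (nat_lit 45646345))) (BT.node (nat_lit 10333632) (BT.leaf (nat_lit 46464021)) (BT.leaf (nat_lit 40211721)))))))) (BT.node (nat_lit 10335745) (BT.node (nat_lit 10334720) (BT.node (nat_lit 10334208) (BT.node (nat_lit 10333952) (BT.node (nat_lit 10333824) (BT.node (nat_lit 10333760) (BT.leaf (nat_lit 29498901)) (BT.leaf (nat_lit 51591197))) (BT.node (nat_lit 10333888) (BT.leaf (nat_lit 44972065)) (BT.leaf (nat_lit 46135317)))) (BT.node (nat_lit 10334080) (BT.node (nat_lit 10334016) (BT.leaf (nat_lit 46560025)) (BT.leaf (nat_lit 29499161))) (BT.node (nat_lit 10334144) (BT.leaf (nat_lit 45430033)) (BT.leaf (nat_lit 29499421))))) (BT.node (nat_lit 10334464) (BT.node (nat_lit 10334336) (BT.node (nat_lit 10334272) (BT.leaf (nat_lit 33244445)) (BT.leaf (nat_lit 29499165))) (BT.node (nat_lit 10334400) (BT.leaf (nat_lit 43254797)) (BT.leaf (nat_lit 43035913)))) (BT.node (nat_lit 10334592) (BT.node (nat_lit 10334528) (BT.leaf (nat_lit 29499417)) (BT.leaf (nat_lit 30646793))) (BT.node (nat_lit 10334656) (BT.leaf (nat_lit 42941209)) (BT.leaf (nat_lit 41338377)))))) (BT.node (nat_lit 10335232) (BT.node (nat_lit 10334976) (BT.node (nat_lit 10334848) (BT.node (nat_lit 10334784) (BT.leaf (nat_lit 29508373)) (BT.leaf (nat_lit 41339421))) (BT.node (nat_lit 10334912) (BT.leaf (nat_lit 42941197)) (BT.leaf (nat_lit 38952965)))) (BT.node (nat_lit 10335045) (BT.node (nat_lit 10335040) (BT.leaf (nat_lit 49040645)) (BT.leaf (nat_lit 29502753))) (BT.node (nat_lit 10335168) (BT.leaf (nat_lit 667624)) (BT.leaf (nat_lit 38128393))))) (BT.node (nat_lit 10335552) (BT.node (nat_lit 10335424) (BT.node (nat_lit 10335360) (BT.leaf (nat_lit 48300309)) (BT.leaf (nat_lit 44761349))) (BT.node (nat_lit 10335488) (BT.leaf (nat_lit 30579981)) (BT.leaf (nat_lit 50463241)))) (BT.node (nat_lit 10335680) (BT.node (nat_lit 10335616) (BT.leaf (nat_lit 31326741)) (BT.leaf (nat_lit 38952985))) (BT.node (nat_lit 10335744) (BT.leaf (nat_lit 38952989)) (BT.leaf (nat_lit 38398485))))))) (BT.node (nat_lit 10336581) (BT.node (nat_lit 10336192) (BT.node (nat_lit 10335936) (BT.node (nat_lit 10335808) (BT.node (nat_lit 10335752) (BT.leaf (nat_lit 687424)) (BT.leaf (nat_lit 687424))) (BT.node (nat_lit 10335872) (BT.leaf (nat_lit 30579993)) (BT.leaf (nat_lit 46387233)))) (BT.node (nat_lit 10336064) (BT.node (nat_lit 10336000) (BT.leaf (nat_lit 50543393)) (BT.leaf (nat_lit 41455893))) (BT.node (nat_lit 10336128) (BT.leaf (nat_lit 44606737)) (BT.leaf (nat_lit 34216473))))) (BT.node (nat_lit 10336448) (BT.node (nat_lit 10336320) (BT.node (nat_lit 10336256) (BT.leaf (nat_lit 29503773)) (BT.leaf (nat_lit 45433605))) (BT.node (nat_lit 10336384) (BT.leaf (nat_lit 45434137)) (BT.leaf (nat_lit 29506833)))) (BT.node (nat_lit 10336576) (BT.node (nat_lit 10336512) (BT.leaf (nat_lit 33462545)) (BT.leaf (nat_lit 30768393))) (BT.node (nat_lit 10336577) (BT.leaf (nat_lit 41346073)) (BT.leaf (nat_lit 774244)))))) (BT.node (nat_lit 10337088) (BT.node (nat_lit 10336832) (BT.node (nat_lit 10336704) (BT.node (nat_lit 10336640) (BT.leaf (nat_lit 769824)) (BT.leaf (nat_lit 29506321))) (BT.node (nat_lit 10336768) (BT.leaf (nat_lit 36348705)) (BT.leaf (nat_lit 36348933)))) (BT.node (nat_lit 10336960) (BT.node (nat_lit 10336896) (BT.leaf (nat_lit 48132613)) (BT.leaf (nat_lit 29507357))) (BT.node (nat_lit 10337024) (BT.leaf (nat_lit 50108945)) (BT.leaf (nat_lit 50108949))))) (BT.node (nat_lit 10337344) (BT.node (nat_lit 10337216) (BT.node (nat_lit 10337152) (BT.leaf (nat_lit 29553941)) (BT.leaf (nat_lit 44195617))) (BT.node (nat_lit 10337280) (BT.leaf (nat_lit 29509665)) (BT.leaf (nat_lit 45819157)))) (BT.node (nat_lit 10337472) (BT.node (nat_lit 10337408) (BT.leaf (nat_lit 40360713)) (BT.leaf (nat_lit 36349205))) (BT.node (nat_lit 10337536) (BT.leaf (nat_lit 29509641)) (BT.leaf (nat_lit 32601361))))))))) (BT.node (nat_lit 10341120) (BT.node (nat_lit 10339200) (BT.node (nat_lit 10338498) (BT.node (nat_lit 10338240) (BT.node (nat_lit 10337856) (BT.node (nat_lit 10337728) (BT.node (nat_lit 10337664) (BT.leaf (nat_lit 49539589)) (BT.leaf (nat_lit 40360721))) (BT.node (nat_lit 10337792) (BT.leaf (nat_lit 40360737)) (BT.leaf (nat_lit 45474833)))) (BT.node (nat_lit 10338112) (BT.node (nat_lit 10337920) (BT.leaf (nat_lit 45814533)) (BT.leaf (nat_lit 33815317))) (BT.node (nat_lit 10338176) (BT.leaf (nat_lit 37606681)) (BT.leaf (nat_lit 33818381))))) (BT.node (nat_lit 10338370) (BT.node (nat_lit 10338309) (BT.node (nat_lit 10338304) (BT.leaf (nat_lit 27964693)) (BT.leaf (nat_lit 29510673))) (BT.node (nat_lit 10338368) (BT.leaf (nat_lit 775540)) (BT.leaf (nat_lit 32781857)))) (BT.node (nat_lit 10338432) (BT.node (nat_lit 10338371) (BT.leaf (nat_lit 802472)) (BT.leaf (nat_lit 775544))) (BT.node (nat_lit 10338496) (BT.leaf (nat_lit 33818393)) (BT.leaf (nat_lit 41240341)))))) (BT.node (nat_lit 10338944) (BT.node (nat_lit 10338688) (BT.node (nat_lit 10338560) (BT.node (nat_lit 10338499) (BT.leaf (nat_lit 742268)) (BT.leaf (nat_lit 742268))) (BT.node (nat_lit 10338624) (BT.leaf (nat_lit 33798169)) (BT.leaf (nat_lit 29557025)))) (BT.node (nat_lit 10338816) (BT.node (nat_lit 10338752) (BT.leaf (nat_lit 29510689)) (BT.leaf (nat_lit 29510945))) (BT.node (nat_lit 10338880) (BT.leaf (nat_lit 32783877)) (BT.leaf (nat_lit 29511193))))) (BT.node (nat_lit 10338951) (BT.node (nat_lit 10338947) (BT.node (nat_lit 10338946) (BT.leaf (nat_lit 30977301)) (BT.leaf (nat_lit 814148))) (BT.node (nat_lit 10338950) (BT.leaf (nat_lit 668824)) (BT.leaf (nat_lit 668824)))) (BT.node (nat_lit 10339072) (BT.node (nat_lit 10339008) (BT.leaf (nat_lit 668824)) (BT.leaf (nat_lit 46252309))) (BT.node (nat_lit 10339136) (BT.leaf (nat_lit 45571853)) (BT.leaf (nat_lit 29514261))))))) (BT.node (nat_lit 10340096) (BT.node (nat_lit 10339712) (BT.node (nat_lit 10339456) (BT.node (nat_lit 10339328) (BT.node (nat_lit 10339264) (BT.leaf (nat_lit 32480289)) (BT.leaf (nat_lit 29558025))) (BT.node (nat_lit 10339392) (BT.leaf (nat_lit 29511969)) (BT.leaf (nat_lit 29511713)))) (BT.node (nat_lit 10339584) (BT.node (nat_lit 10339520) (BT.leaf (nat_lit 32484125)) (BT.leaf (nat_lit 29554445))) (BT.node (nat_lit 10339648) (BT.leaf (nat_lit 32480269)) (BT.leaf (nat_lit 36210457))))) (BT.node (nat_lit 10339910) (BT.node (nat_lit 10339840) (BT.node (nat_lit 10339776) (BT.leaf (nat_lit 38863117)) (BT.leaf (nat_lit 45571865))) (BT.node (nat_lit 10339904) (BT.leaf (nat_lit 41359129)) (BT.leaf (nat_lit 49037577)))) (BT.node (nat_lit 10339968) (BT.node (nat_lit 10339912) (BT.leaf (nat_lit 699472)) (BT.leaf (nat_lit 699472))) (BT.node (nat_lit 10340032) (BT.leaf (nat_lit 38079249)) (BT.leaf (nat_lit 31893021)))))) (BT.node (nat_lit 10340608) (BT.node (nat_lit 10340352) (BT.node (nat_lit 10340224) (BT.node (nat_lit 10340160) (BT.leaf (nat_lit 38542609)) (BT.leaf (nat_lit 34825249))) (BT.node (nat_lit 10340288) (BT.leaf (nat_lit 41447949)) (BT.leaf (nat_lit 38822661)))) (BT.node (nat_lit 10340480) (BT.node (nat_lit 10340416) (BT.leaf (nat_lit 29511697)) (BT.leaf (nat_lit 41361949))) (BT.node (nat_lit 10340544) (BT.leaf (nat_lit 32801029)) (BT.leaf (nat_lit 29512465))))) (BT.node (nat_lit 10340864) (BT.node (nat_lit 10340736) (BT.node (nat_lit 10340672) (BT.leaf (nat_lit 36202265)) (BT.leaf (nat_lit 34327821))) (BT.node (nat_lit 10340800) (BT.leaf (nat_lit 29513225)) (BT.leaf (nat_lit 36202273)))) (BT.node (nat_lit 10340992) (BT.node (nat_lit 10340928) (BT.leaf (nat_lit 29513221)) (BT.leaf (nat_lit 31894037))) (BT.node (nat_lit 10341056) (BT.leaf (nat_lit 37593861)) (BT.leaf (nat_lit 29513501)))))))) (BT.node (nat_lit 10342976) (BT.node (nat_lit 10342016) (BT.node (nat_lit 10341504) (BT.node (nat_lit 10341248) (BT.node (nat_lit 10341190) (BT.node (nat_lit 10341184) (BT.leaf (nat_lit 32373777)) (BT.leaf (nat_lit 45574921))) (BT.node (nat_lit 10341191) (BT.leaf (nat_lit 770936)) (BT.leaf (nat_lit 770936)))) (BT.node (nat_lit 10341376) (BT.node (nat_lit 10341312) (BT.leaf (nat_lit 29514005)) (BT.leaf (nat_lit 46136865))) (BT.node (nat_lit 10341440) (BT.leaf (nat_lit 29515025)) (BT.leaf (nat_lit 37969185))))) (BT.node (nat_lit 10341760) (BT.node (nat_lit 10341632) (BT.node (nat_lit 10341568) (BT.leaf (nat_lit 30094105)) (BT.leaf (nat_lit 30094109))) (BT.node (nat_lit 10341696) (BT.leaf (nat_lit 29514769)) (BT.leaf (nat_lit 29514773)))) (BT.node (nat_lit 10341888) (BT.node (nat_lit 10341824) (BT.leaf (nat_lit 37594377)) (BT.leaf (nat_lit 29554461))) (BT.node (nat_lit 10341952) (BT.leaf (nat_lit 42224913)) (BT.leaf (nat_lit 29554441)))))) (BT.node (nat_lit 10342468) (BT.node (nat_lit 10342272) (BT.node (nat_lit 10342144) (BT.node (nat_lit 10342080) (BT.leaf (nat_lit 37594401)) (BT.leaf (nat_lit 39891477))) (BT.node (nat_lit 10342208) (BT.leaf (nat_lit 43171605)) (BT.leaf (nat_lit 48723989)))) (BT.node (nat_lit 10342400) (BT.node (nat_lit 10342336) (BT.leaf (nat_lit 47059477)) (BT.leaf (nat_lit 41369113))) (BT.node (nat_lit 10342464) (BT.leaf (nat_lit 30597641)) (BT.leaf (nat_lit 39893269))))) (BT.node (nat_lit 10342720) (BT.node (nat_lit 10342592) (BT.node (nat_lit 10342528) (BT.leaf (nat_lit 680684)) (BT.leaf (nat_lit 34241801))) (BT.node (nat_lit 10342656) (BT.leaf (nat_lit 46472465)) (BT.leaf (nat_lit 30595613)))) (BT.node (nat_lit 10342848) (BT.node (nat_lit 10342784) (BT.leaf (nat_lit 28664085)) (BT.leaf (nat_lit 47034133))) (BT.node (nat_lit 10342912) (BT.leaf (nat_lit 40697121)) (BT.leaf (nat_lit 30647581))))))) (BT.node (nat_lit 10343936) (BT.node (nat_lit 10343488) (BT.node (nat_lit 10343232) (BT.node (nat_lit 10343104) (BT.node (nat_lit 10343040) (BT.leaf (nat_lit 51036449)) (BT.leaf (nat_lit 38587929))) (BT.node (nat_lit 10343168) (BT.leaf (nat_lit 38741025)) (BT.leaf (nat_lit 47937029)))) (BT.node (nat_lit 10343360) (BT.node (nat_lit 10343296) (BT.leaf (nat_lit 38587917)) (BT.leaf (nat_lit 29888285))) (BT.node (nat_lit 10343424) (BT.leaf (nat_lit 40768781)) (BT.leaf (nat_lit 39609109))))) (BT.node (nat_lit 10343744) (BT.node (nat_lit 10343616) (BT.node (nat_lit 10343552) (BT.leaf (nat_lit 27959313)) (BT.leaf (nat_lit 43282721))) (BT.node (nat_lit 10343680) (BT.leaf (nat_lit 29473557)) (BT.leaf (nat_lit 43279905)))) (BT.node (nat_lit 10343872) (BT.node (nat_lit 10343808) (BT.leaf (nat_lit 29527577)) (BT.leaf (nat_lit 29518873))) (BT.node (nat_lit 10343877) (BT.leaf (nat_lit 45778701)) (BT.leaf (nat_lit 691576)))))) (BT.node (nat_lit 10344448) (BT.node (nat_lit 10344192) (BT.node (nat_lit 10344064) (BT.node (nat_lit 10344000) (BT.leaf (nat_lit 41388037)) (BT.leaf (nat_lit 32770053))) (BT.node (nat_lit 10344128) (BT.leaf (nat_lit 41388549)) (BT.leaf (nat_lit 41376797)))) (BT.node (nat_lit 10344320) (BT.node (nat_lit 10344256) (BT.leaf (nat_lit 29446421)) (BT.leaf (nat_lit 32644385))) (BT.node (nat_lit 10344384) (BT.leaf (nat_lit 29520401)) (BT.leaf (nat_lit 50874897))))) (BT.node (nat_lit 10344640) (BT.node (nat_lit 10344576) (BT.node (nat_lit 10344512) (BT.leaf (nat_lit 32645409)) (BT.leaf (nat_lit 33774345))) (BT.node (nat_lit 10344581) (BT.leaf (nat_lit 32645385)) (BT.leaf (nat_lit 715604)))) (BT.node (nat_lit 10344768) (BT.node (nat_lit 10344704) (BT.leaf (nat_lit 29520417)) (BT.leaf (nat_lit 29520673))) (BT.node (nat_lit 10344832) (BT.leaf (nat_lit 29532933)) (BT.leaf (nat_lit 45013773))))))))))) (BT.node (nat_lit 10359744) (BT.node (nat_lit 10352576) (BT.node (nat_lit 10348608) (BT.node (nat_lit 10346752) (BT.node (nat_lit 10345856) (BT.node (nat_lit 10345344) (BT.node (nat_lit 10345095) (BT.node (nat_lit 10345024) (BT.node (nat_lit 10344960) (BT.leaf (nat_lit 32669721)) (BT.leaf (nat_lit 32669957))) (BT.node (nat_lit 10345088) (BT.leaf (nat_lit 40347653)) (BT.leaf (nat_lit 41273609)))) (BT.node (nat_lit 10345216) (BT.node (nat_lit 10345152) (BT.leaf (nat_lit 699832)) (BT.leaf (nat_lit 49258769))) (BT.node (nat_lit 10345280) (BT.leaf (nat_lit 47183637)) (BT.leaf (nat_lit 47185417))))) (BT.node (nat_lit 10345600) (BT.node (nat_lit 10345472) (BT.node (nat_lit 10345408) (BT.leaf (nat_lit 48985349)) (BT.leaf (nat_lit 49731349))) (BT.node (nat_lit 10345536) (BT.leaf (nat_lit 50726661)) (BT.leaf (nat_lit 50608661)))) (BT.node (nat_lit 10345728) (BT.node (nat_lit 10345664) (BT.leaf (nat_lit 49258257)) (BT.leaf (nat_lit 49258261))) (BT.node (nat_lit 10345792) (BT.leaf (nat_lit 49026565)) (BT.leaf (nat_lit 33850653)))))) (BT.node (nat_lit 10346368) (BT.node (nat_lit 10346112) (BT.node (nat_lit 10345984) (BT.node (nat_lit 10345920) (BT.leaf (nat_lit 29524753)) (BT.leaf (nat_lit 31911457))) (BT.node (nat_lit 10346048) (BT.leaf (nat_lit 31911201)) (BT.leaf (nat_lit 48162833)))) (BT.node (nat_lit 10346240) (BT.node (nat_lit 10346176) (BT.leaf (nat_lit 49213725)) (BT.leaf (nat_lit 43293701))) (BT.node (nat_lit 10346304) (BT.leaf (nat_lit 44342281)) (BT.leaf (nat_lit 42797061))))) (BT.node (nat_lit 10346624) (BT.node (nat_lit 10346496) (BT.node (nat_lit 10346432) (BT.leaf (nat_lit 43364621)) (BT.leaf (nat_lit 48326169))) (BT.node (nat_lit 10346560) (BT.leaf (nat_lit 40972305)) (BT.leaf (nat_lit 40972309)))) (BT.node (nat_lit 10346692) (BT.node (nat_lit 10346688) (BT.leaf (nat_lit 29527573)) (BT.leaf (nat_lit 40858913))) (BT.node (nat_lit 10346693) (BT.leaf (nat_lit 699716)) (BT.leaf (nat_lit 699716))))))) (BT.node (nat_lit 10347520) (BT.node (nat_lit 10347072) (BT.node (nat_lit 10346821) (BT.node (nat_lit 10346818) (BT.node (nat_lit 10346816) (BT.leaf (nat_lit 33785621)) (BT.leaf (nat_lit 39698721))) (BT.node (nat_lit 10346819) (BT.leaf (nat_lit 765452)) (BT.leaf (nat_lit 765452)))) (BT.node (nat_lit 10346944) (BT.node (nat_lit 10346880) (BT.leaf (nat_lit 765452)) (BT.leaf (nat_lit 29527833))) (BT.node (nat_lit 10347008) (BT.leaf (nat_lit 31860749)) (BT.leaf (nat_lit 29527837))))) (BT.node (nat_lit 10347264) (BT.node (nat_lit 10347143) (BT.node (nat_lit 10347136) (BT.leaf (nat_lit 31861253)) (BT.leaf (nat_lit 44727309))) (BT.node (nat_lit 10347200) (BT.leaf (nat_lit 698852)) (BT.leaf (nat_lit 40865825)))) (BT.node (nat_lit 10347392) (BT.node (nat_lit 10347328) (BT.leaf (nat_lit 33805077)) (BT.leaf (nat_lit 40866849))) (BT.node (nat_lit 10347456) (BT.leaf (nat_lit 29528089)) (BT.leaf (nat_lit 44725521)))))) (BT.node (nat_lit 10348096) (BT.node (nat_lit 10347840) (BT.node (nat_lit 10347712) (BT.node (nat_lit 10347584) (BT.leaf (nat_lit 32665349)) (BT.leaf (nat_lit 29528093))) (BT.node (nat_lit 10347776) (BT.leaf (nat_lit 29528333)) (BT.leaf (nat_lit 47310625)))) (BT.node (nat_lit 10347968) (BT.node (nat_lit 10347904) (BT.leaf (nat_lit 47310617)) (BT.leaf (nat_lit 29528597))) (BT.node (nat_lit 10348032) (BT.leaf (nat_lit 44723973)) (BT.leaf (nat_lit 41391369))))) (BT.node (nat_lit 10348352) (BT.node (nat_lit 10348224) (BT.node (nat_lit 10348160) (BT.leaf (nat_lit 43404065)) (BT.leaf (nat_lit 37951249))) (BT.node (nat_lit 10348288) (BT.leaf (nat_lit 41400341)) (BT.leaf (nat_lit 41234701)))) (BT.node (nat_lit 10348480) (BT.node (nat_lit 10348416) (BT.leaf (nat_lit 40876829)) (BT.leaf (nat_lit 29490965))) (BT.node (nat_lit 10348544) (BT.leaf (nat_lit 32664345)) (BT.leaf (nat_lit 32771601)))))))) (BT.node (nat_lit 10350656) (BT.node (nat_lit 10349632) (BT.node (nat_lit 10349120) (BT.node (nat_lit 10348864) (BT.node (nat_lit 10348736) (BT.node (nat_lit 10348672) (BT.leaf (nat_lit 31242501)) (BT.leaf (nat_lit 29527581))) (BT.node (nat_lit 10348800) (BT.leaf (nat_lit 29528593)) (BT.leaf (nat_lit 31861273)))) (BT.node (nat_lit 10348992) (BT.node (nat_lit 10348928) (BT.leaf (nat_lit 31861277)) (BT.leaf (nat_lit 41234441))) (BT.node (nat_lit 10349056) (BT.leaf (nat_lit 31242513)) (BT.leaf (nat_lit 47516425))))) (BT.node (nat_lit 10349376) (BT.node (nat_lit 10349248) (BT.node (nat_lit 10349184) (BT.leaf (nat_lit 29528849)) (BT.leaf (nat_lit 44307989))) (BT.node (nat_lit 10349312) (BT.leaf (nat_lit 45834273)) (BT.leaf (nat_lit 43342369)))) (BT.node (nat_lit 10349504) (BT.node (nat_lit 10349440) (BT.leaf (nat_lit 29487389)) (BT.leaf (nat_lit 31623697))) (BT.node (nat_lit 10349568) (BT.leaf (nat_lit 43342349)) (BT.leaf (nat_lit 29530913)))))) (BT.node (nat_lit 10350144) (BT.node (nat_lit 10349952) (BT.node (nat_lit 10349760) (BT.node (nat_lit 10349696) (BT.leaf (nat_lit 45837345)) (BT.leaf (nat_lit 43347477))) (BT.node (nat_lit 10349824) (BT.leaf (nat_lit 49553953)) (BT.leaf (nat_lit 49553697)))) (BT.node (nat_lit 10350080) (BT.node (nat_lit 10350016) (BT.leaf (nat_lit 29530897)) (BT.leaf (nat_lit 31901453))) (BT.node (nat_lit 10350085) (BT.leaf (nat_lit 44702217)) (BT.leaf (nat_lit 698872))))) (BT.node (nat_lit 10350400) (BT.node (nat_lit 10350272) (BT.node (nat_lit 10350208) (BT.leaf (nat_lit 44701725)) (BT.leaf (nat_lit 31839521))) (BT.node (nat_lit 10350336) (BT.leaf (nat_lit 37152793)) (BT.leaf (nat_lit 37153053)))) (BT.node (nat_lit 10350528) (BT.node (nat_lit 10350464) (BT.leaf (nat_lit 49556513)) (BT.leaf (nat_lit 29490449))) (BT.node (nat_lit 10350592) (BT.leaf (nat_lit 49557025)) (BT.leaf (nat_lit 49556769))))))) (BT.node (nat_lit 10351680) (BT.node (nat_lit 10351168) (BT.node (nat_lit 10350912) (BT.node (nat_lit 10350784) (BT.node (nat_lit 10350720) (BT.leaf (nat_lit 29490465)) (BT.leaf (nat_lit 29531937))) (BT.node (nat_lit 10350848) (BT.leaf (nat_lit 32453645)) (BT.leaf (nat_lit 32253713)))) (BT.node (nat_lit 10351040) (BT.node (nat_lit 10350976) (BT.leaf (nat_lit 32642585)) (BT.leaf (nat_lit 43130129))) (BT.node (nat_lit 10351104) (BT.leaf (nat_lit 32669725)) (BT.leaf (nat_lit 29532433))))) (BT.node (nat_lit 10351424) (BT.node (nat_lit 10351296) (BT.node (nat_lit 10351232) (BT.leaf (nat_lit 47448337)) (BT.leaf (nat_lit 43130393))) (BT.node (nat_lit 10351360) (BT.leaf (nat_lit 28751881)) (BT.leaf (nat_lit 41302813)))) (BT.node (nat_lit 10351552) (BT.node (nat_lit 10351488) (BT.leaf (nat_lit 41161505)) (BT.leaf (nat_lit 38244885))) (BT.node (nat_lit 10351616) (BT.leaf (nat_lit 29533201)) (BT.leaf (nat_lit 50445089)))))) (BT.node (nat_lit 10352064) (BT.node (nat_lit 10351808) (BT.node (nat_lit 10351744) (BT.node (nat_lit 10351685) (BT.leaf (nat_lit 29536773)) (BT.leaf (nat_lit 732412))) (BT.node (nat_lit 10351749) (BT.leaf (nat_lit 49226017)) (BT.leaf (nat_lit 811368)))) (BT.node (nat_lit 10351936) (BT.node (nat_lit 10351872) (BT.leaf (nat_lit 41381409)) (BT.leaf (nat_lit 39305993))) (BT.node (nat_lit 10352000) (BT.leaf (nat_lit 29534737)) (BT.leaf (nat_lit 47186197))))) (BT.node (nat_lit 10352320) (BT.node (nat_lit 10352192) (BT.node (nat_lit 10352128) (BT.leaf (nat_lit 48090633)) (BT.leaf (nat_lit 38314757))) (BT.node (nat_lit 10352256) (BT.leaf (nat_lit 29535761)) (BT.leaf (nat_lit 29535505)))) (BT.node (nat_lit 10352448) (BT.node (nat_lit 10352384) (BT.leaf (nat_lit 41249817)) (BT.leaf (nat_lit 41249821))) (BT.node (nat_lit 10352512) (BT.leaf (nat_lit 29536777)) (BT.leaf (nat_lit 39525921))))))))) (BT.node (nat_lit 10356160) (BT.node (nat_lit 10354112) (BT.node (nat_lit 10353600) (BT.node (nat_lit 10353088) (BT.node (nat_lit 10352832) (BT.node (nat_lit 10352704) (BT.node (nat_lit 10352640) (BT.leaf (nat_lit 44561681)) (BT.leaf (nat_lit 44561685))) (BT.node (nat_lit 10352768) (BT.leaf (nat_lit 44970513)) (BT.leaf (nat_lit 44970517)))) (BT.node (nat_lit 10352960) (BT.node (nat_lit 10352896) (BT.leaf (nat_lit 31959317)) (BT.leaf (nat_lit 42913561))) (BT.node (nat_lit 10353024) (BT.leaf (nat_lit 47239697)) (BT.leaf (nat_lit 33559577))))) (BT.node (nat_lit 10353344) (BT.node (nat_lit 10353216) (BT.node (nat_lit 10353152) (BT.leaf (nat_lit 31712273)) (BT.leaf (nat_lit 33807893))) (BT.node (nat_lit 10353280) (BT.leaf (nat_lit 49439505)) (BT.leaf (nat_lit 38817797)))) (BT.node (nat_lit 10353472) (BT.node (nat_lit 10353408) (BT.leaf (nat_lit 29173789)) (BT.leaf (nat_lit 44373525))) (BT.node (nat_lit 10353536) (BT.leaf (nat_lit 38817809)) (BT.leaf (nat_lit 33807637)))))) (BT.node (nat_lit 10353856) (BT.node (nat_lit 10353728) (BT.node (nat_lit 10353667) (BT.node (nat_lit 10353664) (BT.leaf (nat_lit 46320145)) (BT.leaf (nat_lit 29918981))) (BT.node (nat_lit 10353669) (BT.leaf (nat_lit 798396)) (BT.leaf (nat_lit 745948)))) (BT.node (nat_lit 10353792) (BT.node (nat_lit 10353732) (BT.leaf (nat_lit 28748313)) (BT.leaf (nat_lit 735668))) (BT.node (nat_lit 10353793) (BT.leaf (nat_lit 29537817)) (BT.leaf (nat_lit 735672))))) (BT.node (nat_lit 10354048) (BT.node (nat_lit 10353923) (BT.node (nat_lit 10353920) (BT.leaf (nat_lit 32451345)) (BT.leaf (nat_lit 38212385))) (BT.node (nat_lit 10353984) (BT.leaf (nat_lit 812572)) (BT.leaf (nat_lit 29537821)))) (BT.node (nat_lit 10354052) (BT.node (nat_lit 10354051) (BT.leaf (nat_lit 39680801)) (BT.leaf (nat_lit 649512))) (BT.node (nat_lit 10354056) (BT.leaf (nat_lit 649512)) (BT.leaf (nat_lit 649512))))))) (BT.node (nat_lit 10355136) (BT.node (nat_lit 10354624) (BT.node (nat_lit 10354368) (BT.node (nat_lit 10354240) (BT.node (nat_lit 10354176) (BT.leaf (nat_lit 47876613)) (BT.leaf (nat_lit 47876869))) (BT.node (nat_lit 10354304) (BT.leaf (nat_lit 36116249)) (BT.leaf (nat_lit 27924757)))) (BT.node (nat_lit 10354496) (BT.node (nat_lit 10354432) (BT.leaf (nat_lit 41290765)) (BT.leaf (nat_lit 48845077))) (BT.node (nat_lit 10354560) (BT.leaf (nat_lit 48172049)) (BT.leaf (nat_lit 34227729))))) (BT.node (nat_lit 10354880) (BT.node (nat_lit 10354752) (BT.node (nat_lit 10354688) (BT.leaf (nat_lit 30902021)) (BT.leaf (nat_lit 30001433))) (BT.node (nat_lit 10354816) (BT.leaf (nat_lit 30001437)) (BT.leaf (nat_lit 32393737)))) (BT.node (nat_lit 10355008) (BT.node (nat_lit 10354944) (BT.leaf (nat_lit 30368017)) (BT.leaf (nat_lit 49019141))) (BT.node (nat_lit 10355072) (BT.leaf (nat_lit 30250245)) (BT.leaf (nat_lit 41295373)))))) (BT.node (nat_lit 10355648) (BT.node (nat_lit 10355392) (BT.node (nat_lit 10355264) (BT.node (nat_lit 10355200) (BT.leaf (nat_lit 43743757)) (BT.leaf (nat_lit 42574609))) (BT.node (nat_lit 10355328) (BT.leaf (nat_lit 30249245)) (BT.leaf (nat_lit 31854357)))) (BT.node (nat_lit 10355520) (BT.node (nat_lit 10355456) (BT.leaf (nat_lit 32261409)) (BT.leaf (nat_lit 46965769))) (BT.node (nat_lit 10355584) (BT.leaf (nat_lit 36299537)) (BT.leaf (nat_lit 47393817))))) (BT.node (nat_lit 10355904) (BT.node (nat_lit 10355776) (BT.node (nat_lit 10355712) (BT.leaf (nat_lit 30801681)) (BT.leaf (nat_lit 50294037))) (BT.node (nat_lit 10355840) (BT.leaf (nat_lit 33811985)) (BT.leaf (nat_lit 30836485)))) (BT.node (nat_lit 10356032) (BT.node (nat_lit 10355968) (BT.leaf (nat_lit 45849121)) (BT.leaf (nat_lit 44163361))) (BT.node (nat_lit 10356096) (BT.leaf (nat_lit 46607901)) (BT.leaf (nat_lit 31231761)))))))) (BT.node (nat_lit 10357824) (BT.node (nat_lit 10356992) (BT.node (nat_lit 10356672) (BT.node (nat_lit 10356416) (BT.node (nat_lit 10356288) (BT.node (nat_lit 10356224) (BT.leaf (nat_lit 39055373)) (BT.leaf (nat_lit 33252373))) (BT.node (nat_lit 10356352) (BT.leaf (nat_lit 31058457)) (BT.leaf (nat_lit 31058461)))) (BT.node (nat_lit 10356544) (BT.node (nat_lit 10356480) (BT.leaf (nat_lit 32010257)) (BT.leaf (nat_lit 42933277))) (BT.node (nat_lit 10356608) (BT.leaf (nat_lit 29757193)) (BT.leaf (nat_lit 29757197))))) (BT.node (nat_lit 10356800) (BT.node (nat_lit 10356738) (BT.node (nat_lit 10356736) (BT.leaf (nat_lit 29970449)) (BT.leaf (nat_lit 41427229))) (BT.node (nat_lit 10356741) (BT.leaf (nat_lit 710156)) (BT.leaf (nat_lit 710156)))) (BT.node (nat_lit 10356864) (BT.node (nat_lit 10356805) (BT.leaf (nat_lit 40892421)) (BT.leaf (nat_lit 710168))) (BT.node (nat_lit 10356928) (BT.leaf (nat_lit 32736273)) (BT.leaf (nat_lit 32734745)))))) (BT.node (nat_lit 10357445) (BT.node (nat_lit 10357248) (BT.node (nat_lit 10357120) (BT.node (nat_lit 10357056) (BT.leaf (nat_lit 29551137)) (BT.leaf (nat_lit 50845445))) (BT.node (nat_lit 10357184) (BT.leaf (nat_lit 39978269)) (BT.leaf (nat_lit 39880973)))) (BT.node (nat_lit 10357376) (BT.node (nat_lit 10357312) (BT.leaf (nat_lit 39978777)) (BT.leaf (nat_lit 49127957))) (BT.node (nat_lit 10357440) (BT.leaf (nat_lit 39095821)) (BT.leaf (nat_lit 41430045))))) (BT.node (nat_lit 10357632) (BT.node (nat_lit 10357504) (BT.node (nat_lit 10357448) (BT.leaf (nat_lit 702504)) (BT.leaf (nat_lit 702504))) (BT.node (nat_lit 10357568) (BT.leaf (nat_lit 40836129)) (BT.leaf (nat_lit 29552145)))) (BT.node (nat_lit 10357698) (BT.node (nat_lit 10357696) (BT.leaf (nat_lit 49429525)) (BT.leaf (nat_lit 42465045))) (BT.node (nat_lit 10357760) (BT.leaf (nat_lit 711848)) (BT.leaf (nat_lit 37874209))))))) (BT.node (nat_lit 10358848) (BT.node (nat_lit 10358272) (BT.node (nat_lit 10358016) (BT.node (nat_lit 10357895) (BT.node (nat_lit 10357894) (BT.leaf (nat_lit 39042337)) (BT.leaf (nat_lit 720652))) (BT.node (nat_lit 10357952) (BT.leaf (nat_lit 720652)) (BT.leaf (nat_lit 43035141)))) (BT.node (nat_lit 10358144) (BT.node (nat_lit 10358080) (BT.leaf (nat_lit 29511189)) (BT.leaf (nat_lit 46239521))) (BT.node (nat_lit 10358208) (BT.leaf (nat_lit 43036193)) (BT.leaf (nat_lit 29553945))))) (BT.node (nat_lit 10358592) (BT.node (nat_lit 10358464) (BT.node (nat_lit 10358336) (BT.leaf (nat_lit 38827797)) (BT.leaf (nat_lit 29553949))) (BT.node (nat_lit 10358528) (BT.leaf (nat_lit 44769285)) (BT.leaf (nat_lit 29554185)))) (BT.node (nat_lit 10358720) (BT.node (nat_lit 10358656) (BT.leaf (nat_lit 32654869)) (BT.leaf (nat_lit 29555221))) (BT.node (nat_lit 10358784) (BT.leaf (nat_lit 31384609)) (BT.leaf (nat_lit 29554189)))))) (BT.node (nat_lit 10359233) (BT.node (nat_lit 10359104) (BT.node (nat_lit 10358912) (BT.node (nat_lit 10358849) (BT.leaf (nat_lit 44055061)) (BT.leaf (nat_lit 774068))) (BT.node (nat_lit 10359040) (BT.leaf (nat_lit 44055329)) (BT.leaf (nat_lit 44063009)))) (BT.node (nat_lit 10359168) (BT.node (nat_lit 10359109) (BT.leaf (nat_lit 44982793)) (BT.leaf (nat_lit 699312))) (BT.node (nat_lit 10359232) (BT.leaf (nat_lit 31383825)) (BT.leaf (nat_lit 29554969))))) (BT.node (nat_lit 10359488) (BT.node (nat_lit 10359360) (BT.node (nat_lit 10359296) (BT.leaf (nat_lit 715932)) (BT.leaf (nat_lit 31383841))) (BT.node (nat_lit 10359424) (BT.leaf (nat_lit 29513493)) (BT.leaf (nat_lit 29554693)))) (BT.node (nat_lit 10359616) (BT.node (nat_lit 10359552) (BT.leaf (nat_lit 44196385)) (BT.leaf (nat_lit 29554949))) (BT.node (nat_lit 10359680) (BT.leaf (nat_lit 33817605)) (BT.leaf (nat_lit 29553693)))))))))) (BT.node (nat_lit 10367296) (BT.node (nat_lit 10363712) (BT.node (nat_lit 10361600) (BT.node (nat_lit 10360704) (BT.node (nat_lit 10360384) (BT.node (nat_lit 10360000) (BT.node (nat_lit 10359872) (BT.node (nat_lit 10359808) (BT.leaf (nat_lit 29554705)) (BT.leaf (nat_lit 38416917))) (BT.node (nat_lit 10359936) (BT.leaf (nat_lit 44196377)) (BT.leaf (nat_lit 44196381)))) (BT.node (nat_lit 10360192) (BT.node (nat_lit 10360064) (BT.leaf (nat_lit 29555205)) (BT.leaf (nat_lit 29555217))) (BT.node (nat_lit 10360320) (BT.leaf (nat_lit 47540765)) (BT.leaf (nat_lit 45819161))))) (BT.node (nat_lit 10360455) (BT.node (nat_lit 10360448) (BT.node (nat_lit 10360390) (BT.leaf (nat_lit 29555729)) (BT.leaf (nat_lit 718648))) (BT.node (nat_lit 10360454) (BT.leaf (nat_lit 29555473)) (BT.leaf (nat_lit 667476)))) (BT.node (nat_lit 10360576) (BT.node (nat_lit 10360512) (BT.leaf (nat_lit 667476)) (BT.leaf (nat_lit 32803097))) (BT.node (nat_lit 10360640) (BT.leaf (nat_lit 29555489)) (BT.leaf (nat_lit 29555745)))))) (BT.node (nat_lit 10361152) (BT.node (nat_lit 10360896) (BT.node (nat_lit 10360772) (BT.node (nat_lit 10360768) (BT.leaf (nat_lit 29556257)) (BT.leaf (nat_lit 29556001))) (BT.node (nat_lit 10360832) (BT.leaf (nat_lit 798020)) (BT.leaf (nat_lit 29708805)))) (BT.node (nat_lit 10361024) (BT.node (nat_lit 10360960) (BT.leaf (nat_lit 29512225)) (BT.leaf (nat_lit 47503385))) (BT.node (nat_lit 10361088) (BT.leaf (nat_lit 29556769)) (BT.leaf (nat_lit 41444637))))) (BT.node (nat_lit 10361344) (BT.node (nat_lit 10361222) (BT.node (nat_lit 10361216) (BT.leaf (nat_lit 33228561)) (BT.leaf (nat_lit 30742289))) (BT.node (nat_lit 10361280) (BT.leaf (nat_lit 700080)) (BT.leaf (nat_lit 30638365)))) (BT.node (nat_lit 10361472) (BT.node (nat_lit 10361408) (BT.leaf (nat_lit 37607429)) (BT.leaf (nat_lit 34842145))) (BT.node (nat_lit 10361536) (BT.leaf (nat_lit 29556997)) (BT.leaf (nat_lit 45023769))))))) (BT.node (nat_lit 10362752) (BT.node (nat_lit 10362176) (BT.node (nat_lit 10361920) (BT.node (nat_lit 10361792) (BT.node (nat_lit 10361728) (BT.leaf (nat_lit 29556753)) (BT.leaf (nat_lit 44808453))) (BT.node (nat_lit 10361856) (BT.leaf (nat_lit 29557265)) (BT.leaf (nat_lit 32667661)))) (BT.node (nat_lit 10362048) (BT.node (nat_lit 10361984) (BT.leaf (nat_lit 36210465)) (BT.leaf (nat_lit 29558021))) (BT.node (nat_lit 10362112) (BT.leaf (nat_lit 32555793)) (BT.leaf (nat_lit 41340941))))) (BT.node (nat_lit 10362432) (BT.node (nat_lit 10362304) (BT.node (nat_lit 10362240) (BT.leaf (nat_lit 37609477)) (BT.leaf (nat_lit 49172489))) (BT.node (nat_lit 10362368) (BT.leaf (nat_lit 29708825)) (BT.leaf (nat_lit 40531461)))) (BT.node (nat_lit 10362560) (BT.node (nat_lit 10362496) (BT.leaf (nat_lit 41595665)) (BT.leaf (nat_lit 41595681))) (BT.node (nat_lit 10362688) (BT.leaf (nat_lit 29558549)) (BT.leaf (nat_lit 37610017)))))) (BT.node (nat_lit 10363200) (BT.node (nat_lit 10363008) (BT.node (nat_lit 10362880) (BT.node (nat_lit 10362816) (BT.leaf (nat_lit 45844485)) (BT.leaf (nat_lit 40637729))) (BT.node (nat_lit 10362944) (BT.leaf (nat_lit 39390725)) (BT.leaf (nat_lit 33819153)))) (BT.node (nat_lit 10363136) (BT.node (nat_lit 10363072) (BT.leaf (nat_lit 43119125)) (BT.leaf (nat_lit 41452057))) (BT.node (nat_lit 10363142) (BT.leaf (nat_lit 49167377)) (BT.leaf (nat_lit 725616))))) (BT.node (nat_lit 10363456) (BT.node (nat_lit 10363328) (BT.node (nat_lit 10363264) (BT.leaf (nat_lit 47532805)) (BT.leaf (nat_lit 29561093))) (BT.node (nat_lit 10363392) (BT.leaf (nat_lit 50469917)) (BT.leaf (nat_lit 51040545)))) (BT.node (nat_lit 10363584) (BT.node (nat_lit 10363520) (BT.leaf (nat_lit 30850073)) (BT.leaf (nat_lit 40548385))) (BT.node (nat_lit 10363648) (BT.leaf (nat_lit 29561121)) (BT.leaf (nat_lit 48306209)))))))) (BT.node (nat_lit 10365312) (BT.node (nat_lit 10364484) (BT.node (nat_lit 10364098) (BT.node (nat_lit 10363904) (BT.node (nat_lit 10363780) (BT.node (nat_lit 10363776) (BT.leaf (nat_lit 48188193)) (BT.leaf (nat_lit 43338517))) (BT.node (nat_lit 10363840) (BT.leaf (nat_lit 665896)) (BT.leaf (nat_lit 45028613)))) (BT.node (nat_lit 10364032) (BT.node (nat_lit 10363968) (BT.leaf (nat_lit 28310045)) (BT.leaf (nat_lit 29504025))) (BT.node (nat_lit 10364096) (BT.leaf (nat_lit 46852633)) (BT.leaf (nat_lit 39586589))))) (BT.node (nat_lit 10364352) (BT.node (nat_lit 10364224) (BT.node (nat_lit 10364160) (BT.leaf (nat_lit 746044)) (BT.leaf (nat_lit 31319061))) (BT.node (nat_lit 10364288) (BT.leaf (nat_lit 51441425)) (BT.leaf (nat_lit 40637725)))) (BT.node (nat_lit 10364421) (BT.node (nat_lit 10364416) (BT.leaf (nat_lit 34216477)) (BT.leaf (nat_lit 40219665))) (BT.node (nat_lit 10364480) (BT.leaf (nat_lit 687176)) (BT.leaf (nat_lit 44980741)))))) (BT.node (nat_lit 10364928) (BT.node (nat_lit 10364672) (BT.node (nat_lit 10364544) (BT.node (nat_lit 10364485) (BT.leaf (nat_lit 677040)) (BT.leaf (nat_lit 677040))) (BT.node (nat_lit 10364608) (BT.leaf (nat_lit 33819921)) (BT.leaf (nat_lit 38513413)))) (BT.node (nat_lit 10364800) (BT.node (nat_lit 10364736) (BT.leaf (nat_lit 39815941)) (BT.leaf (nat_lit 42657561))) (BT.node (nat_lit 10364864) (BT.leaf (nat_lit 40211725)) (BT.leaf (nat_lit 48405009))))) (BT.node (nat_lit 10365184) (BT.node (nat_lit 10365056) (BT.node (nat_lit 10364992) (BT.leaf (nat_lit 43923737)) (BT.leaf (nat_lit 40828701))) (BT.node (nat_lit 10365120) (BT.leaf (nat_lit 40211729)) (BT.leaf (nat_lit 32274721)))) (BT.node (nat_lit 10365190) (BT.node (nat_lit 10365186) (BT.leaf (nat_lit 34350097)) (BT.leaf (nat_lit 787440))) (BT.node (nat_lit 10365248) (BT.leaf (nat_lit 787440)) (BT.leaf (nat_lit 34088985))))))) (BT.node (nat_lit 10366272) (BT.node (nat_lit 10365824) (BT.node (nat_lit 10365568) (BT.node (nat_lit 10365440) (BT.node (nat_lit 10365376) (BT.leaf (nat_lit 34088989)) (BT.leaf (nat_lit 44717853))) (BT.node (nat_lit 10365504) (BT.leaf (nat_lit 40861701)) (BT.leaf (nat_lit 40861705)))) (BT.node (nat_lit 10365696) (BT.node (nat_lit 10365632) (BT.leaf (nat_lit 40861709)) (BT.leaf (nat_lit 41875717))) (BT.node (nat_lit 10365760) (BT.leaf (nat_lit 40861721)) (BT.leaf (nat_lit 40861725))))) (BT.node (nat_lit 10366080) (BT.node (nat_lit 10365952) (BT.node (nat_lit 10365888) (BT.leaf (nat_lit 31105541)) (BT.leaf (nat_lit 35163937))) (BT.node (nat_lit 10366016) (BT.leaf (nat_lit 38611717)) (BT.leaf (nat_lit 32347165)))) (BT.node (nat_lit 10366146) (BT.node (nat_lit 10366144) (BT.leaf (nat_lit 28845329)) (BT.leaf (nat_lit 45714197))) (BT.node (nat_lit 10366208) (BT.leaf (nat_lit 654788)) (BT.leaf (nat_lit 45714201)))))) (BT.node (nat_lit 10366784) (BT.node (nat_lit 10366528) (BT.node (nat_lit 10366400) (BT.node (nat_lit 10366336) (BT.leaf (nat_lit 45714205)) (BT.leaf (nat_lit 29613601))) (BT.node (nat_lit 10366464) (BT.leaf (nat_lit 49738501)) (BT.leaf (nat_lit 30274325)))) (BT.node (nat_lit 10366656) (BT.node (nat_lit 10366592) (BT.leaf (nat_lit 30425105)) (BT.leaf (nat_lit 34942225))) (BT.node (nat_lit 10366720) (BT.leaf (nat_lit 44955933)) (BT.leaf (nat_lit 37041693))))) (BT.node (nat_lit 10367040) (BT.node (nat_lit 10366912) (BT.node (nat_lit 10366848) (BT.leaf (nat_lit 32027921)) (BT.leaf (nat_lit 41410593))) (BT.node (nat_lit 10366976) (BT.leaf (nat_lit 29565957)) (BT.leaf (nat_lit 45710625)))) (BT.node (nat_lit 10367168) (BT.node (nat_lit 10367104) (BT.leaf (nat_lit 38522401)) (BT.leaf (nat_lit 31006745))) (BT.node (nat_lit 10367232) (BT.leaf (nat_lit 50726921)) (BT.leaf (nat_lit 32835105))))))))) (BT.node (nat_lit 10371264) (BT.node (nat_lit 10369280) (BT.node (nat_lit 10368320) (BT.node (nat_lit 10367808) (BT.node (nat_lit 10367552) (BT.node (nat_lit 10367424) (BT.node (nat_lit 10367360) (BT.leaf (nat_lit 47181345)) (BT.leaf (nat_lit 47579169))) (BT.node (nat_lit 10367488) (BT.leaf (nat_lit 38311433)) (BT.leaf (nat_lit 38311689)))) (BT.node (nat_lit 10367680) (BT.node (nat_lit 10367616) (BT.leaf (nat_lit 38311445)) (BT.leaf (nat_lit 42866437))) (BT.node (nat_lit 10367744) (BT.leaf (nat_lit 42866453)) (BT.leaf (nat_lit 32240657))))) (BT.node (nat_lit 10368064) (BT.node (nat_lit 10367936) (BT.node (nat_lit 10367872) (BT.leaf (nat_lit 42976533)) (BT.leaf (nat_lit 46284297))) (BT.node (nat_lit 10368000) (BT.leaf (nat_lit 31220489)) (BT.leaf (nat_lit 43854113)))) (BT.node (nat_lit 10368192) (BT.node (nat_lit 10368128) (BT.leaf (nat_lit 30488325)) (BT.leaf (nat_lit 33824529))) (BT.node (nat_lit 10368256) (BT.leaf (nat_lit 50636321)) (BT.leaf (nat_lit 30488349)))))) (BT.node (nat_lit 10368832) (BT.node (nat_lit 10368576) (BT.node (nat_lit 10368448) (BT.node (nat_lit 10368384) (BT.leaf (nat_lit 29567761)) (BT.leaf (nat_lit 41576473))) (BT.node (nat_lit 10368512) (BT.leaf (nat_lit 34968597)) (BT.leaf (nat_lit 29646853)))) (BT.node (nat_lit 10368704) (BT.node (nat_lit 10368640) (BT.leaf (nat_lit 50888473)) (BT.leaf (nat_lit 38268193))) (BT.node (nat_lit 10368768) (BT.leaf (nat_lit 45144069)) (BT.leaf (nat_lit 49378829))))) (BT.node (nat_lit 10369029) (BT.node (nat_lit 10368960) (BT.node (nat_lit 10368896) (BT.leaf (nat_lit 32158469)) (BT.leaf (nat_lit 29572101))) (BT.node (nat_lit 10369024) (BT.leaf (nat_lit 42285337)) (BT.leaf (nat_lit 29573649)))) (BT.node (nat_lit 10369152) (BT.node (nat_lit 10369088) (BT.leaf (nat_lit 696756)) (BT.leaf (nat_lit 38910229))) (BT.node (nat_lit 10369216) (BT.leaf (nat_lit 30064661)) (BT.leaf (nat_lit 47602949))))))) (BT.node (nat_lit 10370240) (BT.node (nat_lit 10369728) (BT.node (nat_lit 10369536) (BT.node (nat_lit 10369408) (BT.node (nat_lit 10369344) (BT.leaf (nat_lit 47401477)) (BT.leaf (nat_lit 39096325))) (BT.node (nat_lit 10369472) (BT.leaf (nat_lit 38318597)) (BT.leaf (nat_lit 41457685)))) (BT.node (nat_lit 10369664) (BT.node (nat_lit 10369600) (BT.leaf (nat_lit 42294045)) (BT.leaf (nat_lit 31228945))) (BT.node (nat_lit 10369669) (BT.leaf (nat_lit 39573253)) (BT.leaf (nat_lit 660808))))) (BT.node (nat_lit 10369984) (BT.node (nat_lit 10369856) (BT.node (nat_lit 10369792) (BT.leaf (nat_lit 29575697)) (BT.leaf (nat_lit 39573273))) (BT.node (nat_lit 10369920) (BT.leaf (nat_lit 39573277)) (BT.leaf (nat_lit 28834833)))) (BT.node (nat_lit 10370112) (BT.node (nat_lit 10370048) (BT.leaf (nat_lit 45351685)) (BT.leaf (nat_lit 41479961))) (BT.node (nat_lit 10370176) (BT.leaf (nat_lit 28835089)) (BT.leaf (nat_lit 46932001)))))) (BT.node (nat_lit 10370752) (BT.node (nat_lit 10370496) (BT.node (nat_lit 10370368) (BT.node (nat_lit 10370304) (BT.leaf (nat_lit 29913625)) (BT.leaf (nat_lit 29913629))) (BT.node (nat_lit 10370432) (BT.leaf (nat_lit 34611733)) (BT.leaf (nat_lit 38014233)))) (BT.node (nat_lit 10370624) (BT.node (nat_lit 10370560) (BT.leaf (nat_lit 48355873)) (BT.leaf (nat_lit 30737161))) (BT.node (nat_lit 10370688) (BT.leaf (nat_lit 30737165)) (BT.leaf (nat_lit 33828373))))) (BT.node (nat_lit 10371008) (BT.node (nat_lit 10370880) (BT.node (nat_lit 10370816) (BT.leaf (nat_lit 30737177)) (BT.leaf (nat_lit 30737181))) (BT.node (nat_lit 10370944) (BT.leaf (nat_lit 38059541)) (BT.leaf (nat_lit 40104713)))) (BT.node (nat_lit 10371136) (BT.node (nat_lit 10371072) (BT.leaf (nat_lit 40239389)) (BT.leaf (nat_lit 43459845))) (BT.node (nat_lit 10371200) (BT.leaf (nat_lit 41484313)) (BT.leaf (nat_lit 40104737)))))))) (BT.node (nat_lit 10373248) (BT.node (nat_lit 10372224) (BT.node (nat_lit 10371776) (BT.node (nat_lit 10371520) (BT.node (nat_lit 10371392) (BT.node (nat_lit 10371328) (BT.leaf (nat_lit 31787281)) (BT.leaf (nat_lit 40239629))) (BT.node (nat_lit 10371456) (BT.leaf (nat_lit 39489813)) (BT.leaf (nat_lit 29579537)))) (BT.node (nat_lit 10371648) (BT.node (nat_lit 10371584) (BT.leaf (nat_lit 28870929)) (BT.leaf (nat_lit 30972449))) (BT.node (nat_lit 10371712) (BT.leaf (nat_lit 46229781)) (BT.leaf (nat_lit 42854677))))) (BT.node (nat_lit 10372032) (BT.node (nat_lit 10371904) (BT.node (nat_lit 10371840) (BT.leaf (nat_lit 46231821)) (BT.leaf (nat_lit 38033941))) (BT.node (nat_lit 10371968) (BT.leaf (nat_lit 42867973)) (BT.leaf (nat_lit 39166997)))) (BT.node (nat_lit 10372096) (BT.node (nat_lit 10372037) (BT.leaf (nat_lit 34984217)) (BT.leaf (nat_lit 751360))) (BT.node (nat_lit 10372160) (BT.leaf (nat_lit 48087065)) (BT.leaf (nat_lit 40367881)))))) (BT.node (nat_lit 10372736) (BT.node (nat_lit 10372480) (BT.node (nat_lit 10372352) (BT.node (nat_lit 10372288) (BT.leaf (nat_lit 40367885)) (BT.leaf (nat_lit 43495685))) (BT.node (nat_lit 10372416) (BT.leaf (nat_lit 41489177)) (BT.leaf (nat_lit 43789857)))) (BT.node (nat_lit 10372608) (BT.node (nat_lit 10372544) (BT.leaf (nat_lit 37936913)) (BT.leaf (nat_lit 46222105))) (BT.node (nat_lit 10372672) (BT.leaf (nat_lit 30953501)) (BT.leaf (nat_lit 43426053))))) (BT.node (nat_lit 10372992) (BT.node (nat_lit 10372864) (BT.node (nat_lit 10372800) (BT.leaf (nat_lit 29582865)) (BT.leaf (nat_lit 45503005))) (BT.node (nat_lit 10372928) (BT.leaf (nat_lit 48386593)) (BT.leaf (nat_lit 48386337)))) (BT.node (nat_lit 10373120) (BT.node (nat_lit 10373056) (BT.leaf (nat_lit 41492253)) (BT.leaf (nat_lit 32803077))) (BT.node (nat_lit 10373184) (BT.leaf (nat_lit 38406677)) (BT.leaf (nat_lit 50472469))))))) (BT.node (nat_lit 10374272) (BT.node (nat_lit 10373760) (BT.node (nat_lit 10373504) (BT.node (nat_lit 10373376) (BT.node (nat_lit 10373312) (BT.leaf (nat_lit 38407185)) (BT.leaf (nat_lit 46671649))) (BT.node (nat_lit 10373440) (BT.leaf (nat_lit 43329301)) (BT.leaf (nat_lit 43509025)))) (BT.node (nat_lit 10373632) (BT.node (nat_lit 10373568) (BT.leaf (nat_lit 48682269)) (BT.leaf (nat_lit 39917593))) (BT.node (nat_lit 10373696) (BT.leaf (nat_lit 46934025)) (BT.leaf (nat_lit 46934045))))) (BT.node (nat_lit 10374016) (BT.node (nat_lit 10373888) (BT.node (nat_lit 10373824) (BT.leaf (nat_lit 39158277)) (BT.leaf (nat_lit 48388869))) (BT.node (nat_lit 10373952) (BT.leaf (nat_lit 32563465)) (BT.leaf (nat_lit 36422405)))) (BT.node (nat_lit 10374144) (BT.node (nat_lit 10374080) (BT.leaf (nat_lit 32563481)) (BT.leaf (nat_lit 32563485))) (BT.node (nat_lit 10374208) (BT.leaf (nat_lit 32563489)) (BT.leaf (nat_lit 27834385)))))) (BT.node (nat_lit 10374848) (BT.node (nat_lit 10374592) (BT.node (nat_lit 10374464) (BT.node (nat_lit 10374400) (BT.leaf (nat_lit 30966561)) (BT.leaf (nat_lit 38777109))) (BT.node (nat_lit 10374528) (BT.leaf (nat_lit 30925589)) (BT.leaf (nat_lit 41498397)))) (BT.node (nat_lit 10374720) (BT.node (nat_lit 10374656) (BT.leaf (nat_lit 46714645)) (BT.leaf (nat_lit 42588169))) (BT.node (nat_lit 10374784) (BT.leaf (nat_lit 42588173)) (BT.leaf (nat_lit 46103841))))) (BT.node (nat_lit 10374976) (BT.node (nat_lit 10374915) (BT.node (nat_lit 10374912) (BT.leaf (nat_lit 41850885)) (BT.leaf (nat_lit 44444933))) (BT.node (nat_lit 10374916) (BT.leaf (nat_lit 716484)) (BT.leaf (nat_lit 716484)))) (BT.node (nat_lit 10375104) (BT.node (nat_lit 10375040) (BT.leaf (nat_lit 45106709)) (BT.leaf (nat_lit 49706521))) (BT.node (nat_lit 10375168) (BT.leaf (nat_lit 32359701)) (BT.leaf (nat_lit 33830933)))))))))))))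
noncomputable def big0_e90112 : BT Nat := (BT.node (nat_lit 10437824) (BT.node (nat_lit 10406848) (BT.node (nat_lit 10390976) (BT.node (nat_lit 10383300) (BT.node (nat_lit 10379392) (BT.node (nat_lit 10377344) (BT.node (nat_lit 10376256) (BT.node (nat_lit 10375744) (BT.node (nat_lit 10375488) (BT.node (nat_lit 10375360) (BT.node (nat_lit 10375296) (BT.leaf (nat_lit 46119437)) (BT.leaf (nat_lit 40934945))) (BT.node (nat_lit 10375424) (BT.leaf (nat_lit 35024149)) (BT.leaf (nat_lit 35025169)))) (BT.node (nat_lit 10375616) (BT.node (nat_lit 10375552) (BT.leaf (nat_lit 29587737)) (BT.leaf (nat_lit 48411665))) (BT.node (nat_lit 10375680) (BT.leaf (nat_lit 51754017)) (BT.leaf (nat_lit 29588753))))) (BT.node (nat_lit 10376000) (BT.node (nat_lit 10375872) (BT.node (nat_lit 10375808) (BT.leaf (nat_lit 29588241)) (BT.leaf (nat_lit 33832977))) (BT.node (nat_lit 10375936) (BT.leaf (nat_lit 30546969)) (BT.leaf (nat_lit 30546973)))) (BT.node (nat_lit 10376128) (BT.node (nat_lit 10376064) (BT.leaf (nat_lit 31790357)) (BT.leaf (nat_lit 50356241))) (BT.node (nat_lit 10376192) (BT.leaf (nat_lit 38219545)) (BT.leaf (nat_lit 30995985)))))) (BT.node (nat_lit 10376704) (BT.node (nat_lit 10376448) (BT.node (nat_lit 10376384) (BT.node (nat_lit 10376320) (BT.leaf (nat_lit 39883793)) (BT.leaf (nat_lit 30146069))) (BT.node (nat_lit 10376386) (BT.leaf (nat_lit 39799329)) (BT.leaf (nat_lit 718796)))) (BT.node (nat_lit 10376576) (BT.node (nat_lit 10376512) (BT.leaf (nat_lit 32806945)) (BT.leaf (nat_lit 29000737))) (BT.node (nat_lit 10376640) (BT.leaf (nat_lit 32806937)) (BT.leaf (nat_lit 32806941))))) (BT.node (nat_lit 10376960) (BT.node (nat_lit 10376832) (BT.node (nat_lit 10376768) (BT.leaf (nat_lit 38966277)) (BT.leaf (nat_lit 38014997))) (BT.node (nat_lit 10376896) (BT.leaf (nat_lit 39631889)) (BT.leaf (nat_lit 38281477)))) (BT.node (nat_lit 10377088) (BT.node (nat_lit 10377024) (BT.leaf (nat_lit 44229665)) (BT.leaf (nat_lit 38014749))) (BT.node (nat_lit 10377280) (BT.leaf (nat_lit 44230405)) (BT.leaf (nat_lit 42498081))))))) (BT.node (nat_lit 10378368) (BT.node (nat_lit 10377856) (BT.node (nat_lit 10377600) (BT.node (nat_lit 10377472) (BT.node (nat_lit 10377408) (BT.leaf (nat_lit 45066501)) (BT.leaf (nat_lit 45067809))) (BT.node (nat_lit 10377536) (BT.leaf (nat_lit 44929049)) (BT.leaf (nat_lit 39543557)))) (BT.node (nat_lit 10377728) (BT.node (nat_lit 10377664) (BT.leaf (nat_lit 28940577)) (BT.leaf (nat_lit 40929049))) (BT.node (nat_lit 10377792) (BT.leaf (nat_lit 40929053)) (BT.leaf (nat_lit 43151393))))) (BT.node (nat_lit 10378112) (BT.node (nat_lit 10377984) (BT.node (nat_lit 10377920) (BT.leaf (nat_lit 49400353)) (BT.leaf (nat_lit 32463905))) (BT.node (nat_lit 10378048) (BT.leaf (nat_lit 45011461)) (BT.leaf (nat_lit 39218457)))) (BT.node (nat_lit 10378240) (BT.node (nat_lit 10378176) (BT.leaf (nat_lit 29590545)) (BT.leaf (nat_lit 43552289))) (BT.node (nat_lit 10378304) (BT.leaf (nat_lit 39764229)) (BT.leaf (nat_lit 32820741)))))) (BT.node (nat_lit 10378880) (BT.node (nat_lit 10378624) (BT.node (nat_lit 10378496) (BT.node (nat_lit 10378432) (BT.leaf (nat_lit 32821025)) (BT.leaf (nat_lit 38275589))) (BT.node (nat_lit 10378560) (BT.leaf (nat_lit 44973073)) (BT.leaf (nat_lit 43553057)))) (BT.node (nat_lit 10378752) (BT.node (nat_lit 10378688) (BT.leaf (nat_lit 45267993)) (BT.leaf (nat_lit 29642757))) (BT.node (nat_lit 10378816) (BT.leaf (nat_lit 29592861)) (BT.leaf (nat_lit 43435269))))) (BT.node (nat_lit 10379136) (BT.node (nat_lit 10379008) (BT.node (nat_lit 10378944) (BT.leaf (nat_lit 39672605)) (BT.leaf (nat_lit 38010397))) (BT.node (nat_lit 10379072) (BT.leaf (nat_lit 49740297)) (BT.leaf (nat_lit 45187857)))) (BT.node (nat_lit 10379264) (BT.node (nat_lit 10379200) (BT.leaf (nat_lit 30502417)) (BT.leaf (nat_lit 49665797))) (BT.node (nat_lit 10379328) (BT.leaf (nat_lit 29594909)) (BT.leaf (nat_lit 29594141)))))))) (BT.node (nat_lit 10381440) (BT.node (nat_lit 10380416) (BT.node (nat_lit 10379904) (BT.node (nat_lit 10379648) (BT.node (nat_lit 10379520) (BT.node (nat_lit 10379456) (BT.leaf (nat_lit 33028881)) (BT.leaf (nat_lit 33028885))) (BT.node (nat_lit 10379584) (BT.leaf (nat_lit 46213649)) (BT.leaf (nat_lit 29595153)))) (BT.node (nat_lit 10379776) (BT.node (nat_lit 10379712) (BT.leaf (nat_lit 49789213)) (BT.leaf (nat_lit 44238853))) (BT.node (nat_lit 10379840) (BT.leaf (nat_lit 30679557)) (BT.leaf (nat_lit 38468641))))) (BT.node (nat_lit 10380160) (BT.node (nat_lit 10380032) (BT.node (nat_lit 10379968) (BT.leaf (nat_lit 49188637)) (BT.leaf (nat_lit 38303749))) (BT.node (nat_lit 10380096) (BT.leaf (nat_lit 47169293)) (BT.leaf (nat_lit 46424585)))) (BT.node (nat_lit 10380288) (BT.node (nat_lit 10380224) (BT.leaf (nat_lit 44665349)) (BT.leaf (nat_lit 42866973))) (BT.node (nat_lit 10380352) (BT.leaf (nat_lit 31012357)) (BT.leaf (nat_lit 40739085)))))) (BT.node (nat_lit 10380928) (BT.node (nat_lit 10380672) (BT.node (nat_lit 10380544) (BT.node (nat_lit 10380480) (BT.leaf (nat_lit 42869525)) (BT.leaf (nat_lit 40765721))) (BT.node (nat_lit 10380608) (BT.leaf (nat_lit 49747473)) (BT.leaf (nat_lit 48547869)))) (BT.node (nat_lit 10380800) (BT.node (nat_lit 10380736) (BT.leaf (nat_lit 29632289)) (BT.leaf (nat_lit 32778773))) (BT.node (nat_lit 10380864) (BT.leaf (nat_lit 38035745)) (BT.leaf (nat_lit 40885513))))) (BT.node (nat_lit 10381184) (BT.node (nat_lit 10381056) (BT.node (nat_lit 10380992) (BT.leaf (nat_lit 29598741)) (BT.leaf (nat_lit 32603929))) (BT.node (nat_lit 10381120) (BT.leaf (nat_lit 32603933)) (BT.leaf (nat_lit 43045133)))) (BT.node (nat_lit 10381312) (BT.node (nat_lit 10381248) (BT.leaf (nat_lit 29598725)) (BT.leaf (nat_lit 40761121))) (BT.node (nat_lit 10381376) (BT.leaf (nat_lit 38505497)) (BT.leaf (nat_lit 38505501))))))) (BT.node (nat_lit 10382402) (BT.node (nat_lit 10381952) (BT.node (nat_lit 10381696) (BT.node (nat_lit 10381568) (BT.node (nat_lit 10381504) (BT.leaf (nat_lit 29599505)) (BT.leaf (nat_lit 41636101))) (BT.node (nat_lit 10381632) (BT.leaf (nat_lit 41526041)) (BT.leaf (nat_lit 41930777)))) (BT.node (nat_lit 10381824) (BT.node (nat_lit 10381760) (BT.leaf (nat_lit 41526537)) (BT.leaf (nat_lit 46504993))) (BT.node (nat_lit 10381888) (BT.leaf (nat_lit 41527581)) (BT.leaf (nat_lit 41930765))))) (BT.node (nat_lit 10382208) (BT.node (nat_lit 10382080) (BT.node (nat_lit 10382016) (BT.leaf (nat_lit 41501205)) (BT.leaf (nat_lit 45418501))) (BT.node (nat_lit 10382144) (BT.leaf (nat_lit 32030229)) (BT.leaf (nat_lit 34061841)))) (BT.node (nat_lit 10382336) (BT.node (nat_lit 10382272) (BT.leaf (nat_lit 40975365)) (BT.leaf (nat_lit 37978121))) (BT.node (nat_lit 10382400) (BT.leaf (nat_lit 42463261)) (BT.leaf (nat_lit 49239825)))))) (BT.node (nat_lit 10382848) (BT.node (nat_lit 10382656) (BT.node (nat_lit 10382528) (BT.node (nat_lit 10382464) (BT.leaf (nat_lit 754716)) (BT.leaf (nat_lit 31759393))) (BT.node (nat_lit 10382592) (BT.leaf (nat_lit 39195141)) (BT.leaf (nat_lit 50709273)))) (BT.node (nat_lit 10382784) (BT.node (nat_lit 10382720) (BT.leaf (nat_lit 50709277)) (BT.leaf (nat_lit 50238981))) (BT.node (nat_lit 10382788) (BT.leaf (nat_lit 38071321)) (BT.leaf (nat_lit 667084))))) (BT.node (nat_lit 10383104) (BT.node (nat_lit 10382976) (BT.node (nat_lit 10382912) (BT.leaf (nat_lit 38071325)) (BT.leaf (nat_lit 32600849))) (BT.node (nat_lit 10383040) (BT.leaf (nat_lit 41461281)) (BT.leaf (nat_lit 41461025)))) (BT.node (nat_lit 10383232) (BT.node (nat_lit 10383168) (BT.leaf (nat_lit 41931781)) (BT.leaf (nat_lit 42196001))) (BT.node (nat_lit 10383296) (BT.leaf (nat_lit 30168593)) (BT.leaf (nat_lit 40601629))))))))) (BT.node (nat_lit 10387072) (BT.node (nat_lit 10385024) (BT.node (nat_lit 10384128) (BT.node (nat_lit 10383680) (BT.node (nat_lit 10383488) (BT.node (nat_lit 10383365) (BT.node (nat_lit 10383360) (BT.leaf (nat_lit 750484)) (BT.leaf (nat_lit 30412577))) (BT.node (nat_lit 10383424) (BT.leaf (nat_lit 761476)) (BT.leaf (nat_lit 40224785)))) (BT.node (nat_lit 10383552) (BT.node (nat_lit 10383494) (BT.leaf (nat_lit 40281357)) (BT.leaf (nat_lit 763160))) (BT.node (nat_lit 10383616) (BT.leaf (nat_lit 40062997)) (BT.leaf (nat_lit 31561233))))) (BT.node (nat_lit 10383936) (BT.node (nat_lit 10383808) (BT.node (nat_lit 10383744) (BT.leaf (nat_lit 29951753)) (BT.leaf (nat_lit 29951769))) (BT.node (nat_lit 10383872) (BT.leaf (nat_lit 29951773)) (BT.leaf (nat_lit 30279961)))) (BT.node (nat_lit 10384064) (BT.node (nat_lit 10384000) (BT.leaf (nat_lit 30279965)) (BT.leaf (nat_lit 34089481))) (BT.node (nat_lit 10384070) (BT.leaf (nat_lit 44429833)) (BT.leaf (nat_lit 675280)))))) (BT.node (nat_lit 10384576) (BT.node (nat_lit 10384384) (BT.node (nat_lit 10384256) (BT.node (nat_lit 10384192) (BT.leaf (nat_lit 30638361)) (BT.leaf (nat_lit 34089497))) (BT.node (nat_lit 10384320) (BT.leaf (nat_lit 41537309)) (BT.leaf (nat_lit 30113557)))) (BT.node (nat_lit 10384452) (BT.node (nat_lit 10384448) (BT.leaf (nat_lit 29603857)) (BT.leaf (nat_lit 41538077))) (BT.node (nat_lit 10384512) (BT.leaf (nat_lit 693892)) (BT.leaf (nat_lit 34141201))))) (BT.node (nat_lit 10384768) (BT.node (nat_lit 10384704) (BT.node (nat_lit 10384640) (BT.leaf (nat_lit 28867857)) (BT.leaf (nat_lit 41538329))) (BT.node (nat_lit 10384708) (BT.leaf (nat_lit 35195673)) (BT.leaf (nat_lit 797184)))) (BT.node (nat_lit 10384896) (BT.node (nat_lit 10384832) (BT.leaf (nat_lit 50427665)) (BT.leaf (nat_lit 38297629))) (BT.node (nat_lit 10384960) (BT.leaf (nat_lit 38567941)) (BT.leaf (nat_lit 28968977))))))) (BT.node (nat_lit 10386048) (BT.node (nat_lit 10385536) (BT.node (nat_lit 10385280) (BT.node (nat_lit 10385152) (BT.node (nat_lit 10385088) (BT.leaf (nat_lit 38567949)) (BT.leaf (nat_lit 33838865))) (BT.node (nat_lit 10385216) (BT.leaf (nat_lit 31654425)) (BT.leaf (nat_lit 31654429)))) (BT.node (nat_lit 10385408) (BT.node (nat_lit 10385344) (BT.leaf (nat_lit 32369929)) (BT.leaf (nat_lit 32369933))) (BT.node (nat_lit 10385472) (BT.leaf (nat_lit 32369937)) (BT.leaf (nat_lit 32369945))))) (BT.node (nat_lit 10385792) (BT.node (nat_lit 10385664) (BT.node (nat_lit 10385600) (BT.leaf (nat_lit 32369949)) (BT.leaf (nat_lit 32369953))) (BT.node (nat_lit 10385728) (BT.leaf (nat_lit 37746697)) (BT.leaf (nat_lit 28985873)))) (BT.node (nat_lit 10385920) (BT.node (nat_lit 10385856) (BT.leaf (nat_lit 28989457)) (BT.leaf (nat_lit 32370201))) (BT.node (nat_lit 10385984) (BT.leaf (nat_lit 32370205)) (BT.leaf (nat_lit 43252241)))))) (BT.node (nat_lit 10386560) (BT.node (nat_lit 10386304) (BT.node (nat_lit 10386176) (BT.node (nat_lit 10386112) (BT.leaf (nat_lit 38139925)) (BT.leaf (nat_lit 34960157))) (BT.node (nat_lit 10386240) (BT.leaf (nat_lit 32335377)) (BT.leaf (nat_lit 40443933)))) (BT.node (nat_lit 10386432) (BT.node (nat_lit 10386368) (BT.leaf (nat_lit 31782405)) (BT.leaf (nat_lit 28974873))) (BT.node (nat_lit 10386496) (BT.leaf (nat_lit 31782417)) (BT.leaf (nat_lit 31782421))))) (BT.node (nat_lit 10386816) (BT.node (nat_lit 10386688) (BT.node (nat_lit 10386624) (BT.leaf (nat_lit 29609245)) (BT.leaf (nat_lit 44046341))) (BT.node (nat_lit 10386752) (BT.leaf (nat_lit 37938449)) (BT.leaf (nat_lit 44046357)))) (BT.node (nat_lit 10386944) (BT.node (nat_lit 10386880) (BT.leaf (nat_lit 44046369)) (BT.leaf (nat_lit 32496133))) (BT.node (nat_lit 10387008) (BT.leaf (nat_lit 29609745)) (BT.leaf (nat_lit 29609489)))))))) (BT.node (nat_lit 10388928) (BT.node (nat_lit 10387968) (BT.node (nat_lit 10387584) (BT.node (nat_lit 10387328) (BT.node (nat_lit 10387200) (BT.node (nat_lit 10387136) (BT.leaf (nat_lit 32496153)) (BT.leaf (nat_lit 32496157))) (BT.node (nat_lit 10387264) (BT.leaf (nat_lit 29604881)) (BT.leaf (nat_lit 39661849)))) (BT.node (nat_lit 10387456) (BT.node (nat_lit 10387392) (BT.leaf (nat_lit 47191317)) (BT.leaf (nat_lit 29842977))) (BT.node (nat_lit 10387520) (BT.leaf (nat_lit 32133149)) (BT.leaf (nat_lit 28996105))))) (BT.node (nat_lit 10387840) (BT.node (nat_lit 10387712) (BT.node (nat_lit 10387648) (BT.leaf (nat_lit 29953569)) (BT.leaf (nat_lit 30334737))) (BT.node (nat_lit 10387776) (BT.leaf (nat_lit 30334741)) (BT.leaf (nat_lit 29610773)))) (BT.node (nat_lit 10387843) (BT.node (nat_lit 10387841) (BT.leaf (nat_lit 47051541)) (BT.leaf (nat_lit 746148))) (BT.node (nat_lit 10387904) (BT.leaf (nat_lit 746148)) (BT.leaf (nat_lit 29950497)))))) (BT.node (nat_lit 10388480) (BT.node (nat_lit 10388224) (BT.node (nat_lit 10388096) (BT.node (nat_lit 10388032) (BT.leaf (nat_lit 28994321)) (BT.leaf (nat_lit 37968921))) (BT.node (nat_lit 10388160) (BT.leaf (nat_lit 37968925)) (BT.leaf (nat_lit 41022493)))) (BT.node (nat_lit 10388352) (BT.node (nat_lit 10388288) (BT.leaf (nat_lit 29611293)) (BT.leaf (nat_lit 47413777))) (BT.node (nat_lit 10388416) (BT.leaf (nat_lit 30982933)) (BT.leaf (nat_lit 49086993))))) (BT.node (nat_lit 10388736) (BT.node (nat_lit 10388608) (BT.node (nat_lit 10388544) (BT.leaf (nat_lit 38880025)) (BT.leaf (nat_lit 38880029))) (BT.node (nat_lit 10388672) (BT.leaf (nat_lit 32358917)) (BT.leaf (nat_lit 40523541)))) (BT.node (nat_lit 10388800) (BT.node (nat_lit 10388741) (BT.leaf (nat_lit 40523549)) (BT.leaf (nat_lit 700600))) (BT.node (nat_lit 10388864) (BT.leaf (nat_lit 42200841)) (BT.leaf (nat_lit 42200845))))))) (BT.node (nat_lit 10389829) (BT.node (nat_lit 10389440) (BT.node (nat_lit 10389184) (BT.node (nat_lit 10389056) (BT.node (nat_lit 10388992) (BT.leaf (nat_lit 49184289)) (BT.leaf (nat_lit 45661189))) (BT.node (nat_lit 10389120) (BT.leaf (nat_lit 30338577)) (BT.leaf (nat_lit 31649297)))) (BT.node (nat_lit 10389312) (BT.node (nat_lit 10389248) (BT.leaf (nat_lit 47454225)) (BT.leaf (nat_lit 48328209))) (BT.node (nat_lit 10389376) (BT.leaf (nat_lit 31083541)) (BT.leaf (nat_lit 50904341))))) (BT.node (nat_lit 10389696) (BT.node (nat_lit 10389568) (BT.node (nat_lit 10389504) (BT.leaf (nat_lit 40516121)) (BT.leaf (nat_lit 40516125))) (BT.node (nat_lit 10389632) (BT.leaf (nat_lit 44962821)) (BT.leaf (nat_lit 29614613)))) (BT.node (nat_lit 10389761) (BT.node (nat_lit 10389760) (BT.leaf (nat_lit 49178137)) (BT.leaf (nat_lit 45055501))) (BT.node (nat_lit 10389824) (BT.leaf (nat_lit 767848)) (BT.leaf (nat_lit 31268889)))))) (BT.node (nat_lit 10390400) (BT.node (nat_lit 10390144) (BT.node (nat_lit 10390016) (BT.node (nat_lit 10389952) (BT.leaf (nat_lit 716940)) (BT.leaf (nat_lit 31753233))) (BT.node (nat_lit 10390080) (BT.leaf (nat_lit 41191957)) (BT.leaf (nat_lit 30421777)))) (BT.node (nat_lit 10390272) (BT.node (nat_lit 10390208) (BT.leaf (nat_lit 47081493)) (BT.leaf (nat_lit 44244497))) (BT.node (nat_lit 10390336) (BT.leaf (nat_lit 29564937)) (BT.leaf (nat_lit 29618189))))) (BT.node (nat_lit 10390656) (BT.node (nat_lit 10390528) (BT.node (nat_lit 10390464) (BT.leaf (nat_lit 29618441)) (BT.leaf (nat_lit 32138777))) (BT.node (nat_lit 10390592) (BT.leaf (nat_lit 29617945)) (BT.leaf (nat_lit 47140893)))) (BT.node (nat_lit 10390848) (BT.node (nat_lit 10390720) (BT.leaf (nat_lit 29618461)) (BT.leaf (nat_lit 29617949))) (BT.node (nat_lit 10390912) (BT.leaf (nat_lit 33840153)) (BT.leaf (nat_lit 29618457)))))))))) (BT.node (nat_lit 10399104) (BT.node (nat_lit 10394944) (BT.node (nat_lit 10393152) (BT.node (nat_lit 10392064) (BT.node (nat_lit 10391488) (BT.node (nat_lit 10391232) (BT.node (nat_lit 10391104) (BT.node (nat_lit 10391040) (BT.leaf (nat_lit 47140873)) (BT.leaf (nat_lit 31344409))) (BT.node (nat_lit 10391168) (BT.leaf (nat_lit 29621273)) (BT.leaf (nat_lit 28962837)))) (BT.node (nat_lit 10391360) (BT.node (nat_lit 10391296) (BT.leaf (nat_lit 50839585)) (BT.leaf (nat_lit 37927457))) (BT.node (nat_lit 10391424) (BT.leaf (nat_lit 31064345)) (BT.leaf (nat_lit 35033877))))) (BT.node (nat_lit 10391744) (BT.node (nat_lit 10391616) (BT.node (nat_lit 10391552) (BT.leaf (nat_lit 29621009)) (BT.leaf (nat_lit 28962833))) (BT.node (nat_lit 10391680) (BT.leaf (nat_lit 29622805)) (BT.leaf (nat_lit 31105565)))) (BT.node (nat_lit 10391872) (BT.node (nat_lit 10391808) (BT.leaf (nat_lit 30925329)) (BT.leaf (nat_lit 50839317))) (BT.node (nat_lit 10391936) (BT.leaf (nat_lit 38277893)) (BT.leaf (nat_lit 41660705)))))) (BT.node (nat_lit 10392640) (BT.node (nat_lit 10392384) (BT.node (nat_lit 10392256) (BT.node (nat_lit 10392128) (BT.leaf (nat_lit 49669125)) (BT.leaf (nat_lit 44956193))) (BT.node (nat_lit 10392320) (BT.leaf (nat_lit 42501385)) (BT.leaf (nat_lit 41410069)))) (BT.node (nat_lit 10392512) (BT.node (nat_lit 10392448) (BT.leaf (nat_lit 41406485)) (BT.leaf (nat_lit 37780753))) (BT.node (nat_lit 10392576) (BT.leaf (nat_lit 42494225)) (BT.leaf (nat_lit 40623637))))) (BT.node (nat_lit 10392896) (BT.node (nat_lit 10392768) (BT.node (nat_lit 10392704) (BT.leaf (nat_lit 45710597)) (BT.leaf (nat_lit 35007505))) (BT.node (nat_lit 10392832) (BT.leaf (nat_lit 50909457)) (BT.leaf (nat_lit 35007497)))) (BT.node (nat_lit 10393024) (BT.node (nat_lit 10392960) (BT.leaf (nat_lit 42884117)) (BT.leaf (nat_lit 32834053))) (BT.node (nat_lit 10393088) (BT.leaf (nat_lit 30543121)) (BT.leaf (nat_lit 46043141))))))) (BT.node (nat_lit 10394050) (BT.node (nat_lit 10393664) (BT.node (nat_lit 10393408) (BT.node (nat_lit 10393280) (BT.node (nat_lit 10393216) (BT.leaf (nat_lit 48417825)) (BT.leaf (nat_lit 46047521))) (BT.node (nat_lit 10393344) (BT.leaf (nat_lit 46946325)) (BT.leaf (nat_lit 38523669)))) (BT.node (nat_lit 10393536) (BT.node (nat_lit 10393472) (BT.leaf (nat_lit 31497221)) (BT.leaf (nat_lit 39598605))) (BT.node (nat_lit 10393600) (BT.leaf (nat_lit 31752969)) (BT.leaf (nat_lit 29636101))))) (BT.node (nat_lit 10393920) (BT.node (nat_lit 10393792) (BT.node (nat_lit 10393728) (BT.leaf (nat_lit 31752977)) (BT.leaf (nat_lit 31752985))) (BT.node (nat_lit 10393856) (BT.leaf (nat_lit 31752989)) (BT.leaf (nat_lit 31752993)))) (BT.node (nat_lit 10394048) (BT.node (nat_lit 10393984) (BT.leaf (nat_lit 28947481)) (BT.leaf (nat_lit 31756565))) (BT.node (nat_lit 10394049) (BT.leaf (nat_lit 41576477)) (BT.leaf (nat_lit 758832)))))) (BT.node (nat_lit 10394432) (BT.node (nat_lit 10394176) (BT.node (nat_lit 10394053) (BT.node (nat_lit 10394051) (BT.leaf (nat_lit 758832)) (BT.leaf (nat_lit 758832))) (BT.node (nat_lit 10394112) (BT.leaf (nat_lit 758832)) (BT.leaf (nat_lit 43770653)))) (BT.node (nat_lit 10394304) (BT.node (nat_lit 10394240) (BT.leaf (nat_lit 38478597)) (BT.leaf (nat_lit 51920153))) (BT.node (nat_lit 10394368) (BT.leaf (nat_lit 52067361)) (BT.leaf (nat_lit 32015393))))) (BT.node (nat_lit 10394688) (BT.node (nat_lit 10394560) (BT.node (nat_lit 10394496) (BT.leaf (nat_lit 29626377)) (BT.leaf (nat_lit 46927377))) (BT.node (nat_lit 10394624) (BT.leaf (nat_lit 30694153)) (BT.leaf (nat_lit 49158677)))) (BT.node (nat_lit 10394816) (BT.node (nat_lit 10394752) (BT.leaf (nat_lit 34252057)) (BT.leaf (nat_lit 46645533))) (BT.node (nat_lit 10394880) (BT.leaf (nat_lit 35699477)) (BT.leaf (nat_lit 36197913)))))))) (BT.node (nat_lit 10397056) (BT.node (nat_lit 10395968) (BT.node (nat_lit 10395456) (BT.node (nat_lit 10395200) (BT.node (nat_lit 10395072) (BT.node (nat_lit 10395008) (BT.leaf (nat_lit 29627413)) (BT.leaf (nat_lit 34251285))) (BT.node (nat_lit 10395136) (BT.leaf (nat_lit 43375137)) (BT.leaf (nat_lit 31010849)))) (BT.node (nat_lit 10395328) (BT.node (nat_lit 10395264) (BT.leaf (nat_lit 30694161)) (BT.leaf (nat_lit 30694165))) (BT.node (nat_lit 10395392) (BT.leaf (nat_lit 45138713)) (BT.leaf (nat_lit 45317649))))) (BT.node (nat_lit 10395712) (BT.node (nat_lit 10395584) (BT.node (nat_lit 10395520) (BT.leaf (nat_lit 45317653)) (BT.leaf (nat_lit 29913093))) (BT.node (nat_lit 10395648) (BT.leaf (nat_lit 39610645)) (BT.leaf (nat_lit 29913117)))) (BT.node (nat_lit 10395840) (BT.node (nat_lit 10395776) (BT.leaf (nat_lit 29913121)) (BT.leaf (nat_lit 29648921))) (BT.node (nat_lit 10395904) (BT.leaf (nat_lit 29648925)) (BT.leaf (nat_lit 32067605)))))) (BT.node (nat_lit 10396480) (BT.node (nat_lit 10396224) (BT.node (nat_lit 10396096) (BT.node (nat_lit 10396032) (BT.leaf (nat_lit 41584157)) (BT.leaf (nat_lit 32068629))) (BT.node (nat_lit 10396160) (BT.leaf (nat_lit 41060641)) (BT.leaf (nat_lit 47187477)))) (BT.node (nat_lit 10396352) (BT.node (nat_lit 10396288) (BT.leaf (nat_lit 46478621)) (BT.leaf (nat_lit 42074657))) (BT.node (nat_lit 10396416) (BT.leaf (nat_lit 29629965)) (BT.leaf (nat_lit 40413201))))) (BT.node (nat_lit 10396800) (BT.node (nat_lit 10396608) (BT.node (nat_lit 10396544) (BT.leaf (nat_lit 42074145)) (BT.leaf (nat_lit 29984785))) (BT.node (nat_lit 10396736) (BT.leaf (nat_lit 37885205)) (BT.leaf (nat_lit 39986185)))) (BT.node (nat_lit 10396928) (BT.node (nat_lit 10396864) (BT.leaf (nat_lit 40765705)) (BT.leaf (nat_lit 30931985))) (BT.node (nat_lit 10396992) (BT.leaf (nat_lit 30931989)) (BT.leaf (nat_lit 48810245))))))) (BT.node (nat_lit 10398080) (BT.node (nat_lit 10397568) (BT.node (nat_lit 10397312) (BT.node (nat_lit 10397184) (BT.node (nat_lit 10397120) (BT.leaf (nat_lit 33578761)) (BT.leaf (nat_lit 28981265))) (BT.node (nat_lit 10397248) (BT.leaf (nat_lit 28460561)) (BT.leaf (nat_lit 30607893)))) (BT.node (nat_lit 10397440) (BT.node (nat_lit 10397376) (BT.leaf (nat_lit 30607897)) (BT.leaf (nat_lit 30607901))) (BT.node (nat_lit 10397504) (BT.leaf (nat_lit 29632785)) (BT.leaf (nat_lit 43880973))))) (BT.node (nat_lit 10397824) (BT.node (nat_lit 10397696) (BT.node (nat_lit 10397632) (BT.leaf (nat_lit 45454345)) (BT.leaf (nat_lit 29633809))) (BT.node (nat_lit 10397760) (BT.leaf (nat_lit 31226905)) (BT.leaf (nat_lit 45005577)))) (BT.node (nat_lit 10397952) (BT.node (nat_lit 10397888) (BT.leaf (nat_lit 31135765)) (BT.leaf (nat_lit 35306017))) (BT.node (nat_lit 10398016) (BT.leaf (nat_lit 31135773)) (BT.leaf (nat_lit 41349397)))))) (BT.node (nat_lit 10398592) (BT.node (nat_lit 10398336) (BT.node (nat_lit 10398208) (BT.node (nat_lit 10398144) (BT.leaf (nat_lit 41444885)) (BT.leaf (nat_lit 41592329))) (BT.node (nat_lit 10398272) (BT.leaf (nat_lit 42939421)) (BT.leaf (nat_lit 30158597)))) (BT.node (nat_lit 10398464) (BT.node (nat_lit 10398400) (BT.leaf (nat_lit 46928149)) (BT.leaf (nat_lit 29636121))) (BT.node (nat_lit 10398528) (BT.leaf (nat_lit 30158609)) (BT.leaf (nat_lit 47172889))))) (BT.node (nat_lit 10398848) (BT.node (nat_lit 10398720) (BT.node (nat_lit 10398656) (BT.leaf (nat_lit 30158625)) (BT.leaf (nat_lit 43175173))) (BT.node (nat_lit 10398784) (BT.leaf (nat_lit 28953873)) (BT.leaf (nat_lit 45249557)))) (BT.node (nat_lit 10398976) (BT.node (nat_lit 10398912) (BT.leaf (nat_lit 29636881)) (BT.leaf (nat_lit 40360717))) (BT.node (nat_lit 10399040) (BT.leaf (nat_lit 45549585)) (BT.leaf (nat_lit 49462041))))))))) (BT.node (nat_lit 10402752) (BT.node (nat_lit 10401024) (BT.node (nat_lit 10400192) (BT.node (nat_lit 10399616) (BT.node (nat_lit 10399360) (BT.node (nat_lit 10399232) (BT.node (nat_lit 10399168) (BT.leaf (nat_lit 32604425)) (BT.leaf (nat_lit 41349401))) (BT.node (nat_lit 10399296) (BT.leaf (nat_lit 41349405)) (BT.leaf (nat_lit 32604433)))) (BT.node (nat_lit 10399488) (BT.node (nat_lit 10399424) (BT.leaf (nat_lit 51312669)) (BT.leaf (nat_lit 29638157))) (BT.node (nat_lit 10399552) (BT.leaf (nat_lit 28954389)) (BT.leaf (nat_lit 40385813))))) (BT.node (nat_lit 10399936) (BT.node (nat_lit 10399744) (BT.node (nat_lit 10399680) (BT.leaf (nat_lit 49191429)) (BT.leaf (nat_lit 47552793))) (BT.node (nat_lit 10399872) (BT.leaf (nat_lit 41597965)) (BT.leaf (nat_lit 40385049)))) (BT.node (nat_lit 10400064) (BT.node (nat_lit 10400000) (BT.leaf (nat_lit 38102049)) (BT.leaf (nat_lit 42643485))) (BT.node (nat_lit 10400128) (BT.leaf (nat_lit 28056337)) (BT.leaf (nat_lit 28052497)))))) (BT.node (nat_lit 10400580) (BT.node (nat_lit 10400448) (BT.node (nat_lit 10400320) (BT.node (nat_lit 10400256) (BT.leaf (nat_lit 43891993)) (BT.leaf (nat_lit 35102493))) (BT.node (nat_lit 10400384) (BT.leaf (nat_lit 30060805)) (BT.leaf (nat_lit 42904345)))) (BT.node (nat_lit 10400576) (BT.node (nat_lit 10400512) (BT.leaf (nat_lit 30060817)) (BT.leaf (nat_lit 35799581))) (BT.node (nat_lit 10400577) (BT.leaf (nat_lit 32185369)) (BT.leaf (nat_lit 670376))))) (BT.node (nat_lit 10400768) (BT.node (nat_lit 10400640) (BT.node (nat_lit 10400584) (BT.leaf (nat_lit 670376)) (BT.leaf (nat_lit 670376))) (BT.node (nat_lit 10400704) (BT.leaf (nat_lit 42909713)) (BT.leaf (nat_lit 43639829)))) (BT.node (nat_lit 10400896) (BT.node (nat_lit 10400832) (BT.leaf (nat_lit 42350861)) (BT.leaf (nat_lit 29642773))) (BT.node (nat_lit 10400960) (BT.leaf (nat_lit 41603337)) (BT.leaf (nat_lit 30878993))))))) (BT.node (nat_lit 10401920) (BT.node (nat_lit 10401536) (BT.node (nat_lit 10401280) (BT.node (nat_lit 10401152) (BT.node (nat_lit 10401088) (BT.leaf (nat_lit 51680285)) (BT.leaf (nat_lit 39676693))) (BT.node (nat_lit 10401216) (BT.leaf (nat_lit 29000477)) (BT.leaf (nat_lit 40762637)))) (BT.node (nat_lit 10401408) (BT.node (nat_lit 10401344) (BT.leaf (nat_lit 45117973)) (BT.leaf (nat_lit 39982873))) (BT.node (nat_lit 10401472) (BT.leaf (nat_lit 38931981)) (BT.leaf (nat_lit 47859981))))) (BT.node (nat_lit 10401669) (BT.node (nat_lit 10401600) (BT.node (nat_lit 10401541) (BT.leaf (nat_lit 48300561)) (BT.leaf (nat_lit 796964))) (BT.node (nat_lit 10401664) (BT.leaf (nat_lit 41876761)) (BT.leaf (nat_lit 41876765)))) (BT.node (nat_lit 10401792) (BT.node (nat_lit 10401728) (BT.leaf (nat_lit 672616)) (BT.leaf (nat_lit 32246041))) (BT.node (nat_lit 10401856) (BT.leaf (nat_lit 29570845)) (BT.leaf (nat_lit 30831633)))))) (BT.node (nat_lit 10402304) (BT.node (nat_lit 10402053) (BT.node (nat_lit 10402048) (BT.node (nat_lit 10401984) (BT.leaf (nat_lit 29570841)) (BT.leaf (nat_lit 30664725))) (BT.node (nat_lit 10402052) (BT.leaf (nat_lit 39982877)) (BT.leaf (nat_lit 713736)))) (BT.node (nat_lit 10402176) (BT.node (nat_lit 10402112) (BT.leaf (nat_lit 713736)) (BT.leaf (nat_lit 29593629))) (BT.node (nat_lit 10402240) (BT.leaf (nat_lit 40457225)) (BT.leaf (nat_lit 30662917))))) (BT.node (nat_lit 10402560) (BT.node (nat_lit 10402432) (BT.node (nat_lit 10402368) (BT.leaf (nat_lit 38006037)) (BT.leaf (nat_lit 48300313))) (BT.node (nat_lit 10402496) (BT.leaf (nat_lit 48300317)) (BT.leaf (nat_lit 29644305)))) (BT.node (nat_lit 10402688) (BT.node (nat_lit 10402624) (BT.leaf (nat_lit 41611541)) (BT.leaf (nat_lit 40388893))) (BT.node (nat_lit 10402689) (BT.leaf (nat_lit 29645589)) (BT.leaf (nat_lit 753940)))))))) (BT.node (nat_lit 10404864) (BT.node (nat_lit 10403776) (BT.node (nat_lit 10403264) (BT.node (nat_lit 10403008) (BT.node (nat_lit 10402880) (BT.node (nat_lit 10402816) (BT.leaf (nat_lit 40388873)) (BT.leaf (nat_lit 30765341))) (BT.node (nat_lit 10402944) (BT.leaf (nat_lit 41460745)) (BT.leaf (nat_lit 45511457)))) (BT.node (nat_lit 10403136) (BT.node (nat_lit 10403072) (BT.leaf (nat_lit 42073861)) (BT.leaf (nat_lit 47174165))) (BT.node (nat_lit 10403200) (BT.leaf (nat_lit 41612297)) (BT.leaf (nat_lit 32093969))))) (BT.node (nat_lit 10403520) (BT.node (nat_lit 10403392) (BT.node (nat_lit 10403328) (BT.leaf (nat_lit 32093729)) (BT.leaf (nat_lit 47856661))) (BT.node (nat_lit 10403456) (BT.leaf (nat_lit 40389901)) (BT.leaf (nat_lit 47173917)))) (BT.node (nat_lit 10403648) (BT.node (nat_lit 10403584) (BT.leaf (nat_lit 50448665)) (BT.leaf (nat_lit 49240581))) (BT.node (nat_lit 10403712) (BT.leaf (nat_lit 47175453)) (BT.leaf (nat_lit 30757909)))))) (BT.node (nat_lit 10404352) (BT.node (nat_lit 10404032) (BT.node (nat_lit 10403904) (BT.node (nat_lit 10403840) (BT.leaf (nat_lit 28958989)) (BT.leaf (nat_lit 31485717))) (BT.node (nat_lit 10403968) (BT.leaf (nat_lit 41614861)) (BT.leaf (nat_lit 47176473)))) (BT.node (nat_lit 10404160) (BT.node (nat_lit 10404096) (BT.leaf (nat_lit 47590941)) (BT.leaf (nat_lit 42513417))) (BT.node (nat_lit 10404288) (BT.leaf (nat_lit 45034761)) (BT.leaf (nat_lit 45511445))))) (BT.node (nat_lit 10404608) (BT.node (nat_lit 10404480) (BT.node (nat_lit 10404416) (BT.leaf (nat_lit 45511453)) (BT.leaf (nat_lit 40394261))) (BT.node (nat_lit 10404544) (BT.leaf (nat_lit 41617673)) (BT.leaf (nat_lit 40864017)))) (BT.node (nat_lit 10404736) (BT.node (nat_lit 10404672) (BT.leaf (nat_lit 41613061)) (BT.leaf (nat_lit 40864033))) (BT.node (nat_lit 10404800) (BT.leaf (nat_lit 30469909)) (BT.leaf (nat_lit 29649157))))))) (BT.node (nat_lit 10405824) (BT.node (nat_lit 10405248) (BT.node (nat_lit 10404992) (BT.node (nat_lit 10404930) (BT.node (nat_lit 10404928) (BT.leaf (nat_lit 38326533)) (BT.leaf (nat_lit 38333449))) (BT.node (nat_lit 10404933) (BT.leaf (nat_lit 772744)) (BT.leaf (nat_lit 772744)))) (BT.node (nat_lit 10405120) (BT.node (nat_lit 10405056) (BT.leaf (nat_lit 43910149)) (BT.leaf (nat_lit 39748897))) (BT.node (nat_lit 10405184) (BT.leaf (nat_lit 32501533)) (BT.leaf (nat_lit 41476385))))) (BT.node (nat_lit 10405504) (BT.node (nat_lit 10405376) (BT.node (nat_lit 10405312) (BT.leaf (nat_lit 31781393)) (BT.leaf (nat_lit 49720597))) (BT.node (nat_lit 10405440) (BT.leaf (nat_lit 49720605)) (BT.leaf (nat_lit 30124053)))) (BT.node (nat_lit 10405696) (BT.node (nat_lit 10405568) (BT.leaf (nat_lit 29656849)) (BT.leaf (nat_lit 41479457))) (BT.node (nat_lit 10405760) (BT.leaf (nat_lit 38927137)) (BT.leaf (nat_lit 32332557)))))) (BT.node (nat_lit 10406336) (BT.node (nat_lit 10406080) (BT.node (nat_lit 10405952) (BT.node (nat_lit 10405888) (BT.leaf (nat_lit 44591889)) (BT.leaf (nat_lit 41569285))) (BT.node (nat_lit 10406016) (BT.leaf (nat_lit 32695573)) (BT.leaf (nat_lit 32572681)))) (BT.node (nat_lit 10406208) (BT.node (nat_lit 10406144) (BT.leaf (nat_lit 50973713)) (BT.leaf (nat_lit 43909921))) (BT.node (nat_lit 10406272) (BT.leaf (nat_lit 43682841)) (BT.leaf (nat_lit 43682845))))) (BT.node (nat_lit 10406592) (BT.node (nat_lit 10406464) (BT.node (nat_lit 10406400) (BT.leaf (nat_lit 32572697)) (BT.leaf (nat_lit 32572701))) (BT.node (nat_lit 10406528) (BT.leaf (nat_lit 47908385)) (BT.leaf (nat_lit 31466777)))) (BT.node (nat_lit 10406720) (BT.node (nat_lit 10406656) (BT.leaf (nat_lit 31466781)) (BT.leaf (nat_lit 31697689))) (BT.node (nat_lit 10406784) (BT.leaf (nat_lit 31697693)) (BT.leaf (nat_lit 41795869))))))))))) (BT.node (nat_lit 10422272) (BT.node (nat_lit 10414528) (BT.node (nat_lit 10410688) (BT.node (nat_lit 10408896) (BT.node (nat_lit 10407808) (BT.node (nat_lit 10407298) (BT.node (nat_lit 10407105) (BT.node (nat_lit 10406976) (BT.node (nat_lit 10406912) (BT.leaf (nat_lit 47153929)) (BT.leaf (nat_lit 49205793))) (BT.node (nat_lit 10407040) (BT.leaf (nat_lit 31759381)) (BT.leaf (nat_lit 31759385)))) (BT.node (nat_lit 10407232) (BT.node (nat_lit 10407168) (BT.leaf (nat_lit 764260)) (BT.leaf (nat_lit 38322713))) (BT.node (nat_lit 10407296) (BT.leaf (nat_lit 27638813)) (BT.leaf (nat_lit 34597141))))) (BT.node (nat_lit 10407552) (BT.node (nat_lit 10407424) (BT.node (nat_lit 10407360) (BT.leaf (nat_lit 791848)) (BT.leaf (nat_lit 44916753))) (BT.node (nat_lit 10407488) (BT.leaf (nat_lit 47829777)) (BT.leaf (nat_lit 31058201)))) (BT.node (nat_lit 10407680) (BT.node (nat_lit 10407616) (BT.leaf (nat_lit 47930373)) (BT.leaf (nat_lit 48746757))) (BT.node (nat_lit 10407744) (BT.leaf (nat_lit 30684421)) (BT.leaf (nat_lit 29667873)))))) (BT.node (nat_lit 10408384) (BT.node (nat_lit 10408128) (BT.node (nat_lit 10408000) (BT.node (nat_lit 10407936) (BT.leaf (nat_lit 44904453)) (BT.leaf (nat_lit 45158689))) (BT.node (nat_lit 10408064) (BT.leaf (nat_lit 41631769)) (BT.leaf (nat_lit 30428177)))) (BT.node (nat_lit 10408256) (BT.node (nat_lit 10408192) (BT.leaf (nat_lit 42802697)) (BT.leaf (nat_lit 29668369))) (BT.node (nat_lit 10408320) (BT.leaf (nat_lit 29670689)) (BT.leaf (nat_lit 30086149))))) (BT.node (nat_lit 10408640) (BT.node (nat_lit 10408512) (BT.node (nat_lit 10408448) (BT.leaf (nat_lit 29669393)) (BT.leaf (nat_lit 29669137))) (BT.node (nat_lit 10408576) (BT.leaf (nat_lit 42869009)) (BT.leaf (nat_lit 27637525)))) (BT.node (nat_lit 10408768) (BT.node (nat_lit 10408704) (BT.leaf (nat_lit 46979605)) (BT.leaf (nat_lit 30066721))) (BT.node (nat_lit 10408832) (BT.leaf (nat_lit 29600021)) (BT.leaf (nat_lit 40248085))))))) (BT.node (nat_lit 10409792) (BT.node (nat_lit 10409344) (BT.node (nat_lit 10409093) (BT.node (nat_lit 10409024) (BT.node (nat_lit 10408960) (BT.leaf (nat_lit 44458001)) (BT.leaf (nat_lit 44458017))) (BT.node (nat_lit 10409088) (BT.leaf (nat_lit 30086425)) (BT.leaf (nat_lit 42155297)))) (BT.node (nat_lit 10409216) (BT.node (nat_lit 10409152) (BT.leaf (nat_lit 747564)) (BT.leaf (nat_lit 29670165))) (BT.node (nat_lit 10409280) (BT.leaf (nat_lit 47165205)) (BT.leaf (nat_lit 40645909))))) (BT.node (nat_lit 10409600) (BT.node (nat_lit 10409472) (BT.node (nat_lit 10409408) (BT.leaf (nat_lit 29575181)) (BT.leaf (nat_lit 29671689))) (BT.node (nat_lit 10409536) (BT.leaf (nat_lit 29671949)) (BT.leaf (nat_lit 46053665)))) (BT.node (nat_lit 10409672) (BT.node (nat_lit 10409664) (BT.leaf (nat_lit 29671965)) (BT.leaf (nat_lit 39265045))) (BT.node (nat_lit 10409728) (BT.leaf (nat_lit 675824)) (BT.leaf (nat_lit 41147409)))))) (BT.node (nat_lit 10410304) (BT.node (nat_lit 10410048) (BT.node (nat_lit 10409920) (BT.node (nat_lit 10409856) (BT.leaf (nat_lit 29671961)) (BT.leaf (nat_lit 41455637))) (BT.node (nat_lit 10409984) (BT.leaf (nat_lit 43281937)) (BT.leaf (nat_lit 43281953)))) (BT.node (nat_lit 10410176) (BT.node (nat_lit 10410112) (BT.leaf (nat_lit 32172309)) (BT.leaf (nat_lit 40295437))) (BT.node (nat_lit 10410240) (BT.leaf (nat_lit 39703837)) (BT.leaf (nat_lit 32555285))))) (BT.node (nat_lit 10410432) (BT.node (nat_lit 10410374) (BT.node (nat_lit 10410368) (BT.leaf (nat_lit 30051861)) (BT.leaf (nat_lit 45147917))) (BT.node (nat_lit 10410375) (BT.leaf (nat_lit 670132)) (BT.leaf (nat_lit 670132)))) (BT.node (nat_lit 10410560) (BT.node (nat_lit 10410496) (BT.leaf (nat_lit 34238741)) (BT.leaf (nat_lit 40333837))) (BT.node (nat_lit 10410624) (BT.leaf (nat_lit 50165521)) (BT.leaf (nat_lit 31924501)))))))) (BT.node (nat_lit 10412608) (BT.node (nat_lit 10411776) (BT.node (nat_lit 10411200) (BT.node (nat_lit 10410944) (BT.node (nat_lit 10410816) (BT.node (nat_lit 10410752) (BT.leaf (nat_lit 39308549)) (BT.leaf (nat_lit 51695377))) (BT.node (nat_lit 10410880) (BT.leaf (nat_lit 38620933)) (BT.leaf (nat_lit 43445793)))) (BT.node (nat_lit 10411072) (BT.node (nat_lit 10411008) (BT.leaf (nat_lit 45076257)) (BT.leaf (nat_lit 29874977))) (BT.node (nat_lit 10411136) (BT.leaf (nat_lit 29674769)) (BT.leaf (nat_lit 44012065))))) (BT.node (nat_lit 10411456) (BT.node (nat_lit 10411328) (BT.node (nat_lit 10411264) (BT.leaf (nat_lit 38398989)) (BT.leaf (nat_lit 40643617))) (BT.node (nat_lit 10411392) (BT.leaf (nat_lit 49050885)) (BT.leaf (nat_lit 45074209)))) (BT.node (nat_lit 10411584) (BT.node (nat_lit 10411520) (BT.leaf (nat_lit 40313365)) (BT.leaf (nat_lit 41263633))) (BT.node (nat_lit 10411712) (BT.leaf (nat_lit 41263637)) (BT.leaf (nat_lit 48186901)))))) (BT.node (nat_lit 10412102) (BT.node (nat_lit 10411968) (BT.node (nat_lit 10411840) (BT.node (nat_lit 10411784) (BT.leaf (nat_lit 29486869)) (BT.leaf (nat_lit 766032))) (BT.node (nat_lit 10411904) (BT.leaf (nat_lit 33806365)) (BT.leaf (nat_lit 29532949)))) (BT.node (nat_lit 10412096) (BT.node (nat_lit 10412032) (BT.leaf (nat_lit 39142917)) (BT.leaf (nat_lit 32317973))) (BT.node (nat_lit 10412099) (BT.leaf (nat_lit 48367109)) (BT.leaf (nat_lit 664464))))) (BT.node (nat_lit 10412352) (BT.node (nat_lit 10412224) (BT.node (nat_lit 10412160) (BT.leaf (nat_lit 664464)) (BT.leaf (nat_lit 32314885))) (BT.node (nat_lit 10412288) (BT.leaf (nat_lit 49166113)) (BT.leaf (nat_lit 43671057)))) (BT.node (nat_lit 10412480) (BT.node (nat_lit 10412416) (BT.leaf (nat_lit 43671061)) (BT.leaf (nat_lit 46419985))) (BT.node (nat_lit 10412544) (BT.leaf (nat_lit 46419989)) (BT.leaf (nat_lit 30286357))))))) (BT.node (nat_lit 10413504) (BT.node (nat_lit 10413120) (BT.node (nat_lit 10412864) (BT.node (nat_lit 10412736) (BT.node (nat_lit 10412672) (BT.leaf (nat_lit 52230933)) (BT.leaf (nat_lit 30822685))) (BT.node (nat_lit 10412800) (BT.leaf (nat_lit 27820817)) (BT.leaf (nat_lit 41356821)))) (BT.node (nat_lit 10412992) (BT.node (nat_lit 10412928) (BT.leaf (nat_lit 44839201)) (BT.leaf (nat_lit 49591813))) (BT.node (nat_lit 10413056) (BT.leaf (nat_lit 40229137)) (BT.leaf (nat_lit 39718149))))) (BT.node (nat_lit 10413314) (BT.node (nat_lit 10413248) (BT.node (nat_lit 10413184) (BT.leaf (nat_lit 29957641)) (BT.leaf (nat_lit 38775821))) (BT.node (nat_lit 10413312) (BT.leaf (nat_lit 38775825)) (BT.leaf (nat_lit 38286341)))) (BT.node (nat_lit 10413376) (BT.node (nat_lit 10413315) (BT.leaf (nat_lit 793012)) (BT.leaf (nat_lit 746220))) (BT.node (nat_lit 10413440) (BT.leaf (nat_lit 29957393)) (BT.leaf (nat_lit 39833621)))))) (BT.node (nat_lit 10414016) (BT.node (nat_lit 10413760) (BT.node (nat_lit 10413632) (BT.node (nat_lit 10413568) (BT.leaf (nat_lit 45080353)) (BT.leaf (nat_lit 29686545))) (BT.node (nat_lit 10413696) (BT.leaf (nat_lit 29686289)) (BT.leaf (nat_lit 29957913)))) (BT.node (nat_lit 10413888) (BT.node (nat_lit 10413824) (BT.leaf (nat_lit 29957917)) (BT.leaf (nat_lit 30205701))) (BT.node (nat_lit 10413952) (BT.leaf (nat_lit 30990085)) (BT.leaf (nat_lit 32113429))))) (BT.node (nat_lit 10414272) (BT.node (nat_lit 10414144) (BT.node (nat_lit 10414080) (BT.leaf (nat_lit 43803673)) (BT.leaf (nat_lit 43803681))) (BT.node (nat_lit 10414208) (BT.leaf (nat_lit 32111877)) (BT.leaf (nat_lit 30271253)))) (BT.node (nat_lit 10414400) (BT.node (nat_lit 10414336) (BT.leaf (nat_lit 44316677)) (BT.leaf (nat_lit 39135493))) (BT.node (nat_lit 10414464) (BT.leaf (nat_lit 39135749)) (BT.leaf (nat_lit 49573665))))))))) (BT.node (nat_lit 10418240) (BT.node (nat_lit 10416192) (BT.node (nat_lit 10415176) (BT.node (nat_lit 10414784) (BT.node (nat_lit 10414598) (BT.node (nat_lit 10414594) (BT.node (nat_lit 10414592) (BT.leaf (nat_lit 44225053)) (BT.leaf (nat_lit 32382469))) (BT.node (nat_lit 10414595) (BT.leaf (nat_lit 661100)) (BT.leaf (nat_lit 661100)))) (BT.node (nat_lit 10414656) (BT.node (nat_lit 10414599) (BT.leaf (nat_lit 661100)) (BT.leaf (nat_lit 661100))) (BT.node (nat_lit 10414720) (BT.leaf (nat_lit 29686809)) (BT.leaf (nat_lit 29687065))))) (BT.node (nat_lit 10415040) (BT.node (nat_lit 10414912) (BT.node (nat_lit 10414848) (BT.leaf (nat_lit 43447301)) (BT.leaf (nat_lit 42506773))) (BT.node (nat_lit 10414976) (BT.leaf (nat_lit 29686813)) (BT.leaf (nat_lit 37820681)))) (BT.node (nat_lit 10415168) (BT.node (nat_lit 10415104) (BT.leaf (nat_lit 50135821)) (BT.leaf (nat_lit 50135825))) (BT.node (nat_lit 10415170) (BT.leaf (nat_lit 32830981)) (BT.leaf (nat_lit 706696)))))) (BT.node (nat_lit 10415680) (BT.node (nat_lit 10415424) (BT.node (nat_lit 10415296) (BT.node (nat_lit 10415232) (BT.leaf (nat_lit 706696)) (BT.leaf (nat_lit 48026389))) (BT.node (nat_lit 10415360) (BT.leaf (nat_lit 29687321)) (BT.leaf (nat_lit 29687577)))) (BT.node (nat_lit 10415552) (BT.node (nat_lit 10415488) (BT.leaf (nat_lit 32110113)) (BT.leaf (nat_lit 29687325))) (BT.node (nat_lit 10415616) (BT.leaf (nat_lit 29687581)) (BT.leaf (nat_lit 46205473))))) (BT.node (nat_lit 10415936) (BT.node (nat_lit 10415808) (BT.node (nat_lit 10415744) (BT.leaf (nat_lit 41678341)) (BT.leaf (nat_lit 34502161))) (BT.node (nat_lit 10415872) (BT.leaf (nat_lit 34501905)) (BT.leaf (nat_lit 33857813)))) (BT.node (nat_lit 10416064) (BT.node (nat_lit 10416000) (BT.leaf (nat_lit 45720353)) (BT.leaf (nat_lit 29687833))) (BT.node (nat_lit 10416128) (BT.leaf (nat_lit 29688089)) (BT.leaf (nat_lit 33855005))))))) (BT.node (nat_lit 10417216) (BT.node (nat_lit 10416709) (BT.node (nat_lit 10416512) (BT.node (nat_lit 10416384) (BT.node (nat_lit 10416256) (BT.leaf (nat_lit 29687837)) (BT.leaf (nat_lit 29688093))) (BT.node (nat_lit 10416448) (BT.leaf (nat_lit 29688337)) (BT.leaf (nat_lit 42351365)))) (BT.node (nat_lit 10416640) (BT.node (nat_lit 10416576) (BT.leaf (nat_lit 36723217)) (BT.leaf (nat_lit 32700961))) (BT.node (nat_lit 10416704) (BT.leaf (nat_lit 32700701)) (BT.leaf (nat_lit 41638685))))) (BT.node (nat_lit 10416960) (BT.node (nat_lit 10416832) (BT.node (nat_lit 10416768) (BT.leaf (nat_lit 722792)) (BT.leaf (nat_lit 29688857))) (BT.node (nat_lit 10416896) (BT.leaf (nat_lit 29689113)) (BT.leaf (nat_lit 39401993)))) (BT.node (nat_lit 10417088) (BT.node (nat_lit 10417024) (BT.leaf (nat_lit 39401749)) (BT.leaf (nat_lit 46054945))) (BT.node (nat_lit 10417152) (BT.leaf (nat_lit 29688861)) (BT.leaf (nat_lit 29689117)))))) (BT.node (nat_lit 10417728) (BT.node (nat_lit 10417472) (BT.node (nat_lit 10417344) (BT.node (nat_lit 10417280) (BT.leaf (nat_lit 32700945)) (BT.leaf (nat_lit 32700949))) (BT.node (nat_lit 10417408) (BT.leaf (nat_lit 30205973)) (BT.leaf (nat_lit 29044749)))) (BT.node (nat_lit 10417600) (BT.node (nat_lit 10417536) (BT.leaf (nat_lit 42247177)) (BT.leaf (nat_lit 29690389))) (BT.node (nat_lit 10417664) (BT.leaf (nat_lit 30205729)) (BT.leaf (nat_lit 33858313))))) (BT.node (nat_lit 10417984) (BT.node (nat_lit 10417856) (BT.node (nat_lit 10417792) (BT.leaf (nat_lit 41674517)) (BT.leaf (nat_lit 30990113))) (BT.node (nat_lit 10417920) (BT.leaf (nat_lit 29039125)) (BT.leaf (nat_lit 39893781)))) (BT.node (nat_lit 10418112) (BT.node (nat_lit 10418048) (BT.leaf (nat_lit 49777697)) (BT.leaf (nat_lit 31163681))) (BT.node (nat_lit 10418176) (BT.leaf (nat_lit 29689633)) (BT.leaf (nat_lit 33858329)))))))) (BT.node (nat_lit 10420224) (BT.node (nat_lit 10419264) (BT.node (nat_lit 10418752) (BT.node (nat_lit 10418496) (BT.node (nat_lit 10418368) (BT.node (nat_lit 10418304) (BT.leaf (nat_lit 47225365)) (BT.leaf (nat_lit 42441997))) (BT.node (nat_lit 10418432) (BT.leaf (nat_lit 33858317)) (BT.leaf (nat_lit 41114657)))) (BT.node (nat_lit 10418624) (BT.node (nat_lit 10418560) (BT.leaf (nat_lit 29690385)) (BT.leaf (nat_lit 41669661))) (BT.node (nat_lit 10418688) (BT.leaf (nat_lit 29044765)) (BT.leaf (nat_lit 29044745))))) (BT.node (nat_lit 10419008) (BT.node (nat_lit 10418880) (BT.node (nat_lit 10418816) (BT.leaf (nat_lit 41674777)) (BT.leaf (nat_lit 49485337))) (BT.node (nat_lit 10418944) (BT.leaf (nat_lit 50256665)) (BT.leaf (nat_lit 29690905)))) (BT.node (nat_lit 10419136) (BT.node (nat_lit 10419075) (BT.leaf (nat_lit 29691161)) (BT.leaf (nat_lit 804628))) (BT.node (nat_lit 10419200) (BT.leaf (nat_lit 39397913)) (BT.leaf (nat_lit 33856285)))))) (BT.node (nat_lit 10419840) (BT.node (nat_lit 10419520) (BT.node (nat_lit 10419392) (BT.node (nat_lit 10419328) (BT.leaf (nat_lit 29690909)) (BT.leaf (nat_lit 29691165))) (BT.node (nat_lit 10419456) (BT.leaf (nat_lit 39646225)) (BT.leaf (nat_lit 46156833)))) (BT.node (nat_lit 10419712) (BT.node (nat_lit 10419648) (BT.leaf (nat_lit 44333329)) (BT.leaf (nat_lit 49857541))) (BT.node (nat_lit 10419778) (BT.leaf (nat_lit 29691673)) (BT.leaf (nat_lit 786252))))) (BT.node (nat_lit 10419968) (BT.node (nat_lit 10419906) (BT.node (nat_lit 10419904) (BT.leaf (nat_lit 40543753)) (BT.leaf (nat_lit 43758085))) (BT.node (nat_lit 10419907) (BT.leaf (nat_lit 796644)) (BT.leaf (nat_lit 746216)))) (BT.node (nat_lit 10420096) (BT.node (nat_lit 10420032) (BT.leaf (nat_lit 49857797)) (BT.leaf (nat_lit 29692949))) (BT.node (nat_lit 10420160) (BT.leaf (nat_lit 29691933)) (BT.leaf (nat_lit 39847969))))))) (BT.node (nat_lit 10421248) (BT.node (nat_lit 10420736) (BT.node (nat_lit 10420480) (BT.node (nat_lit 10420352) (BT.node (nat_lit 10420288) (BT.leaf (nat_lit 29956869)) (BT.leaf (nat_lit 29691681))) (BT.node (nat_lit 10420416) (BT.leaf (nat_lit 29691937)) (BT.leaf (nat_lit 29692165)))) (BT.node (nat_lit 10420608) (BT.node (nat_lit 10420544) (BT.leaf (nat_lit 38616089)) (BT.leaf (nat_lit 31582993))) (BT.node (nat_lit 10420672) (BT.leaf (nat_lit 29692677)) (BT.leaf (nat_lit 29692433))))) (BT.node (nat_lit 10420992) (BT.node (nat_lit 10420864) (BT.node (nat_lit 10420800) (BT.leaf (nat_lit 32779797)) (BT.leaf (nat_lit 32779801))) (BT.node (nat_lit 10420928) (BT.leaf (nat_lit 32779805)) (BT.leaf (nat_lit 41563153)))) (BT.node (nat_lit 10421120) (BT.node (nat_lit 10421056) (BT.leaf (nat_lit 39137797)) (BT.leaf (nat_lit 30782981))) (BT.node (nat_lit 10421184) (BT.leaf (nat_lit 45994521)) (BT.leaf (nat_lit 41493537)))))) (BT.node (nat_lit 10421760) (BT.node (nat_lit 10421504) (BT.node (nat_lit 10421376) (BT.node (nat_lit 10421312) (BT.leaf (nat_lit 43509537)) (BT.leaf (nat_lit 41492769))) (BT.node (nat_lit 10421440) (BT.leaf (nat_lit 41492997)) (BT.leaf (nat_lit 31376161)))) (BT.node (nat_lit 10421632) (BT.node (nat_lit 10421568) (BT.leaf (nat_lit 41708829)) (BT.leaf (nat_lit 39847949))) (BT.node (nat_lit 10421696) (BT.leaf (nat_lit 32113953)) (BT.leaf (nat_lit 32114181))))) (BT.node (nat_lit 10422016) (BT.node (nat_lit 10421888) (BT.node (nat_lit 10421824) (BT.leaf (nat_lit 30485525)) (BT.leaf (nat_lit 43075869))) (BT.node (nat_lit 10421952) (BT.leaf (nat_lit 30485777)) (BT.leaf (nat_lit 29701893)))) (BT.node (nat_lit 10422144) (BT.node (nat_lit 10422080) (BT.leaf (nat_lit 41687817)) (BT.leaf (nat_lit 31047953))) (BT.node (nat_lit 10422208) (BT.leaf (nat_lit 31047961)) (BT.leaf (nat_lit 31047965)))))))))) (BT.node (nat_lit 10429888) (BT.node (nat_lit 10426240) (BT.node (nat_lit 10424256) (BT.node (nat_lit 10423360) (BT.node (nat_lit 10422784) (BT.node (nat_lit 10422528) (BT.node (nat_lit 10422400) (BT.node (nat_lit 10422336) (BT.leaf (nat_lit 31047969)) (BT.leaf (nat_lit 42790417))) (BT.node (nat_lit 10422464) (BT.leaf (nat_lit 43930145)) (BT.leaf (nat_lit 30486041)))) (BT.node (nat_lit 10422656) (BT.node (nat_lit 10422592) (BT.leaf (nat_lit 30486045)) (BT.leaf (nat_lit 34140173))) (BT.node (nat_lit 10422720) (BT.leaf (nat_lit 31804693)) (BT.leaf (nat_lit 31804433))))) (BT.node (nat_lit 10423104) (BT.node (nat_lit 10422976) (BT.node (nat_lit 10422848) (BT.leaf (nat_lit 29701657)) (BT.leaf (nat_lit 45090309))) (BT.node (nat_lit 10423040) (BT.leaf (nat_lit 30424853)) (BT.leaf (nat_lit 31608857)))) (BT.node (nat_lit 10423232) (BT.node (nat_lit 10423168) (BT.leaf (nat_lit 51459089)) (BT.leaf (nat_lit 49728009))) (BT.node (nat_lit 10423296) (BT.leaf (nat_lit 38560541)) (BT.leaf (nat_lit 39852065)))))) (BT.node (nat_lit 10423872) (BT.node (nat_lit 10423616) (BT.node (nat_lit 10423488) (BT.node (nat_lit 10423424) (BT.leaf (nat_lit 35775509)) (BT.leaf (nat_lit 41693449))) (BT.node (nat_lit 10423552) (BT.leaf (nat_lit 49146905)) (BT.leaf (nat_lit 41693977)))) (BT.node (nat_lit 10423744) (BT.node (nat_lit 10423680) (BT.leaf (nat_lit 29558293)) (BT.leaf (nat_lit 49002529))) (BT.node (nat_lit 10423808) (BT.leaf (nat_lit 46935837)) (BT.leaf (nat_lit 49002017))))) (BT.node (nat_lit 10424000) (BT.node (nat_lit 10423880) (BT.node (nat_lit 10423873) (BT.leaf (nat_lit 38581001)) (BT.leaf (nat_lit 672328))) (BT.node (nat_lit 10423936) (BT.leaf (nat_lit 672328)) (BT.leaf (nat_lit 46935821)))) (BT.node (nat_lit 10424128) (BT.node (nat_lit 10424064) (BT.leaf (nat_lit 49001761)) (BT.leaf (nat_lit 46895125))) (BT.node (nat_lit 10424192) (BT.leaf (nat_lit 49491741)) (BT.leaf (nat_lit 39580945))))))) (BT.node (nat_lit 10425216) (BT.node (nat_lit 10424768) (BT.node (nat_lit 10424512) (BT.node (nat_lit 10424384) (BT.node (nat_lit 10424320) (BT.leaf (nat_lit 49491725)) (BT.leaf (nat_lit 40868881))) (BT.node (nat_lit 10424448) (BT.leaf (nat_lit 32601613)) (BT.leaf (nat_lit 30958113)))) (BT.node (nat_lit 10424640) (BT.node (nat_lit 10424576) (BT.leaf (nat_lit 41179937)) (BT.leaf (nat_lit 41179425))) (BT.node (nat_lit 10424704) (BT.leaf (nat_lit 30485257)) (BT.leaf (nat_lit 30485261))))) (BT.node (nat_lit 10424898) (BT.node (nat_lit 10424834) (BT.node (nat_lit 10424832) (BT.leaf (nat_lit 29700629)) (BT.leaf (nat_lit 45089029))) (BT.node (nat_lit 10424896) (BT.leaf (nat_lit 751244)) (BT.leaf (nat_lit 43748613)))) (BT.node (nat_lit 10425024) (BT.node (nat_lit 10424960) (BT.leaf (nat_lit 751248)) (BT.leaf (nat_lit 45089541))) (BT.node (nat_lit 10425088) (BT.leaf (nat_lit 30958853)) (BT.leaf (nat_lit 45094933)))))) (BT.node (nat_lit 10425728) (BT.node (nat_lit 10425472) (BT.node (nat_lit 10425344) (BT.node (nat_lit 10425280) (BT.leaf (nat_lit 39849993)) (BT.leaf (nat_lit 45094941))) (BT.node (nat_lit 10425408) (BT.leaf (nat_lit 38939925)) (BT.leaf (nat_lit 37806101)))) (BT.node (nat_lit 10425600) (BT.node (nat_lit 10425536) (BT.leaf (nat_lit 45334293)) (BT.leaf (nat_lit 30341397))) (BT.node (nat_lit 10425664) (BT.leaf (nat_lit 40047905)) (BT.leaf (nat_lit 29701137))))) (BT.node (nat_lit 10425984) (BT.node (nat_lit 10425856) (BT.node (nat_lit 10425792) (BT.leaf (nat_lit 46101013)) (BT.leaf (nat_lit 47219225))) (BT.node (nat_lit 10425920) (BT.leaf (nat_lit 31419921)) (BT.leaf (nat_lit 31419937)))) (BT.node (nat_lit 10426112) (BT.node (nat_lit 10426048) (BT.leaf (nat_lit 29701153)) (BT.leaf (nat_lit 29701409))) (BT.node (nat_lit 10426176) (BT.leaf (nat_lit 29037329)) (BT.leaf (nat_lit 42296341)))))))) (BT.node (nat_lit 10428224) (BT.node (nat_lit 10427328) (BT.node (nat_lit 10426816) (BT.node (nat_lit 10426496) (BT.node (nat_lit 10426368) (BT.node (nat_lit 10426304) (BT.leaf (nat_lit 42296345)) (BT.leaf (nat_lit 42296349))) (BT.node (nat_lit 10426432) (BT.leaf (nat_lit 29701649)) (BT.leaf (nat_lit 31064837)))) (BT.node (nat_lit 10426624) (BT.node (nat_lit 10426560) (BT.leaf (nat_lit 40267033)) (BT.leaf (nat_lit 30958105))) (BT.node (nat_lit 10426752) (BT.leaf (nat_lit 30958109)) (BT.leaf (nat_lit 44113673))))) (BT.node (nat_lit 10427072) (BT.node (nat_lit 10426944) (BT.node (nat_lit 10426880) (BT.leaf (nat_lit 45092641)) (BT.leaf (nat_lit 31647249))) (BT.node (nat_lit 10427008) (BT.leaf (nat_lit 31647253)) (BT.leaf (nat_lit 30195729)))) (BT.node (nat_lit 10427200) (BT.node (nat_lit 10427136) (BT.leaf (nat_lit 30195741)) (BT.leaf (nat_lit 30195745))) (BT.node (nat_lit 10427264) (BT.leaf (nat_lit 30193669)) (BT.leaf (nat_lit 29701913)))))) (BT.node (nat_lit 10427712) (BT.node (nat_lit 10427584) (BT.node (nat_lit 10427456) (BT.node (nat_lit 10427392) (BT.leaf (nat_lit 30193681)) (BT.leaf (nat_lit 41712153))) (BT.node (nat_lit 10427520) (BT.leaf (nat_lit 30193697)) (BT.leaf (nat_lit 40508677)))) (BT.node (nat_lit 10427592) (BT.node (nat_lit 10427586) (BT.leaf (nat_lit 41697049)) (BT.leaf (nat_lit 659552))) (BT.node (nat_lit 10427648) (BT.leaf (nat_lit 659552)) (BT.leaf (nat_lit 40508693))))) (BT.node (nat_lit 10427968) (BT.node (nat_lit 10427904) (BT.node (nat_lit 10427776) (BT.leaf (nat_lit 40508705)) (BT.leaf (nat_lit 41016341))) (BT.node (nat_lit 10427912) (BT.leaf (nat_lit 48262685)) (BT.leaf (nat_lit 717332)))) (BT.node (nat_lit 10428096) (BT.node (nat_lit 10428032) (BT.leaf (nat_lit 29037597)) (BT.leaf (nat_lit 29037577))) (BT.node (nat_lit 10428160) (BT.leaf (nat_lit 41897741)) (BT.leaf (nat_lit 38048009))))))) (BT.node (nat_lit 10428928) (BT.node (nat_lit 10428480) (BT.node (nat_lit 10428355) (BT.node (nat_lit 10428353) (BT.node (nat_lit 10428288) (BT.leaf (nat_lit 38211077)) (BT.leaf (nat_lit 47902213))) (BT.node (nat_lit 10428354) (BT.leaf (nat_lit 716764)) (BT.leaf (nat_lit 716764)))) (BT.node (nat_lit 10428360) (BT.node (nat_lit 10428356) (BT.leaf (nat_lit 716764)) (BT.leaf (nat_lit 716764))) (BT.node (nat_lit 10428416) (BT.leaf (nat_lit 716764)) (BT.leaf (nat_lit 41838341))))) (BT.node (nat_lit 10428672) (BT.node (nat_lit 10428608) (BT.node (nat_lit 10428544) (BT.leaf (nat_lit 29755141)) (BT.leaf (nat_lit 29708065))) (BT.node (nat_lit 10428616) (BT.leaf (nat_lit 41944841)) (BT.leaf (nat_lit 770548)))) (BT.node (nat_lit 10428800) (BT.node (nat_lit 10428736) (BT.leaf (nat_lit 47903237)) (BT.leaf (nat_lit 34972697))) (BT.node (nat_lit 10428864) (BT.leaf (nat_lit 29024529)) (BT.leaf (nat_lit 29038865)))))) (BT.node (nat_lit 10429440) (BT.node (nat_lit 10429184) (BT.node (nat_lit 10429056) (BT.node (nat_lit 10428992) (BT.leaf (nat_lit 37713945)) (BT.leaf (nat_lit 37713949))) (BT.node (nat_lit 10429120) (BT.leaf (nat_lit 29704989)) (BT.leaf (nat_lit 28304413)))) (BT.node (nat_lit 10429312) (BT.node (nat_lit 10429248) (BT.leaf (nat_lit 32375569)) (BT.leaf (nat_lit 49699869))) (BT.node (nat_lit 10429376) (BT.leaf (nat_lit 30952709)) (BT.leaf (nat_lit 29706773))))) (BT.node (nat_lit 10429632) (BT.node (nat_lit 10429510) (BT.node (nat_lit 10429504) (BT.leaf (nat_lit 45552917)) (BT.leaf (nat_lit 29318169))) (BT.node (nat_lit 10429568) (BT.leaf (nat_lit 740688)) (BT.leaf (nat_lit 42591773)))) (BT.node (nat_lit 10429763) (BT.node (nat_lit 10429760) (BT.leaf (nat_lit 40533013)) (BT.leaf (nat_lit 42258969))) (BT.node (nat_lit 10429824) (BT.leaf (nat_lit 660300)) (BT.leaf (nat_lit 47622945))))))))) (BT.node (nat_lit 10434240) (BT.node (nat_lit 10432193) (BT.node (nat_lit 10431168) (BT.node (nat_lit 10430400) (BT.node (nat_lit 10430144) (BT.node (nat_lit 10430016) (BT.node (nat_lit 10429952) (BT.leaf (nat_lit 48578081)) (BT.leaf (nat_lit 29039377))) (BT.node (nat_lit 10430080) (BT.leaf (nat_lit 42822149)) (BT.leaf (nat_lit 29707029)))) (BT.node (nat_lit 10430272) (BT.node (nat_lit 10430208) (BT.leaf (nat_lit 36929809)) (BT.leaf (nat_lit 52048917))) (BT.node (nat_lit 10430336) (BT.leaf (nat_lit 44600073)) (BT.leaf (nat_lit 28312341))))) (BT.node (nat_lit 10430720) (BT.node (nat_lit 10430592) (BT.node (nat_lit 10430528) (BT.leaf (nat_lit 40538633)) (BT.leaf (nat_lit 39787297))) (BT.node (nat_lit 10430656) (BT.leaf (nat_lit 30195233)) (BT.leaf (nat_lit 28122121)))) (BT.node (nat_lit 10430848) (BT.node (nat_lit 10430784) (BT.leaf (nat_lit 29709077)) (BT.leaf (nat_lit 32844301))) (BT.node (nat_lit 10431040) (BT.leaf (nat_lit 41711625)) (BT.leaf (nat_lit 36252181)))))) (BT.node (nat_lit 10431744) (BT.node (nat_lit 10431424) (BT.node (nat_lit 10431296) (BT.node (nat_lit 10431232) (BT.leaf (nat_lit 48593941)) (BT.leaf (nat_lit 29709585))) (BT.node (nat_lit 10431360) (BT.leaf (nat_lit 35714581)) (BT.leaf (nat_lit 38210849)))) (BT.node (nat_lit 10431552) (BT.node (nat_lit 10431488) (BT.leaf (nat_lit 39170061)) (BT.leaf (nat_lit 43678489))) (BT.node (nat_lit 10431616) (BT.leaf (nat_lit 38210321)) (BT.leaf (nat_lit 38210337))))) (BT.node (nat_lit 10431872) (BT.node (nat_lit 10431751) (BT.node (nat_lit 10431750) (BT.leaf (nat_lit 29709845)) (BT.leaf (nat_lit 695140))) (BT.node (nat_lit 10431808) (BT.leaf (nat_lit 695140)) (BT.leaf (nat_lit 45873169)))) (BT.node (nat_lit 10432064) (BT.node (nat_lit 10431936) (BT.leaf (nat_lit 45873185)) (BT.leaf (nat_lit 29852421))) (BT.node (nat_lit 10432192) (BT.leaf (nat_lit 43692293)) (BT.leaf (nat_lit 46089249))))))) (BT.node (nat_lit 10433280) (BT.node (nat_lit 10432768) (BT.node (nat_lit 10432512) (BT.node (nat_lit 10432384) (BT.node (nat_lit 10432320) (BT.leaf (nat_lit 655560)) (BT.leaf (nat_lit 42488845))) (BT.node (nat_lit 10432448) (BT.leaf (nat_lit 49508101)) (BT.leaf (nat_lit 45611281)))) (BT.node (nat_lit 10432640) (BT.node (nat_lit 10432576) (BT.leaf (nat_lit 43053329)) (BT.leaf (nat_lit 29726497))) (BT.node (nat_lit 10432704) (BT.leaf (nat_lit 33872149)) (BT.leaf (nat_lit 38646305))))) (BT.node (nat_lit 10433024) (BT.node (nat_lit 10432896) (BT.node (nat_lit 10432832) (BT.leaf (nat_lit 28160529)) (BT.leaf (nat_lit 47787533))) (BT.node (nat_lit 10432960) (BT.leaf (nat_lit 47787781)) (BT.leaf (nat_lit 32723993)))) (BT.node (nat_lit 10433152) (BT.node (nat_lit 10433088) (BT.leaf (nat_lit 32723997)) (BT.leaf (nat_lit 41875489))) (BT.node (nat_lit 10433216) (BT.leaf (nat_lit 40552993)) (BT.leaf (nat_lit 29716241)))))) (BT.node (nat_lit 10433792) (BT.node (nat_lit 10433536) (BT.node (nat_lit 10433408) (BT.node (nat_lit 10433344) (BT.leaf (nat_lit 28450833)) (BT.leaf (nat_lit 52166661))) (BT.node (nat_lit 10433472) (BT.leaf (nat_lit 29718801)) (BT.leaf (nat_lit 30791193)))) (BT.node (nat_lit 10433664) (BT.node (nat_lit 10433600) (BT.leaf (nat_lit 30791197)) (BT.leaf (nat_lit 46772257))) (BT.node (nat_lit 10433728) (BT.leaf (nat_lit 31643653)) (BT.leaf (nat_lit 38986245))))) (BT.node (nat_lit 10434048) (BT.node (nat_lit 10433920) (BT.node (nat_lit 10433856) (BT.leaf (nat_lit 31670545)) (BT.leaf (nat_lit 32589849))) (BT.node (nat_lit 10433984) (BT.leaf (nat_lit 32589853)) (BT.leaf (nat_lit 29717777)))) (BT.node (nat_lit 10434112) (BT.node (nat_lit 10434051) (BT.leaf (nat_lit 42551317)) (BT.leaf (nat_lit 660228))) (BT.node (nat_lit 10434176) (BT.leaf (nat_lit 31417605)) (BT.leaf (nat_lit 32590341)))))))) (BT.node (nat_lit 10436228) (BT.node (nat_lit 10435264) (BT.node (nat_lit 10434752) (BT.node (nat_lit 10434496) (BT.node (nat_lit 10434368) (BT.node (nat_lit 10434304) (BT.leaf (nat_lit 28935449)) (BT.leaf (nat_lit 32590353))) (BT.node (nat_lit 10434432) (BT.leaf (nat_lit 32590357)) (BT.leaf (nat_lit 29718557)))) (BT.node (nat_lit 10434624) (BT.node (nat_lit 10434560) (BT.leaf (nat_lit 32590085)) (BT.leaf (nat_lit 28935453))) (BT.node (nat_lit 10434688) (BT.leaf (nat_lit 32590097)) (BT.leaf (nat_lit 32590101))))) (BT.node (nat_lit 10435008) (BT.node (nat_lit 10434880) (BT.node (nat_lit 10434816) (BT.leaf (nat_lit 29718553)) (BT.leaf (nat_lit 29721365))) (BT.node (nat_lit 10434944) (BT.leaf (nat_lit 33957385)) (BT.leaf (nat_lit 33957389)))) (BT.node (nat_lit 10435136) (BT.node (nat_lit 10435072) (BT.leaf (nat_lit 33957401)) (BT.leaf (nat_lit 33957405))) (BT.node (nat_lit 10435200) (BT.leaf (nat_lit 48686341)) (BT.leaf (nat_lit 31732757)))))) (BT.node (nat_lit 10435776) (BT.node (nat_lit 10435520) (BT.node (nat_lit 10435392) (BT.node (nat_lit 10435328) (BT.leaf (nat_lit 46023953)) (BT.leaf (nat_lit 31565317))) (BT.node (nat_lit 10435456) (BT.leaf (nat_lit 43154445)) (BT.leaf (nat_lit 32561173)))) (BT.node (nat_lit 10435648) (BT.node (nat_lit 10435584) (BT.leaf (nat_lit 28578841)) (BT.leaf (nat_lit 41783813))) (BT.node (nat_lit 10435712) (BT.leaf (nat_lit 29726225)) (BT.leaf (nat_lit 29725713))))) (BT.node (nat_lit 10436032) (BT.node (nat_lit 10435904) (BT.node (nat_lit 10435840) (BT.leaf (nat_lit 50563353)) (BT.leaf (nat_lit 50563357))) (BT.node (nat_lit 10435968) (BT.leaf (nat_lit 48205829)) (BT.leaf (nat_lit 35514645)))) (BT.node (nat_lit 10436160) (BT.node (nat_lit 10436096) (BT.leaf (nat_lit 38360341)) (BT.leaf (nat_lit 31073301))) (BT.node (nat_lit 10436224) (BT.leaf (nat_lit 41744925)) (BT.leaf (nat_lit 35349269))))))) (BT.node (nat_lit 10436992) (BT.node (nat_lit 10436672) (BT.node (nat_lit 10436416) (BT.node (nat_lit 10436288) (BT.node (nat_lit 10436229) (BT.leaf (nat_lit 776844)) (BT.leaf (nat_lit 776844))) (BT.node (nat_lit 10436352) (BT.leaf (nat_lit 45072133)) (BT.leaf (nat_lit 32251653)))) (BT.node (nat_lit 10436544) (BT.node (nat_lit 10436480) (BT.leaf (nat_lit 29735969)) (BT.leaf (nat_lit 45170693))) (BT.node (nat_lit 10436608) (BT.leaf (nat_lit 46104325)) (BT.leaf (nat_lit 43520021))))) (BT.node (nat_lit 10436804) (BT.node (nat_lit 10436736) (BT.node (nat_lit 10436676) (BT.leaf (nat_lit 41852165)) (BT.leaf (nat_lit 665876))) (BT.node (nat_lit 10436800) (BT.leaf (nat_lit 44946949)) (BT.leaf (nat_lit 32476697)))) (BT.node (nat_lit 10436864) (BT.node (nat_lit 10436808) (BT.leaf (nat_lit 772020)) (BT.leaf (nat_lit 772020))) (BT.node (nat_lit 10436928) (BT.leaf (nat_lit 33879829)) (BT.leaf (nat_lit 32875013)))))) (BT.node (nat_lit 10437504) (BT.node (nat_lit 10437184) (BT.node (nat_lit 10437120) (BT.node (nat_lit 10437056) (BT.leaf (nat_lit 49696005)) (BT.leaf (nat_lit 50573845))) (BT.node (nat_lit 10437125) (BT.leaf (nat_lit 42583309)) (BT.leaf (nat_lit 759816)))) (BT.node (nat_lit 10437312) (BT.node (nat_lit 10437248) (BT.leaf (nat_lit 49237529)) (BT.leaf (nat_lit 37089285))) (BT.node (nat_lit 10437376) (BT.leaf (nat_lit 29731857)) (BT.leaf (nat_lit 49696773))))) (BT.node (nat_lit 10437760) (BT.node (nat_lit 10437632) (BT.node (nat_lit 10437568) (BT.leaf (nat_lit 29731601)) (BT.leaf (nat_lit 29732369))) (BT.node (nat_lit 10437696) (BT.leaf (nat_lit 45518597)) (BT.leaf (nat_lit 45056025)))) (BT.node (nat_lit 10437763) (BT.node (nat_lit 10437762) (BT.leaf (nat_lit 42618373)) (BT.leaf (nat_lit 692140))) (BT.node (nat_lit 10437768) (BT.leaf (nat_lit 692140)) (BT.leaf (nat_lit 692140)))))))))))) (BT.node (nat_lit 10467968) (BT.node (nat_lit 10452992) (BT.node (nat_lit 10445252) (BT.node (nat_lit 10441728) (BT.node (nat_lit 10439680) (BT.node (nat_lit 10438720) (BT.node (nat_lit 10438336) (BT.node (nat_lit 10438080) (BT.node (nat_lit 10437952) (BT.node (nat_lit 10437888) (BT.leaf (nat_lit 29732113)) (BT.leaf (nat_lit 45114401))) (BT.node (nat_lit 10438016) (BT.leaf (nat_lit 42583321)) (BT.leaf (nat_lit 29729297)))) (BT.node (nat_lit 10438208) (BT.node (nat_lit 10438144) (BT.leaf (nat_lit 43205921)) (BT.leaf (nat_lit 32873477))) (BT.node (nat_lit 10438272) (BT.leaf (nat_lit 49404193)) (BT.leaf (nat_lit 30354185))))) (BT.node (nat_lit 10438592) (BT.node (nat_lit 10438464) (BT.node (nat_lit 10438400) (BT.leaf (nat_lit 30354189)) (BT.leaf (nat_lit 41131041))) (BT.node (nat_lit 10438528) (BT.leaf (nat_lit 49580805)) (BT.leaf (nat_lit 49698053)))) (BT.node (nat_lit 10438659) (BT.node (nat_lit 10438658) (BT.leaf (nat_lit 29729049)) (BT.leaf (nat_lit 679976))) (BT.node (nat_lit 10438662) (BT.leaf (nat_lit 679976)) (BT.leaf (nat_lit 679976)))))) (BT.node (nat_lit 10439168) (BT.node (nat_lit 10438912) (BT.node (nat_lit 10438792) (BT.node (nat_lit 10438784) (BT.leaf (nat_lit 30970389)) (BT.leaf (nat_lit 44857861))) (BT.node (nat_lit 10438848) (BT.leaf (nat_lit 790228)) (BT.leaf (nat_lit 29732625)))) (BT.node (nat_lit 10439040) (BT.node (nat_lit 10438976) (BT.leaf (nat_lit 32494113)) (BT.leaf (nat_lit 32300833))) (BT.node (nat_lit 10439104) (BT.leaf (nat_lit 32232969)) (BT.leaf (nat_lit 30358533))))) (BT.node (nat_lit 10439488) (BT.node (nat_lit 10439360) (BT.node (nat_lit 10439232) (BT.leaf (nat_lit 30358537)) (BT.leaf (nat_lit 30358541))) (BT.node (nat_lit 10439424) (BT.leaf (nat_lit 30358553)) (BT.leaf (nat_lit 30358557)))) (BT.node (nat_lit 10439554) (BT.node (nat_lit 10439552) (BT.leaf (nat_lit 32232461)) (BT.leaf (nat_lit 37788693))) (BT.node (nat_lit 10439616) (BT.leaf (nat_lit 659196)) (BT.leaf (nat_lit 32300817))))))) (BT.node (nat_lit 10440704) (BT.node (nat_lit 10440192) (BT.node (nat_lit 10439936) (BT.node (nat_lit 10439808) (BT.node (nat_lit 10439744) (BT.leaf (nat_lit 49238797)) (BT.leaf (nat_lit 42550549))) (BT.node (nat_lit 10439872) (BT.leaf (nat_lit 44998669)) (BT.leaf (nat_lit 30419985)))) (BT.node (nat_lit 10440064) (BT.node (nat_lit 10440000) (BT.leaf (nat_lit 29734417)) (BT.leaf (nat_lit 36962309))) (BT.node (nat_lit 10440128) (BT.leaf (nat_lit 30686497)) (BT.leaf (nat_lit 46410765))))) (BT.node (nat_lit 10440448) (BT.node (nat_lit 10440320) (BT.node (nat_lit 10440256) (BT.leaf (nat_lit 44946961)) (BT.leaf (nat_lit 39589661))) (BT.node (nat_lit 10440384) (BT.leaf (nat_lit 40337421)) (BT.leaf (nat_lit 28454677)))) (BT.node (nat_lit 10440576) (BT.node (nat_lit 10440512) (BT.leaf (nat_lit 44946977)) (BT.leaf (nat_lit 41005329))) (BT.node (nat_lit 10440640) (BT.leaf (nat_lit 41761545)) (BT.leaf (nat_lit 40953609)))))) (BT.node (nat_lit 10441280) (BT.node (nat_lit 10440960) (BT.node (nat_lit 10440832) (BT.node (nat_lit 10440768) (BT.leaf (nat_lit 34397973)) (BT.leaf (nat_lit 39919641))) (BT.node (nat_lit 10440896) (BT.leaf (nat_lit 39919645)) (BT.leaf (nat_lit 40259089)))) (BT.node (nat_lit 10441088) (BT.node (nat_lit 10441024) (BT.leaf (nat_lit 40292373)) (BT.leaf (nat_lit 40259105))) (BT.node (nat_lit 10441152) (BT.leaf (nat_lit 47165461)) (BT.leaf (nat_lit 45370121))))) (BT.node (nat_lit 10441480) (BT.node (nat_lit 10441408) (BT.node (nat_lit 10441344) (BT.leaf (nat_lit 42556677)) (BT.leaf (nat_lit 48215305))) (BT.node (nat_lit 10441472) (BT.leaf (nat_lit 32876037)) (BT.leaf (nat_lit 31656217)))) (BT.node (nat_lit 10441600) (BT.node (nat_lit 10441536) (BT.leaf (nat_lit 763224)) (BT.leaf (nat_lit 30686481))) (BT.node (nat_lit 10441664) (BT.leaf (nat_lit 30686485)) (BT.leaf (nat_lit 46112801)))))))) (BT.node (nat_lit 10443456) (BT.node (nat_lit 10442437) (BT.node (nat_lit 10442056) (BT.node (nat_lit 10441984) (BT.node (nat_lit 10441856) (BT.node (nat_lit 10441792) (BT.leaf (nat_lit 46113029)) (BT.leaf (nat_lit 30253065))) (BT.node (nat_lit 10441920) (BT.leaf (nat_lit 30253069)) (BT.leaf (nat_lit 29737749)))) (BT.node (nat_lit 10441992) (BT.node (nat_lit 10441986) (BT.leaf (nat_lit 40032521)) (BT.leaf (nat_lit 663820))) (BT.node (nat_lit 10442048) (BT.leaf (nat_lit 663820)) (BT.leaf (nat_lit 40145933))))) (BT.node (nat_lit 10442304) (BT.node (nat_lit 10442176) (BT.node (nat_lit 10442112) (BT.leaf (nat_lit 673364)) (BT.leaf (nat_lit 46769941))) (BT.node (nat_lit 10442240) (BT.leaf (nat_lit 29735949)) (BT.leaf (nat_lit 37723657)))) (BT.node (nat_lit 10442373) (BT.node (nat_lit 10442368) (BT.leaf (nat_lit 29735945)) (BT.leaf (nat_lit 37723661))) (BT.node (nat_lit 10442433) (BT.leaf (nat_lit 769576)) (BT.leaf (nat_lit 720504)))))) (BT.node (nat_lit 10442944) (BT.node (nat_lit 10442624) (BT.node (nat_lit 10442497) (BT.node (nat_lit 10442496) (BT.leaf (nat_lit 720504)) (BT.leaf (nat_lit 39592717))) (BT.node (nat_lit 10442560) (BT.leaf (nat_lit 681196)) (BT.leaf (nat_lit 41850913)))) (BT.node (nat_lit 10442816) (BT.node (nat_lit 10442752) (BT.leaf (nat_lit 39221253)) (BT.leaf (nat_lit 39591709))) (BT.node (nat_lit 10442880) (BT.leaf (nat_lit 43714593)) (BT.leaf (nat_lit 29736981))))) (BT.node (nat_lit 10443200) (BT.node (nat_lit 10443072) (BT.node (nat_lit 10443008) (BT.leaf (nat_lit 39591449)) (BT.leaf (nat_lit 31024145))) (BT.node (nat_lit 10443136) (BT.leaf (nat_lit 52073501)) (BT.leaf (nat_lit 41283589)))) (BT.node (nat_lit 10443328) (BT.node (nat_lit 10443264) (BT.leaf (nat_lit 41283601)) (BT.leaf (nat_lit 43683361))) (BT.node (nat_lit 10443392) (BT.leaf (nat_lit 44391705)) (BT.leaf (nat_lit 28058385))))))) (BT.node (nat_lit 10444288) (BT.node (nat_lit 10443776) (BT.node (nat_lit 10443649) (BT.node (nat_lit 10443584) (BT.node (nat_lit 10443520) (BT.leaf (nat_lit 38954521)) (BT.leaf (nat_lit 38954525))) (BT.node (nat_lit 10443648) (BT.leaf (nat_lit 29738513)) (BT.leaf (nat_lit 31111693)))) (BT.node (nat_lit 10443654) (BT.node (nat_lit 10443651) (BT.leaf (nat_lit 701432)) (BT.leaf (nat_lit 757480))) (BT.node (nat_lit 10443712) (BT.leaf (nat_lit 701432)) (BT.leaf (nat_lit 31945241))))) (BT.node (nat_lit 10444032) (BT.node (nat_lit 10443904) (BT.node (nat_lit 10443840) (BT.leaf (nat_lit 31945245)) (BT.leaf (nat_lit 29741585))) (BT.node (nat_lit 10443968) (BT.leaf (nat_lit 42162453)) (BT.leaf (nat_lit 29741329)))) (BT.node (nat_lit 10444160) (BT.node (nat_lit 10444096) (BT.leaf (nat_lit 39020569)) (BT.leaf (nat_lit 39020573))) (BT.node (nat_lit 10444224) (BT.leaf (nat_lit 46173465)) (BT.leaf (nat_lit 38928397)))))) (BT.node (nat_lit 10444800) (BT.node (nat_lit 10444544) (BT.node (nat_lit 10444416) (BT.node (nat_lit 10444352) (BT.leaf (nat_lit 38929161)) (BT.leaf (nat_lit 45367061))) (BT.node (nat_lit 10444480) (BT.leaf (nat_lit 41058829)) (BT.leaf (nat_lit 30648089)))) (BT.node (nat_lit 10444672) (BT.node (nat_lit 10444608) (BT.leaf (nat_lit 30648093)) (BT.leaf (nat_lit 29743889))) (BT.node (nat_lit 10444736) (BT.leaf (nat_lit 33882641)) (BT.leaf (nat_lit 43450885))))) (BT.node (nat_lit 10445056) (BT.node (nat_lit 10444928) (BT.node (nat_lit 10444864) (BT.leaf (nat_lit 30279429)) (BT.leaf (nat_lit 37969157))) (BT.node (nat_lit 10444992) (BT.leaf (nat_lit 40048145)) (BT.leaf (nat_lit 45905433)))) (BT.node (nat_lit 10445184) (BT.node (nat_lit 10445120) (BT.leaf (nat_lit 31321373)) (BT.leaf (nat_lit 30741013))) (BT.node (nat_lit 10445248) (BT.leaf (nat_lit 44101645)) (BT.leaf (nat_lit 41888773))))))))) (BT.node (nat_lit 10449088) (BT.node (nat_lit 10447104) (BT.node (nat_lit 10446144) (BT.node (nat_lit 10445760) (BT.node (nat_lit 10445504) (BT.node (nat_lit 10445376) (BT.node (nat_lit 10445312) (BT.leaf (nat_lit 692228)) (BT.leaf (nat_lit 29749009))) (BT.node (nat_lit 10445440) (BT.leaf (nat_lit 49109525)) (BT.leaf (nat_lit 38097433)))) (BT.node (nat_lit 10445632) (BT.node (nat_lit 10445568) (BT.leaf (nat_lit 38097437)) (BT.leaf (nat_lit 38117921))) (BT.node (nat_lit 10445696) (BT.leaf (nat_lit 39614485)) (BT.leaf (nat_lit 39614489))))) (BT.node (nat_lit 10445952) (BT.node (nat_lit 10445888) (BT.node (nat_lit 10445824) (BT.leaf (nat_lit 39614493)) (BT.leaf (nat_lit 49294881))) (BT.node (nat_lit 10445892) (BT.leaf (nat_lit 44420641)) (BT.leaf (nat_lit 706792)))) (BT.node (nat_lit 10446016) (BT.node (nat_lit 10445957) (BT.leaf (nat_lit 31221777)) (BT.leaf (nat_lit 706796))) (BT.node (nat_lit 10446080) (BT.leaf (nat_lit 50529057)) (BT.leaf (nat_lit 42075141)))))) (BT.node (nat_lit 10446656) (BT.node (nat_lit 10446400) (BT.node (nat_lit 10446272) (BT.node (nat_lit 10446208) (BT.leaf (nat_lit 38501917)) (BT.leaf (nat_lit 48715789))) (BT.node (nat_lit 10446336) (BT.leaf (nat_lit 39011089)) (BT.leaf (nat_lit 45211141)))) (BT.node (nat_lit 10446528) (BT.node (nat_lit 10446464) (BT.leaf (nat_lit 45212193)) (BT.leaf (nat_lit 42715681))) (BT.node (nat_lit 10446592) (BT.leaf (nat_lit 48715037)) (BT.leaf (nat_lit 46184725))))) (BT.node (nat_lit 10446912) (BT.node (nat_lit 10446784) (BT.node (nat_lit 10446720) (BT.leaf (nat_lit 41786377)) (BT.leaf (nat_lit 32631317))) (BT.node (nat_lit 10446848) (BT.leaf (nat_lit 43003425)) (BT.leaf (nat_lit 50479621)))) (BT.node (nat_lit 10447040) (BT.node (nat_lit 10446976) (BT.leaf (nat_lit 32631321)) (BT.leaf (nat_lit 32631325))) (BT.node (nat_lit 10447045) (BT.leaf (nat_lit 32930313)) (BT.leaf (nat_lit 738492))))))) (BT.node (nat_lit 10448064) (BT.node (nat_lit 10447552) (BT.node (nat_lit 10447301) (BT.node (nat_lit 10447232) (BT.node (nat_lit 10447168) (BT.leaf (nat_lit 30326293)) (BT.leaf (nat_lit 40300041))) (BT.node (nat_lit 10447296) (BT.leaf (nat_lit 32225313)) (BT.leaf (nat_lit 40335377)))) (BT.node (nat_lit 10447424) (BT.node (nat_lit 10447360) (BT.leaf (nat_lit 706864)) (BT.leaf (nat_lit 29753093))) (BT.node (nat_lit 10447488) (BT.leaf (nat_lit 45284113)) (BT.leaf (nat_lit 29772309))))) (BT.node (nat_lit 10447808) (BT.node (nat_lit 10447680) (BT.node (nat_lit 10447616) (BT.leaf (nat_lit 41790493)) (BT.leaf (nat_lit 41955589))) (BT.node (nat_lit 10447744) (BT.leaf (nat_lit 31264261)) (BT.leaf (nat_lit 27435285)))) (BT.node (nat_lit 10447936) (BT.node (nat_lit 10447872) (BT.leaf (nat_lit 40160517)) (BT.leaf (nat_lit 41934881))) (BT.node (nat_lit 10448000) (BT.leaf (nat_lit 45354273)) (BT.leaf (nat_lit 43884301)))))) (BT.node (nat_lit 10448576) (BT.node (nat_lit 10448320) (BT.node (nat_lit 10448192) (BT.node (nat_lit 10448128) (BT.leaf (nat_lit 29755157)) (BT.leaf (nat_lit 45419037))) (BT.node (nat_lit 10448256) (BT.leaf (nat_lit 43884577)) (BT.leaf (nat_lit 49717277)))) (BT.node (nat_lit 10448448) (BT.node (nat_lit 10448384) (BT.leaf (nat_lit 47595293)) (BT.leaf (nat_lit 32335889))) (BT.node (nat_lit 10448512) (BT.leaf (nat_lit 44988957)) (BT.leaf (nat_lit 32340229))))) (BT.node (nat_lit 10448832) (BT.node (nat_lit 10448704) (BT.node (nat_lit 10448640) (BT.leaf (nat_lit 31259397)) (BT.leaf (nat_lit 43245077))) (BT.node (nat_lit 10448768) (BT.leaf (nat_lit 49304353)) (BT.leaf (nat_lit 39887109)))) (BT.node (nat_lit 10448960) (BT.node (nat_lit 10448896) (BT.leaf (nat_lit 32256801)) (BT.leaf (nat_lit 38735137))) (BT.node (nat_lit 10449024) (BT.leaf (nat_lit 30698005)) (BT.leaf (nat_lit 27282721)))))))) (BT.node (nat_lit 10451072) (BT.node (nat_lit 10450112) (BT.node (nat_lit 10449600) (BT.node (nat_lit 10449344) (BT.node (nat_lit 10449216) (BT.node (nat_lit 10449152) (BT.leaf (nat_lit 30680069)) (BT.leaf (nat_lit 51056921))) (BT.node (nat_lit 10449280) (BT.leaf (nat_lit 51056925)) (BT.leaf (nat_lit 33627417)))) (BT.node (nat_lit 10449472) (BT.node (nat_lit 10449408) (BT.leaf (nat_lit 33564449)) (BT.leaf (nat_lit 32029977))) (BT.node (nat_lit 10449536) (BT.leaf (nat_lit 38821893)) (BT.leaf (nat_lit 41965573))))) (BT.node (nat_lit 10449856) (BT.node (nat_lit 10449728) (BT.node (nat_lit 10449664) (BT.leaf (nat_lit 39278085)) (BT.leaf (nat_lit 49371397))) (BT.node (nat_lit 10449792) (BT.leaf (nat_lit 47540761)) (BT.leaf (nat_lit 35951121)))) (BT.node (nat_lit 10449984) (BT.node (nat_lit 10449920) (BT.leaf (nat_lit 39056901)) (BT.leaf (nat_lit 45257249))) (BT.node (nat_lit 10450048) (BT.leaf (nat_lit 31178261)) (BT.leaf (nat_lit 41800477)))))) (BT.node (nat_lit 10450560) (BT.node (nat_lit 10450368) (BT.node (nat_lit 10450240) (BT.node (nat_lit 10450176) (BT.leaf (nat_lit 51304465)) (BT.leaf (nat_lit 31939605))) (BT.node (nat_lit 10450304) (BT.leaf (nat_lit 31939609)) (BT.leaf (nat_lit 31939613)))) (BT.node (nat_lit 10450496) (BT.node (nat_lit 10450432) (BT.leaf (nat_lit 39656981)) (BT.leaf (nat_lit 39656985))) (BT.node (nat_lit 10450504) (BT.leaf (nat_lit 46826505)) (BT.leaf (nat_lit 789344))))) (BT.node (nat_lit 10450816) (BT.node (nat_lit 10450688) (BT.node (nat_lit 10450624) (BT.leaf (nat_lit 29746705)) (BT.leaf (nat_lit 32552473))) (BT.node (nat_lit 10450752) (BT.leaf (nat_lit 30463757)) (BT.leaf (nat_lit 48737557)))) (BT.node (nat_lit 10450944) (BT.node (nat_lit 10450880) (BT.leaf (nat_lit 32552461)) (BT.leaf (nat_lit 30463777))) (BT.node (nat_lit 10451008) (BT.leaf (nat_lit 30739733)) (BT.leaf (nat_lit 29747217))))))) (BT.node (nat_lit 10451904) (BT.node (nat_lit 10451463) (BT.node (nat_lit 10451328) (BT.node (nat_lit 10451200) (BT.node (nat_lit 10451136) (BT.leaf (nat_lit 52052493)) (BT.leaf (nat_lit 52052749))) (BT.node (nat_lit 10451264) (BT.leaf (nat_lit 47686689)) (BT.leaf (nat_lit 31802629)))) (BT.node (nat_lit 10451456) (BT.node (nat_lit 10451392) (BT.leaf (nat_lit 38582545)) (BT.leaf (nat_lit 40951813))) (BT.node (nat_lit 10451462) (BT.leaf (nat_lit 38582561)) (BT.leaf (nat_lit 673856))))) (BT.node (nat_lit 10451712) (BT.node (nat_lit 10451584) (BT.node (nat_lit 10451520) (BT.leaf (nat_lit 673856)) (BT.leaf (nat_lit 31234577))) (BT.node (nat_lit 10451648) (BT.leaf (nat_lit 33891089)) (BT.leaf (nat_lit 48213509)))) (BT.node (nat_lit 10451780) (BT.node (nat_lit 10451776) (BT.leaf (nat_lit 39736093)) (BT.leaf (nat_lit 32984601))) (BT.node (nat_lit 10451840) (BT.leaf (nat_lit 707800)) (BT.leaf (nat_lit 44240925)))))) (BT.node (nat_lit 10452480) (BT.node (nat_lit 10452224) (BT.node (nat_lit 10452032) (BT.node (nat_lit 10451968) (BT.leaf (nat_lit 41922849)) (BT.leaf (nat_lit 44240905))) (BT.node (nat_lit 10452160) (BT.leaf (nat_lit 32984589)) (BT.leaf (nat_lit 41937413)))) (BT.node (nat_lit 10452352) (BT.node (nat_lit 10452288) (BT.leaf (nat_lit 48747037)) (BT.leaf (nat_lit 42286101))) (BT.node (nat_lit 10452416) (BT.leaf (nat_lit 32332549)) (BT.leaf (nat_lit 40251937))))) (BT.node (nat_lit 10452736) (BT.node (nat_lit 10452608) (BT.node (nat_lit 10452544) (BT.leaf (nat_lit 44225801)) (BT.leaf (nat_lit 44742149))) (BT.node (nat_lit 10452672) (BT.leaf (nat_lit 31379469)) (BT.leaf (nat_lit 47813893)))) (BT.node (nat_lit 10452864) (BT.node (nat_lit 10452800) (BT.leaf (nat_lit 31852817)) (BT.leaf (nat_lit 31852825))) (BT.node (nat_lit 10452928) (BT.leaf (nat_lit 42377229)) (BT.leaf (nat_lit 31880725)))))))))) (BT.node (nat_lit 10460291) (BT.node (nat_lit 10457088) (BT.node (nat_lit 10454912) (BT.node (nat_lit 10453894) (BT.node (nat_lit 10453504) (BT.node (nat_lit 10453248) (BT.node (nat_lit 10453120) (BT.node (nat_lit 10453056) (BT.leaf (nat_lit 31808801)) (BT.leaf (nat_lit 46213145))) (BT.node (nat_lit 10453184) (BT.leaf (nat_lit 46213149)) (BT.leaf (nat_lit 46672657)))) (BT.node (nat_lit 10453376) (BT.node (nat_lit 10453312) (BT.leaf (nat_lit 33996817)) (BT.leaf (nat_lit 50555937))) (BT.node (nat_lit 10453440) (BT.leaf (nat_lit 34103057)) (BT.leaf (nat_lit 29767185))))) (BT.node (nat_lit 10453760) (BT.node (nat_lit 10453632) (BT.node (nat_lit 10453568) (BT.leaf (nat_lit 32911897)) (BT.leaf (nat_lit 32911901))) (BT.node (nat_lit 10453696) (BT.leaf (nat_lit 29767441)) (BT.leaf (nat_lit 35894809)))) (BT.node (nat_lit 10453888) (BT.node (nat_lit 10453824) (BT.leaf (nat_lit 35894813)) (BT.leaf (nat_lit 29768201))) (BT.node (nat_lit 10453889) (BT.leaf (nat_lit 30499593)) (BT.leaf (nat_lit 692056)))))) (BT.node (nat_lit 10454400) (BT.node (nat_lit 10454144) (BT.node (nat_lit 10454016) (BT.node (nat_lit 10453952) (BT.leaf (nat_lit 692056)) (BT.leaf (nat_lit 30499597))) (BT.node (nat_lit 10454080) (BT.leaf (nat_lit 29768725)) (BT.leaf (nat_lit 44816413)))) (BT.node (nat_lit 10454272) (BT.node (nat_lit 10454208) (BT.leaf (nat_lit 32806165)) (BT.leaf (nat_lit 48225813))) (BT.node (nat_lit 10454336) (BT.leaf (nat_lit 32446485)) (BT.leaf (nat_lit 32446489))))) (BT.node (nat_lit 10454656) (BT.node (nat_lit 10454528) (BT.node (nat_lit 10454464) (BT.leaf (nat_lit 32446493)) (BT.leaf (nat_lit 47896837))) (BT.node (nat_lit 10454592) (BT.leaf (nat_lit 29980697)) (BT.leaf (nat_lit 29980701)))) (BT.node (nat_lit 10454784) (BT.node (nat_lit 10454720) (BT.leaf (nat_lit 50593041)) (BT.leaf (nat_lit 47897377))) (BT.node (nat_lit 10454848) (BT.leaf (nat_lit 49428501)) (BT.leaf (nat_lit 41784069))))))) (BT.node (nat_lit 10456064) (BT.node (nat_lit 10455424) (BT.node (nat_lit 10455168) (BT.node (nat_lit 10455040) (BT.node (nat_lit 10454976) (BT.leaf (nat_lit 46564633)) (BT.leaf (nat_lit 39074821))) (BT.node (nat_lit 10455104) (BT.leaf (nat_lit 46097953)) (BT.leaf (nat_lit 42386721)))) (BT.node (nat_lit 10455296) (BT.node (nat_lit 10455232) (BT.leaf (nat_lit 39576597)) (BT.leaf (nat_lit 40072209))) (BT.node (nat_lit 10455360) (BT.leaf (nat_lit 43499273)) (BT.leaf (nat_lit 46736153))))) (BT.node (nat_lit 10455744) (BT.node (nat_lit 10455552) (BT.node (nat_lit 10455488) (BT.leaf (nat_lit 48578593)) (BT.leaf (nat_lit 41073433))) (BT.node (nat_lit 10455680) (BT.leaf (nat_lit 41073437)) (BT.leaf (nat_lit 31818001)))) (BT.node (nat_lit 10455872) (BT.node (nat_lit 10455808) (BT.leaf (nat_lit 29774597)) (BT.leaf (nat_lit 45668893))) (BT.node (nat_lit 10455936) (BT.leaf (nat_lit 43773713)) (BT.leaf (nat_lit 38001937)))))) (BT.node (nat_lit 10456576) (BT.node (nat_lit 10456320) (BT.node (nat_lit 10456192) (BT.node (nat_lit 10456128) (BT.leaf (nat_lit 32472081)) (BT.leaf (nat_lit 39027489))) (BT.node (nat_lit 10456256) (BT.leaf (nat_lit 46174981)) (BT.leaf (nat_lit 39356173)))) (BT.node (nat_lit 10456448) (BT.node (nat_lit 10456384) (BT.leaf (nat_lit 38256137)) (BT.leaf (nat_lit 43968289))) (BT.node (nat_lit 10456512) (BT.leaf (nat_lit 38256921)) (BT.leaf (nat_lit 38744845))))) (BT.node (nat_lit 10456832) (BT.node (nat_lit 10456704) (BT.node (nat_lit 10456640) (BT.leaf (nat_lit 51122437)) (BT.leaf (nat_lit 29774881))) (BT.node (nat_lit 10456768) (BT.leaf (nat_lit 29775137)) (BT.leaf (nat_lit 31123473)))) (BT.node (nat_lit 10456960) (BT.node (nat_lit 10456896) (BT.leaf (nat_lit 48065293)) (BT.leaf (nat_lit 31267093))) (BT.node (nat_lit 10457024) (BT.leaf (nat_lit 35812881)) (BT.leaf (nat_lit 37742873)))))))) (BT.node (nat_lit 10458816) (BT.node (nat_lit 10457856) (BT.node (nat_lit 10457413) (BT.node (nat_lit 10457344) (BT.node (nat_lit 10457216) (BT.node (nat_lit 10457152) (BT.leaf (nat_lit 38168337)) (BT.leaf (nat_lit 38168353))) (BT.node (nat_lit 10457280) (BT.leaf (nat_lit 42392097)) (BT.leaf (nat_lit 39873541)))) (BT.node (nat_lit 10457351) (BT.node (nat_lit 10457350) (BT.leaf (nat_lit 38260997)) (BT.leaf (nat_lit 676108))) (BT.node (nat_lit 10457408) (BT.leaf (nat_lit 676108)) (BT.leaf (nat_lit 38786313))))) (BT.node (nat_lit 10457600) (BT.node (nat_lit 10457536) (BT.node (nat_lit 10457472) (BT.leaf (nat_lit 712864)) (BT.leaf (nat_lit 27295497))) (BT.node (nat_lit 10457544) (BT.leaf (nat_lit 39077145)) (BT.leaf (nat_lit 776184)))) (BT.node (nat_lit 10457728) (BT.node (nat_lit 10457664) (BT.leaf (nat_lit 39874565)) (BT.leaf (nat_lit 39874849))) (BT.node (nat_lit 10457792) (BT.leaf (nat_lit 38786329)) (BT.leaf (nat_lit 42393889)))))) (BT.node (nat_lit 10458368) (BT.node (nat_lit 10458112) (BT.node (nat_lit 10457984) (BT.node (nat_lit 10457920) (BT.leaf (nat_lit 41076769)) (BT.leaf (nat_lit 47427361))) (BT.node (nat_lit 10458048) (BT.leaf (nat_lit 29777425)) (BT.leaf (nat_lit 41057029)))) (BT.node (nat_lit 10458240) (BT.node (nat_lit 10458176) (BT.leaf (nat_lit 29907989)) (BT.leaf (nat_lit 39965473))) (BT.node (nat_lit 10458304) (BT.leaf (nat_lit 46493969)) (BT.leaf (nat_lit 40837657))))) (BT.node (nat_lit 10458500) (BT.node (nat_lit 10458498) (BT.node (nat_lit 10458432) (BT.leaf (nat_lit 40685321)) (BT.leaf (nat_lit 39869957))) (BT.node (nat_lit 10458499) (BT.leaf (nat_lit 704876)) (BT.leaf (nat_lit 704876)))) (BT.node (nat_lit 10458688) (BT.node (nat_lit 10458624) (BT.leaf (nat_lit 704876)) (BT.leaf (nat_lit 40836885))) (BT.node (nat_lit 10458752) (BT.leaf (nat_lit 37726481)) (BT.leaf (nat_lit 37726485))))))) (BT.node (nat_lit 10459456) (BT.node (nat_lit 10459073) (BT.node (nat_lit 10458944) (BT.node (nat_lit 10458881) (BT.node (nat_lit 10458880) (BT.leaf (nat_lit 29779473)) (BT.leaf (nat_lit 48872977))) (BT.node (nat_lit 10458885) (BT.leaf (nat_lit 753612)) (BT.leaf (nat_lit 753612)))) (BT.node (nat_lit 10459008) (BT.node (nat_lit 10458949) (BT.leaf (nat_lit 41835545)) (BT.leaf (nat_lit 696552))) (BT.node (nat_lit 10459072) (BT.leaf (nat_lit 29779733)) (BT.leaf (nat_lit 41836557))))) (BT.node (nat_lit 10459200) (BT.node (nat_lit 10459077) (BT.node (nat_lit 10459076) (BT.leaf (nat_lit 692460)) (BT.leaf (nat_lit 692460))) (BT.node (nat_lit 10459136) (BT.leaf (nat_lit 795036)) (BT.leaf (nat_lit 40541213)))) (BT.node (nat_lit 10459328) (BT.node (nat_lit 10459265) (BT.leaf (nat_lit 34953497)) (BT.leaf (nat_lit 795044))) (BT.node (nat_lit 10459392) (BT.leaf (nat_lit 30194717)) (BT.leaf (nat_lit 29779997)))))) (BT.node (nat_lit 10459968) (BT.node (nat_lit 10459712) (BT.node (nat_lit 10459584) (BT.node (nat_lit 10459520) (BT.leaf (nat_lit 32118545)) (BT.leaf (nat_lit 48911901))) (BT.node (nat_lit 10459648) (BT.leaf (nat_lit 31689245)) (BT.leaf (nat_lit 29780501)))) (BT.node (nat_lit 10459840) (BT.node (nat_lit 10459776) (BT.leaf (nat_lit 41720329)) (BT.leaf (nat_lit 30716945))) (BT.node (nat_lit 10459904) (BT.leaf (nat_lit 41720337)) (BT.leaf (nat_lit 28137493))))) (BT.node (nat_lit 10460160) (BT.node (nat_lit 10460096) (BT.node (nat_lit 10460032) (BT.leaf (nat_lit 43449861)) (BT.leaf (nat_lit 29780761))) (BT.node (nat_lit 10460101) (BT.leaf (nat_lit 34735389)) (BT.leaf (nat_lit 763644)))) (BT.node (nat_lit 10460288) (BT.node (nat_lit 10460224) (BT.leaf (nat_lit 29780765)) (BT.leaf (nat_lit 32120593))) (BT.node (nat_lit 10460290) (BT.leaf (nat_lit 43146265)) (BT.leaf (nat_lit 674164))))))))) (BT.node (nat_lit 10464192) (BT.node (nat_lit 10462208) (BT.node (nat_lit 10461312) (BT.node (nat_lit 10460736) (BT.node (nat_lit 10460480) (BT.node (nat_lit 10460352) (BT.node (nat_lit 10460294) (BT.leaf (nat_lit 674164)) (BT.leaf (nat_lit 674164))) (BT.node (nat_lit 10460416) (BT.leaf (nat_lit 36210201)) (BT.leaf (nat_lit 51042077)))) (BT.node (nat_lit 10460608) (BT.node (nat_lit 10460544) (BT.leaf (nat_lit 51065101)) (BT.leaf (nat_lit 29785105))) (BT.node (nat_lit 10460672) (BT.leaf (nat_lit 34274825)) (BT.leaf (nat_lit 34274829))))) (BT.node (nat_lit 10461056) (BT.node (nat_lit 10460864) (BT.node (nat_lit 10460800) (BT.leaf (nat_lit 42447629)) (BT.leaf (nat_lit 46494737))) (BT.node (nat_lit 10460928) (BT.leaf (nat_lit 42408481)) (BT.leaf (nat_lit 28638745)))) (BT.node (nat_lit 10461184) (BT.node (nat_lit 10461120) (BT.leaf (nat_lit 42408965)) (BT.leaf (nat_lit 29786897))) (BT.node (nat_lit 10461248) (BT.leaf (nat_lit 29786385)) (BT.leaf (nat_lit 43945737)))))) (BT.node (nat_lit 10461762) (BT.node (nat_lit 10461568) (BT.node (nat_lit 10461440) (BT.node (nat_lit 10461376) (BT.leaf (nat_lit 43133717)) (BT.leaf (nat_lit 43133721))) (BT.node (nat_lit 10461504) (BT.leaf (nat_lit 43133725)) (BT.leaf (nat_lit 39120921)))) (BT.node (nat_lit 10461696) (BT.node (nat_lit 10461632) (BT.leaf (nat_lit 39120925)) (BT.leaf (nat_lit 39120929))) (BT.node (nat_lit 10461760) (BT.leaf (nat_lit 45062157)) (BT.leaf (nat_lit 45062149))))) (BT.node (nat_lit 10461952) (BT.node (nat_lit 10461824) (BT.node (nat_lit 10461763) (BT.leaf (nat_lit 677828)) (BT.leaf (nat_lit 677828))) (BT.node (nat_lit 10461888) (BT.leaf (nat_lit 38474517)) (BT.leaf (nat_lit 41505561)))) (BT.node (nat_lit 10462080) (BT.node (nat_lit 10462016) (BT.leaf (nat_lit 41505565)) (BT.leaf (nat_lit 29787937))) (BT.node (nat_lit 10462144) (BT.leaf (nat_lit 29789201)) (BT.leaf (nat_lit 29788449))))))) (BT.node (nat_lit 10463168) (BT.node (nat_lit 10462724) (BT.node (nat_lit 10462464) (BT.node (nat_lit 10462336) (BT.node (nat_lit 10462272) (BT.leaf (nat_lit 29788193)) (BT.leaf (nat_lit 39820065))) (BT.node (nat_lit 10462400) (BT.leaf (nat_lit 39819809)) (BT.leaf (nat_lit 39194373)))) (BT.node (nat_lit 10462656) (BT.node (nat_lit 10462528) (BT.leaf (nat_lit 29789713)) (BT.leaf (nat_lit 29789457))) (BT.node (nat_lit 10462720) (BT.leaf (nat_lit 27579409)) (BT.leaf (nat_lit 41770005))))) (BT.node (nat_lit 10462976) (BT.node (nat_lit 10462848) (BT.node (nat_lit 10462784) (BT.leaf (nat_lit 664932)) (BT.leaf (nat_lit 41770009))) (BT.node (nat_lit 10462912) (BT.leaf (nat_lit 41770013)) (BT.leaf (nat_lit 29792785)))) (BT.node (nat_lit 10463104) (BT.node (nat_lit 10463040) (BT.leaf (nat_lit 27600401)) (BT.leaf (nat_lit 43442201))) (BT.node (nat_lit 10463105) (BT.leaf (nat_lit 43442205)) (BT.leaf (nat_lit 654004)))))) (BT.node (nat_lit 10463680) (BT.node (nat_lit 10463424) (BT.node (nat_lit 10463237) (BT.node (nat_lit 10463232) (BT.leaf (nat_lit 29792529)) (BT.leaf (nat_lit 28587281))) (BT.node (nat_lit 10463296) (BT.leaf (nat_lit 706400)) (BT.leaf (nat_lit 33910033)))) (BT.node (nat_lit 10463552) (BT.node (nat_lit 10463488) (BT.leaf (nat_lit 41853465)) (BT.leaf (nat_lit 29793297))) (BT.node (nat_lit 10463616) (BT.leaf (nat_lit 41758217)) (BT.leaf (nat_lit 41758221))))) (BT.node (nat_lit 10463936) (BT.node (nat_lit 10463808) (BT.node (nat_lit 10463744) (BT.leaf (nat_lit 39106069)) (BT.leaf (nat_lit 41758233))) (BT.node (nat_lit 10463872) (BT.leaf (nat_lit 41758237)) (BT.leaf (nat_lit 35659029)))) (BT.node (nat_lit 10464064) (BT.node (nat_lit 10464000) (BT.leaf (nat_lit 37788945)) (BT.leaf (nat_lit 37788949))) (BT.node (nat_lit 10464128) (BT.leaf (nat_lit 29793821)) (BT.leaf (nat_lit 39106073)))))))) (BT.node (nat_lit 10466048) (BT.node (nat_lit 10465152) (BT.node (nat_lit 10464640) (BT.node (nat_lit 10464448) (BT.node (nat_lit 10464320) (BT.node (nat_lit 10464256) (BT.leaf (nat_lit 39106077)) (BT.leaf (nat_lit 29794065))) (BT.node (nat_lit 10464384) (BT.leaf (nat_lit 29971489)) (BT.leaf (nat_lit 41296649)))) (BT.node (nat_lit 10464576) (BT.node (nat_lit 10464512) (BT.leaf (nat_lit 29798929)) (BT.leaf (nat_lit 29798417))) (BT.node (nat_lit 10464580) (BT.leaf (nat_lit 31179541)) (BT.leaf (nat_lit 673488))))) (BT.node (nat_lit 10464896) (BT.node (nat_lit 10464768) (BT.node (nat_lit 10464704) (BT.leaf (nat_lit 31179809)) (BT.leaf (nat_lit 38676513))) (BT.node (nat_lit 10464832) (BT.leaf (nat_lit 29798161)) (BT.leaf (nat_lit 29802261)))) (BT.node (nat_lit 10465024) (BT.node (nat_lit 10464960) (BT.leaf (nat_lit 48025881)) (BT.leaf (nat_lit 31037457))) (BT.node (nat_lit 10465088) (BT.leaf (nat_lit 46676237)) (BT.leaf (nat_lit 35390241)))))) (BT.node (nat_lit 10465664) (BT.node (nat_lit 10465408) (BT.node (nat_lit 10465280) (BT.node (nat_lit 10465216) (BT.leaf (nat_lit 29964829)) (BT.leaf (nat_lit 47673093))) (BT.node (nat_lit 10465344) (BT.leaf (nat_lit 49613841)) (BT.leaf (nat_lit 31358473)))) (BT.node (nat_lit 10465536) (BT.node (nat_lit 10465472) (BT.leaf (nat_lit 33911325)) (BT.leaf (nat_lit 49613857))) (BT.node (nat_lit 10465600) (BT.leaf (nat_lit 33911305)) (BT.leaf (nat_lit 42584609))))) (BT.node (nat_lit 10465861) (BT.node (nat_lit 10465792) (BT.node (nat_lit 10465728) (BT.leaf (nat_lit 49287173)) (BT.leaf (nat_lit 29804569))) (BT.node (nat_lit 10465856) (BT.leaf (nat_lit 29804825)) (BT.leaf (nat_lit 32308769)))) (BT.node (nat_lit 10465984) (BT.node (nat_lit 10465920) (BT.leaf (nat_lit 756120)) (BT.leaf (nat_lit 30968089))) (BT.node (nat_lit 10465986) (BT.leaf (nat_lit 42141445)) (BT.leaf (nat_lit 755528))))))) (BT.node (nat_lit 10466944) (BT.node (nat_lit 10466560) (BT.node (nat_lit 10466304) (BT.node (nat_lit 10466176) (BT.node (nat_lit 10466112) (BT.leaf (nat_lit 43371805)) (BT.leaf (nat_lit 32686089))) (BT.node (nat_lit 10466240) (BT.leaf (nat_lit 32686093)) (BT.leaf (nat_lit 29222689)))) (BT.node (nat_lit 10466432) (BT.node (nat_lit 10466368) (BT.leaf (nat_lit 32686105)) (BT.leaf (nat_lit 32686109))) (BT.node (nat_lit 10466496) (BT.leaf (nat_lit 29808917)) (BT.leaf (nat_lit 51618081))))) (BT.node (nat_lit 10466693) (BT.node (nat_lit 10466629) (BT.node (nat_lit 10466624) (BT.leaf (nat_lit 50916385)) (BT.leaf (nat_lit 51618337))) (BT.node (nat_lit 10466688) (BT.leaf (nat_lit 794884)) (BT.leaf (nat_lit 50915617)))) (BT.node (nat_lit 10466816) (BT.node (nat_lit 10466752) (BT.leaf (nat_lit 768040)) (BT.leaf (nat_lit 36291609))) (BT.node (nat_lit 10466880) (BT.leaf (nat_lit 37036813)) (BT.leaf (nat_lit 29807637)))))) (BT.node (nat_lit 10467456) (BT.node (nat_lit 10467200) (BT.node (nat_lit 10467072) (BT.node (nat_lit 10467008) (BT.leaf (nat_lit 47136545)) (BT.leaf (nat_lit 37036041))) (BT.node (nat_lit 10467136) (BT.leaf (nat_lit 29806877)) (BT.leaf (nat_lit 29805841)))) (BT.node (nat_lit 10467328) (BT.node (nat_lit 10467264) (BT.leaf (nat_lit 29807633)) (BT.leaf (nat_lit 29807377))) (BT.node (nat_lit 10467392) (BT.leaf (nat_lit 39814421)) (BT.leaf (nat_lit 40841753))))) (BT.node (nat_lit 10467712) (BT.node (nat_lit 10467584) (BT.node (nat_lit 10467520) (BT.leaf (nat_lit 42145285)) (BT.leaf (nat_lit 29807121))) (BT.node (nat_lit 10467648) (BT.leaf (nat_lit 29807125)) (BT.leaf (nat_lit 27658009)))) (BT.node (nat_lit 10467840) (BT.node (nat_lit 10467776) (BT.leaf (nat_lit 30497293)) (BT.leaf (nat_lit 44751137))) (BT.node (nat_lit 10467904) (BT.leaf (nat_lit 30497305)) (BT.leaf (nat_lit 49135121))))))))))) (BT.node (nat_lit 10483072) (BT.node (nat_lit 10475328) (BT.node (nat_lit 10471296) (BT.node (nat_lit 10469568) (BT.node (nat_lit 10468870) (BT.node (nat_lit 10468480) (BT.node (nat_lit 10468224) (BT.node (nat_lit 10468096) (BT.node (nat_lit 10468032) (BT.leaf (nat_lit 30497313)) (BT.leaf (nat_lit 29762329))) (BT.node (nat_lit 10468160) (BT.leaf (nat_lit 29809177)) (BT.leaf (nat_lit 38103045)))) (BT.node (nat_lit 10468352) (BT.node (nat_lit 10468288) (BT.leaf (nat_lit 50873117)) (BT.leaf (nat_lit 29090333))) (BT.node (nat_lit 10468416) (BT.leaf (nat_lit 33911837)) (BT.leaf (nat_lit 29809181))))) (BT.node (nat_lit 10468672) (BT.node (nat_lit 10468548) (BT.node (nat_lit 10468544) (BT.leaf (nat_lit 44244489)) (BT.leaf (nat_lit 29090329))) (BT.node (nat_lit 10468608) (BT.leaf (nat_lit 738200)) (BT.leaf (nat_lit 29971737)))) (BT.node (nat_lit 10468800) (BT.node (nat_lit 10468736) (BT.leaf (nat_lit 29809953)) (BT.leaf (nat_lit 40214293))) (BT.node (nat_lit 10468864) (BT.leaf (nat_lit 29810721)) (BT.leaf (nat_lit 48392469)))))) (BT.node (nat_lit 10469124) (BT.node (nat_lit 10468929) (BT.node (nat_lit 10468872) (BT.node (nat_lit 10468871) (BT.leaf (nat_lit 710144)) (BT.leaf (nat_lit 710144))) (BT.node (nat_lit 10468928) (BT.leaf (nat_lit 710144)) (BT.leaf (nat_lit 48279573)))) (BT.node (nat_lit 10469056) (BT.node (nat_lit 10468992) (BT.leaf (nat_lit 670680)) (BT.leaf (nat_lit 49180433))) (BT.node (nat_lit 10469120) (BT.leaf (nat_lit 45016857)) (BT.leaf (nat_lit 30275349))))) (BT.node (nat_lit 10469312) (BT.node (nat_lit 10469190) (BT.node (nat_lit 10469184) (BT.leaf (nat_lit 664156)) (BT.leaf (nat_lit 31853329))) (BT.node (nat_lit 10469248) (BT.leaf (nat_lit 709524)) (BT.leaf (nat_lit 44718093)))) (BT.node (nat_lit 10469440) (BT.node (nat_lit 10469376) (BT.leaf (nat_lit 33914389)) (BT.leaf (nat_lit 37824281))) (BT.node (nat_lit 10469504) (BT.leaf (nat_lit 31885853)) (BT.leaf (nat_lit 31632401))))))) (BT.node (nat_lit 10470464) (BT.node (nat_lit 10469952) (BT.node (nat_lit 10469700) (BT.node (nat_lit 10469632) (BT.node (nat_lit 10469574) (BT.leaf (nat_lit 38588425)) (BT.leaf (nat_lit 658052))) (BT.node (nat_lit 10469696) (BT.leaf (nat_lit 30289441)) (BT.leaf (nat_lit 40458773)))) (BT.node (nat_lit 10469824) (BT.node (nat_lit 10469760) (BT.leaf (nat_lit 806100)) (BT.leaf (nat_lit 30870033))) (BT.node (nat_lit 10469888) (BT.leaf (nat_lit 46245901)) (BT.leaf (nat_lit 30172701))))) (BT.node (nat_lit 10470208) (BT.node (nat_lit 10470080) (BT.node (nat_lit 10470016) (BT.leaf (nat_lit 51790857)) (BT.leaf (nat_lit 34052625))) (BT.node (nat_lit 10470144) (BT.leaf (nat_lit 37757217)) (BT.leaf (nat_lit 32766473)))) (BT.node (nat_lit 10470336) (BT.node (nat_lit 10470272) (BT.leaf (nat_lit 32766477)) (BT.leaf (nat_lit 35831061))) (BT.node (nat_lit 10470400) (BT.leaf (nat_lit 29811745)) (BT.leaf (nat_lit 40715541)))))) (BT.node (nat_lit 10470848) (BT.node (nat_lit 10470597) (BT.node (nat_lit 10470528) (BT.node (nat_lit 10470466) (BT.leaf (nat_lit 45241105)) (BT.leaf (nat_lit 755148))) (BT.node (nat_lit 10470592) (BT.leaf (nat_lit 30869537)) (BT.leaf (nat_lit 31587857)))) (BT.node (nat_lit 10470720) (BT.node (nat_lit 10470656) (BT.leaf (nat_lit 732056)) (BT.leaf (nat_lit 46835221))) (BT.node (nat_lit 10470784) (BT.leaf (nat_lit 47782421)) (BT.leaf (nat_lit 48629265))))) (BT.node (nat_lit 10471104) (BT.node (nat_lit 10470976) (BT.node (nat_lit 10470912) (BT.leaf (nat_lit 37744645)) (BT.leaf (nat_lit 40065057))) (BT.node (nat_lit 10471040) (BT.leaf (nat_lit 38212105)) (BT.leaf (nat_lit 38212361)))) (BT.node (nat_lit 10471232) (BT.node (nat_lit 10471168) (BT.leaf (nat_lit 41617417)) (BT.leaf (nat_lit 48095761))) (BT.node (nat_lit 10471236) (BT.leaf (nat_lit 30151173)) (BT.leaf (nat_lit 661816)))))))) (BT.node (nat_lit 10473280) (BT.node (nat_lit 10472320) (BT.node (nat_lit 10471744) (BT.node (nat_lit 10471488) (BT.node (nat_lit 10471360) (BT.node (nat_lit 10471303) (BT.leaf (nat_lit 41042209)) (BT.leaf (nat_lit 702264))) (BT.node (nat_lit 10471424) (BT.leaf (nat_lit 42156577)) (BT.leaf (nat_lit 50458897)))) (BT.node (nat_lit 10471616) (BT.node (nat_lit 10471552) (BT.leaf (nat_lit 29819933)) (BT.leaf (nat_lit 29813773))) (BT.node (nat_lit 10471680) (BT.leaf (nat_lit 45095457)) (BT.leaf (nat_lit 31156753))))) (BT.node (nat_lit 10472000) (BT.node (nat_lit 10471872) (BT.node (nat_lit 10471808) (BT.leaf (nat_lit 29813785)) (BT.leaf (nat_lit 27578897))) (BT.node (nat_lit 10471936) (BT.leaf (nat_lit 38659845)) (BT.leaf (nat_lit 32876817)))) (BT.node (nat_lit 10472128) (BT.node (nat_lit 10472064) (BT.leaf (nat_lit 47953925)) (BT.leaf (nat_lit 41780229))) (BT.node (nat_lit 10472256) (BT.leaf (nat_lit 29814545)) (BT.leaf (nat_lit 42265613)))))) (BT.node (nat_lit 10472768) (BT.node (nat_lit 10472518) (BT.node (nat_lit 10472448) (BT.node (nat_lit 10472384) (BT.leaf (nat_lit 32852753)) (BT.leaf (nat_lit 40082209))) (BT.node (nat_lit 10472512) (BT.leaf (nat_lit 31788565)) (BT.leaf (nat_lit 50418713)))) (BT.node (nat_lit 10472640) (BT.node (nat_lit 10472576) (BT.leaf (nat_lit 786780)) (BT.leaf (nat_lit 38998305))) (BT.node (nat_lit 10472704) (BT.leaf (nat_lit 38118149)) (BT.leaf (nat_lit 32316193))))) (BT.node (nat_lit 10473024) (BT.node (nat_lit 10472896) (BT.node (nat_lit 10472832) (BT.leaf (nat_lit 38209549)) (BT.leaf (nat_lit 32746001))) (BT.node (nat_lit 10472960) (BT.leaf (nat_lit 47688989)) (BT.leaf (nat_lit 48887061)))) (BT.node (nat_lit 10473152) (BT.node (nat_lit 10473088) (BT.leaf (nat_lit 47265041)) (BT.leaf (nat_lit 50530309))) (BT.node (nat_lit 10473216) (BT.leaf (nat_lit 40193041)) (BT.leaf (nat_lit 32452357))))))) (BT.node (nat_lit 10474304) (BT.node (nat_lit 10473792) (BT.node (nat_lit 10473536) (BT.node (nat_lit 10473408) (BT.node (nat_lit 10473344) (BT.leaf (nat_lit 47887377)) (BT.leaf (nat_lit 48117013))) (BT.node (nat_lit 10473472) (BT.leaf (nat_lit 48118537)) (BT.leaf (nat_lit 40065029)))) (BT.node (nat_lit 10473664) (BT.node (nat_lit 10473600) (BT.leaf (nat_lit 41718789)) (BT.leaf (nat_lit 40065541))) (BT.node (nat_lit 10473728) (BT.leaf (nat_lit 38902545)) (BT.leaf (nat_lit 38902549))))) (BT.node (nat_lit 10474048) (BT.node (nat_lit 10473920) (BT.node (nat_lit 10473856) (BT.leaf (nat_lit 29816345)) (BT.leaf (nat_lit 39114249))) (BT.node (nat_lit 10473984) (BT.leaf (nat_lit 39114253)) (BT.leaf (nat_lit 39114265)))) (BT.node (nat_lit 10474176) (BT.node (nat_lit 10474112) (BT.leaf (nat_lit 39114269)) (BT.leaf (nat_lit 40734229))) (BT.node (nat_lit 10474240) (BT.leaf (nat_lit 30852869)) (BT.leaf (nat_lit 30852881)))))) (BT.node (nat_lit 10474816) (BT.node (nat_lit 10474560) (BT.node (nat_lit 10474432) (BT.node (nat_lit 10474368) (BT.leaf (nat_lit 30852885)) (BT.leaf (nat_lit 41614089))) (BT.node (nat_lit 10474496) (BT.leaf (nat_lit 38048029)) (BT.leaf (nat_lit 29816849)))) (BT.node (nat_lit 10474688) (BT.node (nat_lit 10474624) (BT.leaf (nat_lit 42435341)) (BT.leaf (nat_lit 41611785))) (BT.node (nat_lit 10474752) (BT.leaf (nat_lit 31802641)) (BT.leaf (nat_lit 37876241))))) (BT.node (nat_lit 10475072) (BT.node (nat_lit 10474944) (BT.node (nat_lit 10474880) (BT.leaf (nat_lit 38209293)) (BT.leaf (nat_lit 29894417))) (BT.node (nat_lit 10475008) (BT.leaf (nat_lit 38239257)) (BT.leaf (nat_lit 32747805)))) (BT.node (nat_lit 10475200) (BT.node (nat_lit 10475136) (BT.leaf (nat_lit 38239241)) (BT.leaf (nat_lit 45006097))) (BT.node (nat_lit 10475264) (BT.leaf (nat_lit 42523921)) (BT.leaf (nat_lit 29121301))))))))) (BT.node (nat_lit 10479296) (BT.node (nat_lit 10477377) (BT.node (nat_lit 10476416) (BT.node (nat_lit 10475904) (BT.node (nat_lit 10475648) (BT.node (nat_lit 10475456) (BT.node (nat_lit 10475392) (BT.leaf (nat_lit 42531361)) (BT.leaf (nat_lit 45332249))) (BT.node (nat_lit 10475520) (BT.leaf (nat_lit 40368921)) (BT.leaf (nat_lit 46216969)))) (BT.node (nat_lit 10475776) (BT.node (nat_lit 10475712) (BT.leaf (nat_lit 45332253)) (BT.leaf (nat_lit 44730641))) (BT.node (nat_lit 10475840) (BT.leaf (nat_lit 29820945)) (BT.leaf (nat_lit 27382049))))) (BT.node (nat_lit 10476160) (BT.node (nat_lit 10476032) (BT.node (nat_lit 10475968) (BT.leaf (nat_lit 32146969)) (BT.leaf (nat_lit 32146973))) (BT.node (nat_lit 10476096) (BT.leaf (nat_lit 29820689)) (BT.leaf (nat_lit 41904653)))) (BT.node (nat_lit 10476288) (BT.node (nat_lit 10476224) (BT.leaf (nat_lit 38268693)) (BT.leaf (nat_lit 41905181))) (BT.node (nat_lit 10476352) (BT.leaf (nat_lit 46498325)) (BT.leaf (nat_lit 38988057)))))) (BT.node (nat_lit 10476928) (BT.node (nat_lit 10476672) (BT.node (nat_lit 10476544) (BT.node (nat_lit 10476480) (BT.leaf (nat_lit 27609113)) (BT.leaf (nat_lit 27622169))) (BT.node (nat_lit 10476608) (BT.leaf (nat_lit 30725665)) (BT.leaf (nat_lit 38252565)))) (BT.node (nat_lit 10476800) (BT.node (nat_lit 10476736) (BT.leaf (nat_lit 41464585)) (BT.leaf (nat_lit 27609877))) (BT.node (nat_lit 10476864) (BT.leaf (nat_lit 45712409)) (BT.leaf (nat_lit 38990105))))) (BT.node (nat_lit 10477184) (BT.node (nat_lit 10477056) (BT.node (nat_lit 10476992) (BT.leaf (nat_lit 32580625)) (BT.leaf (nat_lit 32580629))) (BT.node (nat_lit 10477120) (BT.leaf (nat_lit 29821981)) (BT.leaf (nat_lit 29822229)))) (BT.node (nat_lit 10477312) (BT.node (nat_lit 10477248) (BT.leaf (nat_lit 43655201)) (BT.leaf (nat_lit 49740805))) (BT.node (nat_lit 10477376) (BT.leaf (nat_lit 48735001)) (BT.leaf (nat_lit 50379285))))))) (BT.node (nat_lit 10478272) (BT.node (nat_lit 10477760) (BT.node (nat_lit 10477504) (BT.node (nat_lit 10477440) (BT.node (nat_lit 10477384) (BT.leaf (nat_lit 675040)) (BT.leaf (nat_lit 675040))) (BT.node (nat_lit 10477441) (BT.leaf (nat_lit 48943905)) (BT.leaf (nat_lit 675044)))) (BT.node (nat_lit 10477632) (BT.node (nat_lit 10477568) (BT.leaf (nat_lit 29822493)) (BT.leaf (nat_lit 31485213))) (BT.node (nat_lit 10477696) (BT.leaf (nat_lit 29822489)) (BT.leaf (nat_lit 32138261))))) (BT.node (nat_lit 10478080) (BT.node (nat_lit 10477888) (BT.node (nat_lit 10477824) (BT.leaf (nat_lit 42200857)) (BT.leaf (nat_lit 29824029))) (BT.node (nat_lit 10478016) (BT.leaf (nat_lit 41804061)) (BT.leaf (nat_lit 29824025)))) (BT.node (nat_lit 10478144) (BT.node (nat_lit 10478084) (BT.leaf (nat_lit 37875721)) (BT.leaf (nat_lit 689484))) (BT.node (nat_lit 10478208) (BT.leaf (nat_lit 38225949)) (BT.leaf (nat_lit 44419333)))))) (BT.node (nat_lit 10478784) (BT.node (nat_lit 10478528) (BT.node (nat_lit 10478400) (BT.node (nat_lit 10478336) (BT.leaf (nat_lit 41912857)) (BT.leaf (nat_lit 38225677))) (BT.node (nat_lit 10478464) (BT.leaf (nat_lit 44420101)) (BT.leaf (nat_lit 45797133)))) (BT.node (nat_lit 10478656) (BT.node (nat_lit 10478592) (BT.leaf (nat_lit 46485789)) (BT.leaf (nat_lit 49057053))) (BT.node (nat_lit 10478720) (BT.leaf (nat_lit 28057617)) (BT.leaf (nat_lit 29824797))))) (BT.node (nat_lit 10479040) (BT.node (nat_lit 10478912) (BT.node (nat_lit 10478848) (BT.leaf (nat_lit 38101265)) (BT.leaf (nat_lit 34125845))) (BT.node (nat_lit 10478976) (BT.leaf (nat_lit 31494929)) (BT.leaf (nat_lit 32016145)))) (BT.node (nat_lit 10479168) (BT.node (nat_lit 10479104) (BT.leaf (nat_lit 41890065)) (BT.leaf (nat_lit 30513937))) (BT.node (nat_lit 10479232) (BT.leaf (nat_lit 31730453)) (BT.leaf (nat_lit 31730457)))))))) (BT.node (nat_lit 10481280) (BT.node (nat_lit 10480256) (BT.node (nat_lit 10479744) (BT.node (nat_lit 10479488) (BT.node (nat_lit 10479424) (BT.node (nat_lit 10479360) (BT.leaf (nat_lit 31730461)) (BT.leaf (nat_lit 42205457))) (BT.node (nat_lit 10479429) (BT.leaf (nat_lit 50840845)) (BT.leaf (nat_lit 764024)))) (BT.node (nat_lit 10479616) (BT.node (nat_lit 10479552) (BT.leaf (nat_lit 32271377)) (BT.leaf (nat_lit 29842453))) (BT.node (nat_lit 10479680) (BT.leaf (nat_lit 47837473)) (BT.leaf (nat_lit 47035169))))) (BT.node (nat_lit 10480000) (BT.node (nat_lit 10479872) (BT.node (nat_lit 10479808) (BT.leaf (nat_lit 37732121)) (BT.leaf (nat_lit 37732125))) (BT.node (nat_lit 10479936) (BT.leaf (nat_lit 38200853)) (BT.leaf (nat_lit 38200857)))) (BT.node (nat_lit 10480128) (BT.node (nat_lit 10480064) (BT.leaf (nat_lit 38200861)) (BT.leaf (nat_lit 32968737))) (BT.node (nat_lit 10480192) (BT.leaf (nat_lit 34057749)) (BT.leaf (nat_lit 30193169)))))) (BT.node (nat_lit 10480832) (BT.node (nat_lit 10480576) (BT.node (nat_lit 10480384) (BT.node (nat_lit 10480320) (BT.leaf (nat_lit 48672013)) (BT.leaf (nat_lit 35030557))) (BT.node (nat_lit 10480512) (BT.leaf (nat_lit 45353477)) (BT.leaf (nat_lit 29913889)))) (BT.node (nat_lit 10480768) (BT.node (nat_lit 10480640) (BT.leaf (nat_lit 45629981)) (BT.leaf (nat_lit 32524565))) (BT.node (nat_lit 10480772) (BT.leaf (nat_lit 45629965)) (BT.leaf (nat_lit 707428))))) (BT.node (nat_lit 10481088) (BT.node (nat_lit 10480960) (BT.node (nat_lit 10480896) (BT.leaf (nat_lit 39505685)) (BT.leaf (nat_lit 32845853))) (BT.node (nat_lit 10481024) (BT.leaf (nat_lit 29845537)) (BT.leaf (nat_lit 47045665)))) (BT.node (nat_lit 10481152) (BT.node (nat_lit 10481093) (BT.leaf (nat_lit 29042977)) (BT.leaf (nat_lit 737868))) (BT.node (nat_lit 10481216) (BT.leaf (nat_lit 33924625)) (BT.leaf (nat_lit 41925149))))))) (BT.node (nat_lit 10482112) (BT.node (nat_lit 10481668) (BT.node (nat_lit 10481536) (BT.node (nat_lit 10481408) (BT.node (nat_lit 10481344) (BT.leaf (nat_lit 41793797)) (BT.leaf (nat_lit 39728665))) (BT.node (nat_lit 10481472) (BT.leaf (nat_lit 39728669)) (BT.leaf (nat_lit 30185237)))) (BT.node (nat_lit 10481600) (BT.node (nat_lit 10481537) (BT.leaf (nat_lit 32332577)) (BT.leaf (nat_lit 748412))) (BT.node (nat_lit 10481664) (BT.leaf (nat_lit 39955717)) (BT.leaf (nat_lit 42447877))))) (BT.node (nat_lit 10481920) (BT.node (nat_lit 10481792) (BT.node (nat_lit 10481728) (BT.leaf (nat_lit 701972)) (BT.leaf (nat_lit 47344149))) (BT.node (nat_lit 10481856) (BT.leaf (nat_lit 32815625)) (BT.leaf (nat_lit 41809953)))) (BT.node (nat_lit 10482048) (BT.node (nat_lit 10481984) (BT.leaf (nat_lit 42890005)) (BT.leaf (nat_lit 47755297))) (BT.node (nat_lit 10482052) (BT.leaf (nat_lit 32819477)) (BT.leaf (nat_lit 718980)))))) (BT.node (nat_lit 10482560) (BT.node (nat_lit 10482304) (BT.node (nat_lit 10482176) (BT.node (nat_lit 10482117) (BT.leaf (nat_lit 30683145)) (BT.leaf (nat_lit 766972))) (BT.node (nat_lit 10482240) (BT.leaf (nat_lit 29846033)) (BT.leaf (nat_lit 30772505)))) (BT.node (nat_lit 10482432) (BT.node (nat_lit 10482368) (BT.leaf (nat_lit 30772509)) (BT.leaf (nat_lit 41528093))) (BT.node (nat_lit 10482496) (BT.leaf (nat_lit 41792517)) (BT.leaf (nat_lit 39588869))))) (BT.node (nat_lit 10482816) (BT.node (nat_lit 10482688) (BT.node (nat_lit 10482624) (BT.leaf (nat_lit 41792773)) (BT.leaf (nat_lit 41982981))) (BT.node (nat_lit 10482752) (BT.leaf (nat_lit 32338181)) (BT.leaf (nat_lit 29842961)))) (BT.node (nat_lit 10482944) (BT.node (nat_lit 10482880) (BT.leaf (nat_lit 30703121)) (BT.leaf (nat_lit 29843721))) (BT.node (nat_lit 10483008) (BT.leaf (nat_lit 44719385)) (BT.leaf (nat_lit 49351701)))))))))) (BT.node (nat_lit 10490944) (BT.node (nat_lit 10487104) (BT.node (nat_lit 10484928) (BT.node (nat_lit 10484103) (BT.node (nat_lit 10483648) (BT.node (nat_lit 10483392) (BT.node (nat_lit 10483200) (BT.node (nat_lit 10483136) (BT.leaf (nat_lit 49351705)) (BT.leaf (nat_lit 29913865))) (BT.node (nat_lit 10483328) (BT.leaf (nat_lit 48182301)) (BT.leaf (nat_lit 38548753)))) (BT.node (nat_lit 10483520) (BT.node (nat_lit 10483456) (BT.leaf (nat_lit 32860681)) (BT.leaf (nat_lit 32860685))) (BT.node (nat_lit 10483584) (BT.leaf (nat_lit 49684509)) (BT.leaf (nat_lit 32860701))))) (BT.node (nat_lit 10483904) (BT.node (nat_lit 10483776) (BT.node (nat_lit 10483712) (BT.leaf (nat_lit 49685013)) (BT.leaf (nat_lit 29913861))) (BT.node (nat_lit 10483840) (BT.leaf (nat_lit 29913873)) (BT.leaf (nat_lit 45745941)))) (BT.node (nat_lit 10484032) (BT.node (nat_lit 10483968) (BT.leaf (nat_lit 45630753)) (BT.leaf (nat_lit 29777185))) (BT.node (nat_lit 10484096) (BT.leaf (nat_lit 41637397)) (BT.leaf (nat_lit 41936137)))))) (BT.node (nat_lit 10484416) (BT.node (nat_lit 10484228) (BT.node (nat_lit 10484224) (BT.node (nat_lit 10484160) (BT.leaf (nat_lit 687184)) (BT.leaf (nat_lit 38595861))) (BT.node (nat_lit 10484226) (BT.leaf (nat_lit 41937181)) (BT.leaf (nat_lit 687144)))) (BT.node (nat_lit 10484288) (BT.node (nat_lit 10484232) (BT.leaf (nat_lit 687144)) (BT.leaf (nat_lit 687144))) (BT.node (nat_lit 10484352) (BT.leaf (nat_lit 41923333)) (BT.leaf (nat_lit 48001813))))) (BT.node (nat_lit 10484672) (BT.node (nat_lit 10484544) (BT.node (nat_lit 10484480) (BT.leaf (nat_lit 47558173)) (BT.leaf (nat_lit 40939041))) (BT.node (nat_lit 10484608) (BT.leaf (nat_lit 38595865)) (BT.leaf (nat_lit 38595869)))) (BT.node (nat_lit 10484800) (BT.node (nat_lit 10484736) (BT.leaf (nat_lit 45552397)) (BT.leaf (nat_lit 27636749))) (BT.node (nat_lit 10484864) (BT.leaf (nat_lit 45552393)) (BT.leaf (nat_lit 46139397))))))) (BT.node (nat_lit 10485952) (BT.node (nat_lit 10485440) (BT.node (nat_lit 10485184) (BT.node (nat_lit 10485056) (BT.node (nat_lit 10484992) (BT.leaf (nat_lit 45369349)) (BT.leaf (nat_lit 29845525))) (BT.node (nat_lit 10485120) (BT.leaf (nat_lit 45552409)) (BT.leaf (nat_lit 45552413)))) (BT.node (nat_lit 10485312) (BT.node (nat_lit 10485248) (BT.leaf (nat_lit 39588641)) (BT.leaf (nat_lit 49309957))) (BT.node (nat_lit 10485376) (BT.leaf (nat_lit 37713697)) (BT.leaf (nat_lit 41764625))))) (BT.node (nat_lit 10485696) (BT.node (nat_lit 10485568) (BT.node (nat_lit 10485504) (BT.leaf (nat_lit 38318857)) (BT.leaf (nat_lit 41941277))) (BT.node (nat_lit 10485632) (BT.leaf (nat_lit 39557149)) (BT.leaf (nat_lit 38318877)))) (BT.node (nat_lit 10485824) (BT.node (nat_lit 10485760) (BT.leaf (nat_lit 49786385)) (BT.leaf (nat_lit 31237913))) (BT.node (nat_lit 10485888) (BT.leaf (nat_lit 30849045)) (BT.leaf (nat_lit 37728021)))))) (BT.node (nat_lit 10486464) (BT.node (nat_lit 10486208) (BT.node (nat_lit 10486080) (BT.node (nat_lit 10486016) (BT.leaf (nat_lit 27636765)) (BT.leaf (nat_lit 32548113))) (BT.node (nat_lit 10486144) (BT.leaf (nat_lit 27636745)) (BT.leaf (nat_lit 32548129)))) (BT.node (nat_lit 10486336) (BT.node (nat_lit 10486272) (BT.leaf (nat_lit 41713945)) (BT.leaf (nat_lit 29845273))) (BT.node (nat_lit 10486400) (BT.leaf (nat_lit 27636505)) (BT.leaf (nat_lit 40531989))))) (BT.node (nat_lit 10486784) (BT.node (nat_lit 10486656) (BT.node (nat_lit 10486592) (BT.leaf (nat_lit 29847825)) (BT.leaf (nat_lit 45623833))) (BT.node (nat_lit 10486720) (BT.leaf (nat_lit 46773765)) (BT.leaf (nat_lit 41793817)))) (BT.node (nat_lit 10486976) (BT.node (nat_lit 10486848) (BT.leaf (nat_lit 41793821)) (BT.leaf (nat_lit 44971297))) (BT.node (nat_lit 10487040) (BT.leaf (nat_lit 29849361)) (BT.leaf (nat_lit 29848593)))))))) (BT.node (nat_lit 10488896) (BT.node (nat_lit 10487872) (BT.node (nat_lit 10487552) (BT.node (nat_lit 10487360) (BT.node (nat_lit 10487232) (BT.node (nat_lit 10487168) (BT.leaf (nat_lit 33926929)) (BT.leaf (nat_lit 39112969))) (BT.node (nat_lit 10487296) (BT.leaf (nat_lit 29849605)) (BT.leaf (nat_lit 38322701)))) (BT.node (nat_lit 10487424) (BT.node (nat_lit 10487367) (BT.leaf (nat_lit 32173597)) (BT.leaf (nat_lit 671364))) (BT.node (nat_lit 10487488) (BT.leaf (nat_lit 33192217)) (BT.leaf (nat_lit 40300297))))) (BT.node (nat_lit 10487683) (BT.node (nat_lit 10487680) (BT.node (nat_lit 10487616) (BT.leaf (nat_lit 42341657)) (BT.leaf (nat_lit 42900769))) (BT.node (nat_lit 10487682) (BT.leaf (nat_lit 31931141)) (BT.leaf (nat_lit 667300)))) (BT.node (nat_lit 10487744) (BT.node (nat_lit 10487684) (BT.leaf (nat_lit 667300)) (BT.leaf (nat_lit 672344))) (BT.node (nat_lit 10487808) (BT.leaf (nat_lit 29852449)) (BT.leaf (nat_lit 40835349)))))) (BT.node (nat_lit 10488384) (BT.node (nat_lit 10488128) (BT.node (nat_lit 10488000) (BT.node (nat_lit 10487936) (BT.leaf (nat_lit 38047005)) (BT.leaf (nat_lit 40509193))) (BT.node (nat_lit 10488064) (BT.leaf (nat_lit 40509197)) (BT.leaf (nat_lit 40834833)))) (BT.node (nat_lit 10488256) (BT.node (nat_lit 10488192) (BT.leaf (nat_lit 40509209)) (BT.leaf (nat_lit 40509213))) (BT.node (nat_lit 10488320) (BT.leaf (nat_lit 29850649)) (BT.leaf (nat_lit 41628165))))) (BT.node (nat_lit 10488640) (BT.node (nat_lit 10488512) (BT.node (nat_lit 10488448) (BT.leaf (nat_lit 44489249)) (BT.leaf (nat_lit 40539925))) (BT.node (nat_lit 10488576) (BT.leaf (nat_lit 31698201)) (BT.leaf (nat_lit 47153413)))) (BT.node (nat_lit 10488768) (BT.node (nat_lit 10488704) (BT.leaf (nat_lit 47576341)) (BT.leaf (nat_lit 48015129))) (BT.node (nat_lit 10488832) (BT.leaf (nat_lit 47248413)) (BT.leaf (nat_lit 32385045))))))) (BT.node (nat_lit 10489792) (BT.node (nat_lit 10489408) (BT.node (nat_lit 10489152) (BT.node (nat_lit 10489024) (BT.node (nat_lit 10488960) (BT.leaf (nat_lit 46089225)) (BT.leaf (nat_lit 50136601))) (BT.node (nat_lit 10489088) (BT.leaf (nat_lit 45284885)) (BT.leaf (nat_lit 40244741)))) (BT.node (nat_lit 10489280) (BT.node (nat_lit 10489216) (BT.leaf (nat_lit 31091717)) (BT.leaf (nat_lit 31091729))) (BT.node (nat_lit 10489344) (BT.leaf (nat_lit 31091733)) (BT.leaf (nat_lit 34018593))))) (BT.node (nat_lit 10489600) (BT.node (nat_lit 10489472) (BT.node (nat_lit 10489410) (BT.leaf (nat_lit 38515481)) (BT.leaf (nat_lit 699584))) (BT.node (nat_lit 10489536) (BT.leaf (nat_lit 49654553)) (BT.leaf (nat_lit 32806421)))) (BT.node (nat_lit 10489664) (BT.node (nat_lit 10489605) (BT.leaf (nat_lit 32806921)) (BT.leaf (nat_lit 699648))) (BT.node (nat_lit 10489728) (BT.leaf (nat_lit 32806429)) (BT.leaf (nat_lit 43903749)))))) (BT.node (nat_lit 10490244) (BT.node (nat_lit 10489984) (BT.node (nat_lit 10489920) (BT.node (nat_lit 10489856) (BT.leaf (nat_lit 41961989)) (BT.leaf (nat_lit 31695125))) (BT.node (nat_lit 10489925) (BT.leaf (nat_lit 44349193)) (BT.leaf (nat_lit 763540)))) (BT.node (nat_lit 10490112) (BT.node (nat_lit 10490048) (BT.leaf (nat_lit 31695369)) (BT.leaf (nat_lit 31695373))) (BT.node (nat_lit 10490176) (BT.leaf (nat_lit 31695377)) (BT.leaf (nat_lit 33033745))))) (BT.node (nat_lit 10490560) (BT.node (nat_lit 10490432) (BT.node (nat_lit 10490368) (BT.leaf (nat_lit 723652)) (BT.leaf (nat_lit 44775189))) (BT.node (nat_lit 10490496) (BT.leaf (nat_lit 39014177)) (BT.leaf (nat_lit 48383765)))) (BT.node (nat_lit 10490688) (BT.node (nat_lit 10490624) (BT.leaf (nat_lit 48036117)) (BT.leaf (nat_lit 42408225))) (BT.node (nat_lit 10490752) (BT.leaf (nat_lit 32342037)) (BT.leaf (nat_lit 44157725))))))))) (BT.node (nat_lit 10494848) (BT.node (nat_lit 10492928) (BT.node (nat_lit 10491968) (BT.node (nat_lit 10491456) (BT.node (nat_lit 10491200) (BT.node (nat_lit 10491072) (BT.node (nat_lit 10491008) (BT.leaf (nat_lit 48385057)) (BT.leaf (nat_lit 37957153))) (BT.node (nat_lit 10491136) (BT.leaf (nat_lit 32265249)) (BT.leaf (nat_lit 28223505)))) (BT.node (nat_lit 10491328) (BT.node (nat_lit 10491264) (BT.leaf (nat_lit 50195725)) (BT.leaf (nat_lit 48599565))) (BT.node (nat_lit 10491392) (BT.leaf (nat_lit 35449365)) (BT.leaf (nat_lit 37983265))))) (BT.node (nat_lit 10491712) (BT.node (nat_lit 10491584) (BT.node (nat_lit 10491520) (BT.leaf (nat_lit 39278341)) (BT.leaf (nat_lit 32268833))) (BT.node (nat_lit 10491648) (BT.leaf (nat_lit 32550945)) (BT.leaf (nat_lit 43980293)))) (BT.node (nat_lit 10491840) (BT.node (nat_lit 10491776) (BT.leaf (nat_lit 28383521)) (BT.leaf (nat_lit 38891809))) (BT.node (nat_lit 10491904) (BT.leaf (nat_lit 31388449)) (BT.leaf (nat_lit 32772629)))))) (BT.node (nat_lit 10492480) (BT.node (nat_lit 10492224) (BT.node (nat_lit 10492096) (BT.node (nat_lit 10492032) (BT.leaf (nat_lit 32772637)) (BT.leaf (nat_lit 49321505))) (BT.node (nat_lit 10492160) (BT.leaf (nat_lit 31865625)) (BT.leaf (nat_lit 45332233)))) (BT.node (nat_lit 10492352) (BT.node (nat_lit 10492288) (BT.leaf (nat_lit 44005153)) (BT.leaf (nat_lit 43980037))) (BT.node (nat_lit 10492416) (BT.leaf (nat_lit 43404057)) (BT.leaf (nat_lit 43404061))))) (BT.node (nat_lit 10492736) (BT.node (nat_lit 10492608) (BT.node (nat_lit 10492544) (BT.leaf (nat_lit 38892053)) (BT.leaf (nat_lit 38892057))) (BT.node (nat_lit 10492672) (BT.leaf (nat_lit 38892061)) (BT.leaf (nat_lit 42093089)))) (BT.node (nat_lit 10492864) (BT.node (nat_lit 10492800) (BT.leaf (nat_lit 30793737)) (BT.leaf (nat_lit 30793741))) (BT.node (nat_lit 10492872) (BT.leaf (nat_lit 43279625)) (BT.leaf (nat_lit 676380))))))) (BT.node (nat_lit 10493824) (BT.node (nat_lit 10493312) (BT.node (nat_lit 10493122) (BT.node (nat_lit 10493056) (BT.node (nat_lit 10492992) (BT.leaf (nat_lit 30793753)) (BT.leaf (nat_lit 30793757))) (BT.node (nat_lit 10493120) (BT.leaf (nat_lit 48813333)) (BT.leaf (nat_lit 50661141)))) (BT.node (nat_lit 10493184) (BT.node (nat_lit 10493123) (BT.leaf (nat_lit 750240)) (BT.leaf (nat_lit 750240))) (BT.node (nat_lit 10493248) (BT.leaf (nat_lit 30378005)) (BT.leaf (nat_lit 45203221))))) (BT.node (nat_lit 10493568) (BT.node (nat_lit 10493440) (BT.node (nat_lit 10493376) (BT.leaf (nat_lit 40744717)) (BT.leaf (nat_lit 42093081))) (BT.node (nat_lit 10493504) (BT.leaf (nat_lit 42093085)) (BT.leaf (nat_lit 43346953)))) (BT.node (nat_lit 10493696) (BT.node (nat_lit 10493632) (BT.leaf (nat_lit 43346957)) (BT.leaf (nat_lit 39464209))) (BT.node (nat_lit 10493760) (BT.leaf (nat_lit 43346969)) (BT.leaf (nat_lit 43346977)))))) (BT.node (nat_lit 10494272) (BT.node (nat_lit 10494080) (BT.node (nat_lit 10493952) (BT.node (nat_lit 10493888) (BT.leaf (nat_lit 32623889)) (BT.leaf (nat_lit 32623893))) (BT.node (nat_lit 10494016) (BT.leaf (nat_lit 39488265)) (BT.leaf (nat_lit 43345933)))) (BT.node (nat_lit 10494149) (BT.node (nat_lit 10494144) (BT.leaf (nat_lit 30199317)) (BT.leaf (nat_lit 45433613))) (BT.node (nat_lit 10494208) (BT.leaf (nat_lit 671348)) (BT.leaf (nat_lit 41976601))))) (BT.node (nat_lit 10494592) (BT.node (nat_lit 10494464) (BT.node (nat_lit 10494400) (BT.leaf (nat_lit 40705557)) (BT.leaf (nat_lit 40673305))) (BT.node (nat_lit 10494528) (BT.leaf (nat_lit 40673309)) (BT.leaf (nat_lit 41978633)))) (BT.node (nat_lit 10494720) (BT.node (nat_lit 10494656) (BT.leaf (nat_lit 39498757)) (BT.leaf (nat_lit 49354773))) (BT.node (nat_lit 10494784) (BT.leaf (nat_lit 44336417)) (BT.leaf (nat_lit 37702921)))))))) (BT.node (nat_lit 10496896) (BT.node (nat_lit 10495872) (BT.node (nat_lit 10495424) (BT.node (nat_lit 10495104) (BT.node (nat_lit 10494976) (BT.node (nat_lit 10494912) (BT.leaf (nat_lit 41339149)) (BT.leaf (nat_lit 43034129))) (BT.node (nat_lit 10495040) (BT.leaf (nat_lit 41979673)) (BT.leaf (nat_lit 40635653)))) (BT.node (nat_lit 10495296) (BT.node (nat_lit 10495168) (BT.leaf (nat_lit 39925537)) (BT.leaf (nat_lit 43033633))) (BT.node (nat_lit 10495360) (BT.leaf (nat_lit 37971737)) (BT.leaf (nat_lit 37971741))))) (BT.node (nat_lit 10495680) (BT.node (nat_lit 10495488) (BT.node (nat_lit 10495425) (BT.leaf (nat_lit 34430225)) (BT.leaf (nat_lit 790644))) (BT.node (nat_lit 10495552) (BT.leaf (nat_lit 39279629)) (BT.leaf (nat_lit 39279633)))) (BT.node (nat_lit 10495683) (BT.node (nat_lit 10495682) (BT.leaf (nat_lit 31518993)) (BT.leaf (nat_lit 691412))) (BT.node (nat_lit 10495744) (BT.leaf (nat_lit 691412)) (BT.leaf (nat_lit 46107677)))))) (BT.node (nat_lit 10496384) (BT.node (nat_lit 10496128) (BT.node (nat_lit 10496000) (BT.node (nat_lit 10495936) (BT.leaf (nat_lit 32678929)) (BT.leaf (nat_lit 45645085))) (BT.node (nat_lit 10496064) (BT.leaf (nat_lit 44981509)) (BT.leaf (nat_lit 43013149)))) (BT.node (nat_lit 10496256) (BT.node (nat_lit 10496192) (BT.leaf (nat_lit 29868565)) (BT.leaf (nat_lit 48866069))) (BT.node (nat_lit 10496320) (BT.leaf (nat_lit 33936405)) (BT.leaf (nat_lit 30841881))))) (BT.node (nat_lit 10496640) (BT.node (nat_lit 10496512) (BT.node (nat_lit 10496448) (BT.leaf (nat_lit 48866325)) (BT.leaf (nat_lit 40331537))) (BT.node (nat_lit 10496576) (BT.leaf (nat_lit 28814613)) (BT.leaf (nat_lit 45355549)))) (BT.node (nat_lit 10496768) (BT.node (nat_lit 10496704) (BT.leaf (nat_lit 32387085)) (BT.leaf (nat_lit 32387089))) (BT.node (nat_lit 10496832) (BT.leaf (nat_lit 32387097)) (BT.leaf (nat_lit 47559965))))))) (BT.node (nat_lit 10497669) (BT.node (nat_lit 10497472) (BT.node (nat_lit 10497152) (BT.node (nat_lit 10497024) (BT.node (nat_lit 10496960) (BT.leaf (nat_lit 40119841)) (BT.leaf (nat_lit 40336161))) (BT.node (nat_lit 10497088) (BT.leaf (nat_lit 41961997)) (BT.leaf (nat_lit 41962009)))) (BT.node (nat_lit 10497344) (BT.node (nat_lit 10497216) (BT.leaf (nat_lit 41962013)) (BT.leaf (nat_lit 41962017))) (BT.node (nat_lit 10497408) (BT.leaf (nat_lit 29873681)) (BT.leaf (nat_lit 46610961))))) (BT.node (nat_lit 10497600) (BT.node (nat_lit 10497538) (BT.node (nat_lit 10497536) (BT.leaf (nat_lit 32171277)) (BT.leaf (nat_lit 30003737))) (BT.node (nat_lit 10497539) (BT.leaf (nat_lit 746784)) (BT.leaf (nat_lit 746784)))) (BT.node (nat_lit 10497667) (BT.node (nat_lit 10497664) (BT.leaf (nat_lit 41990685)) (BT.leaf (nat_lit 44857605))) (BT.node (nat_lit 10497668) (BT.leaf (nat_lit 768812)) (BT.leaf (nat_lit 768812)))))) (BT.node (nat_lit 10497920) (BT.node (nat_lit 10497732) (BT.node (nat_lit 10497728) (BT.node (nat_lit 10497672) (BT.leaf (nat_lit 768812)) (BT.leaf (nat_lit 704040))) (BT.node (nat_lit 10497731) (BT.leaf (nat_lit 39169825)) (BT.leaf (nat_lit 768816)))) (BT.node (nat_lit 10497795) (BT.node (nat_lit 10497792) (BT.leaf (nat_lit 682520)) (BT.leaf (nat_lit 31749913))) (BT.node (nat_lit 10497856) (BT.leaf (nat_lit 764164)) (BT.leaf (nat_lit 40340229))))) (BT.node (nat_lit 10498176) (BT.node (nat_lit 10498048) (BT.node (nat_lit 10497984) (BT.leaf (nat_lit 46103053)) (BT.leaf (nat_lit 40340997))) (BT.node (nat_lit 10498112) (BT.leaf (nat_lit 27423761)) (BT.leaf (nat_lit 30863637)))) (BT.node (nat_lit 10498304) (BT.node (nat_lit 10498240) (BT.leaf (nat_lit 30863641)) (BT.leaf (nat_lit 30863645))) (BT.node (nat_lit 10498368) (BT.leaf (nat_lit 46062093)) (BT.leaf (nat_lit 32447749)))))))))))))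
noncomputable def big0_e92160 : BT Nat := (BT.node (nat_lit 10559687) (BT.node (nat_lit 10529989) (BT.node (nat_lit 10514176) (BT.node (nat_lit 10505856) (BT.node (nat_lit 10501955) (BT.node (nat_lit 10500416) (BT.node (nat_lit 10499456) (BT.node (nat_lit 10498944) (BT.node (nat_lit 10498688) (BT.node (nat_lit 10498560) (BT.node (nat_lit 10498496) (BT.leaf (nat_lit 30209557)) (BT.leaf (nat_lit 30209561))) (BT.node (nat_lit 10498624) (BT.leaf (nat_lit 30209565)) (BT.leaf (nat_lit 41170445)))) (BT.node (nat_lit 10498816) (BT.node (nat_lit 10498752) (BT.leaf (nat_lit 49318677)) (BT.leaf (nat_lit 51833633))) (BT.node (nat_lit 10498880) (BT.leaf (nat_lit 36312581)) (BT.leaf (nat_lit 32402709))))) (BT.node (nat_lit 10499200) (BT.node (nat_lit 10499072) (BT.node (nat_lit 10499008) (BT.leaf (nat_lit 44320517)) (BT.leaf (nat_lit 32402717))) (BT.node (nat_lit 10499136) (BT.leaf (nat_lit 44321029)) (BT.leaf (nat_lit 41996813)))) (BT.node (nat_lit 10499328) (BT.node (nat_lit 10499264) (BT.leaf (nat_lit 37153813)) (BT.leaf (nat_lit 50016265))) (BT.node (nat_lit 10499392) (BT.leaf (nat_lit 33941265)) (BT.leaf (nat_lit 48527649)))))) (BT.node (nat_lit 10499905) (BT.node (nat_lit 10499712) (BT.node (nat_lit 10499584) (BT.node (nat_lit 10499520) (BT.leaf (nat_lit 28507921)) (BT.leaf (nat_lit 44321825))) (BT.node (nat_lit 10499648) (BT.leaf (nat_lit 45636869)) (BT.leaf (nat_lit 38458913)))) (BT.node (nat_lit 10499840) (BT.node (nat_lit 10499776) (BT.leaf (nat_lit 39425057)) (BT.leaf (nat_lit 39025173))) (BT.node (nat_lit 10499904) (BT.leaf (nat_lit 28893457)) (BT.leaf (nat_lit 47312417))))) (BT.node (nat_lit 10500160) (BT.node (nat_lit 10500032) (BT.node (nat_lit 10499968) (BT.leaf (nat_lit 754652)) (BT.leaf (nat_lit 34273045))) (BT.node (nat_lit 10500096) (BT.leaf (nat_lit 52183305)) (BT.leaf (nat_lit 29884945)))) (BT.node (nat_lit 10500288) (BT.node (nat_lit 10500224) (BT.leaf (nat_lit 29886481)) (BT.leaf (nat_lit 44710421))) (BT.node (nat_lit 10500352) (BT.leaf (nat_lit 29886737)) (BT.leaf (nat_lit 29885201))))))) (BT.node (nat_lit 10501125) (BT.node (nat_lit 10500736) (BT.node (nat_lit 10500488) (BT.node (nat_lit 10500480) (BT.node (nat_lit 10500424) (BT.leaf (nat_lit 40391449)) (BT.leaf (nat_lit 758276))) (BT.node (nat_lit 10500481) (BT.leaf (nat_lit 40391453)) (BT.leaf (nat_lit 758268)))) (BT.node (nat_lit 10500608) (BT.node (nat_lit 10500544) (BT.leaf (nat_lit 758268)) (BT.leaf (nat_lit 29887249))) (BT.node (nat_lit 10500672) (BT.leaf (nat_lit 38585625)) (BT.leaf (nat_lit 43134989))))) (BT.node (nat_lit 10500928) (BT.node (nat_lit 10500800) (BT.node (nat_lit 10500737) (BT.leaf (nat_lit 40461081)) (BT.leaf (nat_lit 657944))) (BT.node (nat_lit 10500864) (BT.leaf (nat_lit 40355345)) (BT.leaf (nat_lit 27567641)))) (BT.node (nat_lit 10501056) (BT.node (nat_lit 10500992) (BT.leaf (nat_lit 30494477)) (BT.leaf (nat_lit 39309325))) (BT.node (nat_lit 10501120) (BT.leaf (nat_lit 30093589)) (BT.leaf (nat_lit 45723673)))))) (BT.node (nat_lit 10501568) (BT.node (nat_lit 10501376) (BT.node (nat_lit 10501248) (BT.node (nat_lit 10501184) (BT.leaf (nat_lit 752852)) (BT.leaf (nat_lit 30637597))) (BT.node (nat_lit 10501312) (BT.leaf (nat_lit 41473817)) (BT.leaf (nat_lit 39536401)))) (BT.node (nat_lit 10501441) (BT.node (nat_lit 10501440) (BT.leaf (nat_lit 47848461)) (BT.leaf (nat_lit 47847709))) (BT.node (nat_lit 10501504) (BT.leaf (nat_lit 759848)) (BT.leaf (nat_lit 35002905))))) (BT.node (nat_lit 10501768) (BT.node (nat_lit 10501696) (BT.node (nat_lit 10501632) (BT.leaf (nat_lit 47937805)) (BT.leaf (nat_lit 41295125))) (BT.node (nat_lit 10501760) (BT.leaf (nat_lit 29889565)) (BT.leaf (nat_lit 30856469)))) (BT.node (nat_lit 10501888) (BT.node (nat_lit 10501824) (BT.leaf (nat_lit 666184)) (BT.leaf (nat_lit 29890325))) (BT.node (nat_lit 10501952) (BT.leaf (nat_lit 43071009)) (BT.leaf (nat_lit 31032581)))))))) (BT.node (nat_lit 10504064) (BT.node (nat_lit 10503040) (BT.node (nat_lit 10502464) (BT.node (nat_lit 10502208) (BT.node (nat_lit 10502080) (BT.node (nat_lit 10502016) (BT.leaf (nat_lit 666692)) (BT.leaf (nat_lit 46788365))) (BT.node (nat_lit 10502144) (BT.leaf (nat_lit 42647585)) (BT.leaf (nat_lit 29891601)))) (BT.node (nat_lit 10502336) (BT.node (nat_lit 10502272) (BT.leaf (nat_lit 29892881)) (BT.leaf (nat_lit 39188997))) (BT.node (nat_lit 10502400) (BT.leaf (nat_lit 29892113)) (BT.leaf (nat_lit 33942801))))) (BT.node (nat_lit 10502720) (BT.node (nat_lit 10502592) (BT.node (nat_lit 10502528) (BT.leaf (nat_lit 29891857)) (BT.leaf (nat_lit 44916749))) (BT.node (nat_lit 10502656) (BT.leaf (nat_lit 47280405)) (BT.leaf (nat_lit 47280409)))) (BT.node (nat_lit 10502848) (BT.node (nat_lit 10502784) (BT.leaf (nat_lit 47280413)) (BT.leaf (nat_lit 47009297))) (BT.node (nat_lit 10502976) (BT.leaf (nat_lit 45618977)) (BT.leaf (nat_lit 47975181)))))) (BT.node (nat_lit 10503552) (BT.node (nat_lit 10503296) (BT.node (nat_lit 10503168) (BT.node (nat_lit 10503104) (BT.leaf (nat_lit 47626261)) (BT.leaf (nat_lit 38171141))) (BT.node (nat_lit 10503232) (BT.leaf (nat_lit 32953865)) (BT.leaf (nat_lit 49197317)))) (BT.node (nat_lit 10503424) (BT.node (nat_lit 10503360) (BT.leaf (nat_lit 38202129)) (BT.leaf (nat_lit 45372437))) (BT.node (nat_lit 10503488) (BT.leaf (nat_lit 38583309)) (BT.leaf (nat_lit 42480661))))) (BT.node (nat_lit 10503808) (BT.node (nat_lit 10503680) (BT.node (nat_lit 10503616) (BT.leaf (nat_lit 29895173)) (BT.leaf (nat_lit 32066321))) (BT.node (nat_lit 10503744) (BT.leaf (nat_lit 40240389)) (BT.leaf (nat_lit 29899025)))) (BT.node (nat_lit 10503936) (BT.node (nat_lit 10503872) (BT.leaf (nat_lit 29898513)) (BT.leaf (nat_lit 38933273))) (BT.node (nat_lit 10504000) (BT.leaf (nat_lit 38933277)) (BT.leaf (nat_lit 43548181))))))) (BT.node (nat_lit 10504960) (BT.node (nat_lit 10504448) (BT.node (nat_lit 10504192) (BT.node (nat_lit 10504132) (BT.node (nat_lit 10504128) (BT.leaf (nat_lit 48740885)) (BT.leaf (nat_lit 45794337))) (BT.node (nat_lit 10504135) (BT.leaf (nat_lit 667904)) (BT.leaf (nat_lit 667904)))) (BT.node (nat_lit 10504320) (BT.node (nat_lit 10504256) (BT.leaf (nat_lit 38263569)) (BT.leaf (nat_lit 48631317))) (BT.node (nat_lit 10504384) (BT.leaf (nat_lit 29903633)) (BT.leaf (nat_lit 37889029))))) (BT.node (nat_lit 10504704) (BT.node (nat_lit 10504576) (BT.node (nat_lit 10504512) (BT.leaf (nat_lit 27808529)) (BT.leaf (nat_lit 30000661))) (BT.node (nat_lit 10504640) (BT.leaf (nat_lit 30000665)) (BT.leaf (nat_lit 30000669)))) (BT.node (nat_lit 10504832) (BT.node (nat_lit 10504768) (BT.leaf (nat_lit 44010017)) (BT.leaf (nat_lit 39831585))) (BT.node (nat_lit 10504896) (BT.leaf (nat_lit 32218653)) (BT.leaf (nat_lit 39628805)))))) (BT.node (nat_lit 10505350) (BT.node (nat_lit 10505216) (BT.node (nat_lit 10505088) (BT.node (nat_lit 10505024) (BT.leaf (nat_lit 43201301)) (BT.leaf (nat_lit 37791501))) (BT.node (nat_lit 10505152) (BT.leaf (nat_lit 38932741)) (BT.leaf (nat_lit 42857477)))) (BT.node (nat_lit 10505344) (BT.node (nat_lit 10505280) (BT.leaf (nat_lit 48569605)) (BT.leaf (nat_lit 42020889))) (BT.node (nat_lit 10505349) (BT.leaf (nat_lit 44849181)) (BT.leaf (nat_lit 706056))))) (BT.node (nat_lit 10505600) (BT.node (nat_lit 10505472) (BT.node (nat_lit 10505408) (BT.leaf (nat_lit 700764)) (BT.leaf (nat_lit 30503689))) (BT.node (nat_lit 10505536) (BT.leaf (nat_lit 30503693)) (BT.leaf (nat_lit 29906197)))) (BT.node (nat_lit 10505728) (BT.node (nat_lit 10505664) (BT.leaf (nat_lit 30503705)) (BT.leaf (nat_lit 30503709))) (BT.node (nat_lit 10505792) (BT.leaf (nat_lit 30503713)) (BT.leaf (nat_lit 47013393))))))))) (BT.node (nat_lit 10510272) (BT.node (nat_lit 10508288) (BT.node (nat_lit 10507136) (BT.node (nat_lit 10506624) (BT.node (nat_lit 10506368) (BT.node (nat_lit 10505984) (BT.node (nat_lit 10505920) (BT.leaf (nat_lit 46593553)) (BT.leaf (nat_lit 43939609))) (BT.node (nat_lit 10506048) (BT.leaf (nat_lit 42211605)) (BT.leaf (nat_lit 45925409)))) (BT.node (nat_lit 10506496) (BT.node (nat_lit 10506432) (BT.leaf (nat_lit 43747865)) (BT.leaf (nat_lit 45803529))) (BT.node (nat_lit 10506560) (BT.leaf (nat_lit 29256465)) (BT.leaf (nat_lit 45803797))))) (BT.node (nat_lit 10506880) (BT.node (nat_lit 10506752) (BT.node (nat_lit 10506688) (BT.leaf (nat_lit 30030873)) (BT.leaf (nat_lit 42228229))) (BT.node (nat_lit 10506816) (BT.leaf (nat_lit 44318233)) (BT.leaf (nat_lit 31050769)))) (BT.node (nat_lit 10507008) (BT.node (nat_lit 10506944) (BT.leaf (nat_lit 45485601)) (BT.leaf (nat_lit 37804557))) (BT.node (nat_lit 10507072) (BT.leaf (nat_lit 30863373)) (BT.leaf (nat_lit 48799493)))))) (BT.node (nat_lit 10507712) (BT.node (nat_lit 10507392) (BT.node (nat_lit 10507264) (BT.node (nat_lit 10507200) (BT.leaf (nat_lit 32559625)) (BT.leaf (nat_lit 30863369))) (BT.node (nat_lit 10507328) (BT.leaf (nat_lit 44166681)) (BT.leaf (nat_lit 32559629)))) (BT.node (nat_lit 10507520) (BT.node (nat_lit 10507456) (BT.leaf (nat_lit 29910293)) (BT.leaf (nat_lit 30863385))) (BT.node (nat_lit 10507648) (BT.leaf (nat_lit 30863389)) (BT.leaf (nat_lit 31450145))))) (BT.node (nat_lit 10507968) (BT.node (nat_lit 10507840) (BT.node (nat_lit 10507776) (BT.leaf (nat_lit 40256281)) (BT.leaf (nat_lit 30987029))) (BT.node (nat_lit 10507904) (BT.leaf (nat_lit 38917133)) (BT.leaf (nat_lit 38917137)))) (BT.node (nat_lit 10508096) (BT.node (nat_lit 10508032) (BT.leaf (nat_lit 44171801)) (BT.leaf (nat_lit 38917153))) (BT.node (nat_lit 10508160) (BT.leaf (nat_lit 48880409)) (BT.leaf (nat_lit 38609181))))))) (BT.node (nat_lit 10509248) (BT.node (nat_lit 10508800) (BT.node (nat_lit 10508544) (BT.node (nat_lit 10508416) (BT.node (nat_lit 10508352) (BT.leaf (nat_lit 43617045)) (BT.leaf (nat_lit 43617049))) (BT.node (nat_lit 10508480) (BT.leaf (nat_lit 43617053)) (BT.leaf (nat_lit 29912325)))) (BT.node (nat_lit 10508672) (BT.node (nat_lit 10508608) (BT.leaf (nat_lit 30002713)) (BT.leaf (nat_lit 31560465))) (BT.node (nat_lit 10508736) (BT.leaf (nat_lit 31560469)) (BT.leaf (nat_lit 45491205))))) (BT.node (nat_lit 10508992) (BT.node (nat_lit 10508864) (BT.node (nat_lit 10508804) (BT.leaf (nat_lit 33020705)) (BT.leaf (nat_lit 689496))) (BT.node (nat_lit 10508928) (BT.leaf (nat_lit 40857633)) (BT.leaf (nat_lit 40612641)))) (BT.node (nat_lit 10509120) (BT.node (nat_lit 10509056) (BT.leaf (nat_lit 40430881)) (BT.leaf (nat_lit 29913377))) (BT.node (nat_lit 10509184) (BT.leaf (nat_lit 45246473)) (BT.leaf (nat_lit 45246477)))))) (BT.node (nat_lit 10509760) (BT.node (nat_lit 10509504) (BT.node (nat_lit 10509376) (BT.node (nat_lit 10509312) (BT.leaf (nat_lit 43584005)) (BT.leaf (nat_lit 42037533))) (BT.node (nat_lit 10509440) (BT.leaf (nat_lit 32545813)) (BT.leaf (nat_lit 47737369)))) (BT.node (nat_lit 10509632) (BT.node (nat_lit 10509568) (BT.leaf (nat_lit 40431893)) (BT.leaf (nat_lit 40430865))) (BT.node (nat_lit 10509696) (BT.leaf (nat_lit 40430869)) (BT.leaf (nat_lit 44725017))))) (BT.node (nat_lit 10510016) (BT.node (nat_lit 10509888) (BT.node (nat_lit 10509824) (BT.leaf (nat_lit 44725021)) (BT.leaf (nat_lit 31811857))) (BT.node (nat_lit 10509952) (BT.leaf (nat_lit 46358289)) (BT.leaf (nat_lit 32368921)))) (BT.node (nat_lit 10510144) (BT.node (nat_lit 10510080) (BT.leaf (nat_lit 32368925)) (BT.leaf (nat_lit 39572757))) (BT.node (nat_lit 10510208) (BT.leaf (nat_lit 39572761)) (BT.leaf (nat_lit 39572765)))))))) (BT.node (nat_lit 10512256) (BT.node (nat_lit 10511232) (BT.node (nat_lit 10510848) (BT.node (nat_lit 10510528) (BT.node (nat_lit 10510400) (BT.node (nat_lit 10510336) (BT.leaf (nat_lit 41178121)) (BT.leaf (nat_lit 41178125))) (BT.node (nat_lit 10510464) (BT.leaf (nat_lit 32860953)) (BT.leaf (nat_lit 32860957)))) (BT.node (nat_lit 10510656) (BT.node (nat_lit 10510592) (BT.leaf (nat_lit 49320733)) (BT.leaf (nat_lit 32861205))) (BT.node (nat_lit 10510784) (BT.leaf (nat_lit 45094669)) (BT.leaf (nat_lit 31343881))))) (BT.node (nat_lit 10511104) (BT.node (nat_lit 10510976) (BT.node (nat_lit 10510912) (BT.leaf (nat_lit 29916689)) (BT.leaf (nat_lit 29915921))) (BT.node (nat_lit 10511040) (BT.leaf (nat_lit 29915665)) (BT.leaf (nat_lit 45194529)))) (BT.node (nat_lit 10511107) (BT.node (nat_lit 10511105) (BT.leaf (nat_lit 45807133)) (BT.leaf (nat_lit 760808))) (BT.node (nat_lit 10511168) (BT.leaf (nat_lit 760808)) (BT.leaf (nat_lit 44672289)))))) (BT.node (nat_lit 10511744) (BT.node (nat_lit 10511488) (BT.node (nat_lit 10511360) (BT.node (nat_lit 10511296) (BT.leaf (nat_lit 37806097)) (BT.leaf (nat_lit 43069721))) (BT.node (nat_lit 10511424) (BT.leaf (nat_lit 43069725)) (BT.leaf (nat_lit 37854213)))) (BT.node (nat_lit 10511616) (BT.node (nat_lit 10511552) (BT.leaf (nat_lit 48637445)) (BT.leaf (nat_lit 38253089))) (BT.node (nat_lit 10511680) (BT.leaf (nat_lit 31161105)) (BT.leaf (nat_lit 31161109))))) (BT.node (nat_lit 10512000) (BT.node (nat_lit 10511872) (BT.node (nat_lit 10511808) (BT.leaf (nat_lit 39217425)) (BT.leaf (nat_lit 39217429))) (BT.node (nat_lit 10511936) (BT.leaf (nat_lit 38611473)) (BT.leaf (nat_lit 32442649)))) (BT.node (nat_lit 10512128) (BT.node (nat_lit 10512064) (BT.leaf (nat_lit 32442653)) (BT.leaf (nat_lit 32446233))) (BT.node (nat_lit 10512192) (BT.leaf (nat_lit 29918233)) (BT.leaf (nat_lit 29918489))))))) (BT.node (nat_lit 10513152) (BT.node (nat_lit 10512704) (BT.node (nat_lit 10512452) (BT.node (nat_lit 10512384) (BT.node (nat_lit 10512320) (BT.leaf (nat_lit 40973841)) (BT.leaf (nat_lit 40973845))) (BT.node (nat_lit 10512448) (BT.leaf (nat_lit 33808669)) (BT.leaf (nat_lit 45370909)))) (BT.node (nat_lit 10512576) (BT.node (nat_lit 10512512) (BT.leaf (nat_lit 720492)) (BT.leaf (nat_lit 39644677))) (BT.node (nat_lit 10512640) (BT.leaf (nat_lit 42050073)) (BT.leaf (nat_lit 42050829))))) (BT.node (nat_lit 10512960) (BT.node (nat_lit 10512832) (BT.node (nat_lit 10512768) (BT.leaf (nat_lit 38511889)) (BT.leaf (nat_lit 38511885))) (BT.node (nat_lit 10512896) (BT.leaf (nat_lit 30124569)) (BT.leaf (nat_lit 30124573)))) (BT.node (nat_lit 10513088) (BT.node (nat_lit 10513024) (BT.leaf (nat_lit 30124577)) (BT.leaf (nat_lit 48101153))) (BT.node (nat_lit 10513091) (BT.leaf (nat_lit 48659477)) (BT.leaf (nat_lit 661492)))))) (BT.node (nat_lit 10513664) (BT.node (nat_lit 10513408) (BT.node (nat_lit 10513280) (BT.node (nat_lit 10513216) (BT.leaf (nat_lit 30123029)) (BT.leaf (nat_lit 37768729))) (BT.node (nat_lit 10513344) (BT.leaf (nat_lit 37768733)) (BT.leaf (nat_lit 45460229)))) (BT.node (nat_lit 10513536) (BT.node (nat_lit 10513472) (BT.leaf (nat_lit 38863125)) (BT.leaf (nat_lit 31242785))) (BT.node (nat_lit 10513600) (BT.leaf (nat_lit 37921541)) (BT.leaf (nat_lit 39457801))))) (BT.node (nat_lit 10513920) (BT.node (nat_lit 10513792) (BT.node (nat_lit 10513728) (BT.leaf (nat_lit 39457805)) (BT.leaf (nat_lit 39457817))) (BT.node (nat_lit 10513856) (BT.leaf (nat_lit 39457821)) (BT.leaf (nat_lit 39457825)))) (BT.node (nat_lit 10514048) (BT.node (nat_lit 10513984) (BT.leaf (nat_lit 44723729)) (BT.leaf (nat_lit 40867605))) (BT.node (nat_lit 10514112) (BT.leaf (nat_lit 41047569)) (BT.leaf (nat_lit 41269781)))))))))) (BT.node (nat_lit 10522048) (BT.node (nat_lit 10518016) (BT.node (nat_lit 10516098) (BT.node (nat_lit 10515264) (BT.node (nat_lit 10514752) (BT.node (nat_lit 10514496) (BT.node (nat_lit 10514304) (BT.node (nat_lit 10514240) (BT.leaf (nat_lit 29920261)) (BT.leaf (nat_lit 38819593))) (BT.node (nat_lit 10514368) (BT.leaf (nat_lit 43707169)) (BT.leaf (nat_lit 45465121)))) (BT.node (nat_lit 10514624) (BT.node (nat_lit 10514560) (BT.leaf (nat_lit 44658961)) (BT.leaf (nat_lit 44658965))) (BT.node (nat_lit 10514688) (BT.leaf (nat_lit 37922565)) (BT.leaf (nat_lit 29921041))))) (BT.node (nat_lit 10515008) (BT.node (nat_lit 10514880) (BT.node (nat_lit 10514816) (BT.leaf (nat_lit 29920785)) (BT.leaf (nat_lit 43694869))) (BT.node (nat_lit 10514944) (BT.leaf (nat_lit 46962961)) (BT.leaf (nat_lit 46962977)))) (BT.node (nat_lit 10515136) (BT.node (nat_lit 10515072) (BT.leaf (nat_lit 42691865)) (BT.leaf (nat_lit 42691869))) (BT.node (nat_lit 10515200) (BT.leaf (nat_lit 37922585)) (BT.leaf (nat_lit 42689553)))))) (BT.node (nat_lit 10515648) (BT.node (nat_lit 10515392) (BT.node (nat_lit 10515270) (BT.node (nat_lit 10515265) (BT.leaf (nat_lit 38806817)) (BT.leaf (nat_lit 679800))) (BT.node (nat_lit 10515328) (BT.leaf (nat_lit 679800)) (BT.leaf (nat_lit 30435845)))) (BT.node (nat_lit 10515520) (BT.node (nat_lit 10515456) (BT.leaf (nat_lit 29922833)) (BT.leaf (nat_lit 29922577))) (BT.node (nat_lit 10515584) (BT.leaf (nat_lit 30435865)) (BT.leaf (nat_lit 30435869))))) (BT.node (nat_lit 10515904) (BT.node (nat_lit 10515776) (BT.node (nat_lit 10515712) (BT.leaf (nat_lit 46656021)) (BT.leaf (nat_lit 38869265))) (BT.node (nat_lit 10515840) (BT.leaf (nat_lit 38869281)) (BT.leaf (nat_lit 29922593)))) (BT.node (nat_lit 10516032) (BT.node (nat_lit 10515968) (BT.leaf (nat_lit 29922849)) (BT.leaf (nat_lit 38063137))) (BT.node (nat_lit 10516096) (BT.leaf (nat_lit 29923105)) (BT.leaf (nat_lit 30438421))))))) (BT.node (nat_lit 10516992) (BT.node (nat_lit 10516672) (BT.node (nat_lit 10516352) (BT.node (nat_lit 10516224) (BT.node (nat_lit 10516160) (BT.leaf (nat_lit 679248)) (BT.leaf (nat_lit 44213253))) (BT.node (nat_lit 10516288) (BT.leaf (nat_lit 46255889)) (BT.leaf (nat_lit 43459081)))) (BT.node (nat_lit 10516544) (BT.node (nat_lit 10516480) (BT.leaf (nat_lit 44653073)) (BT.leaf (nat_lit 37740037))) (BT.node (nat_lit 10516608) (BT.leaf (nat_lit 36287769)) (BT.leaf (nat_lit 50314777))))) (BT.node (nat_lit 10516803) (BT.node (nat_lit 10516736) (BT.node (nat_lit 10516674) (BT.leaf (nat_lit 32603937)) (BT.leaf (nat_lit 665560))) (BT.node (nat_lit 10516800) (BT.leaf (nat_lit 51640093)) (BT.leaf (nat_lit 42488837)))) (BT.node (nat_lit 10516864) (BT.node (nat_lit 10516808) (BT.leaf (nat_lit 694160)) (BT.leaf (nat_lit 694160))) (BT.node (nat_lit 10516928) (BT.leaf (nat_lit 31652629)) (BT.leaf (nat_lit 31361041)))))) (BT.node (nat_lit 10517504) (BT.node (nat_lit 10517248) (BT.node (nat_lit 10517120) (BT.node (nat_lit 10517056) (BT.leaf (nat_lit 47125773)) (BT.leaf (nat_lit 48664837))) (BT.node (nat_lit 10517184) (BT.leaf (nat_lit 44241929)) (BT.leaf (nat_lit 44241933)))) (BT.node (nat_lit 10517376) (BT.node (nat_lit 10517312) (BT.leaf (nat_lit 48664849)) (BT.leaf (nat_lit 44241949))) (BT.node (nat_lit 10517440) (BT.leaf (nat_lit 34514709)) (BT.leaf (nat_lit 31619097))))) (BT.node (nat_lit 10517760) (BT.node (nat_lit 10517632) (BT.node (nat_lit 10517568) (BT.leaf (nat_lit 42185489)) (BT.leaf (nat_lit 43524373))) (BT.node (nat_lit 10517696) (BT.leaf (nat_lit 30316561)) (BT.leaf (nat_lit 38840861)))) (BT.node (nat_lit 10517888) (BT.node (nat_lit 10517824) (BT.leaf (nat_lit 35006725)) (BT.leaf (nat_lit 35006737))) (BT.node (nat_lit 10517952) (BT.leaf (nat_lit 35006741)) (BT.leaf (nat_lit 42036741)))))))) (BT.node (nat_lit 10520064) (BT.node (nat_lit 10519040) (BT.node (nat_lit 10518528) (BT.node (nat_lit 10518272) (BT.node (nat_lit 10518144) (BT.node (nat_lit 10518080) (BT.leaf (nat_lit 37869061)) (BT.leaf (nat_lit 44677921))) (BT.node (nat_lit 10518208) (BT.leaf (nat_lit 38951701)) (BT.leaf (nat_lit 36319749)))) (BT.node (nat_lit 10518400) (BT.node (nat_lit 10518336) (BT.leaf (nat_lit 42072857)) (BT.leaf (nat_lit 38523141))) (BT.node (nat_lit 10518464) (BT.leaf (nat_lit 31814425)) (BT.leaf (nat_lit 38305045))))) (BT.node (nat_lit 10518784) (BT.node (nat_lit 10518656) (BT.node (nat_lit 10518592) (BT.leaf (nat_lit 46478349)) (BT.leaf (nat_lit 40413193))) (BT.node (nat_lit 10518720) (BT.leaf (nat_lit 46478361)) (BT.leaf (nat_lit 48700693)))) (BT.node (nat_lit 10518912) (BT.node (nat_lit 10518848) (BT.leaf (nat_lit 38499361)) (BT.leaf (nat_lit 49764381))) (BT.node (nat_lit 10518976) (BT.leaf (nat_lit 31074581)) (BT.leaf (nat_lit 31074585)))))) (BT.node (nat_lit 10519552) (BT.node (nat_lit 10519296) (BT.node (nat_lit 10519168) (BT.node (nat_lit 10519104) (BT.leaf (nat_lit 31074589)) (BT.leaf (nat_lit 32093469))) (BT.node (nat_lit 10519232) (BT.leaf (nat_lit 38499345)) (BT.leaf (nat_lit 46968353)))) (BT.node (nat_lit 10519424) (BT.node (nat_lit 10519360) (BT.leaf (nat_lit 29928977)) (BT.leaf (nat_lit 42845981))) (BT.node (nat_lit 10519488) (BT.leaf (nat_lit 30926613)) (BT.leaf (nat_lit 42075909))))) (BT.node (nat_lit 10519815) (BT.node (nat_lit 10519680) (BT.node (nat_lit 10519616) (BT.leaf (nat_lit 49218821)) (BT.leaf (nat_lit 46197261))) (BT.node (nat_lit 10519808) (BT.leaf (nat_lit 45210145)) (BT.leaf (nat_lit 42258197)))) (BT.node (nat_lit 10519936) (BT.node (nat_lit 10519872) (BT.leaf (nat_lit 814920)) (BT.leaf (nat_lit 28061713))) (BT.node (nat_lit 10520000) (BT.leaf (nat_lit 31560985)) (BT.leaf (nat_lit 31560989))))))) (BT.node (nat_lit 10521088) (BT.node (nat_lit 10520576) (BT.node (nat_lit 10520320) (BT.node (nat_lit 10520192) (BT.node (nat_lit 10520128) (BT.leaf (nat_lit 51301389)) (BT.leaf (nat_lit 32693529))) (BT.node (nat_lit 10520256) (BT.leaf (nat_lit 32693533)) (BT.leaf (nat_lit 37926673)))) (BT.node (nat_lit 10520448) (BT.node (nat_lit 10520384) (BT.leaf (nat_lit 47946785)) (BT.leaf (nat_lit 32323617))) (BT.node (nat_lit 10520512) (BT.leaf (nat_lit 31736601)) (BT.leaf (nat_lit 51643937))))) (BT.node (nat_lit 10520832) (BT.node (nat_lit 10520704) (BT.node (nat_lit 10520640) (BT.leaf (nat_lit 49478925)) (BT.leaf (nat_lit 35144473))) (BT.node (nat_lit 10520768) (BT.leaf (nat_lit 45590033)) (BT.leaf (nat_lit 39668757)))) (BT.node (nat_lit 10520960) (BT.node (nat_lit 10520896) (BT.leaf (nat_lit 34741021)) (BT.leaf (nat_lit 38445065))) (BT.node (nat_lit 10521024) (BT.leaf (nat_lit 47464717)) (BT.leaf (nat_lit 32921365)))))) (BT.node (nat_lit 10521472) (BT.node (nat_lit 10521283) (BT.node (nat_lit 10521216) (BT.node (nat_lit 10521152) (BT.leaf (nat_lit 42088709)) (BT.leaf (nat_lit 29933589))) (BT.node (nat_lit 10521280) (BT.leaf (nat_lit 32599817)) (BT.leaf (nat_lit 42828557)))) (BT.node (nat_lit 10521344) (BT.node (nat_lit 10521288) (BT.leaf (nat_lit 773292)) (BT.leaf (nat_lit 773292))) (BT.node (nat_lit 10521408) (BT.leaf (nat_lit 33968149)) (BT.leaf (nat_lit 32599841))))) (BT.node (nat_lit 10521728) (BT.node (nat_lit 10521600) (BT.node (nat_lit 10521536) (BT.leaf (nat_lit 37800477)) (BT.leaf (nat_lit 31103009))) (BT.node (nat_lit 10521664) (BT.leaf (nat_lit 45028877)) (BT.leaf (nat_lit 45028885)))) (BT.node (nat_lit 10521920) (BT.node (nat_lit 10521856) (BT.leaf (nat_lit 27866641)) (BT.leaf (nat_lit 40647941))) (BT.node (nat_lit 10521984) (BT.leaf (nat_lit 40485153)) (BT.leaf (nat_lit 32674321))))))))) (BT.node (nat_lit 10526080) (BT.node (nat_lit 10524096) (BT.node (nat_lit 10523072) (BT.node (nat_lit 10522560) (BT.node (nat_lit 10522304) (BT.node (nat_lit 10522176) (BT.node (nat_lit 10522112) (BT.leaf (nat_lit 29936405)) (BT.leaf (nat_lit 40485129))) (BT.node (nat_lit 10522240) (BT.leaf (nat_lit 46189321)) (BT.leaf (nat_lit 45653013)))) (BT.node (nat_lit 10522432) (BT.node (nat_lit 10522368) (BT.leaf (nat_lit 31598601)) (BT.leaf (nat_lit 31598609))) (BT.node (nat_lit 10522496) (BT.leaf (nat_lit 29936149)) (BT.leaf (nat_lit 31598625))))) (BT.node (nat_lit 10522816) (BT.node (nat_lit 10522688) (BT.node (nat_lit 10522624) (BT.leaf (nat_lit 40744225)) (BT.leaf (nat_lit 36742149))) (BT.node (nat_lit 10522752) (BT.leaf (nat_lit 44176929)) (BT.leaf (nat_lit 32327173)))) (BT.node (nat_lit 10522944) (BT.node (nat_lit 10522880) (BT.leaf (nat_lit 29939221)) (BT.leaf (nat_lit 46355733))) (BT.node (nat_lit 10523008) (BT.leaf (nat_lit 27857693)) (BT.leaf (nat_lit 32313361)))))) (BT.node (nat_lit 10523584) (BT.node (nat_lit 10523328) (BT.node (nat_lit 10523200) (BT.node (nat_lit 10523136) (BT.leaf (nat_lit 27857673)) (BT.leaf (nat_lit 33968917))) (BT.node (nat_lit 10523264) (BT.leaf (nat_lit 32313377)) (BT.leaf (nat_lit 41973005)))) (BT.node (nat_lit 10523456) (BT.node (nat_lit 10523392) (BT.leaf (nat_lit 29939993)) (BT.leaf (nat_lit 41973265))) (BT.node (nat_lit 10523520) (BT.leaf (nat_lit 46620441)) (BT.leaf (nat_lit 40620577))))) (BT.node (nat_lit 10523784) (BT.node (nat_lit 10523712) (BT.node (nat_lit 10523648) (BT.leaf (nat_lit 42097157)) (BT.leaf (nat_lit 46621205))) (BT.node (nat_lit 10523776) (BT.leaf (nat_lit 47748897)) (BT.leaf (nat_lit 42097173)))) (BT.node (nat_lit 10523904) (BT.node (nat_lit 10523840) (BT.leaf (nat_lit 751648)) (BT.leaf (nat_lit 40619553))) (BT.node (nat_lit 10523968) (BT.leaf (nat_lit 46180873)) (BT.leaf (nat_lit 32325637))))))) (BT.node (nat_lit 10525056) (BT.node (nat_lit 10524544) (BT.node (nat_lit 10524352) (BT.node (nat_lit 10524224) (BT.node (nat_lit 10524160) (BT.leaf (nat_lit 46620949)) (BT.leaf (nat_lit 32325665))) (BT.node (nat_lit 10524288) (BT.leaf (nat_lit 38501665)) (BT.leaf (nat_lit 30542085)))) (BT.node (nat_lit 10524420) (BT.node (nat_lit 10524416) (BT.leaf (nat_lit 46997509)) (BT.leaf (nat_lit 35834385))) (BT.node (nat_lit 10524480) (BT.leaf (nat_lit 802900)) (BT.leaf (nat_lit 38501661))))) (BT.node (nat_lit 10524800) (BT.node (nat_lit 10524672) (BT.node (nat_lit 10524608) (BT.leaf (nat_lit 32603657)) (BT.leaf (nat_lit 32603661))) (BT.node (nat_lit 10524736) (BT.leaf (nat_lit 32603665)) (BT.leaf (nat_lit 32603673)))) (BT.node (nat_lit 10524928) (BT.node (nat_lit 10524864) (BT.leaf (nat_lit 32603677)) (BT.leaf (nat_lit 32556053))) (BT.node (nat_lit 10524992) (BT.leaf (nat_lit 32602641)) (BT.leaf (nat_lit 32602645)))))) (BT.node (nat_lit 10525568) (BT.node (nat_lit 10525312) (BT.node (nat_lit 10525184) (BT.node (nat_lit 10525120) (BT.leaf (nat_lit 30338833)) (BT.leaf (nat_lit 30338837))) (BT.node (nat_lit 10525248) (BT.leaf (nat_lit 32600341)) (BT.leaf (nat_lit 29943577)))) (BT.node (nat_lit 10525440) (BT.node (nat_lit 10525376) (BT.leaf (nat_lit 30339857)) (BT.leaf (nat_lit 30339861))) (BT.node (nat_lit 10525504) (BT.leaf (nat_lit 29942033)) (BT.leaf (nat_lit 39978005))))) (BT.node (nat_lit 10525824) (BT.node (nat_lit 10525696) (BT.node (nat_lit 10525632) (BT.leaf (nat_lit 39978009)) (BT.leaf (nat_lit 39978013))) (BT.node (nat_lit 10525760) (BT.leaf (nat_lit 40144673)) (BT.leaf (nat_lit 43483153)))) (BT.node (nat_lit 10525952) (BT.node (nat_lit 10525888) (BT.leaf (nat_lit 47145761)) (BT.leaf (nat_lit 44419609))) (BT.node (nat_lit 10526016) (BT.leaf (nat_lit 38362633)) (BT.leaf (nat_lit 29946129)))))))) (BT.node (nat_lit 10528128) (BT.node (nat_lit 10527040) (BT.node (nat_lit 10526532) (BT.node (nat_lit 10526336) (BT.node (nat_lit 10526208) (BT.node (nat_lit 10526144) (BT.leaf (nat_lit 29952281)) (BT.leaf (nat_lit 42117893))) (BT.node (nat_lit 10526272) (BT.leaf (nat_lit 33026833)) (BT.leaf (nat_lit 29660441)))) (BT.node (nat_lit 10526464) (BT.node (nat_lit 10526400) (BT.leaf (nat_lit 42686477)) (BT.leaf (nat_lit 32465441))) (BT.node (nat_lit 10526528) (BT.leaf (nat_lit 32224289)) (BT.leaf (nat_lit 30243345))))) (BT.node (nat_lit 10526784) (BT.node (nat_lit 10526656) (BT.node (nat_lit 10526592) (BT.leaf (nat_lit 748952)) (BT.leaf (nat_lit 42106137))) (BT.node (nat_lit 10526720) (BT.leaf (nat_lit 41993497)) (BT.leaf (nat_lit 41993501)))) (BT.node (nat_lit 10526912) (BT.node (nat_lit 10526848) (BT.leaf (nat_lit 27782685)) (BT.leaf (nat_lit 33027089))) (BT.node (nat_lit 10526976) (BT.leaf (nat_lit 42013453)) (BT.leaf (nat_lit 42988549)))))) (BT.node (nat_lit 10527552) (BT.node (nat_lit 10527296) (BT.node (nat_lit 10527168) (BT.node (nat_lit 10527104) (BT.leaf (nat_lit 42107929)) (BT.leaf (nat_lit 30830361))) (BT.node (nat_lit 10527232) (BT.leaf (nat_lit 41999641)) (BT.leaf (nat_lit 49394453)))) (BT.node (nat_lit 10527424) (BT.node (nat_lit 10527360) (BT.leaf (nat_lit 48296225)) (BT.leaf (nat_lit 30248721))) (BT.node (nat_lit 10527488) (BT.leaf (nat_lit 48317729)) (BT.leaf (nat_lit 38527777))))) (BT.node (nat_lit 10527872) (BT.node (nat_lit 10527680) (BT.node (nat_lit 10527616) (BT.leaf (nat_lit 49394457)) (BT.leaf (nat_lit 41930261))) (BT.node (nat_lit 10527808) (BT.leaf (nat_lit 42111005)) (BT.leaf (nat_lit 44800793)))) (BT.node (nat_lit 10528000) (BT.node (nat_lit 10527936) (BT.leaf (nat_lit 30766101)) (BT.leaf (nat_lit 41202445))) (BT.node (nat_lit 10528064) (BT.leaf (nat_lit 47386401)) (BT.leaf (nat_lit 42626309))))))) (BT.node (nat_lit 10529152) (BT.node (nat_lit 10528640) (BT.node (nat_lit 10528384) (BT.node (nat_lit 10528256) (BT.node (nat_lit 10528192) (BT.leaf (nat_lit 38122005)) (BT.leaf (nat_lit 30767121))) (BT.node (nat_lit 10528320) (BT.leaf (nat_lit 42113545)) (BT.leaf (nat_lit 40717593)))) (BT.node (nat_lit 10528512) (BT.node (nat_lit 10528448) (BT.leaf (nat_lit 39671569)) (BT.leaf (nat_lit 34348821))) (BT.node (nat_lit 10528576) (BT.leaf (nat_lit 49295125)) (BT.leaf (nat_lit 39306777))))) (BT.node (nat_lit 10528896) (BT.node (nat_lit 10528768) (BT.node (nat_lit 10528704) (BT.leaf (nat_lit 39306781)) (BT.leaf (nat_lit 38587913))) (BT.node (nat_lit 10528832) (BT.leaf (nat_lit 38588173)) (BT.leaf (nat_lit 36201749)))) (BT.node (nat_lit 10529024) (BT.node (nat_lit 10528960) (BT.leaf (nat_lit 42989321)) (BT.leaf (nat_lit 38538253))) (BT.node (nat_lit 10529088) (BT.leaf (nat_lit 40456457)) (BT.leaf (nat_lit 45566229)))))) (BT.node (nat_lit 10529728) (BT.node (nat_lit 10529408) (BT.node (nat_lit 10529280) (BT.node (nat_lit 10529216) (BT.leaf (nat_lit 40041989)) (BT.leaf (nat_lit 45508641))) (BT.node (nat_lit 10529344) (BT.leaf (nat_lit 40894481)) (BT.leaf (nat_lit 29297429)))) (BT.node (nat_lit 10529600) (BT.node (nat_lit 10529472) (BT.leaf (nat_lit 32747785)) (BT.leaf (nat_lit 45616665))) (BT.node (nat_lit 10529664) (BT.leaf (nat_lit 34652181)) (BT.leaf (nat_lit 29954849))))) (BT.node (nat_lit 10529861) (BT.node (nat_lit 10529797) (BT.node (nat_lit 10529792) (BT.leaf (nat_lit 29954593)) (BT.leaf (nat_lit 47458593))) (BT.node (nat_lit 10529856) (BT.leaf (nat_lit 789332)) (BT.leaf (nat_lit 30038045)))) (BT.node (nat_lit 10529925) (BT.node (nat_lit 10529920) (BT.leaf (nat_lit 747124)) (BT.leaf (nat_lit 30038025))) (BT.node (nat_lit 10529984) (BT.leaf (nat_lit 747116)) (BT.leaf (nat_lit 49307425))))))))))) (BT.node (nat_lit 10544896) (BT.node (nat_lit 10536960) (BT.node (nat_lit 10533184) (BT.node (nat_lit 10531648) (BT.node (nat_lit 10530880) (BT.node (nat_lit 10530432) (BT.node (nat_lit 10530240) (BT.node (nat_lit 10530112) (BT.node (nat_lit 10530048) (BT.leaf (nat_lit 674416)) (BT.leaf (nat_lit 42161181))) (BT.node (nat_lit 10530176) (BT.leaf (nat_lit 38605325)) (BT.leaf (nat_lit 47928597)))) (BT.node (nat_lit 10530304) (BT.node (nat_lit 10530242) (BT.leaf (nat_lit 39711253)) (BT.leaf (nat_lit 712588))) (BT.node (nat_lit 10530368) (BT.leaf (nat_lit 38070801)) (BT.leaf (nat_lit 38603805))))) (BT.node (nat_lit 10530624) (BT.node (nat_lit 10530560) (BT.node (nat_lit 10530496) (BT.leaf (nat_lit 30715417)) (BT.leaf (nat_lit 30417681))) (BT.node (nat_lit 10530561) (BT.leaf (nat_lit 42462237)) (BT.leaf (nat_lit 663468)))) (BT.node (nat_lit 10530752) (BT.node (nat_lit 10530688) (BT.leaf (nat_lit 29958173)) (BT.leaf (nat_lit 49231137))) (BT.node (nat_lit 10530816) (BT.leaf (nat_lit 32100121)) (BT.leaf (nat_lit 32100125)))))) (BT.node (nat_lit 10531144) (BT.node (nat_lit 10531008) (BT.node (nat_lit 10530948) (BT.node (nat_lit 10530944) (BT.leaf (nat_lit 38572821)) (BT.leaf (nat_lit 30763533))) (BT.node (nat_lit 10530952) (BT.leaf (nat_lit 702988)) (BT.leaf (nat_lit 702988)))) (BT.node (nat_lit 10531080) (BT.node (nat_lit 10531072) (BT.leaf (nat_lit 29959957)) (BT.leaf (nat_lit 30763545))) (BT.node (nat_lit 10531136) (BT.leaf (nat_lit 767896)) (BT.leaf (nat_lit 30763549))))) (BT.node (nat_lit 10531392) (BT.node (nat_lit 10531264) (BT.node (nat_lit 10531200) (BT.leaf (nat_lit 767900)) (BT.leaf (nat_lit 43030293))) (BT.node (nat_lit 10531328) (BT.leaf (nat_lit 35121441)) (BT.leaf (nat_lit 32872225)))) (BT.node (nat_lit 10531520) (BT.node (nat_lit 10531456) (BT.leaf (nat_lit 38660365)) (BT.leaf (nat_lit 37879329))) (BT.node (nat_lit 10531584) (BT.leaf (nat_lit 37879073)) (BT.leaf (nat_lit 29962769))))))) (BT.node (nat_lit 10532608) (BT.node (nat_lit 10532104) (BT.node (nat_lit 10531904) (BT.node (nat_lit 10531776) (BT.node (nat_lit 10531712) (BT.leaf (nat_lit 29961489)) (BT.leaf (nat_lit 29962513))) (BT.node (nat_lit 10531840) (BT.leaf (nat_lit 32376089)) (BT.leaf (nat_lit 32376093)))) (BT.node (nat_lit 10532032) (BT.node (nat_lit 10531968) (BT.leaf (nat_lit 29962257)) (BT.leaf (nat_lit 41130761))) (BT.node (nat_lit 10532096) (BT.leaf (nat_lit 38600453)) (BT.leaf (nat_lit 41854981))))) (BT.node (nat_lit 10532352) (BT.node (nat_lit 10532224) (BT.node (nat_lit 10532160) (BT.leaf (nat_lit 749500)) (BT.leaf (nat_lit 41130781))) (BT.node (nat_lit 10532288) (BT.leaf (nat_lit 36961557)) (BT.leaf (nat_lit 41855777)))) (BT.node (nat_lit 10532480) (BT.node (nat_lit 10532416) (BT.leaf (nat_lit 43597077)) (BT.leaf (nat_lit 30327569))) (BT.node (nat_lit 10532544) (BT.leaf (nat_lit 30327573)) (BT.leaf (nat_lit 29963537)))))) (BT.node (nat_lit 10532864) (BT.node (nat_lit 10532739) (BT.node (nat_lit 10532736) (BT.node (nat_lit 10532672) (BT.leaf (nat_lit 29963025)) (BT.leaf (nat_lit 27837969))) (BT.node (nat_lit 10532738) (BT.leaf (nat_lit 32390421)) (BT.leaf (nat_lit 701672)))) (BT.node (nat_lit 10532744) (BT.node (nat_lit 10532740) (BT.leaf (nat_lit 749508)) (BT.leaf (nat_lit 771152))) (BT.node (nat_lit 10532800) (BT.leaf (nat_lit 749508)) (BT.leaf (nat_lit 44447777))))) (BT.node (nat_lit 10532993) (BT.node (nat_lit 10532930) (BT.node (nat_lit 10532928) (BT.leaf (nat_lit 29790993)) (BT.leaf (nat_lit 30255877))) (BT.node (nat_lit 10532992) (BT.leaf (nat_lit 744904)) (BT.leaf (nat_lit 49952281)))) (BT.node (nat_lit 10533056) (BT.node (nat_lit 10532999) (BT.leaf (nat_lit 744912)) (BT.leaf (nat_lit 744912))) (BT.node (nat_lit 10533120) (BT.leaf (nat_lit 42131977)) (BT.leaf (nat_lit 38165537)))))))) (BT.node (nat_lit 10535107) (BT.node (nat_lit 10534144) (BT.node (nat_lit 10533632) (BT.node (nat_lit 10533440) (BT.node (nat_lit 10533312) (BT.node (nat_lit 10533248) (BT.leaf (nat_lit 42133021)) (BT.leaf (nat_lit 49952017))) (BT.node (nat_lit 10533376) (BT.leaf (nat_lit 29961233)) (BT.leaf (nat_lit 41749017)))) (BT.node (nat_lit 10533568) (BT.node (nat_lit 10533504) (BT.leaf (nat_lit 41749021)) (BT.leaf (nat_lit 41133573))) (BT.node (nat_lit 10533572) (BT.leaf (nat_lit 29964825)) (BT.leaf (nat_lit 744984))))) (BT.node (nat_lit 10533888) (BT.node (nat_lit 10533760) (BT.node (nat_lit 10533696) (BT.leaf (nat_lit 32303905)) (BT.leaf (nat_lit 49727765))) (BT.node (nat_lit 10533824) (BT.leaf (nat_lit 30331913)) (BT.leaf (nat_lit 30331917)))) (BT.node (nat_lit 10534016) (BT.node (nat_lit 10533952) (BT.leaf (nat_lit 30331929)) (BT.leaf (nat_lit 30331933))) (BT.node (nat_lit 10534080) (BT.leaf (nat_lit 34039321)) (BT.leaf (nat_lit 39023629)))))) (BT.node (nat_lit 10534592) (BT.node (nat_lit 10534400) (BT.node (nat_lit 10534272) (BT.node (nat_lit 10534208) (BT.leaf (nat_lit 30689557)) (BT.leaf (nat_lit 29967633))) (BT.node (nat_lit 10534336) (BT.leaf (nat_lit 41281561)) (BT.leaf (nat_lit 41281565)))) (BT.node (nat_lit 10534528) (BT.node (nat_lit 10534464) (BT.leaf (nat_lit 29794845)) (BT.leaf (nat_lit 42006789))) (BT.node (nat_lit 10534536) (BT.leaf (nat_lit 44237577)) (BT.leaf (nat_lit 795424))))) (BT.node (nat_lit 10534912) (BT.node (nat_lit 10534720) (BT.node (nat_lit 10534656) (BT.leaf (nat_lit 48845065)) (BT.leaf (nat_lit 29970457))) (BT.node (nat_lit 10534848) (BT.leaf (nat_lit 43347741)) (BT.leaf (nat_lit 44796169)))) (BT.node (nat_lit 10535040) (BT.node (nat_lit 10534976) (BT.leaf (nat_lit 43348513)) (BT.leaf (nat_lit 29971997))) (BT.node (nat_lit 10535104) (BT.leaf (nat_lit 32308741)) (BT.leaf (nat_lit 48360469))))))) (BT.node (nat_lit 10536000) (BT.node (nat_lit 10535488) (BT.node (nat_lit 10535234) (BT.node (nat_lit 10535168) (BT.node (nat_lit 10535110) (BT.leaf (nat_lit 710120)) (BT.leaf (nat_lit 710120))) (BT.node (nat_lit 10535232) (BT.leaf (nat_lit 29972509)) (BT.leaf (nat_lit 29973509)))) (BT.node (nat_lit 10535360) (BT.node (nat_lit 10535296) (BT.leaf (nat_lit 772968)) (BT.leaf (nat_lit 38337053))) (BT.node (nat_lit 10535424) (BT.leaf (nat_lit 52124945)) (BT.leaf (nat_lit 43310085))))) (BT.node (nat_lit 10535744) (BT.node (nat_lit 10535616) (BT.node (nat_lit 10535552) (BT.leaf (nat_lit 37809433)) (BT.leaf (nat_lit 43745541))) (BT.node (nat_lit 10535680) (BT.leaf (nat_lit 37809693)) (BT.leaf (nat_lit 43310113)))) (BT.node (nat_lit 10535872) (BT.node (nat_lit 10535808) (BT.leaf (nat_lit 50327069)) (BT.leaf (nat_lit 33979677))) (BT.node (nat_lit 10535936) (BT.leaf (nat_lit 40552465)) (BT.leaf (nat_lit 33979657)))))) (BT.node (nat_lit 10536448) (BT.node (nat_lit 10536192) (BT.node (nat_lit 10536070) (BT.node (nat_lit 10536064) (BT.leaf (nat_lit 30822425)) (BT.leaf (nat_lit 40552481))) (BT.node (nat_lit 10536128) (BT.leaf (nat_lit 718072)) (BT.leaf (nat_lit 29974545)))) (BT.node (nat_lit 10536320) (BT.node (nat_lit 10536256) (BT.leaf (nat_lit 29974289)) (BT.leaf (nat_lit 38512921))) (BT.node (nat_lit 10536384) (BT.leaf (nat_lit 31409417)) (BT.leaf (nat_lit 29804049))))) (BT.node (nat_lit 10536704) (BT.node (nat_lit 10536576) (BT.node (nat_lit 10536512) (BT.leaf (nat_lit 31027721)) (BT.leaf (nat_lit 31027725))) (BT.node (nat_lit 10536640) (BT.leaf (nat_lit 35386657)) (BT.leaf (nat_lit 31027737)))) (BT.node (nat_lit 10536832) (BT.node (nat_lit 10536768) (BT.leaf (nat_lit 31027741)) (BT.leaf (nat_lit 41137425))) (BT.node (nat_lit 10536896) (BT.leaf (nat_lit 37082633)) (BT.leaf (nat_lit 37082637))))))))) (BT.node (nat_lit 10540864) (BT.node (nat_lit 10539008) (BT.node (nat_lit 10537984) (BT.node (nat_lit 10537472) (BT.node (nat_lit 10537216) (BT.node (nat_lit 10537088) (BT.node (nat_lit 10537024) (BT.leaf (nat_lit 37082901)) (BT.leaf (nat_lit 30172697))) (BT.node (nat_lit 10537152) (BT.leaf (nat_lit 32132117)) (BT.leaf (nat_lit 31336465)))) (BT.node (nat_lit 10537344) (BT.node (nat_lit 10537280) (BT.leaf (nat_lit 31260681)) (BT.leaf (nat_lit 29979409))) (BT.node (nat_lit 10537408) (BT.leaf (nat_lit 49688073)) (BT.leaf (nat_lit 29979153))))) (BT.node (nat_lit 10537728) (BT.node (nat_lit 10537600) (BT.node (nat_lit 10537536) (BT.leaf (nat_lit 29979157)) (BT.leaf (nat_lit 39010321))) (BT.node (nat_lit 10537664) (BT.leaf (nat_lit 48730121)) (BT.leaf (nat_lit 29979913)))) (BT.node (nat_lit 10537797) (BT.node (nat_lit 10537792) (BT.leaf (nat_lit 30166801)) (BT.leaf (nat_lit 44233733))) (BT.node (nat_lit 10537920) (BT.leaf (nat_lit 754624)) (BT.leaf (nat_lit 44233749)))))) (BT.node (nat_lit 10538496) (BT.node (nat_lit 10538240) (BT.node (nat_lit 10538112) (BT.node (nat_lit 10538048) (BT.leaf (nat_lit 44233761)) (BT.leaf (nat_lit 45566225))) (BT.node (nat_lit 10538176) (BT.leaf (nat_lit 52239905)) (BT.leaf (nat_lit 30165521)))) (BT.node (nat_lit 10538368) (BT.node (nat_lit 10538304) (BT.leaf (nat_lit 30168341)) (BT.leaf (nat_lit 30289429))) (BT.node (nat_lit 10538432) (BT.leaf (nat_lit 30289433)) (BT.leaf (nat_lit 30289437))))) (BT.node (nat_lit 10538752) (BT.node (nat_lit 10538624) (BT.node (nat_lit 10538560) (BT.leaf (nat_lit 39274521)) (BT.leaf (nat_lit 39274525))) (BT.node (nat_lit 10538688) (BT.leaf (nat_lit 27978513)) (BT.leaf (nat_lit 43654149)))) (BT.node (nat_lit 10538880) (BT.node (nat_lit 10538816) (BT.leaf (nat_lit 47843609)) (BT.leaf (nat_lit 47843613))) (BT.node (nat_lit 10538944) (BT.leaf (nat_lit 32238113)) (BT.leaf (nat_lit 38883865))))))) (BT.node (nat_lit 10540032) (BT.node (nat_lit 10539520) (BT.node (nat_lit 10539264) (BT.node (nat_lit 10539136) (BT.node (nat_lit 10539072) (BT.leaf (nat_lit 49734661)) (BT.leaf (nat_lit 42525473))) (BT.node (nat_lit 10539200) (BT.leaf (nat_lit 40756501)) (BT.leaf (nat_lit 40756505)))) (BT.node (nat_lit 10539392) (BT.node (nat_lit 10539328) (BT.leaf (nat_lit 48847125)) (BT.leaf (nat_lit 48782869))) (BT.node (nat_lit 10539456) (BT.leaf (nat_lit 46360341)) (BT.leaf (nat_lit 48733977))))) (BT.node (nat_lit 10539776) (BT.node (nat_lit 10539648) (BT.node (nat_lit 10539584) (BT.leaf (nat_lit 44740121)) (BT.leaf (nat_lit 44740125))) (BT.node (nat_lit 10539712) (BT.leaf (nat_lit 27589653)) (BT.leaf (nat_lit 33032969)))) (BT.node (nat_lit 10539904) (BT.node (nat_lit 10539840) (BT.leaf (nat_lit 33032973)) (BT.leaf (nat_lit 31722517))) (BT.node (nat_lit 10539968) (BT.leaf (nat_lit 33032985)) (BT.leaf (nat_lit 33032989)))))) (BT.node (nat_lit 10540360) (BT.node (nat_lit 10540224) (BT.node (nat_lit 10540160) (BT.node (nat_lit 10540096) (BT.leaf (nat_lit 47891741)) (BT.leaf (nat_lit 48949269))) (BT.node (nat_lit 10540162) (BT.leaf (nat_lit 45506565)) (BT.leaf (nat_lit 763124)))) (BT.node (nat_lit 10540289) (BT.node (nat_lit 10540288) (BT.leaf (nat_lit 31648289)) (BT.leaf (nat_lit 44863009))) (BT.node (nat_lit 10540352) (BT.leaf (nat_lit 789404)) (BT.leaf (nat_lit 49768205))))) (BT.node (nat_lit 10540608) (BT.node (nat_lit 10540480) (BT.node (nat_lit 10540416) (BT.leaf (nat_lit 701108)) (BT.leaf (nat_lit 27421713))) (BT.node (nat_lit 10540544) (BT.leaf (nat_lit 39125509)) (BT.leaf (nat_lit 45879817)))) (BT.node (nat_lit 10540800) (BT.node (nat_lit 10540672) (BT.leaf (nat_lit 29982993)) (BT.leaf (nat_lit 31648265))) (BT.node (nat_lit 10540808) (BT.leaf (nat_lit 30434325)) (BT.leaf (nat_lit 684136)))))))) (BT.node (nat_lit 10542912) (BT.node (nat_lit 10541888) (BT.node (nat_lit 10541376) (BT.node (nat_lit 10541120) (BT.node (nat_lit 10540992) (BT.node (nat_lit 10540928) (BT.leaf (nat_lit 42732309)) (BT.leaf (nat_lit 31244049))) (BT.node (nat_lit 10541056) (BT.leaf (nat_lit 31244053)) (BT.leaf (nat_lit 29988625)))) (BT.node (nat_lit 10541248) (BT.node (nat_lit 10541184) (BT.leaf (nat_lit 30275865)) (BT.leaf (nat_lit 41636357))) (BT.node (nat_lit 10541312) (BT.leaf (nat_lit 41636369)) (BT.leaf (nat_lit 41636373))))) (BT.node (nat_lit 10541632) (BT.node (nat_lit 10541504) (BT.node (nat_lit 10541440) (BT.leaf (nat_lit 37942305)) (BT.leaf (nat_lit 45983765))) (BT.node (nat_lit 10541568) (BT.leaf (nat_lit 47850257)) (BT.leaf (nat_lit 27320329)))) (BT.node (nat_lit 10541760) (BT.node (nat_lit 10541696) (BT.leaf (nat_lit 27838997)) (BT.leaf (nat_lit 46609685))) (BT.node (nat_lit 10541824) (BT.leaf (nat_lit 39303949)) (BT.leaf (nat_lit 38007057)))))) (BT.node (nat_lit 10542400) (BT.node (nat_lit 10542144) (BT.node (nat_lit 10542016) (BT.node (nat_lit 10541952) (BT.leaf (nat_lit 47013133)) (BT.leaf (nat_lit 49398293))) (BT.node (nat_lit 10542080) (BT.leaf (nat_lit 42167833)) (BT.leaf (nat_lit 39303945)))) (BT.node (nat_lit 10542272) (BT.node (nat_lit 10542208) (BT.leaf (nat_lit 39303961)) (BT.leaf (nat_lit 39303965))) (BT.node (nat_lit 10542336) (BT.leaf (nat_lit 27320849)) (BT.leaf (nat_lit 32671765))))) (BT.node (nat_lit 10542656) (BT.node (nat_lit 10542528) (BT.node (nat_lit 10542464) (BT.leaf (nat_lit 30100497)) (BT.leaf (nat_lit 34750745))) (BT.node (nat_lit 10542592) (BT.leaf (nat_lit 40617485)) (BT.leaf (nat_lit 27321109)))) (BT.node (nat_lit 10542784) (BT.node (nat_lit 10542720) (BT.leaf (nat_lit 40618529)) (BT.leaf (nat_lit 29992977))) (BT.node (nat_lit 10542848) (BT.leaf (nat_lit 48504605)) (BT.leaf (nat_lit 34440469))))))) (BT.node (nat_lit 10543808) (BT.node (nat_lit 10543424) (BT.node (nat_lit 10543168) (BT.node (nat_lit 10543040) (BT.node (nat_lit 10542976) (BT.leaf (nat_lit 48363017)) (BT.leaf (nat_lit 40617745))) (BT.node (nat_lit 10543104) (BT.leaf (nat_lit 37786637)) (BT.leaf (nat_lit 40617761)))) (BT.node (nat_lit 10543296) (BT.node (nat_lit 10543232) (BT.leaf (nat_lit 46382625)) (BT.leaf (nat_lit 29992993))) (BT.node (nat_lit 10543360) (BT.leaf (nat_lit 45709333)) (BT.leaf (nat_lit 29993249))))) (BT.node (nat_lit 10543680) (BT.node (nat_lit 10543552) (BT.node (nat_lit 10543488) (BT.leaf (nat_lit 29993493)) (BT.leaf (nat_lit 37786649))) (BT.node (nat_lit 10543616) (BT.leaf (nat_lit 42855953)) (BT.leaf (nat_lit 29995281)))) (BT.node (nat_lit 10543747) (BT.node (nat_lit 10543744) (BT.leaf (nat_lit 29714705)) (BT.leaf (nat_lit 42720517))) (BT.node (nat_lit 10543748) (BT.leaf (nat_lit 693856)) (BT.leaf (nat_lit 693856)))))) (BT.node (nat_lit 10544320) (BT.node (nat_lit 10544064) (BT.node (nat_lit 10543936) (BT.node (nat_lit 10543872) (BT.leaf (nat_lit 40232477)) (BT.leaf (nat_lit 29995025))) (BT.node (nat_lit 10544000) (BT.leaf (nat_lit 50412825)) (BT.leaf (nat_lit 29994009)))) (BT.node (nat_lit 10544192) (BT.node (nat_lit 10544128) (BT.leaf (nat_lit 29994265)) (BT.leaf (nat_lit 42514961))) (BT.node (nat_lit 10544256) (BT.leaf (nat_lit 31142677)) (BT.leaf (nat_lit 29994781))))) (BT.node (nat_lit 10544576) (BT.node (nat_lit 10544448) (BT.node (nat_lit 10544384) (BT.leaf (nat_lit 29280801)) (BT.leaf (nat_lit 50740257))) (BT.node (nat_lit 10544512) (BT.leaf (nat_lit 41751317)) (BT.leaf (nat_lit 30944537)))) (BT.node (nat_lit 10544768) (BT.node (nat_lit 10544640) (BT.leaf (nat_lit 30944541)) (BT.leaf (nat_lit 43413017))) (BT.node (nat_lit 10544832) (BT.leaf (nat_lit 39454745)) (BT.leaf (nat_lit 44348701)))))))))) (BT.node (nat_lit 10552384) (BT.node (nat_lit 10548480) (BT.node (nat_lit 10546752) (BT.node (nat_lit 10545920) (BT.node (nat_lit 10545344) (BT.node (nat_lit 10545152) (BT.node (nat_lit 10545024) (BT.node (nat_lit 10544960) (BT.leaf (nat_lit 29985297)) (BT.leaf (nat_lit 43500321))) (BT.node (nat_lit 10545088) (BT.leaf (nat_lit 38275345)) (BT.leaf (nat_lit 46351889)))) (BT.node (nat_lit 10545217) (BT.node (nat_lit 10545216) (BT.leaf (nat_lit 41809433)) (BT.leaf (nat_lit 41809437))) (BT.node (nat_lit 10545280) (BT.leaf (nat_lit 756408)) (BT.leaf (nat_lit 42698269))))) (BT.node (nat_lit 10545600) (BT.node (nat_lit 10545472) (BT.node (nat_lit 10545408) (BT.leaf (nat_lit 49361681)) (BT.leaf (nat_lit 40981025))) (BT.node (nat_lit 10545536) (BT.leaf (nat_lit 29999137)) (BT.leaf (nat_lit 41623065)))) (BT.node (nat_lit 10545728) (BT.node (nat_lit 10545664) (BT.leaf (nat_lit 41623069)) (BT.leaf (nat_lit 45515809))) (BT.node (nat_lit 10545856) (BT.leaf (nat_lit 40980997)) (BT.leaf (nat_lit 42183709)))))) (BT.node (nat_lit 10546240) (BT.node (nat_lit 10546056) (BT.node (nat_lit 10546048) (BT.node (nat_lit 10545984) (BT.leaf (nat_lit 38661641)) (BT.leaf (nat_lit 42978577))) (BT.node (nat_lit 10546051) (BT.leaf (nat_lit 35085337)) (BT.leaf (nat_lit 796180)))) (BT.node (nat_lit 10546176) (BT.node (nat_lit 10546112) (BT.leaf (nat_lit 796180)) (BT.leaf (nat_lit 43725837))) (BT.node (nat_lit 10546177) (BT.leaf (nat_lit 31693857)) (BT.leaf (nat_lit 751780))))) (BT.node (nat_lit 10546496) (BT.node (nat_lit 10546368) (BT.node (nat_lit 10546304) (BT.leaf (nat_lit 47792925)) (BT.leaf (nat_lit 41009185))) (BT.node (nat_lit 10546432) (BT.leaf (nat_lit 39880965)) (BT.leaf (nat_lit 30001945)))) (BT.node (nat_lit 10546624) (BT.node (nat_lit 10546560) (BT.leaf (nat_lit 32052257)) (BT.leaf (nat_lit 30042129))) (BT.node (nat_lit 10546688) (BT.leaf (nat_lit 45000993)) (BT.leaf (nat_lit 49114657))))))) (BT.node (nat_lit 10547648) (BT.node (nat_lit 10547200) (BT.node (nat_lit 10546944) (BT.node (nat_lit 10546880) (BT.node (nat_lit 10546816) (BT.leaf (nat_lit 30001185)) (BT.leaf (nat_lit 43599641))) (BT.node (nat_lit 10546888) (BT.leaf (nat_lit 34095881)) (BT.leaf (nat_lit 663816)))) (BT.node (nat_lit 10547072) (BT.node (nat_lit 10547008) (BT.leaf (nat_lit 39542789)) (BT.leaf (nat_lit 31589905))) (BT.node (nat_lit 10547136) (BT.leaf (nat_lit 30003213)) (BT.leaf (nat_lit 45235973))))) (BT.node (nat_lit 10547399) (BT.node (nat_lit 10547328) (BT.node (nat_lit 10547264) (BT.leaf (nat_lit 49236997)) (BT.leaf (nat_lit 30003209))) (BT.node (nat_lit 10547392) (BT.leaf (nat_lit 37789449)) (BT.leaf (nat_lit 37915149)))) (BT.node (nat_lit 10547520) (BT.node (nat_lit 10547456) (BT.leaf (nat_lit 711604)) (BT.leaf (nat_lit 45236257))) (BT.node (nat_lit 10547584) (BT.leaf (nat_lit 32874253)) (BT.leaf (nat_lit 49238049)))))) (BT.node (nat_lit 10547968) (BT.node (nat_lit 10547776) (BT.node (nat_lit 10547715) (BT.node (nat_lit 10547712) (BT.leaf (nat_lit 30003489)) (BT.leaf (nat_lit 40339461))) (BT.node (nat_lit 10547718) (BT.leaf (nat_lit 672788)) (BT.leaf (nat_lit 672788)))) (BT.node (nat_lit 10547904) (BT.node (nat_lit 10547840) (BT.leaf (nat_lit 40240917)) (BT.leaf (nat_lit 39740685))) (BT.node (nat_lit 10547905) (BT.leaf (nat_lit 40121613)) (BT.leaf (nat_lit 768796))))) (BT.node (nat_lit 10548224) (BT.node (nat_lit 10548096) (BT.node (nat_lit 10548032) (BT.leaf (nat_lit 42488353)) (BT.leaf (nat_lit 27322897))) (BT.node (nat_lit 10548160) (BT.leaf (nat_lit 31494413)) (BT.leaf (nat_lit 31494425)))) (BT.node (nat_lit 10548352) (BT.node (nat_lit 10548288) (BT.leaf (nat_lit 31494429)) (BT.leaf (nat_lit 32229917))) (BT.node (nat_lit 10548416) (BT.leaf (nat_lit 31731233)) (BT.leaf (nat_lit 48896801)))))))) (BT.node (nat_lit 10550720) (BT.node (nat_lit 10549760) (BT.node (nat_lit 10549056) (BT.node (nat_lit 10548800) (BT.node (nat_lit 10548608) (BT.node (nat_lit 10548544) (BT.leaf (nat_lit 37760033)) (BT.leaf (nat_lit 30095125))) (BT.node (nat_lit 10548672) (BT.leaf (nat_lit 30002969)) (BT.leaf (nat_lit 48534293)))) (BT.node (nat_lit 10548928) (BT.node (nat_lit 10548864) (BT.leaf (nat_lit 39904533)) (BT.leaf (nat_lit 39904537))) (BT.node (nat_lit 10548992) (BT.leaf (nat_lit 39904541)) (BT.leaf (nat_lit 40159253))))) (BT.node (nat_lit 10549440) (BT.node (nat_lit 10549184) (BT.node (nat_lit 10549120) (BT.leaf (nat_lit 40159257)) (BT.leaf (nat_lit 42197765))) (BT.node (nat_lit 10549376) (BT.leaf (nat_lit 33986581)) (BT.leaf (nat_lit 43567113)))) (BT.node (nat_lit 10549568) (BT.node (nat_lit 10549504) (BT.leaf (nat_lit 39309085)) (BT.leaf (nat_lit 37825289))) (BT.node (nat_lit 10549696) (BT.leaf (nat_lit 37825293)) (BT.leaf (nat_lit 37825305)))))) (BT.node (nat_lit 10550272) (BT.node (nat_lit 10550016) (BT.node (nat_lit 10549888) (BT.node (nat_lit 10549824) (BT.leaf (nat_lit 37825309)) (BT.leaf (nat_lit 38344973))) (BT.node (nat_lit 10549952) (BT.leaf (nat_lit 40954389)) (BT.leaf (nat_lit 45870857)))) (BT.node (nat_lit 10550144) (BT.node (nat_lit 10550080) (BT.leaf (nat_lit 31756309)) (BT.leaf (nat_lit 30422289))) (BT.node (nat_lit 10550208) (BT.leaf (nat_lit 30422293)) (BT.leaf (nat_lit 30009617))))) (BT.node (nat_lit 10550464) (BT.node (nat_lit 10550336) (BT.node (nat_lit 10550275) (BT.leaf (nat_lit 43051041)) (BT.leaf (nat_lit 777236))) (BT.node (nat_lit 10550400) (BT.leaf (nat_lit 39128085)) (BT.leaf (nat_lit 39128093)))) (BT.node (nat_lit 10550592) (BT.node (nat_lit 10550528) (BT.leaf (nat_lit 41554441)) (BT.leaf (nat_lit 41554445))) (BT.node (nat_lit 10550656) (BT.leaf (nat_lit 49326881)) (BT.leaf (nat_lit 45289501))))))) (BT.node (nat_lit 10551616) (BT.node (nat_lit 10551232) (BT.node (nat_lit 10550976) (BT.node (nat_lit 10550848) (BT.node (nat_lit 10550784) (BT.leaf (nat_lit 41554465)) (BT.leaf (nat_lit 44837641))) (BT.node (nat_lit 10550912) (BT.leaf (nat_lit 44836877)) (BT.leaf (nat_lit 44838153)))) (BT.node (nat_lit 10551104) (BT.node (nat_lit 10551040) (BT.leaf (nat_lit 46756881)) (BT.leaf (nat_lit 31113745))) (BT.node (nat_lit 10551168) (BT.leaf (nat_lit 32304913)) (BT.leaf (nat_lit 34420753))))) (BT.node (nat_lit 10551424) (BT.node (nat_lit 10551360) (BT.node (nat_lit 10551296) (BT.leaf (nat_lit 38864409)) (BT.leaf (nat_lit 38864413))) (BT.node (nat_lit 10551367) (BT.leaf (nat_lit 36797981)) (BT.leaf (nat_lit 811820)))) (BT.node (nat_lit 10551552) (BT.node (nat_lit 10551488) (BT.leaf (nat_lit 39129621)) (BT.leaf (nat_lit 30014753))) (BT.node (nat_lit 10551556) (BT.leaf (nat_lit 35046673)) (BT.leaf (nat_lit 795812)))))) (BT.node (nat_lit 10551936) (BT.node (nat_lit 10551683) (BT.node (nat_lit 10551681) (BT.node (nat_lit 10551680) (BT.leaf (nat_lit 50931729)) (BT.leaf (nat_lit 50125337))) (BT.node (nat_lit 10551682) (BT.leaf (nat_lit 795804)) (BT.leaf (nat_lit 795804)))) (BT.node (nat_lit 10551808) (BT.node (nat_lit 10551744) (BT.leaf (nat_lit 795804)) (BT.leaf (nat_lit 34058265))) (BT.node (nat_lit 10551872) (BT.leaf (nat_lit 34058269)) (BT.leaf (nat_lit 39584273))))) (BT.node (nat_lit 10552192) (BT.node (nat_lit 10552064) (BT.node (nat_lit 10552000) (BT.leaf (nat_lit 41505037)) (BT.leaf (nat_lit 31267337))) (BT.node (nat_lit 10552128) (BT.leaf (nat_lit 31267341)) (BT.leaf (nat_lit 30014997)))) (BT.node (nat_lit 10552257) (BT.node (nat_lit 10552256) (BT.leaf (nat_lit 41955609)) (BT.leaf (nat_lit 41955613))) (BT.node (nat_lit 10552320) (BT.leaf (nat_lit 759176)) (BT.leaf (nat_lit 41112073))))))))) (BT.node (nat_lit 10556032) (BT.node (nat_lit 10554179) (BT.node (nat_lit 10553280) (BT.node (nat_lit 10552768) (BT.node (nat_lit 10552640) (BT.node (nat_lit 10552512) (BT.node (nat_lit 10552448) (BT.leaf (nat_lit 45429785)) (BT.leaf (nat_lit 45429269))) (BT.node (nat_lit 10552576) (BT.leaf (nat_lit 27523089)) (BT.leaf (nat_lit 30936597)))) (BT.node (nat_lit 10552704) (BT.node (nat_lit 10552643) (BT.leaf (nat_lit 46062625)) (BT.leaf (nat_lit 755880))) (BT.node (nat_lit 10552712) (BT.leaf (nat_lit 42210585)) (BT.leaf (nat_lit 755884))))) (BT.node (nat_lit 10553024) (BT.node (nat_lit 10552896) (BT.node (nat_lit 10552832) (BT.leaf (nat_lit 30015505)) (BT.leaf (nat_lit 40508689))) (BT.node (nat_lit 10552960) (BT.leaf (nat_lit 30016017)) (BT.leaf (nat_lit 38585353)))) (BT.node (nat_lit 10553152) (BT.node (nat_lit 10553088) (BT.leaf (nat_lit 38125085)) (BT.leaf (nat_lit 38125065))) (BT.node (nat_lit 10553216) (BT.leaf (nat_lit 42212377)) (BT.leaf (nat_lit 36773141)))))) (BT.node (nat_lit 10553792) (BT.node (nat_lit 10553536) (BT.node (nat_lit 10553408) (BT.node (nat_lit 10553344) (BT.leaf (nat_lit 30017041)) (BT.leaf (nat_lit 45750293))) (BT.node (nat_lit 10553472) (BT.leaf (nat_lit 45750297)) (BT.leaf (nat_lit 35198233)))) (BT.node (nat_lit 10553664) (BT.node (nat_lit 10553600) (BT.leaf (nat_lit 47803933)) (BT.leaf (nat_lit 30018309))) (BT.node (nat_lit 10553728) (BT.leaf (nat_lit 39458053)) (BT.leaf (nat_lit 40629253))))) (BT.node (nat_lit 10554048) (BT.node (nat_lit 10553920) (BT.node (nat_lit 10553856) (BT.leaf (nat_lit 30018577)) (BT.leaf (nat_lit 29744145))) (BT.node (nat_lit 10553984) (BT.leaf (nat_lit 42215965)) (BT.leaf (nat_lit 38092053)))) (BT.node (nat_lit 10554117) (BT.node (nat_lit 10554112) (BT.leaf (nat_lit 46503441)) (BT.leaf (nat_lit 31425041))) (BT.node (nat_lit 10554176) (BT.leaf (nat_lit 756920)) (BT.leaf (nat_lit 49525509))))))) (BT.node (nat_lit 10555200) (BT.node (nat_lit 10554688) (BT.node (nat_lit 10554432) (BT.node (nat_lit 10554304) (BT.node (nat_lit 10554240) (BT.leaf (nat_lit 688240)) (BT.leaf (nat_lit 27554845))) (BT.node (nat_lit 10554368) (BT.leaf (nat_lit 35172361)) (BT.leaf (nat_lit 46466333)))) (BT.node (nat_lit 10554560) (BT.node (nat_lit 10554496) (BT.leaf (nat_lit 39009797)) (BT.leaf (nat_lit 32983573))) (BT.node (nat_lit 10554624) (BT.leaf (nat_lit 38539781)) (BT.leaf (nat_lit 32983581))))) (BT.node (nat_lit 10554944) (BT.node (nat_lit 10554816) (BT.node (nat_lit 10554752) (BT.leaf (nat_lit 42235681)) (BT.leaf (nat_lit 31327497))) (BT.node (nat_lit 10554880) (BT.leaf (nat_lit 35147541)) (BT.leaf (nat_lit 30159385)))) (BT.node (nat_lit 10555072) (BT.node (nat_lit 10555008) (BT.leaf (nat_lit 30159389)) (BT.leaf (nat_lit 49244705))) (BT.node (nat_lit 10555136) (BT.leaf (nat_lit 31327513)) (BT.leaf (nat_lit 31327517)))))) (BT.node (nat_lit 10555648) (BT.node (nat_lit 10555392) (BT.node (nat_lit 10555264) (BT.node (nat_lit 10555205) (BT.leaf (nat_lit 40941601)) (BT.leaf (nat_lit 777764))) (BT.node (nat_lit 10555328) (BT.leaf (nat_lit 42221341)) (BT.leaf (nat_lit 50927905)))) (BT.node (nat_lit 10555520) (BT.node (nat_lit 10555456) (BT.leaf (nat_lit 45642505)) (BT.leaf (nat_lit 39947545))) (BT.node (nat_lit 10555584) (BT.leaf (nat_lit 39947549)) (BT.leaf (nat_lit 50928133))))) (BT.node (nat_lit 10555776) (BT.node (nat_lit 10555714) (BT.node (nat_lit 10555712) (BT.leaf (nat_lit 32349969)) (BT.leaf (nat_lit 32349973))) (BT.node (nat_lit 10555719) (BT.leaf (nat_lit 686048)) (BT.leaf (nat_lit 686048)))) (BT.node (nat_lit 10555904) (BT.node (nat_lit 10555840) (BT.leaf (nat_lit 44771341)) (BT.leaf (nat_lit 42304017))) (BT.node (nat_lit 10555968) (BT.leaf (nat_lit 42304025)) (BT.leaf (nat_lit 42304033)))))))) (BT.node (nat_lit 10558016) (BT.node (nat_lit 10557056) (BT.node (nat_lit 10556608) (BT.node (nat_lit 10556352) (BT.node (nat_lit 10556224) (BT.node (nat_lit 10556096) (BT.leaf (nat_lit 30743569)) (BT.leaf (nat_lit 43076633))) (BT.node (nat_lit 10556288) (BT.leaf (nat_lit 40695329)) (BT.leaf (nat_lit 31896601)))) (BT.node (nat_lit 10556480) (BT.node (nat_lit 10556416) (BT.leaf (nat_lit 31896605)) (BT.leaf (nat_lit 42242849))) (BT.node (nat_lit 10556544) (BT.leaf (nat_lit 43075853)) (BT.leaf (nat_lit 41714465))))) (BT.node (nat_lit 10556864) (BT.node (nat_lit 10556736) (BT.node (nat_lit 10556672) (BT.leaf (nat_lit 46087173)) (BT.leaf (nat_lit 37127441))) (BT.node (nat_lit 10556800) (BT.leaf (nat_lit 30049029)) (BT.leaf (nat_lit 44317189)))) (BT.node (nat_lit 10556928) (BT.node (nat_lit 10556867) (BT.leaf (nat_lit 41046293)) (BT.leaf (nat_lit 686504))) (BT.node (nat_lit 10556992) (BT.leaf (nat_lit 43452953)) (BT.leaf (nat_lit 43452957)))))) (BT.node (nat_lit 10557504) (BT.node (nat_lit 10557248) (BT.node (nat_lit 10557184) (BT.node (nat_lit 10557120) (BT.leaf (nat_lit 40376093)) (BT.leaf (nat_lit 45719833))) (BT.node (nat_lit 10557189) (BT.leaf (nat_lit 41046301)) (BT.leaf (nat_lit 714552)))) (BT.node (nat_lit 10557376) (BT.node (nat_lit 10557312) (BT.leaf (nat_lit 30031121)) (BT.leaf (nat_lit 42319393))) (BT.node (nat_lit 10557440) (BT.leaf (nat_lit 30032157)) (BT.leaf (nat_lit 39208717))))) (BT.node (nat_lit 10557760) (BT.node (nat_lit 10557632) (BT.node (nat_lit 10557568) (BT.leaf (nat_lit 52081413)) (BT.leaf (nat_lit 28600341))) (BT.node (nat_lit 10557696) (BT.leaf (nat_lit 31098373)) (BT.leaf (nat_lit 38336789)))) (BT.node (nat_lit 10557888) (BT.node (nat_lit 10557824) (BT.leaf (nat_lit 37963537)) (BT.leaf (nat_lit 38606869))) (BT.node (nat_lit 10557952) (BT.leaf (nat_lit 49544721)) (BT.leaf (nat_lit 48476193))))))) (BT.node (nat_lit 10558912) (BT.node (nat_lit 10558400) (BT.node (nat_lit 10558272) (BT.node (nat_lit 10558144) (BT.node (nat_lit 10558080) (BT.leaf (nat_lit 47304993)) (BT.leaf (nat_lit 49518873))) (BT.node (nat_lit 10558208) (BT.leaf (nat_lit 30647061)) (BT.leaf (nat_lit 34344213)))) (BT.node (nat_lit 10558337) (BT.node (nat_lit 10558336) (BT.leaf (nat_lit 31433221)) (BT.leaf (nat_lit 47659785))) (BT.node (nat_lit 10558344) (BT.leaf (nat_lit 789932)) (BT.leaf (nat_lit 789932))))) (BT.node (nat_lit 10558656) (BT.node (nat_lit 10558528) (BT.node (nat_lit 10558464) (BT.leaf (nat_lit 30595097)) (BT.leaf (nat_lit 42447625))) (BT.node (nat_lit 10558592) (BT.leaf (nat_lit 50218513)) (BT.leaf (nat_lit 37023505)))) (BT.node (nat_lit 10558784) (BT.node (nat_lit 10558720) (BT.leaf (nat_lit 35750433)) (BT.leaf (nat_lit 31875865))) (BT.node (nat_lit 10558848) (BT.leaf (nat_lit 31875869)) (BT.leaf (nat_lit 49909009)))))) (BT.node (nat_lit 10559424) (BT.node (nat_lit 10559168) (BT.node (nat_lit 10559040) (BT.node (nat_lit 10558976) (BT.leaf (nat_lit 30981645)) (BT.leaf (nat_lit 27312929))) (BT.node (nat_lit 10559104) (BT.leaf (nat_lit 37971989)) (BT.leaf (nat_lit 31656205)))) (BT.node (nat_lit 10559296) (BT.node (nat_lit 10559232) (BT.leaf (nat_lit 50504721)) (BT.leaf (nat_lit 30500889))) (BT.node (nat_lit 10559360) (BT.leaf (nat_lit 30500893)) (BT.leaf (nat_lit 30044181))))) (BT.node (nat_lit 10559680) (BT.node (nat_lit 10559552) (BT.node (nat_lit 10559488) (BT.leaf (nat_lit 48223773)) (BT.leaf (nat_lit 30700053))) (BT.node (nat_lit 10559616) (BT.leaf (nat_lit 39232021)) (BT.leaf (nat_lit 37077781)))) (BT.node (nat_lit 10559683) (BT.node (nat_lit 10559682) (BT.leaf (nat_lit 42455569)) (BT.leaf (nat_lit 677144))) (BT.node (nat_lit 10559686) (BT.leaf (nat_lit 677144)) (BT.leaf (nat_lit 677144)))))))))))) (BT.node (nat_lit 10590784) (BT.node (nat_lit 10575488) (BT.node (nat_lit 10567680) (BT.node (nat_lit 10563712) (BT.node (nat_lit 10561664) (BT.node (nat_lit 10560704) (BT.node (nat_lit 10560192) (BT.node (nat_lit 10559936) (BT.node (nat_lit 10559808) (BT.node (nat_lit 10559744) (BT.leaf (nat_lit 677144)) (BT.leaf (nat_lit 30597905))) (BT.node (nat_lit 10559872) (BT.leaf (nat_lit 37077277)) (BT.leaf (nat_lit 42461197)))) (BT.node (nat_lit 10560064) (BT.node (nat_lit 10560000) (BT.leaf (nat_lit 42239513)) (BT.leaf (nat_lit 50051345))) (BT.node (nat_lit 10560128) (BT.leaf (nat_lit 50051361)) (BT.leaf (nat_lit 42460681))))) (BT.node (nat_lit 10560448) (BT.node (nat_lit 10560320) (BT.node (nat_lit 10560256) (BT.leaf (nat_lit 31173393)) (BT.leaf (nat_lit 42241309))) (BT.node (nat_lit 10560384) (BT.leaf (nat_lit 48796449)) (BT.leaf (nat_lit 48796677)))) (BT.node (nat_lit 10560576) (BT.node (nat_lit 10560512) (BT.leaf (nat_lit 43118621)) (BT.leaf (nat_lit 42431497))) (BT.node (nat_lit 10560640) (BT.leaf (nat_lit 30683149)) (BT.leaf (nat_lit 38636817)))))) (BT.node (nat_lit 10561219) (BT.node (nat_lit 10560960) (BT.node (nat_lit 10560832) (BT.node (nat_lit 10560768) (BT.leaf (nat_lit 38636309)) (BT.leaf (nat_lit 42243341))) (BT.node (nat_lit 10560896) (BT.leaf (nat_lit 38038805)) (BT.leaf (nat_lit 32784401)))) (BT.node (nat_lit 10561088) (BT.node (nat_lit 10561024) (BT.leaf (nat_lit 32379673)) (BT.leaf (nat_lit 48215829))) (BT.node (nat_lit 10561152) (BT.leaf (nat_lit 32280857)) (BT.leaf (nat_lit 32280861))))) (BT.node (nat_lit 10561408) (BT.node (nat_lit 10561280) (BT.node (nat_lit 10561223) (BT.leaf (nat_lit 680016)) (BT.leaf (nat_lit 680016))) (BT.node (nat_lit 10561344) (BT.leaf (nat_lit 44224801)) (BT.leaf (nat_lit 42435337)))) (BT.node (nat_lit 10561536) (BT.node (nat_lit 10561472) (BT.leaf (nat_lit 34067477)) (BT.leaf (nat_lit 39392781))) (BT.node (nat_lit 10561600) (BT.leaf (nat_lit 39392793)) (BT.leaf (nat_lit 39392797))))))) (BT.node (nat_lit 10562624) (BT.node (nat_lit 10562048) (BT.node (nat_lit 10561792) (BT.node (nat_lit 10561667) (BT.node (nat_lit 10561666) (BT.leaf (nat_lit 41111557)) (BT.leaf (nat_lit 677896))) (BT.node (nat_lit 10561728) (BT.leaf (nat_lit 677896)) (BT.leaf (nat_lit 42311969)))) (BT.node (nat_lit 10561920) (BT.node (nat_lit 10561856) (BT.leaf (nat_lit 41675029)) (BT.leaf (nat_lit 42228769))) (BT.node (nat_lit 10561984) (BT.leaf (nat_lit 39818517)) (BT.leaf (nat_lit 39818521))))) (BT.node (nat_lit 10562304) (BT.node (nat_lit 10562176) (BT.node (nat_lit 10562112) (BT.leaf (nat_lit 39818525)) (BT.leaf (nat_lit 39508761))) (BT.node (nat_lit 10562240) (BT.leaf (nat_lit 39508765)) (BT.leaf (nat_lit 34001681)))) (BT.node (nat_lit 10562496) (BT.node (nat_lit 10562432) (BT.leaf (nat_lit 42322977)) (BT.leaf (nat_lit 31474953))) (BT.node (nat_lit 10562560) (BT.leaf (nat_lit 31474957)) (BT.leaf (nat_lit 48723745)))))) (BT.node (nat_lit 10563200) (BT.node (nat_lit 10562880) (BT.node (nat_lit 10562752) (BT.node (nat_lit 10562688) (BT.leaf (nat_lit 31474969)) (BT.leaf (nat_lit 31474973))) (BT.node (nat_lit 10562816) (BT.leaf (nat_lit 31474977)) (BT.leaf (nat_lit 50598933)))) (BT.node (nat_lit 10563008) (BT.node (nat_lit 10562944) (BT.leaf (nat_lit 43971105)) (BT.leaf (nat_lit 40295705))) (BT.node (nat_lit 10563136) (BT.leaf (nat_lit 42409993)) (BT.leaf (nat_lit 30548765))))) (BT.node (nat_lit 10563456) (BT.node (nat_lit 10563328) (BT.node (nat_lit 10563264) (BT.leaf (nat_lit 42904589)) (BT.leaf (nat_lit 32523541))) (BT.node (nat_lit 10563392) (BT.leaf (nat_lit 32523545)) (BT.leaf (nat_lit 32523549)))) (BT.node (nat_lit 10563584) (BT.node (nat_lit 10563520) (BT.leaf (nat_lit 35338521)) (BT.leaf (nat_lit 28360977))) (BT.node (nat_lit 10563648) (BT.leaf (nat_lit 30296341)) (BT.leaf (nat_lit 44423181)))))))) (BT.node (nat_lit 10565696) (BT.node (nat_lit 10564672) (BT.node (nat_lit 10564168) (BT.node (nat_lit 10563968) (BT.node (nat_lit 10563840) (BT.node (nat_lit 10563776) (BT.leaf (nat_lit 30289941)) (BT.leaf (nat_lit 44423193))) (BT.node (nat_lit 10563904) (BT.leaf (nat_lit 42583325)) (BT.leaf (nat_lit 42551577)))) (BT.node (nat_lit 10564096) (BT.node (nat_lit 10564032) (BT.leaf (nat_lit 48535557)) (BT.leaf (nat_lit 42282505))) (BT.node (nat_lit 10564160) (BT.leaf (nat_lit 42554137)) (BT.leaf (nat_lit 41987589))))) (BT.node (nat_lit 10564416) (BT.node (nat_lit 10564288) (BT.node (nat_lit 10564224) (BT.leaf (nat_lit 791072)) (BT.leaf (nat_lit 42562581))) (BT.node (nat_lit 10564352) (BT.leaf (nat_lit 42568213)) (BT.leaf (nat_lit 31186713)))) (BT.node (nat_lit 10564544) (BT.node (nat_lit 10564480) (BT.leaf (nat_lit 41113105)) (BT.leaf (nat_lit 42079249))) (BT.node (nat_lit 10564608) (BT.leaf (nat_lit 42563341)) (BT.leaf (nat_lit 30051345)))))) (BT.node (nat_lit 10565184) (BT.node (nat_lit 10564928) (BT.node (nat_lit 10564800) (BT.node (nat_lit 10564736) (BT.leaf (nat_lit 42621217)) (BT.leaf (nat_lit 30765069))) (BT.node (nat_lit 10564864) (BT.leaf (nat_lit 47449365)) (BT.leaf (nat_lit 30051601)))) (BT.node (nat_lit 10565056) (BT.node (nat_lit 10564992) (BT.leaf (nat_lit 48627973)) (BT.leaf (nat_lit 30828825))) (BT.node (nat_lit 10565120) (BT.leaf (nat_lit 30828829)) (BT.leaf (nat_lit 42541837))))) (BT.node (nat_lit 10565440) (BT.node (nat_lit 10565312) (BT.node (nat_lit 10565248) (BT.leaf (nat_lit 43237917)) (BT.leaf (nat_lit 30051869))) (BT.node (nat_lit 10565376) (BT.leaf (nat_lit 41175817)) (BT.leaf (nat_lit 30051865)))) (BT.node (nat_lit 10565568) (BT.node (nat_lit 10565504) (BT.leaf (nat_lit 30362141)) (BT.leaf (nat_lit 48253209))) (BT.node (nat_lit 10565632) (BT.leaf (nat_lit 32770589)) (BT.leaf (nat_lit 36396309))))))) (BT.node (nat_lit 10566720) (BT.node (nat_lit 10566208) (BT.node (nat_lit 10565952) (BT.node (nat_lit 10565824) (BT.node (nat_lit 10565760) (BT.leaf (nat_lit 46490389)) (BT.leaf (nat_lit 38221345))) (BT.node (nat_lit 10565888) (BT.leaf (nat_lit 42541345)) (BT.leaf (nat_lit 40919557)))) (BT.node (nat_lit 10566080) (BT.node (nat_lit 10566016) (BT.leaf (nat_lit 30053141)) (BT.leaf (nat_lit 30747925))) (BT.node (nat_lit 10566144) (BT.leaf (nat_lit 43193109)) (BT.leaf (nat_lit 36840725))))) (BT.node (nat_lit 10566464) (BT.node (nat_lit 10566336) (BT.node (nat_lit 10566272) (BT.leaf (nat_lit 43193117)) (BT.leaf (nat_lit 30053405))) (BT.node (nat_lit 10566400) (BT.leaf (nat_lit 44858385)) (BT.leaf (nat_lit 44211461)))) (BT.node (nat_lit 10566592) (BT.node (nat_lit 10566528) (BT.leaf (nat_lit 30053905)) (BT.leaf (nat_lit 30053649))) (BT.node (nat_lit 10566656) (BT.leaf (nat_lit 30054165)) (BT.leaf (nat_lit 44207137)))))) (BT.node (nat_lit 10567173) (BT.node (nat_lit 10566976) (BT.node (nat_lit 10566848) (BT.node (nat_lit 10566784) (BT.leaf (nat_lit 47383065)) (BT.leaf (nat_lit 38238473))) (BT.node (nat_lit 10566912) (BT.leaf (nat_lit 30749197)) (BT.leaf (nat_lit 31947549)))) (BT.node (nat_lit 10567104) (BT.node (nat_lit 10567040) (BT.leaf (nat_lit 38225681)) (BT.leaf (nat_lit 39906845))) (BT.node (nat_lit 10567168) (BT.leaf (nat_lit 50825477)) (BT.leaf (nat_lit 39175433))))) (BT.node (nat_lit 10567424) (BT.node (nat_lit 10567296) (BT.node (nat_lit 10567232) (BT.leaf (nat_lit 795216)) (BT.leaf (nat_lit 40166177))) (BT.node (nat_lit 10567360) (BT.leaf (nat_lit 32359961)) (BT.leaf (nat_lit 40107273)))) (BT.node (nat_lit 10567552) (BT.node (nat_lit 10567488) (BT.leaf (nat_lit 41290017)) (BT.leaf (nat_lit 31444233))) (BT.node (nat_lit 10567616) (BT.leaf (nat_lit 50522653)) (BT.leaf (nat_lit 48537121))))))))) (BT.node (nat_lit 10571520) (BT.node (nat_lit 10569472) (BT.node (nat_lit 10568704) (BT.node (nat_lit 10568192) (BT.node (nat_lit 10567936) (BT.node (nat_lit 10567808) (BT.node (nat_lit 10567744) (BT.leaf (nat_lit 31565061)) (BT.leaf (nat_lit 37950213))) (BT.node (nat_lit 10567872) (BT.leaf (nat_lit 34005265)) (BT.leaf (nat_lit 38338329)))) (BT.node (nat_lit 10568064) (BT.node (nat_lit 10568000) (BT.leaf (nat_lit 38338333)) (BT.leaf (nat_lit 30057745))) (BT.node (nat_lit 10568128) (BT.leaf (nat_lit 31564569)) (BT.leaf (nat_lit 47569425))))) (BT.node (nat_lit 10568448) (BT.node (nat_lit 10568320) (BT.node (nat_lit 10568256) (BT.leaf (nat_lit 42507545)) (BT.leaf (nat_lit 37949213))) (BT.node (nat_lit 10568384) (BT.leaf (nat_lit 33007121)) (BT.leaf (nat_lit 32021533)))) (BT.node (nat_lit 10568576) (BT.node (nat_lit 10568512) (BT.leaf (nat_lit 30058257)) (BT.leaf (nat_lit 30058001))) (BT.node (nat_lit 10568640) (BT.leaf (nat_lit 31140869)) (BT.leaf (nat_lit 48408069)))))) (BT.node (nat_lit 10569091) (BT.node (nat_lit 10568960) (BT.node (nat_lit 10568832) (BT.node (nat_lit 10568768) (BT.leaf (nat_lit 48792341)) (BT.leaf (nat_lit 46963217))) (BT.node (nat_lit 10568896) (BT.leaf (nat_lit 42275097)) (BT.leaf (nat_lit 44705029)))) (BT.node (nat_lit 10569088) (BT.node (nat_lit 10569024) (BT.leaf (nat_lit 32881173)) (BT.leaf (nat_lit 32881681))) (BT.node (nat_lit 10569090) (BT.leaf (nat_lit 38174725)) (BT.leaf (nat_lit 691220))))) (BT.node (nat_lit 10569216) (BT.node (nat_lit 10569095) (BT.node (nat_lit 10569094) (BT.leaf (nat_lit 691220)) (BT.leaf (nat_lit 691220))) (BT.node (nat_lit 10569152) (BT.leaf (nat_lit 691220)) (BT.leaf (nat_lit 30786065)))) (BT.node (nat_lit 10569344) (BT.node (nat_lit 10569280) (BT.leaf (nat_lit 31274005)) (BT.leaf (nat_lit 39147041))) (BT.node (nat_lit 10569408) (BT.leaf (nat_lit 45430049)) (BT.leaf (nat_lit 41917713))))))) (BT.node (nat_lit 10570496) (BT.node (nat_lit 10569984) (BT.node (nat_lit 10569728) (BT.node (nat_lit 10569600) (BT.node (nat_lit 10569536) (BT.leaf (nat_lit 52377369)) (BT.leaf (nat_lit 52377373))) (BT.node (nat_lit 10569664) (BT.leaf (nat_lit 34611729)) (BT.leaf (nat_lit 30964249)))) (BT.node (nat_lit 10569856) (BT.node (nat_lit 10569792) (BT.leaf (nat_lit 39617285)) (BT.leaf (nat_lit 41225745))) (BT.node (nat_lit 10569920) (BT.leaf (nat_lit 30105621)) (BT.leaf (nat_lit 32251413))))) (BT.node (nat_lit 10570240) (BT.node (nat_lit 10570112) (BT.node (nat_lit 10570048) (BT.leaf (nat_lit 30463249)) (BT.leaf (nat_lit 30462481))) (BT.node (nat_lit 10570176) (BT.leaf (nat_lit 31073797)) (BT.leaf (nat_lit 33250577)))) (BT.node (nat_lit 10570368) (BT.node (nat_lit 10570304) (BT.leaf (nat_lit 31580449)) (BT.leaf (nat_lit 49716501))) (BT.node (nat_lit 10570432) (BT.leaf (nat_lit 50752533)) (BT.leaf (nat_lit 43810053)))))) (BT.node (nat_lit 10571008) (BT.node (nat_lit 10570752) (BT.node (nat_lit 10570624) (BT.node (nat_lit 10570560) (BT.leaf (nat_lit 42487313)) (BT.leaf (nat_lit 48429333))) (BT.node (nat_lit 10570688) (BT.leaf (nat_lit 48234013)) (BT.leaf (nat_lit 41228053)))) (BT.node (nat_lit 10570880) (BT.node (nat_lit 10570816) (BT.leaf (nat_lit 36777245)) (BT.leaf (nat_lit 39039265))) (BT.node (nat_lit 10570944) (BT.leaf (nat_lit 31573785)) (BT.leaf (nat_lit 31573789))))) (BT.node (nat_lit 10571328) (BT.node (nat_lit 10571200) (BT.node (nat_lit 10571136) (BT.leaf (nat_lit 39040005)) (BT.leaf (nat_lit 39955469))) (BT.node (nat_lit 10571264) (BT.leaf (nat_lit 45428769)) (BT.leaf (nat_lit 50486545)))) (BT.node (nat_lit 10571456) (BT.node (nat_lit 10571392) (BT.leaf (nat_lit 42285065)) (BT.leaf (nat_lit 32777241))) (BT.node (nat_lit 10571457) (BT.leaf (nat_lit 41809441)) (BT.leaf (nat_lit 770364)))))))) (BT.node (nat_lit 10573504) (BT.node (nat_lit 10572480) (BT.node (nat_lit 10571968) (BT.node (nat_lit 10571776) (BT.node (nat_lit 10571648) (BT.node (nat_lit 10571584) (BT.leaf (nat_lit 50854161)) (BT.leaf (nat_lit 44637729))) (BT.node (nat_lit 10571712) (BT.leaf (nat_lit 30411289)) (BT.leaf (nat_lit 30083857)))) (BT.node (nat_lit 10571840) (BT.node (nat_lit 10571777) (BT.leaf (nat_lit 30082577)) (BT.leaf (nat_lit 776388))) (BT.node (nat_lit 10571904) (BT.leaf (nat_lit 39146273)) (BT.leaf (nat_lit 45742113))))) (BT.node (nat_lit 10572224) (BT.node (nat_lit 10572096) (BT.node (nat_lit 10572032) (BT.leaf (nat_lit 30083601)) (BT.leaf (nat_lit 48027925))) (BT.node (nat_lit 10572161) (BT.leaf (nat_lit 39018773)) (BT.leaf (nat_lit 675624)))) (BT.node (nat_lit 10572352) (BT.node (nat_lit 10572288) (BT.leaf (nat_lit 36446489)) (BT.leaf (nat_lit 31969305))) (BT.node (nat_lit 10572416) (BT.leaf (nat_lit 32592413)) (BT.leaf (nat_lit 42706717)))))) (BT.node (nat_lit 10572992) (BT.node (nat_lit 10572736) (BT.node (nat_lit 10572608) (BT.node (nat_lit 10572544) (BT.leaf (nat_lit 43939617)) (BT.leaf (nat_lit 34388505))) (BT.node (nat_lit 10572672) (BT.leaf (nat_lit 30599961)) (BT.leaf (nat_lit 39411725)))) (BT.node (nat_lit 10572864) (BT.node (nat_lit 10572800) (BT.leaf (nat_lit 47875097)) (BT.leaf (nat_lit 37830929))) (BT.node (nat_lit 10572928) (BT.leaf (nat_lit 44758049)) (BT.leaf (nat_lit 45430789))))) (BT.node (nat_lit 10573248) (BT.node (nat_lit 10573120) (BT.node (nat_lit 10573056) (BT.leaf (nat_lit 30944521)) (BT.leaf (nat_lit 43437585))) (BT.node (nat_lit 10573184) (BT.leaf (nat_lit 38567185)) (BT.leaf (nat_lit 45434389)))) (BT.node (nat_lit 10573376) (BT.node (nat_lit 10573312) (BT.leaf (nat_lit 48509189)) (BT.leaf (nat_lit 30792477))) (BT.node (nat_lit 10573440) (BT.leaf (nat_lit 38539797)) (BT.leaf (nat_lit 47123209))))))) (BT.node (nat_lit 10574464) (BT.node (nat_lit 10573952) (BT.node (nat_lit 10573760) (BT.node (nat_lit 10573632) (BT.node (nat_lit 10573568) (BT.leaf (nat_lit 48002317)) (BT.leaf (nat_lit 43281929))) (BT.node (nat_lit 10573696) (BT.leaf (nat_lit 42411553)) (BT.leaf (nat_lit 37856789)))) (BT.node (nat_lit 10573829) (BT.node (nat_lit 10573824) (BT.leaf (nat_lit 37856793)) (BT.leaf (nat_lit 45480993))) (BT.node (nat_lit 10573888) (BT.leaf (nat_lit 683168)) (BT.leaf (nat_lit 31413025))))) (BT.node (nat_lit 10574144) (BT.node (nat_lit 10574080) (BT.node (nat_lit 10574016) (BT.leaf (nat_lit 35338525)) (BT.leaf (nat_lit 45189129))) (BT.node (nat_lit 10574085) (BT.leaf (nat_lit 41701381)) (BT.leaf (nat_lit 672528)))) (BT.node (nat_lit 10574336) (BT.node (nat_lit 10574208) (BT.leaf (nat_lit 37603857)) (BT.leaf (nat_lit 31855889))) (BT.node (nat_lit 10574400) (BT.leaf (nat_lit 30679065)) (BT.leaf (nat_lit 30679069)))))) (BT.node (nat_lit 10574976) (BT.node (nat_lit 10574720) (BT.node (nat_lit 10574592) (BT.node (nat_lit 10574528) (BT.leaf (nat_lit 47309329)) (BT.leaf (nat_lit 30682377))) (BT.node (nat_lit 10574656) (BT.leaf (nat_lit 31682581)) (BT.leaf (nat_lit 46460941)))) (BT.node (nat_lit 10574848) (BT.node (nat_lit 10574784) (BT.leaf (nat_lit 32339221)) (BT.leaf (nat_lit 37924369))) (BT.node (nat_lit 10574912) (BT.leaf (nat_lit 30091025)) (BT.leaf (nat_lit 31997465))))) (BT.node (nat_lit 10575232) (BT.node (nat_lit 10575104) (BT.node (nat_lit 10575040) (BT.leaf (nat_lit 31997469)) (BT.leaf (nat_lit 28045073))) (BT.node (nat_lit 10575168) (BT.leaf (nat_lit 30423817)) (BT.leaf (nat_lit 30423821)))) (BT.node (nat_lit 10575360) (BT.node (nat_lit 10575296) (BT.leaf (nat_lit 30504213)) (BT.leaf (nat_lit 30423833))) (BT.node (nat_lit 10575424) (BT.leaf (nat_lit 30423837)) (BT.leaf (nat_lit 31141905)))))))))) (BT.node (nat_lit 10583296) (BT.node (nat_lit 10579328) (BT.node (nat_lit 10577408) (BT.node (nat_lit 10576384) (BT.node (nat_lit 10575941) (BT.node (nat_lit 10575744) (BT.node (nat_lit 10575616) (BT.node (nat_lit 10575552) (BT.leaf (nat_lit 32483341)) (BT.leaf (nat_lit 34169113))) (BT.node (nat_lit 10575680) (BT.leaf (nat_lit 27466525)) (BT.leaf (nat_lit 43795973)))) (BT.node (nat_lit 10575872) (BT.node (nat_lit 10575808) (BT.leaf (nat_lit 32784417)) (BT.leaf (nat_lit 31030289))) (BT.node (nat_lit 10575936) (BT.leaf (nat_lit 42040353)) (BT.leaf (nat_lit 42304029))))) (BT.node (nat_lit 10576192) (BT.node (nat_lit 10576064) (BT.node (nat_lit 10576000) (BT.leaf (nat_lit 674748)) (BT.leaf (nat_lit 46410257))) (BT.node (nat_lit 10576128) (BT.leaf (nat_lit 43928845)) (BT.leaf (nat_lit 42803725)))) (BT.node (nat_lit 10576261) (BT.node (nat_lit 10576256) (BT.leaf (nat_lit 39324681)) (BT.leaf (nat_lit 38648089))) (BT.node (nat_lit 10576320) (BT.leaf (nat_lit 711360)) (BT.leaf (nat_lit 45530397)))))) (BT.node (nat_lit 10576896) (BT.node (nat_lit 10576640) (BT.node (nat_lit 10576512) (BT.node (nat_lit 10576448) (BT.leaf (nat_lit 27306517)) (BT.leaf (nat_lit 48067861))) (BT.node (nat_lit 10576576) (BT.leaf (nat_lit 42305801)) (BT.leaf (nat_lit 30094869)))) (BT.node (nat_lit 10576768) (BT.node (nat_lit 10576704) (BT.leaf (nat_lit 48075541)) (BT.leaf (nat_lit 42306585))) (BT.node (nat_lit 10576832) (BT.leaf (nat_lit 30095649)) (BT.leaf (nat_lit 49382945))))) (BT.node (nat_lit 10577152) (BT.node (nat_lit 10577024) (BT.node (nat_lit 10576960) (BT.leaf (nat_lit 34167833)) (BT.leaf (nat_lit 49344021))) (BT.node (nat_lit 10577088) (BT.leaf (nat_lit 44341765)) (BT.leaf (nat_lit 43002901)))) (BT.node (nat_lit 10577280) (BT.node (nat_lit 10577216) (BT.leaf (nat_lit 28980237)) (BT.leaf (nat_lit 51801629))) (BT.node (nat_lit 10577344) (BT.leaf (nat_lit 28461849)) (BT.leaf (nat_lit 31294993))))))) (BT.node (nat_lit 10578432) (BT.node (nat_lit 10577920) (BT.node (nat_lit 10577664) (BT.node (nat_lit 10577536) (BT.node (nat_lit 10577472) (BT.leaf (nat_lit 31294997)) (BT.leaf (nat_lit 43211793))) (BT.node (nat_lit 10577600) (BT.leaf (nat_lit 45515041)) (BT.leaf (nat_lit 43563553)))) (BT.node (nat_lit 10577792) (BT.node (nat_lit 10577728) (BT.leaf (nat_lit 43216145)) (BT.leaf (nat_lit 42246925))) (BT.node (nat_lit 10577856) (BT.leaf (nat_lit 43804193)) (BT.leaf (nat_lit 42246937))))) (BT.node (nat_lit 10578176) (BT.node (nat_lit 10578048) (BT.node (nat_lit 10577984) (BT.leaf (nat_lit 42246941)) (BT.leaf (nat_lit 31636997))) (BT.node (nat_lit 10578112) (BT.leaf (nat_lit 43803677)) (BT.leaf (nat_lit 42824201)))) (BT.node (nat_lit 10578304) (BT.node (nat_lit 10578240) (BT.leaf (nat_lit 41100553)) (BT.leaf (nat_lit 38664993))) (BT.node (nat_lit 10578368) (BT.leaf (nat_lit 39987465)) (BT.leaf (nat_lit 37775125)))))) (BT.node (nat_lit 10578944) (BT.node (nat_lit 10578688) (BT.node (nat_lit 10578560) (BT.node (nat_lit 10578496) (BT.leaf (nat_lit 34041105)) (BT.leaf (nat_lit 45926921))) (BT.node (nat_lit 10578624) (BT.leaf (nat_lit 42742541)) (BT.leaf (nat_lit 30435609)))) (BT.node (nat_lit 10578816) (BT.node (nat_lit 10578752) (BT.leaf (nat_lit 30435613)) (BT.leaf (nat_lit 35961361))) (BT.node (nat_lit 10578880) (BT.leaf (nat_lit 30105873)) (BT.leaf (nat_lit 34028561))))) (BT.node (nat_lit 10579136) (BT.node (nat_lit 10579008) (BT.node (nat_lit 10578949) (BT.leaf (nat_lit 31350561)) (BT.leaf (nat_lit 752768))) (BT.node (nat_lit 10579072) (BT.leaf (nat_lit 42970893)) (BT.leaf (nat_lit 40692501)))) (BT.node (nat_lit 10579264) (BT.node (nat_lit 10579200) (BT.leaf (nat_lit 40692505)) (BT.leaf (nat_lit 43427605))) (BT.node (nat_lit 10579267) (BT.leaf (nat_lit 30106389)) (BT.leaf (nat_lit 759100)))))))) (BT.node (nat_lit 10581248) (BT.node (nat_lit 10580288) (BT.node (nat_lit 10579840) (BT.node (nat_lit 10579584) (BT.node (nat_lit 10579456) (BT.node (nat_lit 10579392) (BT.leaf (nat_lit 45139745)) (BT.leaf (nat_lit 34788613))) (BT.node (nat_lit 10579520) (BT.leaf (nat_lit 43999253)) (BT.leaf (nat_lit 31436321)))) (BT.node (nat_lit 10579712) (BT.node (nat_lit 10579648) (BT.leaf (nat_lit 31436577)) (BT.leaf (nat_lit 29422353))) (BT.node (nat_lit 10579776) (BT.leaf (nat_lit 30106641)) (BT.leaf (nat_lit 27394321))))) (BT.node (nat_lit 10580032) (BT.node (nat_lit 10579904) (BT.node (nat_lit 10579848) (BT.leaf (nat_lit 31547653)) (BT.leaf (nat_lit 793204))) (BT.node (nat_lit 10579968) (BT.leaf (nat_lit 30107665)) (BT.leaf (nat_lit 52176145)))) (BT.node (nat_lit 10580160) (BT.node (nat_lit 10580096) (BT.leaf (nat_lit 42319897)) (BT.leaf (nat_lit 38486305))) (BT.node (nat_lit 10580224) (BT.leaf (nat_lit 30110485)) (BT.leaf (nat_lit 39439905)))))) (BT.node (nat_lit 10580744) (BT.node (nat_lit 10580544) (BT.node (nat_lit 10580416) (BT.node (nat_lit 10580352) (BT.leaf (nat_lit 45951493)) (BT.leaf (nat_lit 30109725))) (BT.node (nat_lit 10580480) (BT.leaf (nat_lit 32763165)) (BT.leaf (nat_lit 30109721)))) (BT.node (nat_lit 10580672) (BT.node (nat_lit 10580608) (BT.leaf (nat_lit 37530377)) (BT.leaf (nat_lit 37530381))) (BT.node (nat_lit 10580736) (BT.leaf (nat_lit 30112021)) (BT.leaf (nat_lit 39798025))))) (BT.node (nat_lit 10580992) (BT.node (nat_lit 10580864) (BT.node (nat_lit 10580800) (BT.leaf (nat_lit 761980)) (BT.leaf (nat_lit 51506709))) (BT.node (nat_lit 10580928) (BT.leaf (nat_lit 38878997)) (BT.leaf (nat_lit 45125653)))) (BT.node (nat_lit 10581120) (BT.node (nat_lit 10581056) (BT.leaf (nat_lit 30113297)) (BT.leaf (nat_lit 46698769))) (BT.node (nat_lit 10581184) (BT.leaf (nat_lit 41692193)) (BT.leaf (nat_lit 45126149))))))) (BT.node (nat_lit 10582272) (BT.node (nat_lit 10581760) (BT.node (nat_lit 10581504) (BT.node (nat_lit 10581376) (BT.node (nat_lit 10581312) (BT.leaf (nat_lit 30114325)) (BT.leaf (nat_lit 45126169))) (BT.node (nat_lit 10581440) (BT.leaf (nat_lit 49466909)) (BT.leaf (nat_lit 32766229)))) (BT.node (nat_lit 10581632) (BT.node (nat_lit 10581568) (BT.leaf (nat_lit 31963921)) (BT.leaf (nat_lit 51393557))) (BT.node (nat_lit 10581696) (BT.leaf (nat_lit 30115349)) (BT.leaf (nat_lit 41537305))))) (BT.node (nat_lit 10582016) (BT.node (nat_lit 10581888) (BT.node (nat_lit 10581824) (BT.leaf (nat_lit 45671945)) (BT.leaf (nat_lit 39240461))) (BT.node (nat_lit 10581952) (BT.leaf (nat_lit 36152605)) (BT.leaf (nat_lit 32114449)))) (BT.node (nat_lit 10582144) (BT.node (nat_lit 10582080) (BT.leaf (nat_lit 31584277)) (BT.leaf (nat_lit 31584281))) (BT.node (nat_lit 10582208) (BT.leaf (nat_lit 31584285)) (BT.leaf (nat_lit 40075809)))))) (BT.node (nat_lit 10582784) (BT.node (nat_lit 10582528) (BT.node (nat_lit 10582400) (BT.node (nat_lit 10582336) (BT.leaf (nat_lit 39544345)) (BT.leaf (nat_lit 39544349))) (BT.node (nat_lit 10582464) (BT.leaf (nat_lit 49613317)) (BT.leaf (nat_lit 49717269)))) (BT.node (nat_lit 10582656) (BT.node (nat_lit 10582592) (BT.leaf (nat_lit 46109197)) (BT.leaf (nat_lit 40942341))) (BT.node (nat_lit 10582720) (BT.leaf (nat_lit 35395605)) (BT.leaf (nat_lit 39582753))))) (BT.node (nat_lit 10583040) (BT.node (nat_lit 10582912) (BT.node (nat_lit 10582848) (BT.leaf (nat_lit 39582497)) (BT.leaf (nat_lit 41134365))) (BT.node (nat_lit 10582976) (BT.leaf (nat_lit 43718669)) (BT.leaf (nat_lit 46661909)))) (BT.node (nat_lit 10583168) (BT.node (nat_lit 10583104) (BT.leaf (nat_lit 31387653)) (BT.leaf (nat_lit 40251653))) (BT.node (nat_lit 10583232) (BT.leaf (nat_lit 44979461)) (BT.leaf (nat_lit 31890197))))))))) (BT.node (nat_lit 10587200) (BT.node (nat_lit 10585280) (BT.node (nat_lit 10584320) (BT.node (nat_lit 10583808) (BT.node (nat_lit 10583552) (BT.node (nat_lit 10583424) (BT.node (nat_lit 10583360) (BT.leaf (nat_lit 39913745)) (BT.leaf (nat_lit 32902933))) (BT.node (nat_lit 10583488) (BT.leaf (nat_lit 32265225)) (BT.leaf (nat_lit 34202121)))) (BT.node (nat_lit 10583680) (BT.node (nat_lit 10583616) (BT.leaf (nat_lit 34202125)) (BT.leaf (nat_lit 38128401))) (BT.node (nat_lit 10583744) (BT.leaf (nat_lit 34202137)) (BT.leaf (nat_lit 34202141))))) (BT.node (nat_lit 10584064) (BT.node (nat_lit 10583936) (BT.node (nat_lit 10583872) (BT.leaf (nat_lit 32418565)) (BT.leaf (nat_lit 30123025))) (BT.node (nat_lit 10584000) (BT.leaf (nat_lit 30125585)) (BT.leaf (nat_lit 32418585)))) (BT.node (nat_lit 10584192) (BT.node (nat_lit 10584128) (BT.leaf (nat_lit 32418589)) (BT.leaf (nat_lit 49787397))) (BT.node (nat_lit 10584256) (BT.leaf (nat_lit 38891781)) (BT.leaf (nat_lit 45961749)))))) (BT.node (nat_lit 10584768) (BT.node (nat_lit 10584576) (BT.node (nat_lit 10584448) (BT.node (nat_lit 10584384) (BT.leaf (nat_lit 45961753)) (BT.leaf (nat_lit 45961757))) (BT.node (nat_lit 10584512) (BT.leaf (nat_lit 40637957)) (BT.leaf (nat_lit 35396117)))) (BT.node (nat_lit 10584704) (BT.node (nat_lit 10584640) (BT.leaf (nat_lit 32768261)) (BT.leaf (nat_lit 43522581))) (BT.node (nat_lit 10584709) (BT.leaf (nat_lit 30133265)) (BT.leaf (nat_lit 664616))))) (BT.node (nat_lit 10585024) (BT.node (nat_lit 10584896) (BT.node (nat_lit 10584832) (BT.leaf (nat_lit 46676257)) (BT.leaf (nat_lit 45957653))) (BT.node (nat_lit 10584960) (BT.leaf (nat_lit 42339353)) (BT.leaf (nat_lit 47185181)))) (BT.node (nat_lit 10585152) (BT.node (nat_lit 10585088) (BT.leaf (nat_lit 45244181)) (BT.leaf (nat_lit 38021401))) (BT.node (nat_lit 10585216) (BT.leaf (nat_lit 47419673)) (BT.leaf (nat_lit 30139673))))))) (BT.node (nat_lit 10586304) (BT.node (nat_lit 10585792) (BT.node (nat_lit 10585536) (BT.node (nat_lit 10585408) (BT.node (nat_lit 10585344) (BT.leaf (nat_lit 30141957)) (BT.leaf (nat_lit 50957589))) (BT.node (nat_lit 10585472) (BT.leaf (nat_lit 40013573)) (BT.leaf (nat_lit 41949457)))) (BT.node (nat_lit 10585664) (BT.node (nat_lit 10585600) (BT.leaf (nat_lit 41949461)) (BT.leaf (nat_lit 42221597))) (BT.node (nat_lit 10585728) (BT.leaf (nat_lit 35156741)) (BT.leaf (nat_lit 35156757))))) (BT.node (nat_lit 10586048) (BT.node (nat_lit 10585920) (BT.node (nat_lit 10585856) (BT.leaf (nat_lit 37760789)) (BT.leaf (nat_lit 45713185))) (BT.node (nat_lit 10585984) (BT.leaf (nat_lit 40430109)) (BT.leaf (nat_lit 45713413)))) (BT.node (nat_lit 10586176) (BT.node (nat_lit 10586112) (BT.leaf (nat_lit 44725273)) (BT.leaf (nat_lit 44690449))) (BT.node (nat_lit 10586240) (BT.leaf (nat_lit 35389977)) (BT.leaf (nat_lit 47659781)))))) (BT.node (nat_lit 10586693) (BT.node (nat_lit 10586560) (BT.node (nat_lit 10586432) (BT.node (nat_lit 10586368) (BT.leaf (nat_lit 31353609)) (BT.leaf (nat_lit 46284301))) (BT.node (nat_lit 10586496) (BT.leaf (nat_lit 35996693)) (BT.leaf (nat_lit 29498385)))) (BT.node (nat_lit 10586627) (BT.node (nat_lit 10586624) (BT.leaf (nat_lit 34240269)) (BT.leaf (nat_lit 40823045))) (BT.node (nat_lit 10586688) (BT.leaf (nat_lit 788872)) (BT.leaf (nat_lit 36333333))))) (BT.node (nat_lit 10586944) (BT.node (nat_lit 10586816) (BT.node (nat_lit 10586752) (BT.leaf (nat_lit 807284)) (BT.leaf (nat_lit 44349473))) (BT.node (nat_lit 10586880) (BT.leaf (nat_lit 38623769)) (BT.leaf (nat_lit 43333129)))) (BT.node (nat_lit 10587072) (BT.node (nat_lit 10587008) (BT.leaf (nat_lit 48312349)) (BT.leaf (nat_lit 30235665))) (BT.node (nat_lit 10587136) (BT.leaf (nat_lit 40825121)) (BT.leaf (nat_lit 47152657)))))))) (BT.node (nat_lit 10588992) (BT.node (nat_lit 10588034) (BT.node (nat_lit 10587584) (BT.node (nat_lit 10587394) (BT.node (nat_lit 10587328) (BT.node (nat_lit 10587264) (BT.leaf (nat_lit 47152661)) (BT.leaf (nat_lit 49122581))) (BT.node (nat_lit 10587392) (BT.leaf (nat_lit 49568261)) (BT.leaf (nat_lit 40842265)))) (BT.node (nat_lit 10587456) (BT.node (nat_lit 10587395) (BT.leaf (nat_lit 701632)) (BT.leaf (nat_lit 701632))) (BT.node (nat_lit 10587520) (BT.leaf (nat_lit 30146845)) (BT.leaf (nat_lit 31751185))))) (BT.node (nat_lit 10587840) (BT.node (nat_lit 10587712) (BT.node (nat_lit 10587648) (BT.leaf (nat_lit 49635873)) (BT.leaf (nat_lit 31913761))) (BT.node (nat_lit 10587776) (BT.leaf (nat_lit 47354389)) (BT.leaf (nat_lit 37766661)))) (BT.node (nat_lit 10587968) (BT.node (nat_lit 10587904) (BT.leaf (nat_lit 30148113)) (BT.leaf (nat_lit 34044433))) (BT.node (nat_lit 10588032) (BT.leaf (nat_lit 39400473)) (BT.leaf (nat_lit 28689173)))))) (BT.node (nat_lit 10588480) (BT.node (nat_lit 10588231) (BT.node (nat_lit 10588160) (BT.node (nat_lit 10588096) (BT.leaf (nat_lit 735168)) (BT.leaf (nat_lit 38562325))) (BT.node (nat_lit 10588224) (BT.leaf (nat_lit 51405077)) (BT.leaf (nat_lit 38113569)))) (BT.node (nat_lit 10588352) (BT.node (nat_lit 10588288) (BT.leaf (nat_lit 672024)) (BT.leaf (nat_lit 27978009))) (BT.node (nat_lit 10588416) (BT.leaf (nat_lit 30150665)) (BT.leaf (nat_lit 42353433))))) (BT.node (nat_lit 10588736) (BT.node (nat_lit 10588608) (BT.node (nat_lit 10588544) (BT.leaf (nat_lit 38299661)) (BT.leaf (nat_lit 38117153))) (BT.node (nat_lit 10588672) (BT.leaf (nat_lit 41890821)) (BT.leaf (nat_lit 42354457)))) (BT.node (nat_lit 10588864) (BT.node (nat_lit 10588800) (BT.leaf (nat_lit 39766305)) (BT.leaf (nat_lit 43232289))) (BT.node (nat_lit 10588928) (BT.leaf (nat_lit 38118177)) (BT.leaf (nat_lit 31610121))))))) (BT.node (nat_lit 10589952) (BT.node (nat_lit 10589504) (BT.node (nat_lit 10589248) (BT.node (nat_lit 10589120) (BT.node (nat_lit 10589056) (BT.leaf (nat_lit 30666005)) (BT.leaf (nat_lit 43446281))) (BT.node (nat_lit 10589184) (BT.leaf (nat_lit 29416985)) (BT.leaf (nat_lit 30422033)))) (BT.node (nat_lit 10589376) (BT.node (nat_lit 10589312) (BT.leaf (nat_lit 49319705)) (BT.leaf (nat_lit 39531285))) (BT.node (nat_lit 10589440) (BT.leaf (nat_lit 37790997)) (BT.leaf (nat_lit 43259141))))) (BT.node (nat_lit 10589700) (BT.node (nat_lit 10589632) (BT.node (nat_lit 10589568) (BT.leaf (nat_lit 32755717)) (BT.leaf (nat_lit 48108049))) (BT.node (nat_lit 10589696) (BT.leaf (nat_lit 32526345)) (BT.leaf (nat_lit 32526085)))) (BT.node (nat_lit 10589824) (BT.node (nat_lit 10589760) (BT.leaf (nat_lit 712976)) (BT.leaf (nat_lit 46338081))) (BT.node (nat_lit 10589888) (BT.leaf (nat_lit 43259149)) (BT.leaf (nat_lit 49721861)))))) (BT.node (nat_lit 10590400) (BT.node (nat_lit 10590144) (BT.node (nat_lit 10590024) (BT.node (nat_lit 10590016) (BT.leaf (nat_lit 42393101)) (BT.leaf (nat_lit 30189085))) (BT.node (nat_lit 10590080) (BT.leaf (nat_lit 770060)) (BT.leaf (nat_lit 37391129)))) (BT.node (nat_lit 10590272) (BT.node (nat_lit 10590208) (BT.leaf (nat_lit 30829849)) (BT.leaf (nat_lit 30829853))) (BT.node (nat_lit 10590336) (BT.leaf (nat_lit 32989729)) (BT.leaf (nat_lit 32989473))))) (BT.node (nat_lit 10590656) (BT.node (nat_lit 10590528) (BT.node (nat_lit 10590464) (BT.leaf (nat_lit 40545057)) (BT.leaf (nat_lit 42695173))) (BT.node (nat_lit 10590592) (BT.leaf (nat_lit 42256673)) (BT.leaf (nat_lit 30162193)))) (BT.node (nat_lit 10590664) (BT.node (nat_lit 10590657) (BT.leaf (nat_lit 30161425)) (BT.leaf (nat_lit 764232))) (BT.node (nat_lit 10590720) (BT.leaf (nat_lit 764232)) (BT.leaf (nat_lit 42363165))))))))))) (BT.node (nat_lit 10606597) (BT.node (nat_lit 10598656) (BT.node (nat_lit 10594688) (BT.node (nat_lit 10592768) (BT.node (nat_lit 10591616) (BT.node (nat_lit 10591296) (BT.node (nat_lit 10591040) (BT.node (nat_lit 10590912) (BT.node (nat_lit 10590848) (BT.leaf (nat_lit 31751685)) (BT.leaf (nat_lit 30777613))) (BT.node (nat_lit 10590976) (BT.leaf (nat_lit 38709017)) (BT.leaf (nat_lit 38709021)))) (BT.node (nat_lit 10591168) (BT.node (nat_lit 10591104) (BT.leaf (nat_lit 30165777)) (BT.leaf (nat_lit 44279329))) (BT.node (nat_lit 10591232) (BT.leaf (nat_lit 44279073)) (BT.leaf (nat_lit 39817749))))) (BT.node (nat_lit 10591432) (BT.node (nat_lit 10591424) (BT.node (nat_lit 10591360) (BT.leaf (nat_lit 39708677)) (BT.leaf (nat_lit 49274145))) (BT.node (nat_lit 10591425) (BT.leaf (nat_lit 39814921)) (BT.leaf (nat_lit 707904)))) (BT.node (nat_lit 10591495) (BT.node (nat_lit 10591488) (BT.leaf (nat_lit 707904)) (BT.leaf (nat_lit 39710497))) (BT.node (nat_lit 10591552) (BT.leaf (nat_lit 769944)) (BT.leaf (nat_lit 39815189)))))) (BT.node (nat_lit 10592192) (BT.node (nat_lit 10591936) (BT.node (nat_lit 10591744) (BT.node (nat_lit 10591680) (BT.leaf (nat_lit 32296993)) (BT.leaf (nat_lit 43734301))) (BT.node (nat_lit 10591872) (BT.leaf (nat_lit 30387477)) (BT.leaf (nat_lit 30169105)))) (BT.node (nat_lit 10592064) (BT.node (nat_lit 10592000) (BT.leaf (nat_lit 39815193)) (BT.leaf (nat_lit 39815197))) (BT.node (nat_lit 10592128) (BT.leaf (nat_lit 30166033)) (BT.leaf (nat_lit 30169861))))) (BT.node (nat_lit 10592448) (BT.node (nat_lit 10592320) (BT.node (nat_lit 10592256) (BT.leaf (nat_lit 30169625)) (BT.leaf (nat_lit 45302789))) (BT.node (nat_lit 10592384) (BT.leaf (nat_lit 30169629)) (BT.leaf (nat_lit 44319245)))) (BT.node (nat_lit 10592640) (BT.node (nat_lit 10592512) (BT.leaf (nat_lit 30170641)) (BT.leaf (nat_lit 30171161))) (BT.node (nat_lit 10592704) (BT.leaf (nat_lit 30171165)) (BT.leaf (nat_lit 44990229))))))) (BT.node (nat_lit 10593792) (BT.node (nat_lit 10593280) (BT.node (nat_lit 10593024) (BT.node (nat_lit 10592896) (BT.node (nat_lit 10592832) (BT.leaf (nat_lit 44694789)) (BT.leaf (nat_lit 43534089))) (BT.node (nat_lit 10592960) (BT.leaf (nat_lit 40961033)) (BT.leaf (nat_lit 43381025)))) (BT.node (nat_lit 10593152) (BT.node (nat_lit 10593088) (BT.leaf (nat_lit 43534105)) (BT.leaf (nat_lit 43534109))) (BT.node (nat_lit 10593216) (BT.leaf (nat_lit 32025617)) (BT.leaf (nat_lit 47824653))))) (BT.node (nat_lit 10593536) (BT.node (nat_lit 10593408) (BT.node (nat_lit 10593344) (BT.leaf (nat_lit 32025633)) (BT.leaf (nat_lit 30172433))) (BT.node (nat_lit 10593472) (BT.leaf (nat_lit 30171681)) (BT.leaf (nat_lit 30179093)))) (BT.node (nat_lit 10593664) (BT.node (nat_lit 10593600) (BT.leaf (nat_lit 42250773)) (BT.leaf (nat_lit 43023109))) (BT.node (nat_lit 10593728) (BT.leaf (nat_lit 44002833)) (BT.leaf (nat_lit 42250005)))))) (BT.node (nat_lit 10594246) (BT.node (nat_lit 10594048) (BT.node (nat_lit 10593920) (BT.node (nat_lit 10593856) (BT.leaf (nat_lit 30172177)) (BT.leaf (nat_lit 48676113))) (BT.node (nat_lit 10593984) (BT.leaf (nat_lit 41957637)) (BT.leaf (nat_lit 45308677)))) (BT.node (nat_lit 10594176) (BT.node (nat_lit 10594112) (BT.leaf (nat_lit 39508245)) (BT.leaf (nat_lit 45307909))) (BT.node (nat_lit 10594240) (BT.leaf (nat_lit 44813333)) (BT.leaf (nat_lit 37083157))))) (BT.node (nat_lit 10594437) (BT.node (nat_lit 10594368) (BT.node (nat_lit 10594304) (BT.leaf (nat_lit 765728)) (BT.leaf (nat_lit 42994453))) (BT.node (nat_lit 10594432) (BT.leaf (nat_lit 42377241)) (BT.leaf (nat_lit 39462917)))) (BT.node (nat_lit 10594560) (BT.node (nat_lit 10594496) (BT.leaf (nat_lit 664644)) (BT.leaf (nat_lit 30173725))) (BT.node (nat_lit 10594624) (BT.leaf (nat_lit 30173981)) (BT.leaf (nat_lit 31110917)))))))) (BT.node (nat_lit 10596613) (BT.node (nat_lit 10595584) (BT.node (nat_lit 10595072) (BT.node (nat_lit 10594824) (BT.node (nat_lit 10594816) (BT.node (nat_lit 10594752) (BT.leaf (nat_lit 31107589)) (BT.leaf (nat_lit 31981833))) (BT.node (nat_lit 10594820) (BT.leaf (nat_lit 44893213)) (BT.leaf (nat_lit 674272)))) (BT.node (nat_lit 10594944) (BT.node (nat_lit 10594880) (BT.leaf (nat_lit 674272)) (BT.leaf (nat_lit 36927761))) (BT.node (nat_lit 10595008) (BT.leaf (nat_lit 32229393)) (BT.leaf (nat_lit 33034757))))) (BT.node (nat_lit 10595328) (BT.node (nat_lit 10595200) (BT.node (nat_lit 10595136) (BT.leaf (nat_lit 48829205)) (BT.leaf (nat_lit 37963281))) (BT.node (nat_lit 10595264) (BT.leaf (nat_lit 44812821)) (BT.leaf (nat_lit 48236817)))) (BT.node (nat_lit 10595456) (BT.node (nat_lit 10595392) (BT.leaf (nat_lit 42836257)) (BT.leaf (nat_lit 43160345))) (BT.node (nat_lit 10595520) (BT.leaf (nat_lit 42232601)) (BT.leaf (nat_lit 43171609)))))) (BT.node (nat_lit 10596096) (BT.node (nat_lit 10595840) (BT.node (nat_lit 10595712) (BT.node (nat_lit 10595648) (BT.leaf (nat_lit 30178837)) (BT.leaf (nat_lit 42382877))) (BT.node (nat_lit 10595776) (BT.leaf (nat_lit 42232589)) (BT.leaf (nat_lit 31477793)))) (BT.node (nat_lit 10595968) (BT.node (nat_lit 10595904) (BT.leaf (nat_lit 49314581)) (BT.leaf (nat_lit 43123981))) (BT.node (nat_lit 10596032) (BT.leaf (nat_lit 44520737)) (BT.leaf (nat_lit 43847713))))) (BT.node (nat_lit 10596352) (BT.node (nat_lit 10596224) (BT.node (nat_lit 10596160) (BT.leaf (nat_lit 38919441)) (BT.leaf (nat_lit 36262405))) (BT.node (nat_lit 10596288) (BT.leaf (nat_lit 30409989)) (BT.leaf (nat_lit 41284641)))) (BT.node (nat_lit 10596544) (BT.node (nat_lit 10596480) (BT.leaf (nat_lit 31445013)) (BT.leaf (nat_lit 40651545))) (BT.node (nat_lit 10596608) (BT.leaf (nat_lit 40651549)) (BT.leaf (nat_lit 32865057))))))) (BT.node (nat_lit 10597632) (BT.node (nat_lit 10597120) (BT.node (nat_lit 10596864) (BT.node (nat_lit 10596736) (BT.node (nat_lit 10596672) (BT.leaf (nat_lit 696764)) (BT.leaf (nat_lit 46097685))) (BT.node (nat_lit 10596800) (BT.leaf (nat_lit 42286341)) (BT.leaf (nat_lit 44377633)))) (BT.node (nat_lit 10596992) (BT.node (nat_lit 10596928) (BT.leaf (nat_lit 41822241)) (BT.leaf (nat_lit 41821985))) (BT.node (nat_lit 10597056) (BT.leaf (nat_lit 50680069)) (BT.leaf (nat_lit 39021077))))) (BT.node (nat_lit 10597376) (BT.node (nat_lit 10597248) (BT.node (nat_lit 10597184) (BT.leaf (nat_lit 39021081)) (BT.leaf (nat_lit 39021085))) (BT.node (nat_lit 10597312) (BT.leaf (nat_lit 29742101)) (BT.leaf (nat_lit 28643353)))) (BT.node (nat_lit 10597504) (BT.node (nat_lit 10597440) (BT.leaf (nat_lit 30159129)) (BT.leaf (nat_lit 32844817))) (BT.node (nat_lit 10597568) (BT.leaf (nat_lit 32844821)) (BT.leaf (nat_lit 30159133)))))) (BT.node (nat_lit 10598144) (BT.node (nat_lit 10597888) (BT.node (nat_lit 10597760) (BT.node (nat_lit 10597696) (BT.leaf (nat_lit 32341777)) (BT.leaf (nat_lit 32341781))) (BT.node (nat_lit 10597824) (BT.leaf (nat_lit 30188049)) (BT.leaf (nat_lit 42391581)))) (BT.node (nat_lit 10598016) (BT.node (nat_lit 10597952) (BT.leaf (nat_lit 50052625)) (BT.leaf (nat_lit 31486749))) (BT.node (nat_lit 10598080) (BT.leaf (nat_lit 48258333)) (BT.leaf (nat_lit 42359837))))) (BT.node (nat_lit 10598400) (BT.node (nat_lit 10598272) (BT.node (nat_lit 10598208) (BT.leaf (nat_lit 42393357)) (BT.leaf (nat_lit 43256085))) (BT.node (nat_lit 10598336) (BT.leaf (nat_lit 43493409)) (BT.leaf (nat_lit 43493405)))) (BT.node (nat_lit 10598528) (BT.node (nat_lit 10598464) (BT.leaf (nat_lit 38502405)) (BT.leaf (nat_lit 48258313))) (BT.node (nat_lit 10598592) (BT.leaf (nat_lit 39875333)) (BT.leaf (nat_lit 43259405))))))))) (BT.node (nat_lit 10602752) (BT.node (nat_lit 10600768) (BT.node (nat_lit 10599744) (BT.node (nat_lit 10599232) (BT.node (nat_lit 10598912) (BT.node (nat_lit 10598784) (BT.node (nat_lit 10598720) (BT.leaf (nat_lit 41057301)) (BT.leaf (nat_lit 41076745))) (BT.node (nat_lit 10598848) (BT.leaf (nat_lit 37732369)) (BT.leaf (nat_lit 42736905)))) (BT.node (nat_lit 10599104) (BT.node (nat_lit 10598976) (BT.leaf (nat_lit 42394909)) (BT.leaf (nat_lit 39551493))) (BT.node (nat_lit 10599168) (BT.leaf (nat_lit 42396701)) (BT.leaf (nat_lit 38504461))))) (BT.node (nat_lit 10599488) (BT.node (nat_lit 10599360) (BT.node (nat_lit 10599296) (BT.leaf (nat_lit 39879173)) (BT.leaf (nat_lit 37969681))) (BT.node (nat_lit 10599424) (BT.leaf (nat_lit 38504721)) (BT.leaf (nat_lit 38504725)))) (BT.node (nat_lit 10599616) (BT.node (nat_lit 10599552) (BT.leaf (nat_lit 47885333)) (BT.leaf (nat_lit 31371537))) (BT.node (nat_lit 10599680) (BT.leaf (nat_lit 49642265)) (BT.leaf (nat_lit 42399769)))))) (BT.node (nat_lit 10600256) (BT.node (nat_lit 10600000) (BT.node (nat_lit 10599872) (BT.node (nat_lit 10599808) (BT.leaf (nat_lit 41824537)) (BT.leaf (nat_lit 38743833))) (BT.node (nat_lit 10599936) (BT.leaf (nat_lit 30190105)) (BT.leaf (nat_lit 49641761)))) (BT.node (nat_lit 10600128) (BT.node (nat_lit 10600064) (BT.leaf (nat_lit 30193941)) (BT.leaf (nat_lit 36595225))) (BT.node (nat_lit 10600192) (BT.leaf (nat_lit 30194201)) (BT.leaf (nat_lit 37044753))))) (BT.node (nat_lit 10600512) (BT.node (nat_lit 10600384) (BT.node (nat_lit 10600320) (BT.leaf (nat_lit 41713697)) (BT.leaf (nat_lit 31586593))) (BT.node (nat_lit 10600448) (BT.leaf (nat_lit 42402569)) (BT.leaf (nat_lit 41026573)))) (BT.node (nat_lit 10600640) (BT.node (nat_lit 10600576) (BT.leaf (nat_lit 30161941)) (BT.leaf (nat_lit 39318793))) (BT.node (nat_lit 10600704) (BT.leaf (nat_lit 48260885)) (BT.leaf (nat_lit 30161417))))))) (BT.node (nat_lit 10601728) (BT.node (nat_lit 10601216) (BT.node (nat_lit 10600960) (BT.node (nat_lit 10600832) (BT.node (nat_lit 10600776) (BT.leaf (nat_lit 45268749)) (BT.leaf (nat_lit 771360))) (BT.node (nat_lit 10600896) (BT.leaf (nat_lit 39019809)) (BT.leaf (nat_lit 43906573)))) (BT.node (nat_lit 10601088) (BT.node (nat_lit 10601024) (BT.leaf (nat_lit 43267853)) (BT.leaf (nat_lit 42404889))) (BT.node (nat_lit 10601152) (BT.leaf (nat_lit 39856417)) (BT.leaf (nat_lit 30196761))))) (BT.node (nat_lit 10601472) (BT.node (nat_lit 10601344) (BT.node (nat_lit 10601280) (BT.leaf (nat_lit 45268769)) (BT.leaf (nat_lit 39319061))) (BT.node (nat_lit 10601408) (BT.leaf (nat_lit 30197009)) (BT.leaf (nat_lit 31141153)))) (BT.node (nat_lit 10601600) (BT.node (nat_lit 10601536) (BT.leaf (nat_lit 31686421)) (BT.leaf (nat_lit 50770457))) (BT.node (nat_lit 10601664) (BT.leaf (nat_lit 31686429)) (BT.leaf (nat_lit 41841953)))))) (BT.node (nat_lit 10602112) (BT.node (nat_lit 10601984) (BT.node (nat_lit 10601856) (BT.node (nat_lit 10601792) (BT.leaf (nat_lit 31105545)) (BT.leaf (nat_lit 32159761))) (BT.node (nat_lit 10601920) (BT.leaf (nat_lit 32159765)) (BT.leaf (nat_lit 46626849)))) (BT.node (nat_lit 10602051) (BT.node (nat_lit 10602048) (BT.leaf (nat_lit 48260637)) (BT.leaf (nat_lit 42686469))) (BT.node (nat_lit 10602056) (BT.leaf (nat_lit 793280)) (BT.leaf (nat_lit 793280))))) (BT.node (nat_lit 10602496) (BT.node (nat_lit 10602240) (BT.node (nat_lit 10602176) (BT.leaf (nat_lit 43746821)) (BT.leaf (nat_lit 39835673))) (BT.node (nat_lit 10602368) (BT.leaf (nat_lit 38415889)) (BT.leaf (nat_lit 41843973)))) (BT.node (nat_lit 10602624) (BT.node (nat_lit 10602560) (BT.leaf (nat_lit 48660757)) (BT.leaf (nat_lit 49800209))) (BT.node (nat_lit 10602688) (BT.leaf (nat_lit 44908053)) (BT.leaf (nat_lit 43993121)))))))) (BT.node (nat_lit 10604800) (BT.node (nat_lit 10603776) (BT.node (nat_lit 10603264) (BT.node (nat_lit 10603008) (BT.node (nat_lit 10602880) (BT.node (nat_lit 10602816) (BT.leaf (nat_lit 43992865)) (BT.leaf (nat_lit 45991201))) (BT.node (nat_lit 10602944) (BT.leaf (nat_lit 39499269)) (BT.leaf (nat_lit 43281421)))) (BT.node (nat_lit 10603136) (BT.node (nat_lit 10603072) (BT.leaf (nat_lit 31958549)) (BT.leaf (nat_lit 46963233))) (BT.node (nat_lit 10603200) (BT.leaf (nat_lit 34742545)) (BT.leaf (nat_lit 32051993))))) (BT.node (nat_lit 10603520) (BT.node (nat_lit 10603392) (BT.node (nat_lit 10603328) (BT.leaf (nat_lit 45455137)) (BT.leaf (nat_lit 44468001))) (BT.node (nat_lit 10603456) (BT.leaf (nat_lit 41921557)) (BT.leaf (nat_lit 27386653)))) (BT.node (nat_lit 10603648) (BT.node (nat_lit 10603584) (BT.leaf (nat_lit 38538501)) (BT.leaf (nat_lit 32132373))) (BT.node (nat_lit 10603712) (BT.leaf (nat_lit 42414361)) (BT.leaf (nat_lit 30202641)))))) (BT.node (nat_lit 10604288) (BT.node (nat_lit 10604032) (BT.node (nat_lit 10603904) (BT.node (nat_lit 10603840) (BT.leaf (nat_lit 38969097)) (BT.leaf (nat_lit 30212361))) (BT.node (nat_lit 10603968) (BT.leaf (nat_lit 34064145)) (BT.leaf (nat_lit 30696461)))) (BT.node (nat_lit 10604160) (BT.node (nat_lit 10604096) (BT.leaf (nat_lit 39091233)) (BT.leaf (nat_lit 30204677))) (BT.node (nat_lit 10604224) (BT.leaf (nat_lit 42246921)) (BT.leaf (nat_lit 34067481))))) (BT.node (nat_lit 10604544) (BT.node (nat_lit 10604416) (BT.node (nat_lit 10604352) (BT.leaf (nat_lit 50051613)) (BT.leaf (nat_lit 41674261))) (BT.node (nat_lit 10604480) (BT.leaf (nat_lit 49309205)) (BT.leaf (nat_lit 36912401)))) (BT.node (nat_lit 10604672) (BT.node (nat_lit 10604608) (BT.leaf (nat_lit 47906065)) (BT.leaf (nat_lit 32432161))) (BT.node (nat_lit 10604736) (BT.leaf (nat_lit 42988577)) (BT.leaf (nat_lit 46298889))))))) (BT.node (nat_lit 10605888) (BT.node (nat_lit 10605376) (BT.node (nat_lit 10605056) (BT.node (nat_lit 10604928) (BT.node (nat_lit 10604864) (BT.leaf (nat_lit 32081937)) (BT.leaf (nat_lit 45034765))) (BT.node (nat_lit 10604992) (BT.leaf (nat_lit 49147409)) (BT.leaf (nat_lit 49147413)))) (BT.node (nat_lit 10605248) (BT.node (nat_lit 10605120) (BT.leaf (nat_lit 30210833)) (BT.leaf (nat_lit 31684613))) (BT.node (nat_lit 10605312) (BT.leaf (nat_lit 45617933)) (BT.leaf (nat_lit 42421533))))) (BT.node (nat_lit 10605632) (BT.node (nat_lit 10605504) (BT.node (nat_lit 10605440) (BT.leaf (nat_lit 32432133)) (BT.leaf (nat_lit 30212641))) (BT.node (nat_lit 10605568) (BT.leaf (nat_lit 30212101)) (BT.leaf (nat_lit 42418437)))) (BT.node (nat_lit 10605760) (BT.node (nat_lit 10605696) (BT.leaf (nat_lit 30211865)) (BT.leaf (nat_lit 38969105))) (BT.node (nat_lit 10605824) (BT.leaf (nat_lit 42418201)) (BT.leaf (nat_lit 49181717)))))) (BT.node (nat_lit 10606336) (BT.node (nat_lit 10606144) (BT.node (nat_lit 10606016) (BT.node (nat_lit 10605952) (BT.leaf (nat_lit 34064137)) (BT.leaf (nat_lit 34267673))) (BT.node (nat_lit 10606080) (BT.leaf (nat_lit 41160993)) (BT.leaf (nat_lit 29603357)))) (BT.node (nat_lit 10606272) (BT.node (nat_lit 10606208) (BT.leaf (nat_lit 39793181)) (BT.leaf (nat_lit 42932501))) (BT.node (nat_lit 10606275) (BT.leaf (nat_lit 32132633)) (BT.leaf (nat_lit 768468))))) (BT.node (nat_lit 10606400) (BT.node (nat_lit 10606340) (BT.node (nat_lit 10606338) (BT.leaf (nat_lit 49394461)) (BT.leaf (nat_lit 683240))) (BT.node (nat_lit 10606341) (BT.leaf (nat_lit 683240)) (BT.leaf (nat_lit 683240)))) (BT.node (nat_lit 10606528) (BT.node (nat_lit 10606464) (BT.leaf (nat_lit 34267661)) (BT.leaf (nat_lit 40374545))) (BT.node (nat_lit 10606592) (BT.leaf (nat_lit 50378253)) (BT.leaf (nat_lit 39530521)))))))))) (BT.node (nat_lit 10615040) (BT.node (nat_lit 10610880) (BT.node (nat_lit 10608640) (BT.node (nat_lit 10607616) (BT.node (nat_lit 10607104) (BT.node (nat_lit 10606848) (BT.node (nat_lit 10606720) (BT.node (nat_lit 10606656) (BT.leaf (nat_lit 690952)) (BT.leaf (nat_lit 30706453))) (BT.node (nat_lit 10606784) (BT.leaf (nat_lit 28751885)) (BT.leaf (nat_lit 34066201)))) (BT.node (nat_lit 10606976) (BT.node (nat_lit 10606912) (BT.leaf (nat_lit 44220957)) (BT.leaf (nat_lit 44120353))) (BT.node (nat_lit 10607040) (BT.leaf (nat_lit 30213921)) (BT.leaf (nat_lit 51547669))))) (BT.node (nat_lit 10607360) (BT.node (nat_lit 10607232) (BT.node (nat_lit 10607168) (BT.leaf (nat_lit 32675613)) (BT.leaf (nat_lit 42414345))) (BT.node (nat_lit 10607296) (BT.leaf (nat_lit 27789585)) (BT.leaf (nat_lit 38930721)))) (BT.node (nat_lit 10607488) (BT.node (nat_lit 10607424) (BT.leaf (nat_lit 44509209)) (BT.leaf (nat_lit 44484129))) (BT.node (nat_lit 10607552) (BT.leaf (nat_lit 39786245)) (BT.leaf (nat_lit 40279049)))))) (BT.node (nat_lit 10608128) (BT.node (nat_lit 10607872) (BT.node (nat_lit 10607744) (BT.node (nat_lit 10607680) (BT.leaf (nat_lit 44475673)) (BT.leaf (nat_lit 42017041))) (BT.node (nat_lit 10607808) (BT.leaf (nat_lit 42932505)) (BT.leaf (nat_lit 45566497)))) (BT.node (nat_lit 10608000) (BT.node (nat_lit 10607936) (BT.leaf (nat_lit 32755205)) (BT.leaf (nat_lit 43889693))) (BT.node (nat_lit 10608064) (BT.leaf (nat_lit 30686741)) (BT.leaf (nat_lit 42432009))))) (BT.node (nat_lit 10608384) (BT.node (nat_lit 10608256) (BT.node (nat_lit 10608192) (BT.leaf (nat_lit 43089685)) (BT.leaf (nat_lit 32552721))) (BT.node (nat_lit 10608320) (BT.leaf (nat_lit 42243353)) (BT.leaf (nat_lit 38038813)))) (BT.node (nat_lit 10608512) (BT.node (nat_lit 10608448) (BT.leaf (nat_lit 44487201)) (BT.leaf (nat_lit 44486945))) (BT.node (nat_lit 10608576) (BT.leaf (nat_lit 41191457)) (BT.leaf (nat_lit 30981641))))))) (BT.node (nat_lit 10609664) (BT.node (nat_lit 10609152) (BT.node (nat_lit 10608896) (BT.node (nat_lit 10608772) (BT.node (nat_lit 10608704) (BT.leaf (nat_lit 44798725)) (BT.leaf (nat_lit 42806553))) (BT.node (nat_lit 10608832) (BT.leaf (nat_lit 722816)) (BT.leaf (nat_lit 42441505)))) (BT.node (nat_lit 10609024) (BT.node (nat_lit 10608960) (BT.leaf (nat_lit 47598341)) (BT.leaf (nat_lit 42435593))) (BT.node (nat_lit 10609088) (BT.leaf (nat_lit 30216981)) (BT.leaf (nat_lit 47031301))))) (BT.node (nat_lit 10609408) (BT.node (nat_lit 10609280) (BT.node (nat_lit 10609216) (BT.leaf (nat_lit 51014149)) (BT.leaf (nat_lit 47031557))) (BT.node (nat_lit 10609344) (BT.leaf (nat_lit 51609885)) (BT.leaf (nat_lit 32168201)))) (BT.node (nat_lit 10609536) (BT.node (nat_lit 10609472) (BT.leaf (nat_lit 30413833)) (BT.leaf (nat_lit 30413837))) (BT.node (nat_lit 10609600) (BT.leaf (nat_lit 30217493)) (BT.leaf (nat_lit 32595205)))))) (BT.node (nat_lit 10610240) (BT.node (nat_lit 10609920) (BT.node (nat_lit 10609792) (BT.node (nat_lit 10609728) (BT.leaf (nat_lit 39076117)) (BT.leaf (nat_lit 30717705))) (BT.node (nat_lit 10609856) (BT.leaf (nat_lit 27545361)) (BT.leaf (nat_lit 29759513)))) (BT.node (nat_lit 10610112) (BT.node (nat_lit 10609984) (BT.leaf (nat_lit 30220825)) (BT.leaf (nat_lit 30205977))) (BT.node (nat_lit 10610176) (BT.leaf (nat_lit 41676565)) (BT.leaf (nat_lit 30221073))))) (BT.node (nat_lit 10610560) (BT.node (nat_lit 10610368) (BT.node (nat_lit 10610304) (BT.leaf (nat_lit 41644569)) (BT.leaf (nat_lit 41644573))) (BT.node (nat_lit 10610432) (BT.leaf (nat_lit 45565701)) (BT.leaf (nat_lit 41672973)))) (BT.node (nat_lit 10610752) (BT.node (nat_lit 10610688) (BT.leaf (nat_lit 34068245)) (BT.leaf (nat_lit 43679237))) (BT.node (nat_lit 10610816) (BT.leaf (nat_lit 30989829)) (BT.leaf (nat_lit 30049041)))))))) (BT.node (nat_lit 10612992) (BT.node (nat_lit 10611904) (BT.node (nat_lit 10611392) (BT.node (nat_lit 10611136) (BT.node (nat_lit 10611008) (BT.node (nat_lit 10610944) (BT.leaf (nat_lit 44487957)) (BT.leaf (nat_lit 50050833))) (BT.node (nat_lit 10611072) (BT.leaf (nat_lit 42443801)) (BT.leaf (nat_lit 41670921)))) (BT.node (nat_lit 10611264) (BT.node (nat_lit 10611200) (BT.leaf (nat_lit 30205725)) (BT.leaf (nat_lit 30205705))) (BT.node (nat_lit 10611328) (BT.leaf (nat_lit 34067989)) (BT.leaf (nat_lit 30989857))))) (BT.node (nat_lit 10611648) (BT.node (nat_lit 10611520) (BT.node (nat_lit 10611456) (BT.leaf (nat_lit 32745745)) (BT.leaf (nat_lit 42234393))) (BT.node (nat_lit 10611584) (BT.leaf (nat_lit 32745761)) (BT.leaf (nat_lit 32369681)))) (BT.node (nat_lit 10611776) (BT.node (nat_lit 10611712) (BT.leaf (nat_lit 30713373)) (BT.leaf (nat_lit 31692037))) (BT.node (nat_lit 10611840) (BT.leaf (nat_lit 30228241)) (BT.leaf (nat_lit 46257437)))))) (BT.node (nat_lit 10612480) (BT.node (nat_lit 10612224) (BT.node (nat_lit 10612096) (BT.node (nat_lit 10612032) (BT.leaf (nat_lit 39501089)) (BT.leaf (nat_lit 42679309))) (BT.node (nat_lit 10612160) (BT.leaf (nat_lit 47162901)) (BT.leaf (nat_lit 37973017)))) (BT.node (nat_lit 10612352) (BT.node (nat_lit 10612288) (BT.leaf (nat_lit 37973021)) (BT.leaf (nat_lit 37973025))) (BT.node (nat_lit 10612416) (BT.leaf (nat_lit 51190797)) (BT.leaf (nat_lit 37077257))))) (BT.node (nat_lit 10612736) (BT.node (nat_lit 10612608) (BT.node (nat_lit 10612544) (BT.leaf (nat_lit 48223509)) (BT.leaf (nat_lit 42239245))) (BT.node (nat_lit 10612672) (BT.leaf (nat_lit 39231777)) (BT.leaf (nat_lit 47822605)))) (BT.node (nat_lit 10612864) (BT.node (nat_lit 10612800) (BT.leaf (nat_lit 41003549)) (BT.leaf (nat_lit 41369873))) (BT.node (nat_lit 10612928) (BT.leaf (nat_lit 30700061)) (BT.leaf (nat_lit 34071313))))))) (BT.node (nat_lit 10614016) (BT.node (nat_lit 10613504) (BT.node (nat_lit 10613248) (BT.node (nat_lit 10613120) (BT.node (nat_lit 10613056) (BT.leaf (nat_lit 42452253)) (BT.leaf (nat_lit 30699017))) (BT.node (nat_lit 10613184) (BT.leaf (nat_lit 38858005)) (BT.leaf (nat_lit 46009105)))) (BT.node (nat_lit 10613376) (BT.node (nat_lit 10613312) (BT.leaf (nat_lit 44498949)) (BT.leaf (nat_lit 39929109))) (BT.node (nat_lit 10613440) (BT.leaf (nat_lit 42453789)) (BT.leaf (nat_lit 43278101))))) (BT.node (nat_lit 10613760) (BT.node (nat_lit 10613632) (BT.node (nat_lit 10613568) (BT.leaf (nat_lit 45195781)) (BT.leaf (nat_lit 48344609))) (BT.node (nat_lit 10613696) (BT.leaf (nat_lit 43335193)) (BT.leaf (nat_lit 43335197)))) (BT.node (nat_lit 10613888) (BT.node (nat_lit 10613824) (BT.leaf (nat_lit 39509265)) (BT.leaf (nat_lit 39509785))) (BT.node (nat_lit 10613952) (BT.leaf (nat_lit 40537877)) (BT.leaf (nat_lit 40835589)))))) (BT.node (nat_lit 10614528) (BT.node (nat_lit 10614272) (BT.node (nat_lit 10614144) (BT.node (nat_lit 10614080) (BT.leaf (nat_lit 45607969)) (BT.leaf (nat_lit 45607713))) (BT.node (nat_lit 10614208) (BT.leaf (nat_lit 45609221)) (BT.leaf (nat_lit 29589273)))) (BT.node (nat_lit 10614400) (BT.node (nat_lit 10614336) (BT.leaf (nat_lit 46897425)) (BT.leaf (nat_lit 50753285))) (BT.node (nat_lit 10614464) (BT.leaf (nat_lit 38332449)) (BT.leaf (nat_lit 49427717))))) (BT.node (nat_lit 10614784) (BT.node (nat_lit 10614656) (BT.node (nat_lit 10614592) (BT.leaf (nat_lit 48221725)) (BT.leaf (nat_lit 39233313))) (BT.node (nat_lit 10614720) (BT.leaf (nat_lit 43900437)) (BT.leaf (nat_lit 39509769)))) (BT.node (nat_lit 10614912) (BT.node (nat_lit 10614848) (BT.leaf (nat_lit 30697749)) (BT.leaf (nat_lit 39509777))) (BT.node (nat_lit 10614976) (BT.leaf (nat_lit 30697237)) (BT.leaf (nat_lit 27910165))))))))) (BT.node (nat_lit 10618560) (BT.node (nat_lit 10616640) (BT.node (nat_lit 10615744) (BT.node (nat_lit 10615488) (BT.node (nat_lit 10615232) (BT.node (nat_lit 10615112) (BT.node (nat_lit 10615104) (BT.leaf (nat_lit 49366817)) (BT.leaf (nat_lit 32437525))) (BT.node (nat_lit 10615168) (BT.leaf (nat_lit 667152)) (BT.leaf (nat_lit 30778389)))) (BT.node (nat_lit 10615360) (BT.node (nat_lit 10615296) (BT.leaf (nat_lit 30419205)) (BT.leaf (nat_lit 43910165))) (BT.node (nat_lit 10615424) (BT.leaf (nat_lit 39151113)) (BT.leaf (nat_lit 38604817))))) (BT.node (nat_lit 10615619) (BT.node (nat_lit 10615616) (BT.node (nat_lit 10615552) (BT.leaf (nat_lit 30843413)) (BT.leaf (nat_lit 42712085))) (BT.node (nat_lit 10615618) (BT.leaf (nat_lit 45735957)) (BT.leaf (nat_lit 711720)))) (BT.node (nat_lit 10615623) (BT.node (nat_lit 10615622) (BT.leaf (nat_lit 711720)) (BT.leaf (nat_lit 711720))) (BT.node (nat_lit 10615680) (BT.leaf (nat_lit 711720)) (BT.leaf (nat_lit 37729297)))))) (BT.node (nat_lit 10616256) (BT.node (nat_lit 10616000) (BT.node (nat_lit 10615872) (BT.node (nat_lit 10615808) (BT.leaf (nat_lit 32502049)) (BT.leaf (nat_lit 41528853))) (BT.node (nat_lit 10615936) (BT.leaf (nat_lit 48190485)) (BT.leaf (nat_lit 30044697)))) (BT.node (nat_lit 10616128) (BT.node (nat_lit 10616064) (BT.leaf (nat_lit 42706449)) (BT.leaf (nat_lit 30841373))) (BT.node (nat_lit 10616192) (BT.leaf (nat_lit 42462221)) (BT.leaf (nat_lit 44323601))))) (BT.node (nat_lit 10616384) (BT.node (nat_lit 10616263) (BT.node (nat_lit 10616262) (BT.leaf (nat_lit 50529033)) (BT.leaf (nat_lit 711728))) (BT.node (nat_lit 10616320) (BT.leaf (nat_lit 711728)) (BT.leaf (nat_lit 30238725)))) (BT.node (nat_lit 10616512) (BT.node (nat_lit 10616448) (BT.leaf (nat_lit 32019217)) (BT.leaf (nat_lit 47608085))) (BT.node (nat_lit 10616576) (BT.leaf (nat_lit 42465801)) (BT.leaf (nat_lit 32412689))))))) (BT.node (nat_lit 10617664) (BT.node (nat_lit 10617152) (BT.node (nat_lit 10616896) (BT.node (nat_lit 10616768) (BT.node (nat_lit 10616704) (BT.leaf (nat_lit 39898885)) (BT.leaf (nat_lit 31700485))) (BT.node (nat_lit 10616832) (BT.leaf (nat_lit 47695125)) (BT.leaf (nat_lit 30242065)))) (BT.node (nat_lit 10617024) (BT.node (nat_lit 10616960) (BT.leaf (nat_lit 30243089)) (BT.leaf (nat_lit 30041361))) (BT.node (nat_lit 10617088) (BT.leaf (nat_lit 32565781)) (BT.leaf (nat_lit 32565785))))) (BT.node (nat_lit 10617408) (BT.node (nat_lit 10617280) (BT.node (nat_lit 10617216) (BT.leaf (nat_lit 32565789)) (BT.leaf (nat_lit 30242833))) (BT.node (nat_lit 10617344) (BT.leaf (nat_lit 30244881)) (BT.leaf (nat_lit 30244625)))) (BT.node (nat_lit 10617536) (BT.node (nat_lit 10617472) (BT.leaf (nat_lit 32692245)) (BT.leaf (nat_lit 32692249))) (BT.node (nat_lit 10617600) (BT.leaf (nat_lit 32692253)) (BT.leaf (nat_lit 30244369)))))) (BT.node (nat_lit 10618056) (BT.node (nat_lit 10617984) (BT.node (nat_lit 10617856) (BT.node (nat_lit 10617792) (BT.leaf (nat_lit 30246409)) (BT.leaf (nat_lit 38676493))) (BT.node (nat_lit 10617920) (BT.leaf (nat_lit 42471193)) (BT.leaf (nat_lit 29791505)))) (BT.node (nat_lit 10618049) (BT.node (nat_lit 10618048) (BT.leaf (nat_lit 30692105)) (BT.leaf (nat_lit 42471961))) (BT.node (nat_lit 10618052) (BT.leaf (nat_lit 689248)) (BT.leaf (nat_lit 689248))))) (BT.node (nat_lit 10618304) (BT.node (nat_lit 10618176) (BT.node (nat_lit 10618112) (BT.leaf (nat_lit 689248)) (BT.leaf (nat_lit 39091465))) (BT.node (nat_lit 10618240) (BT.leaf (nat_lit 39091469)) (BT.leaf (nat_lit 39091473)))) (BT.node (nat_lit 10618432) (BT.node (nat_lit 10618368) (BT.leaf (nat_lit 47933985)) (BT.leaf (nat_lit 37779729))) (BT.node (nat_lit 10618496) (BT.leaf (nat_lit 37779733)) (BT.leaf (nat_lit 30247961)))))))) (BT.node (nat_lit 10620416) (BT.node (nat_lit 10619456) (BT.node (nat_lit 10619072) (BT.node (nat_lit 10618816) (BT.node (nat_lit 10618688) (BT.node (nat_lit 10618624) (BT.leaf (nat_lit 30248217)) (BT.leaf (nat_lit 47768841))) (BT.node (nat_lit 10618752) (BT.leaf (nat_lit 47723545)) (BT.leaf (nat_lit 27558173)))) (BT.node (nat_lit 10618944) (BT.node (nat_lit 10618880) (BT.leaf (nat_lit 35619357)) (BT.leaf (nat_lit 30247965))) (BT.node (nat_lit 10619008) (BT.leaf (nat_lit 30248221)) (BT.leaf (nat_lit 39251217))))) (BT.node (nat_lit 10619201) (BT.node (nat_lit 10619140) (BT.node (nat_lit 10619136) (BT.leaf (nat_lit 47354373)) (BT.leaf (nat_lit 30876437))) (BT.node (nat_lit 10619200) (BT.leaf (nat_lit 754644)) (BT.leaf (nat_lit 30854937)))) (BT.node (nat_lit 10619328) (BT.node (nat_lit 10619264) (BT.leaf (nat_lit 683492)) (BT.leaf (nat_lit 30854941))) (BT.node (nat_lit 10619392) (BT.leaf (nat_lit 35524373)) (BT.leaf (nat_lit 30830349)))))) (BT.node (nat_lit 10619904) (BT.node (nat_lit 10619712) (BT.node (nat_lit 10619584) (BT.node (nat_lit 10619520) (BT.leaf (nat_lit 38554637)) (BT.leaf (nat_lit 34078741))) (BT.node (nat_lit 10619648) (BT.leaf (nat_lit 35619613)) (BT.leaf (nat_lit 30250773)))) (BT.node (nat_lit 10619776) (BT.node (nat_lit 10619713) (BT.leaf (nat_lit 30249241)) (BT.leaf (nat_lit 774240))) (BT.node (nat_lit 10619840) (BT.leaf (nat_lit 43725321)) (BT.leaf (nat_lit 43725325))))) (BT.node (nat_lit 10620160) (BT.node (nat_lit 10620032) (BT.node (nat_lit 10619968) (BT.leaf (nat_lit 43725333)) (BT.leaf (nat_lit 43725337))) (BT.node (nat_lit 10620096) (BT.leaf (nat_lit 43725341)) (BT.leaf (nat_lit 30249489)))) (BT.node (nat_lit 10620288) (BT.node (nat_lit 10620224) (BT.leaf (nat_lit 29965597)) (BT.leaf (nat_lit 37136145))) (BT.node (nat_lit 10620352) (BT.leaf (nat_lit 29325081)) (BT.leaf (nat_lit 42487309))))))) (BT.node (nat_lit 10621504) (BT.node (nat_lit 10620992) (BT.node (nat_lit 10620736) (BT.node (nat_lit 10620608) (BT.node (nat_lit 10620480) (BT.leaf (nat_lit 42679573)) (BT.leaf (nat_lit 44692257))) (BT.node (nat_lit 10620672) (BT.leaf (nat_lit 43998233)) (BT.leaf (nat_lit 41509133)))) (BT.node (nat_lit 10620864) (BT.node (nat_lit 10620800) (BT.leaf (nat_lit 31829265)) (BT.leaf (nat_lit 31829269))) (BT.node (nat_lit 10620928) (BT.leaf (nat_lit 32980489)) (BT.leaf (nat_lit 32980493))))) (BT.node (nat_lit 10621248) (BT.node (nat_lit 10621120) (BT.node (nat_lit 10621056) (BT.leaf (nat_lit 32980497)) (BT.leaf (nat_lit 37775381))) (BT.node (nat_lit 10621184) (BT.leaf (nat_lit 30253081)) (BT.leaf (nat_lit 39910689)))) (BT.node (nat_lit 10621376) (BT.node (nat_lit 10621312) (BT.leaf (nat_lit 40032533)) (BT.leaf (nat_lit 39550217))) (BT.node (nat_lit 10621440) (BT.leaf (nat_lit 39550221)) (BT.leaf (nat_lit 42281749)))))) (BT.node (nat_lit 10622016) (BT.node (nat_lit 10621760) (BT.node (nat_lit 10621632) (BT.node (nat_lit 10621568) (BT.leaf (nat_lit 39550233)) (BT.leaf (nat_lit 39550237))) (BT.node (nat_lit 10621696) (BT.leaf (nat_lit 42500357)) (BT.leaf (nat_lit 31709701)))) (BT.node (nat_lit 10621888) (BT.node (nat_lit 10621824) (BT.leaf (nat_lit 40911393)) (BT.leaf (nat_lit 40989445))) (BT.node (nat_lit 10621952) (BT.leaf (nat_lit 37954569)) (BT.leaf (nat_lit 37954573))))) (BT.node (nat_lit 10622272) (BT.node (nat_lit 10622144) (BT.node (nat_lit 10622080) (BT.leaf (nat_lit 42191621)) (BT.leaf (nat_lit 31579669))) (BT.node (nat_lit 10622208) (BT.leaf (nat_lit 39091981)) (BT.leaf (nat_lit 38270741)))) (BT.node (nat_lit 10622464) (BT.node (nat_lit 10622400) (BT.leaf (nat_lit 44437273)) (BT.leaf (nat_lit 34080541))) (BT.node (nat_lit 10622528) (BT.leaf (nat_lit 31658013)) (BT.leaf (nat_lit 42489113)))))))))))))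
noncomputable def big0_e94208 : BT Nat := (BT.node (nat_lit 10684864) (BT.node (nat_lit 10653376) (BT.node (nat_lit 10637824) (BT.node (nat_lit 10630848) (BT.node (nat_lit 10626688) (BT.node (nat_lit 10624512) (BT.node (nat_lit 10623616) (BT.node (nat_lit 10623104) (BT.node (nat_lit 10622848) (BT.node (nat_lit 10622720) (BT.node (nat_lit 10622656) (BT.leaf (nat_lit 31658525)) (BT.leaf (nat_lit 40143633))) (BT.node (nat_lit 10622784) (BT.leaf (nat_lit 42493725)) (BT.leaf (nat_lit 44440085)))) (BT.node (nat_lit 10622976) (BT.node (nat_lit 10622912) (BT.leaf (nat_lit 32202517)) (BT.leaf (nat_lit 31657993))) (BT.node (nat_lit 10623040) (BT.leaf (nat_lit 31657997)) (BT.leaf (nat_lit 32521745))))) (BT.node (nat_lit 10623360) (BT.node (nat_lit 10623232) (BT.node (nat_lit 10623168) (BT.leaf (nat_lit 44531717)) (BT.leaf (nat_lit 38993669))) (BT.node (nat_lit 10623296) (BT.leaf (nat_lit 30253849)) (BT.leaf (nat_lit 43101977)))) (BT.node (nat_lit 10623488) (BT.node (nat_lit 10623424) (BT.leaf (nat_lit 38993681)) (BT.leaf (nat_lit 50825485))) (BT.node (nat_lit 10623552) (BT.leaf (nat_lit 38993697)) (BT.leaf (nat_lit 39605773)))))) (BT.node (nat_lit 10624000) (BT.node (nat_lit 10623744) (BT.node (nat_lit 10623620) (BT.node (nat_lit 10623617) (BT.leaf (nat_lit 43542561)) (BT.leaf (nat_lit 680916))) (BT.node (nat_lit 10623680) (BT.leaf (nat_lit 680916)) (BT.leaf (nat_lit 43803157)))) (BT.node (nat_lit 10623872) (BT.node (nat_lit 10623808) (BT.leaf (nat_lit 39605769)) (BT.leaf (nat_lit 39605785))) (BT.node (nat_lit 10623936) (BT.leaf (nat_lit 39605789)) (BT.leaf (nat_lit 43107853))))) (BT.node (nat_lit 10624256) (BT.node (nat_lit 10624128) (BT.node (nat_lit 10624064) (BT.leaf (nat_lit 42848545)) (BT.leaf (nat_lit 44700165))) (BT.node (nat_lit 10624192) (BT.leaf (nat_lit 30257949)) (BT.leaf (nat_lit 44700177)))) (BT.node (nat_lit 10624384) (BT.node (nat_lit 10624320) (BT.leaf (nat_lit 48964617)) (BT.leaf (nat_lit 43541025))) (BT.node (nat_lit 10624448) (BT.leaf (nat_lit 43802885)) (BT.leaf (nat_lit 30257953))))))) (BT.node (nat_lit 10625664) (BT.node (nat_lit 10625024) (BT.node (nat_lit 10624768) (BT.node (nat_lit 10624640) (BT.node (nat_lit 10624576) (BT.leaf (nat_lit 43107085)) (BT.leaf (nat_lit 38172165))) (BT.node (nat_lit 10624704) (BT.leaf (nat_lit 41509141)) (BT.leaf (nat_lit 41509149)))) (BT.node (nat_lit 10624896) (BT.node (nat_lit 10624832) (BT.leaf (nat_lit 44692253)) (BT.leaf (nat_lit 30692893))) (BT.node (nat_lit 10624960) (BT.leaf (nat_lit 39908897)) (BT.leaf (nat_lit 31834905))))) (BT.node (nat_lit 10625280) (BT.node (nat_lit 10625152) (BT.node (nat_lit 10625088) (BT.leaf (nat_lit 38172193)) (BT.leaf (nat_lit 31834897))) (BT.node (nat_lit 10625216) (BT.leaf (nat_lit 31834901)) (BT.leaf (nat_lit 31833873)))) (BT.node (nat_lit 10625408) (BT.node (nat_lit 10625344) (BT.leaf (nat_lit 48427809)) (BT.leaf (nat_lit 41569305))) (BT.node (nat_lit 10625472) (BT.leaf (nat_lit 41569309)) (BT.leaf (nat_lit 43803165)))))) (BT.node (nat_lit 10626176) (BT.node (nat_lit 10625920) (BT.node (nat_lit 10625792) (BT.node (nat_lit 10625728) (BT.leaf (nat_lit 50701081)) (BT.leaf (nat_lit 30546457))) (BT.node (nat_lit 10625856) (BT.leaf (nat_lit 48108301)) (BT.leaf (nat_lit 28731161)))) (BT.node (nat_lit 10626048) (BT.node (nat_lit 10625984) (BT.leaf (nat_lit 34089501)) (BT.leaf (nat_lit 30278165))) (BT.node (nat_lit 10626112) (BT.leaf (nat_lit 44429849)) (BT.leaf (nat_lit 30275869))))) (BT.node (nat_lit 10626432) (BT.node (nat_lit 10626304) (BT.node (nat_lit 10626240) (BT.leaf (nat_lit 31012361)) (BT.leaf (nat_lit 34085397))) (BT.node (nat_lit 10626368) (BT.leaf (nat_lit 37821961)) (BT.leaf (nat_lit 42721301)))) (BT.node (nat_lit 10626560) (BT.node (nat_lit 10626496) (BT.leaf (nat_lit 47451409)) (BT.leaf (nat_lit 49180449))) (BT.node (nat_lit 10626624) (BT.leaf (nat_lit 30286093)) (BT.leaf (nat_lit 30270737)))))))) (BT.node (nat_lit 10628736) (BT.node (nat_lit 10627712) (BT.node (nat_lit 10627205) (BT.node (nat_lit 10627008) (BT.node (nat_lit 10626816) (BT.node (nat_lit 10626752) (BT.leaf (nat_lit 46104609)) (BT.leaf (nat_lit 48205601))) (BT.node (nat_lit 10626880) (BT.leaf (nat_lit 48541729)) (BT.leaf (nat_lit 50584865)))) (BT.node (nat_lit 10627136) (BT.node (nat_lit 10627072) (BT.leaf (nat_lit 50585377)) (BT.leaf (nat_lit 50585121))) (BT.node (nat_lit 10627200) (BT.leaf (nat_lit 29711897)) (BT.leaf (nat_lit 48517129))))) (BT.node (nat_lit 10627456) (BT.node (nat_lit 10627328) (BT.node (nat_lit 10627264) (BT.leaf (nat_lit 777840)) (BT.leaf (nat_lit 42539549))) (BT.node (nat_lit 10627392) (BT.leaf (nat_lit 32793369)) (BT.leaf (nat_lit 45980429)))) (BT.node (nat_lit 10627584) (BT.node (nat_lit 10627520) (BT.leaf (nat_lit 37813281)) (BT.leaf (nat_lit 38987041))) (BT.node (nat_lit 10627648) (BT.leaf (nat_lit 50637601)) (BT.leaf (nat_lit 50637857)))))) (BT.node (nat_lit 10628224) (BT.node (nat_lit 10627968) (BT.node (nat_lit 10627840) (BT.node (nat_lit 10627776) (BT.leaf (nat_lit 47443461)) (BT.leaf (nat_lit 50638625))) (BT.node (nat_lit 10627904) (BT.leaf (nat_lit 50638369)) (BT.leaf (nat_lit 49967389)))) (BT.node (nat_lit 10628096) (BT.node (nat_lit 10628032) (BT.leaf (nat_lit 30274845)) (BT.leaf (nat_lit 47548185))) (BT.node (nat_lit 10628160) (BT.leaf (nat_lit 47976733)) (BT.leaf (nat_lit 30275609))))) (BT.node (nat_lit 10628480) (BT.node (nat_lit 10628352) (BT.node (nat_lit 10628288) (BT.leaf (nat_lit 38182413)) (BT.leaf (nat_lit 31648773))) (BT.node (nat_lit 10628416) (BT.leaf (nat_lit 33228817)) (BT.leaf (nat_lit 40393497)))) (BT.node (nat_lit 10628608) (BT.node (nat_lit 10628544) (BT.leaf (nat_lit 37999881)) (BT.leaf (nat_lit 37999885))) (BT.node (nat_lit 10628672) (BT.leaf (nat_lit 50148893)) (BT.leaf (nat_lit 37999905))))))) (BT.node (nat_lit 10629824) (BT.node (nat_lit 10629312) (BT.node (nat_lit 10629056) (BT.node (nat_lit 10628928) (BT.node (nat_lit 10628864) (BT.leaf (nat_lit 30276121)) (BT.leaf (nat_lit 30276881))) (BT.node (nat_lit 10628992) (BT.leaf (nat_lit 45095449)) (BT.leaf (nat_lit 46073113)))) (BT.node (nat_lit 10629184) (BT.node (nat_lit 10629120) (BT.leaf (nat_lit 30278169)) (BT.leaf (nat_lit 30278425))) (BT.node (nat_lit 10629248) (BT.leaf (nat_lit 30277661)) (BT.leaf (nat_lit 50246921))))) (BT.node (nat_lit 10629568) (BT.node (nat_lit 10629440) (BT.node (nat_lit 10629376) (BT.leaf (nat_lit 30909197)) (BT.leaf (nat_lit 34087957))) (BT.node (nat_lit 10629504) (BT.leaf (nat_lit 30909209)) (BT.leaf (nat_lit 30909213)))) (BT.node (nat_lit 10629696) (BT.node (nat_lit 10629632) (BT.leaf (nat_lit 32828685)) (BT.leaf (nat_lit 48370977))) (BT.node (nat_lit 10629760) (BT.leaf (nat_lit 42504213)) (BT.leaf (nat_lit 34252817)))))) (BT.node (nat_lit 10630336) (BT.node (nat_lit 10630016) (BT.node (nat_lit 10629888) (BT.node (nat_lit 10629825) (BT.leaf (nat_lit 31338769)) (BT.leaf (nat_lit 759912))) (BT.node (nat_lit 10629952) (BT.leaf (nat_lit 34246929)) (BT.leaf (nat_lit 50476561)))) (BT.node (nat_lit 10630144) (BT.node (nat_lit 10630080) (BT.leaf (nat_lit 31632657)) (BT.leaf (nat_lit 38988569))) (BT.node (nat_lit 10630208) (BT.leaf (nat_lit 43221261)) (BT.leaf (nat_lit 40047889))))) (BT.node (nat_lit 10630592) (BT.node (nat_lit 10630464) (BT.node (nat_lit 10630400) (BT.leaf (nat_lit 42162437)) (BT.leaf (nat_lit 30270213))) (BT.node (nat_lit 10630528) (BT.leaf (nat_lit 30280481)) (BT.leaf (nat_lit 31255317)))) (BT.node (nat_lit 10630720) (BT.node (nat_lit 10630656) (BT.leaf (nat_lit 42691093)) (BT.leaf (nat_lit 37821969))) (BT.node (nat_lit 10630784) (BT.leaf (nat_lit 50917909)) (BT.leaf (nat_lit 40044297))))))))) (BT.node (nat_lit 10634112) (BT.node (nat_lit 10632641) (BT.node (nat_lit 10631744) (BT.node (nat_lit 10631296) (BT.node (nat_lit 10631104) (BT.node (nat_lit 10630976) (BT.node (nat_lit 10630912) (BT.leaf (nat_lit 42523161)) (BT.leaf (nat_lit 36292633))) (BT.node (nat_lit 10631040) (BT.leaf (nat_lit 38238477)) (BT.leaf (nat_lit 38216973)))) (BT.node (nat_lit 10631168) (BT.node (nat_lit 10631105) (BT.leaf (nat_lit 32420369)) (BT.leaf (nat_lit 791104))) (BT.node (nat_lit 10631232) (BT.leaf (nat_lit 30281489)) (BT.leaf (nat_lit 31250457))))) (BT.node (nat_lit 10631552) (BT.node (nat_lit 10631424) (BT.node (nat_lit 10631360) (BT.leaf (nat_lit 31250461)) (BT.leaf (nat_lit 50056469))) (BT.node (nat_lit 10631488) (BT.leaf (nat_lit 30283281)) (BT.leaf (nat_lit 30283025)))) (BT.node (nat_lit 10631621) (BT.node (nat_lit 10631616) (BT.leaf (nat_lit 34091025)) (BT.leaf (nat_lit 30583833))) (BT.node (nat_lit 10631680) (BT.leaf (nat_lit 720732)) (BT.leaf (nat_lit 30286085)))))) (BT.node (nat_lit 10632192) (BT.node (nat_lit 10631942) (BT.node (nat_lit 10631872) (BT.node (nat_lit 10631808) (BT.leaf (nat_lit 32945429)) (BT.leaf (nat_lit 31164437))) (BT.node (nat_lit 10631936) (BT.leaf (nat_lit 51055381)) (BT.leaf (nat_lit 30972433)))) (BT.node (nat_lit 10632064) (BT.node (nat_lit 10632000) (BT.leaf (nat_lit 667264)) (BT.leaf (nat_lit 30951193))) (BT.node (nat_lit 10632128) (BT.leaf (nat_lit 30951197)) (BT.leaf (nat_lit 45800981))))) (BT.node (nat_lit 10632448) (BT.node (nat_lit 10632320) (BT.node (nat_lit 10632256) (BT.leaf (nat_lit 42529053)) (BT.leaf (nat_lit 43684897))) (BT.node (nat_lit 10632384) (BT.leaf (nat_lit 32230689)) (BT.leaf (nat_lit 30284805)))) (BT.node (nat_lit 10632576) (BT.node (nat_lit 10632512) (BT.leaf (nat_lit 32231457)) (BT.leaf (nat_lit 32231201))) (BT.node (nat_lit 10632640) (BT.leaf (nat_lit 46716961)) (BT.leaf (nat_lit 49337633))))))) (BT.node (nat_lit 10633280) (BT.node (nat_lit 10632964) (BT.node (nat_lit 10632768) (BT.node (nat_lit 10632646) (BT.node (nat_lit 10632642) (BT.leaf (nat_lit 696580)) (BT.leaf (nat_lit 696580))) (BT.node (nat_lit 10632704) (BT.leaf (nat_lit 696580)) (BT.leaf (nat_lit 31753749)))) (BT.node (nat_lit 10632896) (BT.node (nat_lit 10632832) (BT.leaf (nat_lit 35733509)) (BT.leaf (nat_lit 47465749))) (BT.node (nat_lit 10632960) (BT.leaf (nat_lit 47465753)) (BT.leaf (nat_lit 47465757))))) (BT.node (nat_lit 10633094) (BT.node (nat_lit 10633024) (BT.node (nat_lit 10632965) (BT.leaf (nat_lit 758456)) (BT.leaf (nat_lit 758456))) (BT.node (nat_lit 10633088) (BT.leaf (nat_lit 47437593)) (BT.leaf (nat_lit 32623373)))) (BT.node (nat_lit 10633152) (BT.node (nat_lit 10633095) (BT.leaf (nat_lit 741216)) (BT.leaf (nat_lit 741216))) (BT.node (nat_lit 10633216) (BT.leaf (nat_lit 42627361)) (BT.leaf (nat_lit 40074517)))))) (BT.node (nat_lit 10633536) (BT.node (nat_lit 10633408) (BT.node (nat_lit 10633283) (BT.node (nat_lit 10633282) (BT.leaf (nat_lit 47437581)) (BT.leaf (nat_lit 741208))) (BT.node (nat_lit 10633344) (BT.leaf (nat_lit 741208)) (BT.leaf (nat_lit 32792849)))) (BT.node (nat_lit 10633476) (BT.node (nat_lit 10633472) (BT.leaf (nat_lit 32792853)) (BT.leaf (nat_lit 40073489))) (BT.node (nat_lit 10633477) (BT.leaf (nat_lit 696056)) (BT.leaf (nat_lit 696056))))) (BT.node (nat_lit 10633856) (BT.node (nat_lit 10633728) (BT.node (nat_lit 10633664) (BT.leaf (nat_lit 40072721)) (BT.leaf (nat_lit 42274317))) (BT.node (nat_lit 10633792) (BT.leaf (nat_lit 42274573)) (BT.leaf (nat_lit 30285585)))) (BT.node (nat_lit 10633984) (BT.node (nat_lit 10633920) (BT.leaf (nat_lit 50341393)) (BT.leaf (nat_lit 30286089))) (BT.node (nat_lit 10634048) (BT.leaf (nat_lit 30285329)) (BT.leaf (nat_lit 35886865)))))))) (BT.node (nat_lit 10636032) (BT.node (nat_lit 10635075) (BT.node (nat_lit 10634688) (BT.node (nat_lit 10634432) (BT.node (nat_lit 10634304) (BT.node (nat_lit 10634176) (BT.leaf (nat_lit 38757401)) (BT.leaf (nat_lit 38757405))) (BT.node (nat_lit 10634368) (BT.leaf (nat_lit 42339337)) (BT.leaf (nat_lit 30286365)))) (BT.node (nat_lit 10634560) (BT.node (nat_lit 10634496) (BT.leaf (nat_lit 40155409)) (BT.leaf (nat_lit 40155425))) (BT.node (nat_lit 10634624) (BT.leaf (nat_lit 32021529)) (BT.leaf (nat_lit 32021537))))) (BT.node (nat_lit 10634944) (BT.node (nat_lit 10634816) (BT.node (nat_lit 10634752) (BT.leaf (nat_lit 28584461)) (BT.leaf (nat_lit 42537997))) (BT.node (nat_lit 10634880) (BT.leaf (nat_lit 47827469)) (BT.leaf (nat_lit 42508309)))) (BT.node (nat_lit 10635072) (BT.node (nat_lit 10635008) (BT.leaf (nat_lit 30287117)) (BT.leaf (nat_lit 31652121))) (BT.node (nat_lit 10635073) (BT.leaf (nat_lit 31638037)) (BT.leaf (nat_lit 758028)))))) (BT.node (nat_lit 10635520) (BT.node (nat_lit 10635264) (BT.node (nat_lit 10635136) (BT.node (nat_lit 10635080) (BT.leaf (nat_lit 758028)) (BT.leaf (nat_lit 758028))) (BT.node (nat_lit 10635200) (BT.leaf (nat_lit 42507289)) (BT.leaf (nat_lit 30287133)))) (BT.node (nat_lit 10635392) (BT.node (nat_lit 10635328) (BT.leaf (nat_lit 45324321)) (BT.leaf (nat_lit 32155401))) (BT.node (nat_lit 10635456) (BT.leaf (nat_lit 43241241)) (BT.leaf (nat_lit 45102101))))) (BT.node (nat_lit 10635776) (BT.node (nat_lit 10635648) (BT.node (nat_lit 10635584) (BT.leaf (nat_lit 32592657)) (BT.leaf (nat_lit 43237901))) (BT.node (nat_lit 10635712) (BT.leaf (nat_lit 30760713)) (BT.leaf (nat_lit 30765589)))) (BT.node (nat_lit 10635904) (BT.node (nat_lit 10635840) (BT.leaf (nat_lit 30766621)) (BT.leaf (nat_lit 30289685))) (BT.node (nat_lit 10635968) (BT.leaf (nat_lit 30766601)) (BT.leaf (nat_lit 44852489))))))) (BT.node (nat_lit 10636864) (BT.node (nat_lit 10636544) (BT.node (nat_lit 10636288) (BT.node (nat_lit 10636160) (BT.node (nat_lit 10636096) (BT.leaf (nat_lit 30766349)) (BT.leaf (nat_lit 38243349))) (BT.node (nat_lit 10636224) (BT.leaf (nat_lit 38736405)) (BT.leaf (nat_lit 30005509)))) (BT.node (nat_lit 10636416) (BT.node (nat_lit 10636352) (BT.leaf (nat_lit 42158113)) (BT.leaf (nat_lit 30297861))) (BT.node (nat_lit 10636480) (BT.leaf (nat_lit 30289945)) (BT.leaf (nat_lit 29403929))))) (BT.node (nat_lit 10636679) (BT.node (nat_lit 10636608) (BT.node (nat_lit 10636545) (BT.leaf (nat_lit 32872209)) (BT.leaf (nat_lit 749488))) (BT.node (nat_lit 10636672) (BT.leaf (nat_lit 30290717)) (BT.leaf (nat_lit 49281569)))) (BT.node (nat_lit 10636741) (BT.node (nat_lit 10636736) (BT.leaf (nat_lit 813616)) (BT.leaf (nat_lit 49281825))) (BT.node (nat_lit 10636800) (BT.leaf (nat_lit 813620)) (BT.leaf (nat_lit 40127777)))))) (BT.node (nat_lit 10637376) (BT.node (nat_lit 10637120) (BT.node (nat_lit 10636992) (BT.node (nat_lit 10636928) (BT.leaf (nat_lit 49282337)) (BT.leaf (nat_lit 49282081))) (BT.node (nat_lit 10637056) (BT.leaf (nat_lit 36962053)) (BT.leaf (nat_lit 30291481)))) (BT.node (nat_lit 10637248) (BT.node (nat_lit 10637184) (BT.leaf (nat_lit 30291737)) (BT.leaf (nat_lit 44111633))) (BT.node (nat_lit 10637312) (BT.leaf (nat_lit 36961565)) (BT.leaf (nat_lit 30291485))))) (BT.node (nat_lit 10637569) (BT.node (nat_lit 10637504) (BT.node (nat_lit 10637440) (BT.leaf (nat_lit 30291741)) (BT.leaf (nat_lit 42555909))) (BT.node (nat_lit 10637568) (BT.leaf (nat_lit 32417813)) (BT.leaf (nat_lit 42556705)))) (BT.node (nat_lit 10637696) (BT.node (nat_lit 10637632) (BT.leaf (nat_lit 665152)) (BT.leaf (nat_lit 30293777))) (BT.node (nat_lit 10637760) (BT.leaf (nat_lit 48846625)) (BT.leaf (nat_lit 41765921)))))))))) (BT.node (nat_lit 10645696) (BT.node (nat_lit 10641856) (BT.node (nat_lit 10639744) (BT.node (nat_lit 10638848) (BT.node (nat_lit 10638336) (BT.node (nat_lit 10638080) (BT.node (nat_lit 10637952) (BT.node (nat_lit 10637888) (BT.leaf (nat_lit 32494089)) (BT.leaf (nat_lit 32494093))) (BT.node (nat_lit 10638016) (BT.leaf (nat_lit 51098401)) (BT.leaf (nat_lit 30977817)))) (BT.node (nat_lit 10638208) (BT.node (nat_lit 10638144) (BT.leaf (nat_lit 45167637)) (BT.leaf (nat_lit 32468241))) (BT.node (nat_lit 10638272) (BT.leaf (nat_lit 30291733)) (BT.leaf (nat_lit 36829721))))) (BT.node (nat_lit 10638592) (BT.node (nat_lit 10638464) (BT.node (nat_lit 10638400) (BT.leaf (nat_lit 43553297)) (BT.leaf (nat_lit 42563357))) (BT.node (nat_lit 10638528) (BT.leaf (nat_lit 44754449)) (BT.leaf (nat_lit 42566669)))) (BT.node (nat_lit 10638720) (BT.node (nat_lit 10638656) (BT.leaf (nat_lit 32465169)) (BT.leaf (nat_lit 28061205))) (BT.node (nat_lit 10638784) (BT.leaf (nat_lit 41769733)) (BT.leaf (nat_lit 41770265)))))) (BT.node (nat_lit 10639360) (BT.node (nat_lit 10639104) (BT.node (nat_lit 10638976) (BT.node (nat_lit 10638912) (BT.leaf (nat_lit 41770269)) (BT.leaf (nat_lit 36306453))) (BT.node (nat_lit 10639040) (BT.leaf (nat_lit 31994129)) (BT.leaf (nat_lit 31994133)))) (BT.node (nat_lit 10639232) (BT.node (nat_lit 10639168) (BT.leaf (nat_lit 42548741)) (BT.leaf (nat_lit 43087897))) (BT.node (nat_lit 10639296) (BT.leaf (nat_lit 42550049)) (BT.leaf (nat_lit 47964441))))) (BT.node (nat_lit 10639488) (BT.node (nat_lit 10639368) (BT.node (nat_lit 10639364) (BT.leaf (nat_lit 47957281)) (BT.leaf (nat_lit 694104))) (BT.node (nat_lit 10639424) (BT.leaf (nat_lit 694104)) (BT.leaf (nat_lit 47639829)))) (BT.node (nat_lit 10639616) (BT.node (nat_lit 10639552) (BT.leaf (nat_lit 47957261)) (BT.leaf (nat_lit 30294557))) (BT.node (nat_lit 10639680) (BT.leaf (nat_lit 30296349)) (BT.leaf (nat_lit 42282513))))))) (BT.node (nat_lit 10640832) (BT.node (nat_lit 10640320) (BT.node (nat_lit 10640000) (BT.node (nat_lit 10639872) (BT.node (nat_lit 10639808) (BT.leaf (nat_lit 30297113)) (BT.leaf (nat_lit 30296857))) (BT.node (nat_lit 10639936) (BT.leaf (nat_lit 30971413)) (BT.leaf (nat_lit 34095645)))) (BT.node (nat_lit 10640128) (BT.node (nat_lit 10640064) (BT.leaf (nat_lit 30297361)) (BT.leaf (nat_lit 45120021))) (BT.node (nat_lit 10640256) (BT.leaf (nat_lit 42551581)) (BT.leaf (nat_lit 43828769))))) (BT.node (nat_lit 10640576) (BT.node (nat_lit 10640448) (BT.node (nat_lit 10640384) (BT.leaf (nat_lit 30298385)) (BT.leaf (nat_lit 47766289))) (BT.node (nat_lit 10640512) (BT.leaf (nat_lit 31033113)) (BT.leaf (nat_lit 31033117)))) (BT.node (nat_lit 10640704) (BT.node (nat_lit 10640640) (BT.leaf (nat_lit 30298129)) (BT.leaf (nat_lit 30490633))) (BT.node (nat_lit 10640768) (BT.leaf (nat_lit 30299913)) (BT.leaf (nat_lit 38600457)))))) (BT.node (nat_lit 10641344) (BT.node (nat_lit 10641088) (BT.node (nat_lit 10640960) (BT.node (nat_lit 10640896) (BT.leaf (nat_lit 43098133)) (BT.leaf (nat_lit 30299917))) (BT.node (nat_lit 10641024) (BT.leaf (nat_lit 30299921)) (BT.leaf (nat_lit 38600473)))) (BT.node (nat_lit 10641216) (BT.node (nat_lit 10641152) (BT.leaf (nat_lit 38600477)) (BT.leaf (nat_lit 46995737))) (BT.node (nat_lit 10641280) (BT.leaf (nat_lit 30490641)) (BT.leaf (nat_lit 30299933))))) (BT.node (nat_lit 10641600) (BT.node (nat_lit 10641472) (BT.node (nat_lit 10641408) (BT.leaf (nat_lit 31770901)) (BT.leaf (nat_lit 31770905))) (BT.node (nat_lit 10641536) (BT.leaf (nat_lit 31770909)) (BT.leaf (nat_lit 30300177)))) (BT.node (nat_lit 10641728) (BT.node (nat_lit 10641664) (BT.leaf (nat_lit 30300181)) (BT.leaf (nat_lit 45864221))) (BT.node (nat_lit 10641792) (BT.leaf (nat_lit 30689301)) (BT.leaf (nat_lit 30689305)))))))) (BT.node (nat_lit 10643904) (BT.node (nat_lit 10642880) (BT.node (nat_lit 10642368) (BT.node (nat_lit 10642112) (BT.node (nat_lit 10641984) (BT.node (nat_lit 10641920) (BT.leaf (nat_lit 30689309)) (BT.leaf (nat_lit 30300433))) (BT.node (nat_lit 10642048) (BT.leaf (nat_lit 30300437)) (BT.leaf (nat_lit 43100189)))) (BT.node (nat_lit 10642240) (BT.node (nat_lit 10642176) (BT.leaf (nat_lit 41142041)) (BT.leaf (nat_lit 46857237))) (BT.node (nat_lit 10642304) (BT.leaf (nat_lit 41765665)) (BT.leaf (nat_lit 32486937))))) (BT.node (nat_lit 10642624) (BT.node (nat_lit 10642496) (BT.node (nat_lit 10642432) (BT.leaf (nat_lit 40145441)) (BT.leaf (nat_lit 36962333))) (BT.node (nat_lit 10642560) (BT.leaf (nat_lit 39734033)) (BT.leaf (nat_lit 30303769)))) (BT.node (nat_lit 10642752) (BT.node (nat_lit 10642688) (BT.leaf (nat_lit 31324437)) (BT.leaf (nat_lit 30303773))) (BT.node (nat_lit 10642816) (BT.leaf (nat_lit 31674385)) (BT.leaf (nat_lit 31450389)))))) (BT.node (nat_lit 10643392) (BT.node (nat_lit 10643136) (BT.node (nat_lit 10643008) (BT.node (nat_lit 10642944) (BT.leaf (nat_lit 30307857)) (BT.leaf (nat_lit 41279501))) (BT.node (nat_lit 10643072) (BT.leaf (nat_lit 30307601)) (BT.leaf (nat_lit 50244121)))) (BT.node (nat_lit 10643264) (BT.node (nat_lit 10643200) (BT.leaf (nat_lit 30308633)) (BT.leaf (nat_lit 40560657))) (BT.node (nat_lit 10643328) (BT.leaf (nat_lit 40638229)) (BT.leaf (nat_lit 40560673))))) (BT.node (nat_lit 10643648) (BT.node (nat_lit 10643520) (BT.node (nat_lit 10643456) (BT.leaf (nat_lit 34100509)) (BT.leaf (nat_lit 30308637))) (BT.node (nat_lit 10643584) (BT.leaf (nat_lit 31324693)) (BT.leaf (nat_lit 30309145)))) (BT.node (nat_lit 10643776) (BT.node (nat_lit 10643712) (BT.leaf (nat_lit 38220557)) (BT.leaf (nat_lit 37829653))) (BT.node (nat_lit 10643840) (BT.leaf (nat_lit 28068113)) (BT.leaf (nat_lit 30310929))))))) (BT.node (nat_lit 10644808) (BT.node (nat_lit 10644416) (BT.node (nat_lit 10644160) (BT.node (nat_lit 10644032) (BT.node (nat_lit 10643968) (BT.leaf (nat_lit 40185109)) (BT.leaf (nat_lit 39829785))) (BT.node (nat_lit 10644096) (BT.leaf (nat_lit 39829789)) (BT.leaf (nat_lit 28067857)))) (BT.node (nat_lit 10644288) (BT.node (nat_lit 10644224) (BT.leaf (nat_lit 30311697)) (BT.leaf (nat_lit 43077653))) (BT.node (nat_lit 10644352) (BT.leaf (nat_lit 43787289)) (BT.leaf (nat_lit 43787293))))) (BT.node (nat_lit 10644672) (BT.node (nat_lit 10644544) (BT.node (nat_lit 10644480) (BT.leaf (nat_lit 43787297)) (BT.leaf (nat_lit 39788565))) (BT.node (nat_lit 10644608) (BT.leaf (nat_lit 38564885)) (BT.leaf (nat_lit 39714589)))) (BT.node (nat_lit 10644800) (BT.node (nat_lit 10644736) (BT.leaf (nat_lit 30424337)) (BT.leaf (nat_lit 47951641))) (BT.node (nat_lit 10644805) (BT.leaf (nat_lit 45356825)) (BT.leaf (nat_lit 708704)))))) (BT.node (nat_lit 10645248) (BT.node (nat_lit 10645120) (BT.node (nat_lit 10644992) (BT.node (nat_lit 10644928) (BT.leaf (nat_lit 708704)) (BT.leaf (nat_lit 30319897))) (BT.node (nat_lit 10645056) (BT.leaf (nat_lit 51167521)) (BT.leaf (nat_lit 42580493)))) (BT.node (nat_lit 10645124) (BT.node (nat_lit 10645121) (BT.leaf (nat_lit 43378197)) (BT.leaf (nat_lit 733624))) (BT.node (nat_lit 10645184) (BT.leaf (nat_lit 693088)) (BT.leaf (nat_lit 30459669))))) (BT.node (nat_lit 10645504) (BT.node (nat_lit 10645376) (BT.node (nat_lit 10645312) (BT.leaf (nat_lit 46951693)) (BT.leaf (nat_lit 39354653))) (BT.node (nat_lit 10645440) (BT.leaf (nat_lit 28591369)) (BT.leaf (nat_lit 31561249)))) (BT.node (nat_lit 10645573) (BT.node (nat_lit 10645568) (BT.leaf (nat_lit 31951893)) (BT.leaf (nat_lit 30992417))) (BT.node (nat_lit 10645632) (BT.leaf (nat_lit 762264)) (BT.leaf (nat_lit 48784921))))))))) (BT.node (nat_lit 10649344) (BT.node (nat_lit 10647556) (BT.node (nat_lit 10646656) (BT.node (nat_lit 10646152) (BT.node (nat_lit 10645952) (BT.node (nat_lit 10645824) (BT.node (nat_lit 10645760) (BT.leaf (nat_lit 43712517)) (BT.leaf (nat_lit 37946401))) (BT.node (nat_lit 10645888) (BT.leaf (nat_lit 41751573)) (BT.leaf (nat_lit 39545093)))) (BT.node (nat_lit 10646080) (BT.node (nat_lit 10646016) (BT.leaf (nat_lit 32364553)) (BT.leaf (nat_lit 32364557))) (BT.node (nat_lit 10646144) (BT.leaf (nat_lit 32364821)) (BT.leaf (nat_lit 45317129))))) (BT.node (nat_lit 10646400) (BT.node (nat_lit 10646272) (BT.node (nat_lit 10646208) (BT.leaf (nat_lit 770836)) (BT.leaf (nat_lit 38742797))) (BT.node (nat_lit 10646336) (BT.leaf (nat_lit 38890757)) (BT.leaf (nat_lit 49291541)))) (BT.node (nat_lit 10646528) (BT.node (nat_lit 10646464) (BT.leaf (nat_lit 30062361)) (BT.leaf (nat_lit 41130261))) (BT.node (nat_lit 10646592) (BT.leaf (nat_lit 42204185)) (BT.leaf (nat_lit 43725849)))))) (BT.node (nat_lit 10647168) (BT.node (nat_lit 10646912) (BT.node (nat_lit 10646784) (BT.node (nat_lit 10646720) (BT.leaf (nat_lit 48358925)) (BT.leaf (nat_lit 29278737))) (BT.node (nat_lit 10646848) (BT.leaf (nat_lit 30331153)) (BT.leaf (nat_lit 30372881)))) (BT.node (nat_lit 10647040) (BT.node (nat_lit 10646976) (BT.leaf (nat_lit 39128345)) (BT.leaf (nat_lit 31961873))) (BT.node (nat_lit 10647104) (BT.leaf (nat_lit 41499937)) (BT.leaf (nat_lit 46902021))))) (BT.node (nat_lit 10647424) (BT.node (nat_lit 10647296) (BT.node (nat_lit 10647232) (BT.leaf (nat_lit 49706261)) (BT.leaf (nat_lit 32778501))) (BT.node (nat_lit 10647360) (BT.leaf (nat_lit 35026461)) (BT.leaf (nat_lit 49530645)))) (BT.node (nat_lit 10647552) (BT.node (nat_lit 10647488) (BT.leaf (nat_lit 38141445)) (BT.leaf (nat_lit 38573345))) (BT.node (nat_lit 10647554) (BT.leaf (nat_lit 32163093)) (BT.leaf (nat_lit 721340))))))) (BT.node (nat_lit 10648384) (BT.node (nat_lit 10647936) (BT.node (nat_lit 10647744) (BT.node (nat_lit 10647680) (BT.node (nat_lit 10647616) (BT.leaf (nat_lit 721340)) (BT.leaf (nat_lit 33879057))) (BT.node (nat_lit 10647685) (BT.leaf (nat_lit 42590489)) (BT.leaf (nat_lit 798440)))) (BT.node (nat_lit 10647872) (BT.node (nat_lit 10647808) (BT.leaf (nat_lit 45474849)) (BT.leaf (nat_lit 28549145))) (BT.node (nat_lit 10647877) (BT.leaf (nat_lit 43427597)) (BT.leaf (nat_lit 759108))))) (BT.node (nat_lit 10648133) (BT.node (nat_lit 10648064) (BT.node (nat_lit 10648000) (BT.leaf (nat_lit 49591317)) (BT.leaf (nat_lit 37837073))) (BT.node (nat_lit 10648130) (BT.leaf (nat_lit 31972889)) (BT.leaf (nat_lit 717508)))) (BT.node (nat_lit 10648256) (BT.node (nat_lit 10648192) (BT.leaf (nat_lit 717508)) (BT.leaf (nat_lit 42969357))) (BT.node (nat_lit 10648320) (BT.leaf (nat_lit 32597025)) (BT.leaf (nat_lit 30338321)))))) (BT.node (nat_lit 10648896) (BT.node (nat_lit 10648640) (BT.node (nat_lit 10648512) (BT.node (nat_lit 10648448) (BT.leaf (nat_lit 30332945)) (BT.leaf (nat_lit 30338065))) (BT.node (nat_lit 10648576) (BT.leaf (nat_lit 32470549)) (BT.leaf (nat_lit 32470553)))) (BT.node (nat_lit 10648768) (BT.node (nat_lit 10648704) (BT.leaf (nat_lit 32470557)) (BT.leaf (nat_lit 32710421))) (BT.node (nat_lit 10648832) (BT.leaf (nat_lit 45738785)) (BT.leaf (nat_lit 45738529))))) (BT.node (nat_lit 10649152) (BT.node (nat_lit 10649024) (BT.node (nat_lit 10648960) (BT.leaf (nat_lit 41375509)) (BT.leaf (nat_lit 30341137))) (BT.node (nat_lit 10649088) (BT.leaf (nat_lit 29228053)) (BT.leaf (nat_lit 45740065)))) (BT.node (nat_lit 10649280) (BT.node (nat_lit 10649216) (BT.leaf (nat_lit 45739809)) (BT.leaf (nat_lit 41633557))) (BT.node (nat_lit 10649285) (BT.leaf (nat_lit 31407633)) (BT.leaf (nat_lit 760612)))))))) (BT.node (nat_lit 10651456) (BT.node (nat_lit 10650304) (BT.node (nat_lit 10649792) (BT.node (nat_lit 10649600) (BT.node (nat_lit 10649472) (BT.node (nat_lit 10649408) (BT.leaf (nat_lit 42741537)) (BT.leaf (nat_lit 32711181))) (BT.node (nat_lit 10649536) (BT.leaf (nat_lit 32710173)) (BT.leaf (nat_lit 32606725)))) (BT.node (nat_lit 10649664) (BT.node (nat_lit 10649604) (BT.leaf (nat_lit 40235297)) (BT.leaf (nat_lit 693300))) (BT.node (nat_lit 10649728) (BT.leaf (nat_lit 40235041)) (BT.leaf (nat_lit 32609029))))) (BT.node (nat_lit 10650048) (BT.node (nat_lit 10649920) (BT.node (nat_lit 10649856) (BT.leaf (nat_lit 32609285)) (BT.leaf (nat_lit 32862497))) (BT.node (nat_lit 10649984) (BT.leaf (nat_lit 32570137)) (BT.leaf (nat_lit 32570141)))) (BT.node (nat_lit 10650176) (BT.node (nat_lit 10650112) (BT.leaf (nat_lit 31053845)) (BT.leaf (nat_lit 30344977))) (BT.node (nat_lit 10650240) (BT.leaf (nat_lit 30342673)) (BT.leaf (nat_lit 30344721)))))) (BT.node (nat_lit 10650944) (BT.node (nat_lit 10650752) (BT.node (nat_lit 10650624) (BT.node (nat_lit 10650496) (BT.leaf (nat_lit 33071905)) (BT.leaf (nat_lit 49830165))) (BT.node (nat_lit 10650688) (BT.leaf (nat_lit 31624725)) (BT.leaf (nat_lit 34143005)))) (BT.node (nat_lit 10650823) (BT.node (nat_lit 10650816) (BT.leaf (nat_lit 40239109)) (BT.leaf (nat_lit 39270413))) (BT.node (nat_lit 10650880) (BT.leaf (nat_lit 762332)) (BT.leaf (nat_lit 30346001))))) (BT.node (nat_lit 10651200) (BT.node (nat_lit 10651072) (BT.node (nat_lit 10651008) (BT.leaf (nat_lit 50364705)) (BT.leaf (nat_lit 48355853))) (BT.node (nat_lit 10651136) (BT.leaf (nat_lit 40240673)) (BT.leaf (nat_lit 30348061)))) (BT.node (nat_lit 10651328) (BT.node (nat_lit 10651264) (BT.leaf (nat_lit 30080285)) (BT.leaf (nat_lit 32363541))) (BT.node (nat_lit 10651392) (BT.leaf (nat_lit 31791621)) (BT.leaf (nat_lit 49253393))))))) (BT.node (nat_lit 10652416) (BT.node (nat_lit 10651968) (BT.node (nat_lit 10651712) (BT.node (nat_lit 10651584) (BT.node (nat_lit 10651520) (BT.leaf (nat_lit 49750557)) (BT.leaf (nat_lit 46400273))) (BT.node (nat_lit 10651648) (BT.leaf (nat_lit 48366361)) (BT.leaf (nat_lit 41306133)))) (BT.node (nat_lit 10651840) (BT.node (nat_lit 10651776) (BT.leaf (nat_lit 40452129)) (BT.leaf (nat_lit 38929925))) (BT.node (nat_lit 10651904) (BT.leaf (nat_lit 47195425)) (BT.leaf (nat_lit 47196933))))) (BT.node (nat_lit 10652224) (BT.node (nat_lit 10652096) (BT.node (nat_lit 10652032) (BT.leaf (nat_lit 28999957)) (BT.leaf (nat_lit 39521297))) (BT.node (nat_lit 10652160) (BT.leaf (nat_lit 41230353)) (BT.leaf (nat_lit 30921493)))) (BT.node (nat_lit 10652292) (BT.node (nat_lit 10652288) (BT.leaf (nat_lit 39975961)) (BT.leaf (nat_lit 51129109))) (BT.node (nat_lit 10652352) (BT.leaf (nat_lit 713468)) (BT.leaf (nat_lit 30662937)))))) (BT.node (nat_lit 10652864) (BT.node (nat_lit 10652551) (BT.node (nat_lit 10652484) (BT.node (nat_lit 10652480) (BT.leaf (nat_lit 35403033)) (BT.leaf (nat_lit 42327573))) (BT.node (nat_lit 10652544) (BT.leaf (nat_lit 753128)) (BT.leaf (nat_lit 41011985)))) (BT.node (nat_lit 10652736) (BT.node (nat_lit 10652608) (BT.leaf (nat_lit 796952)) (BT.leaf (nat_lit 38759457))) (BT.node (nat_lit 10652800) (BT.leaf (nat_lit 31833889)) (BT.leaf (nat_lit 40259609))))) (BT.node (nat_lit 10653120) (BT.node (nat_lit 10652992) (BT.node (nat_lit 10652928) (BT.leaf (nat_lit 40259613)) (BT.leaf (nat_lit 39531029))) (BT.node (nat_lit 10653056) (BT.leaf (nat_lit 40467233)) (BT.leaf (nat_lit 50274837)))) (BT.node (nat_lit 10653248) (BT.node (nat_lit 10653184) (BT.leaf (nat_lit 30367765)) (BT.leaf (nat_lit 49115925))) (BT.node (nat_lit 10653312) (BT.leaf (nat_lit 39521285)) (BT.leaf (nat_lit 42635029))))))))))) (BT.node (nat_lit 10668800) (BT.node (nat_lit 10661056) (BT.node (nat_lit 10657344) (BT.node (nat_lit 10655424) (BT.node (nat_lit 10654336) (BT.node (nat_lit 10653824) (BT.node (nat_lit 10653632) (BT.node (nat_lit 10653504) (BT.node (nat_lit 10653440) (BT.leaf (nat_lit 46736669)) (BT.leaf (nat_lit 42636057))) (BT.node (nat_lit 10653568) (BT.leaf (nat_lit 31962389)) (BT.leaf (nat_lit 37942561)))) (BT.node (nat_lit 10653760) (BT.node (nat_lit 10653696) (BT.leaf (nat_lit 43690509)) (BT.leaf (nat_lit 50900497))) (BT.node (nat_lit 10653764) (BT.leaf (nat_lit 49238813)) (BT.leaf (nat_lit 671436))))) (BT.node (nat_lit 10654080) (BT.node (nat_lit 10653952) (BT.node (nat_lit 10653888) (BT.leaf (nat_lit 48686365)) (BT.leaf (nat_lit 45235989))) (BT.node (nat_lit 10654016) (BT.leaf (nat_lit 39588129)) (BT.leaf (nat_lit 38996757)))) (BT.node (nat_lit 10654208) (BT.node (nat_lit 10654149) (BT.leaf (nat_lit 39607073)) (BT.leaf (nat_lit 672536))) (BT.node (nat_lit 10654272) (BT.leaf (nat_lit 48644377)) (BT.leaf (nat_lit 43374869)))))) (BT.node (nat_lit 10654848) (BT.node (nat_lit 10654592) (BT.node (nat_lit 10654464) (BT.node (nat_lit 10654400) (BT.leaf (nat_lit 42292745)) (BT.leaf (nat_lit 45271841))) (BT.node (nat_lit 10654528) (BT.leaf (nat_lit 44016417)) (BT.leaf (nat_lit 43282189)))) (BT.node (nat_lit 10654720) (BT.node (nat_lit 10654656) (BT.leaf (nat_lit 45533721)) (BT.leaf (nat_lit 43970309))) (BT.node (nat_lit 10654784) (BT.leaf (nat_lit 28750613)) (BT.leaf (nat_lit 44005381))))) (BT.node (nat_lit 10655168) (BT.node (nat_lit 10654976) (BT.node (nat_lit 10654912) (BT.leaf (nat_lit 29415189)) (BT.leaf (nat_lit 43233817))) (BT.node (nat_lit 10655104) (BT.leaf (nat_lit 43235081)) (BT.leaf (nat_lit 30362137)))) (BT.node (nat_lit 10655296) (BT.node (nat_lit 10655232) (BT.leaf (nat_lit 49531925)) (BT.leaf (nat_lit 30362385))) (BT.node (nat_lit 10655360) (BT.leaf (nat_lit 42236441)) (BT.leaf (nat_lit 42236445))))))) (BT.node (nat_lit 10656384) (BT.node (nat_lit 10655872) (BT.node (nat_lit 10655616) (BT.node (nat_lit 10655496) (BT.node (nat_lit 10655488) (BT.leaf (nat_lit 31034121)) (BT.leaf (nat_lit 31034125))) (BT.node (nat_lit 10655552) (BT.leaf (nat_lit 719632)) (BT.leaf (nat_lit 34118677)))) (BT.node (nat_lit 10655744) (BT.node (nat_lit 10655680) (BT.leaf (nat_lit 44407305)) (BT.leaf (nat_lit 43622409))) (BT.node (nat_lit 10655808) (BT.leaf (nat_lit 43530009)) (BT.leaf (nat_lit 32467985))))) (BT.node (nat_lit 10656128) (BT.node (nat_lit 10656000) (BT.node (nat_lit 10655936) (BT.leaf (nat_lit 42682645)) (BT.leaf (nat_lit 43532057))) (BT.node (nat_lit 10656064) (BT.leaf (nat_lit 42556189)) (BT.leaf (nat_lit 44300805)))) (BT.node (nat_lit 10656192) (BT.node (nat_lit 10656132) (BT.leaf (nat_lit 29729045)) (BT.leaf (nat_lit 744400))) (BT.node (nat_lit 10656320) (BT.leaf (nat_lit 38165521)) (BT.leaf (nat_lit 43828997)))))) (BT.node (nat_lit 10656832) (BT.node (nat_lit 10656579) (BT.node (nat_lit 10656512) (BT.node (nat_lit 10656448) (BT.leaf (nat_lit 30363409)) (BT.leaf (nat_lit 30295313))) (BT.node (nat_lit 10656578) (BT.leaf (nat_lit 30364689)) (BT.leaf (nat_lit 685408)))) (BT.node (nat_lit 10656640) (BT.node (nat_lit 10656580) (BT.leaf (nat_lit 685408)) (BT.leaf (nat_lit 694048))) (BT.node (nat_lit 10656768) (BT.leaf (nat_lit 45351693)) (BT.leaf (nat_lit 29818385))))) (BT.node (nat_lit 10657088) (BT.node (nat_lit 10656960) (BT.node (nat_lit 10656896) (BT.leaf (nat_lit 49110549)) (BT.leaf (nat_lit 43678497))) (BT.node (nat_lit 10657024) (BT.leaf (nat_lit 42417161)) (BT.leaf (nat_lit 30365189)))) (BT.node (nat_lit 10657216) (BT.node (nat_lit 10657152) (BT.leaf (nat_lit 44492829)) (BT.leaf (nat_lit 42244877))) (BT.node (nat_lit 10657280) (BT.leaf (nat_lit 43680005)) (BT.leaf (nat_lit 43518733)))))))) (BT.node (nat_lit 10659207) (BT.node (nat_lit 10658240) (BT.node (nat_lit 10657792) (BT.node (nat_lit 10657544) (BT.node (nat_lit 10657472) (BT.node (nat_lit 10657408) (BT.leaf (nat_lit 30726161)) (BT.leaf (nat_lit 48541461))) (BT.node (nat_lit 10657536) (BT.leaf (nat_lit 30353933)) (BT.leaf (nat_lit 30970901)))) (BT.node (nat_lit 10657664) (BT.node (nat_lit 10657600) (BT.leaf (nat_lit 787524)) (BT.leaf (nat_lit 48848921))) (BT.node (nat_lit 10657728) (BT.leaf (nat_lit 30366473)) (BT.leaf (nat_lit 47962141))))) (BT.node (nat_lit 10658048) (BT.node (nat_lit 10657920) (BT.node (nat_lit 10657856) (BT.leaf (nat_lit 39588625)) (BT.leaf (nat_lit 30367257))) (BT.node (nat_lit 10657984) (BT.leaf (nat_lit 31996961)) (BT.leaf (nat_lit 44437253)))) (BT.node (nat_lit 10658112) (BT.node (nat_lit 10658049) (BT.leaf (nat_lit 30971157)) (BT.leaf (nat_lit 694372))) (BT.node (nat_lit 10658176) (BT.leaf (nat_lit 30353949)) (BT.leaf (nat_lit 30353929)))))) (BT.node (nat_lit 10658816) (BT.node (nat_lit 10658496) (BT.node (nat_lit 10658368) (BT.node (nat_lit 10658304) (BT.leaf (nat_lit 42632729)) (BT.leaf (nat_lit 40365345))) (BT.node (nat_lit 10658432) (BT.leaf (nat_lit 42507781)) (BT.leaf (nat_lit 47516185)))) (BT.node (nat_lit 10658624) (BT.node (nat_lit 10658565) (BT.leaf (nat_lit 47516189)) (BT.leaf (nat_lit 696072))) (BT.node (nat_lit 10658752) (BT.leaf (nat_lit 39613201)) (BT.leaf (nat_lit 47792665))))) (BT.node (nat_lit 10659072) (BT.node (nat_lit 10658944) (BT.node (nat_lit 10658880) (BT.leaf (nat_lit 34186513)) (BT.leaf (nat_lit 31925785))) (BT.node (nat_lit 10659008) (BT.leaf (nat_lit 47937561)) (BT.leaf (nat_lit 31925773)))) (BT.node (nat_lit 10659200) (BT.node (nat_lit 10659136) (BT.leaf (nat_lit 31925777)) (BT.leaf (nat_lit 31925793))) (BT.node (nat_lit 10659206) (BT.leaf (nat_lit 43309061)) (BT.leaf (nat_lit 679468))))))) (BT.node (nat_lit 10659968) (BT.node (nat_lit 10659456) (BT.node (nat_lit 10659395) (BT.node (nat_lit 10659328) (BT.node (nat_lit 10659264) (BT.leaf (nat_lit 679468)) (BT.leaf (nat_lit 43685921))) (BT.node (nat_lit 10659392) (BT.leaf (nat_lit 43350541)) (BT.leaf (nat_lit 44362761)))) (BT.node (nat_lit 10659398) (BT.node (nat_lit 10659397) (BT.leaf (nat_lit 692984)) (BT.leaf (nat_lit 692984))) (BT.node (nat_lit 10659399) (BT.leaf (nat_lit 692984)) (BT.leaf (nat_lit 692984))))) (BT.node (nat_lit 10659712) (BT.node (nat_lit 10659584) (BT.node (nat_lit 10659520) (BT.leaf (nat_lit 30372873)) (BT.leaf (nat_lit 30480929))) (BT.node (nat_lit 10659648) (BT.leaf (nat_lit 29989389)) (BT.leaf (nat_lit 42165773)))) (BT.node (nat_lit 10659840) (BT.node (nat_lit 10659776) (BT.leaf (nat_lit 30373897)) (BT.leaf (nat_lit 30373905))) (BT.node (nat_lit 10659904) (BT.leaf (nat_lit 30373137)) (BT.leaf (nat_lit 39664409)))))) (BT.node (nat_lit 10660544) (BT.node (nat_lit 10660224) (BT.node (nat_lit 10660096) (BT.node (nat_lit 10660032) (BT.leaf (nat_lit 38316825)) (BT.leaf (nat_lit 38882585))) (BT.node (nat_lit 10660160) (BT.leaf (nat_lit 30374937)) (BT.leaf (nat_lit 40165393)))) (BT.node (nat_lit 10660416) (BT.node (nat_lit 10660352) (BT.leaf (nat_lit 30374941)) (BT.leaf (nat_lit 46065173))) (BT.node (nat_lit 10660480) (BT.leaf (nat_lit 34468873)) (BT.leaf (nat_lit 43525653))))) (BT.node (nat_lit 10660800) (BT.node (nat_lit 10660672) (BT.node (nat_lit 10660608) (BT.leaf (nat_lit 34468889)) (BT.leaf (nat_lit 34468893))) (BT.node (nat_lit 10660736) (BT.leaf (nat_lit 30330389)) (BT.leaf (nat_lit 46065177)))) (BT.node (nat_lit 10660928) (BT.node (nat_lit 10660864) (BT.leaf (nat_lit 46065181)) (BT.leaf (nat_lit 29525265))) (BT.node (nat_lit 10660992) (BT.leaf (nat_lit 42643481)) (BT.leaf (nat_lit 43552545))))))))) (BT.node (nat_lit 10664768) (BT.node (nat_lit 10662912) (BT.node (nat_lit 10662080) (BT.node (nat_lit 10661568) (BT.node (nat_lit 10661312) (BT.node (nat_lit 10661184) (BT.node (nat_lit 10661120) (BT.leaf (nat_lit 32195081)) (BT.leaf (nat_lit 30380817))) (BT.node (nat_lit 10661248) (BT.leaf (nat_lit 48610321)) (BT.leaf (nat_lit 30381073)))) (BT.node (nat_lit 10661440) (BT.node (nat_lit 10661376) (BT.leaf (nat_lit 34167585)) (BT.leaf (nat_lit 42001925))) (BT.node (nat_lit 10661504) (BT.leaf (nat_lit 48608021)) (BT.leaf (nat_lit 48609053))))) (BT.node (nat_lit 10661824) (BT.node (nat_lit 10661696) (BT.node (nat_lit 10661632) (BT.leaf (nat_lit 39420181)) (BT.leaf (nat_lit 48609033))) (BT.node (nat_lit 10661760) (BT.leaf (nat_lit 34167581)) (BT.leaf (nat_lit 52361237)))) (BT.node (nat_lit 10661952) (BT.node (nat_lit 10661888) (BT.leaf (nat_lit 30381841)) (BT.leaf (nat_lit 39420185))) (BT.node (nat_lit 10662016) (BT.leaf (nat_lit 39420189)) (BT.leaf (nat_lit 30382097)))))) (BT.node (nat_lit 10662592) (BT.node (nat_lit 10662336) (BT.node (nat_lit 10662208) (BT.node (nat_lit 10662144) (BT.leaf (nat_lit 34127377)) (BT.leaf (nat_lit 32309781))) (BT.node (nat_lit 10662272) (BT.leaf (nat_lit 42236705)) (BT.leaf (nat_lit 38075929)))) (BT.node (nat_lit 10662464) (BT.node (nat_lit 10662400) (BT.leaf (nat_lit 38075933)) (BT.leaf (nat_lit 31520781))) (BT.node (nat_lit 10662528) (BT.leaf (nat_lit 44741401)) (BT.leaf (nat_lit 30383889))))) (BT.node (nat_lit 10662722) (BT.node (nat_lit 10662660) (BT.node (nat_lit 10662656) (BT.leaf (nat_lit 30383633)) (BT.leaf (nat_lit 42247685))) (BT.node (nat_lit 10662720) (BT.leaf (nat_lit 769972)) (BT.leaf (nat_lit 42651165)))) (BT.node (nat_lit 10662784) (BT.node (nat_lit 10662723) (BT.leaf (nat_lit 707932)) (BT.leaf (nat_lit 707932))) (BT.node (nat_lit 10662848) (BT.leaf (nat_lit 38458633)) (BT.leaf (nat_lit 30384401))))))) (BT.node (nat_lit 10663936) (BT.node (nat_lit 10663424) (BT.node (nat_lit 10663168) (BT.node (nat_lit 10663040) (BT.node (nat_lit 10662976) (BT.leaf (nat_lit 31546889)) (BT.leaf (nat_lit 31546893))) (BT.node (nat_lit 10663104) (BT.leaf (nat_lit 31400209)) (BT.leaf (nat_lit 31546901)))) (BT.node (nat_lit 10663296) (BT.node (nat_lit 10663232) (BT.leaf (nat_lit 31546913)) (BT.leaf (nat_lit 39208453))) (BT.node (nat_lit 10663360) (BT.leaf (nat_lit 30386705)) (BT.leaf (nat_lit 30385681))))) (BT.node (nat_lit 10663680) (BT.node (nat_lit 10663552) (BT.node (nat_lit 10663488) (BT.leaf (nat_lit 49747981)) (BT.leaf (nat_lit 42653721))) (BT.node (nat_lit 10663616) (BT.leaf (nat_lit 30386449)) (BT.leaf (nat_lit 30387221)))) (BT.node (nat_lit 10663808) (BT.node (nat_lit 10663744) (BT.leaf (nat_lit 36626961)) (BT.leaf (nat_lit 38457357))) (BT.node (nat_lit 10663872) (BT.leaf (nat_lit 34593553)) (BT.leaf (nat_lit 48772117)))))) (BT.node (nat_lit 10664387) (BT.node (nat_lit 10664192) (BT.node (nat_lit 10664064) (BT.node (nat_lit 10664000) (BT.leaf (nat_lit 36545049)) (BT.leaf (nat_lit 30387481))) (BT.node (nat_lit 10664128) (BT.leaf (nat_lit 31405329)) (BT.leaf (nat_lit 36718365)))) (BT.node (nat_lit 10664320) (BT.node (nat_lit 10664256) (BT.leaf (nat_lit 27896605)) (BT.leaf (nat_lit 30387485))) (BT.node (nat_lit 10664384) (BT.leaf (nat_lit 37958417)) (BT.leaf (nat_lit 37958421))))) (BT.node (nat_lit 10664512) (BT.node (nat_lit 10664391) (BT.node (nat_lit 10664390) (BT.leaf (nat_lit 707900)) (BT.leaf (nat_lit 707900))) (BT.node (nat_lit 10664448) (BT.leaf (nat_lit 707900)) (BT.leaf (nat_lit 27895833)))) (BT.node (nat_lit 10664640) (BT.node (nat_lit 10664576) (BT.leaf (nat_lit 43147781)) (BT.leaf (nat_lit 42658057))) (BT.node (nat_lit 10664704) (BT.leaf (nat_lit 34276625)) (BT.leaf (nat_lit 34276629)))))))) (BT.node (nat_lit 10666752) (BT.node (nat_lit 10665728) (BT.node (nat_lit 10665280) (BT.node (nat_lit 10665024) (BT.node (nat_lit 10664896) (BT.node (nat_lit 10664832) (BT.leaf (nat_lit 30390301)) (BT.leaf (nat_lit 39219977))) (BT.node (nat_lit 10664960) (BT.leaf (nat_lit 34276885)) (BT.leaf (nat_lit 35967009)))) (BT.node (nat_lit 10665152) (BT.node (nat_lit 10665088) (BT.leaf (nat_lit 30392593)) (BT.leaf (nat_lit 32672789))) (BT.node (nat_lit 10665216) (BT.leaf (nat_lit 34131737)) (BT.leaf (nat_lit 34131741))))) (BT.node (nat_lit 10665472) (BT.node (nat_lit 10665344) (BT.node (nat_lit 10665285) (BT.leaf (nat_lit 43611661)) (BT.leaf (nat_lit 666892))) (BT.node (nat_lit 10665408) (BT.leaf (nat_lit 31033885)) (BT.leaf (nat_lit 45261573)))) (BT.node (nat_lit 10665600) (BT.node (nat_lit 10665536) (BT.leaf (nat_lit 31033865)) (BT.leaf (nat_lit 48429337))) (BT.node (nat_lit 10665664) (BT.leaf (nat_lit 39195149)) (BT.leaf (nat_lit 46061081)))))) (BT.node (nat_lit 10666240) (BT.node (nat_lit 10665984) (BT.node (nat_lit 10665856) (BT.node (nat_lit 10665792) (BT.leaf (nat_lit 30395665)) (BT.leaf (nat_lit 34131473))) (BT.node (nat_lit 10665920) (BT.leaf (nat_lit 39200797)) (BT.leaf (nat_lit 39433733)))) (BT.node (nat_lit 10666112) (BT.node (nat_lit 10666048) (BT.leaf (nat_lit 28187925)) (BT.leaf (nat_lit 48530181))) (BT.node (nat_lit 10666176) (BT.leaf (nat_lit 30396433)) (BT.leaf (nat_lit 30395921))))) (BT.node (nat_lit 10666496) (BT.node (nat_lit 10666368) (BT.node (nat_lit 10666304) (BT.leaf (nat_lit 30100501)) (BT.leaf (nat_lit 48530465))) (BT.node (nat_lit 10666432) (BT.leaf (nat_lit 39200781)) (BT.leaf (nat_lit 30396445)))) (BT.node (nat_lit 10666624) (BT.node (nat_lit 10666560) (BT.leaf (nat_lit 30396953)) (BT.leaf (nat_lit 30396957))) (BT.node (nat_lit 10666688) (BT.leaf (nat_lit 31079185)) (BT.leaf (nat_lit 52354589))))))) (BT.node (nat_lit 10667712) (BT.node (nat_lit 10667200) (BT.node (nat_lit 10666944) (BT.node (nat_lit 10666816) (BT.node (nat_lit 10666760) (BT.leaf (nat_lit 39204617)) (BT.leaf (nat_lit 712468))) (BT.node (nat_lit 10666880) (BT.leaf (nat_lit 45597217)) (BT.leaf (nat_lit 41467413)))) (BT.node (nat_lit 10667072) (BT.node (nat_lit 10667008) (BT.leaf (nat_lit 39330585)) (BT.leaf (nat_lit 39330589))) (BT.node (nat_lit 10667136) (BT.leaf (nat_lit 31080473)) (BT.leaf (nat_lit 34133021))))) (BT.node (nat_lit 10667456) (BT.node (nat_lit 10667328) (BT.node (nat_lit 10667264) (BT.leaf (nat_lit 45594401)) (BT.leaf (nat_lit 41320977))) (BT.node (nat_lit 10667392) (BT.leaf (nat_lit 34792985)) (BT.leaf (nat_lit 42002197)))) (BT.node (nat_lit 10667584) (BT.node (nat_lit 10667520) (BT.leaf (nat_lit 30397205)) (BT.leaf (nat_lit 34792973))) (BT.node (nat_lit 10667648) (BT.leaf (nat_lit 43396873)) (BT.leaf (nat_lit 34792993)))))) (BT.node (nat_lit 10668288) (BT.node (nat_lit 10667968) (BT.node (nat_lit 10667840) (BT.node (nat_lit 10667776) (BT.leaf (nat_lit 43850261)) (BT.leaf (nat_lit 38937633))) (BT.node (nat_lit 10667904) (BT.leaf (nat_lit 38712609)) (BT.leaf (nat_lit 31081989)))) (BT.node (nat_lit 10668160) (BT.node (nat_lit 10668096) (BT.leaf (nat_lit 44566049)) (BT.leaf (nat_lit 32831765))) (BT.node (nat_lit 10668224) (BT.leaf (nat_lit 47342101)) (BT.leaf (nat_lit 47342105))))) (BT.node (nat_lit 10668544) (BT.node (nat_lit 10668416) (BT.node (nat_lit 10668352) (BT.leaf (nat_lit 37687841)) (BT.leaf (nat_lit 40806165))) (BT.node (nat_lit 10668480) (BT.leaf (nat_lit 52054293)) (BT.leaf (nat_lit 42995461)))) (BT.node (nat_lit 10668672) (BT.node (nat_lit 10668608) (BT.leaf (nat_lit 32246025)) (BT.leaf (nat_lit 30398737))) (BT.node (nat_lit 10668736) (BT.leaf (nat_lit 40257813)) (BT.leaf (nat_lit 40257817)))))))))) (BT.node (nat_lit 10676736) (BT.node (nat_lit 10672640) (BT.node (nat_lit 10670784) (BT.node (nat_lit 10670016) (BT.node (nat_lit 10669440) (BT.node (nat_lit 10669056) (BT.node (nat_lit 10668928) (BT.node (nat_lit 10668864) (BT.leaf (nat_lit 31926805)) (BT.leaf (nat_lit 47442209))) (BT.node (nat_lit 10668992) (BT.leaf (nat_lit 42675481)) (BT.leaf (nat_lit 42674457)))) (BT.node (nat_lit 10669248) (BT.node (nat_lit 10669184) (BT.leaf (nat_lit 30399513)) (BT.leaf (nat_lit 44507425))) (BT.node (nat_lit 10669312) (BT.leaf (nat_lit 30399261)) (BT.leaf (nat_lit 30399517))))) (BT.node (nat_lit 10669760) (BT.node (nat_lit 10669568) (BT.node (nat_lit 10669504) (BT.leaf (nat_lit 49181213)) (BT.leaf (nat_lit 30399257))) (BT.node (nat_lit 10669632) (BT.leaf (nat_lit 41242905)) (BT.leaf (nat_lit 29206553)))) (BT.node (nat_lit 10669888) (BT.node (nat_lit 10669824) (BT.leaf (nat_lit 40808469)) (BT.leaf (nat_lit 42235413))) (BT.node (nat_lit 10669952) (BT.leaf (nat_lit 48427537)) (BT.leaf (nat_lit 41069061)))))) (BT.node (nat_lit 10670464) (BT.node (nat_lit 10670211) (BT.node (nat_lit 10670144) (BT.node (nat_lit 10670080) (BT.leaf (nat_lit 42679833)) (BT.leaf (nat_lit 31033881))) (BT.node (nat_lit 10670208) (BT.leaf (nat_lit 47835165)) (BT.leaf (nat_lit 27317525)))) (BT.node (nat_lit 10670336) (BT.node (nat_lit 10670272) (BT.leaf (nat_lit 696312)) (BT.leaf (nat_lit 47835145))) (BT.node (nat_lit 10670400) (BT.leaf (nat_lit 31033869)) (BT.leaf (nat_lit 39801377))))) (BT.node (nat_lit 10670656) (BT.node (nat_lit 10670528) (BT.node (nat_lit 10670468) (BT.leaf (nat_lit 38517253)) (BT.leaf (nat_lit 697540))) (BT.node (nat_lit 10670592) (BT.leaf (nat_lit 31173905)) (BT.leaf (nat_lit 31034137)))) (BT.node (nat_lit 10670721) (BT.node (nat_lit 10670720) (BT.leaf (nat_lit 34661917)) (BT.leaf (nat_lit 43269665))) (BT.node (nat_lit 10670722) (BT.leaf (nat_lit 699068)) (BT.leaf (nat_lit 699068))))))) (BT.node (nat_lit 10671619) (BT.node (nat_lit 10671172) (BT.node (nat_lit 10670976) (BT.node (nat_lit 10670854) (BT.node (nat_lit 10670848) (BT.leaf (nat_lit 41048069)) (BT.leaf (nat_lit 41204753))) (BT.node (nat_lit 10670912) (BT.leaf (nat_lit 738848)) (BT.leaf (nat_lit 30459925)))) (BT.node (nat_lit 10671104) (BT.node (nat_lit 10671040) (BT.leaf (nat_lit 41916193)) (BT.leaf (nat_lit 31135249))) (BT.node (nat_lit 10671168) (BT.leaf (nat_lit 42260769)) (BT.leaf (nat_lit 31138849))))) (BT.node (nat_lit 10671424) (BT.node (nat_lit 10671296) (BT.node (nat_lit 10671232) (BT.leaf (nat_lit 757844)) (BT.leaf (nat_lit 30406929))) (BT.node (nat_lit 10671360) (BT.leaf (nat_lit 31137557)) (BT.leaf (nat_lit 45740321)))) (BT.node (nat_lit 10671552) (BT.node (nat_lit 10671488) (BT.leaf (nat_lit 30407185)) (BT.leaf (nat_lit 42462217))) (BT.node (nat_lit 10671616) (BT.leaf (nat_lit 43941921)) (BT.leaf (nat_lit 30407697)))))) (BT.node (nat_lit 10672064) (BT.node (nat_lit 10671808) (BT.node (nat_lit 10671680) (BT.node (nat_lit 10671624) (BT.leaf (nat_lit 757800)) (BT.leaf (nat_lit 757800))) (BT.node (nat_lit 10671744) (BT.leaf (nat_lit 44071965)) (BT.leaf (nat_lit 31138329)))) (BT.node (nat_lit 10671936) (BT.node (nat_lit 10671872) (BT.leaf (nat_lit 43824917)) (BT.leaf (nat_lit 28538897))) (BT.node (nat_lit 10672000) (BT.leaf (nat_lit 39903777)) (BT.leaf (nat_lit 46290969))))) (BT.node (nat_lit 10672320) (BT.node (nat_lit 10672192) (BT.node (nat_lit 10672128) (BT.leaf (nat_lit 31497749)) (BT.leaf (nat_lit 28028957))) (BT.node (nat_lit 10672256) (BT.leaf (nat_lit 49633825)) (BT.leaf (nat_lit 40402453)))) (BT.node (nat_lit 10672448) (BT.node (nat_lit 10672384) (BT.leaf (nat_lit 31804677)) (BT.leaf (nat_lit 30958857))) (BT.node (nat_lit 10672576) (BT.leaf (nat_lit 39162401)) (BT.leaf (nat_lit 44672005)))))))) (BT.node (nat_lit 10674688) (BT.node (nat_lit 10673664) (BT.node (nat_lit 10673216) (BT.node (nat_lit 10672960) (BT.node (nat_lit 10672768) (BT.node (nat_lit 10672704) (BT.leaf (nat_lit 30425357)) (BT.leaf (nat_lit 34673417))) (BT.node (nat_lit 10672832) (BT.leaf (nat_lit 43219745)) (BT.leaf (nat_lit 29694993)))) (BT.node (nat_lit 10673088) (BT.node (nat_lit 10673024) (BT.leaf (nat_lit 30959113)) (BT.leaf (nat_lit 30410513))) (BT.node (nat_lit 10673152) (BT.leaf (nat_lit 39162885)) (BT.leaf (nat_lit 31415325))))) (BT.node (nat_lit 10673412) (BT.node (nat_lit 10673344) (BT.node (nat_lit 10673280) (BT.leaf (nat_lit 32132121)) (BT.leaf (nat_lit 42157857))) (BT.node (nat_lit 10673408) (BT.leaf (nat_lit 32591385)) (BT.leaf (nat_lit 46942237)))) (BT.node (nat_lit 10673536) (BT.node (nat_lit 10673472) (BT.leaf (nat_lit 733468)) (BT.leaf (nat_lit 44864273))) (BT.node (nat_lit 10673600) (BT.leaf (nat_lit 48734229)) (BT.leaf (nat_lit 30775057)))))) (BT.node (nat_lit 10674240) (BT.node (nat_lit 10673984) (BT.node (nat_lit 10673792) (BT.node (nat_lit 10673728) (BT.leaf (nat_lit 30406161)) (BT.leaf (nat_lit 40133909))) (BT.node (nat_lit 10673856) (BT.leaf (nat_lit 40133913)) (BT.leaf (nat_lit 40133917)))) (BT.node (nat_lit 10674112) (BT.node (nat_lit 10674048) (BT.leaf (nat_lit 44010781)) (BT.leaf (nat_lit 30414361))) (BT.node (nat_lit 10674176) (BT.leaf (nat_lit 30415121)) (BT.leaf (nat_lit 30405649))))) (BT.node (nat_lit 10674440) (BT.node (nat_lit 10674368) (BT.node (nat_lit 10674304) (BT.leaf (nat_lit 30414865)) (BT.leaf (nat_lit 42460961))) (BT.node (nat_lit 10674432) (BT.leaf (nat_lit 39232533)) (BT.leaf (nat_lit 49367301)))) (BT.node (nat_lit 10674560) (BT.node (nat_lit 10674496) (BT.leaf (nat_lit 773288)) (BT.leaf (nat_lit 45729057))) (BT.node (nat_lit 10674624) (BT.leaf (nat_lit 42179853)) (BT.leaf (nat_lit 42698265))))))) (BT.node (nat_lit 10675776) (BT.node (nat_lit 10675200) (BT.node (nat_lit 10674944) (BT.node (nat_lit 10674880) (BT.node (nat_lit 10674752) (BT.leaf (nat_lit 40122637)) (BT.leaf (nat_lit 45368589))) (BT.node (nat_lit 10674884) (BT.leaf (nat_lit 31051541)) (BT.leaf (nat_lit 776364)))) (BT.node (nat_lit 10675072) (BT.node (nat_lit 10675008) (BT.leaf (nat_lit 30198809)) (BT.leaf (nat_lit 38822161))) (BT.node (nat_lit 10675136) (BT.leaf (nat_lit 38822165)) (BT.leaf (nat_lit 30415389))))) (BT.node (nat_lit 10675520) (BT.node (nat_lit 10675392) (BT.node (nat_lit 10675328) (BT.leaf (nat_lit 30198813)) (BT.leaf (nat_lit 40119829))) (BT.node (nat_lit 10675456) (BT.leaf (nat_lit 30415385)) (BT.leaf (nat_lit 30415889)))) (BT.node (nat_lit 10675648) (BT.node (nat_lit 10675584) (BT.leaf (nat_lit 32868121)) (BT.leaf (nat_lit 32868125))) (BT.node (nat_lit 10675712) (BT.leaf (nat_lit 30415633)) (BT.leaf (nat_lit 39013641)))))) (BT.node (nat_lit 10676224) (BT.node (nat_lit 10676032) (BT.node (nat_lit 10675904) (BT.node (nat_lit 10675840) (BT.leaf (nat_lit 39013645)) (BT.leaf (nat_lit 34137365))) (BT.node (nat_lit 10675968) (BT.leaf (nat_lit 36342813)) (BT.leaf (nat_lit 32485637)))) (BT.node (nat_lit 10676160) (BT.node (nat_lit 10676096) (BT.leaf (nat_lit 30082833)) (BT.leaf (nat_lit 30407953))) (BT.node (nat_lit 10676164) (BT.leaf (nat_lit 30947093)) (BT.leaf (nat_lit 712084))))) (BT.node (nat_lit 10676480) (BT.node (nat_lit 10676352) (BT.node (nat_lit 10676288) (BT.leaf (nat_lit 40594961)) (BT.leaf (nat_lit 42527769))) (BT.node (nat_lit 10676416) (BT.leaf (nat_lit 30417169)) (BT.leaf (nat_lit 43267349)))) (BT.node (nat_lit 10676608) (BT.node (nat_lit 10676544) (BT.leaf (nat_lit 29306389)) (BT.leaf (nat_lit 41950733))) (BT.node (nat_lit 10676672) (BT.leaf (nat_lit 42705677)) (BT.leaf (nat_lit 30408457))))))))) (BT.node (nat_lit 10680640) (BT.node (nat_lit 10678720) (BT.node (nat_lit 10677760) (BT.node (nat_lit 10677248) (BT.node (nat_lit 10676992) (BT.node (nat_lit 10676864) (BT.node (nat_lit 10676800) (BT.leaf (nat_lit 31969309)) (BT.leaf (nat_lit 39018529))) (BT.node (nat_lit 10676928) (BT.leaf (nat_lit 32592669)) (BT.leaf (nat_lit 48027933)))) (BT.node (nat_lit 10677120) (BT.node (nat_lit 10677056) (BT.leaf (nat_lit 40225825)) (BT.leaf (nat_lit 30417669))) (BT.node (nat_lit 10677184) (BT.leaf (nat_lit 30419729)) (BT.leaf (nat_lit 30417953))))) (BT.node (nat_lit 10677440) (BT.node (nat_lit 10677314) (BT.node (nat_lit 10677312) (BT.leaf (nat_lit 41159189)) (BT.leaf (nat_lit 45136133))) (BT.node (nat_lit 10677376) (BT.leaf (nat_lit 712992)) (BT.leaf (nat_lit 37931805)))) (BT.node (nat_lit 10677632) (BT.node (nat_lit 10677504) (BT.leaf (nat_lit 43237397)) (BT.leaf (nat_lit 29306645))) (BT.node (nat_lit 10677696) (BT.leaf (nat_lit 47446041)) (BT.leaf (nat_lit 30419473)))))) (BT.node (nat_lit 10678144) (BT.node (nat_lit 10677888) (BT.node (nat_lit 10677763) (BT.node (nat_lit 10677762) (BT.leaf (nat_lit 39075845)) (BT.leaf (nat_lit 796068))) (BT.node (nat_lit 10677824) (BT.leaf (nat_lit 796068)) (BT.leaf (nat_lit 49489433)))) (BT.node (nat_lit 10678016) (BT.node (nat_lit 10677952) (BT.leaf (nat_lit 30418969)) (BT.leaf (nat_lit 45561093))) (BT.node (nat_lit 10678080) (BT.leaf (nat_lit 43268129)) (BT.leaf (nat_lit 42285333))))) (BT.node (nat_lit 10678464) (BT.node (nat_lit 10678272) (BT.node (nat_lit 10678208) (BT.leaf (nat_lit 30676513)) (BT.leaf (nat_lit 48384277))) (BT.node (nat_lit 10678400) (BT.leaf (nat_lit 31050773)) (BT.leaf (nat_lit 43500553)))) (BT.node (nat_lit 10678592) (BT.node (nat_lit 10678528) (BT.leaf (nat_lit 42286349)) (BT.leaf (nat_lit 44540425))) (BT.node (nat_lit 10678656) (BT.leaf (nat_lit 45931529)) (BT.leaf (nat_lit 47838473))))))) (BT.node (nat_lit 10679616) (BT.node (nat_lit 10679232) (BT.node (nat_lit 10678976) (BT.node (nat_lit 10678848) (BT.node (nat_lit 10678784) (BT.leaf (nat_lit 31061273)) (BT.leaf (nat_lit 46170913))) (BT.node (nat_lit 10678912) (BT.leaf (nat_lit 50580509)) (BT.leaf (nat_lit 40648197)))) (BT.node (nat_lit 10679104) (BT.node (nat_lit 10679040) (BT.leaf (nat_lit 31646981)) (BT.leaf (nat_lit 38534161))) (BT.node (nat_lit 10679168) (BT.leaf (nat_lit 35390485)) (BT.leaf (nat_lit 38984217))))) (BT.node (nat_lit 10679488) (BT.node (nat_lit 10679360) (BT.node (nat_lit 10679296) (BT.leaf (nat_lit 38984221)) (BT.leaf (nat_lit 30958861))) (BT.node (nat_lit 10679424) (BT.leaf (nat_lit 43136545)) (BT.leaf (nat_lit 42724641)))) (BT.node (nat_lit 10679558) (BT.node (nat_lit 10679552) (BT.leaf (nat_lit 43766817)) (BT.leaf (nat_lit 31020561))) (BT.node (nat_lit 10679559) (BT.leaf (nat_lit 667640)) (BT.leaf (nat_lit 667640)))))) (BT.node (nat_lit 10680128) (BT.node (nat_lit 10679872) (BT.node (nat_lit 10679744) (BT.node (nat_lit 10679680) (BT.leaf (nat_lit 32801553)) (BT.leaf (nat_lit 40280341))) (BT.node (nat_lit 10679808) (BT.leaf (nat_lit 40280349)) (BT.leaf (nat_lit 31821073)))) (BT.node (nat_lit 10680000) (BT.node (nat_lit 10679936) (BT.leaf (nat_lit 43491089)) (BT.leaf (nat_lit 38529049))) (BT.node (nat_lit 10680064) (BT.leaf (nat_lit 38529053)) (BT.leaf (nat_lit 31642649))))) (BT.node (nat_lit 10680384) (BT.node (nat_lit 10680256) (BT.node (nat_lit 10680192) (BT.leaf (nat_lit 31642653)) (BT.leaf (nat_lit 43768581))) (BT.node (nat_lit 10680320) (BT.leaf (nat_lit 43513621)) (BT.leaf (nat_lit 42721565)))) (BT.node (nat_lit 10680512) (BT.node (nat_lit 10680448) (BT.leaf (nat_lit 34673441)) (BT.leaf (nat_lit 30959117))) (BT.node (nat_lit 10680576) (BT.leaf (nat_lit 31434757)) (BT.leaf (nat_lit 43766789)))))))) (BT.node (nat_lit 10682880) (BT.node (nat_lit 10681728) (BT.node (nat_lit 10681152) (BT.node (nat_lit 10680896) (BT.node (nat_lit 10680768) (BT.node (nat_lit 10680704) (BT.leaf (nat_lit 33008901)) (BT.leaf (nat_lit 31434761))) (BT.node (nat_lit 10680832) (BT.leaf (nat_lit 31434765)) (BT.leaf (nat_lit 39957013)))) (BT.node (nat_lit 10681024) (BT.node (nat_lit 10680960) (BT.leaf (nat_lit 31434777)) (BT.leaf (nat_lit 31434781))) (BT.node (nat_lit 10681088) (BT.leaf (nat_lit 31329041)) (BT.leaf (nat_lit 31329045))))) (BT.node (nat_lit 10681408) (BT.node (nat_lit 10681280) (BT.node (nat_lit 10681216) (BT.leaf (nat_lit 38362909)) (BT.leaf (nat_lit 32947477))) (BT.node (nat_lit 10681344) (BT.leaf (nat_lit 39957017)) (BT.leaf (nat_lit 39957021)))) (BT.node (nat_lit 10681600) (BT.node (nat_lit 10681536) (BT.leaf (nat_lit 30338581)) (BT.leaf (nat_lit 49633801))) (BT.node (nat_lit 10681664) (BT.leaf (nat_lit 41691405)) (BT.leaf (nat_lit 34140185)))))) (BT.node (nat_lit 10682304) (BT.node (nat_lit 10682048) (BT.node (nat_lit 10681920) (BT.node (nat_lit 10681792) (BT.leaf (nat_lit 30421781)) (BT.leaf (nat_lit 34673433))) (BT.node (nat_lit 10681984) (BT.leaf (nat_lit 34961953)) (BT.leaf (nat_lit 29508381)))) (BT.node (nat_lit 10682176) (BT.node (nat_lit 10682112) (BT.leaf (nat_lit 45970693)) (BT.leaf (nat_lit 50886945))) (BT.node (nat_lit 10682240) (BT.leaf (nat_lit 42718237)) (BT.leaf (nat_lit 41684493))))) (BT.node (nat_lit 10682560) (BT.node (nat_lit 10682432) (BT.node (nat_lit 10682368) (BT.leaf (nat_lit 31187221)) (BT.leaf (nat_lit 31187225))) (BT.node (nat_lit 10682496) (BT.leaf (nat_lit 31187229)) (BT.leaf (nat_lit 41193493)))) (BT.node (nat_lit 10682688) (BT.node (nat_lit 10682624) (BT.leaf (nat_lit 30944525)) (BT.leaf (nat_lit 47843349))) (BT.node (nat_lit 10682752) (BT.leaf (nat_lit 30428181)) (BT.leaf (nat_lit 42867977))))))) (BT.node (nat_lit 10683840) (BT.node (nat_lit 10683456) (BT.node (nat_lit 10683136) (BT.node (nat_lit 10683008) (BT.node (nat_lit 10682944) (BT.leaf (nat_lit 35251465)) (BT.leaf (nat_lit 43775509))) (BT.node (nat_lit 10683072) (BT.leaf (nat_lit 49591821)) (BT.leaf (nat_lit 43783941)))) (BT.node (nat_lit 10683328) (BT.node (nat_lit 10683200) (BT.leaf (nat_lit 32606981)) (BT.leaf (nat_lit 30428945))) (BT.node (nat_lit 10683392) (BT.leaf (nat_lit 39953429)) (BT.leaf (nat_lit 45520133))))) (BT.node (nat_lit 10683648) (BT.node (nat_lit 10683522) (BT.node (nat_lit 10683520) (BT.leaf (nat_lit 35676441)) (BT.leaf (nat_lit 38869537))) (BT.node (nat_lit 10683584) (BT.leaf (nat_lit 712712)) (BT.leaf (nat_lit 44373013)))) (BT.node (nat_lit 10683776) (BT.node (nat_lit 10683712) (BT.leaf (nat_lit 30429469)) (BT.leaf (nat_lit 35909661))) (BT.node (nat_lit 10683777) (BT.leaf (nat_lit 31502353)) (BT.leaf (nat_lit 750708)))))) (BT.node (nat_lit 10684352) (BT.node (nat_lit 10684096) (BT.node (nat_lit 10683968) (BT.node (nat_lit 10683904) (BT.leaf (nat_lit 35198213)) (BT.leaf (nat_lit 30429465))) (BT.node (nat_lit 10684032) (BT.leaf (nat_lit 39953433)) (BT.leaf (nat_lit 39953437)))) (BT.node (nat_lit 10684224) (BT.node (nat_lit 10684160) (BT.leaf (nat_lit 46374661)) (BT.leaf (nat_lit 43259157))) (BT.node (nat_lit 10684288) (BT.leaf (nat_lit 42764549)) (BT.leaf (nat_lit 30443269))))) (BT.node (nat_lit 10684608) (BT.node (nat_lit 10684480) (BT.node (nat_lit 10684416) (BT.leaf (nat_lit 30429961)) (BT.leaf (nat_lit 42741013))) (BT.node (nat_lit 10684544) (BT.leaf (nat_lit 30432021)) (BT.leaf (nat_lit 46971413)))) (BT.node (nat_lit 10684736) (BT.node (nat_lit 10684672) (BT.leaf (nat_lit 30429965)) (BT.leaf (nat_lit 51929877))) (BT.node (nat_lit 10684800) (BT.leaf (nat_lit 34384657)) (BT.leaf (nat_lit 30431509)))))))))))) (BT.node (nat_lit 10716352) (BT.node (nat_lit 10700160) (BT.node (nat_lit 10692544) (BT.node (nat_lit 10688576) (BT.node (nat_lit 10686784) (BT.node (nat_lit 10685760) (BT.node (nat_lit 10685376) (BT.node (nat_lit 10685120) (BT.node (nat_lit 10684992) (BT.node (nat_lit 10684928) (BT.leaf (nat_lit 46367253)) (BT.leaf (nat_lit 30430733))) (BT.node (nat_lit 10685056) (BT.leaf (nat_lit 45431561)) (BT.leaf (nat_lit 42741789)))) (BT.node (nat_lit 10685248) (BT.node (nat_lit 10685184) (BT.leaf (nat_lit 30430745)) (BT.leaf (nat_lit 30430997))) (BT.node (nat_lit 10685312) (BT.leaf (nat_lit 34142745)) (BT.leaf (nat_lit 46366997))))) (BT.node (nat_lit 10685568) (BT.node (nat_lit 10685440) (BT.node (nat_lit 10685384) (BT.leaf (nat_lit 45355021)) (BT.leaf (nat_lit 798168))) (BT.node (nat_lit 10685504) (BT.leaf (nat_lit 51669765)) (BT.leaf (nat_lit 51855621)))) (BT.node (nat_lit 10685632) (BT.node (nat_lit 10685572) (BT.leaf (nat_lit 46255885)) (BT.leaf (nat_lit 808296))) (BT.node (nat_lit 10685696) (BT.leaf (nat_lit 42742813)) (BT.leaf (nat_lit 45794321)))))) (BT.node (nat_lit 10686336) (BT.node (nat_lit 10686016) (BT.node (nat_lit 10685888) (BT.node (nat_lit 10685824) (BT.leaf (nat_lit 30184465)) (BT.leaf (nat_lit 41056033))) (BT.node (nat_lit 10685952) (BT.leaf (nat_lit 42736909)) (BT.leaf (nat_lit 42737165)))) (BT.node (nat_lit 10686208) (BT.node (nat_lit 10686144) (BT.leaf (nat_lit 30439961)) (BT.leaf (nat_lit 31779605))) (BT.node (nat_lit 10686272) (BT.leaf (nat_lit 30439949)) (BT.leaf (nat_lit 40202001))))) (BT.node (nat_lit 10686529) (BT.node (nat_lit 10686464) (BT.node (nat_lit 10686400) (BT.leaf (nat_lit 42756125)) (BT.leaf (nat_lit 30434589))) (BT.node (nat_lit 10686528) (BT.leaf (nat_lit 38521885)) (BT.leaf (nat_lit 43676449)))) (BT.node (nat_lit 10686656) (BT.node (nat_lit 10686592) (BT.leaf (nat_lit 682328)) (BT.leaf (nat_lit 30434585))) (BT.node (nat_lit 10686720) (BT.leaf (nat_lit 32719137)) (BT.leaf (nat_lit 31779609))))))) (BT.node (nat_lit 10687744) (BT.node (nat_lit 10687296) (BT.node (nat_lit 10687040) (BT.node (nat_lit 10686912) (BT.node (nat_lit 10686848) (BT.leaf (nat_lit 31779613)) (BT.leaf (nat_lit 50831109))) (BT.node (nat_lit 10686976) (BT.leaf (nat_lit 28869397)) (BT.leaf (nat_lit 42748173)))) (BT.node (nat_lit 10687168) (BT.node (nat_lit 10687104) (BT.leaf (nat_lit 31589141)) (BT.leaf (nat_lit 49794053))) (BT.node (nat_lit 10687232) (BT.leaf (nat_lit 42761997)) (BT.leaf (nat_lit 42760213))))) (BT.node (nat_lit 10687552) (BT.node (nat_lit 10687424) (BT.node (nat_lit 10687360) (BT.leaf (nat_lit 31148053)) (BT.leaf (nat_lit 42758177))) (BT.node (nat_lit 10687488) (BT.leaf (nat_lit 45391905)) (BT.leaf (nat_lit 45392161)))) (BT.node (nat_lit 10687616) (BT.node (nat_lit 10687560) (BT.leaf (nat_lit 45392389)) (BT.leaf (nat_lit 776236))) (BT.node (nat_lit 10687680) (BT.leaf (nat_lit 45904909)) (BT.leaf (nat_lit 45392673)))))) (BT.node (nat_lit 10688256) (BT.node (nat_lit 10688000) (BT.node (nat_lit 10687872) (BT.node (nat_lit 10687808) (BT.leaf (nat_lit 36049685)) (BT.leaf (nat_lit 30436881))) (BT.node (nat_lit 10687936) (BT.leaf (nat_lit 46759685)) (BT.leaf (nat_lit 49929989)))) (BT.node (nat_lit 10688128) (BT.node (nat_lit 10688064) (BT.leaf (nat_lit 40575001)) (BT.leaf (nat_lit 40575005))) (BT.node (nat_lit 10688192) (BT.leaf (nat_lit 28302869)) (BT.leaf (nat_lit 30493705))))) (BT.node (nat_lit 10688328) (BT.node (nat_lit 10688322) (BT.node (nat_lit 10688320) (BT.leaf (nat_lit 30493709)) (BT.leaf (nat_lit 31583493))) (BT.node (nat_lit 10688323) (BT.leaf (nat_lit 669188)) (BT.leaf (nat_lit 669188)))) (BT.node (nat_lit 10688448) (BT.node (nat_lit 10688384) (BT.leaf (nat_lit 776276)) (BT.leaf (nat_lit 30493721))) (BT.node (nat_lit 10688512) (BT.leaf (nat_lit 30493725)) (BT.leaf (nat_lit 27292437)))))))) (BT.node (nat_lit 10690560) (BT.node (nat_lit 10689536) (BT.node (nat_lit 10689024) (BT.node (nat_lit 10688768) (BT.node (nat_lit 10688704) (BT.node (nat_lit 10688640) (BT.leaf (nat_lit 30438161)) (BT.leaf (nat_lit 45746181))) (BT.node (nat_lit 10688707) (BT.leaf (nat_lit 43075353)) (BT.leaf (nat_lit 719944)))) (BT.node (nat_lit 10688896) (BT.node (nat_lit 10688832) (BT.leaf (nat_lit 32857101)) (BT.leaf (nat_lit 30940957))) (BT.node (nat_lit 10688960) (BT.leaf (nat_lit 48379165)) (BT.leaf (nat_lit 40909065))))) (BT.node (nat_lit 10689280) (BT.node (nat_lit 10689152) (BT.node (nat_lit 10689088) (BT.leaf (nat_lit 30940937)) (BT.leaf (nat_lit 44585733))) (BT.node (nat_lit 10689216) (BT.leaf (nat_lit 30440981)) (BT.leaf (nat_lit 40909081)))) (BT.node (nat_lit 10689408) (BT.node (nat_lit 10689344) (BT.leaf (nat_lit 40909085)) (BT.leaf (nat_lit 38818577))) (BT.node (nat_lit 10689472) (BT.leaf (nat_lit 32122893)) (BT.leaf (nat_lit 48379149)))))) (BT.node (nat_lit 10690048) (BT.node (nat_lit 10689792) (BT.node (nat_lit 10689664) (BT.node (nat_lit 10689600) (BT.leaf (nat_lit 36138005)) (BT.leaf (nat_lit 30442001))) (BT.node (nat_lit 10689728) (BT.leaf (nat_lit 42757913)) (BT.leaf (nat_lit 31589137)))) (BT.node (nat_lit 10689920) (BT.node (nat_lit 10689856) (BT.leaf (nat_lit 31589145)) (BT.leaf (nat_lit 30442505))) (BT.node (nat_lit 10689984) (BT.leaf (nat_lit 31829009)) (BT.leaf (nat_lit 31829017))))) (BT.node (nat_lit 10690304) (BT.node (nat_lit 10690176) (BT.node (nat_lit 10690112) (BT.leaf (nat_lit 31829021)) (BT.leaf (nat_lit 30442509))) (BT.node (nat_lit 10690240) (BT.leaf (nat_lit 30442513)) (BT.leaf (nat_lit 38257689)))) (BT.node (nat_lit 10690432) (BT.node (nat_lit 10690368) (BT.leaf (nat_lit 38257693)) (BT.leaf (nat_lit 46689049))) (BT.node (nat_lit 10690496) (BT.leaf (nat_lit 31828753)) (BT.leaf (nat_lit 31828757))))))) (BT.node (nat_lit 10691520) (BT.node (nat_lit 10691072) (BT.node (nat_lit 10690816) (BT.node (nat_lit 10690688) (BT.node (nat_lit 10690624) (BT.leaf (nat_lit 30442525)) (BT.leaf (nat_lit 35356421))) (BT.node (nat_lit 10690752) (BT.leaf (nat_lit 42748189)) (BT.leaf (nat_lit 35356433)))) (BT.node (nat_lit 10690944) (BT.node (nat_lit 10690880) (BT.leaf (nat_lit 35356449)) (BT.leaf (nat_lit 39877645))) (BT.node (nat_lit 10691008) (BT.leaf (nat_lit 32526869)) (BT.leaf (nat_lit 32526873))))) (BT.node (nat_lit 10691328) (BT.node (nat_lit 10691200) (BT.node (nat_lit 10691136) (BT.leaf (nat_lit 32526877)) (BT.leaf (nat_lit 39877657))) (BT.node (nat_lit 10691264) (BT.leaf (nat_lit 39877661)) (BT.leaf (nat_lit 32845573)))) (BT.node (nat_lit 10691392) (BT.node (nat_lit 10691330) (BT.leaf (nat_lit 43465737)) (BT.leaf (nat_lit 776188))) (BT.node (nat_lit 10691456) (BT.leaf (nat_lit 32845589)) (BT.leaf (nat_lit 35914001)))))) (BT.node (nat_lit 10692032) (BT.node (nat_lit 10691776) (BT.node (nat_lit 10691648) (BT.node (nat_lit 10691584) (BT.leaf (nat_lit 36332313)) (BT.leaf (nat_lit 43326985))) (BT.node (nat_lit 10691712) (BT.leaf (nat_lit 30600217)) (BT.leaf (nat_lit 39411721)))) (BT.node (nat_lit 10691904) (BT.node (nat_lit 10691840) (BT.leaf (nat_lit 34388761)) (BT.leaf (nat_lit 30960905))) (BT.node (nat_lit 10691968) (BT.leaf (nat_lit 30959885)) (BT.leaf (nat_lit 31443977))))) (BT.node (nat_lit 10692288) (BT.node (nat_lit 10692160) (BT.node (nat_lit 10692096) (BT.leaf (nat_lit 31443981)) (BT.leaf (nat_lit 34153237))) (BT.node (nat_lit 10692224) (BT.leaf (nat_lit 31443993)) (BT.leaf (nat_lit 31443997)))) (BT.node (nat_lit 10692416) (BT.node (nat_lit 10692352) (BT.leaf (nat_lit 33015317)) (BT.leaf (nat_lit 44294689))) (BT.node (nat_lit 10692480) (BT.leaf (nat_lit 37980437)) (BT.leaf (nat_lit 37952277))))))))) (BT.node (nat_lit 10696384) (BT.node (nat_lit 10694464) (BT.node (nat_lit 10693442) (BT.node (nat_lit 10693056) (BT.node (nat_lit 10692800) (BT.node (nat_lit 10692672) (BT.node (nat_lit 10692608) (BT.leaf (nat_lit 42770445)) (BT.leaf (nat_lit 36040213))) (BT.node (nat_lit 10692736) (BT.leaf (nat_lit 49505313)) (BT.leaf (nat_lit 31718169)))) (BT.node (nat_lit 10692928) (BT.node (nat_lit 10692864) (BT.leaf (nat_lit 31718173)) (BT.leaf (nat_lit 35448841))) (BT.node (nat_lit 10692992) (BT.leaf (nat_lit 35204121)) (BT.leaf (nat_lit 30447641))))) (BT.node (nat_lit 10693312) (BT.node (nat_lit 10693184) (BT.node (nat_lit 10693120) (BT.leaf (nat_lit 30080789)) (BT.leaf (nat_lit 31518477))) (BT.node (nat_lit 10693248) (BT.leaf (nat_lit 31518229)) (BT.leaf (nat_lit 30448413)))) (BT.node (nat_lit 10693440) (BT.node (nat_lit 10693376) (BT.leaf (nat_lit 30447645)) (BT.leaf (nat_lit 30447901))) (BT.node (nat_lit 10693441) (BT.leaf (nat_lit 44730121)) (BT.leaf (nat_lit 691392)))))) (BT.node (nat_lit 10693952) (BT.node (nat_lit 10693696) (BT.node (nat_lit 10693568) (BT.node (nat_lit 10693504) (BT.leaf (nat_lit 691392)) (BT.leaf (nat_lit 31518741))) (BT.node (nat_lit 10693632) (BT.leaf (nat_lit 30448409)) (BT.leaf (nat_lit 30449425)))) (BT.node (nat_lit 10693824) (BT.node (nat_lit 10693760) (BT.leaf (nat_lit 30080785)) (BT.leaf (nat_lit 30448913))) (BT.node (nat_lit 10693888) (BT.leaf (nat_lit 45461765)) (BT.leaf (nat_lit 42757917))))) (BT.node (nat_lit 10694208) (BT.node (nat_lit 10694080) (BT.node (nat_lit 10694016) (BT.leaf (nat_lit 30448657)) (BT.leaf (nat_lit 30449937))) (BT.node (nat_lit 10694144) (BT.leaf (nat_lit 30081041)) (BT.leaf (nat_lit 30449681)))) (BT.node (nat_lit 10694336) (BT.node (nat_lit 10694272) (BT.leaf (nat_lit 31603733)) (BT.leaf (nat_lit 31603741))) (BT.node (nat_lit 10694400) (BT.leaf (nat_lit 50434581)) (BT.leaf (nat_lit 31523613))))))) (BT.node (nat_lit 10695360) (BT.node (nat_lit 10694848) (BT.node (nat_lit 10694592) (BT.node (nat_lit 10694467) (BT.node (nat_lit 10694466) (BT.leaf (nat_lit 46888213)) (BT.leaf (nat_lit 761904))) (BT.node (nat_lit 10694528) (BT.leaf (nat_lit 761904)) (BT.leaf (nat_lit 31523593)))) (BT.node (nat_lit 10694720) (BT.node (nat_lit 10694656) (BT.leaf (nat_lit 31524129)) (BT.leaf (nat_lit 30927877))) (BT.node (nat_lit 10694784) (BT.leaf (nat_lit 30082321)) (BT.leaf (nat_lit 30450449))))) (BT.node (nat_lit 10695104) (BT.node (nat_lit 10694976) (BT.node (nat_lit 10694912) (BT.leaf (nat_lit 30927893)) (BT.leaf (nat_lit 30927897))) (BT.node (nat_lit 10695040) (BT.leaf (nat_lit 30927901)) (BT.leaf (nat_lit 30450193)))) (BT.node (nat_lit 10695232) (BT.node (nat_lit 10695168) (BT.leaf (nat_lit 47980817)) (BT.leaf (nat_lit 47980561))) (BT.node (nat_lit 10695296) (BT.leaf (nat_lit 31212825)) (BT.leaf (nat_lit 31212829)))))) (BT.node (nat_lit 10695872) (BT.node (nat_lit 10695616) (BT.node (nat_lit 10695488) (BT.node (nat_lit 10695424) (BT.leaf (nat_lit 50406677)) (BT.leaf (nat_lit 38076949))) (BT.node (nat_lit 10695552) (BT.leaf (nat_lit 38947861)) (BT.leaf (nat_lit 34158869)))) (BT.node (nat_lit 10695744) (BT.node (nat_lit 10695680) (BT.leaf (nat_lit 47974433)) (BT.leaf (nat_lit 49399061))) (BT.node (nat_lit 10695808) (BT.leaf (nat_lit 47974689)) (BT.leaf (nat_lit 47763489))))) (BT.node (nat_lit 10696128) (BT.node (nat_lit 10696000) (BT.node (nat_lit 10695936) (BT.leaf (nat_lit 30454029)) (BT.leaf (nat_lit 30454537))) (BT.node (nat_lit 10696064) (BT.leaf (nat_lit 42781961)) (BT.leaf (nat_lit 30455053)))) (BT.node (nat_lit 10696256) (BT.node (nat_lit 10696192) (BT.leaf (nat_lit 42780949)) (BT.leaf (nat_lit 38111505))) (BT.node (nat_lit 10696320) (BT.leaf (nat_lit 42781709)) (BT.leaf (nat_lit 30455069)))))))) (BT.node (nat_lit 10698176) (BT.node (nat_lit 10697219) (BT.node (nat_lit 10696896) (BT.node (nat_lit 10696640) (BT.node (nat_lit 10696512) (BT.node (nat_lit 10696448) (BT.leaf (nat_lit 47003165)) (BT.leaf (nat_lit 32242965))) (BT.node (nat_lit 10696576) (BT.leaf (nat_lit 39907853)) (BT.leaf (nat_lit 41629193)))) (BT.node (nat_lit 10696768) (BT.node (nat_lit 10696704) (BT.leaf (nat_lit 34159381)) (BT.leaf (nat_lit 47974429))) (BT.node (nat_lit 10696832) (BT.leaf (nat_lit 32448773)) (BT.leaf (nat_lit 38552345))))) (BT.node (nat_lit 10697027) (BT.node (nat_lit 10696960) (BT.node (nat_lit 10696901) (BT.leaf (nat_lit 38552349)) (BT.leaf (nat_lit 711404))) (BT.node (nat_lit 10697024) (BT.leaf (nat_lit 30463761)) (BT.leaf (nat_lit 32381713)))) (BT.node (nat_lit 10697152) (BT.node (nat_lit 10697088) (BT.leaf (nat_lit 674880)) (BT.leaf (nat_lit 42243333))) (BT.node (nat_lit 10697216) (BT.leaf (nat_lit 30471701)) (BT.leaf (nat_lit 40871949)))))) (BT.node (nat_lit 10697664) (BT.node (nat_lit 10697408) (BT.node (nat_lit 10697223) (BT.node (nat_lit 10697222) (BT.leaf (nat_lit 711432)) (BT.leaf (nat_lit 711432))) (BT.node (nat_lit 10697280) (BT.leaf (nat_lit 711432)) (BT.leaf (nat_lit 49199645)))) (BT.node (nat_lit 10697536) (BT.node (nat_lit 10697472) (BT.leaf (nat_lit 30874901)) (BT.leaf (nat_lit 30874905))) (BT.node (nat_lit 10697600) (BT.leaf (nat_lit 30874909)) (BT.leaf (nat_lit 40751637))))) (BT.node (nat_lit 10697920) (BT.node (nat_lit 10697792) (BT.node (nat_lit 10697728) (BT.leaf (nat_lit 32996889)) (BT.leaf (nat_lit 32996893))) (BT.node (nat_lit 10697856) (BT.leaf (nat_lit 30465809)) (BT.leaf (nat_lit 31010825)))) (BT.node (nat_lit 10698048) (BT.node (nat_lit 10697928) (BT.leaf (nat_lit 41348613)) (BT.leaf (nat_lit 775512))) (BT.node (nat_lit 10698112) (BT.leaf (nat_lit 42820117)) (BT.leaf (nat_lit 32779277))))))) (BT.node (nat_lit 10699136) (BT.node (nat_lit 10698629) (BT.node (nat_lit 10698432) (BT.node (nat_lit 10698304) (BT.node (nat_lit 10698240) (BT.leaf (nat_lit 38656533)) (BT.leaf (nat_lit 32555809))) (BT.node (nat_lit 10698368) (BT.leaf (nat_lit 30488601)) (BT.leaf (nat_lit 38142725)))) (BT.node (nat_lit 10698560) (BT.node (nat_lit 10698496) (BT.leaf (nat_lit 31786773)) (BT.leaf (nat_lit 38304289))) (BT.node (nat_lit 10698624) (BT.leaf (nat_lit 32558625)) (BT.leaf (nat_lit 43299845))))) (BT.node (nat_lit 10698880) (BT.node (nat_lit 10698752) (BT.node (nat_lit 10698688) (BT.leaf (nat_lit 776584)) (BT.leaf (nat_lit 32141073))) (BT.node (nat_lit 10698816) (BT.leaf (nat_lit 41887241)) (BT.leaf (nat_lit 41887245)))) (BT.node (nat_lit 10699008) (BT.node (nat_lit 10698944) (BT.leaf (nat_lit 30468885)) (BT.leaf (nat_lit 32456217))) (BT.node (nat_lit 10699072) (BT.leaf (nat_lit 41887265)) (BT.leaf (nat_lit 30475269)))))) (BT.node (nat_lit 10699648) (BT.node (nat_lit 10699392) (BT.node (nat_lit 10699264) (BT.node (nat_lit 10699200) (BT.leaf (nat_lit 30735881)) (BT.leaf (nat_lit 30472225))) (BT.node (nat_lit 10699328) (BT.leaf (nat_lit 39826709)) (BT.leaf (nat_lit 43843873)))) (BT.node (nat_lit 10699520) (BT.node (nat_lit 10699456) (BT.leaf (nat_lit 45455905)) (BT.leaf (nat_lit 45524745))) (BT.node (nat_lit 10699584) (BT.leaf (nat_lit 45525013)) (BT.leaf (nat_lit 41385241))))) (BT.node (nat_lit 10699904) (BT.node (nat_lit 10699776) (BT.node (nat_lit 10699712) (BT.leaf (nat_lit 41385245)) (BT.leaf (nat_lit 47188501))) (BT.node (nat_lit 10699840) (BT.leaf (nat_lit 40347929)) (BT.leaf (nat_lit 30471705)))) (BT.node (nat_lit 10700032) (BT.node (nat_lit 10699968) (BT.leaf (nat_lit 30469913)) (BT.leaf (nat_lit 31640337))) (BT.node (nat_lit 10700096) (BT.leaf (nat_lit 38871569)) (BT.leaf (nat_lit 38304261)))))))))) (BT.node (nat_lit 10708160) (BT.node (nat_lit 10704321) (BT.node (nat_lit 10702336) (BT.node (nat_lit 10701440) (BT.node (nat_lit 10700672) (BT.node (nat_lit 10700416) (BT.node (nat_lit 10700288) (BT.node (nat_lit 10700224) (BT.leaf (nat_lit 39324685)) (BT.leaf (nat_lit 39866145))) (BT.node (nat_lit 10700352) (BT.leaf (nat_lit 43078421)) (BT.leaf (nat_lit 27456777)))) (BT.node (nat_lit 10700544) (BT.node (nat_lit 10700480) (BT.leaf (nat_lit 30474765)) (BT.leaf (nat_lit 31331081))) (BT.node (nat_lit 10700608) (BT.leaf (nat_lit 35106565)) (BT.leaf (nat_lit 30474761))))) (BT.node (nat_lit 10700992) (BT.node (nat_lit 10700800) (BT.node (nat_lit 10700736) (BT.leaf (nat_lit 30094101)) (BT.leaf (nat_lit 31331085))) (BT.node (nat_lit 10700864) (BT.leaf (nat_lit 38922521)) (BT.leaf (nat_lit 41632529)))) (BT.node (nat_lit 10701120) (BT.node (nat_lit 10701056) (BT.leaf (nat_lit 47606045)) (BT.leaf (nat_lit 47955221))) (BT.node (nat_lit 10701184) (BT.leaf (nat_lit 30475797)) (BT.leaf (nat_lit 39539985)))))) (BT.node (nat_lit 10701952) (BT.node (nat_lit 10701696) (BT.node (nat_lit 10701568) (BT.node (nat_lit 10701504) (BT.leaf (nat_lit 30475285)) (BT.leaf (nat_lit 30475289))) (BT.node (nat_lit 10701632) (BT.leaf (nat_lit 30475293)) (BT.leaf (nat_lit 34412553)))) (BT.node (nat_lit 10701824) (BT.node (nat_lit 10701760) (BT.leaf (nat_lit 40713477)) (BT.leaf (nat_lit 32415005))) (BT.node (nat_lit 10701888) (BT.leaf (nat_lit 38289937)) (BT.leaf (nat_lit 42296605))))) (BT.node (nat_lit 10702208) (BT.node (nat_lit 10702080) (BT.node (nat_lit 10702016) (BT.leaf (nat_lit 49544725)) (BT.leaf (nat_lit 44520225))) (BT.node (nat_lit 10702144) (BT.leaf (nat_lit 43283461)) (BT.leaf (nat_lit 45351941)))) (BT.node (nat_lit 10702215) (BT.node (nat_lit 10702214) (BT.leaf (nat_lit 44579105)) (BT.leaf (nat_lit 674044))) (BT.node (nat_lit 10702272) (BT.leaf (nat_lit 674044)) (BT.leaf (nat_lit 42815521))))))) (BT.node (nat_lit 10703360) (BT.node (nat_lit 10702848) (BT.node (nat_lit 10702592) (BT.node (nat_lit 10702464) (BT.node (nat_lit 10702400) (BT.leaf (nat_lit 42380297)) (BT.leaf (nat_lit 35587601))) (BT.node (nat_lit 10702528) (BT.leaf (nat_lit 30664209)) (BT.leaf (nat_lit 29093913)))) (BT.node (nat_lit 10702720) (BT.node (nat_lit 10702656) (BT.leaf (nat_lit 40721433)) (BT.leaf (nat_lit 40721437))) (BT.node (nat_lit 10702784) (BT.leaf (nat_lit 30664721)) (BT.leaf (nat_lit 30177053))))) (BT.node (nat_lit 10703104) (BT.node (nat_lit 10702976) (BT.node (nat_lit 10702912) (BT.leaf (nat_lit 31887381)) (BT.leaf (nat_lit 48099865))) (BT.node (nat_lit 10703040) (BT.leaf (nat_lit 30484749)) (BT.leaf (nat_lit 34409489)))) (BT.node (nat_lit 10703232) (BT.node (nat_lit 10703168) (BT.leaf (nat_lit 45080581)) (BT.leaf (nat_lit 51107845))) (BT.node (nat_lit 10703296) (BT.leaf (nat_lit 30484241)) (BT.leaf (nat_lit 43837977)))))) (BT.node (nat_lit 10703872) (BT.node (nat_lit 10703616) (BT.node (nat_lit 10703488) (BT.node (nat_lit 10703424) (BT.leaf (nat_lit 30994701)) (BT.leaf (nat_lit 31626269))) (BT.node (nat_lit 10703552) (BT.leaf (nat_lit 48935957)) (BT.leaf (nat_lit 44650781)))) (BT.node (nat_lit 10703744) (BT.node (nat_lit 10703680) (BT.leaf (nat_lit 44661253)) (BT.leaf (nat_lit 31010829))) (BT.node (nat_lit 10703808) (BT.leaf (nat_lit 32941849)) (BT.leaf (nat_lit 43373337))))) (BT.node (nat_lit 10704128) (BT.node (nat_lit 10704000) (BT.node (nat_lit 10703936) (BT.leaf (nat_lit 40543773)) (BT.leaf (nat_lit 38050581))) (BT.node (nat_lit 10704064) (BT.leaf (nat_lit 42809377)) (BT.leaf (nat_lit 50371349)))) (BT.node (nat_lit 10704256) (BT.node (nat_lit 10704192) (BT.leaf (nat_lit 42793229)) (BT.leaf (nat_lit 39237133))) (BT.node (nat_lit 10704320) (BT.leaf (nat_lit 50860061)) (BT.leaf (nat_lit 30867481)))))))) (BT.node (nat_lit 10706176) (BT.node (nat_lit 10705088) (BT.node (nat_lit 10704647) (BT.node (nat_lit 10704576) (BT.node (nat_lit 10704448) (BT.node (nat_lit 10704384) (BT.leaf (nat_lit 787016)) (BT.leaf (nat_lit 34140433))) (BT.node (nat_lit 10704512) (BT.leaf (nat_lit 32947985)) (BT.leaf (nat_lit 32779293)))) (BT.node (nat_lit 10704643) (BT.node (nat_lit 10704640) (BT.leaf (nat_lit 30488861)) (BT.leaf (nat_lit 45970961))) (BT.node (nat_lit 10704645) (BT.leaf (nat_lit 718244)) (BT.leaf (nat_lit 718244))))) (BT.node (nat_lit 10704832) (BT.node (nat_lit 10704704) (BT.node (nat_lit 10704648) (BT.leaf (nat_lit 718244)) (BT.leaf (nat_lit 723244))) (BT.node (nat_lit 10704768) (BT.leaf (nat_lit 30488605)) (BT.leaf (nat_lit 43592457)))) (BT.node (nat_lit 10704960) (BT.node (nat_lit 10704896) (BT.leaf (nat_lit 30488857)) (BT.leaf (nat_lit 41340181))) (BT.node (nat_lit 10705024) (BT.leaf (nat_lit 31147541)) (BT.leaf (nat_lit 39389721)))))) (BT.node (nat_lit 10705600) (BT.node (nat_lit 10705344) (BT.node (nat_lit 10705216) (BT.node (nat_lit 10705152) (BT.leaf (nat_lit 31147793)) (BT.leaf (nat_lit 31147809))) (BT.node (nat_lit 10705280) (BT.leaf (nat_lit 30489109)) (BT.leaf (nat_lit 32779281)))) (BT.node (nat_lit 10705472) (BT.node (nat_lit 10705408) (BT.leaf (nat_lit 32779297)) (BT.leaf (nat_lit 32144909))) (BT.node (nat_lit 10705536) (BT.leaf (nat_lit 49137173)) (BT.leaf (nat_lit 43692321))))) (BT.node (nat_lit 10705856) (BT.node (nat_lit 10705728) (BT.node (nat_lit 10705664) (BT.leaf (nat_lit 48146465)) (BT.leaf (nat_lit 38109193))) (BT.node (nat_lit 10705792) (BT.leaf (nat_lit 42310933)) (BT.leaf (nat_lit 41502229)))) (BT.node (nat_lit 10705984) (BT.node (nat_lit 10705920) (BT.leaf (nat_lit 43098657)) (BT.leaf (nat_lit 44316425))) (BT.node (nat_lit 10706112) (BT.leaf (nat_lit 42208277)) (BT.leaf (nat_lit 43560457))))))) (BT.node (nat_lit 10707200) (BT.node (nat_lit 10706688) (BT.node (nat_lit 10706432) (BT.node (nat_lit 10706304) (BT.node (nat_lit 10706240) (BT.leaf (nat_lit 30597649)) (BT.leaf (nat_lit 42416669))) (BT.node (nat_lit 10706368) (BT.leaf (nat_lit 30491409)) (BT.leaf (nat_lit 39549217)))) (BT.node (nat_lit 10706560) (BT.node (nat_lit 10706496) (BT.leaf (nat_lit 40689433)) (BT.leaf (nat_lit 40689437))) (BT.node (nat_lit 10706624) (BT.leaf (nat_lit 42833673)) (BT.leaf (nat_lit 44749857))))) (BT.node (nat_lit 10706944) (BT.node (nat_lit 10706816) (BT.node (nat_lit 10706752) (BT.leaf (nat_lit 38513433)) (BT.leaf (nat_lit 38513437))) (BT.node (nat_lit 10706880) (BT.leaf (nat_lit 30492701)) (BT.leaf (nat_lit 48405001)))) (BT.node (nat_lit 10707072) (BT.node (nat_lit 10707008) (BT.leaf (nat_lit 32296725)) (BT.leaf (nat_lit 30493713))) (BT.node (nat_lit 10707136) (BT.leaf (nat_lit 48957985)) (BT.leaf (nat_lit 51743493)))))) (BT.node (nat_lit 10707648) (BT.node (nat_lit 10707456) (BT.node (nat_lit 10707328) (BT.node (nat_lit 10707264) (BT.leaf (nat_lit 31583517)) (BT.leaf (nat_lit 37235733))) (BT.node (nat_lit 10707392) (BT.leaf (nat_lit 42143769)) (BT.leaf (nat_lit 30496021)))) (BT.node (nat_lit 10707584) (BT.node (nat_lit 10707520) (BT.leaf (nat_lit 30495253)) (BT.leaf (nat_lit 47773213))) (BT.node (nat_lit 10707589) (BT.leaf (nat_lit 42535709)) (BT.leaf (nat_lit 700304))))) (BT.node (nat_lit 10707904) (BT.node (nat_lit 10707776) (BT.node (nat_lit 10707712) (BT.leaf (nat_lit 40595717)) (BT.leaf (nat_lit 30494241))) (BT.node (nat_lit 10707840) (BT.leaf (nat_lit 34406933)) (BT.leaf (nat_lit 30494753)))) (BT.node (nat_lit 10708032) (BT.node (nat_lit 10707968) (BT.leaf (nat_lit 47135257)) (BT.leaf (nat_lit 32957977))) (BT.node (nat_lit 10708096) (BT.leaf (nat_lit 40862481)) (BT.leaf (nat_lit 30495749))))))))) (BT.node (nat_lit 10712384) (BT.node (nat_lit 10710144) (BT.node (nat_lit 10709184) (BT.node (nat_lit 10708672) (BT.node (nat_lit 10708416) (BT.node (nat_lit 10708288) (BT.node (nat_lit 10708224) (BT.leaf (nat_lit 28852765)) (BT.leaf (nat_lit 27500829))) (BT.node (nat_lit 10708352) (BT.leaf (nat_lit 32730385)) (BT.leaf (nat_lit 49245469)))) (BT.node (nat_lit 10708544) (BT.node (nat_lit 10708480) (BT.leaf (nat_lit 40578837)) (BT.leaf (nat_lit 43890181))) (BT.node (nat_lit 10708608) (BT.leaf (nat_lit 38320645)) (BT.leaf (nat_lit 32721941))))) (BT.node (nat_lit 10708928) (BT.node (nat_lit 10708800) (BT.node (nat_lit 10708736) (BT.leaf (nat_lit 34766097)) (BT.leaf (nat_lit 32573189))) (BT.node (nat_lit 10708864) (BT.leaf (nat_lit 41815577)) (BT.leaf (nat_lit 38075401)))) (BT.node (nat_lit 10709056) (BT.node (nat_lit 10708992) (BT.leaf (nat_lit 38075405)) (BT.leaf (nat_lit 34165269))) (BT.node (nat_lit 10709120) (BT.leaf (nat_lit 39908873)) (BT.leaf (nat_lit 45262605)))))) (BT.node (nat_lit 10709632) (BT.node (nat_lit 10709440) (BT.node (nat_lit 10709312) (BT.node (nat_lit 10709248) (BT.leaf (nat_lit 38320657)) (BT.leaf (nat_lit 42846733))) (BT.node (nat_lit 10709376) (BT.leaf (nat_lit 31249161)) (BT.leaf (nat_lit 38911505)))) (BT.node (nat_lit 10709504) (BT.node (nat_lit 10709448) (BT.leaf (nat_lit 30500121)) (BT.leaf (nat_lit 707704))) (BT.node (nat_lit 10709568) (BT.leaf (nat_lit 30501129)) (BT.leaf (nat_lit 44748297))))) (BT.node (nat_lit 10709888) (BT.node (nat_lit 10709760) (BT.node (nat_lit 10709696) (BT.leaf (nat_lit 44748301)) (BT.leaf (nat_lit 44748565))) (BT.node (nat_lit 10709824) (BT.leaf (nat_lit 32321029)) (BT.leaf (nat_lit 44748321)))) (BT.node (nat_lit 10710016) (BT.node (nat_lit 10709952) (BT.leaf (nat_lit 45619465)) (BT.leaf (nat_lit 30499361))) (BT.node (nat_lit 10710080) (BT.leaf (nat_lit 32743713)) (BT.leaf (nat_lit 43118877))))))) (BT.node (nat_lit 10711168) (BT.node (nat_lit 10710656) (BT.node (nat_lit 10710400) (BT.node (nat_lit 10710272) (BT.node (nat_lit 10710208) (BT.leaf (nat_lit 30497297)) (BT.leaf (nat_lit 32743457))) (BT.node (nat_lit 10710336) (BT.leaf (nat_lit 31824161)) (BT.leaf (nat_lit 30498837)))) (BT.node (nat_lit 10710528) (BT.node (nat_lit 10710464) (BT.leaf (nat_lit 44586013)) (BT.leaf (nat_lit 39547925))) (BT.node (nat_lit 10710592) (BT.leaf (nat_lit 48088325)) (BT.leaf (nat_lit 31755797))))) (BT.node (nat_lit 10710912) (BT.node (nat_lit 10710784) (BT.node (nat_lit 10710720) (BT.leaf (nat_lit 32817673)) (BT.leaf (nat_lit 32817677))) (BT.node (nat_lit 10710848) (BT.leaf (nat_lit 45683989)) (BT.leaf (nat_lit 32817689)))) (BT.node (nat_lit 10711040) (BT.node (nat_lit 10710976) (BT.leaf (nat_lit 32817697)) (BT.leaf (nat_lit 32574981))) (BT.node (nat_lit 10711104) (BT.leaf (nat_lit 41567501)) (BT.leaf (nat_lit 39314189)))))) (BT.node (nat_lit 10711808) (BT.node (nat_lit 10711424) (BT.node (nat_lit 10711296) (BT.node (nat_lit 10711232) (BT.leaf (nat_lit 43167009)) (BT.leaf (nat_lit 39314185))) (BT.node (nat_lit 10711360) (BT.leaf (nat_lit 39314181)) (BT.leaf (nat_lit 39314201)))) (BT.node (nat_lit 10711616) (BT.node (nat_lit 10711488) (BT.leaf (nat_lit 39314205)) (BT.leaf (nat_lit 49297925))) (BT.node (nat_lit 10711680) (BT.leaf (nat_lit 32321041)) (BT.leaf (nat_lit 50791201))))) (BT.node (nat_lit 10712064) (BT.node (nat_lit 10711936) (BT.node (nat_lit 10711872) (BT.leaf (nat_lit 43595297)) (BT.leaf (nat_lit 43595285))) (BT.node (nat_lit 10712000) (BT.leaf (nat_lit 43595289)) (BT.leaf (nat_lit 43595293)))) (BT.node (nat_lit 10712256) (BT.node (nat_lit 10712128) (BT.leaf (nat_lit 42495749)) (BT.leaf (nat_lit 48963861))) (BT.node (nat_lit 10712320) (BT.leaf (nat_lit 43173389)) (BT.leaf (nat_lit 30499589)))))))) (BT.node (nat_lit 10714369) (BT.node (nat_lit 10713344) (BT.node (nat_lit 10712901) (BT.node (nat_lit 10712704) (BT.node (nat_lit 10712576) (BT.node (nat_lit 10712448) (BT.leaf (nat_lit 45699617)) (BT.leaf (nat_lit 30499609))) (BT.node (nat_lit 10712640) (BT.leaf (nat_lit 44290837)) (BT.leaf (nat_lit 30499613)))) (BT.node (nat_lit 10712832) (BT.node (nat_lit 10712768) (BT.leaf (nat_lit 44699681)) (BT.leaf (nat_lit 30987549))) (BT.node (nat_lit 10712896) (BT.leaf (nat_lit 38966557)) (BT.leaf (nat_lit 45974025))))) (BT.node (nat_lit 10713152) (BT.node (nat_lit 10713024) (BT.node (nat_lit 10712960) (BT.leaf (nat_lit 717164)) (BT.leaf (nat_lit 42854933))) (BT.node (nat_lit 10713088) (BT.leaf (nat_lit 40455689)) (BT.leaf (nat_lit 40161817)))) (BT.node (nat_lit 10713221) (BT.node (nat_lit 10713216) (BT.leaf (nat_lit 43165461)) (BT.leaf (nat_lit 39603209))) (BT.node (nat_lit 10713280) (BT.leaf (nat_lit 707676)) (BT.leaf (nat_lit 40161805)))))) (BT.node (nat_lit 10713920) (BT.node (nat_lit 10713664) (BT.node (nat_lit 10713536) (BT.node (nat_lit 10713408) (BT.leaf (nat_lit 39603217)) (BT.leaf (nat_lit 31974161))) (BT.node (nat_lit 10713600) (BT.leaf (nat_lit 41213473)) (BT.leaf (nat_lit 38040069)))) (BT.node (nat_lit 10713792) (BT.node (nat_lit 10713728) (BT.leaf (nat_lit 48087069)) (BT.leaf (nat_lit 51112221))) (BT.node (nat_lit 10713856) (BT.leaf (nat_lit 38040081)) (BT.leaf (nat_lit 38966553))))) (BT.node (nat_lit 10714176) (BT.node (nat_lit 10714048) (BT.node (nat_lit 10713984) (BT.leaf (nat_lit 38040097)) (BT.leaf (nat_lit 30501653))) (BT.node (nat_lit 10714112) (BT.leaf (nat_lit 42173705)) (BT.leaf (nat_lit 42173709)))) (BT.node (nat_lit 10714304) (BT.node (nat_lit 10714240) (BT.leaf (nat_lit 42173721)) (BT.leaf (nat_lit 42173725))) (BT.node (nat_lit 10714368) (BT.leaf (nat_lit 30502933)) (BT.leaf (nat_lit 31011601))))))) (BT.node (nat_lit 10715392) (BT.node (nat_lit 10714880) (BT.node (nat_lit 10714624) (BT.node (nat_lit 10714496) (BT.node (nat_lit 10714432) (BT.leaf (nat_lit 759836)) (BT.leaf (nat_lit 48608029))) (BT.node (nat_lit 10714560) (BT.leaf (nat_lit 47852557)) (BT.leaf (nat_lit 31180321)))) (BT.node (nat_lit 10714752) (BT.node (nat_lit 10714688) (BT.leaf (nat_lit 41572613)) (BT.leaf (nat_lit 47813665))) (BT.node (nat_lit 10714816) (BT.leaf (nat_lit 47813921)) (BT.leaf (nat_lit 47814149))))) (BT.node (nat_lit 10715136) (BT.node (nat_lit 10715008) (BT.node (nat_lit 10714944) (BT.leaf (nat_lit 47814689)) (BT.leaf (nat_lit 47814433))) (BT.node (nat_lit 10715072) (BT.leaf (nat_lit 41547269)) (BT.leaf (nat_lit 31352589)))) (BT.node (nat_lit 10715264) (BT.node (nat_lit 10715200) (BT.leaf (nat_lit 31352593)) (BT.leaf (nat_lit 28974621))) (BT.node (nat_lit 10715328) (BT.leaf (nat_lit 40420897)) (BT.leaf (nat_lit 47520017)))))) (BT.node (nat_lit 10715842) (BT.node (nat_lit 10715648) (BT.node (nat_lit 10715520) (BT.node (nat_lit 10715456) (BT.leaf (nat_lit 29534729)) (BT.leaf (nat_lit 34762269))) (BT.node (nat_lit 10715584) (BT.leaf (nat_lit 47520033)) (BT.leaf (nat_lit 48569861)))) (BT.node (nat_lit 10715776) (BT.node (nat_lit 10715712) (BT.leaf (nat_lit 44793093)) (BT.leaf (nat_lit 30506777))) (BT.node (nat_lit 10715840) (BT.leaf (nat_lit 30506781)) (BT.leaf (nat_lit 39418385))))) (BT.node (nat_lit 10716032) (BT.node (nat_lit 10715904) (BT.node (nat_lit 10715843) (BT.leaf (nat_lit 686916)) (BT.leaf (nat_lit 686916))) (BT.node (nat_lit 10715968) (BT.leaf (nat_lit 47852553)) (BT.leaf (nat_lit 28978965)))) (BT.node (nat_lit 10716224) (BT.node (nat_lit 10716160) (BT.leaf (nat_lit 42857497)) (BT.leaf (nat_lit 49367557))) (BT.node (nat_lit 10716288) (BT.leaf (nat_lit 44675333)) (BT.leaf (nat_lit 41322785))))))))))) (BT.node (nat_lit 10731712) (BT.node (nat_lit 10724032) (BT.node (nat_lit 10720192) (BT.node (nat_lit 10718208) (BT.node (nat_lit 10717184) (BT.node (nat_lit 10716674) (BT.node (nat_lit 10716608) (BT.node (nat_lit 10716480) (BT.node (nat_lit 10716416) (BT.leaf (nat_lit 31812357)) (BT.leaf (nat_lit 42865433))) (BT.node (nat_lit 10716544) (BT.leaf (nat_lit 41520901)) (BT.leaf (nat_lit 48091421)))) (BT.node (nat_lit 10716612) (BT.node (nat_lit 10716609) (BT.leaf (nat_lit 30656537)) (BT.leaf (nat_lit 771000))) (BT.node (nat_lit 10716616) (BT.leaf (nat_lit 771000)) (BT.leaf (nat_lit 771000))))) (BT.node (nat_lit 10716928) (BT.node (nat_lit 10716800) (BT.node (nat_lit 10716736) (BT.leaf (nat_lit 777328)) (BT.leaf (nat_lit 48952325))) (BT.node (nat_lit 10716864) (BT.leaf (nat_lit 30656521)) (BT.leaf (nat_lit 41520133)))) (BT.node (nat_lit 10717056) (BT.node (nat_lit 10716992) (BT.leaf (nat_lit 34301213)) (BT.leaf (nat_lit 44347425))) (BT.node (nat_lit 10717120) (BT.leaf (nat_lit 40431109)) (BT.leaf (nat_lit 40432133)))))) (BT.node (nat_lit 10717696) (BT.node (nat_lit 10717440) (BT.node (nat_lit 10717312) (BT.node (nat_lit 10717248) (BT.leaf (nat_lit 31012365)) (BT.leaf (nat_lit 37869333))) (BT.node (nat_lit 10717376) (BT.leaf (nat_lit 47188257)) (BT.leaf (nat_lit 29250337)))) (BT.node (nat_lit 10717568) (BT.node (nat_lit 10717504) (BT.leaf (nat_lit 47696145)) (BT.leaf (nat_lit 42504729))) (BT.node (nat_lit 10717632) (BT.leaf (nat_lit 42504733)) (BT.leaf (nat_lit 37924625))))) (BT.node (nat_lit 10717952) (BT.node (nat_lit 10717824) (BT.node (nat_lit 10717760) (BT.leaf (nat_lit 37956889)) (BT.leaf (nat_lit 37956893))) (BT.node (nat_lit 10717888) (BT.leaf (nat_lit 49107205)) (BT.leaf (nat_lit 45078545)))) (BT.node (nat_lit 10718080) (BT.node (nat_lit 10718016) (BT.leaf (nat_lit 40059929)) (BT.leaf (nat_lit 40059933))) (BT.node (nat_lit 10718144) (BT.leaf (nat_lit 27464465)) (BT.leaf (nat_lit 40262421))))))) (BT.node (nat_lit 10719232) (BT.node (nat_lit 10718720) (BT.node (nat_lit 10718464) (BT.node (nat_lit 10718336) (BT.node (nat_lit 10718272) (BT.leaf (nat_lit 30514973)) (BT.leaf (nat_lit 30703637))) (BT.node (nat_lit 10718400) (BT.leaf (nat_lit 28016137)) (BT.leaf (nat_lit 48037393)))) (BT.node (nat_lit 10718592) (BT.node (nat_lit 10718528) (BT.leaf (nat_lit 30091021)) (BT.leaf (nat_lit 32334361))) (BT.node (nat_lit 10718656) (BT.leaf (nat_lit 42413845)) (BT.leaf (nat_lit 32334369))))) (BT.node (nat_lit 10718976) (BT.node (nat_lit 10718848) (BT.node (nat_lit 10718784) (BT.leaf (nat_lit 30516509)) (BT.leaf (nat_lit 30519325))) (BT.node (nat_lit 10718912) (BT.leaf (nat_lit 32131089)) (BT.leaf (nat_lit 32131093)))) (BT.node (nat_lit 10719104) (BT.node (nat_lit 10719040) (BT.leaf (nat_lit 32131105)) (BT.leaf (nat_lit 41537557))) (BT.node (nat_lit 10719168) (BT.leaf (nat_lit 51013381)) (BT.leaf (nat_lit 42876441)))))) (BT.node (nat_lit 10719744) (BT.node (nat_lit 10719488) (BT.node (nat_lit 10719360) (BT.node (nat_lit 10719296) (BT.leaf (nat_lit 30520337)) (BT.leaf (nat_lit 34168349))) (BT.node (nat_lit 10719424) (BT.leaf (nat_lit 48385545)) (BT.leaf (nat_lit 48385549)))) (BT.node (nat_lit 10719616) (BT.node (nat_lit 10719552) (BT.leaf (nat_lit 48385557)) (BT.leaf (nat_lit 30518809))) (BT.node (nat_lit 10719680) (BT.leaf (nat_lit 27467281)) (BT.leaf (nat_lit 30515473))))) (BT.node (nat_lit 10719936) (BT.node (nat_lit 10719813) (BT.node (nat_lit 10719808) (BT.leaf (nat_lit 49618437)) (BT.leaf (nat_lit 42242337))) (BT.node (nat_lit 10719872) (BT.leaf (nat_lit 718376)) (BT.leaf (nat_lit 30522641)))) (BT.node (nat_lit 10720064) (BT.node (nat_lit 10720000) (BT.leaf (nat_lit 30523921)) (BT.leaf (nat_lit 32870677))) (BT.node (nat_lit 10720128) (BT.leaf (nat_lit 30524685)) (BT.leaf (nat_lit 30524941)))))))) (BT.node (nat_lit 10722240) (BT.node (nat_lit 10721216) (BT.node (nat_lit 10720704) (BT.node (nat_lit 10720448) (BT.node (nat_lit 10720320) (BT.node (nat_lit 10720256) (BT.leaf (nat_lit 50690309)) (BT.leaf (nat_lit 48598289))) (BT.node (nat_lit 10720384) (BT.leaf (nat_lit 32359193)) (BT.leaf (nat_lit 32359197)))) (BT.node (nat_lit 10720576) (BT.node (nat_lit 10720512) (BT.leaf (nat_lit 30525969)) (BT.leaf (nat_lit 34939921))) (BT.node (nat_lit 10720640) (BT.leaf (nat_lit 44067349)) (BT.leaf (nat_lit 32419097))))) (BT.node (nat_lit 10720960) (BT.node (nat_lit 10720832) (BT.node (nat_lit 10720768) (BT.leaf (nat_lit 32419101)) (BT.leaf (nat_lit 42904593))) (BT.node (nat_lit 10720896) (BT.leaf (nat_lit 32265229)) (BT.leaf (nat_lit 35094533)))) (BT.node (nat_lit 10721088) (BT.node (nat_lit 10721024) (BT.leaf (nat_lit 38524449)) (BT.leaf (nat_lit 46305541))) (BT.node (nat_lit 10721152) (BT.leaf (nat_lit 30534941)) (BT.leaf (nat_lit 39689481)))))) (BT.node (nat_lit 10721728) (BT.node (nat_lit 10721472) (BT.node (nat_lit 10721344) (BT.node (nat_lit 10721280) (BT.leaf (nat_lit 42903329)) (BT.leaf (nat_lit 42214925))) (BT.node (nat_lit 10721408) (BT.leaf (nat_lit 46894341)) (BT.leaf (nat_lit 44824589)))) (BT.node (nat_lit 10721600) (BT.node (nat_lit 10721536) (BT.leaf (nat_lit 42904325)) (BT.leaf (nat_lit 40465937))) (BT.node (nat_lit 10721664) (BT.leaf (nat_lit 37838085)) (BT.leaf (nat_lit 38110741))))) (BT.node (nat_lit 10721984) (BT.node (nat_lit 10721856) (BT.node (nat_lit 10721792) (BT.leaf (nat_lit 31109649)) (BT.leaf (nat_lit 32850957))) (BT.node (nat_lit 10721920) (BT.leaf (nat_lit 32521493)) (BT.leaf (nat_lit 30537241)))) (BT.node (nat_lit 10722112) (BT.node (nat_lit 10722048) (BT.leaf (nat_lit 32737545)) (BT.leaf (nat_lit 32737549))) (BT.node (nat_lit 10722176) (BT.leaf (nat_lit 48186645)) (BT.leaf (nat_lit 33789721))))))) (BT.node (nat_lit 10723136) (BT.node (nat_lit 10722624) (BT.node (nat_lit 10722368) (BT.node (nat_lit 10722248) (BT.node (nat_lit 10722241) (BT.leaf (nat_lit 40532493)) (BT.leaf (nat_lit 797784))) (BT.node (nat_lit 10722304) (BT.leaf (nat_lit 797784)) (BT.leaf (nat_lit 40954373)))) (BT.node (nat_lit 10722496) (BT.node (nat_lit 10722432) (BT.leaf (nat_lit 32082181)) (BT.leaf (nat_lit 33996317))) (BT.node (nat_lit 10722560) (BT.leaf (nat_lit 47491097)) (BT.leaf (nat_lit 50487065))))) (BT.node (nat_lit 10722880) (BT.node (nat_lit 10722752) (BT.node (nat_lit 10722688) (BT.leaf (nat_lit 31684101)) (BT.leaf (nat_lit 30539541))) (BT.node (nat_lit 10722816) (BT.leaf (nat_lit 48134421)) (BT.leaf (nat_lit 41259273)))) (BT.node (nat_lit 10723008) (BT.node (nat_lit 10722944) (BT.leaf (nat_lit 48139029)) (BT.leaf (nat_lit 38754309))) (BT.node (nat_lit 10723072) (BT.leaf (nat_lit 48492833)) (BT.leaf (nat_lit 39649561)))))) (BT.node (nat_lit 10723712) (BT.node (nat_lit 10723456) (BT.node (nat_lit 10723264) (BT.node (nat_lit 10723200) (BT.leaf (nat_lit 42945549)) (BT.leaf (nat_lit 30583577))) (BT.node (nat_lit 10723392) (BT.leaf (nat_lit 47952389)) (BT.leaf (nat_lit 41264917)))) (BT.node (nat_lit 10723584) (BT.node (nat_lit 10723520) (BT.leaf (nat_lit 30539801)) (BT.leaf (nat_lit 47851293))) (BT.node (nat_lit 10723648) (BT.leaf (nat_lit 50786589)) (BT.leaf (nat_lit 40408353))))) (BT.node (nat_lit 10723968) (BT.node (nat_lit 10723840) (BT.node (nat_lit 10723776) (BT.leaf (nat_lit 41324317)) (BT.leaf (nat_lit 35947285))) (BT.node (nat_lit 10723904) (BT.leaf (nat_lit 32751897)) (BT.leaf (nat_lit 30612509)))) (BT.node (nat_lit 10723974) (BT.node (nat_lit 10723969) (BT.leaf (nat_lit 49321745)) (BT.leaf (nat_lit 678788))) (BT.node (nat_lit 10723975) (BT.leaf (nat_lit 678788)) (BT.leaf (nat_lit 678788))))))))) (BT.node (nat_lit 10727808) (BT.node (nat_lit 10725888) (BT.node (nat_lit 10724928) (BT.node (nat_lit 10724416) (BT.node (nat_lit 10724224) (BT.node (nat_lit 10724096) (BT.node (nat_lit 10724040) (BT.leaf (nat_lit 49321749)) (BT.leaf (nat_lit 710708))) (BT.node (nat_lit 10724160) (BT.leaf (nat_lit 30540305)) (BT.leaf (nat_lit 43344137)))) (BT.node (nat_lit 10724293) (BT.node (nat_lit 10724288) (BT.leaf (nat_lit 34337313)) (BT.leaf (nat_lit 29941025))) (BT.node (nat_lit 10724352) (BT.leaf (nat_lit 675460)) (BT.leaf (nat_lit 40620549))))) (BT.node (nat_lit 10724672) (BT.node (nat_lit 10724544) (BT.node (nat_lit 10724480) (BT.leaf (nat_lit 48713501)) (BT.leaf (nat_lit 46183957))) (BT.node (nat_lit 10724608) (BT.leaf (nat_lit 32538385)) (BT.leaf (nat_lit 48179481)))) (BT.node (nat_lit 10724800) (BT.node (nat_lit 10724736) (BT.leaf (nat_lit 30543113)) (BT.leaf (nat_lit 43000589))) (BT.node (nat_lit 10724864) (BT.leaf (nat_lit 43906313)) (BT.leaf (nat_lit 42856209)))))) (BT.node (nat_lit 10725376) (BT.node (nat_lit 10725184) (BT.node (nat_lit 10725056) (BT.node (nat_lit 10724992) (BT.leaf (nat_lit 30666525)) (BT.leaf (nat_lit 31552017))) (BT.node (nat_lit 10725120) (BT.leaf (nat_lit 27496213)) (BT.leaf (nat_lit 31618065)))) (BT.node (nat_lit 10725248) (BT.node (nat_lit 10725192) (BT.leaf (nat_lit 30545673)) (BT.leaf (nat_lit 763488))) (BT.node (nat_lit 10725312) (BT.leaf (nat_lit 30268693)) (BT.leaf (nat_lit 48108309))))) (BT.node (nat_lit 10725632) (BT.node (nat_lit 10725504) (BT.node (nat_lit 10725440) (BT.leaf (nat_lit 43949317)) (BT.leaf (nat_lit 43949061))) (BT.node (nat_lit 10725568) (BT.leaf (nat_lit 43949601)) (BT.leaf (nat_lit 30546209)))) (BT.node (nat_lit 10725760) (BT.node (nat_lit 10725696) (BT.leaf (nat_lit 30545953)) (BT.leaf (nat_lit 43279649))) (BT.node (nat_lit 10725824) (BT.leaf (nat_lit 41393421)) (BT.leaf (nat_lit 47239685))))))) (BT.node (nat_lit 10726784) (BT.node (nat_lit 10726336) (BT.node (nat_lit 10726144) (BT.node (nat_lit 10726016) (BT.node (nat_lit 10725952) (BT.leaf (nat_lit 42903321)) (BT.leaf (nat_lit 49786913))) (BT.node (nat_lit 10726080) (BT.leaf (nat_lit 42904349)) (BT.leaf (nat_lit 43280417)))) (BT.node (nat_lit 10726208) (BT.node (nat_lit 10726146) (BT.leaf (nat_lit 34585365)) (BT.leaf (nat_lit 794984))) (BT.node (nat_lit 10726272) (BT.leaf (nat_lit 39463685)) (BT.leaf (nat_lit 39265797))))) (BT.node (nat_lit 10726594) (BT.node (nat_lit 10726464) (BT.node (nat_lit 10726400) (BT.leaf (nat_lit 38790153)) (BT.leaf (nat_lit 38790157))) (BT.node (nat_lit 10726592) (BT.leaf (nat_lit 38790677)) (BT.leaf (nat_lit 41391381)))) (BT.node (nat_lit 10726656) (BT.node (nat_lit 10726595) (BT.leaf (nat_lit 687444)) (BT.leaf (nat_lit 687444))) (BT.node (nat_lit 10726720) (BT.leaf (nat_lit 47310085)) (BT.leaf (nat_lit 42274829)))))) (BT.node (nat_lit 10727296) (BT.node (nat_lit 10727040) (BT.node (nat_lit 10726912) (BT.node (nat_lit 10726848) (BT.leaf (nat_lit 39583241)) (BT.leaf (nat_lit 38790681))) (BT.node (nat_lit 10726976) (BT.leaf (nat_lit 38790685)) (BT.leaf (nat_lit 41972497)))) (BT.node (nat_lit 10727168) (BT.node (nat_lit 10727104) (BT.leaf (nat_lit 31267849)) (BT.leaf (nat_lit 43639573))) (BT.node (nat_lit 10727232) (BT.leaf (nat_lit 39684885)) (BT.leaf (nat_lit 39696133))))) (BT.node (nat_lit 10727552) (BT.node (nat_lit 10727424) (BT.node (nat_lit 10727360) (BT.leaf (nat_lit 31267869)) (BT.leaf (nat_lit 44830741))) (BT.node (nat_lit 10727488) (BT.leaf (nat_lit 47829533)) (BT.leaf (nat_lit 43891225)))) (BT.node (nat_lit 10727680) (BT.node (nat_lit 10727616) (BT.leaf (nat_lit 41973025)) (BT.leaf (nat_lit 43288865))) (BT.node (nat_lit 10727744) (BT.leaf (nat_lit 43288609)) (BT.leaf (nat_lit 31387681)))))))) (BT.node (nat_lit 10729664) (BT.node (nat_lit 10728704) (BT.node (nat_lit 10728320) (BT.node (nat_lit 10728064) (BT.node (nat_lit 10727936) (BT.node (nat_lit 10727872) (BT.leaf (nat_lit 31325217)) (BT.leaf (nat_lit 31324961))) (BT.node (nat_lit 10728000) (BT.leaf (nat_lit 28387077)) (BT.leaf (nat_lit 47114777)))) (BT.node (nat_lit 10728192) (BT.node (nat_lit 10728128) (BT.leaf (nat_lit 31376901)) (BT.leaf (nat_lit 31378437))) (BT.node (nat_lit 10728256) (BT.leaf (nat_lit 31587093)) (BT.leaf (nat_lit 31587097))))) (BT.node (nat_lit 10728451) (BT.node (nat_lit 10728448) (BT.node (nat_lit 10728384) (BT.leaf (nat_lit 31587101)) (BT.leaf (nat_lit 48880657))) (BT.node (nat_lit 10728450) (BT.leaf (nat_lit 34741785)) (BT.leaf (nat_lit 793068)))) (BT.node (nat_lit 10728512) (BT.node (nat_lit 10728453) (BT.leaf (nat_lit 793068)) (BT.leaf (nat_lit 793068))) (BT.node (nat_lit 10728576) (BT.leaf (nat_lit 31674645)) (BT.leaf (nat_lit 50297093)))))) (BT.node (nat_lit 10729216) (BT.node (nat_lit 10728960) (BT.node (nat_lit 10728832) (BT.node (nat_lit 10728768) (BT.leaf (nat_lit 30557457)) (BT.leaf (nat_lit 40760097))) (BT.node (nat_lit 10728896) (BT.leaf (nat_lit 34445845)) (BT.leaf (nat_lit 30804509)))) (BT.node (nat_lit 10729088) (BT.node (nat_lit 10729024) (BT.leaf (nat_lit 30560797)) (BT.leaf (nat_lit 30560029))) (BT.node (nat_lit 10729152) (BT.leaf (nat_lit 49735949)) (BT.leaf (nat_lit 38115861))))) (BT.node (nat_lit 10729472) (BT.node (nat_lit 10729344) (BT.node (nat_lit 10729280) (BT.leaf (nat_lit 40631813)) (BT.leaf (nat_lit 30564113))) (BT.node (nat_lit 10729408) (BT.leaf (nat_lit 30563857)) (BT.leaf (nat_lit 42711065)))) (BT.node (nat_lit 10729536) (BT.node (nat_lit 10729474) (BT.leaf (nat_lit 48107269)) (BT.leaf (nat_lit 776724))) (BT.node (nat_lit 10729600) (BT.leaf (nat_lit 30563601)) (BT.leaf (nat_lit 31440913))))))) (BT.node (nat_lit 10730752) (BT.node (nat_lit 10730176) (BT.node (nat_lit 10729920) (BT.node (nat_lit 10729792) (BT.node (nat_lit 10729728) (BT.leaf (nat_lit 48575265)) (BT.leaf (nat_lit 43575577))) (BT.node (nat_lit 10729856) (BT.leaf (nat_lit 31423261)) (BT.leaf (nat_lit 40390165)))) (BT.node (nat_lit 10730048) (BT.node (nat_lit 10729984) (BT.leaf (nat_lit 44297225)) (BT.leaf (nat_lit 38748177))) (BT.node (nat_lit 10730112) (BT.leaf (nat_lit 30565661)) (BT.leaf (nat_lit 30565149))))) (BT.node (nat_lit 10730432) (BT.node (nat_lit 10730304) (BT.node (nat_lit 10730240) (BT.leaf (nat_lit 32527121)) (BT.leaf (nat_lit 43922713))) (BT.node (nat_lit 10730368) (BT.leaf (nat_lit 31793925)) (BT.leaf (nat_lit 45518877)))) (BT.node (nat_lit 10730624) (BT.node (nat_lit 10730496) (BT.leaf (nat_lit 48348449)) (BT.leaf (nat_lit 37985553))) (BT.node (nat_lit 10730688) (BT.leaf (nat_lit 39677961)) (BT.leaf (nat_lit 39677965)))))) (BT.node (nat_lit 10731264) (BT.node (nat_lit 10731008) (BT.node (nat_lit 10730880) (BT.node (nat_lit 10730816) (BT.leaf (nat_lit 39677969)) (BT.leaf (nat_lit 45043481))) (BT.node (nat_lit 10730944) (BT.leaf (nat_lit 45043485)) (BT.leaf (nat_lit 40953873)))) (BT.node (nat_lit 10731136) (BT.node (nat_lit 10731072) (BT.leaf (nat_lit 40953877)) (BT.leaf (nat_lit 41237509))) (BT.node (nat_lit 10731200) (BT.leaf (nat_lit 43313669)) (BT.leaf (nat_lit 49122069))))) (BT.node (nat_lit 10731520) (BT.node (nat_lit 10731392) (BT.node (nat_lit 10731328) (BT.leaf (nat_lit 41327885)) (BT.leaf (nat_lit 43314693))) (BT.node (nat_lit 10731456) (BT.leaf (nat_lit 34327817)) (BT.leaf (nat_lit 29494801)))) (BT.node (nat_lit 10731588) (BT.node (nat_lit 10731584) (BT.leaf (nat_lit 30570513)) (BT.leaf (nat_lit 40760325))) (BT.node (nat_lit 10731648) (BT.leaf (nat_lit 808144)) (BT.leaf (nat_lit 48538909)))))))))) (BT.node (nat_lit 10739584) (BT.node (nat_lit 10735488) (BT.node (nat_lit 10733571) (BT.node (nat_lit 10732608) (BT.node (nat_lit 10732224) (BT.node (nat_lit 10731968) (BT.node (nat_lit 10731840) (BT.node (nat_lit 10731776) (BT.leaf (nat_lit 40760329)) (BT.leaf (nat_lit 40760333))) (BT.node (nat_lit 10731904) (BT.leaf (nat_lit 42933765)) (BT.leaf (nat_lit 40760345)))) (BT.node (nat_lit 10732096) (BT.node (nat_lit 10732032) (BT.leaf (nat_lit 32052485)) (BT.leaf (nat_lit 30570265))) (BT.node (nat_lit 10732160) (BT.leaf (nat_lit 37890325)) (BT.leaf (nat_lit 30570269))))) (BT.node (nat_lit 10732480) (BT.node (nat_lit 10732352) (BT.node (nat_lit 10732288) (BT.leaf (nat_lit 32053025)) (BT.leaf (nat_lit 48337441))) (BT.node (nat_lit 10732416) (BT.leaf (nat_lit 40608797)) (BT.leaf (nat_lit 45911057)))) (BT.node (nat_lit 10732487) (BT.node (nat_lit 10732486) (BT.leaf (nat_lit 40547089)) (BT.leaf (nat_lit 759012))) (BT.node (nat_lit 10732544) (BT.leaf (nat_lit 759012)) (BT.leaf (nat_lit 31376141)))))) (BT.node (nat_lit 10733120) (BT.node (nat_lit 10732864) (BT.node (nat_lit 10732736) (BT.node (nat_lit 10732672) (BT.leaf (nat_lit 43333921)) (BT.leaf (nat_lit 49886749))) (BT.node (nat_lit 10732800) (BT.leaf (nat_lit 41424405)) (BT.leaf (nat_lit 47409673)))) (BT.node (nat_lit 10732992) (BT.node (nat_lit 10732928) (BT.leaf (nat_lit 45295901)) (BT.leaf (nat_lit 41005841))) (BT.node (nat_lit 10733056) (BT.leaf (nat_lit 47408925)) (BT.leaf (nat_lit 30570769))))) (BT.node (nat_lit 10733376) (BT.node (nat_lit 10733248) (BT.node (nat_lit 10733184) (BT.leaf (nat_lit 37130765)) (BT.leaf (nat_lit 39707141))) (BT.node (nat_lit 10733312) (BT.leaf (nat_lit 32132873)) (BT.leaf (nat_lit 32008981)))) (BT.node (nat_lit 10733504) (BT.node (nat_lit 10733440) (BT.leaf (nat_lit 31707405)) (BT.leaf (nat_lit 31707409))) (BT.node (nat_lit 10733568) (BT.leaf (nat_lit 34889225)) (BT.leaf (nat_lit 38945301))))))) (BT.node (nat_lit 10734464) (BT.node (nat_lit 10733954) (BT.node (nat_lit 10733766) (BT.node (nat_lit 10733696) (BT.node (nat_lit 10733632) (BT.leaf (nat_lit 763704)) (BT.leaf (nat_lit 32010001))) (BT.node (nat_lit 10733760) (BT.leaf (nat_lit 32008733)) (BT.leaf (nat_lit 32734741)))) (BT.node (nat_lit 10733888) (BT.node (nat_lit 10733824) (BT.leaf (nat_lit 710140)) (BT.leaf (nat_lit 32490253))) (BT.node (nat_lit 10733952) (BT.leaf (nat_lit 32490257)) (BT.leaf (nat_lit 37810693))))) (BT.node (nat_lit 10734208) (BT.node (nat_lit 10734080) (BT.node (nat_lit 10734016) (BT.leaf (nat_lit 717456)) (BT.leaf (nat_lit 40861717))) (BT.node (nat_lit 10734144) (BT.leaf (nat_lit 41006857)) (BT.leaf (nat_lit 29329433)))) (BT.node (nat_lit 10734336) (BT.node (nat_lit 10734272) (BT.leaf (nat_lit 42376985)) (BT.leaf (nat_lit 43313697))) (BT.node (nat_lit 10734400) (BT.leaf (nat_lit 32039957)) (BT.leaf (nat_lit 30790673)))))) (BT.node (nat_lit 10734976) (BT.node (nat_lit 10734720) (BT.node (nat_lit 10734592) (BT.node (nat_lit 10734528) (BT.leaf (nat_lit 30790677)) (BT.leaf (nat_lit 42940961))) (BT.node (nat_lit 10734656) (BT.leaf (nat_lit 42941189)) (BT.leaf (nat_lit 34240265)))) (BT.node (nat_lit 10734848) (BT.node (nat_lit 10734784) (BT.leaf (nat_lit 34676493)) (BT.leaf (nat_lit 39310113))) (BT.node (nat_lit 10734912) (BT.leaf (nat_lit 41592333)) (BT.leaf (nat_lit 42939417))))) (BT.node (nat_lit 10735232) (BT.node (nat_lit 10735104) (BT.node (nat_lit 10735040) (BT.leaf (nat_lit 47498013)) (BT.leaf (nat_lit 42924577))) (BT.node (nat_lit 10735168) (BT.leaf (nat_lit 47497993)) (BT.leaf (nat_lit 33642773)))) (BT.node (nat_lit 10735360) (BT.node (nat_lit 10735296) (BT.leaf (nat_lit 30579717)) (BT.leaf (nat_lit 37703189))) (BT.node (nat_lit 10735424) (BT.leaf (nat_lit 44808973)) (BT.leaf (nat_lit 43312157)))))))) (BT.node (nat_lit 10737472) (BT.node (nat_lit 10736520) (BT.node (nat_lit 10736064) (BT.node (nat_lit 10735744) (BT.node (nat_lit 10735616) (BT.node (nat_lit 10735552) (BT.leaf (nat_lit 32038933)) (BT.leaf (nat_lit 40638733))) (BT.node (nat_lit 10735680) (BT.leaf (nat_lit 30579973)) (BT.leaf (nat_lit 49964057)))) (BT.node (nat_lit 10735872) (BT.node (nat_lit 10735808) (BT.leaf (nat_lit 45972241)) (BT.leaf (nat_lit 31919649))) (BT.node (nat_lit 10736000) (BT.leaf (nat_lit 42938909)) (BT.leaf (nat_lit 44804893))))) (BT.node (nat_lit 10736320) (BT.node (nat_lit 10736192) (BT.node (nat_lit 10736128) (BT.leaf (nat_lit 30819873)) (BT.leaf (nat_lit 48289569))) (BT.node (nat_lit 10736256) (BT.leaf (nat_lit 48289825)) (BT.leaf (nat_lit 29163029)))) (BT.node (nat_lit 10736448) (BT.node (nat_lit 10736384) (BT.leaf (nat_lit 43306017)) (BT.leaf (nat_lit 30924049))) (BT.node (nat_lit 10736512) (BT.leaf (nat_lit 42891289)) (BT.leaf (nat_lit 45811465)))))) (BT.node (nat_lit 10737024) (BT.node (nat_lit 10736768) (BT.node (nat_lit 10736640) (BT.node (nat_lit 10736576) (BT.leaf (nat_lit 690200)) (BT.leaf (nat_lit 32522513))) (BT.node (nat_lit 10736704) (BT.leaf (nat_lit 32522517)) (BT.leaf (nat_lit 30583065)))) (BT.node (nat_lit 10736896) (BT.node (nat_lit 10736832) (BT.leaf (nat_lit 30583305)) (BT.leaf (nat_lit 42889245))) (BT.node (nat_lit 10736960) (BT.leaf (nat_lit 44172301)) (BT.leaf (nat_lit 30583569))))) (BT.node (nat_lit 10737216) (BT.node (nat_lit 10737088) (BT.node (nat_lit 10737032) (BT.leaf (nat_lit 42195717)) (BT.leaf (nat_lit 723236))) (BT.node (nat_lit 10737152) (BT.leaf (nat_lit 42948121)) (BT.leaf (nat_lit 30583313)))) (BT.node (nat_lit 10737344) (BT.node (nat_lit 10737280) (BT.leaf (nat_lit 30583581)) (BT.leaf (nat_lit 45811473))) (BT.node (nat_lit 10737408) (BT.leaf (nat_lit 48134429)) (BT.leaf (nat_lit 43479825))))))) (BT.node (nat_lit 10738560) (BT.node (nat_lit 10738048) (BT.node (nat_lit 10737792) (BT.node (nat_lit 10737664) (BT.node (nat_lit 10737536) (BT.leaf (nat_lit 47891221)) (BT.leaf (nat_lit 29132317))) (BT.node (nat_lit 10737728) (BT.leaf (nat_lit 42950425)) (BT.leaf (nat_lit 31303197)))) (BT.node (nat_lit 10737920) (BT.node (nat_lit 10737856) (BT.leaf (nat_lit 32233489)) (BT.leaf (nat_lit 41259289))) (BT.node (nat_lit 10737984) (BT.leaf (nat_lit 40846861)) (BT.leaf (nat_lit 34198297))))) (BT.node (nat_lit 10738304) (BT.node (nat_lit 10738176) (BT.node (nat_lit 10738112) (BT.leaf (nat_lit 39905285)) (BT.leaf (nat_lit 30584861))) (BT.node (nat_lit 10738240) (BT.leaf (nat_lit 33642525)) (BT.leaf (nat_lit 31905289)))) (BT.node (nat_lit 10738432) (BT.node (nat_lit 10738368) (BT.leaf (nat_lit 35935237)) (BT.leaf (nat_lit 30587673))) (BT.node (nat_lit 10738496) (BT.leaf (nat_lit 41229841)) (BT.leaf (nat_lit 50485017)))))) (BT.node (nat_lit 10739072) (BT.node (nat_lit 10738816) (BT.node (nat_lit 10738688) (BT.node (nat_lit 10738624) (BT.leaf (nat_lit 30815753)) (BT.leaf (nat_lit 42954781))) (BT.node (nat_lit 10738752) (BT.leaf (nat_lit 43024149)) (BT.leaf (nat_lit 30815769)))) (BT.node (nat_lit 10738944) (BT.node (nat_lit 10738880) (BT.leaf (nat_lit 30815773)) (BT.leaf (nat_lit 39318561))) (BT.node (nat_lit 10739008) (BT.leaf (nat_lit 39782425)) (BT.leaf (nat_lit 41058825))))) (BT.node (nat_lit 10739328) (BT.node (nat_lit 10739200) (BT.node (nat_lit 10739136) (BT.leaf (nat_lit 46408977)) (BT.leaf (nat_lit 30595101))) (BT.node (nat_lit 10739264) (BT.leaf (nat_lit 42123809)) (BT.leaf (nat_lit 30595609)))) (BT.node (nat_lit 10739456) (BT.node (nat_lit 10739392) (BT.leaf (nat_lit 43382033)) (BT.leaf (nat_lit 43910405))) (BT.node (nat_lit 10739520) (BT.leaf (nat_lit 43030025)) (BT.leaf (nat_lit 42707989))))))))) (BT.node (nat_lit 10743232) (BT.node (nat_lit 10741568) (BT.node (nat_lit 10740608) (BT.node (nat_lit 10740096) (BT.node (nat_lit 10739840) (BT.node (nat_lit 10739712) (BT.node (nat_lit 10739648) (BT.leaf (nat_lit 44993569)) (BT.leaf (nat_lit 44993313))) (BT.node (nat_lit 10739776) (BT.leaf (nat_lit 42122245)) (BT.leaf (nat_lit 32328209)))) (BT.node (nat_lit 10739968) (BT.node (nat_lit 10739904) (BT.leaf (nat_lit 32328213)) (BT.leaf (nat_lit 49035269))) (BT.node (nat_lit 10740032) (BT.leaf (nat_lit 31584801)) (BT.leaf (nat_lit 32050209))))) (BT.node (nat_lit 10740352) (BT.node (nat_lit 10740224) (BT.node (nat_lit 10740160) (BT.leaf (nat_lit 31762209)) (BT.leaf (nat_lit 49709585))) (BT.node (nat_lit 10740288) (BT.leaf (nat_lit 43328801)) (BT.leaf (nat_lit 34240797)))) (BT.node (nat_lit 10740480) (BT.node (nat_lit 10740416) (BT.leaf (nat_lit 40699937)) (BT.leaf (nat_lit 40188705))) (BT.node (nat_lit 10740544) (BT.leaf (nat_lit 50976281)) (BT.leaf (nat_lit 30444313)))))) (BT.node (nat_lit 10741120) (BT.node (nat_lit 10740800) (BT.node (nat_lit 10740736) (BT.node (nat_lit 10740672) (BT.leaf (nat_lit 50976017)) (BT.leaf (nat_lit 42962457))) (BT.node (nat_lit 10740737) (BT.leaf (nat_lit 32415761)) (BT.leaf (nat_lit 771412)))) (BT.node (nat_lit 10740992) (BT.node (nat_lit 10740928) (BT.leaf (nat_lit 46119449)) (BT.leaf (nat_lit 41492513))) (BT.node (nat_lit 10741056) (BT.leaf (nat_lit 46228001)) (BT.leaf (nat_lit 45458961))))) (BT.node (nat_lit 10741312) (BT.node (nat_lit 10741190) (BT.node (nat_lit 10741184) (BT.leaf (nat_lit 51366917)) (BT.leaf (nat_lit 50544917))) (BT.node (nat_lit 10741248) (BT.leaf (nat_lit 676992)) (BT.leaf (nat_lit 43303173)))) (BT.node (nat_lit 10741440) (BT.node (nat_lit 10741376) (BT.leaf (nat_lit 47228185)) (BT.leaf (nat_lit 48313105))) (BT.node (nat_lit 10741504) (BT.leaf (nat_lit 50653197)) (BT.leaf (nat_lit 30601505))))))) (BT.node (nat_lit 10742336) (BT.node (nat_lit 10741952) (BT.node (nat_lit 10741704) (BT.node (nat_lit 10741696) (BT.node (nat_lit 10741632) (BT.leaf (nat_lit 48576801)) (BT.leaf (nat_lit 31307029))) (BT.node (nat_lit 10741697) (BT.leaf (nat_lit 31307033)) (BT.leaf (nat_lit 672464)))) (BT.node (nat_lit 10741824) (BT.node (nat_lit 10741760) (BT.leaf (nat_lit 672464)) (BT.leaf (nat_lit 31307037))) (BT.node (nat_lit 10741888) (BT.leaf (nat_lit 49409557)) (BT.leaf (nat_lit 32013321))))) (BT.node (nat_lit 10742080) (BT.node (nat_lit 10742017) (BT.node (nat_lit 10742016) (BT.leaf (nat_lit 32013325)) (BT.leaf (nat_lit 43923989))) (BT.node (nat_lit 10742019) (BT.leaf (nat_lit 702500)) (BT.leaf (nat_lit 702500)))) (BT.node (nat_lit 10742208) (BT.node (nat_lit 10742144) (BT.leaf (nat_lit 31263253)) (BT.leaf (nat_lit 37838357))) (BT.node (nat_lit 10742272) (BT.leaf (nat_lit 31897865)) (BT.leaf (nat_lit 38591253)))))) (BT.node (nat_lit 10742848) (BT.node (nat_lit 10742592) (BT.node (nat_lit 10742464) (BT.node (nat_lit 10742400) (BT.leaf (nat_lit 42593041)) (BT.leaf (nat_lit 30603037))) (BT.node (nat_lit 10742528) (BT.leaf (nat_lit 40299809)) (BT.leaf (nat_lit 39109393)))) (BT.node (nat_lit 10742720) (BT.node (nat_lit 10742656) (BT.leaf (nat_lit 43923993)) (BT.leaf (nat_lit 30603033))) (BT.node (nat_lit 10742784) (BT.leaf (nat_lit 46202901)) (BT.leaf (nat_lit 45006113))))) (BT.node (nat_lit 10743046) (BT.node (nat_lit 10742976) (BT.node (nat_lit 10742912) (BT.leaf (nat_lit 38994437)) (BT.leaf (nat_lit 30607385))) (BT.node (nat_lit 10743040) (BT.leaf (nat_lit 47984645)) (BT.leaf (nat_lit 37912077)))) (BT.node (nat_lit 10743104) (BT.node (nat_lit 10743047) (BT.leaf (nat_lit 685368)) (BT.leaf (nat_lit 685368))) (BT.node (nat_lit 10743168) (BT.leaf (nat_lit 30607389)) (BT.leaf (nat_lit 48560913)))))))) (BT.node (nat_lit 10744960) (BT.node (nat_lit 10744128) (BT.node (nat_lit 10743744) (BT.node (nat_lit 10743488) (BT.node (nat_lit 10743360) (BT.node (nat_lit 10743296) (BT.leaf (nat_lit 41783829)) (BT.leaf (nat_lit 43807769))) (BT.node (nat_lit 10743424) (BT.leaf (nat_lit 45263109)) (BT.leaf (nat_lit 30861829)))) (BT.node (nat_lit 10743616) (BT.node (nat_lit 10743552) (BT.leaf (nat_lit 40106525)) (BT.leaf (nat_lit 47320609))) (BT.node (nat_lit 10743680) (BT.leaf (nat_lit 42308121)) (BT.leaf (nat_lit 31006221))))) (BT.node (nat_lit 10743936) (BT.node (nat_lit 10743872) (BT.node (nat_lit 10743808) (BT.leaf (nat_lit 42307601)) (BT.leaf (nat_lit 42866969))) (BT.node (nat_lit 10743875) (BT.leaf (nat_lit 30666785)) (BT.leaf (nat_lit 680860)))) (BT.node (nat_lit 10744064) (BT.node (nat_lit 10744000) (BT.leaf (nat_lit 31006217)) (BT.leaf (nat_lit 30609413))) (BT.node (nat_lit 10744066) (BT.leaf (nat_lit 30609697)) (BT.leaf (nat_lit 680876)))))) (BT.node (nat_lit 10744576) (BT.node (nat_lit 10744321) (BT.node (nat_lit 10744256) (BT.node (nat_lit 10744192) (BT.leaf (nat_lit 30656541)) (BT.leaf (nat_lit 48908805))) (BT.node (nat_lit 10744320) (BT.leaf (nat_lit 42977293)) (BT.leaf (nat_lit 38661661)))) (BT.node (nat_lit 10744448) (BT.node (nat_lit 10744384) (BT.leaf (nat_lit 683232)) (BT.leaf (nat_lit 34220565))) (BT.node (nat_lit 10744512) (BT.leaf (nat_lit 38274329)) (BT.leaf (nat_lit 32748549))))) (BT.node (nat_lit 10744770) (BT.node (nat_lit 10744704) (BT.node (nat_lit 10744640) (BT.leaf (nat_lit 30612505)) (BT.leaf (nat_lit 38119201))) (BT.node (nat_lit 10744768) (BT.leaf (nat_lit 45006853)) (BT.leaf (nat_lit 45047313)))) (BT.node (nat_lit 10744832) (BT.node (nat_lit 10744774) (BT.leaf (nat_lit 703856)) (BT.leaf (nat_lit 703856))) (BT.node (nat_lit 10744896) (BT.leaf (nat_lit 45047577)) (BT.leaf (nat_lit 33767713))))))) (BT.node (nat_lit 10746240) (BT.node (nat_lit 10745600) (BT.node (nat_lit 10745344) (BT.node (nat_lit 10745152) (BT.node (nat_lit 10745024) (BT.leaf (nat_lit 31839265)) (BT.leaf (nat_lit 33805857))) (BT.node (nat_lit 10745216) (BT.leaf (nat_lit 31840033)) (BT.leaf (nat_lit 29530657)))) (BT.node (nat_lit 10745472) (BT.node (nat_lit 10745408) (BT.leaf (nat_lit 34220061)) (BT.leaf (nat_lit 43341585))) (BT.node (nat_lit 10745536) (BT.leaf (nat_lit 51593225)) (BT.leaf (nat_lit 31859981))))) (BT.node (nat_lit 10745856) (BT.node (nat_lit 10745728) (BT.node (nat_lit 10745664) (BT.leaf (nat_lit 44121613)) (BT.leaf (nat_lit 30614793))) (BT.node (nat_lit 10745792) (BT.leaf (nat_lit 43009817)) (BT.leaf (nat_lit 32693017)))) (BT.node (nat_lit 10746112) (BT.node (nat_lit 10745920) (BT.leaf (nat_lit 32454673)) (BT.leaf (nat_lit 30615073))) (BT.node (nat_lit 10746176) (BT.leaf (nat_lit 50627861)) (BT.leaf (nat_lit 42190861)))))) (BT.node (nat_lit 10746689) (BT.node (nat_lit 10746496) (BT.node (nat_lit 10746368) (BT.node (nat_lit 10746304) (BT.leaf (nat_lit 43156241)) (BT.leaf (nat_lit 44782113))) (BT.node (nat_lit 10746432) (BT.leaf (nat_lit 44782109)) (BT.leaf (nat_lit 30617105)))) (BT.node (nat_lit 10746624) (BT.node (nat_lit 10746560) (BT.leaf (nat_lit 30617873)) (BT.leaf (nat_lit 31408149))) (BT.node (nat_lit 10746688) (BT.leaf (nat_lit 30503189)) (BT.leaf (nat_lit 34167561))))) (BT.node (nat_lit 10746816) (BT.node (nat_lit 10746696) (BT.node (nat_lit 10746691) (BT.leaf (nat_lit 689004)) (BT.leaf (nat_lit 689004))) (BT.node (nat_lit 10746752) (BT.leaf (nat_lit 689004)) (BT.leaf (nat_lit 30617617)))) (BT.node (nat_lit 10746944) (BT.node (nat_lit 10746880) (BT.leaf (nat_lit 37476373)) (BT.leaf (nat_lit 41892897))) (BT.node (nat_lit 10747008) (BT.leaf (nat_lit 45455365)) (BT.leaf (nat_lit 30619933)))))))))))))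
noncomputable def big0_e96256 : BT Nat := (BT.node (nat_lit 10810496) (BT.node (nat_lit 10778816) (BT.node (nat_lit 10762496) (BT.node (nat_lit 10754688) (BT.node (nat_lit 10751168) (BT.node (nat_lit 10749056) (BT.node (nat_lit 10748032) (BT.node (nat_lit 10747520) (BT.node (nat_lit 10747264) (BT.node (nat_lit 10747142) (BT.node (nat_lit 10747136) (BT.leaf (nat_lit 29445149)) (BT.leaf (nat_lit 32432157))) (BT.node (nat_lit 10747200) (BT.leaf (nat_lit 717300)) (BT.leaf (nat_lit 39786773)))) (BT.node (nat_lit 10747392) (BT.node (nat_lit 10747328) (BT.leaf (nat_lit 37688325)) (BT.leaf (nat_lit 43348001))) (BT.node (nat_lit 10747456) (BT.leaf (nat_lit 34224917)) (BT.leaf (nat_lit 40803589))))) (BT.node (nat_lit 10747776) (BT.node (nat_lit 10747648) (BT.node (nat_lit 10747584) (BT.leaf (nat_lit 40804869)) (BT.leaf (nat_lit 40805153))) (BT.node (nat_lit 10747712) (BT.leaf (nat_lit 52142853)) (BT.leaf (nat_lit 43047957)))) (BT.node (nat_lit 10747904) (BT.node (nat_lit 10747840) (BT.leaf (nat_lit 37474321)) (BT.leaf (nat_lit 36997665))) (BT.node (nat_lit 10747968) (BT.leaf (nat_lit 41109281)) (BT.leaf (nat_lit 30621449)))))) (BT.node (nat_lit 10748544) (BT.node (nat_lit 10748288) (BT.node (nat_lit 10748160) (BT.node (nat_lit 10748096) (BT.leaf (nat_lit 42994957)) (BT.leaf (nat_lit 42991625))) (BT.node (nat_lit 10748224) (BT.leaf (nat_lit 40762629)) (BT.leaf (nat_lit 41128209)))) (BT.node (nat_lit 10748416) (BT.node (nat_lit 10748352) (BT.leaf (nat_lit 42994973)) (BT.leaf (nat_lit 30541073))) (BT.node (nat_lit 10748480) (BT.leaf (nat_lit 39831577)) (BT.leaf (nat_lit 39831581))))) (BT.node (nat_lit 10748800) (BT.node (nat_lit 10748672) (BT.node (nat_lit 10748608) (BT.leaf (nat_lit 47442457)) (BT.leaf (nat_lit 31880217))) (BT.node (nat_lit 10748736) (BT.leaf (nat_lit 38073873)) (BT.leaf (nat_lit 42996245)))) (BT.node (nat_lit 10748928) (BT.node (nat_lit 10748864) (BT.leaf (nat_lit 50900997)) (BT.leaf (nat_lit 42991133))) (BT.node (nat_lit 10748992) (BT.leaf (nat_lit 48022533)) (BT.leaf (nat_lit 47442193))))))) (BT.node (nat_lit 10750208) (BT.node (nat_lit 10749568) (BT.node (nat_lit 10749312) (BT.node (nat_lit 10749184) (BT.node (nat_lit 10749120) (BT.leaf (nat_lit 37474577)) (BT.leaf (nat_lit 48023841))) (BT.node (nat_lit 10749248) (BT.leaf (nat_lit 30623249)) (BT.leaf (nat_lit 31106569)))) (BT.node (nat_lit 10749440) (BT.node (nat_lit 10749376) (BT.leaf (nat_lit 31106573)) (BT.leaf (nat_lit 31106585))) (BT.node (nat_lit 10749504) (BT.leaf (nat_lit 31106589)) (BT.leaf (nat_lit 51389457))))) (BT.node (nat_lit 10749888) (BT.node (nat_lit 10749696) (BT.node (nat_lit 10749632) (BT.leaf (nat_lit 36898329)) (BT.leaf (nat_lit 36978449))) (BT.node (nat_lit 10749760) (BT.leaf (nat_lit 31631125)) (BT.leaf (nat_lit 39704837)))) (BT.node (nat_lit 10750080) (BT.node (nat_lit 10750016) (BT.leaf (nat_lit 30543637)) (BT.leaf (nat_lit 44564753))) (BT.node (nat_lit 10750144) (BT.leaf (nat_lit 49750049)) (BT.leaf (nat_lit 42315797)))))) (BT.node (nat_lit 10750720) (BT.node (nat_lit 10750528) (BT.node (nat_lit 10750336) (BT.node (nat_lit 10750272) (BT.leaf (nat_lit 34655505)) (BT.leaf (nat_lit 40773893))) (BT.node (nat_lit 10750464) (BT.leaf (nat_lit 30629661)) (BT.leaf (nat_lit 30666521)))) (BT.node (nat_lit 10750592) (BT.node (nat_lit 10750531) (BT.leaf (nat_lit 43174417)) (BT.leaf (nat_lit 764716))) (BT.node (nat_lit 10750656) (BT.leaf (nat_lit 30635025)) (BT.leaf (nat_lit 45021701))))) (BT.node (nat_lit 10750912) (BT.node (nat_lit 10750784) (BT.node (nat_lit 10750725) (BT.leaf (nat_lit 30635297)) (BT.leaf (nat_lit 697944))) (BT.node (nat_lit 10750848) (BT.leaf (nat_lit 40764705)) (BT.leaf (nat_lit 30636293)))) (BT.node (nat_lit 10751040) (BT.node (nat_lit 10750976) (BT.leaf (nat_lit 34338081)) (BT.leaf (nat_lit 35229713))) (BT.node (nat_lit 10751104) (BT.leaf (nat_lit 46184729)) (BT.leaf (nat_lit 43279629)))))))) (BT.node (nat_lit 10752896) (BT.node (nat_lit 10752064) (BT.node (nat_lit 10751552) (BT.node (nat_lit 10751360) (BT.node (nat_lit 10751233) (BT.node (nat_lit 10751232) (BT.leaf (nat_lit 43288081)) (BT.leaf (nat_lit 37794069))) (BT.node (nat_lit 10751296) (BT.leaf (nat_lit 791648)) (BT.leaf (nat_lit 47748877)))) (BT.node (nat_lit 10751488) (BT.node (nat_lit 10751424) (BT.leaf (nat_lit 47748629)) (BT.leaf (nat_lit 38063121))) (BT.node (nat_lit 10751496) (BT.leaf (nat_lit 34230277)) (BT.leaf (nat_lit 788748))))) (BT.node (nat_lit 10751808) (BT.node (nat_lit 10751744) (BT.node (nat_lit 10751680) (BT.leaf (nat_lit 41787141)) (BT.leaf (nat_lit 43279633))) (BT.node (nat_lit 10751752) (BT.leaf (nat_lit 30636057)) (BT.leaf (nat_lit 752824)))) (BT.node (nat_lit 10751936) (BT.node (nat_lit 10751872) (BT.leaf (nat_lit 32421909)) (BT.leaf (nat_lit 32421913))) (BT.node (nat_lit 10752000) (BT.leaf (nat_lit 32421917)) (BT.leaf (nat_lit 37793305)))))) (BT.node (nat_lit 10752512) (BT.node (nat_lit 10752256) (BT.node (nat_lit 10752192) (BT.node (nat_lit 10752128) (BT.leaf (nat_lit 40743705)) (BT.leaf (nat_lit 48323077))) (BT.node (nat_lit 10752196) (BT.leaf (nat_lit 41305121)) (BT.leaf (nat_lit 748132)))) (BT.node (nat_lit 10752384) (BT.node (nat_lit 10752320) (BT.leaf (nat_lit 34230805)) (BT.leaf (nat_lit 42427669))) (BT.node (nat_lit 10752448) (BT.leaf (nat_lit 44723229)) (BT.leaf (nat_lit 47880201))))) (BT.node (nat_lit 10752768) (BT.node (nat_lit 10752640) (BT.node (nat_lit 10752576) (BT.leaf (nat_lit 48631577)) (BT.leaf (nat_lit 31905285))) (BT.node (nat_lit 10752704) (BT.leaf (nat_lit 41692705)) (BT.leaf (nat_lit 29304597)))) (BT.node (nat_lit 10752835) (BT.node (nat_lit 10752833) (BT.leaf (nat_lit 43012621)) (BT.leaf (nat_lit 717356))) (BT.node (nat_lit 10752837) (BT.leaf (nat_lit 717356)) (BT.leaf (nat_lit 675840))))))) (BT.node (nat_lit 10753920) (BT.node (nat_lit 10753408) (BT.node (nat_lit 10753152) (BT.node (nat_lit 10753024) (BT.node (nat_lit 10752960) (BT.leaf (nat_lit 30770457)) (BT.leaf (nat_lit 35019037))) (BT.node (nat_lit 10753088) (BT.leaf (nat_lit 30572053)) (BT.leaf (nat_lit 45563921)))) (BT.node (nat_lit 10753280) (BT.node (nat_lit 10753216) (BT.leaf (nat_lit 30571285)) (BT.leaf (nat_lit 34233877))) (BT.node (nat_lit 10753344) (BT.leaf (nat_lit 41984009)) (BT.leaf (nat_lit 43013145))))) (BT.node (nat_lit 10753664) (BT.node (nat_lit 10753536) (BT.node (nat_lit 10753472) (BT.leaf (nat_lit 31587601)) (BT.leaf (nat_lit 42966789))) (BT.node (nat_lit 10753600) (BT.leaf (nat_lit 46331141)) (BT.leaf (nat_lit 48102933)))) (BT.node (nat_lit 10753792) (BT.node (nat_lit 10753728) (BT.leaf (nat_lit 46331157)) (BT.leaf (nat_lit 46331161))) (BT.node (nat_lit 10753856) (BT.leaf (nat_lit 46331165)) (BT.leaf (nat_lit 30640905)))))) (BT.node (nat_lit 10754304) (BT.node (nat_lit 10754054) (BT.node (nat_lit 10754048) (BT.node (nat_lit 10753984) (BT.leaf (nat_lit 30644241)) (BT.leaf (nat_lit 30643729))) (BT.node (nat_lit 10754051) (BT.leaf (nat_lit 31600405)) (BT.leaf (nat_lit 776880)))) (BT.node (nat_lit 10754176) (BT.node (nat_lit 10754112) (BT.leaf (nat_lit 776880)) (BT.leaf (nat_lit 32911129))) (BT.node (nat_lit 10754240) (BT.leaf (nat_lit 32911133)) (BT.leaf (nat_lit 30643473))))) (BT.node (nat_lit 10754435) (BT.node (nat_lit 10754432) (BT.node (nat_lit 10754368) (BT.leaf (nat_lit 30537497)) (BT.leaf (nat_lit 30584601))) (BT.node (nat_lit 10754434) (BT.leaf (nat_lit 31256853)) (BT.leaf (nat_lit 712276)))) (BT.node (nat_lit 10754560) (BT.node (nat_lit 10754496) (BT.leaf (nat_lit 712276)) (BT.leaf (nat_lit 33684765))) (BT.node (nat_lit 10754624) (BT.leaf (nat_lit 30584605)) (BT.leaf (nat_lit 32490505))))))))) (BT.node (nat_lit 10758725) (BT.node (nat_lit 10756672) (BT.node (nat_lit 10755712) (BT.node (nat_lit 10755200) (BT.node (nat_lit 10754944) (BT.node (nat_lit 10754816) (BT.node (nat_lit 10754752) (BT.leaf (nat_lit 47395861)) (BT.leaf (nat_lit 32740885))) (BT.node (nat_lit 10754880) (BT.leaf (nat_lit 40532509)) (BT.leaf (nat_lit 30646033)))) (BT.node (nat_lit 10755072) (BT.node (nat_lit 10755008) (BT.leaf (nat_lit 39905045)) (BT.leaf (nat_lit 40967441))) (BT.node (nat_lit 10755136) (BT.leaf (nat_lit 31905301)) (BT.leaf (nat_lit 31905305))))) (BT.node (nat_lit 10755456) (BT.node (nat_lit 10755328) (BT.node (nat_lit 10755264) (BT.leaf (nat_lit 31905309)) (BT.leaf (nat_lit 30646289))) (BT.node (nat_lit 10755392) (BT.leaf (nat_lit 36247065)) (BT.leaf (nat_lit 38553873)))) (BT.node (nat_lit 10755584) (BT.node (nat_lit 10755520) (BT.leaf (nat_lit 51591181)) (BT.leaf (nat_lit 30646813))) (BT.node (nat_lit 10755648) (BT.leaf (nat_lit 34676509)) (BT.leaf (nat_lit 42943757)))))) (BT.node (nat_lit 10756224) (BT.node (nat_lit 10755968) (BT.node (nat_lit 10755840) (BT.node (nat_lit 10755776) (BT.leaf (nat_lit 30646809)) (BT.leaf (nat_lit 48730381))) (BT.node (nat_lit 10755904) (BT.leaf (nat_lit 42381845)) (BT.leaf (nat_lit 30647053)))) (BT.node (nat_lit 10756096) (BT.node (nat_lit 10756032) (BT.leaf (nat_lit 50816261)) (BT.leaf (nat_lit 39782429))) (BT.node (nat_lit 10756160) (BT.leaf (nat_lit 41068825)) (BT.leaf (nat_lit 46913285))))) (BT.node (nat_lit 10756480) (BT.node (nat_lit 10756352) (BT.node (nat_lit 10756288) (BT.leaf (nat_lit 30648085)) (BT.leaf (nat_lit 40470561))) (BT.node (nat_lit 10756416) (BT.leaf (nat_lit 31474197)) (BT.leaf (nat_lit 40895509)))) (BT.node (nat_lit 10756608) (BT.node (nat_lit 10756544) (BT.leaf (nat_lit 40895513)) (BT.leaf (nat_lit 44001825))) (BT.node (nat_lit 10756613) (BT.leaf (nat_lit 46243085)) (BT.leaf (nat_lit 688380))))))) (BT.node (nat_lit 10757760) (BT.node (nat_lit 10757248) (BT.node (nat_lit 10756928) (BT.node (nat_lit 10756800) (BT.node (nat_lit 10756736) (BT.leaf (nat_lit 46769697)) (BT.leaf (nat_lit 32073505))) (BT.node (nat_lit 10756864) (BT.leaf (nat_lit 33209629)) (BT.leaf (nat_lit 48811537)))) (BT.node (nat_lit 10757120) (BT.node (nat_lit 10756992) (BT.leaf (nat_lit 34389253)) (BT.leaf (nat_lit 45029141))) (BT.node (nat_lit 10757184) (BT.leaf (nat_lit 41500953)) (BT.leaf (nat_lit 41500957))))) (BT.node (nat_lit 10757504) (BT.node (nat_lit 10757376) (BT.node (nat_lit 10757312) (BT.leaf (nat_lit 30590225)) (BT.leaf (nat_lit 48999185))) (BT.node (nat_lit 10757440) (BT.leaf (nat_lit 43029789)) (BT.leaf (nat_lit 29553157)))) (BT.node (nat_lit 10757632) (BT.node (nat_lit 10757568) (BT.leaf (nat_lit 42124805)) (BT.leaf (nat_lit 30651665))) (BT.node (nat_lit 10757696) (BT.leaf (nat_lit 42124577)) (BT.leaf (nat_lit 42124321)))))) (BT.node (nat_lit 10758272) (BT.node (nat_lit 10758016) (BT.node (nat_lit 10757888) (BT.node (nat_lit 10757824) (BT.leaf (nat_lit 49034501)) (BT.leaf (nat_lit 30979097))) (BT.node (nat_lit 10757952) (BT.leaf (nat_lit 30979101)) (BT.leaf (nat_lit 45432845)))) (BT.node (nat_lit 10758144) (BT.node (nat_lit 10758080) (BT.leaf (nat_lit 41437473)) (BT.leaf (nat_lit 42937865))) (BT.node (nat_lit 10758208) (BT.leaf (nat_lit 33817877)) (BT.leaf (nat_lit 31154193))))) (BT.node (nat_lit 10758592) (BT.node (nat_lit 10758400) (BT.node (nat_lit 10758336) (BT.leaf (nat_lit 43034145)) (BT.leaf (nat_lit 47538949))) (BT.node (nat_lit 10758528) (BT.leaf (nat_lit 48133641)) (BT.leaf (nat_lit 30653445)))) (BT.node (nat_lit 10758720) (BT.node (nat_lit 10758656) (BT.leaf (nat_lit 39310877)) (BT.leaf (nat_lit 43035149))) (BT.node (nat_lit 10758721) (BT.leaf (nat_lit 41337625)) (BT.leaf (nat_lit 806560)))))))) (BT.node (nat_lit 10760512) (BT.node (nat_lit 10759680) (BT.node (nat_lit 10759168) (BT.node (nat_lit 10758915) (BT.node (nat_lit 10758848) (BT.node (nat_lit 10758784) (BT.leaf (nat_lit 806560)) (BT.leaf (nat_lit 38412577))) (BT.node (nat_lit 10758912) (BT.leaf (nat_lit 41432097)) (BT.leaf (nat_lit 43669509)))) (BT.node (nat_lit 10759040) (BT.node (nat_lit 10758976) (BT.leaf (nat_lit 806568)) (BT.leaf (nat_lit 39869701))) (BT.node (nat_lit 10759104) (BT.leaf (nat_lit 42942473)) (BT.leaf (nat_lit 32965137))))) (BT.node (nat_lit 10759424) (BT.node (nat_lit 10759296) (BT.node (nat_lit 10759232) (BT.leaf (nat_lit 32965153)) (BT.leaf (nat_lit 47540501))) (BT.node (nat_lit 10759360) (BT.leaf (nat_lit 44761361)) (BT.leaf (nat_lit 49755937)))) (BT.node (nat_lit 10759552) (BT.node (nat_lit 10759488) (BT.leaf (nat_lit 50216721)) (BT.leaf (nat_lit 41341449))) (BT.node (nat_lit 10759616) (BT.leaf (nat_lit 43037197)) (BT.leaf (nat_lit 33013521)))))) (BT.node (nat_lit 10760064) (BT.node (nat_lit 10759809) (BT.node (nat_lit 10759745) (BT.node (nat_lit 10759744) (BT.leaf (nat_lit 35293977)) (BT.leaf (nat_lit 45355025))) (BT.node (nat_lit 10759808) (BT.leaf (nat_lit 806572)) (BT.leaf (nat_lit 44988961)))) (BT.node (nat_lit 10759936) (BT.node (nat_lit 10759872) (BT.leaf (nat_lit 806576)) (BT.leaf (nat_lit 30654237))) (BT.node (nat_lit 10760000) (BT.leaf (nat_lit 34677277)) (BT.leaf (nat_lit 30654233))))) (BT.node (nat_lit 10760256) (BT.node (nat_lit 10760128) (BT.node (nat_lit 10760071) (BT.leaf (nat_lit 31981337)) (BT.leaf (nat_lit 766924))) (BT.node (nat_lit 10760192) (BT.leaf (nat_lit 43225877)) (BT.leaf (nat_lit 30891269)))) (BT.node (nat_lit 10760384) (BT.node (nat_lit 10760320) (BT.leaf (nat_lit 32093189)) (BT.leaf (nat_lit 30609177))) (BT.node (nat_lit 10760448) (BT.leaf (nat_lit 40098833)) (BT.leaf (nat_lit 42974749))))))) (BT.node (nat_lit 10761536) (BT.node (nat_lit 10761024) (BT.node (nat_lit 10760768) (BT.node (nat_lit 10760640) (BT.node (nat_lit 10760576) (BT.leaf (nat_lit 42972953)) (BT.leaf (nat_lit 43042057))) (BT.node (nat_lit 10760704) (BT.leaf (nat_lit 45039137)) (BT.leaf (nat_lit 49644321)))) (BT.node (nat_lit 10760896) (BT.node (nat_lit 10760832) (BT.leaf (nat_lit 47984901)) (BT.leaf (nat_lit 31222033))) (BT.node (nat_lit 10760960) (BT.leaf (nat_lit 31222037)) (BT.leaf (nat_lit 29263641))))) (BT.node (nat_lit 10761280) (BT.node (nat_lit 10761152) (BT.node (nat_lit 10761088) (BT.leaf (nat_lit 30663193)) (BT.leaf (nat_lit 30663449))) (BT.node (nat_lit 10761216) (BT.leaf (nat_lit 39982353)) (BT.leaf (nat_lit 39982357)))) (BT.node (nat_lit 10761408) (BT.node (nat_lit 10761344) (BT.leaf (nat_lit 30663953)) (BT.leaf (nat_lit 30664465))) (BT.node (nat_lit 10761472) (BT.leaf (nat_lit 47584273)) (BT.leaf (nat_lit 31919897)))))) (BT.node (nat_lit 10762048) (BT.node (nat_lit 10761792) (BT.node (nat_lit 10761664) (BT.node (nat_lit 10761600) (BT.leaf (nat_lit 31919901)) (BT.leaf (nat_lit 30665489))) (BT.node (nat_lit 10761728) (BT.leaf (nat_lit 30665233)) (BT.leaf (nat_lit 32741653)))) (BT.node (nat_lit 10761920) (BT.node (nat_lit 10761856) (BT.leaf (nat_lit 37824285)) (BT.leaf (nat_lit 34251549))) (BT.node (nat_lit 10761984) (BT.leaf (nat_lit 32742161)) (BT.leaf (nat_lit 34223633))))) (BT.node (nat_lit 10762240) (BT.node (nat_lit 10762112) (BT.node (nat_lit 10762049) (BT.leaf (nat_lit 31425301)) (BT.leaf (nat_lit 760844))) (BT.node (nat_lit 10762176) (BT.leaf (nat_lit 45518873)) (BT.leaf (nat_lit 30666757)))) (BT.node (nat_lit 10762368) (BT.node (nat_lit 10762304) (BT.leaf (nat_lit 44643605)) (BT.leaf (nat_lit 30977029))) (BT.node (nat_lit 10762432) (BT.leaf (nat_lit 30977045)) (BT.leaf (nat_lit 41221665)))))))))) (BT.node (nat_lit 10770752) (BT.node (nat_lit 10766464) (BT.node (nat_lit 10764160) (BT.node (nat_lit 10763136) (BT.node (nat_lit 10762694) (BT.node (nat_lit 10762624) (BT.node (nat_lit 10762503) (BT.node (nat_lit 10762502) (BT.leaf (nat_lit 34400277)) (BT.leaf (nat_lit 697544))) (BT.node (nat_lit 10762560) (BT.leaf (nat_lit 697544)) (BT.leaf (nat_lit 30865669)))) (BT.node (nat_lit 10762688) (BT.node (nat_lit 10762629) (BT.leaf (nat_lit 42308365)) (BT.leaf (nat_lit 697936))) (BT.node (nat_lit 10762693) (BT.leaf (nat_lit 30542865)) (BT.leaf (nat_lit 693848))))) (BT.node (nat_lit 10762880) (BT.node (nat_lit 10762752) (BT.node (nat_lit 10762695) (BT.leaf (nat_lit 693848)) (BT.leaf (nat_lit 693848))) (BT.node (nat_lit 10762816) (BT.leaf (nat_lit 30667537)) (BT.leaf (nat_lit 30667281)))) (BT.node (nat_lit 10763008) (BT.node (nat_lit 10762944) (BT.leaf (nat_lit 44406045)) (BT.leaf (nat_lit 30543129))) (BT.node (nat_lit 10763072) (BT.leaf (nat_lit 40798229)) (BT.leaf (nat_lit 32157973)))))) (BT.node (nat_lit 10763648) (BT.node (nat_lit 10763392) (BT.node (nat_lit 10763264) (BT.node (nat_lit 10763200) (BT.leaf (nat_lit 32157977)) (BT.leaf (nat_lit 34256661))) (BT.node (nat_lit 10763328) (BT.leaf (nat_lit 32692485)) (BT.leaf (nat_lit 43726353)))) (BT.node (nat_lit 10763520) (BT.node (nat_lit 10763456) (BT.leaf (nat_lit 43726357)) (BT.leaf (nat_lit 45039877))) (BT.node (nat_lit 10763584) (BT.leaf (nat_lit 38994713)) (BT.leaf (nat_lit 30670357))))) (BT.node (nat_lit 10763904) (BT.node (nat_lit 10763776) (BT.node (nat_lit 10763712) (BT.leaf (nat_lit 32793377)) (BT.leaf (nat_lit 45114629))) (BT.node (nat_lit 10763840) (BT.leaf (nat_lit 43638033)) (BT.leaf (nat_lit 43638037)))) (BT.node (nat_lit 10764032) (BT.node (nat_lit 10763968) (BT.leaf (nat_lit 43401761)) (BT.leaf (nat_lit 43401505))) (BT.node (nat_lit 10764096) (BT.leaf (nat_lit 43402529)) (BT.leaf (nat_lit 43056153))))))) (BT.node (nat_lit 10765312) (BT.node (nat_lit 10764736) (BT.node (nat_lit 10764416) (BT.node (nat_lit 10764288) (BT.node (nat_lit 10764224) (BT.leaf (nat_lit 32693269)) (BT.leaf (nat_lit 35083797))) (BT.node (nat_lit 10764352) (BT.leaf (nat_lit 48482077)) (BT.leaf (nat_lit 32751885)))) (BT.node (nat_lit 10764544) (BT.node (nat_lit 10764480) (BT.leaf (nat_lit 32413201)) (BT.leaf (nat_lit 32413217))) (BT.node (nat_lit 10764608) (BT.leaf (nat_lit 43441417)) (BT.leaf (nat_lit 43058201))))) (BT.node (nat_lit 10765056) (BT.node (nat_lit 10764928) (BT.node (nat_lit 10764864) (BT.leaf (nat_lit 32631577)) (BT.leaf (nat_lit 50870021))) (BT.node (nat_lit 10764992) (BT.leaf (nat_lit 34256669)) (BT.leaf (nat_lit 32419345)))) (BT.node (nat_lit 10765184) (BT.node (nat_lit 10765120) (BT.leaf (nat_lit 47310093)) (BT.leaf (nat_lit 30670361))) (BT.node (nat_lit 10765248) (BT.leaf (nat_lit 28642321)) (BT.leaf (nat_lit 36447765)))))) (BT.node (nat_lit 10765952) (BT.node (nat_lit 10765696) (BT.node (nat_lit 10765440) (BT.node (nat_lit 10765376) (BT.leaf (nat_lit 30787353)) (BT.leaf (nat_lit 30787357))) (BT.node (nat_lit 10765504) (BT.leaf (nat_lit 41105185)) (BT.leaf (nat_lit 43517729)))) (BT.node (nat_lit 10765824) (BT.node (nat_lit 10765760) (BT.leaf (nat_lit 42460433)) (BT.leaf (nat_lit 49323549))) (BT.node (nat_lit 10765888) (BT.leaf (nat_lit 39092741)) (BT.leaf (nat_lit 42472225))))) (BT.node (nat_lit 10766208) (BT.node (nat_lit 10766080) (BT.node (nat_lit 10766016) (BT.leaf (nat_lit 28785425)) (BT.leaf (nat_lit 39542045))) (BT.node (nat_lit 10766144) (BT.leaf (nat_lit 41113633)) (BT.leaf (nat_lit 30666001)))) (BT.node (nat_lit 10766336) (BT.node (nat_lit 10766272) (BT.leaf (nat_lit 38299673)) (BT.leaf (nat_lit 38299677))) (BT.node (nat_lit 10766400) (BT.leaf (nat_lit 49337113)) (BT.leaf (nat_lit 32703505)))))))) (BT.node (nat_lit 10768512) (BT.node (nat_lit 10767616) (BT.node (nat_lit 10767104) (BT.node (nat_lit 10766848) (BT.node (nat_lit 10766592) (BT.node (nat_lit 10766528) (BT.leaf (nat_lit 41159713)) (BT.leaf (nat_lit 41666053))) (BT.node (nat_lit 10766720) (BT.leaf (nat_lit 41638689)) (BT.leaf (nat_lit 30816021)))) (BT.node (nat_lit 10766976) (BT.node (nat_lit 10766912) (BT.leaf (nat_lit 38059781)) (BT.leaf (nat_lit 50602517))) (BT.node (nat_lit 10767040) (BT.leaf (nat_lit 37859617)) (BT.leaf (nat_lit 49545749))))) (BT.node (nat_lit 10767360) (BT.node (nat_lit 10767232) (BT.node (nat_lit 10767168) (BT.leaf (nat_lit 49379345)) (BT.leaf (nat_lit 47815181))) (BT.node (nat_lit 10767296) (BT.leaf (nat_lit 38105097)) (BT.leaf (nat_lit 38743053)))) (BT.node (nat_lit 10767488) (BT.node (nat_lit 10767424) (BT.leaf (nat_lit 30037521)) (BT.leaf (nat_lit 38105121))) (BT.node (nat_lit 10767552) (BT.leaf (nat_lit 31990789)) (BT.leaf (nat_lit 39495685)))))) (BT.node (nat_lit 10768064) (BT.node (nat_lit 10767808) (BT.node (nat_lit 10767682) (BT.node (nat_lit 10767680) (BT.leaf (nat_lit 50953745)) (BT.leaf (nat_lit 47549973))) (BT.node (nat_lit 10767744) (BT.leaf (nat_lit 768096)) (BT.leaf (nat_lit 29565717)))) (BT.node (nat_lit 10767936) (BT.node (nat_lit 10767872) (BT.leaf (nat_lit 39089157)) (BT.leaf (nat_lit 40207133))) (BT.node (nat_lit 10768000) (BT.leaf (nat_lit 47389985)) (BT.leaf (nat_lit 47389729))))) (BT.node (nat_lit 10768256) (BT.node (nat_lit 10768130) (BT.node (nat_lit 10768128) (BT.leaf (nat_lit 50958345)) (BT.leaf (nat_lit 45712389))) (BT.node (nat_lit 10768192) (BT.leaf (nat_lit 769608)) (BT.leaf (nat_lit 28198929)))) (BT.node (nat_lit 10768384) (BT.node (nat_lit 10768320) (BT.leaf (nat_lit 38105101)) (BT.leaf (nat_lit 38105105))) (BT.node (nat_lit 10768448) (BT.leaf (nat_lit 50444065)) (BT.leaf (nat_lit 38895121))))))) (BT.node (nat_lit 10769664) (BT.node (nat_lit 10769088) (BT.node (nat_lit 10768832) (BT.node (nat_lit 10768640) (BT.node (nat_lit 10768576) (BT.leaf (nat_lit 38895125)) (BT.leaf (nat_lit 34288145))) (BT.node (nat_lit 10768768) (BT.leaf (nat_lit 46028305)) (BT.leaf (nat_lit 43075357)))) (BT.node (nat_lit 10768960) (BT.node (nat_lit 10768896) (BT.leaf (nat_lit 39096581)) (BT.leaf (nat_lit 47557381))) (BT.node (nat_lit 10769024) (BT.leaf (nat_lit 48079365)) (BT.leaf (nat_lit 43075865))))) (BT.node (nat_lit 10769344) (BT.node (nat_lit 10769216) (BT.node (nat_lit 10769152) (BT.leaf (nat_lit 38038789)) (BT.leaf (nat_lit 30686725))) (BT.node (nat_lit 10769280) (BT.leaf (nat_lit 30682645)) (BT.leaf (nat_lit 38992665)))) (BT.node (nat_lit 10769472) (BT.node (nat_lit 10769408) (BT.leaf (nat_lit 38992669)) (BT.leaf (nat_lit 38992673))) (BT.node (nat_lit 10769600) (BT.leaf (nat_lit 45707793)) (BT.leaf (nat_lit 42223133)))))) (BT.node (nat_lit 10770176) (BT.node (nat_lit 10769920) (BT.node (nat_lit 10769792) (BT.node (nat_lit 10769728) (BT.leaf (nat_lit 32995605)) (BT.leaf (nat_lit 40942625))) (BT.node (nat_lit 10769856) (BT.leaf (nat_lit 45654809)) (BT.leaf (nat_lit 45153285)))) (BT.node (nat_lit 10770048) (BT.node (nat_lit 10769984) (BT.leaf (nat_lit 42590225)) (BT.leaf (nat_lit 34261521))) (BT.node (nat_lit 10770112) (BT.leaf (nat_lit 43080477)) (BT.leaf (nat_lit 31656197))))) (BT.node (nat_lit 10770432) (BT.node (nat_lit 10770304) (BT.node (nat_lit 10770240) (BT.leaf (nat_lit 39640073)) (BT.leaf (nat_lit 39640077))) (BT.node (nat_lit 10770368) (BT.leaf (nat_lit 30683669)) (BT.leaf (nat_lit 32414725)))) (BT.node (nat_lit 10770624) (BT.node (nat_lit 10770560) (BT.leaf (nat_lit 39920645)) (BT.leaf (nat_lit 39340037))) (BT.node (nat_lit 10770688) (BT.leaf (nat_lit 27771157)) (BT.leaf (nat_lit 50835997))))))))) (BT.node (nat_lit 10774912) (BT.node (nat_lit 10772864) (BT.node (nat_lit 10771776) (BT.node (nat_lit 10771264) (BT.node (nat_lit 10771008) (BT.node (nat_lit 10770880) (BT.node (nat_lit 10770816) (BT.leaf (nat_lit 45371425)) (BT.leaf (nat_lit 28279313))) (BT.node (nat_lit 10770944) (BT.leaf (nat_lit 41525537)) (BT.leaf (nat_lit 41525281)))) (BT.node (nat_lit 10771136) (BT.node (nat_lit 10771072) (BT.leaf (nat_lit 39922697)) (BT.leaf (nat_lit 39922701))) (BT.node (nat_lit 10771200) (BT.leaf (nat_lit 45361441)) (BT.leaf (nat_lit 39922713))))) (BT.node (nat_lit 10771520) (BT.node (nat_lit 10771392) (BT.node (nat_lit 10771328) (BT.leaf (nat_lit 39922717)) (BT.leaf (nat_lit 30684189))) (BT.node (nat_lit 10771456) (BT.leaf (nat_lit 32758289)) (BT.leaf (nat_lit 32758293)))) (BT.node (nat_lit 10771648) (BT.node (nat_lit 10771584) (BT.leaf (nat_lit 30686225)) (BT.leaf (nat_lit 32688393))) (BT.node (nat_lit 10771712) (BT.leaf (nat_lit 32688397)) (BT.leaf (nat_lit 40641541)))))) (BT.node (nat_lit 10772352) (BT.node (nat_lit 10772032) (BT.node (nat_lit 10771904) (BT.node (nat_lit 10771840) (BT.leaf (nat_lit 45852953)) (BT.leaf (nat_lit 39737861))) (BT.node (nat_lit 10771968) (BT.leaf (nat_lit 43087901)) (BT.leaf (nat_lit 31656201)))) (BT.node (nat_lit 10772224) (BT.node (nat_lit 10772038) (BT.leaf (nat_lit 48846597)) (BT.leaf (nat_lit 721344))) (BT.node (nat_lit 10772288) (BT.leaf (nat_lit 31656209)) (BT.leaf (nat_lit 49310241))))) (BT.node (nat_lit 10772608) (BT.node (nat_lit 10772480) (BT.node (nat_lit 10772416) (BT.leaf (nat_lit 49308181)) (BT.leaf (nat_lit 38038809))) (BT.node (nat_lit 10772544) (BT.leaf (nat_lit 38038817)) (BT.leaf (nat_lit 30686753)))) (BT.node (nat_lit 10772736) (BT.node (nat_lit 10772672) (BT.leaf (nat_lit 30688021)) (BT.leaf (nat_lit 31670809))) (BT.node (nat_lit 10772800) (BT.leaf (nat_lit 31670813)) (BT.leaf (nat_lit 30047505))))))) (BT.node (nat_lit 10774080) (BT.node (nat_lit 10773440) (BT.node (nat_lit 10773120) (BT.node (nat_lit 10772992) (BT.node (nat_lit 10772928) (BT.leaf (nat_lit 41322005)) (BT.leaf (nat_lit 41322009))) (BT.node (nat_lit 10773056) (BT.leaf (nat_lit 41322013)) (BT.leaf (nat_lit 42432025)))) (BT.node (nat_lit 10773312) (BT.node (nat_lit 10773248) (BT.leaf (nat_lit 30687509)) (BT.leaf (nat_lit 43846165))) (BT.node (nat_lit 10773376) (BT.leaf (nat_lit 43846169)) (BT.leaf (nat_lit 40332805))))) (BT.node (nat_lit 10773824) (BT.node (nat_lit 10773696) (BT.node (nat_lit 10773504) (BT.leaf (nat_lit 30689045)) (BT.leaf (nat_lit 43094301))) (BT.node (nat_lit 10773760) (BT.leaf (nat_lit 40945441)) (BT.leaf (nat_lit 40945669)))) (BT.node (nat_lit 10773952) (BT.node (nat_lit 10773888) (BT.leaf (nat_lit 35324421)) (BT.leaf (nat_lit 40145937))) (BT.node (nat_lit 10774016) (BT.leaf (nat_lit 41126661)) (BT.leaf (nat_lit 42485269)))))) (BT.node (nat_lit 10774532) (BT.node (nat_lit 10774336) (BT.node (nat_lit 10774208) (BT.node (nat_lit 10774144) (BT.leaf (nat_lit 37780245)) (BT.leaf (nat_lit 39094277))) (BT.node (nat_lit 10774272) (BT.leaf (nat_lit 41070341)) (BT.leaf (nat_lit 43614997)))) (BT.node (nat_lit 10774464) (BT.node (nat_lit 10774400) (BT.leaf (nat_lit 30689553)) (BT.leaf (nat_lit 37780249))) (BT.node (nat_lit 10774528) (BT.leaf (nat_lit 37780253)) (BT.leaf (nat_lit 41142561))))) (BT.node (nat_lit 10774664) (BT.node (nat_lit 10774592) (BT.node (nat_lit 10774533) (BT.leaf (nat_lit 711552)) (BT.leaf (nat_lit 711552))) (BT.node (nat_lit 10774656) (BT.leaf (nat_lit 39970833)) (BT.leaf (nat_lit 30254101)))) (BT.node (nat_lit 10774784) (BT.node (nat_lit 10774720) (BT.leaf (nat_lit 720564)) (BT.leaf (nat_lit 43101461))) (BT.node (nat_lit 10774848) (BT.leaf (nat_lit 42568481)) (BT.leaf (nat_lit 30691605)))))))) (BT.node (nat_lit 10776832) (BT.node (nat_lit 10775938) (BT.node (nat_lit 10775424) (BT.node (nat_lit 10775168) (BT.node (nat_lit 10775040) (BT.node (nat_lit 10774976) (BT.leaf (nat_lit 41673233)) (BT.leaf (nat_lit 43100185))) (BT.node (nat_lit 10775104) (BT.leaf (nat_lit 41142305)) (BT.leaf (nat_lit 35303945)))) (BT.node (nat_lit 10775296) (BT.node (nat_lit 10775232) (BT.leaf (nat_lit 35303957)) (BT.leaf (nat_lit 49093893))) (BT.node (nat_lit 10775360) (BT.leaf (nat_lit 43100953)) (BT.leaf (nat_lit 30253853))))) (BT.node (nat_lit 10775619) (BT.node (nat_lit 10775552) (BT.node (nat_lit 10775488) (BT.leaf (nat_lit 32376849)) (BT.leaf (nat_lit 50825481))) (BT.node (nat_lit 10775616) (BT.leaf (nat_lit 41126689)) (BT.leaf (nat_lit 31994117)))) (BT.node (nat_lit 10775808) (BT.node (nat_lit 10775680) (BT.leaf (nat_lit 766412)) (BT.leaf (nat_lit 31995141))) (BT.node (nat_lit 10775872) (BT.leaf (nat_lit 30693397)) (BT.leaf (nat_lit 43121689)))))) (BT.node (nat_lit 10776256) (BT.node (nat_lit 10776000) (BT.node (nat_lit 10775942) (BT.node (nat_lit 10775939) (BT.leaf (nat_lit 714032)) (BT.leaf (nat_lit 714032))) (BT.node (nat_lit 10775943) (BT.leaf (nat_lit 714032)) (BT.leaf (nat_lit 714032)))) (BT.node (nat_lit 10776128) (BT.node (nat_lit 10776064) (BT.leaf (nat_lit 30692613)) (BT.leaf (nat_lit 38173721))) (BT.node (nat_lit 10776192) (BT.leaf (nat_lit 45165845)) (BT.leaf (nat_lit 43105289))))) (BT.node (nat_lit 10776512) (BT.node (nat_lit 10776384) (BT.node (nat_lit 10776320) (BT.leaf (nat_lit 38171937)) (BT.leaf (nat_lit 42473753))) (BT.node (nat_lit 10776448) (BT.leaf (nat_lit 30693141)) (BT.leaf (nat_lit 43106077)))) (BT.node (nat_lit 10776704) (BT.node (nat_lit 10776576) (BT.leaf (nat_lit 42473741)) (BT.leaf (nat_lit 39094021))) (BT.node (nat_lit 10776768) (BT.leaf (nat_lit 44697617)) (BT.leaf (nat_lit 44384261))))))) (BT.node (nat_lit 10777856) (BT.node (nat_lit 10777408) (BT.node (nat_lit 10777152) (BT.node (nat_lit 10777024) (BT.node (nat_lit 10776896) (BT.leaf (nat_lit 39093765)) (BT.leaf (nat_lit 42498825))) (BT.node (nat_lit 10777088) (BT.leaf (nat_lit 42496013)) (BT.leaf (nat_lit 39095065)))) (BT.node (nat_lit 10777280) (BT.node (nat_lit 10777216) (BT.leaf (nat_lit 38676497)) (BT.leaf (nat_lit 30693405))) (BT.node (nat_lit 10777344) (BT.leaf (nat_lit 31179793)) (BT.leaf (nat_lit 31179797))))) (BT.node (nat_lit 10777664) (BT.node (nat_lit 10777536) (BT.node (nat_lit 10777472) (BT.leaf (nat_lit 30693401)) (BT.leaf (nat_lit 39852821))) (BT.node (nat_lit 10777600) (BT.leaf (nat_lit 39852825)) (BT.leaf (nat_lit 39852829)))) (BT.node (nat_lit 10777728) (BT.node (nat_lit 10777670) (BT.leaf (nat_lit 43637509)) (BT.leaf (nat_lit 677892))) (BT.node (nat_lit 10777792) (BT.leaf (nat_lit 47879457)) (BT.leaf (nat_lit 38437389)))))) (BT.node (nat_lit 10778112) (BT.node (nat_lit 10777986) (BT.node (nat_lit 10777984) (BT.node (nat_lit 10777920) (BT.leaf (nat_lit 38581793)) (BT.leaf (nat_lit 46457369))) (BT.node (nat_lit 10777985) (BT.leaf (nat_lit 40719137)) (BT.leaf (nat_lit 715560)))) (BT.node (nat_lit 10777991) (BT.node (nat_lit 10777990) (BT.leaf (nat_lit 715560)) (BT.leaf (nat_lit 715560))) (BT.node (nat_lit 10778048) (BT.leaf (nat_lit 715560)) (BT.leaf (nat_lit 30695685))))) (BT.node (nat_lit 10778496) (BT.node (nat_lit 10778368) (BT.node (nat_lit 10778240) (BT.leaf (nat_lit 32741893)) (BT.leaf (nat_lit 43113245))) (BT.node (nat_lit 10778432) (BT.leaf (nat_lit 51547665)) (BT.leaf (nat_lit 30696217)))) (BT.node (nat_lit 10778688) (BT.node (nat_lit 10778624) (BT.leaf (nat_lit 44928261)) (BT.leaf (nat_lit 42457353))) (BT.node (nat_lit 10778752) (BT.leaf (nat_lit 42454541)) (BT.leaf (nat_lit 47060501))))))))))) (BT.node (nat_lit 10794563) (BT.node (nat_lit 10786624) (BT.node (nat_lit 10783104) (BT.node (nat_lit 10781056) (BT.node (nat_lit 10779904) (BT.node (nat_lit 10779456) (BT.node (nat_lit 10779072) (BT.node (nat_lit 10778944) (BT.node (nat_lit 10778880) (BT.leaf (nat_lit 43115533)) (BT.leaf (nat_lit 48822805))) (BT.node (nat_lit 10779008) (BT.leaf (nat_lit 30230293)) (BT.leaf (nat_lit 32372505)))) (BT.node (nat_lit 10779328) (BT.node (nat_lit 10779264) (BT.leaf (nat_lit 32372509)) (BT.leaf (nat_lit 39511829))) (BT.node (nat_lit 10779392) (BT.leaf (nat_lit 39511833)) (BT.leaf (nat_lit 39511837))))) (BT.node (nat_lit 10779712) (BT.node (nat_lit 10779587) (BT.node (nat_lit 10779520) (BT.leaf (nat_lit 39541013)) (BT.leaf (nat_lit 42849313))) (BT.node (nat_lit 10779648) (BT.leaf (nat_lit 717872)) (BT.leaf (nat_lit 34071057)))) (BT.node (nat_lit 10779776) (BT.node (nat_lit 10779718) (BT.leaf (nat_lit 44290821)) (BT.leaf (nat_lit 721196))) (BT.node (nat_lit 10779840) (BT.leaf (nat_lit 40212229)) (BT.leaf (nat_lit 41567505)))))) (BT.node (nat_lit 10780544) (BT.node (nat_lit 10780224) (BT.node (nat_lit 10780096) (BT.node (nat_lit 10780032) (BT.leaf (nat_lit 43133973)) (BT.leaf (nat_lit 46670621))) (BT.node (nat_lit 10780160) (BT.leaf (nat_lit 39080469)) (BT.leaf (nat_lit 46008593)))) (BT.node (nat_lit 10780352) (BT.node (nat_lit 10780288) (BT.leaf (nat_lit 41451801)) (BT.leaf (nat_lit 45165333))) (BT.node (nat_lit 10780480) (BT.leaf (nat_lit 43121693)) (BT.leaf (nat_lit 38858761))))) (BT.node (nat_lit 10780800) (BT.node (nat_lit 10780672) (BT.node (nat_lit 10780608) (BT.leaf (nat_lit 47822617)) (BT.leaf (nat_lit 40010001))) (BT.node (nat_lit 10780736) (BT.leaf (nat_lit 40010005)) (BT.leaf (nat_lit 43123213)))) (BT.node (nat_lit 10780928) (BT.node (nat_lit 10780864) (BT.leaf (nat_lit 52149269)) (BT.leaf (nat_lit 40218629))) (BT.node (nat_lit 10780992) (BT.leaf (nat_lit 39912981)) (BT.leaf (nat_lit 30044433))))))) (BT.node (nat_lit 10782080) (BT.node (nat_lit 10781568) (BT.node (nat_lit 10781312) (BT.node (nat_lit 10781184) (BT.node (nat_lit 10781120) (BT.leaf (nat_lit 30233617)) (BT.leaf (nat_lit 42383637))) (BT.node (nat_lit 10781248) (BT.leaf (nat_lit 42383641)) (BT.leaf (nat_lit 42383645)))) (BT.node (nat_lit 10781440) (BT.node (nat_lit 10781376) (BT.leaf (nat_lit 37077273)) (BT.leaf (nat_lit 39726865))) (BT.node (nat_lit 10781504) (BT.leaf (nat_lit 42239241)) (BT.leaf (nat_lit 39726881))))) (BT.node (nat_lit 10781824) (BT.node (nat_lit 10781696) (BT.node (nat_lit 10781632) (BT.leaf (nat_lit 47915289)) (BT.leaf (nat_lit 40058897))) (BT.node (nat_lit 10781760) (BT.leaf (nat_lit 40951301)) (BT.leaf (nat_lit 41805849)))) (BT.node (nat_lit 10781952) (BT.node (nat_lit 10781888) (BT.leaf (nat_lit 30704145)) (BT.leaf (nat_lit 30702865))) (BT.node (nat_lit 10782016) (BT.leaf (nat_lit 30706209)) (BT.leaf (nat_lit 30705953)))))) (BT.node (nat_lit 10782592) (BT.node (nat_lit 10782336) (BT.node (nat_lit 10782208) (BT.node (nat_lit 10782144) (BT.leaf (nat_lit 30703377)) (BT.leaf (nat_lit 30202897))) (BT.node (nat_lit 10782272) (BT.leaf (nat_lit 37745941)) (BT.leaf (nat_lit 37745945)))) (BT.node (nat_lit 10782464) (BT.node (nat_lit 10782400) (BT.leaf (nat_lit 37745949)) (BT.leaf (nat_lit 30704401))) (BT.node (nat_lit 10782528) (BT.leaf (nat_lit 41170709)) (BT.leaf (nat_lit 44467993))))) (BT.node (nat_lit 10782912) (BT.node (nat_lit 10782720) (BT.node (nat_lit 10782656) (BT.leaf (nat_lit 30706449)) (BT.leaf (nat_lit 32236549))) (BT.node (nat_lit 10782848) (BT.leaf (nat_lit 34064157)) (BT.leaf (nat_lit 34066189)))) (BT.node (nat_lit 10783040) (BT.node (nat_lit 10782976) (BT.leaf (nat_lit 38237985)) (BT.leaf (nat_lit 34845461))) (BT.node (nat_lit 10783045) (BT.leaf (nat_lit 39713049)) (BT.leaf (nat_lit 699188)))))))) (BT.node (nat_lit 10784576) (BT.node (nat_lit 10783749) (BT.node (nat_lit 10783424) (BT.node (nat_lit 10783296) (BT.node (nat_lit 10783168) (BT.node (nat_lit 10783109) (BT.leaf (nat_lit 39713053)) (BT.leaf (nat_lit 765704))) (BT.node (nat_lit 10783232) (BT.leaf (nat_lit 34845473)) (BT.leaf (nat_lit 46001169)))) (BT.node (nat_lit 10783302) (BT.node (nat_lit 10783301) (BT.leaf (nat_lit 30706961)) (BT.leaf (nat_lit 703520))) (BT.node (nat_lit 10783360) (BT.leaf (nat_lit 703520)) (BT.leaf (nat_lit 44225569))))) (BT.node (nat_lit 10783552) (BT.node (nat_lit 10783488) (BT.node (nat_lit 10783429) (BT.leaf (nat_lit 39546649)) (BT.leaf (nat_lit 703532))) (BT.node (nat_lit 10783493) (BT.leaf (nat_lit 39546653)) (BT.leaf (nat_lit 767864)))) (BT.node (nat_lit 10783680) (BT.node (nat_lit 10783616) (BT.leaf (nat_lit 47808545)) (BT.leaf (nat_lit 36122905))) (BT.node (nat_lit 10783745) (BT.leaf (nat_lit 40894489)) (BT.leaf (nat_lit 711076)))))) (BT.node (nat_lit 10784192) (BT.node (nat_lit 10784000) (BT.node (nat_lit 10783872) (BT.node (nat_lit 10783808) (BT.leaf (nat_lit 711076)) (BT.leaf (nat_lit 48319509))) (BT.node (nat_lit 10783936) (BT.leaf (nat_lit 29270813)) (BT.leaf (nat_lit 39597073)))) (BT.node (nat_lit 10784128) (BT.node (nat_lit 10784064) (BT.leaf (nat_lit 42477597)) (BT.leaf (nat_lit 30710293))) (BT.node (nat_lit 10784136) (BT.leaf (nat_lit 29888541)) (BT.leaf (nat_lit 696728))))) (BT.node (nat_lit 10784384) (BT.node (nat_lit 10784320) (BT.node (nat_lit 10784256) (BT.leaf (nat_lit 41416213)) (BT.leaf (nat_lit 29888525))) (BT.node (nat_lit 10784323) (BT.leaf (nat_lit 43352093)) (BT.leaf (nat_lit 677372)))) (BT.node (nat_lit 10784453) (BT.node (nat_lit 10784448) (BT.leaf (nat_lit 32044309)) (BT.leaf (nat_lit 32075017))) (BT.node (nat_lit 10784512) (BT.leaf (nat_lit 722588)) (BT.leaf (nat_lit 41984545))))))) (BT.node (nat_lit 10785536) (BT.node (nat_lit 10785027) (BT.node (nat_lit 10784832) (BT.node (nat_lit 10784704) (BT.node (nat_lit 10784640) (BT.leaf (nat_lit 28821017)) (BT.leaf (nat_lit 34274577))) (BT.node (nat_lit 10784768) (BT.leaf (nat_lit 43655685)) (BT.leaf (nat_lit 32371717)))) (BT.node (nat_lit 10784960) (BT.node (nat_lit 10784896) (BT.leaf (nat_lit 30713617)) (BT.leaf (nat_lit 30713361))) (BT.node (nat_lit 10785024) (BT.leaf (nat_lit 32371737)) (BT.leaf (nat_lit 42240025))))) (BT.node (nat_lit 10785280) (BT.node (nat_lit 10785152) (BT.node (nat_lit 10785088) (BT.leaf (nat_lit 765716)) (BT.leaf (nat_lit 44957189))) (BT.node (nat_lit 10785216) (BT.leaf (nat_lit 30714885)) (BT.leaf (nat_lit 37773317)))) (BT.node (nat_lit 10785408) (BT.node (nat_lit 10785344) (BT.leaf (nat_lit 42234397)) (BT.leaf (nat_lit 37773329))) (BT.node (nat_lit 10785472) (BT.leaf (nat_lit 42234137)) (BT.leaf (nat_lit 37773345)))))) (BT.node (nat_lit 10786112) (BT.node (nat_lit 10785856) (BT.node (nat_lit 10785728) (BT.node (nat_lit 10785664) (BT.leaf (nat_lit 46142217)) (BT.leaf (nat_lit 42957077))) (BT.node (nat_lit 10785792) (BT.leaf (nat_lit 49100037)) (BT.leaf (nat_lit 30715421)))) (BT.node (nat_lit 10785984) (BT.node (nat_lit 10785920) (BT.leaf (nat_lit 42711053)) (BT.leaf (nat_lit 41370657))) (BT.node (nat_lit 10786048) (BT.leaf (nat_lit 31271685)) (BT.leaf (nat_lit 30715665))))) (BT.node (nat_lit 10786368) (BT.node (nat_lit 10786181) (BT.node (nat_lit 10786176) (BT.leaf (nat_lit 38618657)) (BT.leaf (nat_lit 30717729))) (BT.node (nat_lit 10786240) (BT.leaf (nat_lit 682120)) (BT.leaf (nat_lit 41720333)))) (BT.node (nat_lit 10786496) (BT.node (nat_lit 10786432) (BT.leaf (nat_lit 51372045)) (BT.leaf (nat_lit 51372057))) (BT.node (nat_lit 10786560) (BT.leaf (nat_lit 31043613)) (BT.leaf (nat_lit 30717709))))))))) (BT.node (nat_lit 10790528) (BT.node (nat_lit 10788544) (BT.node (nat_lit 10787712) (BT.node (nat_lit 10787200) (BT.node (nat_lit 10786944) (BT.node (nat_lit 10786752) (BT.node (nat_lit 10786688) (BT.leaf (nat_lit 32120597)) (BT.leaf (nat_lit 40507925))) (BT.node (nat_lit 10786816) (BT.leaf (nat_lit 43146777)) (BT.leaf (nat_lit 32120841)))) (BT.node (nat_lit 10787072) (BT.node (nat_lit 10787008) (BT.leaf (nat_lit 49646625)) (BT.leaf (nat_lit 43147785))) (BT.node (nat_lit 10787136) (BT.leaf (nat_lit 46756373)) (BT.leaf (nat_lit 43408661))))) (BT.node (nat_lit 10787456) (BT.node (nat_lit 10787328) (BT.node (nat_lit 10787264) (BT.leaf (nat_lit 36928273)) (BT.leaf (nat_lit 45687573))) (BT.node (nat_lit 10787392) (BT.leaf (nat_lit 30721041)) (BT.leaf (nat_lit 30720273)))) (BT.node (nat_lit 10787584) (BT.node (nat_lit 10787520) (BT.leaf (nat_lit 33091589)) (BT.leaf (nat_lit 34275857))) (BT.node (nat_lit 10787648) (BT.leaf (nat_lit 31037977)) (BT.leaf (nat_lit 31037981)))))) (BT.node (nat_lit 10788103) (BT.node (nat_lit 10787968) (BT.node (nat_lit 10787840) (BT.node (nat_lit 10787776) (BT.leaf (nat_lit 30721553)) (BT.leaf (nat_lit 30721297))) (BT.node (nat_lit 10787904) (BT.leaf (nat_lit 36838933)) (BT.leaf (nat_lit 36838937)))) (BT.node (nat_lit 10788096) (BT.node (nat_lit 10788032) (BT.leaf (nat_lit 36838941)) (BT.leaf (nat_lit 44379145))) (BT.node (nat_lit 10788102) (BT.leaf (nat_lit 44379149)) (BT.leaf (nat_lit 693420))))) (BT.node (nat_lit 10788288) (BT.node (nat_lit 10788224) (BT.node (nat_lit 10788160) (BT.leaf (nat_lit 693420)) (BT.leaf (nat_lit 41056773))) (BT.node (nat_lit 10788229) (BT.leaf (nat_lit 44295945)) (BT.leaf (nat_lit 701496)))) (BT.node (nat_lit 10788416) (BT.node (nat_lit 10788352) (BT.leaf (nat_lit 41057285)) (BT.leaf (nat_lit 38075653))) (BT.node (nat_lit 10788480) (BT.leaf (nat_lit 31107845)) (BT.leaf (nat_lit 43192853))))))) (BT.node (nat_lit 10789568) (BT.node (nat_lit 10789056) (BT.node (nat_lit 10788800) (BT.node (nat_lit 10788672) (BT.node (nat_lit 10788608) (BT.leaf (nat_lit 43192861)) (BT.leaf (nat_lit 46498065))) (BT.node (nat_lit 10788736) (BT.leaf (nat_lit 30726157)) (BT.leaf (nat_lit 35271701)))) (BT.node (nat_lit 10788928) (BT.node (nat_lit 10788864) (BT.leaf (nat_lit 48533025)) (BT.leaf (nat_lit 34478869))) (BT.node (nat_lit 10788992) (BT.leaf (nat_lit 40959237)) (BT.leaf (nat_lit 34478877))))) (BT.node (nat_lit 10789312) (BT.node (nat_lit 10789184) (BT.node (nat_lit 10789120) (BT.leaf (nat_lit 41100577)) (BT.leaf (nat_lit 30725397))) (BT.node (nat_lit 10789248) (BT.leaf (nat_lit 43554849)) (BT.leaf (nat_lit 43555361)))) (BT.node (nat_lit 10789440) (BT.node (nat_lit 10789376) (BT.leaf (nat_lit 43555105)) (BT.leaf (nat_lit 30734873))) (BT.node (nat_lit 10789504) (BT.leaf (nat_lit 31170577)) (BT.leaf (nat_lit 43158301)))))) (BT.node (nat_lit 10790144) (BT.node (nat_lit 10789824) (BT.node (nat_lit 10789696) (BT.node (nat_lit 10789632) (BT.leaf (nat_lit 47516949)) (BT.leaf (nat_lit 34277393))) (BT.node (nat_lit 10789760) (BT.leaf (nat_lit 44394253)) (BT.leaf (nat_lit 32876549)))) (BT.node (nat_lit 10790016) (BT.node (nat_lit 10789952) (BT.leaf (nat_lit 47687445)) (BT.leaf (nat_lit 32401425))) (BT.node (nat_lit 10790080) (BT.leaf (nat_lit 31057181)) (BT.leaf (nat_lit 30038029))))) (BT.node (nat_lit 10790340) (BT.node (nat_lit 10790272) (BT.node (nat_lit 10790208) (BT.leaf (nat_lit 30178581)) (BT.leaf (nat_lit 48445981))) (BT.node (nat_lit 10790336) (BT.leaf (nat_lit 30178313)) (BT.leaf (nat_lit 42119445)))) (BT.node (nat_lit 10790400) (BT.node (nat_lit 10790344) (BT.leaf (nat_lit 717056)) (BT.leaf (nat_lit 717056))) (BT.node (nat_lit 10790464) (BT.leaf (nat_lit 45062413)) (BT.leaf (nat_lit 31057161)))))))) (BT.node (nat_lit 10792512) (BT.node (nat_lit 10791616) (BT.node (nat_lit 10791104) (BT.node (nat_lit 10790720) (BT.node (nat_lit 10790592) (BT.node (nat_lit 10790533) (BT.leaf (nat_lit 43161881)) (BT.leaf (nat_lit 769792))) (BT.node (nat_lit 10790656) (BT.leaf (nat_lit 45392401)) (BT.leaf (nat_lit 34278429)))) (BT.node (nat_lit 10790976) (BT.node (nat_lit 10790912) (BT.leaf (nat_lit 45392417)) (BT.leaf (nat_lit 46211341))) (BT.node (nat_lit 10791040) (BT.leaf (nat_lit 30178329)) (BT.leaf (nat_lit 47815701))))) (BT.node (nat_lit 10791360) (BT.node (nat_lit 10791232) (BT.node (nat_lit 10791168) (BT.leaf (nat_lit 43988497)) (BT.leaf (nat_lit 30178317))) (BT.node (nat_lit 10791296) (BT.leaf (nat_lit 48407065)) (BT.leaf (nat_lit 39529233)))) (BT.node (nat_lit 10791488) (BT.node (nat_lit 10791424) (BT.leaf (nat_lit 30738193)) (BT.leaf (nat_lit 30773017))) (BT.node (nat_lit 10791552) (BT.leaf (nat_lit 30773021)) (BT.leaf (nat_lit 30773265)))))) (BT.node (nat_lit 10792064) (BT.node (nat_lit 10791808) (BT.node (nat_lit 10791744) (BT.node (nat_lit 10791680) (BT.leaf (nat_lit 43166733)) (BT.leaf (nat_lit 41816605))) (BT.node (nat_lit 10791745) (BT.leaf (nat_lit 42844433)) (BT.leaf (nat_lit 699660)))) (BT.node (nat_lit 10791936) (BT.node (nat_lit 10791872) (BT.leaf (nat_lit 41816585)) (BT.leaf (nat_lit 43167257))) (BT.node (nat_lit 10792000) (BT.leaf (nat_lit 31555617)) (BT.leaf (nat_lit 47034389))))) (BT.node (nat_lit 10792261) (BT.node (nat_lit 10792192) (BT.node (nat_lit 10792128) (BT.leaf (nat_lit 41815581)) (BT.leaf (nat_lit 42835737))) (BT.node (nat_lit 10792256) (BT.leaf (nat_lit 42835741)) (BT.leaf (nat_lit 46246669)))) (BT.node (nat_lit 10792384) (BT.node (nat_lit 10792320) (BT.leaf (nat_lit 674572)) (BT.leaf (nat_lit 47032589))) (BT.node (nat_lit 10792448) (BT.leaf (nat_lit 40162073)) (BT.leaf (nat_lit 40466721))))))) (BT.node (nat_lit 10793536) (BT.node (nat_lit 10792960) (BT.node (nat_lit 10792768) (BT.node (nat_lit 10792640) (BT.node (nat_lit 10792576) (BT.leaf (nat_lit 30039061)) (BT.leaf (nat_lit 47817237))) (BT.node (nat_lit 10792704) (BT.leaf (nat_lit 43169801)) (BT.leaf (nat_lit 46246681)))) (BT.node (nat_lit 10792832) (BT.node (nat_lit 10792771) (BT.leaf (nat_lit 45619489)) (BT.leaf (nat_lit 722600))) (BT.node (nat_lit 10792896) (BT.leaf (nat_lit 41368593)) (BT.leaf (nat_lit 42232585))))) (BT.node (nat_lit 10793216) (BT.node (nat_lit 10793088) (BT.node (nat_lit 10793024) (BT.leaf (nat_lit 30738721)) (BT.leaf (nat_lit 42232605))) (BT.node (nat_lit 10793152) (BT.leaf (nat_lit 36970773)) (BT.leaf (nat_lit 40466705)))) (BT.node (nat_lit 10793408) (BT.node (nat_lit 10793344) (BT.leaf (nat_lit 44384269)) (BT.leaf (nat_lit 43168801))) (BT.node (nat_lit 10793472) (BT.leaf (nat_lit 43543813)) (BT.leaf (nat_lit 43544085)))))) (BT.node (nat_lit 10794112) (BT.node (nat_lit 10793792) (BT.node (nat_lit 10793664) (BT.node (nat_lit 10793600) (BT.leaf (nat_lit 42795285)) (BT.leaf (nat_lit 30739221))) (BT.node (nat_lit 10793728) (BT.leaf (nat_lit 46272533)) (BT.leaf (nat_lit 30742033)))) (BT.node (nat_lit 10793984) (BT.node (nat_lit 10793856) (BT.leaf (nat_lit 30160401)) (BT.leaf (nat_lit 42796805))) (BT.node (nat_lit 10794048) (BT.leaf (nat_lit 50157841)) (BT.leaf (nat_lit 38554649))))) (BT.node (nat_lit 10794368) (BT.node (nat_lit 10794240) (BT.node (nat_lit 10794176) (BT.leaf (nat_lit 38554653)) (BT.leaf (nat_lit 50157845))) (BT.node (nat_lit 10794304) (BT.leaf (nat_lit 40717081)) (BT.leaf (nat_lit 48296217)))) (BT.node (nat_lit 10794496) (BT.node (nat_lit 10794432) (BT.leaf (nat_lit 39245601)) (BT.leaf (nat_lit 30883093))) (BT.node (nat_lit 10794560) (BT.leaf (nat_lit 51676677)) (BT.leaf (nat_lit 31921173)))))))))) (BT.node (nat_lit 10802496) (BT.node (nat_lit 10798528) (BT.node (nat_lit 10796416) (BT.node (nat_lit 10795392) (BT.node (nat_lit 10795075) (BT.node (nat_lit 10794816) (BT.node (nat_lit 10794688) (BT.node (nat_lit 10794624) (BT.leaf (nat_lit 766240)) (BT.leaf (nat_lit 49039385))) (BT.node (nat_lit 10794752) (BT.leaf (nat_lit 39410465)) (BT.leaf (nat_lit 43506949)))) (BT.node (nat_lit 10795072) (BT.node (nat_lit 10795008) (BT.leaf (nat_lit 43179033)) (BT.leaf (nat_lit 30742801))) (BT.node (nat_lit 10795074) (BT.leaf (nat_lit 38795553)) (BT.leaf (nat_lit 761516))))) (BT.node (nat_lit 10795200) (BT.node (nat_lit 10795136) (BT.node (nat_lit 10795076) (BT.leaf (nat_lit 696380)) (BT.leaf (nat_lit 761516))) (BT.node (nat_lit 10795138) (BT.leaf (nat_lit 38820889)) (BT.leaf (nat_lit 690812)))) (BT.node (nat_lit 10795264) (BT.node (nat_lit 10795202) (BT.leaf (nat_lit 43459869)) (BT.leaf (nat_lit 690824))) (BT.node (nat_lit 10795328) (BT.leaf (nat_lit 50479369)) (BT.leaf (nat_lit 32942861)))))) (BT.node (nat_lit 10795904) (BT.node (nat_lit 10795648) (BT.node (nat_lit 10795520) (BT.node (nat_lit 10795456) (BT.leaf (nat_lit 34280469)) (BT.leaf (nat_lit 33011745))) (BT.node (nat_lit 10795584) (BT.leaf (nat_lit 49740569)) (BT.leaf (nat_lit 50964753)))) (BT.node (nat_lit 10795776) (BT.node (nat_lit 10795712) (BT.leaf (nat_lit 30054169)) (BT.leaf (nat_lit 45797125))) (BT.node (nat_lit 10795840) (BT.leaf (nat_lit 30054173)) (BT.leaf (nat_lit 42263585))))) (BT.node (nat_lit 10796160) (BT.node (nat_lit 10796032) (BT.node (nat_lit 10795968) (BT.leaf (nat_lit 30053145)) (BT.leaf (nat_lit 43186181))) (BT.node (nat_lit 10796096) (BT.leaf (nat_lit 30053149)) (BT.leaf (nat_lit 40921093)))) (BT.node (nat_lit 10796288) (BT.node (nat_lit 10796224) (BT.leaf (nat_lit 38921485)) (BT.leaf (nat_lit 38226693))) (BT.node (nat_lit 10796352) (BT.leaf (nat_lit 30744597)) (BT.leaf (nat_lit 43185693))))))) (BT.node (nat_lit 10797440) (BT.node (nat_lit 10796928) (BT.node (nat_lit 10796672) (BT.node (nat_lit 10796544) (BT.node (nat_lit 10796480) (BT.leaf (nat_lit 49297165)) (BT.leaf (nat_lit 39087137))) (BT.node (nat_lit 10796608) (BT.leaf (nat_lit 43797781)) (BT.leaf (nat_lit 32710661)))) (BT.node (nat_lit 10796800) (BT.node (nat_lit 10796736) (BT.leaf (nat_lit 32714773)) (BT.leaf (nat_lit 39235593))) (BT.node (nat_lit 10796864) (BT.leaf (nat_lit 39235601)) (BT.leaf (nat_lit 45240845))))) (BT.node (nat_lit 10797184) (BT.node (nat_lit 10797056) (BT.node (nat_lit 10796992) (BT.leaf (nat_lit 39235617)) (BT.leaf (nat_lit 40919585))) (BT.node (nat_lit 10797120) (BT.leaf (nat_lit 39306529)) (BT.leaf (nat_lit 31951877)))) (BT.node (nat_lit 10797312) (BT.node (nat_lit 10797248) (BT.leaf (nat_lit 32851217)) (BT.leaf (nat_lit 46644485))) (BT.node (nat_lit 10797376) (BT.leaf (nat_lit 31108377)) (BT.leaf (nat_lit 46644509)))))) (BT.node (nat_lit 10798016) (BT.node (nat_lit 10797760) (BT.node (nat_lit 10797632) (BT.node (nat_lit 10797504) (BT.leaf (nat_lit 43526177)) (BT.leaf (nat_lit 42515725))) (BT.node (nat_lit 10797696) (BT.leaf (nat_lit 32851989)) (BT.leaf (nat_lit 38900753)))) (BT.node (nat_lit 10797888) (BT.node (nat_lit 10797824) (BT.leaf (nat_lit 38900757)) (BT.leaf (nat_lit 45882657))) (BT.node (nat_lit 10797952) (BT.leaf (nat_lit 30747153)) (BT.leaf (nat_lit 30748961))))) (BT.node (nat_lit 10798272) (BT.node (nat_lit 10798144) (BT.node (nat_lit 10798080) (BT.leaf (nat_lit 37760797)) (BT.leaf (nat_lit 43153925))) (BT.node (nat_lit 10798208) (BT.leaf (nat_lit 34552085)) (BT.leaf (nat_lit 30280713)))) (BT.node (nat_lit 10798400) (BT.node (nat_lit 10798336) (BT.leaf (nat_lit 47956489)) (BT.leaf (nat_lit 43153953))) (BT.node (nat_lit 10798464) (BT.leaf (nat_lit 28768277)) (BT.leaf (nat_lit 43192585)))))))) (BT.node (nat_lit 10800512) (BT.node (nat_lit 10799424) (BT.node (nat_lit 10799040) (BT.node (nat_lit 10798784) (BT.node (nat_lit 10798656) (BT.node (nat_lit 10798592) (BT.leaf (nat_lit 50586901)) (BT.leaf (nat_lit 43194137))) (BT.node (nat_lit 10798720) (BT.leaf (nat_lit 34281237)) (BT.leaf (nat_lit 47956509)))) (BT.node (nat_lit 10798912) (BT.node (nat_lit 10798848) (BT.leaf (nat_lit 41824009)) (BT.leaf (nat_lit 39329825))) (BT.node (nat_lit 10798976) (BT.leaf (nat_lit 30747937)) (BT.leaf (nat_lit 30748193))))) (BT.node (nat_lit 10799172) (BT.node (nat_lit 10799168) (BT.node (nat_lit 10799104) (BT.leaf (nat_lit 47693573)) (BT.leaf (nat_lit 43196169))) (BT.node (nat_lit 10799169) (BT.leaf (nat_lit 41355809)) (BT.leaf (nat_lit 684344)))) (BT.node (nat_lit 10799296) (BT.node (nat_lit 10799232) (BT.leaf (nat_lit 684344)) (BT.leaf (nat_lit 30280717))) (BT.node (nat_lit 10799360) (BT.leaf (nat_lit 43788305)) (BT.leaf (nat_lit 47440661)))))) (BT.node (nat_lit 10799936) (BT.node (nat_lit 10799680) (BT.node (nat_lit 10799552) (BT.node (nat_lit 10799488) (BT.leaf (nat_lit 47440665)) (BT.leaf (nat_lit 47440669))) (BT.node (nat_lit 10799616) (BT.leaf (nat_lit 44229381)) (BT.leaf (nat_lit 43481889)))) (BT.node (nat_lit 10799808) (BT.node (nat_lit 10799744) (BT.leaf (nat_lit 32943117)) (BT.leaf (nat_lit 30749193))) (BT.node (nat_lit 10799872) (BT.leaf (nat_lit 42019849)) (BT.leaf (nat_lit 50230793))))) (BT.node (nat_lit 10800256) (BT.node (nat_lit 10800064) (BT.node (nat_lit 10800000) (BT.leaf (nat_lit 42019853)) (BT.leaf (nat_lit 50230789))) (BT.node (nat_lit 10800128) (BT.leaf (nat_lit 50230809)) (BT.leaf (nat_lit 50230813)))) (BT.node (nat_lit 10800384) (BT.node (nat_lit 10800320) (BT.leaf (nat_lit 51084565)) (BT.leaf (nat_lit 34282513))) (BT.node (nat_lit 10800448) (BT.leaf (nat_lit 30749217)) (BT.leaf (nat_lit 38238485))))))) (BT.node (nat_lit 10801536) (BT.node (nat_lit 10801024) (BT.node (nat_lit 10800768) (BT.node (nat_lit 10800640) (BT.node (nat_lit 10800576) (BT.leaf (nat_lit 38238489)) (BT.leaf (nat_lit 38238493))) (BT.node (nat_lit 10800704) (BT.leaf (nat_lit 30749457)) (BT.leaf (nat_lit 30749461)))) (BT.node (nat_lit 10800896) (BT.node (nat_lit 10800832) (BT.leaf (nat_lit 40044301)) (BT.leaf (nat_lit 40044305))) (BT.node (nat_lit 10800960) (BT.leaf (nat_lit 40044321)) (BT.leaf (nat_lit 43187973))))) (BT.node (nat_lit 10801280) (BT.node (nat_lit 10801152) (BT.node (nat_lit 10801088) (BT.leaf (nat_lit 38216985)) (BT.leaf (nat_lit 38216989))) (BT.node (nat_lit 10801216) (BT.leaf (nat_lit 51471393)) (BT.leaf (nat_lit 30749713)))) (BT.node (nat_lit 10801408) (BT.node (nat_lit 10801344) (BT.leaf (nat_lit 47483925)) (BT.leaf (nat_lit 47483929))) (BT.node (nat_lit 10801472) (BT.leaf (nat_lit 31910941)) (BT.leaf (nat_lit 32233237)))))) (BT.node (nat_lit 10802048) (BT.node (nat_lit 10801792) (BT.node (nat_lit 10801664) (BT.node (nat_lit 10801600) (BT.leaf (nat_lit 32233241)) (BT.leaf (nat_lit 38660357))) (BT.node (nat_lit 10801728) (BT.leaf (nat_lit 38218781)) (BT.leaf (nat_lit 31136273)))) (BT.node (nat_lit 10801920) (BT.node (nat_lit 10801856) (BT.leaf (nat_lit 31136277)) (BT.leaf (nat_lit 30756369))) (BT.node (nat_lit 10801984) (BT.leaf (nat_lit 49068293)) (BT.leaf (nat_lit 39543837))))) (BT.node (nat_lit 10802242) (BT.node (nat_lit 10802176) (BT.node (nat_lit 10802112) (BT.leaf (nat_lit 42812705)) (BT.leaf (nat_lit 32318221))) (BT.node (nat_lit 10802240) (BT.leaf (nat_lit 41504517)) (BT.leaf (nat_lit 31164433)))) (BT.node (nat_lit 10802368) (BT.node (nat_lit 10802304) (BT.leaf (nat_lit 758100)) (BT.leaf (nat_lit 44199177))) (BT.node (nat_lit 10802432) (BT.leaf (nat_lit 42519061)) (BT.leaf (nat_lit 44192801))))))))) (BT.node (nat_lit 10806528) (BT.node (nat_lit 10804608) (BT.node (nat_lit 10803520) (BT.node (nat_lit 10803008) (BT.node (nat_lit 10802752) (BT.node (nat_lit 10802624) (BT.node (nat_lit 10802560) (BT.leaf (nat_lit 31419157)) (BT.leaf (nat_lit 44861985))) (BT.node (nat_lit 10802688) (BT.leaf (nat_lit 42519833)) (BT.leaf (nat_lit 30757649)))) (BT.node (nat_lit 10802880) (BT.node (nat_lit 10802816) (BT.leaf (nat_lit 44486169)) (BT.leaf (nat_lit 43212833))) (BT.node (nat_lit 10802944) (BT.leaf (nat_lit 40393501)) (BT.leaf (nat_lit 29991701))))) (BT.node (nat_lit 10803264) (BT.node (nat_lit 10803136) (BT.node (nat_lit 10803072) (BT.leaf (nat_lit 40393485)) (BT.leaf (nat_lit 31655429))) (BT.node (nat_lit 10803200) (BT.leaf (nat_lit 38243861)) (BT.leaf (nat_lit 31961861)))) (BT.node (nat_lit 10803392) (BT.node (nat_lit 10803328) (BT.leaf (nat_lit 31138333)) (BT.leaf (nat_lit 43874569))) (BT.node (nat_lit 10803456) (BT.leaf (nat_lit 45400081)) (BT.leaf (nat_lit 44416269)))))) (BT.node (nat_lit 10804032) (BT.node (nat_lit 10803776) (BT.node (nat_lit 10803648) (BT.node (nat_lit 10803584) (BT.leaf (nat_lit 31339029)) (BT.leaf (nat_lit 42514201))) (BT.node (nat_lit 10803712) (BT.leaf (nat_lit 32827153)) (BT.leaf (nat_lit 46033437)))) (BT.node (nat_lit 10803904) (BT.node (nat_lit 10803840) (BT.leaf (nat_lit 31961889)) (BT.leaf (nat_lit 48534561))) (BT.node (nat_lit 10803968) (BT.leaf (nat_lit 44852493)) (BT.leaf (nat_lit 51999009))))) (BT.node (nat_lit 10804224) (BT.node (nat_lit 10804101) (BT.node (nat_lit 10804096) (BT.leaf (nat_lit 30759957)) (BT.leaf (nat_lit 42543901))) (BT.node (nat_lit 10804160) (BT.leaf (nat_lit 762272)) (BT.leaf (nat_lit 34088969)))) (BT.node (nat_lit 10804480) (BT.node (nat_lit 10804288) (BT.leaf (nat_lit 50395913)) (BT.leaf (nat_lit 43111713))) (BT.node (nat_lit 10804544) (BT.leaf (nat_lit 34089485)) (BT.leaf (nat_lit 34673421))))))) (BT.node (nat_lit 10805632) (BT.node (nat_lit 10805120) (BT.node (nat_lit 10804864) (BT.node (nat_lit 10804736) (BT.node (nat_lit 10804672) (BT.leaf (nat_lit 44912397)) (BT.leaf (nat_lit 42721561))) (BT.node (nat_lit 10804800) (BT.leaf (nat_lit 50917397)) (BT.leaf (nat_lit 41195029)))) (BT.node (nat_lit 10804992) (BT.node (nat_lit 10804928) (BT.leaf (nat_lit 42691077)) (BT.leaf (nat_lit 31804949))) (BT.node (nat_lit 10805056) (BT.leaf (nat_lit 44114209)) (BT.leaf (nat_lit 34961933))))) (BT.node (nat_lit 10805376) (BT.node (nat_lit 10805248) (BT.node (nat_lit 10805184) (BT.leaf (nat_lit 31338261)) (BT.leaf (nat_lit 30760225))) (BT.node (nat_lit 10805312) (BT.leaf (nat_lit 45505805)) (BT.leaf (nat_lit 45528337)))) (BT.node (nat_lit 10805504) (BT.node (nat_lit 10805440) (BT.leaf (nat_lit 45528353)) (BT.leaf (nat_lit 50582037))) (BT.node (nat_lit 10805568) (BT.leaf (nat_lit 38597137)) (BT.leaf (nat_lit 38597153)))))) (BT.node (nat_lit 10806144) (BT.node (nat_lit 10805888) (BT.node (nat_lit 10805760) (BT.node (nat_lit 10805696) (BT.leaf (nat_lit 37969165)) (BT.leaf (nat_lit 28500753))) (BT.node (nat_lit 10805824) (BT.leaf (nat_lit 30279193)) (BT.leaf (nat_lit 42517273)))) (BT.node (nat_lit 10806016) (BT.node (nat_lit 10805952) (BT.leaf (nat_lit 46242589)) (BT.leaf (nat_lit 37631773))) (BT.node (nat_lit 10806080) (BT.leaf (nat_lit 31519245)) (BT.leaf (nat_lit 41162781))))) (BT.node (nat_lit 10806272) (BT.node (nat_lit 10806212) (BT.node (nat_lit 10806208) (BT.leaf (nat_lit 46243601)) (BT.leaf (nat_lit 48221213))) (BT.node (nat_lit 10806213) (BT.leaf (nat_lit 715528)) (BT.leaf (nat_lit 715528)))) (BT.node (nat_lit 10806400) (BT.node (nat_lit 10806336) (BT.leaf (nat_lit 36396565)) (BT.leaf (nat_lit 37687813))) (BT.node (nat_lit 10806464) (BT.leaf (nat_lit 40643345)) (BT.leaf (nat_lit 32411161)))))))) (BT.node (nat_lit 10808384) (BT.node (nat_lit 10807424) (BT.node (nat_lit 10806912) (BT.node (nat_lit 10806784) (BT.node (nat_lit 10806656) (BT.node (nat_lit 10806592) (BT.leaf (nat_lit 43003161)) (BT.leaf (nat_lit 41163781))) (BT.node (nat_lit 10806720) (BT.leaf (nat_lit 45982489)) (BT.leaf (nat_lit 30762013)))) (BT.node (nat_lit 10806850) (BT.node (nat_lit 10806848) (BT.leaf (nat_lit 41163269)) (BT.leaf (nat_lit 43419937))) (BT.node (nat_lit 10806852) (BT.leaf (nat_lit 679192)) (BT.leaf (nat_lit 679192))))) (BT.node (nat_lit 10807168) (BT.node (nat_lit 10807040) (BT.node (nat_lit 10806976) (BT.leaf (nat_lit 30762769)) (BT.leaf (nat_lit 40107285))) (BT.node (nat_lit 10807104) (BT.leaf (nat_lit 40107289)) (BT.leaf (nat_lit 40107293)))) (BT.node (nat_lit 10807296) (BT.node (nat_lit 10807232) (BT.leaf (nat_lit 30762513)) (BT.leaf (nat_lit 45825817))) (BT.node (nat_lit 10807360) (BT.leaf (nat_lit 34290713)) (BT.leaf (nat_lit 50522649)))))) (BT.node (nat_lit 10807936) (BT.node (nat_lit 10807680) (BT.node (nat_lit 10807552) (BT.node (nat_lit 10807488) (BT.leaf (nat_lit 43005189)) (BT.leaf (nat_lit 43230237))) (BT.node (nat_lit 10807616) (BT.leaf (nat_lit 34675473)) (BT.leaf (nat_lit 40744477)))) (BT.node (nat_lit 10807808) (BT.node (nat_lit 10807744) (BT.leaf (nat_lit 30763025)) (BT.leaf (nat_lit 39491089))) (BT.node (nat_lit 10807872) (BT.leaf (nat_lit 31444249)) (BT.leaf (nat_lit 31444253))))) (BT.node (nat_lit 10808192) (BT.node (nat_lit 10808064) (BT.node (nat_lit 10808000) (BT.leaf (nat_lit 39382801)) (BT.leaf (nat_lit 45826053))) (BT.node (nat_lit 10808128) (BT.leaf (nat_lit 44822277)) (BT.leaf (nat_lit 30763793)))) (BT.node (nat_lit 10808262) (BT.node (nat_lit 10808256) (BT.leaf (nat_lit 28751637)) (BT.leaf (nat_lit 31969541))) (BT.node (nat_lit 10808320) (BT.leaf (nat_lit 708452)) (BT.leaf (nat_lit 32230669))))))) (BT.node (nat_lit 10809408) (BT.node (nat_lit 10808896) (BT.node (nat_lit 10808640) (BT.node (nat_lit 10808512) (BT.node (nat_lit 10808448) (BT.leaf (nat_lit 41403925)) (BT.leaf (nat_lit 43233545))) (BT.node (nat_lit 10808576) (BT.leaf (nat_lit 32487697)) (BT.leaf (nat_lit 31971077)))) (BT.node (nat_lit 10808768) (BT.node (nat_lit 10808704) (BT.leaf (nat_lit 32487709)) (BT.leaf (nat_lit 32487713))) (BT.node (nat_lit 10808832) (BT.leaf (nat_lit 41610785)) (BT.leaf (nat_lit 48002589))))) (BT.node (nat_lit 10809152) (BT.node (nat_lit 10809024) (BT.node (nat_lit 10808960) (BT.leaf (nat_lit 42156301)) (BT.leaf (nat_lit 48253985))) (BT.node (nat_lit 10809088) (BT.leaf (nat_lit 32487965)) (BT.leaf (nat_lit 32075013)))) (BT.node (nat_lit 10809280) (BT.node (nat_lit 10809216) (BT.leaf (nat_lit 41788949)) (BT.leaf (nat_lit 44822533))) (BT.node (nat_lit 10809344) (BT.leaf (nat_lit 32592913)) (BT.leaf (nat_lit 42542365)))))) (BT.node (nat_lit 10809920) (BT.node (nat_lit 10809664) (BT.node (nat_lit 10809536) (BT.node (nat_lit 10809472) (BT.leaf (nat_lit 31138833)) (BT.leaf (nat_lit 32451093))) (BT.node (nat_lit 10809600) (BT.leaf (nat_lit 45734665)) (BT.leaf (nat_lit 41176085)))) (BT.node (nat_lit 10809792) (BT.node (nat_lit 10809728) (BT.leaf (nat_lit 44595205)) (BT.leaf (nat_lit 31969057))) (BT.node (nat_lit 10809856) (BT.leaf (nat_lit 30764577)) (BT.leaf (nat_lit 30764321))))) (BT.node (nat_lit 10810176) (BT.node (nat_lit 10810048) (BT.node (nat_lit 10809984) (BT.leaf (nat_lit 39614753)) (BT.leaf (nat_lit 42288409))) (BT.node (nat_lit 10810112) (BT.leaf (nat_lit 39614741)) (BT.leaf (nat_lit 39614745)))) (BT.node (nat_lit 10810368) (BT.node (nat_lit 10810304) (BT.leaf (nat_lit 39614749)) (BT.leaf (nat_lit 41175821))) (BT.node (nat_lit 10810432) (BT.leaf (nat_lit 39147297)) (BT.leaf (nat_lit 32075029)))))))))))) (BT.node (nat_lit 10842176) (BT.node (nat_lit 10825984) (BT.node (nat_lit 10818304) (BT.node (nat_lit 10814720) (BT.node (nat_lit 10812800) (BT.node (nat_lit 10811648) (BT.node (nat_lit 10811072) (BT.node (nat_lit 10810752) (BT.node (nat_lit 10810624) (BT.node (nat_lit 10810560) (BT.leaf (nat_lit 32075033)) (BT.leaf (nat_lit 32075037))) (BT.node (nat_lit 10810688) (BT.leaf (nat_lit 30763537)) (BT.leaf (nat_lit 30765065)))) (BT.node (nat_lit 10810944) (BT.node (nat_lit 10810880) (BT.leaf (nat_lit 29816597)) (BT.leaf (nat_lit 44559137))) (BT.node (nat_lit 10811008) (BT.leaf (nat_lit 40347669)) (BT.leaf (nat_lit 43243785))))) (BT.node (nat_lit 10811392) (BT.node (nat_lit 10811200) (BT.node (nat_lit 10811136) (BT.leaf (nat_lit 32330001)) (BT.leaf (nat_lit 32330009))) (BT.node (nat_lit 10811264) (BT.leaf (nat_lit 32330013)) (BT.leaf (nat_lit 32330017)))) (BT.node (nat_lit 10811520) (BT.node (nat_lit 10811456) (BT.leaf (nat_lit 30766881)) (BT.leaf (nat_lit 38236961))) (BT.node (nat_lit 10811584) (BT.leaf (nat_lit 30767649)) (BT.leaf (nat_lit 30767393)))))) (BT.node (nat_lit 10812160) (BT.node (nat_lit 10811904) (BT.node (nat_lit 10811776) (BT.node (nat_lit 10811712) (BT.leaf (nat_lit 38141189)) (BT.leaf (nat_lit 32669973))) (BT.node (nat_lit 10811840) (BT.leaf (nat_lit 30052365)) (BT.leaf (nat_lit 38141217)))) (BT.node (nat_lit 10812032) (BT.node (nat_lit 10811968) (BT.leaf (nat_lit 46459653)) (BT.leaf (nat_lit 30765593))) (BT.node (nat_lit 10812096) (BT.leaf (nat_lit 43865617)) (BT.leaf (nat_lit 42544397))))) (BT.node (nat_lit 10812480) (BT.node (nat_lit 10812352) (BT.node (nat_lit 10812224) (BT.leaf (nat_lit 30766109)) (BT.leaf (nat_lit 30765597))) (BT.node (nat_lit 10812416) (BT.leaf (nat_lit 30766617)) (BT.leaf (nat_lit 30766105)))) (BT.node (nat_lit 10812608) (BT.node (nat_lit 10812544) (BT.leaf (nat_lit 34866693)) (BT.leaf (nat_lit 44852501))) (BT.node (nat_lit 10812736) (BT.leaf (nat_lit 39762949)) (BT.leaf (nat_lit 42544409))))))) (BT.node (nat_lit 10813760) (BT.node (nat_lit 10813312) (BT.node (nat_lit 10813056) (BT.node (nat_lit 10812928) (BT.node (nat_lit 10812864) (BT.leaf (nat_lit 30052381)) (BT.leaf (nat_lit 40919565))) (BT.node (nat_lit 10812992) (BT.leaf (nat_lit 30052361)) (BT.leaf (nat_lit 39762977)))) (BT.node (nat_lit 10813184) (BT.node (nat_lit 10813120) (BT.leaf (nat_lit 42525449)) (BT.leaf (nat_lit 46598405))) (BT.node (nat_lit 10813248) (BT.leaf (nat_lit 31504413)) (BT.leaf (nat_lit 46496033))))) (BT.node (nat_lit 10813568) (BT.node (nat_lit 10813440) (BT.node (nat_lit 10813376) (BT.leaf (nat_lit 49768989)) (BT.leaf (nat_lit 30770705))) (BT.node (nat_lit 10813504) (BT.leaf (nat_lit 30769937)) (BT.leaf (nat_lit 39717145)))) (BT.node (nat_lit 10813696) (BT.node (nat_lit 10813632) (BT.leaf (nat_lit 44379925)) (BT.leaf (nat_lit 44379929))) (BT.node (nat_lit 10813701) (BT.leaf (nat_lit 41684257)) (BT.leaf (nat_lit 693432)))))) (BT.node (nat_lit 10814272) (BT.node (nat_lit 10814016) (BT.node (nat_lit 10813888) (BT.node (nat_lit 10813824) (BT.leaf (nat_lit 49727249)) (BT.leaf (nat_lit 39964701))) (BT.node (nat_lit 10813952) (BT.leaf (nat_lit 41220101)) (BT.leaf (nat_lit 43482629)))) (BT.node (nat_lit 10814144) (BT.node (nat_lit 10814080) (BT.leaf (nat_lit 43255817)) (BT.leaf (nat_lit 39653913))) (BT.node (nat_lit 10814208) (BT.leaf (nat_lit 42397709)) (BT.leaf (nat_lit 44763669))))) (BT.node (nat_lit 10814471) (BT.node (nat_lit 10814400) (BT.node (nat_lit 10814336) (BT.leaf (nat_lit 41220385)) (BT.leaf (nat_lit 30772753))) (BT.node (nat_lit 10814464) (BT.leaf (nat_lit 32920585)) (BT.leaf (nat_lit 43846173)))) (BT.node (nat_lit 10814592) (BT.node (nat_lit 10814528) (BT.leaf (nat_lit 685092)) (BT.leaf (nat_lit 42431241))) (BT.node (nat_lit 10814656) (BT.leaf (nat_lit 43846157)) (BT.leaf (nat_lit 41497349)))))))) (BT.node (nat_lit 10816512) (BT.node (nat_lit 10815808) (BT.node (nat_lit 10815296) (BT.node (nat_lit 10814912) (BT.node (nat_lit 10814785) (BT.node (nat_lit 10814784) (BT.leaf (nat_lit 37792017)) (BT.leaf (nat_lit 43075361))) (BT.node (nat_lit 10814848) (BT.leaf (nat_lit 719564)) (BT.leaf (nat_lit 41831441)))) (BT.node (nat_lit 10815104) (BT.node (nat_lit 10815040) (BT.leaf (nat_lit 43489045)) (BT.leaf (nat_lit 46052385))) (BT.node (nat_lit 10815232) (BT.leaf (nat_lit 48966161)) (BT.leaf (nat_lit 47070233))))) (BT.node (nat_lit 10815552) (BT.node (nat_lit 10815424) (BT.node (nat_lit 10815360) (BT.leaf (nat_lit 31372049)) (BT.leaf (nat_lit 30190109))) (BT.node (nat_lit 10815488) (BT.leaf (nat_lit 49642273)) (BT.leaf (nat_lit 49727749)))) (BT.node (nat_lit 10815680) (BT.node (nat_lit 10815616) (BT.leaf (nat_lit 31055377)) (BT.leaf (nat_lit 31055393))) (BT.node (nat_lit 10815744) (BT.leaf (nat_lit 38743825)) (BT.leaf (nat_lit 38743841)))))) (BT.node (nat_lit 10816259) (BT.node (nat_lit 10816064) (BT.node (nat_lit 10815936) (BT.node (nat_lit 10815872) (BT.leaf (nat_lit 47885337)) (BT.leaf (nat_lit 31094545))) (BT.node (nat_lit 10816000) (BT.leaf (nat_lit 31433241)) (BT.leaf (nat_lit 30190093)))) (BT.node (nat_lit 10816192) (BT.node (nat_lit 10816128) (BT.leaf (nat_lit 31433249)) (BT.leaf (nat_lit 39600657))) (BT.node (nat_lit 10816256) (BT.leaf (nat_lit 30157841)) (BT.leaf (nat_lit 38276633))))) (BT.node (nat_lit 10816323) (BT.node (nat_lit 10816320) (BT.node (nat_lit 10816264) (BT.leaf (nat_lit 794248)) (BT.leaf (nat_lit 794248))) (BT.node (nat_lit 10816321) (BT.leaf (nat_lit 38276637)) (BT.leaf (nat_lit 717276)))) (BT.node (nat_lit 10816384) (BT.node (nat_lit 10816328) (BT.leaf (nat_lit 717276)) (BT.leaf (nat_lit 717276))) (BT.node (nat_lit 10816448) (BT.leaf (nat_lit 27617809)) (BT.leaf (nat_lit 52206369))))))) (BT.node (nat_lit 10817408) (BT.node (nat_lit 10816896) (BT.node (nat_lit 10816648) (BT.node (nat_lit 10816640) (BT.node (nat_lit 10816576) (BT.leaf (nat_lit 50770713)) (BT.leaf (nat_lit 30926109))) (BT.node (nat_lit 10816645) (BT.leaf (nat_lit 44099097)) (BT.leaf (nat_lit 689052)))) (BT.node (nat_lit 10816768) (BT.node (nat_lit 10816704) (BT.leaf (nat_lit 689052)) (BT.leaf (nat_lit 41107725))) (BT.node (nat_lit 10816832) (BT.leaf (nat_lit 30196765)) (BT.leaf (nat_lit 44293665))))) (BT.node (nat_lit 10817152) (BT.node (nat_lit 10817024) (BT.node (nat_lit 10816960) (BT.leaf (nat_lit 51293725)) (BT.leaf (nat_lit 30161685))) (BT.node (nat_lit 10817088) (BT.leaf (nat_lit 43267865)) (BT.leaf (nat_lit 39313441)))) (BT.node (nat_lit 10817280) (BT.node (nat_lit 10817216) (BT.leaf (nat_lit 41107737)) (BT.leaf (nat_lit 47460613))) (BT.node (nat_lit 10817344) (BT.leaf (nat_lit 32905489)) (BT.leaf (nat_lit 32411681)))))) (BT.node (nat_lit 10817728) (BT.node (nat_lit 10817472) (BT.node (nat_lit 10817413) (BT.node (nat_lit 10817409) (BT.leaf (nat_lit 47810077)) (BT.leaf (nat_lit 686040))) (BT.node (nat_lit 10817416) (BT.leaf (nat_lit 686040)) (BT.leaf (nat_lit 686040)))) (BT.node (nat_lit 10817600) (BT.node (nat_lit 10817536) (BT.leaf (nat_lit 42404109)) (BT.leaf (nat_lit 30779161))) (BT.node (nat_lit 10817664) (BT.leaf (nat_lit 43463969)) (BT.leaf (nat_lit 43254533))))) (BT.node (nat_lit 10818048) (BT.node (nat_lit 10817920) (BT.node (nat_lit 10817792) (BT.leaf (nat_lit 39873797)) (BT.leaf (nat_lit 37733409))) (BT.node (nat_lit 10817984) (BT.leaf (nat_lit 39873557)) (BT.leaf (nat_lit 30817049)))) (BT.node (nat_lit 10818176) (BT.node (nat_lit 10818112) (BT.leaf (nat_lit 30148885)) (BT.leaf (nat_lit 32891153))) (BT.node (nat_lit 10818240) (BT.leaf (nat_lit 32026401)) (BT.leaf (nat_lit 44147993))))))))) (BT.node (nat_lit 10821888) (BT.node (nat_lit 10820160) (BT.node (nat_lit 10819136) (BT.node (nat_lit 10818688) (BT.node (nat_lit 10818560) (BT.node (nat_lit 10818432) (BT.node (nat_lit 10818368) (BT.leaf (nat_lit 41344033)) (BT.leaf (nat_lit 30848269))) (BT.node (nat_lit 10818496) (BT.leaf (nat_lit 32684557)) (BT.leaf (nat_lit 34325785)))) (BT.node (nat_lit 10818630) (BT.node (nat_lit 10818624) (BT.leaf (nat_lit 30850077)) (BT.leaf (nat_lit 43792913))) (BT.node (nat_lit 10818631) (BT.leaf (nat_lit 788340)) (BT.leaf (nat_lit 788340))))) (BT.node (nat_lit 10818880) (BT.node (nat_lit 10818752) (BT.node (nat_lit 10818692) (BT.leaf (nat_lit 35235357)) (BT.leaf (nat_lit 798844))) (BT.node (nat_lit 10818816) (BT.leaf (nat_lit 28265757)) (BT.leaf (nat_lit 41529609)))) (BT.node (nat_lit 10819008) (BT.node (nat_lit 10818944) (BT.leaf (nat_lit 37874453)) (BT.leaf (nat_lit 30536217))) (BT.node (nat_lit 10819072) (BT.leaf (nat_lit 37861649)) (BT.leaf (nat_lit 30838553)))))) (BT.node (nat_lit 10819648) (BT.node (nat_lit 10819392) (BT.node (nat_lit 10819264) (BT.node (nat_lit 10819200) (BT.leaf (nat_lit 32939273)) (BT.leaf (nat_lit 43329565))) (BT.node (nat_lit 10819328) (BT.leaf (nat_lit 40470301)) (BT.leaf (nat_lit 39315745)))) (BT.node (nat_lit 10819520) (BT.node (nat_lit 10819456) (BT.leaf (nat_lit 41368865)) (BT.leaf (nat_lit 41058849))) (BT.node (nat_lit 10819584) (BT.leaf (nat_lit 41369121)) (BT.leaf (nat_lit 30843913))))) (BT.node (nat_lit 10819904) (BT.node (nat_lit 10819776) (BT.node (nat_lit 10819712) (BT.leaf (nat_lit 39915033)) (BT.leaf (nat_lit 39915037))) (BT.node (nat_lit 10819840) (BT.leaf (nat_lit 37850905)) (BT.leaf (nat_lit 37850909)))) (BT.node (nat_lit 10820032) (BT.node (nat_lit 10819968) (BT.leaf (nat_lit 32199701)) (BT.leaf (nat_lit 43281677))) (BT.node (nat_lit 10820096) (BT.leaf (nat_lit 42056737)) (BT.leaf (nat_lit 40601093))))))) (BT.node (nat_lit 10821120) (BT.node (nat_lit 10820672) (BT.node (nat_lit 10820416) (BT.node (nat_lit 10820288) (BT.node (nat_lit 10820224) (BT.leaf (nat_lit 39458069)) (BT.leaf (nat_lit 40615693))) (BT.node (nat_lit 10820352) (BT.leaf (nat_lit 39487001)) (BT.leaf (nat_lit 49070881)))) (BT.node (nat_lit 10820544) (BT.node (nat_lit 10820480) (BT.leaf (nat_lit 31309317)) (BT.leaf (nat_lit 45272325))) (BT.node (nat_lit 10820608) (BT.leaf (nat_lit 38374677)) (BT.leaf (nat_lit 38378017))))) (BT.node (nat_lit 10820928) (BT.node (nat_lit 10820800) (BT.node (nat_lit 10820736) (BT.leaf (nat_lit 43401733)) (BT.leaf (nat_lit 43282713))) (BT.node (nat_lit 10820864) (BT.leaf (nat_lit 44261665)) (BT.leaf (nat_lit 43551521)))) (BT.node (nat_lit 10821056) (BT.node (nat_lit 10820992) (BT.leaf (nat_lit 34329609)) (BT.leaf (nat_lit 34329613))) (BT.node (nat_lit 10821058) (BT.leaf (nat_lit 30793493)) (BT.leaf (nat_lit 789796)))))) (BT.node (nat_lit 10821504) (BT.node (nat_lit 10821255) (BT.node (nat_lit 10821248) (BT.node (nat_lit 10821184) (BT.leaf (nat_lit 34329625)) (BT.leaf (nat_lit 34329629))) (BT.node (nat_lit 10821251) (BT.leaf (nat_lit 39699205)) (BT.leaf (nat_lit 789800)))) (BT.node (nat_lit 10821376) (BT.node (nat_lit 10821312) (BT.leaf (nat_lit 789800)) (BT.leaf (nat_lit 41972493))) (BT.node (nat_lit 10821440) (BT.leaf (nat_lit 42274833)) (BT.leaf (nat_lit 50055177))))) (BT.node (nat_lit 10821760) (BT.node (nat_lit 10821632) (BT.node (nat_lit 10821568) (BT.leaf (nat_lit 50055181)) (BT.leaf (nat_lit 37923361))) (BT.node (nat_lit 10821696) (BT.leaf (nat_lit 50055193)) (BT.leaf (nat_lit 50055197)))) (BT.node (nat_lit 10821767) (BT.node (nat_lit 10821766) (BT.leaf (nat_lit 46180897)) (BT.leaf (nat_lit 707036))) (BT.node (nat_lit 10821824) (BT.leaf (nat_lit 707036)) (BT.leaf (nat_lit 45436705)))))))) (BT.node (nat_lit 10823936) (BT.node (nat_lit 10822912) (BT.node (nat_lit 10822400) (BT.node (nat_lit 10822144) (BT.node (nat_lit 10822016) (BT.node (nat_lit 10821952) (BT.leaf (nat_lit 45436933)) (BT.leaf (nat_lit 45899797))) (BT.node (nat_lit 10822080) (BT.leaf (nat_lit 49375245)) (BT.leaf (nat_lit 30793745)))) (BT.node (nat_lit 10822272) (BT.node (nat_lit 10822208) (BT.leaf (nat_lit 43004441)) (BT.leaf (nat_lit 43004445))) (BT.node (nat_lit 10822336) (BT.leaf (nat_lit 46256413)) (BT.leaf (nat_lit 42911777))))) (BT.node (nat_lit 10822656) (BT.node (nat_lit 10822528) (BT.node (nat_lit 10822464) (BT.leaf (nat_lit 29868037)) (BT.leaf (nat_lit 31311109))) (BT.node (nat_lit 10822592) (BT.leaf (nat_lit 32266017)) (BT.leaf (nat_lit 50597409)))) (BT.node (nat_lit 10822784) (BT.node (nat_lit 10822720) (BT.leaf (nat_lit 50325013)) (BT.leaf (nat_lit 30561565))) (BT.node (nat_lit 10822848) (BT.leaf (nat_lit 30803741)) (BT.leaf (nat_lit 38232337)))))) (BT.node (nat_lit 10823424) (BT.node (nat_lit 10823168) (BT.node (nat_lit 10823040) (BT.node (nat_lit 10822976) (BT.leaf (nat_lit 52147233)) (BT.leaf (nat_lit 30804505))) (BT.node (nat_lit 10823104) (BT.leaf (nat_lit 30807313)) (BT.leaf (nat_lit 30810121)))) (BT.node (nat_lit 10823296) (BT.node (nat_lit 10823232) (BT.leaf (nat_lit 30806545)) (BT.leaf (nat_lit 45806365))) (BT.node (nat_lit 10823360) (BT.leaf (nat_lit 30810145)) (BT.leaf (nat_lit 43894817))))) (BT.node (nat_lit 10823680) (BT.node (nat_lit 10823552) (BT.node (nat_lit 10823488) (BT.leaf (nat_lit 45789209)) (BT.leaf (nat_lit 45789213))) (BT.node (nat_lit 10823616) (BT.leaf (nat_lit 47872545)) (BT.leaf (nat_lit 45519109)))) (BT.node (nat_lit 10823808) (BT.node (nat_lit 10823744) (BT.leaf (nat_lit 40632353)) (BT.leaf (nat_lit 40408097))) (BT.node (nat_lit 10823872) (BT.leaf (nat_lit 31793933)) (BT.leaf (nat_lit 41519125))))))) (BT.node (nat_lit 10824960) (BT.node (nat_lit 10824448) (BT.node (nat_lit 10824192) (BT.node (nat_lit 10824064) (BT.node (nat_lit 10824000) (BT.leaf (nat_lit 31793945)) (BT.leaf (nat_lit 31793949))) (BT.node (nat_lit 10824128) (BT.leaf (nat_lit 32259349)) (BT.leaf (nat_lit 40870161)))) (BT.node (nat_lit 10824320) (BT.node (nat_lit 10824256) (BT.leaf (nat_lit 40870165)) (BT.leaf (nat_lit 30810141))) (BT.node (nat_lit 10824384) (BT.leaf (nat_lit 32358673)) (BT.leaf (nat_lit 30810137))))) (BT.node (nat_lit 10824704) (BT.node (nat_lit 10824576) (BT.node (nat_lit 10824512) (BT.leaf (nat_lit 41519129)) (BT.leaf (nat_lit 41519133))) (BT.node (nat_lit 10824640) (BT.leaf (nat_lit 39943689)) (BT.leaf (nat_lit 39943693)))) (BT.node (nat_lit 10824832) (BT.node (nat_lit 10824768) (BT.leaf (nat_lit 34315797)) (BT.leaf (nat_lit 39943705))) (BT.node (nat_lit 10824896) (BT.leaf (nat_lit 36843553)) (BT.leaf (nat_lit 30814745)))))) (BT.node (nat_lit 10825472) (BT.node (nat_lit 10825216) (BT.node (nat_lit 10825088) (BT.node (nat_lit 10825024) (BT.leaf (nat_lit 39211801)) (BT.leaf (nat_lit 37755157))) (BT.node (nat_lit 10825152) (BT.leaf (nat_lit 34907141)) (BT.leaf (nat_lit 30816285)))) (BT.node (nat_lit 10825344) (BT.node (nat_lit 10825280) (BT.leaf (nat_lit 30174745)) (BT.leaf (nat_lit 29153817))) (BT.node (nat_lit 10825408) (BT.leaf (nat_lit 30783517)) (BT.leaf (nat_lit 38147857))))) (BT.node (nat_lit 10825728) (BT.node (nat_lit 10825600) (BT.node (nat_lit 10825536) (BT.leaf (nat_lit 49447969)) (BT.leaf (nat_lit 43272965))) (BT.node (nat_lit 10825664) (BT.leaf (nat_lit 44998929)) (BT.leaf (nat_lit 43333637)))) (BT.node (nat_lit 10825856) (BT.node (nat_lit 10825792) (BT.leaf (nat_lit 29505565)) (BT.leaf (nat_lit 40548641))) (BT.node (nat_lit 10825920) (BT.leaf (nat_lit 50934813)) (BT.leaf (nat_lit 45001505)))))))))) (BT.node (nat_lit 10834240) (BT.node (nat_lit 10830144) (BT.node (nat_lit 10827904) (BT.node (nat_lit 10826944) (BT.node (nat_lit 10826432) (BT.node (nat_lit 10826240) (BT.node (nat_lit 10826112) (BT.node (nat_lit 10826048) (BT.leaf (nat_lit 47859221)) (BT.leaf (nat_lit 44509969))) (BT.node (nat_lit 10826176) (BT.leaf (nat_lit 30576133)) (BT.leaf (nat_lit 46147353)))) (BT.node (nat_lit 10826368) (BT.node (nat_lit 10826304) (BT.leaf (nat_lit 50837009)) (BT.leaf (nat_lit 38854173))) (BT.node (nat_lit 10826374) (BT.leaf (nat_lit 39913761)) (BT.leaf (nat_lit 717432))))) (BT.node (nat_lit 10826688) (BT.node (nat_lit 10826560) (BT.node (nat_lit 10826496) (BT.leaf (nat_lit 32470805)) (BT.leaf (nat_lit 30818077))) (BT.node (nat_lit 10826624) (BT.leaf (nat_lit 32679689)) (BT.leaf (nat_lit 40300045)))) (BT.node (nat_lit 10826816) (BT.node (nat_lit 10826752) (BT.leaf (nat_lit 30821401)) (BT.leaf (nat_lit 37702937))) (BT.node (nat_lit 10826880) (BT.leaf (nat_lit 37702941)) (BT.leaf (nat_lit 30821137)))))) (BT.node (nat_lit 10827456) (BT.node (nat_lit 10827200) (BT.node (nat_lit 10827072) (BT.node (nat_lit 10827008) (BT.leaf (nat_lit 30822417)) (BT.leaf (nat_lit 30822161))) (BT.node (nat_lit 10827136) (BT.leaf (nat_lit 39904545)) (BT.leaf (nat_lit 39308317)))) (BT.node (nat_lit 10827328) (BT.node (nat_lit 10827264) (BT.leaf (nat_lit 42141973)) (BT.leaf (nat_lit 45811469))) (BT.node (nat_lit 10827392) (BT.leaf (nat_lit 35221785)) (BT.leaf (nat_lit 30583325))))) (BT.node (nat_lit 10827648) (BT.node (nat_lit 10827521) (BT.node (nat_lit 10827520) (BT.leaf (nat_lit 37809925)) (BT.leaf (nat_lit 28509209))) (BT.node (nat_lit 10827584) (BT.leaf (nat_lit 710148)) (BT.leaf (nat_lit 32680221)))) (BT.node (nat_lit 10827776) (BT.node (nat_lit 10827712) (BT.leaf (nat_lit 46941721)) (BT.leaf (nat_lit 30823449))) (BT.node (nat_lit 10827840) (BT.leaf (nat_lit 43204617)) (BT.leaf (nat_lit 49564441))))))) (BT.node (nat_lit 10829120) (BT.node (nat_lit 10828544) (BT.node (nat_lit 10828160) (BT.node (nat_lit 10828032) (BT.node (nat_lit 10827968) (BT.leaf (nat_lit 32758533)) (BT.leaf (nat_lit 30925061))) (BT.node (nat_lit 10828096) (BT.leaf (nat_lit 27964181)) (BT.leaf (nat_lit 44804869)))) (BT.node (nat_lit 10828288) (BT.node (nat_lit 10828224) (BT.leaf (nat_lit 45555473)) (BT.leaf (nat_lit 44826125))) (BT.node (nat_lit 10828352) (BT.leaf (nat_lit 30925073)) (BT.leaf (nat_lit 40312349))))) (BT.node (nat_lit 10828864) (BT.node (nat_lit 10828672) (BT.node (nat_lit 10828608) (BT.leaf (nat_lit 36401941)) (BT.leaf (nat_lit 42925089))) (BT.node (nat_lit 10828800) (BT.leaf (nat_lit 37844245)) (BT.leaf (nat_lit 30826249)))) (BT.node (nat_lit 10828992) (BT.node (nat_lit 10828928) (BT.leaf (nat_lit 30826253)) (BT.leaf (nat_lit 30827029))) (BT.node (nat_lit 10829056) (BT.leaf (nat_lit 45972501)) (BT.leaf (nat_lit 49635337)))))) (BT.node (nat_lit 10829632) (BT.node (nat_lit 10829376) (BT.node (nat_lit 10829248) (BT.node (nat_lit 10829184) (BT.leaf (nat_lit 43312153)) (BT.leaf (nat_lit 34318109))) (BT.node (nat_lit 10829312) (BT.leaf (nat_lit 30826269)) (BT.leaf (nat_lit 30826777)))) (BT.node (nat_lit 10829504) (BT.node (nat_lit 10829440) (BT.leaf (nat_lit 30826265)) (BT.leaf (nat_lit 30826529))) (BT.node (nat_lit 10829568) (BT.leaf (nat_lit 44259605)) (BT.leaf (nat_lit 39080217))))) (BT.node (nat_lit 10829888) (BT.node (nat_lit 10829760) (BT.node (nat_lit 10829696) (BT.leaf (nat_lit 30827289)) (BT.leaf (nat_lit 45975317))) (BT.node (nat_lit 10829824) (BT.leaf (nat_lit 45972249)) (BT.leaf (nat_lit 30827293)))) (BT.node (nat_lit 10830016) (BT.node (nat_lit 10829952) (BT.leaf (nat_lit 44804881)) (BT.leaf (nat_lit 32781089))) (BT.node (nat_lit 10830080) (BT.leaf (nat_lit 30828565)) (BT.leaf (nat_lit 38327813)))))))) (BT.node (nat_lit 10832192) (BT.node (nat_lit 10831104) (BT.node (nat_lit 10830592) (BT.node (nat_lit 10830400) (BT.node (nat_lit 10830272) (BT.node (nat_lit 10830208) (BT.leaf (nat_lit 34578449)) (BT.leaf (nat_lit 43370781))) (BT.node (nat_lit 10830336) (BT.leaf (nat_lit 30828317)) (BT.leaf (nat_lit 41579025)))) (BT.node (nat_lit 10830468) (BT.node (nat_lit 10830464) (BT.leaf (nat_lit 31370773)) (BT.leaf (nat_lit 38588445))) (BT.node (nat_lit 10830528) (BT.leaf (nat_lit 698728)) (BT.leaf (nat_lit 31852553))))) (BT.node (nat_lit 10830848) (BT.node (nat_lit 10830720) (BT.node (nat_lit 10830656) (BT.leaf (nat_lit 29156121)) (BT.leaf (nat_lit 30819605))) (BT.node (nat_lit 10830784) (BT.leaf (nat_lit 43387165)) (BT.leaf (nat_lit 51111201)))) (BT.node (nat_lit 10830976) (BT.node (nat_lit 10830912) (BT.leaf (nat_lit 47878945)) (BT.leaf (nat_lit 37870365))) (BT.node (nat_lit 10831040) (BT.leaf (nat_lit 34319381)) (BT.leaf (nat_lit 30834449)))))) (BT.node (nat_lit 10831680) (BT.node (nat_lit 10831360) (BT.node (nat_lit 10831232) (BT.node (nat_lit 10831168) (BT.leaf (nat_lit 30834193)) (BT.leaf (nat_lit 30833937))) (BT.node (nat_lit 10831296) (BT.leaf (nat_lit 35234065)) (BT.leaf (nat_lit 32684321)))) (BT.node (nat_lit 10831488) (BT.node (nat_lit 10831424) (BT.leaf (nat_lit 39126301)) (BT.leaf (nat_lit 43325981))) (BT.node (nat_lit 10831616) (BT.leaf (nat_lit 42453773)) (BT.leaf (nat_lit 42956065))))) (BT.node (nat_lit 10831936) (BT.node (nat_lit 10831808) (BT.node (nat_lit 10831744) (BT.leaf (nat_lit 39365129)) (BT.leaf (nat_lit 49656341))) (BT.node (nat_lit 10831872) (BT.leaf (nat_lit 49763093)) (BT.leaf (nat_lit 43508505)))) (BT.node (nat_lit 10832064) (BT.node (nat_lit 10832000) (BT.leaf (nat_lit 43329813)) (BT.leaf (nat_lit 41492753))) (BT.node (nat_lit 10832128) (BT.leaf (nat_lit 50544901)) (BT.leaf (nat_lit 41494037))))))) (BT.node (nat_lit 10833216) (BT.node (nat_lit 10832704) (BT.node (nat_lit 10832448) (BT.node (nat_lit 10832320) (BT.node (nat_lit 10832256) (BT.leaf (nat_lit 30838557)) (BT.leaf (nat_lit 39412229))) (BT.node (nat_lit 10832384) (BT.leaf (nat_lit 32612381)) (BT.leaf (nat_lit 30885649)))) (BT.node (nat_lit 10832576) (BT.node (nat_lit 10832512) (BT.leaf (nat_lit 31410201)) (BT.leaf (nat_lit 31410205))) (BT.node (nat_lit 10832640) (BT.leaf (nat_lit 39265553)) (BT.leaf (nat_lit 49571333))))) (BT.node (nat_lit 10832960) (BT.node (nat_lit 10832832) (BT.node (nat_lit 10832768) (BT.leaf (nat_lit 32939277)) (BT.leaf (nat_lit 43329561))) (BT.node (nat_lit 10832896) (BT.leaf (nat_lit 40320545)) (BT.leaf (nat_lit 32939285)))) (BT.node (nat_lit 10833088) (BT.node (nat_lit 10833024) (BT.leaf (nat_lit 32939289)) (BT.leaf (nat_lit 32939293))) (BT.node (nat_lit 10833152) (BT.leaf (nat_lit 35039249)) (BT.leaf (nat_lit 30889485)))))) (BT.node (nat_lit 10833728) (BT.node (nat_lit 10833472) (BT.node (nat_lit 10833344) (BT.node (nat_lit 10833280) (BT.leaf (nat_lit 30844433)) (BT.leaf (nat_lit 30848261))) (BT.node (nat_lit 10833408) (BT.leaf (nat_lit 43338245)) (BT.leaf (nat_lit 44146965)))) (BT.node (nat_lit 10833600) (BT.node (nat_lit 10833536) (BT.leaf (nat_lit 42966021)) (BT.leaf (nat_lit 44163093))) (BT.node (nat_lit 10833664) (BT.leaf (nat_lit 40956421)) (BT.leaf (nat_lit 30846481))))) (BT.node (nat_lit 10833984) (BT.node (nat_lit 10833856) (BT.node (nat_lit 10833792) (BT.leaf (nat_lit 30846225)) (BT.leaf (nat_lit 29155861))) (BT.node (nat_lit 10833920) (BT.leaf (nat_lit 42968097)) (BT.leaf (nat_lit 30847761)))) (BT.node (nat_lit 10834112) (BT.node (nat_lit 10834048) (BT.leaf (nat_lit 30784785)) (BT.leaf (nat_lit 40293653))) (BT.node (nat_lit 10834176) (BT.leaf (nat_lit 40953353)) (BT.leaf (nat_lit 41761801))))))))) (BT.node (nat_lit 10838144) (BT.node (nat_lit 10836032) (BT.node (nat_lit 10835136) (BT.node (nat_lit 10834752) (BT.node (nat_lit 10834496) (BT.node (nat_lit 10834368) (BT.node (nat_lit 10834304) (BT.leaf (nat_lit 30844945)) (BT.leaf (nat_lit 31697429))) (BT.node (nat_lit 10834432) (BT.leaf (nat_lit 49719061)) (BT.leaf (nat_lit 44349713)))) (BT.node (nat_lit 10834624) (BT.node (nat_lit 10834560) (BT.leaf (nat_lit 30845981)) (BT.leaf (nat_lit 41455121))) (BT.node (nat_lit 10834688) (BT.leaf (nat_lit 50472481)) (BT.leaf (nat_lit 40646677))))) (BT.node (nat_lit 10834880) (BT.node (nat_lit 10834817) (BT.node (nat_lit 10834816) (BT.leaf (nat_lit 51648281)) (BT.leaf (nat_lit 40646685))) (BT.node (nat_lit 10834820) (BT.leaf (nat_lit 807000)) (BT.leaf (nat_lit 807000)))) (BT.node (nat_lit 10835008) (BT.node (nat_lit 10834944) (BT.leaf (nat_lit 44742945)) (BT.leaf (nat_lit 41000969))) (BT.node (nat_lit 10835072) (BT.leaf (nat_lit 41000973)) (BT.leaf (nat_lit 34328597)))))) (BT.node (nat_lit 10835587) (BT.node (nat_lit 10835392) (BT.node (nat_lit 10835264) (BT.node (nat_lit 10835200) (BT.leaf (nat_lit 38560521)) (BT.leaf (nat_lit 30537749))) (BT.node (nat_lit 10835328) (BT.leaf (nat_lit 44356625)) (BT.leaf (nat_lit 31154709)))) (BT.node (nat_lit 10835520) (BT.node (nat_lit 10835456) (BT.leaf (nat_lit 40753441)) (BT.leaf (nat_lit 49873429))) (BT.node (nat_lit 10835584) (BT.leaf (nat_lit 39699473)) (BT.leaf (nat_lit 31322133))))) (BT.node (nat_lit 10835776) (BT.node (nat_lit 10835648) (BT.node (nat_lit 10835592) (BT.leaf (nat_lit 806448)) (BT.leaf (nat_lit 806448))) (BT.node (nat_lit 10835712) (BT.leaf (nat_lit 28488465)) (BT.leaf (nat_lit 30851345)))) (BT.node (nat_lit 10835904) (BT.node (nat_lit 10835840) (BT.leaf (nat_lit 29474325)) (BT.leaf (nat_lit 50508053))) (BT.node (nat_lit 10835968) (BT.leaf (nat_lit 30852361)) (BT.leaf (nat_lit 30852365))))))) (BT.node (nat_lit 10837120) (BT.node (nat_lit 10836608) (BT.node (nat_lit 10836416) (BT.node (nat_lit 10836160) (BT.node (nat_lit 10836096) (BT.leaf (nat_lit 30614301)) (BT.leaf (nat_lit 52190229))) (BT.node (nat_lit 10836288) (BT.leaf (nat_lit 43344409)) (BT.leaf (nat_lit 30852381)))) (BT.node (nat_lit 10836483) (BT.node (nat_lit 10836480) (BT.leaf (nat_lit 30852377)) (BT.leaf (nat_lit 35048981))) (BT.node (nat_lit 10836544) (BT.leaf (nat_lit 689888)) (BT.leaf (nat_lit 47310853))))) (BT.node (nat_lit 10836864) (BT.node (nat_lit 10836736) (BT.node (nat_lit 10836672) (BT.leaf (nat_lit 31602973)) (BT.leaf (nat_lit 38223633))) (BT.node (nat_lit 10836800) (BT.leaf (nat_lit 41397253)) (BT.leaf (nat_lit 43342617)))) (BT.node (nat_lit 10836992) (BT.node (nat_lit 10836928) (BT.leaf (nat_lit 32666657)) (BT.leaf (nat_lit 39516677))) (BT.node (nat_lit 10837056) (BT.leaf (nat_lit 39516933)) (BT.leaf (nat_lit 35587361)))))) (BT.node (nat_lit 10837632) (BT.node (nat_lit 10837376) (BT.node (nat_lit 10837248) (BT.node (nat_lit 10837184) (BT.leaf (nat_lit 41857541)) (BT.leaf (nat_lit 46963717))) (BT.node (nat_lit 10837312) (BT.leaf (nat_lit 30856453)) (BT.leaf (nat_lit 37999625)))) (BT.node (nat_lit 10837504) (BT.node (nat_lit 10837440) (BT.leaf (nat_lit 46886405)) (BT.leaf (nat_lit 49988357))) (BT.node (nat_lit 10837568) (BT.leaf (nat_lit 37999641)) (BT.leaf (nat_lit 37999645))))) (BT.node (nat_lit 10837888) (BT.node (nat_lit 10837760) (BT.node (nat_lit 10837696) (BT.leaf (nat_lit 41418261)) (BT.leaf (nat_lit 43350537))) (BT.node (nat_lit 10837824) (BT.leaf (nat_lit 36113697)) (BT.leaf (nat_lit 42637337)))) (BT.node (nat_lit 10838016) (BT.node (nat_lit 10837952) (BT.leaf (nat_lit 42637341)) (BT.leaf (nat_lit 30857249))) (BT.node (nat_lit 10838080) (BT.leaf (nat_lit 41414665)) (BT.leaf (nat_lit 49601297)))))))) (BT.node (nat_lit 10840128) (BT.node (nat_lit 10839104) (BT.node (nat_lit 10838656) (BT.node (nat_lit 10838400) (BT.node (nat_lit 10838272) (BT.node (nat_lit 10838208) (BT.leaf (nat_lit 37911321)) (BT.leaf (nat_lit 37911325))) (BT.node (nat_lit 10838336) (BT.leaf (nat_lit 44977681)) (BT.leaf (nat_lit 45984033)))) (BT.node (nat_lit 10838528) (BT.node (nat_lit 10838464) (BT.leaf (nat_lit 44560925)) (BT.leaf (nat_lit 34716437))) (BT.node (nat_lit 10838592) (BT.leaf (nat_lit 34716949)) (BT.leaf (nat_lit 39305505))))) (BT.node (nat_lit 10838849) (BT.node (nat_lit 10838784) (BT.node (nat_lit 10838720) (BT.leaf (nat_lit 34357017)) (BT.leaf (nat_lit 43008033))) (BT.node (nat_lit 10838848) (BT.leaf (nat_lit 43393293)) (BT.leaf (nat_lit 39841045)))) (BT.node (nat_lit 10838977) (BT.node (nat_lit 10838976) (BT.leaf (nat_lit 687272)) (BT.leaf (nat_lit 36049689))) (BT.node (nat_lit 10839040) (BT.leaf (nat_lit 804488)) (BT.leaf (nat_lit 43395597)))))) (BT.node (nat_lit 10839616) (BT.node (nat_lit 10839360) (BT.node (nat_lit 10839232) (BT.node (nat_lit 10839168) (BT.leaf (nat_lit 30896905)) (BT.leaf (nat_lit 41701389))) (BT.node (nat_lit 10839296) (BT.leaf (nat_lit 43799329)) (BT.leaf (nat_lit 42307345)))) (BT.node (nat_lit 10839488) (BT.node (nat_lit 10839424) (BT.leaf (nat_lit 44348165)) (BT.leaf (nat_lit 32432905))) (BT.node (nat_lit 10839552) (BT.leaf (nat_lit 46647577)) (BT.leaf (nat_lit 46647581))))) (BT.node (nat_lit 10839872) (BT.node (nat_lit 10839744) (BT.node (nat_lit 10839680) (BT.leaf (nat_lit 31756037)) (BT.leaf (nat_lit 31756053))) (BT.node (nat_lit 10839808) (BT.leaf (nat_lit 31756057)) (BT.leaf (nat_lit 31756061)))) (BT.node (nat_lit 10840000) (BT.node (nat_lit 10839936) (BT.leaf (nat_lit 46083337)) (BT.leaf (nat_lit 49847045))) (BT.node (nat_lit 10840064) (BT.leaf (nat_lit 30863877)) (BT.leaf (nat_lit 48514061))))))) (BT.node (nat_lit 10841152) (BT.node (nat_lit 10840640) (BT.node (nat_lit 10840384) (BT.node (nat_lit 10840256) (BT.node (nat_lit 10840192) (BT.leaf (nat_lit 43185169)) (BT.leaf (nat_lit 30897945))) (BT.node (nat_lit 10840320) (BT.leaf (nat_lit 49460753)) (BT.leaf (nat_lit 30813713)))) (BT.node (nat_lit 10840512) (BT.node (nat_lit 10840448) (BT.leaf (nat_lit 37878041)) (BT.leaf (nat_lit 37878045))) (BT.node (nat_lit 10840576) (BT.leaf (nat_lit 44196637)) (BT.leaf (nat_lit 29188369))))) (BT.node (nat_lit 10840896) (BT.node (nat_lit 10840768) (BT.node (nat_lit 10840704) (BT.leaf (nat_lit 30864657)) (BT.leaf (nat_lit 39169045))) (BT.node (nat_lit 10840832) (BT.leaf (nat_lit 38193433)) (BT.leaf (nat_lit 38193437)))) (BT.node (nat_lit 10841024) (BT.node (nat_lit 10840960) (BT.leaf (nat_lit 38988805)) (BT.leaf (nat_lit 39459345))) (BT.node (nat_lit 10841088) (BT.leaf (nat_lit 40770053)) (BT.leaf (nat_lit 30866193)))))) (BT.node (nat_lit 10841664) (BT.node (nat_lit 10841408) (BT.node (nat_lit 10841280) (BT.node (nat_lit 10841216) (BT.leaf (nat_lit 43584021)) (BT.leaf (nat_lit 43399957))) (BT.node (nat_lit 10841344) (BT.leaf (nat_lit 30866693)) (BT.leaf (nat_lit 43365661)))) (BT.node (nat_lit 10841536) (BT.node (nat_lit 10841472) (BT.leaf (nat_lit 42308357)) (BT.leaf (nat_lit 43050265))) (BT.node (nat_lit 10841600) (BT.leaf (nat_lit 45056009)) (BT.leaf (nat_lit 30865693))))) (BT.node (nat_lit 10841920) (BT.node (nat_lit 10841792) (BT.node (nat_lit 10841728) (BT.leaf (nat_lit 44342289)) (BT.leaf (nat_lit 48857365))) (BT.node (nat_lit 10841856) (BT.leaf (nat_lit 42412569)) (BT.leaf (nat_lit 42412573)))) (BT.node (nat_lit 10842048) (BT.node (nat_lit 10841984) (BT.leaf (nat_lit 41413661)) (BT.leaf (nat_lit 31224081))) (BT.node (nat_lit 10842112) (BT.leaf (nat_lit 33806869)) (BT.leaf (nat_lit 31493149))))))))))) (BT.node (nat_lit 10856896) (BT.node (nat_lit 10849344) (BT.node (nat_lit 10845760) (BT.node (nat_lit 10843970) (BT.node (nat_lit 10843136) (BT.node (nat_lit 10842624) (BT.node (nat_lit 10842432) (BT.node (nat_lit 10842304) (BT.node (nat_lit 10842240) (BT.leaf (nat_lit 32515601)) (BT.leaf (nat_lit 30867205))) (BT.node (nat_lit 10842368) (BT.leaf (nat_lit 35212313)) (BT.leaf (nat_lit 38328593)))) (BT.node (nat_lit 10842560) (BT.node (nat_lit 10842496) (BT.leaf (nat_lit 29177117)) (BT.leaf (nat_lit 34922013))) (BT.node (nat_lit 10842561) (BT.leaf (nat_lit 33002257)) (BT.leaf (nat_lit 757656))))) (BT.node (nat_lit 10842880) (BT.node (nat_lit 10842752) (BT.node (nat_lit 10842688) (BT.leaf (nat_lit 30869277)) (BT.leaf (nat_lit 46645525))) (BT.node (nat_lit 10842816) (BT.leaf (nat_lit 46278149)) (BT.leaf (nat_lit 38297889)))) (BT.node (nat_lit 10843008) (BT.node (nat_lit 10842944) (BT.leaf (nat_lit 34922269)) (BT.leaf (nat_lit 30968085))) (BT.node (nat_lit 10843072) (BT.leaf (nat_lit 34051849)) (BT.leaf (nat_lit 45686281)))))) (BT.node (nat_lit 10843648) (BT.node (nat_lit 10843392) (BT.node (nat_lit 10843264) (BT.node (nat_lit 10843200) (BT.leaf (nat_lit 48351509)) (BT.leaf (nat_lit 48960281))) (BT.node (nat_lit 10843328) (BT.leaf (nat_lit 34922525)) (BT.leaf (nat_lit 41653261)))) (BT.node (nat_lit 10843520) (BT.node (nat_lit 10843456) (BT.leaf (nat_lit 45549061)) (BT.leaf (nat_lit 41260313))) (BT.node (nat_lit 10843584) (BT.leaf (nat_lit 29176861)) (BT.leaf (nat_lit 34937629))))) (BT.node (nat_lit 10843840) (BT.node (nat_lit 10843712) (BT.node (nat_lit 10843656) (BT.leaf (nat_lit 41863945)) (BT.leaf (nat_lit 797016))) (BT.node (nat_lit 10843776) (BT.leaf (nat_lit 30901789)) (BT.leaf (nat_lit 31497989)))) (BT.node (nat_lit 10843968) (BT.node (nat_lit 10843904) (BT.leaf (nat_lit 31497993)) (BT.leaf (nat_lit 39529745))) (BT.node (nat_lit 10843969) (BT.leaf (nat_lit 33008409)) (BT.leaf (nat_lit 699056))))))) (BT.node (nat_lit 10844992) (BT.node (nat_lit 10844480) (BT.node (nat_lit 10844224) (BT.node (nat_lit 10844096) (BT.node (nat_lit 10844032) (BT.leaf (nat_lit 699056)) (BT.leaf (nat_lit 31498009))) (BT.node (nat_lit 10844160) (BT.leaf (nat_lit 31498013)) (BT.leaf (nat_lit 47336465)))) (BT.node (nat_lit 10844352) (BT.node (nat_lit 10844288) (BT.leaf (nat_lit 29222933)) (BT.leaf (nat_lit 31488533))) (BT.node (nat_lit 10844416) (BT.leaf (nat_lit 34344469)) (BT.leaf (nat_lit 32552477))))) (BT.node (nat_lit 10844736) (BT.node (nat_lit 10844608) (BT.node (nat_lit 10844544) (BT.leaf (nat_lit 29493269)) (BT.leaf (nat_lit 32824073))) (BT.node (nat_lit 10844672) (BT.leaf (nat_lit 44590349)) (BT.leaf (nat_lit 34344725)))) (BT.node (nat_lit 10844864) (BT.node (nat_lit 10844800) (BT.leaf (nat_lit 44590361)) (BT.leaf (nat_lit 44590365))) (BT.node (nat_lit 10844928) (BT.leaf (nat_lit 30663445)) (BT.leaf (nat_lit 46951705)))))) (BT.node (nat_lit 10845315) (BT.node (nat_lit 10845248) (BT.node (nat_lit 10845120) (BT.node (nat_lit 10845056) (BT.leaf (nat_lit 33434897)) (BT.leaf (nat_lit 35072273))) (BT.node (nat_lit 10845184) (BT.leaf (nat_lit 49034273)) (BT.leaf (nat_lit 46001953)))) (BT.node (nat_lit 10845251) (BT.node (nat_lit 10845250) (BT.leaf (nat_lit 31999509)) (BT.leaf (nat_lit 680232))) (BT.node (nat_lit 10845312) (BT.leaf (nat_lit 680232)) (BT.leaf (nat_lit 44931349))))) (BT.node (nat_lit 10845568) (BT.node (nat_lit 10845440) (BT.node (nat_lit 10845376) (BT.leaf (nat_lit 680216)) (BT.leaf (nat_lit 38482965))) (BT.node (nat_lit 10845504) (BT.leaf (nat_lit 32072197)) (BT.leaf (nat_lit 45607441)))) (BT.node (nat_lit 10845633) (BT.node (nat_lit 10845632) (BT.leaf (nat_lit 29239577)) (BT.leaf (nat_lit 48337173))) (BT.node (nat_lit 10845696) (BT.leaf (nat_lit 816252)) (BT.leaf (nat_lit 30877973)))))))) (BT.node (nat_lit 10847616) (BT.node (nat_lit 10846720) (BT.node (nat_lit 10846208) (BT.node (nat_lit 10846016) (BT.node (nat_lit 10845888) (BT.node (nat_lit 10845824) (BT.leaf (nat_lit 38567697)) (BT.leaf (nat_lit 40762389))) (BT.node (nat_lit 10845952) (BT.leaf (nat_lit 32405533)) (BT.leaf (nat_lit 47654921)))) (BT.node (nat_lit 10846080) (BT.node (nat_lit 10846021) (BT.leaf (nat_lit 47723553)) (BT.leaf (nat_lit 771296))) (BT.node (nat_lit 10846144) (BT.leaf (nat_lit 36054805)) (BT.leaf (nat_lit 45040133))))) (BT.node (nat_lit 10846408) (BT.node (nat_lit 10846336) (BT.node (nat_lit 10846272) (BT.leaf (nat_lit 30884113)) (BT.leaf (nat_lit 30834961))) (BT.node (nat_lit 10846400) (BT.leaf (nat_lit 37976341)) (BT.leaf (nat_lit 32899589)))) (BT.node (nat_lit 10846592) (BT.node (nat_lit 10846528) (BT.leaf (nat_lit 776804)) (BT.leaf (nat_lit 30883601))) (BT.node (nat_lit 10846656) (BT.leaf (nat_lit 43110917)) (BT.leaf (nat_lit 50800929)))))) (BT.node (nat_lit 10847168) (BT.node (nat_lit 10846976) (BT.node (nat_lit 10846848) (BT.node (nat_lit 10846784) (BT.leaf (nat_lit 41872657)) (BT.leaf (nat_lit 47562785))) (BT.node (nat_lit 10846912) (BT.leaf (nat_lit 50800909)) (BT.leaf (nat_lit 34354965)))) (BT.node (nat_lit 10847104) (BT.node (nat_lit 10847040) (BT.leaf (nat_lit 39882513)) (BT.leaf (nat_lit 31237649))) (BT.node (nat_lit 10847112) (BT.leaf (nat_lit 48680717)) (BT.leaf (nat_lit 758912))))) (BT.node (nat_lit 10847365) (BT.node (nat_lit 10847296) (BT.node (nat_lit 10847232) (BT.leaf (nat_lit 43013921)) (BT.leaf (nat_lit 43313929))) (BT.node (nat_lit 10847360) (BT.leaf (nat_lit 30826765)) (BT.leaf (nat_lit 43318025)))) (BT.node (nat_lit 10847488) (BT.node (nat_lit 10847424) (BT.leaf (nat_lit 767904)) (BT.leaf (nat_lit 31514385))) (BT.node (nat_lit 10847552) (BT.leaf (nat_lit 32969745)) (BT.leaf (nat_lit 34318089))))))) (BT.node (nat_lit 10848578) (BT.node (nat_lit 10848128) (BT.node (nat_lit 10847872) (BT.node (nat_lit 10847744) (BT.node (nat_lit 10847680) (BT.leaf (nat_lit 30889761)) (BT.leaf (nat_lit 41436961))) (BT.node (nat_lit 10847808) (BT.leaf (nat_lit 45815049)) (BT.leaf (nat_lit 32970273)))) (BT.node (nat_lit 10848000) (BT.node (nat_lit 10847936) (BT.leaf (nat_lit 43315225)) (BT.leaf (nat_lit 32483601))) (BT.node (nat_lit 10848064) (BT.leaf (nat_lit 32667417)) (BT.leaf (nat_lit 44107793))))) (BT.node (nat_lit 10848384) (BT.node (nat_lit 10848256) (BT.node (nat_lit 10848192) (BT.leaf (nat_lit 43344397)) (BT.leaf (nat_lit 42979097))) (BT.node (nat_lit 10848320) (BT.leaf (nat_lit 49533449)) (BT.leaf (nat_lit 45452293)))) (BT.node (nat_lit 10848512) (BT.node (nat_lit 10848448) (BT.leaf (nat_lit 32091909)) (BT.leaf (nat_lit 43632917))) (BT.node (nat_lit 10848576) (BT.leaf (nat_lit 30859801)) (BT.leaf (nat_lit 39175445)))))) (BT.node (nat_lit 10848832) (BT.node (nat_lit 10848640) (BT.node (nat_lit 10848583) (BT.node (nat_lit 10848582) (BT.leaf (nat_lit 688980)) (BT.leaf (nat_lit 688980))) (BT.node (nat_lit 10848584) (BT.leaf (nat_lit 688980)) (BT.leaf (nat_lit 688980)))) (BT.node (nat_lit 10848768) (BT.node (nat_lit 10848704) (BT.leaf (nat_lit 34357525)) (BT.leaf (nat_lit 40792353))) (BT.node (nat_lit 10848775) (BT.leaf (nat_lit 49380877)) (BT.leaf (nat_lit 717260))))) (BT.node (nat_lit 10849088) (BT.node (nat_lit 10848960) (BT.node (nat_lit 10848896) (BT.leaf (nat_lit 43395613)) (BT.leaf (nat_lit 50824725))) (BT.node (nat_lit 10849024) (BT.leaf (nat_lit 32151057)) (BT.leaf (nat_lit 31727129)))) (BT.node (nat_lit 10849216) (BT.node (nat_lit 10849152) (BT.leaf (nat_lit 31727133)) (BT.leaf (nat_lit 32150293))) (BT.node (nat_lit 10849280) (BT.leaf (nat_lit 39656481)) (BT.leaf (nat_lit 39204637))))))))) (BT.node (nat_lit 10852928) (BT.node (nat_lit 10850880) (BT.node (nat_lit 10850368) (BT.node (nat_lit 10849856) (BT.node (nat_lit 10849600) (BT.node (nat_lit 10849472) (BT.node (nat_lit 10849408) (BT.leaf (nat_lit 49648389)) (BT.leaf (nat_lit 38722841))) (BT.node (nat_lit 10849536) (BT.leaf (nat_lit 38722845)) (BT.leaf (nat_lit 48321813)))) (BT.node (nat_lit 10849728) (BT.node (nat_lit 10849664) (BT.leaf (nat_lit 41509145)) (BT.leaf (nat_lit 30892565))) (BT.node (nat_lit 10849792) (BT.leaf (nat_lit 47300109)) (BT.leaf (nat_lit 31801617))))) (BT.node (nat_lit 10850112) (BT.node (nat_lit 10849984) (BT.node (nat_lit 10849920) (BT.leaf (nat_lit 32673541)) (BT.leaf (nat_lit 31799581))) (BT.node (nat_lit 10850048) (BT.leaf (nat_lit 34607877)) (BT.leaf (nat_lit 37760529)))) (BT.node (nat_lit 10850240) (BT.node (nat_lit 10850176) (BT.leaf (nat_lit 30896901)) (BT.leaf (nat_lit 31808785))) (BT.node (nat_lit 10850304) (BT.leaf (nat_lit 31007513)) (BT.leaf (nat_lit 31007517)))))) (BT.node (nat_lit 10850568) (BT.node (nat_lit 10850436) (BT.node (nat_lit 10850376) (BT.node (nat_lit 10850372) (BT.leaf (nat_lit 40629273)) (BT.leaf (nat_lit 704052))) (BT.node (nat_lit 10850432) (BT.leaf (nat_lit 704052)) (BT.leaf (nat_lit 43401481)))) (BT.node (nat_lit 10850496) (BT.node (nat_lit 10850440) (BT.leaf (nat_lit 704044)) (BT.leaf (nat_lit 704044))) (BT.node (nat_lit 10850560) (BT.leaf (nat_lit 34359573)) (BT.leaf (nat_lit 41398037))))) (BT.node (nat_lit 10850688) (BT.node (nat_lit 10850629) (BT.node (nat_lit 10850624) (BT.leaf (nat_lit 768128)) (BT.leaf (nat_lit 40629261))) (BT.node (nat_lit 10850632) (BT.leaf (nat_lit 768132)) (BT.leaf (nat_lit 768132)))) (BT.node (nat_lit 10850816) (BT.node (nat_lit 10850752) (BT.leaf (nat_lit 49256481)) (BT.leaf (nat_lit 39546129))) (BT.node (nat_lit 10850824) (BT.leaf (nat_lit 41398041)) (BT.leaf (nat_lit 806640))))))) (BT.node (nat_lit 10851904) (BT.node (nat_lit 10851392) (BT.node (nat_lit 10851136) (BT.node (nat_lit 10851008) (BT.node (nat_lit 10850944) (BT.leaf (nat_lit 39519513)) (BT.leaf (nat_lit 34360085))) (BT.node (nat_lit 10851072) (BT.leaf (nat_lit 39519501)) (BT.leaf (nat_lit 39519241)))) (BT.node (nat_lit 10851264) (BT.node (nat_lit 10851200) (BT.leaf (nat_lit 44264969)) (BT.leaf (nat_lit 30898189))) (BT.node (nat_lit 10851328) (BT.leaf (nat_lit 30898185)) (BT.leaf (nat_lit 43982881))))) (BT.node (nat_lit 10851648) (BT.node (nat_lit 10851520) (BT.node (nat_lit 10851456) (BT.leaf (nat_lit 43284233)) (BT.leaf (nat_lit 43285005))) (BT.node (nat_lit 10851584) (BT.leaf (nat_lit 36000021)) (BT.leaf (nat_lit 38083605)))) (BT.node (nat_lit 10851776) (BT.node (nat_lit 10851712) (BT.leaf (nat_lit 40878597)) (BT.leaf (nat_lit 44351517))) (BT.node (nat_lit 10851840) (BT.leaf (nat_lit 43344905)) (BT.leaf (nat_lit 41286413)))))) (BT.node (nat_lit 10852352) (BT.node (nat_lit 10852104) (BT.node (nat_lit 10852032) (BT.node (nat_lit 10851968) (BT.leaf (nat_lit 34938141)) (BT.leaf (nat_lit 30870813))) (BT.node (nat_lit 10852096) (BT.leaf (nat_lit 30901021)) (BT.leaf (nat_lit 37810437)))) (BT.node (nat_lit 10852224) (BT.node (nat_lit 10852160) (BT.leaf (nat_lit 772972)) (BT.leaf (nat_lit 45687581))) (BT.node (nat_lit 10852288) (BT.leaf (nat_lit 30901261)) (BT.leaf (nat_lit 48270101))))) (BT.node (nat_lit 10852608) (BT.node (nat_lit 10852480) (BT.node (nat_lit 10852416) (BT.leaf (nat_lit 30902805)) (BT.leaf (nat_lit 30968093))) (BT.node (nat_lit 10852544) (BT.leaf (nat_lit 33248537)) (BT.leaf (nat_lit 49909529)))) (BT.node (nat_lit 10852736) (BT.node (nat_lit 10852672) (BT.leaf (nat_lit 32308749)) (BT.leaf (nat_lit 48359189))) (BT.node (nat_lit 10852864) (BT.leaf (nat_lit 29971741)) (BT.leaf (nat_lit 48328221)))))))) (BT.node (nat_lit 10854851) (BT.node (nat_lit 10853954) (BT.node (nat_lit 10853440) (BT.node (nat_lit 10853184) (BT.node (nat_lit 10853056) (BT.node (nat_lit 10852992) (BT.leaf (nat_lit 48268309)) (BT.leaf (nat_lit 37974801))) (BT.node (nat_lit 10853120) (BT.leaf (nat_lit 48328205)) (BT.leaf (nat_lit 43414549)))) (BT.node (nat_lit 10853312) (BT.node (nat_lit 10853248) (BT.leaf (nat_lit 51720725)) (BT.leaf (nat_lit 30905361))) (BT.node (nat_lit 10853376) (BT.leaf (nat_lit 30868497)) (BT.leaf (nat_lit 43413789))))) (BT.node (nat_lit 10853696) (BT.node (nat_lit 10853568) (BT.node (nat_lit 10853504) (BT.leaf (nat_lit 46078981)) (BT.leaf (nat_lit 29822753))) (BT.node (nat_lit 10853632) (BT.leaf (nat_lit 47692065)) (BT.leaf (nat_lit 30788617)))) (BT.node (nat_lit 10853824) (BT.node (nat_lit 10853760) (BT.leaf (nat_lit 46491937)) (BT.leaf (nat_lit 29822733))) (BT.node (nat_lit 10853888) (BT.leaf (nat_lit 30905621)) (BT.leaf (nat_lit 42817301)))))) (BT.node (nat_lit 10854464) (BT.node (nat_lit 10854208) (BT.node (nat_lit 10854080) (BT.node (nat_lit 10854016) (BT.leaf (nat_lit 706884)) (BT.leaf (nat_lit 30906389))) (BT.node (nat_lit 10854144) (BT.leaf (nat_lit 34051609)) (BT.leaf (nat_lit 29468441)))) (BT.node (nat_lit 10854336) (BT.node (nat_lit 10854272) (BT.leaf (nat_lit 42599189)) (BT.leaf (nat_lit 43416841))) (BT.node (nat_lit 10854400) (BT.leaf (nat_lit 50577185)) (BT.leaf (nat_lit 32753433))))) (BT.node (nat_lit 10854720) (BT.node (nat_lit 10854592) (BT.node (nat_lit 10854528) (BT.leaf (nat_lit 32753437)) (BT.leaf (nat_lit 31780373))) (BT.node (nat_lit 10854656) (BT.leaf (nat_lit 43418637)) (BT.leaf (nat_lit 42602525)))) (BT.node (nat_lit 10854848) (BT.node (nat_lit 10854784) (BT.leaf (nat_lit 43180833)) (BT.leaf (nat_lit 42602505))) (BT.node (nat_lit 10854850) (BT.leaf (nat_lit 39270421)) (BT.leaf (nat_lit 762908))))))) (BT.node (nat_lit 10855808) (BT.node (nat_lit 10855360) (BT.node (nat_lit 10855104) (BT.node (nat_lit 10854976) (BT.node (nat_lit 10854912) (BT.leaf (nat_lit 762908)) (BT.leaf (nat_lit 44374305))) (BT.node (nat_lit 10855040) (BT.leaf (nat_lit 48670229)) (BT.leaf (nat_lit 39269909)))) (BT.node (nat_lit 10855232) (BT.node (nat_lit 10855168) (BT.leaf (nat_lit 41485061)) (BT.leaf (nat_lit 30908945))) (BT.node (nat_lit 10855296) (BT.leaf (nat_lit 30342929)) (BT.leaf (nat_lit 30345233))))) (BT.node (nat_lit 10855488) (BT.node (nat_lit 10855430) (BT.node (nat_lit 10855424) (BT.leaf (nat_lit 41966625)) (BT.leaf (nat_lit 34590749))) (BT.node (nat_lit 10855431) (BT.leaf (nat_lit 791804)) (BT.leaf (nat_lit 791804)))) (BT.node (nat_lit 10855680) (BT.node (nat_lit 10855552) (BT.leaf (nat_lit 30909717)) (BT.leaf (nat_lit 31063057))) (BT.node (nat_lit 10855744) (BT.leaf (nat_lit 49587989)) (BT.leaf (nat_lit 30086173)))))) (BT.node (nat_lit 10856384) (BT.node (nat_lit 10856128) (BT.node (nat_lit 10856000) (BT.node (nat_lit 10855936) (BT.leaf (nat_lit 44304673)) (BT.leaf (nat_lit 32861985))) (BT.node (nat_lit 10856064) (BT.leaf (nat_lit 30947845)) (BT.leaf (nat_lit 30948101)))) (BT.node (nat_lit 10856256) (BT.node (nat_lit 10856192) (BT.leaf (nat_lit 30910741)) (BT.leaf (nat_lit 43478789))) (BT.node (nat_lit 10856320) (BT.leaf (nat_lit 49683973)) (BT.leaf (nat_lit 48909073))))) (BT.node (nat_lit 10856640) (BT.node (nat_lit 10856512) (BT.node (nat_lit 10856448) (BT.leaf (nat_lit 39393057)) (BT.leaf (nat_lit 30912537))) (BT.node (nat_lit 10856576) (BT.leaf (nat_lit 45087009)) (BT.leaf (nat_lit 43110681)))) (BT.node (nat_lit 10856768) (BT.node (nat_lit 10856704) (BT.leaf (nat_lit 30954781)) (BT.leaf (nat_lit 30912541))) (BT.node (nat_lit 10856832) (BT.leaf (nat_lit 41489925)) (BT.leaf (nat_lit 40071445)))))))))) (BT.node (nat_lit 10864576) (BT.node (nat_lit 10860608) (BT.node (nat_lit 10858432) (BT.node (nat_lit 10857728) (BT.node (nat_lit 10857216) (BT.node (nat_lit 10857024) (BT.node (nat_lit 10856902) (BT.node (nat_lit 10856901) (BT.leaf (nat_lit 45143301)) (BT.leaf (nat_lit 686024))) (BT.node (nat_lit 10856960) (BT.leaf (nat_lit 686024)) (BT.leaf (nat_lit 29228049)))) (BT.node (nat_lit 10857088) (BT.node (nat_lit 10857029) (BT.leaf (nat_lit 41692677)) (BT.leaf (nat_lit 686008))) (BT.node (nat_lit 10857152) (BT.leaf (nat_lit 31260957)) (BT.leaf (nat_lit 30913297))))) (BT.node (nat_lit 10857472) (BT.node (nat_lit 10857344) (BT.node (nat_lit 10857280) (BT.leaf (nat_lit 43429149)) (BT.leaf (nat_lit 46097413))) (BT.node (nat_lit 10857408) (BT.leaf (nat_lit 47991309)) (BT.leaf (nat_lit 45316629)))) (BT.node (nat_lit 10857600) (BT.node (nat_lit 10857474) (BT.leaf (nat_lit 44536581)) (BT.leaf (nat_lit 701976))) (BT.node (nat_lit 10857664) (BT.leaf (nat_lit 47966741)) (BT.leaf (nat_lit 45541893)))))) (BT.node (nat_lit 10857984) (BT.node (nat_lit 10857736) (BT.node (nat_lit 10857732) (BT.node (nat_lit 10857730) (BT.leaf (nat_lit 38198533)) (BT.leaf (nat_lit 703316))) (BT.node (nat_lit 10857735) (BT.leaf (nat_lit 705768)) (BT.leaf (nat_lit 703316)))) (BT.node (nat_lit 10857856) (BT.node (nat_lit 10857792) (BT.leaf (nat_lit 682540)) (BT.leaf (nat_lit 45230349))) (BT.node (nat_lit 10857920) (BT.leaf (nat_lit 30330641)) (BT.leaf (nat_lit 30918161))))) (BT.node (nat_lit 10858176) (BT.node (nat_lit 10858048) (BT.node (nat_lit 10857987) (BT.leaf (nat_lit 43718933)) (BT.leaf (nat_lit 764740))) (BT.node (nat_lit 10858112) (BT.leaf (nat_lit 38999585)) (BT.leaf (nat_lit 40898821)))) (BT.node (nat_lit 10858304) (BT.node (nat_lit 10858240) (BT.leaf (nat_lit 39783445)) (BT.leaf (nat_lit 39783449))) (BT.node (nat_lit 10858368) (BT.leaf (nat_lit 39783453)) (BT.leaf (nat_lit 32601873))))))) (BT.node (nat_lit 10859520) (BT.node (nat_lit 10858944) (BT.node (nat_lit 10858688) (BT.node (nat_lit 10858560) (BT.node (nat_lit 10858496) (BT.leaf (nat_lit 41481489)) (BT.leaf (nat_lit 30350609))) (BT.node (nat_lit 10858624) (BT.leaf (nat_lit 41600005)) (BT.leaf (nat_lit 33843993)))) (BT.node (nat_lit 10858816) (BT.node (nat_lit 10858752) (BT.leaf (nat_lit 30921241)) (BT.leaf (nat_lit 30921497))) (BT.node (nat_lit 10858880) (BT.leaf (nat_lit 48983585)) (BT.leaf (nat_lit 36196885))))) (BT.node (nat_lit 10859264) (BT.node (nat_lit 10859136) (BT.node (nat_lit 10859072) (BT.leaf (nat_lit 51582725)) (BT.leaf (nat_lit 39977505))) (BT.node (nat_lit 10859200) (BT.leaf (nat_lit 45672465)) (BT.leaf (nat_lit 45672469)))) (BT.node (nat_lit 10859392) (BT.node (nat_lit 10859328) (BT.leaf (nat_lit 45872405)) (BT.leaf (nat_lit 41198877))) (BT.node (nat_lit 10859456) (BT.leaf (nat_lit 47559701)) (BT.leaf (nat_lit 42950933)))))) (BT.node (nat_lit 10860032) (BT.node (nat_lit 10859776) (BT.node (nat_lit 10859648) (BT.node (nat_lit 10859584) (BT.leaf (nat_lit 38711557)) (BT.leaf (nat_lit 37389585))) (BT.node (nat_lit 10859712) (BT.leaf (nat_lit 31303189)) (BT.leaf (nat_lit 40433953)))) (BT.node (nat_lit 10859904) (BT.node (nat_lit 10859840) (BT.leaf (nat_lit 32472865)) (BT.leaf (nat_lit 38594837))) (BT.node (nat_lit 10859968) (BT.leaf (nat_lit 32839697)) (BT.leaf (nat_lit 32595473))))) (BT.node (nat_lit 10860288) (BT.node (nat_lit 10860160) (BT.node (nat_lit 10860096) (BT.leaf (nat_lit 39858949)) (BT.leaf (nat_lit 31930117))) (BT.node (nat_lit 10860224) (BT.leaf (nat_lit 39740961)) (BT.leaf (nat_lit 45148961)))) (BT.node (nat_lit 10860416) (BT.node (nat_lit 10860352) (BT.leaf (nat_lit 45148705)) (BT.leaf (nat_lit 50627865))) (BT.node (nat_lit 10860544) (BT.leaf (nat_lit 32171269)) (BT.leaf (nat_lit 41769989)))))))) (BT.node (nat_lit 10862656) (BT.node (nat_lit 10861632) (BT.node (nat_lit 10861120) (BT.node (nat_lit 10860864) (BT.node (nat_lit 10860736) (BT.node (nat_lit 10860672) (BT.leaf (nat_lit 51439377)) (BT.leaf (nat_lit 42191381))) (BT.node (nat_lit 10860800) (BT.leaf (nat_lit 41500181)) (BT.leaf (nat_lit 45856797)))) (BT.node (nat_lit 10860992) (BT.node (nat_lit 10860928) (BT.leaf (nat_lit 45790485)) (BT.leaf (nat_lit 32672021))) (BT.node (nat_lit 10861056) (BT.leaf (nat_lit 30927121)) (BT.leaf (nat_lit 30926865))))) (BT.node (nat_lit 10861376) (BT.node (nat_lit 10861248) (BT.node (nat_lit 10861184) (BT.leaf (nat_lit 40014613)) (BT.leaf (nat_lit 40014617))) (BT.node (nat_lit 10861315) (BT.leaf (nat_lit 49198113)) (BT.leaf (nat_lit 690356)))) (BT.node (nat_lit 10861504) (BT.node (nat_lit 10861440) (BT.leaf (nat_lit 48201745)) (BT.leaf (nat_lit 31498777))) (BT.node (nat_lit 10861568) (BT.leaf (nat_lit 31498781)) (BT.leaf (nat_lit 48201749)))))) (BT.node (nat_lit 10862144) (BT.node (nat_lit 10861888) (BT.node (nat_lit 10861760) (BT.node (nat_lit 10861696) (BT.leaf (nat_lit 35367685)) (BT.leaf (nat_lit 30408481))) (BT.node (nat_lit 10861824) (BT.leaf (nat_lit 45429001)) (BT.leaf (nat_lit 38623009)))) (BT.node (nat_lit 10862016) (BT.node (nat_lit 10861952) (BT.leaf (nat_lit 46104597)) (BT.leaf (nat_lit 30928913))) (BT.node (nat_lit 10862080) (BT.leaf (nat_lit 30928657)) (BT.leaf (nat_lit 27992593))))) (BT.node (nat_lit 10862400) (BT.node (nat_lit 10862272) (BT.node (nat_lit 10862208) (BT.leaf (nat_lit 37818137)) (BT.leaf (nat_lit 31599389))) (BT.node (nat_lit 10862336) (BT.leaf (nat_lit 27993361)) (BT.leaf (nat_lit 35384345)))) (BT.node (nat_lit 10862528) (BT.node (nat_lit 10862464) (BT.leaf (nat_lit 35384349)) (BT.leaf (nat_lit 29707033))) (BT.node (nat_lit 10862592) (BT.leaf (nat_lit 50592281)) (BT.leaf (nat_lit 38883861))))))) (BT.node (nat_lit 10863552) (BT.node (nat_lit 10863040) (BT.node (nat_lit 10862848) (BT.node (nat_lit 10862721) (BT.node (nat_lit 10862720) (BT.leaf (nat_lit 47777557)) (BT.leaf (nat_lit 30951441))) (BT.node (nat_lit 10862784) (BT.leaf (nat_lit 792816)) (BT.leaf (nat_lit 43451421)))) (BT.node (nat_lit 10862976) (BT.node (nat_lit 10862912) (BT.leaf (nat_lit 39407621)) (BT.leaf (nat_lit 30951457))) (BT.node (nat_lit 10862977) (BT.leaf (nat_lit 47843357)) (BT.leaf (nat_lit 708372))))) (BT.node (nat_lit 10863296) (BT.node (nat_lit 10863168) (BT.node (nat_lit 10863104) (BT.leaf (nat_lit 30951709)) (BT.leaf (nat_lit 44438293))) (BT.node (nat_lit 10863232) (BT.leaf (nat_lit 30933521)) (BT.leaf (nat_lit 43520773)))) (BT.node (nat_lit 10863424) (BT.node (nat_lit 10863360) (BT.leaf (nat_lit 44396805)) (BT.leaf (nat_lit 47781901))) (BT.node (nat_lit 10863488) (BT.leaf (nat_lit 38889501)) (BT.leaf (nat_lit 30935829)))))) (BT.node (nat_lit 10864064) (BT.node (nat_lit 10863808) (BT.node (nat_lit 10863680) (BT.node (nat_lit 10863616) (BT.leaf (nat_lit 51967777)) (BT.leaf (nat_lit 31230477))) (BT.node (nat_lit 10863744) (BT.leaf (nat_lit 34246681)) (BT.leaf (nat_lit 30936093)))) (BT.node (nat_lit 10863936) (BT.node (nat_lit 10863872) (BT.leaf (nat_lit 32186125)) (BT.leaf (nat_lit 43400201))) (BT.node (nat_lit 10864000) (BT.leaf (nat_lit 32186133)) (BT.leaf (nat_lit 30935321))))) (BT.node (nat_lit 10864320) (BT.node (nat_lit 10864192) (BT.node (nat_lit 10864128) (BT.leaf (nat_lit 48155929)) (BT.leaf (nat_lit 48156437))) (BT.node (nat_lit 10864256) (BT.leaf (nat_lit 46882837)) (BT.leaf (nat_lit 37863953)))) (BT.node (nat_lit 10864448) (BT.node (nat_lit 10864384) (BT.leaf (nat_lit 37863957)) (BT.leaf (nat_lit 44895505))) (BT.node (nat_lit 10864512) (BT.leaf (nat_lit 44822789)) (BT.leaf (nat_lit 44823045))))))))) (BT.node (nat_lit 10868288) (BT.node (nat_lit 10866368) (BT.node (nat_lit 10865472) (BT.node (nat_lit 10864960) (BT.node (nat_lit 10864772) (BT.node (nat_lit 10864704) (BT.node (nat_lit 10864640) (BT.leaf (nat_lit 33034001)) (BT.leaf (nat_lit 31148569))) (BT.node (nat_lit 10864768) (BT.leaf (nat_lit 31148573)) (BT.leaf (nat_lit 42749973)))) (BT.node (nat_lit 10864836) (BT.node (nat_lit 10864832) (BT.leaf (nat_lit 719864)) (BT.leaf (nat_lit 48044573))) (BT.node (nat_lit 10864896) (BT.leaf (nat_lit 719848)) (BT.leaf (nat_lit 34380053))))) (BT.node (nat_lit 10865216) (BT.node (nat_lit 10865088) (BT.node (nat_lit 10865024) (BT.leaf (nat_lit 45904917)) (BT.leaf (nat_lit 43459865))) (BT.node (nat_lit 10865152) (BT.leaf (nat_lit 32854305)) (BT.leaf (nat_lit 42314257)))) (BT.node (nat_lit 10865344) (BT.node (nat_lit 10865280) (BT.leaf (nat_lit 38816277)) (BT.leaf (nat_lit 42753045))) (BT.node (nat_lit 10865408) (BT.leaf (nat_lit 43461129)) (BT.leaf (nat_lit 34380565)))))) (BT.node (nat_lit 10865920) (BT.node (nat_lit 10865664) (BT.node (nat_lit 10865600) (BT.node (nat_lit 10865536) (BT.leaf (nat_lit 34977561)) (BT.leaf (nat_lit 32856069))) (BT.node (nat_lit 10865604) (BT.leaf (nat_lit 32720149)) (BT.leaf (nat_lit 717092)))) (BT.node (nat_lit 10865792) (BT.node (nat_lit 10865728) (BT.leaf (nat_lit 31057413)) (BT.leaf (nat_lit 32720673))) (BT.node (nat_lit 10865856) (BT.leaf (nat_lit 37767713)) (BT.leaf (nat_lit 48263969))))) (BT.node (nat_lit 10866112) (BT.node (nat_lit 10865992) (BT.node (nat_lit 10865984) (BT.leaf (nat_lit 48264225)) (BT.leaf (nat_lit 48264453))) (BT.node (nat_lit 10866048) (BT.leaf (nat_lit 755900)) (BT.leaf (nat_lit 48264993)))) (BT.node (nat_lit 10866240) (BT.node (nat_lit 10866176) (BT.leaf (nat_lit 48264737)) (BT.leaf (nat_lit 43669765))) (BT.node (nat_lit 10866304) (BT.leaf (nat_lit 39833109)) (BT.leaf (nat_lit 30440729))))))) (BT.node (nat_lit 10867200) (BT.node (nat_lit 10866756) (BT.node (nat_lit 10866560) (BT.node (nat_lit 10866432) (BT.node (nat_lit 10866370) (BT.leaf (nat_lit 32719393)) (BT.leaf (nat_lit 720948))) (BT.node (nat_lit 10866496) (BT.leaf (nat_lit 31117073)) (BT.leaf (nat_lit 45630741)))) (BT.node (nat_lit 10866688) (BT.node (nat_lit 10866624) (BT.leaf (nat_lit 35314461)) (BT.leaf (nat_lit 32526097))) (BT.node (nat_lit 10866752) (BT.leaf (nat_lit 42759709)) (BT.leaf (nat_lit 44374029))))) (BT.node (nat_lit 10866944) (BT.node (nat_lit 10866880) (BT.node (nat_lit 10866816) (BT.leaf (nat_lit 679220)) (BT.leaf (nat_lit 34380821))) (BT.node (nat_lit 10866885) (BT.leaf (nat_lit 42734345)) (BT.leaf (nat_lit 755912)))) (BT.node (nat_lit 10867072) (BT.node (nat_lit 10867008) (BT.leaf (nat_lit 43551749)) (BT.leaf (nat_lit 48207381))) (BT.node (nat_lit 10867136) (BT.leaf (nat_lit 45826309)) (BT.leaf (nat_lit 43420165)))))) (BT.node (nat_lit 10867648) (BT.node (nat_lit 10867392) (BT.node (nat_lit 10867271) (BT.node (nat_lit 10867264) (BT.leaf (nat_lit 32855073)) (BT.leaf (nat_lit 45520389))) (BT.node (nat_lit 10867328) (BT.leaf (nat_lit 804152)) (BT.leaf (nat_lit 30939917)))) (BT.node (nat_lit 10867520) (BT.node (nat_lit 10867456) (BT.leaf (nat_lit 43669021)) (BT.leaf (nat_lit 43669281))) (BT.node (nat_lit 10867584) (BT.leaf (nat_lit 50429205)) (BT.leaf (nat_lit 31728161))))) (BT.node (nat_lit 10867904) (BT.node (nat_lit 10867776) (BT.node (nat_lit 10867712) (BT.leaf (nat_lit 44539661)) (BT.leaf (nat_lit 30439945))) (BT.node (nat_lit 10867840) (BT.leaf (nat_lit 32122913)) (BT.leaf (nat_lit 36009749)))) (BT.node (nat_lit 10868160) (BT.node (nat_lit 10867968) (BT.leaf (nat_lit 30940193)) (BT.leaf (nat_lit 30439965))) (BT.node (nat_lit 10868224) (BT.leaf (nat_lit 35314973)) (BT.leaf (nat_lit 30941213)))))))) (BT.node (nat_lit 10870208) (BT.node (nat_lit 10869184) (BT.node (nat_lit 10868800) (BT.node (nat_lit 10868544) (BT.node (nat_lit 10868416) (BT.node (nat_lit 10868352) (BT.leaf (nat_lit 30442261)) (BT.leaf (nat_lit 38076433))) (BT.node (nat_lit 10868480) (BT.leaf (nat_lit 30942233)) (BT.leaf (nat_lit 31834629)))) (BT.node (nat_lit 10868672) (BT.node (nat_lit 10868608) (BT.leaf (nat_lit 31834641)) (BT.leaf (nat_lit 42759449))) (BT.node (nat_lit 10868736) (BT.leaf (nat_lit 31776545)) (BT.leaf (nat_lit 32719641))))) (BT.node (nat_lit 10868934) (BT.node (nat_lit 10868928) (BT.node (nat_lit 10868864) (BT.leaf (nat_lit 48378117)) (BT.leaf (nat_lit 30942993))) (BT.node (nat_lit 10868931) (BT.leaf (nat_lit 30939161)) (BT.leaf (nat_lit 755904)))) (BT.node (nat_lit 10869056) (BT.node (nat_lit 10868992) (BT.leaf (nat_lit 755904)) (BT.leaf (nat_lit 40580373))) (BT.node (nat_lit 10869120) (BT.leaf (nat_lit 35315229)) (BT.leaf (nat_lit 42358801)))))) (BT.node (nat_lit 10869696) (BT.node (nat_lit 10869440) (BT.node (nat_lit 10869312) (BT.node (nat_lit 10869248) (BT.leaf (nat_lit 42358805)) (BT.leaf (nat_lit 30426641))) (BT.node (nat_lit 10869376) (BT.leaf (nat_lit 32483349)) (BT.leaf (nat_lit 45294605)))) (BT.node (nat_lit 10869568) (BT.node (nat_lit 10869504) (BT.leaf (nat_lit 32483357)) (BT.leaf (nat_lit 32136209))) (BT.node (nat_lit 10869632) (BT.leaf (nat_lit 32869385)) (BT.leaf (nat_lit 32869389))))) (BT.node (nat_lit 10869952) (BT.node (nat_lit 10869824) (BT.node (nat_lit 10869760) (BT.leaf (nat_lit 32869401)) (BT.leaf (nat_lit 32869405))) (BT.node (nat_lit 10869888) (BT.leaf (nat_lit 32869409)) (BT.leaf (nat_lit 31141897)))) (BT.node (nat_lit 10870080) (BT.node (nat_lit 10870016) (BT.leaf (nat_lit 43480077)) (BT.leaf (nat_lit 35355669))) (BT.node (nat_lit 10870144) (BT.leaf (nat_lit 43480605)) (BT.leaf (nat_lit 30950661))))))) (BT.node (nat_lit 10871232) (BT.node (nat_lit 10870720) (BT.node (nat_lit 10870464) (BT.node (nat_lit 10870336) (BT.node (nat_lit 10870272) (BT.leaf (nat_lit 46077445)) (BT.leaf (nat_lit 30944789))) (BT.node (nat_lit 10870400) (BT.leaf (nat_lit 43481629)) (BT.leaf (nat_lit 41487109)))) (BT.node (nat_lit 10870592) (BT.node (nat_lit 10870528) (BT.leaf (nat_lit 49053973)) (BT.leaf (nat_lit 32861189))) (BT.node (nat_lit 10870656) (BT.leaf (nat_lit 31567121)) (BT.leaf (nat_lit 42103049))))) (BT.node (nat_lit 10870976) (BT.node (nat_lit 10870848) (BT.node (nat_lit 10870784) (BT.leaf (nat_lit 43256069)) (BT.leaf (nat_lit 30946837))) (BT.node (nat_lit 10870912) (BT.leaf (nat_lit 42349573)) (BT.leaf (nat_lit 43483417)))) (BT.node (nat_lit 10871104) (BT.node (nat_lit 10871040) (BT.leaf (nat_lit 32714517)) (BT.leaf (nat_lit 46206733))) (BT.node (nat_lit 10871168) (BT.leaf (nat_lit 46206737)) (BT.leaf (nat_lit 29580569)))))) (BT.node (nat_lit 10871744) (BT.node (nat_lit 10871488) (BT.node (nat_lit 10871360) (BT.node (nat_lit 10871296) (BT.leaf (nat_lit 30947589)) (BT.leaf (nat_lit 30972437))) (BT.node (nat_lit 10871424) (BT.leaf (nat_lit 42068489)) (BT.leaf (nat_lit 42068493)))) (BT.node (nat_lit 10871616) (BT.node (nat_lit 10871552) (BT.leaf (nat_lit 38754325)) (BT.leaf (nat_lit 41876509))) (BT.node (nat_lit 10871680) (BT.leaf (nat_lit 42716429)) (BT.leaf (nat_lit 30972441))))) (BT.node (nat_lit 10871936) (BT.node (nat_lit 10871872) (BT.node (nat_lit 10871808) (BT.leaf (nat_lit 30972445)) (BT.leaf (nat_lit 41077005))) (BT.node (nat_lit 10871880) (BT.leaf (nat_lit 32514065)) (BT.leaf (nat_lit 772468)))) (BT.node (nat_lit 10872064) (BT.node (nat_lit 10872000) (BT.leaf (nat_lit 32221445)) (BT.leaf (nat_lit 30086409))) (BT.node (nat_lit 10872128) (BT.leaf (nat_lit 44184865)) (BT.leaf (nat_lit 41076997)))))))))))))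
noncomputable def big0_e98304 : BT Nat := (BT.node (nat_lit 10937024) (BT.node (nat_lit 10905984) (BT.node (nat_lit 10888576) (BT.node (nat_lit 10880512) (BT.node (nat_lit 10876416) (BT.node (nat_lit 10874368) (BT.node (nat_lit 10873280) (BT.node (nat_lit 10872768) (BT.node (nat_lit 10872512) (BT.node (nat_lit 10872320) (BT.node (nat_lit 10872256) (BT.leaf (nat_lit 43489053)) (BT.leaf (nat_lit 48484881))) (BT.node (nat_lit 10872384) (BT.leaf (nat_lit 46187793)) (BT.leaf (nat_lit 46187809)))) (BT.node (nat_lit 10872640) (BT.node (nat_lit 10872576) (BT.leaf (nat_lit 30951705)) (BT.leaf (nat_lit 38246933))) (BT.node (nat_lit 10872704) (BT.leaf (nat_lit 46082821)) (BT.leaf (nat_lit 43490585))))) (BT.node (nat_lit 10873024) (BT.node (nat_lit 10872896) (BT.node (nat_lit 10872832) (BT.leaf (nat_lit 42855701)) (BT.leaf (nat_lit 38842905))) (BT.node (nat_lit 10872960) (BT.leaf (nat_lit 38842909)) (BT.leaf (nat_lit 31558425)))) (BT.node (nat_lit 10873152) (BT.node (nat_lit 10873088) (BT.leaf (nat_lit 31558429)) (BT.leaf (nat_lit 30945297))) (BT.node (nat_lit 10873216) (BT.leaf (nat_lit 32177925)) (BT.leaf (nat_lit 30951961)))))) (BT.node (nat_lit 10873792) (BT.node (nat_lit 10873536) (BT.node (nat_lit 10873408) (BT.node (nat_lit 10873344) (BT.leaf (nat_lit 32177937)) (BT.leaf (nat_lit 38550037))) (BT.node (nat_lit 10873472) (BT.leaf (nat_lit 30184977)) (BT.leaf (nat_lit 30163729)))) (BT.node (nat_lit 10873664) (BT.node (nat_lit 10873600) (BT.leaf (nat_lit 32967961)) (BT.leaf (nat_lit 32967965))) (BT.node (nat_lit 10873728) (BT.leaf (nat_lit 31276817)) (BT.leaf (nat_lit 51116825))))) (BT.node (nat_lit 10874112) (BT.node (nat_lit 10873984) (BT.node (nat_lit 10873856) (BT.leaf (nat_lit 51116829)) (BT.leaf (nat_lit 30953493))) (BT.node (nat_lit 10874048) (BT.leaf (nat_lit 35738133)) (BT.leaf (nat_lit 31650577)))) (BT.node (nat_lit 10874240) (BT.node (nat_lit 10874176) (BT.leaf (nat_lit 47897881)) (BT.leaf (nat_lit 29383953))) (BT.node (nat_lit 10874304) (BT.leaf (nat_lit 34204693)) (BT.leaf (nat_lit 32865313))))))) (BT.node (nat_lit 10875392) (BT.node (nat_lit 10874880) (BT.node (nat_lit 10874568) (BT.node (nat_lit 10874496) (BT.node (nat_lit 10874432) (BT.leaf (nat_lit 30954001)) (BT.leaf (nat_lit 42386701))) (BT.node (nat_lit 10874560) (BT.leaf (nat_lit 41697797)) (BT.leaf (nat_lit 41821209)))) (BT.node (nat_lit 10874752) (BT.node (nat_lit 10874624) (BT.leaf (nat_lit 776792)) (BT.leaf (nat_lit 47660309))) (BT.node (nat_lit 10874816) (BT.leaf (nat_lit 43499293)) (BT.leaf (nat_lit 41111301))))) (BT.node (nat_lit 10875072) (BT.node (nat_lit 10874944) (BT.node (nat_lit 10874888) (BT.leaf (nat_lit 40073237)) (BT.leaf (nat_lit 720824))) (BT.node (nat_lit 10875008) (BT.leaf (nat_lit 30955281)) (BT.leaf (nat_lit 43500317)))) (BT.node (nat_lit 10875200) (BT.node (nat_lit 10875136) (BT.leaf (nat_lit 32865285)) (BT.leaf (nat_lit 42285845))) (BT.node (nat_lit 10875264) (BT.leaf (nat_lit 50486293)) (BT.leaf (nat_lit 44343585)))))) (BT.node (nat_lit 10875904) (BT.node (nat_lit 10875648) (BT.node (nat_lit 10875520) (BT.node (nat_lit 10875456) (BT.leaf (nat_lit 40361489)) (BT.leaf (nat_lit 40361505))) (BT.node (nat_lit 10875584) (BT.leaf (nat_lit 42713873)) (BT.leaf (nat_lit 42285341)))) (BT.node (nat_lit 10875776) (BT.node (nat_lit 10875712) (BT.leaf (nat_lit 44420625)) (BT.leaf (nat_lit 41475845))) (BT.node (nat_lit 10875840) (BT.leaf (nat_lit 30955025)) (BT.leaf (nat_lit 42533909))))) (BT.node (nat_lit 10876160) (BT.node (nat_lit 10876032) (BT.node (nat_lit 10875968) (BT.leaf (nat_lit 42533913)) (BT.leaf (nat_lit 43501077))) (BT.node (nat_lit 10876096) (BT.leaf (nat_lit 43501081)) (BT.leaf (nat_lit 43501085)))) (BT.node (nat_lit 10876288) (BT.node (nat_lit 10876224) (BT.leaf (nat_lit 45732117)) (BT.leaf (nat_lit 42179849))) (BT.node (nat_lit 10876352) (BT.leaf (nat_lit 42179857)) (BT.leaf (nat_lit 29957137)))))))) (BT.node (nat_lit 10878528) (BT.node (nat_lit 10877504) (BT.node (nat_lit 10876992) (BT.node (nat_lit 10876672) (BT.node (nat_lit 10876544) (BT.node (nat_lit 10876480) (BT.leaf (nat_lit 32486661)) (BT.leaf (nat_lit 46094625))) (BT.node (nat_lit 10876608) (BT.leaf (nat_lit 31273233)) (BT.leaf (nat_lit 43908877)))) (BT.node (nat_lit 10876864) (BT.node (nat_lit 10876736) (BT.leaf (nat_lit 32803101)) (BT.leaf (nat_lit 30959137))) (BT.node (nat_lit 10876868) (BT.leaf (nat_lit 38806789)) (BT.leaf (nat_lit 710472))))) (BT.node (nat_lit 10877248) (BT.node (nat_lit 10877120) (BT.node (nat_lit 10877056) (BT.leaf (nat_lit 38806805)) (BT.leaf (nat_lit 48040725))) (BT.node (nat_lit 10877184) (BT.leaf (nat_lit 49043221)) (BT.leaf (nat_lit 50488593)))) (BT.node (nat_lit 10877376) (BT.node (nat_lit 10877312) (BT.leaf (nat_lit 39411717)) (BT.leaf (nat_lit 38508317))) (BT.node (nat_lit 10877440) (BT.leaf (nat_lit 39411733)) (BT.leaf (nat_lit 43510553)))))) (BT.node (nat_lit 10878016) (BT.node (nat_lit 10877760) (BT.node (nat_lit 10877632) (BT.node (nat_lit 10877568) (BT.leaf (nat_lit 39483153)) (BT.leaf (nat_lit 49563169))) (BT.node (nat_lit 10877696) (BT.leaf (nat_lit 49041173)) (BT.leaf (nat_lit 36333329)))) (BT.node (nat_lit 10877888) (BT.node (nat_lit 10877824) (BT.leaf (nat_lit 39411737)) (BT.leaf (nat_lit 39411741))) (BT.node (nat_lit 10877952) (BT.leaf (nat_lit 30962449)) (BT.leaf (nat_lit 34391057))))) (BT.node (nat_lit 10878272) (BT.node (nat_lit 10878151) (BT.node (nat_lit 10878082) (BT.leaf (nat_lit 39917601)) (BT.leaf (nat_lit 683784))) (BT.node (nat_lit 10878208) (BT.leaf (nat_lit 719456)) (BT.leaf (nat_lit 30962965)))) (BT.node (nat_lit 10878400) (BT.node (nat_lit 10878336) (BT.leaf (nat_lit 41494789)) (BT.leaf (nat_lit 32959509))) (BT.node (nat_lit 10878464) (BT.leaf (nat_lit 32144145)) (BT.leaf (nat_lit 30964245))))))) (BT.node (nat_lit 10879616) (BT.node (nat_lit 10879168) (BT.node (nat_lit 10878912) (BT.node (nat_lit 10878784) (BT.node (nat_lit 10878592) (BT.leaf (nat_lit 41691401)) (BT.leaf (nat_lit 30965509))) (BT.node (nat_lit 10878848) (BT.leaf (nat_lit 30410009)) (BT.leaf (nat_lit 28676637)))) (BT.node (nat_lit 10879040) (BT.node (nat_lit 10878976) (BT.leaf (nat_lit 32231957)) (BT.leaf (nat_lit 49238805))) (BT.node (nat_lit 10879104) (BT.leaf (nat_lit 49237525)) (BT.leaf (nat_lit 49237533))))) (BT.node (nat_lit 10879360) (BT.node (nat_lit 10879232) (BT.node (nat_lit 10879176) (BT.leaf (nat_lit 49238809)) (BT.leaf (nat_lit 681192))) (BT.node (nat_lit 10879296) (BT.leaf (nat_lit 44317985)) (BT.leaf (nat_lit 43452961)))) (BT.node (nat_lit 10879488) (BT.node (nat_lit 10879424) (BT.leaf (nat_lit 28202777)) (BT.leaf (nat_lit 28558869))) (BT.node (nat_lit 10879552) (BT.leaf (nat_lit 30971409)) (BT.leaf (nat_lit 30970641)))))) (BT.node (nat_lit 10880000) (BT.node (nat_lit 10879872) (BT.node (nat_lit 10879744) (BT.node (nat_lit 10879680) (BT.leaf (nat_lit 30970385)) (BT.leaf (nat_lit 40831513))) (BT.node (nat_lit 10879808) (BT.leaf (nat_lit 40831517)) (BT.leaf (nat_lit 30353945)))) (BT.node (nat_lit 10879937) (BT.node (nat_lit 10879936) (BT.leaf (nat_lit 47592725)) (BT.leaf (nat_lit 42556169))) (BT.node (nat_lit 10879938) (BT.leaf (nat_lit 683012)) (BT.leaf (nat_lit 683012))))) (BT.node (nat_lit 10880256) (BT.node (nat_lit 10880128) (BT.node (nat_lit 10880064) (BT.leaf (nat_lit 48456729)) (BT.leaf (nat_lit 42631181))) (BT.node (nat_lit 10880192) (BT.leaf (nat_lit 48848925)) (BT.leaf (nat_lit 44317977)))) (BT.node (nat_lit 10880384) (BT.node (nat_lit 10880320) (BT.leaf (nat_lit 44316165)) (BT.leaf (nat_lit 42628877))) (BT.node (nat_lit 10880448) (BT.leaf (nat_lit 44316181)) (BT.leaf (nat_lit 42417169))))))))) (BT.node (nat_lit 10884608) (BT.node (nat_lit 10882368) (BT.node (nat_lit 10881408) (BT.node (nat_lit 10880960) (BT.node (nat_lit 10880704) (BT.node (nat_lit 10880581) (BT.node (nat_lit 10880576) (BT.leaf (nat_lit 44396821)) (BT.leaf (nat_lit 40597253))) (BT.node (nat_lit 10880640) (BT.leaf (nat_lit 792516)) (BT.leaf (nat_lit 32051489)))) (BT.node (nat_lit 10880832) (BT.node (nat_lit 10880768) (BT.leaf (nat_lit 43765265)) (BT.leaf (nat_lit 49046049))) (BT.node (nat_lit 10880896) (BT.leaf (nat_lit 39757329)) (BT.leaf (nat_lit 39757345))))) (BT.node (nat_lit 10881216) (BT.node (nat_lit 10881088) (BT.node (nat_lit 10881024) (BT.leaf (nat_lit 45953809)) (BT.leaf (nat_lit 45001761))) (BT.node (nat_lit 10881152) (BT.leaf (nat_lit 48524057)) (BT.leaf (nat_lit 30365725)))) (BT.node (nat_lit 10881280) (BT.node (nat_lit 10881221) (BT.leaf (nat_lit 46016033)) (BT.leaf (nat_lit 701528))) (BT.node (nat_lit 10881344) (BT.leaf (nat_lit 44549661)) (BT.leaf (nat_lit 30968345)))))) (BT.node (nat_lit 10881920) (BT.node (nat_lit 10881664) (BT.node (nat_lit 10881536) (BT.node (nat_lit 10881472) (BT.leaf (nat_lit 32686857)) (BT.leaf (nat_lit 32686861))) (BT.node (nat_lit 10881600) (BT.leaf (nat_lit 34398741)) (BT.leaf (nat_lit 32686873)))) (BT.node (nat_lit 10881792) (BT.node (nat_lit 10881728) (BT.leaf (nat_lit 32686877)) (BT.leaf (nat_lit 50266389))) (BT.node (nat_lit 10881856) (BT.leaf (nat_lit 30918153)) (BT.leaf (nat_lit 30974989))))) (BT.node (nat_lit 10882176) (BT.node (nat_lit 10882048) (BT.node (nat_lit 10881984) (BT.leaf (nat_lit 43527965)) (BT.leaf (nat_lit 29989653))) (BT.node (nat_lit 10882112) (BT.leaf (nat_lit 30975753)) (BT.leaf (nat_lit 32795669)))) (BT.node (nat_lit 10882243) (BT.node (nat_lit 10882240) (BT.leaf (nat_lit 30976797)) (BT.leaf (nat_lit 44866333))) (BT.node (nat_lit 10882304) (BT.leaf (nat_lit 805556)) (BT.leaf (nat_lit 30977561))))))) (BT.node (nat_lit 10883520) (BT.node (nat_lit 10882880) (BT.node (nat_lit 10882624) (BT.node (nat_lit 10882496) (BT.node (nat_lit 10882432) (BT.leaf (nat_lit 30977813)) (BT.leaf (nat_lit 39991561))) (BT.node (nat_lit 10882560) (BT.leaf (nat_lit 39991565)) (BT.leaf (nat_lit 50639385)))) (BT.node (nat_lit 10882752) (BT.node (nat_lit 10882688) (BT.leaf (nat_lit 43621149)) (BT.leaf (nat_lit 46207509))) (BT.node (nat_lit 10882816) (BT.leaf (nat_lit 34401045)) (BT.leaf (nat_lit 38170129))))) (BT.node (nat_lit 10883136) (BT.node (nat_lit 10883008) (BT.node (nat_lit 10882944) (BT.leaf (nat_lit 42555149)) (BT.leaf (nat_lit 37858065))) (BT.node (nat_lit 10883072) (BT.leaf (nat_lit 44435973)) (BT.leaf (nat_lit 31697433)))) (BT.node (nat_lit 10883392) (BT.node (nat_lit 10883328) (BT.leaf (nat_lit 49772321)) (BT.leaf (nat_lit 38262289))) (BT.node (nat_lit 10883456) (BT.leaf (nat_lit 38262293)) (BT.leaf (nat_lit 49034785)))))) (BT.node (nat_lit 10884032) (BT.node (nat_lit 10883776) (BT.node (nat_lit 10883648) (BT.node (nat_lit 10883584) (BT.leaf (nat_lit 44225817)) (BT.leaf (nat_lit 42371857))) (BT.node (nat_lit 10883712) (BT.leaf (nat_lit 42371861)) (BT.leaf (nat_lit 49035041)))) (BT.node (nat_lit 10883904) (BT.node (nat_lit 10883840) (BT.leaf (nat_lit 27642129)) (BT.leaf (nat_lit 41033505))) (BT.node (nat_lit 10883968) (BT.leaf (nat_lit 48460301)) (BT.leaf (nat_lit 46326277))))) (BT.node (nat_lit 10884288) (BT.node (nat_lit 10884160) (BT.node (nat_lit 10884096) (BT.leaf (nat_lit 46511365)) (BT.leaf (nat_lit 48224277))) (BT.node (nat_lit 10884224) (BT.leaf (nat_lit 50957573)) (BT.leaf (nat_lit 30985493)))) (BT.node (nat_lit 10884480) (BT.node (nat_lit 10884416) (BT.leaf (nat_lit 42494469)) (BT.leaf (nat_lit 41156369))) (BT.node (nat_lit 10884544) (BT.leaf (nat_lit 44691221)) (BT.leaf (nat_lit 42842397)))))))) (BT.node (nat_lit 10886592) (BT.node (nat_lit 10885568) (BT.node (nat_lit 10885120) (BT.node (nat_lit 10884864) (BT.node (nat_lit 10884736) (BT.node (nat_lit 10884672) (BT.leaf (nat_lit 30986005)) (BT.leaf (nat_lit 42842377))) (BT.node (nat_lit 10884800) (BT.leaf (nat_lit 45063685)) (BT.leaf (nat_lit 42842125)))) (BT.node (nat_lit 10884992) (BT.node (nat_lit 10884928) (BT.leaf (nat_lit 32819233)) (BT.leaf (nat_lit 42841117))) (BT.node (nat_lit 10885056) (BT.leaf (nat_lit 30985989)) (BT.leaf (nat_lit 48085021))))) (BT.node (nat_lit 10885312) (BT.node (nat_lit 10885184) (BT.node (nat_lit 10885124) (BT.leaf (nat_lit 42483209)) (BT.leaf (nat_lit 686340))) (BT.node (nat_lit 10885248) (BT.leaf (nat_lit 48084245)) (BT.leaf (nat_lit 42483213)))) (BT.node (nat_lit 10885440) (BT.node (nat_lit 10885376) (BT.leaf (nat_lit 39037957)) (BT.leaf (nat_lit 48238613))) (BT.node (nat_lit 10885504) (BT.leaf (nat_lit 43541529)) (BT.leaf (nat_lit 42483229)))))) (BT.node (nat_lit 10886080) (BT.node (nat_lit 10885824) (BT.node (nat_lit 10885696) (BT.node (nat_lit 10885632) (BT.leaf (nat_lit 42494481)) (BT.leaf (nat_lit 42483225))) (BT.node (nat_lit 10885760) (BT.leaf (nat_lit 47940117)) (BT.leaf (nat_lit 45262613)))) (BT.node (nat_lit 10885952) (BT.node (nat_lit 10885888) (BT.leaf (nat_lit 45262617)) (BT.leaf (nat_lit 45262621))) (BT.node (nat_lit 10886016) (BT.leaf (nat_lit 39908881)) (BT.leaf (nat_lit 43168545))))) (BT.node (nat_lit 10886336) (BT.node (nat_lit 10886208) (BT.node (nat_lit 10886144) (BT.leaf (nat_lit 31131157)) (BT.leaf (nat_lit 31131161))) (BT.node (nat_lit 10886272) (BT.leaf (nat_lit 31131165)) (BT.leaf (nat_lit 44752657)))) (BT.node (nat_lit 10886464) (BT.node (nat_lit 10886400) (BT.leaf (nat_lit 44752673)) (BT.leaf (nat_lit 31556889))) (BT.node (nat_lit 10886528) (BT.leaf (nat_lit 31556893)) (BT.leaf (nat_lit 40451089))))))) (BT.node (nat_lit 10887680) (BT.node (nat_lit 10887104) (BT.node (nat_lit 10886848) (BT.node (nat_lit 10886720) (BT.node (nat_lit 10886656) (BT.leaf (nat_lit 42854169)) (BT.leaf (nat_lit 30987797))) (BT.node (nat_lit 10886784) (BT.leaf (nat_lit 42854153)) (BT.leaf (nat_lit 41486865)))) (BT.node (nat_lit 10886976) (BT.node (nat_lit 10886912) (BT.leaf (nat_lit 41486881)) (BT.leaf (nat_lit 40585753))) (BT.node (nat_lit 10887040) (BT.leaf (nat_lit 31249169)) (BT.leaf (nat_lit 30944797))))) (BT.node (nat_lit 10887424) (BT.node (nat_lit 10887232) (BT.node (nat_lit 10887168) (BT.leaf (nat_lit 40426517)) (BT.leaf (nat_lit 38283809))) (BT.node (nat_lit 10887360) (BT.leaf (nat_lit 38283553)) (BT.leaf (nat_lit 32020997)))) (BT.node (nat_lit 10887552) (BT.node (nat_lit 10887488) (BT.leaf (nat_lit 44968197)) (BT.leaf (nat_lit 34402833))) (BT.node (nat_lit 10887616) (BT.leaf (nat_lit 43798797)) (BT.leaf (nat_lit 43550233)))))) (BT.node (nat_lit 10888064) (BT.node (nat_lit 10887877) (BT.node (nat_lit 10887808) (BT.node (nat_lit 10887744) (BT.leaf (nat_lit 30991373)) (BT.leaf (nat_lit 47850253))) (BT.node (nat_lit 10887872) (BT.leaf (nat_lit 43156229)) (BT.leaf (nat_lit 38797829)))) (BT.node (nat_lit 10887938) (BT.node (nat_lit 10887936) (BT.leaf (nat_lit 697840)) (BT.leaf (nat_lit 46073109))) (BT.node (nat_lit 10888000) (BT.leaf (nat_lit 711040)) (BT.leaf (nat_lit 42160661))))) (BT.node (nat_lit 10888320) (BT.node (nat_lit 10888192) (BT.node (nat_lit 10888128) (BT.leaf (nat_lit 43467801)) (BT.leaf (nat_lit 43467805))) (BT.node (nat_lit 10888256) (BT.leaf (nat_lit 43563781)) (BT.leaf (nat_lit 44228357)))) (BT.node (nat_lit 10888448) (BT.node (nat_lit 10888384) (BT.leaf (nat_lit 42553621)) (BT.leaf (nat_lit 40338949))) (BT.node (nat_lit 10888512) (BT.leaf (nat_lit 32699661)) (BT.leaf (nat_lit 50972941)))))))))) (BT.node (nat_lit 10897216) (BT.node (nat_lit 10892736) (BT.node (nat_lit 10890688) (BT.node (nat_lit 10889536) (BT.node (nat_lit 10889088) (BT.node (nat_lit 10888832) (BT.node (nat_lit 10888704) (BT.node (nat_lit 10888640) (BT.leaf (nat_lit 32466717)) (BT.leaf (nat_lit 42256905))) (BT.node (nat_lit 10888768) (BT.leaf (nat_lit 42256909)) (BT.leaf (nat_lit 42256921)))) (BT.node (nat_lit 10888960) (BT.node (nat_lit 10888896) (BT.leaf (nat_lit 42256925)) (BT.leaf (nat_lit 43856901))) (BT.node (nat_lit 10889024) (BT.leaf (nat_lit 32463889)) (BT.leaf (nat_lit 32463893))))) (BT.node (nat_lit 10889280) (BT.node (nat_lit 10889157) (BT.node (nat_lit 10889152) (BT.leaf (nat_lit 44639769)) (BT.leaf (nat_lit 31319557))) (BT.node (nat_lit 10889216) (BT.leaf (nat_lit 682664)) (BT.leaf (nat_lit 42614549)))) (BT.node (nat_lit 10889408) (BT.node (nat_lit 10889344) (BT.leaf (nat_lit 39262745)) (BT.leaf (nat_lit 30994721))) (BT.node (nat_lit 10889472) (BT.leaf (nat_lit 47850769)) (BT.leaf (nat_lit 30994697)))))) (BT.node (nat_lit 10889984) (BT.node (nat_lit 10889728) (BT.node (nat_lit 10889664) (BT.node (nat_lit 10889600) (BT.leaf (nat_lit 39266077)) (BT.leaf (nat_lit 32319253))) (BT.node (nat_lit 10889667) (BT.leaf (nat_lit 43552261)) (BT.leaf (nat_lit 770260)))) (BT.node (nat_lit 10889856) (BT.node (nat_lit 10889792) (BT.leaf (nat_lit 31626001)) (BT.leaf (nat_lit 48517397))) (BT.node (nat_lit 10889920) (BT.leaf (nat_lit 48411661)) (BT.leaf (nat_lit 38633501))))) (BT.node (nat_lit 10890240) (BT.node (nat_lit 10890112) (BT.node (nat_lit 10890048) (BT.leaf (nat_lit 49295649)) (BT.leaf (nat_lit 32820505))) (BT.node (nat_lit 10890176) (BT.leaf (nat_lit 42311445)) (BT.leaf (nat_lit 44540933)))) (BT.node (nat_lit 10890368) (BT.node (nat_lit 10890304) (BT.leaf (nat_lit 30994977)) (BT.leaf (nat_lit 30996245))) (BT.node (nat_lit 10890496) (BT.leaf (nat_lit 30995489)) (BT.leaf (nat_lit 31687941))))))) (BT.node (nat_lit 10891648) (BT.node (nat_lit 10891200) (BT.node (nat_lit 10890944) (BT.node (nat_lit 10890816) (BT.node (nat_lit 10890752) (BT.leaf (nat_lit 31689989)) (BT.leaf (nat_lit 42310941))) (BT.node (nat_lit 10890880) (BT.leaf (nat_lit 31687969)) (BT.leaf (nat_lit 44225049)))) (BT.node (nat_lit 10891072) (BT.node (nat_lit 10891008) (BT.leaf (nat_lit 46295309)) (BT.leaf (nat_lit 46086405))) (BT.node (nat_lit 10891136) (BT.leaf (nat_lit 46086433)) (BT.leaf (nat_lit 49647893))))) (BT.node (nat_lit 10891392) (BT.node (nat_lit 10891328) (BT.node (nat_lit 10891264) (BT.leaf (nat_lit 31749401)) (BT.leaf (nat_lit 31749405))) (BT.node (nat_lit 10891333) (BT.leaf (nat_lit 49682437)) (BT.leaf (nat_lit 683124)))) (BT.node (nat_lit 10891520) (BT.node (nat_lit 10891456) (BT.leaf (nat_lit 37856541)) (BT.leaf (nat_lit 35301917))) (BT.node (nat_lit 10891584) (BT.leaf (nat_lit 30481693)) (BT.leaf (nat_lit 31579921)))))) (BT.node (nat_lit 10892160) (BT.node (nat_lit 10891904) (BT.node (nat_lit 10891776) (BT.node (nat_lit 10891712) (BT.leaf (nat_lit 49648149)) (BT.leaf (nat_lit 30999829))) (BT.node (nat_lit 10891840) (BT.leaf (nat_lit 42003741)) (BT.leaf (nat_lit 30494493)))) (BT.node (nat_lit 10892032) (BT.node (nat_lit 10891968) (BT.leaf (nat_lit 43931921)) (BT.leaf (nat_lit 30494473))) (BT.node (nat_lit 10892096) (BT.leaf (nat_lit 32946721)) (BT.leaf (nat_lit 43570461))))) (BT.node (nat_lit 10892480) (BT.node (nat_lit 10892288) (BT.node (nat_lit 10892224) (BT.leaf (nat_lit 43234837)) (BT.leaf (nat_lit 31003665))) (BT.node (nat_lit 10892352) (BT.leaf (nat_lit 31002897)) (BT.leaf (nat_lit 44411681)))) (BT.node (nat_lit 10892608) (BT.node (nat_lit 10892544) (BT.leaf (nat_lit 48414213)) (BT.leaf (nat_lit 43569945))) (BT.node (nat_lit 10892672) (BT.leaf (nat_lit 42111493)) (BT.leaf (nat_lit 38237201)))))))) (BT.node (nat_lit 10894981) (BT.node (nat_lit 10893824) (BT.node (nat_lit 10893312) (BT.node (nat_lit 10893056) (BT.node (nat_lit 10892928) (BT.node (nat_lit 10892800) (BT.leaf (nat_lit 42111509)) (BT.leaf (nat_lit 38211617))) (BT.node (nat_lit 10892992) (BT.leaf (nat_lit 39604245)) (BT.leaf (nat_lit 31004177)))) (BT.node (nat_lit 10893184) (BT.node (nat_lit 10893120) (BT.leaf (nat_lit 31003921)) (BT.leaf (nat_lit 46213153))) (BT.node (nat_lit 10893248) (BT.leaf (nat_lit 49196309)) (BT.leaf (nat_lit 31010309))))) (BT.node (nat_lit 10893568) (BT.node (nat_lit 10893440) (BT.node (nat_lit 10893376) (BT.leaf (nat_lit 42296601)) (BT.leaf (nat_lit 31010321))) (BT.node (nat_lit 10893504) (BT.leaf (nat_lit 42296861)) (BT.leaf (nat_lit 31010337)))) (BT.node (nat_lit 10893696) (BT.node (nat_lit 10893632) (BT.leaf (nat_lit 31230225)) (BT.leaf (nat_lit 52257045))) (BT.node (nat_lit 10893760) (BT.leaf (nat_lit 40740129)) (BT.leaf (nat_lit 49737989)))))) (BT.node (nat_lit 10894464) (BT.node (nat_lit 10894080) (BT.node (nat_lit 10893952) (BT.node (nat_lit 10893888) (BT.leaf (nat_lit 45189137)) (BT.leaf (nat_lit 34985233))) (BT.node (nat_lit 10894016) (BT.leaf (nat_lit 32826653)) (BT.leaf (nat_lit 31006237)))) (BT.node (nat_lit 10894336) (BT.node (nat_lit 10894272) (BT.leaf (nat_lit 46035717)) (BT.leaf (nat_lit 46038049))) (BT.node (nat_lit 10894400) (BT.leaf (nat_lit 46040069)) (BT.leaf (nat_lit 42282273))))) (BT.node (nat_lit 10894720) (BT.node (nat_lit 10894592) (BT.node (nat_lit 10894528) (BT.leaf (nat_lit 41569561)) (BT.leaf (nat_lit 43803161))) (BT.node (nat_lit 10894656) (BT.leaf (nat_lit 45806625)) (BT.leaf (nat_lit 43802889)))) (BT.node (nat_lit 10894848) (BT.node (nat_lit 10894784) (BT.leaf (nat_lit 38872861)) (BT.leaf (nat_lit 32028433))) (BT.node (nat_lit 10894912) (BT.leaf (nat_lit 50306329)) (BT.leaf (nat_lit 29566745))))))) (BT.node (nat_lit 10896192) (BT.node (nat_lit 10895680) (BT.node (nat_lit 10895424) (BT.node (nat_lit 10895168) (BT.node (nat_lit 10895040) (BT.leaf (nat_lit 689540)) (BT.leaf (nat_lit 48514829))) (BT.node (nat_lit 10895296) (BT.leaf (nat_lit 40972833)) (BT.leaf (nat_lit 41581345)))) (BT.node (nat_lit 10895552) (BT.node (nat_lit 10895488) (BT.leaf (nat_lit 41025029)) (BT.leaf (nat_lit 47006981))) (BT.node (nat_lit 10895616) (BT.leaf (nat_lit 40765717)) (BT.leaf (nat_lit 43450389))))) (BT.node (nat_lit 10895936) (BT.node (nat_lit 10895808) (BT.node (nat_lit 10895744) (BT.leaf (nat_lit 40766485)) (BT.leaf (nat_lit 47007001))) (BT.node (nat_lit 10895872) (BT.leaf (nat_lit 47007005)) (BT.leaf (nat_lit 47007009)))) (BT.node (nat_lit 10896064) (BT.node (nat_lit 10896000) (BT.leaf (nat_lit 31011617)) (BT.leaf (nat_lit 31012129))) (BT.node (nat_lit 10896128) (BT.leaf (nat_lit 31011873)) (BT.leaf (nat_lit 32659477)))))) (BT.node (nat_lit 10896704) (BT.node (nat_lit 10896448) (BT.node (nat_lit 10896320) (BT.node (nat_lit 10896256) (BT.leaf (nat_lit 49518857)) (BT.leaf (nat_lit 29596945))) (BT.node (nat_lit 10896384) (BT.leaf (nat_lit 30508049)) (BT.leaf (nat_lit 30097681)))) (BT.node (nat_lit 10896576) (BT.node (nat_lit 10896512) (BT.leaf (nat_lit 43586077)) (BT.leaf (nat_lit 38800661))) (BT.node (nat_lit 10896640) (BT.leaf (nat_lit 42809877)) (BT.leaf (nat_lit 43586313))))) (BT.node (nat_lit 10896960) (BT.node (nat_lit 10896832) (BT.node (nat_lit 10896768) (BT.leaf (nat_lit 43882001)) (BT.leaf (nat_lit 35305989))) (BT.node (nat_lit 10896896) (BT.leaf (nat_lit 43882013)) (BT.leaf (nat_lit 44803101)))) (BT.node (nat_lit 10897088) (BT.node (nat_lit 10897024) (BT.leaf (nat_lit 38035737)) (BT.leaf (nat_lit 47570693))) (BT.node (nat_lit 10897152) (BT.leaf (nat_lit 34788113)) (BT.leaf (nat_lit 39389701))))))))) (BT.node (nat_lit 10901568) (BT.node (nat_lit 10899520) (BT.node (nat_lit 10898240) (BT.node (nat_lit 10897728) (BT.node (nat_lit 10897472) (BT.node (nat_lit 10897344) (BT.node (nat_lit 10897280) (BT.leaf (nat_lit 30906645)) (BT.leaf (nat_lit 39389725))) (BT.node (nat_lit 10897408) (BT.leaf (nat_lit 39389729)) (BT.leaf (nat_lit 39833861)))) (BT.node (nat_lit 10897600) (BT.node (nat_lit 10897536) (BT.leaf (nat_lit 43588877)) (BT.leaf (nat_lit 39833889))) (BT.node (nat_lit 10897664) (BT.leaf (nat_lit 41522973)) (BT.leaf (nat_lit 42728721))))) (BT.node (nat_lit 10897984) (BT.node (nat_lit 10897856) (BT.node (nat_lit 10897792) (BT.leaf (nat_lit 31021081)) (BT.leaf (nat_lit 40683285))) (BT.node (nat_lit 10897920) (BT.leaf (nat_lit 43017741)) (BT.leaf (nat_lit 45920017)))) (BT.node (nat_lit 10898112) (BT.node (nat_lit 10898048) (BT.leaf (nat_lit 38655777)) (BT.leaf (nat_lit 45967625))) (BT.node (nat_lit 10898176) (BT.leaf (nat_lit 43882513)) (BT.leaf (nat_lit 42816793)))))) (BT.node (nat_lit 10898944) (BT.node (nat_lit 10898560) (BT.node (nat_lit 10898368) (BT.node (nat_lit 10898304) (BT.leaf (nat_lit 32167457)) (BT.leaf (nat_lit 49162501))) (BT.node (nat_lit 10898496) (BT.leaf (nat_lit 49162757)) (BT.leaf (nat_lit 43594269)))) (BT.node (nat_lit 10898752) (BT.node (nat_lit 10898688) (BT.leaf (nat_lit 43662349)) (BT.leaf (nat_lit 38022677))) (BT.node (nat_lit 10898816) (BT.leaf (nat_lit 48949781)) (BT.leaf (nat_lit 44920325))))) (BT.node (nat_lit 10899264) (BT.node (nat_lit 10899072) (BT.node (nat_lit 10899008) (BT.leaf (nat_lit 40339209)) (BT.leaf (nat_lit 40339213))) (BT.node (nat_lit 10899136) (BT.leaf (nat_lit 31024405)) (BT.leaf (nat_lit 40339225)))) (BT.node (nat_lit 10899392) (BT.node (nat_lit 10899328) (BT.leaf (nat_lit 41851425)) (BT.leaf (nat_lit 37776913))) (BT.node (nat_lit 10899456) (BT.leaf (nat_lit 33962265)) (BT.leaf (nat_lit 44472069))))))) (BT.node (nat_lit 10900544) (BT.node (nat_lit 10900032) (BT.node (nat_lit 10899776) (BT.node (nat_lit 10899648) (BT.node (nat_lit 10899584) (BT.leaf (nat_lit 32318485)) (BT.leaf (nat_lit 47605525))) (BT.node (nat_lit 10899712) (BT.leaf (nat_lit 31744789)) (BT.leaf (nat_lit 31744793)))) (BT.node (nat_lit 10899904) (BT.node (nat_lit 10899840) (BT.leaf (nat_lit 31744797)) (BT.leaf (nat_lit 43523081))) (BT.node (nat_lit 10899968) (BT.leaf (nat_lit 43523085)) (BT.leaf (nat_lit 42716433))))) (BT.node (nat_lit 10900288) (BT.node (nat_lit 10900160) (BT.node (nat_lit 10900096) (BT.leaf (nat_lit 31927065)) (BT.leaf (nat_lit 43523101))) (BT.node (nat_lit 10900224) (BT.leaf (nat_lit 48746773)) (BT.leaf (nat_lit 50068501)))) (BT.node (nat_lit 10900416) (BT.node (nat_lit 10900352) (BT.leaf (nat_lit 31026693)) (BT.leaf (nat_lit 31027473))) (BT.node (nat_lit 10900480) (BT.leaf (nat_lit 29953041)) (BT.leaf (nat_lit 39547417)))))) (BT.node (nat_lit 10901056) (BT.node (nat_lit 10900800) (BT.node (nat_lit 10900672) (BT.node (nat_lit 10900608) (BT.leaf (nat_lit 39547421)) (BT.leaf (nat_lit 43623201))) (BT.node (nat_lit 10900736) (BT.leaf (nat_lit 31994373)) (BT.leaf (nat_lit 49162273)))) (BT.node (nat_lit 10900928) (BT.node (nat_lit 10900864) (BT.leaf (nat_lit 49162017)) (BT.leaf (nat_lit 48458273))) (BT.node (nat_lit 10900992) (BT.leaf (nat_lit 38134037)) (BT.leaf (nat_lit 45166853))))) (BT.node (nat_lit 10901312) (BT.node (nat_lit 10901184) (BT.node (nat_lit 10901120) (BT.leaf (nat_lit 31029265)) (BT.leaf (nat_lit 43443233))) (BT.node (nat_lit 10901248) (BT.leaf (nat_lit 45150469)) (BT.leaf (nat_lit 45808661)))) (BT.node (nat_lit 10901440) (BT.node (nat_lit 10901376) (BT.leaf (nat_lit 31029777)) (BT.leaf (nat_lit 31029521))) (BT.node (nat_lit 10901504) (BT.leaf (nat_lit 40713237)) (BT.leaf (nat_lit 41898265)))))))) (BT.node (nat_lit 10903809) (BT.node (nat_lit 10902720) (BT.node (nat_lit 10902208) (BT.node (nat_lit 10901824) (BT.node (nat_lit 10901696) (BT.node (nat_lit 10901632) (BT.leaf (nat_lit 41898269)) (BT.leaf (nat_lit 31022865))) (BT.node (nat_lit 10901760) (BT.leaf (nat_lit 38725905)) (BT.leaf (nat_lit 38728465)))) (BT.node (nat_lit 10902080) (BT.node (nat_lit 10902016) (BT.leaf (nat_lit 31032593)) (BT.leaf (nat_lit 48012057))) (BT.node (nat_lit 10902144) (BT.leaf (nat_lit 32796689)) (BT.leaf (nat_lit 43608861))))) (BT.node (nat_lit 10902464) (BT.node (nat_lit 10902336) (BT.node (nat_lit 10902272) (BT.leaf (nat_lit 30074901)) (BT.leaf (nat_lit 32796705))) (BT.node (nat_lit 10902400) (BT.leaf (nat_lit 31029517)) (BT.leaf (nat_lit 31408401)))) (BT.node (nat_lit 10902592) (BT.node (nat_lit 10902528) (BT.leaf (nat_lit 30402837)) (BT.leaf (nat_lit 43608841))) (BT.node (nat_lit 10902656) (BT.leaf (nat_lit 31408417)) (BT.leaf (nat_lit 41070873)))))) (BT.node (nat_lit 10903232) (BT.node (nat_lit 10902976) (BT.node (nat_lit 10902848) (BT.node (nat_lit 10902784) (BT.leaf (nat_lit 41070877)) (BT.leaf (nat_lit 30926873))) (BT.node (nat_lit 10902912) (BT.leaf (nat_lit 41254161)) (BT.leaf (nat_lit 47835149)))) (BT.node (nat_lit 10903104) (BT.node (nat_lit 10903040) (BT.leaf (nat_lit 41254177)) (BT.leaf (nat_lit 30926881))) (BT.node (nat_lit 10903168) (BT.leaf (nat_lit 31033377)) (BT.leaf (nat_lit 42281753))))) (BT.node (nat_lit 10903552) (BT.node (nat_lit 10903360) (BT.node (nat_lit 10903296) (BT.leaf (nat_lit 46790677)) (BT.leaf (nat_lit 45163525))) (BT.node (nat_lit 10903488) (BT.leaf (nat_lit 43106069)) (BT.leaf (nat_lit 40002053)))) (BT.node (nat_lit 10903744) (BT.node (nat_lit 10903680) (BT.leaf (nat_lit 41068049)) (BT.leaf (nat_lit 45165601))) (BT.node (nat_lit 10903808) (BT.leaf (nat_lit 42499361)) (BT.leaf (nat_lit 44434201))))))) (BT.node (nat_lit 10904832) (BT.node (nat_lit 10904320) (BT.node (nat_lit 10904064) (BT.node (nat_lit 10903936) (BT.node (nat_lit 10903872) (BT.leaf (nat_lit 694320)) (BT.leaf (nat_lit 43621129))) (BT.node (nat_lit 10904000) (BT.leaf (nat_lit 36963349)) (BT.leaf (nat_lit 42621985)))) (BT.node (nat_lit 10904192) (BT.node (nat_lit 10904128) (BT.leaf (nat_lit 31035157)) (BT.leaf (nat_lit 44440841))) (BT.node (nat_lit 10904256) (BT.leaf (nat_lit 44440857)) (BT.leaf (nat_lit 29985805))))) (BT.node (nat_lit 10904576) (BT.node (nat_lit 10904448) (BT.node (nat_lit 10904384) (BT.leaf (nat_lit 44427013)) (BT.leaf (nat_lit 44427025))) (BT.node (nat_lit 10904512) (BT.leaf (nat_lit 43621145)) (BT.leaf (nat_lit 44427041)))) (BT.node (nat_lit 10904704) (BT.node (nat_lit 10904640) (BT.leaf (nat_lit 48398853)) (BT.leaf (nat_lit 31034141))) (BT.node (nat_lit 10904768) (BT.leaf (nat_lit 32466961)) (BT.leaf (nat_lit 36962589)))))) (BT.node (nat_lit 10905344) (BT.node (nat_lit 10905088) (BT.node (nat_lit 10904960) (BT.node (nat_lit 10904896) (BT.leaf (nat_lit 32466977)) (BT.leaf (nat_lit 42487573))) (BT.node (nat_lit 10905024) (BT.leaf (nat_lit 31034145)) (BT.leaf (nat_lit 43530501)))) (BT.node (nat_lit 10905216) (BT.node (nat_lit 10905152) (BT.leaf (nat_lit 36963605)) (BT.leaf (nat_lit 43620361))) (BT.node (nat_lit 10905280) (BT.leaf (nat_lit 44072977)) (BT.leaf (nat_lit 36962581))))) (BT.node (nat_lit 10905600) (BT.node (nat_lit 10905472) (BT.node (nat_lit 10905408) (BT.leaf (nat_lit 43530529)) (BT.leaf (nat_lit 31173649))) (BT.node (nat_lit 10905536) (BT.leaf (nat_lit 38044933)) (BT.leaf (nat_lit 46057989)))) (BT.node (nat_lit 10905792) (BT.node (nat_lit 10905664) (BT.leaf (nat_lit 46208289)) (BT.leaf (nat_lit 44317729))) (BT.node (nat_lit 10905856) (BT.leaf (nat_lit 41551373)) (BT.leaf (nat_lit 41666081))))))))))) (BT.node (nat_lit 10921344) (BT.node (nat_lit 10913472) (BT.node (nat_lit 10909696) (BT.node (nat_lit 10907776) (BT.node (nat_lit 10907008) (BT.node (nat_lit 10906496) (BT.node (nat_lit 10906240) (BT.node (nat_lit 10906112) (BT.node (nat_lit 10906048) (BT.leaf (nat_lit 39962125)) (BT.leaf (nat_lit 43623961))) (BT.node (nat_lit 10906176) (BT.leaf (nat_lit 31039505)) (BT.leaf (nat_lit 51944217)))) (BT.node (nat_lit 10906368) (BT.node (nat_lit 10906304) (BT.leaf (nat_lit 42510089)) (BT.leaf (nat_lit 34416405))) (BT.node (nat_lit 10906432) (BT.leaf (nat_lit 43625757)) (BT.leaf (nat_lit 51944205))))) (BT.node (nat_lit 10906752) (BT.node (nat_lit 10906624) (BT.node (nat_lit 10906560) (BT.leaf (nat_lit 41630485)) (BT.leaf (nat_lit 48642325))) (BT.node (nat_lit 10906688) (BT.leaf (nat_lit 31350805)) (BT.leaf (nat_lit 31041557)))) (BT.node (nat_lit 10906880) (BT.node (nat_lit 10906816) (BT.leaf (nat_lit 30076185)) (BT.leaf (nat_lit 42683677))) (BT.node (nat_lit 10906944) (BT.leaf (nat_lit 32571153)) (BT.leaf (nat_lit 45156357)))))) (BT.node (nat_lit 10907264) (BT.node (nat_lit 10907201) (BT.node (nat_lit 10907136) (BT.node (nat_lit 10907072) (BT.leaf (nat_lit 30076173)) (BT.leaf (nat_lit 45156869))) (BT.node (nat_lit 10907200) (BT.leaf (nat_lit 38320389)) (BT.leaf (nat_lit 39868449)))) (BT.node (nat_lit 10907206) (BT.node (nat_lit 10907202) (BT.leaf (nat_lit 707636)) (BT.leaf (nat_lit 701516))) (BT.node (nat_lit 10907207) (BT.leaf (nat_lit 701516)) (BT.leaf (nat_lit 701516))))) (BT.node (nat_lit 10907520) (BT.node (nat_lit 10907392) (BT.node (nat_lit 10907328) (BT.leaf (nat_lit 39808025)) (BT.leaf (nat_lit 39808029))) (BT.node (nat_lit 10907456) (BT.leaf (nat_lit 32901893)) (BT.leaf (nat_lit 31037717)))) (BT.node (nat_lit 10907648) (BT.node (nat_lit 10907584) (BT.leaf (nat_lit 29367045)) (BT.leaf (nat_lit 41830413))) (BT.node (nat_lit 10907712) (BT.leaf (nat_lit 40671505)) (BT.leaf (nat_lit 41830177))))))) (BT.node (nat_lit 10908672) (BT.node (nat_lit 10908160) (BT.node (nat_lit 10907974) (BT.node (nat_lit 10907968) (BT.node (nat_lit 10907840) (BT.leaf (nat_lit 45624329)) (BT.leaf (nat_lit 34418449))) (BT.node (nat_lit 10907973) (BT.leaf (nat_lit 28614929)) (BT.leaf (nat_lit 734532)))) (BT.node (nat_lit 10908032) (BT.node (nat_lit 10907975) (BT.leaf (nat_lit 734532)) (BT.leaf (nat_lit 734532))) (BT.node (nat_lit 10908096) (BT.leaf (nat_lit 32638225)) (BT.leaf (nat_lit 41506053))))) (BT.node (nat_lit 10908416) (BT.node (nat_lit 10908288) (BT.node (nat_lit 10908224) (BT.leaf (nat_lit 46181381)) (BT.leaf (nat_lit 48600601))) (BT.node (nat_lit 10908352) (BT.leaf (nat_lit 37923345)) (BT.leaf (nat_lit 32213021)))) (BT.node (nat_lit 10908544) (BT.node (nat_lit 10908480) (BT.leaf (nat_lit 34535961)) (BT.leaf (nat_lit 31046173))) (BT.node (nat_lit 10908608) (BT.leaf (nat_lit 50390561)) (BT.leaf (nat_lit 49733893)))))) (BT.node (nat_lit 10909184) (BT.node (nat_lit 10908928) (BT.node (nat_lit 10908800) (BT.node (nat_lit 10908736) (BT.leaf (nat_lit 31795477)) (BT.leaf (nat_lit 31655185))) (BT.node (nat_lit 10908864) (BT.leaf (nat_lit 34533133)) (BT.leaf (nat_lit 31562257)))) (BT.node (nat_lit 10909056) (BT.node (nat_lit 10908992) (BT.leaf (nat_lit 31562261)) (BT.leaf (nat_lit 32208909))) (BT.node (nat_lit 10909120) (BT.leaf (nat_lit 40187413)) (BT.leaf (nat_lit 50543893))))) (BT.node (nat_lit 10909440) (BT.node (nat_lit 10909312) (BT.node (nat_lit 10909248) (BT.leaf (nat_lit 39391249)) (BT.leaf (nat_lit 31125273))) (BT.node (nat_lit 10909376) (BT.leaf (nat_lit 43926797)) (BT.leaf (nat_lit 46089241)))) (BT.node (nat_lit 10909568) (BT.node (nat_lit 10909504) (BT.leaf (nat_lit 46089245)) (BT.leaf (nat_lit 52030493))) (BT.node (nat_lit 10909632) (BT.leaf (nat_lit 32184853)) (BT.leaf (nat_lit 48587541)))))))) (BT.node (nat_lit 10911616) (BT.node (nat_lit 10910592) (BT.node (nat_lit 10910208) (BT.node (nat_lit 10909952) (BT.node (nat_lit 10909824) (BT.node (nat_lit 10909760) (BT.leaf (nat_lit 31047701)) (BT.leaf (nat_lit 49212693))) (BT.node (nat_lit 10909888) (BT.leaf (nat_lit 49213205)) (BT.leaf (nat_lit 49212937)))) (BT.node (nat_lit 10910080) (BT.node (nat_lit 10910016) (BT.leaf (nat_lit 49212697)) (BT.leaf (nat_lit 45671189))) (BT.node (nat_lit 10910144) (BT.leaf (nat_lit 45175049)) (BT.leaf (nat_lit 49464593))))) (BT.node (nat_lit 10910341) (BT.node (nat_lit 10910277) (BT.node (nat_lit 10910272) (BT.leaf (nat_lit 32358933)) (BT.leaf (nat_lit 39643673))) (BT.node (nat_lit 10910336) (BT.leaf (nat_lit 770736)) (BT.leaf (nat_lit 39643677)))) (BT.node (nat_lit 10910464) (BT.node (nat_lit 10910400) (BT.leaf (nat_lit 770740)) (BT.leaf (nat_lit 31353613))) (BT.node (nat_lit 10910528) (BT.leaf (nat_lit 31353617)) (BT.leaf (nat_lit 43933461)))))) (BT.node (nat_lit 10911104) (BT.node (nat_lit 10910848) (BT.node (nat_lit 10910720) (BT.node (nat_lit 10910656) (BT.leaf (nat_lit 38657045)) (BT.leaf (nat_lit 31050513))) (BT.node (nat_lit 10910784) (BT.leaf (nat_lit 32589073)) (BT.leaf (nat_lit 43747105)))) (BT.node (nat_lit 10910976) (BT.node (nat_lit 10910912) (BT.leaf (nat_lit 43746849)) (BT.leaf (nat_lit 43908873))) (BT.node (nat_lit 10911040) (BT.leaf (nat_lit 39276309)) (BT.leaf (nat_lit 39060229))))) (BT.node (nat_lit 10911360) (BT.node (nat_lit 10911232) (BT.node (nat_lit 10911168) (BT.leaf (nat_lit 29862149)) (BT.leaf (nat_lit 31672589))) (BT.node (nat_lit 10911296) (BT.leaf (nat_lit 31362321)) (BT.leaf (nat_lit 46157333)))) (BT.node (nat_lit 10911488) (BT.node (nat_lit 10911424) (BT.leaf (nat_lit 39780613)) (BT.leaf (nat_lit 40186145))) (BT.node (nat_lit 10911552) (BT.leaf (nat_lit 31762717)) (BT.leaf (nat_lit 31762973))))))) (BT.node (nat_lit 10912576) (BT.node (nat_lit 10912134) (BT.node (nat_lit 10911872) (BT.node (nat_lit 10911744) (BT.node (nat_lit 10911680) (BT.leaf (nat_lit 38136097)) (BT.leaf (nat_lit 48661257))) (BT.node (nat_lit 10911808) (BT.leaf (nat_lit 31763489)) (BT.leaf (nat_lit 41779233)))) (BT.node (nat_lit 10912000) (BT.node (nat_lit 10911936) (BT.leaf (nat_lit 32982277)) (BT.leaf (nat_lit 43152917))) (BT.node (nat_lit 10912064) (BT.leaf (nat_lit 43152921)) (BT.leaf (nat_lit 43152925))))) (BT.node (nat_lit 10912320) (BT.node (nat_lit 10912192) (BT.node (nat_lit 10912135) (BT.leaf (nat_lit 685432)) (BT.leaf (nat_lit 685432))) (BT.node (nat_lit 10912256) (BT.leaf (nat_lit 43408417)) (BT.leaf (nat_lit 47790365)))) (BT.node (nat_lit 10912448) (BT.node (nat_lit 10912384) (BT.leaf (nat_lit 31125529)) (BT.leaf (nat_lit 32979985))) (BT.node (nat_lit 10912512) (BT.leaf (nat_lit 30490117)) (BT.leaf (nat_lit 38042897)))))) (BT.node (nat_lit 10913088) (BT.node (nat_lit 10912832) (BT.node (nat_lit 10912704) (BT.node (nat_lit 10912640) (BT.leaf (nat_lit 44041501)) (BT.leaf (nat_lit 50246677))) (BT.node (nat_lit 10912768) (BT.leaf (nat_lit 41554965)) (BT.leaf (nat_lit 40523545)))) (BT.node (nat_lit 10912960) (BT.node (nat_lit 10912896) (BT.leaf (nat_lit 49269021)) (BT.leaf (nat_lit 38506773))) (BT.node (nat_lit 10913024) (BT.leaf (nat_lit 38506777)) (BT.leaf (nat_lit 38506781))))) (BT.node (nat_lit 10913216) (BT.node (nat_lit 10913095) (BT.node (nat_lit 10913094) (BT.leaf (nat_lit 31060497)) (BT.leaf (nat_lit 711928))) (BT.node (nat_lit 10913152) (BT.leaf (nat_lit 711928)) (BT.leaf (nat_lit 32369173)))) (BT.node (nat_lit 10913344) (BT.node (nat_lit 10913280) (BT.leaf (nat_lit 44008457)) (BT.leaf (nat_lit 39176481))) (BT.node (nat_lit 10913408) (BT.leaf (nat_lit 48671257)) (BT.leaf (nat_lit 37863697))))))))) (BT.node (nat_lit 10917188) (BT.node (nat_lit 10915392) (BT.node (nat_lit 10914373) (BT.node (nat_lit 10913984) (BT.node (nat_lit 10913728) (BT.node (nat_lit 10913600) (BT.node (nat_lit 10913536) (BT.leaf (nat_lit 48884769)) (BT.leaf (nat_lit 34596629))) (BT.node (nat_lit 10913664) (BT.leaf (nat_lit 48640017)) (BT.leaf (nat_lit 43786009)))) (BT.node (nat_lit 10913856) (BT.node (nat_lit 10913792) (BT.leaf (nat_lit 43655197)) (BT.leaf (nat_lit 50396949))) (BT.node (nat_lit 10913920) (BT.leaf (nat_lit 39446305)) (BT.leaf (nat_lit 37805089))))) (BT.node (nat_lit 10914240) (BT.node (nat_lit 10914112) (BT.node (nat_lit 10914048) (BT.leaf (nat_lit 41699617)) (BT.leaf (nat_lit 32946705))) (BT.node (nat_lit 10914176) (BT.leaf (nat_lit 46285089)) (BT.leaf (nat_lit 39161861)))) (BT.node (nat_lit 10914368) (BT.node (nat_lit 10914304) (BT.leaf (nat_lit 38286097)) (BT.leaf (nat_lit 38412821))) (BT.node (nat_lit 10914372) (BT.leaf (nat_lit 42882821)) (BT.leaf (nat_lit 717888)))))) (BT.node (nat_lit 10914880) (BT.node (nat_lit 10914624) (BT.node (nat_lit 10914496) (BT.node (nat_lit 10914432) (BT.leaf (nat_lit 717888)) (BT.leaf (nat_lit 37860869))) (BT.node (nat_lit 10914560) (BT.leaf (nat_lit 46190881)) (BT.leaf (nat_lit 37864725)))) (BT.node (nat_lit 10914752) (BT.node (nat_lit 10914688) (BT.leaf (nat_lit 40600837)) (BT.leaf (nat_lit 43341065))) (BT.node (nat_lit 10914816) (BT.leaf (nat_lit 39650593)) (BT.leaf (nat_lit 38017545))))) (BT.node (nat_lit 10915136) (BT.node (nat_lit 10915008) (BT.node (nat_lit 10914944) (BT.leaf (nat_lit 39031557)) (BT.leaf (nat_lit 49297669))) (BT.node (nat_lit 10915072) (BT.leaf (nat_lit 43659801)) (BT.leaf (nat_lit 50627845)))) (BT.node (nat_lit 10915264) (BT.node (nat_lit 10915200) (BT.leaf (nat_lit 31074821)) (BT.leaf (nat_lit 37872901))) (BT.node (nat_lit 10915328) (BT.leaf (nat_lit 52435733)) (BT.leaf (nat_lit 34436881))))))) (BT.node (nat_lit 10916416) (BT.node (nat_lit 10915776) (BT.node (nat_lit 10915587) (BT.node (nat_lit 10915520) (BT.node (nat_lit 10915456) (BT.leaf (nat_lit 38671629)) (BT.leaf (nat_lit 39622685))) (BT.node (nat_lit 10915584) (BT.leaf (nat_lit 38671137)) (BT.leaf (nat_lit 31079173)))) (BT.node (nat_lit 10915648) (BT.node (nat_lit 10915590) (BT.leaf (nat_lit 793220)) (BT.leaf (nat_lit 793220))) (BT.node (nat_lit 10915712) (BT.leaf (nat_lit 34760985)) (BT.leaf (nat_lit 34760989))))) (BT.node (nat_lit 10916096) (BT.node (nat_lit 10915968) (BT.node (nat_lit 10915840) (BT.leaf (nat_lit 37778969)) (BT.leaf (nat_lit 43243525))) (BT.node (nat_lit 10916032) (BT.leaf (nat_lit 31080457)) (BT.leaf (nat_lit 46789397)))) (BT.node (nat_lit 10916224) (BT.node (nat_lit 10916160) (BT.leaf (nat_lit 28176397)) (BT.leaf (nat_lit 37778209))) (BT.node (nat_lit 10916352) (BT.leaf (nat_lit 31080461)) (BT.leaf (nat_lit 31081749)))))) (BT.node (nat_lit 10916800) (BT.node (nat_lit 10916613) (BT.node (nat_lit 10916544) (BT.node (nat_lit 10916480) (BT.leaf (nat_lit 43071001)) (BT.leaf (nat_lit 43071005))) (BT.node (nat_lit 10916608) (BT.leaf (nat_lit 31080465)) (BT.leaf (nat_lit 43398409)))) (BT.node (nat_lit 10916672) (BT.node (nat_lit 10916616) (BT.leaf (nat_lit 704260)) (BT.leaf (nat_lit 704260))) (BT.node (nat_lit 10916736) (BT.leaf (nat_lit 31081501)) (BT.leaf (nat_lit 42668805))))) (BT.node (nat_lit 10916992) (BT.node (nat_lit 10916928) (BT.node (nat_lit 10916864) (BT.leaf (nat_lit 31082513)) (BT.leaf (nat_lit 31080737))) (BT.node (nat_lit 10916936) (BT.leaf (nat_lit 42625033)) (BT.leaf (nat_lit 704796)))) (BT.node (nat_lit 10917120) (BT.node (nat_lit 10917056) (BT.leaf (nat_lit 28155161)) (BT.leaf (nat_lit 40131873))) (BT.node (nat_lit 10917184) (BT.leaf (nat_lit 33067549)) (BT.leaf (nat_lit 43469589)))))))) (BT.node (nat_lit 10919296) (BT.node (nat_lit 10918272) (BT.node (nat_lit 10917760) (BT.node (nat_lit 10917504) (BT.node (nat_lit 10917312) (BT.node (nat_lit 10917248) (BT.leaf (nat_lit 763992)) (BT.leaf (nat_lit 32122889))) (BT.node (nat_lit 10917376) (BT.leaf (nat_lit 32123145)) (BT.leaf (nat_lit 42203681)))) (BT.node (nat_lit 10917632) (BT.node (nat_lit 10917568) (BT.leaf (nat_lit 27977233)) (BT.leaf (nat_lit 40297237))) (BT.node (nat_lit 10917696) (BT.leaf (nat_lit 41990669)) (BT.leaf (nat_lit 39169805))))) (BT.node (nat_lit 10918016) (BT.node (nat_lit 10917888) (BT.node (nat_lit 10917824) (BT.leaf (nat_lit 27451161)) (BT.leaf (nat_lit 41270297))) (BT.node (nat_lit 10917952) (BT.leaf (nat_lit 39725577)) (BT.leaf (nat_lit 39725581)))) (BT.node (nat_lit 10918144) (BT.node (nat_lit 10918080) (BT.leaf (nat_lit 34443029)) (BT.leaf (nat_lit 46917125))) (BT.node (nat_lit 10918208) (BT.leaf (nat_lit 39725597)) (BT.leaf (nat_lit 46476565)))))) (BT.node (nat_lit 10918784) (BT.node (nat_lit 10918528) (BT.node (nat_lit 10918400) (BT.node (nat_lit 10918336) (BT.leaf (nat_lit 32490517)) (BT.leaf (nat_lit 32490521))) (BT.node (nat_lit 10918464) (BT.leaf (nat_lit 32490525)) (BT.leaf (nat_lit 37886985)))) (BT.node (nat_lit 10918656) (BT.node (nat_lit 10918592) (BT.leaf (nat_lit 38201353)) (BT.leaf (nat_lit 38201357))) (BT.node (nat_lit 10918720) (BT.leaf (nat_lit 43453969)) (BT.leaf (nat_lit 31087649))))) (BT.node (nat_lit 10919040) (BT.node (nat_lit 10918912) (BT.node (nat_lit 10918848) (BT.leaf (nat_lit 31087393)) (BT.leaf (nat_lit 45045017))) (BT.node (nat_lit 10918976) (BT.leaf (nat_lit 45045021)) (BT.leaf (nat_lit 38608917)))) (BT.node (nat_lit 10919168) (BT.node (nat_lit 10919104) (BT.leaf (nat_lit 38608921)) (BT.leaf (nat_lit 38608925))) (BT.node (nat_lit 10919232) (BT.leaf (nat_lit 42586905)) (BT.leaf (nat_lit 28155929))))))) (BT.node (nat_lit 10920320) (BT.node (nat_lit 10919808) (BT.node (nat_lit 10919552) (BT.node (nat_lit 10919424) (BT.node (nat_lit 10919360) (BT.leaf (nat_lit 37802517)) (BT.leaf (nat_lit 28155933))) (BT.node (nat_lit 10919488) (BT.leaf (nat_lit 44539653)) (BT.leaf (nat_lit 42032661)))) (BT.node (nat_lit 10919680) (BT.node (nat_lit 10919616) (BT.leaf (nat_lit 43678493)) (BT.leaf (nat_lit 39170057))) (BT.node (nat_lit 10919744) (BT.leaf (nat_lit 32017413)) (BT.leaf (nat_lit 44487685))))) (BT.node (nat_lit 10920128) (BT.node (nat_lit 10920000) (BT.node (nat_lit 10919872) (BT.leaf (nat_lit 50782489)) (BT.leaf (nat_lit 42442769))) (BT.node (nat_lit 10920064) (BT.leaf (nat_lit 41725713)) (BT.leaf (nat_lit 32055837)))) (BT.node (nat_lit 10920256) (BT.node (nat_lit 10920192) (BT.leaf (nat_lit 44537113)) (BT.leaf (nat_lit 45006881))) (BT.node (nat_lit 10920257) (BT.leaf (nat_lit 32082973)) (BT.leaf (nat_lit 693888)))))) (BT.node (nat_lit 10920832) (BT.node (nat_lit 10920576) (BT.node (nat_lit 10920448) (BT.node (nat_lit 10920384) (BT.leaf (nat_lit 40118805)) (BT.leaf (nat_lit 41743377))) (BT.node (nat_lit 10920512) (BT.leaf (nat_lit 41740573)) (BT.leaf (nat_lit 44306969)))) (BT.node (nat_lit 10920704) (BT.node (nat_lit 10920640) (BT.leaf (nat_lit 39253529)) (BT.leaf (nat_lit 32172049))) (BT.node (nat_lit 10920768) (BT.leaf (nat_lit 50973457)) (BT.leaf (nat_lit 32171801))))) (BT.node (nat_lit 10921088) (BT.node (nat_lit 10920960) (BT.node (nat_lit 10920896) (BT.leaf (nat_lit 32171781)) (BT.leaf (nat_lit 30055953))) (BT.node (nat_lit 10921024) (BT.leaf (nat_lit 32171805)) (BT.leaf (nat_lit 46772241)))) (BT.node (nat_lit 10921216) (BT.node (nat_lit 10921152) (BT.leaf (nat_lit 48841745)) (BT.leaf (nat_lit 42633761))) (BT.node (nat_lit 10921280) (BT.leaf (nat_lit 38994697)) (BT.leaf (nat_lit 31650573)))))))))) (BT.node (nat_lit 10929536) (BT.node (nat_lit 10925568) (BT.node (nat_lit 10923392) (BT.node (nat_lit 10922432) (BT.node (nat_lit 10921920) (BT.node (nat_lit 10921664) (BT.node (nat_lit 10921536) (BT.node (nat_lit 10921408) (BT.leaf (nat_lit 44408333)) (BT.leaf (nat_lit 42634501))) (BT.node (nat_lit 10921600) (BT.leaf (nat_lit 40760077)) (BT.leaf (nat_lit 40760865)))) (BT.node (nat_lit 10921792) (BT.node (nat_lit 10921728) (BT.leaf (nat_lit 34448657)) (BT.leaf (nat_lit 37889049))) (BT.node (nat_lit 10921856) (BT.leaf (nat_lit 37889053)) (BT.leaf (nat_lit 31098897))))) (BT.node (nat_lit 10922176) (BT.node (nat_lit 10922048) (BT.node (nat_lit 10921984) (BT.leaf (nat_lit 31395613)) (BT.leaf (nat_lit 43636493))) (BT.node (nat_lit 10922112) (BT.leaf (nat_lit 40187925)) (BT.leaf (nat_lit 31100697)))) (BT.node (nat_lit 10922304) (BT.node (nat_lit 10922240) (BT.leaf (nat_lit 44406021)) (BT.leaf (nat_lit 43214341))) (BT.node (nat_lit 10922368) (BT.leaf (nat_lit 45094689)) (BT.leaf (nat_lit 31105297)))))) (BT.node (nat_lit 10922885) (BT.node (nat_lit 10922688) (BT.node (nat_lit 10922560) (BT.node (nat_lit 10922496) (BT.leaf (nat_lit 49321237)) (BT.leaf (nat_lit 38319905))) (BT.node (nat_lit 10922624) (BT.leaf (nat_lit 37806881)) (BT.leaf (nat_lit 44008197)))) (BT.node (nat_lit 10922816) (BT.node (nat_lit 10922752) (BT.leaf (nat_lit 41223969)) (BT.leaf (nat_lit 40203013))) (BT.node (nat_lit 10922880) (BT.leaf (nat_lit 32578325)) (BT.leaf (nat_lit 45050381))))) (BT.node (nat_lit 10923136) (BT.node (nat_lit 10923008) (BT.node (nat_lit 10922944) (BT.leaf (nat_lit 773020)) (BT.leaf (nat_lit 39598625))) (BT.node (nat_lit 10923072) (BT.leaf (nat_lit 37812257)) (BT.leaf (nat_lit 41728789)))) (BT.node (nat_lit 10923264) (BT.node (nat_lit 10923200) (BT.leaf (nat_lit 43637793)) (BT.leaf (nat_lit 43637537))) (BT.node (nat_lit 10923328) (BT.leaf (nat_lit 34451217)) (BT.leaf (nat_lit 43864349))))))) (BT.node (nat_lit 10924480) (BT.node (nat_lit 10923904) (BT.node (nat_lit 10923648) (BT.node (nat_lit 10923520) (BT.node (nat_lit 10923456) (BT.leaf (nat_lit 38109717)) (BT.leaf (nat_lit 49107733))) (BT.node (nat_lit 10923584) (BT.leaf (nat_lit 45267461)) (BT.leaf (nat_lit 43639301)))) (BT.node (nat_lit 10923776) (BT.node (nat_lit 10923712) (BT.leaf (nat_lit 43716869)) (BT.leaf (nat_lit 44969497))) (BT.node (nat_lit 10923840) (BT.leaf (nat_lit 43639813)) (BT.leaf (nat_lit 37947673))))) (BT.node (nat_lit 10924224) (BT.node (nat_lit 10924096) (BT.node (nat_lit 10924032) (BT.leaf (nat_lit 48437253)) (BT.leaf (nat_lit 40347925))) (BT.node (nat_lit 10924160) (BT.leaf (nat_lit 40347933)) (BT.leaf (nat_lit 38881301)))) (BT.node (nat_lit 10924352) (BT.node (nat_lit 10924288) (BT.leaf (nat_lit 43641349)) (BT.leaf (nat_lit 49158681))) (BT.node (nat_lit 10924416) (BT.leaf (nat_lit 43848737)) (BT.leaf (nat_lit 31111685)))))) (BT.node (nat_lit 10924928) (BT.node (nat_lit 10924672) (BT.node (nat_lit 10924608) (BT.node (nat_lit 10924544) (BT.leaf (nat_lit 44378137)) (BT.leaf (nat_lit 43798533))) (BT.node (nat_lit 10924616) (BT.leaf (nat_lit 45711901)) (BT.leaf (nat_lit 710856)))) (BT.node (nat_lit 10924800) (BT.node (nat_lit 10924736) (BT.leaf (nat_lit 38866193)) (BT.leaf (nat_lit 50847769))) (BT.node (nat_lit 10924864) (BT.leaf (nat_lit 50847773)) (BT.leaf (nat_lit 47133205))))) (BT.node (nat_lit 10925184) (BT.node (nat_lit 10925056) (BT.node (nat_lit 10924992) (BT.leaf (nat_lit 40401953)) (BT.leaf (nat_lit 45524001))) (BT.node (nat_lit 10925120) (BT.leaf (nat_lit 48945953)) (BT.leaf (nat_lit 31108629)))) (BT.node (nat_lit 10925440) (BT.node (nat_lit 10925248) (BT.leaf (nat_lit 48634657)) (BT.leaf (nat_lit 48946465))) (BT.node (nat_lit 10925504) (BT.leaf (nat_lit 31206929)) (BT.leaf (nat_lit 40083209)))))))) (BT.node (nat_lit 10927424) (BT.node (nat_lit 10926528) (BT.node (nat_lit 10926080) (BT.node (nat_lit 10925824) (BT.node (nat_lit 10925696) (BT.node (nat_lit 10925632) (BT.leaf (nat_lit 40083213)) (BT.leaf (nat_lit 40083225))) (BT.node (nat_lit 10925760) (BT.leaf (nat_lit 40083229)) (BT.leaf (nat_lit 40083233)))) (BT.node (nat_lit 10925952) (BT.node (nat_lit 10925888) (BT.leaf (nat_lit 47486225)) (BT.leaf (nat_lit 41478689))) (BT.node (nat_lit 10926016) (BT.leaf (nat_lit 39123985)) (BT.leaf (nat_lit 41478665))))) (BT.node (nat_lit 10926272) (BT.node (nat_lit 10926144) (BT.node (nat_lit 10926085) (BT.leaf (nat_lit 41179141)) (BT.leaf (nat_lit 716864))) (BT.node (nat_lit 10926208) (BT.leaf (nat_lit 31720213)) (BT.leaf (nat_lit 46230557)))) (BT.node (nat_lit 10926400) (BT.node (nat_lit 10926336) (BT.leaf (nat_lit 37806361)) (BT.leaf (nat_lit 41478673))) (BT.node (nat_lit 10926464) (BT.leaf (nat_lit 41478677)) (BT.leaf (nat_lit 46478869)))))) (BT.node (nat_lit 10926912) (BT.node (nat_lit 10926784) (BT.node (nat_lit 10926659) (BT.node (nat_lit 10926656) (BT.leaf (nat_lit 44388613)) (BT.leaf (nat_lit 42020641))) (BT.node (nat_lit 10926720) (BT.leaf (nat_lit 715400)) (BT.leaf (nat_lit 49558537)))) (BT.node (nat_lit 10926792) (BT.node (nat_lit 10926791) (BT.leaf (nat_lit 39496457)) (BT.leaf (nat_lit 710416))) (BT.node (nat_lit 10926848) (BT.leaf (nat_lit 710416)) (BT.leaf (nat_lit 43697925))))) (BT.node (nat_lit 10927168) (BT.node (nat_lit 10927040) (BT.node (nat_lit 10926976) (BT.leaf (nat_lit 44409621)) (BT.leaf (nat_lit 49586457))) (BT.node (nat_lit 10927104) (BT.leaf (nat_lit 40204821)) (BT.leaf (nat_lit 43070733)))) (BT.node (nat_lit 10927296) (BT.node (nat_lit 10927232) (BT.leaf (nat_lit 43070989)) (BT.leaf (nat_lit 44661793))) (BT.node (nat_lit 10927360) (BT.leaf (nat_lit 37760017)) (BT.leaf (nat_lit 45479193))))))) (BT.node (nat_lit 10928512) (BT.node (nat_lit 10928000) (BT.node (nat_lit 10927744) (BT.node (nat_lit 10927616) (BT.node (nat_lit 10927552) (BT.leaf (nat_lit 41177113)) (BT.leaf (nat_lit 32578569))) (BT.node (nat_lit 10927680) (BT.leaf (nat_lit 32578573)) (BT.leaf (nat_lit 34454037)))) (BT.node (nat_lit 10927872) (BT.node (nat_lit 10927747) (BT.leaf (nat_lit 32639765)) (BT.leaf (nat_lit 773032))) (BT.node (nat_lit 10927936) (BT.leaf (nat_lit 45786901)) (BT.leaf (nat_lit 43708449))))) (BT.node (nat_lit 10928320) (BT.node (nat_lit 10928192) (BT.node (nat_lit 10928128) (BT.leaf (nat_lit 39331601)) (BT.leaf (nat_lit 42624545))) (BT.node (nat_lit 10928256) (BT.leaf (nat_lit 44400929)) (BT.leaf (nat_lit 49525521)))) (BT.node (nat_lit 10928388) (BT.node (nat_lit 10928384) (BT.leaf (nat_lit 45814809)) (BT.leaf (nat_lit 35305505))) (BT.node (nat_lit 10928448) (BT.leaf (nat_lit 714392)) (BT.leaf (nat_lit 42555401)))))) (BT.node (nat_lit 10929024) (BT.node (nat_lit 10928768) (BT.node (nat_lit 10928640) (BT.node (nat_lit 10928576) (BT.leaf (nat_lit 41771289)) (BT.leaf (nat_lit 41771293))) (BT.node (nat_lit 10928704) (BT.leaf (nat_lit 43151125)) (BT.leaf (nat_lit 42624021)))) (BT.node (nat_lit 10928896) (BT.node (nat_lit 10928832) (BT.leaf (nat_lit 42556165)) (BT.leaf (nat_lit 44912913))) (BT.node (nat_lit 10928960) (BT.leaf (nat_lit 44912917)) (BT.leaf (nat_lit 31112465))))) (BT.node (nat_lit 10929280) (BT.node (nat_lit 10929152) (BT.node (nat_lit 10929088) (BT.leaf (nat_lit 37856009)) (BT.leaf (nat_lit 44393249))) (BT.node (nat_lit 10929216) (BT.leaf (nat_lit 49385749)) (BT.leaf (nat_lit 39446293)))) (BT.node (nat_lit 10929408) (BT.node (nat_lit 10929344) (BT.leaf (nat_lit 49385757)) (BT.leaf (nat_lit 44824329))) (BT.node (nat_lit 10929472) (BT.leaf (nat_lit 42294801)) (BT.leaf (nat_lit 41484821))))))))) (BT.node (nat_lit 10933250) (BT.node (nat_lit 10931584) (BT.node (nat_lit 10930432) (BT.node (nat_lit 10930048) (BT.node (nat_lit 10929792) (BT.node (nat_lit 10929664) (BT.node (nat_lit 10929600) (BT.leaf (nat_lit 42294817)) (BT.leaf (nat_lit 43865633))) (BT.node (nat_lit 10929728) (BT.leaf (nat_lit 42031877)) (BT.leaf (nat_lit 43866913)))) (BT.node (nat_lit 10929920) (BT.node (nat_lit 10929856) (BT.leaf (nat_lit 43866657)) (BT.leaf (nat_lit 43867933))) (BT.node (nat_lit 10929984) (BT.leaf (nat_lit 40581393)) (BT.leaf (nat_lit 37856537))))) (BT.node (nat_lit 10930243) (BT.node (nat_lit 10930240) (BT.node (nat_lit 10930176) (BT.leaf (nat_lit 40581409)) (BT.leaf (nat_lit 39128349))) (BT.node (nat_lit 10930242) (BT.leaf (nat_lit 43720221)) (BT.leaf (nat_lit 713112)))) (BT.node (nat_lit 10930304) (BT.node (nat_lit 10930244) (BT.leaf (nat_lit 713112)) (BT.leaf (nat_lit 713112))) (BT.node (nat_lit 10930368) (BT.leaf (nat_lit 31112977)) (BT.leaf (nat_lit 49057305)))))) (BT.node (nat_lit 10931072) (BT.node (nat_lit 10930752) (BT.node (nat_lit 10930624) (BT.node (nat_lit 10930560) (BT.leaf (nat_lit 39128089)) (BT.leaf (nat_lit 42587681))) (BT.node (nat_lit 10930688) (BT.leaf (nat_lit 48250901)) (BT.leaf (nat_lit 37856797)))) (BT.node (nat_lit 10930880) (BT.node (nat_lit 10930816) (BT.leaf (nat_lit 37764881)) (BT.leaf (nat_lit 43565601))) (BT.node (nat_lit 10931008) (BT.leaf (nat_lit 31112729)) (BT.leaf (nat_lit 31112733))))) (BT.node (nat_lit 10931328) (BT.node (nat_lit 10931200) (BT.node (nat_lit 10931136) (BT.leaf (nat_lit 44654113)) (BT.leaf (nat_lit 37354521))) (BT.node (nat_lit 10931264) (BT.leaf (nat_lit 37858841)) (BT.leaf (nat_lit 27367445)))) (BT.node (nat_lit 10931456) (BT.node (nat_lit 10931392) (BT.leaf (nat_lit 46756873)) (BT.leaf (nat_lit 32057377))) (BT.node (nat_lit 10931520) (BT.leaf (nat_lit 42586133)) (BT.leaf (nat_lit 48831265))))))) (BT.node (nat_lit 10932480) (BT.node (nat_lit 10931968) (BT.node (nat_lit 10931840) (BT.node (nat_lit 10931712) (BT.node (nat_lit 10931648) (BT.leaf (nat_lit 31113989)) (BT.leaf (nat_lit 38661657))) (BT.node (nat_lit 10931776) (BT.leaf (nat_lit 38274317)) (BT.leaf (nat_lit 32748813)))) (BT.node (nat_lit 10931845) (BT.node (nat_lit 10931842) (BT.leaf (nat_lit 47491353)) (BT.leaf (nat_lit 703280))) (BT.node (nat_lit 10931904) (BT.leaf (nat_lit 703280)) (BT.leaf (nat_lit 32021005))))) (BT.node (nat_lit 10932224) (BT.node (nat_lit 10932096) (BT.node (nat_lit 10932032) (BT.leaf (nat_lit 34456081)) (BT.leaf (nat_lit 43439641))) (BT.node (nat_lit 10932160) (BT.leaf (nat_lit 43439645)) (BT.leaf (nat_lit 34456337)))) (BT.node (nat_lit 10932352) (BT.node (nat_lit 10932288) (BT.leaf (nat_lit 45138701)) (BT.leaf (nat_lit 36273173))) (BT.node (nat_lit 10932416) (BT.leaf (nat_lit 43648005)) (BT.leaf (nat_lit 37733637)))))) (BT.node (nat_lit 10932867) (BT.node (nat_lit 10932736) (BT.node (nat_lit 10932608) (BT.node (nat_lit 10932544) (BT.leaf (nat_lit 49807381)) (BT.leaf (nat_lit 43648289))) (BT.node (nat_lit 10932672) (BT.leaf (nat_lit 43648033)) (BT.leaf (nat_lit 32610565)))) (BT.node (nat_lit 10932801) (BT.node (nat_lit 10932800) (BT.leaf (nat_lit 31116817)) (BT.leaf (nat_lit 32610321))) (BT.node (nat_lit 10932864) (BT.leaf (nat_lit 773428)) (BT.leaf (nat_lit 42754821))))) (BT.node (nat_lit 10933120) (BT.node (nat_lit 10932992) (BT.node (nat_lit 10932928) (BT.leaf (nat_lit 717108)) (BT.leaf (nat_lit 42765089))) (BT.node (nat_lit 10933056) (BT.leaf (nat_lit 28137233)) (BT.leaf (nat_lit 31117841)))) (BT.node (nat_lit 10933248) (BT.node (nat_lit 10933184) (BT.leaf (nat_lit 38317589)) (BT.leaf (nat_lit 45476361))) (BT.node (nat_lit 10933249) (BT.leaf (nat_lit 43732761)) (BT.leaf (nat_lit 717280)))))))) (BT.node (nat_lit 10935104) (BT.node (nat_lit 10934208) (BT.node (nat_lit 10933696) (BT.node (nat_lit 10933440) (BT.node (nat_lit 10933312) (BT.node (nat_lit 10933251) (BT.leaf (nat_lit 717280)) (BT.leaf (nat_lit 717280))) (BT.node (nat_lit 10933376) (BT.leaf (nat_lit 31121681)) (BT.leaf (nat_lit 42145541)))) (BT.node (nat_lit 10933568) (BT.node (nat_lit 10933504) (BT.leaf (nat_lit 31121169)) (BT.leaf (nat_lit 38857493))) (BT.node (nat_lit 10933632) (BT.leaf (nat_lit 38857497)) (BT.leaf (nat_lit 38857501))))) (BT.node (nat_lit 10933952) (BT.node (nat_lit 10933824) (BT.node (nat_lit 10933760) (BT.leaf (nat_lit 31120913)) (BT.leaf (nat_lit 47680797))) (BT.node (nat_lit 10933888) (BT.leaf (nat_lit 31122205)) (BT.leaf (nat_lit 31719185)))) (BT.node (nat_lit 10934080) (BT.node (nat_lit 10934016) (BT.leaf (nat_lit 44046881)) (BT.leaf (nat_lit 29259289))) (BT.node (nat_lit 10934144) (BT.leaf (nat_lit 28208153)) (BT.leaf (nat_lit 43370245)))))) (BT.node (nat_lit 10934592) (BT.node (nat_lit 10934400) (BT.node (nat_lit 10934336) (BT.node (nat_lit 10934272) (BT.leaf (nat_lit 37812741)) (BT.leaf (nat_lit 39561233))) (BT.node (nat_lit 10934344) (BT.leaf (nat_lit 37736197)) (BT.leaf (nat_lit 721972)))) (BT.node (nat_lit 10934464) (BT.node (nat_lit 10934404) (BT.leaf (nat_lit 52143393)) (BT.leaf (nat_lit 773832))) (BT.node (nat_lit 10934528) (BT.leaf (nat_lit 44014097)) (BT.leaf (nat_lit 48979489))))) (BT.node (nat_lit 10934848) (BT.node (nat_lit 10934720) (BT.node (nat_lit 10934656) (BT.leaf (nat_lit 48489501)) (BT.leaf (nat_lit 42817041))) (BT.node (nat_lit 10934784) (BT.leaf (nat_lit 42821661)) (BT.leaf (nat_lit 32298777)))) (BT.node (nat_lit 10934976) (BT.node (nat_lit 10934912) (BT.leaf (nat_lit 48328717)) (BT.leaf (nat_lit 46645529))) (BT.node (nat_lit 10935040) (BT.leaf (nat_lit 33323289)) (BT.leaf (nat_lit 49188873))))))) (BT.node (nat_lit 10936000) (BT.node (nat_lit 10935552) (BT.node (nat_lit 10935360) (BT.node (nat_lit 10935232) (BT.node (nat_lit 10935168) (BT.leaf (nat_lit 41606677)) (BT.leaf (nat_lit 31127061))) (BT.node (nat_lit 10935296) (BT.leaf (nat_lit 43877137)) (BT.leaf (nat_lit 45138977)))) (BT.node (nat_lit 10935488) (BT.node (nat_lit 10935424) (BT.leaf (nat_lit 37816609)) (BT.leaf (nat_lit 37738757))) (BT.node (nat_lit 10935495) (BT.leaf (nat_lit 31222305)) (BT.leaf (nat_lit 758792))))) (BT.node (nat_lit 10935744) (BT.node (nat_lit 10935680) (BT.node (nat_lit 10935616) (BT.leaf (nat_lit 46756897)) (BT.leaf (nat_lit 39763477))) (BT.node (nat_lit 10935683) (BT.leaf (nat_lit 31114273)) (BT.leaf (nat_lit 757528)))) (BT.node (nat_lit 10935872) (BT.node (nat_lit 10935808) (BT.leaf (nat_lit 48482589)) (BT.leaf (nat_lit 48482321))) (BT.node (nat_lit 10935936) (BT.leaf (nat_lit 31129109)) (BT.leaf (nat_lit 47766805)))))) (BT.node (nat_lit 10936512) (BT.node (nat_lit 10936256) (BT.node (nat_lit 10936128) (BT.node (nat_lit 10936064) (BT.leaf (nat_lit 50830865)) (BT.leaf (nat_lit 40716573))) (BT.node (nat_lit 10936192) (BT.leaf (nat_lit 46652425)) (BT.leaf (nat_lit 30876445)))) (BT.node (nat_lit 10936384) (BT.node (nat_lit 10936320) (BT.leaf (nat_lit 52090913)) (BT.leaf (nat_lit 50913797))) (BT.node (nat_lit 10936448) (BT.leaf (nat_lit 39677217)) (BT.leaf (nat_lit 49953809))))) (BT.node (nat_lit 10936768) (BT.node (nat_lit 10936640) (BT.node (nat_lit 10936576) (BT.leaf (nat_lit 29239833)) (BT.leaf (nat_lit 52090893))) (BT.node (nat_lit 10936704) (BT.leaf (nat_lit 38046213)) (BT.leaf (nat_lit 41148697)))) (BT.node (nat_lit 10936896) (BT.node (nat_lit 10936832) (BT.leaf (nat_lit 41148701)) (BT.leaf (nat_lit 42437653))) (BT.node (nat_lit 10936960) (BT.leaf (nat_lit 44396549)) (BT.leaf (nat_lit 48439045)))))))))))) (BT.node (nat_lit 10969088) (BT.node (nat_lit 10953216) (BT.node (nat_lit 10945280) (BT.node (nat_lit 10941248) (BT.node (nat_lit 10939200) (BT.node (nat_lit 10938176) (BT.node (nat_lit 10937600) (BT.node (nat_lit 10937344) (BT.node (nat_lit 10937152) (BT.node (nat_lit 10937088) (BT.leaf (nat_lit 49690125)) (BT.leaf (nat_lit 43748121))) (BT.node (nat_lit 10937216) (BT.leaf (nat_lit 45098517)) (BT.leaf (nat_lit 45098525)))) (BT.node (nat_lit 10937472) (BT.node (nat_lit 10937408) (BT.leaf (nat_lit 31140897)) (BT.leaf (nat_lit 31140641))) (BT.node (nat_lit 10937536) (BT.leaf (nat_lit 39096081)) (BT.leaf (nat_lit 43067425))))) (BT.node (nat_lit 10937856) (BT.node (nat_lit 10937728) (BT.node (nat_lit 10937664) (BT.leaf (nat_lit 43750685)) (BT.leaf (nat_lit 43872773))) (BT.node (nat_lit 10937792) (BT.leaf (nat_lit 38594337)) (BT.leaf (nat_lit 43506457)))) (BT.node (nat_lit 10938048) (BT.node (nat_lit 10937920) (BT.leaf (nat_lit 43506461)) (BT.leaf (nat_lit 37821985))) (BT.node (nat_lit 10938112) (BT.leaf (nat_lit 44765205)) (BT.leaf (nat_lit 44764677)))))) (BT.node (nat_lit 10938624) (BT.node (nat_lit 10938432) (BT.node (nat_lit 10938304) (BT.node (nat_lit 10938240) (BT.leaf (nat_lit 44765213)) (BT.leaf (nat_lit 31136529))) (BT.node (nat_lit 10938368) (BT.leaf (nat_lit 31134993)) (BT.leaf (nat_lit 31992073)))) (BT.node (nat_lit 10938560) (BT.node (nat_lit 10938496) (BT.leaf (nat_lit 47046673)) (BT.leaf (nat_lit 28144405))) (BT.node (nat_lit 10938563) (BT.leaf (nat_lit 39338245)) (BT.leaf (nat_lit 767020))))) (BT.node (nat_lit 10938944) (BT.node (nat_lit 10938752) (BT.node (nat_lit 10938688) (BT.leaf (nat_lit 43754265)) (BT.leaf (nat_lit 47046929))) (BT.node (nat_lit 10938880) (BT.leaf (nat_lit 43642649)) (BT.leaf (nat_lit 31137053)))) (BT.node (nat_lit 10939072) (BT.node (nat_lit 10939008) (BT.leaf (nat_lit 31448081)) (BT.leaf (nat_lit 31448085))) (BT.node (nat_lit 10939136) (BT.leaf (nat_lit 31137049)) (BT.leaf (nat_lit 34768409))))))) (BT.node (nat_lit 10940224) (BT.node (nat_lit 10939712) (BT.node (nat_lit 10939458) (BT.node (nat_lit 10939392) (BT.node (nat_lit 10939264) (BT.leaf (nat_lit 37855761)) (BT.leaf (nat_lit 36065309))) (BT.node (nat_lit 10939456) (BT.leaf (nat_lit 50819093)) (BT.leaf (nat_lit 43758109)))) (BT.node (nat_lit 10939584) (BT.node (nat_lit 10939520) (BT.leaf (nat_lit 712148)) (BT.leaf (nat_lit 49407005))) (BT.node (nat_lit 10939648) (BT.leaf (nat_lit 41820169)) (BT.leaf (nat_lit 41820425))))) (BT.node (nat_lit 10939968) (BT.node (nat_lit 10939840) (BT.node (nat_lit 10939776) (BT.leaf (nat_lit 39850001)) (BT.leaf (nat_lit 32486677))) (BT.node (nat_lit 10939904) (BT.leaf (nat_lit 31137565)) (BT.leaf (nat_lit 45740305)))) (BT.node (nat_lit 10940096) (BT.node (nat_lit 10940032) (BT.leaf (nat_lit 45578005)) (BT.leaf (nat_lit 31137561))) (BT.node (nat_lit 10940160) (BT.leaf (nat_lit 34500125)) (BT.leaf (nat_lit 36385809)))))) (BT.node (nat_lit 10940800) (BT.node (nat_lit 10940544) (BT.node (nat_lit 10940352) (BT.node (nat_lit 10940288) (BT.leaf (nat_lit 42260757)) (BT.leaf (nat_lit 31139097))) (BT.node (nat_lit 10940480) (BT.leaf (nat_lit 29687573)) (BT.leaf (nat_lit 39132949)))) (BT.node (nat_lit 10940672) (BT.node (nat_lit 10940608) (BT.leaf (nat_lit 43512089)) (BT.leaf (nat_lit 43512093))) (BT.node (nat_lit 10940736) (BT.leaf (nat_lit 40225557)) (BT.leaf (nat_lit 45099793))))) (BT.node (nat_lit 10941120) (BT.node (nat_lit 10940992) (BT.node (nat_lit 10940928) (BT.leaf (nat_lit 39133209)) (BT.leaf (nat_lit 31140113))) (BT.node (nat_lit 10941056) (BT.leaf (nat_lit 28139537)) (BT.leaf (nat_lit 31139857)))) (BT.node (nat_lit 10941128) (BT.node (nat_lit 10941121) (BT.leaf (nat_lit 45852941)) (BT.leaf (nat_lit 716448))) (BT.node (nat_lit 10941184) (BT.leaf (nat_lit 716448)) (BT.leaf (nat_lit 27481873)))))))) (BT.node (nat_lit 10943232) (BT.node (nat_lit 10942336) (BT.node (nat_lit 10941760) (BT.node (nat_lit 10941504) (BT.node (nat_lit 10941376) (BT.node (nat_lit 10941312) (BT.leaf (nat_lit 40439057)) (BT.leaf (nat_lit 42716449))) (BT.node (nat_lit 10941440) (BT.leaf (nat_lit 46276885)) (BT.leaf (nat_lit 40232709)))) (BT.node (nat_lit 10941632) (BT.node (nat_lit 10941568) (BT.leaf (nat_lit 33008929)) (BT.leaf (nat_lit 31142177))) (BT.node (nat_lit 10941696) (BT.leaf (nat_lit 41606433)) (BT.leaf (nat_lit 38362905))))) (BT.node (nat_lit 10942016) (BT.node (nat_lit 10941888) (BT.node (nat_lit 10941824) (BT.leaf (nat_lit 31497737)) (BT.leaf (nat_lit 31497741))) (BT.node (nat_lit 10941952) (BT.leaf (nat_lit 31497753)) (BT.leaf (nat_lit 31497757)))) (BT.node (nat_lit 10942144) (BT.node (nat_lit 10942080) (BT.leaf (nat_lit 33008917)) (BT.leaf (nat_lit 40341785))) (BT.node (nat_lit 10942208) (BT.leaf (nat_lit 40341789)) (BT.leaf (nat_lit 44586785)))))) (BT.node (nat_lit 10942721) (BT.node (nat_lit 10942592) (BT.node (nat_lit 10942464) (BT.node (nat_lit 10942400) (BT.leaf (nat_lit 44587297)) (BT.leaf (nat_lit 31226657))) (BT.node (nat_lit 10942528) (BT.leaf (nat_lit 41349665)) (BT.leaf (nat_lit 31482641)))) (BT.node (nat_lit 10942664) (BT.node (nat_lit 10942656) (BT.leaf (nat_lit 39162141)) (BT.leaf (nat_lit 44195849))) (BT.node (nat_lit 10942720) (BT.leaf (nat_lit 757900)) (BT.leaf (nat_lit 39665937))))) (BT.node (nat_lit 10942976) (BT.node (nat_lit 10942848) (BT.node (nat_lit 10942784) (BT.leaf (nat_lit 757896)) (BT.leaf (nat_lit 47278357))) (BT.node (nat_lit 10942912) (BT.leaf (nat_lit 39162125)) (BT.leaf (nat_lit 39396105)))) (BT.node (nat_lit 10943104) (BT.node (nat_lit 10943040) (BT.leaf (nat_lit 32779785)) (BT.leaf (nat_lit 51037957))) (BT.node (nat_lit 10943168) (BT.leaf (nat_lit 35207189)) (BT.leaf (nat_lit 51001625))))))) (BT.node (nat_lit 10944256) (BT.node (nat_lit 10943808) (BT.node (nat_lit 10943552) (BT.node (nat_lit 10943360) (BT.node (nat_lit 10943296) (BT.leaf (nat_lit 42212109)) (BT.leaf (nat_lit 40896781))) (BT.node (nat_lit 10943488) (BT.leaf (nat_lit 43874329)) (BT.leaf (nat_lit 39754509)))) (BT.node (nat_lit 10943680) (BT.node (nat_lit 10943616) (BT.leaf (nat_lit 41358357)) (BT.leaf (nat_lit 43774749))) (BT.node (nat_lit 10943744) (BT.leaf (nat_lit 41357829)) (BT.leaf (nat_lit 45415949))))) (BT.node (nat_lit 10944000) (BT.node (nat_lit 10943877) (BT.node (nat_lit 10943872) (BT.leaf (nat_lit 45415965)) (BT.leaf (nat_lit 39950349))) (BT.node (nat_lit 10943936) (BT.leaf (nat_lit 705608)) (BT.leaf (nat_lit 49415437)))) (BT.node (nat_lit 10944128) (BT.node (nat_lit 10944064) (BT.leaf (nat_lit 32605969)) (BT.leaf (nat_lit 45555221))) (BT.node (nat_lit 10944192) (BT.leaf (nat_lit 45572105)) (BT.leaf (nat_lit 41357841)))))) (BT.node (nat_lit 10944768) (BT.node (nat_lit 10944512) (BT.node (nat_lit 10944384) (BT.node (nat_lit 10944320) (BT.leaf (nat_lit 40651529)) (BT.leaf (nat_lit 44145185))) (BT.node (nat_lit 10944448) (BT.leaf (nat_lit 38942489)) (BT.leaf (nat_lit 38942493)))) (BT.node (nat_lit 10944640) (BT.node (nat_lit 10944576) (BT.leaf (nat_lit 42909453)) (BT.leaf (nat_lit 43869721))) (BT.node (nat_lit 10944704) (BT.leaf (nat_lit 31432221)) (BT.leaf (nat_lit 44245537))))) (BT.node (nat_lit 10945024) (BT.node (nat_lit 10944896) (BT.node (nat_lit 10944832) (BT.leaf (nat_lit 44324101)) (BT.leaf (nat_lit 39624197))) (BT.node (nat_lit 10944960) (BT.leaf (nat_lit 48762377)) (BT.leaf (nat_lit 43285253)))) (BT.node (nat_lit 10945152) (BT.node (nat_lit 10945088) (BT.leaf (nat_lit 34391829)) (BT.leaf (nat_lit 42522397))) (BT.node (nat_lit 10945216) (BT.leaf (nat_lit 40939025)) (BT.leaf (nat_lit 41687837))))))))) (BT.node (nat_lit 10949376) (BT.node (nat_lit 10947328) (BT.node (nat_lit 10946436) (BT.node (nat_lit 10945920) (BT.node (nat_lit 10945536) (BT.node (nat_lit 10945408) (BT.node (nat_lit 10945344) (BT.leaf (nat_lit 44328965)) (BT.leaf (nat_lit 44329221))) (BT.node (nat_lit 10945472) (BT.leaf (nat_lit 49792533)) (BT.leaf (nat_lit 32983321)))) (BT.node (nat_lit 10945728) (BT.node (nat_lit 10945600) (BT.leaf (nat_lit 32983325)) (BT.leaf (nat_lit 32983329))) (BT.node (nat_lit 10945792) (BT.leaf (nat_lit 38913817)) (BT.leaf (nat_lit 43783453))))) (BT.node (nat_lit 10946240) (BT.node (nat_lit 10946048) (BT.node (nat_lit 10945984) (BT.leaf (nat_lit 44327429)) (BT.leaf (nat_lit 44263201))) (BT.node (nat_lit 10946176) (BT.leaf (nat_lit 43547653)) (BT.leaf (nat_lit 42732305)))) (BT.node (nat_lit 10946368) (BT.node (nat_lit 10946304) (BT.leaf (nat_lit 38282257)) (BT.leaf (nat_lit 41477401))) (BT.node (nat_lit 10946432) (BT.leaf (nat_lit 32858897)) (BT.leaf (nat_lit 33010949)))))) (BT.node (nat_lit 10946823) (BT.node (nat_lit 10946688) (BT.node (nat_lit 10946560) (BT.node (nat_lit 10946496) (BT.leaf (nat_lit 714796)) (BT.leaf (nat_lit 42598661))) (BT.node (nat_lit 10946624) (BT.leaf (nat_lit 39412233)) (BT.leaf (nat_lit 48188697)))) (BT.node (nat_lit 10946816) (BT.node (nat_lit 10946752) (BT.leaf (nat_lit 41685517)) (BT.leaf (nat_lit 47617053))) (BT.node (nat_lit 10946822) (BT.leaf (nat_lit 35010585)) (BT.leaf (nat_lit 795468))))) (BT.node (nat_lit 10947072) (BT.node (nat_lit 10946944) (BT.node (nat_lit 10946880) (BT.leaf (nat_lit 795468)) (BT.leaf (nat_lit 31151633))) (BT.node (nat_lit 10947008) (BT.leaf (nat_lit 41889049)) (BT.leaf (nat_lit 41889053)))) (BT.node (nat_lit 10947200) (BT.node (nat_lit 10947136) (BT.leaf (nat_lit 41889057)) (BT.leaf (nat_lit 31566101))) (BT.node (nat_lit 10947264) (BT.leaf (nat_lit 31566105)) (BT.leaf (nat_lit 31566109))))))) (BT.node (nat_lit 10948352) (BT.node (nat_lit 10947840) (BT.node (nat_lit 10947590) (BT.node (nat_lit 10947456) (BT.node (nat_lit 10947392) (BT.leaf (nat_lit 41488673)) (BT.leaf (nat_lit 41489185))) (BT.node (nat_lit 10947587) (BT.leaf (nat_lit 35873045)) (BT.leaf (nat_lit 686732)))) (BT.node (nat_lit 10947648) (BT.node (nat_lit 10947591) (BT.leaf (nat_lit 686732)) (BT.leaf (nat_lit 686732))) (BT.node (nat_lit 10947712) (BT.leaf (nat_lit 41647889)) (BT.leaf (nat_lit 30148369))))) (BT.node (nat_lit 10948096) (BT.node (nat_lit 10947968) (BT.node (nat_lit 10947904) (BT.leaf (nat_lit 31152657)) (BT.leaf (nat_lit 34524945))) (BT.node (nat_lit 10948032) (BT.leaf (nat_lit 51914761)) (BT.leaf (nat_lit 36724233)))) (BT.node (nat_lit 10948224) (BT.node (nat_lit 10948160) (BT.leaf (nat_lit 32110097)) (BT.leaf (nat_lit 46205453))) (BT.node (nat_lit 10948288) (BT.leaf (nat_lit 40646921)) (BT.leaf (nat_lit 45370389)))))) (BT.node (nat_lit 10948864) (BT.node (nat_lit 10948608) (BT.node (nat_lit 10948480) (BT.node (nat_lit 10948416) (BT.leaf (nat_lit 45370393)) (BT.leaf (nat_lit 45370397))) (BT.node (nat_lit 10948544) (BT.leaf (nat_lit 40422661)) (BT.leaf (nat_lit 48629765)))) (BT.node (nat_lit 10948736) (BT.node (nat_lit 10948672) (BT.leaf (nat_lit 39429149)) (BT.leaf (nat_lit 40425993))) (BT.node (nat_lit 10948800) (BT.leaf (nat_lit 31504145)) (BT.leaf (nat_lit 37937429))))) (BT.node (nat_lit 10949120) (BT.node (nat_lit 10948992) (BT.node (nat_lit 10948928) (BT.leaf (nat_lit 37937433)) (BT.leaf (nat_lit 37937437))) (BT.node (nat_lit 10949056) (BT.leaf (nat_lit 38258209)) (BT.leaf (nat_lit 45422625)))) (BT.node (nat_lit 10949248) (BT.node (nat_lit 10949184) (BT.leaf (nat_lit 39760133)) (BT.leaf (nat_lit 31207185))) (BT.node (nat_lit 10949312) (BT.leaf (nat_lit 45421317)) (BT.leaf (nat_lit 46693909)))))))) (BT.node (nat_lit 10951424) (BT.node (nat_lit 10950400) (BT.node (nat_lit 10949888) (BT.node (nat_lit 10949632) (BT.node (nat_lit 10949504) (BT.node (nat_lit 10949440) (BT.leaf (nat_lit 42041633)) (BT.leaf (nat_lit 46694169))) (BT.node (nat_lit 10949568) (BT.leaf (nat_lit 43196957)) (BT.leaf (nat_lit 39086869)))) (BT.node (nat_lit 10949760) (BT.node (nat_lit 10949696) (BT.leaf (nat_lit 44587289)) (BT.leaf (nat_lit 49302037))) (BT.node (nat_lit 10949824) (BT.leaf (nat_lit 43798809)) (BT.leaf (nat_lit 38871309))))) (BT.node (nat_lit 10950144) (BT.node (nat_lit 10950016) (BT.node (nat_lit 10949952) (BT.leaf (nat_lit 38307609)) (BT.leaf (nat_lit 41690893))) (BT.node (nat_lit 10950080) (BT.leaf (nat_lit 39603993)) (BT.leaf (nat_lit 32834321)))) (BT.node (nat_lit 10950272) (BT.node (nat_lit 10950208) (BT.leaf (nat_lit 46631173)) (BT.leaf (nat_lit 31341077))) (BT.node (nat_lit 10950336) (BT.leaf (nat_lit 31161605)) (BT.leaf (nat_lit 32955141)))))) (BT.node (nat_lit 10950912) (BT.node (nat_lit 10950656) (BT.node (nat_lit 10950528) (BT.node (nat_lit 10950464) (BT.leaf (nat_lit 40776221)) (BT.leaf (nat_lit 32954649))) (BT.node (nat_lit 10950592) (BT.leaf (nat_lit 43579917)) (BT.leaf (nat_lit 50306841)))) (BT.node (nat_lit 10950784) (BT.node (nat_lit 10950720) (BT.leaf (nat_lit 45979149)) (BT.leaf (nat_lit 42494737))) (BT.node (nat_lit 10950848) (BT.leaf (nat_lit 41623561)) (BT.leaf (nat_lit 31637025))))) (BT.node (nat_lit 10951108) (BT.node (nat_lit 10951040) (BT.node (nat_lit 10950976) (BT.leaf (nat_lit 31163909)) (BT.leaf (nat_lit 45764617))) (BT.node (nat_lit 10951104) (BT.leaf (nat_lit 41318165)) (BT.leaf (nat_lit 40374277)))) (BT.node (nat_lit 10951232) (BT.node (nat_lit 10951168) (BT.leaf (nat_lit 690956)) (BT.leaf (nat_lit 31735325))) (BT.node (nat_lit 10951360) (BT.leaf (nat_lit 31165713)) (BT.leaf (nat_lit 39418913))))))) (BT.node (nat_lit 10952320) (BT.node (nat_lit 10951808) (BT.node (nat_lit 10951617) (BT.node (nat_lit 10951552) (BT.node (nat_lit 10951488) (BT.leaf (nat_lit 39418657)) (BT.leaf (nat_lit 31165969))) (BT.node (nat_lit 10951616) (BT.leaf (nat_lit 45785877)) (BT.leaf (nat_lit 43000097)))) (BT.node (nat_lit 10951680) (BT.node (nat_lit 10951618) (BT.leaf (nat_lit 696332)) (BT.leaf (nat_lit 696332))) (BT.node (nat_lit 10951744) (BT.leaf (nat_lit 45786401)) (BT.leaf (nat_lit 42279957))))) (BT.node (nat_lit 10952064) (BT.node (nat_lit 10951936) (BT.node (nat_lit 10951872) (BT.leaf (nat_lit 28176157)) (BT.leaf (nat_lit 34134049))) (BT.node (nat_lit 10952000) (BT.leaf (nat_lit 37761813)) (BT.leaf (nat_lit 37839625)))) (BT.node (nat_lit 10952192) (BT.node (nat_lit 10952128) (BT.leaf (nat_lit 37840133)) (BT.leaf (nat_lit 31166737))) (BT.node (nat_lit 10952256) (BT.leaf (nat_lit 38314265)) (BT.leaf (nat_lit 38314269)))))) (BT.node (nat_lit 10952704) (BT.node (nat_lit 10952518) (BT.node (nat_lit 10952448) (BT.node (nat_lit 10952384) (BT.leaf (nat_lit 36835609)) (BT.leaf (nat_lit 32321057))) (BT.node (nat_lit 10952512) (BT.leaf (nat_lit 43659809)) (BT.leaf (nat_lit 43803169)))) (BT.node (nat_lit 10952576) (BT.node (nat_lit 10952519) (BT.leaf (nat_lit 715048)) (BT.leaf (nat_lit 715048))) (BT.node (nat_lit 10952640) (BT.leaf (nat_lit 43605021)) (BT.leaf (nat_lit 40989457))))) (BT.node (nat_lit 10952960) (BT.node (nat_lit 10952832) (BT.node (nat_lit 10952768) (BT.leaf (nat_lit 43605001)) (BT.leaf (nat_lit 45806621))) (BT.node (nat_lit 10952896) (BT.leaf (nat_lit 39024917)) (BT.leaf (nat_lit 49448225)))) (BT.node (nat_lit 10953088) (BT.node (nat_lit 10953024) (BT.leaf (nat_lit 50291229)) (BT.leaf (nat_lit 50780693))) (BT.node (nat_lit 10953152) (BT.leaf (nat_lit 34472725)) (BT.leaf (nat_lit 50291213)))))))))) (BT.node (nat_lit 10960960) (BT.node (nat_lit 10956864) (BT.node (nat_lit 10955264) (BT.node (nat_lit 10954176) (BT.node (nat_lit 10953728) (BT.node (nat_lit 10953472) (BT.node (nat_lit 10953344) (BT.node (nat_lit 10953280) (BT.leaf (nat_lit 31257117)) (BT.leaf (nat_lit 27293205))) (BT.node (nat_lit 10953408) (BT.leaf (nat_lit 36158725)) (BT.leaf (nat_lit 35001365)))) (BT.node (nat_lit 10953600) (BT.node (nat_lit 10953536) (BT.leaf (nat_lit 35001369)) (BT.leaf (nat_lit 35001373))) (BT.node (nat_lit 10953664) (BT.leaf (nat_lit 38893345)) (BT.leaf (nat_lit 31178257))))) (BT.node (nat_lit 10953925) (BT.node (nat_lit 10953856) (BT.node (nat_lit 10953792) (BT.leaf (nat_lit 39580169)) (BT.leaf (nat_lit 51638793))) (BT.node (nat_lit 10953920) (BT.leaf (nat_lit 36282901)) (BT.leaf (nat_lit 44289037)))) (BT.node (nat_lit 10954048) (BT.node (nat_lit 10953984) (BT.leaf (nat_lit 709480)) (BT.leaf (nat_lit 45406493))) (BT.node (nat_lit 10954112) (BT.leaf (nat_lit 42986765)) (BT.leaf (nat_lit 41381153)))))) (BT.node (nat_lit 10954688) (BT.node (nat_lit 10954432) (BT.node (nat_lit 10954304) (BT.node (nat_lit 10954240) (BT.leaf (nat_lit 42986761)) (BT.leaf (nat_lit 39421209))) (BT.node (nat_lit 10954368) (BT.leaf (nat_lit 39526689)) (BT.leaf (nat_lit 42986757)))) (BT.node (nat_lit 10954560) (BT.node (nat_lit 10954496) (BT.leaf (nat_lit 42986777)) (BT.leaf (nat_lit 42986781))) (BT.node (nat_lit 10954624) (BT.leaf (nat_lit 31967249)) (BT.leaf (nat_lit 31967265))))) (BT.node (nat_lit 10954944) (BT.node (nat_lit 10954816) (BT.node (nat_lit 10954752) (BT.leaf (nat_lit 30381589)) (BT.leaf (nat_lit 44574481))) (BT.node (nat_lit 10954880) (BT.leaf (nat_lit 42647557)) (BT.leaf (nat_lit 38700061)))) (BT.node (nat_lit 10955136) (BT.node (nat_lit 10955072) (BT.leaf (nat_lit 31180561)) (BT.leaf (nat_lit 42857749))) (BT.node (nat_lit 10955200) (BT.leaf (nat_lit 31181841)) (BT.leaf (nat_lit 31181073))))))) (BT.node (nat_lit 10956288) (BT.node (nat_lit 10955776) (BT.node (nat_lit 10955520) (BT.node (nat_lit 10955392) (BT.node (nat_lit 10955328) (BT.leaf (nat_lit 31180817)) (BT.leaf (nat_lit 37778181))) (BT.node (nat_lit 10955456) (BT.leaf (nat_lit 44096777)) (BT.leaf (nat_lit 31846689)))) (BT.node (nat_lit 10955648) (BT.node (nat_lit 10955584) (BT.leaf (nat_lit 44204041)) (BT.leaf (nat_lit 31182621))) (BT.node (nat_lit 10955712) (BT.leaf (nat_lit 31182617)) (BT.leaf (nat_lit 33373981))))) (BT.node (nat_lit 10956032) (BT.node (nat_lit 10955904) (BT.node (nat_lit 10955840) (BT.leaf (nat_lit 51986437)) (BT.leaf (nat_lit 40928545))) (BT.node (nat_lit 10955968) (BT.leaf (nat_lit 44593165)) (BT.leaf (nat_lit 38992149)))) (BT.node (nat_lit 10956160) (BT.node (nat_lit 10956096) (BT.leaf (nat_lit 41306389)) (BT.leaf (nat_lit 29486365))) (BT.node (nat_lit 10956224) (BT.leaf (nat_lit 42260513)) (BT.leaf (nat_lit 46449949)))))) (BT.node (nat_lit 10956549) (BT.node (nat_lit 10956480) (BT.node (nat_lit 10956356) (BT.node (nat_lit 10956352) (BT.leaf (nat_lit 48005909)) (BT.leaf (nat_lit 44547097))) (BT.node (nat_lit 10956416) (BT.leaf (nat_lit 701940)) (BT.leaf (nat_lit 45121037)))) (BT.node (nat_lit 10956483) (BT.node (nat_lit 10956481) (BT.leaf (nat_lit 34481173)) (BT.leaf (nat_lit 705724))) (BT.node (nat_lit 10956544) (BT.leaf (nat_lit 705724)) (BT.leaf (nat_lit 30002717))))) (BT.node (nat_lit 10956674) (BT.node (nat_lit 10956672) (BT.node (nat_lit 10956608) (BT.leaf (nat_lit 696044)) (BT.leaf (nat_lit 48782341))) (BT.node (nat_lit 10956673) (BT.leaf (nat_lit 31788573)) (BT.leaf (nat_lit 764600)))) (BT.node (nat_lit 10956736) (BT.node (nat_lit 10956676) (BT.leaf (nat_lit 764600)) (BT.leaf (nat_lit 694200))) (BT.node (nat_lit 10956800) (BT.leaf (nat_lit 42712845)) (BT.leaf (nat_lit 44299781)))))))) (BT.node (nat_lit 10959040) (BT.node (nat_lit 10958016) (BT.node (nat_lit 10957504) (BT.node (nat_lit 10957248) (BT.node (nat_lit 10957120) (BT.node (nat_lit 10956992) (BT.leaf (nat_lit 31186709)) (BT.leaf (nat_lit 47964177))) (BT.node (nat_lit 10957184) (BT.leaf (nat_lit 42257157)) (BT.leaf (nat_lit 42125333)))) (BT.node (nat_lit 10957376) (BT.node (nat_lit 10957312) (BT.leaf (nat_lit 31417873)) (BT.leaf (nat_lit 42624773))) (BT.node (nat_lit 10957440) (BT.leaf (nat_lit 42546717)) (BT.leaf (nat_lit 40344085))))) (BT.node (nat_lit 10957700) (BT.node (nat_lit 10957632) (BT.node (nat_lit 10957568) (BT.leaf (nat_lit 46222621)) (BT.leaf (nat_lit 31189773))) (BT.node (nat_lit 10957696) (BT.leaf (nat_lit 37938189)) (BT.leaf (nat_lit 47588129)))) (BT.node (nat_lit 10957888) (BT.node (nat_lit 10957824) (BT.leaf (nat_lit 738460)) (BT.leaf (nat_lit 40736013))) (BT.node (nat_lit 10957952) (BT.leaf (nat_lit 43795745)) (BT.leaf (nat_lit 43832585)))))) (BT.node (nat_lit 10958528) (BT.node (nat_lit 10958272) (BT.node (nat_lit 10958144) (BT.node (nat_lit 10958080) (BT.leaf (nat_lit 39405333)) (BT.leaf (nat_lit 44439557))) (BT.node (nat_lit 10958208) (BT.leaf (nat_lit 42634005)) (BT.leaf (nat_lit 43832329)))) (BT.node (nat_lit 10958400) (BT.node (nat_lit 10958336) (BT.leaf (nat_lit 39090449)) (BT.leaf (nat_lit 43615237))) (BT.node (nat_lit 10958464) (BT.leaf (nat_lit 38389533)) (BT.leaf (nat_lit 45537297))))) (BT.node (nat_lit 10958784) (BT.node (nat_lit 10958656) (BT.node (nat_lit 10958592) (BT.leaf (nat_lit 31192345)) (BT.leaf (nat_lit 38389529))) (BT.node (nat_lit 10958720) (BT.leaf (nat_lit 31192069)) (BT.leaf (nat_lit 45115917)))) (BT.node (nat_lit 10958912) (BT.node (nat_lit 10958848) (BT.leaf (nat_lit 42027805)) (BT.leaf (nat_lit 41119513))) (BT.node (nat_lit 10958976) (BT.leaf (nat_lit 48541465)) (BT.leaf (nat_lit 40374289))))))) (BT.node (nat_lit 10959936) (BT.node (nat_lit 10959494) (BT.node (nat_lit 10959360) (BT.node (nat_lit 10959168) (BT.node (nat_lit 10959104) (BT.leaf (nat_lit 42634773)) (BT.leaf (nat_lit 32458265))) (BT.node (nat_lit 10959296) (BT.leaf (nat_lit 31198489)) (BT.leaf (nat_lit 44374805)))) (BT.node (nat_lit 10959490) (BT.node (nat_lit 10959424) (BT.leaf (nat_lit 31198493)) (BT.leaf (nat_lit 31568657))) (BT.node (nat_lit 10959492) (BT.leaf (nat_lit 762328)) (BT.leaf (nat_lit 762328))))) (BT.node (nat_lit 10959680) (BT.node (nat_lit 10959552) (BT.node (nat_lit 10959496) (BT.leaf (nat_lit 762328)) (BT.leaf (nat_lit 762328))) (BT.node (nat_lit 10959616) (BT.leaf (nat_lit 31199001)) (BT.leaf (nat_lit 27423253)))) (BT.node (nat_lit 10959808) (BT.node (nat_lit 10959744) (BT.leaf (nat_lit 40413457)) (BT.leaf (nat_lit 37869085))) (BT.node (nat_lit 10959872) (BT.leaf (nat_lit 31200029)) (BT.leaf (nat_lit 40618273)))))) (BT.node (nat_lit 10960448) (BT.node (nat_lit 10960192) (BT.node (nat_lit 10960064) (BT.node (nat_lit 10960000) (BT.leaf (nat_lit 32832793)) (BT.leaf (nat_lit 49670425))) (BT.node (nat_lit 10960128) (BT.leaf (nat_lit 32021781)) (BT.leaf (nat_lit 44970005)))) (BT.node (nat_lit 10960320) (BT.node (nat_lit 10960256) (BT.leaf (nat_lit 44398857)) (BT.leaf (nat_lit 43570445))) (BT.node (nat_lit 10960384) (BT.leaf (nat_lit 43841049)) (BT.leaf (nat_lit 40405793))))) (BT.node (nat_lit 10960704) (BT.node (nat_lit 10960576) (BT.node (nat_lit 10960512) (BT.leaf (nat_lit 49784353)) (BT.leaf (nat_lit 49784609))) (BT.node (nat_lit 10960640) (BT.leaf (nat_lit 45141257)) (BT.leaf (nat_lit 49785121)))) (BT.node (nat_lit 10960832) (BT.node (nat_lit 10960768) (BT.leaf (nat_lit 49784865)) (BT.leaf (nat_lit 49461253))) (BT.node (nat_lit 10960896) (BT.leaf (nat_lit 39714065)) (BT.leaf (nat_lit 40869405))))))))) (BT.node (nat_lit 10964864) (BT.node (nat_lit 10962880) (BT.node (nat_lit 10961860) (BT.node (nat_lit 10961539) (BT.node (nat_lit 10961344) (BT.node (nat_lit 10961216) (BT.node (nat_lit 10961024) (BT.leaf (nat_lit 40195101)) (BT.leaf (nat_lit 49390597))) (BT.node (nat_lit 10961280) (BT.leaf (nat_lit 45529369)) (BT.leaf (nat_lit 31216657)))) (BT.node (nat_lit 10961536) (BT.node (nat_lit 10961408) (BT.leaf (nat_lit 31215889)) (BT.leaf (nat_lit 31215633))) (BT.node (nat_lit 10961537) (BT.leaf (nat_lit 41824033)) (BT.leaf (nat_lit 701720))))) (BT.node (nat_lit 10961728) (BT.node (nat_lit 10961600) (BT.node (nat_lit 10961541) (BT.leaf (nat_lit 701720)) (BT.leaf (nat_lit 701720))) (BT.node (nat_lit 10961664) (BT.leaf (nat_lit 39872025)) (BT.leaf (nat_lit 39872029)))) (BT.node (nat_lit 10961856) (BT.node (nat_lit 10961792) (BT.leaf (nat_lit 31586329)) (BT.leaf (nat_lit 31217437))) (BT.node (nat_lit 10961857) (BT.leaf (nat_lit 47853857)) (BT.leaf (nat_lit 719380)))))) (BT.node (nat_lit 10962368) (BT.node (nat_lit 10962176) (BT.node (nat_lit 10961984) (BT.node (nat_lit 10961920) (BT.leaf (nat_lit 719380)) (BT.leaf (nat_lit 39330313))) (BT.node (nat_lit 10962112) (BT.leaf (nat_lit 39330569)) (BT.leaf (nat_lit 32092693)))) (BT.node (nat_lit 10962240) (BT.node (nat_lit 10962181) (BT.leaf (nat_lit 32098829)) (BT.leaf (nat_lit 702780))) (BT.node (nat_lit 10962304) (BT.leaf (nat_lit 49380889)) (BT.leaf (nat_lit 32578057))))) (BT.node (nat_lit 10962565) (BT.node (nat_lit 10962496) (BT.node (nat_lit 10962432) (BT.leaf (nat_lit 32578061)) (BT.leaf (nat_lit 31219477))) (BT.node (nat_lit 10962560) (BT.leaf (nat_lit 32831757)) (BT.leaf (nat_lit 32832013)))) (BT.node (nat_lit 10962752) (BT.node (nat_lit 10962624) (BT.leaf (nat_lit 773016)) (BT.leaf (nat_lit 44520209))) (BT.node (nat_lit 10962816) (BT.leaf (nat_lit 39191825)) (BT.leaf (nat_lit 39191829))))))) (BT.node (nat_lit 10963968) (BT.node (nat_lit 10963456) (BT.node (nat_lit 10963136) (BT.node (nat_lit 10963008) (BT.node (nat_lit 10962944) (BT.leaf (nat_lit 44008201)) (BT.leaf (nat_lit 44008205))) (BT.node (nat_lit 10963072) (BT.leaf (nat_lit 31219989)) (BT.leaf (nat_lit 46298401)))) (BT.node (nat_lit 10963264) (BT.node (nat_lit 10963200) (BT.leaf (nat_lit 46298145)) (BT.leaf (nat_lit 28471829))) (BT.node (nat_lit 10963328) (BT.leaf (nat_lit 40592149)) (BT.leaf (nat_lit 50874645))))) (BT.node (nat_lit 10963712) (BT.node (nat_lit 10963584) (BT.node (nat_lit 10963520) (BT.leaf (nat_lit 46133533)) (BT.leaf (nat_lit 31220493))) (BT.node (nat_lit 10963648) (BT.leaf (nat_lit 43854621)) (BT.leaf (nat_lit 32635925)))) (BT.node (nat_lit 10963840) (BT.node (nat_lit 10963776) (BT.leaf (nat_lit 46165001)) (BT.leaf (nat_lit 43692805))) (BT.node (nat_lit 10963904) (BT.leaf (nat_lit 46294049)) (BT.leaf (nat_lit 46294817)))))) (BT.node (nat_lit 10964545) (BT.node (nat_lit 10964288) (BT.node (nat_lit 10964160) (BT.node (nat_lit 10964032) (BT.leaf (nat_lit 43637273)) (BT.leaf (nat_lit 45283857))) (BT.node (nat_lit 10964224) (BT.leaf (nat_lit 46090005)) (BT.leaf (nat_lit 41756185)))) (BT.node (nat_lit 10964416) (BT.node (nat_lit 10964352) (BT.leaf (nat_lit 41756189)) (BT.leaf (nat_lit 48436769))) (BT.node (nat_lit 10964480) (BT.leaf (nat_lit 31220253)) (BT.leaf (nat_lit 27402013))))) (BT.node (nat_lit 10964608) (BT.node (nat_lit 10964547) (BT.node (nat_lit 10964546) (BT.leaf (nat_lit 689524)) (BT.leaf (nat_lit 689524))) (BT.node (nat_lit 10964552) (BT.leaf (nat_lit 689524)) (BT.leaf (nat_lit 689524)))) (BT.node (nat_lit 10964736) (BT.node (nat_lit 10964672) (BT.leaf (nat_lit 31430933)) (BT.leaf (nat_lit 31106073))) (BT.node (nat_lit 10964800) (BT.leaf (nat_lit 43693345)) (BT.leaf (nat_lit 34494225)))))))) (BT.node (nat_lit 10966980) (BT.node (nat_lit 10965888) (BT.node (nat_lit 10965312) (BT.node (nat_lit 10965060) (BT.node (nat_lit 10964992) (BT.node (nat_lit 10964928) (BT.leaf (nat_lit 40759069)) (BT.leaf (nat_lit 44720649))) (BT.node (nat_lit 10965056) (BT.leaf (nat_lit 39252253)) (BT.leaf (nat_lit 32304925)))) (BT.node (nat_lit 10965184) (BT.node (nat_lit 10965120) (BT.leaf (nat_lit 757416)) (BT.leaf (nat_lit 31416353))) (BT.node (nat_lit 10965248) (BT.leaf (nat_lit 35083801)) (BT.leaf (nat_lit 27401749))))) (BT.node (nat_lit 10965568) (BT.node (nat_lit 10965440) (BT.node (nat_lit 10965376) (BT.leaf (nat_lit 48204573)) (BT.leaf (nat_lit 31418141))) (BT.node (nat_lit 10965504) (BT.leaf (nat_lit 31416097)) (BT.leaf (nat_lit 31222805)))) (BT.node (nat_lit 10965696) (BT.node (nat_lit 10965632) (BT.leaf (nat_lit 31418121)) (BT.leaf (nat_lit 39883041))) (BT.node (nat_lit 10965760) (BT.leaf (nat_lit 31418145)) (BT.leaf (nat_lit 30725649)))))) (BT.node (nat_lit 10966592) (BT.node (nat_lit 10966336) (BT.node (nat_lit 10966080) (BT.node (nat_lit 10965952) (BT.leaf (nat_lit 45176325)) (BT.leaf (nat_lit 38783005))) (BT.node (nat_lit 10966272) (BT.leaf (nat_lit 39253001)) (BT.leaf (nat_lit 39119373)))) (BT.node (nat_lit 10966464) (BT.node (nat_lit 10966400) (BT.leaf (nat_lit 39382037)) (BT.leaf (nat_lit 39119369))) (BT.node (nat_lit 10966528) (BT.leaf (nat_lit 39369481)) (BT.leaf (nat_lit 45275937))))) (BT.node (nat_lit 10966848) (BT.node (nat_lit 10966720) (BT.node (nat_lit 10966656) (BT.leaf (nat_lit 42582293)) (BT.leaf (nat_lit 39119385))) (BT.node (nat_lit 10966784) (BT.leaf (nat_lit 39119389)) (BT.leaf (nat_lit 38917393)))) (BT.node (nat_lit 10966976) (BT.node (nat_lit 10966912) (BT.leaf (nat_lit 37915417)) (BT.leaf (nat_lit 38917409))) (BT.node (nat_lit 10966979) (BT.leaf (nat_lit 41969185)) (BT.leaf (nat_lit 688456))))))) (BT.node (nat_lit 10968064) (BT.node (nat_lit 10967552) (BT.node (nat_lit 10967232) (BT.node (nat_lit 10967104) (BT.node (nat_lit 10967040) (BT.leaf (nat_lit 688456)) (BT.leaf (nat_lit 49258505))) (BT.node (nat_lit 10967168) (BT.leaf (nat_lit 39368733)) (BT.leaf (nat_lit 44151841)))) (BT.node (nat_lit 10967424) (BT.node (nat_lit 10967360) (BT.leaf (nat_lit 44697365)) (BT.leaf (nat_lit 38248225))) (BT.node (nat_lit 10967488) (BT.leaf (nat_lit 38975773)) (BT.leaf (nat_lit 37915917))))) (BT.node (nat_lit 10967808) (BT.node (nat_lit 10967680) (BT.node (nat_lit 10967616) (BT.leaf (nat_lit 31582225)) (BT.leaf (nat_lit 31582241))) (BT.node (nat_lit 10967744) (BT.leaf (nat_lit 48410913)) (BT.leaf (nat_lit 48410657)))) (BT.node (nat_lit 10967936) (BT.node (nat_lit 10967872) (BT.leaf (nat_lit 34495249)) (BT.leaf (nat_lit 44237837))) (BT.node (nat_lit 10968000) (BT.leaf (nat_lit 39343117)) (BT.leaf (nat_lit 34495761)))))) (BT.node (nat_lit 10968640) (BT.node (nat_lit 10968320) (BT.node (nat_lit 10968192) (BT.node (nat_lit 10968128) (BT.leaf (nat_lit 46039309)) (BT.leaf (nat_lit 39343133))) (BT.node (nat_lit 10968256) (BT.leaf (nat_lit 37821729)) (BT.leaf (nat_lit 32602885)))) (BT.node (nat_lit 10968512) (BT.node (nat_lit 10968384) (BT.leaf (nat_lit 43497753)) (BT.leaf (nat_lit 43497757))) (BT.node (nat_lit 10968576) (BT.leaf (nat_lit 42720261)) (BT.leaf (nat_lit 39078165))))) (BT.node (nat_lit 10968836) (BT.node (nat_lit 10968768) (BT.node (nat_lit 10968704) (BT.leaf (nat_lit 44416281)) (BT.leaf (nat_lit 45562909))) (BT.node (nat_lit 10968832) (BT.leaf (nat_lit 48679173)) (BT.leaf (nat_lit 44106017)))) (BT.node (nat_lit 10968896) (BT.node (nat_lit 10968837) (BT.leaf (nat_lit 710624)) (BT.leaf (nat_lit 710624))) (BT.node (nat_lit 10969024) (BT.leaf (nat_lit 49492257)) (BT.leaf (nat_lit 44550937))))))))))) (BT.node (nat_lit 10984768) (BT.node (nat_lit 10977152) (BT.node (nat_lit 10973248) (BT.node (nat_lit 10971264) (BT.node (nat_lit 10970304) (BT.node (nat_lit 10969600) (BT.node (nat_lit 10969344) (BT.node (nat_lit 10969216) (BT.node (nat_lit 10969152) (BT.leaf (nat_lit 38892561)) (BT.leaf (nat_lit 39022093))) (BT.node (nat_lit 10969280) (BT.leaf (nat_lit 46280481)) (BT.leaf (nat_lit 46280709)))) (BT.node (nat_lit 10969472) (BT.node (nat_lit 10969408) (BT.leaf (nat_lit 46281249)) (BT.leaf (nat_lit 39146265))) (BT.node (nat_lit 10969536) (BT.leaf (nat_lit 32864529)) (BT.leaf (nat_lit 32864533))))) (BT.node (nat_lit 10970048) (BT.node (nat_lit 10969728) (BT.node (nat_lit 10969664) (BT.leaf (nat_lit 45092881)) (BT.leaf (nat_lit 31647001))) (BT.node (nat_lit 10969792) (BT.leaf (nat_lit 31647005)) (BT.leaf (nat_lit 37821977)))) (BT.node (nat_lit 10970176) (BT.node (nat_lit 10970112) (BT.leaf (nat_lit 31226637)) (BT.leaf (nat_lit 32805397))) (BT.node (nat_lit 10970240) (BT.leaf (nat_lit 31788305)) (BT.leaf (nat_lit 44804117)))))) (BT.node (nat_lit 10970628) (BT.node (nat_lit 10970496) (BT.node (nat_lit 10970368) (BT.node (nat_lit 10970308) (BT.leaf (nat_lit 32604421)) (BT.leaf (nat_lit 699380))) (BT.node (nat_lit 10970432) (BT.leaf (nat_lit 48498201)) (BT.leaf (nat_lit 45743633)))) (BT.node (nat_lit 10970560) (BT.node (nat_lit 10970500) (BT.leaf (nat_lit 43586317)) (BT.leaf (nat_lit 714676))) (BT.node (nat_lit 10970624) (BT.leaf (nat_lit 34658837)) (BT.leaf (nat_lit 30576917))))) (BT.node (nat_lit 10971008) (BT.node (nat_lit 10970816) (BT.node (nat_lit 10970752) (BT.leaf (nat_lit 718236)) (BT.leaf (nat_lit 31227157))) (BT.node (nat_lit 10970944) (BT.leaf (nat_lit 46178821)) (BT.leaf (nat_lit 48383493)))) (BT.node (nat_lit 10971136) (BT.node (nat_lit 10971072) (BT.leaf (nat_lit 40274973)) (BT.leaf (nat_lit 32875285))) (BT.node (nat_lit 10971200) (BT.leaf (nat_lit 45419033)) (BT.leaf (nat_lit 34503445))))))) (BT.node (nat_lit 10972224) (BT.node (nat_lit 10971776) (BT.node (nat_lit 10971520) (BT.node (nat_lit 10971392) (BT.node (nat_lit 10971328) (BT.leaf (nat_lit 45419017)) (BT.leaf (nat_lit 45984021))) (BT.node (nat_lit 10971456) (BT.leaf (nat_lit 49799969)) (BT.leaf (nat_lit 39918617)))) (BT.node (nat_lit 10971648) (BT.node (nat_lit 10971584) (BT.leaf (nat_lit 39918621)) (BT.leaf (nat_lit 38263561))) (BT.node (nat_lit 10971712) (BT.leaf (nat_lit 48631581)) (BT.leaf (nat_lit 31335197))))) (BT.node (nat_lit 10971968) (BT.node (nat_lit 10971840) (BT.node (nat_lit 10971783) (BT.leaf (nat_lit 39162385)) (BT.leaf (nat_lit 763136))) (BT.node (nat_lit 10971904) (BT.leaf (nat_lit 48182293)) (BT.leaf (nat_lit 43887385)))) (BT.node (nat_lit 10972096) (BT.node (nat_lit 10972032) (BT.leaf (nat_lit 32591905)) (BT.leaf (nat_lit 38016529))) (BT.node (nat_lit 10972160) (BT.leaf (nat_lit 44203809)) (BT.leaf (nat_lit 38242825)))))) (BT.node (nat_lit 10972736) (BT.node (nat_lit 10972480) (BT.node (nat_lit 10972352) (BT.node (nat_lit 10972288) (BT.leaf (nat_lit 41909005)) (BT.leaf (nat_lit 49081109))) (BT.node (nat_lit 10972416) (BT.leaf (nat_lit 45566981)) (BT.leaf (nat_lit 38933253)))) (BT.node (nat_lit 10972608) (BT.node (nat_lit 10972544) (BT.leaf (nat_lit 41048581)) (BT.leaf (nat_lit 44384033))) (BT.node (nat_lit 10972672) (BT.leaf (nat_lit 44205857)) (BT.leaf (nat_lit 49106953))))) (BT.node (nat_lit 10973056) (BT.node (nat_lit 10972928) (BT.node (nat_lit 10972800) (BT.leaf (nat_lit 27343889)) (BT.leaf (nat_lit 31238417))) (BT.node (nat_lit 10972992) (BT.leaf (nat_lit 43891997)) (BT.leaf (nat_lit 47829525)))) (BT.node (nat_lit 10973127) (BT.node (nat_lit 10973126) (BT.leaf (nat_lit 45468705)) (BT.leaf (nat_lit 716228))) (BT.node (nat_lit 10973184) (BT.leaf (nat_lit 716228)) (BT.leaf (nat_lit 43644173)))))))) (BT.node (nat_lit 10975168) (BT.node (nat_lit 10974272) (BT.node (nat_lit 10973760) (BT.node (nat_lit 10973504) (BT.node (nat_lit 10973376) (BT.node (nat_lit 10973312) (BT.leaf (nat_lit 31866129)) (BT.leaf (nat_lit 31866133))) (BT.node (nat_lit 10973440) (BT.leaf (nat_lit 31242525)) (BT.leaf (nat_lit 44702221)))) (BT.node (nat_lit 10973632) (BT.node (nat_lit 10973568) (BT.leaf (nat_lit 31242769)) (BT.leaf (nat_lit 41400345))) (BT.node (nat_lit 10973696) (BT.leaf (nat_lit 41400349)) (BT.leaf (nat_lit 48949017))))) (BT.node (nat_lit 10974016) (BT.node (nat_lit 10973888) (BT.node (nat_lit 10973824) (BT.leaf (nat_lit 44341265)) (BT.leaf (nat_lit 44341257))) (BT.node (nat_lit 10973952) (BT.leaf (nat_lit 48892953)) (BT.leaf (nat_lit 30128405)))) (BT.node (nat_lit 10974144) (BT.node (nat_lit 10974080) (BT.leaf (nat_lit 40214025)) (BT.leaf (nat_lit 40214029))) (BT.node (nat_lit 10974208) (BT.leaf (nat_lit 31772945)) (BT.leaf (nat_lit 40214041)))))) (BT.node (nat_lit 10974784) (BT.node (nat_lit 10974528) (BT.node (nat_lit 10974400) (BT.node (nat_lit 10974336) (BT.leaf (nat_lit 40214045)) (BT.leaf (nat_lit 34514717))) (BT.node (nat_lit 10974464) (BT.leaf (nat_lit 51647521)) (BT.leaf (nat_lit 37711637)))) (BT.node (nat_lit 10974656) (BT.node (nat_lit 10974592) (BT.leaf (nat_lit 31246617)) (BT.leaf (nat_lit 39693589))) (BT.node (nat_lit 10974720) (BT.leaf (nat_lit 41506825)) (BT.leaf (nat_lit 41506829))))) (BT.node (nat_lit 10974919) (BT.node (nat_lit 10974912) (BT.node (nat_lit 10974848) (BT.leaf (nat_lit 34515989)) (BT.leaf (nat_lit 41506841))) (BT.node (nat_lit 10974918) (BT.leaf (nat_lit 50777613)) (BT.leaf (nat_lit 697140)))) (BT.node (nat_lit 10975040) (BT.node (nat_lit 10974976) (BT.leaf (nat_lit 697140)) (BT.leaf (nat_lit 45693445))) (BT.node (nat_lit 10975104) (BT.leaf (nat_lit 49080605)) (BT.leaf (nat_lit 37744133))))))) (BT.node (nat_lit 10976192) (BT.node (nat_lit 10975680) (BT.node (nat_lit 10975424) (BT.node (nat_lit 10975296) (BT.node (nat_lit 10975232) (BT.leaf (nat_lit 32992517)) (BT.leaf (nat_lit 49010977))) (BT.node (nat_lit 10975360) (BT.leaf (nat_lit 46308385)) (BT.leaf (nat_lit 43874317)))) (BT.node (nat_lit 10975552) (BT.node (nat_lit 10975488) (BT.leaf (nat_lit 48506657)) (BT.leaf (nat_lit 44842249))) (BT.node (nat_lit 10975616) (BT.leaf (nat_lit 44842505)) (BT.leaf (nat_lit 41689349))))) (BT.node (nat_lit 10975936) (BT.node (nat_lit 10975808) (BT.node (nat_lit 10975744) (BT.leaf (nat_lit 38905877)) (BT.leaf (nat_lit 42379545))) (BT.node (nat_lit 10975872) (BT.leaf (nat_lit 42379549)) (BT.leaf (nat_lit 28613393)))) (BT.node (nat_lit 10976064) (BT.node (nat_lit 10976000) (BT.leaf (nat_lit 39960609)) (BT.leaf (nat_lit 41099801))) (BT.node (nat_lit 10976128) (BT.leaf (nat_lit 41099805)) (BT.leaf (nat_lit 31260953)))))) (BT.node (nat_lit 10976643) (BT.node (nat_lit 10976448) (BT.node (nat_lit 10976320) (BT.node (nat_lit 10976256) (BT.leaf (nat_lit 46029829)) (BT.leaf (nat_lit 44175377))) (BT.node (nat_lit 10976384) (BT.leaf (nat_lit 35404049)) (BT.leaf (nat_lit 31260941)))) (BT.node (nat_lit 10976576) (BT.node (nat_lit 10976512) (BT.leaf (nat_lit 38427673)) (BT.leaf (nat_lit 39907601))) (BT.node (nat_lit 10976640) (BT.leaf (nat_lit 42681621)) (BT.leaf (nat_lit 48584209))))) (BT.node (nat_lit 10976896) (BT.node (nat_lit 10976768) (BT.node (nat_lit 10976704) (BT.leaf (nat_lit 692076)) (BT.leaf (nat_lit 42222877))) (BT.node (nat_lit 10976832) (BT.leaf (nat_lit 38153757)) (BT.leaf (nat_lit 39008801)))) (BT.node (nat_lit 10977024) (BT.node (nat_lit 10976960) (BT.leaf (nat_lit 38637845)) (BT.leaf (nat_lit 39033353))) (BT.node (nat_lit 10977088) (BT.leaf (nat_lit 44035341)) (BT.leaf (nat_lit 31271689))))))))) (BT.node (nat_lit 10980992) (BT.node (nat_lit 10978944) (BT.node (nat_lit 10977984) (BT.node (nat_lit 10977664) (BT.node (nat_lit 10977408) (BT.node (nat_lit 10977280) (BT.node (nat_lit 10977216) (BT.leaf (nat_lit 43514145)) (BT.leaf (nat_lit 39075077))) (BT.node (nat_lit 10977344) (BT.leaf (nat_lit 45451549)) (BT.leaf (nat_lit 45175053)))) (BT.node (nat_lit 10977536) (BT.node (nat_lit 10977472) (BT.leaf (nat_lit 42421261)) (BT.leaf (nat_lit 39030021))) (BT.node (nat_lit 10977600) (BT.leaf (nat_lit 39336737)) (BT.leaf (nat_lit 42461209))))) (BT.node (nat_lit 10977856) (BT.node (nat_lit 10977732) (BT.node (nat_lit 10977728) (BT.leaf (nat_lit 42461213)) (BT.leaf (nat_lit 31255837))) (BT.node (nat_lit 10977792) (BT.leaf (nat_lit 741400)) (BT.leaf (nat_lit 45229833)))) (BT.node (nat_lit 10977864) (BT.node (nat_lit 10977858) (BT.leaf (nat_lit 31759893)) (BT.leaf (nat_lit 696836))) (BT.node (nat_lit 10977920) (BT.leaf (nat_lit 696836)) (BT.leaf (nat_lit 44014349)))))) (BT.node (nat_lit 10978496) (BT.node (nat_lit 10978240) (BT.node (nat_lit 10978112) (BT.node (nat_lit 10978048) (BT.leaf (nat_lit 31492633)) (BT.leaf (nat_lit 42424077))) (BT.node (nat_lit 10978176) (BT.leaf (nat_lit 44014365)) (BT.leaf (nat_lit 41805577)))) (BT.node (nat_lit 10978368) (BT.node (nat_lit 10978304) (BT.leaf (nat_lit 41805581)) (BT.leaf (nat_lit 49735953))) (BT.node (nat_lit 10978432) (BT.leaf (nat_lit 41805593)) (BT.leaf (nat_lit 43126817))))) (BT.node (nat_lit 10978752) (BT.node (nat_lit 10978624) (BT.node (nat_lit 10978560) (BT.leaf (nat_lit 31870225)) (BT.leaf (nat_lit 49227289))) (BT.node (nat_lit 10978688) (BT.leaf (nat_lit 31491857)) (BT.leaf (nat_lit 41790989)))) (BT.node (nat_lit 10978824) (BT.node (nat_lit 10978816) (BT.leaf (nat_lit 50801685)) (BT.leaf (nat_lit 48933641))) (BT.node (nat_lit 10978880) (BT.leaf (nat_lit 768668)) (BT.leaf (nat_lit 39224857))))))) (BT.node (nat_lit 10979968) (BT.node (nat_lit 10979456) (BT.node (nat_lit 10979200) (BT.node (nat_lit 10979072) (BT.node (nat_lit 10979008) (BT.leaf (nat_lit 31260689)) (BT.leaf (nat_lit 48933661))) (BT.node (nat_lit 10979136) (BT.leaf (nat_lit 46752801)) (BT.leaf (nat_lit 33031437)))) (BT.node (nat_lit 10979328) (BT.node (nat_lit 10979264) (BT.leaf (nat_lit 41243653)) (BT.leaf (nat_lit 47916037))) (BT.node (nat_lit 10979392) (BT.leaf (nat_lit 32218633)) (BT.leaf (nat_lit 40804105))))) (BT.node (nat_lit 10979712) (BT.node (nat_lit 10979584) (BT.node (nat_lit 10979520) (BT.leaf (nat_lit 39359521)) (BT.leaf (nat_lit 38566161))) (BT.node (nat_lit 10979648) (BT.leaf (nat_lit 38566165)) (BT.leaf (nat_lit 39652629)))) (BT.node (nat_lit 10979840) (BT.node (nat_lit 10979776) (BT.leaf (nat_lit 47155973)) (BT.leaf (nat_lit 40180513))) (BT.node (nat_lit 10979904) (BT.leaf (nat_lit 32026145)) (BT.leaf (nat_lit 44833313)))))) (BT.node (nat_lit 10980480) (BT.node (nat_lit 10980224) (BT.node (nat_lit 10980096) (BT.node (nat_lit 10980032) (BT.leaf (nat_lit 38579745)) (BT.leaf (nat_lit 38579489))) (BT.node (nat_lit 10980160) (BT.leaf (nat_lit 42072585)) (BT.leaf (nat_lit 38579717)))) (BT.node (nat_lit 10980352) (BT.node (nat_lit 10980288) (BT.leaf (nat_lit 43921165)) (BT.leaf (nat_lit 42917141))) (BT.node (nat_lit 10980416) (BT.leaf (nat_lit 32523029)) (BT.leaf (nat_lit 37978137))))) (BT.node (nat_lit 10980736) (BT.node (nat_lit 10980608) (BT.node (nat_lit 10980544) (BT.leaf (nat_lit 37978141)) (BT.leaf (nat_lit 31879441))) (BT.node (nat_lit 10980672) (BT.leaf (nat_lit 31879445)) (BT.leaf (nat_lit 48123157)))) (BT.node (nat_lit 10980864) (BT.node (nat_lit 10980800) (BT.leaf (nat_lit 31262481)) (BT.leaf (nat_lit 43110177))) (BT.node (nat_lit 10980928) (BT.leaf (nat_lit 45565217)) (BT.leaf (nat_lit 31263509)))))))) (BT.node (nat_lit 10982784) (BT.node (nat_lit 10981760) (BT.node (nat_lit 10981440) (BT.node (nat_lit 10981184) (BT.node (nat_lit 10981120) (BT.node (nat_lit 10981056) (BT.leaf (nat_lit 39722785)) (BT.leaf (nat_lit 41721353))) (BT.node (nat_lit 10981121) (BT.leaf (nat_lit 32867873)) (BT.leaf (nat_lit 713664)))) (BT.node (nat_lit 10981312) (BT.node (nat_lit 10981248) (BT.leaf (nat_lit 36076049)) (BT.leaf (nat_lit 39778841))) (BT.node (nat_lit 10981376) (BT.leaf (nat_lit 39345157)) (BT.leaf (nat_lit 39345413))))) (BT.node (nat_lit 10981512) (BT.node (nat_lit 10981510) (BT.node (nat_lit 10981504) (BT.leaf (nat_lit 39345697)) (BT.leaf (nat_lit 44339721))) (BT.node (nat_lit 10981511) (BT.leaf (nat_lit 707928)) (BT.leaf (nat_lit 707928)))) (BT.node (nat_lit 10981632) (BT.node (nat_lit 10981568) (BT.leaf (nat_lit 707928)) (BT.leaf (nat_lit 35122457))) (BT.node (nat_lit 10981696) (BT.leaf (nat_lit 35122461)) (BT.leaf (nat_lit 31267333)))))) (BT.node (nat_lit 10982272) (BT.node (nat_lit 10982016) (BT.node (nat_lit 10981888) (BT.node (nat_lit 10981824) (BT.leaf (nat_lit 41050901)) (BT.leaf (nat_lit 31269905))) (BT.node (nat_lit 10981952) (BT.leaf (nat_lit 45519637)) (BT.leaf (nat_lit 32656913)))) (BT.node (nat_lit 10982144) (BT.node (nat_lit 10982080) (BT.leaf (nat_lit 42722065)) (BT.leaf (nat_lit 31271693))) (BT.node (nat_lit 10982208) (BT.leaf (nat_lit 45578781)) (BT.leaf (nat_lit 38649365))))) (BT.node (nat_lit 10982528) (BT.node (nat_lit 10982400) (BT.node (nat_lit 10982336) (BT.leaf (nat_lit 42808853)) (BT.leaf (nat_lit 42808861))) (BT.node (nat_lit 10982464) (BT.leaf (nat_lit 45555729)) (BT.leaf (nat_lit 46151685)))) (BT.node (nat_lit 10982656) (BT.node (nat_lit 10982592) (BT.leaf (nat_lit 42809361)) (BT.leaf (nat_lit 32867617))) (BT.node (nat_lit 10982720) (BT.leaf (nat_lit 41021957)) (BT.leaf (nat_lit 45923845))))))) (BT.node (nat_lit 10983808) (BT.node (nat_lit 10983296) (BT.node (nat_lit 10983040) (BT.node (nat_lit 10982912) (BT.node (nat_lit 10982848) (BT.leaf (nat_lit 45923857)) (BT.leaf (nat_lit 45527573))) (BT.node (nat_lit 10982976) (BT.leaf (nat_lit 42304273)) (BT.leaf (nat_lit 32101133)))) (BT.node (nat_lit 10983168) (BT.node (nat_lit 10983104) (BT.leaf (nat_lit 32101129)) (BT.leaf (nat_lit 32101145))) (BT.node (nat_lit 10983232) (BT.leaf (nat_lit 32101149)) (BT.leaf (nat_lit 38656289))))) (BT.node (nat_lit 10983552) (BT.node (nat_lit 10983424) (BT.node (nat_lit 10983360) (BT.leaf (nat_lit 38516233)) (BT.leaf (nat_lit 38657029))) (BT.node (nat_lit 10983488) (BT.leaf (nat_lit 44844561)) (BT.leaf (nat_lit 41450269)))) (BT.node (nat_lit 10983680) (BT.node (nat_lit 10983616) (BT.leaf (nat_lit 42692101)) (BT.leaf (nat_lit 42722317))) (BT.node (nat_lit 10983744) (BT.leaf (nat_lit 39163141)) (BT.leaf (nat_lit 32675089)))))) (BT.node (nat_lit 10984261) (BT.node (nat_lit 10984128) (BT.node (nat_lit 10983936) (BT.node (nat_lit 10983872) (BT.leaf (nat_lit 39164933)) (BT.leaf (nat_lit 32772365))) (BT.node (nat_lit 10984064) (BT.leaf (nat_lit 32772369)) (BT.leaf (nat_lit 45719829)))) (BT.node (nat_lit 10984192) (BT.node (nat_lit 10984133) (BT.leaf (nat_lit 41804805)) (BT.leaf (nat_lit 714528))) (BT.node (nat_lit 10984256) (BT.leaf (nat_lit 46462997)) (BT.leaf (nat_lit 32597773))))) (BT.node (nat_lit 10984512) (BT.node (nat_lit 10984384) (BT.node (nat_lit 10984320) (BT.leaf (nat_lit 773252)) (BT.leaf (nat_lit 31274265))) (BT.node (nat_lit 10984448) (BT.leaf (nat_lit 31274521)) (BT.leaf (nat_lit 32597265)))) (BT.node (nat_lit 10984704) (BT.node (nat_lit 10984576) (BT.leaf (nat_lit 31274269)) (BT.leaf (nat_lit 48502021))) (BT.node (nat_lit 10984707) (BT.leaf (nat_lit 43238933)) (BT.leaf (nat_lit 773244)))))))))) (BT.node (nat_lit 10993600) (BT.node (nat_lit 10988864) (BT.node (nat_lit 10986880) (BT.node (nat_lit 10985792) (BT.node (nat_lit 10985280) (BT.node (nat_lit 10984960) (BT.node (nat_lit 10984840) (BT.node (nat_lit 10984832) (BT.leaf (nat_lit 42288901)) (BT.leaf (nat_lit 43939613))) (BT.node (nat_lit 10984896) (BT.leaf (nat_lit 714520)) (BT.leaf (nat_lit 48439049)))) (BT.node (nat_lit 10985088) (BT.node (nat_lit 10985024) (BT.leaf (nat_lit 28147217)) (BT.leaf (nat_lit 28147737))) (BT.node (nat_lit 10985216) (BT.leaf (nat_lit 31275289)) (BT.leaf (nat_lit 31275293))))) (BT.node (nat_lit 10985480) (BT.node (nat_lit 10985408) (BT.node (nat_lit 10985344) (BT.leaf (nat_lit 31441681)) (BT.leaf (nat_lit 49413665))) (BT.node (nat_lit 10985472) (BT.leaf (nat_lit 32598293)) (BT.leaf (nat_lit 42462473)))) (BT.node (nat_lit 10985600) (BT.node (nat_lit 10985536) (BT.leaf (nat_lit 714612)) (BT.leaf (nat_lit 43941913))) (BT.node (nat_lit 10985728) (BT.leaf (nat_lit 31277081)) (BT.leaf (nat_lit 45549845)))))) (BT.node (nat_lit 10986304) (BT.node (nat_lit 10986048) (BT.node (nat_lit 10985920) (BT.node (nat_lit 10985856) (BT.leaf (nat_lit 51158537)) (BT.leaf (nat_lit 48434453))) (BT.node (nat_lit 10985984) (BT.leaf (nat_lit 51158553)) (BT.leaf (nat_lit 48599317)))) (BT.node (nat_lit 10986176) (BT.node (nat_lit 10986112) (BT.leaf (nat_lit 34741253)) (BT.leaf (nat_lit 41692685))) (BT.node (nat_lit 10986240) (BT.leaf (nat_lit 48599561)) (BT.leaf (nat_lit 31282449))))) (BT.node (nat_lit 10986624) (BT.node (nat_lit 10986432) (BT.node (nat_lit 10986368) (BT.leaf (nat_lit 31281937)) (BT.leaf (nat_lit 49316129))) (BT.node (nat_lit 10986560) (BT.leaf (nat_lit 38671393)) (BT.leaf (nat_lit 49316105)))) (BT.node (nat_lit 10986752) (BT.node (nat_lit 10986688) (BT.leaf (nat_lit 31611157)) (BT.leaf (nat_lit 41692697))) (BT.node (nat_lit 10986816) (BT.leaf (nat_lit 41692701)) (BT.leaf (nat_lit 27855125))))))) (BT.node (nat_lit 10987968) (BT.node (nat_lit 10987328) (BT.node (nat_lit 10987136) (BT.node (nat_lit 10987008) (BT.node (nat_lit 10986944) (BT.leaf (nat_lit 48434965)) (BT.leaf (nat_lit 31965457))) (BT.node (nat_lit 10987072) (BT.leaf (nat_lit 43943453)) (BT.leaf (nat_lit 48557065)))) (BT.node (nat_lit 10987200) (BT.node (nat_lit 10987144) (BT.leaf (nat_lit 39295517)) (BT.leaf (nat_lit 775792))) (BT.node (nat_lit 10987264) (BT.leaf (nat_lit 39305741)) (BT.leaf (nat_lit 32037153))))) (BT.node (nat_lit 10987584) (BT.node (nat_lit 10987456) (BT.node (nat_lit 10987392) (BT.leaf (nat_lit 32037409)) (BT.leaf (nat_lit 32037637))) (BT.node (nat_lit 10987520) (BT.leaf (nat_lit 32038177)) (BT.leaf (nat_lit 32037921)))) (BT.node (nat_lit 10987840) (BT.node (nat_lit 10987776) (BT.leaf (nat_lit 38699013)) (BT.leaf (nat_lit 49198597))) (BT.node (nat_lit 10987904) (BT.leaf (nat_lit 29103133)) (BT.leaf (nat_lit 31289373)))))) (BT.node (nat_lit 10988352) (BT.node (nat_lit 10988224) (BT.node (nat_lit 10988096) (BT.node (nat_lit 10988032) (BT.leaf (nat_lit 33010449)) (BT.leaf (nat_lit 49977881))) (BT.node (nat_lit 10988160) (BT.leaf (nat_lit 48718853)) (BT.leaf (nat_lit 39179793)))) (BT.node (nat_lit 10988292) (BT.node (nat_lit 10988288) (BT.leaf (nat_lit 49940241)) (BT.leaf (nat_lit 50703381))) (BT.node (nat_lit 10988296) (BT.leaf (nat_lit 714224)) (BT.leaf (nat_lit 714224))))) (BT.node (nat_lit 10988608) (BT.node (nat_lit 10988480) (BT.node (nat_lit 10988416) (BT.leaf (nat_lit 48859169)) (BT.leaf (nat_lit 27872273))) (BT.node (nat_lit 10988544) (BT.leaf (nat_lit 32514329)) (BT.leaf (nat_lit 31796241)))) (BT.node (nat_lit 10988736) (BT.node (nat_lit 10988672) (BT.leaf (nat_lit 31796245)) (BT.leaf (nat_lit 31290909))) (BT.node (nat_lit 10988800) (BT.leaf (nat_lit 42731269)) (BT.leaf (nat_lit 31344149)))))))) (BT.node (nat_lit 10991296) (BT.node (nat_lit 10990016) (BT.node (nat_lit 10989440) (BT.node (nat_lit 10989184) (BT.node (nat_lit 10989056) (BT.node (nat_lit 10988992) (BT.leaf (nat_lit 31291409)) (BT.leaf (nat_lit 38246917))) (BT.node (nat_lit 10989120) (BT.leaf (nat_lit 31293969)) (BT.leaf (nat_lit 39419925)))) (BT.node (nat_lit 10989312) (BT.node (nat_lit 10989248) (BT.leaf (nat_lit 39419929)) (BT.leaf (nat_lit 39419933))) (BT.node (nat_lit 10989376) (BT.leaf (nat_lit 31293713)) (BT.leaf (nat_lit 31294225))))) (BT.node (nat_lit 10989696) (BT.node (nat_lit 10989568) (BT.node (nat_lit 10989504) (BT.leaf (nat_lit 44565013)) (BT.leaf (nat_lit 44565021))) (BT.node (nat_lit 10989632) (BT.leaf (nat_lit 31296017)) (BT.leaf (nat_lit 31295249)))) (BT.node (nat_lit 10989824) (BT.node (nat_lit 10989760) (BT.leaf (nat_lit 48516377)) (BT.leaf (nat_lit 42645517))) (BT.node (nat_lit 10989888) (BT.leaf (nat_lit 31296785)) (BT.leaf (nat_lit 46559777)))))) (BT.node (nat_lit 10990784) (BT.node (nat_lit 10990464) (BT.node (nat_lit 10990336) (BT.node (nat_lit 10990272) (BT.leaf (nat_lit 31552789)) (BT.leaf (nat_lit 31297553))) (BT.node (nat_lit 10990400) (BT.leaf (nat_lit 38312473)) (BT.leaf (nat_lit 42645513)))) (BT.node (nat_lit 10990592) (BT.node (nat_lit 10990528) (BT.leaf (nat_lit 48016909)) (BT.leaf (nat_lit 40241173))) (BT.node (nat_lit 10990656) (BT.leaf (nat_lit 42862369)) (BT.leaf (nat_lit 31297809))))) (BT.node (nat_lit 10991040) (BT.node (nat_lit 10990912) (BT.node (nat_lit 10990848) (BT.leaf (nat_lit 48016921)) (BT.leaf (nat_lit 43103757))) (BT.node (nat_lit 10990976) (BT.leaf (nat_lit 34539545)) (BT.leaf (nat_lit 31350305)))) (BT.node (nat_lit 10991168) (BT.node (nat_lit 10991104) (BT.leaf (nat_lit 31297825)) (BT.leaf (nat_lit 31299089))) (BT.node (nat_lit 10991232) (BT.leaf (nat_lit 39430149)) (BT.leaf (nat_lit 31298833))))))) (BT.node (nat_lit 10992576) (BT.node (nat_lit 10992064) (BT.node (nat_lit 10991680) (BT.node (nat_lit 10991552) (BT.node (nat_lit 10991488) (BT.leaf (nat_lit 43956497)) (BT.leaf (nat_lit 39430917))) (BT.node (nat_lit 10991616) (BT.leaf (nat_lit 44559893)) (BT.leaf (nat_lit 44559897)))) (BT.node (nat_lit 10991936) (BT.node (nat_lit 10991808) (BT.leaf (nat_lit 46788633)) (BT.leaf (nat_lit 48810261))) (BT.node (nat_lit 10992000) (BT.leaf (nat_lit 44564501)) (BT.leaf (nat_lit 39238177))))) (BT.node (nat_lit 10992320) (BT.node (nat_lit 10992192) (BT.node (nat_lit 10992128) (BT.leaf (nat_lit 45118497)) (BT.leaf (nat_lit 39238689))) (BT.node (nat_lit 10992256) (BT.leaf (nat_lit 39238433)) (BT.leaf (nat_lit 32129297)))) (BT.node (nat_lit 10992448) (BT.node (nat_lit 10992384) (BT.leaf (nat_lit 49231385)) (BT.leaf (nat_lit 40846881))) (BT.node (nat_lit 10992512) (BT.leaf (nat_lit 40395021)) (BT.leaf (nat_lit 43970333)))))) (BT.node (nat_lit 10993088) (BT.node (nat_lit 10992832) (BT.node (nat_lit 10992704) (BT.node (nat_lit 10992640) (BT.leaf (nat_lit 44903201)) (BT.leaf (nat_lit 30602257))) (BT.node (nat_lit 10992768) (BT.leaf (nat_lit 40249369)) (BT.leaf (nat_lit 40249373)))) (BT.node (nat_lit 10992960) (BT.node (nat_lit 10992896) (BT.leaf (nat_lit 44299297)) (BT.leaf (nat_lit 45390605))) (BT.node (nat_lit 10993024) (BT.leaf (nat_lit 43972125)) (BT.leaf (nat_lit 31321357))))) (BT.node (nat_lit 10993344) (BT.node (nat_lit 10993216) (BT.node (nat_lit 10993152) (BT.leaf (nat_lit 31321113)) (BT.leaf (nat_lit 34985757))) (BT.node (nat_lit 10993280) (BT.leaf (nat_lit 50933777)) (BT.leaf (nat_lit 34985737)))) (BT.node (nat_lit 10993472) (BT.node (nat_lit 10993408) (BT.leaf (nat_lit 31321101)) (BT.leaf (nat_lit 40613665))) (BT.node (nat_lit 10993536) (BT.leaf (nat_lit 31564053)) (BT.leaf (nat_lit 39502853))))))))) (BT.node (nat_lit 10997504) (BT.node (nat_lit 10995584) (BT.node (nat_lit 10994752) (BT.node (nat_lit 10994112) (BT.node (nat_lit 10993856) (BT.node (nat_lit 10993728) (BT.node (nat_lit 10993664) (BT.leaf (nat_lit 39500833)) (BT.leaf (nat_lit 31314197))) (BT.node (nat_lit 10993792) (BT.leaf (nat_lit 31313169)) (BT.leaf (nat_lit 31312913)))) (BT.node (nat_lit 10993984) (BT.node (nat_lit 10993920) (BT.leaf (nat_lit 39403033)) (BT.leaf (nat_lit 39403037))) (BT.node (nat_lit 10994048) (BT.leaf (nat_lit 38841861)) (BT.leaf (nat_lit 31313185))))) (BT.node (nat_lit 10994368) (BT.node (nat_lit 10994240) (BT.node (nat_lit 10994176) (BT.leaf (nat_lit 31313697)) (BT.leaf (nat_lit 31313441))) (BT.node (nat_lit 10994304) (BT.leaf (nat_lit 35370261)) (BT.leaf (nat_lit 41477897)))) (BT.node (nat_lit 10994560) (BT.node (nat_lit 10994496) (BT.leaf (nat_lit 38797329)) (BT.leaf (nat_lit 46072601))) (BT.node (nat_lit 10994688) (BT.leaf (nat_lit 43551777)) (BT.leaf (nat_lit 39698713)))))) (BT.node (nat_lit 10995073) (BT.node (nat_lit 10995008) (BT.node (nat_lit 10994880) (BT.node (nat_lit 10994816) (BT.leaf (nat_lit 39698717)) (BT.leaf (nat_lit 39390737))) (BT.node (nat_lit 10994944) (BT.leaf (nat_lit 41140509)) (BT.leaf (nat_lit 41477917)))) (BT.node (nat_lit 10995012) (BT.node (nat_lit 10995009) (BT.leaf (nat_lit 45206297)) (BT.leaf (nat_lit 709240))) (BT.node (nat_lit 10995072) (BT.leaf (nat_lit 709240)) (BT.leaf (nat_lit 43980041))))) (BT.node (nat_lit 10995264) (BT.node (nat_lit 10995136) (BT.node (nat_lit 10995076) (BT.leaf (nat_lit 689892)) (BT.leaf (nat_lit 689892))) (BT.node (nat_lit 10995200) (BT.leaf (nat_lit 32198165)) (BT.leaf (nat_lit 43981085)))) (BT.node (nat_lit 10995392) (BT.node (nat_lit 10995328) (BT.leaf (nat_lit 45206285)) (BT.leaf (nat_lit 38250001))) (BT.node (nat_lit 10995456) (BT.leaf (nat_lit 45203725)) (BT.leaf (nat_lit 41278729))))))) (BT.node (nat_lit 10996672) (BT.node (nat_lit 10996160) (BT.node (nat_lit 10995904) (BT.node (nat_lit 10995712) (BT.node (nat_lit 10995648) (BT.leaf (nat_lit 41278745)) (BT.leaf (nat_lit 41278749))) (BT.node (nat_lit 10995776) (BT.leaf (nat_lit 40858885)) (BT.leaf (nat_lit 31309337)))) (BT.node (nat_lit 10996032) (BT.node (nat_lit 10995968) (BT.leaf (nat_lit 40858901)) (BT.leaf (nat_lit 31309341))) (BT.node (nat_lit 10996096) (BT.leaf (nat_lit 41279249)) (BT.leaf (nat_lit 41279253))))) (BT.node (nat_lit 10996416) (BT.node (nat_lit 10996288) (BT.node (nat_lit 10996224) (BT.leaf (nat_lit 31309077)) (BT.leaf (nat_lit 43984665))) (BT.node (nat_lit 10996352) (BT.leaf (nat_lit 31479841)) (BT.leaf (nat_lit 31319825)))) (BT.node (nat_lit 10996544) (BT.node (nat_lit 10996480) (BT.leaf (nat_lit 45902105)) (BT.leaf (nat_lit 43706145))) (BT.node (nat_lit 10996608) (BT.leaf (nat_lit 27933729)) (BT.leaf (nat_lit 31319841)))))) (BT.node (nat_lit 10997185) (BT.node (nat_lit 10996928) (BT.node (nat_lit 10996800) (BT.node (nat_lit 10996736) (BT.leaf (nat_lit 32411413)) (BT.leaf (nat_lit 31320353))) (BT.node (nat_lit 10996864) (BT.leaf (nat_lit 31320097)) (BT.leaf (nat_lit 32198417)))) (BT.node (nat_lit 10997056) (BT.node (nat_lit 10996992) (BT.leaf (nat_lit 43987997)) (BT.leaf (nat_lit 31321353))) (BT.node (nat_lit 10997184) (BT.leaf (nat_lit 31648285)) (BT.leaf (nat_lit 41780245))))) (BT.node (nat_lit 10997248) (BT.node (nat_lit 10997191) (BT.node (nat_lit 10997186) (BT.leaf (nat_lit 709232)) (BT.leaf (nat_lit 709232))) (BT.node (nat_lit 10997192) (BT.leaf (nat_lit 709232)) (BT.leaf (nat_lit 709232)))) (BT.node (nat_lit 10997376) (BT.node (nat_lit 10997312) (BT.leaf (nat_lit 50950177)) (BT.leaf (nat_lit 49257761))) (BT.node (nat_lit 10997440) (BT.leaf (nat_lit 47298065)) (BT.leaf (nat_lit 35072289)))))))) (BT.node (nat_lit 10999616) (BT.node (nat_lit 10998528) (BT.node (nat_lit 10998016) (BT.node (nat_lit 10997760) (BT.node (nat_lit 10997632) (BT.node (nat_lit 10997568) (BT.leaf (nat_lit 48814105)) (BT.leaf (nat_lit 31324433))) (BT.node (nat_lit 10997696) (BT.leaf (nat_lit 41278733)) (BT.leaf (nat_lit 39699997)))) (BT.node (nat_lit 10997888) (BT.node (nat_lit 10997824) (BT.leaf (nat_lit 38223641)) (BT.leaf (nat_lit 31324185))) (BT.node (nat_lit 10997952) (BT.leaf (nat_lit 45200409)) (BT.leaf (nat_lit 31324189))))) (BT.node (nat_lit 10998272) (BT.node (nat_lit 10998144) (BT.node (nat_lit 10998080) (BT.leaf (nat_lit 49218313)) (BT.leaf (nat_lit 41279509))) (BT.node (nat_lit 10998208) (BT.leaf (nat_lit 40294677)) (BT.leaf (nat_lit 40294681)))) (BT.node (nat_lit 10998400) (BT.node (nat_lit 10998336) (BT.leaf (nat_lit 40294685)) (BT.leaf (nat_lit 49294873))) (BT.node (nat_lit 10998464) (BT.leaf (nat_lit 45275657)) (BT.leaf (nat_lit 45275661)))))) (BT.node (nat_lit 10999104) (BT.node (nat_lit 10998848) (BT.node (nat_lit 10998656) (BT.node (nat_lit 10998592) (BT.leaf (nat_lit 31325717)) (BT.leaf (nat_lit 40298009))) (BT.node (nat_lit 10998720) (BT.leaf (nat_lit 40298013)) (BT.leaf (nat_lit 31326229)))) (BT.node (nat_lit 10998976) (BT.node (nat_lit 10998912) (BT.leaf (nat_lit 31426577)) (BT.leaf (nat_lit 31426581))) (BT.node (nat_lit 10999040) (BT.leaf (nat_lit 42966801)) (BT.leaf (nat_lit 42054169))))) (BT.node (nat_lit 10999424) (BT.node (nat_lit 10999232) (BT.node (nat_lit 10999168) (BT.leaf (nat_lit 48815109)) (BT.leaf (nat_lit 34558229))) (BT.node (nat_lit 10999360) (BT.leaf (nat_lit 41270533)) (BT.leaf (nat_lit 42903313)))) (BT.node (nat_lit 10999489) (BT.node (nat_lit 10999488) (BT.leaf (nat_lit 41384737)) (BT.leaf (nat_lit 43998237))) (BT.node (nat_lit 10999552) (BT.leaf (nat_lit 705684)) (BT.leaf (nat_lit 41569293))))))) (BT.node (nat_lit 11000320) (BT.node (nat_lit 10999872) (BT.node (nat_lit 10999746) (BT.node (nat_lit 10999744) (BT.node (nat_lit 10999680) (BT.leaf (nat_lit 47185441)) (BT.leaf (nat_lit 41406469))) (BT.node (nat_lit 10999745) (BT.leaf (nat_lit 37780501)) (BT.leaf (nat_lit 721812)))) (BT.node (nat_lit 10999752) (BT.node (nat_lit 10999750) (BT.leaf (nat_lit 721812)) (BT.leaf (nat_lit 721812))) (BT.node (nat_lit 10999808) (BT.leaf (nat_lit 721812)) (BT.leaf (nat_lit 39523873))))) (BT.node (nat_lit 11000064) (BT.node (nat_lit 11000000) (BT.node (nat_lit 10999936) (BT.leaf (nat_lit 39523617)) (BT.leaf (nat_lit 42096901))) (BT.node (nat_lit 11000005) (BT.leaf (nat_lit 48046601)) (BT.leaf (nat_lit 715432)))) (BT.node (nat_lit 11000192) (BT.node (nat_lit 11000128) (BT.leaf (nat_lit 45215761)) (BT.leaf (nat_lit 43231753))) (BT.node (nat_lit 11000256) (BT.leaf (nat_lit 48250889)) (BT.leaf (nat_lit 29526289)))))) (BT.node (nat_lit 11000838) (BT.node (nat_lit 11000576) (BT.node (nat_lit 11000448) (BT.node (nat_lit 11000384) (BT.leaf (nat_lit 29530385)) (BT.leaf (nat_lit 41325857))) (BT.node (nat_lit 11000512) (BT.leaf (nat_lit 38597893)) (BT.leaf (nat_lit 32097053)))) (BT.node (nat_lit 11000768) (BT.node (nat_lit 11000704) (BT.leaf (nat_lit 41371169)) (BT.leaf (nat_lit 48730373))) (BT.node (nat_lit 11000832) (BT.leaf (nat_lit 40213513)) (BT.leaf (nat_lit 32408341))))) (BT.node (nat_lit 11001088) (BT.node (nat_lit 11000960) (BT.node (nat_lit 11000896) (BT.leaf (nat_lit 710136)) (BT.leaf (nat_lit 45584401))) (BT.node (nat_lit 11001024) (BT.leaf (nat_lit 30822661)) (BT.leaf (nat_lit 49601809)))) (BT.node (nat_lit 11001216) (BT.node (nat_lit 11001152) (BT.leaf (nat_lit 31913241)) (BT.leaf (nat_lit 32318217))) (BT.node (nat_lit 11001280) (BT.leaf (nat_lit 43208717)) (BT.leaf (nat_lit 44111885)))))))))))))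
noncomputable def big0_e100352 : BT Nat := (BT.node (nat_lit 11069248) (BT.node (nat_lit 11034624) (BT.node (nat_lit 11017792) (BT.node (nat_lit 11009728) (BT.node (nat_lit 11005504) (BT.node (nat_lit 11003456) (BT.node (nat_lit 11002432) (BT.node (nat_lit 11001920) (BT.node (nat_lit 11001728) (BT.node (nat_lit 11001600) (BT.node (nat_lit 11001408) (BT.leaf (nat_lit 43243021)) (BT.leaf (nat_lit 38233877))) (BT.node (nat_lit 11001664) (BT.leaf (nat_lit 41780761)) (BT.leaf (nat_lit 41780765)))) (BT.node (nat_lit 11001856) (BT.node (nat_lit 11001792) (BT.leaf (nat_lit 38871577)) (BT.leaf (nat_lit 40632345))) (BT.node (nat_lit 11001864) (BT.leaf (nat_lit 44019977)) (BT.leaf (nat_lit 771832))))) (BT.node (nat_lit 11002176) (BT.node (nat_lit 11002048) (BT.node (nat_lit 11001984) (BT.leaf (nat_lit 44007965)) (BT.leaf (nat_lit 41159445))) (BT.node (nat_lit 11002112) (BT.leaf (nat_lit 43852049)) (BT.leaf (nat_lit 42383125)))) (BT.node (nat_lit 11002304) (BT.node (nat_lit 11002240) (BT.leaf (nat_lit 43655181)) (BT.leaf (nat_lit 40218885))) (BT.node (nat_lit 11002368) (BT.leaf (nat_lit 47893537)) (BT.leaf (nat_lit 43656461)))))) (BT.node (nat_lit 11002944) (BT.node (nat_lit 11002688) (BT.node (nat_lit 11002560) (BT.node (nat_lit 11002496) (BT.leaf (nat_lit 46293509)) (BT.leaf (nat_lit 49381909))) (BT.node (nat_lit 11002624) (BT.leaf (nat_lit 38558729)) (BT.leaf (nat_lit 49598753)))) (BT.node (nat_lit 11002816) (BT.node (nat_lit 11002752) (BT.leaf (nat_lit 41046021)) (BT.leaf (nat_lit 38233109))) (BT.node (nat_lit 11002880) (BT.leaf (nat_lit 45869601)) (BT.leaf (nat_lit 44101657))))) (BT.node (nat_lit 11003200) (BT.node (nat_lit 11003072) (BT.node (nat_lit 11003008) (BT.leaf (nat_lit 44101661)) (BT.leaf (nat_lit 44118789))) (BT.node (nat_lit 11003136) (BT.leaf (nat_lit 45073441)) (BT.leaf (nat_lit 42435345)))) (BT.node (nat_lit 11003328) (BT.node (nat_lit 11003264) (BT.leaf (nat_lit 42695689)) (BT.leaf (nat_lit 38494993))) (BT.node (nat_lit 11003392) (BT.leaf (nat_lit 31336213)) (BT.leaf (nat_lit 50165525))))))) (BT.node (nat_lit 11004480) (BT.node (nat_lit 11003968) (BT.node (nat_lit 11003712) (BT.node (nat_lit 11003584) (BT.node (nat_lit 11003520) (BT.leaf (nat_lit 31336481)) (BT.leaf (nat_lit 39237389))) (BT.node (nat_lit 11003648) (BT.leaf (nat_lit 40951829)) (BT.leaf (nat_lit 39237385)))) (BT.node (nat_lit 11003840) (BT.node (nat_lit 11003776) (BT.leaf (nat_lit 39237401)) (BT.leaf (nat_lit 39237405))) (BT.node (nat_lit 11003904) (BT.leaf (nat_lit 43911697)) (BT.leaf (nat_lit 45329929))))) (BT.node (nat_lit 11004224) (BT.node (nat_lit 11004096) (BT.node (nat_lit 11004032) (BT.leaf (nat_lit 49658641)) (BT.leaf (nat_lit 45328909))) (BT.node (nat_lit 11004160) (BT.leaf (nat_lit 39455749)) (BT.leaf (nat_lit 44016925)))) (BT.node (nat_lit 11004352) (BT.node (nat_lit 11004288) (BT.leaf (nat_lit 31337485)) (BT.leaf (nat_lit 44124677))) (BT.node (nat_lit 11004416) (BT.leaf (nat_lit 42911773)) (BT.leaf (nat_lit 39580677)))))) (BT.node (nat_lit 11004992) (BT.node (nat_lit 11004736) (BT.node (nat_lit 11004608) (BT.node (nat_lit 11004544) (BT.leaf (nat_lit 31338521)) (BT.leaf (nat_lit 39580689))) (BT.node (nat_lit 11004672) (BT.leaf (nat_lit 50917657)) (BT.leaf (nat_lit 31339037)))) (BT.node (nat_lit 11004864) (BT.node (nat_lit 11004800) (BT.leaf (nat_lit 31339793)) (BT.leaf (nat_lit 44019485))) (BT.node (nat_lit 11004928) (BT.leaf (nat_lit 44007945)) (BT.leaf (nat_lit 45504789))))) (BT.node (nat_lit 11005248) (BT.node (nat_lit 11005120) (BT.node (nat_lit 11005056) (BT.leaf (nat_lit 45494045)) (BT.leaf (nat_lit 32141317))) (BT.node (nat_lit 11005184) (BT.leaf (nat_lit 37921049)) (BT.leaf (nat_lit 42044421)))) (BT.node (nat_lit 11005376) (BT.node (nat_lit 11005312) (BT.leaf (nat_lit 31422489)) (BT.leaf (nat_lit 38868241))) (BT.node (nat_lit 11005440) (BT.leaf (nat_lit 38868245)) (BT.leaf (nat_lit 34984977)))))))) (BT.node (nat_lit 11007616) (BT.node (nat_lit 11006592) (BT.node (nat_lit 11006080) (BT.node (nat_lit 11005824) (BT.node (nat_lit 11005632) (BT.node (nat_lit 11005568) (BT.leaf (nat_lit 34984981)) (BT.leaf (nat_lit 37941785))) (BT.node (nat_lit 11005760) (BT.leaf (nat_lit 48547589)) (BT.leaf (nat_lit 40182033)))) (BT.node (nat_lit 11005952) (BT.node (nat_lit 11005888) (BT.leaf (nat_lit 32161813)) (BT.leaf (nat_lit 31594785))) (BT.node (nat_lit 11006016) (BT.leaf (nat_lit 32931601)) (BT.leaf (nat_lit 40215813))))) (BT.node (nat_lit 11006336) (BT.node (nat_lit 11006208) (BT.node (nat_lit 11006144) (BT.leaf (nat_lit 41080097)) (BT.leaf (nat_lit 45133857))) (BT.node (nat_lit 11006272) (BT.leaf (nat_lit 32142085)) (BT.leaf (nat_lit 41064709)))) (BT.node (nat_lit 11006464) (BT.node (nat_lit 11006400) (BT.leaf (nat_lit 39250693)) (BT.leaf (nat_lit 31334161))) (BT.node (nat_lit 11006528) (BT.leaf (nat_lit 39250701)) (BT.leaf (nat_lit 39250709)))))) (BT.node (nat_lit 11007104) (BT.node (nat_lit 11006848) (BT.node (nat_lit 11006720) (BT.node (nat_lit 11006656) (BT.leaf (nat_lit 39250713)) (BT.leaf (nat_lit 39250717))) (BT.node (nat_lit 11006784) (BT.leaf (nat_lit 34569489)) (BT.leaf (nat_lit 43655177)))) (BT.node (nat_lit 11006976) (BT.node (nat_lit 11006912) (BT.leaf (nat_lit 31349277)) (BT.leaf (nat_lit 32607505))) (BT.node (nat_lit 11007040) (BT.leaf (nat_lit 48745733)) (BT.leaf (nat_lit 36097041))))) (BT.node (nat_lit 11007360) (BT.node (nat_lit 11007232) (BT.node (nat_lit 11007168) (BT.leaf (nat_lit 38269957)) (BT.leaf (nat_lit 39184669))) (BT.node (nat_lit 11007296) (BT.leaf (nat_lit 44010001)) (BT.leaf (nat_lit 44029469)))) (BT.node (nat_lit 11007488) (BT.node (nat_lit 11007424) (BT.leaf (nat_lit 51628053)) (BT.leaf (nat_lit 29913105))) (BT.node (nat_lit 11007552) (BT.leaf (nat_lit 31353361)) (BT.leaf (nat_lit 40425753))))))) (BT.node (nat_lit 11008640) (BT.node (nat_lit 11008128) (BT.node (nat_lit 11007872) (BT.node (nat_lit 11007744) (BT.node (nat_lit 11007680) (BT.leaf (nat_lit 40425757)) (BT.leaf (nat_lit 31016993))) (BT.node (nat_lit 11007808) (BT.leaf (nat_lit 33005593)) (BT.leaf (nat_lit 33005597)))) (BT.node (nat_lit 11008000) (BT.node (nat_lit 11007936) (BT.leaf (nat_lit 36265505)) (BT.leaf (nat_lit 48421125))) (BT.node (nat_lit 11008064) (BT.leaf (nat_lit 48421665)) (BT.leaf (nat_lit 48421409))))) (BT.node (nat_lit 11008384) (BT.node (nat_lit 11008256) (BT.node (nat_lit 11008192) (BT.leaf (nat_lit 44139041)) (BT.leaf (nat_lit 36246029))) (BT.node (nat_lit 11008320) (BT.leaf (nat_lit 35587605)) (BT.leaf (nat_lit 31355409)))) (BT.node (nat_lit 11008512) (BT.node (nat_lit 11008448) (BT.leaf (nat_lit 31354897)) (BT.leaf (nat_lit 48699681))) (BT.node (nat_lit 11008576) (BT.leaf (nat_lit 48699425)) (BT.leaf (nat_lit 36246041)))))) (BT.node (nat_lit 11009216) (BT.node (nat_lit 11008960) (BT.node (nat_lit 11008768) (BT.node (nat_lit 11008704) (BT.leaf (nat_lit 40898833)) (BT.leaf (nat_lit 30093081))) (BT.node (nat_lit 11008832) (BT.leaf (nat_lit 37882909)) (BT.leaf (nat_lit 44812805)))) (BT.node (nat_lit 11009088) (BT.node (nat_lit 11009024) (BT.leaf (nat_lit 42809097)) (BT.leaf (nat_lit 46152713))) (BT.node (nat_lit 11009152) (BT.leaf (nat_lit 41807633)) (BT.leaf (nat_lit 41807637))))) (BT.node (nat_lit 11009472) (BT.node (nat_lit 11009344) (BT.node (nat_lit 11009280) (BT.leaf (nat_lit 44236321)) (BT.leaf (nat_lit 44236549))) (BT.node (nat_lit 11009408) (BT.leaf (nat_lit 48453137)) (BT.leaf (nat_lit 38558733)))) (BT.node (nat_lit 11009600) (BT.node (nat_lit 11009536) (BT.leaf (nat_lit 42142221)) (BT.leaf (nat_lit 46209805))) (BT.node (nat_lit 11009664) (BT.leaf (nat_lit 38559001)) (BT.leaf (nat_lit 38558737))))))))) (BT.node (nat_lit 11013632) (BT.node (nat_lit 11011648) (BT.node (nat_lit 11010688) (BT.node (nat_lit 11010176) (BT.node (nat_lit 11009984) (BT.node (nat_lit 11009856) (BT.node (nat_lit 11009792) (BT.leaf (nat_lit 38558741)) (BT.leaf (nat_lit 42142225))) (BT.node (nat_lit 11009920) (BT.leaf (nat_lit 42142229)) (BT.leaf (nat_lit 47183393)))) (BT.node (nat_lit 11010052) (BT.node (nat_lit 11010048) (BT.leaf (nat_lit 43582753)) (BT.leaf (nat_lit 43582497))) (BT.node (nat_lit 11010112) (BT.leaf (nat_lit 761300)) (BT.leaf (nat_lit 45780745))))) (BT.node (nat_lit 11010432) (BT.node (nat_lit 11010304) (BT.node (nat_lit 11010240) (BT.leaf (nat_lit 31356689)) (BT.leaf (nat_lit 41526305))) (BT.node (nat_lit 11010368) (BT.leaf (nat_lit 41526049)) (BT.leaf (nat_lit 43968273)))) (BT.node (nat_lit 11010560) (BT.node (nat_lit 11010496) (BT.leaf (nat_lit 45118725)) (BT.leaf (nat_lit 30869509))) (BT.node (nat_lit 11010624) (BT.leaf (nat_lit 41679113)) (BT.leaf (nat_lit 27900957)))))) (BT.node (nat_lit 11011200) (BT.node (nat_lit 11010944) (BT.node (nat_lit 11010816) (BT.node (nat_lit 11010752) (BT.leaf (nat_lit 45017861)) (BT.leaf (nat_lit 34577417))) (BT.node (nat_lit 11010880) (BT.leaf (nat_lit 38978825)) (BT.leaf (nat_lit 44095517)))) (BT.node (nat_lit 11011072) (BT.node (nat_lit 11011008) (BT.leaf (nat_lit 46159129)) (BT.leaf (nat_lit 46159133))) (BT.node (nat_lit 11011136) (BT.leaf (nat_lit 41861657)) (BT.leaf (nat_lit 50333701))))) (BT.node (nat_lit 11011456) (BT.node (nat_lit 11011328) (BT.node (nat_lit 11011264) (BT.leaf (nat_lit 46752785)) (BT.leaf (nat_lit 48928529))) (BT.node (nat_lit 11011392) (BT.leaf (nat_lit 41861661)) (BT.leaf (nat_lit 31358493)))) (BT.node (nat_lit 11011584) (BT.node (nat_lit 11011520) (BT.leaf (nat_lit 38744865)) (BT.leaf (nat_lit 46994717))) (BT.node (nat_lit 11011589) (BT.leaf (nat_lit 46675977)) (BT.leaf (nat_lit 798788))))))) (BT.node (nat_lit 11012736) (BT.node (nat_lit 11012224) (BT.node (nat_lit 11011968) (BT.node (nat_lit 11011776) (BT.node (nat_lit 11011712) (BT.leaf (nat_lit 38182161)) (BT.leaf (nat_lit 44541729))) (BT.node (nat_lit 11011840) (BT.leaf (nat_lit 49524765)) (BT.leaf (nat_lit 31054877)))) (BT.node (nat_lit 11012096) (BT.node (nat_lit 11012032) (BT.leaf (nat_lit 44716053)) (BT.leaf (nat_lit 44047897))) (BT.node (nat_lit 11012160) (BT.leaf (nat_lit 41268001)) (BT.leaf (nat_lit 31118369))))) (BT.node (nat_lit 11012480) (BT.node (nat_lit 11012352) (BT.node (nat_lit 11012288) (BT.leaf (nat_lit 46886177)) (BT.leaf (nat_lit 31366933))) (BT.node (nat_lit 11012416) (BT.leaf (nat_lit 42378781)) (BT.leaf (nat_lit 31800077)))) (BT.node (nat_lit 11012608) (BT.node (nat_lit 11012544) (BT.leaf (nat_lit 31800073)) (BT.leaf (nat_lit 49807649))) (BT.node (nat_lit 11012672) (BT.leaf (nat_lit 34040081)) (BT.leaf (nat_lit 46806789)))))) (BT.node (nat_lit 11013184) (BT.node (nat_lit 11012992) (BT.node (nat_lit 11012864) (BT.node (nat_lit 11012800) (BT.leaf (nat_lit 44050713)) (BT.leaf (nat_lit 31366929))) (BT.node (nat_lit 11012928) (BT.leaf (nat_lit 31305745)) (BT.leaf (nat_lit 49742613)))) (BT.node (nat_lit 11013064) (BT.node (nat_lit 11013056) (BT.leaf (nat_lit 38559521)) (BT.leaf (nat_lit 44051993))) (BT.node (nat_lit 11013120) (BT.leaf (nat_lit 700860)) (BT.leaf (nat_lit 37965577))))) (BT.node (nat_lit 11013440) (BT.node (nat_lit 11013312) (BT.node (nat_lit 11013248) (BT.leaf (nat_lit 37965581)) (BT.leaf (nat_lit 37965597))) (BT.node (nat_lit 11013376) (BT.leaf (nat_lit 42147609)) (BT.leaf (nat_lit 52021513)))) (BT.node (nat_lit 11013512) (BT.node (nat_lit 11013504) (BT.leaf (nat_lit 48339985)) (BT.leaf (nat_lit 32310045))) (BT.node (nat_lit 11013568) (BT.leaf (nat_lit 812828)) (BT.leaf (nat_lit 45320717)))))))) (BT.node (nat_lit 11015680) (BT.node (nat_lit 11014656) (BT.node (nat_lit 11014144) (BT.node (nat_lit 11013888) (BT.node (nat_lit 11013760) (BT.node (nat_lit 11013696) (BT.leaf (nat_lit 44054813)) (BT.leaf (nat_lit 33521157))) (BT.node (nat_lit 11013824) (BT.leaf (nat_lit 31374097)) (BT.leaf (nat_lit 41435417)))) (BT.node (nat_lit 11014016) (BT.node (nat_lit 11013952) (BT.leaf (nat_lit 41435421)) (BT.leaf (nat_lit 44294421))) (BT.node (nat_lit 11014080) (BT.leaf (nat_lit 41424149)) (BT.leaf (nat_lit 31376145))))) (BT.node (nat_lit 11014400) (BT.node (nat_lit 11014272) (BT.node (nat_lit 11014208) (BT.leaf (nat_lit 31520801)) (BT.leaf (nat_lit 41395733))) (BT.node (nat_lit 11014336) (BT.leaf (nat_lit 41395737)) (BT.leaf (nat_lit 41395741)))) (BT.node (nat_lit 11014528) (BT.node (nat_lit 11014464) (BT.leaf (nat_lit 46889249)) (BT.leaf (nat_lit 40441609))) (BT.node (nat_lit 11014592) (BT.leaf (nat_lit 40441613)) (BT.leaf (nat_lit 34583061)))))) (BT.node (nat_lit 11015168) (BT.node (nat_lit 11014912) (BT.node (nat_lit 11014784) (BT.node (nat_lit 11014720) (BT.leaf (nat_lit 32999449)) (BT.leaf (nat_lit 32999453))) (BT.node (nat_lit 11014848) (BT.leaf (nat_lit 30129941)) (BT.leaf (nat_lit 31455513)))) (BT.node (nat_lit 11015040) (BT.node (nat_lit 11014976) (BT.leaf (nat_lit 31380249)) (BT.leaf (nat_lit 42675725))) (BT.node (nat_lit 11015104) (BT.leaf (nat_lit 44362785)) (BT.leaf (nat_lit 42675733))))) (BT.node (nat_lit 11015424) (BT.node (nat_lit 11015296) (BT.node (nat_lit 11015232) (BT.leaf (nat_lit 31379485)) (BT.leaf (nat_lit 31672585))) (BT.node (nat_lit 11015360) (BT.leaf (nat_lit 44151813)) (BT.leaf (nat_lit 44061725)))) (BT.node (nat_lit 11015552) (BT.node (nat_lit 11015488) (BT.leaf (nat_lit 40322309)) (BT.leaf (nat_lit 43421465))) (BT.node (nat_lit 11015616) (BT.leaf (nat_lit 43421469)) (BT.leaf (nat_lit 31672601))))))) (BT.node (nat_lit 11016704) (BT.node (nat_lit 11016192) (BT.node (nat_lit 11015936) (BT.node (nat_lit 11015808) (BT.node (nat_lit 11015744) (BT.leaf (nat_lit 31672605)) (BT.leaf (nat_lit 31383837))) (BT.node (nat_lit 11015872) (BT.leaf (nat_lit 38399249)) (BT.leaf (nat_lit 41434389)))) (BT.node (nat_lit 11016064) (BT.node (nat_lit 11016000) (BT.leaf (nat_lit 31384337)) (BT.leaf (nat_lit 31387657))) (BT.node (nat_lit 11016128) (BT.leaf (nat_lit 31387661)) (BT.leaf (nat_lit 31384853))))) (BT.node (nat_lit 11016320) (BT.node (nat_lit 11016256) (BT.node (nat_lit 11016200) (BT.leaf (nat_lit 44065053)) (BT.leaf (nat_lit 688636))) (BT.node (nat_lit 11016264) (BT.leaf (nat_lit 40133893)) (BT.leaf (nat_lit 760436)))) (BT.node (nat_lit 11016448) (BT.node (nat_lit 11016384) (BT.leaf (nat_lit 41137929)) (BT.leaf (nat_lit 45861137))) (BT.node (nat_lit 11016640) (BT.leaf (nat_lit 40941585)) (BT.leaf (nat_lit 30199569)))))) (BT.node (nat_lit 11017280) (BT.node (nat_lit 11017024) (BT.node (nat_lit 11016832) (BT.node (nat_lit 11016768) (BT.leaf (nat_lit 45991445)) (BT.leaf (nat_lit 43388449))) (BT.node (nat_lit 11016896) (BT.leaf (nat_lit 31386117)) (BT.leaf (nat_lit 49652253)))) (BT.node (nat_lit 11017152) (BT.node (nat_lit 11017088) (BT.leaf (nat_lit 44160801)) (BT.leaf (nat_lit 44161029))) (BT.node (nat_lit 11017216) (BT.leaf (nat_lit 48440333)) (BT.leaf (nat_lit 31557153))))) (BT.node (nat_lit 11017536) (BT.node (nat_lit 11017408) (BT.node (nat_lit 11017344) (BT.leaf (nat_lit 44256289)) (BT.leaf (nat_lit 31386385))) (BT.node (nat_lit 11017472) (BT.leaf (nat_lit 38404641)) (BT.leaf (nat_lit 38404385)))) (BT.node (nat_lit 11017664) (BT.node (nat_lit 11017600) (BT.leaf (nat_lit 48440345)) (BT.leaf (nat_lit 44294153))) (BT.node (nat_lit 11017728) (BT.leaf (nat_lit 31387161)) (BT.leaf (nat_lit 40828193)))))))))) (BT.node (nat_lit 11026368) (BT.node (nat_lit 11022016) (BT.node (nat_lit 11019904) (BT.node (nat_lit 11018816) (BT.node (nat_lit 11018304) (BT.node (nat_lit 11018048) (BT.node (nat_lit 11017920) (BT.node (nat_lit 11017856) (BT.leaf (nat_lit 34776097)) (BT.leaf (nat_lit 31386657))) (BT.node (nat_lit 11017984) (BT.leaf (nat_lit 39390485)) (BT.leaf (nat_lit 43747077)))) (BT.node (nat_lit 11018176) (BT.node (nat_lit 11018112) (BT.leaf (nat_lit 44071961)) (BT.leaf (nat_lit 42408473))) (BT.node (nat_lit 11018240) (BT.leaf (nat_lit 31387673)) (BT.leaf (nat_lit 44593669))))) (BT.node (nat_lit 11018560) (BT.node (nat_lit 11018432) (BT.node (nat_lit 11018368) (BT.leaf (nat_lit 49218081)) (BT.leaf (nat_lit 31524377))) (BT.node (nat_lit 11018496) (BT.leaf (nat_lit 31524381)) (BT.leaf (nat_lit 38066437)))) (BT.node (nat_lit 11018688) (BT.node (nat_lit 11018624) (BT.leaf (nat_lit 38891793)) (BT.leaf (nat_lit 38891797))) (BT.node (nat_lit 11018752) (BT.leaf (nat_lit 42056725)) (BT.leaf (nat_lit 42744857)))))) (BT.node (nat_lit 11019456) (BT.node (nat_lit 11019072) (BT.node (nat_lit 11018944) (BT.node (nat_lit 11018880) (BT.leaf (nat_lit 42744861)) (BT.leaf (nat_lit 41299209))) (BT.node (nat_lit 11019008) (BT.leaf (nat_lit 41299213)) (BT.leaf (nat_lit 44729093)))) (BT.node (nat_lit 11019328) (BT.node (nat_lit 11019136) (BT.leaf (nat_lit 41299225)) (BT.leaf (nat_lit 41299229))) (BT.node (nat_lit 11019392) (BT.leaf (nat_lit 30120721)) (BT.leaf (nat_lit 43661089))))) (BT.node (nat_lit 11019712) (BT.node (nat_lit 11019584) (BT.node (nat_lit 11019520) (BT.leaf (nat_lit 31391505)) (BT.leaf (nat_lit 39622945))) (BT.node (nat_lit 11019648) (BT.leaf (nat_lit 38671649)) (BT.leaf (nat_lit 31391249)))) (BT.node (nat_lit 11019781) (BT.node (nat_lit 11019776) (BT.leaf (nat_lit 48181025)) (BT.leaf (nat_lit 38849033))) (BT.node (nat_lit 11019840) (BT.leaf (nat_lit 760480)) (BT.leaf (nat_lit 48885025))))))) (BT.node (nat_lit 11020928) (BT.node (nat_lit 11020352) (BT.node (nat_lit 11020101) (BT.node (nat_lit 11020032) (BT.node (nat_lit 11019968) (BT.leaf (nat_lit 44748813)) (BT.leaf (nat_lit 44998165))) (BT.node (nat_lit 11020096) (BT.leaf (nat_lit 31100701)) (BT.leaf (nat_lit 46145801)))) (BT.node (nat_lit 11020224) (BT.node (nat_lit 11020160) (BT.leaf (nat_lit 720692)) (BT.leaf (nat_lit 49479969))) (BT.node (nat_lit 11020288) (BT.leaf (nat_lit 31209489)) (BT.leaf (nat_lit 38691077))))) (BT.node (nat_lit 11020672) (BT.node (nat_lit 11020544) (BT.node (nat_lit 11020480) (BT.leaf (nat_lit 45344521)) (BT.leaf (nat_lit 49893141))) (BT.node (nat_lit 11020608) (BT.leaf (nat_lit 49319177)) (BT.leaf (nat_lit 31403793)))) (BT.node (nat_lit 11020800) (BT.node (nat_lit 11020736) (BT.leaf (nat_lit 31399697)) (BT.leaf (nat_lit 39713305))) (BT.node (nat_lit 11020864) (BT.leaf (nat_lit 31400725)) (BT.leaf (nat_lit 39209237)))))) (BT.node (nat_lit 11021504) (BT.node (nat_lit 11021248) (BT.node (nat_lit 11021056) (BT.node (nat_lit 11020992) (BT.leaf (nat_lit 45303833)) (BT.leaf (nat_lit 45665057))) (BT.node (nat_lit 11021184) (BT.leaf (nat_lit 51910933)) (BT.leaf (nat_lit 38458637)))) (BT.node (nat_lit 11021376) (BT.node (nat_lit 11021312) (BT.leaf (nat_lit 31399689)) (BT.leaf (nat_lit 39595553))) (BT.node (nat_lit 11021440) (BT.leaf (nat_lit 49317893)) (BT.leaf (nat_lit 44086797))))) (BT.node (nat_lit 11021760) (BT.node (nat_lit 11021632) (BT.node (nat_lit 11021568) (BT.leaf (nat_lit 31849761)) (BT.leaf (nat_lit 49318941))) (BT.node (nat_lit 11021696) (BT.leaf (nat_lit 39316489)) (BT.leaf (nat_lit 31403285)))) (BT.node (nat_lit 11021888) (BT.node (nat_lit 11021824) (BT.leaf (nat_lit 48771845)) (BT.leaf (nat_lit 39208225))) (BT.node (nat_lit 11021952) (BT.leaf (nat_lit 31403025)) (BT.leaf (nat_lit 39316505)))))))) (BT.node (nat_lit 11024384) (BT.node (nat_lit 11023360) (BT.node (nat_lit 11022784) (BT.node (nat_lit 11022336) (BT.node (nat_lit 11022144) (BT.node (nat_lit 11022080) (BT.leaf (nat_lit 39316509)) (BT.leaf (nat_lit 42682885))) (BT.node (nat_lit 11022208) (BT.leaf (nat_lit 31404569)) (BT.leaf (nat_lit 31404825)))) (BT.node (nat_lit 11022464) (BT.node (nat_lit 11022400) (BT.leaf (nat_lit 42682901)) (BT.leaf (nat_lit 31404573))) (BT.node (nat_lit 11022656) (BT.leaf (nat_lit 31404829)) (BT.leaf (nat_lit 34593549))))) (BT.node (nat_lit 11023104) (BT.node (nat_lit 11022976) (BT.node (nat_lit 11022848) (BT.leaf (nat_lit 31405333)) (BT.leaf (nat_lit 32297737))) (BT.node (nat_lit 11023040) (BT.leaf (nat_lit 44093721)) (BT.leaf (nat_lit 39345185)))) (BT.node (nat_lit 11023232) (BT.node (nat_lit 11023168) (BT.leaf (nat_lit 31405089)) (BT.leaf (nat_lit 31940885))) (BT.node (nat_lit 11023296) (BT.leaf (nat_lit 44777753)) (BT.leaf (nat_lit 34593565)))))) (BT.node (nat_lit 11023872) (BT.node (nat_lit 11023616) (BT.node (nat_lit 11023488) (BT.node (nat_lit 11023424) (BT.leaf (nat_lit 43923729)) (BT.leaf (nat_lit 34593545))) (BT.node (nat_lit 11023552) (BT.leaf (nat_lit 39712033)) (BT.leaf (nat_lit 49275673)))) (BT.node (nat_lit 11023744) (BT.node (nat_lit 11023680) (BT.leaf (nat_lit 45302793)) (BT.leaf (nat_lit 40792585))) (BT.node (nat_lit 11023808) (BT.leaf (nat_lit 31406873)) (BT.leaf (nat_lit 39524613))))) (BT.node (nat_lit 11024128) (BT.node (nat_lit 11024000) (BT.node (nat_lit 11023936) (BT.leaf (nat_lit 31011349)) (BT.leaf (nat_lit 31408153))) (BT.node (nat_lit 11024064) (BT.leaf (nat_lit 37954321)) (BT.leaf (nat_lit 31408157)))) (BT.node (nat_lit 11024256) (BT.node (nat_lit 11024192) (BT.leaf (nat_lit 50445065)) (BT.leaf (nat_lit 38867461))) (BT.node (nat_lit 11024320) (BT.leaf (nat_lit 39199761)) (BT.leaf (nat_lit 31787037))))))) (BT.node (nat_lit 11025408) (BT.node (nat_lit 11024896) (BT.node (nat_lit 11024640) (BT.node (nat_lit 11024512) (BT.node (nat_lit 11024448) (BT.leaf (nat_lit 41327905)) (BT.leaf (nat_lit 41434401))) (BT.node (nat_lit 11024576) (BT.leaf (nat_lit 39036949)) (BT.leaf (nat_lit 28081685)))) (BT.node (nat_lit 11024768) (BT.node (nat_lit 11024704) (BT.leaf (nat_lit 47388937)) (BT.leaf (nat_lit 42650645))) (BT.node (nat_lit 11024832) (BT.leaf (nat_lit 28281365)) (BT.leaf (nat_lit 43267597))))) (BT.node (nat_lit 11025152) (BT.node (nat_lit 11025024) (BT.node (nat_lit 11024960) (BT.leaf (nat_lit 40320265)) (BT.leaf (nat_lit 38403853))) (BT.node (nat_lit 11025088) (BT.leaf (nat_lit 30786585)) (BT.leaf (nat_lit 38860577)))) (BT.node (nat_lit 11025280) (BT.node (nat_lit 11025216) (BT.leaf (nat_lit 38860805)) (BT.leaf (nat_lit 41494025))) (BT.node (nat_lit 11025344) (BT.leaf (nat_lit 34595349)) (BT.leaf (nat_lit 45386245)))))) (BT.node (nat_lit 11025856) (BT.node (nat_lit 11025600) (BT.node (nat_lit 11025536) (BT.node (nat_lit 11025472) (BT.leaf (nat_lit 38310677)) (BT.leaf (nat_lit 27576337))) (BT.node (nat_lit 11025540) (BT.leaf (nat_lit 42034953)) (BT.leaf (nat_lit 694384)))) (BT.node (nat_lit 11025728) (BT.node (nat_lit 11025664) (BT.leaf (nat_lit 44102685)) (BT.leaf (nat_lit 32465669))) (BT.node (nat_lit 11025792) (BT.leaf (nat_lit 45277729)) (BT.leaf (nat_lit 34603289))))) (BT.node (nat_lit 11026112) (BT.node (nat_lit 11025984) (BT.node (nat_lit 11025920) (BT.leaf (nat_lit 31425045)) (BT.leaf (nat_lit 40379157))) (BT.node (nat_lit 11026048) (BT.leaf (nat_lit 34603277)) (BT.leaf (nat_lit 48161801)))) (BT.node (nat_lit 11026240) (BT.node (nat_lit 11026176) (BT.leaf (nat_lit 44118285)) (BT.leaf (nat_lit 44118541))) (BT.node (nat_lit 11026304) (BT.leaf (nat_lit 45279521)) (BT.leaf (nat_lit 48628997))))))))) (BT.node (nat_lit 11030336) (BT.node (nat_lit 11028353) (BT.node (nat_lit 11027392) (BT.node (nat_lit 11026880) (BT.node (nat_lit 11026560) (BT.node (nat_lit 11026496) (BT.node (nat_lit 11026432) (BT.leaf (nat_lit 37896729)) (BT.leaf (nat_lit 37896733))) (BT.node (nat_lit 11026501) (BT.leaf (nat_lit 32602141)) (BT.leaf (nat_lit 773404)))) (BT.node (nat_lit 11026752) (BT.node (nat_lit 11026688) (BT.leaf (nat_lit 39602197)) (BT.leaf (nat_lit 48696589))) (BT.node (nat_lit 11026816) (BT.leaf (nat_lit 46343189)) (BT.leaf (nat_lit 49194261))))) (BT.node (nat_lit 11027136) (BT.node (nat_lit 11027008) (BT.node (nat_lit 11026944) (BT.leaf (nat_lit 43392269)) (BT.leaf (nat_lit 43392533))) (BT.node (nat_lit 11027072) (BT.leaf (nat_lit 34253333)) (BT.leaf (nat_lit 30611729)))) (BT.node (nat_lit 11027264) (BT.node (nat_lit 11027200) (BT.leaf (nat_lit 43392541)) (BT.leaf (nat_lit 39367957))) (BT.node (nat_lit 11027328) (BT.leaf (nat_lit 43066377)) (BT.leaf (nat_lit 34599701)))))) (BT.node (nat_lit 11027904) (BT.node (nat_lit 11027648) (BT.node (nat_lit 11027520) (BT.node (nat_lit 11027456) (BT.leaf (nat_lit 43066393)) (BT.leaf (nat_lit 32700677))) (BT.node (nat_lit 11027584) (BT.leaf (nat_lit 41134625)) (BT.leaf (nat_lit 48561169)))) (BT.node (nat_lit 11027776) (BT.node (nat_lit 11027712) (BT.leaf (nat_lit 43855369)) (BT.leaf (nat_lit 43855373))) (BT.node (nat_lit 11027840) (BT.leaf (nat_lit 31417877)) (BT.leaf (nat_lit 45180421))))) (BT.node (nat_lit 11028160) (BT.node (nat_lit 11028032) (BT.node (nat_lit 11027968) (BT.leaf (nat_lit 30692357)) (BT.leaf (nat_lit 39993117))) (BT.node (nat_lit 11028096) (BT.leaf (nat_lit 31418897)) (BT.leaf (nat_lit 31418641)))) (BT.node (nat_lit 11028288) (BT.node (nat_lit 11028224) (BT.leaf (nat_lit 31418385)) (BT.leaf (nat_lit 39302169))) (BT.node (nat_lit 11028352) (BT.leaf (nat_lit 27614981)) (BT.leaf (nat_lit 44113677))))))) (BT.node (nat_lit 11029248) (BT.node (nat_lit 11028736) (BT.node (nat_lit 11028488) (BT.node (nat_lit 11028422) (BT.node (nat_lit 11028416) (BT.leaf (nat_lit 814748)) (BT.leaf (nat_lit 31343381))) (BT.node (nat_lit 11028480) (BT.leaf (nat_lit 814752)) (BT.leaf (nat_lit 44861445)))) (BT.node (nat_lit 11028608) (BT.node (nat_lit 11028544) (BT.leaf (nat_lit 814756)) (BT.leaf (nat_lit 41707033))) (BT.node (nat_lit 11028672) (BT.leaf (nat_lit 43219717)) (BT.leaf (nat_lit 40077321))))) (BT.node (nat_lit 11028992) (BT.node (nat_lit 11028864) (BT.node (nat_lit 11028800) (BT.leaf (nat_lit 44101641)) (BT.leaf (nat_lit 44114969))) (BT.node (nat_lit 11028928) (BT.leaf (nat_lit 40080405)) (BT.leaf (nat_lit 45190169)))) (BT.node (nat_lit 11029120) (BT.node (nat_lit 11029056) (BT.leaf (nat_lit 45190173)) (BT.leaf (nat_lit 31422745))) (BT.node (nat_lit 11029184) (BT.leaf (nat_lit 38517521)) (BT.leaf (nat_lit 38517525)))))) (BT.node (nat_lit 11029824) (BT.node (nat_lit 11029568) (BT.node (nat_lit 11029440) (BT.node (nat_lit 11029376) (BT.leaf (nat_lit 31423773)) (BT.leaf (nat_lit 44217633))) (BT.node (nat_lit 11029504) (BT.leaf (nat_lit 31424785)) (BT.leaf (nat_lit 43065605)))) (BT.node (nat_lit 11029696) (BT.node (nat_lit 11029632) (BT.leaf (nat_lit 45386521)) (BT.leaf (nat_lit 45386525))) (BT.node (nat_lit 11029760) (BT.leaf (nat_lit 45279497)) (BT.leaf (nat_lit 41248017))))) (BT.node (nat_lit 11030080) (BT.node (nat_lit 11029952) (BT.node (nat_lit 11029888) (BT.leaf (nat_lit 45565713)) (BT.leaf (nat_lit 48251937))) (BT.node (nat_lit 11030016) (BT.leaf (nat_lit 38360585)) (BT.leaf (nat_lit 44121609)))) (BT.node (nat_lit 11030208) (BT.node (nat_lit 11030144) (BT.leaf (nat_lit 47480341)) (BT.leaf (nat_lit 45868305))) (BT.node (nat_lit 11030272) (BT.leaf (nat_lit 38360589)) (BT.leaf (nat_lit 38360601)))))))) (BT.node (nat_lit 11032448) (BT.node (nat_lit 11031296) (BT.node (nat_lit 11030784) (BT.node (nat_lit 11030532) (BT.node (nat_lit 11030464) (BT.node (nat_lit 11030400) (BT.leaf (nat_lit 44015109)) (BT.leaf (nat_lit 29749781))) (BT.node (nat_lit 11030528) (BT.leaf (nat_lit 42982417)) (BT.leaf (nat_lit 32453657)))) (BT.node (nat_lit 11030656) (BT.node (nat_lit 11030592) (BT.leaf (nat_lit 703284)) (BT.leaf (nat_lit 45009689))) (BT.node (nat_lit 11030720) (BT.leaf (nat_lit 48693781)) (BT.leaf (nat_lit 42355985))))) (BT.node (nat_lit 11031040) (BT.node (nat_lit 11030912) (BT.node (nat_lit 11030848) (BT.leaf (nat_lit 43009289)) (BT.leaf (nat_lit 42356001))) (BT.node (nat_lit 11030976) (BT.leaf (nat_lit 31426573)) (BT.leaf (nat_lit 31426829)))) (BT.node (nat_lit 11031168) (BT.node (nat_lit 11031104) (BT.leaf (nat_lit 38231813)) (BT.leaf (nat_lit 44124185))) (BT.node (nat_lit 11031232) (BT.leaf (nat_lit 48632861)) (BT.leaf (nat_lit 41413153)))))) (BT.node (nat_lit 11031808) (BT.node (nat_lit 11031552) (BT.node (nat_lit 11031424) (BT.node (nat_lit 11031360) (BT.leaf (nat_lit 38800145)) (BT.leaf (nat_lit 41383173))) (BT.node (nat_lit 11031488) (BT.leaf (nat_lit 50252577)) (BT.leaf (nat_lit 45488149)))) (BT.node (nat_lit 11031680) (BT.node (nat_lit 11031616) (BT.leaf (nat_lit 32750609)) (BT.leaf (nat_lit 45612053))) (BT.node (nat_lit 11031744) (BT.leaf (nat_lit 39235597)) (BT.leaf (nat_lit 46486037))))) (BT.node (nat_lit 11032192) (BT.node (nat_lit 11031936) (BT.node (nat_lit 11031872) (BT.leaf (nat_lit 38216981)) (BT.leaf (nat_lit 32944397))) (BT.node (nat_lit 11032000) (BT.leaf (nat_lit 48699909)) (BT.leaf (nat_lit 32155425)))) (BT.node (nat_lit 11032320) (BT.node (nat_lit 11032256) (BT.leaf (nat_lit 39116305)) (BT.leaf (nat_lit 48735773))) (BT.node (nat_lit 11032384) (BT.leaf (nat_lit 40347409)) (BT.leaf (nat_lit 31430929))))))) (BT.node (nat_lit 11033600) (BT.node (nat_lit 11033088) (BT.node (nat_lit 11032704) (BT.node (nat_lit 11032576) (BT.node (nat_lit 11032512) (BT.leaf (nat_lit 34606353)) (BT.leaf (nat_lit 43998985))) (BT.node (nat_lit 11032640) (BT.leaf (nat_lit 41408541)) (BT.leaf (nat_lit 40611601)))) (BT.node (nat_lit 11032960) (BT.node (nat_lit 11032896) (BT.leaf (nat_lit 45443853)) (BT.leaf (nat_lit 44286993))) (BT.node (nat_lit 11033024) (BT.leaf (nat_lit 42079005)) (BT.leaf (nat_lit 31431449))))) (BT.node (nat_lit 11033344) (BT.node (nat_lit 11033216) (BT.node (nat_lit 11033152) (BT.leaf (nat_lit 40579601)) (BT.leaf (nat_lit 40579605))) (BT.node (nat_lit 11033280) (BT.leaf (nat_lit 47565845)) (BT.leaf (nat_lit 32564505)))) (BT.node (nat_lit 11033472) (BT.node (nat_lit 11033408) (BT.leaf (nat_lit 46500885)) (BT.leaf (nat_lit 38291233))) (BT.node (nat_lit 11033536) (BT.leaf (nat_lit 48683537)) (BT.leaf (nat_lit 48040477)))))) (BT.node (nat_lit 11034112) (BT.node (nat_lit 11033856) (BT.node (nat_lit 11033728) (BT.node (nat_lit 11033664) (BT.leaf (nat_lit 47552801)) (BT.leaf (nat_lit 32554265))) (BT.node (nat_lit 11033792) (BT.leaf (nat_lit 32554269)) (BT.leaf (nat_lit 31415069)))) (BT.node (nat_lit 11033984) (BT.node (nat_lit 11033920) (BT.leaf (nat_lit 32555025)) (BT.leaf (nat_lit 51001121))) (BT.node (nat_lit 11034048) (BT.leaf (nat_lit 46375433)) (BT.leaf (nat_lit 42816537))))) (BT.node (nat_lit 11034368) (BT.node (nat_lit 11034240) (BT.node (nat_lit 11034176) (BT.leaf (nat_lit 42816541)) (BT.leaf (nat_lit 49673733))) (BT.node (nat_lit 11034304) (BT.leaf (nat_lit 40681745)) (BT.leaf (nat_lit 49673749)))) (BT.node (nat_lit 11034496) (BT.node (nat_lit 11034432) (BT.leaf (nat_lit 49746189)) (BT.leaf (nat_lit 38204177))) (BT.node (nat_lit 11034560) (BT.leaf (nat_lit 48683281)) (BT.leaf (nat_lit 40250137))))))))))) (BT.node (nat_lit 11052032) (BT.node (nat_lit 11043328) (BT.node (nat_lit 11038784) (BT.node (nat_lit 11036736) (BT.node (nat_lit 11035648) (BT.node (nat_lit 11035136) (BT.node (nat_lit 11034880) (BT.node (nat_lit 11034752) (BT.node (nat_lit 11034688) (BT.leaf (nat_lit 40250141)) (BT.leaf (nat_lit 38296581))) (BT.node (nat_lit 11034816) (BT.leaf (nat_lit 31435021)) (BT.leaf (nat_lit 48742689)))) (BT.node (nat_lit 11035008) (BT.node (nat_lit 11034944) (BT.leaf (nat_lit 41532433)) (BT.leaf (nat_lit 48631813))) (BT.node (nat_lit 11035072) (BT.leaf (nat_lit 32812297)) (BT.leaf (nat_lit 32812305))))) (BT.node (nat_lit 11035392) (BT.node (nat_lit 11035264) (BT.node (nat_lit 11035200) (BT.leaf (nat_lit 38343685)) (BT.leaf (nat_lit 40419861))) (BT.node (nat_lit 11035328) (BT.leaf (nat_lit 44141601)) (BT.leaf (nat_lit 50668321)))) (BT.node (nat_lit 11035520) (BT.node (nat_lit 11035456) (BT.leaf (nat_lit 42072341)) (BT.leaf (nat_lit 47737625))) (BT.node (nat_lit 11035584) (BT.leaf (nat_lit 39523601)) (BT.leaf (nat_lit 31437333)))))) (BT.node (nat_lit 11036224) (BT.node (nat_lit 11035968) (BT.node (nat_lit 11035776) (BT.node (nat_lit 11035712) (BT.leaf (nat_lit 49287197)) (BT.leaf (nat_lit 46593309))) (BT.node (nat_lit 11035840) (BT.leaf (nat_lit 51051281)) (BT.leaf (nat_lit 44143129)))) (BT.node (nat_lit 11036096) (BT.node (nat_lit 11036032) (BT.leaf (nat_lit 31445257)) (BT.leaf (nat_lit 37802773))) (BT.node (nat_lit 11036160) (BT.leaf (nat_lit 39625505)) (BT.leaf (nat_lit 39625249))))) (BT.node (nat_lit 11036480) (BT.node (nat_lit 11036352) (BT.node (nat_lit 11036288) (BT.leaf (nat_lit 39697413)) (BT.leaf (nat_lit 32891405))) (BT.node (nat_lit 11036416) (BT.leaf (nat_lit 42917897)) (BT.leaf (nat_lit 32065305)))) (BT.node (nat_lit 11036608) (BT.node (nat_lit 11036544) (BT.leaf (nat_lit 32065309)) (BT.leaf (nat_lit 38827793))) (BT.node (nat_lit 11036672) (BT.leaf (nat_lit 38805765)) (BT.leaf (nat_lit 31441937))))))) (BT.node (nat_lit 11037760) (BT.node (nat_lit 11037248) (BT.node (nat_lit 11036992) (BT.node (nat_lit 11036864) (BT.node (nat_lit 11036800) (BT.leaf (nat_lit 35334425)) (BT.leaf (nat_lit 44163609))) (BT.node (nat_lit 11036928) (BT.leaf (nat_lit 44358929)) (BT.leaf (nat_lit 44147997)))) (BT.node (nat_lit 11037120) (BT.node (nat_lit 11037056) (BT.leaf (nat_lit 35334413)) (BT.leaf (nat_lit 43272993))) (BT.node (nat_lit 11037184) (BT.leaf (nat_lit 34057757)) (BT.leaf (nat_lit 41160729))))) (BT.node (nat_lit 11037504) (BT.node (nat_lit 11037376) (BT.node (nat_lit 11037312) (BT.leaf (nat_lit 32418821)) (BT.leaf (nat_lit 31444497))) (BT.node (nat_lit 11037440) (BT.leaf (nat_lit 31523361)) (BT.leaf (nat_lit 45637409)))) (BT.node (nat_lit 11037632) (BT.node (nat_lit 11037568) (BT.leaf (nat_lit 44983557)) (BT.leaf (nat_lit 44262149))) (BT.node (nat_lit 11037696) (BT.leaf (nat_lit 31525409)) (BT.leaf (nat_lit 44367393)))))) (BT.node (nat_lit 11038272) (BT.node (nat_lit 11038016) (BT.node (nat_lit 11037888) (BT.node (nat_lit 11037824) (BT.leaf (nat_lit 44151325)) (BT.leaf (nat_lit 44062981))) (BT.node (nat_lit 11037952) (BT.leaf (nat_lit 31445261)) (BT.leaf (nat_lit 43868177)))) (BT.node (nat_lit 11038144) (BT.node (nat_lit 11038080) (BT.leaf (nat_lit 48705041)) (BT.leaf (nat_lit 40322337))) (BT.node (nat_lit 11038208) (BT.leaf (nat_lit 40322081)) (BT.leaf (nat_lit 38801685))))) (BT.node (nat_lit 11038528) (BT.node (nat_lit 11038400) (BT.node (nat_lit 11038336) (BT.leaf (nat_lit 45391369)) (BT.leaf (nat_lit 39369497))) (BT.node (nat_lit 11038464) (BT.leaf (nat_lit 39369501)) (BT.leaf (nat_lit 41328673)))) (BT.node (nat_lit 11038656) (BT.node (nat_lit 11038592) (BT.leaf (nat_lit 31384581)) (BT.leaf (nat_lit 31889421))) (BT.node (nat_lit 11038720) (BT.leaf (nat_lit 45817633)) (BT.leaf (nat_lit 44155165)))))))) (BT.node (nat_lit 11041024) (BT.node (nat_lit 11040000) (BT.node (nat_lit 11039424) (BT.node (nat_lit 11039104) (BT.node (nat_lit 11038976) (BT.node (nat_lit 11038912) (BT.leaf (nat_lit 48666373)) (BT.leaf (nat_lit 44063265))) (BT.node (nat_lit 11039040) (BT.leaf (nat_lit 44063493)) (BT.leaf (nat_lit 41953545)))) (BT.node (nat_lit 11039296) (BT.node (nat_lit 11039232) (BT.leaf (nat_lit 48632601)) (BT.leaf (nat_lit 40315401))) (BT.node (nat_lit 11039360) (BT.leaf (nat_lit 31445525)) (BT.leaf (nat_lit 43994401))))) (BT.node (nat_lit 11039680) (BT.node (nat_lit 11039552) (BT.node (nat_lit 11039488) (BT.leaf (nat_lit 41809669)) (BT.leaf (nat_lit 46125325))) (BT.node (nat_lit 11039616) (BT.leaf (nat_lit 41809685)) (BT.leaf (nat_lit 46125837)))) (BT.node (nat_lit 11039808) (BT.node (nat_lit 11039744) (BT.leaf (nat_lit 32268305)) (BT.leaf (nat_lit 31324689))) (BT.node (nat_lit 11039872) (BT.leaf (nat_lit 47740949)) (BT.leaf (nat_lit 32882701)))))) (BT.node (nat_lit 11040576) (BT.node (nat_lit 11040320) (BT.node (nat_lit 11040192) (BT.node (nat_lit 11040064) (BT.leaf (nat_lit 31446533)) (BT.leaf (nat_lit 46120969))) (BT.node (nat_lit 11040256) (BT.leaf (nat_lit 49708045)) (BT.leaf (nat_lit 46121737)))) (BT.node (nat_lit 11040448) (BT.node (nat_lit 11040384) (BT.leaf (nat_lit 44161565)) (BT.leaf (nat_lit 51421713))) (BT.node (nat_lit 11040512) (BT.leaf (nat_lit 48709133)) (BT.leaf (nat_lit 30961169))))) (BT.node (nat_lit 11040832) (BT.node (nat_lit 11040704) (BT.node (nat_lit 11040642) (BT.leaf (nat_lit 31446801)) (BT.leaf (nat_lit 794752))) (BT.node (nat_lit 11040768) (BT.leaf (nat_lit 39391765)) (BT.leaf (nat_lit 35334429)))) (BT.node (nat_lit 11040896) (BT.node (nat_lit 11040840) (BT.leaf (nat_lit 41454341)) (BT.leaf (nat_lit 797492))) (BT.node (nat_lit 11040960) (BT.leaf (nat_lit 35334409)) (BT.leaf (nat_lit 35233825))))))) (BT.node (nat_lit 11042240) (BT.node (nat_lit 11041664) (BT.node (nat_lit 11041408) (BT.node (nat_lit 11041152) (BT.node (nat_lit 11041088) (BT.leaf (nat_lit 39464725)) (BT.leaf (nat_lit 40133921))) (BT.node (nat_lit 11041216) (BT.leaf (nat_lit 40314913)) (BT.leaf (nat_lit 39644705)))) (BT.node (nat_lit 11041536) (BT.node (nat_lit 11041472) (BT.leaf (nat_lit 50764821)) (BT.leaf (nat_lit 44550945))) (BT.node (nat_lit 11041600) (BT.leaf (nat_lit 42029077)) (BT.leaf (nat_lit 44166685))))) (BT.node (nat_lit 11041984) (BT.node (nat_lit 11041856) (BT.node (nat_lit 11041792) (BT.leaf (nat_lit 44551685)) (BT.leaf (nat_lit 47146529))) (BT.node (nat_lit 11041920) (BT.leaf (nat_lit 47146273)) (BT.leaf (nat_lit 43987477)))) (BT.node (nat_lit 11042112) (BT.node (nat_lit 11042048) (BT.leaf (nat_lit 43988745)) (BT.leaf (nat_lit 44983585))) (BT.node (nat_lit 11042176) (BT.leaf (nat_lit 44168733)) (BT.leaf (nat_lit 47146501)))))) (BT.node (nat_lit 11042816) (BT.node (nat_lit 11042688) (BT.node (nat_lit 11042432) (BT.node (nat_lit 11042368) (BT.leaf (nat_lit 31857169)) (BT.leaf (nat_lit 31449621))) (BT.node (nat_lit 11042624) (BT.leaf (nat_lit 38652177)) (BT.leaf (nat_lit 40859665)))) (BT.node (nat_lit 11042752) (BT.node (nat_lit 11042692) (BT.leaf (nat_lit 43980065)) (BT.leaf (nat_lit 764088))) (BT.node (nat_lit 11042756) (BT.leaf (nat_lit 42031885)) (BT.leaf (nat_lit 702796))))) (BT.node (nat_lit 11043072) (BT.node (nat_lit 11042944) (BT.node (nat_lit 11042880) (BT.leaf (nat_lit 31450645)) (BT.leaf (nat_lit 44171805))) (BT.node (nat_lit 11043008) (BT.leaf (nat_lit 43980833)) (BT.leaf (nat_lit 48918533)))) (BT.node (nat_lit 11043200) (BT.node (nat_lit 11043136) (BT.leaf (nat_lit 31453713)) (BT.leaf (nat_lit 31453457))) (BT.node (nat_lit 11043264) (BT.leaf (nat_lit 42947609)) (BT.leaf (nat_lit 42947613))))))))) (BT.node (nat_lit 11047552) (BT.node (nat_lit 11045376) (BT.node (nat_lit 11044352) (BT.node (nat_lit 11043840) (BT.node (nat_lit 11043584) (BT.node (nat_lit 11043456) (BT.node (nat_lit 11043392) (BT.leaf (nat_lit 31379993)) (BT.leaf (nat_lit 31455001))) (BT.node (nat_lit 11043520) (BT.leaf (nat_lit 39880977)) (BT.leaf (nat_lit 40257557)))) (BT.node (nat_lit 11043712) (BT.node (nat_lit 11043648) (BT.leaf (nat_lit 33211161)) (BT.leaf (nat_lit 40928273))) (BT.node (nat_lit 11043776) (BT.leaf (nat_lit 32935193)) (BT.leaf (nat_lit 30261021))))) (BT.node (nat_lit 11044096) (BT.node (nat_lit 11043968) (BT.node (nat_lit 11043904) (BT.leaf (nat_lit 37842445)) (BT.leaf (nat_lit 38113301))) (BT.node (nat_lit 11044032) (BT.leaf (nat_lit 37842453)) (BT.leaf (nat_lit 37842457)))) (BT.node (nat_lit 11044224) (BT.node (nat_lit 11044160) (BT.leaf (nat_lit 37842461)) (BT.leaf (nat_lit 31459601))) (BT.node (nat_lit 11044288) (BT.leaf (nat_lit 32325145)) (BT.leaf (nat_lit 42897933)))))) (BT.node (nat_lit 11044864) (BT.node (nat_lit 11044608) (BT.node (nat_lit 11044480) (BT.node (nat_lit 11044416) (BT.leaf (nat_lit 43007009)) (BT.leaf (nat_lit 48046605))) (BT.node (nat_lit 11044544) (BT.leaf (nat_lit 35358237)) (BT.leaf (nat_lit 46539553)))) (BT.node (nat_lit 11044736) (BT.node (nat_lit 11044672) (BT.leaf (nat_lit 46539809)) (BT.leaf (nat_lit 46540321))) (BT.node (nat_lit 11044800) (BT.leaf (nat_lit 46540065)) (BT.leaf (nat_lit 32939533))))) (BT.node (nat_lit 11045120) (BT.node (nat_lit 11044992) (BT.node (nat_lit 11044928) (BT.leaf (nat_lit 47653145)) (BT.leaf (nat_lit 41785865))) (BT.node (nat_lit 11045056) (BT.leaf (nat_lit 40494369)) (BT.leaf (nat_lit 31396109)))) (BT.node (nat_lit 11045248) (BT.node (nat_lit 11045184) (BT.leaf (nat_lit 39011601)) (BT.leaf (nat_lit 48717065))) (BT.node (nat_lit 11045312) (BT.leaf (nat_lit 31463453)) (BT.leaf (nat_lit 37931041))))))) (BT.node (nat_lit 11046464) (BT.node (nat_lit 11045952) (BT.node (nat_lit 11045696) (BT.node (nat_lit 11045504) (BT.node (nat_lit 11045440) (BT.leaf (nat_lit 48718109)) (BT.leaf (nat_lit 46548769))) (BT.node (nat_lit 11045632) (BT.leaf (nat_lit 39313425)) (BT.leaf (nat_lit 38691589)))) (BT.node (nat_lit 11045824) (BT.node (nat_lit 11045760) (BT.leaf (nat_lit 31396113)) (BT.leaf (nat_lit 50447649))) (BT.node (nat_lit 11045888) (BT.leaf (nat_lit 48722197)) (BT.leaf (nat_lit 48553245))))) (BT.node (nat_lit 11046208) (BT.node (nat_lit 11046080) (BT.node (nat_lit 11046016) (BT.leaf (nat_lit 48553249)) (BT.leaf (nat_lit 31468561))) (BT.node (nat_lit 11046144) (BT.leaf (nat_lit 45713925)) (BT.leaf (nat_lit 46187277)))) (BT.node (nat_lit 11046336) (BT.node (nat_lit 11046272) (BT.leaf (nat_lit 45744909)) (BT.leaf (nat_lit 31469841))) (BT.node (nat_lit 11046400) (BT.leaf (nat_lit 31470097)) (BT.leaf (nat_lit 48728081)))))) (BT.node (nat_lit 11047040) (BT.node (nat_lit 11046720) (BT.node (nat_lit 11046592) (BT.node (nat_lit 11046528) (BT.leaf (nat_lit 39548181)) (BT.leaf (nat_lit 31471377))) (BT.node (nat_lit 11046656) (BT.leaf (nat_lit 31470865)) (BT.leaf (nat_lit 50790937)))) (BT.node (nat_lit 11046848) (BT.node (nat_lit 11046784) (BT.leaf (nat_lit 31471633)) (BT.leaf (nat_lit 44498709))) (BT.node (nat_lit 11046976) (BT.leaf (nat_lit 39814153)) (BT.leaf (nat_lit 44186637))))) (BT.node (nat_lit 11047296) (BT.node (nat_lit 11047168) (BT.node (nat_lit 11047104) (BT.leaf (nat_lit 39122953)) (BT.leaf (nat_lit 41061137))) (BT.node (nat_lit 11047232) (BT.leaf (nat_lit 41061141)) (BT.leaf (nat_lit 39539217)))) (BT.node (nat_lit 11047424) (BT.node (nat_lit 11047360) (BT.leaf (nat_lit 39539221)) (BT.leaf (nat_lit 39122961))) (BT.node (nat_lit 11047488) (BT.leaf (nat_lit 39122965)) (BT.leaf (nat_lit 31473941)))))))) (BT.node (nat_lit 11049856) (BT.node (nat_lit 11048768) (BT.node (nat_lit 11048256) (BT.node (nat_lit 11047808) (BT.node (nat_lit 11047680) (BT.node (nat_lit 11047616) (BT.leaf (nat_lit 31473945)) (BT.leaf (nat_lit 44185885))) (BT.node (nat_lit 11047744) (BT.leaf (nat_lit 41368337)) (BT.leaf (nat_lit 44185865)))) (BT.node (nat_lit 11047936) (BT.node (nat_lit 11047872) (BT.leaf (nat_lit 41368353)) (BT.leaf (nat_lit 31473681))) (BT.node (nat_lit 11048000) (BT.leaf (nat_lit 47011345)) (BT.leaf (nat_lit 52342789))))) (BT.node (nat_lit 11048512) (BT.node (nat_lit 11048384) (BT.node (nat_lit 11048320) (BT.leaf (nat_lit 28262169)) (BT.leaf (nat_lit 38355217))) (BT.node (nat_lit 11048448) (BT.leaf (nat_lit 38355221)) (BT.leaf (nat_lit 48626693)))) (BT.node (nat_lit 11048640) (BT.node (nat_lit 11048576) (BT.leaf (nat_lit 46728225)) (BT.leaf (nat_lit 48127749))) (BT.node (nat_lit 11048704) (BT.leaf (nat_lit 39730713)) (BT.leaf (nat_lit 39935769)))))) (BT.node (nat_lit 11049280) (BT.node (nat_lit 11049024) (BT.node (nat_lit 11048896) (BT.node (nat_lit 11048832) (BT.leaf (nat_lit 46832133)) (BT.leaf (nat_lit 31408929))) (BT.node (nat_lit 11048960) (BT.leaf (nat_lit 41682181)) (BT.leaf (nat_lit 39077893)))) (BT.node (nat_lit 11049152) (BT.node (nat_lit 11049088) (BT.leaf (nat_lit 31873049)) (BT.leaf (nat_lit 41433605))) (BT.node (nat_lit 11049216) (BT.leaf (nat_lit 46668561)) (BT.leaf (nat_lit 47323909))))) (BT.node (nat_lit 11049600) (BT.node (nat_lit 11049408) (BT.node (nat_lit 11049344) (BT.leaf (nat_lit 29651477)) (BT.leaf (nat_lit 46826501))) (BT.node (nat_lit 11049472) (BT.leaf (nat_lit 40764945)) (BT.leaf (nat_lit 45019909)))) (BT.node (nat_lit 11049728) (BT.node (nat_lit 11049664) (BT.leaf (nat_lit 43180809)) (BT.leaf (nat_lit 32237585))) (BT.node (nat_lit 11049792) (BT.leaf (nat_lit 45097761)) (BT.leaf (nat_lit 39186949))))))) (BT.node (nat_lit 11050880) (BT.node (nat_lit 11050368) (BT.node (nat_lit 11050112) (BT.node (nat_lit 11049984) (BT.node (nat_lit 11049920) (BT.leaf (nat_lit 39186969)) (BT.leaf (nat_lit 39186973))) (BT.node (nat_lit 11050048) (BT.leaf (nat_lit 27394833)) (BT.leaf (nat_lit 31758105)))) (BT.node (nat_lit 11050240) (BT.node (nat_lit 11050176) (BT.leaf (nat_lit 31758109)) (BT.leaf (nat_lit 31491861))) (BT.node (nat_lit 11050304) (BT.leaf (nat_lit 44103713)) (BT.leaf (nat_lit 51582241))))) (BT.node (nat_lit 11050624) (BT.node (nat_lit 11050496) (BT.node (nat_lit 11050432) (BT.leaf (nat_lit 48984597)) (BT.leaf (nat_lit 39761677))) (BT.node (nat_lit 11050560) (BT.leaf (nat_lit 44216841)) (BT.leaf (nat_lit 32496401)))) (BT.node (nat_lit 11050752) (BT.node (nat_lit 11050688) (BT.leaf (nat_lit 48742161)) (BT.leaf (nat_lit 31499017))) (BT.node (nat_lit 11050816) (BT.leaf (nat_lit 31499273)) (BT.leaf (nat_lit 39529497)))))) (BT.node (nat_lit 11051456) (BT.node (nat_lit 11051200) (BT.node (nat_lit 11051072) (BT.node (nat_lit 11050944) (BT.leaf (nat_lit 40628241)) (BT.leaf (nat_lit 40819981))) (BT.node (nat_lit 11051136) (BT.leaf (nat_lit 33011725)) (BT.leaf (nat_lit 48744977)))) (BT.node (nat_lit 11051328) (BT.node (nat_lit 11051264) (BT.leaf (nat_lit 47318025)) (BT.leaf (nat_lit 40423197))) (BT.node (nat_lit 11051392) (BT.leaf (nat_lit 39823393)) (BT.leaf (nat_lit 38933781))))) (BT.node (nat_lit 11051712) (BT.node (nat_lit 11051584) (BT.node (nat_lit 11051520) (BT.leaf (nat_lit 32572677)) (BT.leaf (nat_lit 49295129))) (BT.node (nat_lit 11051648) (BT.leaf (nat_lit 38209285)) (BT.leaf (nat_lit 45278229)))) (BT.node (nat_lit 11051840) (BT.node (nat_lit 11051776) (BT.leaf (nat_lit 33700629)) (BT.leaf (nat_lit 31485973))) (BT.node (nat_lit 11051904) (BT.leaf (nat_lit 31485209)) (BT.leaf (nat_lit 31485465)))))))))) (BT.node (nat_lit 11060928) (BT.node (nat_lit 11056192) (BT.node (nat_lit 11054080) (BT.node (nat_lit 11053056) (BT.node (nat_lit 11052608) (BT.node (nat_lit 11052288) (BT.node (nat_lit 11052160) (BT.node (nat_lit 11052096) (BT.leaf (nat_lit 49740557)) (BT.leaf (nat_lit 31485725))) (BT.node (nat_lit 11052224) (BT.leaf (nat_lit 31485469)) (BT.leaf (nat_lit 38245153)))) (BT.node (nat_lit 11052416) (BT.node (nat_lit 11052352) (BT.leaf (nat_lit 31485721)) (BT.leaf (nat_lit 46490393))) (BT.node (nat_lit 11052480) (BT.leaf (nat_lit 31486489)) (BT.leaf (nat_lit 31486745))))) (BT.node (nat_lit 11052864) (BT.node (nat_lit 11052736) (BT.node (nat_lit 11052672) (BT.leaf (nat_lit 31486493)) (BT.leaf (nat_lit 50909985))) (BT.node (nat_lit 11052800) (BT.leaf (nat_lit 48498705)) (BT.leaf (nat_lit 43076373)))) (BT.node (nat_lit 11052928) (BT.node (nat_lit 11052866) (BT.leaf (nat_lit 31487001)) (BT.leaf (nat_lit 724428))) (BT.node (nat_lit 11052992) (BT.leaf (nat_lit 44539141)) (BT.leaf (nat_lit 31487257)))))) (BT.node (nat_lit 11053568) (BT.node (nat_lit 11053312) (BT.node (nat_lit 11053184) (BT.node (nat_lit 11053120) (BT.leaf (nat_lit 38818833)) (BT.leaf (nat_lit 38818837))) (BT.node (nat_lit 11053248) (BT.leaf (nat_lit 31487261)) (BT.leaf (nat_lit 43459345)))) (BT.node (nat_lit 11053440) (BT.node (nat_lit 11053376) (BT.leaf (nat_lit 42065173)) (BT.leaf (nat_lit 39050769))) (BT.node (nat_lit 11053504) (BT.leaf (nat_lit 32557601)) (BT.leaf (nat_lit 31489029))))) (BT.node (nat_lit 11053824) (BT.node (nat_lit 11053696) (BT.node (nat_lit 11053632) (BT.leaf (nat_lit 31488785)) (BT.leaf (nat_lit 44197145))) (BT.node (nat_lit 11053760) (BT.leaf (nat_lit 44197149)) (BT.leaf (nat_lit 31489053)))) (BT.node (nat_lit 11053952) (BT.node (nat_lit 11053888) (BT.leaf (nat_lit 46826513)) (BT.leaf (nat_lit 46826517))) (BT.node (nat_lit 11054016) (BT.leaf (nat_lit 41726489)) (BT.leaf (nat_lit 41726493))))))) (BT.node (nat_lit 11055168) (BT.node (nat_lit 11054592) (BT.node (nat_lit 11054400) (BT.node (nat_lit 11054208) (BT.node (nat_lit 11054144) (BT.leaf (nat_lit 40062993)) (BT.leaf (nat_lit 40381209))) (BT.node (nat_lit 11054272) (BT.leaf (nat_lit 40381213)) (BT.leaf (nat_lit 41611781)))) (BT.node (nat_lit 11054464) (BT.node (nat_lit 11054406) (BT.leaf (nat_lit 45279501)) (BT.leaf (nat_lit 717776))) (BT.node (nat_lit 11054528) (BT.leaf (nat_lit 41475345)) (BT.leaf (nat_lit 42695941))))) (BT.node (nat_lit 11054848) (BT.node (nat_lit 11054720) (BT.node (nat_lit 11054656) (BT.leaf (nat_lit 38211333)) (BT.leaf (nat_lit 43568665))) (BT.node (nat_lit 11054784) (BT.leaf (nat_lit 39761681)) (BT.leaf (nat_lit 39761685)))) (BT.node (nat_lit 11054976) (BT.node (nat_lit 11054912) (BT.leaf (nat_lit 40347153)) (BT.leaf (nat_lit 49294869))) (BT.node (nat_lit 11055104) (BT.leaf (nat_lit 44762909)) (BT.leaf (nat_lit 38237729)))))) (BT.node (nat_lit 11055680) (BT.node (nat_lit 11055424) (BT.node (nat_lit 11055296) (BT.node (nat_lit 11055232) (BT.leaf (nat_lit 44156421)) (BT.leaf (nat_lit 50509065))) (BT.node (nat_lit 11055360) (BT.leaf (nat_lit 48995849)) (BT.leaf (nat_lit 44015905)))) (BT.node (nat_lit 11055552) (BT.node (nat_lit 11055488) (BT.leaf (nat_lit 43912993)) (BT.leaf (nat_lit 47311365))) (BT.node (nat_lit 11055616) (BT.leaf (nat_lit 31492629)) (BT.leaf (nat_lit 38520853))))) (BT.node (nat_lit 11055936) (BT.node (nat_lit 11055808) (BT.node (nat_lit 11055744) (BT.leaf (nat_lit 44223005)) (BT.leaf (nat_lit 39659277))) (BT.node (nat_lit 11055872) (BT.leaf (nat_lit 39659281)) (BT.leaf (nat_lit 39659285)))) (BT.node (nat_lit 11056064) (BT.node (nat_lit 11056000) (BT.leaf (nat_lit 41411105)) (BT.leaf (nat_lit 43367713))) (BT.node (nat_lit 11056128) (BT.leaf (nat_lit 38177041)) (BT.leaf (nat_lit 44337429)))))))) (BT.node (nat_lit 11058496) (BT.node (nat_lit 11057408) (BT.node (nat_lit 11056704) (BT.node (nat_lit 11056448) (BT.node (nat_lit 11056320) (BT.node (nat_lit 11056256) (BT.leaf (nat_lit 43803397)) (BT.leaf (nat_lit 31163653))) (BT.node (nat_lit 11056384) (BT.leaf (nat_lit 45824269)) (BT.leaf (nat_lit 38273029)))) (BT.node (nat_lit 11056576) (BT.node (nat_lit 11056512) (BT.leaf (nat_lit 32806917)) (BT.leaf (nat_lit 32816417))) (BT.node (nat_lit 11056640) (BT.leaf (nat_lit 46056737)) (BT.leaf (nat_lit 43554053))))) (BT.node (nat_lit 11056960) (BT.node (nat_lit 11056832) (BT.node (nat_lit 11056768) (BT.leaf (nat_lit 32874249)) (BT.leaf (nat_lit 38053385))) (BT.node (nat_lit 11056896) (BT.leaf (nat_lit 38053389)) (BT.leaf (nat_lit 31495445)))) (BT.node (nat_lit 11057152) (BT.node (nat_lit 11057024) (BT.leaf (nat_lit 48407813)) (BT.leaf (nat_lit 30995461))) (BT.node (nat_lit 11057216) (BT.leaf (nat_lit 48408837)) (BT.leaf (nat_lit 38280709)))))) (BT.node (nat_lit 11057984) (BT.node (nat_lit 11057728) (BT.node (nat_lit 11057600) (BT.node (nat_lit 11057536) (BT.leaf (nat_lit 45063941)) (BT.leaf (nat_lit 31495953))) (BT.node (nat_lit 11057664) (BT.leaf (nat_lit 45064993)) (BT.leaf (nat_lit 38278149)))) (BT.node (nat_lit 11057856) (BT.node (nat_lit 11057792) (BT.leaf (nat_lit 47668489)) (BT.leaf (nat_lit 38278689))) (BT.node (nat_lit 11057920) (BT.leaf (nat_lit 32817953)) (BT.leaf (nat_lit 32818181))))) (BT.node (nat_lit 11058240) (BT.node (nat_lit 11058112) (BT.node (nat_lit 11058048) (BT.leaf (nat_lit 44573957)) (BT.leaf (nat_lit 31496209))) (BT.node (nat_lit 11058176) (BT.leaf (nat_lit 39811865)) (BT.leaf (nat_lit 39811869)))) (BT.node (nat_lit 11058368) (BT.node (nat_lit 11058304) (BT.leaf (nat_lit 43072773)) (BT.leaf (nat_lit 45827613))) (BT.node (nat_lit 11058432) (BT.leaf (nat_lit 39939853)) (BT.leaf (nat_lit 29208853))))))) (BT.node (nat_lit 11059776) (BT.node (nat_lit 11059136) (BT.node (nat_lit 11058752) (BT.node (nat_lit 11058624) (BT.node (nat_lit 11058560) (BT.leaf (nat_lit 31498257)) (BT.leaf (nat_lit 31497745))) (BT.node (nat_lit 11058688) (BT.leaf (nat_lit 39939865)) (BT.leaf (nat_lit 39939869)))) (BT.node (nat_lit 11058944) (BT.node (nat_lit 11058816) (BT.leaf (nat_lit 43432465)) (BT.leaf (nat_lit 31498521))) (BT.node (nat_lit 11059072) (BT.leaf (nat_lit 46289165)) (BT.leaf (nat_lit 41911825))))) (BT.node (nat_lit 11059392) (BT.node (nat_lit 11059264) (BT.node (nat_lit 11059200) (BT.leaf (nat_lit 49782045)) (BT.leaf (nat_lit 43871237))) (BT.node (nat_lit 11059328) (BT.leaf (nat_lit 31499021)) (BT.leaf (nat_lit 31499277)))) (BT.node (nat_lit 11059520) (BT.node (nat_lit 11059456) (BT.leaf (nat_lit 44237853)) (BT.leaf (nat_lit 44038177))) (BT.node (nat_lit 11059712) (BT.leaf (nat_lit 32672533)) (BT.leaf (nat_lit 34632209)))))) (BT.node (nat_lit 11060416) (BT.node (nat_lit 11060160) (BT.node (nat_lit 11059904) (BT.node (nat_lit 11059840) (BT.leaf (nat_lit 33011721)) (BT.leaf (nat_lit 36126481))) (BT.node (nat_lit 11060032) (BT.leaf (nat_lit 42315781)) (BT.leaf (nat_lit 31503133)))) (BT.node (nat_lit 11060288) (BT.node (nat_lit 11060224) (BT.leaf (nat_lit 40774165)) (BT.leaf (nat_lit 39264789))) (BT.node (nat_lit 11060352) (BT.leaf (nat_lit 49135365)) (BT.leaf (nat_lit 38346785))))) (BT.node (nat_lit 11060672) (BT.node (nat_lit 11060544) (BT.node (nat_lit 11060480) (BT.leaf (nat_lit 38347041)) (BT.leaf (nat_lit 48277793))) (BT.node (nat_lit 11060608) (BT.leaf (nat_lit 44241945)) (BT.leaf (nat_lit 27901193)))) (BT.node (nat_lit 11060800) (BT.node (nat_lit 11060736) (BT.leaf (nat_lit 33889545)) (BT.leaf (nat_lit 31505685))) (BT.node (nat_lit 11060864) (BT.leaf (nat_lit 48748053)) (BT.leaf (nat_lit 41866005))))))))) (BT.node (nat_lit 11065344) (BT.node (nat_lit 11063104) (BT.node (nat_lit 11061888) (BT.node (nat_lit 11061312) (BT.node (nat_lit 11061123) (BT.node (nat_lit 11061056) (BT.node (nat_lit 11060992) (BT.leaf (nat_lit 33666849)) (BT.leaf (nat_lit 44243469))) (BT.node (nat_lit 11061120) (BT.leaf (nat_lit 44244509)) (BT.leaf (nat_lit 49154325)))) (BT.node (nat_lit 11061184) (BT.node (nat_lit 11061124) (BT.leaf (nat_lit 767724)) (BT.leaf (nat_lit 767724))) (BT.node (nat_lit 11061248) (BT.leaf (nat_lit 39271685)) (BT.leaf (nat_lit 43778593))))) (BT.node (nat_lit 11061632) (BT.node (nat_lit 11061504) (BT.node (nat_lit 11061376) (BT.leaf (nat_lit 43778337)) (BT.leaf (nat_lit 31518473))) (BT.node (nat_lit 11061568) (BT.leaf (nat_lit 31525385)) (BT.leaf (nat_lit 32582425)))) (BT.node (nat_lit 11061760) (BT.node (nat_lit 11061696) (BT.leaf (nat_lit 32582429)) (BT.leaf (nat_lit 44247069))) (BT.node (nat_lit 11061824) (BT.leaf (nat_lit 49113865)) (BT.leaf (nat_lit 31514129)))))) (BT.node (nat_lit 11062400) (BT.node (nat_lit 11062144) (BT.node (nat_lit 11062080) (BT.node (nat_lit 11062016) (BT.leaf (nat_lit 39499809)) (BT.leaf (nat_lit 31584785))) (BT.node (nat_lit 11062088) (BT.leaf (nat_lit 50811921)) (BT.leaf (nat_lit 764284)))) (BT.node (nat_lit 11062272) (BT.node (nat_lit 11062208) (BT.leaf (nat_lit 38369029)) (BT.leaf (nat_lit 31519241))) (BT.node (nat_lit 11062336) (BT.leaf (nat_lit 31518737)) (BT.leaf (nat_lit 43281697))))) (BT.node (nat_lit 11062784) (BT.node (nat_lit 11062592) (BT.node (nat_lit 11062528) (BT.leaf (nat_lit 44249885)) (BT.leaf (nat_lit 42777865))) (BT.node (nat_lit 11062656) (BT.leaf (nat_lit 32969477)) (BT.leaf (nat_lit 32969493)))) (BT.node (nat_lit 11062976) (BT.node (nat_lit 11062848) (BT.leaf (nat_lit 44102149)) (BT.leaf (nat_lit 44251661))) (BT.node (nat_lit 11063040) (BT.leaf (nat_lit 32652309)) (BT.leaf (nat_lit 40643605))))))) (BT.node (nat_lit 11064192) (BT.node (nat_lit 11063680) (BT.node (nat_lit 11063424) (BT.node (nat_lit 11063296) (BT.node (nat_lit 11063232) (BT.leaf (nat_lit 38398489)) (BT.leaf (nat_lit 48757517))) (BT.node (nat_lit 11063360) (BT.leaf (nat_lit 32652317)) (BT.leaf (nat_lit 40318753)))) (BT.node (nat_lit 11063552) (BT.node (nat_lit 11063488) (BT.leaf (nat_lit 38511117)) (BT.leaf (nat_lit 49010197))) (BT.node (nat_lit 11063616) (BT.leaf (nat_lit 31915025)) (BT.leaf (nat_lit 34838545))))) (BT.node (nat_lit 11063936) (BT.node (nat_lit 11063808) (BT.node (nat_lit 11063744) (BT.leaf (nat_lit 38405893)) (BT.leaf (nat_lit 35376409))) (BT.node (nat_lit 11063872) (BT.leaf (nat_lit 43687953)) (BT.leaf (nat_lit 31520533)))) (BT.node (nat_lit 11064064) (BT.node (nat_lit 11064000) (BT.leaf (nat_lit 36079637)) (BT.leaf (nat_lit 48915745))) (BT.node (nat_lit 11064128) (BT.leaf (nat_lit 31519749)) (BT.leaf (nat_lit 39390997)))))) (BT.node (nat_lit 11064768) (BT.node (nat_lit 11064448) (BT.node (nat_lit 11064320) (BT.node (nat_lit 11064256) (BT.leaf (nat_lit 28386833)) (BT.leaf (nat_lit 40116741))) (BT.node (nat_lit 11064384) (BT.leaf (nat_lit 40141337)) (BT.leaf (nat_lit 40141341)))) (BT.node (nat_lit 11064640) (BT.node (nat_lit 11064576) (BT.leaf (nat_lit 32701469)) (BT.leaf (nat_lit 49760029))) (BT.node (nat_lit 11064704) (BT.leaf (nat_lit 43389205)) (BT.leaf (nat_lit 43389209))))) (BT.node (nat_lit 11065088) (BT.node (nat_lit 11064896) (BT.node (nat_lit 11064832) (BT.leaf (nat_lit 43389213)) (BT.leaf (nat_lit 31514641))) (BT.node (nat_lit 11064960) (BT.leaf (nat_lit 31521541)) (BT.leaf (nat_lit 31514393)))) (BT.node (nat_lit 11065216) (BT.node (nat_lit 11065152) (BT.leaf (nat_lit 43317269)) (BT.leaf (nat_lit 38763789))) (BT.node (nat_lit 11065280) (BT.leaf (nat_lit 40309765)) (BT.leaf (nat_lit 42595609)))))))) (BT.node (nat_lit 11067264) (BT.node (nat_lit 11066240) (BT.node (nat_lit 11065794) (BT.node (nat_lit 11065600) (BT.node (nat_lit 11065472) (BT.node (nat_lit 11065408) (BT.leaf (nat_lit 42595613)) (BT.leaf (nat_lit 44150789))) (BT.node (nat_lit 11065536) (BT.leaf (nat_lit 48696601)) (BT.leaf (nat_lit 48696605)))) (BT.node (nat_lit 11065728) (BT.node (nat_lit 11065664) (BT.leaf (nat_lit 38418441)) (BT.leaf (nat_lit 38418445))) (BT.node (nat_lit 11065792) (BT.leaf (nat_lit 31524885)) (BT.leaf (nat_lit 45476101))))) (BT.node (nat_lit 11065924) (BT.node (nat_lit 11065856) (BT.node (nat_lit 11065800) (BT.leaf (nat_lit 711208)) (BT.leaf (nat_lit 711208))) (BT.node (nat_lit 11065920) (BT.leaf (nat_lit 45517337)) (BT.leaf (nat_lit 38082565)))) (BT.node (nat_lit 11066112) (BT.node (nat_lit 11066048) (BT.leaf (nat_lit 723476)) (BT.leaf (nat_lit 38763793))) (BT.node (nat_lit 11066176) (BT.leaf (nat_lit 38763797)) (BT.leaf (nat_lit 28879637)))))) (BT.node (nat_lit 11066752) (BT.node (nat_lit 11066496) (BT.node (nat_lit 11066368) (BT.node (nat_lit 11066304) (BT.leaf (nat_lit 41284633)) (BT.leaf (nat_lit 41284637))) (BT.node (nat_lit 11066432) (BT.leaf (nat_lit 31445009)) (BT.leaf (nat_lit 38995205)))) (BT.node (nat_lit 11066624) (BT.node (nat_lit 11066560) (BT.leaf (nat_lit 31529745)) (BT.leaf (nat_lit 31529489))) (BT.node (nat_lit 11066688) (BT.leaf (nat_lit 47536921)) (BT.leaf (nat_lit 47536925))))) (BT.node (nat_lit 11067008) (BT.node (nat_lit 11066880) (BT.node (nat_lit 11066816) (BT.leaf (nat_lit 38052873)) (BT.leaf (nat_lit 38052877))) (BT.node (nat_lit 11066944) (BT.leaf (nat_lit 38052889)) (BT.leaf (nat_lit 38052893)))) (BT.node (nat_lit 11067136) (BT.node (nat_lit 11067072) (BT.leaf (nat_lit 44774421)) (BT.leaf (nat_lit 44774425))) (BT.node (nat_lit 11067200) (BT.leaf (nat_lit 42247969)) (BT.leaf (nat_lit 44279821))))))) (BT.node (nat_lit 11068288) (BT.node (nat_lit 11067776) (BT.node (nat_lit 11067520) (BT.node (nat_lit 11067392) (BT.node (nat_lit 11067328) (BT.leaf (nat_lit 31897373)) (BT.leaf (nat_lit 49946897))) (BT.node (nat_lit 11067456) (BT.leaf (nat_lit 51263257)) (BT.leaf (nat_lit 31541517)))) (BT.node (nat_lit 11067648) (BT.node (nat_lit 11067584) (BT.leaf (nat_lit 47010589)) (BT.leaf (nat_lit 44271885))) (BT.node (nat_lit 11067712) (BT.leaf (nat_lit 28613909)) (BT.leaf (nat_lit 31542025))))) (BT.node (nat_lit 11068032) (BT.node (nat_lit 11067904) (BT.node (nat_lit 11067840) (BT.leaf (nat_lit 51262229)) (BT.leaf (nat_lit 31541513))) (BT.node (nat_lit 11067968) (BT.leaf (nat_lit 48769305)) (BT.leaf (nat_lit 34651925)))) (BT.node (nat_lit 11068160) (BT.node (nat_lit 11068096) (BT.leaf (nat_lit 44271897)) (BT.leaf (nat_lit 31542029))) (BT.node (nat_lit 11068224) (BT.leaf (nat_lit 36121373)) (BT.leaf (nat_lit 45847313)))))) (BT.node (nat_lit 11068744) (BT.node (nat_lit 11068544) (BT.node (nat_lit 11068416) (BT.node (nat_lit 11068352) (BT.leaf (nat_lit 48769289)) (BT.leaf (nat_lit 31542041))) (BT.node (nat_lit 11068480) (BT.leaf (nat_lit 52427549)) (BT.leaf (nat_lit 47010585)))) (BT.node (nat_lit 11068672) (BT.node (nat_lit 11068608) (BT.leaf (nat_lit 32961305)) (BT.leaf (nat_lit 42802701))) (BT.node (nat_lit 11068736) (BT.leaf (nat_lit 44274973)) (BT.leaf (nat_lit 47010573))))) (BT.node (nat_lit 11068992) (BT.node (nat_lit 11068864) (BT.node (nat_lit 11068800) (BT.leaf (nat_lit 777392)) (BT.leaf (nat_lit 32981537))) (BT.node (nat_lit 11068928) (BT.leaf (nat_lit 31543313)) (BT.leaf (nat_lit 44269325)))) (BT.node (nat_lit 11069120) (BT.node (nat_lit 11069056) (BT.leaf (nat_lit 31542801)) (BT.leaf (nat_lit 31179281))) (BT.node (nat_lit 11069184) (BT.leaf (nat_lit 38717701)) (BT.leaf (nat_lit 45019161)))))))))))) (BT.node (nat_lit 11101952) (BT.node (nat_lit 11085824) (BT.node (nat_lit 11077760) (BT.node (nat_lit 11073600) (BT.node (nat_lit 11071680) (BT.node (nat_lit 11070400) (BT.node (nat_lit 11069760) (BT.node (nat_lit 11069440) (BT.node (nat_lit 11069320) (BT.node (nat_lit 11069312) (BT.leaf (nat_lit 31545105)) (BT.leaf (nat_lit 45260045))) (BT.node (nat_lit 11069376) (BT.leaf (nat_lit 707184)) (BT.leaf (nat_lit 31543057)))) (BT.node (nat_lit 11069568) (BT.node (nat_lit 11069504) (BT.leaf (nat_lit 31544337)) (BT.leaf (nat_lit 39987481))) (BT.node (nat_lit 11069632) (BT.leaf (nat_lit 39987485)) (BT.leaf (nat_lit 31545361))))) (BT.node (nat_lit 11070016) (BT.node (nat_lit 11069888) (BT.node (nat_lit 11069824) (BT.leaf (nat_lit 49106461)) (BT.leaf (nat_lit 39798029))) (BT.node (nat_lit 11069952) (BT.leaf (nat_lit 31546129)) (BT.leaf (nat_lit 31549465)))) (BT.node (nat_lit 11070208) (BT.node (nat_lit 11070144) (BT.leaf (nat_lit 31549201)) (BT.leaf (nat_lit 39800345))) (BT.node (nat_lit 11070336) (BT.leaf (nat_lit 31404313)) (BT.leaf (nat_lit 41957653)))))) (BT.node (nat_lit 11070976) (BT.node (nat_lit 11070656) (BT.node (nat_lit 11070528) (BT.node (nat_lit 11070464) (BT.leaf (nat_lit 31549725)) (BT.leaf (nat_lit 44090373))) (BT.node (nat_lit 11070592) (BT.leaf (nat_lit 31549721)) (BT.leaf (nat_lit 31550225)))) (BT.node (nat_lit 11070848) (BT.node (nat_lit 11070784) (BT.leaf (nat_lit 31549969)) (BT.leaf (nat_lit 31549985))) (BT.node (nat_lit 11070912) (BT.leaf (nat_lit 31550241)) (BT.leaf (nat_lit 31550753))))) (BT.node (nat_lit 11071360) (BT.node (nat_lit 11071104) (BT.node (nat_lit 11071040) (BT.leaf (nat_lit 31550497)) (BT.leaf (nat_lit 40162077))) (BT.node (nat_lit 11071168) (BT.leaf (nat_lit 40947985)) (BT.leaf (nat_lit 40162057)))) (BT.node (nat_lit 11071552) (BT.node (nat_lit 11071488) (BT.leaf (nat_lit 42321173)) (BT.leaf (nat_lit 35067417))) (BT.node (nat_lit 11071616) (BT.leaf (nat_lit 46872597)) (BT.leaf (nat_lit 31551761))))))) (BT.node (nat_lit 11072576) (BT.node (nat_lit 11072256) (BT.node (nat_lit 11071936) (BT.node (nat_lit 11071808) (BT.node (nat_lit 11071744) (BT.leaf (nat_lit 31552273)) (BT.leaf (nat_lit 45443849))) (BT.node (nat_lit 11071872) (BT.leaf (nat_lit 37123865)) (BT.leaf (nat_lit 52148229)))) (BT.node (nat_lit 11072064) (BT.node (nat_lit 11072000) (BT.leaf (nat_lit 41249041)) (BT.leaf (nat_lit 31552797))) (BT.node (nat_lit 11072192) (BT.leaf (nat_lit 31552541)) (BT.leaf (nat_lit 31552793))))) (BT.node (nat_lit 11072325) (BT.node (nat_lit 11072320) (BT.node (nat_lit 11072258) (BT.leaf (nat_lit 32492309)) (BT.leaf (nat_lit 772216))) (BT.node (nat_lit 11072322) (BT.leaf (nat_lit 44289049)) (BT.leaf (nat_lit 709468)))) (BT.node (nat_lit 11072448) (BT.node (nat_lit 11072384) (BT.leaf (nat_lit 709468)) (BT.leaf (nat_lit 49560581))) (BT.node (nat_lit 11072512) (BT.leaf (nat_lit 38525985)) (BT.leaf (nat_lit 45019425)))))) (BT.node (nat_lit 11073088) (BT.node (nat_lit 11072832) (BT.node (nat_lit 11072704) (BT.node (nat_lit 11072640) (BT.leaf (nat_lit 44506633)) (BT.leaf (nat_lit 45425945))) (BT.node (nat_lit 11072768) (BT.leaf (nat_lit 42849805)) (BT.leaf (nat_lit 40830477)))) (BT.node (nat_lit 11072960) (BT.node (nat_lit 11072896) (BT.leaf (nat_lit 40910853)) (BT.leaf (nat_lit 44291353))) (BT.node (nat_lit 11073024) (BT.leaf (nat_lit 31878689)) (BT.leaf (nat_lit 40833801))))) (BT.node (nat_lit 11073344) (BT.node (nat_lit 11073216) (BT.node (nat_lit 11073152) (BT.leaf (nat_lit 40712725)) (BT.leaf (nat_lit 29699605))) (BT.node (nat_lit 11073280) (BT.leaf (nat_lit 44740385)) (BT.leaf (nat_lit 47810061)))) (BT.node (nat_lit 11073472) (BT.node (nat_lit 11073408) (BT.leaf (nat_lit 47286805)) (BT.leaf (nat_lit 44293401))) (BT.node (nat_lit 11073536) (BT.leaf (nat_lit 40254213)) (BT.leaf (nat_lit 46189329)))))))) (BT.node (nat_lit 11075904) (BT.node (nat_lit 11074752) (BT.node (nat_lit 11074112) (BT.node (nat_lit 11073856) (BT.node (nat_lit 11073728) (BT.node (nat_lit 11073664) (BT.leaf (nat_lit 48916505)) (BT.leaf (nat_lit 44378633))) (BT.node (nat_lit 11073792) (BT.leaf (nat_lit 47729669)) (BT.leaf (nat_lit 51539989)))) (BT.node (nat_lit 11073984) (BT.node (nat_lit 11073920) (BT.leaf (nat_lit 42834969)) (BT.leaf (nat_lit 42015749))) (BT.node (nat_lit 11074048) (BT.leaf (nat_lit 45488901)) (BT.leaf (nat_lit 34741789))))) (BT.node (nat_lit 11074432) (BT.node (nat_lit 11074240) (BT.node (nat_lit 11074176) (BT.leaf (nat_lit 31696921)) (BT.leaf (nat_lit 31696925))) (BT.node (nat_lit 11074304) (BT.leaf (nat_lit 44297245)) (BT.leaf (nat_lit 50886165)))) (BT.node (nat_lit 11074560) (BT.node (nat_lit 11074496) (BT.leaf (nat_lit 47122977)) (BT.leaf (nat_lit 48002081))) (BT.node (nat_lit 11074688) (BT.leaf (nat_lit 45028361)) (BT.leaf (nat_lit 39465229)))))) (BT.node (nat_lit 11075328) (BT.node (nat_lit 11075008) (BT.node (nat_lit 11074880) (BT.node (nat_lit 11074816) (BT.leaf (nat_lit 44123681)) (BT.leaf (nat_lit 39463437))) (BT.node (nat_lit 11074944) (BT.leaf (nat_lit 42622725)) (BT.leaf (nat_lit 42157085)))) (BT.node (nat_lit 11075136) (BT.node (nat_lit 11075072) (BT.leaf (nat_lit 44435993)) (BT.leaf (nat_lit 44444697))) (BT.node (nat_lit 11075200) (BT.leaf (nat_lit 34662165)) (BT.leaf (nat_lit 44444681))))) (BT.node (nat_lit 11075648) (BT.node (nat_lit 11075520) (BT.node (nat_lit 11075392) (BT.leaf (nat_lit 44435721)) (BT.leaf (nat_lit 41953541))) (BT.node (nat_lit 11075584) (BT.leaf (nat_lit 44432905)) (BT.leaf (nat_lit 31972361)))) (BT.node (nat_lit 11075776) (BT.node (nat_lit 11075712) (BT.leaf (nat_lit 32315401)) (BT.leaf (nat_lit 31949593))) (BT.node (nat_lit 11075840) (BT.leaf (nat_lit 41707285)) (BT.leaf (nat_lit 44418569))))))) (BT.node (nat_lit 11076928) (BT.node (nat_lit 11076352) (BT.node (nat_lit 11076160) (BT.node (nat_lit 11076032) (BT.node (nat_lit 11075968) (BT.leaf (nat_lit 45224197)) (BT.leaf (nat_lit 36171541))) (BT.node (nat_lit 11076096) (BT.leaf (nat_lit 38217753)) (BT.leaf (nat_lit 38221329)))) (BT.node (nat_lit 11076225) (BT.node (nat_lit 11076224) (BT.leaf (nat_lit 44850189)) (BT.leaf (nat_lit 41707289))) (BT.node (nat_lit 11076288) (BT.leaf (nat_lit 717008)) (BT.leaf (nat_lit 41707293))))) (BT.node (nat_lit 11076608) (BT.node (nat_lit 11076480) (BT.node (nat_lit 11076416) (BT.leaf (nat_lit 30052881)) (BT.leaf (nat_lit 42267909))) (BT.node (nat_lit 11076544) (BT.leaf (nat_lit 39306505)) (BT.leaf (nat_lit 31969545)))) (BT.node (nat_lit 11076800) (BT.node (nat_lit 11076672) (BT.leaf (nat_lit 42204165)) (BT.leaf (nat_lit 44306973))) (BT.node (nat_lit 11076864) (BT.leaf (nat_lit 31564817)) (BT.leaf (nat_lit 41926169)))))) (BT.node (nat_lit 11077440) (BT.node (nat_lit 11077184) (BT.node (nat_lit 11077056) (BT.node (nat_lit 11076992) (BT.leaf (nat_lit 41926173)) (BT.leaf (nat_lit 48823569))) (BT.node (nat_lit 11077120) (BT.leaf (nat_lit 46308361)) (BT.leaf (nat_lit 44308765)))) (BT.node (nat_lit 11077312) (BT.node (nat_lit 11077248) (BT.leaf (nat_lit 32355093)) (BT.leaf (nat_lit 31569681))) (BT.node (nat_lit 11077376) (BT.leaf (nat_lit 43983137)) (BT.leaf (nat_lit 33408529))))) (BT.node (nat_lit 11077568) (BT.node (nat_lit 11077504) (BT.node (nat_lit 11077448) (BT.leaf (nat_lit 42996249)) (BT.leaf (nat_lit 775900))) (BT.node (nat_lit 11077509) (BT.leaf (nat_lit 50090517)) (BT.leaf (nat_lit 775904)))) (BT.node (nat_lit 11077640) (BT.node (nat_lit 11077632) (BT.leaf (nat_lit 44955913)) (BT.leaf (nat_lit 43923725))) (BT.node (nat_lit 11077696) (BT.leaf (nat_lit 699628)) (BT.leaf (nat_lit 39344909))))))))) (BT.node (nat_lit 11081792) (BT.node (nat_lit 11079680) (BT.node (nat_lit 11078784) (BT.node (nat_lit 11078272) (BT.node (nat_lit 11078016) (BT.node (nat_lit 11077888) (BT.node (nat_lit 11077824) (BT.leaf (nat_lit 44310809)) (BT.leaf (nat_lit 32874765))) (BT.node (nat_lit 11077952) (BT.leaf (nat_lit 41984521)) (BT.leaf (nat_lit 32371205)))) (BT.node (nat_lit 11078144) (BT.node (nat_lit 11078080) (BT.leaf (nat_lit 47822625)) (BT.leaf (nat_lit 44312605))) (BT.node (nat_lit 11078208) (BT.leaf (nat_lit 43273493)) (BT.leaf (nat_lit 34734621))))) (BT.node (nat_lit 11078528) (BT.node (nat_lit 11078400) (BT.node (nat_lit 11078336) (BT.leaf (nat_lit 50753549)) (BT.leaf (nat_lit 44503317))) (BT.node (nat_lit 11078464) (BT.leaf (nat_lit 45413409)) (BT.leaf (nat_lit 38474013)))) (BT.node (nat_lit 11078656) (BT.node (nat_lit 11078592) (BT.leaf (nat_lit 42843653)) (BT.leaf (nat_lit 44349197))) (BT.node (nat_lit 11078720) (BT.leaf (nat_lit 42596897)) (BT.leaf (nat_lit 31575061)))))) (BT.node (nat_lit 11079168) (BT.node (nat_lit 11079040) (BT.node (nat_lit 11078912) (BT.node (nat_lit 11078848) (BT.leaf (nat_lit 31993609)) (BT.leaf (nat_lit 44583437))) (BT.node (nat_lit 11078976) (BT.leaf (nat_lit 38227729)) (BT.leaf (nat_lit 44909581)))) (BT.node (nat_lit 11079106) (BT.node (nat_lit 11079104) (BT.leaf (nat_lit 39170081)) (BT.leaf (nat_lit 42311701))) (BT.node (nat_lit 11079107) (BT.leaf (nat_lit 720112)) (BT.leaf (nat_lit 720112))))) (BT.node (nat_lit 11079424) (BT.node (nat_lit 11079296) (BT.node (nat_lit 11079232) (BT.leaf (nat_lit 48502557)) (BT.leaf (nat_lit 31689237))) (BT.node (nat_lit 11079360) (BT.leaf (nat_lit 44491801)) (BT.leaf (nat_lit 48912149)))) (BT.node (nat_lit 11079552) (BT.node (nat_lit 11079488) (BT.leaf (nat_lit 44317981)) (BT.leaf (nat_lit 44491785))) (BT.node (nat_lit 11079616) (BT.leaf (nat_lit 42311957)) (BT.leaf (nat_lit 45509381))))))) (BT.node (nat_lit 11080640) (BT.node (nat_lit 11080128) (BT.node (nat_lit 11079936) (BT.node (nat_lit 11079808) (BT.node (nat_lit 11079744) (BT.leaf (nat_lit 31576337)) (BT.leaf (nat_lit 32627461))) (BT.node (nat_lit 11079872) (BT.leaf (nat_lit 50001941)) (BT.leaf (nat_lit 32627477)))) (BT.node (nat_lit 11080008) (BT.node (nat_lit 11080000) (BT.leaf (nat_lit 36349957)) (BT.leaf (nat_lit 50340373))) (BT.node (nat_lit 11080064) (BT.leaf (nat_lit 807464)) (BT.leaf (nat_lit 39192341))))) (BT.node (nat_lit 11080448) (BT.node (nat_lit 11080256) (BT.node (nat_lit 11080192) (BT.leaf (nat_lit 39192345)) (BT.leaf (nat_lit 39192349))) (BT.node (nat_lit 11080384) (BT.leaf (nat_lit 31577361)) (BT.leaf (nat_lit 52068881)))) (BT.node (nat_lit 11080512) (BT.node (nat_lit 11080456) (BT.leaf (nat_lit 46876429)) (BT.leaf (nat_lit 773684))) (BT.node (nat_lit 11080576) (BT.leaf (nat_lit 39120905)) (BT.leaf (nat_lit 38517773)))))) (BT.node (nat_lit 11081280) (BT.node (nat_lit 11080896) (BT.node (nat_lit 11080768) (BT.node (nat_lit 11080704) (BT.leaf (nat_lit 45163545)) (BT.leaf (nat_lit 38174737))) (BT.node (nat_lit 11080832) (BT.leaf (nat_lit 48906253)) (BT.leaf (nat_lit 43578373)))) (BT.node (nat_lit 11081088) (BT.node (nat_lit 11080960) (BT.leaf (nat_lit 28674833)) (BT.leaf (nat_lit 32032009))) (BT.node (nat_lit 11081152) (BT.leaf (nat_lit 44168713)) (BT.leaf (nat_lit 44143905))))) (BT.node (nat_lit 11081536) (BT.node (nat_lit 11081408) (BT.node (nat_lit 11081344) (BT.leaf (nat_lit 41701901)) (BT.leaf (nat_lit 32116493))) (BT.node (nat_lit 11081472) (BT.leaf (nat_lit 49173533)) (BT.leaf (nat_lit 39630853)))) (BT.node (nat_lit 11081664) (BT.node (nat_lit 11081600) (BT.leaf (nat_lit 32117021)) (BT.leaf (nat_lit 39077653))) (BT.node (nat_lit 11081728) (BT.leaf (nat_lit 40670989)) (BT.leaf (nat_lit 49172233)))))))) (BT.node (nat_lit 11083840) (BT.node (nat_lit 11082816) (BT.node (nat_lit 11082240) (BT.node (nat_lit 11082048) (BT.node (nat_lit 11081920) (BT.node (nat_lit 11081856) (BT.leaf (nat_lit 44624157)) (BT.leaf (nat_lit 48925469))) (BT.node (nat_lit 11081984) (BT.leaf (nat_lit 34668309)) (BT.leaf (nat_lit 44624141)))) (BT.node (nat_lit 11082116) (BT.node (nat_lit 11082112) (BT.leaf (nat_lit 44622613)) (BT.leaf (nat_lit 32719125))) (BT.node (nat_lit 11082176) (BT.leaf (nat_lit 774904)) (BT.leaf (nat_lit 32861969))))) (BT.node (nat_lit 11082496) (BT.node (nat_lit 11082368) (BT.node (nat_lit 11082304) (BT.leaf (nat_lit 44631837)) (BT.leaf (nat_lit 45364757))) (BT.node (nat_lit 11082432) (BT.leaf (nat_lit 31775253)) (BT.leaf (nat_lit 44631821)))) (BT.node (nat_lit 11082688) (BT.node (nat_lit 11082560) (BT.leaf (nat_lit 44632597)) (BT.leaf (nat_lit 33000737))) (BT.node (nat_lit 11082752) (BT.leaf (nat_lit 39838733)) (BT.leaf (nat_lit 39637025)))))) (BT.node (nat_lit 11083264) (BT.node (nat_lit 11083072) (BT.node (nat_lit 11082944) (BT.node (nat_lit 11082880) (BT.leaf (nat_lit 38364185)) (BT.leaf (nat_lit 48906761))) (BT.node (nat_lit 11083008) (BT.leaf (nat_lit 42202629)) (BT.leaf (nat_lit 38616085)))) (BT.node (nat_lit 11083136) (BT.node (nat_lit 11083077) (BT.leaf (nat_lit 41654021)) (BT.leaf (nat_lit 704680))) (BT.node (nat_lit 11083200) (BT.leaf (nat_lit 43791621)) (BT.leaf (nat_lit 38462481))))) (BT.node (nat_lit 11083584) (BT.node (nat_lit 11083392) (BT.node (nat_lit 11083328) (BT.leaf (nat_lit 40176161)) (BT.leaf (nat_lit 32110093))) (BT.node (nat_lit 11083456) (BT.leaf (nat_lit 44195597)) (BT.leaf (nat_lit 44310305)))) (BT.node (nat_lit 11083712) (BT.node (nat_lit 11083648) (BT.leaf (nat_lit 32285461)) (BT.leaf (nat_lit 38633505))) (BT.node (nat_lit 11083776) (BT.leaf (nat_lit 38994961)) (BT.leaf (nat_lit 31586833))))))) (BT.node (nat_lit 11084928) (BT.node (nat_lit 11084416) (BT.node (nat_lit 11084096) (BT.node (nat_lit 11083968) (BT.node (nat_lit 11083904) (BT.leaf (nat_lit 43496729)) (BT.leaf (nat_lit 46937365))) (BT.node (nat_lit 11084032) (BT.leaf (nat_lit 43793157)) (BT.leaf (nat_lit 37970953)))) (BT.node (nat_lit 11084288) (BT.node (nat_lit 11084224) (BT.leaf (nat_lit 41981453)) (BT.leaf (nat_lit 37959705))) (BT.node (nat_lit 11084352) (BT.leaf (nat_lit 37959709)) (BT.leaf (nat_lit 30951965))))) (BT.node (nat_lit 11084672) (BT.node (nat_lit 11084544) (BT.node (nat_lit 11084480) (BT.leaf (nat_lit 52141593)) (BT.leaf (nat_lit 40589341))) (BT.node (nat_lit 11084608) (BT.leaf (nat_lit 46211361)) (BT.leaf (nat_lit 31588369)))) (BT.node (nat_lit 11084800) (BT.node (nat_lit 11084736) (BT.leaf (nat_lit 39784473)) (BT.leaf (nat_lit 39784477))) (BT.node (nat_lit 11084864) (BT.leaf (nat_lit 44699677)) (BT.leaf (nat_lit 48961821)))))) (BT.node (nat_lit 11085440) (BT.node (nat_lit 11085184) (BT.node (nat_lit 11085056) (BT.node (nat_lit 11084992) (BT.leaf (nat_lit 44084485)) (BT.leaf (nat_lit 48961801))) (BT.node (nat_lit 11085120) (BT.leaf (nat_lit 44339993)) (BT.leaf (nat_lit 39313945)))) (BT.node (nat_lit 11085312) (BT.node (nat_lit 11085248) (BT.leaf (nat_lit 39313949)) (BT.leaf (nat_lit 40740613))) (BT.node (nat_lit 11085376) (BT.leaf (nat_lit 51108885)) (BT.leaf (nat_lit 40740633))))) (BT.node (nat_lit 11085511) (BT.node (nat_lit 11085506) (BT.node (nat_lit 11085504) (BT.leaf (nat_lit 40740637)) (BT.leaf (nat_lit 44672529))) (BT.node (nat_lit 11085510) (BT.leaf (nat_lit 692940)) (BT.leaf (nat_lit 692940)))) (BT.node (nat_lit 11085632) (BT.node (nat_lit 11085568) (BT.leaf (nat_lit 692940)) (BT.leaf (nat_lit 44364309))) (BT.node (nat_lit 11085760) (BT.leaf (nat_lit 31789589)) (BT.leaf (nat_lit 42311189)))))))))) (BT.node (nat_lit 11093697) (BT.node (nat_lit 11089536) (BT.node (nat_lit 11087936) (BT.node (nat_lit 11086976) (BT.node (nat_lit 11086400) (BT.node (nat_lit 11086080) (BT.node (nat_lit 11085952) (BT.node (nat_lit 11085888) (BT.leaf (nat_lit 44647181)) (BT.leaf (nat_lit 44637705))) (BT.node (nat_lit 11086016) (BT.leaf (nat_lit 46214941)) (BT.leaf (nat_lit 38211597)))) (BT.node (nat_lit 11086208) (BT.node (nat_lit 11086144) (BT.leaf (nat_lit 30703117)) (BT.leaf (nat_lit 44645141))) (BT.node (nat_lit 11086272) (BT.leaf (nat_lit 39890193)) (BT.leaf (nat_lit 34673425))))) (BT.node (nat_lit 11086720) (BT.node (nat_lit 11086528) (BT.node (nat_lit 11086464) (BT.leaf (nat_lit 44345369)) (BT.leaf (nat_lit 31596561))) (BT.node (nat_lit 11086592) (BT.leaf (nat_lit 40988193)) (BT.leaf (nat_lit 31596817)))) (BT.node (nat_lit 11086848) (BT.node (nat_lit 11086784) (BT.leaf (nat_lit 32203029)) (BT.leaf (nat_lit 42868257))) (BT.node (nat_lit 11086912) (BT.leaf (nat_lit 45810437)) (BT.leaf (nat_lit 40431137)))))) (BT.node (nat_lit 11087552) (BT.node (nat_lit 11087232) (BT.node (nat_lit 11087104) (BT.node (nat_lit 11087040) (BT.leaf (nat_lit 38977809)) (BT.leaf (nat_lit 40740641))) (BT.node (nat_lit 11087168) (BT.leaf (nat_lit 47186949)) (BT.leaf (nat_lit 39167765)))) (BT.node (nat_lit 11087360) (BT.node (nat_lit 11087296) (BT.leaf (nat_lit 49654561)) (BT.leaf (nat_lit 40959765))) (BT.node (nat_lit 11087488) (BT.leaf (nat_lit 44002829)) (BT.leaf (nat_lit 40834593))))) (BT.node (nat_lit 11087744) (BT.node (nat_lit 11087616) (BT.node (nat_lit 11087556) (BT.leaf (nat_lit 43318045)) (BT.leaf (nat_lit 703588))) (BT.node (nat_lit 11087680) (BT.leaf (nat_lit 43387681)) (BT.leaf (nat_lit 40954129)))) (BT.node (nat_lit 11087808) (BT.node (nat_lit 11087751) (BT.leaf (nat_lit 43831557)) (BT.leaf (nat_lit 721060))) (BT.node (nat_lit 11087872) (BT.leaf (nat_lit 35048469)) (BT.leaf (nat_lit 48015889))))))) (BT.node (nat_lit 11088839) (BT.node (nat_lit 11088448) (BT.node (nat_lit 11088192) (BT.node (nat_lit 11088064) (BT.node (nat_lit 11088000) (BT.leaf (nat_lit 50758161)) (BT.leaf (nat_lit 39545357))) (BT.node (nat_lit 11088128) (BT.leaf (nat_lit 41972513)) (BT.leaf (nat_lit 43341069)))) (BT.node (nat_lit 11088320) (BT.node (nat_lit 11088256) (BT.leaf (nat_lit 31600657)) (BT.leaf (nat_lit 27450373))) (BT.node (nat_lit 11088384) (BT.leaf (nat_lit 39881753)) (BT.leaf (nat_lit 39881757))))) (BT.node (nat_lit 11088704) (BT.node (nat_lit 11088576) (BT.node (nat_lit 11088512) (BT.leaf (nat_lit 42913541)) (BT.leaf (nat_lit 50756637))) (BT.node (nat_lit 11088640) (BT.leaf (nat_lit 48857109)) (BT.leaf (nat_lit 38801433)))) (BT.node (nat_lit 11088832) (BT.node (nat_lit 11088768) (BT.leaf (nat_lit 43285281)) (BT.leaf (nat_lit 31604485))) (BT.node (nat_lit 11088838) (BT.leaf (nat_lit 42524421)) (BT.leaf (nat_lit 713452)))))) (BT.node (nat_lit 11089088) (BT.node (nat_lit 11088904) (BT.node (nat_lit 11088900) (BT.node (nat_lit 11088896) (BT.leaf (nat_lit 713452)) (BT.leaf (nat_lit 39373829))) (BT.node (nat_lit 11088901) (BT.leaf (nat_lit 710488)) (BT.leaf (nat_lit 710488)))) (BT.node (nat_lit 11088961) (BT.node (nat_lit 11088960) (BT.leaf (nat_lit 710488)) (BT.leaf (nat_lit 32420641))) (BT.node (nat_lit 11089024) (BT.leaf (nat_lit 771480)) (BT.leaf (nat_lit 45534489))))) (BT.node (nat_lit 11089280) (BT.node (nat_lit 11089157) (BT.node (nat_lit 11089152) (BT.leaf (nat_lit 46182917)) (BT.leaf (nat_lit 29090841))) (BT.node (nat_lit 11089216) (BT.leaf (nat_lit 738220)) (BT.leaf (nat_lit 44825621)))) (BT.node (nat_lit 11089408) (BT.node (nat_lit 11089344) (BT.leaf (nat_lit 40744729)) (BT.leaf (nat_lit 40744733))) (BT.node (nat_lit 11089472) (BT.leaf (nat_lit 49469197)) (BT.leaf (nat_lit 32570633)))))))) (BT.node (nat_lit 11091648) (BT.node (nat_lit 11090624) (BT.node (nat_lit 11090112) (BT.node (nat_lit 11089792) (BT.node (nat_lit 11089664) (BT.node (nat_lit 11089600) (BT.leaf (nat_lit 32824597)) (BT.leaf (nat_lit 38286877))) (BT.node (nat_lit 11089728) (BT.leaf (nat_lit 38286881)) (BT.leaf (nat_lit 39638805)))) (BT.node (nat_lit 11089984) (BT.node (nat_lit 11089920) (BT.leaf (nat_lit 40638481)) (BT.leaf (nat_lit 42294049))) (BT.node (nat_lit 11090048) (BT.leaf (nat_lit 38600461)) (BT.leaf (nat_lit 40315405))))) (BT.node (nat_lit 11090368) (BT.node (nat_lit 11090240) (BT.node (nat_lit 11090176) (BT.leaf (nat_lit 41783321)) (BT.leaf (nat_lit 43993377))) (BT.node (nat_lit 11090304) (BT.leaf (nat_lit 47258913)) (BT.leaf (nat_lit 40557577)))) (BT.node (nat_lit 11090496) (BT.node (nat_lit 11090432) (BT.leaf (nat_lit 40557581)) (BT.leaf (nat_lit 40557585))) (BT.node (nat_lit 11090560) (BT.leaf (nat_lit 42069253)) (BT.leaf (nat_lit 37782277)))))) (BT.node (nat_lit 11091136) (BT.node (nat_lit 11090880) (BT.node (nat_lit 11090752) (BT.node (nat_lit 11090688) (BT.leaf (nat_lit 31618329)) (BT.leaf (nat_lit 42678789))) (BT.node (nat_lit 11090816) (BT.leaf (nat_lit 37782293)) (BT.leaf (nat_lit 47416837)))) (BT.node (nat_lit 11091008) (BT.node (nat_lit 11090944) (BT.leaf (nat_lit 39044633)) (BT.leaf (nat_lit 39044637))) (BT.node (nat_lit 11091072) (BT.leaf (nat_lit 43895073)) (BT.leaf (nat_lit 32069153))))) (BT.node (nat_lit 11091392) (BT.node (nat_lit 11091264) (BT.node (nat_lit 11091200) (BT.leaf (nat_lit 43895301)) (BT.leaf (nat_lit 34791713))) (BT.node (nat_lit 11091328) (BT.leaf (nat_lit 43895585)) (BT.leaf (nat_lit 41384721)))) (BT.node (nat_lit 11091520) (BT.node (nat_lit 11091456) (BT.leaf (nat_lit 41384985)) (BT.leaf (nat_lit 42918945))) (BT.node (nat_lit 11091584) (BT.leaf (nat_lit 31634193)) (BT.leaf (nat_lit 31634197))))))) (BT.node (nat_lit 11092672) (BT.node (nat_lit 11092160) (BT.node (nat_lit 11091904) (BT.node (nat_lit 11091776) (BT.node (nat_lit 11091712) (BT.leaf (nat_lit 34698513)) (BT.leaf (nat_lit 39270409))) (BT.node (nat_lit 11091840) (BT.leaf (nat_lit 39270665)) (BT.leaf (nat_lit 39266321)))) (BT.node (nat_lit 11092032) (BT.node (nat_lit 11091968) (BT.leaf (nat_lit 28912145)) (BT.leaf (nat_lit 32770841))) (BT.node (nat_lit 11092096) (BT.leaf (nat_lit 32770845)) (BT.leaf (nat_lit 41391881))))) (BT.node (nat_lit 11092416) (BT.node (nat_lit 11092288) (BT.node (nat_lit 11092224) (BT.leaf (nat_lit 41391885)) (BT.leaf (nat_lit 41391897))) (BT.node (nat_lit 11092352) (BT.leaf (nat_lit 41391901)) (BT.leaf (nat_lit 43403297)))) (BT.node (nat_lit 11092544) (BT.node (nat_lit 11092480) (BT.leaf (nat_lit 45201669)) (BT.leaf (nat_lit 41299989))) (BT.node (nat_lit 11092608) (BT.leaf (nat_lit 43979041)) (BT.leaf (nat_lit 43978785)))))) (BT.node (nat_lit 11093184) (BT.node (nat_lit 11092928) (BT.node (nat_lit 11092800) (BT.node (nat_lit 11092736) (BT.leaf (nat_lit 47240197)) (BT.leaf (nat_lit 39269637))) (BT.node (nat_lit 11092864) (BT.leaf (nat_lit 31624717)) (BT.leaf (nat_lit 48825629)))) (BT.node (nat_lit 11093056) (BT.node (nat_lit 11092992) (BT.leaf (nat_lit 42734089)) (BT.leaf (nat_lit 39524369))) (BT.node (nat_lit 11093120) (BT.leaf (nat_lit 38816517)) (BT.leaf (nat_lit 39524385))))) (BT.node (nat_lit 11093440) (BT.node (nat_lit 11093312) (BT.node (nat_lit 11093248) (BT.leaf (nat_lit 42063621)) (BT.leaf (nat_lit 31624709))) (BT.node (nat_lit 11093376) (BT.leaf (nat_lit 31624993)) (BT.leaf (nat_lit 48882717)))) (BT.node (nat_lit 11093568) (BT.node (nat_lit 11093504) (BT.leaf (nat_lit 39446277)) (BT.leaf (nat_lit 42734365))) (BT.node (nat_lit 11093696) (BT.leaf (nat_lit 43419165)) (BT.leaf (nat_lit 42213893))))))))) (BT.node (nat_lit 11097664) (BT.node (nat_lit 11095552) (BT.node (nat_lit 11094528) (BT.node (nat_lit 11094080) (BT.node (nat_lit 11093952) (BT.node (nat_lit 11093824) (BT.node (nat_lit 11093760) (BT.leaf (nat_lit 762336)) (BT.leaf (nat_lit 31627537))) (BT.node (nat_lit 11093888) (BT.leaf (nat_lit 31626769)) (BT.leaf (nat_lit 31626513)))) (BT.node (nat_lit 11093955) (BT.node (nat_lit 11093954) (BT.leaf (nat_lit 44324869)) (BT.leaf (nat_lit 762924))) (BT.node (nat_lit 11094016) (BT.leaf (nat_lit 762924)) (BT.leaf (nat_lit 39463697))))) (BT.node (nat_lit 11094336) (BT.node (nat_lit 11094208) (BT.node (nat_lit 11094144) (BT.leaf (nat_lit 46308357)) (BT.leaf (nat_lit 46308369))) (BT.node (nat_lit 11094272) (BT.leaf (nat_lit 46308633)) (BT.leaf (nat_lit 44702749)))) (BT.node (nat_lit 11094408) (BT.node (nat_lit 11094400) (BT.leaf (nat_lit 48780057)) (BT.leaf (nat_lit 31628309))) (BT.node (nat_lit 11094464) (BT.leaf (nat_lit 762932)) (BT.leaf (nat_lit 45478917)))))) (BT.node (nat_lit 11095040) (BT.node (nat_lit 11094784) (BT.node (nat_lit 11094656) (BT.node (nat_lit 11094592) (BT.leaf (nat_lit 48780045)) (BT.leaf (nat_lit 51599649))) (BT.node (nat_lit 11094720) (BT.leaf (nat_lit 45464597)) (BT.leaf (nat_lit 31981845)))) (BT.node (nat_lit 11094912) (BT.node (nat_lit 11094848) (BT.leaf (nat_lit 43152669)) (BT.leaf (nat_lit 34700565))) (BT.node (nat_lit 11094976) (BT.leaf (nat_lit 44379933)) (BT.leaf (nat_lit 44295949))))) (BT.node (nat_lit 11095296) (BT.node (nat_lit 11095168) (BT.node (nat_lit 11095104) (BT.leaf (nat_lit 43254561)) (BT.leaf (nat_lit 39630357))) (BT.node (nat_lit 11095232) (BT.leaf (nat_lit 33015813)) (BT.leaf (nat_lit 40181777)))) (BT.node (nat_lit 11095424) (BT.node (nat_lit 11095360) (BT.leaf (nat_lit 33015833)) (BT.leaf (nat_lit 33015837))) (BT.node (nat_lit 11095488) (BT.leaf (nat_lit 28028689)) (BT.leaf (nat_lit 41878293))))))) (BT.node (nat_lit 11096640) (BT.node (nat_lit 11096128) (BT.node (nat_lit 11095808) (BT.node (nat_lit 11095680) (BT.node (nat_lit 11095616) (BT.leaf (nat_lit 41878297)) (BT.leaf (nat_lit 47897093))) (BT.node (nat_lit 11095744) (BT.leaf (nat_lit 32626453)) (BT.leaf (nat_lit 52069393)))) (BT.node (nat_lit 11095936) (BT.node (nat_lit 11095872) (BT.leaf (nat_lit 46876425)) (BT.leaf (nat_lit 42368545))) (BT.node (nat_lit 11096000) (BT.leaf (nat_lit 44320013)) (BT.leaf (nat_lit 42381061))))) (BT.node (nat_lit 11096384) (BT.node (nat_lit 11096256) (BT.node (nat_lit 11096192) (BT.leaf (nat_lit 47198745)) (BT.leaf (nat_lit 44384521))) (BT.node (nat_lit 11096320) (BT.leaf (nat_lit 44964117)) (BT.leaf (nat_lit 44385565)))) (BT.node (nat_lit 11096512) (BT.node (nat_lit 11096448) (BT.leaf (nat_lit 47198733)) (BT.leaf (nat_lit 39797793))) (BT.node (nat_lit 11096576) (BT.leaf (nat_lit 40603409)) (BT.leaf (nat_lit 40466201)))))) (BT.node (nat_lit 11097152) (BT.node (nat_lit 11096896) (BT.node (nat_lit 11096768) (BT.node (nat_lit 11096704) (BT.leaf (nat_lit 45454093)) (BT.leaf (nat_lit 44964121))) (BT.node (nat_lit 11096832) (BT.leaf (nat_lit 39602693)) (BT.leaf (nat_lit 33001733)))) (BT.node (nat_lit 11097024) (BT.node (nat_lit 11096960) (BT.leaf (nat_lit 33001749)) (BT.leaf (nat_lit 33001753))) (BT.node (nat_lit 11097088) (BT.leaf (nat_lit 45050133)) (BT.leaf (nat_lit 31989001))))) (BT.node (nat_lit 11097408) (BT.node (nat_lit 11097280) (BT.node (nat_lit 11097216) (BT.leaf (nat_lit 44890389)) (BT.leaf (nat_lit 44890393))) (BT.node (nat_lit 11097344) (BT.leaf (nat_lit 44890889)) (BT.leaf (nat_lit 49382177)))) (BT.node (nat_lit 11097536) (BT.node (nat_lit 11097472) (BT.leaf (nat_lit 39566617)) (BT.leaf (nat_lit 39566621))) (BT.node (nat_lit 11097600) (BT.leaf (nat_lit 48156177)) (BT.leaf (nat_lit 43696145)))))))) (BT.node (nat_lit 11099776) (BT.node (nat_lit 11098752) (BT.node (nat_lit 11098176) (BT.node (nat_lit 11097920) (BT.node (nat_lit 11097792) (BT.node (nat_lit 11097728) (BT.leaf (nat_lit 50477085)) (BT.leaf (nat_lit 41702937))) (BT.node (nat_lit 11097856) (BT.leaf (nat_lit 31420177)) (BT.leaf (nat_lit 38212633)))) (BT.node (nat_lit 11098048) (BT.node (nat_lit 11097984) (BT.leaf (nat_lit 43650569)) (BT.leaf (nat_lit 32920841))) (BT.node (nat_lit 11098112) (BT.leaf (nat_lit 45193221)) (BT.leaf (nat_lit 43158533))))) (BT.node (nat_lit 11098432) (BT.node (nat_lit 11098304) (BT.node (nat_lit 11098240) (BT.leaf (nat_lit 31636241)) (BT.leaf (nat_lit 48003605))) (BT.node (nat_lit 11098368) (BT.leaf (nat_lit 32023821)) (BT.leaf (nat_lit 44393241)))) (BT.node (nat_lit 11098624) (BT.node (nat_lit 11098496) (BT.leaf (nat_lit 39986189)) (BT.leaf (nat_lit 44018965))) (BT.node (nat_lit 11098688) (BT.leaf (nat_lit 32707593)) (BT.leaf (nat_lit 32707597)))))) (BT.node (nat_lit 11099264) (BT.node (nat_lit 11098882) (BT.node (nat_lit 11098821) (BT.node (nat_lit 11098816) (BT.leaf (nat_lit 32707601)) (BT.leaf (nat_lit 45401605))) (BT.node (nat_lit 11098880) (BT.leaf (nat_lit 774780)) (BT.leaf (nat_lit 39614497)))) (BT.node (nat_lit 11099136) (BT.node (nat_lit 11098944) (BT.leaf (nat_lit 716896)) (BT.leaf (nat_lit 42024965))) (BT.node (nat_lit 11099200) (BT.leaf (nat_lit 31688985)) (BT.leaf (nat_lit 49110301))))) (BT.node (nat_lit 11099520) (BT.node (nat_lit 11099392) (BT.node (nat_lit 11099328) (BT.leaf (nat_lit 41297425)) (BT.leaf (nat_lit 46965009))) (BT.node (nat_lit 11099456) (BT.leaf (nat_lit 41297441)) (BT.leaf (nat_lit 50841365)))) (BT.node (nat_lit 11099648) (BT.node (nat_lit 11099584) (BT.leaf (nat_lit 44881677)) (BT.leaf (nat_lit 39691809))) (BT.node (nat_lit 11099712) (BT.leaf (nat_lit 49109773)) (BT.leaf (nat_lit 43898389))))))) (BT.node (nat_lit 11100928) (BT.node (nat_lit 11100416) (BT.node (nat_lit 11100160) (BT.node (nat_lit 11099968) (BT.node (nat_lit 11099904) (BT.leaf (nat_lit 37833505)) (BT.leaf (nat_lit 44399133))) (BT.node (nat_lit 11100032) (BT.leaf (nat_lit 42032389)) (BT.leaf (nat_lit 32022293)))) (BT.node (nat_lit 11100288) (BT.node (nat_lit 11100224) (BT.leaf (nat_lit 42629909)) (BT.leaf (nat_lit 42629913))) (BT.node (nat_lit 11100352) (BT.leaf (nat_lit 42629917)) (BT.leaf (nat_lit 40125713))))) (BT.node (nat_lit 11100672) (BT.node (nat_lit 11100544) (BT.node (nat_lit 11100480) (BT.leaf (nat_lit 43519253)) (BT.leaf (nat_lit 42034977))) (BT.node (nat_lit 11100608) (BT.leaf (nat_lit 42632469)) (BT.leaf (nat_lit 44402701)))) (BT.node (nat_lit 11100800) (BT.node (nat_lit 11100736) (BT.leaf (nat_lit 40417557)) (BT.leaf (nat_lit 31640341))) (BT.node (nat_lit 11100864) (BT.leaf (nat_lit 40632341)) (BT.leaf (nat_lit 38871581)))))) (BT.node (nat_lit 11101504) (BT.node (nat_lit 11101248) (BT.node (nat_lit 11101120) (BT.node (nat_lit 11101056) (BT.leaf (nat_lit 28469009)) (BT.leaf (nat_lit 52234529))) (BT.node (nat_lit 11101184) (BT.leaf (nat_lit 52232977)) (BT.leaf (nat_lit 31642385)))) (BT.node (nat_lit 11101376) (BT.node (nat_lit 11101312) (BT.leaf (nat_lit 37749781)) (BT.leaf (nat_lit 31647509))) (BT.node (nat_lit 11101440) (BT.leaf (nat_lit 49304097)) (BT.leaf (nat_lit 31961865))))) (BT.node (nat_lit 11101696) (BT.node (nat_lit 11101568) (BT.node (nat_lit 11101505) (BT.leaf (nat_lit 43051017)) (BT.leaf (nat_lit 777248))) (BT.node (nat_lit 11101632) (BT.leaf (nat_lit 43051021)) (BT.leaf (nat_lit 34708501)))) (BT.node (nat_lit 11101824) (BT.node (nat_lit 11101760) (BT.leaf (nat_lit 38984473)) (BT.leaf (nat_lit 49481757))) (BT.node (nat_lit 11101888) (BT.leaf (nat_lit 48372757)) (BT.leaf (nat_lit 44258081))))))))))) (BT.node (nat_lit 11118528) (BT.node (nat_lit 11110592) (BT.node (nat_lit 11106432) (BT.node (nat_lit 11104192) (BT.node (nat_lit 11103040) (BT.node (nat_lit 11102464) (BT.node (nat_lit 11102208) (BT.node (nat_lit 11102080) (BT.node (nat_lit 11102016) (BT.leaf (nat_lit 41736197)) (BT.leaf (nat_lit 50985477))) (BT.node (nat_lit 11102144) (BT.leaf (nat_lit 32082965)) (BT.leaf (nat_lit 32082969)))) (BT.node (nat_lit 11102336) (BT.node (nat_lit 11102272) (BT.leaf (nat_lit 44306953)) (BT.leaf (nat_lit 50427681))) (BT.node (nat_lit 11102400) (BT.leaf (nat_lit 39171349)) (BT.leaf (nat_lit 29738257))))) (BT.node (nat_lit 11102784) (BT.node (nat_lit 11102592) (BT.node (nat_lit 11102528) (BT.leaf (nat_lit 46045977)) (BT.leaf (nat_lit 46045981))) (BT.node (nat_lit 11102656) (BT.leaf (nat_lit 31647517)) (BT.leaf (nat_lit 31647773)))) (BT.node (nat_lit 11102912) (BT.node (nat_lit 11102848) (BT.leaf (nat_lit 39275029)) (BT.leaf (nat_lit 31648537))) (BT.node (nat_lit 11102976) (BT.leaf (nat_lit 43568649)) (BT.leaf (nat_lit 44865293)))))) (BT.node (nat_lit 11103616) (BT.node (nat_lit 11103360) (BT.node (nat_lit 11103232) (BT.node (nat_lit 11103168) (BT.leaf (nat_lit 51942169)) (BT.leaf (nat_lit 30279957))) (BT.node (nat_lit 11103296) (BT.leaf (nat_lit 39164681)) (BT.leaf (nat_lit 48363537)))) (BT.node (nat_lit 11103488) (BT.node (nat_lit 11103424) (BT.leaf (nat_lit 48363553)) (BT.leaf (nat_lit 49156129))) (BT.node (nat_lit 11103552) (BT.leaf (nat_lit 31642645)) (BT.leaf (nat_lit 39125513))))) (BT.node (nat_lit 11103872) (BT.node (nat_lit 11103744) (BT.node (nat_lit 11103680) (BT.leaf (nat_lit 35364373)) (BT.leaf (nat_lit 34994193))) (BT.node (nat_lit 11103808) (BT.leaf (nat_lit 40284689)) (BT.leaf (nat_lit 43901197)))) (BT.node (nat_lit 11104064) (BT.node (nat_lit 11103936) (BT.leaf (nat_lit 50659845)) (BT.leaf (nat_lit 44406041))) (BT.node (nat_lit 11104128) (BT.leaf (nat_lit 30276373)) (BT.leaf (nat_lit 43874313))))))) (BT.node (nat_lit 11105216) (BT.node (nat_lit 11104704) (BT.node (nat_lit 11104448) (BT.node (nat_lit 11104320) (BT.node (nat_lit 11104256) (BT.leaf (nat_lit 43874321)) (BT.leaf (nat_lit 43874337))) (BT.node (nat_lit 11104384) (BT.leaf (nat_lit 44417549)) (BT.leaf (nat_lit 40634893)))) (BT.node (nat_lit 11104576) (BT.node (nat_lit 11104512) (BT.leaf (nat_lit 31649813)) (BT.leaf (nat_lit 29824793))) (BT.node (nat_lit 11104640) (BT.leaf (nat_lit 44458257)) (BT.leaf (nat_lit 39098133))))) (BT.node (nat_lit 11104960) (BT.node (nat_lit 11104832) (BT.node (nat_lit 11104768) (BT.leaf (nat_lit 42103565)) (BT.leaf (nat_lit 34710549))) (BT.node (nat_lit 11104896) (BT.leaf (nat_lit 47386629)) (BT.leaf (nat_lit 49064981)))) (BT.node (nat_lit 11105088) (BT.node (nat_lit 11105024) (BT.leaf (nat_lit 41913377)) (BT.leaf (nat_lit 44852505))) (BT.node (nat_lit 11105152) (BT.leaf (nat_lit 39306509)) (BT.leaf (nat_lit 32727317)))))) (BT.node (nat_lit 11105792) (BT.node (nat_lit 11105472) (BT.node (nat_lit 11105344) (BT.node (nat_lit 11105280) (BT.leaf (nat_lit 39765025)) (BT.leaf (nat_lit 39764769))) (BT.node (nat_lit 11105408) (BT.leaf (nat_lit 29725965)) (BT.leaf (nat_lit 38164757)))) (BT.node (nat_lit 11105664) (BT.node (nat_lit 11105536) (BT.leaf (nat_lit 38244113)) (BT.leaf (nat_lit 47639581))) (BT.node (nat_lit 11105728) (BT.leaf (nat_lit 42255125)) (BT.leaf (nat_lit 44423197))))) (BT.node (nat_lit 11106048) (BT.node (nat_lit 11105920) (BT.node (nat_lit 11105856) (BT.leaf (nat_lit 37946629)) (BT.leaf (nat_lit 34710801))) (BT.node (nat_lit 11105984) (BT.leaf (nat_lit 39025945)) (BT.leaf (nat_lit 39025949)))) (BT.node (nat_lit 11106176) (BT.node (nat_lit 11106112) (BT.leaf (nat_lit 46995973)) (BT.leaf (nat_lit 45633565))) (BT.node (nat_lit 11106240) (BT.leaf (nat_lit 48887045)) (BT.leaf (nat_lit 32865033)))))))) (BT.node (nat_lit 11108672) (BT.node (nat_lit 11107520) (BT.node (nat_lit 11106944) (BT.node (nat_lit 11106688) (BT.node (nat_lit 11106560) (BT.node (nat_lit 11106496) (BT.leaf (nat_lit 32055833)) (BT.leaf (nat_lit 44306957))) (BT.node (nat_lit 11106624) (BT.leaf (nat_lit 49377285)) (BT.leaf (nat_lit 31652113)))) (BT.node (nat_lit 11106817) (BT.node (nat_lit 11106752) (BT.leaf (nat_lit 42488857)) (BT.leaf (nat_lit 43615757))) (BT.node (nat_lit 11106880) (BT.leaf (nat_lit 705468)) (BT.leaf (nat_lit 46718997))))) (BT.node (nat_lit 11107264) (BT.node (nat_lit 11107072) (BT.node (nat_lit 11107008) (BT.leaf (nat_lit 39992345)) (BT.leaf (nat_lit 42622489))) (BT.node (nat_lit 11107200) (BT.leaf (nat_lit 42622493)) (BT.leaf (nat_lit 40139797)))) (BT.node (nat_lit 11107392) (BT.node (nat_lit 11107328) (BT.leaf (nat_lit 48540449)) (BT.leaf (nat_lit 31655457))) (BT.node (nat_lit 11107456) (BT.leaf (nat_lit 44429837)) (BT.leaf (nat_lit 48783637)))))) (BT.node (nat_lit 11108032) (BT.node (nat_lit 11107776) (BT.node (nat_lit 11107648) (BT.node (nat_lit 11107584) (BT.leaf (nat_lit 38932245)) (BT.leaf (nat_lit 41536281))) (BT.node (nat_lit 11107712) (BT.leaf (nat_lit 50829077)) (BT.leaf (nat_lit 27524369)))) (BT.node (nat_lit 11107904) (BT.node (nat_lit 11107840) (BT.leaf (nat_lit 41009689)) (BT.leaf (nat_lit 41009693))) (BT.node (nat_lit 11107968) (BT.leaf (nat_lit 31965193)) (BT.leaf (nat_lit 31972637))))) (BT.node (nat_lit 11108352) (BT.node (nat_lit 11108224) (BT.node (nat_lit 11108160) (BT.leaf (nat_lit 31972617)) (BT.leaf (nat_lit 45240097))) (BT.node (nat_lit 11108288) (BT.leaf (nat_lit 40228117)) (BT.leaf (nat_lit 37941281)))) (BT.node (nat_lit 11108544) (BT.node (nat_lit 11108480) (BT.leaf (nat_lit 32315405)) (BT.leaf (nat_lit 37801745))) (BT.node (nat_lit 11108608) (BT.leaf (nat_lit 29985801)) (BT.leaf (nat_lit 48783133))))))) (BT.node (nat_lit 11109760) (BT.node (nat_lit 11109184) (BT.node (nat_lit 11108928) (BT.node (nat_lit 11108800) (BT.node (nat_lit 11108736) (BT.leaf (nat_lit 34712341)) (BT.leaf (nat_lit 44445717))) (BT.node (nat_lit 11108864) (BT.leaf (nat_lit 42553861)) (BT.leaf (nat_lit 37895949)))) (BT.node (nat_lit 11109056) (BT.node (nat_lit 11108992) (BT.leaf (nat_lit 41198353)) (BT.leaf (nat_lit 44444685))) (BT.node (nat_lit 11109120) (BT.leaf (nat_lit 39970577)) (BT.leaf (nat_lit 44440845))))) (BT.node (nat_lit 11109440) (BT.node (nat_lit 11109312) (BT.node (nat_lit 11109248) (BT.leaf (nat_lit 44437021)) (BT.leaf (nat_lit 48847893))) (BT.node (nat_lit 11109376) (BT.leaf (nat_lit 42491681)) (BT.leaf (nat_lit 43452421)))) (BT.node (nat_lit 11109632) (BT.node (nat_lit 11109568) (BT.leaf (nat_lit 31658009)) (BT.leaf (nat_lit 48846873))) (BT.node (nat_lit 11109696) (BT.leaf (nat_lit 48430113)) (BT.leaf (nat_lit 38887941)))))) (BT.node (nat_lit 11110272) (BT.node (nat_lit 11110016) (BT.node (nat_lit 11109888) (BT.node (nat_lit 11109824) (BT.leaf (nat_lit 42033169)) (BT.leaf (nat_lit 44440861))) (BT.node (nat_lit 11109952) (BT.leaf (nat_lit 48217121)) (BT.leaf (nat_lit 31658773)))) (BT.node (nat_lit 11110208) (BT.node (nat_lit 11110080) (BT.leaf (nat_lit 29985821)) (BT.leaf (nat_lit 48847637))) (BT.node (nat_lit 11110209) (BT.leaf (nat_lit 30933781)) (BT.leaf (nat_lit 755828))))) (BT.node (nat_lit 11110279) (BT.node (nat_lit 11110275) (BT.node (nat_lit 11110274) (BT.leaf (nat_lit 44640261)) (BT.leaf (nat_lit 710792))) (BT.node (nat_lit 11110278) (BT.leaf (nat_lit 710792)) (BT.leaf (nat_lit 710792)))) (BT.node (nat_lit 11110400) (BT.node (nat_lit 11110336) (BT.leaf (nat_lit 710792)) (BT.leaf (nat_lit 43452693))) (BT.node (nat_lit 11110528) (BT.leaf (nat_lit 45120801)) (BT.leaf (nat_lit 41105165))))))))) (BT.node (nat_lit 11114368) (BT.node (nat_lit 11112320) (BT.node (nat_lit 11111237) (BT.node (nat_lit 11111040) (BT.node (nat_lit 11110784) (BT.node (nat_lit 11110663) (BT.node (nat_lit 11110662) (BT.leaf (nat_lit 44640533)) (BT.leaf (nat_lit 704256))) (BT.node (nat_lit 11110720) (BT.leaf (nat_lit 704256)) (BT.leaf (nat_lit 41105177)))) (BT.node (nat_lit 11110912) (BT.node (nat_lit 11110848) (BT.leaf (nat_lit 41105181)) (BT.leaf (nat_lit 37895941))) (BT.node (nat_lit 11110976) (BT.leaf (nat_lit 37895953)) (BT.leaf (nat_lit 37895957))))) (BT.node (nat_lit 11111168) (BT.node (nat_lit 11111109) (BT.node (nat_lit 11111104) (BT.leaf (nat_lit 41745949)) (BT.leaf (nat_lit 43445277))) (BT.node (nat_lit 11111112) (BT.leaf (nat_lit 697608)) (BT.leaf (nat_lit 697608)))) (BT.node (nat_lit 11111233) (BT.node (nat_lit 11111232) (BT.leaf (nat_lit 31788821)) (BT.leaf (nat_lit 41745945))) (BT.node (nat_lit 11111235) (BT.leaf (nat_lit 704248)) (BT.leaf (nat_lit 704248)))))) (BT.node (nat_lit 11111808) (BT.node (nat_lit 11111552) (BT.node (nat_lit 11111360) (BT.node (nat_lit 11111296) (BT.leaf (nat_lit 704248)) (BT.leaf (nat_lit 42554657))) (BT.node (nat_lit 11111424) (BT.leaf (nat_lit 31789061)) (BT.leaf (nat_lit 44435997)))) (BT.node (nat_lit 11111680) (BT.node (nat_lit 11111616) (BT.leaf (nat_lit 31789089)) (BT.leaf (nat_lit 37898005))) (BT.node (nat_lit 11111744) (BT.leaf (nat_lit 37898009)) (BT.leaf (nat_lit 37898013))))) (BT.node (nat_lit 11112000) (BT.node (nat_lit 11111812) (BT.node (nat_lit 11111809) (BT.leaf (nat_lit 48783129)) (BT.leaf (nat_lit 697488))) (BT.node (nat_lit 11111936) (BT.leaf (nat_lit 697488)) (BT.leaf (nat_lit 32876041)))) (BT.node (nat_lit 11112128) (BT.node (nat_lit 11112064) (BT.leaf (nat_lit 31661849)) (BT.leaf (nat_lit 32481553))) (BT.node (nat_lit 11112256) (BT.leaf (nat_lit 31661853)) (BT.leaf (nat_lit 30153489))))))) (BT.node (nat_lit 11113344) (BT.node (nat_lit 11112832) (BT.node (nat_lit 11112576) (BT.node (nat_lit 11112448) (BT.node (nat_lit 11112384) (BT.leaf (nat_lit 31662865)) (BT.leaf (nat_lit 31564049))) (BT.node (nat_lit 11112512) (BT.leaf (nat_lit 34986005)) (BT.leaf (nat_lit 34986009)))) (BT.node (nat_lit 11112704) (BT.node (nat_lit 11112640) (BT.leaf (nat_lit 34986013)) (BT.leaf (nat_lit 31662609))) (BT.node (nat_lit 11112768) (BT.leaf (nat_lit 31666449)) (BT.leaf (nat_lit 32028949))))) (BT.node (nat_lit 11113088) (BT.node (nat_lit 11112960) (BT.node (nat_lit 11112896) (BT.leaf (nat_lit 32028953)) (BT.leaf (nat_lit 32028957))) (BT.node (nat_lit 11113024) (BT.leaf (nat_lit 28591121)) (BT.leaf (nat_lit 30304281)))) (BT.node (nat_lit 11113216) (BT.node (nat_lit 11113152) (BT.leaf (nat_lit 34870289)) (BT.leaf (nat_lit 31954969))) (BT.node (nat_lit 11113280) (BT.leaf (nat_lit 31666973)) (BT.leaf (nat_lit 38256661)))))) (BT.node (nat_lit 11113856) (BT.node (nat_lit 11113600) (BT.node (nat_lit 11113472) (BT.node (nat_lit 11113408) (BT.leaf (nat_lit 31669533)) (BT.leaf (nat_lit 31668497))) (BT.node (nat_lit 11113536) (BT.leaf (nat_lit 51037461)) (BT.leaf (nat_lit 31667217)))) (BT.node (nat_lit 11113728) (BT.node (nat_lit 11113664) (BT.leaf (nat_lit 41735429)) (BT.leaf (nat_lit 31946245))) (BT.node (nat_lit 11113792) (BT.leaf (nat_lit 31669265)) (BT.leaf (nat_lit 52151045))))) (BT.node (nat_lit 11114112) (BT.node (nat_lit 11113984) (BT.node (nat_lit 11113920) (BT.leaf (nat_lit 31668753)) (BT.leaf (nat_lit 32264469))) (BT.node (nat_lit 11114048) (BT.leaf (nat_lit 32264473)) (BT.leaf (nat_lit 32264477)))) (BT.node (nat_lit 11114240) (BT.node (nat_lit 11114176) (BT.leaf (nat_lit 27594001)) (BT.leaf (nat_lit 46482709))) (BT.node (nat_lit 11114304) (BT.leaf (nat_lit 44456713)) (BT.leaf (nat_lit 42594833)))))))) (BT.node (nat_lit 11116416) (BT.node (nat_lit 11115392) (BT.node (nat_lit 11114880) (BT.node (nat_lit 11114624) (BT.node (nat_lit 11114496) (BT.node (nat_lit 11114432) (BT.leaf (nat_lit 42594841)) (BT.leaf (nat_lit 42594845))) (BT.node (nat_lit 11114560) (BT.leaf (nat_lit 35062293)) (BT.leaf (nat_lit 44418053)))) (BT.node (nat_lit 11114752) (BT.node (nat_lit 11114688) (BT.leaf (nat_lit 46482461)) (BT.leaf (nat_lit 51597333))) (BT.node (nat_lit 11114816) (BT.leaf (nat_lit 31669521)) (BT.leaf (nat_lit 36235289))))) (BT.node (nat_lit 11115136) (BT.node (nat_lit 11115008) (BT.node (nat_lit 11114944) (BT.leaf (nat_lit 36235293)) (BT.leaf (nat_lit 28067601))) (BT.node (nat_lit 11115072) (BT.leaf (nat_lit 48272661)) (BT.leaf (nat_lit 39249945)))) (BT.node (nat_lit 11115264) (BT.node (nat_lit 11115200) (BT.leaf (nat_lit 39249949)) (BT.leaf (nat_lit 38037773))) (BT.node (nat_lit 11115328) (BT.leaf (nat_lit 36235525)) (BT.leaf (nat_lit 31671577)))))) (BT.node (nat_lit 11115904) (BT.node (nat_lit 11115648) (BT.node (nat_lit 11115520) (BT.node (nat_lit 11115456) (BT.leaf (nat_lit 36235537)) (BT.leaf (nat_lit 49004057))) (BT.node (nat_lit 11115584) (BT.leaf (nat_lit 36235553)) (BT.leaf (nat_lit 31671581)))) (BT.node (nat_lit 11115776) (BT.node (nat_lit 11115712) (BT.leaf (nat_lit 31946257)) (BT.leaf (nat_lit 51597085))) (BT.node (nat_lit 11115840) (BT.leaf (nat_lit 31946273)) (BT.leaf (nat_lit 31672333))))) (BT.node (nat_lit 11116160) (BT.node (nat_lit 11116032) (BT.node (nat_lit 11115968) (BT.leaf (nat_lit 32029465)) (BT.leaf (nat_lit 31674133))) (BT.node (nat_lit 11116096) (BT.leaf (nat_lit 31672841)) (BT.leaf (nat_lit 31735813)))) (BT.node (nat_lit 11116288) (BT.node (nat_lit 11116224) (BT.leaf (nat_lit 31672093)) (BT.leaf (nat_lit 31735825))) (BT.node (nat_lit 11116352) (BT.leaf (nat_lit 31735829)) (BT.leaf (nat_lit 31672857))))))) (BT.node (nat_lit 11117440) (BT.node (nat_lit 11116928) (BT.node (nat_lit 11116672) (BT.node (nat_lit 11116544) (BT.node (nat_lit 11116480) (BT.leaf (nat_lit 31673617)) (BT.leaf (nat_lit 31673105))) (BT.node (nat_lit 11116608) (BT.leaf (nat_lit 41390613)) (BT.leaf (nat_lit 32030725)))) (BT.node (nat_lit 11116800) (BT.node (nat_lit 11116736) (BT.leaf (nat_lit 31675417)) (BT.leaf (nat_lit 32030737))) (BT.node (nat_lit 11116864) (BT.leaf (nat_lit 32030741)) (BT.leaf (nat_lit 28592413))))) (BT.node (nat_lit 11117184) (BT.node (nat_lit 11117056) (BT.node (nat_lit 11116992) (BT.leaf (nat_lit 39706909)) (BT.leaf (nat_lit 46457349))) (BT.node (nat_lit 11117120) (BT.leaf (nat_lit 44208133)) (BT.leaf (nat_lit 33485837)))) (BT.node (nat_lit 11117312) (BT.node (nat_lit 11117248) (BT.leaf (nat_lit 28565525)) (BT.leaf (nat_lit 44468745))) (BT.node (nat_lit 11117376) (BT.leaf (nat_lit 33723925)) (BT.leaf (nat_lit 49098505)))))) (BT.node (nat_lit 11118016) (BT.node (nat_lit 11117760) (BT.node (nat_lit 11117568) (BT.node (nat_lit 11117504) (BT.leaf (nat_lit 31936545)) (BT.leaf (nat_lit 44470301))) (BT.node (nat_lit 11117632) (BT.leaf (nat_lit 32432137)) (BT.leaf (nat_lit 31683861)))) (BT.node (nat_lit 11117888) (BT.node (nat_lit 11117824) (BT.leaf (nat_lit 34834457)) (BT.leaf (nat_lit 34886413))) (BT.node (nat_lit 11117952) (BT.leaf (nat_lit 44008729)) (BT.leaf (nat_lit 44008733))))) (BT.node (nat_lit 11118272) (BT.node (nat_lit 11118144) (BT.node (nat_lit 11118080) (BT.leaf (nat_lit 48502805)) (BT.leaf (nat_lit 42416665))) (BT.node (nat_lit 11118208) (BT.leaf (nat_lit 40697613)) (BT.leaf (nat_lit 34724629)))) (BT.node (nat_lit 11118400) (BT.node (nat_lit 11118336) (BT.leaf (nat_lit 42628361)) (BT.leaf (nat_lit 31689241))) (BT.node (nat_lit 11118464) (BT.leaf (nat_lit 44491789)) (BT.leaf (nat_lit 44474125)))))))))) (BT.node (nat_lit 11126272) (BT.node (nat_lit 11122176) (BT.node (nat_lit 11120192) (BT.node (nat_lit 11119296) (BT.node (nat_lit 11118912) (BT.node (nat_lit 11118784) (BT.node (nat_lit 11118656) (BT.node (nat_lit 11118592) (BT.leaf (nat_lit 49098269)) (BT.leaf (nat_lit 49630237))) (BT.node (nat_lit 11118720) (BT.leaf (nat_lit 49098249)) (BT.leaf (nat_lit 47480609)))) (BT.node (nat_lit 11118848) (BT.node (nat_lit 11118789) (BT.leaf (nat_lit 31682577)) (BT.leaf (nat_lit 707992))) (BT.node (nat_lit 11118854) (BT.leaf (nat_lit 30703633)) (BT.leaf (nat_lit 718036))))) (BT.node (nat_lit 11119040) (BT.node (nat_lit 11118982) (BT.node (nat_lit 11118976) (BT.leaf (nat_lit 41265673)) (BT.leaf (nat_lit 31681809))) (BT.node (nat_lit 11118983) (BT.leaf (nat_lit 755776)) (BT.leaf (nat_lit 755776)))) (BT.node (nat_lit 11119168) (BT.node (nat_lit 11119104) (BT.leaf (nat_lit 45220357)) (BT.leaf (nat_lit 32487177))) (BT.node (nat_lit 11119232) (BT.leaf (nat_lit 32487181)) (BT.leaf (nat_lit 32487445)))))) (BT.node (nat_lit 11119680) (BT.node (nat_lit 11119424) (BT.node (nat_lit 11119304) (BT.node (nat_lit 11119297) (BT.leaf (nat_lit 42893321)) (BT.leaf (nat_lit 708984))) (BT.node (nat_lit 11119360) (BT.leaf (nat_lit 708984)) (BT.leaf (nat_lit 45123849)))) (BT.node (nat_lit 11119552) (BT.node (nat_lit 11119488) (BT.leaf (nat_lit 42988561)) (BT.leaf (nat_lit 32432145))) (BT.node (nat_lit 11119616) (BT.leaf (nat_lit 45581345)) (BT.leaf (nat_lit 40906517))))) (BT.node (nat_lit 11119936) (BT.node (nat_lit 11119808) (BT.node (nat_lit 11119744) (BT.leaf (nat_lit 32487453)) (BT.leaf (nat_lit 44027157))) (BT.node (nat_lit 11119872) (BT.leaf (nat_lit 44027161)) (BT.leaf (nat_lit 44027165)))) (BT.node (nat_lit 11120064) (BT.node (nat_lit 11120000) (BT.leaf (nat_lit 41316109)) (BT.leaf (nat_lit 31677973))) (BT.node (nat_lit 11120128) (BT.leaf (nat_lit 42889989)) (BT.leaf (nat_lit 42890001))))))) (BT.node (nat_lit 11121152) (BT.node (nat_lit 11120704) (BT.node (nat_lit 11120448) (BT.node (nat_lit 11120320) (BT.node (nat_lit 11120256) (BT.leaf (nat_lit 34727965)) (BT.leaf (nat_lit 49022241))) (BT.node (nat_lit 11120384) (BT.leaf (nat_lit 31683869)) (BT.leaf (nat_lit 31904017)))) (BT.node (nat_lit 11120576) (BT.node (nat_lit 11120512) (BT.leaf (nat_lit 31904033)) (BT.leaf (nat_lit 42953233))) (BT.node (nat_lit 11120640) (BT.leaf (nat_lit 31684373)) (BT.leaf (nat_lit 34886429))))) (BT.node (nat_lit 11120960) (BT.node (nat_lit 11120832) (BT.node (nat_lit 11120768) (BT.leaf (nat_lit 41647121)) (BT.leaf (nat_lit 49146909))) (BT.node (nat_lit 11120896) (BT.leaf (nat_lit 44483613)) (BT.leaf (nat_lit 39978257)))) (BT.node (nat_lit 11121088) (BT.node (nat_lit 11121024) (BT.leaf (nat_lit 44484125)) (BT.leaf (nat_lit 49467149))) (BT.node (nat_lit 11121092) (BT.leaf (nat_lit 45663001)) (BT.leaf (nat_lit 773144)))))) (BT.node (nat_lit 11121664) (BT.node (nat_lit 11121408) (BT.node (nat_lit 11121280) (BT.node (nat_lit 11121216) (BT.leaf (nat_lit 30575901)) (BT.leaf (nat_lit 47617553))) (BT.node (nat_lit 11121344) (BT.leaf (nat_lit 35775005)) (BT.leaf (nat_lit 31992853)))) (BT.node (nat_lit 11121536) (BT.node (nat_lit 11121472) (BT.leaf (nat_lit 48910101)) (BT.leaf (nat_lit 44486173))) (BT.node (nat_lit 11121600) (BT.leaf (nat_lit 44909577)) (BT.leaf (nat_lit 32755217))))) (BT.node (nat_lit 11121920) (BT.node (nat_lit 11121792) (BT.node (nat_lit 11121728) (BT.leaf (nat_lit 31992605)) (BT.leaf (nat_lit 49595673))) (BT.node (nat_lit 11121856) (BT.leaf (nat_lit 49595677)) (BT.leaf (nat_lit 47008777)))) (BT.node (nat_lit 11122048) (BT.node (nat_lit 11121984) (BT.leaf (nat_lit 38886433)) (BT.leaf (nat_lit 38150405))) (BT.node (nat_lit 11122112) (BT.leaf (nat_lit 45563425)) (BT.leaf (nat_lit 45609229)))))))) (BT.node (nat_lit 11124224) (BT.node (nat_lit 11123203) (BT.node (nat_lit 11122752) (BT.node (nat_lit 11122496) (BT.node (nat_lit 11122304) (BT.node (nat_lit 11122240) (BT.leaf (nat_lit 40607257)) (BT.leaf (nat_lit 41952517))) (BT.node (nat_lit 11122368) (BT.leaf (nat_lit 45510153)) (BT.leaf (nat_lit 41953797)))) (BT.node (nat_lit 11122624) (BT.node (nat_lit 11122560) (BT.leaf (nat_lit 41838101)) (BT.leaf (nat_lit 31688453))) (BT.node (nat_lit 11122688) (BT.leaf (nat_lit 44318237)) (BT.leaf (nat_lit 31689757))))) (BT.node (nat_lit 11123008) (BT.node (nat_lit 11122880) (BT.node (nat_lit 11122816) (BT.leaf (nat_lit 31685661)) (BT.leaf (nat_lit 44318217))) (BT.node (nat_lit 11122944) (BT.leaf (nat_lit 32023313)) (BT.leaf (nat_lit 32023317)))) (BT.node (nat_lit 11123136) (BT.node (nat_lit 11123072) (BT.leaf (nat_lit 31689753)) (BT.leaf (nat_lit 31687953))) (BT.node (nat_lit 11123200) (BT.leaf (nat_lit 31690005)) (BT.leaf (nat_lit 33574417)))))) (BT.node (nat_lit 11123712) (BT.node (nat_lit 11123456) (BT.node (nat_lit 11123264) (BT.node (nat_lit 11123204) (BT.leaf (nat_lit 782624)) (BT.leaf (nat_lit 782624))) (BT.node (nat_lit 11123328) (BT.leaf (nat_lit 44492825)) (BT.leaf (nat_lit 44317973)))) (BT.node (nat_lit 11123584) (BT.node (nat_lit 11123520) (BT.leaf (nat_lit 45911305)) (BT.leaf (nat_lit 32414213))) (BT.node (nat_lit 11123648) (BT.leaf (nat_lit 32414217)) (BT.leaf (nat_lit 32414221))))) (BT.node (nat_lit 11123968) (BT.node (nat_lit 11123840) (BT.node (nat_lit 11123776) (BT.leaf (nat_lit 32414229)) (BT.leaf (nat_lit 44495389))) (BT.node (nat_lit 11123904) (BT.leaf (nat_lit 47128593)) (BT.leaf (nat_lit 32414241)))) (BT.node (nat_lit 11124096) (BT.node (nat_lit 11124032) (BT.leaf (nat_lit 39036693)) (BT.leaf (nat_lit 39344905))) (BT.node (nat_lit 11124160) (BT.leaf (nat_lit 32297757)) (BT.leaf (nat_lit 31694085))))))) (BT.node (nat_lit 11125248) (BT.node (nat_lit 11124736) (BT.node (nat_lit 11124480) (BT.node (nat_lit 11124352) (BT.node (nat_lit 11124288) (BT.leaf (nat_lit 32497669)) (BT.leaf (nat_lit 47715093))) (BT.node (nat_lit 11124416) (BT.leaf (nat_lit 38158853)) (BT.leaf (nat_lit 34731793)))) (BT.node (nat_lit 11124608) (BT.node (nat_lit 11124544) (BT.leaf (nat_lit 31897881)) (BT.leaf (nat_lit 44292385))) (BT.node (nat_lit 11124672) (BT.leaf (nat_lit 45606177)) (BT.leaf (nat_lit 48796429))))) (BT.node (nat_lit 11124992) (BT.node (nat_lit 11124864) (BT.node (nat_lit 11124800) (BT.leaf (nat_lit 39425041)) (BT.leaf (nat_lit 42452741))) (BT.node (nat_lit 11124928) (BT.leaf (nat_lit 44008461)) (BT.leaf (nat_lit 49041429)))) (BT.node (nat_lit 11125120) (BT.node (nat_lit 11125056) (BT.leaf (nat_lit 43012613)) (BT.leaf (nat_lit 34884633))) (BT.node (nat_lit 11125184) (BT.leaf (nat_lit 43271953)) (BT.leaf (nat_lit 31696389)))))) (BT.node (nat_lit 11125760) (BT.node (nat_lit 11125504) (BT.node (nat_lit 11125376) (BT.node (nat_lit 11125312) (BT.leaf (nat_lit 38477845)) (BT.leaf (nat_lit 44928781))) (BT.node (nat_lit 11125440) (BT.leaf (nat_lit 38477853)) (BT.leaf (nat_lit 31696145)))) (BT.node (nat_lit 11125632) (BT.node (nat_lit 11125568) (BT.leaf (nat_lit 43652373)) (BT.leaf (nat_lit 47879949))) (BT.node (nat_lit 11125696) (BT.leaf (nat_lit 43652381)) (BT.leaf (nat_lit 30817057))))) (BT.node (nat_lit 11126016) (BT.node (nat_lit 11125888) (BT.node (nat_lit 11125824) (BT.leaf (nat_lit 32909089)) (BT.leaf (nat_lit 40607777))) (BT.node (nat_lit 11125952) (BT.leaf (nat_lit 40834309)) (BT.leaf (nat_lit 30239761)))) (BT.node (nat_lit 11126144) (BT.node (nat_lit 11126080) (BT.leaf (nat_lit 31702033)) (BT.leaf (nat_lit 31571217))) (BT.node (nat_lit 11126208) (BT.leaf (nat_lit 45195541)) (BT.leaf (nat_lit 42428953))))))))) (BT.node (nat_lit 11130240) (BT.node (nat_lit 11128128) (BT.node (nat_lit 11127232) (BT.node (nat_lit 11126720) (BT.node (nat_lit 11126528) (BT.node (nat_lit 11126400) (BT.node (nat_lit 11126336) (BT.leaf (nat_lit 42428957)) (BT.leaf (nat_lit 29402893))) (BT.node (nat_lit 11126464) (BT.leaf (nat_lit 39910425)) (BT.leaf (nat_lit 39910429)))) (BT.node (nat_lit 11126592) (BT.node (nat_lit 11126533) (BT.leaf (nat_lit 38342673)) (BT.leaf (nat_lit 773332))) (BT.node (nat_lit 11126656) (BT.leaf (nat_lit 39586837)) (BT.leaf (nat_lit 42076421))))) (BT.node (nat_lit 11126976) (BT.node (nat_lit 11126848) (BT.node (nat_lit 11126784) (BT.leaf (nat_lit 42927373)) (BT.leaf (nat_lit 31707425))) (BT.node (nat_lit 11126912) (BT.leaf (nat_lit 49467165)) (BT.leaf (nat_lit 31704861)))) (BT.node (nat_lit 11127104) (BT.node (nat_lit 11127040) (BT.leaf (nat_lit 46149381)) (BT.leaf (nat_lit 49147653))) (BT.node (nat_lit 11127168) (BT.leaf (nat_lit 31707401)) (BT.leaf (nat_lit 42323469)))))) (BT.node (nat_lit 11127744) (BT.node (nat_lit 11127488) (BT.node (nat_lit 11127360) (BT.node (nat_lit 11127296) (BT.leaf (nat_lit 39979269)) (BT.leaf (nat_lit 43304205))) (BT.node (nat_lit 11127424) (BT.leaf (nat_lit 45125649)) (BT.leaf (nat_lit 43304221)))) (BT.node (nat_lit 11127616) (BT.node (nat_lit 11127552) (BT.leaf (nat_lit 34888213)) (BT.leaf (nat_lit 42675989))) (BT.node (nat_lit 11127680) (BT.leaf (nat_lit 41616661)) (BT.leaf (nat_lit 44950797))))) (BT.node (nat_lit 11127936) (BT.node (nat_lit 11127812) (BT.node (nat_lit 11127808) (BT.leaf (nat_lit 41616669)) (BT.leaf (nat_lit 31705113))) (BT.node (nat_lit 11127872) (BT.leaf (nat_lit 703644)) (BT.leaf (nat_lit 44508697)))) (BT.node (nat_lit 11128004) (BT.node (nat_lit 11128000) (BT.leaf (nat_lit 41616913)) (BT.leaf (nat_lit 42323485))) (BT.node (nat_lit 11128064) (BT.leaf (nat_lit 776436)) (BT.leaf (nat_lit 40625185))))))) (BT.node (nat_lit 11129152) (BT.node (nat_lit 11128640) (BT.node (nat_lit 11128384) (BT.node (nat_lit 11128256) (BT.node (nat_lit 11128192) (BT.leaf (nat_lit 32602901)) (BT.leaf (nat_lit 32866577))) (BT.node (nat_lit 11128320) (BT.leaf (nat_lit 39072281)) (BT.leaf (nat_lit 43885345)))) (BT.node (nat_lit 11128512) (BT.node (nat_lit 11128448) (BT.leaf (nat_lit 39986457)) (BT.leaf (nat_lit 39986461))) (BT.node (nat_lit 11128576) (BT.leaf (nat_lit 39123729)) (BT.leaf (nat_lit 44523529))))) (BT.node (nat_lit 11128896) (BT.node (nat_lit 11128768) (BT.node (nat_lit 11128704) (BT.leaf (nat_lit 44384265)) (BT.leaf (nat_lit 41071133))) (BT.node (nat_lit 11128832) (BT.leaf (nat_lit 39587601)) (BT.leaf (nat_lit 31996169)))) (BT.node (nat_lit 11129024) (BT.node (nat_lit 11128960) (BT.leaf (nat_lit 38875401)) (BT.leaf (nat_lit 38875405))) (BT.node (nat_lit 11129088) (BT.leaf (nat_lit 42485793)) (BT.leaf (nat_lit 38875417)))))) (BT.node (nat_lit 11129664) (BT.node (nat_lit 11129408) (BT.node (nat_lit 11129280) (BT.node (nat_lit 11129216) (BT.leaf (nat_lit 38174497)) (BT.leaf (nat_lit 43172897))) (BT.node (nat_lit 11129344) (BT.leaf (nat_lit 39909409)) (BT.leaf (nat_lit 38875677)))) (BT.node (nat_lit 11129536) (BT.node (nat_lit 11129472) (BT.leaf (nat_lit 39335945)) (BT.leaf (nat_lit 43832349))) (BT.node (nat_lit 11129600) (BT.leaf (nat_lit 39335953)) (BT.leaf (nat_lit 42010129))))) (BT.node (nat_lit 11129984) (BT.node (nat_lit 11129856) (BT.node (nat_lit 11129728) (BT.leaf (nat_lit 44915221)) (BT.leaf (nat_lit 43107357))) (BT.node (nat_lit 11129920) (BT.leaf (nat_lit 44519941)) (BT.leaf (nat_lit 40217105)))) (BT.node (nat_lit 11130112) (BT.node (nat_lit 11130048) (BT.leaf (nat_lit 44914973)) (BT.leaf (nat_lit 39330317))) (BT.node (nat_lit 11130176) (BT.leaf (nat_lit 32955669)) (BT.leaf (nat_lit 43847705)))))))) (BT.node (nat_lit 11132416) (BT.node (nat_lit 11131328) (BT.node (nat_lit 11130752) (BT.node (nat_lit 11130496) (BT.node (nat_lit 11130368) (BT.node (nat_lit 11130304) (BT.leaf (nat_lit 43847709)) (BT.leaf (nat_lit 44521737))) (BT.node (nat_lit 11130432) (BT.leaf (nat_lit 41071129)) (BT.leaf (nat_lit 49092373)))) (BT.node (nat_lit 11130624) (BT.node (nat_lit 11130560) (BT.leaf (nat_lit 40001813)) (BT.leaf (nat_lit 40001825))) (BT.node (nat_lit 11130688) (BT.leaf (nat_lit 38516741)) (BT.leaf (nat_lit 45600789))))) (BT.node (nat_lit 11131072) (BT.node (nat_lit 11130880) (BT.node (nat_lit 11130816) (BT.leaf (nat_lit 38516765)) (BT.leaf (nat_lit 39549969))) (BT.node (nat_lit 11130944) (BT.leaf (nat_lit 39549973)) (BT.leaf (nat_lit 39549985)))) (BT.node (nat_lit 11131200) (BT.node (nat_lit 11131136) (BT.leaf (nat_lit 48877597)) (BT.leaf (nat_lit 43172885))) (BT.node (nat_lit 11131264) (BT.leaf (nat_lit 43172889)) (BT.leaf (nat_lit 43172893)))))) (BT.node (nat_lit 11131904) (BT.node (nat_lit 11131648) (BT.node (nat_lit 11131520) (BT.node (nat_lit 11131392) (BT.leaf (nat_lit 45696261)) (BT.leaf (nat_lit 45696801))) (BT.node (nat_lit 11131584) (BT.leaf (nat_lit 42808089)) (BT.leaf (nat_lit 42808093)))) (BT.node (nat_lit 11131776) (BT.node (nat_lit 11131712) (BT.leaf (nat_lit 43602953)) (BT.leaf (nat_lit 43603209))) (BT.node (nat_lit 11131840) (BT.leaf (nat_lit 49093389)) (BT.leaf (nat_lit 39975689))))) (BT.node (nat_lit 11132160) (BT.node (nat_lit 11132032) (BT.node (nat_lit 11131968) (BT.leaf (nat_lit 31710477)) (BT.leaf (nat_lit 50315789))) (BT.node (nat_lit 11132096) (BT.leaf (nat_lit 44926221)) (BT.leaf (nat_lit 45593377)))) (BT.node (nat_lit 11132288) (BT.node (nat_lit 11132224) (BT.leaf (nat_lit 46008097)) (BT.leaf (nat_lit 31710237))) (BT.node (nat_lit 11132352) (BT.leaf (nat_lit 44531229)) (BT.leaf (nat_lit 42191129))))))) (BT.node (nat_lit 11133440) (BT.node (nat_lit 11132992) (BT.node (nat_lit 11132672) (BT.node (nat_lit 11132544) (BT.node (nat_lit 11132480) (BT.leaf (nat_lit 42191117)) (BT.leaf (nat_lit 42191121))) (BT.node (nat_lit 11132608) (BT.leaf (nat_lit 30256149)) (BT.leaf (nat_lit 31708441)))) (BT.node (nat_lit 11132864) (BT.node (nat_lit 11132800) (BT.leaf (nat_lit 48878105)) (BT.leaf (nat_lit 31708429))) (BT.node (nat_lit 11132928) (BT.leaf (nat_lit 47625761)) (BT.leaf (nat_lit 31711009))))) (BT.node (nat_lit 11133248) (BT.node (nat_lit 11133120) (BT.node (nat_lit 11133056) (BT.leaf (nat_lit 31711237)) (BT.leaf (nat_lit 38530585))) (BT.node (nat_lit 11133184) (BT.leaf (nat_lit 38530589)) (BT.leaf (nat_lit 32893445)))) (BT.node (nat_lit 11133376) (BT.node (nat_lit 11133312) (BT.leaf (nat_lit 40135449)) (BT.leaf (nat_lit 31711513))) (BT.node (nat_lit 11133384) (BT.leaf (nat_lit 39906053)) (BT.leaf (nat_lit 776744)))))) (BT.node (nat_lit 11134016) (BT.node (nat_lit 11133696) (BT.node (nat_lit 11133568) (BT.node (nat_lit 11133504) (BT.leaf (nat_lit 40153621)) (BT.leaf (nat_lit 32893473))) (BT.node (nat_lit 11133632) (BT.leaf (nat_lit 40781077)) (BT.leaf (nat_lit 41413397)))) (BT.node (nat_lit 11133824) (BT.node (nat_lit 11133760) (BT.leaf (nat_lit 43003669)) (BT.leaf (nat_lit 38792721))) (BT.node (nat_lit 11133888) (BT.leaf (nat_lit 38792725)) (BT.leaf (nat_lit 31717913))))) (BT.node (nat_lit 11134272) (BT.node (nat_lit 11134144) (BT.node (nat_lit 11134080) (BT.leaf (nat_lit 45388037)) (BT.leaf (nat_lit 45431045))) (BT.node (nat_lit 11134208) (BT.leaf (nat_lit 43680533)) (BT.leaf (nat_lit 43516677)))) (BT.node (nat_lit 11134400) (BT.node (nat_lit 11134336) (BT.leaf (nat_lit 38198789)) (BT.leaf (nat_lit 44489221))) (BT.node (nat_lit 11134464) (BT.leaf (nat_lit 44535817)) (BT.leaf (nat_lit 46291477)))))))))))))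
noncomputable def big0_e102400 : BT Nat := (BT.node (nat_lit 11197189) (BT.node (nat_lit 11164608) (BT.node (nat_lit 11150400) (BT.node (nat_lit 11142464) (BT.node (nat_lit 11138496) (BT.node (nat_lit 11136640) (BT.node (nat_lit 11135616) (BT.node (nat_lit 11135104) (BT.node (nat_lit 11134784) (BT.node (nat_lit 11134656) (BT.node (nat_lit 11134592) (BT.leaf (nat_lit 46291481)) (BT.leaf (nat_lit 46291485))) (BT.node (nat_lit 11134720) (BT.leaf (nat_lit 39579909)) (BT.leaf (nat_lit 41190685)))) (BT.node (nat_lit 11134976) (BT.node (nat_lit 11134848) (BT.leaf (nat_lit 43180057)) (BT.leaf (nat_lit 31727897))) (BT.node (nat_lit 11135040) (BT.leaf (nat_lit 45109529)) (BT.leaf (nat_lit 46023445))))) (BT.node (nat_lit 11135360) (BT.node (nat_lit 11135232) (BT.node (nat_lit 11135168) (BT.leaf (nat_lit 42180897)) (BT.leaf (nat_lit 42180641))) (BT.node (nat_lit 11135296) (BT.leaf (nat_lit 43561233)) (BT.leaf (nat_lit 49453573)))) (BT.node (nat_lit 11135432) (BT.node (nat_lit 11135424) (BT.leaf (nat_lit 31731737)) (BT.leaf (nat_lit 31719189))) (BT.node (nat_lit 11135552) (BT.leaf (nat_lit 771188)) (BT.leaf (nat_lit 37881373)))))) (BT.node (nat_lit 11136128) (BT.node (nat_lit 11135872) (BT.node (nat_lit 11135744) (BT.node (nat_lit 11135680) (BT.leaf (nat_lit 31732765)) (BT.leaf (nat_lit 38257173))) (BT.node (nat_lit 11135808) (BT.leaf (nat_lit 44439073)) (BT.leaf (nat_lit 30002701)))) (BT.node (nat_lit 11136000) (BT.node (nat_lit 11135936) (BT.leaf (nat_lit 44438809)) (BT.leaf (nat_lit 32489249))) (BT.node (nat_lit 11136064) (BT.leaf (nat_lit 32980505)) (BT.leaf (nat_lit 44544541))))) (BT.node (nat_lit 11136384) (BT.node (nat_lit 11136256) (BT.node (nat_lit 11136192) (BT.leaf (nat_lit 48005381)) (BT.leaf (nat_lit 31996689))) (BT.node (nat_lit 11136320) (BT.leaf (nat_lit 45121033)) (BT.leaf (nat_lit 31996705)))) (BT.node (nat_lit 11136512) (BT.node (nat_lit 11136448) (BT.leaf (nat_lit 45418769)) (BT.leaf (nat_lit 43834117))) (BT.node (nat_lit 11136576) (BT.leaf (nat_lit 45418785)) (BT.leaf (nat_lit 39592213))))))) (BT.node (nat_lit 11137544) (BT.node (nat_lit 11137152) (BT.node (nat_lit 11136896) (BT.node (nat_lit 11136768) (BT.node (nat_lit 11136704) (BT.leaf (nat_lit 30297877)) (BT.leaf (nat_lit 43826461))) (BT.node (nat_lit 11136832) (BT.leaf (nat_lit 30002697)) (BT.leaf (nat_lit 40361249)))) (BT.node (nat_lit 11137024) (BT.node (nat_lit 11136960) (BT.leaf (nat_lit 40072709)) (BT.leaf (nat_lit 42183713))) (BT.node (nat_lit 11137088) (BT.leaf (nat_lit 42183457)) (BT.leaf (nat_lit 43804433))))) (BT.node (nat_lit 11137352) (BT.node (nat_lit 11137280) (BT.node (nat_lit 11137216) (BT.leaf (nat_lit 43836165)) (BT.leaf (nat_lit 27984149))) (BT.node (nat_lit 11137344) (BT.leaf (nat_lit 50413833)) (BT.leaf (nat_lit 32033045)))) (BT.node (nat_lit 11137472) (BT.node (nat_lit 11137408) (BT.leaf (nat_lit 787712)) (BT.leaf (nat_lit 34754325))) (BT.node (nat_lit 11137536) (BT.leaf (nat_lit 50722569)) (BT.leaf (nat_lit 34904333)))))) (BT.node (nat_lit 11137984) (BT.node (nat_lit 11137728) (BT.node (nat_lit 11137602) (BT.node (nat_lit 11137600) (BT.leaf (nat_lit 803312)) (BT.leaf (nat_lit 35378465))) (BT.node (nat_lit 11137664) (BT.leaf (nat_lit 786604)) (BT.leaf (nat_lit 44466193)))) (BT.node (nat_lit 11137856) (BT.node (nat_lit 11137792) (BT.leaf (nat_lit 40310277)) (BT.leaf (nat_lit 43869973))) (BT.node (nat_lit 11137920) (BT.leaf (nat_lit 44153365)) (BT.leaf (nat_lit 44551449))))) (BT.node (nat_lit 11138240) (BT.node (nat_lit 11138112) (BT.node (nat_lit 11138048) (BT.leaf (nat_lit 39120909)) (BT.leaf (nat_lit 44551961))) (BT.node (nat_lit 11138176) (BT.leaf (nat_lit 46910497)) (BT.leaf (nat_lit 42221581)))) (BT.node (nat_lit 11138368) (BT.node (nat_lit 11138304) (BT.leaf (nat_lit 43923213)) (BT.leaf (nat_lit 31739665))) (BT.node (nat_lit 11138432) (BT.leaf (nat_lit 31739153)) (BT.leaf (nat_lit 51654677)))))))) (BT.node (nat_lit 11140608) (BT.node (nat_lit 11139456) (BT.node (nat_lit 11138944) (BT.node (nat_lit 11138688) (BT.node (nat_lit 11138624) (BT.node (nat_lit 11138560) (BT.leaf (nat_lit 34757905)) (BT.leaf (nat_lit 31738641))) (BT.node (nat_lit 11138626) (BT.leaf (nat_lit 31579925)) (BT.leaf (nat_lit 762468)))) (BT.node (nat_lit 11138816) (BT.node (nat_lit 11138752) (BT.leaf (nat_lit 38268425)) (BT.leaf (nat_lit 38268429))) (BT.node (nat_lit 11138880) (BT.leaf (nat_lit 38268441)) (BT.leaf (nat_lit 38268445))))) (BT.node (nat_lit 11139200) (BT.node (nat_lit 11139072) (BT.node (nat_lit 11139008) (BT.leaf (nat_lit 29454357)) (BT.leaf (nat_lit 39986693))) (BT.node (nat_lit 11139136) (BT.leaf (nat_lit 42662661)) (BT.leaf (nat_lit 39802121)))) (BT.node (nat_lit 11139328) (BT.node (nat_lit 11139264) (BT.leaf (nat_lit 31741969)) (BT.leaf (nat_lit 34759953))) (BT.node (nat_lit 11139392) (BT.leaf (nat_lit 31743769)) (BT.leaf (nat_lit 42648069)))))) (BT.node (nat_lit 11140096) (BT.node (nat_lit 11139712) (BT.node (nat_lit 11139584) (BT.node (nat_lit 11139520) (BT.leaf (nat_lit 31742481)) (BT.leaf (nat_lit 31742225))) (BT.node (nat_lit 11139648) (BT.leaf (nat_lit 31743505)) (BT.leaf (nat_lit 39185177)))) (BT.node (nat_lit 11139968) (BT.node (nat_lit 11139904) (BT.leaf (nat_lit 30396697)) (BT.leaf (nat_lit 43966225))) (BT.node (nat_lit 11140032) (BT.leaf (nat_lit 31597325)) (BT.leaf (nat_lit 44560909))))) (BT.node (nat_lit 11140352) (BT.node (nat_lit 11140224) (BT.node (nat_lit 11140160) (BT.leaf (nat_lit 41408289)) (BT.leaf (nat_lit 43816737))) (BT.node (nat_lit 11140288) (BT.leaf (nat_lit 31597589)) (BT.leaf (nat_lit 38728709)))) (BT.node (nat_lit 11140480) (BT.node (nat_lit 11140416) (BT.leaf (nat_lit 43353633)) (BT.leaf (nat_lit 38873093))) (BT.node (nat_lit 11140544) (BT.leaf (nat_lit 43818017)) (BT.leaf (nat_lit 43817761))))))) (BT.node (nat_lit 11141632) (BT.node (nat_lit 11141120) (BT.node (nat_lit 11140864) (BT.node (nat_lit 11140736) (BT.node (nat_lit 11140672) (BT.leaf (nat_lit 38521617)) (BT.leaf (nat_lit 44565017))) (BT.node (nat_lit 11140800) (BT.leaf (nat_lit 38521633)) (BT.leaf (nat_lit 42136337)))) (BT.node (nat_lit 11140992) (BT.node (nat_lit 11140928) (BT.leaf (nat_lit 38727173)) (BT.leaf (nat_lit 41281305))) (BT.node (nat_lit 11141056) (BT.leaf (nat_lit 30403093)) (BT.leaf (nat_lit 44559901))))) (BT.node (nat_lit 11141376) (BT.node (nat_lit 11141312) (BT.node (nat_lit 11141248) (BT.leaf (nat_lit 31597341)) (BT.leaf (nat_lit 31597321))) (BT.node (nat_lit 11141314) (BT.leaf (nat_lit 43958049)) (BT.leaf (nat_lit 715408)))) (BT.node (nat_lit 11141504) (BT.node (nat_lit 11141440) (BT.leaf (nat_lit 38938137)) (BT.leaf (nat_lit 38938141))) (BT.node (nat_lit 11141568) (BT.leaf (nat_lit 41410585)) (BT.leaf (nat_lit 41410589)))))) (BT.node (nat_lit 11142082) (BT.node (nat_lit 11141888) (BT.node (nat_lit 11141760) (BT.node (nat_lit 11141696) (BT.leaf (nat_lit 31784197)) (BT.leaf (nat_lit 31784209))) (BT.node (nat_lit 11141824) (BT.leaf (nat_lit 31784217)) (BT.leaf (nat_lit 31784221)))) (BT.node (nat_lit 11142016) (BT.node (nat_lit 11141952) (BT.leaf (nat_lit 31745293)) (BT.leaf (nat_lit 35517977))) (BT.node (nat_lit 11142080) (BT.leaf (nat_lit 31783961)) (BT.leaf (nat_lit 41800721))))) (BT.node (nat_lit 11142208) (BT.node (nat_lit 11142088) (BT.node (nat_lit 11142083) (BT.leaf (nat_lit 697468)) (BT.leaf (nat_lit 697468))) (BT.node (nat_lit 11142144) (BT.leaf (nat_lit 697468)) (BT.leaf (nat_lit 31784725)))) (BT.node (nat_lit 11142336) (BT.node (nat_lit 11142272) (BT.leaf (nat_lit 31745309)) (BT.leaf (nat_lit 34130461))) (BT.node (nat_lit 11142400) (BT.leaf (nat_lit 31783965)) (BT.leaf (nat_lit 31784469))))))))) (BT.node (nat_lit 11146688) (BT.node (nat_lit 11144448) (BT.node (nat_lit 11143424) (BT.node (nat_lit 11142912) (BT.node (nat_lit 11142659) (BT.node (nat_lit 11142592) (BT.node (nat_lit 11142528) (BT.leaf (nat_lit 31745305)) (BT.leaf (nat_lit 31745557))) (BT.node (nat_lit 11142656) (BT.leaf (nat_lit 39185433)) (BT.leaf (nat_lit 47856401)))) (BT.node (nat_lit 11142784) (BT.node (nat_lit 11142720) (BT.leaf (nat_lit 814524)) (BT.leaf (nat_lit 37046561))) (BT.node (nat_lit 11142848) (BT.leaf (nat_lit 30390805)) (BT.leaf (nat_lit 48903965))))) (BT.node (nat_lit 11143168) (BT.node (nat_lit 11143040) (BT.node (nat_lit 11142976) (BT.leaf (nat_lit 44567317)) (BT.leaf (nat_lit 37047057))) (BT.node (nat_lit 11143104) (BT.leaf (nat_lit 48903949)) (BT.leaf (nat_lit 37047073)))) (BT.node (nat_lit 11143296) (BT.node (nat_lit 11143232) (BT.leaf (nat_lit 49285141)) (BT.leaf (nat_lit 39070497))) (BT.node (nat_lit 11143360) (BT.leaf (nat_lit 44573469)) (BT.leaf (nat_lit 34391313)))))) (BT.node (nat_lit 11143936) (BT.node (nat_lit 11143680) (BT.node (nat_lit 11143552) (BT.node (nat_lit 11143488) (BT.leaf (nat_lit 49202705)) (BT.leaf (nat_lit 45262625))) (BT.node (nat_lit 11143616) (BT.leaf (nat_lit 45164057)) (BT.leaf (nat_lit 31749653)))) (BT.node (nat_lit 11143808) (BT.node (nat_lit 11143744) (BT.leaf (nat_lit 38302221)) (BT.leaf (nat_lit 44513285))) (BT.node (nat_lit 11143872) (BT.leaf (nat_lit 45161501)) (BT.leaf (nat_lit 32171289))))) (BT.node (nat_lit 11144192) (BT.node (nat_lit 11144064) (BT.node (nat_lit 11144000) (BT.leaf (nat_lit 48798237)) (BT.leaf (nat_lit 31987233))) (BT.node (nat_lit 11144128) (BT.leaf (nat_lit 43538713)) (BT.leaf (nat_lit 43538717)))) (BT.node (nat_lit 11144320) (BT.node (nat_lit 11144256) (BT.leaf (nat_lit 44598041)) (BT.leaf (nat_lit 34765077))) (BT.node (nat_lit 11144384) (BT.leaf (nat_lit 44577565)) (BT.leaf (nat_lit 42618893))))))) (BT.node (nat_lit 11145600) (BT.node (nat_lit 11145024) (BT.node (nat_lit 11144768) (BT.node (nat_lit 11144576) (BT.node (nat_lit 11144512) (BT.leaf (nat_lit 39780897)) (BT.leaf (nat_lit 32119573))) (BT.node (nat_lit 11144704) (BT.leaf (nat_lit 31758613)) (BT.leaf (nat_lit 32120333)))) (BT.node (nat_lit 11144896) (BT.node (nat_lit 11144832) (BT.leaf (nat_lit 43146757)) (BT.leaf (nat_lit 38043421))) (BT.node (nat_lit 11144960) (BT.leaf (nat_lit 32456989)) (BT.leaf (nat_lit 35244573))))) (BT.node (nat_lit 11145344) (BT.node (nat_lit 11145152) (BT.node (nat_lit 11145088) (BT.leaf (nat_lit 39642909)) (BT.leaf (nat_lit 38460945))) (BT.node (nat_lit 11145280) (BT.leaf (nat_lit 38460949)) (BT.leaf (nat_lit 31753745)))) (BT.node (nat_lit 11145472) (BT.node (nat_lit 11145408) (BT.leaf (nat_lit 31753489)) (BT.leaf (nat_lit 41051653))) (BT.node (nat_lit 11145536) (BT.leaf (nat_lit 43178017)) (BT.leaf (nat_lit 40671001)))))) (BT.node (nat_lit 11145984) (BT.node (nat_lit 11145794) (BT.node (nat_lit 11145728) (BT.node (nat_lit 11145664) (BT.leaf (nat_lit 44314633)) (BT.leaf (nat_lit 44314637))) (BT.node (nat_lit 11145792) (BT.leaf (nat_lit 44314649)) (BT.leaf (nat_lit 44486165)))) (BT.node (nat_lit 11145856) (BT.node (nat_lit 11145795) (BT.leaf (nat_lit 701748)) (BT.leaf (nat_lit 701748))) (BT.node (nat_lit 11145920) (BT.leaf (nat_lit 43641121)) (BT.leaf (nat_lit 44908565))))) (BT.node (nat_lit 11146304) (BT.node (nat_lit 11146176) (BT.node (nat_lit 11146048) (BT.leaf (nat_lit 32040473)) (BT.leaf (nat_lit 48906765))) (BT.node (nat_lit 11146240) (BT.leaf (nat_lit 42756641)) (BT.leaf (nat_lit 43538189)))) (BT.node (nat_lit 11146496) (BT.node (nat_lit 11146368) (BT.leaf (nat_lit 31755781)) (BT.leaf (nat_lit 38934813))) (BT.node (nat_lit 11146560) (BT.leaf (nat_lit 43539725)) (BT.leaf (nat_lit 40291345)))))))) (BT.node (nat_lit 11148800) (BT.node (nat_lit 11147712) (BT.node (nat_lit 11147200) (BT.node (nat_lit 11146944) (BT.node (nat_lit 11146816) (BT.node (nat_lit 11146752) (BT.leaf (nat_lit 32116761)) (BT.leaf (nat_lit 44587293))) (BT.node (nat_lit 11146880) (BT.leaf (nat_lit 32116749)) (BT.leaf (nat_lit 33002785)))) (BT.node (nat_lit 11147072) (BT.node (nat_lit 11147008) (BT.leaf (nat_lit 46176261)) (BT.leaf (nat_lit 46176545))) (BT.node (nat_lit 11147136) (BT.leaf (nat_lit 32117785)) (BT.leaf (nat_lit 32117013))))) (BT.node (nat_lit 11147456) (BT.node (nat_lit 11147328) (BT.node (nat_lit 11147264) (BT.leaf (nat_lit 39322901)) (BT.leaf (nat_lit 44589341))) (BT.node (nat_lit 11147392) (BT.leaf (nat_lit 32117773)) (BT.leaf (nat_lit 40530949)))) (BT.node (nat_lit 11147584) (BT.node (nat_lit 11147520) (BT.leaf (nat_lit 41722389)) (BT.leaf (nat_lit 39984153))) (BT.node (nat_lit 11147648) (BT.leaf (nat_lit 39984157)) (BT.leaf (nat_lit 42477845)))))) (BT.node (nat_lit 11148288) (BT.node (nat_lit 11147968) (BT.node (nat_lit 11147840) (BT.node (nat_lit 11147776) (BT.leaf (nat_lit 48299033)) (BT.leaf (nat_lit 48299037))) (BT.node (nat_lit 11147904) (BT.leaf (nat_lit 35033873)) (BT.leaf (nat_lit 47343889)))) (BT.node (nat_lit 11148160) (BT.node (nat_lit 11148096) (BT.leaf (nat_lit 29131293)) (BT.leaf (nat_lit 48124945))) (BT.node (nat_lit 11148224) (BT.leaf (nat_lit 31757849)) (BT.leaf (nat_lit 31757329))))) (BT.node (nat_lit 11148544) (BT.node (nat_lit 11148416) (BT.node (nat_lit 11148352) (BT.leaf (nat_lit 44873497)) (BT.leaf (nat_lit 31758617))) (BT.node (nat_lit 11148480) (BT.leaf (nat_lit 44165153)) (BT.leaf (nat_lit 49089813)))) (BT.node (nat_lit 11148672) (BT.node (nat_lit 11148608) (BT.leaf (nat_lit 31751965)) (BT.leaf (nat_lit 30569245))) (BT.node (nat_lit 11148736) (BT.leaf (nat_lit 34953245)) (BT.leaf (nat_lit 47272977))))))) (BT.node (nat_lit 11149632) (BT.node (nat_lit 11149120) (BT.node (nat_lit 11148872) (BT.node (nat_lit 11148808) (BT.node (nat_lit 11148801) (BT.leaf (nat_lit 31751445)) (BT.leaf (nat_lit 777700))) (BT.node (nat_lit 11148864) (BT.leaf (nat_lit 777700)) (BT.leaf (nat_lit 34953225)))) (BT.node (nat_lit 11148992) (BT.node (nat_lit 11148928) (BT.leaf (nat_lit 777704)) (BT.leaf (nat_lit 33684497))) (BT.node (nat_lit 11149056) (BT.leaf (nat_lit 50881801)) (BT.leaf (nat_lit 45100809))))) (BT.node (nat_lit 11149376) (BT.node (nat_lit 11149248) (BT.node (nat_lit 11149184) (BT.leaf (nat_lit 32849689)) (BT.leaf (nat_lit 45079301))) (BT.node (nat_lit 11149312) (BT.leaf (nat_lit 40065561)) (BT.leaf (nat_lit 45101321)))) (BT.node (nat_lit 11149504) (BT.node (nat_lit 11149440) (BT.leaf (nat_lit 48501269)) (BT.leaf (nat_lit 31758101))) (BT.node (nat_lit 11149568) (BT.leaf (nat_lit 42618889)) (BT.leaf (nat_lit 42618897)))))) (BT.node (nat_lit 11150022) (BT.node (nat_lit 11149888) (BT.node (nat_lit 11149760) (BT.node (nat_lit 11149696) (BT.leaf (nat_lit 42618913)) (BT.leaf (nat_lit 32120861))) (BT.node (nat_lit 11149824) (BT.leaf (nat_lit 46310161)) (BT.leaf (nat_lit 46310177)))) (BT.node (nat_lit 11149960) (BT.node (nat_lit 11149952) (BT.leaf (nat_lit 39569425)) (BT.leaf (nat_lit 32119581))) (BT.node (nat_lit 11150016) (BT.leaf (nat_lit 704412)) (BT.leaf (nat_lit 29042197))))) (BT.node (nat_lit 11150211) (BT.node (nat_lit 11150144) (BT.node (nat_lit 11150080) (BT.leaf (nat_lit 706568)) (BT.leaf (nat_lit 38241293))) (BT.node (nat_lit 11150208) (BT.leaf (nat_lit 40973585)) (BT.leaf (nat_lit 40973601)))) (BT.node (nat_lit 11150272) (BT.node (nat_lit 11150215) (BT.leaf (nat_lit 704408)) (BT.leaf (nat_lit 704408))) (BT.node (nat_lit 11150336) (BT.leaf (nat_lit 45577493)) (BT.leaf (nat_lit 44332821)))))))))) (BT.node (nat_lit 11157632) (BT.node (nat_lit 11153856) (BT.node (nat_lit 11152448) (BT.node (nat_lit 11151424) (BT.node (nat_lit 11150912) (BT.node (nat_lit 11150656) (BT.node (nat_lit 11150528) (BT.node (nat_lit 11150464) (BT.leaf (nat_lit 34771989)) (BT.leaf (nat_lit 43762437))) (BT.node (nat_lit 11150592) (BT.leaf (nat_lit 32110089)) (BT.leaf (nat_lit 44195593)))) (BT.node (nat_lit 11150784) (BT.node (nat_lit 11150720) (BT.leaf (nat_lit 44600845)) (BT.leaf (nat_lit 38699017))) (BT.node (nat_lit 11150848) (BT.leaf (nat_lit 38699021)) (BT.leaf (nat_lit 31760917))))) (BT.node (nat_lit 11151168) (BT.node (nat_lit 11151040) (BT.node (nat_lit 11150976) (BT.leaf (nat_lit 37950481)) (BT.leaf (nat_lit 37950485))) (BT.node (nat_lit 11151104) (BT.leaf (nat_lit 31761169)) (BT.leaf (nat_lit 41526805)))) (BT.node (nat_lit 11151296) (BT.node (nat_lit 11151232) (BT.leaf (nat_lit 40170009)) (BT.leaf (nat_lit 40170013))) (BT.node (nat_lit 11151360) (BT.leaf (nat_lit 40319765)) (BT.leaf (nat_lit 48917781)))))) (BT.node (nat_lit 11151936) (BT.node (nat_lit 11151680) (BT.node (nat_lit 11151552) (BT.node (nat_lit 11151488) (BT.leaf (nat_lit 31762969)) (BT.leaf (nat_lit 42088721))) (BT.node (nat_lit 11151616) (BT.leaf (nat_lit 31585041)) (BT.leaf (nat_lit 31764241)))) (BT.node (nat_lit 11151808) (BT.node (nat_lit 11151744) (BT.leaf (nat_lit 41344533)) (BT.leaf (nat_lit 32880665))) (BT.node (nat_lit 11151872) (BT.leaf (nat_lit 32880669)) (BT.leaf (nat_lit 28920849))))) (BT.node (nat_lit 11152192) (BT.node (nat_lit 11152064) (BT.node (nat_lit 11152000) (BT.leaf (nat_lit 31766301)) (BT.leaf (nat_lit 42904585))) (BT.node (nat_lit 11152128) (BT.leaf (nat_lit 42252565)) (BT.leaf (nat_lit 31767065)))) (BT.node (nat_lit 11152320) (BT.node (nat_lit 11152256) (BT.leaf (nat_lit 29056785)) (BT.leaf (nat_lit 31768337))) (BT.node (nat_lit 11152384) (BT.leaf (nat_lit 32800277)) (BT.leaf (nat_lit 32800285))))))) (BT.node (nat_lit 11153025) (BT.node (nat_lit 11152648) (BT.node (nat_lit 11152576) (BT.node (nat_lit 11152513) (BT.node (nat_lit 11152512) (BT.leaf (nat_lit 31773461)) (BT.leaf (nat_lit 32854025))) (BT.node (nat_lit 11152517) (BT.leaf (nat_lit 813832)) (BT.leaf (nat_lit 813832)))) (BT.node (nat_lit 11152582) (BT.node (nat_lit 11152581) (BT.leaf (nat_lit 32854029)) (BT.leaf (nat_lit 813836))) (BT.node (nat_lit 11152640) (BT.leaf (nat_lit 813836)) (BT.leaf (nat_lit 43732485))))) (BT.node (nat_lit 11152832) (BT.node (nat_lit 11152768) (BT.node (nat_lit 11152704) (BT.leaf (nat_lit 813840)) (BT.leaf (nat_lit 32854041))) (BT.node (nat_lit 11152770) (BT.leaf (nat_lit 37878277)) (BT.leaf (nat_lit 697260)))) (BT.node (nat_lit 11152960) (BT.node (nat_lit 11152896) (BT.leaf (nat_lit 51296281)) (BT.leaf (nat_lit 31773721))) (BT.node (nat_lit 11153024) (BT.leaf (nat_lit 31773977)) (BT.leaf (nat_lit 38282513)))))) (BT.node (nat_lit 11153408) (BT.node (nat_lit 11153152) (BT.node (nat_lit 11153089) (BT.node (nat_lit 11153088) (BT.leaf (nat_lit 813844)) (BT.leaf (nat_lit 43546381))) (BT.node (nat_lit 11153095) (BT.leaf (nat_lit 813848)) (BT.leaf (nat_lit 813848)))) (BT.node (nat_lit 11153280) (BT.node (nat_lit 11153216) (BT.leaf (nat_lit 31774237)) (BT.leaf (nat_lit 36186397))) (BT.node (nat_lit 11153344) (BT.leaf (nat_lit 31773725)) (BT.leaf (nat_lit 31773981))))) (BT.node (nat_lit 11153600) (BT.node (nat_lit 11153472) (BT.node (nat_lit 11153409) (BT.leaf (nat_lit 32861713)) (BT.leaf (nat_lit 697292))) (BT.node (nat_lit 11153536) (BT.leaf (nat_lit 31774233)) (BT.leaf (nat_lit 38062113)))) (BT.node (nat_lit 11153728) (BT.node (nat_lit 11153664) (BT.leaf (nat_lit 38061829)) (BT.leaf (nat_lit 49828637))) (BT.node (nat_lit 11153792) (BT.leaf (nat_lit 31775005)) (BT.leaf (nat_lit 31775261)))))))) (BT.node (nat_lit 11155648) (BT.node (nat_lit 11154624) (BT.node (nat_lit 11154240) (BT.node (nat_lit 11153984) (BT.node (nat_lit 11153862) (BT.node (nat_lit 11153859) (BT.leaf (nat_lit 41222421)) (BT.leaf (nat_lit 813872))) (BT.node (nat_lit 11153920) (BT.leaf (nat_lit 813872)) (BT.leaf (nat_lit 43265029)))) (BT.node (nat_lit 11154112) (BT.node (nat_lit 11154048) (BT.leaf (nat_lit 41205509)) (BT.leaf (nat_lit 43265541))) (BT.node (nat_lit 11154176) (BT.leaf (nat_lit 34781725)) (BT.leaf (nat_lit 31773717))))) (BT.node (nat_lit 11154496) (BT.node (nat_lit 11154368) (BT.node (nat_lit 11154304) (BT.leaf (nat_lit 44621589)) (BT.leaf (nat_lit 44627221))) (BT.node (nat_lit 11154432) (BT.leaf (nat_lit 30907925)) (BT.leaf (nat_lit 42085137)))) (BT.node (nat_lit 11154561) (BT.node (nat_lit 11154560) (BT.leaf (nat_lit 37878281)) (BT.leaf (nat_lit 44330505))) (BT.node (nat_lit 11154565) (BT.leaf (nat_lit 708828)) (BT.leaf (nat_lit 708828)))))) (BT.node (nat_lit 11155200) (BT.node (nat_lit 11154944) (BT.node (nat_lit 11154752) (BT.node (nat_lit 11154688) (BT.leaf (nat_lit 44631817)) (BT.leaf (nat_lit 32178449))) (BT.node (nat_lit 11154816) (BT.leaf (nat_lit 39839005)) (BT.leaf (nat_lit 46210825)))) (BT.node (nat_lit 11155072) (BT.node (nat_lit 11155008) (BT.leaf (nat_lit 38060805)) (BT.leaf (nat_lit 31777553))) (BT.node (nat_lit 11155136) (BT.leaf (nat_lit 48260357)) (BT.leaf (nat_lit 28624657))))) (BT.node (nat_lit 11155392) (BT.node (nat_lit 11155264) (BT.node (nat_lit 11155203) (BT.leaf (nat_lit 45638669)) (BT.leaf (nat_lit 719160))) (BT.node (nat_lit 11155328) (BT.leaf (nat_lit 40356897)) (BT.leaf (nat_lit 39625229)))) (BT.node (nat_lit 11155520) (BT.node (nat_lit 11155456) (BT.leaf (nat_lit 31931657)) (BT.leaf (nat_lit 39876617))) (BT.node (nat_lit 11155584) (BT.leaf (nat_lit 39625225)) (BT.leaf (nat_lit 39096345))))))) (BT.node (nat_lit 11156672) (BT.node (nat_lit 11156160) (BT.node (nat_lit 11155904) (BT.node (nat_lit 11155776) (BT.node (nat_lit 11155712) (BT.leaf (nat_lit 39096349)) (BT.leaf (nat_lit 43475725))) (BT.node (nat_lit 11155840) (BT.leaf (nat_lit 39625221)) (BT.leaf (nat_lit 44623645)))) (BT.node (nat_lit 11156032) (BT.node (nat_lit 11155968) (BT.leaf (nat_lit 39271701)) (BT.leaf (nat_lit 31931665))) (BT.node (nat_lit 11156096) (BT.leaf (nat_lit 31931669)) (BT.leaf (nat_lit 43475741))))) (BT.node (nat_lit 11156416) (BT.node (nat_lit 11156288) (BT.node (nat_lit 11156224) (BT.leaf (nat_lit 36975901)) (BT.leaf (nat_lit 37878289))) (BT.node (nat_lit 11156352) (BT.leaf (nat_lit 34781721)) (BT.leaf (nat_lit 43475737)))) (BT.node (nat_lit 11156544) (BT.node (nat_lit 11156480) (BT.leaf (nat_lit 31778577)) (BT.leaf (nat_lit 32417301))) (BT.node (nat_lit 11156608) (BT.leaf (nat_lit 32417305)) (BT.leaf (nat_lit 32417309)))))) (BT.node (nat_lit 11157120) (BT.node (nat_lit 11156928) (BT.node (nat_lit 11156800) (BT.node (nat_lit 11156736) (BT.leaf (nat_lit 31777809)) (BT.leaf (nat_lit 31777813))) (BT.node (nat_lit 11156864) (BT.leaf (nat_lit 48925465)) (BT.leaf (nat_lit 48407073)))) (BT.node (nat_lit 11157000) (BT.node (nat_lit 11156996) (BT.leaf (nat_lit 43265037)) (BT.leaf (nat_lit 701424))) (BT.node (nat_lit 11157056) (BT.leaf (nat_lit 701424)) (BT.leaf (nat_lit 32724761))))) (BT.node (nat_lit 11157376) (BT.node (nat_lit 11157248) (BT.node (nat_lit 11157184) (BT.leaf (nat_lit 31778073)) (BT.leaf (nat_lit 31778329))) (BT.node (nat_lit 11157312) (BT.leaf (nat_lit 40356881)) (BT.leaf (nat_lit 36976413)))) (BT.node (nat_lit 11157504) (BT.node (nat_lit 11157440) (BT.leaf (nat_lit 31778077)) (BT.leaf (nat_lit 31778333))) (BT.node (nat_lit 11157568) (BT.leaf (nat_lit 39255569)) (BT.leaf (nat_lit 50876173))))))))) (BT.node (nat_lit 11161088) (BT.node (nat_lit 11159488) (BT.node (nat_lit 11158342) (BT.node (nat_lit 11158016) (BT.node (nat_lit 11157767) (BT.node (nat_lit 11157760) (BT.node (nat_lit 11157696) (BT.leaf (nat_lit 39838993)) (BT.leaf (nat_lit 39838729))) (BT.node (nat_lit 11157766) (BT.leaf (nat_lit 47730181)) (BT.leaf (nat_lit 717176)))) (BT.node (nat_lit 11157888) (BT.node (nat_lit 11157824) (BT.leaf (nat_lit 717176)) (BT.leaf (nat_lit 39838725))) (BT.node (nat_lit 11157952) (BT.leaf (nat_lit 45361425)) (BT.leaf (nat_lit 45361429))))) (BT.node (nat_lit 11158144) (BT.node (nat_lit 11158019) (BT.node (nat_lit 11158018) (BT.leaf (nat_lit 49595157)) (BT.leaf (nat_lit 717168))) (BT.node (nat_lit 11158080) (BT.leaf (nat_lit 717168)) (BT.leaf (nat_lit 38058269)))) (BT.node (nat_lit 11158272) (BT.node (nat_lit 11158208) (BT.leaf (nat_lit 31778845)) (BT.leaf (nat_lit 41201941))) (BT.node (nat_lit 11158336) (BT.leaf (nat_lit 35842325)) (BT.leaf (nat_lit 32720917)))))) (BT.node (nat_lit 11158976) (BT.node (nat_lit 11158592) (BT.node (nat_lit 11158464) (BT.node (nat_lit 11158400) (BT.leaf (nat_lit 770696)) (BT.leaf (nat_lit 40452881))) (BT.node (nat_lit 11158528) (BT.leaf (nat_lit 41202197)) (BT.leaf (nat_lit 41202205)))) (BT.node (nat_lit 11158848) (BT.node (nat_lit 11158656) (BT.leaf (nat_lit 41221909)) (BT.leaf (nat_lit 44329245))) (BT.node (nat_lit 11158912) (BT.leaf (nat_lit 33529617)) (BT.leaf (nat_lit 34785045))))) (BT.node (nat_lit 11159232) (BT.node (nat_lit 11159104) (BT.node (nat_lit 11159040) (BT.leaf (nat_lit 32892941)) (BT.leaf (nat_lit 34781973))) (BT.node (nat_lit 11159168) (BT.leaf (nat_lit 32892953)) (BT.leaf (nat_lit 32892957)))) (BT.node (nat_lit 11159360) (BT.node (nat_lit 11159296) (BT.leaf (nat_lit 30314261)) (BT.leaf (nat_lit 31784465))) (BT.node (nat_lit 11159424) (BT.leaf (nat_lit 44647177)) (BT.leaf (nat_lit 45428997))))))) (BT.node (nat_lit 11160133) (BT.node (nat_lit 11159872) (BT.node (nat_lit 11159744) (BT.node (nat_lit 11159616) (BT.node (nat_lit 11159552) (BT.leaf (nat_lit 31784721)) (BT.leaf (nat_lit 40238601))) (BT.node (nat_lit 11159680) (BT.leaf (nat_lit 31792393)) (BT.leaf (nat_lit 44343065)))) (BT.node (nat_lit 11159752) (BT.node (nat_lit 11159745) (BT.leaf (nat_lit 44650777)) (BT.leaf (nat_lit 704064))) (BT.node (nat_lit 11159808) (BT.leaf (nat_lit 704064)) (BT.leaf (nat_lit 44300821))))) (BT.node (nat_lit 11160000) (BT.node (nat_lit 11159880) (BT.node (nat_lit 11159873) (BT.leaf (nat_lit 44639773)) (BT.leaf (nat_lit 704048))) (BT.node (nat_lit 11159936) (BT.leaf (nat_lit 704048)) (BT.leaf (nat_lit 41100549)))) (BT.node (nat_lit 11160128) (BT.node (nat_lit 11160064) (BT.leaf (nat_lit 31790345)) (BT.leaf (nat_lit 44300825))) (BT.node (nat_lit 11160132) (BT.leaf (nat_lit 44300829)) (BT.leaf (nat_lit 705024)))))) (BT.node (nat_lit 11160576) (BT.node (nat_lit 11160320) (BT.node (nat_lit 11160192) (BT.node (nat_lit 11160136) (BT.leaf (nat_lit 705024)) (BT.leaf (nat_lit 705024))) (BT.node (nat_lit 11160256) (BT.leaf (nat_lit 40347141)) (BT.leaf (nat_lit 34969365)))) (BT.node (nat_lit 11160448) (BT.node (nat_lit 11160384) (BT.leaf (nat_lit 34969621)) (BT.leaf (nat_lit 45141525))) (BT.node (nat_lit 11160512) (BT.leaf (nat_lit 48954657)) (BT.leaf (nat_lit 32156437))))) (BT.node (nat_lit 11160832) (BT.node (nat_lit 11160704) (BT.node (nat_lit 11160640) (BT.leaf (nat_lit 32157469)) (BT.leaf (nat_lit 31787029))) (BT.node (nat_lit 11160768) (BT.leaf (nat_lit 45145365)) (BT.leaf (nat_lit 43050517)))) (BT.node (nat_lit 11160960) (BT.node (nat_lit 11160896) (BT.leaf (nat_lit 32157709)) (BT.leaf (nat_lit 32156189))) (BT.node (nat_lit 11161024) (BT.leaf (nat_lit 34969109)) (BT.leaf (nat_lit 29427477)))))))) (BT.node (nat_lit 11162568) (BT.node (nat_lit 11162048) (BT.node (nat_lit 11161600) (BT.node (nat_lit 11161344) (BT.node (nat_lit 11161216) (BT.node (nat_lit 11161152) (BT.leaf (nat_lit 31787285)) (BT.leaf (nat_lit 47454997))) (BT.node (nat_lit 11161280) (BT.leaf (nat_lit 32158477)) (BT.leaf (nat_lit 29427741)))) (BT.node (nat_lit 11161472) (BT.node (nat_lit 11161408) (BT.leaf (nat_lit 28838933)) (BT.leaf (nat_lit 42775321))) (BT.node (nat_lit 11161536) (BT.leaf (nat_lit 42775325)) (BT.leaf (nat_lit 31788569))))) (BT.node (nat_lit 11161856) (BT.node (nat_lit 11161728) (BT.node (nat_lit 11161664) (BT.leaf (nat_lit 44300309)) (BT.leaf (nat_lit 44603917))) (BT.node (nat_lit 11161792) (BT.leaf (nat_lit 31788817)) (BT.leaf (nat_lit 43501849)))) (BT.node (nat_lit 11161927) (BT.node (nat_lit 11161920) (BT.leaf (nat_lit 43501853)) (BT.leaf (nat_lit 37897733))) (BT.node (nat_lit 11161984) (BT.leaf (nat_lit 698960)) (BT.leaf (nat_lit 31789833)))))) (BT.node (nat_lit 11162304) (BT.node (nat_lit 11162176) (BT.node (nat_lit 11162052) (BT.node (nat_lit 11162049) (BT.leaf (nat_lit 36358661)) (BT.leaf (nat_lit 807608))) (BT.node (nat_lit 11162112) (BT.leaf (nat_lit 807608)) (BT.leaf (nat_lit 31790349)))) (BT.node (nat_lit 11162243) (BT.node (nat_lit 11162240) (BT.leaf (nat_lit 50213125)) (BT.leaf (nat_lit 32624145))) (BT.node (nat_lit 11162248) (BT.leaf (nat_lit 773664)) (BT.leaf (nat_lit 773664))))) (BT.node (nat_lit 11162432) (BT.node (nat_lit 11162369) (BT.node (nat_lit 11162368) (BT.leaf (nat_lit 31789593)) (BT.leaf (nat_lit 37148185))) (BT.node (nat_lit 11162371) (BT.leaf (nat_lit 715108)) (BT.leaf (nat_lit 715108)))) (BT.node (nat_lit 11162560) (BT.node (nat_lit 11162496) (BT.leaf (nat_lit 44649489)) (BT.leaf (nat_lit 31790613))) (BT.node (nat_lit 11162561) (BT.leaf (nat_lit 44343069)) (BT.leaf (nat_lit 704056))))))) (BT.node (nat_lit 11163584) (BT.node (nat_lit 11163072) (BT.node (nat_lit 11162816) (BT.node (nat_lit 11162688) (BT.node (nat_lit 11162624) (BT.leaf (nat_lit 704056)) (BT.leaf (nat_lit 36256277))) (BT.node (nat_lit 11162752) (BT.leaf (nat_lit 42813957)) (BT.leaf (nat_lit 48480789)))) (BT.node (nat_lit 11162944) (BT.node (nat_lit 11162880) (BT.leaf (nat_lit 28950293)) (BT.leaf (nat_lit 44639765))) (BT.node (nat_lit 11163008) (BT.leaf (nat_lit 44783137)) (BT.leaf (nat_lit 32236305))))) (BT.node (nat_lit 11163328) (BT.node (nat_lit 11163200) (BT.node (nat_lit 11163136) (BT.leaf (nat_lit 31593229)) (BT.leaf (nat_lit 48931861))) (BT.node (nat_lit 11163264) (BT.leaf (nat_lit 32236321)) (BT.leaf (nat_lit 38819349)))) (BT.node (nat_lit 11163456) (BT.node (nat_lit 11163392) (BT.leaf (nat_lit 31791633)) (BT.leaf (nat_lit 38965785))) (BT.node (nat_lit 11163520) (BT.leaf (nat_lit 38965789)) (BT.leaf (nat_lit 44658457)))))) (BT.node (nat_lit 11164096) (BT.node (nat_lit 11163840) (BT.node (nat_lit 11163712) (BT.node (nat_lit 11163648) (BT.leaf (nat_lit 44657941)) (BT.leaf (nat_lit 31803409))) (BT.node (nat_lit 11163776) (BT.leaf (nat_lit 48931357)) (BT.leaf (nat_lit 31803425)))) (BT.node (nat_lit 11163968) (BT.node (nat_lit 11163904) (BT.leaf (nat_lit 42508821)) (BT.leaf (nat_lit 31791649))) (BT.node (nat_lit 11164032) (BT.leaf (nat_lit 44570637)) (BT.leaf (nat_lit 50749465))))) (BT.node (nat_lit 11164352) (BT.node (nat_lit 11164224) (BT.node (nat_lit 11164160) (BT.leaf (nat_lit 40392981)) (BT.leaf (nat_lit 43214869))) (BT.node (nat_lit 11164288) (BT.leaf (nat_lit 47913489)) (BT.leaf (nat_lit 46033433)))) (BT.node (nat_lit 11164480) (BT.node (nat_lit 11164416) (BT.leaf (nat_lit 28949013)) (BT.leaf (nat_lit 48932117))) (BT.node (nat_lit 11164544) (BT.leaf (nat_lit 31593245)) (BT.leaf (nat_lit 31802129))))))))))) (BT.node (nat_lit 11180672) (BT.node (nat_lit 11172736) (BT.node (nat_lit 11168640) (BT.node (nat_lit 11166592) (BT.node (nat_lit 11165568) (BT.node (nat_lit 11165056) (BT.node (nat_lit 11164800) (BT.node (nat_lit 11164736) (BT.node (nat_lit 11164672) (BT.leaf (nat_lit 31593225)) (BT.leaf (nat_lit 31802145))) (BT.node (nat_lit 11164741) (BT.leaf (nat_lit 43848993)) (BT.leaf (nat_lit 697868)))) (BT.node (nat_lit 11164928) (BT.node (nat_lit 11164864) (BT.leaf (nat_lit 48805137)) (BT.leaf (nat_lit 38963737))) (BT.node (nat_lit 11164992) (BT.leaf (nat_lit 40382241)) (BT.leaf (nat_lit 42750489))))) (BT.node (nat_lit 11165312) (BT.node (nat_lit 11165184) (BT.node (nat_lit 11165120) (BT.leaf (nat_lit 42750493)) (BT.leaf (nat_lit 40383009))) (BT.node (nat_lit 11165248) (BT.leaf (nat_lit 38962961)) (BT.leaf (nat_lit 43720737)))) (BT.node (nat_lit 11165440) (BT.node (nat_lit 11165376) (BT.leaf (nat_lit 34788881)) (BT.leaf (nat_lit 32145421))) (BT.node (nat_lit 11165504) (BT.leaf (nat_lit 42160649)) (BT.leaf (nat_lit 42732569)))))) (BT.node (nat_lit 11166080) (BT.node (nat_lit 11165824) (BT.node (nat_lit 11165696) (BT.node (nat_lit 11165632) (BT.leaf (nat_lit 42732573)) (BT.leaf (nat_lit 49195545))) (BT.node (nat_lit 11165760) (BT.leaf (nat_lit 29812505)) (BT.leaf (nat_lit 42513433)))) (BT.node (nat_lit 11165952) (BT.node (nat_lit 11165888) (BT.leaf (nat_lit 28843025)) (BT.leaf (nat_lit 44568329))) (BT.node (nat_lit 11166016) (BT.leaf (nat_lit 42742553)) (BT.leaf (nat_lit 42742557))))) (BT.node (nat_lit 11166336) (BT.node (nat_lit 11166208) (BT.node (nat_lit 11166144) (BT.leaf (nat_lit 40235269)) (BT.leaf (nat_lit 31795737))) (BT.node (nat_lit 11166272) (BT.leaf (nat_lit 48933149)) (BT.leaf (nat_lit 40235281)))) (BT.node (nat_lit 11166464) (BT.node (nat_lit 11166400) (BT.leaf (nat_lit 43362069)) (BT.leaf (nat_lit 39608081))) (BT.node (nat_lit 11166528) (BT.leaf (nat_lit 32157981)) (BT.leaf (nat_lit 48162577))))))) (BT.node (nat_lit 11167616) (BT.node (nat_lit 11167104) (BT.node (nat_lit 11166848) (BT.node (nat_lit 11166720) (BT.node (nat_lit 11166656) (BT.leaf (nat_lit 28955929)) (BT.leaf (nat_lit 31800601))) (BT.node (nat_lit 11166784) (BT.leaf (nat_lit 45517585)) (BT.leaf (nat_lit 32157453)))) (BT.node (nat_lit 11166976) (BT.node (nat_lit 11166912) (BT.leaf (nat_lit 28982549)) (BT.leaf (nat_lit 31793693))) (BT.node (nat_lit 11167040) (BT.leaf (nat_lit 31800605)) (BT.leaf (nat_lit 42308369))))) (BT.node (nat_lit 11167360) (BT.node (nat_lit 11167232) (BT.node (nat_lit 11167168) (BT.leaf (nat_lit 32156445)) (BT.leaf (nat_lit 42308385))) (BT.node (nat_lit 11167296) (BT.leaf (nat_lit 50798097)) (BT.leaf (nat_lit 37630225)))) (BT.node (nat_lit 11167488) (BT.node (nat_lit 11167424) (BT.leaf (nat_lit 38302485)) (BT.leaf (nat_lit 47910673))) (BT.node (nat_lit 11167552) (BT.leaf (nat_lit 44669721)) (BT.leaf (nat_lit 38302497)))))) (BT.node (nat_lit 11168128) (BT.node (nat_lit 11167872) (BT.node (nat_lit 11167744) (BT.node (nat_lit 11167680) (BT.leaf (nat_lit 28958489)) (BT.leaf (nat_lit 41199885))) (BT.node (nat_lit 11167808) (BT.leaf (nat_lit 44643865)) (BT.leaf (nat_lit 31802397)))) (BT.node (nat_lit 11168000) (BT.node (nat_lit 11167936) (BT.leaf (nat_lit 32944901)) (BT.leaf (nat_lit 32591129))) (BT.node (nat_lit 11168064) (BT.leaf (nat_lit 32591133)) (BT.leaf (nat_lit 43953169))))) (BT.node (nat_lit 11168384) (BT.node (nat_lit 11168256) (BT.node (nat_lit 11168192) (BT.leaf (nat_lit 31805717)) (BT.leaf (nat_lit 47784217))) (BT.node (nat_lit 11168320) (BT.leaf (nat_lit 47784221)) (BT.leaf (nat_lit 31809813)))) (BT.node (nat_lit 11168512) (BT.node (nat_lit 11168448) (BT.leaf (nat_lit 43396117)) (BT.leaf (nat_lit 40414233))) (BT.node (nat_lit 11168576) (BT.leaf (nat_lit 49232397)) (BT.leaf (nat_lit 42616849)))))))) (BT.node (nat_lit 11170688) (BT.node (nat_lit 11169664) (BT.node (nat_lit 11169152) (BT.node (nat_lit 11168896) (BT.node (nat_lit 11168768) (BT.node (nat_lit 11168704) (BT.leaf (nat_lit 42891797)) (BT.leaf (nat_lit 35215373))) (BT.node (nat_lit 11168832) (BT.leaf (nat_lit 32928033)) (BT.leaf (nat_lit 32927777)))) (BT.node (nat_lit 11169024) (BT.node (nat_lit 11168960) (BT.leaf (nat_lit 31811869)) (BT.leaf (nat_lit 31590429))) (BT.node (nat_lit 11169088) (BT.leaf (nat_lit 38121489)) (BT.leaf (nat_lit 38121493))))) (BT.node (nat_lit 11169408) (BT.node (nat_lit 11169280) (BT.node (nat_lit 11169216) (BT.leaf (nat_lit 44197129)) (BT.leaf (nat_lit 32381205))) (BT.node (nat_lit 11169344) (BT.leaf (nat_lit 32146701)) (BT.leaf (nat_lit 37859089)))) (BT.node (nat_lit 11169536) (BT.node (nat_lit 11169472) (BT.leaf (nat_lit 38094105)) (BT.leaf (nat_lit 38332681))) (BT.node (nat_lit 11169600) (BT.leaf (nat_lit 38093841)) (BT.leaf (nat_lit 46781457)))))) (BT.node (nat_lit 11170176) (BT.node (nat_lit 11169920) (BT.node (nat_lit 11169792) (BT.node (nat_lit 11169728) (BT.leaf (nat_lit 45142537)) (BT.leaf (nat_lit 31096593))) (BT.node (nat_lit 11169856) (BT.leaf (nat_lit 39348245)) (BT.leaf (nat_lit 39348249)))) (BT.node (nat_lit 11170048) (BT.node (nat_lit 11169984) (BT.leaf (nat_lit 39348253)) (BT.leaf (nat_lit 31816977))) (BT.node (nat_lit 11170112) (BT.leaf (nat_lit 31816465)) (BT.leaf (nat_lit 32252185))))) (BT.node (nat_lit 11170432) (BT.node (nat_lit 11170304) (BT.node (nat_lit 11170240) (BT.leaf (nat_lit 31819793)) (BT.leaf (nat_lit 31819537))) (BT.node (nat_lit 11170368) (BT.leaf (nat_lit 39347993)) (BT.leaf (nat_lit 39347997)))) (BT.node (nat_lit 11170560) (BT.node (nat_lit 11170496) (BT.leaf (nat_lit 28850449)) (BT.leaf (nat_lit 47182873))) (BT.node (nat_lit 11170624) (BT.leaf (nat_lit 31819545)) (BT.leaf (nat_lit 31820821))))))) (BT.node (nat_lit 11171712) (BT.node (nat_lit 11171136) (BT.node (nat_lit 11170944) (BT.node (nat_lit 11170816) (BT.node (nat_lit 11170752) (BT.leaf (nat_lit 41478669)) (BT.leaf (nat_lit 32373525))) (BT.node (nat_lit 11170880) (BT.leaf (nat_lit 32373537)) (BT.leaf (nat_lit 31820565)))) (BT.node (nat_lit 11171009) (BT.node (nat_lit 11171008) (BT.leaf (nat_lit 48593165)) (BT.leaf (nat_lit 32370721))) (BT.node (nat_lit 11171072) (BT.leaf (nat_lit 770896)) (BT.leaf (nat_lit 48593177))))) (BT.node (nat_lit 11171392) (BT.node (nat_lit 11171264) (BT.node (nat_lit 11171200) (BT.leaf (nat_lit 48593185)) (BT.leaf (nat_lit 40212001))) (BT.node (nat_lit 11171328) (BT.leaf (nat_lit 42826501)) (BT.leaf (nat_lit 41458457)))) (BT.node (nat_lit 11171520) (BT.node (nat_lit 11171456) (BT.leaf (nat_lit 41458461)) (BT.leaf (nat_lit 38099977))) (BT.node (nat_lit 11171648) (BT.leaf (nat_lit 40211741)) (BT.leaf (nat_lit 39790357)))))) (BT.node (nat_lit 11172224) (BT.node (nat_lit 11171968) (BT.node (nat_lit 11171840) (BT.node (nat_lit 11171776) (BT.leaf (nat_lit 45317893)) (BT.leaf (nat_lit 38742809))) (BT.node (nat_lit 11171904) (BT.leaf (nat_lit 45317917)) (BT.leaf (nat_lit 46536213)))) (BT.node (nat_lit 11172096) (BT.node (nat_lit 11172032) (BT.leaf (nat_lit 49289221)) (BT.leaf (nat_lit 31825673))) (BT.node (nat_lit 11172160) (BT.leaf (nat_lit 49289237)) (BT.leaf (nat_lit 31826709))))) (BT.node (nat_lit 11172480) (BT.node (nat_lit 11172352) (BT.node (nat_lit 11172288) (BT.leaf (nat_lit 49289245)) (BT.leaf (nat_lit 44687625))) (BT.node (nat_lit 11172416) (BT.leaf (nat_lit 45317641)) (BT.leaf (nat_lit 45688837)))) (BT.node (nat_lit 11172608) (BT.node (nat_lit 11172544) (BT.leaf (nat_lit 46278169)) (BT.leaf (nat_lit 32570401))) (BT.node (nat_lit 11172672) (BT.leaf (nat_lit 34967829)) (BT.leaf (nat_lit 33895441))))))))) (BT.node (nat_lit 11176768) (BT.node (nat_lit 11174784) (BT.node (nat_lit 11173632) (BT.node (nat_lit 11173120) (BT.node (nat_lit 11172992) (BT.node (nat_lit 11172864) (BT.node (nat_lit 11172800) (BT.leaf (nat_lit 46278173)) (BT.leaf (nat_lit 38099981))) (BT.node (nat_lit 11172928) (BT.leaf (nat_lit 44338189)) (BT.leaf (nat_lit 39875865)))) (BT.node (nat_lit 11173062) (BT.node (nat_lit 11173056) (BT.leaf (nat_lit 39875869)) (BT.leaf (nat_lit 30692877))) (BT.node (nat_lit 11173063) (BT.leaf (nat_lit 749064)) (BT.leaf (nat_lit 749064))))) (BT.node (nat_lit 11173376) (BT.node (nat_lit 11173248) (BT.node (nat_lit 11173184) (BT.leaf (nat_lit 50133013)) (BT.leaf (nat_lit 49319193))) (BT.node (nat_lit 11173312) (BT.leaf (nat_lit 31830293)) (BT.leaf (nat_lit 34800393)))) (BT.node (nat_lit 11173504) (BT.node (nat_lit 11173440) (BT.leaf (nat_lit 44693273)) (BT.leaf (nat_lit 31830545))) (BT.node (nat_lit 11173568) (BT.leaf (nat_lit 41067785)) (BT.leaf (nat_lit 41067789)))))) (BT.node (nat_lit 11174208) (BT.node (nat_lit 11173952) (BT.node (nat_lit 11173824) (BT.node (nat_lit 11173760) (BT.leaf (nat_lit 31831829)) (BT.leaf (nat_lit 41070597))) (BT.node (nat_lit 11173888) (BT.leaf (nat_lit 31834913)) (BT.leaf (nat_lit 31832081)))) (BT.node (nat_lit 11174080) (BT.node (nat_lit 11174016) (BT.leaf (nat_lit 40578841)) (BT.leaf (nat_lit 40578845))) (BT.node (nat_lit 11174144) (BT.leaf (nat_lit 32275461)) (BT.leaf (nat_lit 43487249))))) (BT.node (nat_lit 11174528) (BT.node (nat_lit 11174400) (BT.node (nat_lit 11174336) (BT.leaf (nat_lit 43487253)) (BT.leaf (nat_lit 48405517))) (BT.node (nat_lit 11174464) (BT.leaf (nat_lit 31833869)) (BT.leaf (nat_lit 39101209)))) (BT.node (nat_lit 11174656) (BT.node (nat_lit 11174592) (BT.leaf (nat_lit 31830037)) (BT.leaf (nat_lit 49317641))) (BT.node (nat_lit 11174720) (BT.leaf (nat_lit 31833865)) (BT.leaf (nat_lit 31589397))))))) (BT.node (nat_lit 11175808) (BT.node (nat_lit 11175296) (BT.node (nat_lit 11175040) (BT.node (nat_lit 11174912) (BT.node (nat_lit 11174848) (BT.leaf (nat_lit 50133021)) (BT.leaf (nat_lit 42222861))) (BT.node (nat_lit 11174976) (BT.leaf (nat_lit 48961805)) (BT.leaf (nat_lit 49317661)))) (BT.node (nat_lit 11175168) (BT.node (nat_lit 11175104) (BT.leaf (nat_lit 42497045)) (BT.leaf (nat_lit 42222873))) (BT.node (nat_lit 11175232) (BT.leaf (nat_lit 34886409)) (BT.leaf (nat_lit 47490573))))) (BT.node (nat_lit 11175552) (BT.node (nat_lit 11175424) (BT.node (nat_lit 11175360) (BT.leaf (nat_lit 34886425)) (BT.leaf (nat_lit 47490589))) (BT.node (nat_lit 11175488) (BT.leaf (nat_lit 31839505)) (BT.leaf (nat_lit 31839249)))) (BT.node (nat_lit 11175680) (BT.node (nat_lit 11175616) (BT.leaf (nat_lit 48989205)) (BT.leaf (nat_lit 48815381))) (BT.node (nat_lit 11175744) (BT.leaf (nat_lit 46308613)) (BT.leaf (nat_lit 32631837)))))) (BT.node (nat_lit 11176257) (BT.node (nat_lit 11176064) (BT.node (nat_lit 11175936) (BT.node (nat_lit 11175872) (BT.leaf (nat_lit 31861769)) (BT.leaf (nat_lit 44309277))) (BT.node (nat_lit 11176000) (BT.leaf (nat_lit 38017297)) (BT.leaf (nat_lit 32806925)))) (BT.node (nat_lit 11176192) (BT.node (nat_lit 11176128) (BT.leaf (nat_lit 42319377)) (BT.leaf (nat_lit 42319381))) (BT.node (nat_lit 11176256) (BT.leaf (nat_lit 32321285)) (BT.leaf (nat_lit 32321569))))) (BT.node (nat_lit 11176512) (BT.node (nat_lit 11176384) (BT.node (nat_lit 11176320) (BT.leaf (nat_lit 770284)) (BT.leaf (nat_lit 32321301))) (BT.node (nat_lit 11176448) (BT.leaf (nat_lit 28394265)) (BT.leaf (nat_lit 49009689)))) (BT.node (nat_lit 11176640) (BT.node (nat_lit 11176576) (BT.leaf (nat_lit 36202269)) (BT.leaf (nat_lit 45995013))) (BT.node (nat_lit 11176704) (BT.leaf (nat_lit 31844113)) (BT.leaf (nat_lit 44760085)))))))) (BT.node (nat_lit 11178944) (BT.node (nat_lit 11177856) (BT.node (nat_lit 11177280) (BT.node (nat_lit 11177024) (BT.node (nat_lit 11176896) (BT.node (nat_lit 11176832) (BT.leaf (nat_lit 45995037)) (BT.leaf (nat_lit 31843857))) (BT.node (nat_lit 11176960) (BT.leaf (nat_lit 41240353)) (BT.leaf (nat_lit 31844129)))) (BT.node (nat_lit 11177152) (BT.node (nat_lit 11177088) (BT.leaf (nat_lit 31844385)) (BT.leaf (nat_lit 41241633))) (BT.node (nat_lit 11177216) (BT.leaf (nat_lit 32655109)) (BT.leaf (nat_lit 31889417))))) (BT.node (nat_lit 11177600) (BT.node (nat_lit 11177472) (BT.node (nat_lit 11177344) (BT.leaf (nat_lit 44756489)) (BT.leaf (nat_lit 44219917))) (BT.node (nat_lit 11177536) (BT.leaf (nat_lit 44710173)) (BT.leaf (nat_lit 51829765)))) (BT.node (nat_lit 11177728) (BT.node (nat_lit 11177664) (BT.leaf (nat_lit 31178017)) (BT.leaf (nat_lit 31846165))) (BT.node (nat_lit 11177792) (BT.leaf (nat_lit 32671253)) (BT.leaf (nat_lit 38472725)))))) (BT.node (nat_lit 11178432) (BT.node (nat_lit 11178240) (BT.node (nat_lit 11177984) (BT.node (nat_lit 11177920) (BT.leaf (nat_lit 31846169)) (BT.leaf (nat_lit 29455389))) (BT.node (nat_lit 11178176) (BT.leaf (nat_lit 38494725)) (BT.leaf (nat_lit 29455385)))) (BT.node (nat_lit 11178312) (BT.node (nat_lit 11178304) (BT.leaf (nat_lit 31846929)) (BT.leaf (nat_lit 31640849))) (BT.node (nat_lit 11178368) (BT.leaf (nat_lit 819304)) (BT.leaf (nat_lit 31846673))))) (BT.node (nat_lit 11178688) (BT.node (nat_lit 11178560) (BT.node (nat_lit 11178496) (BT.leaf (nat_lit 32671257)) (BT.leaf (nat_lit 32671261))) (BT.node (nat_lit 11178624) (BT.leaf (nat_lit 31846417)) (BT.leaf (nat_lit 39207685)))) (BT.node (nat_lit 11178816) (BT.node (nat_lit 11178752) (BT.leaf (nat_lit 31848985)) (BT.leaf (nat_lit 31849241))) (BT.node (nat_lit 11178880) (BT.leaf (nat_lit 44291857)) (BT.leaf (nat_lit 39207701))))))) (BT.node (nat_lit 11179840) (BT.node (nat_lit 11179456) (BT.node (nat_lit 11179200) (BT.node (nat_lit 11179072) (BT.node (nat_lit 11179008) (BT.leaf (nat_lit 32761109)) (BT.leaf (nat_lit 44357665))) (BT.node (nat_lit 11179136) (BT.leaf (nat_lit 31825697)) (BT.leaf (nat_lit 44688161)))) (BT.node (nat_lit 11179328) (BT.node (nat_lit 11179264) (BT.leaf (nat_lit 49194529)) (BT.leaf (nat_lit 39225117))) (BT.node (nat_lit 11179392) (BT.leaf (nat_lit 45957381)) (BT.leaf (nat_lit 29468189))))) (BT.node (nat_lit 11179584) (BT.node (nat_lit 11179463) (BT.node (nat_lit 11179462) (BT.leaf (nat_lit 31853841)) (BT.leaf (nat_lit 795548))) (BT.node (nat_lit 11179520) (BT.leaf (nat_lit 754620)) (BT.leaf (nat_lit 31853585)))) (BT.node (nat_lit 11179712) (BT.node (nat_lit 11179648) (BT.leaf (nat_lit 44718089)) (BT.leaf (nat_lit 52301577))) (BT.node (nat_lit 11179776) (BT.leaf (nat_lit 41877017)) (BT.leaf (nat_lit 49007901)))))) (BT.node (nat_lit 11180352) (BT.node (nat_lit 11180032) (BT.node (nat_lit 11179904) (BT.node (nat_lit 11179846) (BT.leaf (nat_lit 48182285)) (BT.leaf (nat_lit 775476))) (BT.node (nat_lit 11179968) (BT.leaf (nat_lit 41279493)) (BT.leaf (nat_lit 34815509)))) (BT.node (nat_lit 11180224) (BT.node (nat_lit 11180096) (BT.leaf (nat_lit 41285913)) (BT.leaf (nat_lit 38974225))) (BT.node (nat_lit 11180288) (BT.leaf (nat_lit 51695885)) (BT.leaf (nat_lit 39253009))))) (BT.node (nat_lit 11180423) (BT.node (nat_lit 11180417) (BT.node (nat_lit 11180416) (BT.leaf (nat_lit 29490717)) (BT.leaf (nat_lit 34815001))) (BT.node (nat_lit 11180419) (BT.leaf (nat_lit 793712)) (BT.leaf (nat_lit 793712)))) (BT.node (nat_lit 11180544) (BT.node (nat_lit 11180480) (BT.leaf (nat_lit 793712)) (BT.leaf (nat_lit 31855385))) (BT.node (nat_lit 11180608) (BT.leaf (nat_lit 31856397)) (BT.leaf (nat_lit 43060249)))))))))) (BT.node (nat_lit 11188936) (BT.node (nat_lit 11184768) (BT.node (nat_lit 11182784) (BT.node (nat_lit 11181760) (BT.node (nat_lit 11181312) (BT.node (nat_lit 11180992) (BT.node (nat_lit 11180864) (BT.node (nat_lit 11180800) (BT.leaf (nat_lit 31856393)) (BT.leaf (nat_lit 30615573))) (BT.node (nat_lit 11180928) (BT.leaf (nat_lit 47310089)) (BT.leaf (nat_lit 39488777)))) (BT.node (nat_lit 11181184) (BT.node (nat_lit 11181120) (BT.leaf (nat_lit 47239457)) (BT.leaf (nat_lit 31857937))) (BT.node (nat_lit 11181248) (BT.leaf (nat_lit 39301153)) (BT.leaf (nat_lit 44783881))))) (BT.node (nat_lit 11181504) (BT.node (nat_lit 11181376) (BT.node (nat_lit 11181314) (BT.leaf (nat_lit 31356437)) (BT.leaf (nat_lit 760108))) (BT.node (nat_lit 11181440) (BT.leaf (nat_lit 43059977)) (BT.leaf (nat_lit 46303253)))) (BT.node (nat_lit 11181632) (BT.node (nat_lit 11181568) (BT.leaf (nat_lit 31860237)) (BT.leaf (nat_lit 41387285))) (BT.node (nat_lit 11181696) (BT.leaf (nat_lit 31861525)) (BT.leaf (nat_lit 31860233)))))) (BT.node (nat_lit 11182272) (BT.node (nat_lit 11182016) (BT.node (nat_lit 11181888) (BT.node (nat_lit 11181824) (BT.leaf (nat_lit 31901449)) (BT.leaf (nat_lit 31603745))) (BT.node (nat_lit 11181952) (BT.leaf (nat_lit 41392913)) (BT.leaf (nat_lit 44701721)))) (BT.node (nat_lit 11182144) (BT.node (nat_lit 11182080) (BT.leaf (nat_lit 41270561)) (BT.leaf (nat_lit 42385169))) (BT.node (nat_lit 11182208) (BT.leaf (nat_lit 44370189)) (BT.leaf (nat_lit 34256665))))) (BT.node (nat_lit 11182535) (BT.node (nat_lit 11182400) (BT.node (nat_lit 11182336) (BT.leaf (nat_lit 31860769)) (BT.leaf (nat_lit 31860997))) (BT.node (nat_lit 11182534) (BT.leaf (nat_lit 31861269)) (BT.leaf (nat_lit 716224)))) (BT.node (nat_lit 11182656) (BT.node (nat_lit 11182592) (BT.leaf (nat_lit 716224)) (BT.leaf (nat_lit 32631813))) (BT.node (nat_lit 11182720) (BT.leaf (nat_lit 44731913)) (BT.leaf (nat_lit 31867669))))))) (BT.node (nat_lit 11183744) (BT.node (nat_lit 11183296) (BT.node (nat_lit 11183040) (BT.node (nat_lit 11182912) (BT.node (nat_lit 11182848) (BT.leaf (nat_lit 44730905)) (BT.leaf (nat_lit 35766305))) (BT.node (nat_lit 11182976) (BT.leaf (nat_lit 44732941)) (BT.leaf (nat_lit 28839449)))) (BT.node (nat_lit 11183168) (BT.node (nat_lit 11183104) (BT.leaf (nat_lit 44730893)) (BT.leaf (nat_lit 35766561))) (BT.node (nat_lit 11183232) (BT.leaf (nat_lit 44732957)) (BT.leaf (nat_lit 34918933))))) (BT.node (nat_lit 11183552) (BT.node (nat_lit 11183424) (BT.node (nat_lit 11183360) (BT.leaf (nat_lit 44647709)) (BT.leaf (nat_lit 49751581))) (BT.node (nat_lit 11183488) (BT.leaf (nat_lit 33786629)) (BT.leaf (nat_lit 52178201)))) (BT.node (nat_lit 11183621) (BT.node (nat_lit 11183616) (BT.leaf (nat_lit 32536337)) (BT.leaf (nat_lit 37148169))) (BT.node (nat_lit 11183680) (BT.leaf (nat_lit 715100)) (BT.leaf (nat_lit 31866117)))))) (BT.node (nat_lit 11184256) (BT.node (nat_lit 11184000) (BT.node (nat_lit 11183872) (BT.node (nat_lit 11183808) (BT.leaf (nat_lit 41235221)) (BT.leaf (nat_lit 45765893))) (BT.node (nat_lit 11183936) (BT.leaf (nat_lit 31865361)) (BT.leaf (nat_lit 41314577)))) (BT.node (nat_lit 11184128) (BT.node (nat_lit 11184064) (BT.leaf (nat_lit 45765913)) (BT.leaf (nat_lit 45765917))) (BT.node (nat_lit 11184192) (BT.leaf (nat_lit 31866641)) (BT.leaf (nat_lit 31867413))))) (BT.node (nat_lit 11184512) (BT.node (nat_lit 11184384) (BT.node (nat_lit 11184320) (BT.leaf (nat_lit 41100565)) (BT.leaf (nat_lit 46898709))) (BT.node (nat_lit 11184448) (BT.leaf (nat_lit 40194073)) (BT.leaf (nat_lit 32957713)))) (BT.node (nat_lit 11184640) (BT.node (nat_lit 11184576) (BT.leaf (nat_lit 44781581)) (BT.leaf (nat_lit 31868693))) (BT.node (nat_lit 11184704) (BT.leaf (nat_lit 42312721)) (BT.leaf (nat_lit 44782089)))))))) (BT.node (nat_lit 11186816) (BT.node (nat_lit 11185856) (BT.node (nat_lit 11185344) (BT.node (nat_lit 11185088) (BT.node (nat_lit 11184960) (BT.node (nat_lit 11184896) (BT.leaf (nat_lit 31869461)) (BT.leaf (nat_lit 31498005))) (BT.node (nat_lit 11185024) (BT.leaf (nat_lit 34818837)) (BT.leaf (nat_lit 39309061)))) (BT.node (nat_lit 11185216) (BT.node (nat_lit 11185152) (BT.leaf (nat_lit 46001941)) (BT.leaf (nat_lit 42682889))) (BT.node (nat_lit 11185280) (BT.leaf (nat_lit 46158613)) (BT.leaf (nat_lit 44741405))))) (BT.node (nat_lit 11185600) (BT.node (nat_lit 11185472) (BT.node (nat_lit 11185408) (BT.leaf (nat_lit 44293153)) (BT.leaf (nat_lit 47382037))) (BT.node (nat_lit 11185536) (BT.leaf (nat_lit 31878661)) (BT.leaf (nat_lit 49034269)))) (BT.node (nat_lit 11185728) (BT.node (nat_lit 11185664) (BT.leaf (nat_lit 28635157)) (BT.leaf (nat_lit 46158621))) (BT.node (nat_lit 11185792) (BT.leaf (nat_lit 31873045)) (BT.leaf (nat_lit 41338401)))))) (BT.node (nat_lit 11186368) (BT.node (nat_lit 11186112) (BT.node (nat_lit 11185984) (BT.node (nat_lit 11185920) (BT.leaf (nat_lit 41338657)) (BT.leaf (nat_lit 34820885))) (BT.node (nat_lit 11186048) (BT.leaf (nat_lit 41339425)) (BT.leaf (nat_lit 41339169)))) (BT.node (nat_lit 11186240) (BT.node (nat_lit 11186176) (BT.leaf (nat_lit 31873309)) (BT.leaf (nat_lit 31873565))) (BT.node (nat_lit 11186304) (BT.leaf (nat_lit 41433613)) (BT.leaf (nat_lit 41331717))))) (BT.node (nat_lit 11186624) (BT.node (nat_lit 11186496) (BT.node (nat_lit 11186432) (BT.leaf (nat_lit 39728917)) (BT.leaf (nat_lit 46085921))) (BT.node (nat_lit 11186560) (BT.leaf (nat_lit 40006677)) (BT.leaf (nat_lit 41815557)))) (BT.node (nat_lit 11186752) (BT.node (nat_lit 11186688) (BT.leaf (nat_lit 46785297)) (BT.leaf (nat_lit 28262417))) (BT.node (nat_lit 11186754) (BT.leaf (nat_lit 29271573)) (BT.leaf (nat_lit 740320))))))) (BT.node (nat_lit 11187904) (BT.node (nat_lit 11187328) (BT.node (nat_lit 11187072) (BT.node (nat_lit 11186944) (BT.node (nat_lit 11186880) (BT.leaf (nat_lit 39123465)) (BT.leaf (nat_lit 43132437))) (BT.node (nat_lit 11187008) (BT.leaf (nat_lit 40304657)) (BT.leaf (nat_lit 34845465)))) (BT.node (nat_lit 11187200) (BT.node (nat_lit 11187136) (BT.leaf (nat_lit 42838801)) (BT.leaf (nat_lit 45413921))) (BT.node (nat_lit 11187264) (BT.leaf (nat_lit 40710917)) (BT.leaf (nat_lit 43131921))))) (BT.node (nat_lit 11187584) (BT.node (nat_lit 11187456) (BT.node (nat_lit 11187392) (BT.leaf (nat_lit 38514465)) (BT.leaf (nat_lit 41819653))) (BT.node (nat_lit 11187520) (BT.leaf (nat_lit 30707989)) (BT.leaf (nat_lit 42240517)))) (BT.node (nat_lit 11187712) (BT.node (nat_lit 11187648) (BT.leaf (nat_lit 41370645)) (BT.leaf (nat_lit 30227993))) (BT.node (nat_lit 11187776) (BT.leaf (nat_lit 41871121)) (BT.leaf (nat_lit 45689365)))))) (BT.node (nat_lit 11188480) (BT.node (nat_lit 11188160) (BT.node (nat_lit 11188032) (BT.node (nat_lit 11187968) (BT.leaf (nat_lit 40911125)) (BT.leaf (nat_lit 42838301))) (BT.node (nat_lit 11188096) (BT.leaf (nat_lit 31878929)) (BT.leaf (nat_lit 28257561)))) (BT.node (nat_lit 11188288) (BT.node (nat_lit 11188224) (BT.leaf (nat_lit 32321033)) (BT.leaf (nat_lit 32320533))) (BT.node (nat_lit 11188352) (BT.leaf (nat_lit 31883537)) (BT.leaf (nat_lit 31883025))))) (BT.node (nat_lit 11188736) (BT.node (nat_lit 11188608) (BT.node (nat_lit 11188544) (BT.leaf (nat_lit 43545373)) (BT.leaf (nat_lit 38539017))) (BT.node (nat_lit 11188672) (BT.leaf (nat_lit 48216333)) (BT.leaf (nat_lit 31882261)))) (BT.node (nat_lit 11188864) (BT.node (nat_lit 11188800) (BT.leaf (nat_lit 38539041)) (BT.leaf (nat_lit 31886869))) (BT.node (nat_lit 11188928) (BT.leaf (nat_lit 34823189)) (BT.leaf (nat_lit 31890201))))))))) (BT.node (nat_lit 11193024) (BT.node (nat_lit 11191104) (BT.node (nat_lit 11189952) (BT.node (nat_lit 11189440) (BT.node (nat_lit 11189184) (BT.node (nat_lit 11189056) (BT.node (nat_lit 11188992) (BT.leaf (nat_lit 798004)) (BT.leaf (nat_lit 49540613))) (BT.node (nat_lit 11189120) (BT.leaf (nat_lit 35293729)) (BT.leaf (nat_lit 32800773)))) (BT.node (nat_lit 11189312) (BT.node (nat_lit 11189248) (BT.leaf (nat_lit 41340705)) (BT.leaf (nat_lit 33475857))) (BT.node (nat_lit 11189376) (BT.leaf (nat_lit 46192409)) (BT.leaf (nat_lit 44980513))))) (BT.node (nat_lit 11189696) (BT.node (nat_lit 11189568) (BT.node (nat_lit 11189504) (BT.leaf (nat_lit 42883345)) (BT.leaf (nat_lit 43327001))) (BT.node (nat_lit 11189632) (BT.leaf (nat_lit 42883361)) (BT.leaf (nat_lit 40734477)))) (BT.node (nat_lit 11189824) (BT.node (nat_lit 11189760) (BT.leaf (nat_lit 31889697)) (BT.leaf (nat_lit 32654853))) (BT.node (nat_lit 11189888) (BT.leaf (nat_lit 40839201)) (BT.leaf (nat_lit 31873053)))))) (BT.node (nat_lit 11190528) (BT.node (nat_lit 11190208) (BT.node (nat_lit 11190080) (BT.node (nat_lit 11190016) (BT.leaf (nat_lit 31889677)) (BT.leaf (nat_lit 34202145))) (BT.node (nat_lit 11190144) (BT.leaf (nat_lit 31889673)) (BT.leaf (nat_lit 32652321)))) (BT.node (nat_lit 11190336) (BT.node (nat_lit 11190272) (BT.leaf (nat_lit 41341957)) (BT.leaf (nat_lit 31890205))) (BT.node (nat_lit 11190400) (BT.leaf (nat_lit 45819937)) (BT.leaf (nat_lit 32800785))))) (BT.node (nat_lit 11190848) (BT.node (nat_lit 11190720) (BT.node (nat_lit 11190592) (BT.leaf (nat_lit 49009929)) (BT.leaf (nat_lit 31887633))) (BT.node (nat_lit 11190784) (BT.leaf (nat_lit 39500565)) (BT.leaf (nat_lit 44762905)))) (BT.node (nat_lit 11190976) (BT.node (nat_lit 11190912) (BT.leaf (nat_lit 49037597)) (BT.leaf (nat_lit 28074521))) (BT.node (nat_lit 11191040) (BT.leaf (nat_lit 31891985)) (BT.leaf (nat_lit 41357089))))))) (BT.node (nat_lit 11192064) (BT.node (nat_lit 11191552) (BT.node (nat_lit 11191360) (BT.node (nat_lit 11191232) (BT.node (nat_lit 11191168) (BT.leaf (nat_lit 31892257)) (BT.leaf (nat_lit 41357857))) (BT.node (nat_lit 11191296) (BT.leaf (nat_lit 34840589)) (BT.leaf (nat_lit 44764953)))) (BT.node (nat_lit 11191429) (BT.node (nat_lit 11191424) (BT.leaf (nat_lit 31892497)) (BT.leaf (nat_lit 49652761))) (BT.node (nat_lit 11191488) (BT.leaf (nat_lit 718588)) (BT.leaf (nat_lit 49653525))))) (BT.node (nat_lit 11191808) (BT.node (nat_lit 11191680) (BT.node (nat_lit 11191616) (BT.leaf (nat_lit 37591301)) (BT.leaf (nat_lit 41359137))) (BT.node (nat_lit 11191744) (BT.leaf (nat_lit 38545169)) (BT.leaf (nat_lit 31893017)))) (BT.node (nat_lit 11191936) (BT.node (nat_lit 11191872) (BT.leaf (nat_lit 41360929)) (BT.leaf (nat_lit 41357333))) (BT.node (nat_lit 11192000) (BT.leaf (nat_lit 47504929)) (BT.leaf (nat_lit 47504673)))))) (BT.node (nat_lit 11192576) (BT.node (nat_lit 11192320) (BT.node (nat_lit 11192192) (BT.node (nat_lit 11192128) (BT.leaf (nat_lit 45459973)) (BT.leaf (nat_lit 31892241))) (BT.node (nat_lit 11192256) (BT.leaf (nat_lit 49619733)) (BT.leaf (nat_lit 32799765)))) (BT.node (nat_lit 11192448) (BT.node (nat_lit 11192384) (BT.leaf (nat_lit 49619741)) (BT.leaf (nat_lit 29512481))) (BT.node (nat_lit 11192512) (BT.leaf (nat_lit 45944597)) (BT.leaf (nat_lit 31893793))))) (BT.node (nat_lit 11192768) (BT.node (nat_lit 11192640) (BT.node (nat_lit 11192578) (BT.leaf (nat_lit 41363489)) (BT.leaf (nat_lit 808124))) (BT.node (nat_lit 11192704) (BT.leaf (nat_lit 31893537)) (BT.leaf (nat_lit 31894293)))) (BT.node (nat_lit 11192896) (BT.node (nat_lit 11192832) (BT.leaf (nat_lit 44764949)) (BT.leaf (nat_lit 39010577))) (BT.node (nat_lit 11192960) (BT.leaf (nat_lit 31894809)) (BT.leaf (nat_lit 51036677)))))))) (BT.node (nat_lit 11195200) (BT.node (nat_lit 11194112) (BT.node (nat_lit 11193600) (BT.node (nat_lit 11193344) (BT.node (nat_lit 11193152) (BT.node (nat_lit 11193088) (BT.leaf (nat_lit 39567121)) (BT.leaf (nat_lit 44800777))) (BT.node (nat_lit 11193216) (BT.leaf (nat_lit 31896837)) (BT.leaf (nat_lit 29513749)))) (BT.node (nat_lit 11193472) (BT.node (nat_lit 11193408) (BT.leaf (nat_lit 49654549)) (BT.leaf (nat_lit 41957641))) (BT.node (nat_lit 11193536) (BT.leaf (nat_lit 39508513)) (BT.leaf (nat_lit 44774429))))) (BT.node (nat_lit 11193856) (BT.node (nat_lit 11193728) (BT.node (nat_lit 11193664) (BT.leaf (nat_lit 38515469)) (BT.leaf (nat_lit 31695385))) (BT.node (nat_lit 11193792) (BT.leaf (nat_lit 44746501)) (BT.leaf (nat_lit 48866845)))) (BT.node (nat_lit 11193984) (BT.node (nat_lit 11193920) (BT.leaf (nat_lit 44747041)) (BT.leaf (nat_lit 43923461))) (BT.node (nat_lit 11194048) (BT.leaf (nat_lit 44279833)) (BT.leaf (nat_lit 47547413)))))) (BT.node (nat_lit 11194688) (BT.node (nat_lit 11194368) (BT.node (nat_lit 11194240) (BT.node (nat_lit 11194176) (BT.leaf (nat_lit 44704521)) (BT.leaf (nat_lit 40298773))) (BT.node (nat_lit 11194304) (BT.leaf (nat_lit 44776729)) (BT.leaf (nat_lit 46003981)))) (BT.node (nat_lit 11194496) (BT.node (nat_lit 11194432) (BT.leaf (nat_lit 32806425)) (BT.leaf (nat_lit 46727957))) (BT.node (nat_lit 11194560) (BT.leaf (nat_lit 44293125)) (BT.leaf (nat_lit 31555601))))) (BT.node (nat_lit 11194944) (BT.node (nat_lit 11194816) (BT.node (nat_lit 11194752) (BT.leaf (nat_lit 38016797)) (BT.leaf (nat_lit 39365133))) (BT.node (nat_lit 11194880) (BT.leaf (nat_lit 39365137)) (BT.leaf (nat_lit 40464929)))) (BT.node (nat_lit 11195072) (BT.node (nat_lit 11195008) (BT.leaf (nat_lit 44704025)) (BT.leaf (nat_lit 46002701))) (BT.node (nat_lit 11195136) (BT.leaf (nat_lit 41505545)) (BT.leaf (nat_lit 44498181))))))) (BT.node (nat_lit 11196224) (BT.node (nat_lit 11195648) (BT.node (nat_lit 11195392) (BT.node (nat_lit 11195264) (BT.node (nat_lit 11195206) (BT.leaf (nat_lit 32173581)) (BT.leaf (nat_lit 702488))) (BT.node (nat_lit 11195328) (BT.leaf (nat_lit 44730645)) (BT.leaf (nat_lit 34831125)))) (BT.node (nat_lit 11195520) (BT.node (nat_lit 11195456) (BT.leaf (nat_lit 41118753)) (BT.leaf (nat_lit 44701717))) (BT.node (nat_lit 11195584) (BT.leaf (nat_lit 31867925)) (BT.leaf (nat_lit 44738313))))) (BT.node (nat_lit 11195968) (BT.node (nat_lit 11195840) (BT.node (nat_lit 11195712) (BT.leaf (nat_lit 42813969)) (BT.leaf (nat_lit 31901717))) (BT.node (nat_lit 11195904) (BT.leaf (nat_lit 31903761)) (BT.leaf (nat_lit 32664085)))) (BT.node (nat_lit 11196032) (BT.node (nat_lit 11195976) (BT.leaf (nat_lit 45781001)) (BT.leaf (nat_lit 716084))) (BT.node (nat_lit 11196096) (BT.leaf (nat_lit 35785761)) (BT.leaf (nat_lit 45035021)))))) (BT.node (nat_lit 11196736) (BT.node (nat_lit 11196480) (BT.node (nat_lit 11196352) (BT.node (nat_lit 11196288) (BT.leaf (nat_lit 31904545)) (BT.leaf (nat_lit 29489697))) (BT.node (nat_lit 11196416) (BT.leaf (nat_lit 31904773)) (BT.leaf (nat_lit 45035033)))) (BT.node (nat_lit 11196608) (BT.node (nat_lit 11196544) (BT.leaf (nat_lit 38343953)) (BT.leaf (nat_lit 33806341))) (BT.node (nat_lit 11196672) (BT.leaf (nat_lit 32645381)) (BT.leaf (nat_lit 31866897))))) (BT.node (nat_lit 11196992) (BT.node (nat_lit 11196864) (BT.node (nat_lit 11196800) (BT.leaf (nat_lit 31904529)) (BT.leaf (nat_lit 41398801))) (BT.node (nat_lit 11196928) (BT.leaf (nat_lit 32645401)) (BT.leaf (nat_lit 32645405)))) (BT.node (nat_lit 11197120) (BT.node (nat_lit 11197056) (BT.leaf (nat_lit 31905553)) (BT.leaf (nat_lit 31866913))) (BT.node (nat_lit 11197184) (BT.leaf (nat_lit 37137949)) (BT.leaf (nat_lit 40349713)))))))))))) (BT.node (nat_lit 11230464) (BT.node (nat_lit 11213184) (BT.node (nat_lit 11204736) (BT.node (nat_lit 11201024) (BT.node (nat_lit 11199104) (BT.node (nat_lit 11198272) (BT.node (nat_lit 11197760) (BT.node (nat_lit 11197440) (BT.node (nat_lit 11197376) (BT.node (nat_lit 11197312) (BT.leaf (nat_lit 758340)) (BT.leaf (nat_lit 31907093))) (BT.node (nat_lit 11197377) (BT.leaf (nat_lit 27524889)) (BT.leaf (nat_lit 744544)))) (BT.node (nat_lit 11197632) (BT.node (nat_lit 11197568) (BT.leaf (nat_lit 31860253)) (BT.leaf (nat_lit 47880717))) (BT.node (nat_lit 11197696) (BT.leaf (nat_lit 43281437)) (BT.leaf (nat_lit 43004961))))) (BT.node (nat_lit 11198016) (BT.node (nat_lit 11197888) (BT.node (nat_lit 11197824) (BT.leaf (nat_lit 34835217)) (BT.leaf (nat_lit 40770849))) (BT.node (nat_lit 11197952) (BT.leaf (nat_lit 41383941)) (BT.leaf (nat_lit 31909381)))) (BT.node (nat_lit 11198144) (BT.node (nat_lit 11198080) (BT.leaf (nat_lit 30859805)) (BT.leaf (nat_lit 32420625))) (BT.node (nat_lit 11198208) (BT.leaf (nat_lit 30859785)) (BT.leaf (nat_lit 38002713)))))) (BT.node (nat_lit 11198592) (BT.node (nat_lit 11198466) (BT.node (nat_lit 11198400) (BT.node (nat_lit 11198336) (BT.leaf (nat_lit 31910161)) (BT.leaf (nat_lit 39430169))) (BT.node (nat_lit 11198464) (BT.leaf (nat_lit 45434629)) (BT.leaf (nat_lit 39373589)))) (BT.node (nat_lit 11198471) (BT.node (nat_lit 11198470) (BT.leaf (nat_lit 710500)) (BT.leaf (nat_lit 710500))) (BT.node (nat_lit 11198528) (BT.leaf (nat_lit 710500)) (BT.leaf (nat_lit 45434653))))) (BT.node (nat_lit 11198848) (BT.node (nat_lit 11198720) (BT.node (nat_lit 11198656) (BT.leaf (nat_lit 29534993)) (BT.leaf (nat_lit 48843793))) (BT.node (nat_lit 11198784) (BT.leaf (nat_lit 42474773)) (BT.leaf (nat_lit 31913245)))) (BT.node (nat_lit 11198976) (BT.node (nat_lit 11198912) (BT.leaf (nat_lit 30529821)) (BT.leaf (nat_lit 39677197))) (BT.node (nat_lit 11199040) (BT.leaf (nat_lit 39679237)) (BT.leaf (nat_lit 47769365))))))) (BT.node (nat_lit 11200064) (BT.node (nat_lit 11199616) (BT.node (nat_lit 11199360) (BT.node (nat_lit 11199232) (BT.node (nat_lit 11199168) (BT.leaf (nat_lit 40762121)) (BT.leaf (nat_lit 45029893))) (BT.node (nat_lit 11199296) (BT.leaf (nat_lit 41353237)) (BT.leaf (nat_lit 31873557)))) (BT.node (nat_lit 11199488) (BT.node (nat_lit 11199424) (BT.leaf (nat_lit 40837665)) (BT.leaf (nat_lit 42203653))) (BT.node (nat_lit 11199552) (BT.leaf (nat_lit 44741133)) (BT.leaf (nat_lit 48770577))))) (BT.node (nat_lit 11199808) (BT.node (nat_lit 11199683) (BT.node (nat_lit 11199680) (BT.leaf (nat_lit 47350029)) (BT.leaf (nat_lit 39728661))) (BT.node (nat_lit 11199744) (BT.leaf (nat_lit 818804)) (BT.leaf (nat_lit 38486289)))) (BT.node (nat_lit 11199936) (BT.node (nat_lit 11199872) (BT.leaf (nat_lit 46000929)) (BT.leaf (nat_lit 34839825))) (BT.node (nat_lit 11200000) (BT.leaf (nat_lit 51369237)) (BT.leaf (nat_lit 47653653)))))) (BT.node (nat_lit 11200384) (BT.node (nat_lit 11200133) (BT.node (nat_lit 11200130) (BT.node (nat_lit 11200128) (BT.leaf (nat_lit 32477713)) (BT.leaf (nat_lit 44800797))) (BT.node (nat_lit 11200131) (BT.leaf (nat_lit 705596)) (BT.leaf (nat_lit 705596)))) (BT.node (nat_lit 11200256) (BT.node (nat_lit 11200192) (BT.leaf (nat_lit 705596)) (BT.leaf (nat_lit 45574917))) (BT.node (nat_lit 11200320) (BT.leaf (nat_lit 31892757)) (BT.leaf (nat_lit 31894549))))) (BT.node (nat_lit 11200768) (BT.node (nat_lit 11200640) (BT.node (nat_lit 11200512) (BT.leaf (nat_lit 38144269)) (BT.leaf (nat_lit 38144273))) (BT.node (nat_lit 11200704) (BT.leaf (nat_lit 48132637)) (BT.leaf (nat_lit 44804105)))) (BT.node (nat_lit 11200896) (BT.node (nat_lit 11200832) (BT.leaf (nat_lit 40721417)) (BT.leaf (nat_lit 31919121))) (BT.node (nat_lit 11200960) (BT.leaf (nat_lit 31893281)) (BT.leaf (nat_lit 47498777)))))))) (BT.node (nat_lit 11202880) (BT.node (nat_lit 11201985) (BT.node (nat_lit 11201536) (BT.node (nat_lit 11201280) (BT.node (nat_lit 11201152) (BT.node (nat_lit 11201088) (BT.leaf (nat_lit 40720657)) (BT.leaf (nat_lit 31922453))) (BT.node (nat_lit 11201216) (BT.leaf (nat_lit 31919377)) (BT.leaf (nat_lit 43319829)))) (BT.node (nat_lit 11201408) (BT.node (nat_lit 11201344) (BT.leaf (nat_lit 37607173)) (BT.leaf (nat_lit 32866833))) (BT.node (nat_lit 11201472) (BT.leaf (nat_lit 41445393)) (BT.leaf (nat_lit 41445397))))) (BT.node (nat_lit 11201792) (BT.node (nat_lit 11201664) (BT.node (nat_lit 11201600) (BT.leaf (nat_lit 31920153)) (BT.leaf (nat_lit 41445921))) (BT.node (nat_lit 11201728) (BT.leaf (nat_lit 31893265)) (BT.leaf (nat_lit 47541537)))) (BT.node (nat_lit 11201920) (BT.node (nat_lit 11201856) (BT.leaf (nat_lit 47541281)) (BT.leaf (nat_lit 45975061))) (BT.node (nat_lit 11201984) (BT.leaf (nat_lit 31919633)) (BT.leaf (nat_lit 32799501)))))) (BT.node (nat_lit 11202368) (BT.node (nat_lit 11202112) (BT.node (nat_lit 11201992) (BT.node (nat_lit 11201988) (BT.leaf (nat_lit 718584)) (BT.leaf (nat_lit 718584))) (BT.node (nat_lit 11202048) (BT.leaf (nat_lit 718584)) (BT.leaf (nat_lit 45971213)))) (BT.node (nat_lit 11202240) (BT.node (nat_lit 11202176) (BT.leaf (nat_lit 32758805)) (BT.leaf (nat_lit 29557281))) (BT.node (nat_lit 11202304) (BT.leaf (nat_lit 32783381)) (BT.leaf (nat_lit 31920405))))) (BT.node (nat_lit 11202624) (BT.node (nat_lit 11202496) (BT.node (nat_lit 11202432) (BT.leaf (nat_lit 31920661)) (BT.leaf (nat_lit 41447969))) (BT.node (nat_lit 11202560) (BT.leaf (nat_lit 31922193)) (BT.leaf (nat_lit 31842065)))) (BT.node (nat_lit 11202752) (BT.node (nat_lit 11202688) (BT.leaf (nat_lit 31921937)) (BT.leaf (nat_lit 39918101))) (BT.node (nat_lit 11202816) (BT.leaf (nat_lit 39918109)) (BT.leaf (nat_lit 31921681))))))) (BT.node (nat_lit 11203712) (BT.node (nat_lit 11203392) (BT.node (nat_lit 11203136) (BT.node (nat_lit 11203008) (BT.node (nat_lit 11202944) (BT.leaf (nat_lit 31921685)) (BT.leaf (nat_lit 31889689))) (BT.node (nat_lit 11203072) (BT.leaf (nat_lit 43880461)) (BT.leaf (nat_lit 41590033)))) (BT.node (nat_lit 11203264) (BT.node (nat_lit 11203200) (BT.leaf (nat_lit 43880481)) (BT.leaf (nat_lit 41450529))) (BT.node (nat_lit 11203328) (BT.leaf (nat_lit 45072929)) (BT.leaf (nat_lit 39508249))))) (BT.node (nat_lit 11203463) (BT.node (nat_lit 11203456) (BT.node (nat_lit 11203399) (BT.leaf (nat_lit 51061521)) (BT.leaf (nat_lit 700268))) (BT.node (nat_lit 11203462) (BT.leaf (nat_lit 34843409)) (BT.leaf (nat_lit 736868)))) (BT.node (nat_lit 11203584) (BT.node (nat_lit 11203520) (BT.leaf (nat_lit 736868)) (BT.leaf (nat_lit 38404889))) (BT.node (nat_lit 11203648) (BT.leaf (nat_lit 38404893)) (BT.leaf (nat_lit 40321049)))))) (BT.node (nat_lit 11204224) (BT.node (nat_lit 11203968) (BT.node (nat_lit 11203840) (BT.node (nat_lit 11203776) (BT.leaf (nat_lit 41139733)) (BT.leaf (nat_lit 49033761))) (BT.node (nat_lit 11203904) (BT.leaf (nat_lit 40321053)) (BT.leaf (nat_lit 44079633)))) (BT.node (nat_lit 11204096) (BT.node (nat_lit 11204032) (BT.leaf (nat_lit 43508765)) (BT.leaf (nat_lit 38456353))) (BT.node (nat_lit 11204160) (BT.leaf (nat_lit 44291341)) (BT.leaf (nat_lit 38456341))))) (BT.node (nat_lit 11204480) (BT.node (nat_lit 11204352) (BT.node (nat_lit 11204288) (BT.leaf (nat_lit 44813597)) (BT.leaf (nat_lit 51727121))) (BT.node (nat_lit 11204416) (BT.leaf (nat_lit 45152545)) (BT.leaf (nat_lit 42838549)))) (BT.node (nat_lit 11204608) (BT.node (nat_lit 11204544) (BT.leaf (nat_lit 45152009)) (BT.leaf (nat_lit 39711749))) (BT.node (nat_lit 11204672) (BT.leaf (nat_lit 50072325)) (BT.leaf (nat_lit 30823193))))))))) (BT.node (nat_lit 11208640) (BT.node (nat_lit 11206720) (BT.node (nat_lit 11205760) (BT.node (nat_lit 11205248) (BT.node (nat_lit 11204992) (BT.node (nat_lit 11204864) (BT.node (nat_lit 11204800) (BT.leaf (nat_lit 31924765)) (BT.leaf (nat_lit 30539549))) (BT.node (nat_lit 11204928) (BT.leaf (nat_lit 43308833)) (BT.leaf (nat_lit 39756825)))) (BT.node (nat_lit 11205120) (BT.node (nat_lit 11205056) (BT.leaf (nat_lit 38169873)) (BT.leaf (nat_lit 31841813))) (BT.node (nat_lit 11205184) (BT.leaf (nat_lit 48971541)) (BT.leaf (nat_lit 38169889))))) (BT.node (nat_lit 11205504) (BT.node (nat_lit 11205376) (BT.node (nat_lit 11205312) (BT.leaf (nat_lit 31927825)) (BT.leaf (nat_lit 31841809))) (BT.node (nat_lit 11205440) (BT.leaf (nat_lit 31929361)) (BT.leaf (nat_lit 40717085)))) (BT.node (nat_lit 11205632) (BT.node (nat_lit 11205568) (BT.leaf (nat_lit 45648645)) (BT.leaf (nat_lit 45325345))) (BT.node (nat_lit 11205696) (BT.leaf (nat_lit 43232801)) (BT.leaf (nat_lit 31932177)))))) (BT.node (nat_lit 11206272) (BT.node (nat_lit 11206016) (BT.node (nat_lit 11205888) (BT.node (nat_lit 11205824) (BT.leaf (nat_lit 27395601)) (BT.leaf (nat_lit 40937761))) (BT.node (nat_lit 11205952) (BT.leaf (nat_lit 48265505)) (BT.leaf (nat_lit 46067745)))) (BT.node (nat_lit 11206144) (BT.node (nat_lit 11206080) (BT.leaf (nat_lit 48087573)) (BT.leaf (nat_lit 44881669))) (BT.node (nat_lit 11206208) (BT.leaf (nat_lit 50892061)) (BT.leaf (nat_lit 39691553))))) (BT.node (nat_lit 11206464) (BT.node (nat_lit 11206400) (BT.node (nat_lit 11206336) (BT.leaf (nat_lit 50892041)) (BT.leaf (nat_lit 44825113))) (BT.node (nat_lit 11206407) (BT.leaf (nat_lit 45899781)) (BT.leaf (nat_lit 719184)))) (BT.node (nat_lit 11206592) (BT.node (nat_lit 11206528) (BT.leaf (nat_lit 43265057)) (BT.leaf (nat_lit 43035937))) (BT.node (nat_lit 11206656) (BT.leaf (nat_lit 51064093)) (BT.leaf (nat_lit 45906693))))))) (BT.node (nat_lit 11207616) (BT.node (nat_lit 11207104) (BT.node (nat_lit 11206976) (BT.node (nat_lit 11206848) (BT.node (nat_lit 11206784) (BT.leaf (nat_lit 43909409)) (BT.leaf (nat_lit 31936529))) (BT.node (nat_lit 11206912) (BT.leaf (nat_lit 44827677)) (BT.leaf (nat_lit 41023749)))) (BT.node (nat_lit 11207041) (BT.node (nat_lit 11207040) (BT.leaf (nat_lit 44958241)) (BT.leaf (nat_lit 32917781))) (BT.node (nat_lit 11207043) (BT.leaf (nat_lit 721244)) (BT.leaf (nat_lit 721244))))) (BT.node (nat_lit 11207360) (BT.node (nat_lit 11207232) (BT.node (nat_lit 11207168) (BT.leaf (nat_lit 43267605)) (BT.leaf (nat_lit 52129825))) (BT.node (nat_lit 11207296) (BT.leaf (nat_lit 32232217)) (BT.leaf (nat_lit 32232221)))) (BT.node (nat_lit 11207488) (BT.node (nat_lit 11207424) (BT.leaf (nat_lit 42614789)) (BT.leaf (nat_lit 31938321))) (BT.node (nat_lit 11207552) (BT.leaf (nat_lit 41956377)) (BT.leaf (nat_lit 48470533)))))) (BT.node (nat_lit 11208128) (BT.node (nat_lit 11207872) (BT.node (nat_lit 11207744) (BT.node (nat_lit 11207680) (BT.leaf (nat_lit 38976025)) (BT.leaf (nat_lit 39369477))) (BT.node (nat_lit 11207808) (BT.leaf (nat_lit 29766405)) (BT.leaf (nat_lit 44024097)))) (BT.node (nat_lit 11208000) (BT.node (nat_lit 11207936) (BT.leaf (nat_lit 32579097)) (BT.leaf (nat_lit 32579101))) (BT.node (nat_lit 11208064) (BT.leaf (nat_lit 32756257)) (BT.leaf (nat_lit 38991385))))) (BT.node (nat_lit 11208384) (BT.node (nat_lit 11208256) (BT.node (nat_lit 11208192) (BT.leaf (nat_lit 38614561)) (BT.leaf (nat_lit 51405073))) (BT.node (nat_lit 11208320) (BT.leaf (nat_lit 32026137)) (BT.leaf (nat_lit 32026141)))) (BT.node (nat_lit 11208512) (BT.node (nat_lit 11208448) (BT.leaf (nat_lit 41136161)) (BT.leaf (nat_lit 41141253))) (BT.node (nat_lit 11208576) (BT.leaf (nat_lit 45282317)) (BT.leaf (nat_lit 45107733)))))))) (BT.node (nat_lit 11210752) (BT.node (nat_lit 11209664) (BT.node (nat_lit 11209088) (BT.node (nat_lit 11208896) (BT.node (nat_lit 11208768) (BT.node (nat_lit 11208704) (BT.leaf (nat_lit 40935193)) (BT.leaf (nat_lit 40935197))) (BT.node (nat_lit 11208832) (BT.leaf (nat_lit 44110085)) (BT.leaf (nat_lit 41139461)))) (BT.node (nat_lit 11208960) (BT.node (nat_lit 11208902) (BT.leaf (nat_lit 38403861)) (BT.leaf (nat_lit 705540))) (BT.node (nat_lit 11209024) (BT.leaf (nat_lit 41145633)) (BT.leaf (nat_lit 41140769))))) (BT.node (nat_lit 11209344) (BT.node (nat_lit 11209216) (BT.node (nat_lit 11209152) (BT.leaf (nat_lit 39955209)) (BT.leaf (nat_lit 39955213))) (BT.node (nat_lit 11209280) (BT.leaf (nat_lit 44837149)) (BT.leaf (nat_lit 41191429)))) (BT.node (nat_lit 11209536) (BT.node (nat_lit 11209408) (BT.leaf (nat_lit 31486997)) (BT.leaf (nat_lit 49063685))) (BT.node (nat_lit 11209600) (BT.leaf (nat_lit 32280597)) (BT.leaf (nat_lit 41191941)))))) (BT.node (nat_lit 11210176) (BT.node (nat_lit 11209920) (BT.node (nat_lit 11209792) (BT.node (nat_lit 11209728) (BT.leaf (nat_lit 32480277)) (BT.leaf (nat_lit 32480281))) (BT.node (nat_lit 11209856) (BT.leaf (nat_lit 43776517)) (BT.leaf (nat_lit 32481041)))) (BT.node (nat_lit 11210048) (BT.node (nat_lit 11209984) (BT.leaf (nat_lit 49778721)) (BT.leaf (nat_lit 36446229))) (BT.node (nat_lit 11210112) (BT.leaf (nat_lit 40378653)) (BT.leaf (nat_lit 34860565))))) (BT.node (nat_lit 11210496) (BT.node (nat_lit 11210304) (BT.node (nat_lit 11210240) (BT.leaf (nat_lit 32091409)) (BT.leaf (nat_lit 44840729))) (BT.node (nat_lit 11210432) (BT.leaf (nat_lit 44840481)) (BT.leaf (nat_lit 47842325)))) (BT.node (nat_lit 11210624) (BT.node (nat_lit 11210560) (BT.leaf (nat_lit 50013713)) (BT.leaf (nat_lit 39115289))) (BT.node (nat_lit 11210688) (BT.leaf (nat_lit 52133645)) (BT.leaf (nat_lit 44013329))))))) (BT.node (nat_lit 11211776) (BT.node (nat_lit 11211264) (BT.node (nat_lit 11211008) (BT.node (nat_lit 11210880) (BT.node (nat_lit 11210816) (BT.leaf (nat_lit 38351125)) (BT.leaf (nat_lit 30741277))) (BT.node (nat_lit 11210944) (BT.leaf (nat_lit 43321873)) (BT.leaf (nat_lit 43321877)))) (BT.node (nat_lit 11211136) (BT.node (nat_lit 11211072) (BT.leaf (nat_lit 30741273)) (BT.leaf (nat_lit 41450265))) (BT.node (nat_lit 11211200) (BT.leaf (nat_lit 41693189)) (BT.leaf (nat_lit 41286417))))) (BT.node (nat_lit 11211520) (BT.node (nat_lit 11211392) (BT.node (nat_lit 11211328) (BT.leaf (nat_lit 29280533)) (BT.leaf (nat_lit 41908489))) (BT.node (nat_lit 11211456) (BT.leaf (nat_lit 41908493)) (BT.leaf (nat_lit 41908497)))) (BT.node (nat_lit 11211648) (BT.node (nat_lit 11211584) (BT.leaf (nat_lit 43181829)) (BT.leaf (nat_lit 41750037))) (BT.node (nat_lit 11211712) (BT.leaf (nat_lit 31947545)) (BT.leaf (nat_lit 43182881)))))) (BT.node (nat_lit 11212608) (BT.node (nat_lit 11212032) (BT.node (nat_lit 11211904) (BT.node (nat_lit 11211840) (BT.leaf (nat_lit 45758981)) (BT.leaf (nat_lit 42521365))) (BT.node (nat_lit 11211968) (BT.leaf (nat_lit 40521497)) (BT.leaf (nat_lit 40521501)))) (BT.node (nat_lit 11212224) (BT.node (nat_lit 11212160) (BT.leaf (nat_lit 48548629)) (BT.leaf (nat_lit 31949845))) (BT.node (nat_lit 11212416) (BT.leaf (nat_lit 48347929)) (BT.leaf (nat_lit 44418573))))) (BT.node (nat_lit 11212864) (BT.node (nat_lit 11212736) (BT.node (nat_lit 11212672) (BT.leaf (nat_lit 38245905)) (BT.leaf (nat_lit 32710677))) (BT.node (nat_lit 11212800) (BT.leaf (nat_lit 32710681)) (BT.leaf (nat_lit 32710685)))) (BT.node (nat_lit 11213056) (BT.node (nat_lit 11212992) (BT.leaf (nat_lit 43422753)) (BT.leaf (nat_lit 29280265))) (BT.node (nat_lit 11213120) (BT.leaf (nat_lit 31951117)) (BT.leaf (nat_lit 38309141)))))))))) (BT.node (nat_lit 11222080) (BT.node (nat_lit 11217600) (BT.node (nat_lit 11215232) (BT.node (nat_lit 11214272) (BT.node (nat_lit 11213760) (BT.node (nat_lit 11213440) (BT.node (nat_lit 11213312) (BT.node (nat_lit 11213248) (BT.leaf (nat_lit 38309145)) (BT.leaf (nat_lit 38309153))) (BT.node (nat_lit 11213376) (BT.leaf (nat_lit 29280269)) (BT.leaf (nat_lit 31951113)))) (BT.node (nat_lit 11213568) (BT.node (nat_lit 11213504) (BT.leaf (nat_lit 43216405)) (BT.leaf (nat_lit 31951373))) (BT.node (nat_lit 11213696) (BT.leaf (nat_lit 46199045)) (BT.leaf (nat_lit 46199061))))) (BT.node (nat_lit 11214016) (BT.node (nat_lit 11213888) (BT.node (nat_lit 11213824) (BT.leaf (nat_lit 31951389)) (BT.leaf (nat_lit 38559505))) (BT.node (nat_lit 11213952) (BT.leaf (nat_lit 31969549)) (BT.leaf (nat_lit 31951385)))) (BT.node (nat_lit 11214144) (BT.node (nat_lit 11214080) (BT.leaf (nat_lit 39120161)) (BT.leaf (nat_lit 38560801))) (BT.node (nat_lit 11214208) (BT.leaf (nat_lit 43201797)) (BT.leaf (nat_lit 39306521)))))) (BT.node (nat_lit 11214720) (BT.node (nat_lit 11214464) (BT.node (nat_lit 11214340) (BT.node (nat_lit 11214336) (BT.leaf (nat_lit 39306525)) (BT.leaf (nat_lit 40339477))) (BT.node (nat_lit 11214400) (BT.leaf (nat_lit 776528)) (BT.leaf (nat_lit 40339481)))) (BT.node (nat_lit 11214592) (BT.node (nat_lit 11214528) (BT.leaf (nat_lit 40339485)) (BT.leaf (nat_lit 31666969))) (BT.node (nat_lit 11214656) (BT.leaf (nat_lit 43207457)) (BT.leaf (nat_lit 38035989))))) (BT.node (nat_lit 11214976) (BT.node (nat_lit 11214848) (BT.node (nat_lit 11214784) (BT.leaf (nat_lit 47892501)) (BT.leaf (nat_lit 39517465))) (BT.node (nat_lit 11214912) (BT.leaf (nat_lit 39517469)) (BT.leaf (nat_lit 31953937)))) (BT.node (nat_lit 11215104) (BT.node (nat_lit 11215040) (BT.leaf (nat_lit 34263841)) (BT.leaf (nat_lit 47131157))) (BT.node (nat_lit 11215168) (BT.leaf (nat_lit 50377489)) (BT.leaf (nat_lit 44860441))))))) (BT.node (nat_lit 11216320) (BT.node (nat_lit 11215744) (BT.node (nat_lit 11215488) (BT.node (nat_lit 11215360) (BT.node (nat_lit 11215296) (BT.leaf (nat_lit 47131665)) (BT.leaf (nat_lit 44113441))) (BT.node (nat_lit 11215424) (BT.leaf (nat_lit 48382741)) (BT.leaf (nat_lit 44114465)))) (BT.node (nat_lit 11215616) (BT.node (nat_lit 11215552) (BT.leaf (nat_lit 48838665)) (BT.leaf (nat_lit 47214873))) (BT.node (nat_lit 11215680) (BT.leaf (nat_lit 31960849)) (BT.leaf (nat_lit 48382745))))) (BT.node (nat_lit 11216000) (BT.node (nat_lit 11215872) (BT.node (nat_lit 11215808) (BT.leaf (nat_lit 48382749)) (BT.leaf (nat_lit 34407689))) (BT.node (nat_lit 11215936) (BT.leaf (nat_lit 51942177)) (BT.leaf (nat_lit 51942433)))) (BT.node (nat_lit 11216128) (BT.node (nat_lit 11216064) (BT.leaf (nat_lit 51942689)) (BT.leaf (nat_lit 44413193))) (BT.node (nat_lit 11216192) (BT.leaf (nat_lit 51942945)) (BT.leaf (nat_lit 32713241)))))) (BT.node (nat_lit 11217088) (BT.node (nat_lit 11216832) (BT.node (nat_lit 11216576) (BT.node (nat_lit 11216512) (BT.leaf (nat_lit 39358225)) (BT.leaf (nat_lit 48397333))) (BT.node (nat_lit 11216768) (BT.leaf (nat_lit 44866061)) (BT.leaf (nat_lit 43901457)))) (BT.node (nat_lit 11216960) (BT.node (nat_lit 11216896) (BT.leaf (nat_lit 38212629)) (BT.leaf (nat_lit 44832269))) (BT.node (nat_lit 11217024) (BT.leaf (nat_lit 47565317)) (BT.leaf (nat_lit 44414985))))) (BT.node (nat_lit 11217344) (BT.node (nat_lit 11217216) (BT.node (nat_lit 11217152) (BT.leaf (nat_lit 44414749)) (BT.leaf (nat_lit 30758165))) (BT.node (nat_lit 11217280) (BT.leaf (nat_lit 43512849)) (BT.leaf (nat_lit 43051553)))) (BT.node (nat_lit 11217472) (BT.node (nat_lit 11217408) (BT.leaf (nat_lit 42161157)) (BT.leaf (nat_lit 42795037))) (BT.node (nat_lit 11217536) (BT.leaf (nat_lit 32361753)) (BT.leaf (nat_lit 31962393)))))))) (BT.node (nat_lit 11220096) (BT.node (nat_lit 11218688) (BT.node (nat_lit 11218176) (BT.node (nat_lit 11217920) (BT.node (nat_lit 11217728) (BT.node (nat_lit 11217664) (BT.leaf (nat_lit 48249349)) (BT.leaf (nat_lit 48397593))) (BT.node (nat_lit 11217792) (BT.leaf (nat_lit 34289949)) (BT.leaf (nat_lit 31962397)))) (BT.node (nat_lit 11218048) (BT.node (nat_lit 11217984) (BT.leaf (nat_lit 37894421)) (BT.leaf (nat_lit 37894425))) (BT.node (nat_lit 11218112) (BT.leaf (nat_lit 37894429)) (BT.leaf (nat_lit 31965197))))) (BT.node (nat_lit 11218432) (BT.node (nat_lit 11218304) (BT.node (nat_lit 11218240) (BT.leaf (nat_lit 50168597)) (BT.leaf (nat_lit 44595489))) (BT.node (nat_lit 11218368) (BT.leaf (nat_lit 44873501)) (BT.leaf (nat_lit 44432929)))) (BT.node (nat_lit 11218560) (BT.node (nat_lit 11218496) (BT.leaf (nat_lit 44420117)) (BT.leaf (nat_lit 31970337))) (BT.node (nat_lit 11218624) (BT.leaf (nat_lit 31970593)) (BT.leaf (nat_lit 31970821)))))) (BT.node (nat_lit 11219328) (BT.node (nat_lit 11219072) (BT.node (nat_lit 11218816) (BT.node (nat_lit 11218752) (BT.leaf (nat_lit 31971361)) (BT.leaf (nat_lit 31971105))) (BT.node (nat_lit 11218880) (BT.leaf (nat_lit 31561745)) (BT.leaf (nat_lit 31655441)))) (BT.node (nat_lit 11219200) (BT.node (nat_lit 11219136) (BT.leaf (nat_lit 48783893)) (BT.leaf (nat_lit 43217673))) (BT.node (nat_lit 11219264) (BT.leaf (nat_lit 44429853)) (BT.leaf (nat_lit 32338969))))) (BT.node (nat_lit 11219776) (BT.node (nat_lit 11219648) (BT.node (nat_lit 11219520) (BT.leaf (nat_lit 32338973)) (BT.leaf (nat_lit 44432909))) (BT.node (nat_lit 11219712) (BT.leaf (nat_lit 31972633)) (BT.leaf (nat_lit 44880409)))) (BT.node (nat_lit 11219968) (BT.node (nat_lit 11219840) (BT.leaf (nat_lit 43240453)) (BT.leaf (nat_lit 44879129))) (BT.node (nat_lit 11220032) (BT.leaf (nat_lit 44873229)) (BT.leaf (nat_lit 45239301))))))) (BT.node (nat_lit 11221184) (BT.node (nat_lit 11220608) (BT.node (nat_lit 11220352) (BT.node (nat_lit 11220224) (BT.node (nat_lit 11220160) (BT.leaf (nat_lit 32865037)) (BT.leaf (nat_lit 44432901))) (BT.node (nat_lit 11220288) (BT.leaf (nat_lit 38997781)) (BT.leaf (nat_lit 32865041)))) (BT.node (nat_lit 11220480) (BT.node (nat_lit 11220416) (BT.leaf (nat_lit 38997765)) (BT.leaf (nat_lit 43898393))) (BT.node (nat_lit 11220544) (BT.leaf (nat_lit 44881673)) (BT.leaf (nat_lit 34867221))))) (BT.node (nat_lit 11220864) (BT.node (nat_lit 11220736) (BT.node (nat_lit 11220672) (BT.leaf (nat_lit 49597189)) (BT.leaf (nat_lit 43898381))) (BT.node (nat_lit 11220800) (BT.leaf (nat_lit 43265557)) (BT.leaf (nat_lit 42379269)))) (BT.node (nat_lit 11220992) (BT.node (nat_lit 11220928) (BT.leaf (nat_lit 31981829)) (BT.leaf (nat_lit 48263441))) (BT.node (nat_lit 11221120) (BT.leaf (nat_lit 49590021)) (BT.leaf (nat_lit 49590277)))))) (BT.node (nat_lit 11221568) (BT.node (nat_lit 11221381) (BT.node (nat_lit 11221376) (BT.node (nat_lit 11221312) (BT.leaf (nat_lit 41831957)) (BT.leaf (nat_lit 31981345))) (BT.node (nat_lit 11221378) (BT.leaf (nat_lit 44840709)) (BT.leaf (nat_lit 733528)))) (BT.node (nat_lit 11221440) (BT.node (nat_lit 11221384) (BT.leaf (nat_lit 733528)) (BT.leaf (nat_lit 733528))) (BT.node (nat_lit 11221504) (BT.leaf (nat_lit 31943953)) (BT.leaf (nat_lit 31977745))))) (BT.node (nat_lit 11221824) (BT.node (nat_lit 11221696) (BT.node (nat_lit 11221632) (BT.leaf (nat_lit 31978001)) (BT.leaf (nat_lit 31973649))) (BT.node (nat_lit 11221760) (BT.leaf (nat_lit 27348497)) (BT.leaf (nat_lit 44887325)))) (BT.node (nat_lit 11221952) (BT.node (nat_lit 11221888) (BT.leaf (nat_lit 49079813)) (BT.leaf (nat_lit 33607957))) (BT.node (nat_lit 11222016) (BT.leaf (nat_lit 34873621)) (BT.leaf (nat_lit 40578337))))))))) (BT.node (nat_lit 11226496) (BT.node (nat_lit 11224320) (BT.node (nat_lit 11223232) (BT.node (nat_lit 11222656) (BT.node (nat_lit 11222400) (BT.node (nat_lit 11222208) (BT.node (nat_lit 11222144) (BT.leaf (nat_lit 31981325)) (BT.leaf (nat_lit 31981321))) (BT.node (nat_lit 11222336) (BT.leaf (nat_lit 44294933)) (BT.leaf (nat_lit 43040273)))) (BT.node (nat_lit 11222466) (BT.node (nat_lit 11222464) (BT.leaf (nat_lit 44378637)) (BT.leaf (nat_lit 45902085))) (BT.node (nat_lit 11222592) (BT.leaf (nat_lit 771352)) (BT.leaf (nat_lit 48780041))))) (BT.node (nat_lit 11222976) (BT.node (nat_lit 11222848) (BT.node (nat_lit 11222720) (BT.leaf (nat_lit 36220437)) (BT.leaf (nat_lit 45903109))) (BT.node (nat_lit 11222912) (BT.leaf (nat_lit 44389153)) (BT.leaf (nat_lit 31945237)))) (BT.node (nat_lit 11223104) (BT.node (nat_lit 11223040) (BT.leaf (nat_lit 44378133)) (BT.leaf (nat_lit 40344337))) (BT.node (nat_lit 11223168) (BT.leaf (nat_lit 40344353)) (BT.leaf (nat_lit 42379281)))))) (BT.node (nat_lit 11223744) (BT.node (nat_lit 11223488) (BT.node (nat_lit 11223360) (BT.node (nat_lit 11223296) (BT.leaf (nat_lit 31558157)) (BT.leaf (nat_lit 44893965))) (BT.node (nat_lit 11223424) (BT.leaf (nat_lit 42379297)) (BT.leaf (nat_lit 49207305)))) (BT.node (nat_lit 11223616) (BT.node (nat_lit 11223557) (BT.leaf (nat_lit 31558421)) (BT.leaf (nat_lit 706624))) (BT.node (nat_lit 11223680) (BT.leaf (nat_lit 38905869)) (BT.leaf (nat_lit 32221473))))) (BT.node (nat_lit 11224064) (BT.node (nat_lit 11223936) (BT.node (nat_lit 11223808) (BT.leaf (nat_lit 32712989)) (BT.leaf (nat_lit 44893977))) (BT.node (nat_lit 11224000) (BT.leaf (nat_lit 43152665)) (BT.leaf (nat_lit 43647777)))) (BT.node (nat_lit 11224192) (BT.node (nat_lit 11224128) (BT.leaf (nat_lit 44224545)) (BT.leaf (nat_lit 31981857))) (BT.node (nat_lit 11224256) (BT.leaf (nat_lit 29074709)) (BT.leaf (nat_lit 40583701))))))) (BT.node (nat_lit 11225472) (BT.node (nat_lit 11224832) (BT.node (nat_lit 11224576) (BT.node (nat_lit 11224448) (BT.node (nat_lit 11224384) (BT.leaf (nat_lit 41337361)) (BT.leaf (nat_lit 39869217))) (BT.node (nat_lit 11224512) (BT.leaf (nat_lit 31942161)) (BT.leaf (nat_lit 44576517)))) (BT.node (nat_lit 11224704) (BT.node (nat_lit 11224640) (BT.leaf (nat_lit 31984665)) (BT.leaf (nat_lit 42353173))) (BT.node (nat_lit 11224768) (BT.leaf (nat_lit 31985181)) (BT.leaf (nat_lit 49165857))))) (BT.node (nat_lit 11225088) (BT.node (nat_lit 11224960) (BT.node (nat_lit 11224896) (BT.leaf (nat_lit 31984669)) (BT.leaf (nat_lit 32453905))) (BT.node (nat_lit 11225024) (BT.leaf (nat_lit 37025569)) (BT.leaf (nat_lit 31985177)))) (BT.node (nat_lit 11225216) (BT.node (nat_lit 11225152) (BT.leaf (nat_lit 39434513)) (BT.leaf (nat_lit 39434517))) (BT.node (nat_lit 11225344) (BT.leaf (nat_lit 45052193)) (BT.leaf (nat_lit 44377365)))))) (BT.node (nat_lit 11225984) (BT.node (nat_lit 11225728) (BT.node (nat_lit 11225600) (BT.node (nat_lit 11225536) (BT.leaf (nat_lit 44890901)) (BT.leaf (nat_lit 40409881))) (BT.node (nat_lit 11225664) (BT.leaf (nat_lit 49711389)) (BT.leaf (nat_lit 42784537)))) (BT.node (nat_lit 11225856) (BT.node (nat_lit 11225792) (BT.leaf (nat_lit 50547485)) (BT.leaf (nat_lit 39407893))) (BT.node (nat_lit 11225920) (BT.leaf (nat_lit 44903193)) (BT.leaf (nat_lit 40282657))))) (BT.node (nat_lit 11226240) (BT.node (nat_lit 11226112) (BT.node (nat_lit 11226048) (BT.leaf (nat_lit 32119321)) (BT.leaf (nat_lit 32119325))) (BT.node (nat_lit 11226176) (BT.leaf (nat_lit 45553953)) (BT.leaf (nat_lit 45554209)))) (BT.node (nat_lit 11226368) (BT.node (nat_lit 11226304) (BT.leaf (nat_lit 31991829)) (BT.leaf (nat_lit 45846049))) (BT.node (nat_lit 11226432) (BT.leaf (nat_lit 44905241)) (BT.leaf (nat_lit 43085345)))))))) (BT.node (nat_lit 11228544) (BT.node (nat_lit 11227520) (BT.node (nat_lit 11227008) (BT.node (nat_lit 11226752) (BT.node (nat_lit 11226624) (BT.node (nat_lit 11226560) (BT.leaf (nat_lit 42244641)) (BT.leaf (nat_lit 32040209))) (BT.node (nat_lit 11226688) (BT.leaf (nat_lit 32040213)) (BT.leaf (nat_lit 32874761)))) (BT.node (nat_lit 11226880) (BT.node (nat_lit 11226816) (BT.leaf (nat_lit 46113289)) (BT.leaf (nat_lit 32874757))) (BT.node (nat_lit 11226944) (BT.leaf (nat_lit 32874769)) (BT.leaf (nat_lit 32874773))))) (BT.node (nat_lit 11227264) (BT.node (nat_lit 11227136) (BT.node (nat_lit 11227072) (BT.leaf (nat_lit 40294689)) (BT.leaf (nat_lit 44583429))) (BT.node (nat_lit 11227200) (BT.leaf (nat_lit 44583433)) (BT.leaf (nat_lit 44583457)))) (BT.node (nat_lit 11227392) (BT.node (nat_lit 11227328) (BT.leaf (nat_lit 31992861)) (BT.leaf (nat_lit 32414737))) (BT.node (nat_lit 11227456) (BT.leaf (nat_lit 32414741)) (BT.leaf (nat_lit 31993369)))))) (BT.node (nat_lit 11228096) (BT.node (nat_lit 11227776) (BT.node (nat_lit 11227648) (BT.node (nat_lit 11227584) (BT.leaf (nat_lit 43845913)) (BT.leaf (nat_lit 31993621))) (BT.node (nat_lit 11227712) (BT.leaf (nat_lit 31993625)) (BT.leaf (nat_lit 31993629)))) (BT.node (nat_lit 11227904) (BT.node (nat_lit 11227840) (BT.leaf (nat_lit 38524181)) (BT.leaf (nat_lit 38524185))) (BT.node (nat_lit 11227968) (BT.leaf (nat_lit 38524189)) (BT.leaf (nat_lit 44314653))))) (BT.node (nat_lit 11228294) (BT.node (nat_lit 11228224) (BT.node (nat_lit 11228160) (BT.leaf (nat_lit 41634069)) (BT.leaf (nat_lit 38320917))) (BT.node (nat_lit 11228288) (BT.leaf (nat_lit 40365089)) (BT.leaf (nat_lit 43603725)))) (BT.node (nat_lit 11228352) (BT.node (nat_lit 11228295) (BT.leaf (nat_lit 720584)) (BT.leaf (nat_lit 720584))) (BT.node (nat_lit 11228416) (BT.leaf (nat_lit 43095557)) (BT.leaf (nat_lit 43094789))))))) (BT.node (nat_lit 11229632) (BT.node (nat_lit 11229120) (BT.node (nat_lit 11228800) (BT.node (nat_lit 11228672) (BT.node (nat_lit 11228608) (BT.leaf (nat_lit 39195169)) (BT.leaf (nat_lit 39330329))) (BT.node (nat_lit 11228736) (BT.leaf (nat_lit 39330333)) (BT.leaf (nat_lit 45706249)))) (BT.node (nat_lit 11228928) (BT.node (nat_lit 11228864) (BT.leaf (nat_lit 45706253)) (BT.leaf (nat_lit 40407329))) (BT.node (nat_lit 11229056) (BT.leaf (nat_lit 31995653)) (BT.leaf (nat_lit 45706521))))) (BT.node (nat_lit 11229376) (BT.node (nat_lit 11229248) (BT.node (nat_lit 11229184) (BT.leaf (nat_lit 38305313)) (BT.leaf (nat_lit 32270101))) (BT.node (nat_lit 11229312) (BT.leaf (nat_lit 31995401)) (BT.leaf (nat_lit 39032585)))) (BT.node (nat_lit 11229504) (BT.node (nat_lit 11229440) (BT.leaf (nat_lit 39820561)) (BT.leaf (nat_lit 44522009))) (BT.node (nat_lit 11229568) (BT.leaf (nat_lit 39820577)) (BT.leaf (nat_lit 31995169)))))) (BT.node (nat_lit 11230081) (BT.node (nat_lit 11229888) (BT.node (nat_lit 11229760) (BT.node (nat_lit 11229696) (BT.leaf (nat_lit 31995397)) (BT.leaf (nat_lit 41070353))) (BT.node (nat_lit 11229824) (BT.leaf (nat_lit 44384277)) (BT.leaf (nat_lit 44384281)))) (BT.node (nat_lit 11230016) (BT.node (nat_lit 11229952) (BT.leaf (nat_lit 44384285)) (BT.leaf (nat_lit 31708189))) (BT.node (nat_lit 11230080) (BT.leaf (nat_lit 32574737)) (BT.leaf (nat_lit 32574753))))) (BT.node (nat_lit 11230208) (BT.node (nat_lit 11230087) (BT.node (nat_lit 11230086) (BT.leaf (nat_lit 712520)) (BT.leaf (nat_lit 712520))) (BT.node (nat_lit 11230144) (BT.leaf (nat_lit 712520)) (BT.leaf (nat_lit 39334661)))) (BT.node (nat_lit 11230336) (BT.node (nat_lit 11230272) (BT.leaf (nat_lit 44556061)) (BT.leaf (nat_lit 42899225))) (BT.node (nat_lit 11230400) (BT.leaf (nat_lit 45210373)) (BT.leaf (nat_lit 38305297))))))))))) (BT.node (nat_lit 11246592) (BT.node (nat_lit 11238848) (BT.node (nat_lit 11234880) (BT.node (nat_lit 11232704) (BT.node (nat_lit 11231616) (BT.node (nat_lit 11230976) (BT.node (nat_lit 11230720) (BT.node (nat_lit 11230592) (BT.node (nat_lit 11230528) (BT.leaf (nat_lit 38305301)) (BT.leaf (nat_lit 31706141))) (BT.node (nat_lit 11230656) (BT.leaf (nat_lit 32249617)) (BT.leaf (nat_lit 32249621)))) (BT.node (nat_lit 11230848) (BT.node (nat_lit 11230784) (BT.leaf (nat_lit 48876565)) (BT.leaf (nat_lit 41736201))) (BT.node (nat_lit 11230912) (BT.leaf (nat_lit 40125709)) (BT.leaf (nat_lit 48878613))))) (BT.node (nat_lit 11231296) (BT.node (nat_lit 11231104) (BT.node (nat_lit 11231040) (BT.leaf (nat_lit 41736205)) (BT.leaf (nat_lit 31996693))) (BT.node (nat_lit 11231168) (BT.leaf (nat_lit 42632985)) (BT.leaf (nat_lit 42632989)))) (BT.node (nat_lit 11231424) (BT.node (nat_lit 11231360) (BT.leaf (nat_lit 41736221)) (BT.leaf (nat_lit 39756037))) (BT.node (nat_lit 11231488) (BT.leaf (nat_lit 39756049)) (BT.leaf (nat_lit 41736217)))))) (BT.node (nat_lit 11232192) (BT.node (nat_lit 11231872) (BT.node (nat_lit 11231744) (BT.node (nat_lit 11231680) (BT.leaf (nat_lit 44529693)) (BT.leaf (nat_lit 31996193))) (BT.node (nat_lit 11231808) (BT.leaf (nat_lit 31996421)) (BT.leaf (nat_lit 44846105)))) (BT.node (nat_lit 11232000) (BT.node (nat_lit 11231936) (BT.leaf (nat_lit 30696453)) (BT.leaf (nat_lit 51435025))) (BT.node (nat_lit 11232128) (BT.leaf (nat_lit 41536289)) (BT.leaf (nat_lit 41331989))))) (BT.node (nat_lit 11232448) (BT.node (nat_lit 11232320) (BT.node (nat_lit 11232256) (BT.leaf (nat_lit 44929053)) (BT.leaf (nat_lit 44501513))) (BT.node (nat_lit 11232384) (BT.leaf (nat_lit 31998737)) (BT.leaf (nat_lit 45563669)))) (BT.node (nat_lit 11232576) (BT.node (nat_lit 11232512) (BT.leaf (nat_lit 45563673)) (BT.leaf (nat_lit 45563677))) (BT.node (nat_lit 11232640) (BT.leaf (nat_lit 34733845)) (BT.leaf (nat_lit 48868373))))))) (BT.node (nat_lit 11233856) (BT.node (nat_lit 11233344) (BT.node (nat_lit 11233024) (BT.node (nat_lit 11232896) (BT.node (nat_lit 11232832) (BT.leaf (nat_lit 28665365)) (BT.leaf (nat_lit 31472901))) (BT.node (nat_lit 11232960) (BT.leaf (nat_lit 45769761)) (BT.leaf (nat_lit 31999753)))) (BT.node (nat_lit 11233152) (BT.node (nat_lit 11233088) (BT.leaf (nat_lit 31999757)) (BT.leaf (nat_lit 43652881))) (BT.node (nat_lit 11233216) (BT.leaf (nat_lit 29224985)) (BT.leaf (nat_lit 44775201))))) (BT.node (nat_lit 11233600) (BT.node (nat_lit 11233472) (BT.node (nat_lit 11233408) (BT.leaf (nat_lit 32805661)) (BT.leaf (nat_lit 43121157))) (BT.node (nat_lit 11233536) (BT.leaf (nat_lit 39333913)) (BT.leaf (nat_lit 39333917)))) (BT.node (nat_lit 11233728) (BT.node (nat_lit 11233664) (BT.leaf (nat_lit 32813601)) (BT.leaf (nat_lit 32813345))) (BT.node (nat_lit 11233792) (BT.leaf (nat_lit 32045841)) (BT.leaf (nat_lit 32343833)))))) (BT.node (nat_lit 11234368) (BT.node (nat_lit 11234112) (BT.node (nat_lit 11233984) (BT.node (nat_lit 11233920) (BT.leaf (nat_lit 32025361)) (BT.leaf (nat_lit 32025365))) (BT.node (nat_lit 11234048) (BT.leaf (nat_lit 31694341)) (BT.leaf (nat_lit 31573253)))) (BT.node (nat_lit 11234240) (BT.node (nat_lit 11234176) (BT.leaf (nat_lit 32382497)) (BT.leaf (nat_lit 32000773))) (BT.node (nat_lit 11234304) (BT.leaf (nat_lit 31573265)) (BT.leaf (nat_lit 31694353))))) (BT.node (nat_lit 11234561) (BT.node (nat_lit 11234496) (BT.node (nat_lit 11234432) (BT.leaf (nat_lit 32382485)) (BT.leaf (nat_lit 32382489))) (BT.node (nat_lit 11234560) (BT.leaf (nat_lit 32382493)) (BT.leaf (nat_lit 38147601)))) (BT.node (nat_lit 11234688) (BT.node (nat_lit 11234624) (BT.leaf (nat_lit 785712)) (BT.leaf (nat_lit 48311585))) (BT.node (nat_lit 11234816) (BT.leaf (nat_lit 32002321)) (BT.leaf (nat_lit 46280457)))))))) (BT.node (nat_lit 11236992) (BT.node (nat_lit 11235968) (BT.node (nat_lit 11235392) (BT.node (nat_lit 11235136) (BT.node (nat_lit 11235008) (BT.node (nat_lit 11234944) (BT.leaf (nat_lit 32002065)) (BT.leaf (nat_lit 38180869))) (BT.node (nat_lit 11235072) (BT.leaf (nat_lit 32003345)) (BT.leaf (nat_lit 51710485)))) (BT.node (nat_lit 11235264) (BT.node (nat_lit 11235200) (BT.leaf (nat_lit 38180893)) (BT.leaf (nat_lit 48220449))) (BT.node (nat_lit 11235328) (BT.leaf (nat_lit 32003361)) (BT.leaf (nat_lit 32003873))))) (BT.node (nat_lit 11235648) (BT.node (nat_lit 11235520) (BT.node (nat_lit 11235456) (BT.leaf (nat_lit 32003617)) (BT.leaf (nat_lit 44011285))) (BT.node (nat_lit 11235584) (BT.leaf (nat_lit 38535449)) (BT.leaf (nat_lit 38535453)))) (BT.node (nat_lit 11235840) (BT.node (nat_lit 11235712) (BT.leaf (nat_lit 30520857)) (BT.leaf (nat_lit 31676697))) (BT.node (nat_lit 11235904) (BT.leaf (nat_lit 38182677)) (BT.leaf (nat_lit 38182689)))))) (BT.node (nat_lit 11236480) (BT.node (nat_lit 11236224) (BT.node (nat_lit 11236096) (BT.node (nat_lit 11236032) (BT.leaf (nat_lit 38113553)) (BT.leaf (nat_lit 38118417))) (BT.node (nat_lit 11236160) (BT.leaf (nat_lit 31677717)) (BT.leaf (nat_lit 34727945)))) (BT.node (nat_lit 11236352) (BT.node (nat_lit 11236288) (BT.leaf (nat_lit 44789509)) (BT.leaf (nat_lit 41039377))) (BT.node (nat_lit 11236416) (BT.leaf (nat_lit 41305105)) (BT.leaf (nat_lit 42952965))))) (BT.node (nat_lit 11236736) (BT.node (nat_lit 11236608) (BT.node (nat_lit 11236544) (BT.leaf (nat_lit 42952977)) (BT.leaf (nat_lit 32030485))) (BT.node (nat_lit 11236672) (BT.leaf (nat_lit 49696025)) (BT.leaf (nat_lit 29734661)))) (BT.node (nat_lit 11236864) (BT.node (nat_lit 11236800) (BT.leaf (nat_lit 41761561)) (BT.leaf (nat_lit 41761565))) (BT.node (nat_lit 11236869) (BT.leaf (nat_lit 37900805)) (BT.leaf (nat_lit 720444))))))) (BT.node (nat_lit 11237952) (BT.node (nat_lit 11237440) (BT.node (nat_lit 11237187) (BT.node (nat_lit 11237120) (BT.node (nat_lit 11237056) (BT.leaf (nat_lit 41930517)) (BT.leaf (nat_lit 32010005))) (BT.node (nat_lit 11237184) (BT.leaf (nat_lit 32008989)) (BT.leaf (nat_lit 39359265)))) (BT.node (nat_lit 11237312) (BT.node (nat_lit 11237248) (BT.leaf (nat_lit 717292)) (BT.leaf (nat_lit 34889241))) (BT.node (nat_lit 11237376) (BT.leaf (nat_lit 49280277)) (BT.leaf (nat_lit 46311941))))) (BT.node (nat_lit 11237696) (BT.node (nat_lit 11237568) (BT.node (nat_lit 11237504) (BT.leaf (nat_lit 32590865)) (BT.leaf (nat_lit 42888965))) (BT.node (nat_lit 11237632) (BT.leaf (nat_lit 38932501)) (BT.leaf (nat_lit 42419733)))) (BT.node (nat_lit 11237824) (BT.node (nat_lit 11237760) (BT.leaf (nat_lit 42419481)) (BT.leaf (nat_lit 42419485))) (BT.node (nat_lit 11237888) (BT.leaf (nat_lit 42419985)) (BT.leaf (nat_lit 44509213)))))) (BT.node (nat_lit 11238400) (BT.node (nat_lit 11238144) (BT.node (nat_lit 11238021) (BT.node (nat_lit 11238016) (BT.leaf (nat_lit 49493017)) (BT.leaf (nat_lit 47901217))) (BT.node (nat_lit 11238080) (BT.leaf (nat_lit 776460)) (BT.leaf (nat_lit 41013253)))) (BT.node (nat_lit 11238272) (BT.node (nat_lit 11238208) (BT.leaf (nat_lit 38930961)) (BT.leaf (nat_lit 38930977))) (BT.node (nat_lit 11238336) (BT.leaf (nat_lit 34889489)) (BT.leaf (nat_lit 47807249))))) (BT.node (nat_lit 11238656) (BT.node (nat_lit 11238528) (BT.node (nat_lit 11238464) (BT.leaf (nat_lit 40298529)) (BT.leaf (nat_lit 32011281))) (BT.node (nat_lit 11238592) (BT.leaf (nat_lit 40168217)) (BT.leaf (nat_lit 40168221)))) (BT.node (nat_lit 11238784) (BT.node (nat_lit 11238720) (BT.leaf (nat_lit 32120073)) (BT.leaf (nat_lit 32109081))) (BT.node (nat_lit 11238789) (BT.leaf (nat_lit 40200993)) (BT.leaf (nat_lit 768260))))))))) (BT.node (nat_lit 11242757) (BT.node (nat_lit 11241024) (BT.node (nat_lit 11239872) (BT.node (nat_lit 11239424) (BT.node (nat_lit 11239168) (BT.node (nat_lit 11239040) (BT.node (nat_lit 11238976) (BT.leaf (nat_lit 32011793)) (BT.leaf (nat_lit 42106117))) (BT.node (nat_lit 11239104) (BT.leaf (nat_lit 44955929)) (BT.leaf (nat_lit 47819793)))) (BT.node (nat_lit 11239296) (BT.node (nat_lit 11239232) (BT.leaf (nat_lit 47819809)) (BT.leaf (nat_lit 31692293))) (BT.node (nat_lit 11239360) (BT.leaf (nat_lit 38153233)) (BT.leaf (nat_lit 32013061))))) (BT.node (nat_lit 11239680) (BT.node (nat_lit 11239552) (BT.node (nat_lit 11239488) (BT.leaf (nat_lit 38153245)) (BT.leaf (nat_lit 41949449))) (BT.node (nat_lit 11239616) (BT.leaf (nat_lit 42967573)) (BT.leaf (nat_lit 32074517)))) (BT.node (nat_lit 11239744) (BT.node (nat_lit 11239688) (BT.leaf (nat_lit 29553173)) (BT.leaf (nat_lit 742792))) (BT.node (nat_lit 11239808) (BT.leaf (nat_lit 32013573)) (BT.leaf (nat_lit 40298521)))))) (BT.node (nat_lit 11240384) (BT.node (nat_lit 11240128) (BT.node (nat_lit 11240000) (BT.node (nat_lit 11239936) (BT.leaf (nat_lit 44780825)) (BT.leaf (nat_lit 39103769))) (BT.node (nat_lit 11240064) (BT.leaf (nat_lit 32013337)) (BT.leaf (nat_lit 45557785)))) (BT.node (nat_lit 11240256) (BT.node (nat_lit 11240192) (BT.leaf (nat_lit 40300061)) (BT.leaf (nat_lit 32013341))) (BT.node (nat_lit 11240320) (BT.leaf (nat_lit 32256785)) (BT.leaf (nat_lit 32256789))))) (BT.node (nat_lit 11240704) (BT.node (nat_lit 11240512) (BT.node (nat_lit 11240448) (BT.leaf (nat_lit 44386829)) (BT.leaf (nat_lit 44963869))) (BT.node (nat_lit 11240576) (BT.leaf (nat_lit 41051909)) (BT.leaf (nat_lit 41214745)))) (BT.node (nat_lit 11240896) (BT.node (nat_lit 11240768) (BT.leaf (nat_lit 43174177)) (BT.leaf (nat_lit 31635221))) (BT.node (nat_lit 11240960) (BT.leaf (nat_lit 50294809)) (BT.leaf (nat_lit 40466197))))))) (BT.node (nat_lit 11241920) (BT.node (nat_lit 11241538) (BT.node (nat_lit 11241280) (BT.node (nat_lit 11241152) (BT.node (nat_lit 11241088) (BT.leaf (nat_lit 44963849)) (BT.leaf (nat_lit 40452625))) (BT.node (nat_lit 11241216) (BT.leaf (nat_lit 40672009)) (BT.leaf (nat_lit 47198213)))) (BT.node (nat_lit 11241408) (BT.node (nat_lit 11241344) (BT.leaf (nat_lit 40452641)) (BT.leaf (nat_lit 45008417))) (BT.node (nat_lit 11241472) (BT.leaf (nat_lit 37888025)) (BT.leaf (nat_lit 43554081))))) (BT.node (nat_lit 11241664) (BT.node (nat_lit 11241544) (BT.node (nat_lit 11241543) (BT.leaf (nat_lit 705836)) (BT.leaf (nat_lit 705836))) (BT.node (nat_lit 11241600) (BT.leaf (nat_lit 705836)) (BT.leaf (nat_lit 38988049)))) (BT.node (nat_lit 11241792) (BT.node (nat_lit 11241728) (BT.leaf (nat_lit 38942725)) (BT.leaf (nat_lit 32018961))) (BT.node (nat_lit 11241856) (BT.leaf (nat_lit 51011589)) (BT.leaf (nat_lit 37889821)))))) (BT.node (nat_lit 11242304) (BT.node (nat_lit 11242051) (BT.node (nat_lit 11242048) (BT.node (nat_lit 11241984) (BT.leaf (nat_lit 49551893)) (BT.leaf (nat_lit 38498081))) (BT.node (nat_lit 11242050) (BT.leaf (nat_lit 45980437)) (BT.leaf (nat_lit 715068)))) (BT.node (nat_lit 11242176) (BT.node (nat_lit 11242112) (BT.leaf (nat_lit 715068)) (BT.leaf (nat_lit 51349277))) (BT.node (nat_lit 11242240) (BT.leaf (nat_lit 44968457)) (BT.leaf (nat_lit 34833169))))) (BT.node (nat_lit 11242560) (BT.node (nat_lit 11242432) (BT.node (nat_lit 11242368) (BT.leaf (nat_lit 44968985)) (BT.leaf (nat_lit 38109461))) (BT.node (nat_lit 11242496) (BT.leaf (nat_lit 32706321)) (BT.leaf (nat_lit 43840793)))) (BT.node (nat_lit 11242688) (BT.node (nat_lit 11242624) (BT.leaf (nat_lit 32706337)) (BT.leaf (nat_lit 46734361))) (BT.node (nat_lit 11242755) (BT.leaf (nat_lit 45940257)) (BT.leaf (nat_lit 708404)))))))) (BT.node (nat_lit 11244800) (BT.node (nat_lit 11243712) (BT.node (nat_lit 11243200) (BT.node (nat_lit 11242944) (BT.node (nat_lit 11242816) (BT.node (nat_lit 11242759) (BT.leaf (nat_lit 708404)) (BT.leaf (nat_lit 708404))) (BT.node (nat_lit 11242880) (BT.leaf (nat_lit 44988953)) (BT.leaf (nat_lit 51358749)))) (BT.node (nat_lit 11243072) (BT.node (nat_lit 11243008) (BT.leaf (nat_lit 44972061)) (BT.leaf (nat_lit 41365269))) (BT.node (nat_lit 11243136) (BT.leaf (nat_lit 39868425)) (BT.leaf (nat_lit 39869705))))) (BT.node (nat_lit 11243456) (BT.node (nat_lit 11243328) (BT.node (nat_lit 11243264) (BT.leaf (nat_lit 45997073)) (BT.leaf (nat_lit 38007305))) (BT.node (nat_lit 11243392) (BT.leaf (nat_lit 41017605)) (BT.leaf (nat_lit 32044317)))) (BT.node (nat_lit 11243584) (BT.node (nat_lit 11243520) (BT.leaf (nat_lit 44185633)) (BT.leaf (nat_lit 42926105))) (BT.node (nat_lit 11243648) (BT.leaf (nat_lit 45675017)) (BT.leaf (nat_lit 41009181)))))) (BT.node (nat_lit 11244224) (BT.node (nat_lit 11243968) (BT.node (nat_lit 11243840) (BT.node (nat_lit 11243776) (BT.leaf (nat_lit 51779081)) (BT.leaf (nat_lit 51779097))) (BT.node (nat_lit 11243904) (BT.leaf (nat_lit 48480273)) (BT.leaf (nat_lit 42586129)))) (BT.node (nat_lit 11244096) (BT.node (nat_lit 11244032) (BT.leaf (nat_lit 51779605)) (BT.leaf (nat_lit 32027409))) (BT.node (nat_lit 11244160) (BT.leaf (nat_lit 30678297)) (BT.leaf (nat_lit 32828437))))) (BT.node (nat_lit 11244480) (BT.node (nat_lit 11244352) (BT.node (nat_lit 11244288) (BT.leaf (nat_lit 45057049)) (BT.leaf (nat_lit 42899233))) (BT.node (nat_lit 11244416) (BT.leaf (nat_lit 32093453)) (BT.leaf (nat_lit 45019405)))) (BT.node (nat_lit 11244672) (BT.node (nat_lit 11244608) (BT.leaf (nat_lit 32092697)) (BT.leaf (nat_lit 41467405))) (BT.node (nat_lit 11244736) (BT.leaf (nat_lit 41977377)) (BT.leaf (nat_lit 44153121))))))) (BT.node (nat_lit 11245699) (BT.node (nat_lit 11245312) (BT.node (nat_lit 11245056) (BT.node (nat_lit 11244928) (BT.node (nat_lit 11244864) (BT.leaf (nat_lit 40251397)) (BT.leaf (nat_lit 44157729))) (BT.node (nat_lit 11244992) (BT.leaf (nat_lit 44979997)) (BT.leaf (nat_lit 44154145)))) (BT.node (nat_lit 11245184) (BT.node (nat_lit 11245120) (BT.leaf (nat_lit 32871445)) (BT.leaf (nat_lit 40320781))) (BT.node (nat_lit 11245248) (BT.leaf (nat_lit 43508761)) (BT.leaf (nat_lit 40708633))))) (BT.node (nat_lit 11245568) (BT.node (nat_lit 11245440) (BT.node (nat_lit 11245376) (BT.leaf (nat_lit 40708637)) (BT.leaf (nat_lit 45432597))) (BT.node (nat_lit 11245504) (BT.leaf (nat_lit 48124425)) (BT.leaf (nat_lit 41984013)))) (BT.node (nat_lit 11245696) (BT.node (nat_lit 11245632) (BT.leaf (nat_lit 32031509)) (BT.leaf (nat_lit 48124445))) (BT.node (nat_lit 11245698) (BT.leaf (nat_lit 41435397)) (BT.leaf (nat_lit 765800)))))) (BT.node (nat_lit 11246080) (BT.node (nat_lit 11245824) (BT.node (nat_lit 11245703) (BT.node (nat_lit 11245702) (BT.leaf (nat_lit 765800)) (BT.leaf (nat_lit 765800))) (BT.node (nat_lit 11245760) (BT.leaf (nat_lit 765800)) (BT.leaf (nat_lit 44335625)))) (BT.node (nat_lit 11245952) (BT.node (nat_lit 11245888) (BT.leaf (nat_lit 42052369)) (BT.leaf (nat_lit 37915929))) (BT.node (nat_lit 11246016) (BT.leaf (nat_lit 37915933)) (BT.leaf (nat_lit 32890905))))) (BT.node (nat_lit 11246336) (BT.node (nat_lit 11246208) (BT.node (nat_lit 11246144) (BT.leaf (nat_lit 32501265)) (BT.leaf (nat_lit 32985113))) (BT.node (nat_lit 11246272) (BT.leaf (nat_lit 32034325)) (BT.leaf (nat_lit 42612489)))) (BT.node (nat_lit 11246464) (BT.node (nat_lit 11246400) (BT.leaf (nat_lit 42612493)) (BT.leaf (nat_lit 42612505))) (BT.node (nat_lit 11246528) (BT.leaf (nat_lit 42612509)) (BT.leaf (nat_lit 42185221)))))))))) (BT.node (nat_lit 11254784) (BT.node (nat_lit 11250624) (BT.node (nat_lit 11248576) (BT.node (nat_lit 11247616) (BT.node (nat_lit 11247104) (BT.node (nat_lit 11246849) (BT.node (nat_lit 11246784) (BT.node (nat_lit 11246720) (BT.leaf (nat_lit 45625349)) (BT.leaf (nat_lit 37726217))) (BT.node (nat_lit 11246848) (BT.leaf (nat_lit 46146325)) (BT.leaf (nat_lit 44972573)))) (BT.node (nat_lit 11246976) (BT.node (nat_lit 11246912) (BT.leaf (nat_lit 720900)) (BT.leaf (nat_lit 32709649))) (BT.node (nat_lit 11247040) (BT.leaf (nat_lit 46146849)) (BT.leaf (nat_lit 39868437))))) (BT.node (nat_lit 11247360) (BT.node (nat_lit 11247232) (BT.node (nat_lit 11247168) (BT.leaf (nat_lit 39868441)) (BT.leaf (nat_lit 45032457))) (BT.node (nat_lit 11247296) (BT.leaf (nat_lit 44972045)) (BT.leaf (nat_lit 32901905)))) (BT.node (nat_lit 11247488) (BT.node (nat_lit 11247424) (BT.leaf (nat_lit 32901921)) (BT.leaf (nat_lit 41370913))) (BT.node (nat_lit 11247552) (BT.leaf (nat_lit 39797017)) (BT.leaf (nat_lit 45026585)))))) (BT.node (nat_lit 11248128) (BT.node (nat_lit 11247872) (BT.node (nat_lit 11247744) (BT.node (nat_lit 11247680) (BT.leaf (nat_lit 41209621)) (BT.leaf (nat_lit 48306721))) (BT.node (nat_lit 11247808) (BT.leaf (nat_lit 42686213)) (BT.leaf (nat_lit 32074765)))) (BT.node (nat_lit 11248000) (BT.node (nat_lit 11247936) (BT.leaf (nat_lit 32044313)) (BT.leaf (nat_lit 32985617))) (BT.node (nat_lit 11248064) (BT.leaf (nat_lit 40832277)) (BT.leaf (nat_lit 40832281))))) (BT.node (nat_lit 11248321) (BT.node (nat_lit 11248256) (BT.node (nat_lit 11248192) (BT.leaf (nat_lit 40832285)) (BT.leaf (nat_lit 39075601))) (BT.node (nat_lit 11248320) (BT.leaf (nat_lit 40225813)) (BT.leaf (nat_lit 40069913)))) (BT.node (nat_lit 11248448) (BT.node (nat_lit 11248384) (BT.leaf (nat_lit 750540)) (BT.leaf (nat_lit 40069917))) (BT.node (nat_lit 11248512) (BT.leaf (nat_lit 38097681)) (BT.leaf (nat_lit 49428485))))))) (BT.node (nat_lit 11249541) (BT.node (nat_lit 11249088) (BT.node (nat_lit 11248832) (BT.node (nat_lit 11248704) (BT.node (nat_lit 11248640) (BT.leaf (nat_lit 32045577)) (BT.leaf (nat_lit 48145953))) (BT.node (nat_lit 11248768) (BT.leaf (nat_lit 34909457)) (BT.leaf (nat_lit 38007321)))) (BT.node (nat_lit 11248960) (BT.node (nat_lit 11248896) (BT.leaf (nat_lit 38007325)) (BT.leaf (nat_lit 32047889))) (BT.node (nat_lit 11249024) (BT.leaf (nat_lit 32046609)) (BT.leaf (nat_lit 43253013))))) (BT.node (nat_lit 11249344) (BT.node (nat_lit 11249216) (BT.node (nat_lit 11249152) (BT.leaf (nat_lit 43908377)) (BT.leaf (nat_lit 43908381))) (BT.node (nat_lit 11249280) (BT.leaf (nat_lit 32047633)) (BT.leaf (nat_lit 48148761)))) (BT.node (nat_lit 11249472) (BT.node (nat_lit 11249408) (BT.leaf (nat_lit 39639061)) (BT.leaf (nat_lit 45029129))) (BT.node (nat_lit 11249536) (BT.leaf (nat_lit 29049373)) (BT.leaf (nat_lit 29130265)))))) (BT.node (nat_lit 11250112) (BT.node (nat_lit 11249856) (BT.node (nat_lit 11249728) (BT.node (nat_lit 11249664) (BT.leaf (nat_lit 776704)) (BT.leaf (nat_lit 46736917))) (BT.node (nat_lit 11249792) (BT.leaf (nat_lit 30346521)) (BT.leaf (nat_lit 32049425)))) (BT.node (nat_lit 11249922) (BT.node (nat_lit 11249921) (BT.leaf (nat_lit 44297493)) (BT.leaf (nat_lit 714488))) (BT.node (nat_lit 11250048) (BT.leaf (nat_lit 714488)) (BT.leaf (nat_lit 35292697))))) (BT.node (nat_lit 11250368) (BT.node (nat_lit 11250240) (BT.node (nat_lit 11250176) (BT.leaf (nat_lit 49111821)) (BT.leaf (nat_lit 49201681))) (BT.node (nat_lit 11250304) (BT.leaf (nat_lit 41009165)) (BT.leaf (nat_lit 29132569)))) (BT.node (nat_lit 11250496) (BT.node (nat_lit 11250432) (BT.leaf (nat_lit 43350793)) (BT.leaf (nat_lit 43350797))) (BT.node (nat_lit 11250560) (BT.leaf (nat_lit 34915605)) (BT.leaf (nat_lit 43350809)))))))) (BT.node (nat_lit 11252800) (BT.node (nat_lit 11251712) (BT.node (nat_lit 11251136) (BT.node (nat_lit 11250880) (BT.node (nat_lit 11250752) (BT.node (nat_lit 11250688) (BT.leaf (nat_lit 42613021)) (BT.leaf (nat_lit 32026649))) (BT.node (nat_lit 11250816) (BT.leaf (nat_lit 50582813)) (BT.leaf (nat_lit 42613781)))) (BT.node (nat_lit 11251008) (BT.node (nat_lit 11250944) (BT.leaf (nat_lit 44483589)) (BT.leaf (nat_lit 32050441))) (BT.node (nat_lit 11251072) (BT.leaf (nat_lit 36682529)) (BT.leaf (nat_lit 32052741))))) (BT.node (nat_lit 11251392) (BT.node (nat_lit 11251264) (BT.node (nat_lit 11251200) (BT.leaf (nat_lit 45675029)) (BT.leaf (nat_lit 45675033))) (BT.node (nat_lit 11251328) (BT.leaf (nat_lit 45675037)) (BT.leaf (nat_lit 41348869)))) (BT.node (nat_lit 11251520) (BT.node (nat_lit 11251456) (BT.leaf (nat_lit 38926869)) (BT.leaf (nat_lit 45038869))) (BT.node (nat_lit 11251648) (BT.leaf (nat_lit 34919189)) (BT.leaf (nat_lit 32055577)))))) (BT.node (nat_lit 11252288) (BT.node (nat_lit 11251968) (BT.node (nat_lit 11251840) (BT.node (nat_lit 11251776) (BT.leaf (nat_lit 43680273)) (BT.leaf (nat_lit 45008645))) (BT.node (nat_lit 11251904) (BT.leaf (nat_lit 34919445)) (BT.leaf (nat_lit 45006341)))) (BT.node (nat_lit 11252096) (BT.node (nat_lit 11252032) (BT.leaf (nat_lit 47490577)) (BT.leaf (nat_lit 32056601))) (BT.node (nat_lit 11252224) (BT.leaf (nat_lit 45011205)) (BT.leaf (nat_lit 32056605))))) (BT.node (nat_lit 11252544) (BT.node (nat_lit 11252416) (BT.node (nat_lit 11252352) (BT.leaf (nat_lit 31221793)) (BT.leaf (nat_lit 41742357))) (BT.node (nat_lit 11252480) (BT.leaf (nat_lit 42982433)) (BT.leaf (nat_lit 32056849)))) (BT.node (nat_lit 11252672) (BT.node (nat_lit 11252608) (BT.leaf (nat_lit 48160545)) (BT.leaf (nat_lit 38498077))) (BT.node (nat_lit 11252736) (BT.leaf (nat_lit 48483093)) (BT.leaf (nat_lit 42184465))))))) (BT.node (nat_lit 11253824) (BT.node (nat_lit 11253312) (BT.node (nat_lit 11253056) (BT.node (nat_lit 11252928) (BT.node (nat_lit 11252864) (BT.leaf (nat_lit 41283345)) (BT.leaf (nat_lit 36839185))) (BT.node (nat_lit 11252992) (BT.leaf (nat_lit 47984661)) (BT.leaf (nat_lit 43430941)))) (BT.node (nat_lit 11253184) (BT.node (nat_lit 11253120) (BT.leaf (nat_lit 47984669)) (BT.leaf (nat_lit 41511945))) (BT.node (nat_lit 11253248) (BT.leaf (nat_lit 41511953)) (BT.leaf (nat_lit 32057109))))) (BT.node (nat_lit 11253568) (BT.node (nat_lit 11253440) (BT.node (nat_lit 11253376) (BT.leaf (nat_lit 42985477)) (BT.leaf (nat_lit 40950033))) (BT.node (nat_lit 11253504) (BT.leaf (nat_lit 32057885)) (BT.leaf (nat_lit 29176081)))) (BT.node (nat_lit 11253696) (BT.node (nat_lit 11253632) (BT.leaf (nat_lit 32059921)) (BT.leaf (nat_lit 32059665))) (BT.node (nat_lit 11253760) (BT.leaf (nat_lit 42543637)) (BT.leaf (nat_lit 42543641)))))) (BT.node (nat_lit 11254336) (BT.node (nat_lit 11254080) (BT.node (nat_lit 11253952) (BT.node (nat_lit 11253888) (BT.leaf (nat_lit 42543645)) (BT.leaf (nat_lit 30867737))) (BT.node (nat_lit 11254016) (BT.leaf (nat_lit 38437393)) (BT.leaf (nat_lit 50916129)))) (BT.node (nat_lit 11254208) (BT.node (nat_lit 11254144) (BT.leaf (nat_lit 29176605)) (BT.leaf (nat_lit 46292253))) (BT.node (nat_lit 11254272) (BT.leaf (nat_lit 32061193)) (BT.leaf (nat_lit 37041689))))) (BT.node (nat_lit 11254528) (BT.node (nat_lit 11254464) (BT.node (nat_lit 11254400) (BT.leaf (nat_lit 34942485)) (BT.leaf (nat_lit 35209497))) (BT.node (nat_lit 11254465) (BT.leaf (nat_lit 32062241)) (BT.leaf (nat_lit 771964)))) (BT.node (nat_lit 11254656) (BT.node (nat_lit 11254592) (BT.leaf (nat_lit 37825029)) (BT.leaf (nat_lit 37041673))) (BT.node (nat_lit 11254720) (BT.leaf (nat_lit 34921741)) (BT.leaf (nat_lit 45019165))))))))) (BT.node (nat_lit 11259008) (BT.node (nat_lit 11257024) (BT.node (nat_lit 11255936) (BT.node (nat_lit 11255365) (BT.node (nat_lit 11255232) (BT.node (nat_lit 11254976) (BT.node (nat_lit 11254912) (BT.leaf (nat_lit 43001109)) (BT.leaf (nat_lit 32066573))) (BT.node (nat_lit 11255040) (BT.leaf (nat_lit 34944793)) (BT.leaf (nat_lit 32065809)))) (BT.node (nat_lit 11255296) (BT.node (nat_lit 11255237) (BT.leaf (nat_lit 49178125)) (BT.leaf (nat_lit 768404))) (BT.node (nat_lit 11255360) (BT.leaf (nat_lit 32093977)) (BT.leaf (nat_lit 44963089))))) (BT.node (nat_lit 11255616) (BT.node (nat_lit 11255488) (BT.node (nat_lit 11255424) (BT.leaf (nat_lit 776952)) (BT.leaf (nat_lit 30866713))) (BT.node (nat_lit 11255552) (BT.leaf (nat_lit 32069905)) (BT.leaf (nat_lit 38988821)))) (BT.node (nat_lit 11255808) (BT.node (nat_lit 11255744) (BT.leaf (nat_lit 38988825)) (BT.leaf (nat_lit 32070929))) (BT.node (nat_lit 11255872) (BT.leaf (nat_lit 34676505)) (BT.leaf (nat_lit 39079697)))))) (BT.node (nat_lit 11256448) (BT.node (nat_lit 11256192) (BT.node (nat_lit 11256064) (BT.node (nat_lit 11256000) (BT.leaf (nat_lit 51358733)) (BT.leaf (nat_lit 36247069))) (BT.node (nat_lit 11256128) (BT.leaf (nat_lit 43022625)) (BT.leaf (nat_lit 40005133)))) (BT.node (nat_lit 11256320) (BT.node (nat_lit 11256256) (BT.leaf (nat_lit 45026589)) (BT.leaf (nat_lit 39797021))) (BT.node (nat_lit 11256384) (BT.leaf (nat_lit 32071949)) (BT.leaf (nat_lit 32274961))))) (BT.node (nat_lit 11256768) (BT.node (nat_lit 11256576) (BT.node (nat_lit 11256512) (BT.leaf (nat_lit 42249749)) (BT.leaf (nat_lit 49035781))) (BT.node (nat_lit 11256640) (BT.leaf (nat_lit 40005397)) (BT.leaf (nat_lit 45026313)))) (BT.node (nat_lit 11256896) (BT.node (nat_lit 11256832) (BT.leaf (nat_lit 45933077)) (BT.leaf (nat_lit 38733077))) (BT.node (nat_lit 11256960) (BT.leaf (nat_lit 48811553)) (BT.leaf (nat_lit 36260893))))))) (BT.node (nat_lit 11257984) (BT.node (nat_lit 11257472) (BT.node (nat_lit 11257280) (BT.node (nat_lit 11257152) (BT.node (nat_lit 11257088) (BT.leaf (nat_lit 39648801)) (BT.leaf (nat_lit 46939413))) (BT.node (nat_lit 11257216) (BT.leaf (nat_lit 49127181)) (BT.leaf (nat_lit 32049161)))) (BT.node (nat_lit 11257344) (BT.node (nat_lit 11257281) (BT.leaf (nat_lit 32971553)) (BT.leaf (nat_lit 706492))) (BT.node (nat_lit 11257408) (BT.leaf (nat_lit 47271193)) (BT.leaf (nat_lit 32075277))))) (BT.node (nat_lit 11257728) (BT.node (nat_lit 11257600) (BT.node (nat_lit 11257536) (BT.leaf (nat_lit 39869985)) (BT.leaf (nat_lit 32075273))) (BT.node (nat_lit 11257664) (BT.leaf (nat_lit 46146593)) (BT.leaf (nat_lit 45395217)))) (BT.node (nat_lit 11257856) (BT.node (nat_lit 11257792) (BT.leaf (nat_lit 36248861)) (BT.leaf (nat_lit 39869713))) (BT.node (nat_lit 11257920) (BT.leaf (nat_lit 39869729)) (BT.leaf (nat_lit 44797217)))))) (BT.node (nat_lit 11258496) (BT.node (nat_lit 11258240) (BT.node (nat_lit 11258112) (BT.node (nat_lit 11258048) (BT.leaf (nat_lit 39868181)) (BT.leaf (nat_lit 41684249))) (BT.node (nat_lit 11258176) (BT.leaf (nat_lit 41684253)) (BT.leaf (nat_lit 32076049)))) (BT.node (nat_lit 11258368) (BT.node (nat_lit 11258304) (BT.leaf (nat_lit 32076053)) (BT.leaf (nat_lit 39244037))) (BT.node (nat_lit 11258432) (BT.leaf (nat_lit 42609685)) (BT.leaf (nat_lit 32081941))))) (BT.node (nat_lit 11258752) (BT.node (nat_lit 11258624) (BT.node (nat_lit 11258560) (BT.leaf (nat_lit 37607185)) (BT.leaf (nat_lit 32082197))) (BT.node (nat_lit 11258688) (BT.leaf (nat_lit 51731477)) (BT.leaf (nat_lit 45035037)))) (BT.node (nat_lit 11258880) (BT.node (nat_lit 11258816) (BT.leaf (nat_lit 42413333)) (BT.leaf (nat_lit 32081425))) (BT.node (nat_lit 11258944) (BT.leaf (nat_lit 49692165)) (BT.leaf (nat_lit 34934297)))))))) (BT.node (nat_lit 11261120) (BT.node (nat_lit 11260032) (BT.node (nat_lit 11259584) (BT.node (nat_lit 11259264) (BT.node (nat_lit 11259136) (BT.node (nat_lit 11259072) (BT.leaf (nat_lit 44176657)) (BT.leaf (nat_lit 34934285))) (BT.node (nat_lit 11259200) (BT.leaf (nat_lit 32082705)) (BT.leaf (nat_lit 32082449)))) (BT.node (nat_lit 11259456) (BT.node (nat_lit 11259328) (BT.leaf (nat_lit 32082193)) (BT.leaf (nat_lit 46037525))) (BT.node (nat_lit 11259520) (BT.leaf (nat_lit 32051997)) (BT.leaf (nat_lit 45672209))))) (BT.node (nat_lit 11259776) (BT.node (nat_lit 11259648) (BT.node (nat_lit 11259591) (BT.leaf (nat_lit 42430477)) (BT.leaf (nat_lit 718032))) (BT.node (nat_lit 11259712) (BT.leaf (nat_lit 49132825)) (BT.leaf (nat_lit 45038601)))) (BT.node (nat_lit 11259904) (BT.node (nat_lit 11259840) (BT.leaf (nat_lit 34935061)) (BT.leaf (nat_lit 40373537))) (BT.node (nat_lit 11259968) (BT.leaf (nat_lit 49132813)) (BT.leaf (nat_lit 43681041)))))) (BT.node (nat_lit 11260544) (BT.node (nat_lit 11260288) (BT.node (nat_lit 11260160) (BT.node (nat_lit 11260096) (BT.leaf (nat_lit 50293273)) (BT.leaf (nat_lit 32087061))) (BT.node (nat_lit 11260224) (BT.leaf (nat_lit 39679253)) (BT.leaf (nat_lit 32087573)))) (BT.node (nat_lit 11260416) (BT.node (nat_lit 11260352) (BT.leaf (nat_lit 48279569)) (BT.leaf (nat_lit 49152521))) (BT.node (nat_lit 11260480) (BT.leaf (nat_lit 46674713)) (BT.leaf (nat_lit 47359257))))) (BT.node (nat_lit 11260864) (BT.node (nat_lit 11260672) (BT.node (nat_lit 11260608) (BT.leaf (nat_lit 32087329)) (BT.leaf (nat_lit 42923269))) (BT.node (nat_lit 11260736) (BT.leaf (nat_lit 32061209)) (BT.leaf (nat_lit 49152541)))) (BT.node (nat_lit 11260992) (BT.node (nat_lit 11260928) (BT.leaf (nat_lit 32061197)) (BT.leaf (nat_lit 42923297))) (BT.node (nat_lit 11261056) (BT.leaf (nat_lit 32088853)) (BT.leaf (nat_lit 32058905))))))) (BT.node (nat_lit 11262144) (BT.node (nat_lit 11261632) (BT.node (nat_lit 11261376) (BT.node (nat_lit 11261248) (BT.node (nat_lit 11261184) (BT.leaf (nat_lit 41866517)) (BT.leaf (nat_lit 39947793))) (BT.node (nat_lit 11261312) (BT.leaf (nat_lit 34379281)) (BT.leaf (nat_lit 46515985)))) (BT.node (nat_lit 11261504) (BT.node (nat_lit 11261440) (BT.leaf (nat_lit 51168801)) (BT.leaf (nat_lit 32090385))) (BT.node (nat_lit 11261568) (BT.leaf (nat_lit 32089873)) (BT.leaf (nat_lit 32060433))))) (BT.node (nat_lit 11261888) (BT.node (nat_lit 11261760) (BT.node (nat_lit 11261696) (BT.leaf (nat_lit 38103317)) (BT.leaf (nat_lit 51593241))) (BT.node (nat_lit 11261824) (BT.leaf (nat_lit 42979081)) (BT.leaf (nat_lit 50680849)))) (BT.node (nat_lit 11262016) (BT.node (nat_lit 11261952) (BT.leaf (nat_lit 50680853)) (BT.leaf (nat_lit 50680865))) (BT.node (nat_lit 11262080) (BT.leaf (nat_lit 32667421)) (BT.leaf (nat_lit 30852637)))))) (BT.node (nat_lit 11262656) (BT.node (nat_lit 11262400) (BT.node (nat_lit 11262272) (BT.node (nat_lit 11262208) (BT.leaf (nat_lit 43393057)) (BT.leaf (nat_lit 32090905))) (BT.node (nat_lit 11262336) (BT.leaf (nat_lit 40863777)) (BT.leaf (nat_lit 49559073)))) (BT.node (nat_lit 11262528) (BT.node (nat_lit 11262464) (BT.leaf (nat_lit 32069645)) (BT.leaf (nat_lit 32098825))) (BT.node (nat_lit 11262592) (BT.leaf (nat_lit 32092937)) (BT.leaf (nat_lit 39987733))))) (BT.node (nat_lit 11262912) (BT.node (nat_lit 11262784) (BT.node (nat_lit 11262720) (BT.leaf (nat_lit 32098833)) (BT.leaf (nat_lit 48177441))) (BT.node (nat_lit 11262848) (BT.leaf (nat_lit 32092957)) (BT.leaf (nat_lit 49544993)))) (BT.node (nat_lit 11263040) (BT.node (nat_lit 11262976) (BT.leaf (nat_lit 43697185)) (BT.leaf (nat_lit 42667537))) (BT.node (nat_lit 11263104) (BT.leaf (nat_lit 32092953)) (BT.leaf (nat_lit 32093217)))))))))))))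
noncomputable def big0_e104448 : BT Nat := (BT.node (nat_lit 11331520) (BT.node (nat_lit 11297472) (BT.node (nat_lit 11281024) (BT.node (nat_lit 11272384) (BT.node (nat_lit 11267584) (BT.node (nat_lit 11265536) (BT.node (nat_lit 11264384) (BT.node (nat_lit 11263872) (BT.node (nat_lit 11263616) (BT.node (nat_lit 11263488) (BT.node (nat_lit 11263424) (BT.leaf (nat_lit 30654993)) (BT.leaf (nat_lit 34358021))) (BT.node (nat_lit 11263552) (BT.leaf (nat_lit 42919709)) (BT.leaf (nat_lit 32093981)))) (BT.node (nat_lit 11263744) (BT.node (nat_lit 11263680) (BT.leaf (nat_lit 32094213)) (BT.leaf (nat_lit 48326173))) (BT.node (nat_lit 11263808) (BT.leaf (nat_lit 41558277)) (BT.leaf (nat_lit 32123925))))) (BT.node (nat_lit 11264128) (BT.node (nat_lit 11264000) (BT.node (nat_lit 11263936) (BT.leaf (nat_lit 41222417)) (BT.leaf (nat_lit 29249809))) (BT.node (nat_lit 11264064) (BT.leaf (nat_lit 34956309)) (BT.leaf (nat_lit 47998469)))) (BT.node (nat_lit 11264256) (BT.node (nat_lit 11264192) (BT.leaf (nat_lit 28253209)) (BT.leaf (nat_lit 32094981))) (BT.node (nat_lit 11264320) (BT.leaf (nat_lit 37839381)) (BT.leaf (nat_lit 43054085)))))) (BT.node (nat_lit 11264896) (BT.node (nat_lit 11264640) (BT.node (nat_lit 11264512) (BT.node (nat_lit 11264448) (BT.leaf (nat_lit 45057289)) (BT.leaf (nat_lit 34946837))) (BT.node (nat_lit 11264576) (BT.leaf (nat_lit 45039365)) (BT.leaf (nat_lit 33804565)))) (BT.node (nat_lit 11264768) (BT.node (nat_lit 11264704) (BT.leaf (nat_lit 50563089)) (BT.leaf (nat_lit 32095757))) (BT.node (nat_lit 11264832) (BT.leaf (nat_lit 32096009)) (BT.leaf (nat_lit 32095753))))) (BT.node (nat_lit 11265216) (BT.node (nat_lit 11265088) (BT.node (nat_lit 11265024) (BT.leaf (nat_lit 44738333)) (BT.leaf (nat_lit 32096029))) (BT.node (nat_lit 11265152) (BT.leaf (nat_lit 38004753)) (BT.leaf (nat_lit 47984917)))) (BT.node (nat_lit 11265408) (BT.node (nat_lit 11265280) (BT.leaf (nat_lit 38660377)) (BT.leaf (nat_lit 43682569))) (BT.node (nat_lit 11265472) (BT.leaf (nat_lit 40959749)) (BT.leaf (nat_lit 41506593))))))) (BT.node (nat_lit 11266560) (BT.node (nat_lit 11265984) (BT.node (nat_lit 11265730) (BT.node (nat_lit 11265664) (BT.node (nat_lit 11265600) (BT.leaf (nat_lit 41506337)) (BT.leaf (nat_lit 43163669))) (BT.node (nat_lit 11265728) (BT.leaf (nat_lit 45062409)) (BT.leaf (nat_lit 32921629)))) (BT.node (nat_lit 11265792) (BT.node (nat_lit 11265731) (BT.leaf (nat_lit 721440)) (BT.leaf (nat_lit 721440))) (BT.node (nat_lit 11265920) (BT.leaf (nat_lit 38934793)) (BT.leaf (nat_lit 43161109))))) (BT.node (nat_lit 11266304) (BT.node (nat_lit 11266112) (BT.node (nat_lit 11266052) (BT.leaf (nat_lit 43539233)) (BT.leaf (nat_lit 711788))) (BT.node (nat_lit 11266240) (BT.leaf (nat_lit 43547909)) (BT.leaf (nat_lit 41776921)))) (BT.node (nat_lit 11266432) (BT.node (nat_lit 11266368) (BT.leaf (nat_lit 41776925)) (BT.leaf (nat_lit 43120645))) (BT.node (nat_lit 11266496) (BT.leaf (nat_lit 32817669)) (BT.leaf (nat_lit 42452513)))))) (BT.node (nat_lit 11267072) (BT.node (nat_lit 11266816) (BT.node (nat_lit 11266688) (BT.node (nat_lit 11266624) (BT.leaf (nat_lit 45067013)) (BT.leaf (nat_lit 43907857))) (BT.node (nat_lit 11266752) (BT.leaf (nat_lit 44231701)) (BT.leaf (nat_lit 38936093)))) (BT.node (nat_lit 11266944) (BT.node (nat_lit 11266880) (BT.leaf (nat_lit 37791497)) (BT.leaf (nat_lit 41509921))) (BT.node (nat_lit 11267008) (BT.leaf (nat_lit 44232709)) (BT.leaf (nat_lit 31154705))))) (BT.node (nat_lit 11267328) (BT.node (nat_lit 11267200) (BT.node (nat_lit 11267136) (BT.leaf (nat_lit 42643717)) (BT.leaf (nat_lit 44352541))) (BT.node (nat_lit 11267264) (BT.leaf (nat_lit 48699925)) (BT.leaf (nat_lit 40426009)))) (BT.node (nat_lit 11267456) (BT.node (nat_lit 11267392) (BT.leaf (nat_lit 40426013)) (BT.leaf (nat_lit 29594385))) (BT.node (nat_lit 11267520) (BT.leaf (nat_lit 43154437)) (BT.leaf (nat_lit 44468237)))))))) (BT.node (nat_lit 11269760) (BT.node (nat_lit 11268736) (BT.node (nat_lit 11268096) (BT.node (nat_lit 11267840) (BT.node (nat_lit 11267712) (BT.node (nat_lit 11267648) (BT.leaf (nat_lit 45659397)) (BT.leaf (nat_lit 48456469))) (BT.node (nat_lit 11267776) (BT.leaf (nat_lit 43516705)) (BT.leaf (nat_lit 39588121)))) (BT.node (nat_lit 11267968) (BT.node (nat_lit 11267904) (BT.leaf (nat_lit 42895877)) (BT.leaf (nat_lit 32172037))) (BT.node (nat_lit 11268032) (BT.leaf (nat_lit 31788833)) (BT.leaf (nat_lit 41768721))))) (BT.node (nat_lit 11268352) (BT.node (nat_lit 11268224) (BT.node (nat_lit 11268160) (BT.leaf (nat_lit 45150497)) (BT.leaf (nat_lit 32099089))) (BT.node (nat_lit 11268288) (BT.leaf (nat_lit 43659789)) (BT.leaf (nat_lit 31211537)))) (BT.node (nat_lit 11268608) (BT.node (nat_lit 11268416) (BT.leaf (nat_lit 41644549)) (BT.leaf (nat_lit 44880925))) (BT.node (nat_lit 11268672) (BT.leaf (nat_lit 41645829)) (BT.leaf (nat_lit 39308561)))))) (BT.node (nat_lit 11269248) (BT.node (nat_lit 11268992) (BT.node (nat_lit 11268864) (BT.node (nat_lit 11268800) (BT.leaf (nat_lit 39308565)) (BT.leaf (nat_lit 48887049))) (BT.node (nat_lit 11268928) (BT.leaf (nat_lit 30560025)) (BT.leaf (nat_lit 41158673)))) (BT.node (nat_lit 11269120) (BT.node (nat_lit 11269056) (BT.leaf (nat_lit 41158677)) (BT.leaf (nat_lit 33851677))) (BT.node (nat_lit 11269184) (BT.leaf (nat_lit 32103197)) (BT.leaf (nat_lit 41649157))))) (BT.node (nat_lit 11269504) (BT.node (nat_lit 11269376) (BT.node (nat_lit 11269312) (BT.leaf (nat_lit 38116117)) (BT.leaf (nat_lit 31772689))) (BT.node (nat_lit 11269440) (BT.leaf (nat_lit 47960341)) (BT.leaf (nat_lit 44003865)))) (BT.node (nat_lit 11269632) (BT.node (nat_lit 11269568) (BT.leaf (nat_lit 44003869)) (BT.leaf (nat_lit 48923157))) (BT.node (nat_lit 11269696) (BT.leaf (nat_lit 32314897)) (BT.leaf (nat_lit 31770137))))))) (BT.node (nat_lit 11271232) (BT.node (nat_lit 11270336) (BT.node (nat_lit 11270016) (BT.node (nat_lit 11269888) (BT.node (nat_lit 11269824) (BT.leaf (nat_lit 48921113)) (BT.leaf (nat_lit 32107793))) (BT.node (nat_lit 11269952) (BT.leaf (nat_lit 41206305)) (BT.leaf (nat_lit 44593161)))) (BT.node (nat_lit 11270208) (BT.node (nat_lit 11270144) (BT.leaf (nat_lit 50819589)) (BT.leaf (nat_lit 45099285))) (BT.node (nat_lit 11270272) (BT.leaf (nat_lit 29691401)) (BT.leaf (nat_lit 48291857))))) (BT.node (nat_lit 11270720) (BT.node (nat_lit 11270528) (BT.node (nat_lit 11270400) (BT.leaf (nat_lit 32109833)) (BT.leaf (nat_lit 32109853))) (BT.node (nat_lit 11270592) (BT.leaf (nat_lit 51338785)) (BT.leaf (nat_lit 51841549)))) (BT.node (nat_lit 11270848) (BT.node (nat_lit 11270784) (BT.leaf (nat_lit 44195609)) (BT.leaf (nat_lit 44195613))) (BT.node (nat_lit 11271104) (BT.leaf (nat_lit 44601869)) (BT.leaf (nat_lit 45084173)))))) (BT.node (nat_lit 11271872) (BT.node (nat_lit 11271616) (BT.node (nat_lit 11271360) (BT.node (nat_lit 11271296) (BT.leaf (nat_lit 32112149)) (BT.leaf (nat_lit 45985813))) (BT.node (nat_lit 11271552) (BT.leaf (nat_lit 49955089)) (BT.leaf (nat_lit 44603913)))) (BT.node (nat_lit 11271744) (BT.node (nat_lit 11271680) (BT.leaf (nat_lit 30332689)) (BT.leaf (nat_lit 43426065))) (BT.node (nat_lit 11271808) (BT.leaf (nat_lit 43501061)) (BT.leaf (nat_lit 39137285))))) (BT.node (nat_lit 11272128) (BT.node (nat_lit 11272000) (BT.node (nat_lit 11271936) (BT.leaf (nat_lit 32693777)) (BT.leaf (nat_lit 41210909))) (BT.node (nat_lit 11272064) (BT.leaf (nat_lit 34842909)) (BT.leaf (nat_lit 32116997)))) (BT.node (nat_lit 11272256) (BT.node (nat_lit 11272192) (BT.leaf (nat_lit 40543757)) (BT.leaf (nat_lit 32117281))) (BT.node (nat_lit 11272320) (BT.leaf (nat_lit 40543769)) (BT.leaf (nat_lit 38003997))))))))) (BT.node (nat_lit 11276736) (BT.node (nat_lit 11274624) (BT.node (nat_lit 11273600) (BT.node (nat_lit 11272960) (BT.node (nat_lit 11272704) (BT.node (nat_lit 11272576) (BT.node (nat_lit 11272448) (BT.leaf (nat_lit 38596629)) (BT.leaf (nat_lit 38038285))) (BT.node (nat_lit 11272640) (BT.leaf (nat_lit 41700897)) (BT.leaf (nat_lit 41691937)))) (BT.node (nat_lit 11272832) (BT.node (nat_lit 11272768) (BT.leaf (nat_lit 46845461)) (BT.leaf (nat_lit 41001241))) (BT.node (nat_lit 11272896) (BT.leaf (nat_lit 41001245)) (BT.leaf (nat_lit 44587285))))) (BT.node (nat_lit 11273280) (BT.node (nat_lit 11273152) (BT.node (nat_lit 11273024) (BT.leaf (nat_lit 45091589)) (BT.leaf (nat_lit 32116765))) (BT.node (nat_lit 11273216) (BT.leaf (nat_lit 41701897)) (BT.leaf (nat_lit 43498017)))) (BT.node (nat_lit 11273408) (BT.node (nat_lit 11273344) (BT.leaf (nat_lit 45095177)) (BT.leaf (nat_lit 43498005))) (BT.node (nat_lit 11273472) (BT.leaf (nat_lit 43498009)) (BT.leaf (nat_lit 43498013)))))) (BT.node (nat_lit 11274112) (BT.node (nat_lit 11273856) (BT.node (nat_lit 11273728) (BT.node (nat_lit 11273664) (BT.leaf (nat_lit 42515721)) (BT.leaf (nat_lit 41701657))) (BT.node (nat_lit 11273792) (BT.leaf (nat_lit 41179401)) (BT.leaf (nat_lit 45334789)))) (BT.node (nat_lit 11273984) (BT.node (nat_lit 11273920) (BT.leaf (nat_lit 46150165)) (BT.leaf (nat_lit 42042649))) (BT.node (nat_lit 11274048) (BT.leaf (nat_lit 41179409)) (BT.leaf (nat_lit 32117257))))) (BT.node (nat_lit 11274368) (BT.node (nat_lit 11274240) (BT.node (nat_lit 11274176) (BT.leaf (nat_lit 44589849)) (BT.leaf (nat_lit 44589333))) (BT.node (nat_lit 11274304) (BT.leaf (nat_lit 28152077)) (BT.leaf (nat_lit 42814981)))) (BT.node (nat_lit 11274496) (BT.node (nat_lit 11274432) (BT.leaf (nat_lit 32117017)) (BT.leaf (nat_lit 46289925))) (BT.node (nat_lit 11274560) (BT.leaf (nat_lit 32117789)) (BT.leaf (nat_lit 28152093))))))) (BT.node (nat_lit 11275648) (BT.node (nat_lit 11275136) (BT.node (nat_lit 11274880) (BT.node (nat_lit 11274752) (BT.node (nat_lit 11274688) (BT.leaf (nat_lit 44589833)) (BT.leaf (nat_lit 28152089))) (BT.node (nat_lit 11274816) (BT.leaf (nat_lit 43748869)) (BT.leaf (nat_lit 48800541)))) (BT.node (nat_lit 11275008) (BT.node (nat_lit 11274944) (BT.leaf (nat_lit 44589853)) (BT.leaf (nat_lit 45080329))) (BT.node (nat_lit 11275072) (BT.leaf (nat_lit 45098521)) (BT.leaf (nat_lit 43748897))))) (BT.node (nat_lit 11275328) (BT.node (nat_lit 11275200) (BT.node (nat_lit 11275143) (BT.leaf (nat_lit 32693525)) (BT.leaf (nat_lit 716552))) (BT.node (nat_lit 11275264) (BT.leaf (nat_lit 31751701)) (BT.leaf (nat_lit 45483785)))) (BT.node (nat_lit 11275456) (BT.node (nat_lit 11275392) (BT.leaf (nat_lit 43240965)) (BT.leaf (nat_lit 37044509))) (BT.node (nat_lit 11275584) (BT.leaf (nat_lit 30764829)) (BT.leaf (nat_lit 43939865)))))) (BT.node (nat_lit 11276160) (BT.node (nat_lit 11275904) (BT.node (nat_lit 11275776) (BT.node (nat_lit 11275712) (BT.leaf (nat_lit 32118809)) (BT.leaf (nat_lit 39447825))) (BT.node (nat_lit 11275840) (BT.leaf (nat_lit 39447829)) (BT.leaf (nat_lit 32119069)))) (BT.node (nat_lit 11276032) (BT.node (nat_lit 11275968) (BT.leaf (nat_lit 37045021)) (BT.leaf (nat_lit 32118813))) (BT.node (nat_lit 11276096) (BT.leaf (nat_lit 45516309)) (BT.leaf (nat_lit 32119065))))) (BT.node (nat_lit 11276416) (BT.node (nat_lit 11276288) (BT.node (nat_lit 11276224) (BT.leaf (nat_lit 44600589)) (BT.leaf (nat_lit 32120093))) (BT.node (nat_lit 11276352) (BT.leaf (nat_lit 41720349)) (BT.leaf (nat_lit 32120089)))) (BT.node (nat_lit 11276608) (BT.node (nat_lit 11276544) (BT.leaf (nat_lit 29707285)) (BT.leaf (nat_lit 32374549))) (BT.node (nat_lit 11276672) (BT.leaf (nat_lit 45506309)) (BT.leaf (nat_lit 30916369)))))))) (BT.node (nat_lit 11279168) (BT.node (nat_lit 11277952) (BT.node (nat_lit 11277376) (BT.node (nat_lit 11277056) (BT.node (nat_lit 11276928) (BT.node (nat_lit 11276800) (BT.leaf (nat_lit 32122385)) (BT.leaf (nat_lit 45107485))) (BT.node (nat_lit 11276992) (BT.leaf (nat_lit 30916113)) (BT.leaf (nat_lit 39002885)))) (BT.node (nat_lit 11277248) (BT.node (nat_lit 11277184) (BT.leaf (nat_lit 31720721)) (BT.leaf (nat_lit 28155665))) (BT.node (nat_lit 11277312) (BT.leaf (nat_lit 32122645)) (BT.leaf (nat_lit 40343049))))) (BT.node (nat_lit 11277632) (BT.node (nat_lit 11277504) (BT.node (nat_lit 11277440) (BT.leaf (nat_lit 40343053)) (BT.leaf (nat_lit 31722261))) (BT.node (nat_lit 11277568) (BT.leaf (nat_lit 47645473)) (BT.leaf (nat_lit 47645217)))) (BT.node (nat_lit 11277824) (BT.node (nat_lit 11277696) (BT.leaf (nat_lit 50571289)) (BT.leaf (nat_lit 32123673))) (BT.node (nat_lit 11277888) (BT.leaf (nat_lit 32124189)) (BT.leaf (nat_lit 34370589)))))) (BT.node (nat_lit 11278720) (BT.node (nat_lit 11278464) (BT.node (nat_lit 11278208) (BT.node (nat_lit 11278144) (BT.leaf (nat_lit 32123677)) (BT.leaf (nat_lit 32124185))) (BT.node (nat_lit 11278400) (BT.leaf (nat_lit 40081433)) (BT.leaf (nat_lit 32236061)))) (BT.node (nat_lit 11278592) (BT.node (nat_lit 11278528) (BT.leaf (nat_lit 39084049)) (BT.leaf (nat_lit 39084053))) (BT.node (nat_lit 11278656) (BT.leaf (nat_lit 42190869)) (BT.leaf (nat_lit 42190873))))) (BT.node (nat_lit 11278976) (BT.node (nat_lit 11278848) (BT.node (nat_lit 11278784) (BT.leaf (nat_lit 42190877)) (BT.leaf (nat_lit 32126225))) (BT.node (nat_lit 11278912) (BT.leaf (nat_lit 41990929)) (BT.leaf (nat_lit 41990933)))) (BT.node (nat_lit 11279045) (BT.node (nat_lit 11279040) (BT.leaf (nat_lit 50575633)) (BT.leaf (nat_lit 50575649))) (BT.node (nat_lit 11279104) (BT.leaf (nat_lit 775920)) (BT.leaf (nat_lit 44548365))))))) (BT.node (nat_lit 11280128) (BT.node (nat_lit 11279624) (BT.node (nat_lit 11279424) (BT.node (nat_lit 11279296) (BT.node (nat_lit 11279232) (BT.leaf (nat_lit 44544521)) (BT.leaf (nat_lit 48888605))) (BT.node (nat_lit 11279360) (BT.leaf (nat_lit 32272913)) (BT.leaf (nat_lit 37881353)))) (BT.node (nat_lit 11279552) (BT.node (nat_lit 11279488) (BT.leaf (nat_lit 31731733)) (BT.leaf (nat_lit 37882145))) (BT.node (nat_lit 11279616) (BT.leaf (nat_lit 38329349)) (BT.leaf (nat_lit 39238153))))) (BT.node (nat_lit 11279872) (BT.node (nat_lit 11279744) (BT.node (nat_lit 11279680) (BT.leaf (nat_lit 771192)) (BT.leaf (nat_lit 39238161))) (BT.node (nat_lit 11279808) (BT.leaf (nat_lit 48898329)) (BT.leaf (nat_lit 38888733)))) (BT.node (nat_lit 11280000) (BT.node (nat_lit 11279936) (BT.leaf (nat_lit 42712841)) (BT.leaf (nat_lit 39408673))) (BT.node (nat_lit 11280064) (BT.leaf (nat_lit 42560005)) (BT.leaf (nat_lit 32129809)))))) (BT.node (nat_lit 11280512) (BT.node (nat_lit 11280384) (BT.node (nat_lit 11280256) (BT.node (nat_lit 11280192) (BT.leaf (nat_lit 42712857)) (BT.leaf (nat_lit 47439381))) (BT.node (nat_lit 11280320) (BT.leaf (nat_lit 43826457)) (BT.leaf (nat_lit 45166609)))) (BT.node (nat_lit 11280389) (BT.node (nat_lit 11280388) (BT.leaf (nat_lit 48934413)) (BT.leaf (nat_lit 705464))) (BT.node (nat_lit 11280448) (BT.leaf (nat_lit 705464)) (BT.leaf (nat_lit 44545549))))) (BT.node (nat_lit 11280768) (BT.node (nat_lit 11280640) (BT.node (nat_lit 11280576) (BT.leaf (nat_lit 44438533)) (BT.leaf (nat_lit 44421133))) (BT.node (nat_lit 11280704) (BT.leaf (nat_lit 41124385)) (BT.leaf (nat_lit 40173585)))) (BT.node (nat_lit 11280896) (BT.node (nat_lit 11280832) (BT.leaf (nat_lit 40173589)) (BT.leaf (nat_lit 51019805))) (BT.node (nat_lit 11280960) (BT.leaf (nat_lit 45123869)) (BT.leaf (nat_lit 30340625)))))))))) (BT.node (nat_lit 11289344) (BT.node (nat_lit 11285120) (BT.node (nat_lit 11283072) (BT.node (nat_lit 11282048) (BT.node (nat_lit 11281536) (BT.node (nat_lit 11281280) (BT.node (nat_lit 11281152) (BT.node (nat_lit 11281088) (BT.leaf (nat_lit 45566221)) (BT.leaf (nat_lit 32131349))) (BT.node (nat_lit 11281216) (BT.leaf (nat_lit 40393993)) (BT.leaf (nat_lit 40393997)))) (BT.node (nat_lit 11281408) (BT.node (nat_lit 11281344) (BT.leaf (nat_lit 40394009)) (BT.leaf (nat_lit 42503685))) (BT.node (nat_lit 11281472) (BT.leaf (nat_lit 42933785)) (BT.leaf (nat_lit 48183317))))) (BT.node (nat_lit 11281792) (BT.node (nat_lit 11281668) (BT.node (nat_lit 11281664) (BT.leaf (nat_lit 42933521)) (BT.leaf (nat_lit 43909637))) (BT.node (nat_lit 11281728) (BT.leaf (nat_lit 740252)) (BT.leaf (nat_lit 48039185)))) (BT.node (nat_lit 11281920) (BT.node (nat_lit 11281856) (BT.leaf (nat_lit 38265621)) (BT.leaf (nat_lit 32132377))) (BT.node (nat_lit 11281984) (BT.leaf (nat_lit 38619921)) (BT.leaf (nat_lit 42430997)))))) (BT.node (nat_lit 11282560) (BT.node (nat_lit 11282304) (BT.node (nat_lit 11282176) (BT.node (nat_lit 11282112) (BT.leaf (nat_lit 32133649)) (BT.leaf (nat_lit 52061193))) (BT.node (nat_lit 11282240) (BT.leaf (nat_lit 52061197)) (BT.leaf (nat_lit 32133137)))) (BT.node (nat_lit 11282432) (BT.node (nat_lit 11282368) (BT.leaf (nat_lit 41022489)) (BT.leaf (nat_lit 39323909))) (BT.node (nat_lit 11282496) (BT.leaf (nat_lit 31821337)) (BT.leaf (nat_lit 39323921))))) (BT.node (nat_lit 11282816) (BT.node (nat_lit 11282688) (BT.node (nat_lit 11282624) (BT.leaf (nat_lit 39323925)) (BT.leaf (nat_lit 33839133))) (BT.node (nat_lit 11282752) (BT.leaf (nat_lit 31821341)) (BT.leaf (nat_lit 41543941)))) (BT.node (nat_lit 11282944) (BT.node (nat_lit 11282880) (BT.leaf (nat_lit 39352341)) (BT.leaf (nat_lit 29562889))) (BT.node (nat_lit 11283008) (BT.leaf (nat_lit 39328785)) (BT.leaf (nat_lit 34794517))))))) (BT.node (nat_lit 11284096) (BT.node (nat_lit 11283584) (BT.node (nat_lit 11283264) (BT.node (nat_lit 11283200) (BT.node (nat_lit 11283136) (BT.leaf (nat_lit 39328801)) (BT.leaf (nat_lit 31347225))) (BT.node (nat_lit 11283201) (BT.leaf (nat_lit 38933025)) (BT.leaf (nat_lit 712052)))) (BT.node (nat_lit 11283456) (BT.node (nat_lit 11283392) (BT.leaf (nat_lit 32482337)) (BT.leaf (nat_lit 45850885))) (BT.node (nat_lit 11283520) (BT.leaf (nat_lit 45709853)) (BT.leaf (nat_lit 42597125))))) (BT.node (nat_lit 11283840) (BT.node (nat_lit 11283712) (BT.node (nat_lit 11283648) (BT.leaf (nat_lit 43488261)) (BT.leaf (nat_lit 41077773))) (BT.node (nat_lit 11283776) (BT.leaf (nat_lit 29564177)) (BT.leaf (nat_lit 32142609)))) (BT.node (nat_lit 11283968) (BT.node (nat_lit 11283904) (BT.leaf (nat_lit 31595025)) (BT.leaf (nat_lit 35033621))) (BT.node (nat_lit 11284032) (BT.leaf (nat_lit 35033629)) (BT.leaf (nat_lit 32142353)))))) (BT.node (nat_lit 11284608) (BT.node (nat_lit 11284352) (BT.node (nat_lit 11284224) (BT.node (nat_lit 11284160) (BT.leaf (nat_lit 40052997)) (BT.leaf (nat_lit 32143385))) (BT.node (nat_lit 11284288) (BT.leaf (nat_lit 32143641)) (BT.leaf (nat_lit 40053009)))) (BT.node (nat_lit 11284480) (BT.node (nat_lit 11284416) (BT.leaf (nat_lit 42726677)) (BT.leaf (nat_lit 40053025))) (BT.node (nat_lit 11284544) (BT.leaf (nat_lit 38480401)) (BT.leaf (nat_lit 42791173))))) (BT.node (nat_lit 11284864) (BT.node (nat_lit 11284736) (BT.node (nat_lit 11284672) (BT.leaf (nat_lit 32145417)) (BT.leaf (nat_lit 40972805))) (BT.node (nat_lit 11284800) (BT.leaf (nat_lit 43370005)) (BT.leaf (nat_lit 34962965)))) (BT.node (nat_lit 11284992) (BT.node (nat_lit 11284928) (BT.leaf (nat_lit 34922509)) (BT.leaf (nat_lit 35957013))) (BT.node (nat_lit 11285056) (BT.leaf (nat_lit 41581573)) (BT.leaf (nat_lit 43581717)))))))) (BT.node (nat_lit 11287360) (BT.node (nat_lit 11286208) (BT.node (nat_lit 11285696) (BT.node (nat_lit 11285376) (BT.node (nat_lit 11285248) (BT.node (nat_lit 11285184) (BT.leaf (nat_lit 49463045)) (BT.leaf (nat_lit 40869385))) (BT.node (nat_lit 11285312) (BT.leaf (nat_lit 47324181)) (BT.leaf (nat_lit 40341509)))) (BT.node (nat_lit 11285504) (BT.node (nat_lit 11285440) (BT.leaf (nat_lit 48805905)) (BT.leaf (nat_lit 47323925))) (BT.node (nat_lit 11285568) (BT.leaf (nat_lit 48348685)) (BT.leaf (nat_lit 41586437))))) (BT.node (nat_lit 11285952) (BT.node (nat_lit 11285824) (BT.node (nat_lit 11285760) (BT.leaf (nat_lit 43584801)) (BT.leaf (nat_lit 43584545))) (BT.node (nat_lit 11285888) (BT.leaf (nat_lit 32824089)) (BT.leaf (nat_lit 43427601)))) (BT.node (nat_lit 11286080) (BT.node (nat_lit 11286016) (BT.leaf (nat_lit 44688153)) (BT.leaf (nat_lit 32157729))) (BT.node (nat_lit 11286144) (BT.leaf (nat_lit 48937501)) (BT.leaf (nat_lit 41475361)))))) (BT.node (nat_lit 11286720) (BT.node (nat_lit 11286464) (BT.node (nat_lit 11286336) (BT.node (nat_lit 11286272) (BT.leaf (nat_lit 47029273)) (BT.leaf (nat_lit 48940829))) (BT.node (nat_lit 11286400) (BT.leaf (nat_lit 32156185)) (BT.leaf (nat_lit 43002125)))) (BT.node (nat_lit 11286592) (BT.node (nat_lit 11286528) (BT.leaf (nat_lit 32156957)) (BT.leaf (nat_lit 32154653))) (BT.node (nat_lit 11286656) (BT.leaf (nat_lit 41323537)) (BT.leaf (nat_lit 32157465))))) (BT.node (nat_lit 11287104) (BT.node (nat_lit 11286976) (BT.node (nat_lit 11286848) (BT.leaf (nat_lit 32156953)) (BT.leaf (nat_lit 40333833))) (BT.node (nat_lit 11287040) (BT.leaf (nat_lit 44945941)) (BT.leaf (nat_lit 39020301)))) (BT.node (nat_lit 11287232) (BT.node (nat_lit 11287168) (BT.leaf (nat_lit 44914181)) (BT.leaf (nat_lit 43070745))) (BT.node (nat_lit 11287296) (BT.leaf (nat_lit 43070749)) (BT.leaf (nat_lit 45149453))))))) (BT.node (nat_lit 11288384) (BT.node (nat_lit 11287872) (BT.node (nat_lit 11287616) (BT.node (nat_lit 11287488) (BT.node (nat_lit 11287424) (BT.leaf (nat_lit 43825925)) (BT.leaf (nat_lit 45166625))) (BT.node (nat_lit 11287552) (BT.leaf (nat_lit 44427549)) (BT.leaf (nat_lit 44442393)))) (BT.node (nat_lit 11287744) (BT.node (nat_lit 11287680) (BT.leaf (nat_lit 44442397)) (BT.leaf (nat_lit 48428549))) (BT.node (nat_lit 11287808) (BT.leaf (nat_lit 42007821)) (BT.leaf (nat_lit 42007833))))) (BT.node (nat_lit 11288128) (BT.node (nat_lit 11288000) (BT.node (nat_lit 11287936) (BT.leaf (nat_lit 49163269)) (BT.leaf (nat_lit 42007841))) (BT.node (nat_lit 11288064) (BT.leaf (nat_lit 42839049)) (BT.leaf (nat_lit 32321037)))) (BT.node (nat_lit 11288256) (BT.node (nat_lit 11288192) (BT.leaf (nat_lit 44817945)) (BT.leaf (nat_lit 44817949))) (BT.node (nat_lit 11288320) (BT.leaf (nat_lit 47597077)) (BT.leaf (nat_lit 39730209)))))) (BT.node (nat_lit 11288832) (BT.node (nat_lit 11288640) (BT.node (nat_lit 11288512) (BT.node (nat_lit 11288448) (BT.leaf (nat_lit 32738581)) (BT.leaf (nat_lit 39921433))) (BT.node (nat_lit 11288576) (BT.leaf (nat_lit 32738833)) (BT.leaf (nat_lit 39949325)))) (BT.node (nat_lit 11288709) (BT.node (nat_lit 11288704) (BT.leaf (nat_lit 45154329)) (BT.leaf (nat_lit 44303629))) (BT.node (nat_lit 11288768) (BT.leaf (nat_lit 766616)) (BT.leaf (nat_lit 44418589))))) (BT.node (nat_lit 11289088) (BT.node (nat_lit 11288960) (BT.node (nat_lit 11288896) (BT.leaf (nat_lit 48657157)) (BT.leaf (nat_lit 48657161))) (BT.node (nat_lit 11289024) (BT.leaf (nat_lit 48657165)) (BT.leaf (nat_lit 48657169)))) (BT.node (nat_lit 11289216) (BT.node (nat_lit 11289152) (BT.leaf (nat_lit 42397977)) (BT.leaf (nat_lit 48657181))) (BT.node (nat_lit 11289280) (BT.leaf (nat_lit 48657185)) (BT.leaf (nat_lit 40384005))))))))) (BT.node (nat_lit 11293248) (BT.node (nat_lit 11291456) (BT.node (nat_lit 11290240) (BT.node (nat_lit 11289920) (BT.node (nat_lit 11289600) (BT.node (nat_lit 11289472) (BT.node (nat_lit 11289408) (BT.leaf (nat_lit 39948557)) (BT.leaf (nat_lit 43147297))) (BT.node (nat_lit 11289536) (BT.leaf (nat_lit 32164629)) (BT.leaf (nat_lit 41631265)))) (BT.node (nat_lit 11289728) (BT.node (nat_lit 11289664) (BT.leaf (nat_lit 45554693)) (BT.leaf (nat_lit 47050253))) (BT.node (nat_lit 11289856) (BT.leaf (nat_lit 45555205)) (BT.leaf (nat_lit 51019269))))) (BT.node (nat_lit 11289992) (BT.node (nat_lit 11289990) (BT.node (nat_lit 11289984) (BT.leaf (nat_lit 30926857)) (BT.leaf (nat_lit 45161225))) (BT.node (nat_lit 11289991) (BT.leaf (nat_lit 716300)) (BT.leaf (nat_lit 716300)))) (BT.node (nat_lit 11290112) (BT.node (nat_lit 11290048) (BT.leaf (nat_lit 716300)) (BT.leaf (nat_lit 45160477))) (BT.node (nat_lit 11290176) (BT.leaf (nat_lit 31580181)) (BT.leaf (nat_lit 32673057)))))) (BT.node (nat_lit 11290752) (BT.node (nat_lit 11290496) (BT.node (nat_lit 11290368) (BT.node (nat_lit 11290304) (BT.leaf (nat_lit 30926861)) (BT.leaf (nat_lit 38173969))) (BT.node (nat_lit 11290432) (BT.leaf (nat_lit 45160457)) (BT.leaf (nat_lit 38498849)))) (BT.node (nat_lit 11290624) (BT.node (nat_lit 11290560) (BT.leaf (nat_lit 45784857)) (BT.leaf (nat_lit 31029537))) (BT.node (nat_lit 11290688) (BT.leaf (nat_lit 32170273)) (BT.leaf (nat_lit 32170017))))) (BT.node (nat_lit 11291072) (BT.node (nat_lit 11290944) (BT.node (nat_lit 11290880) (BT.leaf (nat_lit 44322329)) (BT.leaf (nat_lit 48906249))) (BT.node (nat_lit 11291008) (BT.leaf (nat_lit 38518049)) (BT.leaf (nat_lit 38302217)))) (BT.node (nat_lit 11291200) (BT.node (nat_lit 11291136) (BT.leaf (nat_lit 38302225)) (BT.leaf (nat_lit 38302237))) (BT.node (nat_lit 11291392) (BT.leaf (nat_lit 38302241)) (BT.leaf (nat_lit 42847249))))))) (BT.node (nat_lit 11292480) (BT.node (nat_lit 11291968) (BT.node (nat_lit 11291712) (BT.node (nat_lit 11291584) (BT.node (nat_lit 11291520) (BT.leaf (nat_lit 43614981)) (BT.leaf (nat_lit 43825933))) (BT.node (nat_lit 11291648) (BT.leaf (nat_lit 45121293)) (BT.leaf (nat_lit 32170773)))) (BT.node (nat_lit 11291840) (BT.node (nat_lit 11291776) (BT.leaf (nat_lit 42254361)) (BT.leaf (nat_lit 45121313))) (BT.node (nat_lit 11291904) (BT.leaf (nat_lit 34762769)) (BT.leaf (nat_lit 42552069))))) (BT.node (nat_lit 11292224) (BT.node (nat_lit 11292096) (BT.node (nat_lit 11292032) (BT.leaf (nat_lit 46610957)) (BT.leaf (nat_lit 39534089))) (BT.node (nat_lit 11292160) (BT.leaf (nat_lit 48798741)) (BT.leaf (nat_lit 31580949)))) (BT.node (nat_lit 11292352) (BT.node (nat_lit 11292288) (BT.leaf (nat_lit 43681293)) (BT.leaf (nat_lit 32172821))) (BT.node (nat_lit 11292416) (BT.leaf (nat_lit 46610953)) (BT.leaf (nat_lit 46610969)))))) (BT.node (nat_lit 11292736) (BT.node (nat_lit 11292544) (BT.node (nat_lit 11292483) (BT.node (nat_lit 11292481) (BT.leaf (nat_lit 45629217)) (BT.leaf (nat_lit 746788))) (BT.node (nat_lit 11292485) (BT.leaf (nat_lit 746788)) (BT.leaf (nat_lit 746788)))) (BT.node (nat_lit 11292672) (BT.node (nat_lit 11292608) (BT.leaf (nat_lit 31749917)) (BT.leaf (nat_lit 48798485))) (BT.node (nat_lit 11292673) (BT.leaf (nat_lit 32171541)) (BT.leaf (nat_lit 720376))))) (BT.node (nat_lit 11292992) (BT.node (nat_lit 11292864) (BT.node (nat_lit 11292800) (BT.leaf (nat_lit 49746977)) (BT.leaf (nat_lit 39336993))) (BT.node (nat_lit 11292928) (BT.leaf (nat_lit 40301329)) (BT.leaf (nat_lit 40301333)))) (BT.node (nat_lit 11293120) (BT.node (nat_lit 11293056) (BT.leaf (nat_lit 43923217)) (BT.leaf (nat_lit 43923221))) (BT.node (nat_lit 11293184) (BT.leaf (nat_lit 32173585)) (BT.leaf (nat_lit 41728773)))))))) (BT.node (nat_lit 11295232) (BT.node (nat_lit 11294336) (BT.node (nat_lit 11293760) (BT.node (nat_lit 11293504) (BT.node (nat_lit 11293376) (BT.node (nat_lit 11293312) (BT.leaf (nat_lit 45172761)) (BT.leaf (nat_lit 42032405))) (BT.node (nat_lit 11293440) (BT.leaf (nat_lit 43694345)) (BT.leaf (nat_lit 32178453)))) (BT.node (nat_lit 11293632) (BT.node (nat_lit 11293568) (BT.leaf (nat_lit 43694361)) (BT.leaf (nat_lit 43694365))) (BT.node (nat_lit 11293696) (BT.leaf (nat_lit 49584917)) (BT.leaf (nat_lit 50615313))))) (BT.node (nat_lit 11294016) (BT.node (nat_lit 11293952) (BT.node (nat_lit 11293888) (BT.leaf (nat_lit 42421529)) (BT.leaf (nat_lit 46375437))) (BT.node (nat_lit 11293959) (BT.leaf (nat_lit 41070369)) (BT.leaf (nat_lit 773760)))) (BT.node (nat_lit 11294208) (BT.node (nat_lit 11294080) (BT.leaf (nat_lit 52426013)) (BT.leaf (nat_lit 52426261))) (BT.node (nat_lit 11294272) (BT.leaf (nat_lit 39253017)) (BT.leaf (nat_lit 45177357)))))) (BT.node (nat_lit 11294727) (BT.node (nat_lit 11294720) (BT.node (nat_lit 11294528) (BT.node (nat_lit 11294400) (BT.leaf (nat_lit 52426517)) (BT.leaf (nat_lit 37976853))) (BT.node (nat_lit 11294592) (BT.leaf (nat_lit 42205205)) (BT.leaf (nat_lit 32956437)))) (BT.node (nat_lit 11294723) (BT.node (nat_lit 11294721) (BT.leaf (nat_lit 34815005)) (BT.leaf (nat_lit 793716))) (BT.node (nat_lit 11294725) (BT.leaf (nat_lit 793716)) (BT.leaf (nat_lit 793716))))) (BT.node (nat_lit 11294976) (BT.node (nat_lit 11294848) (BT.node (nat_lit 11294784) (BT.leaf (nat_lit 793716)) (BT.leaf (nat_lit 52033557))) (BT.node (nat_lit 11294912) (BT.leaf (nat_lit 38973713)) (BT.leaf (nat_lit 38973717)))) (BT.node (nat_lit 11295104) (BT.node (nat_lit 11295040) (BT.leaf (nat_lit 43926793)) (BT.leaf (nat_lit 37976857))) (BT.node (nat_lit 11295168) (BT.leaf (nat_lit 42208029)) (BT.leaf (nat_lit 32183057))))))) (BT.node (nat_lit 11296384) (BT.node (nat_lit 11295744) (BT.node (nat_lit 11295488) (BT.node (nat_lit 11295360) (BT.node (nat_lit 11295296) (BT.leaf (nat_lit 32182801)) (BT.leaf (nat_lit 41113369))) (BT.node (nat_lit 11295424) (BT.leaf (nat_lit 40126745)) (BT.leaf (nat_lit 32182817)))) (BT.node (nat_lit 11295616) (BT.node (nat_lit 11295552) (BT.leaf (nat_lit 32183073)) (BT.leaf (nat_lit 32183585))) (BT.node (nat_lit 11295680) (BT.leaf (nat_lit 32183329)) (BT.leaf (nat_lit 50972937))))) (BT.node (nat_lit 11296128) (BT.node (nat_lit 11295872) (BT.node (nat_lit 11295808) (BT.leaf (nat_lit 32697373)) (BT.leaf (nat_lit 37915161))) (BT.node (nat_lit 11295936) (BT.leaf (nat_lit 50972945)) (BT.leaf (nat_lit 50972961)))) (BT.node (nat_lit 11296256) (BT.node (nat_lit 11296192) (BT.leaf (nat_lit 27521817)) (BT.leaf (nat_lit 48588569))) (BT.node (nat_lit 11296320) (BT.leaf (nat_lit 41602321)) (BT.leaf (nat_lit 41602337)))))) (BT.node (nat_lit 11296960) (BT.node (nat_lit 11296640) (BT.node (nat_lit 11296512) (BT.node (nat_lit 11296448) (BT.leaf (nat_lit 32184609)) (BT.leaf (nat_lit 32184865))) (BT.node (nat_lit 11296576) (BT.leaf (nat_lit 32185877)) (BT.leaf (nat_lit 32185377)))) (BT.node (nat_lit 11296832) (BT.node (nat_lit 11296704) (BT.leaf (nat_lit 42745861)) (BT.leaf (nat_lit 48588309))) (BT.node (nat_lit 11296896) (BT.leaf (nat_lit 49595165)) (BT.leaf (nat_lit 48325649))))) (BT.node (nat_lit 11297216) (BT.node (nat_lit 11297088) (BT.node (nat_lit 11297024) (BT.leaf (nat_lit 30866189)) (BT.leaf (nat_lit 50550025))) (BT.node (nat_lit 11297152) (BT.leaf (nat_lit 48347917)) (BT.leaf (nat_lit 41516321)))) (BT.node (nat_lit 11297344) (BT.node (nat_lit 11297280) (BT.leaf (nat_lit 42307617)) (BT.leaf (nat_lit 45197573))) (BT.node (nat_lit 11297408) (BT.leaf (nat_lit 42308129)) (BT.leaf (nat_lit 42307873))))))))))) (BT.node (nat_lit 11314880) (BT.node (nat_lit 11306112) (BT.node (nat_lit 11301760) (BT.node (nat_lit 11299520) (BT.node (nat_lit 11298496) (BT.node (nat_lit 11298048) (BT.node (nat_lit 11297728) (BT.node (nat_lit 11297605) (BT.node (nat_lit 11297536) (BT.leaf (nat_lit 39375121)) (BT.leaf (nat_lit 43451669))) (BT.node (nat_lit 11297664) (BT.leaf (nat_lit 717012)) (BT.leaf (nat_lit 45497121)))) (BT.node (nat_lit 11297856) (BT.node (nat_lit 11297792) (BT.leaf (nat_lit 44391173)) (BT.leaf (nat_lit 45882121))) (BT.node (nat_lit 11297920) (BT.leaf (nat_lit 45882389)) (BT.leaf (nat_lit 45883405))))) (BT.node (nat_lit 11298245) (BT.node (nat_lit 11298176) (BT.node (nat_lit 11298112) (BT.leaf (nat_lit 45499909)) (BT.leaf (nat_lit 31338269))) (BT.node (nat_lit 11298240) (BT.leaf (nat_lit 41696789)) (BT.leaf (nat_lit 40521241)))) (BT.node (nat_lit 11298368) (BT.node (nat_lit 11298304) (BT.leaf (nat_lit 711456)) (BT.leaf (nat_lit 45532437))) (BT.node (nat_lit 11298432) (BT.leaf (nat_lit 32191505)) (BT.leaf (nat_lit 32190737)))))) (BT.node (nat_lit 11299008) (BT.node (nat_lit 11298752) (BT.node (nat_lit 11298624) (BT.node (nat_lit 11298560) (BT.leaf (nat_lit 32190481)) (BT.leaf (nat_lit 43293461))) (BT.node (nat_lit 11298688) (BT.leaf (nat_lit 45788957)) (BT.leaf (nat_lit 40890393)))) (BT.node (nat_lit 11298880) (BT.node (nat_lit 11298816) (BT.leaf (nat_lit 32192537)) (BT.leaf (nat_lit 45507601))) (BT.node (nat_lit 11298944) (BT.leaf (nat_lit 39972385)) (BT.leaf (nat_lit 27370513))))) (BT.node (nat_lit 11299264) (BT.node (nat_lit 11299136) (BT.node (nat_lit 11299072) (BT.leaf (nat_lit 46796549)) (BT.leaf (nat_lit 46801669))) (BT.node (nat_lit 11299200) (BT.leaf (nat_lit 40536601)) (BT.leaf (nat_lit 40536605)))) (BT.node (nat_lit 11299392) (BT.node (nat_lit 11299328) (BT.leaf (nat_lit 40775941)) (BT.leaf (nat_lit 42855969))) (BT.node (nat_lit 11299456) (BT.leaf (nat_lit 44364577)) (BT.leaf (nat_lit 48090401))))))) (BT.node (nat_lit 11300552) (BT.node (nat_lit 11300096) (BT.node (nat_lit 11299840) (BT.node (nat_lit 11299648) (BT.node (nat_lit 11299584) (BT.leaf (nat_lit 45197849)) (BT.leaf (nat_lit 42855945))) (BT.node (nat_lit 11299776) (BT.leaf (nat_lit 43052565)) (BT.leaf (nat_lit 40427801)))) (BT.node (nat_lit 11299968) (BT.node (nat_lit 11299904) (BT.leaf (nat_lit 40418837)) (BT.leaf (nat_lit 41278489))) (BT.node (nat_lit 11300032) (BT.leaf (nat_lit 41278493)) (BT.leaf (nat_lit 48622869))))) (BT.node (nat_lit 11300352) (BT.node (nat_lit 11300224) (BT.node (nat_lit 11300160) (BT.leaf (nat_lit 41288205)) (BT.leaf (nat_lit 45200925))) (BT.node (nat_lit 11300288) (BT.leaf (nat_lit 41288221)) (BT.leaf (nat_lit 30791701)))) (BT.node (nat_lit 11300480) (BT.node (nat_lit 11300416) (BT.leaf (nat_lit 41280261)) (BT.leaf (nat_lit 41286433))) (BT.node (nat_lit 11300544) (BT.leaf (nat_lit 38798357)) (BT.leaf (nat_lit 42210573)))))) (BT.node (nat_lit 11301120) (BT.node (nat_lit 11300800) (BT.node (nat_lit 11300672) (BT.node (nat_lit 11300608) (BT.leaf (nat_lit 706556)) (BT.leaf (nat_lit 31320845))) (BT.node (nat_lit 11300736) (BT.leaf (nat_lit 32212001)) (BT.leaf (nat_lit 31320857)))) (BT.node (nat_lit 11300928) (BT.node (nat_lit 11300864) (BT.leaf (nat_lit 32928801)) (BT.leaf (nat_lit 32199697))) (BT.node (nat_lit 11300992) (BT.leaf (nat_lit 40587545)) (BT.leaf (nat_lit 40587549))))) (BT.node (nat_lit 11301504) (BT.node (nat_lit 11301248) (BT.node (nat_lit 11301184) (BT.leaf (nat_lit 34985753)) (BT.leaf (nat_lit 40769569))) (BT.node (nat_lit 11301376) (BT.leaf (nat_lit 44373793)) (BT.leaf (nat_lit 43981325)))) (BT.node (nat_lit 11301632) (BT.node (nat_lit 11301568) (BT.leaf (nat_lit 43655441)) (BT.leaf (nat_lit 40593941))) (BT.node (nat_lit 11301696) (BT.leaf (nat_lit 32419845)) (BT.leaf (nat_lit 32200209)))))))) (BT.node (nat_lit 11303936) (BT.node (nat_lit 11302784) (BT.node (nat_lit 11302208) (BT.node (nat_lit 11301952) (BT.node (nat_lit 11301825) (BT.node (nat_lit 11301824) (BT.leaf (nat_lit 32199953)) (BT.leaf (nat_lit 48386321))) (BT.node (nat_lit 11301888) (BT.leaf (nat_lit 771460)) (BT.leaf (nat_lit 42060065)))) (BT.node (nat_lit 11302080) (BT.node (nat_lit 11302016) (BT.leaf (nat_lit 43840789)) (BT.leaf (nat_lit 44376353))) (BT.node (nat_lit 11302144) (BT.leaf (nat_lit 44376581)) (BT.leaf (nat_lit 43901205))))) (BT.node (nat_lit 11302528) (BT.node (nat_lit 11302336) (BT.node (nat_lit 11302272) (BT.leaf (nat_lit 43922189)) (BT.leaf (nat_lit 49450005))) (BT.node (nat_lit 11302400) (BT.leaf (nat_lit 37954565)) (BT.leaf (nat_lit 34987025)))) (BT.node (nat_lit 11302656) (BT.node (nat_lit 11302592) (BT.leaf (nat_lit 48177429)) (BT.leaf (nat_lit 48177433))) (BT.node (nat_lit 11302720) (BT.leaf (nat_lit 48177437)) (BT.leaf (nat_lit 37871121)))))) (BT.node (nat_lit 11303424) (BT.node (nat_lit 11303168) (BT.node (nat_lit 11303040) (BT.node (nat_lit 11302976) (BT.leaf (nat_lit 49119009)) (BT.leaf (nat_lit 32204561))) (BT.node (nat_lit 11303104) (BT.leaf (nat_lit 46191113)) (BT.leaf (nat_lit 44799749)))) (BT.node (nat_lit 11303296) (BT.node (nat_lit 11303232) (BT.leaf (nat_lit 32208901)) (BT.leaf (nat_lit 35031317))) (BT.node (nat_lit 11303360) (BT.leaf (nat_lit 27864865)) (BT.leaf (nat_lit 46858529))))) (BT.node (nat_lit 11303680) (BT.node (nat_lit 11303552) (BT.node (nat_lit 11303488) (BT.leaf (nat_lit 43636765)) (BT.leaf (nat_lit 40493845))) (BT.node (nat_lit 11303616) (BT.leaf (nat_lit 47226897)) (BT.leaf (nat_lit 47226901)))) (BT.node (nat_lit 11303808) (BT.node (nat_lit 11303744) (BT.leaf (nat_lit 32971541)) (BT.leaf (nat_lit 32971545))) (BT.node (nat_lit 11303872) (BT.leaf (nat_lit 32971549)) (BT.leaf (nat_lit 32207377))))))) (BT.node (nat_lit 11305088) (BT.node (nat_lit 11304448) (BT.node (nat_lit 11304192) (BT.node (nat_lit 11304064) (BT.node (nat_lit 11304000) (BT.leaf (nat_lit 47749141)) (BT.leaf (nat_lit 48785941))) (BT.node (nat_lit 11304128) (BT.leaf (nat_lit 38791197)) (BT.leaf (nat_lit 51103765)))) (BT.node (nat_lit 11304320) (BT.node (nat_lit 11304256) (BT.leaf (nat_lit 39305733)) (BT.leaf (nat_lit 39272993))) (BT.node (nat_lit 11304384) (BT.leaf (nat_lit 41289745)) (BT.leaf (nat_lit 48600345))))) (BT.node (nat_lit 11304704) (BT.node (nat_lit 11304576) (BT.node (nat_lit 11304512) (BT.leaf (nat_lit 49226009)) (BT.leaf (nat_lit 32355101))) (BT.node (nat_lit 11304640) (BT.leaf (nat_lit 47911185)) (BT.leaf (nat_lit 44308761)))) (BT.node (nat_lit 11304960) (BT.node (nat_lit 11304896) (BT.leaf (nat_lit 31285521)) (BT.leaf (nat_lit 32211985))) (BT.node (nat_lit 11305024) (BT.leaf (nat_lit 41720849)) (BT.leaf (nat_lit 31043601)))))) (BT.node (nat_lit 11305600) (BT.node (nat_lit 11305344) (BT.node (nat_lit 11305216) (BT.node (nat_lit 11305152) (BT.leaf (nat_lit 41720601)) (BT.leaf (nat_lit 44600089))) (BT.node (nat_lit 11305280) (BT.leaf (nat_lit 40804113)) (BT.leaf (nat_lit 38587933)))) (BT.node (nat_lit 11305472) (BT.node (nat_lit 11305408) (BT.leaf (nat_lit 41909533)) (BT.leaf (nat_lit 32218885))) (BT.node (nat_lit 11305536) (BT.leaf (nat_lit 38361865)) (BT.leaf (nat_lit 32220433))))) (BT.node (nat_lit 11305856) (BT.node (nat_lit 11305728) (BT.node (nat_lit 11305664) (BT.leaf (nat_lit 38527769)) (BT.leaf (nat_lit 38527773))) (BT.node (nat_lit 11305792) (BT.leaf (nat_lit 39350281)) (BT.leaf (nat_lit 45116433)))) (BT.node (nat_lit 11305984) (BT.node (nat_lit 11305920) (BT.leaf (nat_lit 42426389)) (BT.leaf (nat_lit 32218909))) (BT.node (nat_lit 11306048) (BT.leaf (nat_lit 32221457)) (BT.leaf (nat_lit 45532961))))))))) (BT.node (nat_lit 11310720) (BT.node (nat_lit 11308160) (BT.node (nat_lit 11307201) (BT.node (nat_lit 11306688) (BT.node (nat_lit 11306432) (BT.node (nat_lit 11306240) (BT.node (nat_lit 11306176) (BT.leaf (nat_lit 45885469)) (BT.leaf (nat_lit 31256081))) (BT.node (nat_lit 11306368) (BT.leaf (nat_lit 46837253)) (BT.leaf (nat_lit 44081673)))) (BT.node (nat_lit 11306560) (BT.node (nat_lit 11306496) (BT.leaf (nat_lit 39400725)) (BT.leaf (nat_lit 39960589))) (BT.node (nat_lit 11306624) (BT.leaf (nat_lit 31264021)) (BT.leaf (nat_lit 39961609))))) (BT.node (nat_lit 11306944) (BT.node (nat_lit 11306816) (BT.node (nat_lit 11306752) (BT.leaf (nat_lit 32701453)) (BT.leaf (nat_lit 32465413))) (BT.node (nat_lit 11306880) (BT.leaf (nat_lit 48585241)) (BT.leaf (nat_lit 32701193)))) (BT.node (nat_lit 11307136) (BT.node (nat_lit 11307008) (BT.leaf (nat_lit 40955417)) (BT.leaf (nat_lit 45304593))) (BT.node (nat_lit 11307200) (BT.leaf (nat_lit 37820701)) (BT.leaf (nat_lit 30243333)))))) (BT.node (nat_lit 11307648) (BT.node (nat_lit 11307392) (BT.node (nat_lit 11307264) (BT.node (nat_lit 11307202) (BT.leaf (nat_lit 748944)) (BT.leaf (nat_lit 748944))) (BT.node (nat_lit 11307328) (BT.leaf (nat_lit 32830997)) (BT.leaf (nat_lit 32446737)))) (BT.node (nat_lit 11307520) (BT.node (nat_lit 11307456) (BT.leaf (nat_lit 32446741)) (BT.leaf (nat_lit 40066065))) (BT.node (nat_lit 11307584) (BT.leaf (nat_lit 39148309)) (BT.leaf (nat_lit 42182149))))) (BT.node (nat_lit 11307904) (BT.node (nat_lit 11307776) (BT.node (nat_lit 11307712) (BT.leaf (nat_lit 32231941)) (BT.leaf (nat_lit 41748741))) (BT.node (nat_lit 11307840) (BT.leaf (nat_lit 32232481)) (BT.leaf (nat_lit 41130765)))) (BT.node (nat_lit 11308032) (BT.node (nat_lit 11307968) (BT.leaf (nat_lit 42585869)) (BT.leaf (nat_lit 49294101))) (BT.node (nat_lit 11308096) (BT.leaf (nat_lit 47984921)) (BT.leaf (nat_lit 45823497))))))) (BT.node (nat_lit 11309568) (BT.node (nat_lit 11308992) (BT.node (nat_lit 11308480) (BT.node (nat_lit 11308288) (BT.node (nat_lit 11308224) (BT.leaf (nat_lit 32230665)) (BT.leaf (nat_lit 48390417))) (BT.node (nat_lit 11308352) (BT.leaf (nat_lit 42972941)) (BT.leaf (nat_lit 45233177)))) (BT.node (nat_lit 11308608) (BT.node (nat_lit 11308544) (BT.leaf (nat_lit 42971405)) (BT.leaf (nat_lit 42971417))) (BT.node (nat_lit 11308928) (BT.leaf (nat_lit 42971421)) (BT.leaf (nat_lit 43678469))))) (BT.node (nat_lit 11309248) (BT.node (nat_lit 11309120) (BT.node (nat_lit 11309056) (BT.leaf (nat_lit 47999261)) (BT.leaf (nat_lit 41758473))) (BT.node (nat_lit 11309184) (BT.leaf (nat_lit 32232989)) (BT.leaf (nat_lit 38134045)))) (BT.node (nat_lit 11309376) (BT.node (nat_lit 11309312) (BT.leaf (nat_lit 43682821)) (BT.leaf (nat_lit 40151309))) (BT.node (nat_lit 11309440) (BT.leaf (nat_lit 38172705)) (BT.leaf (nat_lit 44541445)))))) (BT.node (nat_lit 11310080) (BT.node (nat_lit 11309824) (BT.node (nat_lit 11309696) (BT.node (nat_lit 11309632) (BT.leaf (nat_lit 39226649)) (BT.leaf (nat_lit 30358797))) (BT.node (nat_lit 11309760) (BT.leaf (nat_lit 42399509)) (BT.leaf (nat_lit 45239309)))) (BT.node (nat_lit 11309952) (BT.node (nat_lit 11309888) (BT.leaf (nat_lit 43236637)) (BT.leaf (nat_lit 40335373))) (BT.node (nat_lit 11310016) (BT.leaf (nat_lit 43236617)) (BT.leaf (nat_lit 42542085))))) (BT.node (nat_lit 11310464) (BT.node (nat_lit 11310272) (BT.node (nat_lit 11310144) (BT.leaf (nat_lit 41645321)) (BT.leaf (nat_lit 41881865))) (BT.node (nat_lit 11310400) (BT.leaf (nat_lit 32234261)) (BT.leaf (nat_lit 37763345)))) (BT.node (nat_lit 11310592) (BT.node (nat_lit 11310528) (BT.leaf (nat_lit 42263317)) (BT.leaf (nat_lit 39762721))) (BT.node (nat_lit 11310656) (BT.leaf (nat_lit 41197081)) (BT.leaf (nat_lit 41197085)))))))) (BT.node (nat_lit 11312960) (BT.node (nat_lit 11311744) (BT.node (nat_lit 11311232) (BT.node (nat_lit 11310976) (BT.node (nat_lit 11310848) (BT.node (nat_lit 11310784) (BT.leaf (nat_lit 32235801)) (BT.leaf (nat_lit 32236057))) (BT.node (nat_lit 11310912) (BT.leaf (nat_lit 41199637)) (BT.leaf (nat_lit 37869081)))) (BT.node (nat_lit 11311104) (BT.node (nat_lit 11311040) (BT.leaf (nat_lit 41619733)) (BT.leaf (nat_lit 41619737))) (BT.node (nat_lit 11311168) (BT.leaf (nat_lit 31087893)) (BT.leaf (nat_lit 41619745))))) (BT.node (nat_lit 11311488) (BT.node (nat_lit 11311360) (BT.node (nat_lit 11311296) (BT.leaf (nat_lit 32238357)) (BT.leaf (nat_lit 32236817))) (BT.node (nat_lit 11311424) (BT.leaf (nat_lit 45090585)) (BT.leaf (nat_lit 45090589)))) (BT.node (nat_lit 11311616) (BT.node (nat_lit 11311552) (BT.leaf (nat_lit 33079061)) (BT.leaf (nat_lit 31198745))) (BT.node (nat_lit 11311680) (BT.leaf (nat_lit 48547865)) (BT.leaf (nat_lit 46423569)))))) (BT.node (nat_lit 11312448) (BT.node (nat_lit 11312000) (BT.node (nat_lit 11311872) (BT.node (nat_lit 11311808) (BT.leaf (nat_lit 45247261)) (BT.leaf (nat_lit 31198733))) (BT.node (nat_lit 11311936) (BT.leaf (nat_lit 41060385)) (BT.leaf (nat_lit 32238617)))) (BT.node (nat_lit 11312192) (BT.node (nat_lit 11312128) (BT.leaf (nat_lit 32238873)) (BT.leaf (nat_lit 41196065))) (BT.node (nat_lit 11312256) (BT.leaf (nat_lit 32238621)) (BT.leaf (nat_lit 32238877))))) (BT.node (nat_lit 11312704) (BT.node (nat_lit 11312576) (BT.node (nat_lit 11312512) (BT.leaf (nat_lit 41196321)) (BT.leaf (nat_lit 32319265))) (BT.node (nat_lit 11312640) (BT.leaf (nat_lit 32239649)) (BT.leaf (nat_lit 40051985)))) (BT.node (nat_lit 11312832) (BT.node (nat_lit 11312768) (BT.leaf (nat_lit 45250569)) (BT.leaf (nat_lit 34999829))) (BT.node (nat_lit 11312896) (BT.leaf (nat_lit 45900313)) (BT.leaf (nat_lit 45900317))))))) (BT.node (nat_lit 11313856) (BT.node (nat_lit 11313350) (BT.node (nat_lit 11313280) (BT.node (nat_lit 11313088) (BT.node (nat_lit 11313024) (BT.leaf (nat_lit 43286789)) (BT.leaf (nat_lit 32239129))) (BT.node (nat_lit 11313216) (BT.leaf (nat_lit 32239385)) (BT.leaf (nat_lit 43286805)))) (BT.node (nat_lit 11313346) (BT.node (nat_lit 11313344) (BT.leaf (nat_lit 42220805)) (BT.leaf (nat_lit 40527381))) (BT.node (nat_lit 11313347) (BT.leaf (nat_lit 714136)) (BT.leaf (nat_lit 778120))))) (BT.node (nat_lit 11313536) (BT.node (nat_lit 11313408) (BT.node (nat_lit 11313352) (BT.leaf (nat_lit 778120)) (BT.leaf (nat_lit 714136))) (BT.node (nat_lit 11313472) (BT.leaf (nat_lit 33034265)) (BT.leaf (nat_lit 38533893)))) (BT.node (nat_lit 11313664) (BT.node (nat_lit 11313600) (BT.leaf (nat_lit 51528473)) (BT.leaf (nat_lit 49997333))) (BT.node (nat_lit 11313792) (BT.leaf (nat_lit 29270809)) (BT.leaf (nat_lit 38781209)))))) (BT.node (nat_lit 11314368) (BT.node (nat_lit 11314112) (BT.node (nat_lit 11313984) (BT.node (nat_lit 11313920) (BT.leaf (nat_lit 38586909)) (BT.leaf (nat_lit 42003233))) (BT.node (nat_lit 11314048) (BT.leaf (nat_lit 48646169)) (BT.leaf (nat_lit 38011925)))) (BT.node (nat_lit 11314240) (BT.node (nat_lit 11314176) (BT.leaf (nat_lit 45297157)) (BT.leaf (nat_lit 38010393))) (BT.node (nat_lit 11314304) (BT.leaf (nat_lit 44710405)) (BT.leaf (nat_lit 45445393))))) (BT.node (nat_lit 11314624) (BT.node (nat_lit 11314496) (BT.node (nat_lit 11314432) (BT.leaf (nat_lit 30380821)) (BT.leaf (nat_lit 32492053))) (BT.node (nat_lit 11314560) (BT.leaf (nat_lit 45258269)) (BT.leaf (nat_lit 51499793)))) (BT.node (nat_lit 11314752) (BT.node (nat_lit 11314688) (BT.leaf (nat_lit 32247061)) (BT.leaf (nat_lit 38893321))) (BT.node (nat_lit 11314816) (BT.leaf (nat_lit 38893845)) (BT.leaf (nat_lit 52436485)))))))))) (BT.node (nat_lit 11323264) (BT.node (nat_lit 11318912) (BT.node (nat_lit 11316864) (BT.node (nat_lit 11315904) (BT.node (nat_lit 11315392) (BT.node (nat_lit 11315136) (BT.node (nat_lit 11315008) (BT.node (nat_lit 11314944) (BT.leaf (nat_lit 32247325)) (BT.leaf (nat_lit 31553553))) (BT.node (nat_lit 11315072) (BT.leaf (nat_lit 32247569)) (BT.leaf (nat_lit 38893849)))) (BT.node (nat_lit 11315264) (BT.node (nat_lit 11315200) (BT.leaf (nat_lit 38893853)) (BT.leaf (nat_lit 32248341))) (BT.node (nat_lit 11315328) (BT.leaf (nat_lit 42661153)) (BT.leaf (nat_lit 42661409))))) (BT.node (nat_lit 11315648) (BT.node (nat_lit 11315520) (BT.node (nat_lit 11315456) (BT.leaf (nat_lit 40001045)) (BT.leaf (nat_lit 42662177))) (BT.node (nat_lit 11315584) (BT.leaf (nat_lit 42661921)) (BT.leaf (nat_lit 38171425)))) (BT.node (nat_lit 11315776) (BT.node (nat_lit 11315712) (BT.leaf (nat_lit 45404677)) (BT.leaf (nat_lit 43595533))) (BT.node (nat_lit 11315840) (BT.leaf (nat_lit 27987477)) (BT.leaf (nat_lit 43595033)))))) (BT.node (nat_lit 11316352) (BT.node (nat_lit 11316160) (BT.node (nat_lit 11316032) (BT.node (nat_lit 11315968) (BT.leaf (nat_lit 45263369)) (BT.leaf (nat_lit 32251157))) (BT.node (nat_lit 11316096) (BT.leaf (nat_lit 45264413)) (BT.leaf (nat_lit 43595021)))) (BT.node (nat_lit 11316232) (BT.node (nat_lit 11316224) (BT.leaf (nat_lit 42973473)) (BT.leaf (nat_lit 42866449))) (BT.node (nat_lit 11316288) (BT.leaf (nat_lit 776008)) (BT.leaf (nat_lit 41771797))))) (BT.node (nat_lit 11316608) (BT.node (nat_lit 11316480) (BT.node (nat_lit 11316416) (BT.leaf (nat_lit 40340245)) (BT.leaf (nat_lit 39265313))) (BT.node (nat_lit 11316544) (BT.leaf (nat_lit 46249477)) (BT.leaf (nat_lit 43380757)))) (BT.node (nat_lit 11316736) (BT.node (nat_lit 11316672) (BT.leaf (nat_lit 43381261)) (BT.leaf (nat_lit 39777809))) (BT.node (nat_lit 11316800) (BT.leaf (nat_lit 39885089)) (BT.leaf (nat_lit 46908177))))))) (BT.node (nat_lit 11317888) (BT.node (nat_lit 11317376) (BT.node (nat_lit 11317120) (BT.node (nat_lit 11316992) (BT.node (nat_lit 11316928) (BT.leaf (nat_lit 49385237)) (BT.leaf (nat_lit 45267997))) (BT.node (nat_lit 11317056) (BT.leaf (nat_lit 47829509)) (BT.leaf (nat_lit 43558681)))) (BT.node (nat_lit 11317248) (BT.node (nat_lit 11317184) (BT.leaf (nat_lit 39564809)) (BT.leaf (nat_lit 50957829))) (BT.node (nat_lit 11317312) (BT.leaf (nat_lit 39121941)) (BT.leaf (nat_lit 40300049))))) (BT.node (nat_lit 11317632) (BT.node (nat_lit 11317504) (BT.node (nat_lit 11317440) (BT.leaf (nat_lit 29858069)) (BT.leaf (nat_lit 38781449))) (BT.node (nat_lit 11317568) (BT.leaf (nat_lit 38781453)) (BT.leaf (nat_lit 38041361)))) (BT.node (nat_lit 11317760) (BT.node (nat_lit 11317696) (BT.leaf (nat_lit 38781465)) (BT.leaf (nat_lit 38781469))) (BT.node (nat_lit 11317824) (BT.leaf (nat_lit 38041377)) (BT.leaf (nat_lit 41977349)))))) (BT.node (nat_lit 11318400) (BT.node (nat_lit 11318144) (BT.node (nat_lit 11318016) (BT.node (nat_lit 11317952) (BT.leaf (nat_lit 39277601)) (BT.leaf (nat_lit 42252309))) (BT.node (nat_lit 11318080) (BT.leaf (nat_lit 39264013)) (BT.leaf (nat_lit 47863829)))) (BT.node (nat_lit 11318272) (BT.node (nat_lit 11318208) (BT.leaf (nat_lit 38189317)) (BT.leaf (nat_lit 32268549))) (BT.node (nat_lit 11318336) (BT.leaf (nat_lit 40315397)) (BT.leaf (nat_lit 49760801))))) (BT.node (nat_lit 11318656) (BT.node (nat_lit 11318528) (BT.node (nat_lit 11318464) (BT.leaf (nat_lit 44258565)) (BT.leaf (nat_lit 49761313))) (BT.node (nat_lit 11318592) (BT.leaf (nat_lit 49761057)) (BT.leaf (nat_lit 32416529)))) (BT.node (nat_lit 11318784) (BT.node (nat_lit 11318720) (BT.leaf (nat_lit 32416533)) (BT.leaf (nat_lit 45275165))) (BT.node (nat_lit 11318848) (BT.leaf (nat_lit 44350221)) (BT.leaf (nat_lit 45272329)))))))) (BT.node (nat_lit 11321088) (BT.node (nat_lit 11320000) (BT.node (nat_lit 11319424) (BT.node (nat_lit 11319168) (BT.node (nat_lit 11319040) (BT.node (nat_lit 11318976) (BT.leaf (nat_lit 43281933)) (BT.leaf (nat_lit 39368469))) (BT.node (nat_lit 11319104) (BT.leaf (nat_lit 39368473)) (BT.leaf (nat_lit 39368477)))) (BT.node (nat_lit 11319296) (BT.node (nat_lit 11319232) (BT.leaf (nat_lit 46099477)) (BT.leaf (nat_lit 46099485))) (BT.node (nat_lit 11319360) (BT.leaf (nat_lit 44199201)) (BT.leaf (nat_lit 42288417))))) (BT.node (nat_lit 11319680) (BT.node (nat_lit 11319552) (BT.node (nat_lit 11319488) (BT.leaf (nat_lit 48251917)) (BT.leaf (nat_lit 41176597))) (BT.node (nat_lit 11319616) (BT.leaf (nat_lit 34834465)) (BT.leaf (nat_lit 41647137)))) (BT.node (nat_lit 11319872) (BT.node (nat_lit 11319744) (BT.leaf (nat_lit 34834445)) (BT.leaf (nat_lit 45339673))) (BT.node (nat_lit 11319936) (BT.leaf (nat_lit 50056981)) (BT.leaf (nat_lit 28975905)))))) (BT.node (nat_lit 11320576) (BT.node (nat_lit 11320256) (BT.node (nat_lit 11320128) (BT.node (nat_lit 11320064) (BT.leaf (nat_lit 39604505)) (BT.leaf (nat_lit 39604509))) (BT.node (nat_lit 11320192) (BT.leaf (nat_lit 38875421)) (BT.leaf (nat_lit 48679685)))) (BT.node (nat_lit 11320448) (BT.node (nat_lit 11320320) (BT.leaf (nat_lit 39713813)) (BT.leaf (nat_lit 38972181))) (BT.node (nat_lit 11320512) (BT.leaf (nat_lit 28028193)) (BT.leaf (nat_lit 44250885))))) (BT.node (nat_lit 11320832) (BT.node (nat_lit 11320704) (BT.node (nat_lit 11320640) (BT.leaf (nat_lit 46311429)) (BT.leaf (nat_lit 41637917))) (BT.node (nat_lit 11320707) (BT.leaf (nat_lit 31937041)) (BT.leaf (nat_lit 766496)))) (BT.node (nat_lit 11320960) (BT.node (nat_lit 11320896) (BT.leaf (nat_lit 28550161)) (BT.leaf (nat_lit 34351377))) (BT.node (nat_lit 11321024) (BT.leaf (nat_lit 46090013)) (BT.leaf (nat_lit 30785561))))))) (BT.node (nat_lit 11322240) (BT.node (nat_lit 11321728) (BT.node (nat_lit 11321344) (BT.node (nat_lit 11321216) (BT.node (nat_lit 11321152) (BT.leaf (nat_lit 42209029)) (BT.leaf (nat_lit 45284377))) (BT.node (nat_lit 11321280) (BT.leaf (nat_lit 46833169)) (BT.leaf (nat_lit 32277273)))) (BT.node (nat_lit 11321472) (BT.node (nat_lit 11321408) (BT.leaf (nat_lit 45429025)) (BT.leaf (nat_lit 45429253))) (BT.node (nat_lit 11321664) (BT.leaf (nat_lit 32277277)) (BT.leaf (nat_lit 32277777))))) (BT.node (nat_lit 11321984) (BT.node (nat_lit 11321856) (BT.node (nat_lit 11321792) (BT.leaf (nat_lit 47988741)) (BT.leaf (nat_lit 47432965))) (BT.node (nat_lit 11321920) (BT.leaf (nat_lit 45287709)) (BT.leaf (nat_lit 43322637)))) (BT.node (nat_lit 11322112) (BT.node (nat_lit 11322048) (BT.leaf (nat_lit 28551441)) (BT.leaf (nat_lit 41821701))) (BT.node (nat_lit 11322176) (BT.leaf (nat_lit 44295961)) (BT.leaf (nat_lit 44295965)))))) (BT.node (nat_lit 11322752) (BT.node (nat_lit 11322496) (BT.node (nat_lit 11322368) (BT.node (nat_lit 11322304) (BT.leaf (nat_lit 43717897)) (BT.leaf (nat_lit 35016977))) (BT.node (nat_lit 11322432) (BT.leaf (nat_lit 47321361)) (BT.leaf (nat_lit 45289497)))) (BT.node (nat_lit 11322624) (BT.node (nat_lit 11322560) (BT.leaf (nat_lit 39921933)) (BT.leaf (nat_lit 40161821))) (BT.node (nat_lit 11322688) (BT.leaf (nat_lit 42852385)) (BT.leaf (nat_lit 39921929))))) (BT.node (nat_lit 11323008) (BT.node (nat_lit 11322880) (BT.node (nat_lit 11322816) (BT.leaf (nat_lit 47464217)) (BT.leaf (nat_lit 40161801))) (BT.node (nat_lit 11322944) (BT.leaf (nat_lit 48406049)) (BT.leaf (nat_lit 32781829)))) (BT.node (nat_lit 11323136) (BT.node (nat_lit 11323072) (BT.leaf (nat_lit 39921945)) (BT.leaf (nat_lit 39921949))) (BT.node (nat_lit 11323200) (BT.leaf (nat_lit 42733329)) (BT.leaf (nat_lit 41221145))))))))) (BT.node (nat_lit 11327424) (BT.node (nat_lit 11325184) (BT.node (nat_lit 11324288) (BT.node (nat_lit 11323776) (BT.node (nat_lit 11323520) (BT.node (nat_lit 11323392) (BT.node (nat_lit 11323328) (BT.leaf (nat_lit 45293849)) (BT.leaf (nat_lit 40450833))) (BT.node (nat_lit 11323456) (BT.leaf (nat_lit 47464201)) (BT.leaf (nat_lit 42853153)))) (BT.node (nat_lit 11323648) (BT.node (nat_lit 11323584) (BT.leaf (nat_lit 40909069)) (BT.leaf (nat_lit 46253085))) (BT.node (nat_lit 11323712) (BT.leaf (nat_lit 39879449)) (BT.leaf (nat_lit 49618441))))) (BT.node (nat_lit 11324032) (BT.node (nat_lit 11323904) (BT.node (nat_lit 11323840) (BT.leaf (nat_lit 49618453)) (BT.leaf (nat_lit 49267989))) (BT.node (nat_lit 11323968) (BT.leaf (nat_lit 42678801)) (BT.leaf (nat_lit 42930953)))) (BT.node (nat_lit 11324160) (BT.node (nat_lit 11324096) (BT.leaf (nat_lit 46275845)) (BT.leaf (nat_lit 39881477))) (BT.node (nat_lit 11324232) (BT.leaf (nat_lit 46227205)) (BT.leaf (nat_lit 777648)))))) (BT.node (nat_lit 11324736) (BT.node (nat_lit 11324480) (BT.node (nat_lit 11324416) (BT.node (nat_lit 11324352) (BT.leaf (nat_lit 42723361)) (BT.leaf (nat_lit 30149649))) (BT.node (nat_lit 11324424) (BT.leaf (nat_lit 48207117)) (BT.leaf (nat_lit 709536)))) (BT.node (nat_lit 11324608) (BT.node (nat_lit 11324544) (BT.leaf (nat_lit 43495449)) (BT.leaf (nat_lit 27818261))) (BT.node (nat_lit 11324672) (BT.leaf (nat_lit 35873053)) (BT.leaf (nat_lit 32285725))))) (BT.node (nat_lit 11324933) (BT.node (nat_lit 11324864) (BT.node (nat_lit 11324800) (BT.leaf (nat_lit 32478997)) (BT.leaf (nat_lit 46052885))) (BT.node (nat_lit 11324928) (BT.leaf (nat_lit 46052889)) (BT.leaf (nat_lit 41638669)))) (BT.node (nat_lit 11325056) (BT.node (nat_lit 11324992) (BT.leaf (nat_lit 722784)) (BT.leaf (nat_lit 39402017))) (BT.node (nat_lit 11325120) (BT.leaf (nat_lit 46258965)) (BT.leaf (nat_lit 33472797))))))) (BT.node (nat_lit 11326336) (BT.node (nat_lit 11325696) (BT.node (nat_lit 11325440) (BT.node (nat_lit 11325312) (BT.node (nat_lit 11325248) (BT.leaf (nat_lit 41146385)) (BT.leaf (nat_lit 41808917))) (BT.node (nat_lit 11325376) (BT.leaf (nat_lit 39929369)) (BT.leaf (nat_lit 32293657)))) (BT.node (nat_lit 11325568) (BT.node (nat_lit 11325504) (BT.leaf (nat_lit 37873421)) (BT.leaf (nat_lit 32952081))) (BT.node (nat_lit 11325632) (BT.leaf (nat_lit 32952085)) (BT.leaf (nat_lit 32294661))))) (BT.node (nat_lit 11325952) (BT.node (nat_lit 11325824) (BT.node (nat_lit 11325760) (BT.leaf (nat_lit 39940113)) (BT.leaf (nat_lit 32762633))) (BT.node (nat_lit 11325888) (BT.leaf (nat_lit 32295953)) (BT.leaf (nat_lit 32295185)))) (BT.node (nat_lit 11326144) (BT.node (nat_lit 11326080) (BT.leaf (nat_lit 45303561)) (BT.leaf (nat_lit 39798809))) (BT.node (nat_lit 11326272) (BT.leaf (nat_lit 44083981)) (BT.leaf (nat_lit 32296717)))))) (BT.node (nat_lit 11326848) (BT.node (nat_lit 11326592) (BT.node (nat_lit 11326464) (BT.node (nat_lit 11326400) (BT.leaf (nat_lit 42657565)) (BT.leaf (nat_lit 31405845))) (BT.node (nat_lit 11326528) (BT.leaf (nat_lit 32297225)) (BT.leaf (nat_lit 40860177)))) (BT.node (nat_lit 11326720) (BT.node (nat_lit 11326656) (BT.leaf (nat_lit 32297245)) (BT.leaf (nat_lit 34593561))) (BT.node (nat_lit 11326784) (BT.leaf (nat_lit 44777221)) (BT.leaf (nat_lit 44777761))))) (BT.node (nat_lit 11327168) (BT.node (nat_lit 11327040) (BT.node (nat_lit 11326912) (BT.leaf (nat_lit 39345925)) (BT.leaf (nat_lit 32298265))) (BT.node (nat_lit 11327104) (BT.leaf (nat_lit 39345941)) (BT.leaf (nat_lit 32298269)))) (BT.node (nat_lit 11327296) (BT.node (nat_lit 11327232) (BT.leaf (nat_lit 38458641)) (BT.leaf (nat_lit 38458645))) (BT.node (nat_lit 11327360) (BT.leaf (nat_lit 38920469)) (BT.leaf (nat_lit 49047065)))))))) (BT.node (nat_lit 11329600) (BT.node (nat_lit 11328576) (BT.node (nat_lit 11328064) (BT.node (nat_lit 11327744) (BT.node (nat_lit 11327616) (BT.node (nat_lit 11327552) (BT.leaf (nat_lit 48979745)) (BT.leaf (nat_lit 48979725))) (BT.node (nat_lit 11327680) (BT.leaf (nat_lit 30173213)) (BT.leaf (nat_lit 32298781)))) (BT.node (nat_lit 11327936) (BT.node (nat_lit 11327872) (BT.leaf (nat_lit 31852061)) (BT.leaf (nat_lit 38931745))) (BT.node (nat_lit 11328000) (BT.leaf (nat_lit 51579157)) (BT.leaf (nat_lit 32300569))))) (BT.node (nat_lit 11328320) (BT.node (nat_lit 11328192) (BT.node (nat_lit 11328128) (BT.leaf (nat_lit 42615825)) (BT.leaf (nat_lit 42615829))) (BT.node (nat_lit 11328256) (BT.leaf (nat_lit 32301341)) (BT.leaf (nat_lit 41854753)))) (BT.node (nat_lit 11328448) (BT.node (nat_lit 11328384) (BT.leaf (nat_lit 41760025)) (BT.leaf (nat_lit 32486941))) (BT.node (nat_lit 11328512) (BT.leaf (nat_lit 32301585)) (BT.leaf (nat_lit 32302353)))))) (BT.node (nat_lit 11329088) (BT.node (nat_lit 11328832) (BT.node (nat_lit 11328704) (BT.node (nat_lit 11328640) (BT.leaf (nat_lit 31330833)) (BT.leaf (nat_lit 32301841))) (BT.node (nat_lit 11328768) (BT.leaf (nat_lit 35020817)) (BT.leaf (nat_lit 40121881)))) (BT.node (nat_lit 11328960) (BT.node (nat_lit 11328896) (BT.leaf (nat_lit 40121885)) (BT.leaf (nat_lit 34077457))) (BT.node (nat_lit 11329024) (BT.leaf (nat_lit 48820245)) (BT.leaf (nat_lit 45317397))))) (BT.node (nat_lit 11329344) (BT.node (nat_lit 11329216) (BT.node (nat_lit 11329152) (BT.leaf (nat_lit 39553809)) (BT.leaf (nat_lit 48441373))) (BT.node (nat_lit 11329280) (BT.leaf (nat_lit 30981913)) (BT.leaf (nat_lit 48441877)))) (BT.node (nat_lit 11329472) (BT.node (nat_lit 11329408) (BT.leaf (nat_lit 35022109)) (BT.leaf (nat_lit 44045829))) (BT.node (nat_lit 11329536) (BT.leaf (nat_lit 52411153)) (BT.leaf (nat_lit 45317913))))))) (BT.node (nat_lit 11330624) (BT.node (nat_lit 11330112) (BT.node (nat_lit 11329856) (BT.node (nat_lit 11329728) (BT.node (nat_lit 11329664) (BT.leaf (nat_lit 38742561)) (BT.leaf (nat_lit 37757193))) (BT.node (nat_lit 11329792) (BT.leaf (nat_lit 37757197)) (BT.leaf (nat_lit 42147873)))) (BT.node (nat_lit 11329984) (BT.node (nat_lit 11329920) (BT.leaf (nat_lit 48442653)) (BT.leaf (nat_lit 32311329))) (BT.node (nat_lit 11330048) (BT.leaf (nat_lit 46808861)) (BT.leaf (nat_lit 38145809))))) (BT.node (nat_lit 11330368) (BT.node (nat_lit 11330240) (BT.node (nat_lit 11330176) (BT.leaf (nat_lit 38145813)) (BT.leaf (nat_lit 42424861))) (BT.node (nat_lit 11330304) (BT.leaf (nat_lit 32309789)) (BT.leaf (nat_lit 38294545)))) (BT.node (nat_lit 11330496) (BT.node (nat_lit 11330432) (BT.leaf (nat_lit 31371273)) (BT.leaf (nat_lit 42424857))) (BT.node (nat_lit 11330560) (BT.leaf (nat_lit 34578457)) (BT.leaf (nat_lit 39116045)))))) (BT.node (nat_lit 11331136) (BT.node (nat_lit 11330880) (BT.node (nat_lit 11330752) (BT.node (nat_lit 11330688) (BT.leaf (nat_lit 42543377)) (BT.leaf (nat_lit 34578445))) (BT.node (nat_lit 11330816) (BT.leaf (nat_lit 39116065)) (BT.leaf (nat_lit 38999329)))) (BT.node (nat_lit 11331008) (BT.node (nat_lit 11330944) (BT.leaf (nat_lit 29749265)) (BT.leaf (nat_lit 49402373))) (BT.node (nat_lit 11331072) (BT.leaf (nat_lit 45323801)) (BT.leaf (nat_lit 44928005))))) (BT.node (nat_lit 11331328) (BT.node (nat_lit 11331203) (BT.node (nat_lit 11331200) (BT.leaf (nat_lit 45401881)) (BT.leaf (nat_lit 43239685))) (BT.node (nat_lit 11331205) (BT.leaf (nat_lit 709400)) (BT.leaf (nat_lit 709400)))) (BT.node (nat_lit 11331392) (BT.node (nat_lit 11331336) (BT.leaf (nat_lit 39614725)) (BT.leaf (nat_lit 716888))) (BT.node (nat_lit 11331456) (BT.leaf (nat_lit 42355461)) (BT.leaf (nat_lit 42542881)))))))))))) (BT.node (nat_lit 11365440) (BT.node (nat_lit 11348864) (BT.node (nat_lit 11339904) (BT.node (nat_lit 11335680) (BT.node (nat_lit 11333632) (BT.node (nat_lit 11332608) (BT.node (nat_lit 11332032) (BT.node (nat_lit 11331776) (BT.node (nat_lit 11331648) (BT.node (nat_lit 11331584) (BT.leaf (nat_lit 42543137)) (BT.leaf (nat_lit 31336469))) (BT.node (nat_lit 11331712) (BT.leaf (nat_lit 45015073)) (BT.leaf (nat_lit 42543649)))) (BT.node (nat_lit 11331904) (BT.node (nat_lit 11331840) (BT.leaf (nat_lit 44017161)) (BT.leaf (nat_lit 42411549))) (BT.node (nat_lit 11331968) (BT.leaf (nat_lit 39021329)) (BT.leaf (nat_lit 39021345))))) (BT.node (nat_lit 11332288) (BT.node (nat_lit 11332160) (BT.node (nat_lit 11332096) (BT.leaf (nat_lit 41041937)) (BT.leaf (nat_lit 41046805))) (BT.node (nat_lit 11332224) (BT.leaf (nat_lit 44015885)) (BT.leaf (nat_lit 49133589)))) (BT.node (nat_lit 11332480) (BT.node (nat_lit 11332352) (BT.leaf (nat_lit 38527497)) (BT.leaf (nat_lit 45328925))) (BT.node (nat_lit 11332544) (BT.leaf (nat_lit 40755217)) (BT.leaf (nat_lit 42618905)))))) (BT.node (nat_lit 11333120) (BT.node (nat_lit 11332864) (BT.node (nat_lit 11332736) (BT.node (nat_lit 11332672) (BT.leaf (nat_lit 41019153)) (BT.leaf (nat_lit 41894409))) (BT.node (nat_lit 11332800) (BT.leaf (nat_lit 41894921)) (BT.leaf (nat_lit 44640021)))) (BT.node (nat_lit 11332992) (BT.node (nat_lit 11332928) (BT.leaf (nat_lit 48274705)) (BT.leaf (nat_lit 41892125))) (BT.node (nat_lit 11333056) (BT.leaf (nat_lit 40368917)) (BT.leaf (nat_lit 41892101))))) (BT.node (nat_lit 11333376) (BT.node (nat_lit 11333248) (BT.node (nat_lit 11333184) (BT.leaf (nat_lit 42532129)) (BT.leaf (nat_lit 42532385))) (BT.node (nat_lit 11333312) (BT.leaf (nat_lit 42532613)) (BT.leaf (nat_lit 42533153)))) (BT.node (nat_lit 11333504) (BT.node (nat_lit 11333440) (BT.leaf (nat_lit 42532897)) (BT.leaf (nat_lit 41273873))) (BT.node (nat_lit 11333568) (BT.leaf (nat_lit 29748241)) (BT.leaf (nat_lit 38121249))))))) (BT.node (nat_lit 11334720) (BT.node (nat_lit 11334144) (BT.node (nat_lit 11333888) (BT.node (nat_lit 11333760) (BT.node (nat_lit 11333696) (BT.leaf (nat_lit 41701913)) (BT.leaf (nat_lit 41701917))) (BT.node (nat_lit 11333824) (BT.leaf (nat_lit 39374093)) (BT.leaf (nat_lit 39374105)))) (BT.node (nat_lit 11334016) (BT.node (nat_lit 11333952) (BT.leaf (nat_lit 39374109)) (BT.leaf (nat_lit 34709785))) (BT.node (nat_lit 11334017) (BT.leaf (nat_lit 31331097)) (BT.leaf (nat_lit 796320))))) (BT.node (nat_lit 11334400) (BT.node (nat_lit 11334272) (BT.node (nat_lit 11334208) (BT.leaf (nat_lit 48397061)) (BT.leaf (nat_lit 31331101))) (BT.node (nat_lit 11334336) (BT.leaf (nat_lit 37969169)) (BT.leaf (nat_lit 49329673)))) (BT.node (nat_lit 11334592) (BT.node (nat_lit 11334528) (BT.leaf (nat_lit 44022797)) (BT.leaf (nat_lit 41780001))) (BT.node (nat_lit 11334656) (BT.leaf (nat_lit 38800657)) (BT.leaf (nat_lit 44394521)))))) (BT.node (nat_lit 11335232) (BT.node (nat_lit 11334976) (BT.node (nat_lit 11334848) (BT.node (nat_lit 11334784) (BT.leaf (nat_lit 44395529)) (BT.leaf (nat_lit 40070161))) (BT.node (nat_lit 11334912) (BT.leaf (nat_lit 41536801)) (BT.leaf (nat_lit 38117125)))) (BT.node (nat_lit 11335104) (BT.node (nat_lit 11335040) (BT.leaf (nat_lit 38117137)) (BT.leaf (nat_lit 41912581))) (BT.node (nat_lit 11335168) (BT.leaf (nat_lit 35025429)) (BT.leaf (nat_lit 45340957))))) (BT.node (nat_lit 11335488) (BT.node (nat_lit 11335360) (BT.node (nat_lit 11335296) (BT.leaf (nat_lit 44419589)) (BT.leaf (nat_lit 43251489))) (BT.node (nat_lit 11335424) (BT.leaf (nat_lit 43250453)) (BT.leaf (nat_lit 43186973)))) (BT.node (nat_lit 11335552) (BT.node (nat_lit 11335496) (BT.leaf (nat_lit 41623821)) (BT.leaf (nat_lit 775500))) (BT.node (nat_lit 11335616) (BT.leaf (nat_lit 38322965)) (BT.leaf (nat_lit 45581829)))))))) (BT.node (nat_lit 11337984) (BT.node (nat_lit 11336768) (BT.node (nat_lit 11336192) (BT.node (nat_lit 11335936) (BT.node (nat_lit 11335808) (BT.node (nat_lit 11335744) (BT.leaf (nat_lit 42078981)) (BT.leaf (nat_lit 30253585))) (BT.node (nat_lit 11335872) (BT.leaf (nat_lit 35026961)) (BT.leaf (nat_lit 32466457)))) (BT.node (nat_lit 11336064) (BT.node (nat_lit 11336000) (BT.leaf (nat_lit 32466461)) (BT.leaf (nat_lit 32322577))) (BT.node (nat_lit 11336128) (BT.leaf (nat_lit 41784837)) (BT.leaf (nat_lit 41121561))))) (BT.node (nat_lit 11336448) (BT.node (nat_lit 11336320) (BT.node (nat_lit 11336256) (BT.leaf (nat_lit 41121565)) (BT.leaf (nat_lit 29931281))) (BT.node (nat_lit 11336384) (BT.leaf (nat_lit 38032661)) (BT.leaf (nat_lit 38032665)))) (BT.node (nat_lit 11336576) (BT.node (nat_lit 11336512) (BT.leaf (nat_lit 38032669)) (BT.leaf (nat_lit 49342241))) (BT.node (nat_lit 11336704) (BT.leaf (nat_lit 32588833)) (BT.leaf (nat_lit 45717537)))))) (BT.node (nat_lit 11337344) (BT.node (nat_lit 11337088) (BT.node (nat_lit 11336960) (BT.node (nat_lit 11336832) (BT.leaf (nat_lit 49341729)) (BT.leaf (nat_lit 32588809))) (BT.node (nat_lit 11337024) (BT.leaf (nat_lit 48344337)) (BT.leaf (nat_lit 52230433)))) (BT.node (nat_lit 11337216) (BT.node (nat_lit 11337152) (BT.leaf (nat_lit 31395357)) (BT.leaf (nat_lit 40672785))) (BT.node (nat_lit 11337280) (BT.leaf (nat_lit 45347093)) (BT.leaf (nat_lit 35031061))))) (BT.node (nat_lit 11337664) (BT.node (nat_lit 11337472) (BT.node (nat_lit 11337408) (BT.leaf (nat_lit 52230413)) (BT.leaf (nat_lit 49206561))) (BT.node (nat_lit 11337600) (BT.leaf (nat_lit 39494177)) (BT.leaf (nat_lit 48671001)))) (BT.node (nat_lit 11337856) (BT.node (nat_lit 11337728) (BT.leaf (nat_lit 48885001)) (BT.leaf (nat_lit 32214305))) (BT.node (nat_lit 11337920) (BT.leaf (nat_lit 38849053)) (BT.leaf (nat_lit 31394833))))))) (BT.node (nat_lit 11338880) (BT.node (nat_lit 11338496) (BT.node (nat_lit 11338240) (BT.node (nat_lit 11338112) (BT.node (nat_lit 11338048) (BT.leaf (nat_lit 42626581)) (BT.leaf (nat_lit 42626585))) (BT.node (nat_lit 11338176) (BT.leaf (nat_lit 42626589)) (BT.leaf (nat_lit 41431045)))) (BT.node (nat_lit 11338368) (BT.node (nat_lit 11338304) (BT.leaf (nat_lit 47655713)) (BT.leaf (nat_lit 41925637))) (BT.node (nat_lit 11338432) (BT.leaf (nat_lit 46406689)) (BT.leaf (nat_lit 30827549))))) (BT.node (nat_lit 11338752) (BT.node (nat_lit 11338624) (BT.node (nat_lit 11338560) (BT.leaf (nat_lit 41192725)) (BT.leaf (nat_lit 41934877))) (BT.node (nat_lit 11338688) (BT.leaf (nat_lit 47123737)) (BT.leaf (nat_lit 40247301)))) (BT.node (nat_lit 11338755) (BT.node (nat_lit 11338754) (BT.leaf (nat_lit 43039253)) (BT.leaf (nat_lit 776316))) (BT.node (nat_lit 11338816) (BT.leaf (nat_lit 776316)) (BT.leaf (nat_lit 47559945)))))) (BT.node (nat_lit 11339392) (BT.node (nat_lit 11339136) (BT.node (nat_lit 11339008) (BT.node (nat_lit 11338944) (BT.leaf (nat_lit 47123725)) (BT.leaf (nat_lit 32860193))) (BT.node (nat_lit 11339072) (BT.leaf (nat_lit 43039237)) (BT.leaf (nat_lit 41793825)))) (BT.node (nat_lit 11339264) (BT.node (nat_lit 11339200) (BT.leaf (nat_lit 40249861)) (BT.leaf (nat_lit 47548169))) (BT.node (nat_lit 11339328) (BT.leaf (nat_lit 47548425)) (BT.leaf (nat_lit 38576393))))) (BT.node (nat_lit 11339648) (BT.node (nat_lit 11339520) (BT.node (nat_lit 11339456) (BT.leaf (nat_lit 46260257)) (BT.leaf (nat_lit 49451553))) (BT.node (nat_lit 11339584) (BT.leaf (nat_lit 38748945)) (BT.leaf (nat_lit 39009557)))) (BT.node (nat_lit 11339776) (BT.node (nat_lit 11339712) (BT.leaf (nat_lit 41719561)) (BT.leaf (nat_lit 41719565))) (BT.node (nat_lit 11339840) (BT.leaf (nat_lit 42445333)) (BT.leaf (nat_lit 38096137))))))))) (BT.node (nat_lit 11344448) (BT.node (nat_lit 11342016) (BT.node (nat_lit 11340992) (BT.node (nat_lit 11340416) (BT.node (nat_lit 11340160) (BT.node (nat_lit 11340032) (BT.node (nat_lit 11339968) (BT.leaf (nat_lit 38096141)) (BT.leaf (nat_lit 38096153))) (BT.node (nat_lit 11340096) (BT.leaf (nat_lit 38096157)) (BT.leaf (nat_lit 32332553)))) (BT.node (nat_lit 11340288) (BT.node (nat_lit 11340224) (BT.leaf (nat_lit 42180869)) (BT.leaf (nat_lit 41513757))) (BT.node (nat_lit 11340352) (BT.leaf (nat_lit 39530249)) (BT.leaf (nat_lit 32999957))))) (BT.node (nat_lit 11340672) (BT.node (nat_lit 11340544) (BT.node (nat_lit 11340480) (BT.leaf (nat_lit 44631833)) (BT.leaf (nat_lit 32999965))) (BT.node (nat_lit 11340608) (BT.leaf (nat_lit 44474901)) (BT.leaf (nat_lit 49227545)))) (BT.node (nat_lit 11340800) (BT.node (nat_lit 11340736) (BT.leaf (nat_lit 39530269)) (BT.leaf (nat_lit 41777177))) (BT.node (nat_lit 11340864) (BT.leaf (nat_lit 46255629)) (BT.leaf (nat_lit 31053593)))))) (BT.node (nat_lit 11341568) (BT.node (nat_lit 11341312) (BT.node (nat_lit 11341184) (BT.node (nat_lit 11341056) (BT.leaf (nat_lit 39839509)) (BT.leaf (nat_lit 31053597))) (BT.node (nat_lit 11341248) (BT.leaf (nat_lit 49779733)) (BT.leaf (nat_lit 32335633)))) (BT.node (nat_lit 11341440) (BT.node (nat_lit 11341376) (BT.leaf (nat_lit 45365533)) (BT.leaf (nat_lit 49767941))) (BT.node (nat_lit 11341504) (BT.leaf (nat_lit 32998405)) (BT.leaf (nat_lit 32336401))))) (BT.node (nat_lit 11341760) (BT.node (nat_lit 11341634) (BT.node (nat_lit 11341632) (BT.leaf (nat_lit 32336145)) (BT.leaf (nat_lit 45031449))) (BT.node (nat_lit 11341696) (BT.leaf (nat_lit 723024)) (BT.leaf (nat_lit 45031453)))) (BT.node (nat_lit 11341888) (BT.node (nat_lit 11341824) (BT.leaf (nat_lit 45976593)) (BT.leaf (nat_lit 41777433))) (BT.node (nat_lit 11341952) (BT.leaf (nat_lit 41777437)) (BT.leaf (nat_lit 40337681))))))) (BT.node (nat_lit 11343296) (BT.node (nat_lit 11342592) (BT.node (nat_lit 11342272) (BT.node (nat_lit 11342144) (BT.node (nat_lit 11342080) (BT.leaf (nat_lit 49310489)) (BT.leaf (nat_lit 32337673))) (BT.node (nat_lit 11342208) (BT.leaf (nat_lit 40337697)) (BT.leaf (nat_lit 45367821)))) (BT.node (nat_lit 11342400) (BT.node (nat_lit 11342336) (BT.leaf (nat_lit 47606805)) (BT.leaf (nat_lit 45368585))) (BT.node (nat_lit 11342464) (BT.leaf (nat_lit 45037593)) (BT.leaf (nat_lit 45037597))))) (BT.node (nat_lit 11342848) (BT.node (nat_lit 11342720) (BT.node (nat_lit 11342656) (BT.leaf (nat_lit 41637129)) (BT.leaf (nat_lit 43793185))) (BT.node (nat_lit 11342784) (BT.leaf (nat_lit 32337697)) (BT.leaf (nat_lit 41745933)))) (BT.node (nat_lit 11343168) (BT.node (nat_lit 11343104) (BT.leaf (nat_lit 44953109)) (BT.leaf (nat_lit 38535969))) (BT.node (nat_lit 11343232) (BT.leaf (nat_lit 45003041)) (BT.leaf (nat_lit 34392593)))))) (BT.node (nat_lit 11343808) (BT.node (nat_lit 11343552) (BT.node (nat_lit 11343424) (BT.node (nat_lit 11343360) (BT.leaf (nat_lit 42421025)) (BT.leaf (nat_lit 35189777))) (BT.node (nat_lit 11343488) (BT.leaf (nat_lit 40598285)) (BT.leaf (nat_lit 40341277)))) (BT.node (nat_lit 11343680) (BT.node (nat_lit 11343616) (BT.leaf (nat_lit 48906017)) (BT.leaf (nat_lit 41535749))) (BT.node (nat_lit 11343744) (BT.leaf (nat_lit 39148049)) (BT.leaf (nat_lit 32487193))))) (BT.node (nat_lit 11344192) (BT.node (nat_lit 11344064) (BT.node (nat_lit 11343936) (BT.leaf (nat_lit 40163345)) (BT.leaf (nat_lit 38265361))) (BT.node (nat_lit 11344128) (BT.leaf (nat_lit 28886045)) (BT.leaf (nat_lit 32562193)))) (BT.node (nat_lit 11344320) (BT.node (nat_lit 11344256) (BT.leaf (nat_lit 39898141)) (BT.leaf (nat_lit 33003281))) (BT.node (nat_lit 11344384) (BT.leaf (nat_lit 28669713)) (BT.leaf (nat_lit 32341009)))))))) (BT.node (nat_lit 11346624) (BT.node (nat_lit 11345472) (BT.node (nat_lit 11344832) (BT.node (nat_lit 11344704) (BT.node (nat_lit 11344576) (BT.node (nat_lit 11344512) (BT.leaf (nat_lit 32830745)) (BT.leaf (nat_lit 32830749))) (BT.node (nat_lit 11344640) (BT.leaf (nat_lit 45662241)) (BT.leaf (nat_lit 45849621)))) (BT.node (nat_lit 11344707) (BT.node (nat_lit 11344706) (BT.leaf (nat_lit 29146133)) (BT.leaf (nat_lit 738764))) (BT.node (nat_lit 11344768) (BT.leaf (nat_lit 738764)) (BT.leaf (nat_lit 44310817))))) (BT.node (nat_lit 11345152) (BT.node (nat_lit 11344960) (BT.node (nat_lit 11344896) (BT.leaf (nat_lit 47350025)) (BT.leaf (nat_lit 32523781))) (BT.node (nat_lit 11345088) (BT.leaf (nat_lit 44314629)) (BT.leaf (nat_lit 37969173)))) (BT.node (nat_lit 11345280) (BT.node (nat_lit 11345216) (BT.leaf (nat_lit 47390233)) (BT.leaf (nat_lit 40941321))) (BT.node (nat_lit 11345344) (BT.leaf (nat_lit 43185941)) (BT.leaf (nat_lit 32345361)))))) (BT.node (nat_lit 11345984) (BT.node (nat_lit 11345728) (BT.node (nat_lit 11345600) (BT.node (nat_lit 11345536) (BT.leaf (nat_lit 41218589)) (BT.leaf (nat_lit 49714465))) (BT.node (nat_lit 11345664) (BT.leaf (nat_lit 44432149)) (BT.leaf (nat_lit 49715233)))) (BT.node (nat_lit 11345856) (BT.node (nat_lit 11345792) (BT.leaf (nat_lit 49714977)) (BT.leaf (nat_lit 49750301))) (BT.node (nat_lit 11345920) (BT.leaf (nat_lit 43803413)) (BT.leaf (nat_lit 43678989))))) (BT.node (nat_lit 11346304) (BT.node (nat_lit 11346112) (BT.node (nat_lit 11346048) (BT.leaf (nat_lit 47030813)) (BT.leaf (nat_lit 44432153))) (BT.node (nat_lit 11346176) (BT.leaf (nat_lit 44432157)) (BT.leaf (nat_lit 32349201)))) (BT.node (nat_lit 11346496) (BT.node (nat_lit 11346432) (BT.leaf (nat_lit 32349457)) (BT.leaf (nat_lit 42727429))) (BT.node (nat_lit 11346560) (BT.leaf (nat_lit 28347157)) (BT.leaf (nat_lit 39613973))))))) (BT.node (nat_lit 11347776) (BT.node (nat_lit 11347136) (BT.node (nat_lit 11346880) (BT.node (nat_lit 11346752) (BT.node (nat_lit 11346688) (BT.leaf (nat_lit 39613977)) (BT.leaf (nat_lit 47167509))) (BT.node (nat_lit 11346816) (BT.leaf (nat_lit 41992481)) (BT.leaf (nat_lit 38961677)))) (BT.node (nat_lit 11347008) (BT.node (nat_lit 11346944) (BT.leaf (nat_lit 42044429)) (BT.leaf (nat_lit 44797729))) (BT.node (nat_lit 11347072) (BT.leaf (nat_lit 46080021)) (BT.leaf (nat_lit 45394949))))) (BT.node (nat_lit 11347456) (BT.node (nat_lit 11347264) (BT.node (nat_lit 11347200) (BT.leaf (nat_lit 45431829)) (BT.leaf (nat_lit 45225477))) (BT.node (nat_lit 11347328) (BT.leaf (nat_lit 43062297)) (BT.leaf (nat_lit 43062793)))) (BT.node (nat_lit 11347584) (BT.node (nat_lit 11347520) (BT.leaf (nat_lit 40310305)) (BT.leaf (nat_lit 40310049))) (BT.node (nat_lit 11347648) (BT.leaf (nat_lit 39007265)) (BT.leaf (nat_lit 45900065)))))) (BT.node (nat_lit 11348352) (BT.node (nat_lit 11348096) (BT.node (nat_lit 11347968) (BT.node (nat_lit 11347904) (BT.leaf (nat_lit 38207777)) (BT.leaf (nat_lit 50892549))) (BT.node (nat_lit 11348032) (BT.leaf (nat_lit 43395101)) (BT.leaf (nat_lit 49380893)))) (BT.node (nat_lit 11348224) (BT.node (nat_lit 11348160) (BT.leaf (nat_lit 38060053)) (BT.leaf (nat_lit 49380873))) (BT.node (nat_lit 11348288) (BT.leaf (nat_lit 40957453)) (BT.leaf (nat_lit 43355925))))) (BT.node (nat_lit 11348608) (BT.node (nat_lit 11348480) (BT.node (nat_lit 11348416) (BT.leaf (nat_lit 43074325)) (BT.leaf (nat_lit 38060057))) (BT.node (nat_lit 11348544) (BT.leaf (nat_lit 38060061)) (BT.leaf (nat_lit 49434905)))) (BT.node (nat_lit 11348736) (BT.node (nat_lit 11348672) (BT.leaf (nat_lit 32514845)) (BT.leaf (nat_lit 40060173))) (BT.node (nat_lit 11348800) (BT.leaf (nat_lit 45532941)) (BT.leaf (nat_lit 45387781)))))))))) (BT.node (nat_lit 11356928) (BT.node (nat_lit 11352896) (BT.node (nat_lit 11350784) (BT.node (nat_lit 11349888) (BT.node (nat_lit 11349376) (BT.node (nat_lit 11349120) (BT.node (nat_lit 11348992) (BT.node (nat_lit 11348928) (BT.leaf (nat_lit 40520969)) (BT.leaf (nat_lit 32702217))) (BT.node (nat_lit 11349056) (BT.leaf (nat_lit 40779029)) (BT.leaf (nat_lit 40183825)))) (BT.node (nat_lit 11349248) (BT.node (nat_lit 11349184) (BT.leaf (nat_lit 40620309)) (BT.leaf (nat_lit 32752137))) (BT.node (nat_lit 11349312) (BT.leaf (nat_lit 32436241)) (BT.leaf (nat_lit 49324065))))) (BT.node (nat_lit 11349632) (BT.node (nat_lit 11349504) (BT.node (nat_lit 11349440) (BT.leaf (nat_lit 49384461)) (BT.leaf (nat_lit 49384717))) (BT.node (nat_lit 11349568) (BT.leaf (nat_lit 38691593)) (BT.leaf (nat_lit 47460369)))) (BT.node (nat_lit 11349760) (BT.node (nat_lit 11349696) (BT.leaf (nat_lit 45515785)) (BT.leaf (nat_lit 43928841))) (BT.node (nat_lit 11349824) (BT.leaf (nat_lit 45530389)) (BT.leaf (nat_lit 32361749)))))) (BT.node (nat_lit 11350337) (BT.node (nat_lit 11350144) (BT.node (nat_lit 11350016) (BT.node (nat_lit 11349952) (BT.leaf (nat_lit 43928857)) (BT.leaf (nat_lit 43928861))) (BT.node (nat_lit 11350080) (BT.leaf (nat_lit 29994005)) (BT.leaf (nat_lit 36300573)))) (BT.node (nat_lit 11350272) (BT.node (nat_lit 11350208) (BT.leaf (nat_lit 32452113)) (BT.leaf (nat_lit 48636437))) (BT.node (nat_lit 11350336) (BT.leaf (nat_lit 32362513)) (BT.leaf (nat_lit 32362001))))) (BT.node (nat_lit 11350464) (BT.node (nat_lit 11350401) (BT.node (nat_lit 11350400) (BT.leaf (nat_lit 774792)) (BT.leaf (nat_lit 45401885))) (BT.node (nat_lit 11350405) (BT.leaf (nat_lit 774796)) (BT.leaf (nat_lit 774796)))) (BT.node (nat_lit 11350656) (BT.node (nat_lit 11350592) (BT.leaf (nat_lit 44019461)) (BT.leaf (nat_lit 40866593))) (BT.node (nat_lit 11350720) (BT.leaf (nat_lit 39457569)) (BT.leaf (nat_lit 45437209))))))) (BT.node (nat_lit 11351808) (BT.node (nat_lit 11351296) (BT.node (nat_lit 11351040) (BT.node (nat_lit 11350912) (BT.node (nat_lit 11350848) (BT.leaf (nat_lit 33016341)) (BT.leaf (nat_lit 32363537))) (BT.node (nat_lit 11350976) (BT.leaf (nat_lit 32363025)) (BT.leaf (nat_lit 47310105)))) (BT.node (nat_lit 11351168) (BT.node (nat_lit 11351104) (BT.leaf (nat_lit 40790293)) (BT.leaf (nat_lit 49418769))) (BT.node (nat_lit 11351232) (BT.leaf (nat_lit 39556897)) (BT.leaf (nat_lit 41069089))))) (BT.node (nat_lit 11351552) (BT.node (nat_lit 11351424) (BT.node (nat_lit 11351360) (BT.leaf (nat_lit 42187541)) (BT.leaf (nat_lit 42187545))) (BT.node (nat_lit 11351488) (BT.leaf (nat_lit 42187549)) (BT.leaf (nat_lit 45598749)))) (BT.node (nat_lit 11351680) (BT.node (nat_lit 11351616) (BT.leaf (nat_lit 45600533)) (BT.leaf (nat_lit 45594133))) (BT.node (nat_lit 11351744) (BT.leaf (nat_lit 45406489)) (BT.leaf (nat_lit 46198049)))))) (BT.node (nat_lit 11352320) (BT.node (nat_lit 11352064) (BT.node (nat_lit 11351936) (BT.node (nat_lit 11351872) (BT.leaf (nat_lit 37764625)) (BT.leaf (nat_lit 39558917))) (BT.node (nat_lit 11352000) (BT.leaf (nat_lit 42668829)) (BT.leaf (nat_lit 45600541)))) (BT.node (nat_lit 11352192) (BT.node (nat_lit 11352128) (BT.leaf (nat_lit 44206617)) (BT.leaf (nat_lit 44206621))) (BT.node (nat_lit 11352256) (BT.leaf (nat_lit 49612305)) (BT.leaf (nat_lit 38584333))))) (BT.node (nat_lit 11352576) (BT.node (nat_lit 11352448) (BT.node (nat_lit 11352384) (BT.leaf (nat_lit 33653013)) (BT.leaf (nat_lit 31885585))) (BT.node (nat_lit 11352512) (BT.leaf (nat_lit 40717589)) (BT.leaf (nat_lit 48207113)))) (BT.node (nat_lit 11352768) (BT.node (nat_lit 11352704) (BT.leaf (nat_lit 32727573)) (BT.leaf (nat_lit 48207133))) (BT.node (nat_lit 11352832) (BT.leaf (nat_lit 45910281)) (BT.leaf (nat_lit 44420877)))))))) (BT.node (nat_lit 11354816) (BT.node (nat_lit 11353792) (BT.node (nat_lit 11353408) (BT.node (nat_lit 11353152) (BT.node (nat_lit 11353024) (BT.node (nat_lit 11352960) (BT.leaf (nat_lit 39537697)) (BT.leaf (nat_lit 41765645))) (BT.node (nat_lit 11353088) (BT.leaf (nat_lit 43754253)) (BT.leaf (nat_lit 45412121)))) (BT.node (nat_lit 11353280) (BT.node (nat_lit 11353216) (BT.leaf (nat_lit 38592021)) (BT.leaf (nat_lit 43123233))) (BT.node (nat_lit 11353344) (BT.leaf (nat_lit 45551377)) (BT.leaf (nat_lit 32743181))))) (BT.node (nat_lit 11353664) (BT.node (nat_lit 11353536) (BT.node (nat_lit 11353472) (BT.leaf (nat_lit 45606413)) (BT.leaf (nat_lit 32743693))) (BT.node (nat_lit 11353600) (BT.leaf (nat_lit 43413537)) (BT.leaf (nat_lit 46253601)))) (BT.node (nat_lit 11353731) (BT.node (nat_lit 11353728) (BT.leaf (nat_lit 39568921)) (BT.leaf (nat_lit 40176417))) (BT.node (nat_lit 11353734) (BT.leaf (nat_lit 775556)) (BT.leaf (nat_lit 775556)))))) (BT.node (nat_lit 11354304) (BT.node (nat_lit 11354048) (BT.node (nat_lit 11353920) (BT.node (nat_lit 11353856) (BT.leaf (nat_lit 28690441)) (BT.leaf (nat_lit 45415193))) (BT.node (nat_lit 11353984) (BT.leaf (nat_lit 27432469)) (BT.leaf (nat_lit 32484117)))) (BT.node (nat_lit 11354176) (BT.node (nat_lit 11354113) (BT.leaf (nat_lit 45415945)) (BT.leaf (nat_lit 710260))) (BT.node (nat_lit 11354240) (BT.leaf (nat_lit 38979337)) (BT.leaf (nat_lit 38980125))))) (BT.node (nat_lit 11354560) (BT.node (nat_lit 11354432) (BT.node (nat_lit 11354368) (BT.leaf (nat_lit 32373521)) (BT.leaf (nat_lit 43928589))) (BT.node (nat_lit 11354496) (BT.leaf (nat_lit 47240981)) (BT.leaf (nat_lit 47241237)))) (BT.node (nat_lit 11354688) (BT.node (nat_lit 11354624) (BT.leaf (nat_lit 49459737)) (BT.leaf (nat_lit 49458965))) (BT.node (nat_lit 11354752) (BT.leaf (nat_lit 39408405)) (BT.leaf (nat_lit 46107669))))))) (BT.node (nat_lit 11355840) (BT.node (nat_lit 11355328) (BT.node (nat_lit 11355072) (BT.node (nat_lit 11354944) (BT.node (nat_lit 11354880) (BT.leaf (nat_lit 49459725)) (BT.leaf (nat_lit 39408409))) (BT.node (nat_lit 11355008) (BT.leaf (nat_lit 39408413)) (BT.leaf (nat_lit 51044613)))) (BT.node (nat_lit 11355200) (BT.node (nat_lit 11355136) (BT.leaf (nat_lit 42493205)) (BT.leaf (nat_lit 43985925))) (BT.node (nat_lit 11355264) (BT.leaf (nat_lit 45421085)) (BT.leaf (nat_lit 42516757))))) (BT.node (nat_lit 11355584) (BT.node (nat_lit 11355456) (BT.node (nat_lit 11355392) (BT.leaf (nat_lit 42432525)) (BT.leaf (nat_lit 35166997))) (BT.node (nat_lit 11355520) (BT.leaf (nat_lit 42432029)) (BT.leaf (nat_lit 51003157)))) (BT.node (nat_lit 11355712) (BT.node (nat_lit 11355648) (BT.leaf (nat_lit 37852693)) (BT.leaf (nat_lit 38227973))) (BT.node (nat_lit 11355776) (BT.leaf (nat_lit 41823241)) (BT.leaf (nat_lit 35167257)))))) (BT.node (nat_lit 11356352) (BT.node (nat_lit 11356096) (BT.node (nat_lit 11355968) (BT.node (nat_lit 11355904) (BT.leaf (nat_lit 32379921)) (BT.leaf (nat_lit 45718537))) (BT.node (nat_lit 11356032) (BT.leaf (nat_lit 43799073)) (BT.leaf (nat_lit 32954117)))) (BT.node (nat_lit 11356224) (BT.node (nat_lit 11356160) (BT.leaf (nat_lit 48106261)) (BT.leaf (nat_lit 46305301))) (BT.node (nat_lit 11356288) (BT.leaf (nat_lit 30141217)) (BT.leaf (nat_lit 45425437))))) (BT.node (nat_lit 11356672) (BT.node (nat_lit 11356480) (BT.node (nat_lit 11356416) (BT.leaf (nat_lit 40773909)) (BT.leaf (nat_lit 39908625))) (BT.node (nat_lit 11356544) (BT.leaf (nat_lit 45050377)) (BT.leaf (nat_lit 45484065)))) (BT.node (nat_lit 11356800) (BT.node (nat_lit 11356736) (BT.leaf (nat_lit 46022421)) (BT.leaf (nat_lit 32821773))) (BT.node (nat_lit 11356864) (BT.leaf (nat_lit 40980233)) (BT.leaf (nat_lit 43725829))))))))) (BT.node (nat_lit 11361344) (BT.node (nat_lit 11358912) (BT.node (nat_lit 11357888) (BT.node (nat_lit 11357376) (BT.node (nat_lit 11357123) (BT.node (nat_lit 11357056) (BT.node (nat_lit 11356992) (BT.leaf (nat_lit 43154441)) (BT.leaf (nat_lit 38243605))) (BT.node (nat_lit 11357122) (BT.leaf (nat_lit 44096801)) (BT.leaf (nat_lit 715472)))) (BT.node (nat_lit 11357184) (BT.node (nat_lit 11357124) (BT.leaf (nat_lit 715472)) (BT.leaf (nat_lit 715472))) (BT.node (nat_lit 11357312) (BT.leaf (nat_lit 46095125)) (BT.leaf (nat_lit 46086169))))) (BT.node (nat_lit 11357632) (BT.node (nat_lit 11357504) (BT.node (nat_lit 11357440) (BT.leaf (nat_lit 41820961)) (BT.leaf (nat_lit 41111305))) (BT.node (nat_lit 11357568) (BT.leaf (nat_lit 45355017)) (BT.leaf (nat_lit 38786073)))) (BT.node (nat_lit 11357760) (BT.node (nat_lit 11357696) (BT.leaf (nat_lit 38786077)) (BT.leaf (nat_lit 41478933))) (BT.node (nat_lit 11357824) (BT.leaf (nat_lit 45431325)) (BT.leaf (nat_lit 32858377)))))) (BT.node (nat_lit 11358464) (BT.node (nat_lit 11358208) (BT.node (nat_lit 11358080) (BT.node (nat_lit 11357952) (BT.leaf (nat_lit 48097041)) (BT.leaf (nat_lit 49685533))) (BT.node (nat_lit 11358144) (BT.leaf (nat_lit 49684493)) (BT.leaf (nat_lit 32390673)))) (BT.node (nat_lit 11358336) (BT.node (nat_lit 11358272) (BT.leaf (nat_lit 42937885)) (BT.leaf (nat_lit 35161113))) (BT.node (nat_lit 11358400) (BT.leaf (nat_lit 50997017)) (BT.leaf (nat_lit 47864353))))) (BT.node (nat_lit 11358720) (BT.node (nat_lit 11358592) (BT.node (nat_lit 11358528) (BT.leaf (nat_lit 45434141)) (BT.leaf (nat_lit 35161101))) (BT.node (nat_lit 11358656) (BT.leaf (nat_lit 41345313)) (BT.leaf (nat_lit 40616461)))) (BT.node (nat_lit 11358784) (BT.node (nat_lit 11358725) (BT.leaf (nat_lit 45434649)) (BT.leaf (nat_lit 710528))) (BT.node (nat_lit 11358848) (BT.leaf (nat_lit 51399181)) (BT.leaf (nat_lit 45471501))))))) (BT.node (nat_lit 11360000) (BT.node (nat_lit 11359488) (BT.node (nat_lit 11359168) (BT.node (nat_lit 11359040) (BT.node (nat_lit 11358976) (BT.leaf (nat_lit 49331733)) (BT.leaf (nat_lit 44793865))) (BT.node (nat_lit 11359104) (BT.leaf (nat_lit 45435929)) (BT.leaf (nat_lit 37944865)))) (BT.node (nat_lit 11359360) (BT.node (nat_lit 11359296) (BT.leaf (nat_lit 52281881)) (BT.leaf (nat_lit 44824853))) (BT.node (nat_lit 11359424) (BT.leaf (nat_lit 40309513)) (BT.leaf (nat_lit 51849997))))) (BT.node (nat_lit 11359744) (BT.node (nat_lit 11359616) (BT.node (nat_lit 11359552) (BT.leaf (nat_lit 36609033)) (BT.leaf (nat_lit 51850249))) (BT.node (nat_lit 11359680) (BT.leaf (nat_lit 51366421)) (BT.leaf (nat_lit 52137761)))) (BT.node (nat_lit 11359872) (BT.node (nat_lit 11359808) (BT.leaf (nat_lit 38720777)) (BT.leaf (nat_lit 32402973))) (BT.node (nat_lit 11359936) (BT.leaf (nat_lit 51638817)) (BT.leaf (nat_lit 32402969)))))) (BT.node (nat_lit 11360832) (BT.node (nat_lit 11360576) (BT.node (nat_lit 11360320) (BT.node (nat_lit 11360064) (BT.leaf (nat_lit 45440285)) (BT.leaf (nat_lit 52149777))) (BT.node (nat_lit 11360512) (BT.leaf (nat_lit 42009109)) (BT.leaf (nat_lit 31846173)))) (BT.node (nat_lit 11360704) (BT.node (nat_lit 11360640) (BT.leaf (nat_lit 41248773)) (BT.leaf (nat_lit 28185625))) (BT.node (nat_lit 11360768) (BT.leaf (nat_lit 38070533)) (BT.leaf (nat_lit 44130073))))) (BT.node (nat_lit 11361088) (BT.node (nat_lit 11360960) (BT.node (nat_lit 11360896) (BT.leaf (nat_lit 44130077)) (BT.leaf (nat_lit 32403217))) (BT.node (nat_lit 11361024) (BT.leaf (nat_lit 43808265)) (BT.leaf (nat_lit 43808269)))) (BT.node (nat_lit 11361216) (BT.node (nat_lit 11361152) (BT.leaf (nat_lit 37764117)) (BT.leaf (nat_lit 44130841))) (BT.node (nat_lit 11361280) (BT.leaf (nat_lit 44130845)) (BT.leaf (nat_lit 48974853)))))))) (BT.node (nat_lit 11363328) (BT.node (nat_lit 11362368) (BT.node (nat_lit 11361856) (BT.node (nat_lit 11361600) (BT.node (nat_lit 11361472) (BT.node (nat_lit 11361408) (BT.leaf (nat_lit 49249569)) (BT.leaf (nat_lit 35474197))) (BT.node (nat_lit 11361536) (BT.leaf (nat_lit 32404241)) (BT.leaf (nat_lit 37764121)))) (BT.node (nat_lit 11361728) (BT.node (nat_lit 11361664) (BT.leaf (nat_lit 37764125)) (BT.leaf (nat_lit 32403985))) (BT.node (nat_lit 11361792) (BT.leaf (nat_lit 32407573)) (BT.leaf (nat_lit 40213773))))) (BT.node (nat_lit 11362112) (BT.node (nat_lit 11361984) (BT.node (nat_lit 11361920) (BT.leaf (nat_lit 32733973)) (BT.leaf (nat_lit 40215061))) (BT.node (nat_lit 11362048) (BT.leaf (nat_lit 37235737)) (BT.leaf (nat_lit 44795913)))) (BT.node (nat_lit 11362240) (BT.node (nat_lit 11362176) (BT.leaf (nat_lit 39679521)) (BT.leaf (nat_lit 45584397))) (BT.node (nat_lit 11362304) (BT.leaf (nat_lit 32490249)) (BT.leaf (nat_lit 39678725)))))) (BT.node (nat_lit 11362880) (BT.node (nat_lit 11362624) (BT.node (nat_lit 11362496) (BT.node (nat_lit 11362432) (BT.leaf (nat_lit 32679961)) (BT.leaf (nat_lit 32736021))) (BT.node (nat_lit 11362560) (BT.leaf (nat_lit 29757209)) (BT.leaf (nat_lit 42142241)))) (BT.node (nat_lit 11362752) (BT.node (nat_lit 11362688) (BT.leaf (nat_lit 39680005)) (BT.leaf (nat_lit 29757213))) (BT.node (nat_lit 11362816) (BT.leaf (nat_lit 48278545)) (BT.leaf (nat_lit 32490773))))) (BT.node (nat_lit 11363136) (BT.node (nat_lit 11363008) (BT.node (nat_lit 11362944) (BT.leaf (nat_lit 45254433)) (BT.leaf (nat_lit 32685333))) (BT.node (nat_lit 11363072) (BT.leaf (nat_lit 47361797)) (BT.leaf (nat_lit 39656737)))) (BT.node (nat_lit 11363264) (BT.node (nat_lit 11363200) (BT.leaf (nat_lit 38990085)) (BT.leaf (nat_lit 46946053))) (BT.node (nat_lit 11363269) (BT.leaf (nat_lit 39657221)) (BT.leaf (nat_lit 771048))))))) (BT.node (nat_lit 11364480) (BT.node (nat_lit 11363968) (BT.node (nat_lit 11363584) (BT.node (nat_lit 11363456) (BT.node (nat_lit 11363392) (BT.leaf (nat_lit 45714453)) (BT.leaf (nat_lit 41203993))) (BT.node (nat_lit 11363520) (BT.leaf (nat_lit 41203997)) (BT.leaf (nat_lit 40452613)))) (BT.node (nat_lit 11363776) (BT.node (nat_lit 11363712) (BT.leaf (nat_lit 43880965)) (BT.leaf (nat_lit 43640069))) (BT.node (nat_lit 11363904) (BT.leaf (nat_lit 44470297)) (BT.leaf (nat_lit 41079329))))) (BT.node (nat_lit 11364288) (BT.node (nat_lit 11364160) (BT.node (nat_lit 11364032) (BT.leaf (nat_lit 40195097)) (BT.leaf (nat_lit 42910981))) (BT.node (nat_lit 11364224) (BT.leaf (nat_lit 39074069)) (BT.leaf (nat_lit 32718601)))) (BT.node (nat_lit 11364416) (BT.node (nat_lit 11364352) (BT.leaf (nat_lit 39074077)) (BT.leaf (nat_lit 30649873))) (BT.node (nat_lit 11364417) (BT.leaf (nat_lit 43328005)) (BT.leaf (nat_lit 788588)))))) (BT.node (nat_lit 11364864) (BT.node (nat_lit 11364608) (BT.node (nat_lit 11364488) (BT.node (nat_lit 11364482) (BT.leaf (nat_lit 43276321)) (BT.leaf (nat_lit 752956))) (BT.node (nat_lit 11364544) (BT.leaf (nat_lit 752956)) (BT.leaf (nat_lit 37831193)))) (BT.node (nat_lit 11364736) (BT.node (nat_lit 11364672) (BT.leaf (nat_lit 37831197)) (BT.leaf (nat_lit 37831201))) (BT.node (nat_lit 11364800) (BT.leaf (nat_lit 42963725)) (BT.leaf (nat_lit 46227489))))) (BT.node (nat_lit 11365120) (BT.node (nat_lit 11364992) (BT.node (nat_lit 11364928) (BT.leaf (nat_lit 42963993)) (BT.leaf (nat_lit 42963997))) (BT.node (nat_lit 11365056) (BT.leaf (nat_lit 32801049)) (BT.leaf (nat_lit 32760081)))) (BT.node (nat_lit 11365312) (BT.node (nat_lit 11365248) (BT.leaf (nat_lit 32760085)) (BT.leaf (nat_lit 44723481))) (BT.node (nat_lit 11365376) (BT.leaf (nat_lit 44723485)) (BT.leaf (nat_lit 45392661))))))))))) (BT.node (nat_lit 11382464) (BT.node (nat_lit 11374080) (BT.node (nat_lit 11369984) (BT.node (nat_lit 11367680) (BT.node (nat_lit 11366400) (BT.node (nat_lit 11365888) (BT.node (nat_lit 11365632) (BT.node (nat_lit 11365504) (BT.node (nat_lit 11365441) (BT.leaf (nat_lit 45904137)) (BT.leaf (nat_lit 807424))) (BT.node (nat_lit 11365568) (BT.leaf (nat_lit 45392669)) (BT.leaf (nat_lit 32419333)))) (BT.node (nat_lit 11365760) (BT.node (nat_lit 11365696) (BT.leaf (nat_lit 44722437)) (BT.leaf (nat_lit 44722449))) (BT.node (nat_lit 11365824) (BT.leaf (nat_lit 39263249)) (BT.leaf (nat_lit 40879125))))) (BT.node (nat_lit 11366144) (BT.node (nat_lit 11366016) (BT.node (nat_lit 11365952) (BT.leaf (nat_lit 32664845)) (BT.leaf (nat_lit 45962773))) (BT.node (nat_lit 11366080) (BT.leaf (nat_lit 44722957)) (BT.leaf (nat_lit 40866081)))) (BT.node (nat_lit 11366272) (BT.node (nat_lit 11366208) (BT.leaf (nat_lit 33016337)) (BT.leaf (nat_lit 44378649))) (BT.node (nat_lit 11366336) (BT.leaf (nat_lit 44378653)) (BT.leaf (nat_lit 29080593)))))) (BT.node (nat_lit 11366976) (BT.node (nat_lit 11366656) (BT.node (nat_lit 11366528) (BT.node (nat_lit 11366464) (BT.leaf (nat_lit 32392209)) (BT.leaf (nat_lit 32419605))) (BT.node (nat_lit 11366592) (BT.leaf (nat_lit 32430617)) (BT.leaf (nat_lit 32430621)))) (BT.node (nat_lit 11366784) (BT.node (nat_lit 11366720) (BT.leaf (nat_lit 43848965)) (BT.leaf (nat_lit 42057989))) (BT.node (nat_lit 11366912) (BT.leaf (nat_lit 45904149)) (BT.leaf (nat_lit 45392149))))) (BT.node (nat_lit 11367232) (BT.node (nat_lit 11367104) (BT.node (nat_lit 11367040) (BT.leaf (nat_lit 33017105)) (BT.leaf (nat_lit 49330973))) (BT.node (nat_lit 11367168) (BT.leaf (nat_lit 46658845)) (BT.leaf (nat_lit 43986697)))) (BT.node (nat_lit 11367360) (BT.node (nat_lit 11367296) (BT.leaf (nat_lit 46658825)) (BT.leaf (nat_lit 45468953))) (BT.node (nat_lit 11367488) (BT.leaf (nat_lit 33018145)) (BT.leaf (nat_lit 39480353))))))) (BT.node (nat_lit 11368832) (BT.node (nat_lit 11368192) (BT.node (nat_lit 11367936) (BT.node (nat_lit 11367808) (BT.node (nat_lit 11367744) (BT.leaf (nat_lit 43178769)) (BT.leaf (nat_lit 43178773))) (BT.node (nat_lit 11367872) (BT.leaf (nat_lit 45435397)) (BT.leaf (nat_lit 45435665)))) (BT.node (nat_lit 11368064) (BT.node (nat_lit 11368000) (BT.leaf (nat_lit 45471497)) (BT.leaf (nat_lit 45434645))) (BT.node (nat_lit 11368128) (BT.leaf (nat_lit 44793881)) (BT.leaf (nat_lit 42269717))))) (BT.node (nat_lit 11368512) (BT.node (nat_lit 11368320) (BT.node (nat_lit 11368256) (BT.leaf (nat_lit 40600853)) (BT.leaf (nat_lit 44198177))) (BT.node (nat_lit 11368384) (BT.leaf (nat_lit 42065413)) (BT.leaf (nat_lit 42064901)))) (BT.node (nat_lit 11368704) (BT.node (nat_lit 11368640) (BT.leaf (nat_lit 49379101)) (BT.leaf (nat_lit 48091425))) (BT.node (nat_lit 11368768) (BT.leaf (nat_lit 32654621)) (BT.leaf (nat_lit 32560661)))))) (BT.node (nat_lit 11369408) (BT.node (nat_lit 11369088) (BT.node (nat_lit 11368960) (BT.node (nat_lit 11368896) (BT.leaf (nat_lit 45475613)) (BT.leaf (nat_lit 44421393))) (BT.node (nat_lit 11369024) (BT.leaf (nat_lit 41697561)) (BT.leaf (nat_lit 32606753)))) (BT.node (nat_lit 11369280) (BT.node (nat_lit 11369216) (BT.leaf (nat_lit 39844613)) (BT.leaf (nat_lit 45391641))) (BT.node (nat_lit 11369344) (BT.leaf (nat_lit 45476873)) (BT.leaf (nat_lit 32573461))))) (BT.node (nat_lit 11369728) (BT.node (nat_lit 11369536) (BT.node (nat_lit 11369472) (BT.leaf (nat_lit 43731469)) (BT.leaf (nat_lit 40180253))) (BT.node (nat_lit 11369664) (BT.leaf (nat_lit 45393433)) (BT.leaf (nat_lit 35096853)))) (BT.node (nat_lit 11369856) (BT.node (nat_lit 11369792) (BT.leaf (nat_lit 45479197)) (BT.leaf (nat_lit 45393421))) (BT.node (nat_lit 11369920) (BT.leaf (nat_lit 43709473)) (BT.leaf (nat_lit 45454349)))))))) (BT.node (nat_lit 11371904) (BT.node (nat_lit 11370947) (BT.node (nat_lit 11370496) (BT.node (nat_lit 11370240) (BT.node (nat_lit 11370112) (BT.node (nat_lit 11370048) (BT.leaf (nat_lit 45685261)) (BT.leaf (nat_lit 44385813))) (BT.node (nat_lit 11370176) (BT.leaf (nat_lit 30480657)) (BT.leaf (nat_lit 44388641)))) (BT.node (nat_lit 11370368) (BT.node (nat_lit 11370304) (BT.leaf (nat_lit 39585813)) (BT.leaf (nat_lit 32435729))) (BT.node (nat_lit 11370432) (BT.leaf (nat_lit 35270161)) (BT.leaf (nat_lit 32752141))))) (BT.node (nat_lit 11370816) (BT.node (nat_lit 11370624) (BT.node (nat_lit 11370560) (BT.leaf (nat_lit 49323797)) (BT.leaf (nat_lit 43939361))) (BT.node (nat_lit 11370688) (BT.leaf (nat_lit 42023713)) (BT.leaf (nat_lit 45401365)))) (BT.node (nat_lit 11370944) (BT.node (nat_lit 11370880) (BT.leaf (nat_lit 45616929)) (BT.leaf (nat_lit 44396293))) (BT.node (nat_lit 11370946) (BT.leaf (nat_lit 32437269)) (BT.leaf (nat_lit 711172)))))) (BT.node (nat_lit 11371392) (BT.node (nat_lit 11371072) (BT.node (nat_lit 11370951) (BT.node (nat_lit 11370950) (BT.leaf (nat_lit 711172)) (BT.leaf (nat_lit 711172))) (BT.node (nat_lit 11371008) (BT.leaf (nat_lit 711172)) (BT.leaf (nat_lit 49615637)))) (BT.node (nat_lit 11371264) (BT.node (nat_lit 11371200) (BT.leaf (nat_lit 42982677)) (BT.leaf (nat_lit 43747617))) (BT.node (nat_lit 11371328) (BT.leaf (nat_lit 43757317)) (BT.leaf (nat_lit 42982681))))) (BT.node (nat_lit 11371648) (BT.node (nat_lit 11371520) (BT.node (nat_lit 11371456) (BT.leaf (nat_lit 32748809)) (BT.leaf (nat_lit 42312737))) (BT.node (nat_lit 11371584) (BT.leaf (nat_lit 51059989)) (BT.leaf (nat_lit 46027809)))) (BT.node (nat_lit 11371776) (BT.node (nat_lit 11371712) (BT.leaf (nat_lit 44825629)) (BT.leaf (nat_lit 42885649))) (BT.node (nat_lit 11371840) (BT.leaf (nat_lit 42885665)) (BT.leaf (nat_lit 32437793))))))) (BT.node (nat_lit 11373056) (BT.node (nat_lit 11372480) (BT.node (nat_lit 11372224) (BT.node (nat_lit 11372032) (BT.node (nat_lit 11371968) (BT.leaf (nat_lit 32439061)) (BT.leaf (nat_lit 44399109))) (BT.node (nat_lit 11372096) (BT.leaf (nat_lit 48880925)) (BT.leaf (nat_lit 32749845)))) (BT.node (nat_lit 11372352) (BT.node (nat_lit 11372288) (BT.leaf (nat_lit 41075477)) (BT.leaf (nat_lit 43063813))) (BT.node (nat_lit 11372416) (BT.leaf (nat_lit 32439569)) (BT.leaf (nat_lit 32439313))))) (BT.node (nat_lit 11372736) (BT.node (nat_lit 11372608) (BT.node (nat_lit 11372544) (BT.leaf (nat_lit 39767833)) (BT.leaf (nat_lit 40126753))) (BT.node (nat_lit 11372672) (BT.leaf (nat_lit 46019361)) (BT.leaf (nat_lit 42033697)))) (BT.node (nat_lit 11372928) (BT.node (nat_lit 11372800) (BT.leaf (nat_lit 42033441)) (BT.leaf (nat_lit 46241297))) (BT.node (nat_lit 11372992) (BT.leaf (nat_lit 42034437)) (BT.leaf (nat_lit 48782613)))))) (BT.node (nat_lit 11373568) (BT.node (nat_lit 11373312) (BT.node (nat_lit 11373184) (BT.node (nat_lit 11373120) (BT.leaf (nat_lit 45197581)) (BT.leaf (nat_lit 31990549))) (BT.node (nat_lit 11373248) (BT.leaf (nat_lit 45492505)) (BT.leaf (nat_lit 38977817)))) (BT.node (nat_lit 11373440) (BT.node (nat_lit 11373376) (BT.leaf (nat_lit 39234081)) (BT.leaf (nat_lit 34573857))) (BT.node (nat_lit 11373504) (BT.leaf (nat_lit 39407889)) (BT.leaf (nat_lit 50247189))))) (BT.node (nat_lit 11373824) (BT.node (nat_lit 11373696) (BT.node (nat_lit 11373632) (BT.leaf (nat_lit 40395033)) (BT.leaf (nat_lit 45526301))) (BT.node (nat_lit 11373760) (BT.leaf (nat_lit 45495053)) (BT.leaf (nat_lit 38868757)))) (BT.node (nat_lit 11373952) (BT.node (nat_lit 11373888) (BT.leaf (nat_lit 45187873)) (BT.leaf (nat_lit 45424673))) (BT.node (nat_lit 11374016) (BT.leaf (nat_lit 31356421)) (BT.leaf (nat_lit 47737861))))))))) (BT.node (nat_lit 11378368) (BT.node (nat_lit 11376320) (BT.node (nat_lit 11375360) (BT.node (nat_lit 11374592) (BT.node (nat_lit 11374336) (BT.node (nat_lit 11374208) (BT.node (nat_lit 11374144) (BT.leaf (nat_lit 32851733)) (BT.leaf (nat_lit 35280145))) (BT.node (nat_lit 11374272) (BT.leaf (nat_lit 45455633)) (BT.leaf (nat_lit 40102681)))) (BT.node (nat_lit 11374464) (BT.node (nat_lit 11374400) (BT.leaf (nat_lit 40102685)) (BT.leaf (nat_lit 32442133))) (BT.node (nat_lit 11374528) (BT.leaf (nat_lit 43209481)) (BT.leaf (nat_lit 43209485))))) (BT.node (nat_lit 11375104) (BT.node (nat_lit 11374848) (BT.node (nat_lit 11374784) (BT.leaf (nat_lit 44909077)) (BT.leaf (nat_lit 37909273))) (BT.node (nat_lit 11375040) (BT.leaf (nat_lit 31419165)) (BT.leaf (nat_lit 49617693)))) (BT.node (nat_lit 11375232) (BT.node (nat_lit 11375168) (BT.leaf (nat_lit 45193249)) (BT.leaf (nat_lit 41225245))) (BT.node (nat_lit 11375296) (BT.leaf (nat_lit 45826821)) (BT.leaf (nat_lit 51706377)))))) (BT.node (nat_lit 11375872) (BT.node (nat_lit 11375616) (BT.node (nat_lit 11375488) (BT.node (nat_lit 11375424) (BT.leaf (nat_lit 40198925)) (BT.leaf (nat_lit 45501465))) (BT.node (nat_lit 11375552) (BT.leaf (nat_lit 38534933)) (BT.leaf (nat_lit 38241037)))) (BT.node (nat_lit 11375744) (BT.node (nat_lit 11375680) (BT.leaf (nat_lit 38534941)) (BT.leaf (nat_lit 35104541))) (BT.node (nat_lit 11375808) (BT.leaf (nat_lit 35104521)) (BT.leaf (nat_lit 45503001))))) (BT.node (nat_lit 11376128) (BT.node (nat_lit 11376000) (BT.node (nat_lit 11375936) (BT.leaf (nat_lit 41491233)) (BT.leaf (nat_lit 40189729))) (BT.node (nat_lit 11376064) (BT.leaf (nat_lit 32448529)) (BT.leaf (nat_lit 43970329)))) (BT.node (nat_lit 11376256) (BT.node (nat_lit 11376192) (BT.leaf (nat_lit 46105093)) (BT.leaf (nat_lit 32448273))) (BT.node (nat_lit 11376257) (BT.leaf (nat_lit 45339677)) (BT.leaf (nat_lit 777864))))))) (BT.node (nat_lit 11377280) (BT.node (nat_lit 11376768) (BT.node (nat_lit 11376576) (BT.node (nat_lit 11376448) (BT.node (nat_lit 11376384) (BT.leaf (nat_lit 33011229)) (BT.leaf (nat_lit 28743953))) (BT.node (nat_lit 11376512) (BT.leaf (nat_lit 52076825)) (BT.leaf (nat_lit 32449053)))) (BT.node (nat_lit 11376642) (BT.node (nat_lit 11376640) (BT.leaf (nat_lit 45527565)) (BT.leaf (nat_lit 32449297))) (BT.node (nat_lit 11376704) (BT.leaf (nat_lit 723400)) (BT.leaf (nat_lit 39670553))))) (BT.node (nat_lit 11376901) (BT.node (nat_lit 11376896) (BT.node (nat_lit 11376832) (BT.leaf (nat_lit 39670557)) (BT.leaf (nat_lit 33892889))) (BT.node (nat_lit 11376900) (BT.leaf (nat_lit 32450073)) (BT.leaf (nat_lit 716052)))) (BT.node (nat_lit 11377152) (BT.node (nat_lit 11377088) (BT.leaf (nat_lit 716052)) (BT.leaf (nat_lit 42544673))) (BT.node (nat_lit 11377216) (BT.leaf (nat_lit 39672073)) (BT.leaf (nat_lit 32452625)))))) (BT.node (nat_lit 11377856) (BT.node (nat_lit 11377600) (BT.node (nat_lit 11377408) (BT.node (nat_lit 11377344) (BT.leaf (nat_lit 40198921)) (BT.leaf (nat_lit 29816341))) (BT.node (nat_lit 11377472) (BT.leaf (nat_lit 44318473)) (BT.leaf (nat_lit 49584669)))) (BT.node (nat_lit 11377728) (BT.node (nat_lit 11377664) (BT.leaf (nat_lit 49584649)) (BT.leaf (nat_lit 44318493))) (BT.node (nat_lit 11377792) (BT.leaf (nat_lit 32451609)) (BT.leaf (nat_lit 41617169))))) (BT.node (nat_lit 11378112) (BT.node (nat_lit 11377984) (BT.node (nat_lit 11377920) (BT.leaf (nat_lit 41614085)) (BT.leaf (nat_lit 46302241))) (BT.node (nat_lit 11378048) (BT.leaf (nat_lit 40058633)) (BT.leaf (nat_lit 44014369)))) (BT.node (nat_lit 11378240) (BT.node (nat_lit 11378176) (BT.leaf (nat_lit 36391957)) (BT.leaf (nat_lit 49133333))) (BT.node (nat_lit 11378304) (BT.leaf (nat_lit 40058641)) (BT.leaf (nat_lit 45502997)))))))) (BT.node (nat_lit 11380352) (BT.node (nat_lit 11379584) (BT.node (nat_lit 11379008) (BT.node (nat_lit 11378752) (BT.node (nat_lit 11378496) (BT.node (nat_lit 11378432) (BT.leaf (nat_lit 45875469)) (BT.leaf (nat_lit 45875721))) (BT.node (nat_lit 11378624) (BT.leaf (nat_lit 35104537)) (BT.leaf (nat_lit 43252257)))) (BT.node (nat_lit 11378880) (BT.node (nat_lit 11378816) (BT.leaf (nat_lit 45396757)) (BT.leaf (nat_lit 32454677))) (BT.node (nat_lit 11378944) (BT.leaf (nat_lit 45515805)) (BT.leaf (nat_lit 49577749))))) (BT.node (nat_lit 11379264) (BT.node (nat_lit 11379136) (BT.node (nat_lit 11379072) (BT.leaf (nat_lit 38691597)) (BT.leaf (nat_lit 45857801))) (BT.node (nat_lit 11379200) (BT.leaf (nat_lit 41207313)) (BT.leaf (nat_lit 45856013)))) (BT.node (nat_lit 11379392) (BT.node (nat_lit 11379328) (BT.leaf (nat_lit 42153989)) (BT.leaf (nat_lit 43987717))) (BT.node (nat_lit 11379520) (BT.leaf (nat_lit 44667425)) (BT.leaf (nat_lit 32456985)))))) (BT.node (nat_lit 11380096) (BT.node (nat_lit 11379840) (BT.node (nat_lit 11379712) (BT.node (nat_lit 11379648) (BT.leaf (nat_lit 41703957)) (BT.leaf (nat_lit 32457233))) (BT.node (nat_lit 11379776) (BT.leaf (nat_lit 44667161)) (BT.leaf (nat_lit 44667165)))) (BT.node (nat_lit 11379968) (BT.node (nat_lit 11379904) (BT.leaf (nat_lit 51046661)) (BT.leaf (nat_lit 40813329))) (BT.node (nat_lit 11380032) (BT.leaf (nat_lit 46168605)) (BT.leaf (nat_lit 45748489))))) (BT.node (nat_lit 11380228) (BT.node (nat_lit 11380226) (BT.node (nat_lit 11380160) (BT.leaf (nat_lit 45748493)) (BT.leaf (nat_lit 45748505))) (BT.node (nat_lit 11380227) (BT.leaf (nat_lit 714804)) (BT.leaf (nat_lit 714804)))) (BT.node (nat_lit 11380288) (BT.node (nat_lit 11380229) (BT.leaf (nat_lit 714804)) (BT.leaf (nat_lit 714804))) (BT.node (nat_lit 11380292) (BT.leaf (nat_lit 32749077)) (BT.leaf (nat_lit 716820))))))) (BT.node (nat_lit 11381312) (BT.node (nat_lit 11380864) (BT.node (nat_lit 11380608) (BT.node (nat_lit 11380480) (BT.node (nat_lit 11380416) (BT.leaf (nat_lit 32607253)) (BT.leaf (nat_lit 49783061))) (BT.node (nat_lit 11380544) (BT.leaf (nat_lit 37941789)) (BT.leaf (nat_lit 32458269)))) (BT.node (nat_lit 11380736) (BT.node (nat_lit 11380672) (BT.leaf (nat_lit 38082577)) (BT.leaf (nat_lit 38082581))) (BT.node (nat_lit 11380800) (BT.leaf (nat_lit 32458513)) (BT.leaf (nat_lit 45401869))))) (BT.node (nat_lit 11381056) (BT.node (nat_lit 11380992) (BT.node (nat_lit 11380928) (BT.leaf (nat_lit 28757265)) (BT.leaf (nat_lit 48945929))) (BT.node (nat_lit 11381000) (BT.leaf (nat_lit 31804425)) (BT.leaf (nat_lit 764776)))) (BT.node (nat_lit 11381184) (BT.node (nat_lit 11381120) (BT.leaf (nat_lit 32460053)) (BT.leaf (nat_lit 34962185))) (BT.node (nat_lit 11381248) (BT.leaf (nat_lit 42798097)) (BT.leaf (nat_lit 32448781)))))) (BT.node (nat_lit 11381888) (BT.node (nat_lit 11381568) (BT.node (nat_lit 11381440) (BT.node (nat_lit 11381376) (BT.leaf (nat_lit 45399573)) (BT.leaf (nat_lit 42798113))) (BT.node (nat_lit 11381504) (BT.leaf (nat_lit 45524749)) (BT.leaf (nat_lit 40394757)))) (BT.node (nat_lit 11381696) (BT.node (nat_lit 11381632) (BT.leaf (nat_lit 45197333)) (BT.leaf (nat_lit 45526297))) (BT.node (nat_lit 11381760) (BT.leaf (nat_lit 38647569)) (BT.leaf (nat_lit 45530393))))) (BT.node (nat_lit 11382208) (BT.node (nat_lit 11382080) (BT.node (nat_lit 11382016) (BT.leaf (nat_lit 42176801)) (BT.leaf (nat_lit 35108881))) (BT.node (nat_lit 11382144) (BT.leaf (nat_lit 43220997)) (BT.leaf (nat_lit 48634897)))) (BT.node (nat_lit 11382336) (BT.node (nat_lit 11382272) (BT.leaf (nat_lit 43221013)) (BT.leaf (nat_lit 45529373))) (BT.node (nat_lit 11382400) (BT.leaf (nat_lit 47212561)) (BT.leaf (nat_lit 30472221)))))))))) (BT.node (nat_lit 11390528) (BT.node (nat_lit 11386496) (BT.node (nat_lit 11384328) (BT.node (nat_lit 11383616) (BT.node (nat_lit 11383104) (BT.node (nat_lit 11382848) (BT.node (nat_lit 11382656) (BT.node (nat_lit 11382592) (BT.leaf (nat_lit 32448797)) (BT.leaf (nat_lit 32448777))) (BT.node (nat_lit 11382784) (BT.leaf (nat_lit 32459549)) (BT.leaf (nat_lit 42172193)))) (BT.node (nat_lit 11382976) (BT.node (nat_lit 11382912) (BT.leaf (nat_lit 32460057)) (BT.leaf (nat_lit 49326613))) (BT.node (nat_lit 11383040) (BT.leaf (nat_lit 30917409)) (BT.leaf (nat_lit 40520989))))) (BT.node (nat_lit 11383360) (BT.node (nat_lit 11383232) (BT.node (nat_lit 11383168) (BT.leaf (nat_lit 40871965)) (BT.leaf (nat_lit 51411717))) (BT.node (nat_lit 11383296) (BT.leaf (nat_lit 45883921)) (BT.leaf (nat_lit 45882393)))) (BT.node (nat_lit 11383488) (BT.node (nat_lit 11383424) (BT.leaf (nat_lit 45395209)) (BT.leaf (nat_lit 45789193))) (BT.node (nat_lit 11383552) (BT.leaf (nat_lit 40872477)) (BT.leaf (nat_lit 47953697)))))) (BT.node (nat_lit 11384065) (BT.node (nat_lit 11383872) (BT.node (nat_lit 11383744) (BT.node (nat_lit 11383680) (BT.leaf (nat_lit 37944837)) (BT.leaf (nat_lit 27841561))) (BT.node (nat_lit 11383808) (BT.leaf (nat_lit 40645637)) (BT.leaf (nat_lit 37772565)))) (BT.node (nat_lit 11384000) (BT.node (nat_lit 11383936) (BT.leaf (nat_lit 27424785)) (BT.leaf (nat_lit 42362117))) (BT.node (nat_lit 11384064) (BT.leaf (nat_lit 32696601)) (BT.leaf (nat_lit 39014689))))) (BT.node (nat_lit 11384198) (BT.node (nat_lit 11384192) (BT.node (nat_lit 11384128) (BT.leaf (nat_lit 774676)) (BT.leaf (nat_lit 32464149))) (BT.node (nat_lit 11384193) (BT.leaf (nat_lit 45861141)) (BT.leaf (nat_lit 814928)))) (BT.node (nat_lit 11384257) (BT.node (nat_lit 11384199) (BT.leaf (nat_lit 722936)) (BT.leaf (nat_lit 722936))) (BT.node (nat_lit 11384320) (BT.leaf (nat_lit 814932)) (BT.leaf (nat_lit 39768341))))))) (BT.node (nat_lit 11385472) (BT.node (nat_lit 11384832) (BT.node (nat_lit 11384576) (BT.node (nat_lit 11384448) (BT.node (nat_lit 11384384) (BT.leaf (nat_lit 814936)) (BT.leaf (nat_lit 37089561))) (BT.node (nat_lit 11384512) (BT.leaf (nat_lit 42329889)) (BT.leaf (nat_lit 50064413)))) (BT.node (nat_lit 11384704) (BT.node (nat_lit 11384640) (BT.leaf (nat_lit 49579533)) (BT.leaf (nat_lit 40942345))) (BT.node (nat_lit 11384768) (BT.leaf (nat_lit 39768345)) (BT.leaf (nat_lit 39768349))))) (BT.node (nat_lit 11385152) (BT.node (nat_lit 11384960) (BT.node (nat_lit 11384896) (BT.leaf (nat_lit 32551457)) (BT.leaf (nat_lit 43553561))) (BT.node (nat_lit 11385024) (BT.leaf (nat_lit 51044125)) (BT.leaf (nat_lit 32464913)))) (BT.node (nat_lit 11385344) (BT.node (nat_lit 11385216) (BT.leaf (nat_lit 32465941)) (BT.leaf (nat_lit 32972297))) (BT.node (nat_lit 11385408) (BT.leaf (nat_lit 48472341)) (BT.leaf (nat_lit 48472345)))))) (BT.node (nat_lit 11385984) (BT.node (nat_lit 11385728) (BT.node (nat_lit 11385600) (BT.node (nat_lit 11385536) (BT.leaf (nat_lit 48472349)) (BT.leaf (nat_lit 36326929))) (BT.node (nat_lit 11385664) (BT.leaf (nat_lit 42189597)) (BT.leaf (nat_lit 42188809)))) (BT.node (nat_lit 11385856) (BT.node (nat_lit 11385792) (BT.leaf (nat_lit 49237789)) (BT.leaf (nat_lit 37888541))) (BT.node (nat_lit 11385920) (BT.leaf (nat_lit 49579789)) (BT.leaf (nat_lit 32466957))))) (BT.node (nat_lit 11386240) (BT.node (nat_lit 11386112) (BT.node (nat_lit 11386048) (BT.leaf (nat_lit 45226521)) (BT.leaf (nat_lit 45226525))) (BT.node (nat_lit 11386176) (BT.leaf (nat_lit 32466953)) (BT.leaf (nat_lit 32467469)))) (BT.node (nat_lit 11386368) (BT.node (nat_lit 11386304) (BT.leaf (nat_lit 32468245)) (BT.leaf (nat_lit 32467489))) (BT.node (nat_lit 11386432) (BT.leaf (nat_lit 32467233)) (BT.leaf (nat_lit 32972301)))))))) (BT.node (nat_lit 11388544) (BT.node (nat_lit 11387520) (BT.node (nat_lit 11387008) (BT.node (nat_lit 11386752) (BT.node (nat_lit 11386624) (BT.node (nat_lit 11386560) (BT.leaf (nat_lit 32972305)) (BT.leaf (nat_lit 32467477))) (BT.node (nat_lit 11386688) (BT.leaf (nat_lit 32972321)) (BT.leaf (nat_lit 35123229)))) (BT.node (nat_lit 11386880) (BT.node (nat_lit 11386816) (BT.leaf (nat_lit 51724561)) (BT.leaf (nat_lit 51724565))) (BT.node (nat_lit 11386944) (BT.leaf (nat_lit 28208149)) (BT.leaf (nat_lit 40158753))))) (BT.node (nat_lit 11387264) (BT.node (nat_lit 11387136) (BT.node (nat_lit 11387072) (BT.leaf (nat_lit 41642785)) (BT.leaf (nat_lit 35012117))) (BT.node (nat_lit 11387200) (BT.leaf (nat_lit 46287117)) (BT.leaf (nat_lit 40159265)))) (BT.node (nat_lit 11387392) (BT.node (nat_lit 11387328) (BT.leaf (nat_lit 42890257)) (BT.leaf (nat_lit 41011717))) (BT.node (nat_lit 11387456) (BT.leaf (nat_lit 48683525)) (BT.leaf (nat_lit 42462477)))))) (BT.node (nat_lit 11388032) (BT.node (nat_lit 11387776) (BT.node (nat_lit 11387648) (BT.node (nat_lit 11387584) (BT.leaf (nat_lit 32739093)) (BT.leaf (nat_lit 38604805))) (BT.node (nat_lit 11387712) (BT.leaf (nat_lit 45558293)) (BT.leaf (nat_lit 40825621)))) (BT.node (nat_lit 11387904) (BT.node (nat_lit 11387840) (BT.leaf (nat_lit 42806557)) (BT.leaf (nat_lit 32477709))) (BT.node (nat_lit 11387968) (BT.leaf (nat_lit 32739353)) (BT.leaf (nat_lit 32475913))))) (BT.node (nat_lit 11388288) (BT.node (nat_lit 11388160) (BT.node (nat_lit 11388096) (BT.leaf (nat_lit 32476169)) (BT.leaf (nat_lit 40532505))) (BT.node (nat_lit 11388224) (BT.leaf (nat_lit 37727253)) (BT.leaf (nat_lit 40532489)))) (BT.node (nat_lit 11388416) (BT.node (nat_lit 11388352) (BT.leaf (nat_lit 40925445)) (BT.leaf (nat_lit 41746957))) (BT.node (nat_lit 11388480) (BT.leaf (nat_lit 41747997)) (BT.leaf (nat_lit 32682265))))))) (BT.node (nat_lit 11389504) (BT.node (nat_lit 11388992) (BT.node (nat_lit 11388737) (BT.node (nat_lit 11388672) (BT.node (nat_lit 11388608) (BT.leaf (nat_lit 32483861)) (BT.leaf (nat_lit 32472853))) (BT.node (nat_lit 11388736) (BT.leaf (nat_lit 40940065)) (BT.leaf (nat_lit 45572117)))) (BT.node (nat_lit 11388864) (BT.node (nat_lit 11388800) (BT.leaf (nat_lit 716344)) (BT.leaf (nat_lit 32484121))) (BT.node (nat_lit 11388928) (BT.leaf (nat_lit 47043353)) (BT.leaf (nat_lit 43928585))))) (BT.node (nat_lit 11389248) (BT.node (nat_lit 11389120) (BT.node (nat_lit 11389056) (BT.leaf (nat_lit 48590869)) (BT.leaf (nat_lit 32914193))) (BT.node (nat_lit 11389184) (BT.leaf (nat_lit 32913937)) (BT.leaf (nat_lit 39015685)))) (BT.node (nat_lit 11389376) (BT.node (nat_lit 11389312) (BT.leaf (nat_lit 32913681)) (BT.leaf (nat_lit 39851285))) (BT.node (nat_lit 11389440) (BT.leaf (nat_lit 31874333)) (BT.leaf (nat_lit 36363793)))))) (BT.node (nat_lit 11390016) (BT.node (nat_lit 11389760) (BT.node (nat_lit 11389632) (BT.node (nat_lit 11389568) (BT.leaf (nat_lit 45922057)) (BT.leaf (nat_lit 32476953))) (BT.node (nat_lit 11389696) (BT.leaf (nat_lit 45923085)) (BT.leaf (nat_lit 42970645)))) (BT.node (nat_lit 11389888) (BT.node (nat_lit 11389824) (BT.leaf (nat_lit 32477469)) (BT.leaf (nat_lit 32476957))) (BT.node (nat_lit 11389952) (BT.leaf (nat_lit 32597009)) (BT.leaf (nat_lit 42462493))))) (BT.node (nat_lit 11390272) (BT.node (nat_lit 11390144) (BT.node (nat_lit 11390080) (BT.leaf (nat_lit 32477465)) (BT.leaf (nat_lit 48070429))) (BT.node (nat_lit 11390208) (BT.leaf (nat_lit 32598789)) (BT.leaf (nat_lit 45549849)))) (BT.node (nat_lit 11390336) (BT.node (nat_lit 11390273) (BT.leaf (nat_lit 50529041)) (BT.leaf (nat_lit 773276))) (BT.node (nat_lit 11390400) (BT.leaf (nat_lit 47759125)) (BT.leaf (nat_lit 32739357))))))))) (BT.node (nat_lit 11395136) (BT.node (nat_lit 11392960) (BT.node (nat_lit 11391680) (BT.node (nat_lit 11391104) (BT.node (nat_lit 11390848) (BT.node (nat_lit 11390720) (BT.node (nat_lit 11390592) (BT.leaf (nat_lit 40698145)) (BT.leaf (nat_lit 43874849))) (BT.node (nat_lit 11390784) (BT.leaf (nat_lit 46421521)) (BT.leaf (nat_lit 45562905)))) (BT.node (nat_lit 11390976) (BT.node (nat_lit 11390912) (BT.leaf (nat_lit 32727829)) (BT.leaf (nat_lit 44501773))) (BT.node (nat_lit 11391040) (BT.leaf (nat_lit 48257049)) (BT.leaf (nat_lit 49337101))))) (BT.node (nat_lit 11391360) (BT.node (nat_lit 11391232) (BT.node (nat_lit 11391168) (BT.leaf (nat_lit 42353681)) (BT.leaf (nat_lit 42353685))) (BT.node (nat_lit 11391296) (BT.leaf (nat_lit 39042325)) (BT.leaf (nat_lit 39042329)))) (BT.node (nat_lit 11391488) (BT.node (nat_lit 11391424) (BT.leaf (nat_lit 40301597)) (BT.leaf (nat_lit 44118817))) (BT.node (nat_lit 11391552) (BT.leaf (nat_lit 38442257)) (BT.leaf (nat_lit 41877765)))))) (BT.node (nat_lit 11392384) (BT.node (nat_lit 11392128) (BT.node (nat_lit 11391936) (BT.node (nat_lit 11391744) (BT.leaf (nat_lit 41922053)) (BT.leaf (nat_lit 39735073))) (BT.node (nat_lit 11392064) (BT.leaf (nat_lit 32481557)) (BT.leaf (nat_lit 39941653)))) (BT.node (nat_lit 11392256) (BT.node (nat_lit 11392192) (BT.leaf (nat_lit 32846853)) (BT.leaf (nat_lit 43703577))) (BT.node (nat_lit 11392320) (BT.leaf (nat_lit 43703581)) (BT.leaf (nat_lit 31885849))))) (BT.node (nat_lit 11392704) (BT.node (nat_lit 11392512) (BT.node (nat_lit 11392448) (BT.leaf (nat_lit 45353989)) (BT.leaf (nat_lit 43704345))) (BT.node (nat_lit 11392576) (BT.leaf (nat_lit 44486177)) (BT.leaf (nat_lit 38979345)))) (BT.node (nat_lit 11392832) (BT.node (nat_lit 11392768) (BT.leaf (nat_lit 38933017)) (BT.leaf (nat_lit 38933021))) (BT.node (nat_lit 11392896) (BT.leaf (nat_lit 32482321)) (BT.leaf (nat_lit 41356293))))))) (BT.node (nat_lit 11393920) (BT.node (nat_lit 11393472) (BT.node (nat_lit 11393216) (BT.node (nat_lit 11393088) (BT.node (nat_lit 11393024) (BT.leaf (nat_lit 32374037)) (BT.leaf (nat_lit 45571849))) (BT.node (nat_lit 11393152) (BT.leaf (nat_lit 41356305)) (BT.leaf (nat_lit 41356321)))) (BT.node (nat_lit 11393344) (BT.node (nat_lit 11393280) (BT.leaf (nat_lit 32483873)) (BT.leaf (nat_lit 32484129))) (BT.node (nat_lit 11393408) (BT.leaf (nat_lit 32485653)) (BT.leaf (nat_lit 45572633))))) (BT.node (nat_lit 11393728) (BT.node (nat_lit 11393600) (BT.node (nat_lit 11393536) (BT.leaf (nat_lit 45415961)) (BT.leaf (nat_lit 40481041))) (BT.node (nat_lit 11393664) (BT.leaf (nat_lit 32480533)) (BT.leaf (nat_lit 32682257)))) (BT.node (nat_lit 11393792) (BT.node (nat_lit 11393729) (BT.leaf (nat_lit 40842273)) (BT.leaf (nat_lit 774508))) (BT.node (nat_lit 11393856) (BT.leaf (nat_lit 32682273)) (BT.leaf (nat_lit 49406985)))))) (BT.node (nat_lit 11394560) (BT.node (nat_lit 11394176) (BT.node (nat_lit 11394048) (BT.node (nat_lit 11393984) (BT.leaf (nat_lit 43759881)) (BT.leaf (nat_lit 44578057))) (BT.node (nat_lit 11394112) (BT.leaf (nat_lit 39074833)) (BT.leaf (nat_lit 32374281)))) (BT.node (nat_lit 11394432) (BT.node (nat_lit 11394368) (BT.leaf (nat_lit 39074849)) (BT.leaf (nat_lit 49407001))) (BT.node (nat_lit 11394496) (BT.leaf (nat_lit 44578077)) (BT.leaf (nat_lit 49340445))))) (BT.node (nat_lit 11394816) (BT.node (nat_lit 11394688) (BT.node (nat_lit 11394624) (BT.leaf (nat_lit 44578073)) (BT.leaf (nat_lit 46254101))) (BT.node (nat_lit 11394752) (BT.leaf (nat_lit 46922769)) (BT.leaf (nat_lit 45578777)))) (BT.node (nat_lit 11395008) (BT.node (nat_lit 11394880) (BT.leaf (nat_lit 39150085)) (BT.leaf (nat_lit 31992093))) (BT.node (nat_lit 11395072) (BT.leaf (nat_lit 39150101)) (BT.leaf (nat_lit 35131409)))))))) (BT.node (nat_lit 11397120) (BT.node (nat_lit 11396160) (BT.node (nat_lit 11395648) (BT.node (nat_lit 11395392) (BT.node (nat_lit 11395264) (BT.node (nat_lit 11395200) (BT.leaf (nat_lit 44239129)) (BT.leaf (nat_lit 44239133))) (BT.node (nat_lit 11395328) (BT.leaf (nat_lit 35131665)) (BT.leaf (nat_lit 38584329)))) (BT.node (nat_lit 11395520) (BT.node (nat_lit 11395456) (BT.leaf (nat_lit 32491797)) (BT.leaf (nat_lit 32491801))) (BT.node (nat_lit 11395584) (BT.leaf (nat_lit 32491805)) (BT.leaf (nat_lit 49164577))))) (BT.node (nat_lit 11395904) (BT.node (nat_lit 11395776) (BT.node (nat_lit 11395712) (BT.leaf (nat_lit 32491285)) (BT.leaf (nat_lit 50952981))) (BT.node (nat_lit 11395840) (BT.leaf (nat_lit 39903769)) (BT.leaf (nat_lit 46292513)))) (BT.node (nat_lit 11396032) (BT.node (nat_lit 11395968) (BT.leaf (nat_lit 32947233)) (BT.leaf (nat_lit 46678549))) (BT.node (nat_lit 11396096) (BT.leaf (nat_lit 32946957)) (BT.leaf (nat_lit 32733205)))))) (BT.node (nat_lit 11396801) (BT.node (nat_lit 11396416) (BT.node (nat_lit 11396288) (BT.node (nat_lit 11396224) (BT.leaf (nat_lit 32490529)) (BT.leaf (nat_lit 47038745))) (BT.node (nat_lit 11396352) (BT.leaf (nat_lit 38907681)) (BT.leaf (nat_lit 37812757)))) (BT.node (nat_lit 11396608) (BT.node (nat_lit 11396480) (BT.leaf (nat_lit 32490769)) (BT.leaf (nat_lit 38907669))) (BT.node (nat_lit 11396736) (BT.leaf (nat_lit 32491281)) (BT.leaf (nat_lit 39887385))))) (BT.node (nat_lit 11396864) (BT.node (nat_lit 11396804) (BT.node (nat_lit 11396803) (BT.leaf (nat_lit 715644)) (BT.leaf (nat_lit 715644))) (BT.node (nat_lit 11396808) (BT.leaf (nat_lit 715644)) (BT.leaf (nat_lit 715644)))) (BT.node (nat_lit 11396992) (BT.node (nat_lit 11396928) (BT.leaf (nat_lit 45254917)) (BT.leaf (nat_lit 42551321))) (BT.node (nat_lit 11397056) (BT.leaf (nat_lit 42551325)) (BT.leaf (nat_lit 31032609))))))) (BT.node (nat_lit 11398336) (BT.node (nat_lit 11397696) (BT.node (nat_lit 11397440) (BT.node (nat_lit 11397248) (BT.node (nat_lit 11397184) (BT.leaf (nat_lit 45593881)) (BT.leaf (nat_lit 42232353))) (BT.node (nat_lit 11397376) (BT.leaf (nat_lit 35133713)) (BT.leaf (nat_lit 28698641)))) (BT.node (nat_lit 11397568) (BT.node (nat_lit 11397504) (BT.leaf (nat_lit 32492817)) (BT.leaf (nat_lit 32366353))) (BT.node (nat_lit 11397632) (BT.leaf (nat_lit 32897813)) (BT.leaf (nat_lit 38446105))))) (BT.node (nat_lit 11398016) (BT.node (nat_lit 11397824) (BT.node (nat_lit 11397760) (BT.leaf (nat_lit 38446109)) (BT.leaf (nat_lit 32492561))) (BT.node (nat_lit 11397831) (BT.leaf (nat_lit 28062217)) (BT.leaf (nat_lit 729980)))) (BT.node (nat_lit 11398208) (BT.node (nat_lit 11398144) (BT.leaf (nat_lit 32494105)) (BT.leaf (nat_lit 42255637))) (BT.node (nat_lit 11398272) (BT.leaf (nat_lit 32494109)) (BT.leaf (nat_lit 39863313)))))) (BT.node (nat_lit 11398720) (BT.node (nat_lit 11398464) (BT.node (nat_lit 11398401) (BT.node (nat_lit 11398400) (BT.leaf (nat_lit 42560533)) (BT.leaf (nat_lit 40467213))) (BT.node (nat_lit 11398405) (BT.leaf (nat_lit 712516)) (BT.leaf (nat_lit 712516)))) (BT.node (nat_lit 11398592) (BT.node (nat_lit 11398528) (BT.leaf (nat_lit 45588245)) (BT.leaf (nat_lit 42668825))) (BT.node (nat_lit 11398656) (BT.leaf (nat_lit 42313481)) (BT.leaf (nat_lit 40467209))))) (BT.node (nat_lit 11398976) (BT.node (nat_lit 11398848) (BT.node (nat_lit 11398784) (BT.leaf (nat_lit 42667277)) (BT.leaf (nat_lit 45600021))) (BT.node (nat_lit 11398912) (BT.leaf (nat_lit 42313485)) (BT.leaf (nat_lit 40467205)))) (BT.node (nat_lit 11399232) (BT.node (nat_lit 11399040) (BT.leaf (nat_lit 45596189)) (BT.leaf (nat_lit 40466453))) (BT.node (nat_lit 11399296) (BT.leaf (nat_lit 45600537)) (BT.leaf (nat_lit 42313501)))))))))))))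
noncomputable def big0_e106496 : BT Nat := (BT.node (nat_lit 11466368) (BT.node (nat_lit 11433344) (BT.node (nat_lit 11416512) (BT.node (nat_lit 11407808) (BT.node (nat_lit 11403520) (BT.node (nat_lit 11401472) (BT.node (nat_lit 11400512) (BT.node (nat_lit 11399936) (BT.node (nat_lit 11399680) (BT.node (nat_lit 11399552) (BT.node (nat_lit 11399488) (BT.leaf (nat_lit 44289033)) (BT.leaf (nat_lit 42313497))) (BT.node (nat_lit 11399616) (BT.leaf (nat_lit 50275093)) (BT.leaf (nat_lit 32494613)))) (BT.node (nat_lit 11399808) (BT.node (nat_lit 11399744) (BT.leaf (nat_lit 45406473)) (BT.leaf (nat_lit 39421713))) (BT.node (nat_lit 11399872) (BT.leaf (nat_lit 47470625)) (BT.leaf (nat_lit 28699157))))) (BT.node (nat_lit 11400192) (BT.node (nat_lit 11400064) (BT.node (nat_lit 11400000) (BT.leaf (nat_lit 45593885)) (BT.leaf (nat_lit 49791245))) (BT.node (nat_lit 11400128) (BT.leaf (nat_lit 49791249)) (BT.leaf (nat_lit 45593869)))) (BT.node (nat_lit 11400320) (BT.node (nat_lit 11400256) (BT.leaf (nat_lit 37855009)) (BT.leaf (nat_lit 45588241))) (BT.node (nat_lit 11400448) (BT.leaf (nat_lit 40002081)) (BT.leaf (nat_lit 40471833)))))) (BT.node (nat_lit 11401024) (BT.node (nat_lit 11400768) (BT.node (nat_lit 11400640) (BT.node (nat_lit 11400576) (BT.leaf (nat_lit 40003077)) (BT.leaf (nat_lit 44524321))) (BT.node (nat_lit 11400704) (BT.leaf (nat_lit 40002565)) (BT.leaf (nat_lit 48879381)))) (BT.node (nat_lit 11400896) (BT.node (nat_lit 11400832) (BT.leaf (nat_lit 33627153)) (BT.leaf (nat_lit 35136273))) (BT.node (nat_lit 11400960) (BT.leaf (nat_lit 39672857)) (BT.leaf (nat_lit 39672861))))) (BT.node (nat_lit 11401280) (BT.node (nat_lit 11401152) (BT.node (nat_lit 11401088) (BT.leaf (nat_lit 32497169)) (BT.leaf (nat_lit 32497413))) (BT.node (nat_lit 11401216) (BT.leaf (nat_lit 40602653)) (BT.leaf (nat_lit 32499473)))) (BT.node (nat_lit 11401345) (BT.node (nat_lit 11401344) (BT.leaf (nat_lit 32498705)) (BT.leaf (nat_lit 42120989))) (BT.node (nat_lit 11401408) (BT.leaf (nat_lit 772012)) (BT.leaf (nat_lit 37873693))))))) (BT.node (nat_lit 11402496) (BT.node (nat_lit 11401984) (BT.node (nat_lit 11401728) (BT.node (nat_lit 11401600) (BT.node (nat_lit 11401536) (BT.leaf (nat_lit 32498193)) (BT.leaf (nat_lit 42452505))) (BT.node (nat_lit 11401664) (BT.leaf (nat_lit 38278673)) (BT.leaf (nat_lit 38471185)))) (BT.node (nat_lit 11401856) (BT.node (nat_lit 11401792) (BT.leaf (nat_lit 40603669)) (BT.leaf (nat_lit 45941025))) (BT.node (nat_lit 11401920) (BT.leaf (nat_lit 32499717)) (BT.leaf (nat_lit 44499993))))) (BT.node (nat_lit 11402240) (BT.node (nat_lit 11402112) (BT.node (nat_lit 11402048) (BT.leaf (nat_lit 38259973)) (BT.leaf (nat_lit 39318281))) (BT.node (nat_lit 11402176) (BT.leaf (nat_lit 35266585)) (BT.leaf (nat_lit 45874453)))) (BT.node (nat_lit 11402368) (BT.node (nat_lit 11402304) (BT.leaf (nat_lit 49608477)) (BT.leaf (nat_lit 32499985))) (BT.node (nat_lit 11402432) (BT.leaf (nat_lit 37744149)) (BT.leaf (nat_lit 44502561)))))) (BT.node (nat_lit 11403008) (BT.node (nat_lit 11402752) (BT.node (nat_lit 11402624) (BT.node (nat_lit 11402560) (BT.leaf (nat_lit 32985105)) (BT.leaf (nat_lit 44991493))) (BT.node (nat_lit 11402688) (BT.leaf (nat_lit 40822021)) (BT.leaf (nat_lit 32506389)))) (BT.node (nat_lit 11402880) (BT.node (nat_lit 11402816) (BT.leaf (nat_lit 32619529)) (BT.leaf (nat_lit 32619533))) (BT.node (nat_lit 11402944) (BT.leaf (nat_lit 32619545)) (BT.leaf (nat_lit 32619549))))) (BT.node (nat_lit 11403264) (BT.node (nat_lit 11403136) (BT.node (nat_lit 11403072) (BT.leaf (nat_lit 49258245)) (BT.leaf (nat_lit 39494149))) (BT.node (nat_lit 11403200) (BT.leaf (nat_lit 38498313)) (BT.leaf (nat_lit 38498317)))) (BT.node (nat_lit 11403392) (BT.node (nat_lit 11403328) (BT.leaf (nat_lit 31461397)) (BT.leaf (nat_lit 38498329))) (BT.node (nat_lit 11403456) (BT.leaf (nat_lit 30440209)) (BT.leaf (nat_lit 47904529)))))))) (BT.node (nat_lit 11405824) (BT.node (nat_lit 11404480) (BT.node (nat_lit 11403904) (BT.node (nat_lit 11403716) (BT.node (nat_lit 11403648) (BT.node (nat_lit 11403584) (BT.leaf (nat_lit 46186017)) (BT.leaf (nat_lit 40484357))) (BT.node (nat_lit 11403712) (BT.leaf (nat_lit 31715353)) (BT.leaf (nat_lit 32514841)))) (BT.node (nat_lit 11403784) (BT.node (nat_lit 11403776) (BT.leaf (nat_lit 796100)) (BT.leaf (nat_lit 48623385))) (BT.node (nat_lit 11403840) (BT.leaf (nat_lit 796092)) (BT.leaf (nat_lit 40746261))))) (BT.node (nat_lit 11404160) (BT.node (nat_lit 11404032) (BT.node (nat_lit 11403968) (BT.leaf (nat_lit 32515869)) (BT.leaf (nat_lit 37926421))) (BT.node (nat_lit 11404096) (BT.leaf (nat_lit 32519953)) (BT.leaf (nat_lit 42000929)))) (BT.node (nat_lit 11404288) (BT.node (nat_lit 11404224) (BT.leaf (nat_lit 39070989)) (BT.leaf (nat_lit 42024453))) (BT.node (nat_lit 11404352) (BT.leaf (nat_lit 39071001)) (BT.leaf (nat_lit 39071005)))))) (BT.node (nat_lit 11405184) (BT.node (nat_lit 11404864) (BT.node (nat_lit 11404736) (BT.node (nat_lit 11404672) (BT.leaf (nat_lit 46130709)) (BT.leaf (nat_lit 46131473))) (BT.node (nat_lit 11404800) (BT.leaf (nat_lit 42679557)) (BT.leaf (nat_lit 46246689)))) (BT.node (nat_lit 11404992) (BT.node (nat_lit 11404928) (BT.leaf (nat_lit 39556869)) (BT.leaf (nat_lit 39901961))) (BT.node (nat_lit 11405056) (BT.leaf (nat_lit 50982677)) (BT.leaf (nat_lit 45619977))))) (BT.node (nat_lit 11405440) (BT.node (nat_lit 11405312) (BT.node (nat_lit 11405248) (BT.leaf (nat_lit 45621021)) (BT.leaf (nat_lit 39558405))) (BT.node (nat_lit 11405376) (BT.leaf (nat_lit 40772129)) (BT.leaf (nat_lit 38874649)))) (BT.node (nat_lit 11405696) (BT.node (nat_lit 11405632) (BT.leaf (nat_lit 38874653)) (BT.leaf (nat_lit 49319201))) (BT.node (nat_lit 11405760) (BT.leaf (nat_lit 32815629)) (BT.leaf (nat_lit 46250273))))))) (BT.node (nat_lit 11406976) (BT.node (nat_lit 11406400) (BT.node (nat_lit 11406080) (BT.node (nat_lit 11405952) (BT.node (nat_lit 11405888) (BT.leaf (nat_lit 32845073)) (BT.leaf (nat_lit 45623837))) (BT.node (nat_lit 11406016) (BT.leaf (nat_lit 46137093)) (BT.leaf (nat_lit 32902661)))) (BT.node (nat_lit 11406208) (BT.node (nat_lit 11406144) (BT.leaf (nat_lit 46135557)) (BT.leaf (nat_lit 45415969))) (BT.node (nat_lit 11406336) (BT.leaf (nat_lit 40684553)) (BT.leaf (nat_lit 45456673))))) (BT.node (nat_lit 11406720) (BT.node (nat_lit 11406592) (BT.node (nat_lit 11406528) (BT.leaf (nat_lit 41335577)) (BT.leaf (nat_lit 38785813))) (BT.node (nat_lit 11406656) (BT.leaf (nat_lit 41932577)) (BT.leaf (nat_lit 32861217)))) (BT.node (nat_lit 11406848) (BT.node (nat_lit 11406784) (BT.leaf (nat_lit 39104009)) (BT.leaf (nat_lit 39104013))) (BT.node (nat_lit 11406912) (BT.leaf (nat_lit 32481813)) (BT.leaf (nat_lit 32525601)))))) (BT.node (nat_lit 11407360) (BT.node (nat_lit 11407232) (BT.node (nat_lit 11407104) (BT.node (nat_lit 11407040) (BT.leaf (nat_lit 32525345)) (BT.leaf (nat_lit 32845849))) (BT.node (nat_lit 11407168) (BT.leaf (nat_lit 46053641)) (BT.leaf (nat_lit 32525589)))) (BT.node (nat_lit 11407298) (BT.node (nat_lit 11407296) (BT.leaf (nat_lit 46053405)) (BT.leaf (nat_lit 39592709))) (BT.node (nat_lit 11407304) (BT.leaf (nat_lit 774660)) (BT.leaf (nat_lit 774660))))) (BT.node (nat_lit 11407616) (BT.node (nat_lit 11407488) (BT.node (nat_lit 11407424) (BT.leaf (nat_lit 38193673)) (BT.leaf (nat_lit 38193681))) (BT.node (nat_lit 11407552) (BT.leaf (nat_lit 45272333)) (BT.leaf (nat_lit 49771013)))) (BT.node (nat_lit 11407685) (BT.node (nat_lit 11407680) (BT.leaf (nat_lit 32526349)) (BT.leaf (nat_lit 29777177))) (BT.node (nat_lit 11407744) (BT.leaf (nat_lit 744728)) (BT.leaf (nat_lit 42765321))))))))) (BT.node (nat_lit 11412224) (BT.node (nat_lit 11409920) (BT.node (nat_lit 11408832) (BT.node (nat_lit 11408320) (BT.node (nat_lit 11408064) (BT.node (nat_lit 11407936) (BT.node (nat_lit 11407872) (BT.leaf (nat_lit 46338581)) (BT.leaf (nat_lit 32529169))) (BT.node (nat_lit 11408000) (BT.leaf (nat_lit 49752845)) (BT.leaf (nat_lit 43939089)))) (BT.node (nat_lit 11408192) (BT.node (nat_lit 11408128) (BT.leaf (nat_lit 51440141)) (BT.leaf (nat_lit 51440145))) (BT.node (nat_lit 11408256) (BT.leaf (nat_lit 45410849)) (BT.leaf (nat_lit 48593945))))) (BT.node (nat_lit 11408576) (BT.node (nat_lit 11408448) (BT.node (nat_lit 11408384) (BT.leaf (nat_lit 46059277)) (BT.leaf (nat_lit 45360417))) (BT.node (nat_lit 11408512) (BT.leaf (nat_lit 45633561)) (BT.leaf (nat_lit 32531729)))) (BT.node (nat_lit 11408704) (BT.node (nat_lit 11408640) (BT.leaf (nat_lit 32530961)) (BT.leaf (nat_lit 32530705))) (BT.node (nat_lit 11408768) (BT.leaf (nat_lit 38631705)) (BT.leaf (nat_lit 46128409)))))) (BT.node (nat_lit 11409344) (BT.node (nat_lit 11409088) (BT.node (nat_lit 11408960) (BT.node (nat_lit 11408896) (BT.leaf (nat_lit 41002009)) (BT.leaf (nat_lit 41002013))) (BT.node (nat_lit 11409024) (BT.leaf (nat_lit 46553877)) (BT.leaf (nat_lit 44320033)))) (BT.node (nat_lit 11409216) (BT.node (nat_lit 11409152) (BT.leaf (nat_lit 32534801)) (BT.leaf (nat_lit 45636893))) (BT.node (nat_lit 11409280) (BT.leaf (nat_lit 51832849)) (BT.leaf (nat_lit 32535057))))) (BT.node (nat_lit 11409600) (BT.node (nat_lit 11409472) (BT.node (nat_lit 11409408) (BT.leaf (nat_lit 44367365)) (BT.leaf (nat_lit 41394453))) (BT.node (nat_lit 11409536) (BT.leaf (nat_lit 38418201)) (BT.leaf (nat_lit 38418205)))) (BT.node (nat_lit 11409792) (BT.node (nat_lit 11409664) (BT.leaf (nat_lit 32695045)) (BT.leaf (nat_lit 44356889))) (BT.node (nat_lit 11409856) (BT.leaf (nat_lit 43868677)) (BT.leaf (nat_lit 48015649))))))) (BT.node (nat_lit 11411072) (BT.node (nat_lit 11410496) (BT.node (nat_lit 11410176) (BT.node (nat_lit 11410048) (BT.node (nat_lit 11409984) (BT.leaf (nat_lit 32664857)) (BT.leaf (nat_lit 32664861))) (BT.node (nat_lit 11410112) (BT.leaf (nat_lit 38809609)) (BT.leaf (nat_lit 38809613)))) (BT.node (nat_lit 11410368) (BT.node (nat_lit 11410304) (BT.leaf (nat_lit 32538901)) (BT.leaf (nat_lit 47157525))) (BT.node (nat_lit 11410432) (BT.leaf (nat_lit 45766673)) (BT.leaf (nat_lit 45766677))))) (BT.node (nat_lit 11410752) (BT.node (nat_lit 11410624) (BT.node (nat_lit 11410560) (BT.leaf (nat_lit 38373641)) (BT.leaf (nat_lit 40250637))) (BT.node (nat_lit 11410688) (BT.leaf (nat_lit 35158805)) (BT.leaf (nat_lit 47870489)))) (BT.node (nat_lit 11410880) (BT.node (nat_lit 11410816) (BT.leaf (nat_lit 39723549)) (BT.leaf (nat_lit 39041541))) (BT.node (nat_lit 11411008) (BT.leaf (nat_lit 32544537)) (BT.leaf (nat_lit 30087185)))))) (BT.node (nat_lit 11411712) (BT.node (nat_lit 11411456) (BT.node (nat_lit 11411328) (BT.node (nat_lit 11411200) (BT.leaf (nat_lit 41333277)) (BT.leaf (nat_lit 45644553))) (BT.node (nat_lit 11411392) (BT.leaf (nat_lit 45645081)) (BT.leaf (nat_lit 32546077)))) (BT.node (nat_lit 11411584) (BT.node (nat_lit 11411520) (BT.leaf (nat_lit 40313377)) (BT.leaf (nat_lit 39281429))) (BT.node (nat_lit 11411648) (BT.leaf (nat_lit 43032345)) (BT.leaf (nat_lit 43032349))))) (BT.node (nat_lit 11411968) (BT.node (nat_lit 11411840) (BT.node (nat_lit 11411776) (BT.leaf (nat_lit 41979653)) (BT.leaf (nat_lit 35159825))) (BT.node (nat_lit 11411904) (BT.leaf (nat_lit 44065057)) (BT.leaf (nat_lit 44064801)))) (BT.node (nat_lit 11412096) (BT.node (nat_lit 11412032) (BT.leaf (nat_lit 37985029)) (BT.leaf (nat_lit 32547345))) (BT.node (nat_lit 11412160) (BT.leaf (nat_lit 32547089)) (BT.leaf (nat_lit 45503769)))))))) (BT.node (nat_lit 11414464) (BT.node (nat_lit 11413312) (BT.node (nat_lit 11412800) (BT.node (nat_lit 11412480) (BT.node (nat_lit 11412352) (BT.node (nat_lit 11412288) (BT.leaf (nat_lit 46243361)) (BT.leaf (nat_lit 38375197))) (BT.node (nat_lit 11412416) (BT.leaf (nat_lit 32390933)) (BT.leaf (nat_lit 37982737)))) (BT.node (nat_lit 11412672) (BT.node (nat_lit 11412544) (BT.leaf (nat_lit 32548893)) (BT.leaf (nat_lit 37982753))) (BT.node (nat_lit 11412736) (BT.leaf (nat_lit 44489233)) (BT.leaf (nat_lit 44489237))))) (BT.node (nat_lit 11413056) (BT.node (nat_lit 11412928) (BT.node (nat_lit 11412864) (BT.leaf (nat_lit 32391445)) (BT.leaf (nat_lit 46527497))) (BT.node (nat_lit 11412992) (BT.leaf (nat_lit 44757021)) (BT.leaf (nat_lit 41103365)))) (BT.node (nat_lit 11413184) (BT.node (nat_lit 11413120) (BT.leaf (nat_lit 32549137)) (BT.leaf (nat_lit 41103385))) (BT.node (nat_lit 11413248) (BT.leaf (nat_lit 41103389)) (BT.leaf (nat_lit 38375701)))))) (BT.node (nat_lit 11413824) (BT.node (nat_lit 11413568) (BT.node (nat_lit 11413440) (BT.node (nat_lit 11413376) (BT.leaf (nat_lit 44070417)) (BT.leaf (nat_lit 35161117))) (BT.node (nat_lit 11413504) (BT.leaf (nat_lit 40702745)) (BT.leaf (nat_lit 47227165)))) (BT.node (nat_lit 11413696) (BT.node (nat_lit 11413632) (BT.leaf (nat_lit 38078225)) (BT.leaf (nat_lit 44061729))) (BT.node (nat_lit 11413760) (BT.leaf (nat_lit 44152581)) (BT.leaf (nat_lit 44157709))))) (BT.node (nat_lit 11414208) (BT.node (nat_lit 11413952) (BT.node (nat_lit 11413888) (BT.leaf (nat_lit 38144773)) (BT.leaf (nat_lit 38144785))) (BT.node (nat_lit 11414144) (BT.leaf (nat_lit 38144789)) (BT.leaf (nat_lit 40631321)))) (BT.node (nat_lit 11414336) (BT.node (nat_lit 11414272) (BT.leaf (nat_lit 52126469)) (BT.leaf (nat_lit 45328657))) (BT.node (nat_lit 11414400) (BT.leaf (nat_lit 40564249)) (BT.leaf (nat_lit 32549661))))))) (BT.node (nat_lit 11415488) (BT.node (nat_lit 11414976) (BT.node (nat_lit 11414720) (BT.node (nat_lit 11414592) (BT.node (nat_lit 11414528) (BT.leaf (nat_lit 47610141)) (BT.leaf (nat_lit 32103193))) (BT.node (nat_lit 11414661) (BT.leaf (nat_lit 32876045)) (BT.leaf (nat_lit 721772)))) (BT.node (nat_lit 11414848) (BT.node (nat_lit 11414784) (BT.leaf (nat_lit 32550673)) (BT.leaf (nat_lit 39592729))) (BT.node (nat_lit 11414912) (BT.leaf (nat_lit 39592733)) (BT.leaf (nat_lit 29860113))))) (BT.node (nat_lit 11415232) (BT.node (nat_lit 11415104) (BT.node (nat_lit 11415040) (BT.leaf (nat_lit 49343005)) (BT.leaf (nat_lit 32551441))) (BT.node (nat_lit 11415168) (BT.leaf (nat_lit 41991969)) (BT.leaf (nat_lit 42188813)))) (BT.node (nat_lit 11415360) (BT.node (nat_lit 11415296) (BT.leaf (nat_lit 45435141)) (BT.leaf (nat_lit 51003409))) (BT.node (nat_lit 11415424) (BT.leaf (nat_lit 48216085)) (BT.leaf (nat_lit 35167005)))))) (BT.node (nat_lit 11416000) (BT.node (nat_lit 11415744) (BT.node (nat_lit 11415616) (BT.node (nat_lit 11415552) (BT.leaf (nat_lit 36113693)) (BT.leaf (nat_lit 44953357))) (BT.node (nat_lit 11415680) (BT.leaf (nat_lit 46131213)) (BT.leaf (nat_lit 42467589)))) (BT.node (nat_lit 11415872) (BT.node (nat_lit 11415808) (BT.leaf (nat_lit 49137941)) (BT.leaf (nat_lit 44510221))) (BT.node (nat_lit 11415936) (BT.leaf (nat_lit 32804629)) (BT.leaf (nat_lit 32564237))))) (BT.node (nat_lit 11416261) (BT.node (nat_lit 11416128) (BT.node (nat_lit 11416064) (BT.leaf (nat_lit 32830985)) (BT.leaf (nat_lit 43178253))) (BT.node (nat_lit 11416192) (BT.leaf (nat_lit 45679629)) (BT.leaf (nat_lit 45678869)))) (BT.node (nat_lit 11416384) (BT.node (nat_lit 11416320) (BT.leaf (nat_lit 714728)) (BT.leaf (nat_lit 32831241))) (BT.node (nat_lit 11416448) (BT.leaf (nat_lit 35164433)) (BT.leaf (nat_lit 45373465)))))))))) (BT.node (nat_lit 11425024) (BT.node (nat_lit 11420992) (BT.node (nat_lit 11418816) (BT.node (nat_lit 11417728) (BT.node (nat_lit 11417088) (BT.node (nat_lit 11416768) (BT.node (nat_lit 11416640) (BT.node (nat_lit 11416576) (BT.leaf (nat_lit 45373469)) (BT.leaf (nat_lit 32552989))) (BT.node (nat_lit 11416704) (BT.leaf (nat_lit 32444445)) (BT.leaf (nat_lit 38304273)))) (BT.node (nat_lit 11416896) (BT.node (nat_lit 11416832) (BT.leaf (nat_lit 38304277)) (BT.leaf (nat_lit 44678421))) (BT.node (nat_lit 11416960) (BT.leaf (nat_lit 50849817)) (BT.leaf (nat_lit 45718541))))) (BT.node (nat_lit 11417408) (BT.node (nat_lit 11417280) (BT.node (nat_lit 11417216) (BT.leaf (nat_lit 43196181)) (BT.leaf (nat_lit 50039569))) (BT.node (nat_lit 11417344) (BT.leaf (nat_lit 45668889)) (BT.leaf (nat_lit 42432013)))) (BT.node (nat_lit 11417600) (BT.node (nat_lit 11417472) (BT.leaf (nat_lit 42851605)) (BT.leaf (nat_lit 35167765))) (BT.node (nat_lit 11417664) (BT.leaf (nat_lit 32180745)) (BT.leaf (nat_lit 38290449)))))) (BT.node (nat_lit 11418176) (BT.node (nat_lit 11417923) (BT.node (nat_lit 11417856) (BT.node (nat_lit 11417792) (BT.leaf (nat_lit 49344797)) (BT.leaf (nat_lit 46209545))) (BT.node (nat_lit 11417922) (BT.leaf (nat_lit 46131225)) (BT.leaf (nat_lit 720796)))) (BT.node (nat_lit 11418048) (BT.node (nat_lit 11417984) (BT.leaf (nat_lit 720796)) (BT.leaf (nat_lit 50202645))) (BT.node (nat_lit 11418112) (BT.leaf (nat_lit 39976457)) (BT.leaf (nat_lit 36195613))))) (BT.node (nat_lit 11418560) (BT.node (nat_lit 11418304) (BT.node (nat_lit 11418240) (BT.leaf (nat_lit 36113673)) (BT.leaf (nat_lit 32566277))) (BT.node (nat_lit 11418496) (BT.leaf (nat_lit 32561169)) (BT.leaf (nat_lit 32867861)))) (BT.node (nat_lit 11418688) (BT.node (nat_lit 11418624) (BT.leaf (nat_lit 44956445)) (BT.leaf (nat_lit 49713937))) (BT.node (nat_lit 11418752) (BT.leaf (nat_lit 40598289)) (BT.leaf (nat_lit 45671713))))))) (BT.node (nat_lit 11419840) (BT.node (nat_lit 11419328) (BT.node (nat_lit 11419072) (BT.node (nat_lit 11418944) (BT.node (nat_lit 11418880) (BT.leaf (nat_lit 45671457)) (BT.leaf (nat_lit 37895185))) (BT.node (nat_lit 11419008) (BT.leaf (nat_lit 46202141)) (BT.leaf (nat_lit 43713057)))) (BT.node (nat_lit 11419200) (BT.node (nat_lit 11419136) (BT.leaf (nat_lit 30425885)) (BT.leaf (nat_lit 45969933))) (BT.node (nat_lit 11419264) (BT.leaf (nat_lit 38520601)) (BT.leaf (nat_lit 42817561))))) (BT.node (nat_lit 11419584) (BT.node (nat_lit 11419456) (BT.node (nat_lit 11419392) (BT.leaf (nat_lit 30488837)) (BT.leaf (nat_lit 32566305))) (BT.node (nat_lit 11419520) (BT.leaf (nat_lit 32566049)) (BT.leaf (nat_lit 44803849)))) (BT.node (nat_lit 11419712) (BT.node (nat_lit 11419648) (BT.leaf (nat_lit 39704337)) (BT.leaf (nat_lit 44805401))) (BT.node (nat_lit 11419776) (BT.leaf (nat_lit 44805405)) (BT.leaf (nat_lit 30663453)))))) (BT.node (nat_lit 11420416) (BT.node (nat_lit 11420096) (BT.node (nat_lit 11419968) (BT.node (nat_lit 11419904) (BT.leaf (nat_lit 44803857)) (BT.leaf (nat_lit 44803861))) (BT.node (nat_lit 11420032) (BT.leaf (nat_lit 44803873)) (BT.leaf (nat_lit 32565025)))) (BT.node (nat_lit 11420224) (BT.node (nat_lit 11420160) (BT.leaf (nat_lit 32565269)) (BT.leaf (nat_lit 45664781))) (BT.node (nat_lit 11420288) (BT.leaf (nat_lit 39852305)) (BT.leaf (nat_lit 39852321))))) (BT.node (nat_lit 11420736) (BT.node (nat_lit 11420608) (BT.node (nat_lit 11420544) (BT.leaf (nat_lit 38927109)) (BT.leaf (nat_lit 32567573))) (BT.node (nat_lit 11420672) (BT.leaf (nat_lit 49348105)) (BT.leaf (nat_lit 39765013)))) (BT.node (nat_lit 11420864) (BT.node (nat_lit 11420800) (BT.leaf (nat_lit 40361477)) (BT.leaf (nat_lit 32818697))) (BT.node (nat_lit 11420928) (BT.leaf (nat_lit 32569613)) (BT.leaf (nat_lit 41815585)))))))) (BT.node (nat_lit 11423040) (BT.node (nat_lit 11422016) (BT.node (nat_lit 11421504) (BT.node (nat_lit 11421248) (BT.node (nat_lit 11421120) (BT.node (nat_lit 11421056) (BT.leaf (nat_lit 41815841)) (BT.leaf (nat_lit 32569877))) (BT.node (nat_lit 11421184) (BT.leaf (nat_lit 43119133)) (BT.leaf (nat_lit 39815953)))) (BT.node (nat_lit 11421376) (BT.node (nat_lit 11421312) (BT.leaf (nat_lit 39815957)) (BT.leaf (nat_lit 32570129))) (BT.node (nat_lit 11421440) (BT.leaf (nat_lit 35173393)) (BT.leaf (nat_lit 42828833))))) (BT.node (nat_lit 11421760) (BT.node (nat_lit 11421632) (BT.node (nat_lit 11421568) (BT.leaf (nat_lit 42828577)) (BT.leaf (nat_lit 44358673))) (BT.node (nat_lit 11421696) (BT.leaf (nat_lit 38337049)) (BT.leaf (nat_lit 32571413)))) (BT.node (nat_lit 11421888) (BT.node (nat_lit 11421824) (BT.leaf (nat_lit 50732309)) (BT.leaf (nat_lit 32570381))) (BT.node (nat_lit 11421952) (BT.leaf (nat_lit 47681285)) (BT.leaf (nat_lit 46236181)))))) (BT.node (nat_lit 11422528) (BT.node (nat_lit 11422272) (BT.node (nat_lit 11422144) (BT.node (nat_lit 11422080) (BT.leaf (nat_lit 48567829)) (BT.leaf (nat_lit 45687049))) (BT.node (nat_lit 11422208) (BT.leaf (nat_lit 44689441)) (BT.leaf (nat_lit 46175253)))) (BT.node (nat_lit 11422400) (BT.node (nat_lit 11422336) (BT.leaf (nat_lit 52329749)) (BT.leaf (nat_lit 32952097))) (BT.node (nat_lit 11422464) (BT.leaf (nat_lit 44751129)) (BT.leaf (nat_lit 44751133))))) (BT.node (nat_lit 11422784) (BT.node (nat_lit 11422656) (BT.node (nat_lit 11422592) (BT.leaf (nat_lit 40217605)) (BT.leaf (nat_lit 45690653))) (BT.node (nat_lit 11422720) (BT.leaf (nat_lit 45686029)) (BT.leaf (nat_lit 39556877)))) (BT.node (nat_lit 11422912) (BT.node (nat_lit 11422848) (BT.leaf (nat_lit 44525321)) (BT.leaf (nat_lit 40934409))) (BT.node (nat_lit 11422976) (BT.leaf (nat_lit 40934413)) (BT.leaf (nat_lit 32569365))))))) (BT.node (nat_lit 11424000) (BT.node (nat_lit 11423552) (BT.node (nat_lit 11423296) (BT.node (nat_lit 11423168) (BT.node (nat_lit 11423104) (BT.leaf (nat_lit 40934433)) (BT.leaf (nat_lit 32575497))) (BT.node (nat_lit 11423232) (BT.leaf (nat_lit 37908745)) (BT.leaf (nat_lit 37908749)))) (BT.node (nat_lit 11423424) (BT.node (nat_lit 11423360) (BT.leaf (nat_lit 37908753)) (BT.leaf (nat_lit 44633369))) (BT.node (nat_lit 11423488) (BT.leaf (nat_lit 39530773)) (BT.leaf (nat_lit 32574217))))) (BT.node (nat_lit 11423744) (BT.node (nat_lit 11423620) (BT.node (nat_lit 11423616) (BT.leaf (nat_lit 44918041)) (BT.leaf (nat_lit 44918045))) (BT.node (nat_lit 11423680) (BT.leaf (nat_lit 775144)) (BT.leaf (nat_lit 32743969)))) (BT.node (nat_lit 11423872) (BT.node (nat_lit 11423808) (BT.leaf (nat_lit 45065753)) (BT.leaf (nat_lit 32573977))) (BT.node (nat_lit 11423936) (BT.leaf (nat_lit 39032593)) (BT.leaf (nat_lit 49471001)))))) (BT.node (nat_lit 11424512) (BT.node (nat_lit 11424256) (BT.node (nat_lit 11424128) (BT.node (nat_lit 11424064) (BT.leaf (nat_lit 44523549)) (BT.leaf (nat_lit 46012169))) (BT.node (nat_lit 11424192) (BT.leaf (nat_lit 32817693)) (BT.leaf (nat_lit 44523545)))) (BT.node (nat_lit 11424384) (BT.node (nat_lit 11424320) (BT.leaf (nat_lit 32573985)) (BT.leaf (nat_lit 32574213))) (BT.node (nat_lit 11424448) (BT.leaf (nat_lit 39031313)) (BT.leaf (nat_lit 42843397))))) (BT.node (nat_lit 11424768) (BT.node (nat_lit 11424640) (BT.node (nat_lit 11424576) (BT.leaf (nat_lit 39030037)) (BT.leaf (nat_lit 46010121))) (BT.node (nat_lit 11424704) (BT.leaf (nat_lit 46010381)) (BT.leaf (nat_lit 32816657)))) (BT.node (nat_lit 11424896) (BT.node (nat_lit 11424832) (BT.leaf (nat_lit 32743705)) (BT.leaf (nat_lit 32743709))) (BT.node (nat_lit 11424960) (BT.leaf (nat_lit 45944077)) (BT.leaf (nat_lit 42844185))))))))) (BT.node (nat_lit 11429120) (BT.node (nat_lit 11427136) (BT.node (nat_lit 11426048) (BT.node (nat_lit 11425600) (BT.node (nat_lit 11425280) (BT.node (nat_lit 11425152) (BT.node (nat_lit 11425088) (BT.leaf (nat_lit 38514453)) (BT.leaf (nat_lit 32743441))) (BT.node (nat_lit 11425216) (BT.leaf (nat_lit 32743445)) (BT.leaf (nat_lit 32575245)))) (BT.node (nat_lit 11425408) (BT.node (nat_lit 11425344) (BT.leaf (nat_lit 43524885)) (BT.leaf (nat_lit 49722121))) (BT.node (nat_lit 11425472) (BT.leaf (nat_lit 32575241)) (BT.leaf (nat_lit 40215585))))) (BT.node (nat_lit 11425797) (BT.node (nat_lit 11425728) (BT.node (nat_lit 11425664) (BT.leaf (nat_lit 49722141)) (BT.leaf (nat_lit 46017545))) (BT.node (nat_lit 11425793) (BT.leaf (nat_lit 40520217)) (BT.leaf (nat_lit 720968)))) (BT.node (nat_lit 11425920) (BT.node (nat_lit 11425856) (BT.leaf (nat_lit 720968)) (BT.leaf (nat_lit 41813781))) (BT.node (nat_lit 11425984) (BT.leaf (nat_lit 32575237)) (BT.leaf (nat_lit 32575521)))))) (BT.node (nat_lit 11426560) (BT.node (nat_lit 11426304) (BT.node (nat_lit 11426176) (BT.node (nat_lit 11426112) (BT.leaf (nat_lit 40520197)) (BT.leaf (nat_lit 40520209))) (BT.node (nat_lit 11426240) (BT.leaf (nat_lit 46014493)) (BT.leaf (nat_lit 30498325)))) (BT.node (nat_lit 11426432) (BT.node (nat_lit 11426368) (BT.leaf (nat_lit 40578065)) (BT.leaf (nat_lit 40578081))) (BT.node (nat_lit 11426496) (BT.leaf (nat_lit 40795681)) (BT.leaf (nat_lit 38971169))))) (BT.node (nat_lit 11426816) (BT.node (nat_lit 11426688) (BT.node (nat_lit 11426624) (BT.leaf (nat_lit 44915473)) (BT.leaf (nat_lit 44977157))) (BT.node (nat_lit 11426752) (BT.leaf (nat_lit 39193617)) (BT.leaf (nat_lit 32578821)))) (BT.node (nat_lit 11426944) (BT.node (nat_lit 11426880) (BT.leaf (nat_lit 40408325)) (BT.leaf (nat_lit 38304541))) (BT.node (nat_lit 11427008) (BT.leaf (nat_lit 30747909)) (BT.leaf (nat_lit 42340385))))))) (BT.node (nat_lit 11428224) (BT.node (nat_lit 11427712) (BT.node (nat_lit 11427392) (BT.node (nat_lit 11427264) (BT.node (nat_lit 11427200) (BT.leaf (nat_lit 49672205)) (BT.leaf (nat_lit 32578849))) (BT.node (nat_lit 11427328) (BT.leaf (nat_lit 45494537)) (BT.leaf (nat_lit 40865057)))) (BT.node (nat_lit 11427520) (BT.node (nat_lit 11427456) (BT.leaf (nat_lit 45709337)) (BT.leaf (nat_lit 31291665))) (BT.node (nat_lit 11427648) (BT.leaf (nat_lit 48606993)) (BT.leaf (nat_lit 38522393))))) (BT.node (nat_lit 11427968) (BT.node (nat_lit 11427840) (BT.node (nat_lit 11427776) (BT.leaf (nat_lit 44671521)) (BT.leaf (nat_lit 46214153))) (BT.node (nat_lit 11427904) (BT.leaf (nat_lit 45424653)) (BT.leaf (nat_lit 40330513)))) (BT.node (nat_lit 11428096) (BT.node (nat_lit 11428032) (BT.leaf (nat_lit 40330529)) (BT.leaf (nat_lit 45712413))) (BT.node (nat_lit 11428160) (BT.leaf (nat_lit 37839125)) (BT.leaf (nat_lit 45711385)))))) (BT.node (nat_lit 11428736) (BT.node (nat_lit 11428416) (BT.node (nat_lit 11428288) (BT.node (nat_lit 11428227) (BT.leaf (nat_lit 32579093)) (BT.leaf (nat_lit 773044))) (BT.node (nat_lit 11428352) (BT.leaf (nat_lit 40015641)) (BT.leaf (nat_lit 39301137)))) (BT.node (nat_lit 11428608) (BT.node (nat_lit 11428544) (BT.leaf (nat_lit 32834829)) (BT.leaf (nat_lit 40206877))) (BT.node (nat_lit 11428672) (BT.leaf (nat_lit 49379361)) (BT.leaf (nat_lit 38522377))))) (BT.node (nat_lit 11428869) (BT.node (nat_lit 11428864) (BT.node (nat_lit 11428800) (BT.leaf (nat_lit 45714713)) (BT.leaf (nat_lit 44976901))) (BT.node (nat_lit 11428865) (BT.leaf (nat_lit 32581641)) (BT.leaf (nat_lit 742964)))) (BT.node (nat_lit 11428992) (BT.node (nat_lit 11428928) (BT.leaf (nat_lit 742964)) (BT.leaf (nat_lit 40622609))) (BT.node (nat_lit 11429056) (BT.leaf (nat_lit 32581893)) (BT.leaf (nat_lit 40208389)))))))) (BT.node (nat_lit 11431168) (BT.node (nat_lit 11430144) (BT.node (nat_lit 11429632) (BT.node (nat_lit 11429376) (BT.node (nat_lit 11429248) (BT.node (nat_lit 11429184) (BT.leaf (nat_lit 32580881)) (BT.leaf (nat_lit 38193941))) (BT.node (nat_lit 11429312) (BT.leaf (nat_lit 43513113)) (BT.leaf (nat_lit 43513117)))) (BT.node (nat_lit 11429504) (BT.node (nat_lit 11429440) (BT.leaf (nat_lit 39392277)) (BT.leaf (nat_lit 28857373))) (BT.node (nat_lit 11429568) (BT.leaf (nat_lit 32587293)) (BT.leaf (nat_lit 29837597))))) (BT.node (nat_lit 11429888) (BT.node (nat_lit 11429760) (BT.node (nat_lit 11429696) (BT.leaf (nat_lit 43159585)) (BT.leaf (nat_lit 38068757))) (BT.node (nat_lit 11429824) (BT.leaf (nat_lit 29011225)) (BT.leaf (nat_lit 39391253)))) (BT.node (nat_lit 11430016) (BT.node (nat_lit 11429952) (BT.leaf (nat_lit 38141449)) (BT.leaf (nat_lit 38141453))) (BT.node (nat_lit 11430080) (BT.leaf (nat_lit 48439313)) (BT.leaf (nat_lit 43938829)))))) (BT.node (nat_lit 11430656) (BT.node (nat_lit 11430400) (BT.node (nat_lit 11430272) (BT.node (nat_lit 11430208) (BT.leaf (nat_lit 49487901)) (BT.leaf (nat_lit 50109209))) (BT.node (nat_lit 11430336) (BT.leaf (nat_lit 45814813)) (BT.leaf (nat_lit 38861341)))) (BT.node (nat_lit 11430528) (BT.node (nat_lit 11430464) (BT.leaf (nat_lit 45679645)) (BT.leaf (nat_lit 32866313))) (BT.node (nat_lit 11430592) (BT.leaf (nat_lit 35196441)) (BT.leaf (nat_lit 46099481))))) (BT.node (nat_lit 11430918) (BT.node (nat_lit 11430848) (BT.node (nat_lit 11430784) (BT.leaf (nat_lit 35196429)) (BT.leaf (nat_lit 39754785))) (BT.node (nat_lit 11430912) (BT.leaf (nat_lit 37980685)) (BT.leaf (nat_lit 48182281)))) (BT.node (nat_lit 11431040) (BT.node (nat_lit 11430976) (BT.leaf (nat_lit 775484)) (BT.leaf (nat_lit 50238989))) (BT.node (nat_lit 11431104) (BT.leaf (nat_lit 47890453)) (BT.leaf (nat_lit 32775705))))))) (BT.node (nat_lit 11432128) (BT.node (nat_lit 11431616) (BT.node (nat_lit 11431362) (BT.node (nat_lit 11431296) (BT.node (nat_lit 11431232) (BT.leaf (nat_lit 32775709)) (BT.leaf (nat_lit 50239237))) (BT.node (nat_lit 11431360) (BT.leaf (nat_lit 32591641)) (BT.leaf (nat_lit 38996249)))) (BT.node (nat_lit 11431488) (BT.node (nat_lit 11431424) (BT.leaf (nat_lit 808056)) (BT.leaf (nat_lit 43887637))) (BT.node (nat_lit 11431552) (BT.leaf (nat_lit 32592157)) (BT.leaf (nat_lit 32593425))))) (BT.node (nat_lit 11432000) (BT.node (nat_lit 11431808) (BT.node (nat_lit 11431680) (BT.leaf (nat_lit 44424985)) (BT.leaf (nat_lit 44424989))) (BT.node (nat_lit 11431872) (BT.leaf (nat_lit 45726985)) (BT.leaf (nat_lit 35191061)))) (BT.node (nat_lit 11432004) (BT.node (nat_lit 11432001) (BT.leaf (nat_lit 30952469)) (BT.leaf (nat_lit 755988))) (BT.node (nat_lit 11432064) (BT.leaf (nat_lit 755988)) (BT.leaf (nat_lit 32593945)))))) (BT.node (nat_lit 11432704) (BT.node (nat_lit 11432384) (BT.node (nat_lit 11432256) (BT.node (nat_lit 11432192) (BT.leaf (nat_lit 40134417)) (BT.leaf (nat_lit 40134421))) (BT.node (nat_lit 11432320) (BT.leaf (nat_lit 48439069)) (BT.leaf (nat_lit 32594713)))) (BT.node (nat_lit 11432512) (BT.node (nat_lit 11432448) (BT.leaf (nat_lit 32597005)) (BT.leaf (nat_lit 35193101))) (BT.node (nat_lit 11432576) (BT.leaf (nat_lit 32597001)) (BT.leaf (nat_lit 32597269))))) (BT.node (nat_lit 11433024) (BT.node (nat_lit 11432832) (BT.node (nat_lit 11432768) (BT.leaf (nat_lit 32597789)) (BT.leaf (nat_lit 41046033))) (BT.node (nat_lit 11432960) (BT.leaf (nat_lit 45719837)) (BT.leaf (nat_lit 32596997)))) (BT.node (nat_lit 11433152) (BT.node (nat_lit 11433088) (BT.leaf (nat_lit 35193617)) (BT.leaf (nat_lit 38629913))) (BT.node (nat_lit 11433216) (BT.leaf (nat_lit 40388889)) (BT.leaf (nat_lit 44012057))))))))))) (BT.node (nat_lit 11449984) (BT.node (nat_lit 11441600) (BT.node (nat_lit 11437312) (BT.node (nat_lit 11435200) (BT.node (nat_lit 11434112) (BT.node (nat_lit 11433670) (BT.node (nat_lit 11433600) (BT.node (nat_lit 11433472) (BT.node (nat_lit 11433408) (BT.leaf (nat_lit 41663261)) (BT.leaf (nat_lit 45720845))) (BT.node (nat_lit 11433536) (BT.leaf (nat_lit 42708997)) (BT.leaf (nat_lit 51066909)))) (BT.node (nat_lit 11433666) (BT.node (nat_lit 11433664) (BT.leaf (nat_lit 50107665)) (BT.leaf (nat_lit 29709333))) (BT.node (nat_lit 11433667) (BT.leaf (nat_lit 744112)) (BT.leaf (nat_lit 744112))))) (BT.node (nat_lit 11433856) (BT.node (nat_lit 11433728) (BT.node (nat_lit 11433671) (BT.leaf (nat_lit 744112)) (BT.leaf (nat_lit 722856))) (BT.node (nat_lit 11433792) (BT.leaf (nat_lit 42696473)) (BT.leaf (nat_lit 32598297)))) (BT.node (nat_lit 11433984) (BT.node (nat_lit 11433920) (BT.leaf (nat_lit 32598553)) (BT.leaf (nat_lit 42462481))) (BT.node (nat_lit 11434048) (BT.leaf (nat_lit 47667489)) (BT.leaf (nat_lit 45429005)))))) (BT.node (nat_lit 11434624) (BT.node (nat_lit 11434368) (BT.node (nat_lit 11434240) (BT.node (nat_lit 11434176) (BT.leaf (nat_lit 46086941)) (BT.leaf (nat_lit 45177617))) (BT.node (nat_lit 11434304) (BT.leaf (nat_lit 43384861)) (BT.leaf (nat_lit 42685717)))) (BT.node (nat_lit 11434496) (BT.node (nat_lit 11434432) (BT.leaf (nat_lit 42711049)) (BT.leaf (nat_lit 44749577))) (BT.node (nat_lit 11434560) (BT.leaf (nat_lit 38074129)) (BT.leaf (nat_lit 45585157))))) (BT.node (nat_lit 11434880) (BT.node (nat_lit 11434752) (BT.node (nat_lit 11434688) (BT.leaf (nat_lit 32866073)) (BT.leaf (nat_lit 32866077))) (BT.node (nat_lit 11434816) (BT.leaf (nat_lit 44261125)) (BT.leaf (nat_lit 47502101)))) (BT.node (nat_lit 11435008) (BT.node (nat_lit 11434944) (BT.leaf (nat_lit 37607445)) (BT.leaf (nat_lit 32654601))) (BT.node (nat_lit 11435072) (BT.leaf (nat_lit 37609741)) (BT.leaf (nat_lit 39075081))))))) (BT.node (nat_lit 11436288) (BT.node (nat_lit 11435712) (BT.node (nat_lit 11435456) (BT.node (nat_lit 11435328) (BT.node (nat_lit 11435264) (BT.leaf (nat_lit 42685465)) (BT.leaf (nat_lit 32868105))) (BT.node (nat_lit 11435392) (BT.leaf (nat_lit 39386913)) (BT.leaf (nat_lit 38652449)))) (BT.node (nat_lit 11435584) (BT.node (nat_lit 11435520) (BT.leaf (nat_lit 39146261)) (BT.leaf (nat_lit 39146269))) (BT.node (nat_lit 11435648) (BT.leaf (nat_lit 45090321)) (BT.leaf (nat_lit 49692953))))) (BT.node (nat_lit 11435968) (BT.node (nat_lit 11435840) (BT.node (nat_lit 11435776) (BT.leaf (nat_lit 37980677)) (BT.leaf (nat_lit 37980689))) (BT.node (nat_lit 11435904) (BT.leaf (nat_lit 35997205)) (BT.leaf (nat_lit 45739297)))) (BT.node (nat_lit 11436096) (BT.node (nat_lit 11436032) (BT.leaf (nat_lit 31920917)) (BT.leaf (nat_lit 35196445))) (BT.node (nat_lit 11436224) (BT.leaf (nat_lit 30425109)) (BT.leaf (nat_lit 44850181)))))) (BT.node (nat_lit 11436800) (BT.node (nat_lit 11436544) (BT.node (nat_lit 11436416) (BT.node (nat_lit 11436352) (BT.leaf (nat_lit 32860697)) (BT.leaf (nat_lit 32858381))) (BT.node (nat_lit 11436480) (BT.leaf (nat_lit 45432077)) (BT.leaf (nat_lit 47738133)))) (BT.node (nat_lit 11436672) (BT.node (nat_lit 11436608) (BT.leaf (nat_lit 29771793)) (BT.leaf (nat_lit 42754829))) (BT.node (nat_lit 11436736) (BT.leaf (nat_lit 32857097)) (BT.leaf (nat_lit 35400985))))) (BT.node (nat_lit 11437056) (BT.node (nat_lit 11436928) (BT.node (nat_lit 11436864) (BT.leaf (nat_lit 39523085)) (BT.leaf (nat_lit 45748509))) (BT.node (nat_lit 11436992) (BT.leaf (nat_lit 39719693)) (BT.leaf (nat_lit 32854813)))) (BT.node (nat_lit 11437184) (BT.node (nat_lit 11437120) (BT.leaf (nat_lit 43716617)) (BT.leaf (nat_lit 49496597))) (BT.node (nat_lit 11437248) (BT.leaf (nat_lit 43716621)) (BT.leaf (nat_lit 40576277)))))))) (BT.node (nat_lit 11439552) (BT.node (nat_lit 11438464) (BT.node (nat_lit 11437952) (BT.node (nat_lit 11437632) (BT.node (nat_lit 11437440) (BT.node (nat_lit 11437376) (BT.leaf (nat_lit 39719705)) (BT.leaf (nat_lit 39719709))) (BT.node (nat_lit 11437568) (BT.leaf (nat_lit 48641561)) (BT.leaf (nat_lit 32854797)))) (BT.node (nat_lit 11437824) (BT.node (nat_lit 11437696) (BT.leaf (nat_lit 42213409)) (BT.leaf (nat_lit 34143261))) (BT.node (nat_lit 11437888) (BT.leaf (nat_lit 32608025)) (BT.leaf (nat_lit 43716633))))) (BT.node (nat_lit 11438208) (BT.node (nat_lit 11438080) (BT.node (nat_lit 11438016) (BT.leaf (nat_lit 49918229)) (BT.leaf (nat_lit 32608785))) (BT.node (nat_lit 11438144) (BT.leaf (nat_lit 27620113)) (BT.leaf (nat_lit 48047649)))) (BT.node (nat_lit 11438336) (BT.node (nat_lit 11438272) (BT.leaf (nat_lit 48047393)) (BT.leaf (nat_lit 30441757))) (BT.node (nat_lit 11438400) (BT.leaf (nat_lit 32608285)) (BT.leaf (nat_lit 32606493)))))) (BT.node (nat_lit 11439040) (BT.node (nat_lit 11438784) (BT.node (nat_lit 11438656) (BT.node (nat_lit 11438528) (BT.leaf (nat_lit 38912017)) (BT.leaf (nat_lit 38912021))) (BT.node (nat_lit 11438720) (BT.leaf (nat_lit 32610829)) (BT.leaf (nat_lit 42764065)))) (BT.node (nat_lit 11438912) (BT.node (nat_lit 11438848) (BT.leaf (nat_lit 49679369)) (BT.leaf (nat_lit 44610325))) (BT.node (nat_lit 11438976) (BT.leaf (nat_lit 37719301)) (BT.leaf (nat_lit 49503253))))) (BT.node (nat_lit 11439296) (BT.node (nat_lit 11439168) (BT.node (nat_lit 11439104) (BT.leaf (nat_lit 48760325)) (BT.leaf (nat_lit 45212177))) (BT.node (nat_lit 11439232) (BT.leaf (nat_lit 32612881)) (BT.leaf (nat_lit 32612625)))) (BT.node (nat_lit 11439424) (BT.node (nat_lit 11439360) (BT.leaf (nat_lit 37712665)) (BT.leaf (nat_lit 37712669))) (BT.node (nat_lit 11439488) (BT.leaf (nat_lit 31762193)) (BT.leaf (nat_lit 40042769))))))) (BT.node (nat_lit 11440640) (BT.node (nat_lit 11440128) (BT.node (nat_lit 11439872) (BT.node (nat_lit 11439680) (BT.node (nat_lit 11439616) (BT.leaf (nat_lit 40042773)) (BT.leaf (nat_lit 47992581))) (BT.node (nat_lit 11439808) (BT.leaf (nat_lit 29770269)) (BT.leaf (nat_lit 40042517)))) (BT.node (nat_lit 11440000) (BT.node (nat_lit 11439936) (BT.leaf (nat_lit 34152453)) (BT.leaf (nat_lit 32616209))) (BT.node (nat_lit 11440064) (BT.leaf (nat_lit 32385553)) (BT.leaf (nat_lit 40564757))))) (BT.node (nat_lit 11440384) (BT.node (nat_lit 11440256) (BT.node (nat_lit 11440192) (BT.leaf (nat_lit 42779653)) (BT.leaf (nat_lit 40564765))) (BT.node (nat_lit 11440320) (BT.leaf (nat_lit 30446353)) (BT.leaf (nat_lit 32615953)))) (BT.node (nat_lit 11440512) (BT.node (nat_lit 11440448) (BT.leaf (nat_lit 32385809)) (BT.leaf (nat_lit 41948181))) (BT.node (nat_lit 11440576) (BT.leaf (nat_lit 41169433)) (BT.leaf (nat_lit 45147673)))))) (BT.node (nat_lit 11441152) (BT.node (nat_lit 11440896) (BT.node (nat_lit 11440768) (BT.node (nat_lit 11440704) (BT.leaf (nat_lit 32615441)) (BT.leaf (nat_lit 39550241))) (BT.node (nat_lit 11440832) (BT.leaf (nat_lit 45806601)) (BT.leaf (nat_lit 38721297)))) (BT.node (nat_lit 11441024) (BT.node (nat_lit 11440960) (BT.leaf (nat_lit 39058717)) (BT.leaf (nat_lit 42528789))) (BT.node (nat_lit 11441088) (BT.leaf (nat_lit 41120261)) (BT.leaf (nat_lit 45764637))))) (BT.node (nat_lit 11441408) (BT.node (nat_lit 11441281) (BT.node (nat_lit 11441216) (BT.leaf (nat_lit 45798165)) (BT.leaf (nat_lit 32772633))) (BT.node (nat_lit 11441344) (BT.leaf (nat_lit 815444)) (BT.leaf (nat_lit 31865113)))) (BT.node (nat_lit 11441472) (BT.node (nat_lit 11441416) (BT.leaf (nat_lit 41377813)) (BT.leaf (nat_lit 815448))) (BT.node (nat_lit 11441536) (BT.leaf (nat_lit 44735765)) (BT.leaf (nat_lit 31865121))))))))) (BT.node (nat_lit 11445952) (BT.node (nat_lit 11443904) (BT.node (nat_lit 11442624) (BT.node (nat_lit 11442176) (BT.node (nat_lit 11441920) (BT.node (nat_lit 11441792) (BT.node (nat_lit 11441664) (BT.leaf (nat_lit 37126433)) (BT.leaf (nat_lit 32623877))) (BT.node (nat_lit 11441856) (BT.leaf (nat_lit 32624405)) (BT.leaf (nat_lit 45767713)))) (BT.node (nat_lit 11442048) (BT.node (nat_lit 11441984) (BT.leaf (nat_lit 32645389)) (BT.leaf (nat_lit 42982177))) (BT.node (nat_lit 11442112) (BT.leaf (nat_lit 29449989)) (BT.leaf (nat_lit 32771593))))) (BT.node (nat_lit 11442368) (BT.node (nat_lit 11442240) (BT.node (nat_lit 11442184) (BT.leaf (nat_lit 43346973)) (BT.leaf (nat_lit 718140))) (BT.node (nat_lit 11442304) (BT.leaf (nat_lit 32772361)) (BT.leaf (nat_lit 49978133)))) (BT.node (nat_lit 11442496) (BT.node (nat_lit 11442432) (BT.leaf (nat_lit 43381529)) (BT.leaf (nat_lit 39425797))) (BT.node (nat_lit 11442560) (BT.leaf (nat_lit 39778309)) (BT.leaf (nat_lit 45413401)))))) (BT.node (nat_lit 11443136) (BT.node (nat_lit 11442880) (BT.node (nat_lit 11442752) (BT.node (nat_lit 11442688) (BT.leaf (nat_lit 39820045)) (BT.leaf (nat_lit 44320009))) (BT.node (nat_lit 11442816) (BT.leaf (nat_lit 32626197)) (BT.leaf (nat_lit 49272841)))) (BT.node (nat_lit 11443008) (BT.node (nat_lit 11442944) (BT.leaf (nat_lit 49272845)) (BT.leaf (nat_lit 49272849))) (BT.node (nat_lit 11443072) (BT.leaf (nat_lit 45772317)) (BT.leaf (nat_lit 39438853))))) (BT.node (nat_lit 11443456) (BT.node (nat_lit 11443328) (BT.node (nat_lit 11443200) (BT.leaf (nat_lit 49978389)) (BT.leaf (nat_lit 30109717))) (BT.node (nat_lit 11443392) (BT.leaf (nat_lit 43118341)) (BT.leaf (nat_lit 32628761)))) (BT.node (nat_lit 11443648) (BT.node (nat_lit 11443584) (BT.leaf (nat_lit 32629017)) (BT.leaf (nat_lit 32628765))) (BT.node (nat_lit 11443840) (BT.leaf (nat_lit 32629021)) (BT.leaf (nat_lit 42364165))))))) (BT.node (nat_lit 11444800) (BT.node (nat_lit 11444288) (BT.node (nat_lit 11444160) (BT.node (nat_lit 11444032) (BT.node (nat_lit 11443968) (BT.leaf (nat_lit 32629265)) (BT.leaf (nat_lit 45952033))) (BT.node (nat_lit 11444096) (BT.leaf (nat_lit 45951777)) (BT.leaf (nat_lit 49544469)))) (BT.node (nat_lit 11444230) (BT.node (nat_lit 11444224) (BT.leaf (nat_lit 42863649)) (BT.leaf (nat_lit 32648729))) (BT.node (nat_lit 11444231) (BT.leaf (nat_lit 774000)) (BT.leaf (nat_lit 774000))))) (BT.node (nat_lit 11444544) (BT.node (nat_lit 11444416) (BT.node (nat_lit 11444352) (BT.leaf (nat_lit 49544729)) (BT.leaf (nat_lit 42867981))) (BT.node (nat_lit 11444480) (BT.leaf (nat_lit 43450649)) (BT.leaf (nat_lit 41269793)))) (BT.node (nat_lit 11444672) (BT.node (nat_lit 11444608) (BT.leaf (nat_lit 35210773)) (BT.leaf (nat_lit 32631833))) (BT.node (nat_lit 11444736) (BT.leaf (nat_lit 32772357)) (BT.leaf (nat_lit 39267605)))))) (BT.node (nat_lit 11445440) (BT.node (nat_lit 11445056) (BT.node (nat_lit 11444928) (BT.node (nat_lit 11444864) (BT.leaf (nat_lit 42008329)) (BT.leaf (nat_lit 39296773))) (BT.node (nat_lit 11444992) (BT.leaf (nat_lit 42863905)) (BT.leaf (nat_lit 47183373)))) (BT.node (nat_lit 11445248) (BT.node (nat_lit 11445184) (BT.leaf (nat_lit 39297049)) (BT.leaf (nat_lit 43612181))) (BT.node (nat_lit 11445376) (BT.leaf (nat_lit 42035477)) (BT.leaf (nat_lit 42276361))))) (BT.node (nat_lit 11445696) (BT.node (nat_lit 11445568) (BT.node (nat_lit 11445504) (BT.leaf (nat_lit 44097049)) (BT.leaf (nat_lit 32671773))) (BT.node (nat_lit 11445632) (BT.leaf (nat_lit 49527577)) (BT.leaf (nat_lit 49527057)))) (BT.node (nat_lit 11445824) (BT.node (nat_lit 11445760) (BT.leaf (nat_lit 33034773)) (BT.leaf (nat_lit 35212317))) (BT.node (nat_lit 11445888) (BT.leaf (nat_lit 38653969)) (BT.leaf (nat_lit 40751365)))))))) (BT.node (nat_lit 11448000) (BT.node (nat_lit 11446848) (BT.node (nat_lit 11446400) (BT.node (nat_lit 11446208) (BT.node (nat_lit 11446080) (BT.node (nat_lit 11446016) (BT.leaf (nat_lit 32639505)) (BT.leaf (nat_lit 32638993))) (BT.node (nat_lit 11446144) (BT.leaf (nat_lit 43104277)) (BT.leaf (nat_lit 45784861)))) (BT.node (nat_lit 11446272) (BT.node (nat_lit 11446209) (BT.leaf (nat_lit 27762705)) (BT.leaf (nat_lit 715488))) (BT.node (nat_lit 11446336) (BT.leaf (nat_lit 27440145)) (BT.leaf (nat_lit 41971489))))) (BT.node (nat_lit 11446656) (BT.node (nat_lit 11446528) (BT.node (nat_lit 11446464) (BT.leaf (nat_lit 49558293)) (BT.leaf (nat_lit 43806745))) (BT.node (nat_lit 11446592) (BT.leaf (nat_lit 40424737)) (BT.leaf (nat_lit 40424733)))) (BT.node (nat_lit 11446784) (BT.node (nat_lit 11446720) (BT.leaf (nat_lit 49530885)) (BT.leaf (nat_lit 45777157))) (BT.node (nat_lit 11446787) (BT.leaf (nat_lit 32441109)) (BT.leaf (nat_lit 768696)))))) (BT.node (nat_lit 11447296) (BT.node (nat_lit 11447041) (BT.node (nat_lit 11446976) (BT.node (nat_lit 11446912) (BT.leaf (nat_lit 41787149)) (BT.leaf (nat_lit 49558809))) (BT.node (nat_lit 11447040) (BT.leaf (nat_lit 41970705)) (BT.leaf (nat_lit 32359965)))) (BT.node (nat_lit 11447168) (BT.node (nat_lit 11447104) (BT.leaf (nat_lit 770756)) (BT.leaf (nat_lit 49382689))) (BT.node (nat_lit 11447232) (BT.leaf (nat_lit 41569029)) (BT.leaf (nat_lit 40872461))))) (BT.node (nat_lit 11447616) (BT.node (nat_lit 11447488) (BT.node (nat_lit 11447424) (BT.leaf (nat_lit 45788953)) (BT.leaf (nat_lit 39739917))) (BT.node (nat_lit 11447552) (BT.leaf (nat_lit 48940053)) (BT.leaf (nat_lit 41247493)))) (BT.node (nat_lit 11447872) (BT.node (nat_lit 11447680) (BT.leaf (nat_lit 32672029)) (BT.leaf (nat_lit 43444245))) (BT.node (nat_lit 11447936) (BT.leaf (nat_lit 44238601)) (BT.leaf (nat_lit 41385229))))))) (BT.node (nat_lit 11448960) (BT.node (nat_lit 11448448) (BT.node (nat_lit 11448256) (BT.node (nat_lit 11448128) (BT.node (nat_lit 11448064) (BT.leaf (nat_lit 45828105)) (BT.leaf (nat_lit 38517021))) (BT.node (nat_lit 11448192) (BT.leaf (nat_lit 40408849)) (BT.leaf (nat_lit 45144341)))) (BT.node (nat_lit 11448328) (BT.node (nat_lit 11448320) (BT.leaf (nat_lit 42977569)) (BT.leaf (nat_lit 48221193))) (BT.node (nat_lit 11448384) (BT.leaf (nat_lit 807984)) (BT.leaf (nat_lit 36391437))))) (BT.node (nat_lit 11448704) (BT.node (nat_lit 11448576) (BT.node (nat_lit 11448512) (BT.leaf (nat_lit 36391453)) (BT.leaf (nat_lit 30861601))) (BT.node (nat_lit 11448640) (BT.leaf (nat_lit 38501381)) (BT.leaf (nat_lit 44000033)))) (BT.node (nat_lit 11448832) (BT.node (nat_lit 11448768) (BT.leaf (nat_lit 32643337)) (BT.leaf (nat_lit 32643597))) (BT.node (nat_lit 11448896) (BT.leaf (nat_lit 32643341)) (BT.leaf (nat_lit 32643593)))))) (BT.node (nat_lit 11449472) (BT.node (nat_lit 11449216) (BT.node (nat_lit 11449088) (BT.node (nat_lit 11449024) (BT.leaf (nat_lit 32642837)) (BT.leaf (nat_lit 40460561))) (BT.node (nat_lit 11449152) (BT.leaf (nat_lit 45793305)) (BT.leaf (nat_lit 42262289)))) (BT.node (nat_lit 11449344) (BT.node (nat_lit 11449280) (BT.leaf (nat_lit 37630749)) (BT.leaf (nat_lit 40920609))) (BT.node (nat_lit 11449408) (BT.leaf (nat_lit 45958929)) (BT.leaf (nat_lit 32664585))))) (BT.node (nat_lit 11449728) (BT.node (nat_lit 11449600) (BT.node (nat_lit 11449536) (BT.leaf (nat_lit 32623125)) (BT.leaf (nat_lit 52184349))) (BT.node (nat_lit 11449664) (BT.leaf (nat_lit 29489185)) (BT.leaf (nat_lit 31905569)))) (BT.node (nat_lit 11449856) (BT.node (nat_lit 11449792) (BT.leaf (nat_lit 32647701)) (BT.leaf (nat_lit 31904289))) (BT.node (nat_lit 11449920) (BT.leaf (nat_lit 47311369)) (BT.leaf (nat_lit 43834649)))))))))) (BT.node (nat_lit 11458368) (BT.node (nat_lit 11454016) (BT.node (nat_lit 11452096) (BT.node (nat_lit 11451008) (BT.node (nat_lit 11450496) (BT.node (nat_lit 11450176) (BT.node (nat_lit 11450112) (BT.node (nat_lit 11450048) (BT.leaf (nat_lit 29490181)) (BT.leaf (nat_lit 41118225))) (BT.node (nat_lit 11450120) (BT.leaf (nat_lit 44968201)) (BT.leaf (nat_lit 775740)))) (BT.node (nat_lit 11450368) (BT.node (nat_lit 11450240) (BT.leaf (nat_lit 42528529)) (BT.leaf (nat_lit 32793357))) (BT.node (nat_lit 11450432) (BT.leaf (nat_lit 32644369)) (BT.leaf (nat_lit 37624341))))) (BT.node (nat_lit 11450752) (BT.node (nat_lit 11450624) (BT.node (nat_lit 11450560) (BT.leaf (nat_lit 41316129)) (BT.leaf (nat_lit 43010313))) (BT.node (nat_lit 11450688) (BT.leaf (nat_lit 49534497)) (BT.leaf (nat_lit 47516701)))) (BT.node (nat_lit 11450880) (BT.node (nat_lit 11450816) (BT.leaf (nat_lit 32666637)) (BT.leaf (nat_lit 37625121))) (BT.node (nat_lit 11450944) (BT.leaf (nat_lit 42026257)) (BT.leaf (nat_lit 42982689)))))) (BT.node (nat_lit 11451520) (BT.node (nat_lit 11451264) (BT.node (nat_lit 11451136) (BT.node (nat_lit 11451072) (BT.leaf (nat_lit 29491221)) (BT.leaf (nat_lit 32664601))) (BT.node (nat_lit 11451200) (BT.leaf (nat_lit 45797657)) (BT.leaf (nat_lit 42529041)))) (BT.node (nat_lit 11451392) (BT.node (nat_lit 11451328) (BT.leaf (nat_lit 32664589)) (BT.leaf (nat_lit 37626913))) (BT.node (nat_lit 11451456) (BT.leaf (nat_lit 45764621)) (BT.leaf (nat_lit 43803921))))) (BT.node (nat_lit 11451776) (BT.node (nat_lit 11451648) (BT.node (nat_lit 11451584) (BT.leaf (nat_lit 48160777)) (BT.leaf (nat_lit 49326369))) (BT.node (nat_lit 11451712) (BT.leaf (nat_lit 32796181)) (BT.leaf (nat_lit 45789217)))) (BT.node (nat_lit 11451968) (BT.node (nat_lit 11451840) (BT.leaf (nat_lit 45788961)) (BT.leaf (nat_lit 43810309))) (BT.node (nat_lit 11452032) (BT.leaf (nat_lit 38303009)) (BT.leaf (nat_lit 41623565))))))) (BT.node (nat_lit 11452997) (BT.node (nat_lit 11452487) (BT.node (nat_lit 11452352) (BT.node (nat_lit 11452224) (BT.node (nat_lit 11452160) (BT.leaf (nat_lit 48901905)) (BT.leaf (nat_lit 32795677))) (BT.node (nat_lit 11452288) (BT.leaf (nat_lit 38938133)) (BT.leaf (nat_lit 43613217)))) (BT.node (nat_lit 11452480) (BT.node (nat_lit 11452416) (BT.leaf (nat_lit 43605525)) (BT.leaf (nat_lit 32229137))) (BT.node (nat_lit 11452486) (BT.leaf (nat_lit 35279645)) (BT.leaf (nat_lit 797860))))) (BT.node (nat_lit 11452800) (BT.node (nat_lit 11452672) (BT.node (nat_lit 11452608) (BT.leaf (nat_lit 797860)) (BT.leaf (nat_lit 45432073))) (BT.node (nat_lit 11452736) (BT.leaf (nat_lit 45432081)) (BT.leaf (nat_lit 35217941)))) (BT.node (nat_lit 11452992) (BT.node (nat_lit 11452928) (BT.leaf (nat_lit 32650517)) (BT.leaf (nat_lit 30822429))) (BT.node (nat_lit 11452993) (BT.leaf (nat_lit 42144281)) (BT.leaf (nat_lit 718076)))))) (BT.node (nat_lit 11453504) (BT.node (nat_lit 11453248) (BT.node (nat_lit 11453120) (BT.node (nat_lit 11453056) (BT.leaf (nat_lit 718076)) (BT.leaf (nat_lit 37708805))) (BT.node (nat_lit 11453184) (BT.leaf (nat_lit 45604113)) (BT.leaf (nat_lit 47937293)))) (BT.node (nat_lit 11453376) (BT.node (nat_lit 11453312) (BT.leaf (nat_lit 34918425)) (BT.leaf (nat_lit 43318793))) (BT.node (nat_lit 11453440) (BT.leaf (nat_lit 41335057)) (BT.leaf (nat_lit 51725833))))) (BT.node (nat_lit 11453699) (BT.node (nat_lit 11453632) (BT.node (nat_lit 11453568) (BT.leaf (nat_lit 31135769)) (BT.leaf (nat_lit 32970017))) (BT.node (nat_lit 11453696) (BT.leaf (nat_lit 32654625)) (BT.leaf (nat_lit 43713045)))) (BT.node (nat_lit 11453888) (BT.node (nat_lit 11453760) (BT.leaf (nat_lit 757780)) (BT.leaf (nat_lit 44258577))) (BT.node (nat_lit 11453952) (BT.leaf (nat_lit 43315485)) (BT.leaf (nat_lit 43389965)))))))) (BT.node (nat_lit 11456128) (BT.node (nat_lit 11455104) (BT.node (nat_lit 11454528) (BT.node (nat_lit 11454272) (BT.node (nat_lit 11454144) (BT.node (nat_lit 11454080) (BT.leaf (nat_lit 49760545)) (BT.leaf (nat_lit 34823449))) (BT.node (nat_lit 11454208) (BT.leaf (nat_lit 29139993)) (BT.leaf (nat_lit 38552593)))) (BT.node (nat_lit 11454400) (BT.node (nat_lit 11454336) (BT.leaf (nat_lit 37750805)) (BT.leaf (nat_lit 32653341))) (BT.node (nat_lit 11454464) (BT.leaf (nat_lit 39499021)) (BT.leaf (nat_lit 44154141))))) (BT.node (nat_lit 11454784) (BT.node (nat_lit 11454656) (BT.node (nat_lit 11454592) (BT.leaf (nat_lit 32654605)) (BT.leaf (nat_lit 32682509))) (BT.node (nat_lit 11454720) (BT.leaf (nat_lit 41239829)) (BT.leaf (nat_lit 32655637)))) (BT.node (nat_lit 11454912) (BT.node (nat_lit 11454848) (BT.leaf (nat_lit 37118481)) (BT.leaf (nat_lit 32655381))) (BT.node (nat_lit 11455040) (BT.leaf (nat_lit 49540629)) (BT.leaf (nat_lit 49540105)))))) (BT.node (nat_lit 11455616) (BT.node (nat_lit 11455360) (BT.node (nat_lit 11455232) (BT.node (nat_lit 11455168) (BT.leaf (nat_lit 32655377)) (BT.leaf (nat_lit 32655121))) (BT.node (nat_lit 11455296) (BT.leaf (nat_lit 40839189)) (BT.leaf (nat_lit 40839193)))) (BT.node (nat_lit 11455488) (BT.node (nat_lit 11455424) (BT.leaf (nat_lit 40839197)) (BT.leaf (nat_lit 35223833))) (BT.node (nat_lit 11455552) (BT.leaf (nat_lit 41798929)) (BT.leaf (nat_lit 37118225))))) (BT.node (nat_lit 11455872) (BT.node (nat_lit 11455744) (BT.node (nat_lit 11455680) (BT.leaf (nat_lit 44063749)) (BT.leaf (nat_lit 32655889))) (BT.node (nat_lit 11455808) (BT.leaf (nat_lit 32655633)) (BT.leaf (nat_lit 44063765)))) (BT.node (nat_lit 11456000) (BT.node (nat_lit 11455936) (BT.leaf (nat_lit 44762913)) (BT.leaf (nat_lit 41273877))) (BT.node (nat_lit 11456064) (BT.leaf (nat_lit 32631573)) (BT.leaf (nat_lit 43053089))))))) (BT.node (nat_lit 11457216) (BT.node (nat_lit 11456704) (BT.node (nat_lit 11456448) (BT.node (nat_lit 11456320) (BT.node (nat_lit 11456192) (BT.leaf (nat_lit 40916505)) (BT.leaf (nat_lit 40200721))) (BT.node (nat_lit 11456384) (BT.leaf (nat_lit 49549341)) (BT.leaf (nat_lit 42857761)))) (BT.node (nat_lit 11456576) (BT.node (nat_lit 11456512) (BT.leaf (nat_lit 35224849)) (BT.leaf (nat_lit 38175513))) (BT.node (nat_lit 11456640) (BT.leaf (nat_lit 48377121)) (BT.leaf (nat_lit 39659805))))) (BT.node (nat_lit 11456960) (BT.node (nat_lit 11456832) (BT.node (nat_lit 11456768) (BT.leaf (nat_lit 30856733)) (BT.leaf (nat_lit 31936277))) (BT.node (nat_lit 11456896) (BT.leaf (nat_lit 32661273)) (BT.leaf (nat_lit 45711893)))) (BT.node (nat_lit 11457088) (BT.node (nat_lit 11457024) (BT.leaf (nat_lit 45827609)) (BT.leaf (nat_lit 42797073))) (BT.node (nat_lit 11457152) (BT.leaf (nat_lit 40778509)) (BT.leaf (nat_lit 32664093)))))) (BT.node (nat_lit 11457856) (BT.node (nat_lit 11457600) (BT.node (nat_lit 11457344) (BT.node (nat_lit 11457280) (BT.leaf (nat_lit 39665425)) (BT.leaf (nat_lit 40872473))) (BT.node (nat_lit 11457536) (BT.leaf (nat_lit 32664089)) (BT.leaf (nat_lit 35228949)))) (BT.node (nat_lit 11457728) (BT.node (nat_lit 11457664) (BT.leaf (nat_lit 42055429)) (BT.leaf (nat_lit 41390341))) (BT.node (nat_lit 11457792) (BT.leaf (nat_lit 39276049)) (BT.leaf (nat_lit 41390597))))) (BT.node (nat_lit 11458112) (BT.node (nat_lit 11457984) (BT.node (nat_lit 11457920) (BT.leaf (nat_lit 32664841)) (BT.leaf (nat_lit 32665109))) (BT.node (nat_lit 11458048) (BT.leaf (nat_lit 41392929)) (BT.leaf (nat_lit 49514253)))) (BT.node (nat_lit 11458240) (BT.node (nat_lit 11458176) (BT.leaf (nat_lit 32665105)) (BT.leaf (nat_lit 32770069))) (BT.node (nat_lit 11458304) (BT.leaf (nat_lit 32770073)) (BT.leaf (nat_lit 32770077))))))))) (BT.node (nat_lit 11462464) (BT.node (nat_lit 11460480) (BT.node (nat_lit 11459392) (BT.node (nat_lit 11458880) (BT.node (nat_lit 11458624) (BT.node (nat_lit 11458496) (BT.node (nat_lit 11458432) (BT.leaf (nat_lit 32665617)) (BT.leaf (nat_lit 40309781))) (BT.node (nat_lit 11458560) (BT.leaf (nat_lit 43935513)) (BT.leaf (nat_lit 43935517)))) (BT.node (nat_lit 11458752) (BT.node (nat_lit 11458688) (BT.leaf (nat_lit 45960201)) (BT.leaf (nat_lit 32643613))) (BT.node (nat_lit 11458816) (BT.leaf (nat_lit 39007249)) (BT.leaf (nat_lit 45963029))))) (BT.node (nat_lit 11459136) (BT.node (nat_lit 11459008) (BT.node (nat_lit 11458944) (BT.leaf (nat_lit 45960225)) (BT.leaf (nat_lit 31839777))) (BT.node (nat_lit 11459072) (BT.leaf (nat_lit 32665889)) (BT.leaf (nat_lit 37631237)))) (BT.node (nat_lit 11459264) (BT.node (nat_lit 11459200) (BT.leaf (nat_lit 29531169)) (BT.leaf (nat_lit 37631509))) (BT.node (nat_lit 11459328) (BT.leaf (nat_lit 29406725)) (BT.leaf (nat_lit 32666629)))))) (BT.node (nat_lit 11459968) (BT.node (nat_lit 11459712) (BT.node (nat_lit 11459584) (BT.node (nat_lit 11459456) (BT.leaf (nat_lit 42979333)) (BT.leaf (nat_lit 32665873))) (BT.node (nat_lit 11459648) (BT.leaf (nat_lit 41400609)) (BT.leaf (nat_lit 41400353)))) (BT.node (nat_lit 11459840) (BT.node (nat_lit 11459776) (BT.leaf (nat_lit 32642833)) (BT.leaf (nat_lit 40347673))) (BT.node (nat_lit 11459904) (BT.leaf (nat_lit 40347677)) (BT.leaf (nat_lit 35103753))))) (BT.node (nat_lit 11460224) (BT.node (nat_lit 11460096) (BT.node (nat_lit 11460032) (BT.leaf (nat_lit 32666133)) (BT.leaf (nat_lit 37634337))) (BT.node (nat_lit 11460160) (BT.leaf (nat_lit 37634833)) (BT.leaf (nat_lit 35229457)))) (BT.node (nat_lit 11460352) (BT.node (nat_lit 11460288) (BT.leaf (nat_lit 46186529)) (BT.leaf (nat_lit 49545505))) (BT.node (nat_lit 11460416) (BT.leaf (nat_lit 45977885)) (BT.leaf (nat_lit 43229729))))))) (BT.node (nat_lit 11461376) (BT.node (nat_lit 11460864) (BT.node (nat_lit 11460744) (BT.node (nat_lit 11460608) (BT.node (nat_lit 11460544) (BT.leaf (nat_lit 42910225)) (BT.leaf (nat_lit 46947865))) (BT.node (nat_lit 11460736) (BT.leaf (nat_lit 42008349)) (BT.leaf (nat_lit 32791569)))) (BT.node (nat_lit 11460806) (BT.node (nat_lit 11460800) (BT.leaf (nat_lit 718420)) (BT.leaf (nat_lit 32673041))) (BT.node (nat_lit 11460807) (BT.leaf (nat_lit 718416)) (BT.leaf (nat_lit 718416))))) (BT.node (nat_lit 11461120) (BT.node (nat_lit 11460928) (BT.node (nat_lit 11460870) (BT.leaf (nat_lit 44097033)) (BT.leaf (nat_lit 774408))) (BT.node (nat_lit 11461056) (BT.leaf (nat_lit 43608597)) (BT.leaf (nat_lit 41409301)))) (BT.node (nat_lit 11461248) (BT.node (nat_lit 11461184) (BT.leaf (nat_lit 41453089)) (BT.leaf (nat_lit 48288285))) (BT.node (nat_lit 11461312) (BT.leaf (nat_lit 42142217)) (BT.leaf (nat_lit 32682249)))))) (BT.node (nat_lit 11461952) (BT.node (nat_lit 11461632) (BT.node (nat_lit 11461504) (BT.node (nat_lit 11461440) (BT.leaf (nat_lit 35232013)) (BT.leaf (nat_lit 37591317))) (BT.node (nat_lit 11461568) (BT.leaf (nat_lit 32682253)) (BT.leaf (nat_lit 32682505)))) (BT.node (nat_lit 11461824) (BT.node (nat_lit 11461760) (BT.leaf (nat_lit 35232277)) (BT.leaf (nat_lit 37594125))) (BT.node (nat_lit 11461888) (BT.leaf (nat_lit 40842501)) (BT.leaf (nat_lit 37590557))))) (BT.node (nat_lit 11462208) (BT.node (nat_lit 11462080) (BT.node (nat_lit 11462016) (BT.leaf (nat_lit 37591573)) (BT.leaf (nat_lit 35232029))) (BT.node (nat_lit 11462144) (BT.leaf (nat_lit 35232009)) (BT.leaf (nat_lit 47507489)))) (BT.node (nat_lit 11462336) (BT.node (nat_lit 11462272) (BT.leaf (nat_lit 35233041)) (BT.leaf (nat_lit 41577241))) (BT.node (nat_lit 11462400) (BT.leaf (nat_lit 39361813)) (BT.leaf (nat_lit 32683281)))))))) (BT.node (nat_lit 11464512) (BT.node (nat_lit 11463488) (BT.node (nat_lit 11462976) (BT.node (nat_lit 11462720) (BT.node (nat_lit 11462592) (BT.node (nat_lit 11462528) (BT.leaf (nat_lit 39344929)) (BT.leaf (nat_lit 32687633))) (BT.node (nat_lit 11462656) (BT.leaf (nat_lit 39123745)) (BT.leaf (nat_lit 41464581)))) (BT.node (nat_lit 11462848) (BT.node (nat_lit 11462784) (BT.leaf (nat_lit 38306585)) (BT.leaf (nat_lit 38306589))) (BT.node (nat_lit 11462912) (BT.leaf (nat_lit 44696329)) (BT.leaf (nat_lit 51747093))))) (BT.node (nat_lit 11463232) (BT.node (nat_lit 11463104) (BT.node (nat_lit 11463040) (BT.leaf (nat_lit 43061537)) (BT.leaf (nat_lit 43061281))) (BT.node (nat_lit 11463168) (BT.leaf (nat_lit 46163209)) (BT.leaf (nat_lit 32688153)))) (BT.node (nat_lit 11463360) (BT.node (nat_lit 11463296) (BT.leaf (nat_lit 32688409)) (BT.leaf (nat_lit 40187665))) (BT.node (nat_lit 11463424) (BT.leaf (nat_lit 40187669)) (BT.leaf (nat_lit 32688157)))))) (BT.node (nat_lit 11464064) (BT.node (nat_lit 11463744) (BT.node (nat_lit 11463616) (BT.node (nat_lit 11463552) (BT.leaf (nat_lit 32688413)) (BT.leaf (nat_lit 42554897))) (BT.node (nat_lit 11463680) (BT.leaf (nat_lit 42554901)) (BT.leaf (nat_lit 32695329)))) (BT.node (nat_lit 11463872) (BT.node (nat_lit 11463808) (BT.leaf (nat_lit 49707021)) (BT.leaf (nat_lit 45516829))) (BT.node (nat_lit 11464000) (BT.leaf (nat_lit 32693769)) (BT.leaf (nat_lit 45397781))))) (BT.node (nat_lit 11464256) (BT.node (nat_lit 11464131) (BT.node (nat_lit 11464128) (BT.leaf (nat_lit 32693773)) (BT.leaf (nat_lit 43443205))) (BT.node (nat_lit 11464192) (BT.leaf (nat_lit 798696)) (BT.leaf (nat_lit 49707033)))) (BT.node (nat_lit 11464384) (BT.node (nat_lit 11464320) (BT.leaf (nat_lit 45856793)) (BT.leaf (nat_lit 41210885))) (BT.node (nat_lit 11464448) (BT.leaf (nat_lit 45516049)) (BT.leaf (nat_lit 44396577))))))) (BT.node (nat_lit 11465408) (BT.node (nat_lit 11465088) (BT.node (nat_lit 11464832) (BT.node (nat_lit 11464704) (BT.node (nat_lit 11464640) (BT.leaf (nat_lit 41210913)) (BT.leaf (nat_lit 38691605))) (BT.node (nat_lit 11464768) (BT.leaf (nat_lit 38691609)) (BT.leaf (nat_lit 38691613)))) (BT.node (nat_lit 11464960) (BT.node (nat_lit 11464896) (BT.leaf (nat_lit 45483805)) (BT.leaf (nat_lit 46717457))) (BT.node (nat_lit 11465024) (BT.leaf (nat_lit 28834321)) (BT.leaf (nat_lit 45859865))))) (BT.node (nat_lit 11465220) (BT.node (nat_lit 11465152) (BT.node (nat_lit 11465092) (BT.leaf (nat_lit 33038865)) (BT.leaf (nat_lit 778164))) (BT.node (nat_lit 11465216) (BT.leaf (nat_lit 45860377)) (BT.leaf (nat_lit 41137925)))) (BT.node (nat_lit 11465284) (BT.node (nat_lit 11465280) (BT.leaf (nat_lit 716648)) (BT.leaf (nat_lit 44061453))) (BT.node (nat_lit 11465344) (BT.leaf (nat_lit 716636)) (BT.leaf (nat_lit 35240981)))))) (BT.node (nat_lit 11465856) (BT.node (nat_lit 11465600) (BT.node (nat_lit 11465472) (BT.node (nat_lit 11465413) (BT.leaf (nat_lit 41148185)) (BT.leaf (nat_lit 774724))) (BT.node (nat_lit 11465536) (BT.leaf (nat_lit 39995401)) (BT.leaf (nat_lit 39995405)))) (BT.node (nat_lit 11465728) (BT.node (nat_lit 11465664) (BT.leaf (nat_lit 51739933)) (BT.leaf (nat_lit 41112853))) (BT.node (nat_lit 11465792) (BT.leaf (nat_lit 32465945)) (BT.leaf (nat_lit 39404821))))) (BT.node (nat_lit 11466112) (BT.node (nat_lit 11465984) (BT.node (nat_lit 11465920) (BT.leaf (nat_lit 50918917)) (BT.leaf (nat_lit 50918921))) (BT.node (nat_lit 11466048) (BT.leaf (nat_lit 50918925)) (BT.leaf (nat_lit 46116373)))) (BT.node (nat_lit 11466240) (BT.node (nat_lit 11466176) (BT.leaf (nat_lit 45864217)) (BT.leaf (nat_lit 32700429))) (BT.node (nat_lit 11466304) (BT.leaf (nat_lit 39400985)) (BT.leaf (nat_lit 32700937)))))))))))) (BT.node (nat_lit 11501184) (BT.node (nat_lit 11483648) (BT.node (nat_lit 11475456) (BT.node (nat_lit 11470912) (BT.node (nat_lit 11468672) (BT.node (nat_lit 11467520) (BT.node (nat_lit 11466944) (BT.node (nat_lit 11466688) (BT.node (nat_lit 11466496) (BT.node (nat_lit 11466432) (BT.leaf (nat_lit 32700425)) (BT.leaf (nat_lit 46311449))) (BT.node (nat_lit 11466560) (BT.leaf (nat_lit 46311453)) (BT.leaf (nat_lit 46311457)))) (BT.node (nat_lit 11466816) (BT.node (nat_lit 11466752) (BT.leaf (nat_lit 32700957)) (BT.leaf (nat_lit 31417109))) (BT.node (nat_lit 11466880) (BT.leaf (nat_lit 48584977)) (BT.leaf (nat_lit 46109973))))) (BT.node (nat_lit 11467264) (BT.node (nat_lit 11467072) (BT.node (nat_lit 11467008) (BT.leaf (nat_lit 39671557)) (BT.leaf (nat_lit 41159953))) (BT.node (nat_lit 11467136) (BT.leaf (nat_lit 48201505)) (BT.leaf (nat_lit 41163013)))) (BT.node (nat_lit 11467392) (BT.node (nat_lit 11467328) (BT.leaf (nat_lit 41162501)) (BT.leaf (nat_lit 46073873))) (BT.node (nat_lit 11467456) (BT.leaf (nat_lit 39967765)) (BT.leaf (nat_lit 40193545)))))) (BT.node (nat_lit 11468160) (BT.node (nat_lit 11467776) (BT.node (nat_lit 11467648) (BT.node (nat_lit 11467584) (BT.leaf (nat_lit 40193549)) (BT.leaf (nat_lit 40193561))) (BT.node (nat_lit 11467712) (BT.leaf (nat_lit 40193565)) (BT.leaf (nat_lit 41172257)))) (BT.node (nat_lit 11467968) (BT.node (nat_lit 11467840) (BT.leaf (nat_lit 42523425)) (BT.leaf (nat_lit 45147417))) (BT.node (nat_lit 11468096) (BT.leaf (nat_lit 40082197)) (BT.leaf (nat_lit 45013533))))) (BT.node (nat_lit 11468416) (BT.node (nat_lit 11468288) (BT.node (nat_lit 11468224) (BT.leaf (nat_lit 32447765)) (BT.leaf (nat_lit 38211093))) (BT.node (nat_lit 11468352) (BT.leaf (nat_lit 32705301)) (BT.leaf (nat_lit 41727001)))) (BT.node (nat_lit 11468544) (BT.node (nat_lit 11468480) (BT.leaf (nat_lit 41727005)) (BT.leaf (nat_lit 45608709))) (BT.node (nat_lit 11468608) (BT.leaf (nat_lit 45608721)) (BT.leaf (nat_lit 35104525))))))) (BT.node (nat_lit 11469888) (BT.node (nat_lit 11469312) (BT.node (nat_lit 11469056) (BT.node (nat_lit 11468928) (BT.node (nat_lit 11468800) (BT.leaf (nat_lit 45608737)) (BT.leaf (nat_lit 32705057))) (BT.node (nat_lit 11468992) (BT.leaf (nat_lit 46910753)) (BT.leaf (nat_lit 46162437)))) (BT.node (nat_lit 11469184) (BT.node (nat_lit 11469120) (BT.leaf (nat_lit 46144801)) (BT.leaf (nat_lit 41774357))) (BT.node (nat_lit 11469248) (BT.leaf (nat_lit 38967065)) (BT.leaf (nat_lit 38967069))))) (BT.node (nat_lit 11469568) (BT.node (nat_lit 11469440) (BT.node (nat_lit 11469376) (BT.leaf (nat_lit 32706065)) (BT.leaf (nat_lit 49584921))) (BT.node (nat_lit 11469504) (BT.leaf (nat_lit 31932953)) (BT.leaf (nat_lit 37907217)))) (BT.node (nat_lit 11469696) (BT.node (nat_lit 11469632) (BT.leaf (nat_lit 43717141)) (BT.leaf (nat_lit 32707357))) (BT.node (nat_lit 11469824) (BT.leaf (nat_lit 43413013)) (BT.leaf (nat_lit 42042117)))))) (BT.node (nat_lit 11470400) (BT.node (nat_lit 11470144) (BT.node (nat_lit 11470016) (BT.node (nat_lit 11469952) (BT.leaf (nat_lit 32707857)) (BT.leaf (nat_lit 45880093))) (BT.node (nat_lit 11470080) (BT.leaf (nat_lit 41701125)) (BT.leaf (nat_lit 32708369)))) (BT.node (nat_lit 11470272) (BT.node (nat_lit 11470208) (BT.leaf (nat_lit 44114949)) (BT.leaf (nat_lit 45880601))) (BT.node (nat_lit 11470336) (BT.leaf (nat_lit 44822289)) (BT.leaf (nat_lit 32707613))))) (BT.node (nat_lit 11470656) (BT.node (nat_lit 11470528) (BT.node (nat_lit 11470464) (BT.leaf (nat_lit 40060177)) (BT.leaf (nat_lit 43436041))) (BT.node (nat_lit 11470592) (BT.leaf (nat_lit 45191441)) (BT.leaf (nat_lit 32358925)))) (BT.node (nat_lit 11470784) (BT.node (nat_lit 11470720) (BT.leaf (nat_lit 45532937)) (BT.leaf (nat_lit 45882125))) (BT.node (nat_lit 11470849) (BT.leaf (nat_lit 43641365)) (BT.leaf (nat_lit 720260)))))))) (BT.node (nat_lit 11473152) (BT.node (nat_lit 11472000) (BT.node (nat_lit 11471488) (BT.node (nat_lit 11471232) (BT.node (nat_lit 11471104) (BT.node (nat_lit 11471040) (BT.leaf (nat_lit 46096413)) (BT.leaf (nat_lit 49326617))) (BT.node (nat_lit 11471168) (BT.leaf (nat_lit 45885465)) (BT.leaf (nat_lit 44487429)))) (BT.node (nat_lit 11471360) (BT.node (nat_lit 11471296) (BT.leaf (nat_lit 44487441)) (BT.leaf (nat_lit 40520973))) (BT.node (nat_lit 11471424) (BT.leaf (nat_lit 44487457)) (BT.leaf (nat_lit 45882645))))) (BT.node (nat_lit 11471744) (BT.node (nat_lit 11471680) (BT.node (nat_lit 11471552) (BT.leaf (nat_lit 45882649)) (BT.leaf (nat_lit 45882653))) (BT.node (nat_lit 11471685) (BT.leaf (nat_lit 32709665)) (BT.leaf (nat_lit 721396)))) (BT.node (nat_lit 11471872) (BT.node (nat_lit 11471808) (BT.leaf (nat_lit 48589061)) (BT.leaf (nat_lit 32552209))) (BT.node (nat_lit 11471936) (BT.leaf (nat_lit 45528085)) (BT.leaf (nat_lit 41698329)))))) (BT.node (nat_lit 11472640) (BT.node (nat_lit 11472384) (BT.node (nat_lit 11472256) (BT.node (nat_lit 11472128) (BT.leaf (nat_lit 41698333)) (BT.leaf (nat_lit 48376857))) (BT.node (nat_lit 11472320) (BT.leaf (nat_lit 41698053)) (BT.leaf (nat_lit 41698065)))) (BT.node (nat_lit 11472512) (BT.node (nat_lit 11472448) (BT.leaf (nat_lit 32710169)) (BT.leaf (nat_lit 41227285))) (BT.node (nat_lit 11472576) (BT.leaf (nat_lit 48356613)) (BT.leaf (nat_lit 32913177))))) (BT.node (nat_lit 11472896) (BT.node (nat_lit 11472768) (BT.node (nat_lit 11472704) (BT.leaf (nat_lit 30334481)) (BT.leaf (nat_lit 38555413))) (BT.node (nat_lit 11472832) (BT.leaf (nat_lit 35617309)) (BT.leaf (nat_lit 51262749)))) (BT.node (nat_lit 11473024) (BT.node (nat_lit 11472960) (BT.leaf (nat_lit 42530569)) (BT.leaf (nat_lit 46076933))) (BT.node (nat_lit 11473088) (BT.leaf (nat_lit 37874953)) (BT.leaf (nat_lit 37874957))))))) (BT.node (nat_lit 11474368) (BT.node (nat_lit 11473728) (BT.node (nat_lit 11473408) (BT.node (nat_lit 11473280) (BT.node (nat_lit 11473216) (BT.leaf (nat_lit 35254293)) (BT.leaf (nat_lit 41219361))) (BT.node (nat_lit 11473344) (BT.leaf (nat_lit 42349601)) (BT.leaf (nat_lit 41214497)))) (BT.node (nat_lit 11473536) (BT.node (nat_lit 11473472) (BT.leaf (nat_lit 46069253)) (BT.leaf (nat_lit 46758421))) (BT.node (nat_lit 11473664) (BT.leaf (nat_lit 45894429)) (BT.leaf (nat_lit 34379801))))) (BT.node (nat_lit 11474112) (BT.node (nat_lit 11473920) (BT.node (nat_lit 11473792) (BT.leaf (nat_lit 32610585)) (BT.leaf (nat_lit 40179729))) (BT.node (nat_lit 11473984) (BT.leaf (nat_lit 32719645)) (BT.leaf (nat_lit 32719129)))) (BT.node (nat_lit 11474240) (BT.node (nat_lit 11474176) (BT.leaf (nat_lit 37767701)) (BT.leaf (nat_lit 31975193))) (BT.node (nat_lit 11474304) (BT.leaf (nat_lit 49380637)) (BT.leaf (nat_lit 38078481)))))) (BT.node (nat_lit 11474945) (BT.node (nat_lit 11474688) (BT.node (nat_lit 11474560) (BT.node (nat_lit 11474432) (BT.leaf (nat_lit 38280993)) (BT.leaf (nat_lit 45391645))) (BT.node (nat_lit 11474624) (BT.leaf (nat_lit 32721685)) (BT.leaf (nat_lit 44632077)))) (BT.node (nat_lit 11474880) (BT.node (nat_lit 11474816) (BT.leaf (nat_lit 32356893)) (BT.leaf (nat_lit 32356873))) (BT.node (nat_lit 11474944) (BT.leaf (nat_lit 39839265)) (BT.leaf (nat_lit 31980833))))) (BT.node (nat_lit 11475200) (BT.node (nat_lit 11475072) (BT.node (nat_lit 11475008) (BT.leaf (nat_lit 766920)) (BT.leaf (nat_lit 43287833))) (BT.node (nat_lit 11475136) (BT.leaf (nat_lit 41779745)) (BT.leaf (nat_lit 43355417)))) (BT.node (nat_lit 11475328) (BT.node (nat_lit 11475264) (BT.leaf (nat_lit 32724233)) (BT.leaf (nat_lit 43356189))) (BT.node (nat_lit 11475392) (BT.leaf (nat_lit 43356193)) (BT.leaf (nat_lit 44841221))))))))) (BT.node (nat_lit 11479488) (BT.node (nat_lit 11477312) (BT.node (nat_lit 11476224) (BT.node (nat_lit 11475651) (BT.node (nat_lit 11475523) (BT.node (nat_lit 11475521) (BT.node (nat_lit 11475520) (BT.leaf (nat_lit 45902109)) (BT.leaf (nat_lit 30890769))) (BT.node (nat_lit 11475522) (BT.leaf (nat_lit 755408)) (BT.leaf (nat_lit 755408)))) (BT.node (nat_lit 11475584) (BT.node (nat_lit 11475528) (BT.leaf (nat_lit 755408)) (BT.leaf (nat_lit 755408))) (BT.node (nat_lit 11475648) (BT.leaf (nat_lit 45393417)) (BT.leaf (nat_lit 45901829))))) (BT.node (nat_lit 11475968) (BT.node (nat_lit 11475776) (BT.node (nat_lit 11475712) (BT.leaf (nat_lit 794948)) (BT.leaf (nat_lit 32724257))) (BT.node (nat_lit 11475840) (BT.leaf (nat_lit 45393437)) (BT.leaf (nat_lit 46894869)))) (BT.node (nat_lit 11476096) (BT.node (nat_lit 11476032) (BT.leaf (nat_lit 31976725)) (BT.leaf (nat_lit 45479189))) (BT.node (nat_lit 11476160) (BT.leaf (nat_lit 40957457)) (BT.leaf (nat_lit 32724245)))))) (BT.node (nat_lit 11476800) (BT.node (nat_lit 11476480) (BT.node (nat_lit 11476352) (BT.node (nat_lit 11476288) (BT.leaf (nat_lit 47641377)) (BT.leaf (nat_lit 40356625))) (BT.node (nat_lit 11476416) (BT.leaf (nat_lit 49680413)) (BT.leaf (nat_lit 34872605)))) (BT.node (nat_lit 11476672) (BT.node (nat_lit 11476608) (BT.leaf (nat_lit 32724765)) (BT.leaf (nat_lit 45390613))) (BT.node (nat_lit 11476736) (BT.leaf (nat_lit 41007393)) (BT.leaf (nat_lit 32726049))))) (BT.node (nat_lit 11477056) (BT.node (nat_lit 11476928) (BT.node (nat_lit 11476864) (BT.leaf (nat_lit 45455373)) (BT.leaf (nat_lit 41007377))) (BT.node (nat_lit 11476992) (BT.leaf (nat_lit 41007381)) (BT.leaf (nat_lit 38760465)))) (BT.node (nat_lit 11477184) (BT.node (nat_lit 11477120) (BT.leaf (nat_lit 39972105)) (BT.leaf (nat_lit 39972109))) (BT.node (nat_lit 11477248) (BT.leaf (nat_lit 30663709)) (BT.leaf (nat_lit 39972121))))))) (BT.node (nat_lit 11478528) (BT.node (nat_lit 11478016) (BT.node (nat_lit 11477568) (BT.node (nat_lit 11477440) (BT.node (nat_lit 11477376) (BT.leaf (nat_lit 39972125)) (BT.leaf (nat_lit 48164625))) (BT.node (nat_lit 11477504) (BT.leaf (nat_lit 45507605)) (BT.leaf (nat_lit 49270037)))) (BT.node (nat_lit 11477696) (BT.node (nat_lit 11477632) (BT.leaf (nat_lit 42285829)) (BT.leaf (nat_lit 45930273))) (BT.node (nat_lit 11477760) (BT.leaf (nat_lit 42929677)) (BT.leaf (nat_lit 48750085))))) (BT.node (nat_lit 11478272) (BT.node (nat_lit 11478144) (BT.node (nat_lit 11478080) (BT.leaf (nat_lit 38556185)) (BT.leaf (nat_lit 32727577))) (BT.node (nat_lit 11478208) (BT.leaf (nat_lit 32727833)) (BT.leaf (nat_lit 39120145)))) (BT.node (nat_lit 11478400) (BT.node (nat_lit 11478336) (BT.leaf (nat_lit 35258909)) (BT.leaf (nat_lit 32728349))) (BT.node (nat_lit 11478464) (BT.leaf (nat_lit 32727581)) (BT.leaf (nat_lit 32727837)))))) (BT.node (nat_lit 11478976) (BT.node (nat_lit 11478784) (BT.node (nat_lit 11478656) (BT.node (nat_lit 11478592) (BT.leaf (nat_lit 47879961)) (BT.leaf (nat_lit 32728345))) (BT.node (nat_lit 11478720) (BT.leaf (nat_lit 37955353)) (BT.leaf (nat_lit 38048529)))) (BT.node (nat_lit 11478855) (BT.node (nat_lit 11478851) (BT.leaf (nat_lit 43652377)) (BT.leaf (nat_lit 717648))) (BT.node (nat_lit 11478912) (BT.leaf (nat_lit 717648)) (BT.leaf (nat_lit 41105669))))) (BT.node (nat_lit 11479232) (BT.node (nat_lit 11479104) (BT.node (nat_lit 11479040) (BT.leaf (nat_lit 41004065)) (BT.leaf (nat_lit 45553677))) (BT.node (nat_lit 11479168) (BT.leaf (nat_lit 33013777)) (BT.leaf (nat_lit 41941781)))) (BT.node (nat_lit 11479360) (BT.node (nat_lit 11479296) (BT.leaf (nat_lit 32735765)) (BT.leaf (nat_lit 32490265))) (BT.node (nat_lit 11479424) (BT.leaf (nat_lit 42935065)) (BT.leaf (nat_lit 45811489)))))))) (BT.node (nat_lit 11481472) (BT.node (nat_lit 11480448) (BT.node (nat_lit 11479814) (BT.node (nat_lit 11479744) (BT.node (nat_lit 11479616) (BT.node (nat_lit 11479552) (BT.leaf (nat_lit 37824793)) (BT.leaf (nat_lit 40751889))) (BT.node (nat_lit 11479680) (BT.leaf (nat_lit 32738333)) (BT.leaf (nat_lit 32490509)))) (BT.node (nat_lit 11479810) (BT.node (nat_lit 11479808) (BT.leaf (nat_lit 38759445)) (BT.leaf (nat_lit 43591445))) (BT.node (nat_lit 11479811) (BT.leaf (nat_lit 757924)) (BT.leaf (nat_lit 757924))))) (BT.node (nat_lit 11480128) (BT.node (nat_lit 11480000) (BT.node (nat_lit 11479872) (BT.leaf (nat_lit 757924)) (BT.leaf (nat_lit 43591449))) (BT.node (nat_lit 11480064) (BT.leaf (nat_lit 45583369)) (BT.leaf (nat_lit 40750881)))) (BT.node (nat_lit 11480320) (BT.node (nat_lit 11480192) (BT.leaf (nat_lit 45556505)) (BT.leaf (nat_lit 41001753))) (BT.node (nat_lit 11480384) (BT.leaf (nat_lit 32739869)) (BT.leaf (nat_lit 32739865)))))) (BT.node (nat_lit 11480960) (BT.node (nat_lit 11480704) (BT.node (nat_lit 11480576) (BT.node (nat_lit 11480512) (BT.leaf (nat_lit 41543713)) (BT.leaf (nat_lit 42450453))) (BT.node (nat_lit 11480640) (BT.leaf (nat_lit 39086101)) (BT.leaf (nat_lit 45922845)))) (BT.node (nat_lit 11480832) (BT.node (nat_lit 11480768) (BT.leaf (nat_lit 49410057)) (BT.leaf (nat_lit 40836113))) (BT.node (nat_lit 11480896) (BT.leaf (nat_lit 45557789)) (BT.leaf (nat_lit 40895001))))) (BT.node (nat_lit 11481216) (BT.node (nat_lit 11481088) (BT.node (nat_lit 11481024) (BT.leaf (nat_lit 39157793)) (BT.leaf (nat_lit 39157781))) (BT.node (nat_lit 11481152) (BT.leaf (nat_lit 45562889)) (BT.leaf (nat_lit 45924377)))) (BT.node (nat_lit 11481344) (BT.node (nat_lit 11481280) (BT.leaf (nat_lit 42888977)) (BT.leaf (nat_lit 42888993))) (BT.node (nat_lit 11481408) (BT.leaf (nat_lit 44470789)) (BT.leaf (nat_lit 44204313))))))) (BT.node (nat_lit 11482624) (BT.node (nat_lit 11481984) (BT.node (nat_lit 11481728) (BT.node (nat_lit 11481600) (BT.node (nat_lit 11481536) (BT.leaf (nat_lit 44204317)) (BT.leaf (nat_lit 33696785))) (BT.node (nat_lit 11481664) (BT.leaf (nat_lit 31997701)) (BT.leaf (nat_lit 33011461)))) (BT.node (nat_lit 11481856) (BT.node (nat_lit 11481792) (BT.leaf (nat_lit 49740573)) (BT.leaf (nat_lit 43822097))) (BT.node (nat_lit 11481920) (BT.leaf (nat_lit 45608713)) (BT.leaf (nat_lit 49710621))))) (BT.node (nat_lit 11482304) (BT.node (nat_lit 11482112) (BT.node (nat_lit 11482048) (BT.leaf (nat_lit 39318293)) (BT.leaf (nat_lit 39318297))) (BT.node (nat_lit 11482176) (BT.leaf (nat_lit 39318301)) (BT.leaf (nat_lit 31998225)))) (BT.node (nat_lit 11482432) (BT.node (nat_lit 11482368) (BT.leaf (nat_lit 44930081)) (BT.leaf (nat_lit 44488477))) (BT.node (nat_lit 11482496) (BT.leaf (nat_lit 49427485)) (BT.leaf (nat_lit 49427989)))))) (BT.node (nat_lit 11483072) (BT.node (nat_lit 11482880) (BT.node (nat_lit 11482752) (BT.node (nat_lit 11482688) (BT.leaf (nat_lit 46727437)) (BT.leaf (nat_lit 28084245))) (BT.node (nat_lit 11482816) (BT.leaf (nat_lit 38258721)) (BT.leaf (nat_lit 44290849)))) (BT.node (nat_lit 11482944) (BT.node (nat_lit 11482882) (BT.leaf (nat_lit 40830469)) (BT.leaf (nat_lit 747472))) (BT.node (nat_lit 11483008) (BT.leaf (nat_lit 44816417)) (BT.leaf (nat_lit 43119905))))) (BT.node (nat_lit 11483392) (BT.node (nat_lit 11483264) (BT.node (nat_lit 11483136) (BT.leaf (nat_lit 38513181)) (BT.leaf (nat_lit 41458201))) (BT.node (nat_lit 11483328) (BT.leaf (nat_lit 47270173)) (BT.leaf (nat_lit 39790609)))) (BT.node (nat_lit 11483520) (BT.node (nat_lit 11483456) (BT.leaf (nat_lit 29562137)) (BT.leaf (nat_lit 38591761))) (BT.node (nat_lit 11483584) (BT.leaf (nat_lit 38591765)) (BT.leaf (nat_lit 32371473)))))))))) (BT.node (nat_lit 11492544) (BT.node (nat_lit 11488320) (BT.node (nat_lit 11485952) (BT.node (nat_lit 11484800) (BT.node (nat_lit 11484160) (BT.node (nat_lit 11483904) (BT.node (nat_lit 11483776) (BT.node (nat_lit 11483712) (BT.leaf (nat_lit 32497937)) (BT.leaf (nat_lit 40472853))) (BT.node (nat_lit 11483840) (BT.leaf (nat_lit 40472857)) (BT.leaf (nat_lit 40472861)))) (BT.node (nat_lit 11484032) (BT.node (nat_lit 11483968) (BT.leaf (nat_lit 32748321)) (BT.leaf (nat_lit 47689237))) (BT.node (nat_lit 11484096) (BT.leaf (nat_lit 47689241)) (BT.leaf (nat_lit 47689245))))) (BT.node (nat_lit 11484544) (BT.node (nat_lit 11484288) (BT.node (nat_lit 11484224) (BT.leaf (nat_lit 32746769)) (BT.leaf (nat_lit 32367121))) (BT.node (nat_lit 11484416) (BT.leaf (nat_lit 32747025)) (BT.leaf (nat_lit 50331653)))) (BT.node (nat_lit 11484672) (BT.node (nat_lit 11484608) (BT.leaf (nat_lit 41644293)) (BT.leaf (nat_lit 38583577))) (BT.node (nat_lit 11484736) (BT.leaf (nat_lit 41900053)) (BT.leaf (nat_lit 46406665)))))) (BT.node (nat_lit 11485318) (BT.node (nat_lit 11485120) (BT.node (nat_lit 11484928) (BT.node (nat_lit 11484864) (BT.leaf (nat_lit 44738849)) (BT.leaf (nat_lit 41100065))) (BT.node (nat_lit 11484992) (BT.leaf (nat_lit 42985505)) (BT.leaf (nat_lit 41100321)))) (BT.node (nat_lit 11485248) (BT.node (nat_lit 11485184) (BT.leaf (nat_lit 45748257)) (BT.leaf (nat_lit 40576521))) (BT.node (nat_lit 11485312) (BT.leaf (nat_lit 41066005)) (BT.leaf (nat_lit 40467973))))) (BT.node (nat_lit 11485632) (BT.node (nat_lit 11485504) (BT.node (nat_lit 11485440) (BT.leaf (nat_lit 723676)) (BT.leaf (nat_lit 46315785))) (BT.node (nat_lit 11485568) (BT.leaf (nat_lit 40464645)) (BT.leaf (nat_lit 45942041)))) (BT.node (nat_lit 11485824) (BT.node (nat_lit 11485696) (BT.leaf (nat_lit 39365657)) (BT.leaf (nat_lit 48687901))) (BT.node (nat_lit 11485888) (BT.leaf (nat_lit 41567521)) (BT.leaf (nat_lit 43118101))))))) (BT.node (nat_lit 11487040) (BT.node (nat_lit 11486528) (BT.node (nat_lit 11486208) (BT.node (nat_lit 11486080) (BT.node (nat_lit 11486016) (BT.leaf (nat_lit 43118105)) (BT.leaf (nat_lit 43118109))) (BT.node (nat_lit 11486144) (BT.leaf (nat_lit 32759585)) (BT.leaf (nat_lit 32759841)))) (BT.node (nat_lit 11486336) (BT.node (nat_lit 11486272) (BT.leaf (nat_lit 32760069)) (BT.leaf (nat_lit 32760609))) (BT.node (nat_lit 11486464) (BT.leaf (nat_lit 32760353)) (BT.leaf (nat_lit 43317281))))) (BT.node (nat_lit 11486784) (BT.node (nat_lit 11486656) (BT.node (nat_lit 11486592) (BT.leaf (nat_lit 32800777)) (BT.leaf (nat_lit 49652249))) (BT.node (nat_lit 11486720) (BT.leaf (nat_lit 32760857)) (BT.leaf (nat_lit 32761105)))) (BT.node (nat_lit 11486912) (BT.node (nat_lit 11486848) (BT.leaf (nat_lit 52220189)) (BT.leaf (nat_lit 51160337))) (BT.node (nat_lit 11486976) (BT.leaf (nat_lit 32761361)) (BT.leaf (nat_lit 45302561)))))) (BT.node (nat_lit 11487744) (BT.node (nat_lit 11487296) (BT.node (nat_lit 11487168) (BT.node (nat_lit 11487104) (BT.leaf (nat_lit 49622025)) (BT.leaf (nat_lit 32761621))) (BT.node (nat_lit 11487232) (BT.leaf (nat_lit 45385993)) (BT.leaf (nat_lit 45385997)))) (BT.node (nat_lit 11487552) (BT.node (nat_lit 11487488) (BT.leaf (nat_lit 32762645)) (BT.leaf (nat_lit 46876705))) (BT.node (nat_lit 11487616) (BT.leaf (nat_lit 32763157)) (BT.leaf (nat_lit 39108613))))) (BT.node (nat_lit 11488064) (BT.node (nat_lit 11487936) (BT.node (nat_lit 11487808) (BT.leaf (nat_lit 44083489)) (BT.leaf (nat_lit 45774853))) (BT.node (nat_lit 11488000) (BT.leaf (nat_lit 45952029)) (BT.leaf (nat_lit 39442693)))) (BT.node (nat_lit 11488192) (BT.node (nat_lit 11488128) (BT.leaf (nat_lit 31848729)) (BT.leaf (nat_lit 32765209))) (BT.node (nat_lit 11488256) (BT.leaf (nat_lit 32765465)) (BT.leaf (nat_lit 39509009)))))))) (BT.node (nat_lit 11490496) (BT.node (nat_lit 11489408) (BT.node (nat_lit 11488832) (BT.node (nat_lit 11488576) (BT.node (nat_lit 11488448) (BT.node (nat_lit 11488384) (BT.leaf (nat_lit 39209493)) (BT.leaf (nat_lit 45001997))) (BT.node (nat_lit 11488512) (BT.leaf (nat_lit 32767253)) (BT.leaf (nat_lit 45954333)))) (BT.node (nat_lit 11488704) (BT.node (nat_lit 11488640) (BT.leaf (nat_lit 44818965)) (BT.leaf (nat_lit 41261601))) (BT.node (nat_lit 11488768) (BT.leaf (nat_lit 32766489)) (BT.leaf (nat_lit 43416593))))) (BT.node (nat_lit 11489152) (BT.node (nat_lit 11489024) (BT.node (nat_lit 11488960) (BT.leaf (nat_lit 32766493)) (BT.leaf (nat_lit 47475989))) (BT.node (nat_lit 11489088) (BT.leaf (nat_lit 32767765)) (BT.leaf (nat_lit 42831117)))) (BT.node (nat_lit 11489280) (BT.node (nat_lit 11489216) (BT.leaf (nat_lit 42829601)) (BT.leaf (nat_lit 42829345))) (BT.node (nat_lit 11489344) (BT.leaf (nat_lit 32768029)) (BT.leaf (nat_lit 44060173)))))) (BT.node (nat_lit 11489920) (BT.node (nat_lit 11489664) (BT.node (nat_lit 11489536) (BT.node (nat_lit 11489472) (BT.leaf (nat_lit 39555613)) (BT.leaf (nat_lit 49364741))) (BT.node (nat_lit 11489600) (BT.leaf (nat_lit 47847445)) (BT.leaf (nat_lit 45958669)))) (BT.node (nat_lit 11489792) (BT.node (nat_lit 11489728) (BT.leaf (nat_lit 44719649)) (BT.leaf (nat_lit 35282453))) (BT.node (nat_lit 11489856) (BT.leaf (nat_lit 41299973)) (BT.leaf (nat_lit 41285921))))) (BT.node (nat_lit 11490176) (BT.node (nat_lit 11490048) (BT.node (nat_lit 11489984) (BT.leaf (nat_lit 32770573)) (BT.leaf (nat_lit 37147153))) (BT.node (nat_lit 11490112) (BT.leaf (nat_lit 32771861)) (BT.leaf (nat_lit 32770569)))) (BT.node (nat_lit 11490304) (BT.node (nat_lit 11490240) (BT.leaf (nat_lit 32793097)) (BT.leaf (nat_lit 32771349))) (BT.node (nat_lit 11490432) (BT.leaf (nat_lit 42337029)) (BT.leaf (nat_lit 49513993))))))) (BT.node (nat_lit 11491520) (BT.node (nat_lit 11491008) (BT.node (nat_lit 11490752) (BT.node (nat_lit 11490624) (BT.node (nat_lit 11490560) (BT.leaf (nat_lit 34935065)) (BT.leaf (nat_lit 41298969))) (BT.node (nat_lit 11490688) (BT.leaf (nat_lit 45463825)) (BT.leaf (nat_lit 45463557)))) (BT.node (nat_lit 11490880) (BT.node (nat_lit 11490816) (BT.leaf (nat_lit 32793113)) (BT.leaf (nat_lit 45831693))) (BT.node (nat_lit 11490944) (BT.leaf (nat_lit 45463569)) (BT.leaf (nat_lit 45831705))))) (BT.node (nat_lit 11491202) (BT.node (nat_lit 11491136) (BT.node (nat_lit 11491072) (BT.leaf (nat_lit 32793101)) (BT.leaf (nat_lit 45831713))) (BT.node (nat_lit 11491200) (BT.leaf (nat_lit 35283221)) (BT.leaf (nat_lit 29817621)))) (BT.node (nat_lit 11491392) (BT.node (nat_lit 11491264) (BT.leaf (nat_lit 734268)) (BT.leaf (nat_lit 31872273))) (BT.node (nat_lit 11491456) (BT.leaf (nat_lit 44753925)) (BT.leaf (nat_lit 28390417)))))) (BT.node (nat_lit 11492032) (BT.node (nat_lit 11491776) (BT.node (nat_lit 11491648) (BT.node (nat_lit 11491584) (BT.leaf (nat_lit 32778261)) (BT.leaf (nat_lit 43102477))) (BT.node (nat_lit 11491712) (BT.leaf (nat_lit 44820237)) (BT.leaf (nat_lit 38170401)))) (BT.node (nat_lit 11491904) (BT.node (nat_lit 11491840) (BT.leaf (nat_lit 32041493)) (BT.leaf (nat_lit 49618449))) (BT.node (nat_lit 11491968) (BT.leaf (nat_lit 45676061)) (BT.leaf (nat_lit 45968157))))) (BT.node (nat_lit 11492288) (BT.node (nat_lit 11492160) (BT.node (nat_lit 11492096) (BT.leaf (nat_lit 49494049)) (BT.leaf (nat_lit 32779273))) (BT.node (nat_lit 11492224) (BT.leaf (nat_lit 32779533)) (BT.leaf (nat_lit 32779529)))) (BT.node (nat_lit 11492416) (BT.node (nat_lit 11492352) (BT.leaf (nat_lit 39160069)) (BT.leaf (nat_lit 45817121))) (BT.node (nat_lit 11492480) (BT.leaf (nat_lit 32799253)) (BT.leaf (nat_lit 45676037))))))))) (BT.node (nat_lit 11497024) (BT.node (nat_lit 11494784) (BT.node (nat_lit 11493696) (BT.node (nat_lit 11493056) (BT.node (nat_lit 11492800) (BT.node (nat_lit 11492672) (BT.node (nat_lit 11492608) (BT.leaf (nat_lit 32802837)) (BT.leaf (nat_lit 48497941))) (BT.node (nat_lit 11492736) (BT.leaf (nat_lit 50815001)) (BT.leaf (nat_lit 39963145)))) (BT.node (nat_lit 11492928) (BT.node (nat_lit 11492864) (BT.leaf (nat_lit 31918869)) (BT.leaf (nat_lit 49651477))) (BT.node (nat_lit 11492992) (BT.leaf (nat_lit 32780817)) (BT.leaf (nat_lit 36203041))))) (BT.node (nat_lit 11493440) (BT.node (nat_lit 11493184) (BT.node (nat_lit 11493120) (BT.leaf (nat_lit 42943253)) (BT.leaf (nat_lit 32781345))) (BT.node (nat_lit 11493312) (BT.leaf (nat_lit 32781573)) (BT.leaf (nat_lit 34826245)))) (BT.node (nat_lit 11493568) (BT.node (nat_lit 11493504) (BT.leaf (nat_lit 32781593)) (BT.leaf (nat_lit 45899025))) (BT.node (nat_lit 11493632) (BT.leaf (nat_lit 45990169)) (BT.leaf (nat_lit 32782109)))))) (BT.node (nat_lit 11494208) (BT.node (nat_lit 11493952) (BT.node (nat_lit 11493824) (BT.node (nat_lit 11493760) (BT.leaf (nat_lit 35287329)) (BT.leaf (nat_lit 32782369))) (BT.node (nat_lit 11493888) (BT.leaf (nat_lit 32782597)) (BT.leaf (nat_lit 44803605)))) (BT.node (nat_lit 11494080) (BT.node (nat_lit 11494016) (BT.leaf (nat_lit 45415441)) (BT.leaf (nat_lit 42879001))) (BT.node (nat_lit 11494144) (BT.leaf (nat_lit 34354969)) (BT.leaf (nat_lit 39966993))))) (BT.node (nat_lit 11494464) (BT.node (nat_lit 11494336) (BT.node (nat_lit 11494272) (BT.leaf (nat_lit 32784645)) (BT.leaf (nat_lit 35288597))) (BT.node (nat_lit 11494400) (BT.leaf (nat_lit 35289105)) (BT.leaf (nat_lit 41786397)))) (BT.node (nat_lit 11494656) (BT.node (nat_lit 11494592) (BT.leaf (nat_lit 32792081)) (BT.leaf (nat_lit 40962841))) (BT.node (nat_lit 11494720) (BT.leaf (nat_lit 45791245)) (BT.leaf (nat_lit 45790989))))))) (BT.node (nat_lit 11495872) (BT.node (nat_lit 11495296) (BT.node (nat_lit 11495040) (BT.node (nat_lit 11494912) (BT.node (nat_lit 11494848) (BT.leaf (nat_lit 40389905)) (BT.leaf (nat_lit 32792589))) (BT.node (nat_lit 11494976) (BT.leaf (nat_lit 35292169)) (BT.leaf (nat_lit 45805085)))) (BT.node (nat_lit 11495168) (BT.node (nat_lit 11495104) (BT.leaf (nat_lit 41820933)) (BT.leaf (nat_lit 38994721))) (BT.node (nat_lit 11495232) (BT.leaf (nat_lit 42509585)) (BT.leaf (nat_lit 45804309))))) (BT.node (nat_lit 11495616) (BT.node (nat_lit 11495488) (BT.node (nat_lit 11495360) (BT.leaf (nat_lit 31902229)) (BT.leaf (nat_lit 45798921))) (BT.node (nat_lit 11495552) (BT.leaf (nat_lit 32796961)) (BT.leaf (nat_lit 44323101)))) (BT.node (nat_lit 11495744) (BT.node (nat_lit 11495680) (BT.leaf (nat_lit 35292433)) (BT.leaf (nat_lit 45612825))) (BT.node (nat_lit 11495808) (BT.leaf (nat_lit 32796933)) (BT.leaf (nat_lit 41071137)))))) (BT.node (nat_lit 11496512) (BT.node (nat_lit 11496192) (BT.node (nat_lit 11496000) (BT.node (nat_lit 11495936) (BT.leaf (nat_lit 39434781)) (BT.leaf (nat_lit 49383441))) (BT.node (nat_lit 11496128) (BT.leaf (nat_lit 39058713)) (BT.leaf (nat_lit 45984797)))) (BT.node (nat_lit 11496263) (BT.node (nat_lit 11496256) (BT.leaf (nat_lit 31367953)) (BT.leaf (nat_lit 35227421))) (BT.node (nat_lit 11496448) (BT.leaf (nat_lit 797424)) (BT.leaf (nat_lit 44497421))))) (BT.node (nat_lit 11496768) (BT.node (nat_lit 11496640) (BT.node (nat_lit 11496576) (BT.leaf (nat_lit 44775705)) (BT.leaf (nat_lit 40298257))) (BT.node (nat_lit 11496704) (BT.leaf (nat_lit 48344601)) (BT.leaf (nat_lit 44350241)))) (BT.node (nat_lit 11496896) (BT.node (nat_lit 11496832) (BT.leaf (nat_lit 33811233)) (BT.leaf (nat_lit 43036961))) (BT.node (nat_lit 11496960) (BT.leaf (nat_lit 43036677)) (BT.leaf (nat_lit 41432837)))))))) (BT.node (nat_lit 11499072) (BT.node (nat_lit 11497920) (BT.node (nat_lit 11497472) (BT.node (nat_lit 11497280) (BT.node (nat_lit 11497152) (BT.node (nat_lit 11497088) (BT.leaf (nat_lit 44146209)) (BT.leaf (nat_lit 41433093))) (BT.node (nat_lit 11497216) (BT.leaf (nat_lit 32799261)) (BT.leaf (nat_lit 44744977)))) (BT.node (nat_lit 11497352) (BT.node (nat_lit 11497344) (BT.leaf (nat_lit 41965589)) (BT.leaf (nat_lit 32781589))) (BT.node (nat_lit 11497408) (BT.leaf (nat_lit 784876)) (BT.leaf (nat_lit 32759569))))) (BT.node (nat_lit 11497664) (BT.node (nat_lit 11497544) (BT.node (nat_lit 11497536) (BT.leaf (nat_lit 32800533)) (BT.leaf (nat_lit 32799497))) (BT.node (nat_lit 11497600) (BT.leaf (nat_lit 784872)) (BT.leaf (nat_lit 30826785)))) (BT.node (nat_lit 11497792) (BT.node (nat_lit 11497728) (BT.leaf (nat_lit 43389701)) (BT.leaf (nat_lit 32800281))) (BT.node (nat_lit 11497856) (BT.leaf (nat_lit 44066833)) (BT.leaf (nat_lit 32800261)))))) (BT.node (nat_lit 11498496) (BT.node (nat_lit 11498240) (BT.node (nat_lit 11498112) (BT.node (nat_lit 11497984) (BT.leaf (nat_lit 32800017)) (BT.leaf (nat_lit 42411285))) (BT.node (nat_lit 11498176) (BT.leaf (nat_lit 50815257)) (BT.leaf (nat_lit 36211233)))) (BT.node (nat_lit 11498368) (BT.node (nat_lit 11498304) (BT.leaf (nat_lit 32801825)) (BT.leaf (nat_lit 39833885))) (BT.node (nat_lit 11498432) (BT.leaf (nat_lit 32802065)) (BT.leaf (nat_lit 36211489))))) (BT.node (nat_lit 11498816) (BT.node (nat_lit 11498624) (BT.node (nat_lit 11498560) (BT.leaf (nat_lit 32802593)) (BT.leaf (nat_lit 32802337))) (BT.node (nat_lit 11498752) (BT.leaf (nat_lit 34842885)) (BT.leaf (nat_lit 32802321)))) (BT.node (nat_lit 11498944) (BT.node (nat_lit 11498880) (BT.leaf (nat_lit 32801809)) (BT.leaf (nat_lit 44706581))) (BT.node (nat_lit 11499008) (BT.leaf (nat_lit 44706585)) (BT.leaf (nat_lit 44706589))))))) (BT.node (nat_lit 11500160) (BT.node (nat_lit 11499648) (BT.node (nat_lit 11499328) (BT.node (nat_lit 11499200) (BT.node (nat_lit 11499136) (BT.leaf (nat_lit 32803345)) (BT.leaf (nat_lit 44770313))) (BT.node (nat_lit 11499264) (BT.leaf (nat_lit 32802577)) (BT.leaf (nat_lit 40686869)))) (BT.node (nat_lit 11499456) (BT.node (nat_lit 11499392) (BT.leaf (nat_lit 40686873)) (BT.leaf (nat_lit 40686877))) (BT.node (nat_lit 11499520) (BT.leaf (nat_lit 29556241)) (BT.leaf (nat_lit 35294497))))) (BT.node (nat_lit 11499904) (BT.node (nat_lit 11499776) (BT.node (nat_lit 11499712) (BT.leaf (nat_lit 39396369)) (BT.leaf (nat_lit 47140621))) (BT.node (nat_lit 11499840) (BT.leaf (nat_lit 49040417)) (BT.leaf (nat_lit 45965577)))) (BT.node (nat_lit 11500032) (BT.node (nat_lit 11499968) (BT.leaf (nat_lit 44774157)) (BT.leaf (nat_lit 44798981))) (BT.node (nat_lit 11500096) (BT.leaf (nat_lit 35295249)) (BT.leaf (nat_lit 40704261)))))) (BT.node (nat_lit 11500672) (BT.node (nat_lit 11500416) (BT.node (nat_lit 11500288) (BT.node (nat_lit 11500224) (BT.leaf (nat_lit 40708641)) (BT.leaf (nat_lit 42844945))) (BT.node (nat_lit 11500352) (BT.leaf (nat_lit 39012885)) (BT.leaf (nat_lit 39057441)))) (BT.node (nat_lit 11500544) (BT.node (nat_lit 11500480) (BT.leaf (nat_lit 38597921)) (BT.leaf (nat_lit 31915277))) (BT.node (nat_lit 11500608) (BT.leaf (nat_lit 39058961)) (BT.leaf (nat_lit 39058977))))) (BT.node (nat_lit 11500928) (BT.node (nat_lit 11500800) (BT.node (nat_lit 11500736) (BT.leaf (nat_lit 39799313)) (BT.leaf (nat_lit 48401953))) (BT.node (nat_lit 11500864) (BT.leaf (nat_lit 38017045)) (BT.leaf (nat_lit 45072921)))) (BT.node (nat_lit 11501056) (BT.node (nat_lit 11500992) (BT.leaf (nat_lit 45072925)) (BT.leaf (nat_lit 42376481))) (BT.node (nat_lit 11501120) (BT.leaf (nat_lit 44777741)) (BT.leaf (nat_lit 42320657))))))))))) (BT.node (nat_lit 11518720) (BT.node (nat_lit 11510464) (BT.node (nat_lit 11506048) (BT.node (nat_lit 11503616) (BT.node (nat_lit 11502464) (BT.node (nat_lit 11501760) (BT.node (nat_lit 11501440) (BT.node (nat_lit 11501312) (BT.node (nat_lit 11501248) (BT.leaf (nat_lit 42333713)) (BT.leaf (nat_lit 40497165))) (BT.node (nat_lit 11501376) (BT.leaf (nat_lit 50581017)) (BT.leaf (nat_lit 50972689)))) (BT.node (nat_lit 11501632) (BT.node (nat_lit 11501504) (BT.leaf (nat_lit 31883029)) (BT.leaf (nat_lit 32809745))) (BT.node (nat_lit 11501696) (BT.leaf (nat_lit 44753929)) (BT.leaf (nat_lit 32809233))))) (BT.node (nat_lit 11502208) (BT.node (nat_lit 11502016) (BT.node (nat_lit 11501888) (BT.leaf (nat_lit 45645829)) (BT.leaf (nat_lit 43088401))) (BT.node (nat_lit 11502144) (BT.leaf (nat_lit 44528145)) (BT.leaf (nat_lit 45685021)))) (BT.node (nat_lit 11502336) (BT.node (nat_lit 11502272) (BT.leaf (nat_lit 42452745)) (BT.leaf (nat_lit 32818453))) (BT.node (nat_lit 11502400) (BT.leaf (nat_lit 42452489)) (BT.leaf (nat_lit 45685001)))))) (BT.node (nat_lit 11503104) (BT.node (nat_lit 11502720) (BT.node (nat_lit 11502592) (BT.node (nat_lit 11502528) (BT.leaf (nat_lit 42452509)) (BT.leaf (nat_lit 43963409))) (BT.node (nat_lit 11502656) (BT.leaf (nat_lit 43963425)) (BT.leaf (nat_lit 46012193)))) (BT.node (nat_lit 11502912) (BT.node (nat_lit 11502784) (BT.leaf (nat_lit 49471261)) (BT.leaf (nat_lit 42452749))) (BT.node (nat_lit 11502976) (BT.leaf (nat_lit 39556889)) (BT.leaf (nat_lit 39556893))))) (BT.node (nat_lit 11503360) (BT.node (nat_lit 11503232) (BT.node (nat_lit 11503168) (BT.leaf (nat_lit 44514329)) (BT.leaf (nat_lit 38496785))) (BT.node (nat_lit 11503296) (BT.leaf (nat_lit 45684489)) (BT.leaf (nat_lit 48404765)))) (BT.node (nat_lit 11503488) (BT.node (nat_lit 11503424) (BT.leaf (nat_lit 39948301)) (BT.leaf (nat_lit 32573205))) (BT.node (nat_lit 11503552) (BT.leaf (nat_lit 41051913)) (BT.leaf (nat_lit 39948297))))))) (BT.node (nat_lit 11504960) (BT.node (nat_lit 11504384) (BT.node (nat_lit 11503872) (BT.node (nat_lit 11503744) (BT.node (nat_lit 11503680) (BT.leaf (nat_lit 41051917)) (BT.leaf (nat_lit 39948293))) (BT.node (nat_lit 11503808) (BT.leaf (nat_lit 39948313)) (BT.leaf (nat_lit 39948317)))) (BT.node (nat_lit 11504000) (BT.node (nat_lit 11503936) (BT.leaf (nat_lit 44898073)) (BT.leaf (nat_lit 43524881))) (BT.node (nat_lit 11504192) (BT.leaf (nat_lit 45253385)) (BT.leaf (nat_lit 32818977))))) (BT.node (nat_lit 11504640) (BT.node (nat_lit 11504512) (BT.node (nat_lit 11504448) (BT.leaf (nat_lit 43852817)) (BT.leaf (nat_lit 45701401))) (BT.node (nat_lit 11504576) (BT.leaf (nat_lit 49368069)) (BT.leaf (nat_lit 31115013)))) (BT.node (nat_lit 11504768) (BT.node (nat_lit 11504704) (BT.leaf (nat_lit 42977285)) (BT.leaf (nat_lit 48348941))) (BT.node (nat_lit 11504832) (BT.leaf (nat_lit 45939461)) (BT.leaf (nat_lit 32820245)))))) (BT.node (nat_lit 11505536) (BT.node (nat_lit 11505280) (BT.node (nat_lit 11505152) (BT.node (nat_lit 11505024) (BT.leaf (nat_lit 46019609)) (BT.leaf (nat_lit 52153105))) (BT.node (nat_lit 11505216) (BT.leaf (nat_lit 38498065)) (BT.leaf (nat_lit 36740625)))) (BT.node (nat_lit 11505408) (BT.node (nat_lit 11505344) (BT.leaf (nat_lit 35299089)) (BT.leaf (nat_lit 46032901))) (BT.node (nat_lit 11505472) (BT.leaf (nat_lit 48409121)) (BT.leaf (nat_lit 48409349))))) (BT.node (nat_lit 11505792) (BT.node (nat_lit 11505664) (BT.node (nat_lit 11505600) (BT.leaf (nat_lit 32821005)) (BT.leaf (nat_lit 39764749))) (BT.node (nat_lit 11505728) (BT.leaf (nat_lit 41741065)) (BT.leaf (nat_lit 32820765)))) (BT.node (nat_lit 11505920) (BT.node (nat_lit 11505856) (BT.leaf (nat_lit 40980257)) (BT.leaf (nat_lit 41741061))) (BT.node (nat_lit 11505984) (BT.leaf (nat_lit 41741069)) (BT.leaf (nat_lit 32820997)))))))) (BT.node (nat_lit 11508224) (BT.node (nat_lit 11507200) (BT.node (nat_lit 11506624) (BT.node (nat_lit 11506368) (BT.node (nat_lit 11506240) (BT.node (nat_lit 11506176) (BT.leaf (nat_lit 32821281)) (BT.leaf (nat_lit 49615893))) (BT.node (nat_lit 11506304) (BT.leaf (nat_lit 32821781)) (BT.leaf (nat_lit 32821785)))) (BT.node (nat_lit 11506496) (BT.node (nat_lit 11506432) (BT.leaf (nat_lit 32821789)) (BT.leaf (nat_lit 40199173))) (BT.node (nat_lit 11506560) (BT.leaf (nat_lit 45423881)) (BT.leaf (nat_lit 46026009))))) (BT.node (nat_lit 11506944) (BT.node (nat_lit 11506816) (BT.node (nat_lit 11506688) (BT.leaf (nat_lit 35301137)) (BT.leaf (nat_lit 40200201))) (BT.node (nat_lit 11506880) (BT.leaf (nat_lit 38059269)) (BT.leaf (nat_lit 38059281)))) (BT.node (nat_lit 11507072) (BT.node (nat_lit 11507008) (BT.leaf (nat_lit 38059285)) (BT.leaf (nat_lit 43265313))) (BT.node (nat_lit 11507136) (BT.leaf (nat_lit 42808585)) (BT.leaf (nat_lit 45638677)))))) (BT.node (nat_lit 11507712) (BT.node (nat_lit 11507456) (BT.node (nat_lit 11507328) (BT.node (nat_lit 11507264) (BT.leaf (nat_lit 52309001)) (BT.leaf (nat_lit 32824853))) (BT.node (nat_lit 11507392) (BT.leaf (nat_lit 32924433)) (BT.leaf (nat_lit 44357913)))) (BT.node (nat_lit 11507584) (BT.node (nat_lit 11507520) (BT.leaf (nat_lit 31608861)) (BT.leaf (nat_lit 44872465))) (BT.node (nat_lit 11507648) (BT.leaf (nat_lit 38529813)) (BT.leaf (nat_lit 32824341))))) (BT.node (nat_lit 11507904) (BT.node (nat_lit 11507840) (BT.node (nat_lit 11507776) (BT.leaf (nat_lit 31415577)) (BT.leaf (nat_lit 48685081))) (BT.node (nat_lit 11507845) (BT.leaf (nat_lit 38506513)) (BT.leaf (nat_lit 723196)))) (BT.node (nat_lit 11508032) (BT.node (nat_lit 11507968) (BT.leaf (nat_lit 48054789)) (BT.leaf (nat_lit 51706389))) (BT.node (nat_lit 11508160) (BT.leaf (nat_lit 32570653)) (BT.leaf (nat_lit 51124769))))))) (BT.node (nat_lit 11509248) (BT.node (nat_lit 11508736) (BT.node (nat_lit 11508480) (BT.node (nat_lit 11508352) (BT.node (nat_lit 11508288) (BT.leaf (nat_lit 32828177)) (BT.leaf (nat_lit 32828433))) (BT.node (nat_lit 11508416) (BT.leaf (nat_lit 32828681)) (BT.leaf (nat_lit 31000593)))) (BT.node (nat_lit 11508608) (BT.node (nat_lit 11508544) (BT.leaf (nat_lit 44218393)) (BT.leaf (nat_lit 44218397))) (BT.node (nat_lit 11508672) (BT.leaf (nat_lit 38211589)) (BT.leaf (nat_lit 38211601))))) (BT.node (nat_lit 11508992) (BT.node (nat_lit 11508864) (BT.node (nat_lit 11508800) (BT.leaf (nat_lit 31430681)) (BT.leaf (nat_lit 32377113))) (BT.node (nat_lit 11508928) (BT.leaf (nat_lit 32830233)) (BT.leaf (nat_lit 40099345)))) (BT.node (nat_lit 11509120) (BT.node (nat_lit 11509056) (BT.leaf (nat_lit 43041301)) (BT.leaf (nat_lit 31001885))) (BT.node (nat_lit 11509184) (BT.leaf (nat_lit 32377117)) (BT.leaf (nat_lit 32830237)))))) (BT.node (nat_lit 11509824) (BT.node (nat_lit 11509568) (BT.node (nat_lit 11509376) (BT.node (nat_lit 11509312) (BT.leaf (nat_lit 39700753)) (BT.leaf (nat_lit 41323285))) (BT.node (nat_lit 11509504) (BT.leaf (nat_lit 47396385)) (BT.leaf (nat_lit 32831237)))) (BT.node (nat_lit 11509696) (BT.node (nat_lit 11509632) (BT.leaf (nat_lit 44506121)) (BT.leaf (nat_lit 44506125))) (BT.node (nat_lit 11509760) (BT.leaf (nat_lit 34942241)) (BT.leaf (nat_lit 41940001))))) (BT.node (nat_lit 11510144) (BT.node (nat_lit 11510016) (BT.node (nat_lit 11509888) (BT.leaf (nat_lit 42106373)) (BT.leaf (nat_lit 45228037))) (BT.node (nat_lit 11510080) (BT.leaf (nat_lit 32831005)) (BT.leaf (nat_lit 47361813)))) (BT.node (nat_lit 11510272) (BT.node (nat_lit 11510208) (BT.leaf (nat_lit 40773153)) (BT.leaf (nat_lit 32832269))) (BT.node (nat_lit 11510336) (BT.leaf (nat_lit 44506641)) (BT.leaf (nat_lit 39908117))))))))) (BT.node (nat_lit 11514752) (BT.node (nat_lit 11512576) (BT.node (nat_lit 11511552) (BT.node (nat_lit 11510976) (BT.node (nat_lit 11510720) (BT.node (nat_lit 11510592) (BT.node (nat_lit 11510528) (BT.leaf (nat_lit 49559841)) (BT.leaf (nat_lit 32578333))) (BT.node (nat_lit 11510656) (BT.leaf (nat_lit 43665425)) (BT.leaf (nat_lit 49544965)))) (BT.node (nat_lit 11510848) (BT.node (nat_lit 11510784) (BT.leaf (nat_lit 38522385)) (BT.leaf (nat_lit 49380129))) (BT.node (nat_lit 11510912) (BT.leaf (nat_lit 45424669)) (BT.leaf (nat_lit 39302405))))) (BT.node (nat_lit 11511296) (BT.node (nat_lit 11511104) (BT.node (nat_lit 11511040) (BT.leaf (nat_lit 39302421)) (BT.leaf (nat_lit 38712089))) (BT.node (nat_lit 11511168) (BT.leaf (nat_lit 38712093)) (BT.leaf (nat_lit 32834577)))) (BT.node (nat_lit 11511424) (BT.node (nat_lit 11511360) (BT.leaf (nat_lit 45717005)) (BT.leaf (nat_lit 45717261))) (BT.node (nat_lit 11511488) (BT.leaf (nat_lit 37943301)) (BT.leaf (nat_lit 40794657)))))) (BT.node (nat_lit 11512064) (BT.node (nat_lit 11511808) (BT.node (nat_lit 11511680) (BT.node (nat_lit 11511616) (BT.leaf (nat_lit 32259097)) (BT.leaf (nat_lit 30141473))) (BT.node (nat_lit 11511744) (BT.leaf (nat_lit 43841557)) (BT.leaf (nat_lit 29630981)))) (BT.node (nat_lit 11511936) (BT.node (nat_lit 11511872) (BT.leaf (nat_lit 32381209)) (BT.leaf (nat_lit 38226961))) (BT.node (nat_lit 11512000) (BT.leaf (nat_lit 43360789)) (BT.leaf (nat_lit 29566749))))) (BT.node (nat_lit 11512256) (BT.node (nat_lit 11512133) (BT.node (nat_lit 11512128) (BT.leaf (nat_lit 45140761)) (BT.leaf (nat_lit 30743585))) (BT.node (nat_lit 11512192) (BT.leaf (nat_lit 753760)) (BT.leaf (nat_lit 32838149)))) (BT.node (nat_lit 11512448) (BT.node (nat_lit 11512320) (BT.leaf (nat_lit 31008541)) (BT.leaf (nat_lit 40353301))) (BT.node (nat_lit 11512512) (BT.leaf (nat_lit 46049561)) (BT.leaf (nat_lit 51631125))))))) (BT.node (nat_lit 11513600) (BT.node (nat_lit 11513024) (BT.node (nat_lit 11512768) (BT.node (nat_lit 11512704) (BT.node (nat_lit 11512640) (BT.leaf (nat_lit 39584777)) (BT.leaf (nat_lit 46283013))) (BT.node (nat_lit 11512709) (BT.leaf (nat_lit 32842001)) (BT.leaf (nat_lit 746884)))) (BT.node (nat_lit 11512896) (BT.node (nat_lit 11512832) (BT.leaf (nat_lit 32843281)) (BT.leaf (nat_lit 40288281))) (BT.node (nat_lit 11512960) (BT.leaf (nat_lit 40288285)) (BT.leaf (nat_lit 32845061))))) (BT.node (nat_lit 11513280) (BT.node (nat_lit 11513152) (BT.node (nat_lit 11513088) (BT.leaf (nat_lit 46140937)) (BT.leaf (nat_lit 42358557))) (BT.node (nat_lit 11513216) (BT.leaf (nat_lit 44801569)) (BT.leaf (nat_lit 37820933)))) (BT.node (nat_lit 11513472) (BT.node (nat_lit 11513344) (BT.leaf (nat_lit 32846089)) (BT.leaf (nat_lit 32846349))) (BT.node (nat_lit 11513536) (BT.leaf (nat_lit 40495629)) (BT.leaf (nat_lit 32846365)))))) (BT.node (nat_lit 11514176) (BT.node (nat_lit 11513920) (BT.node (nat_lit 11513792) (BT.node (nat_lit 11513728) (BT.leaf (nat_lit 29575197)) (BT.leaf (nat_lit 32846361))) (BT.node (nat_lit 11513856) (BT.leaf (nat_lit 45272337)) (BT.leaf (nat_lit 45272353)))) (BT.node (nat_lit 11514048) (BT.node (nat_lit 11513984) (BT.leaf (nat_lit 40495641)) (BT.leaf (nat_lit 39505933))) (BT.node (nat_lit 11514112) (BT.leaf (nat_lit 45626905)) (BT.leaf (nat_lit 43529749))))) (BT.node (nat_lit 11514432) (BT.node (nat_lit 11514304) (BT.node (nat_lit 11514240) (BT.leaf (nat_lit 43620381)) (BT.leaf (nat_lit 43529757))) (BT.node (nat_lit 11514368) (BT.leaf (nat_lit 43711001)) (BT.leaf (nat_lit 43711005)))) (BT.node (nat_lit 11514624) (BT.node (nat_lit 11514496) (BT.leaf (nat_lit 43621921)) (BT.leaf (nat_lit 45911073))) (BT.node (nat_lit 11514688) (BT.leaf (nat_lit 32849685)) (BT.leaf (nat_lit 43496969)))))))) (BT.node (nat_lit 11516672) (BT.node (nat_lit 11515840) (BT.node (nat_lit 11515328) (BT.node (nat_lit 11515008) (BT.node (nat_lit 11514880) (BT.node (nat_lit 11514816) (BT.leaf (nat_lit 43496973)) (BT.leaf (nat_lit 51054869))) (BT.node (nat_lit 11514944) (BT.leaf (nat_lit 43496993)) (BT.leaf (nat_lit 50640409)))) (BT.node (nat_lit 11515200) (BT.node (nat_lit 11515136) (BT.leaf (nat_lit 29658397)) (BT.leaf (nat_lit 29658393))) (BT.node (nat_lit 11515264) (BT.leaf (nat_lit 46061069)) (BT.leaf (nat_lit 50982421))))) (BT.node (nat_lit 11515584) (BT.node (nat_lit 11515456) (BT.node (nat_lit 11515392) (BT.leaf (nat_lit 39334417)) (BT.leaf (nat_lit 46061853))) (BT.node (nat_lit 11515520) (BT.leaf (nat_lit 39987461)) (BT.leaf (nat_lit 44355617)))) (BT.node (nat_lit 11515712) (BT.node (nat_lit 11515648) (BT.leaf (nat_lit 42210849)) (BT.leaf (nat_lit 43286021))) (BT.node (nat_lit 11515776) (BT.leaf (nat_lit 33028105)) (BT.leaf (nat_lit 33028109)))))) (BT.node (nat_lit 11516288) (BT.node (nat_lit 11516032) (BT.node (nat_lit 11515968) (BT.node (nat_lit 11515904) (BT.leaf (nat_lit 47873817)) (BT.leaf (nat_lit 43581985))) (BT.node (nat_lit 11515971) (BT.leaf (nat_lit 42071841)) (BT.leaf (nat_lit 778040)))) (BT.node (nat_lit 11516160) (BT.node (nat_lit 11516096) (BT.leaf (nat_lit 33717265)) (BT.leaf (nat_lit 32228633))) (BT.node (nat_lit 11516224) (BT.leaf (nat_lit 47375637)) (BT.leaf (nat_lit 32228617))))) (BT.node (nat_lit 11516416) (BT.node (nat_lit 11516295) (BT.node (nat_lit 11516294) (BT.leaf (nat_lit 46344725)) (BT.leaf (nat_lit 759612))) (BT.node (nat_lit 11516352) (BT.leaf (nat_lit 759612)) (BT.leaf (nat_lit 44619537)))) (BT.node (nat_lit 11516544) (BT.node (nat_lit 11516480) (BT.leaf (nat_lit 44619541)) (BT.leaf (nat_lit 44355601))) (BT.node (nat_lit 11516608) (BT.leaf (nat_lit 44355605)) (BT.leaf (nat_lit 33033993))))))) (BT.node (nat_lit 11517696) (BT.node (nat_lit 11517248) (BT.node (nat_lit 11516928) (BT.node (nat_lit 11516800) (BT.node (nat_lit 11516736) (BT.leaf (nat_lit 33033997)) (BT.leaf (nat_lit 32608277))) (BT.node (nat_lit 11516864) (BT.leaf (nat_lit 33034009)) (BT.leaf (nat_lit 33034013)))) (BT.node (nat_lit 11517056) (BT.node (nat_lit 11516992) (BT.leaf (nat_lit 30783257)) (BT.leaf (nat_lit 32607257))) (BT.node (nat_lit 11517120) (BT.leaf (nat_lit 32853273)) (BT.leaf (nat_lit 42805265))))) (BT.node (nat_lit 11517444) (BT.node (nat_lit 11517376) (BT.node (nat_lit 11517312) (BT.leaf (nat_lit 44106005)) (BT.leaf (nat_lit 45940769))) (BT.node (nat_lit 11517440) (BT.leaf (nat_lit 35315733)) (BT.leaf (nat_lit 32861717)))) (BT.node (nat_lit 11517568) (BT.node (nat_lit 11517504) (BT.leaf (nat_lit 776344)) (BT.leaf (nat_lit 40585737))) (BT.node (nat_lit 11517632) (BT.leaf (nat_lit 32854285)) (BT.leaf (nat_lit 32608013)))))) (BT.node (nat_lit 11518208) (BT.node (nat_lit 11517952) (BT.node (nat_lit 11517824) (BT.node (nat_lit 11517760) (BT.leaf (nat_lit 46070553)) (BT.leaf (nat_lit 46071821))) (BT.node (nat_lit 11517888) (BT.leaf (nat_lit 32854281)) (BT.leaf (nat_lit 38085653)))) (BT.node (nat_lit 11518080) (BT.node (nat_lit 11518016) (BT.leaf (nat_lit 49497625)) (BT.leaf (nat_lit 49497097))) (BT.node (nat_lit 11518144) (BT.leaf (nat_lit 49497357)) (BT.leaf (nat_lit 49497609))))) (BT.node (nat_lit 11518464) (BT.node (nat_lit 11518336) (BT.node (nat_lit 11518272) (BT.leaf (nat_lit 43551761)) (BT.leaf (nat_lit 45905441))) (BT.node (nat_lit 11518400) (BT.leaf (nat_lit 46072605)) (BT.leaf (nat_lit 29065749)))) (BT.node (nat_lit 11518592) (BT.node (nat_lit 11518528) (BT.leaf (nat_lit 39382789)) (BT.leaf (nat_lit 32854789))) (BT.node (nat_lit 11518656) (BT.leaf (nat_lit 48745489)) (BT.leaf (nat_lit 45748249)))))))))) (BT.node (nat_lit 11527488) (BT.node (nat_lit 11523072) (BT.node (nat_lit 11520832) (BT.node (nat_lit 11519808) (BT.node (nat_lit 11519296) (BT.node (nat_lit 11519040) (BT.node (nat_lit 11518848) (BT.node (nat_lit 11518784) (BT.leaf (nat_lit 32856337)) (BT.leaf (nat_lit 32855569))) (BT.node (nat_lit 11518912) (BT.leaf (nat_lit 32855313)) (BT.leaf (nat_lit 44802317)))) (BT.node (nat_lit 11519168) (BT.node (nat_lit 11519104) (BT.leaf (nat_lit 43475481)) (BT.leaf (nat_lit 32856857))) (BT.node (nat_lit 11519232) (BT.leaf (nat_lit 38147345)) (BT.leaf (nat_lit 39584785))))) (BT.node (nat_lit 11519552) (BT.node (nat_lit 11519424) (BT.node (nat_lit 11519360) (BT.leaf (nat_lit 41192457)) (BT.leaf (nat_lit 41192461))) (BT.node (nat_lit 11519488) (BT.leaf (nat_lit 32858901)) (BT.leaf (nat_lit 41192473)))) (BT.node (nat_lit 11519680) (BT.node (nat_lit 11519616) (BT.leaf (nat_lit 41192477)) (BT.leaf (nat_lit 41487365))) (BT.node (nat_lit 11519744) (BT.leaf (nat_lit 45745437)) (BT.leaf (nat_lit 40103445)))))) (BT.node (nat_lit 11520320) (BT.node (nat_lit 11520064) (BT.node (nat_lit 11519936) (BT.node (nat_lit 11519872) (BT.leaf (nat_lit 32858889)) (BT.leaf (nat_lit 49686813))) (BT.node (nat_lit 11520000) (BT.leaf (nat_lit 47019533)) (BT.leaf (nat_lit 47216417)))) (BT.node (nat_lit 11520192) (BT.node (nat_lit 11520128) (BT.leaf (nat_lit 43797513)) (BT.leaf (nat_lit 47019525))) (BT.node (nat_lit 11520256) (BT.leaf (nat_lit 32860689)) (BT.leaf (nat_lit 43547417))))) (BT.node (nat_lit 11520576) (BT.node (nat_lit 11520448) (BT.node (nat_lit 11520384) (BT.leaf (nat_lit 43547421)) (BT.leaf (nat_lit 32861469))) (BT.node (nat_lit 11520512) (BT.leaf (nat_lit 42041889)) (BT.leaf (nat_lit 32860705)))) (BT.node (nat_lit 11520704) (BT.node (nat_lit 11520640) (BT.leaf (nat_lit 32860961)) (BT.leaf (nat_lit 44184853))) (BT.node (nat_lit 11520768) (BT.leaf (nat_lit 44184857)) (BT.leaf (nat_lit 44184861))))))) (BT.node (nat_lit 11522048) (BT.node (nat_lit 11521344) (BT.node (nat_lit 11521088) (BT.node (nat_lit 11520960) (BT.node (nat_lit 11520896) (BT.leaf (nat_lit 40872481)) (BT.leaf (nat_lit 45810457))) (BT.node (nat_lit 11521024) (BT.leaf (nat_lit 45810461)) (BT.leaf (nat_lit 45810465)))) (BT.node (nat_lit 11521216) (BT.node (nat_lit 11521152) (BT.leaf (nat_lit 29772049)) (BT.leaf (nat_lit 27298065))) (BT.node (nat_lit 11521280) (BT.leaf (nat_lit 32881945)) (BT.leaf (nat_lit 32881949))))) (BT.node (nat_lit 11521600) (BT.node (nat_lit 11521472) (BT.node (nat_lit 11521408) (BT.leaf (nat_lit 35317265)) (BT.leaf (nat_lit 44750105))) (BT.node (nat_lit 11521536) (BT.leaf (nat_lit 39153669)) (BT.leaf (nat_lit 32599053)))) (BT.node (nat_lit 11521792) (BT.node (nat_lit 11521728) (BT.leaf (nat_lit 44316429)) (BT.leaf (nat_lit 41111309))) (BT.node (nat_lit 11521984) (BT.leaf (nat_lit 37976609)) (BT.leaf (nat_lit 46087705)))))) (BT.node (nat_lit 11522560) (BT.node (nat_lit 11522304) (BT.node (nat_lit 11522176) (BT.node (nat_lit 11522112) (BT.leaf (nat_lit 46294561)) (BT.leaf (nat_lit 49489945))) (BT.node (nat_lit 11522240) (BT.leaf (nat_lit 46089497)) (BT.leaf (nat_lit 41111313)))) (BT.node (nat_lit 11522432) (BT.node (nat_lit 11522368) (BT.leaf (nat_lit 41111317)) (BT.leaf (nat_lit 39393029))) (BT.node (nat_lit 11522496) (BT.leaf (nat_lit 43447073)) (BT.leaf (nat_lit 43637765))))) (BT.node (nat_lit 11522816) (BT.node (nat_lit 11522688) (BT.node (nat_lit 11522624) (BT.leaf (nat_lit 43447061)) (BT.leaf (nat_lit 43447065))) (BT.node (nat_lit 11522752) (BT.leaf (nat_lit 43447069)) (BT.leaf (nat_lit 32385049)))) (BT.node (nat_lit 11522944) (BT.node (nat_lit 11522880) (BT.leaf (nat_lit 43384857)) (BT.leaf (nat_lit 47294993))) (BT.node (nat_lit 11523008) (BT.leaf (nat_lit 50136605)) (BT.leaf (nat_lit 38865685)))))))) (BT.node (nat_lit 11525184) (BT.node (nat_lit 11524096) (BT.node (nat_lit 11523584) (BT.node (nat_lit 11523328) (BT.node (nat_lit 11523200) (BT.node (nat_lit 11523136) (BT.leaf (nat_lit 38865689)) (BT.leaf (nat_lit 38865693))) (BT.node (nat_lit 11523264) (BT.leaf (nat_lit 32431121)) (BT.leaf (nat_lit 43500037)))) (BT.node (nat_lit 11523456) (BT.node (nat_lit 11523392) (BT.leaf (nat_lit 46093081)) (BT.leaf (nat_lit 44878105))) (BT.node (nat_lit 11523520) (BT.leaf (nat_lit 32865049)) (BT.leaf (nat_lit 44879649))))) (BT.node (nat_lit 11523840) (BT.node (nat_lit 11523712) (BT.node (nat_lit 11523648) (BT.leaf (nat_lit 44878869)) (BT.leaf (nat_lit 32866061))) (BT.node (nat_lit 11523776) (BT.leaf (nat_lit 48385797)) (BT.leaf (nat_lit 35319825)))) (BT.node (nat_lit 11523968) (BT.node (nat_lit 11523904) (BT.leaf (nat_lit 45428761)) (BT.leaf (nat_lit 45428765))) (BT.node (nat_lit 11524032) (BT.leaf (nat_lit 32600337)) (BT.leaf (nat_lit 32867601)))))) (BT.node (nat_lit 11524608) (BT.node (nat_lit 11524352) (BT.node (nat_lit 11524224) (BT.node (nat_lit 11524160) (BT.leaf (nat_lit 46102305)) (BT.leaf (nat_lit 46096409))) (BT.node (nat_lit 11524288) (BT.leaf (nat_lit 35320593)) (BT.leaf (nat_lit 39075097)))) (BT.node (nat_lit 11524480) (BT.node (nat_lit 11524416) (BT.leaf (nat_lit 39075101)) (BT.leaf (nat_lit 32867845))) (BT.node (nat_lit 11524544) (BT.leaf (nat_lit 42386713)) (BT.leaf (nat_lit 42386717))))) (BT.node (nat_lit 11524928) (BT.node (nat_lit 11524736) (BT.node (nat_lit 11524672) (BT.leaf (nat_lit 45742349)) (BT.leaf (nat_lit 32591125))) (BT.node (nat_lit 11524864) (BT.leaf (nat_lit 45276677)) (BT.leaf (nat_lit 35196425)))) (BT.node (nat_lit 11525056) (BT.node (nat_lit 11524992) (BT.leaf (nat_lit 40232469)) (BT.leaf (nat_lit 48389909))) (BT.node (nat_lit 11525120) (BT.leaf (nat_lit 45097745)) (BT.leaf (nat_lit 45276961))))))) (BT.node (nat_lit 11526404) (BT.node (nat_lit 11525952) (BT.node (nat_lit 11525696) (BT.node (nat_lit 11525312) (BT.node (nat_lit 11525248) (BT.leaf (nat_lit 32868373)) (BT.leaf (nat_lit 48808737))) (BT.node (nat_lit 11525376) (BT.leaf (nat_lit 40223253)) (BT.leaf (nat_lit 46101273)))) (BT.node (nat_lit 11525824) (BT.node (nat_lit 11525760) (BT.leaf (nat_lit 41130245)) (BT.leaf (nat_lit 47642629))) (BT.node (nat_lit 11525888) (BT.leaf (nat_lit 46103565)) (BT.leaf (nat_lit 42588677))))) (BT.node (nat_lit 11526208) (BT.node (nat_lit 11526080) (BT.node (nat_lit 11526016) (BT.leaf (nat_lit 35321109)) (BT.leaf (nat_lit 45170457))) (BT.node (nat_lit 11526144) (BT.leaf (nat_lit 39534113)) (BT.leaf (nat_lit 41732613)))) (BT.node (nat_lit 11526336) (BT.node (nat_lit 11526272) (BT.leaf (nat_lit 43050009)) (BT.leaf (nat_lit 43050013))) (BT.node (nat_lit 11526401) (BT.leaf (nat_lit 42190349)) (BT.leaf (nat_lit 723348)))))) (BT.node (nat_lit 11526976) (BT.node (nat_lit 11526720) (BT.node (nat_lit 11526528) (BT.node (nat_lit 11526464) (BT.leaf (nat_lit 723348)) (BT.leaf (nat_lit 46008325))) (BT.node (nat_lit 11526656) (BT.leaf (nat_lit 42130709)) (BT.leaf (nat_lit 41759237)))) (BT.node (nat_lit 11526848) (BT.node (nat_lit 11526784) (BT.leaf (nat_lit 49759257)) (BT.leaf (nat_lit 41982993))) (BT.node (nat_lit 11526912) (BT.leaf (nat_lit 49699865)) (BT.leaf (nat_lit 46107933))))) (BT.node (nat_lit 11527232) (BT.node (nat_lit 11527104) (BT.node (nat_lit 11527040) (BT.leaf (nat_lit 32375829)) (BT.leaf (nat_lit 41003809))) (BT.node (nat_lit 11527168) (BT.leaf (nat_lit 46106889)) (BT.leaf (nat_lit 37900817)))) (BT.node (nat_lit 11527360) (BT.node (nat_lit 11527296) (BT.leaf (nat_lit 32550933)) (BT.leaf (nat_lit 46107913))) (BT.node (nat_lit 11527424) (BT.leaf (nat_lit 37900833)) (BT.leaf (nat_lit 32875797))))))))) (BT.node (nat_lit 11531776) (BT.node (nat_lit 11529600) (BT.node (nat_lit 11528512) (BT.node (nat_lit 11528000) (BT.node (nat_lit 11527744) (BT.node (nat_lit 11527616) (BT.node (nat_lit 11527552) (BT.leaf (nat_lit 37702681)) (BT.leaf (nat_lit 41763333))) (BT.node (nat_lit 11527680) (BT.leaf (nat_lit 35322901)) (BT.leaf (nat_lit 32875297)))) (BT.node (nat_lit 11527872) (BT.node (nat_lit 11527808) (BT.leaf (nat_lit 32875041)) (BT.leaf (nat_lit 49459741))) (BT.node (nat_lit 11527936) (BT.leaf (nat_lit 48708117)) (BT.leaf (nat_lit 49459721))))) (BT.node (nat_lit 11528256) (BT.node (nat_lit 11528128) (BT.node (nat_lit 11528064) (BT.leaf (nat_lit 40942357)) (BT.leaf (nat_lit 41850897))) (BT.node (nat_lit 11528192) (BT.leaf (nat_lit 41765381)) (BT.leaf (nat_lit 45061381)))) (BT.node (nat_lit 11528384) (BT.node (nat_lit 11528320) (BT.leaf (nat_lit 45545761)) (BT.leaf (nat_lit 43080225))) (BT.node (nat_lit 11528448) (BT.leaf (nat_lit 32376601)) (BT.leaf (nat_lit 49343001)))))) (BT.node (nat_lit 11529088) (BT.node (nat_lit 11528768) (BT.node (nat_lit 11528640) (BT.node (nat_lit 11528576) (BT.leaf (nat_lit 38888465)) (BT.leaf (nat_lit 46114589))) (BT.node (nat_lit 11528704) (BT.leaf (nat_lit 32376589)) (BT.leaf (nat_lit 38888481)))) (BT.node (nat_lit 11528960) (BT.node (nat_lit 11528832) (BT.leaf (nat_lit 49343509)) (BT.leaf (nat_lit 32551453))) (BT.node (nat_lit 11529024) (BT.leaf (nat_lit 46114581)) (BT.leaf (nat_lit 45420301))))) (BT.node (nat_lit 11529344) (BT.node (nat_lit 11529216) (BT.node (nat_lit 11529152) (BT.leaf (nat_lit 41142049)) (BT.leaf (nat_lit 42067213))) (BT.node (nat_lit 11529280) (BT.leaf (nat_lit 32536593)) (BT.leaf (nat_lit 44913181)))) (BT.node (nat_lit 11529472) (BT.node (nat_lit 11529408) (BT.leaf (nat_lit 46056453)) (BT.leaf (nat_lit 40355093))) (BT.node (nat_lit 11529536) (BT.leaf (nat_lit 40076045)) (BT.leaf (nat_lit 40076301))))))) (BT.node (nat_lit 11530752) (BT.node (nat_lit 11530112) (BT.node (nat_lit 11529856) (BT.node (nat_lit 11529728) (BT.node (nat_lit 11529664) (BT.leaf (nat_lit 41457429)) (BT.leaf (nat_lit 41501193))) (BT.node (nat_lit 11529792) (BT.leaf (nat_lit 46118681)) (BT.leaf (nat_lit 49400853)))) (BT.node (nat_lit 11529984) (BT.node (nat_lit 11529920) (BT.leaf (nat_lit 42962965)) (BT.leaf (nat_lit 32882449))) (BT.node (nat_lit 11530048) (BT.leaf (nat_lit 48363269)) (BT.leaf (nat_lit 40997153))))) (BT.node (nat_lit 11530496) (BT.node (nat_lit 11530240) (BT.node (nat_lit 11530176) (BT.leaf (nat_lit 40146209)) (BT.leaf (nat_lit 40311813))) (BT.node (nat_lit 11530304) (BT.leaf (nat_lit 40312097)) (BT.leaf (nat_lit 48708629)))) (BT.node (nat_lit 11530624) (BT.node (nat_lit 11530560) (BT.leaf (nat_lit 29867285)) (BT.leaf (nat_lit 32885265))) (BT.node (nat_lit 11530688) (BT.leaf (nat_lit 32884497)) (BT.leaf (nat_lit 32884241)))))) (BT.node (nat_lit 11531264) (BT.node (nat_lit 11531008) (BT.node (nat_lit 11530880) (BT.node (nat_lit 11530816) (BT.leaf (nat_lit 38829337)) (BT.leaf (nat_lit 45650693))) (BT.node (nat_lit 11530944) (BT.leaf (nat_lit 41953557)) (BT.leaf (nat_lit 47900425)))) (BT.node (nat_lit 11531136) (BT.node (nat_lit 11531072) (BT.leaf (nat_lit 36285981)) (BT.leaf (nat_lit 32886545))) (BT.node (nat_lit 11531200) (BT.leaf (nat_lit 32885777)) (BT.leaf (nat_lit 45852441))))) (BT.node (nat_lit 11531520) (BT.node (nat_lit 11531392) (BT.node (nat_lit 11531328) (BT.leaf (nat_lit 45852445)) (BT.leaf (nat_lit 40323333))) (BT.node (nat_lit 11531456) (BT.leaf (nat_lit 42102805)) (BT.leaf (nat_lit 41147653)))) (BT.node (nat_lit 11531648) (BT.node (nat_lit 11531584) (BT.leaf (nat_lit 45656325)) (BT.leaf (nat_lit 41259781))) (BT.node (nat_lit 11531712) (BT.leaf (nat_lit 41428753)) (BT.leaf (nat_lit 44172569)))))))) (BT.node (nat_lit 11533824) (BT.node (nat_lit 11532800) (BT.node (nat_lit 11532288) (BT.node (nat_lit 11532032) (BT.node (nat_lit 11531904) (BT.node (nat_lit 11531840) (BT.leaf (nat_lit 48798997)) (BT.leaf (nat_lit 39371545))) (BT.node (nat_lit 11531968) (BT.leaf (nat_lit 39371549)) (BT.leaf (nat_lit 48307233)))) (BT.node (nat_lit 11532160) (BT.node (nat_lit 11532096) (BT.leaf (nat_lit 40651533)) (BT.leaf (nat_lit 37991173))) (BT.node (nat_lit 11532224) (BT.leaf (nat_lit 37990173)) (BT.leaf (nat_lit 32892189))))) (BT.node (nat_lit 11532544) (BT.node (nat_lit 11532416) (BT.node (nat_lit 11532352) (BT.leaf (nat_lit 38106897)) (BT.leaf (nat_lit 43401221))) (BT.node (nat_lit 11532480) (BT.leaf (nat_lit 43269637)) (BT.leaf (nat_lit 39320069)))) (BT.node (nat_lit 11532672) (BT.node (nat_lit 11532608) (BT.leaf (nat_lit 40259617)) (BT.leaf (nat_lit 39885061))) (BT.node (nat_lit 11532736) (BT.leaf (nat_lit 45372421)) (BT.leaf (nat_lit 46131229)))))) (BT.node (nat_lit 11533312) (BT.node (nat_lit 11533056) (BT.node (nat_lit 11532928) (BT.node (nat_lit 11532864) (BT.leaf (nat_lit 35320081)) (BT.leaf (nat_lit 41790985))) (BT.node (nat_lit 11532992) (BT.leaf (nat_lit 40927769)) (BT.leaf (nat_lit 40927773)))) (BT.node (nat_lit 11533184) (BT.node (nat_lit 11533120) (BT.leaf (nat_lit 48290577)) (BT.leaf (nat_lit 41619985))) (BT.node (nat_lit 11533248) (BT.leaf (nat_lit 47660569)) (BT.leaf (nat_lit 41790477))))) (BT.node (nat_lit 11533568) (BT.node (nat_lit 11533440) (BT.node (nat_lit 11533376) (BT.leaf (nat_lit 32899333)) (BT.leaf (nat_lit 41112581))) (BT.node (nat_lit 11533504) (BT.leaf (nat_lit 46133529)) (BT.leaf (nat_lit 39575569)))) (BT.node (nat_lit 11533696) (BT.node (nat_lit 11533632) (BT.leaf (nat_lit 39575573)) (BT.leaf (nat_lit 32899345))) (BT.node (nat_lit 11533760) (BT.leaf (nat_lit 45239833)) (BT.leaf (nat_lit 45239837))))))) (BT.node (nat_lit 11534848) (BT.node (nat_lit 11534336) (BT.node (nat_lit 11534080) (BT.node (nat_lit 11533952) (BT.node (nat_lit 11533888) (BT.leaf (nat_lit 45415713)) (BT.leaf (nat_lit 41335581))) (BT.node (nat_lit 11534016) (BT.leaf (nat_lit 41365257)) (BT.leaf (nat_lit 41365261)))) (BT.node (nat_lit 11534208) (BT.node (nat_lit 11534144) (BT.leaf (nat_lit 41365273)) (BT.leaf (nat_lit 41365277))) (BT.node (nat_lit 11534272) (BT.leaf (nat_lit 32373013)) (BT.leaf (nat_lit 32901917))))) (BT.node (nat_lit 11534592) (BT.node (nat_lit 11534464) (BT.node (nat_lit 11534400) (BT.leaf (nat_lit 37726225)) (BT.leaf (nat_lit 44971797))) (BT.node (nat_lit 11534528) (BT.leaf (nat_lit 41791497)) (BT.leaf (nat_lit 32902945)))) (BT.node (nat_lit 11534720) (BT.node (nat_lit 11534656) (BT.leaf (nat_lit 39933965)) (BT.leaf (nat_lit 32904725))) (BT.node (nat_lit 11534784) (BT.leaf (nat_lit 32903969)) (BT.leaf (nat_lit 41980445)))))) (BT.node (nat_lit 11535424) (BT.node (nat_lit 11535168) (BT.node (nat_lit 11535040) (BT.node (nat_lit 11534976) (BT.leaf (nat_lit 45419021)) (BT.leaf (nat_lit 32903701))) (BT.node (nat_lit 11535104) (BT.leaf (nat_lit 49720853)) (BT.leaf (nat_lit 49720857)))) (BT.node (nat_lit 11535296) (BT.node (nat_lit 11535232) (BT.leaf (nat_lit 39869465)) (BT.leaf (nat_lit 49721349))) (BT.node (nat_lit 11535360) (BT.leaf (nat_lit 38954001)) (BT.leaf (nat_lit 38954005))))) (BT.node (nat_lit 11535744) (BT.node (nat_lit 11535616) (BT.node (nat_lit 11535552) (BT.leaf (nat_lit 45631009)) (BT.leaf (nat_lit 28903957))) (BT.node (nat_lit 11535680) (BT.leaf (nat_lit 50646305)) (BT.leaf (nat_lit 40711949)))) (BT.node (nat_lit 11535872) (BT.node (nat_lit 11535808) (BT.leaf (nat_lit 32906261)) (BT.leaf (nat_lit 48823061))) (BT.node (nat_lit 11535936) (BT.leaf (nat_lit 49096481)) (BT.leaf (nat_lit 39568149)))))))))))))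
noncomputable def big0_e108544 : BT Nat := (BT.node (nat_lit 11611392) (BT.node (nat_lit 11571200) (BT.node (nat_lit 11553536) (BT.node (nat_lit 11544832) (BT.node (nat_lit 11540480) (BT.node (nat_lit 11538048) (BT.node (nat_lit 11536960) (BT.node (nat_lit 11536448) (BT.node (nat_lit 11536192) (BT.node (nat_lit 11536128) (BT.node (nat_lit 11536064) (BT.leaf (nat_lit 39015449)) (BT.leaf (nat_lit 39568157))) (BT.node (nat_lit 11536129) (BT.leaf (nat_lit 32909073)) (BT.leaf (nat_lit 798596)))) (BT.node (nat_lit 11536320) (BT.node (nat_lit 11536256) (BT.leaf (nat_lit 45874457)) (BT.leaf (nat_lit 45874461))) (BT.node (nat_lit 11536384) (BT.leaf (nat_lit 42686497)) (BT.leaf (nat_lit 45347865))))) (BT.node (nat_lit 11536704) (BT.node (nat_lit 11536576) (BT.node (nat_lit 11536512) (BT.leaf (nat_lit 45347869)) (BT.leaf (nat_lit 38038305))) (BT.node (nat_lit 11536640) (BT.leaf (nat_lit 43774241)) (BT.leaf (nat_lit 44987161)))) (BT.node (nat_lit 11536832) (BT.node (nat_lit 11536768) (BT.leaf (nat_lit 44987165)) (BT.leaf (nat_lit 43303961))) (BT.node (nat_lit 11536896) (BT.leaf (nat_lit 39785477)) (BT.leaf (nat_lit 42465297)))))) (BT.node (nat_lit 11537472) (BT.node (nat_lit 11537216) (BT.node (nat_lit 11537088) (BT.node (nat_lit 11537024) (BT.leaf (nat_lit 46148125)) (BT.leaf (nat_lit 43303949))) (BT.node (nat_lit 11537152) (BT.leaf (nat_lit 42465313)) (BT.leaf (nat_lit 48908045)))) (BT.node (nat_lit 11537344) (BT.node (nat_lit 11537280) (BT.leaf (nat_lit 32999713)) (BT.leaf (nat_lit 39868189))) (BT.node (nat_lit 11537408) (BT.leaf (nat_lit 43873057)) (BT.leaf (nat_lit 41717789))))) (BT.node (nat_lit 11537728) (BT.node (nat_lit 11537600) (BT.node (nat_lit 11537536) (BT.leaf (nat_lit 39370245)) (BT.leaf (nat_lit 40101381))) (BT.node (nat_lit 11537664) (BT.leaf (nat_lit 45567493)) (BT.leaf (nat_lit 49266201)))) (BT.node (nat_lit 11537856) (BT.node (nat_lit 11537792) (BT.leaf (nat_lit 46144261)) (BT.leaf (nat_lit 32912401))) (BT.node (nat_lit 11537984) (BT.leaf (nat_lit 46289429)) (BT.leaf (nat_lit 39939101))))))) (BT.node (nat_lit 11539264) (BT.node (nat_lit 11538752) (BT.node (nat_lit 11538304) (BT.node (nat_lit 11538176) (BT.node (nat_lit 11538112) (BT.leaf (nat_lit 41936673)) (BT.leaf (nat_lit 32914709))) (BT.node (nat_lit 11538240) (BT.leaf (nat_lit 46152989)) (BT.leaf (nat_lit 40543777)))) (BT.node (nat_lit 11538624) (BT.node (nat_lit 11538432) (BT.leaf (nat_lit 30912025)) (BT.leaf (nat_lit 30912029))) (BT.node (nat_lit 11538688) (BT.leaf (nat_lit 31972893)) (BT.leaf (nat_lit 37895689))))) (BT.node (nat_lit 11539008) (BT.node (nat_lit 11538880) (BT.node (nat_lit 11538816) (BT.leaf (nat_lit 37895693)) (BT.leaf (nat_lit 35352341))) (BT.node (nat_lit 11538944) (BT.leaf (nat_lit 37895705)) (BT.leaf (nat_lit 37895709)))) (BT.node (nat_lit 11539136) (BT.node (nat_lit 11539072) (BT.leaf (nat_lit 37895713)) (BT.leaf (nat_lit 37897493))) (BT.node (nat_lit 11539200) (BT.leaf (nat_lit 43133205)) (BT.leaf (nat_lit 39854093)))))) (BT.node (nat_lit 11539776) (BT.node (nat_lit 11539520) (BT.node (nat_lit 11539392) (BT.node (nat_lit 11539328) (BT.leaf (nat_lit 38158369)) (BT.leaf (nat_lit 32917261))) (BT.node (nat_lit 11539456) (BT.leaf (nat_lit 32917517)) (BT.leaf (nat_lit 29688085)))) (BT.node (nat_lit 11539648) (BT.node (nat_lit 11539584) (BT.leaf (nat_lit 44822553)) (BT.leaf (nat_lit 44822557))) (BT.node (nat_lit 11539712) (BT.leaf (nat_lit 38510349)) (BT.leaf (nat_lit 38510353))))) (BT.node (nat_lit 11540096) (BT.node (nat_lit 11539904) (BT.node (nat_lit 11539840) (BT.leaf (nat_lit 32917269)) (BT.leaf (nat_lit 38510369))) (BT.node (nat_lit 11539968) (BT.leaf (nat_lit 47288597)) (BT.leaf (nat_lit 41204245)))) (BT.node (nat_lit 11540224) (BT.node (nat_lit 11540160) (BT.leaf (nat_lit 42401797)) (BT.leaf (nat_lit 43110433))) (BT.node (nat_lit 11540288) (BT.leaf (nat_lit 50255129)) (BT.leaf (nat_lit 32918041)))))))) (BT.node (nat_lit 11542656) (BT.node (nat_lit 11541568) (BT.node (nat_lit 11540992) (BT.node (nat_lit 11540736) (BT.node (nat_lit 11540608) (BT.node (nat_lit 11540544) (BT.leaf (nat_lit 40935709)) (BT.leaf (nat_lit 32918045))) (BT.node (nat_lit 11540672) (BT.leaf (nat_lit 42111761)) (BT.leaf (nat_lit 41105161)))) (BT.node (nat_lit 11540864) (BT.node (nat_lit 11540800) (BT.leaf (nat_lit 40941857)) (BT.leaf (nat_lit 46145797))) (BT.node (nat_lit 11540928) (BT.leaf (nat_lit 29384213)) (BT.leaf (nat_lit 44958473))))) (BT.node (nat_lit 11541312) (BT.node (nat_lit 11541120) (BT.node (nat_lit 11541056) (BT.leaf (nat_lit 44958477)) (BT.leaf (nat_lit 45086485))) (BT.node (nat_lit 11541184) (BT.leaf (nat_lit 44958489)) (BT.leaf (nat_lit 44958493)))) (BT.node (nat_lit 11541440) (BT.node (nat_lit 11541376) (BT.leaf (nat_lit 43079689)) (BT.leaf (nat_lit 49408273))) (BT.node (nat_lit 11541504) (BT.leaf (nat_lit 35353877)) (BT.leaf (nat_lit 43079705)))))) (BT.node (nat_lit 11542144) (BT.node (nat_lit 11541824) (BT.node (nat_lit 11541696) (BT.node (nat_lit 11541632) (BT.leaf (nat_lit 43088153)) (BT.leaf (nat_lit 40641553))) (BT.node (nat_lit 11541760) (BT.leaf (nat_lit 43305497)) (BT.leaf (nat_lit 42087453)))) (BT.node (nat_lit 11542016) (BT.node (nat_lit 11541952) (BT.leaf (nat_lit 44442129)) (BT.leaf (nat_lit 39642129))) (BT.node (nat_lit 11542080) (BT.leaf (nat_lit 42391585)) (BT.leaf (nat_lit 42391329))))) (BT.node (nat_lit 11542400) (BT.node (nat_lit 11542272) (BT.node (nat_lit 11542208) (BT.leaf (nat_lit 39849761)) (BT.leaf (nat_lit 46168601))) (BT.node (nat_lit 11542336) (BT.leaf (nat_lit 51676961)) (BT.leaf (nat_lit 32920337)))) (BT.node (nat_lit 11542528) (BT.node (nat_lit 11542464) (BT.leaf (nat_lit 42396705)) (BT.leaf (nat_lit 41777417))) (BT.node (nat_lit 11542592) (BT.leaf (nat_lit 49779233)) (BT.leaf (nat_lit 48259093))))))) (BT.node (nat_lit 11543744) (BT.node (nat_lit 11543232) (BT.node (nat_lit 11542912) (BT.node (nat_lit 11542784) (BT.node (nat_lit 11542720) (BT.leaf (nat_lit 30773013)) (BT.leaf (nat_lit 32922121))) (BT.node (nat_lit 11542848) (BT.leaf (nat_lit 37739801)) (BT.leaf (nat_lit 46255905)))) (BT.node (nat_lit 11543040) (BT.node (nat_lit 11542976) (BT.leaf (nat_lit 32922141)) (BT.leaf (nat_lit 47464205))) (BT.node (nat_lit 11543168) (BT.leaf (nat_lit 41776917)) (BT.leaf (nat_lit 38929165))))) (BT.node (nat_lit 11543488) (BT.node (nat_lit 11543360) (BT.node (nat_lit 11543296) (BT.leaf (nat_lit 32922137)) (BT.leaf (nat_lit 39633157))) (BT.node (nat_lit 11543424) (BT.leaf (nat_lit 38928393)) (BT.leaf (nat_lit 38928401)))) (BT.node (nat_lit 11543616) (BT.node (nat_lit 11543552) (BT.leaf (nat_lit 42852641)) (BT.leaf (nat_lit 38353685))) (BT.node (nat_lit 11543680) (BT.leaf (nat_lit 41227029)) (BT.leaf (nat_lit 32570913)))))) (BT.node (nat_lit 11544320) (BT.node (nat_lit 11544064) (BT.node (nat_lit 11543936) (BT.node (nat_lit 11543808) (BT.leaf (nat_lit 45687053)) (BT.leaf (nat_lit 45689121))) (BT.node (nat_lit 11544000) (BT.leaf (nat_lit 40775185)) (BT.leaf (nat_lit 49491721)))) (BT.node (nat_lit 11544192) (BT.node (nat_lit 11544128) (BT.leaf (nat_lit 42284577)) (BT.leaf (nat_lit 44076045))) (BT.node (nat_lit 11544256) (BT.leaf (nat_lit 39101961)) (BT.leaf (nat_lit 39101965))))) (BT.node (nat_lit 11544576) (BT.node (nat_lit 11544448) (BT.node (nat_lit 11544384) (BT.leaf (nat_lit 32924437)) (BT.leaf (nat_lit 39101977))) (BT.node (nat_lit 11544512) (BT.leaf (nat_lit 39101981)) (BT.leaf (nat_lit 45248269)))) (BT.node (nat_lit 11544704) (BT.node (nat_lit 11544640) (BT.leaf (nat_lit 38765841)) (BT.leaf (nat_lit 40216097))) (BT.node (nat_lit 11544768) (BT.leaf (nat_lit 39525409)) (BT.leaf (nat_lit 37790241))))))))) (BT.node (nat_lit 11549184) (BT.node (nat_lit 11547072) (BT.node (nat_lit 11545920) (BT.node (nat_lit 11545344) (BT.node (nat_lit 11545088) (BT.node (nat_lit 11544960) (BT.node (nat_lit 11544896) (BT.leaf (nat_lit 31414289)) (BT.leaf (nat_lit 42486277))) (BT.node (nat_lit 11545024) (BT.leaf (nat_lit 38174237)) (BT.leaf (nat_lit 38592789)))) (BT.node (nat_lit 11545216) (BT.node (nat_lit 11545152) (BT.leaf (nat_lit 38592793)) (BT.leaf (nat_lit 38592797))) (BT.node (nat_lit 11545280) (BT.leaf (nat_lit 49242897)) (BT.leaf (nat_lit 37794053))))) (BT.node (nat_lit 11545606) (BT.node (nat_lit 11545536) (BT.node (nat_lit 11545408) (BT.leaf (nat_lit 48046625)) (BT.leaf (nat_lit 45977605))) (BT.node (nat_lit 11545600) (BT.leaf (nat_lit 43653381)) (BT.leaf (nat_lit 44355857)))) (BT.node (nat_lit 11545728) (BT.node (nat_lit 11545664) (BT.leaf (nat_lit 776004)) (BT.leaf (nat_lit 43004165))) (BT.node (nat_lit 11545792) (BT.leaf (nat_lit 32928785)) (BT.leaf (nat_lit 44356373)))))) (BT.node (nat_lit 11546496) (BT.node (nat_lit 11546176) (BT.node (nat_lit 11546048) (BT.node (nat_lit 11545984) (BT.leaf (nat_lit 31460121)) (BT.leaf (nat_lit 48713497))) (BT.node (nat_lit 11546112) (BT.leaf (nat_lit 41973009)) (BT.leaf (nat_lit 46184733)))) (BT.node (nat_lit 11546368) (BT.node (nat_lit 11546240) (BT.leaf (nat_lit 51384081)) (BT.leaf (nat_lit 43004193))) (BT.node (nat_lit 11546432) (BT.leaf (nat_lit 48046617)) (BT.leaf (nat_lit 48046621))))) (BT.node (nat_lit 11546816) (BT.node (nat_lit 11546624) (BT.node (nat_lit 11546560) (BT.leaf (nat_lit 48713749)) (BT.leaf (nat_lit 45841681))) (BT.node (nat_lit 11546688) (BT.leaf (nat_lit 41786393)) (BT.leaf (nat_lit 45977633)))) (BT.node (nat_lit 11546944) (BT.node (nat_lit 11546880) (BT.leaf (nat_lit 43489561)) (BT.leaf (nat_lit 43489565))) (BT.node (nat_lit 11547008) (BT.leaf (nat_lit 42731273)) (BT.leaf (nat_lit 44176649))))))) (BT.node (nat_lit 11548096) (BT.node (nat_lit 11547584) (BT.node (nat_lit 11547328) (BT.node (nat_lit 11547200) (BT.node (nat_lit 11547136) (BT.leaf (nat_lit 37941013)) (BT.leaf (nat_lit 43904789))) (BT.node (nat_lit 11547264) (BT.leaf (nat_lit 43904793)) (BT.leaf (nat_lit 43904797)))) (BT.node (nat_lit 11547456) (BT.node (nat_lit 11547392) (BT.leaf (nat_lit 50471701)) (BT.leaf (nat_lit 41456145))) (BT.node (nat_lit 11547520) (BT.leaf (nat_lit 37798429)) (BT.leaf (nat_lit 40483361))))) (BT.node (nat_lit 11547840) (BT.node (nat_lit 11547712) (BT.node (nat_lit 11547648) (BT.leaf (nat_lit 43658001)) (BT.leaf (nat_lit 46192413))) (BT.node (nat_lit 11547776) (BT.leaf (nat_lit 28446489)) (BT.leaf (nat_lit 43636485)))) (BT.node (nat_lit 11547968) (BT.node (nat_lit 11547904) (BT.leaf (nat_lit 50921493)) (BT.leaf (nat_lit 31462681))) (BT.node (nat_lit 11548032) (BT.leaf (nat_lit 47653397)) (BT.leaf (nat_lit 40673557)))))) (BT.node (nat_lit 11548672) (BT.node (nat_lit 11548416) (BT.node (nat_lit 11548224) (BT.node (nat_lit 11548160) (BT.leaf (nat_lit 31462669)) (BT.leaf (nat_lit 40674065))) (BT.node (nat_lit 11548288) (BT.leaf (nat_lit 46271237)) (BT.leaf (nat_lit 47745821)))) (BT.node (nat_lit 11548544) (BT.node (nat_lit 11548480) (BT.leaf (nat_lit 39846425)) (BT.leaf (nat_lit 39846429))) (BT.node (nat_lit 11548608) (BT.leaf (nat_lit 38937877)) (BT.leaf (nat_lit 37753889))))) (BT.node (nat_lit 11548928) (BT.node (nat_lit 11548800) (BT.node (nat_lit 11548736) (BT.leaf (nat_lit 42645533)) (BT.leaf (nat_lit 32942353))) (BT.node (nat_lit 11548864) (BT.leaf (nat_lit 39077913)) (BT.leaf (nat_lit 39077917)))) (BT.node (nat_lit 11549056) (BT.node (nat_lit 11548992) (BT.leaf (nat_lit 40406805)) (BT.leaf (nat_lit 40406809))) (BT.node (nat_lit 11549120) (BT.leaf (nat_lit 39534369)) (BT.leaf (nat_lit 46196749)))))))) (BT.node (nat_lit 11551363) (BT.node (nat_lit 11550400) (BT.node (nat_lit 11549824) (BT.node (nat_lit 11549568) (BT.node (nat_lit 11549440) (BT.node (nat_lit 11549248) (BT.leaf (nat_lit 48695829)) (BT.leaf (nat_lit 40407569))) (BT.node (nat_lit 11549504) (BT.leaf (nat_lit 49559317)) (BT.leaf (nat_lit 47175197)))) (BT.node (nat_lit 11549696) (BT.node (nat_lit 11549632) (BT.leaf (nat_lit 48696089)) (BT.leaf (nat_lit 38894097))) (BT.node (nat_lit 11549760) (BT.leaf (nat_lit 38894101)) (BT.leaf (nat_lit 51125017))))) (BT.node (nat_lit 11550080) (BT.node (nat_lit 11549952) (BT.node (nat_lit 11549888) (BT.leaf (nat_lit 47176477)) (BT.leaf (nat_lit 32944669))) (BT.node (nat_lit 11550016) (BT.leaf (nat_lit 37836049)) (BT.leaf (nat_lit 41555481)))) (BT.node (nat_lit 11550272) (BT.node (nat_lit 11550144) (BT.leaf (nat_lit 44407057)) (BT.leaf (nat_lit 32182545))) (BT.node (nat_lit 11550336) (BT.leaf (nat_lit 40927005)) (BT.leaf (nat_lit 40965653)))))) (BT.node (nat_lit 11550912) (BT.node (nat_lit 11550656) (BT.node (nat_lit 11550528) (BT.node (nat_lit 11550464) (BT.leaf (nat_lit 45372953)) (BT.leaf (nat_lit 45372957))) (BT.node (nat_lit 11550592) (BT.leaf (nat_lit 51000849)) (BT.leaf (nat_lit 40266001)))) (BT.node (nat_lit 11550784) (BT.node (nat_lit 11550720) (BT.leaf (nat_lit 42970885)) (BT.leaf (nat_lit 32153105))) (BT.node (nat_lit 11550848) (BT.leaf (nat_lit 42970905)) (BT.leaf (nat_lit 42970909))))) (BT.node (nat_lit 11551168) (BT.node (nat_lit 11551040) (BT.node (nat_lit 11550976) (BT.leaf (nat_lit 37041441)) (BT.leaf (nat_lit 42718737))) (BT.node (nat_lit 11551104) (BT.leaf (nat_lit 47848197)) (BT.leaf (nat_lit 47392021)))) (BT.node (nat_lit 11551296) (BT.node (nat_lit 11551232) (BT.leaf (nat_lit 43508233)) (BT.leaf (nat_lit 32947217))) (BT.node (nat_lit 11551360) (BT.leaf (nat_lit 43508249)) (BT.leaf (nat_lit 32779781))))))) (BT.node (nat_lit 11552320) (BT.node (nat_lit 11551744) (BT.node (nat_lit 11551488) (BT.node (nat_lit 11551368) (BT.node (nat_lit 11551365) (BT.leaf (nat_lit 775524)) (BT.leaf (nat_lit 775524))) (BT.node (nat_lit 11551424) (BT.leaf (nat_lit 775524)) (BT.leaf (nat_lit 38266637)))) (BT.node (nat_lit 11551616) (BT.node (nat_lit 11551552) (BT.leaf (nat_lit 37993233)) (BT.leaf (nat_lit 43369749))) (BT.node (nat_lit 11551680) (BT.leaf (nat_lit 45677061)) (BT.leaf (nat_lit 44136969))))) (BT.node (nat_lit 11552000) (BT.node (nat_lit 11551872) (BT.node (nat_lit 11551808) (BT.leaf (nat_lit 48698393)) (BT.leaf (nat_lit 44199185))) (BT.node (nat_lit 11551936) (BT.leaf (nat_lit 31065877)) (BT.leaf (nat_lit 39000073)))) (BT.node (nat_lit 11552192) (BT.node (nat_lit 11552128) (BT.leaf (nat_lit 39000077)) (BT.leaf (nat_lit 39000089))) (BT.node (nat_lit 11552256) (BT.leaf (nat_lit 39000093)) (BT.leaf (nat_lit 43495705)))))) (BT.node (nat_lit 11552960) (BT.node (nat_lit 11552704) (BT.node (nat_lit 11552576) (BT.node (nat_lit 11552384) (BT.leaf (nat_lit 43495709)) (BT.leaf (nat_lit 45174805))) (BT.node (nat_lit 11552640) (BT.leaf (nat_lit 48732933)) (BT.leaf (nat_lit 41576201)))) (BT.node (nat_lit 11552832) (BT.node (nat_lit 11552768) (BT.leaf (nat_lit 44619801)) (BT.leaf (nat_lit 44619805))) (BT.node (nat_lit 11552896) (BT.leaf (nat_lit 38934033)) (BT.leaf (nat_lit 38502165))))) (BT.node (nat_lit 11553280) (BT.node (nat_lit 11553088) (BT.node (nat_lit 11553024) (BT.leaf (nat_lit 38502169)) (BT.leaf (nat_lit 38502173))) (BT.node (nat_lit 11553152) (BT.leaf (nat_lit 44615689)) (BT.leaf (nat_lit 40200205)))) (BT.node (nat_lit 11553408) (BT.node (nat_lit 11553344) (BT.leaf (nat_lit 41811989)) (BT.leaf (nat_lit 45711129))) (BT.node (nat_lit 11553472) (BT.leaf (nat_lit 38866189)) (BT.leaf (nat_lit 46214173)))))))))) (BT.node (nat_lit 11562176) (BT.node (nat_lit 11557824) (BT.node (nat_lit 11555712) (BT.node (nat_lit 11554560) (BT.node (nat_lit 11554048) (BT.node (nat_lit 11553792) (BT.node (nat_lit 11553664) (BT.node (nat_lit 11553600) (BT.leaf (nat_lit 33020437)) (BT.leaf (nat_lit 44643345))) (BT.node (nat_lit 11553728) (BT.leaf (nat_lit 39579925)) (BT.leaf (nat_lit 48858641)))) (BT.node (nat_lit 11553920) (BT.node (nat_lit 11553856) (BT.leaf (nat_lit 44394017)) (BT.leaf (nat_lit 39615001))) (BT.node (nat_lit 11553984) (BT.leaf (nat_lit 44865033)) (BT.leaf (nat_lit 45509145))))) (BT.node (nat_lit 11554304) (BT.node (nat_lit 11554176) (BT.node (nat_lit 11554112) (BT.leaf (nat_lit 46457861)) (BT.leaf (nat_lit 45869845))) (BT.node (nat_lit 11554240) (BT.leaf (nat_lit 46216973)) (BT.leaf (nat_lit 47130645)))) (BT.node (nat_lit 11554432) (BT.node (nat_lit 11554368) (BT.leaf (nat_lit 40272665)) (BT.leaf (nat_lit 40272669))) (BT.node (nat_lit 11554496) (BT.leaf (nat_lit 29120021)) (BT.leaf (nat_lit 48086533)))))) (BT.node (nat_lit 11555136) (BT.node (nat_lit 11554816) (BT.node (nat_lit 11554688) (BT.node (nat_lit 11554624) (BT.leaf (nat_lit 32958481)) (BT.leaf (nat_lit 37872153))) (BT.node (nat_lit 11554752) (BT.leaf (nat_lit 37872157)) (BT.leaf (nat_lit 47548693)))) (BT.node (nat_lit 11554944) (BT.node (nat_lit 11554880) (BT.leaf (nat_lit 48388621)) (BT.leaf (nat_lit 41190945))) (BT.node (nat_lit 11555008) (BT.leaf (nat_lit 48388633)) (BT.leaf (nat_lit 32188945))))) (BT.node (nat_lit 11555456) (BT.node (nat_lit 11555328) (BT.node (nat_lit 11555200) (BT.leaf (nat_lit 38246921)) (BT.leaf (nat_lit 28865809))) (BT.node (nat_lit 11555392) (BT.leaf (nat_lit 41143813)) (BT.leaf (nat_lit 28549905)))) (BT.node (nat_lit 11555584) (BT.node (nat_lit 11555520) (BT.leaf (nat_lit 40976393)) (BT.leaf (nat_lit 40976397))) (BT.node (nat_lit 11555648) (BT.leaf (nat_lit 31882013)) (BT.leaf (nat_lit 41926149))))))) (BT.node (nat_lit 11556800) (BT.node (nat_lit 11556288) (BT.node (nat_lit 11556032) (BT.node (nat_lit 11555840) (BT.node (nat_lit 11555776) (BT.leaf (nat_lit 46222617)) (BT.leaf (nat_lit 40976417))) (BT.node (nat_lit 11555968) (BT.leaf (nat_lit 41489933)) (BT.leaf (nat_lit 41489417)))) (BT.node (nat_lit 11556160) (BT.node (nat_lit 11556096) (BT.leaf (nat_lit 32960801)) (BT.leaf (nat_lit 42288133))) (BT.node (nat_lit 11556224) (BT.leaf (nat_lit 39561997)) (BT.leaf (nat_lit 45682453))))) (BT.node (nat_lit 11556544) (BT.node (nat_lit 11556416) (BT.node (nat_lit 11556352) (BT.leaf (nat_lit 39562009)) (BT.leaf (nat_lit 39562013))) (BT.node (nat_lit 11556480) (BT.leaf (nat_lit 41724705)) (BT.leaf (nat_lit 36446493)))) (BT.node (nat_lit 11556672) (BT.node (nat_lit 11556608) (BT.leaf (nat_lit 39947029)) (BT.leaf (nat_lit 41724933))) (BT.node (nat_lit 11556736) (BT.leaf (nat_lit 45682457)) (BT.leaf (nat_lit 45682461)))))) (BT.node (nat_lit 11557312) (BT.node (nat_lit 11557056) (BT.node (nat_lit 11556928) (BT.node (nat_lit 11556864) (BT.leaf (nat_lit 32961297)) (BT.leaf (nat_lit 43510537))) (BT.node (nat_lit 11556992) (BT.leaf (nat_lit 40481821)) (BT.leaf (nat_lit 41492489)))) (BT.node (nat_lit 11557184) (BT.node (nat_lit 11557120) (BT.leaf (nat_lit 41493005)) (BT.leaf (nat_lit 44100893))) (BT.node (nat_lit 11557248) (BT.leaf (nat_lit 41493773)) (BT.leaf (nat_lit 30786589))))) (BT.node (nat_lit 11557568) (BT.node (nat_lit 11557440) (BT.node (nat_lit 11557376) (BT.leaf (nat_lit 39372293)) (BT.leaf (nat_lit 42516997))) (BT.node (nat_lit 11557504) (BT.leaf (nat_lit 38319369)) (BT.leaf (nat_lit 38319373)))) (BT.node (nat_lit 11557696) (BT.node (nat_lit 11557632) (BT.leaf (nat_lit 49351969)) (BT.leaf (nat_lit 43413769))) (BT.node (nat_lit 11557760) (BT.leaf (nat_lit 46230553)) (BT.leaf (nat_lit 39865861)))))))) (BT.node (nat_lit 11559872) (BT.node (nat_lit 11558848) (BT.node (nat_lit 11558406) (BT.node (nat_lit 11558080) (BT.node (nat_lit 11557952) (BT.node (nat_lit 11557888) (BT.leaf (nat_lit 44536341)) (BT.leaf (nat_lit 41487629))) (BT.node (nat_lit 11558016) (BT.leaf (nat_lit 44536093)) (BT.leaf (nat_lit 45153041)))) (BT.node (nat_lit 11558336) (BT.node (nat_lit 11558272) (BT.leaf (nat_lit 43088661)) (BT.leaf (nat_lit 40188953))) (BT.node (nat_lit 11558400) (BT.leaf (nat_lit 47532821)) (BT.leaf (nat_lit 39882769))))) (BT.node (nat_lit 11558592) (BT.node (nat_lit 11558464) (BT.node (nat_lit 11558407) (BT.leaf (nat_lit 747880)) (BT.leaf (nat_lit 747880))) (BT.node (nat_lit 11558528) (BT.leaf (nat_lit 44056073)) (BT.leaf (nat_lit 40188941)))) (BT.node (nat_lit 11558720) (BT.node (nat_lit 11558656) (BT.leaf (nat_lit 41328417)) (BT.leaf (nat_lit 41328157))) (BT.node (nat_lit 11558784) (BT.leaf (nat_lit 32965637)) (BT.leaf (nat_lit 38397973)))))) (BT.node (nat_lit 11559360) (BT.node (nat_lit 11559104) (BT.node (nat_lit 11558976) (BT.node (nat_lit 11558912) (BT.leaf (nat_lit 32966417)) (BT.leaf (nat_lit 32965905))) (BT.node (nat_lit 11559040) (BT.leaf (nat_lit 38371105)) (BT.leaf (nat_lit 42157593)))) (BT.node (nat_lit 11559232) (BT.node (nat_lit 11559168) (BT.leaf (nat_lit 38889753)) (BT.leaf (nat_lit 39226885))) (BT.node (nat_lit 11559296) (BT.leaf (nat_lit 49695261)) (BT.leaf (nat_lit 39589637))))) (BT.node (nat_lit 11559616) (BT.node (nat_lit 11559488) (BT.node (nat_lit 11559424) (BT.leaf (nat_lit 44100117)) (BT.leaf (nat_lit 45226777))) (BT.node (nat_lit 11559552) (BT.leaf (nat_lit 45226781)) (BT.leaf (nat_lit 38408973)))) (BT.node (nat_lit 11559744) (BT.node (nat_lit 11559680) (BT.leaf (nat_lit 42649617)) (BT.leaf (nat_lit 44253465))) (BT.node (nat_lit 11559808) (BT.leaf (nat_lit 44258057)) (BT.leaf (nat_lit 40140821))))))) (BT.node (nat_lit 11561088) (BT.node (nat_lit 11560640) (BT.node (nat_lit 11560128) (BT.node (nat_lit 11560000) (BT.node (nat_lit 11559936) (BT.leaf (nat_lit 32969733)) (BT.leaf (nat_lit 39503629))) (BT.node (nat_lit 11560064) (BT.leaf (nat_lit 39503885)) (BT.leaf (nat_lit 43274005)))) (BT.node (nat_lit 11560512) (BT.node (nat_lit 11560448) (BT.leaf (nat_lit 45282061)) (BT.leaf (nat_lit 32973585))) (BT.node (nat_lit 11560576) (BT.leaf (nat_lit 32972817)) (BT.leaf (nat_lit 32972561))))) (BT.node (nat_lit 11560832) (BT.node (nat_lit 11560704) (BT.node (nat_lit 11560641) (BT.leaf (nat_lit 40643597)) (BT.leaf (nat_lit 777560))) (BT.node (nat_lit 11560768) (BT.leaf (nat_lit 46242585)) (BT.leaf (nat_lit 47257621)))) (BT.node (nat_lit 11560960) (BT.node (nat_lit 11560896) (BT.leaf (nat_lit 40189721)) (BT.leaf (nat_lit 44252681))) (BT.node (nat_lit 11561024) (BT.leaf (nat_lit 43224081)) (BT.leaf (nat_lit 41570821)))))) (BT.node (nat_lit 11561664) (BT.node (nat_lit 11561408) (BT.node (nat_lit 11561280) (BT.node (nat_lit 11561216) (BT.leaf (nat_lit 49789193)) (BT.leaf (nat_lit 49449733))) (BT.node (nat_lit 11561344) (BT.leaf (nat_lit 35377685)) (BT.leaf (nat_lit 43138073)))) (BT.node (nat_lit 11561536) (BT.node (nat_lit 11561472) (BT.leaf (nat_lit 49772045)) (BT.leaf (nat_lit 40715285))) (BT.node (nat_lit 11561600) (BT.leaf (nat_lit 39320609)) (BT.leaf (nat_lit 46246685))))) (BT.node (nat_lit 11561920) (BT.node (nat_lit 11561792) (BT.node (nat_lit 11561728) (BT.leaf (nat_lit 45404933)) (BT.leaf (nat_lit 37753609))) (BT.node (nat_lit 11561856) (BT.leaf (nat_lit 47055645)) (BT.leaf (nat_lit 40392225)))) (BT.node (nat_lit 11562048) (BT.node (nat_lit 11561984) (BT.leaf (nat_lit 47055625)) (BT.leaf (nat_lit 45406725))) (BT.node (nat_lit 11562112) (BT.leaf (nat_lit 38894625)) (BT.leaf (nat_lit 45621793))))))))) (BT.node (nat_lit 11566784) (BT.node (nat_lit 11564544) (BT.node (nat_lit 11563328) (BT.node (nat_lit 11562816) (BT.node (nat_lit 11562560) (BT.node (nat_lit 11562432) (BT.node (nat_lit 11562368) (BT.leaf (nat_lit 45408005)) (BT.leaf (nat_lit 45579809))) (BT.node (nat_lit 11562496) (BT.leaf (nat_lit 39343373)) (BT.leaf (nat_lit 49041685)))) (BT.node (nat_lit 11562688) (BT.node (nat_lit 11562624) (BT.leaf (nat_lit 44225805)) (BT.leaf (nat_lit 43534093))) (BT.node (nat_lit 11562752) (BT.leaf (nat_lit 43144213)) (BT.leaf (nat_lit 32981521))))) (BT.node (nat_lit 11563072) (BT.node (nat_lit 11562944) (BT.node (nat_lit 11562880) (BT.leaf (nat_lit 46251549)) (BT.leaf (nat_lit 47155233))) (BT.node (nat_lit 11563008) (BT.leaf (nat_lit 41355785)) (BT.leaf (nat_lit 41355789)))) (BT.node (nat_lit 11563200) (BT.node (nat_lit 11563136) (BT.leaf (nat_lit 41355793)) (BT.leaf (nat_lit 41355801))) (BT.node (nat_lit 11563264) (BT.leaf (nat_lit 41355805)) (BT.leaf (nat_lit 42244357)))))) (BT.node (nat_lit 11563968) (BT.node (nat_lit 11563712) (BT.node (nat_lit 11563584) (BT.node (nat_lit 11563392) (BT.leaf (nat_lit 45367557)) (BT.leaf (nat_lit 46227221))) (BT.node (nat_lit 11563648) (BT.leaf (nat_lit 44035345)) (BT.leaf (nat_lit 44035349)))) (BT.node (nat_lit 11563840) (BT.node (nat_lit 11563776) (BT.leaf (nat_lit 39922181)) (BT.leaf (nat_lit 43781149))) (BT.node (nat_lit 11563904) (BT.leaf (nat_lit 49780233)) (BT.leaf (nat_lit 46171141))))) (BT.node (nat_lit 11564288) (BT.node (nat_lit 11564160) (BT.node (nat_lit 11564096) (BT.leaf (nat_lit 40291845)) (BT.leaf (nat_lit 41937417))) (BT.node (nat_lit 11564224) (BT.leaf (nat_lit 41808653)) (BT.leaf (nat_lit 39501073)))) (BT.node (nat_lit 11564416) (BT.node (nat_lit 11564352) (BT.leaf (nat_lit 44240909)) (BT.leaf (nat_lit 32984349))) (BT.node (nat_lit 11564480) (BT.leaf (nat_lit 32983837)) (BT.leaf (nat_lit 45184017))))))) (BT.node (nat_lit 11565696) (BT.node (nat_lit 11565120) (BT.node (nat_lit 11564864) (BT.node (nat_lit 11564672) (BT.node (nat_lit 11564608) (BT.leaf (nat_lit 46052893)) (BT.leaf (nat_lit 32984345))) (BT.node (nat_lit 11564736) (BT.leaf (nat_lit 31504409)) (BT.leaf (nat_lit 48747033)))) (BT.node (nat_lit 11564992) (BT.node (nat_lit 11564928) (BT.leaf (nat_lit 45282565)) (BT.leaf (nat_lit 39151129))) (BT.node (nat_lit 11565056) (BT.leaf (nat_lit 32979221)) (BT.leaf (nat_lit 39232521))))) (BT.node (nat_lit 11565376) (BT.node (nat_lit 11565248) (BT.node (nat_lit 11565184) (BT.leaf (nat_lit 40891925)) (BT.leaf (nat_lit 32986145))) (BT.node (nat_lit 11565312) (BT.leaf (nat_lit 40899613)) (BT.leaf (nat_lit 39916817)))) (BT.node (nat_lit 11565504) (BT.node (nat_lit 11565440) (BT.leaf (nat_lit 45607457)) (BT.leaf (nat_lit 39914521))) (BT.node (nat_lit 11565568) (BT.leaf (nat_lit 39914525)) (BT.leaf (nat_lit 47655441)))))) (BT.node (nat_lit 11566272) (BT.node (nat_lit 11565952) (BT.node (nat_lit 11565824) (BT.node (nat_lit 11565760) (BT.leaf (nat_lit 49484293)) (BT.leaf (nat_lit 32986389))) (BT.node (nat_lit 11565888) (BT.leaf (nat_lit 41724169)) (BT.leaf (nat_lit 41724173)))) (BT.node (nat_lit 11566080) (BT.node (nat_lit 11566016) (BT.leaf (nat_lit 41894425)) (BT.leaf (nat_lit 41894429))) (BT.node (nat_lit 11566208) (BT.leaf (nat_lit 31504921)) (BT.leaf (nat_lit 51622933))))) (BT.node (nat_lit 11566528) (BT.node (nat_lit 11566400) (BT.node (nat_lit 11566336) (BT.leaf (nat_lit 31504925)) (BT.leaf (nat_lit 43238165))) (BT.node (nat_lit 11566464) (BT.leaf (nat_lit 46265885)) (BT.leaf (nat_lit 41809417)))) (BT.node (nat_lit 11566656) (BT.node (nat_lit 11566592) (BT.leaf (nat_lit 32988689)) (BT.leaf (nat_lit 44302105))) (BT.node (nat_lit 11566720) (BT.leaf (nat_lit 44302109)) (BT.leaf (nat_lit 46111777)))))))) (BT.node (nat_lit 11569088) (BT.node (nat_lit 11567872) (BT.node (nat_lit 11567296) (BT.node (nat_lit 11567040) (BT.node (nat_lit 11566912) (BT.node (nat_lit 11566848) (BT.leaf (nat_lit 45419297)) (BT.leaf (nat_lit 35387669))) (BT.node (nat_lit 11566976) (BT.leaf (nat_lit 43885089)) (BT.leaf (nat_lit 45418273)))) (BT.node (nat_lit 11567168) (BT.node (nat_lit 11567104) (BT.leaf (nat_lit 32990237)) (BT.leaf (nat_lit 45535761))) (BT.node (nat_lit 11567232) (BT.leaf (nat_lit 45535765)) (BT.leaf (nat_lit 32992021))))) (BT.node (nat_lit 11567552) (BT.node (nat_lit 11567424) (BT.node (nat_lit 11567360) (BT.leaf (nat_lit 32990993)) (BT.leaf (nat_lit 32990737))) (BT.node (nat_lit 11567488) (BT.leaf (nat_lit 45874713)) (BT.leaf (nat_lit 45874717)))) (BT.node (nat_lit 11567680) (BT.node (nat_lit 11567616) (BT.leaf (nat_lit 32992285)) (BT.leaf (nat_lit 38048273))) (BT.node (nat_lit 11567808) (BT.leaf (nat_lit 41883413)) (BT.leaf (nat_lit 43764513)))))) (BT.node (nat_lit 11568384) (BT.node (nat_lit 11568128) (BT.node (nat_lit 11568000) (BT.node (nat_lit 11567936) (BT.leaf (nat_lit 40648209)) (BT.leaf (nat_lit 40648213))) (BT.node (nat_lit 11568064) (BT.leaf (nat_lit 39922953)) (BT.leaf (nat_lit 39922957)))) (BT.node (nat_lit 11568256) (BT.node (nat_lit 11568192) (BT.leaf (nat_lit 39922961)) (BT.leaf (nat_lit 39922969))) (BT.node (nat_lit 11568320) (BT.leaf (nat_lit 39922973)) (BT.leaf (nat_lit 45886725))))) (BT.node (nat_lit 11568640) (BT.node (nat_lit 11568512) (BT.node (nat_lit 11568448) (BT.leaf (nat_lit 32998425)) (BT.leaf (nat_lit 45886737))) (BT.node (nat_lit 11568576) (BT.leaf (nat_lit 45886741)) (BT.leaf (nat_lit 45030405)))) (BT.node (nat_lit 11568960) (BT.node (nat_lit 11568896) (BT.leaf (nat_lit 32998429)) (BT.leaf (nat_lit 40933145))) (BT.node (nat_lit 11569024) (BT.leaf (nat_lit 49101077)) (BT.leaf (nat_lit 41525009))))))) (BT.node (nat_lit 11570112) (BT.node (nat_lit 11569600) (BT.node (nat_lit 11569344) (BT.node (nat_lit 11569216) (BT.node (nat_lit 11569152) (BT.leaf (nat_lit 42934281)) (BT.leaf (nat_lit 40933133))) (BT.node (nat_lit 11569280) (BT.leaf (nat_lit 41525025)) (BT.leaf (nat_lit 40932109)))) (BT.node (nat_lit 11569472) (BT.node (nat_lit 11569408) (BT.leaf (nat_lit 32998917)) (BT.leaf (nat_lit 40809493))) (BT.node (nat_lit 11569536) (BT.leaf (nat_lit 41201433)) (BT.leaf (nat_lit 44687629))))) (BT.node (nat_lit 11569856) (BT.node (nat_lit 11569728) (BT.node (nat_lit 11569664) (BT.leaf (nat_lit 44689953)) (BT.leaf (nat_lit 31057177))) (BT.node (nat_lit 11569792) (BT.leaf (nat_lit 32999961)) (BT.leaf (nat_lit 33001757)))) (BT.node (nat_lit 11569984) (BT.node (nat_lit 11569920) (BT.leaf (nat_lit 33000989)) (BT.leaf (nat_lit 43270421))) (BT.node (nat_lit 11570048) (BT.leaf (nat_lit 45693701)) (BT.leaf (nat_lit 46176773)))))) (BT.node (nat_lit 11570624) (BT.node (nat_lit 11570368) (BT.node (nat_lit 11570240) (BT.node (nat_lit 11570176) (BT.leaf (nat_lit 46177029)) (BT.leaf (nat_lit 46177313))) (BT.node (nat_lit 11570304) (BT.leaf (nat_lit 44939289)) (BT.leaf (nat_lit 44939293)))) (BT.node (nat_lit 11570496) (BT.node (nat_lit 11570432) (BT.leaf (nat_lit 45097229)) (BT.leaf (nat_lit 48388117))) (BT.node (nat_lit 11570560) (BT.leaf (nat_lit 30961941)) (BT.leaf (nat_lit 42727173))))) (BT.node (nat_lit 11570944) (BT.node (nat_lit 11570816) (BT.node (nat_lit 11570752) (BT.leaf (nat_lit 41700105)) (BT.leaf (nat_lit 28623889))) (BT.node (nat_lit 11570880) (BT.leaf (nat_lit 46050837)) (BT.leaf (nat_lit 39873049)))) (BT.node (nat_lit 11571072) (BT.node (nat_lit 11571008) (BT.leaf (nat_lit 39873053)) (BT.leaf (nat_lit 32272401))) (BT.node (nat_lit 11571136) (BT.leaf (nat_lit 38552837)) (BT.leaf (nat_lit 35392273))))))))))) (BT.node (nat_lit 11590656) (BT.node (nat_lit 11580096) (BT.node (nat_lit 11575424) (BT.node (nat_lit 11573312) (BT.node (nat_lit 11572224) (BT.node (nat_lit 11571712) (BT.node (nat_lit 11571456) (BT.node (nat_lit 11571328) (BT.node (nat_lit 11571264) (BT.leaf (nat_lit 38552857)) (BT.leaf (nat_lit 38552861))) (BT.node (nat_lit 11571392) (BT.leaf (nat_lit 44243481)) (BT.leaf (nat_lit 37756705)))) (BT.node (nat_lit 11571584) (BT.node (nat_lit 11571520) (BT.leaf (nat_lit 39609377)) (BT.leaf (nat_lit 38266649))) (BT.node (nat_lit 11571648) (BT.leaf (nat_lit 49136673)) (BT.leaf (nat_lit 45969429))))) (BT.node (nat_lit 11571968) (BT.node (nat_lit 11571840) (BT.node (nat_lit 11571776) (BT.leaf (nat_lit 36915209)) (BT.leaf (nat_lit 39904261))) (BT.node (nat_lit 11571904) (BT.leaf (nat_lit 46206493)) (BT.leaf (nat_lit 45969433)))) (BT.node (nat_lit 11572096) (BT.node (nat_lit 11572032) (BT.leaf (nat_lit 38652961)) (BT.leaf (nat_lit 37865497))) (BT.node (nat_lit 11572160) (BT.leaf (nat_lit 37865501)) (BT.leaf (nat_lit 45824281)))))) (BT.node (nat_lit 11572800) (BT.node (nat_lit 11572544) (BT.node (nat_lit 11572416) (BT.node (nat_lit 11572352) (BT.leaf (nat_lit 42814213)) (BT.leaf (nat_lit 44233497))) (BT.node (nat_lit 11572480) (BT.leaf (nat_lit 32941853)) (BT.leaf (nat_lit 44236297)))) (BT.node (nat_lit 11572672) (BT.node (nat_lit 11572608) (BT.leaf (nat_lit 39160337)) (BT.leaf (nat_lit 46292233))) (BT.node (nat_lit 11572736) (BT.leaf (nat_lit 42687761)) (BT.leaf (nat_lit 42687765))))) (BT.node (nat_lit 11573056) (BT.node (nat_lit 11572928) (BT.node (nat_lit 11572864) (BT.leaf (nat_lit 32060681)) (BT.leaf (nat_lit 43567897))) (BT.node (nat_lit 11572992) (BT.leaf (nat_lit 38882321)) (BT.leaf (nat_lit 49526037)))) (BT.node (nat_lit 11573184) (BT.node (nat_lit 11573120) (BT.leaf (nat_lit 37040405)) (BT.leaf (nat_lit 37822229))) (BT.node (nat_lit 11573248) (BT.leaf (nat_lit 46285081)) (BT.leaf (nat_lit 46285085))))))) (BT.node (nat_lit 11574336) (BT.node (nat_lit 11573824) (BT.node (nat_lit 11573568) (BT.node (nat_lit 11573440) (BT.node (nat_lit 11573376) (BT.leaf (nat_lit 31497245)) (BT.leaf (nat_lit 31482653))) (BT.node (nat_lit 11573504) (BT.leaf (nat_lit 39161877)) (BT.leaf (nat_lit 44227093)))) (BT.node (nat_lit 11573696) (BT.node (nat_lit 11573632) (BT.leaf (nat_lit 33009941)) (BT.leaf (nat_lit 46294813))) (BT.node (nat_lit 11573760) (BT.leaf (nat_lit 42823685)) (BT.leaf (nat_lit 38635285))))) (BT.node (nat_lit 11574080) (BT.node (nat_lit 11573952) (BT.node (nat_lit 11573888) (BT.leaf (nat_lit 48146449)) (BT.leaf (nat_lit 42824965))) (BT.node (nat_lit 11574016) (BT.leaf (nat_lit 29211921)) (BT.leaf (nat_lit 33010193)))) (BT.node (nat_lit 11574208) (BT.node (nat_lit 11574144) (BT.leaf (nat_lit 42796037)) (BT.leaf (nat_lit 43487513))) (BT.node (nat_lit 11574272) (BT.leaf (nat_lit 43487517)) (BT.leaf (nat_lit 47694085)))))) (BT.node (nat_lit 11574848) (BT.node (nat_lit 11574592) (BT.node (nat_lit 11574464) (BT.node (nat_lit 11574400) (BT.leaf (nat_lit 43851553)) (BT.leaf (nat_lit 39670549))) (BT.node (nat_lit 11574528) (BT.leaf (nat_lit 34631957)) (BT.leaf (nat_lit 38797849)))) (BT.node (nat_lit 11574720) (BT.node (nat_lit 11574656) (BT.leaf (nat_lit 38797853)) (BT.leaf (nat_lit 43654917))) (BT.node (nat_lit 11574784) (BT.leaf (nat_lit 46298649)) (BT.leaf (nat_lit 42797089))))) (BT.node (nat_lit 11575168) (BT.node (nat_lit 11574976) (BT.node (nat_lit 11574912) (BT.leaf (nat_lit 43582241)) (BT.leaf (nat_lit 38978593))) (BT.node (nat_lit 11575104) (BT.leaf (nat_lit 31481113)) (BT.leaf (nat_lit 38978581)))) (BT.node (nat_lit 11575296) (BT.node (nat_lit 11575232) (BT.leaf (nat_lit 31481117)) (BT.leaf (nat_lit 43582225))) (BT.node (nat_lit 11575360) (BT.leaf (nat_lit 48371477)) (BT.leaf (nat_lit 33012497)))))))) (BT.node (nat_lit 11577728) (BT.node (nat_lit 11576704) (BT.node (nat_lit 11576192) (BT.node (nat_lit 11575808) (BT.node (nat_lit 11575616) (BT.node (nat_lit 11575488) (BT.leaf (nat_lit 40813849)) (BT.leaf (nat_lit 48513289))) (BT.node (nat_lit 11575680) (BT.leaf (nat_lit 38797573)) (BT.leaf (nat_lit 44734737)))) (BT.node (nat_lit 11576064) (BT.node (nat_lit 11576000) (BT.leaf (nat_lit 33017617)) (BT.leaf (nat_lit 43987461))) (BT.node (nat_lit 11576128) (BT.leaf (nat_lit 42162713)) (BT.leaf (nat_lit 42162717))))) (BT.node (nat_lit 11576448) (BT.node (nat_lit 11576320) (BT.node (nat_lit 11576256) (BT.leaf (nat_lit 48037665)) (BT.leaf (nat_lit 40168205))) (BT.node (nat_lit 11576384) (BT.leaf (nat_lit 32428065)) (BT.leaf (nat_lit 45424665)))) (BT.node (nat_lit 11576576) (BT.node (nat_lit 11576512) (BT.leaf (nat_lit 33020933)) (BT.leaf (nat_lit 33021189))) (BT.node (nat_lit 11576640) (BT.leaf (nat_lit 39893785)) (BT.leaf (nat_lit 39893789)))))) (BT.node (nat_lit 11577216) (BT.node (nat_lit 11576960) (BT.node (nat_lit 11576832) (BT.node (nat_lit 11576768) (BT.leaf (nat_lit 32684817)) (BT.leaf (nat_lit 51039241))) (BT.node (nat_lit 11576896) (BT.leaf (nat_lit 51039245)) (BT.leaf (nat_lit 51039249)))) (BT.node (nat_lit 11577088) (BT.node (nat_lit 11577024) (BT.leaf (nat_lit 37846037)) (BT.leaf (nat_lit 51039265))) (BT.node (nat_lit 11577152) (BT.leaf (nat_lit 44376853)) (BT.leaf (nat_lit 45768993))))) (BT.node (nat_lit 11577472) (BT.node (nat_lit 11577344) (BT.node (nat_lit 11577280) (BT.leaf (nat_lit 46309133)) (BT.leaf (nat_lit 38553629))) (BT.node (nat_lit 11577408) (BT.leaf (nat_lit 38553609)) (BT.leaf (nat_lit 42590997)))) (BT.node (nat_lit 11577600) (BT.node (nat_lit 11577536) (BT.leaf (nat_lit 43900949)) (BT.leaf (nat_lit 44579081))) (BT.node (nat_lit 11577664) (BT.leaf (nat_lit 40538393)) (BT.leaf (nat_lit 40538397))))))) (BT.node (nat_lit 11578752) (BT.node (nat_lit 11578240) (BT.node (nat_lit 11577984) (BT.node (nat_lit 11577856) (BT.node (nat_lit 11577792) (BT.leaf (nat_lit 46144517)) (BT.leaf (nat_lit 45866005))) (BT.node (nat_lit 11577920) (BT.leaf (nat_lit 45226517)) (BT.leaf (nat_lit 37186069)))) (BT.node (nat_lit 11578112) (BT.node (nat_lit 11578048) (BT.leaf (nat_lit 39766801)) (BT.leaf (nat_lit 39071765))) (BT.node (nat_lit 11578176) (BT.leaf (nat_lit 49590293)) (BT.leaf (nat_lit 39823905))))) (BT.node (nat_lit 11578496) (BT.node (nat_lit 11578368) (BT.node (nat_lit 11578304) (BT.leaf (nat_lit 39823649)) (BT.leaf (nat_lit 41050133))) (BT.node (nat_lit 11578432) (BT.leaf (nat_lit 44090145)) (BT.leaf (nat_lit 33033749)))) (BT.node (nat_lit 11578624) (BT.node (nat_lit 11578560) (BT.leaf (nat_lit 41051145)) (BT.leaf (nat_lit 46314009))) (BT.node (nat_lit 11578688) (BT.leaf (nat_lit 39316769)) (BT.leaf (nat_lit 33033733)))))) (BT.node (nat_lit 11579328) (BT.node (nat_lit 11579008) (BT.node (nat_lit 11578880) (BT.node (nat_lit 11578816) (BT.leaf (nat_lit 40468233)) (BT.leaf (nat_lit 40468237))) (BT.node (nat_lit 11578944) (BT.leaf (nat_lit 33034517)) (BT.leaf (nat_lit 44802337)))) (BT.node (nat_lit 11579200) (BT.node (nat_lit 11579136) (BT.leaf (nat_lit 48086805)) (BT.leaf (nat_lit 43130397))) (BT.node (nat_lit 11579264) (BT.leaf (nat_lit 38263045)) (BT.leaf (nat_lit 46209569))))) (BT.node (nat_lit 11579584) (BT.node (nat_lit 11579456) (BT.node (nat_lit 11579392) (BT.leaf (nat_lit 42422297)) (BT.leaf (nat_lit 42422301))) (BT.node (nat_lit 11579520) (BT.leaf (nat_lit 39598881)) (BT.leaf (nat_lit 28372249)))) (BT.node (nat_lit 11579968) (BT.node (nat_lit 11579776) (BT.leaf (nat_lit 35091485)) (BT.leaf (nat_lit 27270933))) (BT.node (nat_lit 11580032) (BT.leaf (nat_lit 33146373)) (BT.leaf (nat_lit 27272981))))))))) (BT.node (nat_lit 11585792) (BT.node (nat_lit 11582848) (BT.node (nat_lit 11581504) (BT.node (nat_lit 11580672) (BT.node (nat_lit 11580352) (BT.node (nat_lit 11580224) (BT.node (nat_lit 11580160) (BT.leaf (nat_lit 29433361)) (BT.leaf (nat_lit 27273233))) (BT.node (nat_lit 11580288) (BT.leaf (nat_lit 34691845)) (BT.leaf (nat_lit 33770261)))) (BT.node (nat_lit 11580480) (BT.node (nat_lit 11580416) (BT.leaf (nat_lit 27275033)) (BT.leaf (nat_lit 27275037))) (BT.node (nat_lit 11580608) (BT.leaf (nat_lit 40279813)) (BT.leaf (nat_lit 52212513))))) (BT.node (nat_lit 11581056) (BT.node (nat_lit 11580864) (BT.node (nat_lit 11580736) (BT.leaf (nat_lit 52044041)) (BT.leaf (nat_lit 31963397))) (BT.node (nat_lit 11580928) (BT.leaf (nat_lit 51911685)) (BT.leaf (nat_lit 29897501)))) (BT.node (nat_lit 11581248) (BT.node (nat_lit 11581120) (BT.leaf (nat_lit 27281673)) (BT.leaf (nat_lit 27281681))) (BT.node (nat_lit 11581376) (BT.leaf (nat_lit 38388245)) (BT.leaf (nat_lit 46695697)))))) (BT.node (nat_lit 11582144) (BT.node (nat_lit 11581760) (BT.node (nat_lit 11581632) (BT.node (nat_lit 11581568) (BT.leaf (nat_lit 27282205)) (BT.leaf (nat_lit 27282705))) (BT.node (nat_lit 11581696) (BT.leaf (nat_lit 29096213)) (BT.leaf (nat_lit 47249685)))) (BT.node (nat_lit 11581888) (BT.node (nat_lit 11581824) (BT.leaf (nat_lit 35968277)) (BT.leaf (nat_lit 35968529))) (BT.node (nat_lit 11581952) (BT.leaf (nat_lit 51454493)) (BT.leaf (nat_lit 32613141))))) (BT.node (nat_lit 11582464) (BT.node (nat_lit 11582272) (BT.node (nat_lit 11582208) (BT.leaf (nat_lit 27285269)) (BT.leaf (nat_lit 47249689))) (BT.node (nat_lit 11582336) (BT.leaf (nat_lit 33334557)) (BT.leaf (nat_lit 28701445)))) (BT.node (nat_lit 11582656) (BT.node (nat_lit 11582592) (BT.leaf (nat_lit 33037081)) (BT.leaf (nat_lit 27434781))) (BT.node (nat_lit 11582784) (BT.leaf (nat_lit 27289365)) (BT.leaf (nat_lit 48400161))))))) (BT.node (nat_lit 11584320) (BT.node (nat_lit 11583488) (BT.node (nat_lit 11583232) (BT.node (nat_lit 11583112) (BT.node (nat_lit 11583104) (BT.leaf (nat_lit 48399905)) (BT.leaf (nat_lit 35567633))) (BT.node (nat_lit 11583168) (BT.leaf (nat_lit 800428)) (BT.leaf (nat_lit 27290901)))) (BT.node (nat_lit 11583360) (BT.node (nat_lit 11583296) (BT.leaf (nat_lit 27291161)) (BT.leaf (nat_lit 27291165))) (BT.node (nat_lit 11583424) (BT.leaf (nat_lit 33071393)) (BT.leaf (nat_lit 33071649))))) (BT.node (nat_lit 11584000) (BT.node (nat_lit 11583616) (BT.node (nat_lit 11583552) (BT.leaf (nat_lit 33072161)) (BT.leaf (nat_lit 36039433))) (BT.node (nat_lit 11583872) (BT.leaf (nat_lit 49817109)) (BT.leaf (nat_lit 33041941)))) (BT.node (nat_lit 11584192) (BT.node (nat_lit 11584064) (BT.leaf (nat_lit 36005397)) (BT.leaf (nat_lit 43263749))) (BT.node (nat_lit 11584256) (BT.leaf (nat_lit 27294993)) (BT.leaf (nat_lit 29775625)))))) (BT.node (nat_lit 11585024) (BT.node (nat_lit 11584576) (BT.node (nat_lit 11584448) (BT.node (nat_lit 11584384) (BT.leaf (nat_lit 42344709)) (BT.leaf (nat_lit 31303193))) (BT.node (nat_lit 11584512) (BT.leaf (nat_lit 27295501)) (BT.leaf (nat_lit 33042453)))) (BT.node (nat_lit 11584832) (BT.node (nat_lit 11584640) (BT.leaf (nat_lit 27295513)) (BT.leaf (nat_lit 27295517))) (BT.node (nat_lit 11584960) (BT.leaf (nat_lit 27295769)) (BT.leaf (nat_lit 34728213))))) (BT.node (nat_lit 11585344) (BT.node (nat_lit 11585216) (BT.node (nat_lit 11585088) (BT.leaf (nat_lit 40697365)) (BT.leaf (nat_lit 47665173))) (BT.node (nat_lit 11585280) (BT.leaf (nat_lit 27296277)) (BT.leaf (nat_lit 48230421)))) (BT.node (nat_lit 11585600) (BT.node (nat_lit 11585408) (BT.leaf (nat_lit 27300117)) (BT.leaf (nat_lit 37205509))) (BT.node (nat_lit 11585664) (BT.leaf (nat_lit 31462929)) (BT.leaf (nat_lit 27302677)))))))) (BT.node (nat_lit 11588096) (BT.node (nat_lit 11586880) (BT.node (nat_lit 11586432) (BT.node (nat_lit 11586112) (BT.node (nat_lit 11585920) (BT.node (nat_lit 11585856) (BT.leaf (nat_lit 27303441)) (BT.leaf (nat_lit 27623181))) (BT.node (nat_lit 11585984) (BT.leaf (nat_lit 27304217)) (BT.leaf (nat_lit 27304221)))) (BT.node (nat_lit 11586240) (BT.node (nat_lit 11586176) (BT.leaf (nat_lit 27305989)) (BT.leaf (nat_lit 27305501))) (BT.node (nat_lit 11586304) (BT.leaf (nat_lit 50151713)) (BT.leaf (nat_lit 27309341))))) (BT.node (nat_lit 11586624) (BT.node (nat_lit 11586496) (BT.node (nat_lit 11586433) (BT.leaf (nat_lit 33946637)) (BT.leaf (nat_lit 734668))) (BT.node (nat_lit 11586560) (BT.leaf (nat_lit 52063253)) (BT.leaf (nat_lit 48343813)))) (BT.node (nat_lit 11586752) (BT.node (nat_lit 11586688) (BT.leaf (nat_lit 29545505)) (BT.leaf (nat_lit 48636185))) (BT.node (nat_lit 11586816) (BT.leaf (nat_lit 28741649)) (BT.leaf (nat_lit 31421713)))))) (BT.node (nat_lit 11587520) (BT.node (nat_lit 11587200) (BT.node (nat_lit 11587008) (BT.node (nat_lit 11586944) (BT.leaf (nat_lit 35414289)) (BT.leaf (nat_lit 47402261))) (BT.node (nat_lit 11587072) (BT.leaf (nat_lit 30007321)) (BT.leaf (nat_lit 36936217)))) (BT.node (nat_lit 11587392) (BT.node (nat_lit 11587264) (BT.leaf (nat_lit 27533073)) (BT.leaf (nat_lit 27313169))) (BT.node (nat_lit 11587456) (BT.leaf (nat_lit 47337989)) (BT.leaf (nat_lit 34459909))))) (BT.node (nat_lit 11587712) (BT.node (nat_lit 11587589) (BT.node (nat_lit 11587584) (BT.leaf (nat_lit 37554717)) (BT.leaf (nat_lit 27316753))) (BT.node (nat_lit 11587648) (BT.leaf (nat_lit 758292)) (BT.leaf (nat_lit 34478613)))) (BT.node (nat_lit 11588032) (BT.node (nat_lit 11587968) (BT.leaf (nat_lit 29281817)) (BT.leaf (nat_lit 48786465))) (BT.node (nat_lit 11588040) (BT.leaf (nat_lit 30001949)) (BT.leaf (nat_lit 800952))))))) (BT.node (nat_lit 11589248) (BT.node (nat_lit 11588608) (BT.node (nat_lit 11588292) (BT.node (nat_lit 11588290) (BT.node (nat_lit 11588288) (BT.leaf (nat_lit 35615253)) (BT.leaf (nat_lit 31129365))) (BT.node (nat_lit 11588291) (BT.leaf (nat_lit 782516)) (BT.leaf (nat_lit 782516)))) (BT.node (nat_lit 11588480) (BT.node (nat_lit 11588293) (BT.leaf (nat_lit 782516)) (BT.leaf (nat_lit 757704))) (BT.node (nat_lit 11588544) (BT.leaf (nat_lit 27324181)) (BT.leaf (nat_lit 50442757))))) (BT.node (nat_lit 11588928) (BT.node (nat_lit 11588736) (BT.node (nat_lit 11588672) (BT.leaf (nat_lit 33167889)) (BT.leaf (nat_lit 48555281))) (BT.node (nat_lit 11588800) (BT.leaf (nat_lit 27325465)) (BT.leaf (nat_lit 27325469)))) (BT.node (nat_lit 11589120) (BT.node (nat_lit 11588992) (BT.leaf (nat_lit 27325725)) (BT.leaf (nat_lit 27876121))) (BT.node (nat_lit 11589184) (BT.leaf (nat_lit 46356765)) (BT.leaf (nat_lit 51457809)))))) (BT.node (nat_lit 11589952) (BT.node (nat_lit 11589568) (BT.node (nat_lit 11589376) (BT.node (nat_lit 11589312) (BT.leaf (nat_lit 40040481)) (BT.leaf (nat_lit 52212485))) (BT.node (nat_lit 11589440) (BT.leaf (nat_lit 37242381)) (BT.leaf (nat_lit 47912993)))) (BT.node (nat_lit 11589824) (BT.node (nat_lit 11589696) (BT.leaf (nat_lit 47181089)) (BT.leaf (nat_lit 27330841))) (BT.node (nat_lit 11589888) (BT.leaf (nat_lit 39383301)) (BT.leaf (nat_lit 27331605))))) (BT.node (nat_lit 11590144) (BT.node (nat_lit 11590021) (BT.node (nat_lit 11590016) (BT.leaf (nat_lit 27837197)) (BT.leaf (nat_lit 51088661))) (BT.node (nat_lit 11590080) (BT.leaf (nat_lit 798672)) (BT.leaf (nat_lit 48486689)))) (BT.node (nat_lit 11590400) (BT.node (nat_lit 11590208) (BT.leaf (nat_lit 27333137)) (BT.leaf (nat_lit 27333397))) (BT.node (nat_lit 11590464) (BT.leaf (nat_lit 31190537)) (BT.leaf (nat_lit 52039701)))))))))) (BT.node (nat_lit 11601216) (BT.node (nat_lit 11595269) (BT.node (nat_lit 11593216) (BT.node (nat_lit 11591808) (BT.node (nat_lit 11591296) (BT.node (nat_lit 11590976) (BT.node (nat_lit 11590848) (BT.node (nat_lit 11590784) (BT.leaf (nat_lit 27335953)) (BT.leaf (nat_lit 27336977))) (BT.node (nat_lit 11590912) (BT.leaf (nat_lit 38904069)) (BT.leaf (nat_lit 27338245)))) (BT.node (nat_lit 11591104) (BT.node (nat_lit 11591040) (BT.leaf (nat_lit 33952529)) (BT.leaf (nat_lit 49839645))) (BT.node (nat_lit 11591232) (BT.leaf (nat_lit 27340053)) (BT.leaf (nat_lit 27341341))))) (BT.node (nat_lit 11591552) (BT.node (nat_lit 11591424) (BT.node (nat_lit 11591360) (BT.leaf (nat_lit 27341845)) (BT.leaf (nat_lit 28652049))) (BT.node (nat_lit 11591488) (BT.leaf (nat_lit 46879241)) (BT.leaf (nat_lit 27343641)))) (BT.node (nat_lit 11591680) (BT.node (nat_lit 11591616) (BT.leaf (nat_lit 27343645)) (BT.leaf (nat_lit 27344413))) (BT.node (nat_lit 11591744) (BT.leaf (nat_lit 50644997)) (BT.leaf (nat_lit 47239201)))))) (BT.node (nat_lit 11592512) (BT.node (nat_lit 11592128) (BT.node (nat_lit 11591936) (BT.node (nat_lit 11591872) (BT.leaf (nat_lit 47238945)) (BT.leaf (nat_lit 27346713))) (BT.node (nat_lit 11592000) (BT.leaf (nat_lit 27346717)) (BT.leaf (nat_lit 46442769)))) (BT.node (nat_lit 11592384) (BT.node (nat_lit 11592192) (BT.leaf (nat_lit 27348241)) (BT.leaf (nat_lit 27349265))) (BT.node (nat_lit 11592448) (BT.leaf (nat_lit 27349525)) (BT.leaf (nat_lit 49479189))))) (BT.node (nat_lit 11592896) (BT.node (nat_lit 11592768) (BT.node (nat_lit 11592576) (BT.leaf (nat_lit 28096281)) (BT.leaf (nat_lit 31295517))) (BT.node (nat_lit 11592832) (BT.leaf (nat_lit 33212677)) (BT.leaf (nat_lit 27810321)))) (BT.node (nat_lit 11593088) (BT.node (nat_lit 11593024) (BT.leaf (nat_lit 27353117)) (BT.leaf (nat_lit 49115157))) (BT.node (nat_lit 11593152) (BT.leaf (nat_lit 27356689)) (BT.leaf (nat_lit 51290121))))))) (BT.node (nat_lit 11594304) (BT.node (nat_lit 11593728) (BT.node (nat_lit 11593472) (BT.node (nat_lit 11593344) (BT.node (nat_lit 11593280) (BT.leaf (nat_lit 37543445)) (BT.leaf (nat_lit 27357969))) (BT.node (nat_lit 11593349) (BT.leaf (nat_lit 50646537)) (BT.leaf (nat_lit 745556)))) (BT.node (nat_lit 11593600) (BT.node (nat_lit 11593536) (BT.leaf (nat_lit 35585541)) (BT.leaf (nat_lit 49536517))) (BT.node (nat_lit 11593664) (BT.leaf (nat_lit 27359769)) (BT.leaf (nat_lit 27361041))))) (BT.node (nat_lit 11594048) (BT.node (nat_lit 11593856) (BT.node (nat_lit 11593792) (BT.leaf (nat_lit 27362329)) (BT.leaf (nat_lit 33946373))) (BT.node (nat_lit 11593984) (BT.leaf (nat_lit 27363349)) (BT.leaf (nat_lit 34673173)))) (BT.node (nat_lit 11594176) (BT.node (nat_lit 11594112) (BT.leaf (nat_lit 33061645)) (BT.leaf (nat_lit 38088737))) (BT.node (nat_lit 11594240) (BT.leaf (nat_lit 38088481)) (BT.leaf (nat_lit 39289625)))))) (BT.node (nat_lit 11594887) (BT.node (nat_lit 11594752) (BT.node (nat_lit 11594624) (BT.node (nat_lit 11594432) (BT.leaf (nat_lit 27371537)) (BT.leaf (nat_lit 27372817))) (BT.node (nat_lit 11594688) (BT.leaf (nat_lit 33066769)) (BT.leaf (nat_lit 27375641)))) (BT.node (nat_lit 11594880) (BT.node (nat_lit 11594816) (BT.leaf (nat_lit 27375645)) (BT.leaf (nat_lit 33926945))) (BT.node (nat_lit 11594883) (BT.leaf (nat_lit 30247189)) (BT.leaf (nat_lit 757720))))) (BT.node (nat_lit 11595200) (BT.node (nat_lit 11595136) (BT.node (nat_lit 11595072) (BT.leaf (nat_lit 757720)) (BT.leaf (nat_lit 33618961))) (BT.node (nat_lit 11595142) (BT.leaf (nat_lit 27378449)) (BT.leaf (nat_lit 780888)))) (BT.node (nat_lit 11595264) (BT.node (nat_lit 11595204) (BT.leaf (nat_lit 27379225)) (BT.leaf (nat_lit 754208))) (BT.node (nat_lit 11595268) (BT.leaf (nat_lit 27379229)) (BT.leaf (nat_lit 754204)))))))) (BT.node (nat_lit 11598592) (BT.node (nat_lit 11596992) (BT.node (nat_lit 11596032) (BT.node (nat_lit 11595584) (BT.node (nat_lit 11595392) (BT.node (nat_lit 11595328) (BT.leaf (nat_lit 754204)) (BT.leaf (nat_lit 27379729))) (BT.node (nat_lit 11595520) (BT.leaf (nat_lit 31122201)) (BT.leaf (nat_lit 27381009)))) (BT.node (nat_lit 11595776) (BT.node (nat_lit 11595648) (BT.leaf (nat_lit 27381277)) (BT.leaf (nat_lit 27381525))) (BT.node (nat_lit 11595968) (BT.leaf (nat_lit 27382029)) (BT.leaf (nat_lit 27382293))))) (BT.node (nat_lit 11596544) (BT.node (nat_lit 11596352) (BT.node (nat_lit 11596160) (BT.leaf (nat_lit 27384345)) (BT.leaf (nat_lit 29216785))) (BT.node (nat_lit 11596416) (BT.leaf (nat_lit 46922265)) (BT.leaf (nat_lit 33070097)))) (BT.node (nat_lit 11596864) (BT.node (nat_lit 11596800) (BT.leaf (nat_lit 36007689)) (BT.leaf (nat_lit 27389973))) (BT.node (nat_lit 11596928) (BT.leaf (nat_lit 46387741)) (BT.leaf (nat_lit 47714053)))))) (BT.node (nat_lit 11597888) (BT.node (nat_lit 11597376) (BT.node (nat_lit 11597120) (BT.node (nat_lit 11597056) (BT.leaf (nat_lit 33273877)) (BT.leaf (nat_lit 46705417))) (BT.node (nat_lit 11597248) (BT.leaf (nat_lit 27393053)) (BT.leaf (nat_lit 27396369)))) (BT.node (nat_lit 11597504) (BT.node (nat_lit 11597440) (BT.leaf (nat_lit 27397405)) (BT.leaf (nat_lit 27397657))) (BT.node (nat_lit 11597632) (BT.leaf (nat_lit 27397661)) (BT.leaf (nat_lit 27399697))))) (BT.node (nat_lit 11598144) (BT.node (nat_lit 11598016) (BT.node (nat_lit 11597952) (BT.leaf (nat_lit 27401745)) (BT.leaf (nat_lit 34337037))) (BT.node (nat_lit 11598080) (BT.leaf (nat_lit 35900177)) (BT.leaf (nat_lit 28522529)))) (BT.node (nat_lit 11598528) (BT.node (nat_lit 11598336) (BT.leaf (nat_lit 28378397)) (BT.leaf (nat_lit 46416925))) (BT.node (nat_lit 11598536) (BT.leaf (nat_lit 28385289)) (BT.leaf (nat_lit 747572))))))) (BT.node (nat_lit 11600006) (BT.node (nat_lit 11599296) (BT.node (nat_lit 11598848) (BT.node (nat_lit 11598720) (BT.node (nat_lit 11598656) (BT.leaf (nat_lit 27408917)) (BT.leaf (nat_lit 33059865))) (BT.node (nat_lit 11598784) (BT.leaf (nat_lit 27409429)) (BT.leaf (nat_lit 27409685)))) (BT.node (nat_lit 11598912) (BT.node (nat_lit 11598853) (BT.leaf (nat_lit 27410193)) (BT.leaf (nat_lit 757364))) (BT.node (nat_lit 11599040) (BT.leaf (nat_lit 27410961)) (BT.leaf (nat_lit 33075985))))) (BT.node (nat_lit 11599680) (BT.node (nat_lit 11599424) (BT.node (nat_lit 11599360) (BT.leaf (nat_lit 28283669)) (BT.leaf (nat_lit 46843673))) (BT.node (nat_lit 11599616) (BT.leaf (nat_lit 46842133)) (BT.leaf (nat_lit 27416853)))) (BT.node (nat_lit 11599813) (BT.node (nat_lit 11599808) (BT.leaf (nat_lit 34468121)) (BT.leaf (nat_lit 27419165))) (BT.node (nat_lit 11600000) (BT.leaf (nat_lit 801748)) (BT.leaf (nat_lit 27419157)))))) (BT.node (nat_lit 11600512) (BT.node (nat_lit 11600256) (BT.node (nat_lit 11600128) (BT.node (nat_lit 11600064) (BT.leaf (nat_lit 773848)) (BT.leaf (nat_lit 27419673))) (BT.node (nat_lit 11600192) (BT.leaf (nat_lit 48888865)) (BT.leaf (nat_lit 33078801)))) (BT.node (nat_lit 11600384) (BT.node (nat_lit 11600320) (BT.leaf (nat_lit 46631445)) (BT.leaf (nat_lit 50634521))) (BT.node (nat_lit 11600448) (BT.leaf (nat_lit 46401821)) (BT.leaf (nat_lit 37869069))))) (BT.node (nat_lit 11600768) (BT.node (nat_lit 11600640) (BT.node (nat_lit 11600576) (BT.leaf (nat_lit 27423009)) (BT.leaf (nat_lit 33253401))) (BT.node (nat_lit 11600704) (BT.leaf (nat_lit 27423509)) (BT.leaf (nat_lit 35312921)))) (BT.node (nat_lit 11601024) (BT.node (nat_lit 11600832) (BT.leaf (nat_lit 35054853)) (BT.leaf (nat_lit 27426321))) (BT.node (nat_lit 11601088) (BT.leaf (nat_lit 28065289)) (BT.leaf (nat_lit 49924625))))))))) (BT.node (nat_lit 11606528) (BT.node (nat_lit 11603904) (BT.node (nat_lit 11602368) (BT.node (nat_lit 11601728) (BT.node (nat_lit 11601472) (BT.node (nat_lit 11601344) (BT.node (nat_lit 11601280) (BT.leaf (nat_lit 31555093)) (BT.leaf (nat_lit 35056389))) (BT.node (nat_lit 11601408) (BT.leaf (nat_lit 33279497)) (BT.leaf (nat_lit 46405401)))) (BT.node (nat_lit 11601600) (BT.node (nat_lit 11601536) (BT.leaf (nat_lit 46406173)) (BT.leaf (nat_lit 33275661))) (BT.node (nat_lit 11601664) (BT.leaf (nat_lit 27428369)) (BT.leaf (nat_lit 27428629))))) (BT.node (nat_lit 11602112) (BT.node (nat_lit 11601856) (BT.node (nat_lit 11601792) (BT.leaf (nat_lit 27429649)) (BT.leaf (nat_lit 27430161))) (BT.node (nat_lit 11601920) (BT.leaf (nat_lit 27429909)) (BT.leaf (nat_lit 27429913)))) (BT.node (nat_lit 11602240) (BT.node (nat_lit 11602176) (BT.leaf (nat_lit 46408733)) (BT.leaf (nat_lit 50238229))) (BT.node (nat_lit 11602304) (BT.leaf (nat_lit 46472461)) (BT.leaf (nat_lit 49424909)))))) (BT.node (nat_lit 11602944) (BT.node (nat_lit 11602624) (BT.node (nat_lit 11602496) (BT.node (nat_lit 11602432) (BT.leaf (nat_lit 50304789)) (BT.leaf (nat_lit 27431705))) (BT.node (nat_lit 11602560) (BT.leaf (nat_lit 27431709)) (BT.leaf (nat_lit 47849477)))) (BT.node (nat_lit 11602816) (BT.node (nat_lit 11602688) (BT.leaf (nat_lit 33938449)) (BT.leaf (nat_lit 50779413))) (BT.node (nat_lit 11602880) (BT.leaf (nat_lit 27434009)) (BT.leaf (nat_lit 27434013))))) (BT.node (nat_lit 11603520) (BT.node (nat_lit 11603200) (BT.node (nat_lit 11603072) (BT.leaf (nat_lit 52355601)) (BT.leaf (nat_lit 28447493))) (BT.node (nat_lit 11603264) (BT.leaf (nat_lit 27436321)) (BT.leaf (nat_lit 33418521)))) (BT.node (nat_lit 11603776) (BT.node (nat_lit 11603584) (BT.leaf (nat_lit 34293509)) (BT.leaf (nat_lit 51733253))) (BT.node (nat_lit 11603840) (BT.leaf (nat_lit 28038661)) (BT.leaf (nat_lit 36445217))))))) (BT.node (nat_lit 11605120) (BT.node (nat_lit 11604480) (BT.node (nat_lit 11604224) (BT.node (nat_lit 11604032) (BT.node (nat_lit 11603968) (BT.leaf (nat_lit 35398945)) (BT.leaf (nat_lit 46326817))) (BT.node (nat_lit 11604160) (BT.leaf (nat_lit 30817557)) (BT.leaf (nat_lit 27942937)))) (BT.node (nat_lit 11604352) (BT.node (nat_lit 11604288) (BT.leaf (nat_lit 36287249)) (BT.leaf (nat_lit 46757893))) (BT.node (nat_lit 11604416) (BT.leaf (nat_lit 33380109)) (BT.leaf (nat_lit 33087505))))) (BT.node (nat_lit 11604864) (BT.node (nat_lit 11604608) (BT.node (nat_lit 11604544) (BT.leaf (nat_lit 37992969)) (BT.leaf (nat_lit 27448337))) (BT.node (nat_lit 11604672) (BT.leaf (nat_lit 38367513)) (BT.leaf (nat_lit 27449353)))) (BT.node (nat_lit 11604992) (BT.node (nat_lit 11604928) (BT.leaf (nat_lit 27449621)) (BT.leaf (nat_lit 27451149))) (BT.node (nat_lit 11605056) (BT.leaf (nat_lit 27451165)) (BT.leaf (nat_lit 49802505)))))) (BT.node (nat_lit 11605952) (BT.node (nat_lit 11605440) (BT.node (nat_lit 11605248) (BT.node (nat_lit 11605184) (BT.leaf (nat_lit 35844381)) (BT.leaf (nat_lit 31215109))) (BT.node (nat_lit 11605376) (BT.leaf (nat_lit 27453457)) (BT.leaf (nat_lit 27454493)))) (BT.node (nat_lit 11605824) (BT.node (nat_lit 11605760) (BT.leaf (nat_lit 35394593)) (BT.leaf (nat_lit 33090065))) (BT.node (nat_lit 11605888) (BT.leaf (nat_lit 27460629)) (BT.leaf (nat_lit 27461141))))) (BT.node (nat_lit 11606208) (BT.node (nat_lit 11606080) (BT.node (nat_lit 11606016) (BT.leaf (nat_lit 28973317)) (BT.leaf (nat_lit 27462421))) (BT.node (nat_lit 11606144) (BT.leaf (nat_lit 32427793)) (BT.leaf (nat_lit 27463445)))) (BT.node (nat_lit 11606336) (BT.node (nat_lit 11606272) (BT.leaf (nat_lit 34258197)) (BT.leaf (nat_lit 27464977))) (BT.node (nat_lit 11606464) (BT.leaf (nat_lit 27466017)) (BT.leaf (nat_lit 27468317)))))))) (BT.node (nat_lit 11609344) (BT.node (nat_lit 11607936) (BT.node (nat_lit 11607360) (BT.node (nat_lit 11606912) (BT.node (nat_lit 11606784) (BT.node (nat_lit 11606656) (BT.leaf (nat_lit 27469593)) (BT.leaf (nat_lit 52357653))) (BT.node (nat_lit 11606848) (BT.leaf (nat_lit 33830153)) (BT.leaf (nat_lit 33830169)))) (BT.node (nat_lit 11607104) (BT.node (nat_lit 11606976) (BT.leaf (nat_lit 33830173)) (BT.leaf (nat_lit 37429525))) (BT.node (nat_lit 11607296) (BT.leaf (nat_lit 36047637)) (BT.leaf (nat_lit 50196769))))) (BT.node (nat_lit 11607559) (BT.node (nat_lit 11607488) (BT.node (nat_lit 11607424) (BT.leaf (nat_lit 40048657)) (BT.leaf (nat_lit 28041745))) (BT.node (nat_lit 11607552) (BT.leaf (nat_lit 27474973)) (BT.leaf (nat_lit 27476501)))) (BT.node (nat_lit 11607744) (BT.node (nat_lit 11607616) (BT.leaf (nat_lit 773756)) (BT.leaf (nat_lit 27476505))) (BT.node (nat_lit 11607872) (BT.leaf (nat_lit 46450449)) (BT.leaf (nat_lit 28072197)))))) (BT.node (nat_lit 11608576) (BT.node (nat_lit 11608320) (BT.node (nat_lit 11608128) (BT.node (nat_lit 11608064) (BT.leaf (nat_lit 31931413)) (BT.leaf (nat_lit 35236889))) (BT.node (nat_lit 11608192) (BT.leaf (nat_lit 36599813)) (BT.leaf (nat_lit 50488609)))) (BT.node (nat_lit 11608448) (BT.node (nat_lit 11608384) (BT.leaf (nat_lit 27484433)) (BT.leaf (nat_lit 47563297))) (BT.node (nat_lit 11608512) (BT.leaf (nat_lit 29583893)) (BT.leaf (nat_lit 29583897))))) (BT.node (nat_lit 11609024) (BT.node (nat_lit 11608896) (BT.node (nat_lit 11608832) (BT.leaf (nat_lit 27485205)) (BT.leaf (nat_lit 34510345))) (BT.node (nat_lit 11608960) (BT.leaf (nat_lit 34608661)) (BT.leaf (nat_lit 51049989)))) (BT.node (nat_lit 11609152) (BT.node (nat_lit 11609088) (BT.leaf (nat_lit 34611233)) (BT.leaf (nat_lit 50081813))) (BT.node (nat_lit 11609216) (BT.leaf (nat_lit 49821461)) (BT.leaf (nat_lit 27489809))))))) (BT.node (nat_lit 11610368) (BT.node (nat_lit 11609856) (BT.node (nat_lit 11609600) (BT.node (nat_lit 11609472) (BT.node (nat_lit 11609408) (BT.leaf (nat_lit 50615573)) (BT.leaf (nat_lit 27492881))) (BT.node (nat_lit 11609536) (BT.leaf (nat_lit 44620037)) (BT.leaf (nat_lit 35972117)))) (BT.node (nat_lit 11609728) (BT.node (nat_lit 11609664) (BT.leaf (nat_lit 46443805)) (BT.leaf (nat_lit 32685081))) (BT.node (nat_lit 11609792) (BT.leaf (nat_lit 27496469)) (BT.leaf (nat_lit 50995989))))) (BT.node (nat_lit 11610112) (BT.node (nat_lit 11609984) (BT.node (nat_lit 11609920) (BT.leaf (nat_lit 47532577)) (BT.leaf (nat_lit 41452569))) (BT.node (nat_lit 11610048) (BT.leaf (nat_lit 36899085)) (BT.leaf (nat_lit 27502365)))) (BT.node (nat_lit 11610240) (BT.node (nat_lit 11610176) (BT.leaf (nat_lit 27503129)) (BT.leaf (nat_lit 27504145))) (BT.node (nat_lit 11610304) (BT.leaf (nat_lit 27504925)) (BT.leaf (nat_lit 49844497)))))) (BT.node (nat_lit 11610880) (BT.node (nat_lit 11610624) (BT.node (nat_lit 11610496) (BT.node (nat_lit 11610432) (BT.leaf (nat_lit 49844501)) (BT.leaf (nat_lit 50099221))) (BT.node (nat_lit 11610560) (BT.leaf (nat_lit 27904277)) (BT.leaf (nat_lit 34972181)))) (BT.node (nat_lit 11610752) (BT.node (nat_lit 11610688) (BT.leaf (nat_lit 49843489)) (BT.leaf (nat_lit 33632789))) (BT.node (nat_lit 11610816) (BT.leaf (nat_lit 33987609)) (BT.leaf (nat_lit 36233493))))) (BT.node (nat_lit 11611136) (BT.node (nat_lit 11611008) (BT.node (nat_lit 11610944) (BT.leaf (nat_lit 27508233)) (BT.leaf (nat_lit 47711253))) (BT.node (nat_lit 11611072) (BT.leaf (nat_lit 35818001)) (BT.leaf (nat_lit 27508501)))) (BT.node (nat_lit 11611264) (BT.node (nat_lit 11611200) (BT.leaf (nat_lit 27508505)) (BT.leaf (nat_lit 27508509))) (BT.node (nat_lit 11611328) (BT.leaf (nat_lit 38798621)) (BT.leaf (nat_lit 47711261)))))))))))) (BT.node (nat_lit 11651904) (BT.node (nat_lit 11631296) (BT.node (nat_lit 11621120) (BT.node (nat_lit 11616325) (BT.node (nat_lit 11613824) (BT.node (nat_lit 11612736) (BT.node (nat_lit 11612032) (BT.node (nat_lit 11611776) (BT.node (nat_lit 11611648) (BT.node (nat_lit 11611456) (BT.leaf (nat_lit 27510289)) (BT.leaf (nat_lit 46392069))) (BT.node (nat_lit 11611712) (BT.leaf (nat_lit 36171281)) (BT.leaf (nat_lit 27515409)))) (BT.node (nat_lit 11611904) (BT.node (nat_lit 11611840) (BT.leaf (nat_lit 27515921)) (BT.leaf (nat_lit 27516189))) (BT.node (nat_lit 11611968) (BT.leaf (nat_lit 27516945)) (BT.leaf (nat_lit 27517717))))) (BT.node (nat_lit 11612416) (BT.node (nat_lit 11612224) (BT.node (nat_lit 11612096) (BT.leaf (nat_lit 27517973)) (BT.leaf (nat_lit 33109269))) (BT.node (nat_lit 11612288) (BT.leaf (nat_lit 35366933)) (BT.leaf (nat_lit 27522841)))) (BT.node (nat_lit 11612544) (BT.node (nat_lit 11612480) (BT.leaf (nat_lit 34493213)) (BT.leaf (nat_lit 27524629))) (BT.node (nat_lit 11612608) (BT.leaf (nat_lit 33633809)) (BT.leaf (nat_lit 49702409)))))) (BT.node (nat_lit 11613184) (BT.node (nat_lit 11612992) (BT.node (nat_lit 11612864) (BT.node (nat_lit 11612800) (BT.leaf (nat_lit 27527441)) (BT.leaf (nat_lit 27528977))) (BT.node (nat_lit 11612928) (BT.leaf (nat_lit 36641549)) (BT.leaf (nat_lit 29523741)))) (BT.node (nat_lit 11613063) (BT.node (nat_lit 11613056) (BT.leaf (nat_lit 27530269)) (BT.leaf (nat_lit 47481353))) (BT.node (nat_lit 11613120) (BT.leaf (nat_lit 802016)) (BT.leaf (nat_lit 46618133))))) (BT.node (nat_lit 11613568) (BT.node (nat_lit 11613312) (BT.node (nat_lit 11613248) (BT.leaf (nat_lit 31045661)) (BT.leaf (nat_lit 34944773))) (BT.node (nat_lit 11613504) (BT.leaf (nat_lit 27530777)) (BT.leaf (nat_lit 43005985)))) (BT.node (nat_lit 11613696) (BT.node (nat_lit 11613632) (BT.leaf (nat_lit 48321041)) (BT.leaf (nat_lit 50584069))) (BT.node (nat_lit 11613760) (BT.leaf (nat_lit 33098761)) (BT.leaf (nat_lit 50244357))))))) (BT.node (nat_lit 11615104) (BT.node (nat_lit 11614464) (BT.node (nat_lit 11614208) (BT.node (nat_lit 11613952) (BT.node (nat_lit 11613888) (BT.leaf (nat_lit 29922053)) (BT.leaf (nat_lit 46371357))) (BT.node (nat_lit 11614016) (BT.leaf (nat_lit 28449565)) (BT.leaf (nat_lit 33111317)))) (BT.node (nat_lit 11614336) (BT.node (nat_lit 11614272) (BT.leaf (nat_lit 27538709)) (BT.leaf (nat_lit 27539989))) (BT.node (nat_lit 11614400) (BT.leaf (nat_lit 36405521)) (BT.leaf (nat_lit 31097617))))) (BT.node (nat_lit 11614784) (BT.node (nat_lit 11614656) (BT.node (nat_lit 11614592) (BT.leaf (nat_lit 46457625)) (BT.leaf (nat_lit 46983445))) (BT.node (nat_lit 11614720) (BT.leaf (nat_lit 47589125)) (BT.leaf (nat_lit 46459165)))) (BT.node (nat_lit 11614976) (BT.node (nat_lit 11614912) (BT.leaf (nat_lit 37680145)) (BT.leaf (nat_lit 27542041))) (BT.node (nat_lit 11615040) (BT.leaf (nat_lit 27542045)) (BT.leaf (nat_lit 46725409)))))) (BT.node (nat_lit 11615744) (BT.node (nat_lit 11615424) (BT.node (nat_lit 11615296) (BT.node (nat_lit 11615232) (BT.leaf (nat_lit 50506013)) (BT.leaf (nat_lit 45353493))) (BT.node (nat_lit 11615360) (BT.leaf (nat_lit 27543813)) (BT.leaf (nat_lit 30028573)))) (BT.node (nat_lit 11615616) (BT.node (nat_lit 11615488) (BT.leaf (nat_lit 47376661)) (BT.leaf (nat_lit 35712285))) (BT.node (nat_lit 11615680) (BT.leaf (nat_lit 51916821)) (BT.leaf (nat_lit 27546889))))) (BT.node (nat_lit 11616000) (BT.node (nat_lit 11615872) (BT.node (nat_lit 11615808) (BT.leaf (nat_lit 27546893)) (BT.leaf (nat_lit 27547413))) (BT.node (nat_lit 11615936) (BT.leaf (nat_lit 31691781)) (BT.leaf (nat_lit 47033377)))) (BT.node (nat_lit 11616192) (BT.node (nat_lit 11616128) (BT.leaf (nat_lit 28707361)) (BT.leaf (nat_lit 27549717))) (BT.node (nat_lit 11616320) (BT.leaf (nat_lit 27549973)) (BT.leaf (nat_lit 46050821)))))))) (BT.node (nat_lit 11618688) (BT.node (nat_lit 11617536) (BT.node (nat_lit 11617024) (BT.node (nat_lit 11616768) (BT.node (nat_lit 11616576) (BT.node (nat_lit 11616512) (BT.leaf (nat_lit 770760)) (BT.leaf (nat_lit 34072069))) (BT.node (nat_lit 11616704) (BT.leaf (nat_lit 34073605)) (BT.leaf (nat_lit 27555857)))) (BT.node (nat_lit 11616896) (BT.node (nat_lit 11616832) (BT.leaf (nat_lit 37737489)) (BT.leaf (nat_lit 31023625))) (BT.node (nat_lit 11616960) (BT.leaf (nat_lit 28437777)) (BT.leaf (nat_lit 28133137))))) (BT.node (nat_lit 11617280) (BT.node (nat_lit 11617152) (BT.node (nat_lit 11617088) (BT.leaf (nat_lit 27561745)) (BT.leaf (nat_lit 27562005))) (BT.node (nat_lit 11617216) (BT.leaf (nat_lit 27562009)) (BT.leaf (nat_lit 27562013)))) (BT.node (nat_lit 11617408) (BT.node (nat_lit 11617344) (BT.leaf (nat_lit 27562257)) (BT.leaf (nat_lit 51142677))) (BT.node (nat_lit 11617472) (BT.leaf (nat_lit 46549253)) (BT.leaf (nat_lit 28737797)))))) (BT.node (nat_lit 11618048) (BT.node (nat_lit 11617728) (BT.node (nat_lit 11617664) (BT.node (nat_lit 11617600) (BT.leaf (nat_lit 28168197)) (BT.leaf (nat_lit 36925465))) (BT.node (nat_lit 11617671) (BT.leaf (nat_lit 27567637)) (BT.leaf (nat_lit 732972)))) (BT.node (nat_lit 11617920) (BT.node (nat_lit 11617856) (BT.leaf (nat_lit 46638353)) (BT.leaf (nat_lit 46964245))) (BT.node (nat_lit 11617984) (BT.leaf (nat_lit 47851289)) (BT.leaf (nat_lit 28529677))))) (BT.node (nat_lit 11618368) (BT.node (nat_lit 11618240) (BT.node (nat_lit 11618112) (BT.leaf (nat_lit 34680325)) (BT.leaf (nat_lit 27571989))) (BT.node (nat_lit 11618304) (BT.leaf (nat_lit 49095685)) (BT.leaf (nat_lit 27573777)))) (BT.node (nat_lit 11618496) (BT.node (nat_lit 11618432) (BT.leaf (nat_lit 47654433)) (BT.leaf (nat_lit 36171269))) (BT.node (nat_lit 11618624) (BT.leaf (nat_lit 27576849)) (BT.leaf (nat_lit 27577369))))))) (BT.node (nat_lit 11619776) (BT.node (nat_lit 11619203) (BT.node (nat_lit 11619008) (BT.node (nat_lit 11618880) (BT.node (nat_lit 11618816) (BT.leaf (nat_lit 27577617)) (BT.leaf (nat_lit 47116053))) (BT.node (nat_lit 11618944) (BT.leaf (nat_lit 27578645)) (BT.leaf (nat_lit 33126681)))) (BT.node (nat_lit 11619136) (BT.node (nat_lit 11619072) (BT.leaf (nat_lit 33908761)) (BT.leaf (nat_lit 47764753))) (BT.node (nat_lit 11619200) (BT.leaf (nat_lit 27580945)) (BT.leaf (nat_lit 27581461))))) (BT.node (nat_lit 11619520) (BT.node (nat_lit 11619392) (BT.node (nat_lit 11619328) (BT.leaf (nat_lit 803120)) (BT.leaf (nat_lit 50746913))) (BT.node (nat_lit 11619397) (BT.leaf (nat_lit 27582481)) (BT.leaf (nat_lit 730104)))) (BT.node (nat_lit 11619648) (BT.node (nat_lit 11619584) (BT.leaf (nat_lit 49345313)) (BT.leaf (nat_lit 27584281))) (BT.node (nat_lit 11619712) (BT.leaf (nat_lit 27584285)) (BT.leaf (nat_lit 27586593)))))) (BT.node (nat_lit 11620736) (BT.node (nat_lit 11620160) (BT.node (nat_lit 11619904) (BT.node (nat_lit 11619840) (BT.leaf (nat_lit 31428893)) (BT.leaf (nat_lit 28758049))) (BT.node (nat_lit 11620032) (BT.leaf (nat_lit 34968329)) (BT.leaf (nat_lit 33126421)))) (BT.node (nat_lit 11620608) (BT.node (nat_lit 11620166) (BT.leaf (nat_lit 27591441)) (BT.leaf (nat_lit 804392))) (BT.node (nat_lit 11620672) (BT.leaf (nat_lit 29742601)) (BT.leaf (nat_lit 47282961))))) (BT.node (nat_lit 11620864) (BT.node (nat_lit 11620744) (BT.node (nat_lit 11620738) (BT.leaf (nat_lit 33933845)) (BT.leaf (nat_lit 785288))) (BT.node (nat_lit 11620800) (BT.leaf (nat_lit 785288)) (BT.leaf (nat_lit 29742617)))) (BT.node (nat_lit 11620992) (BT.node (nat_lit 11620928) (BT.leaf (nat_lit 29742621)) (BT.leaf (nat_lit 29742625))) (BT.node (nat_lit 11621056) (BT.leaf (nat_lit 50103325)) (BT.leaf (nat_lit 49013789))))))))) (BT.node (nat_lit 11627136) (BT.node (nat_lit 11624192) (BT.node (nat_lit 11622336) (BT.node (nat_lit 11621636) (BT.node (nat_lit 11621248) (BT.node (nat_lit 11621184) (BT.node (nat_lit 11621121) (BT.leaf (nat_lit 31876369)) (BT.leaf (nat_lit 765628))) (BT.node (nat_lit 11621189) (BT.leaf (nat_lit 46484505)) (BT.leaf (nat_lit 785292)))) (BT.node (nat_lit 11621440) (BT.node (nat_lit 11621255) (BT.leaf (nat_lit 27597845)) (BT.leaf (nat_lit 803640))) (BT.node (nat_lit 11621504) (BT.leaf (nat_lit 27599369)) (BT.leaf (nat_lit 27599373))))) (BT.node (nat_lit 11622144) (BT.node (nat_lit 11621952) (BT.node (nat_lit 11621696) (BT.leaf (nat_lit 757520)) (BT.leaf (nat_lit 34332705))) (BT.node (nat_lit 11622080) (BT.leaf (nat_lit 34222601)) (BT.leaf (nat_lit 27606801)))) (BT.node (nat_lit 11622272) (BT.node (nat_lit 11622150) (BT.leaf (nat_lit 27607057)) (BT.leaf (nat_lit 798976))) (BT.node (nat_lit 11622276) (BT.leaf (nat_lit 27607581)) (BT.leaf (nat_lit 797104)))))) (BT.node (nat_lit 11623104) (BT.node (nat_lit 11622592) (BT.node (nat_lit 11622464) (BT.node (nat_lit 11622400) (BT.leaf (nat_lit 31662113)) (BT.leaf (nat_lit 30891553))) (BT.node (nat_lit 11622528) (BT.leaf (nat_lit 31909665)) (BT.leaf (nat_lit 49666581)))) (BT.node (nat_lit 11622976) (BT.node (nat_lit 11622656) (BT.leaf (nat_lit 33134609)) (BT.leaf (nat_lit 27612189))) (BT.node (nat_lit 11623040) (BT.leaf (nat_lit 27612693)) (BT.leaf (nat_lit 27613201))))) (BT.node (nat_lit 11623616) (BT.node (nat_lit 11623488) (BT.node (nat_lit 11623360) (BT.leaf (nat_lit 29822989)) (BT.leaf (nat_lit 28100625))) (BT.node (nat_lit 11623552) (BT.leaf (nat_lit 27616533)) (BT.leaf (nat_lit 51434521)))) (BT.node (nat_lit 11624000) (BT.node (nat_lit 11623680) (BT.leaf (nat_lit 51434773)) (BT.leaf (nat_lit 47927049))) (BT.node (nat_lit 11624128) (BT.leaf (nat_lit 29780757)) (BT.leaf (nat_lit 33902089))))))) (BT.node (nat_lit 11625664) (BT.node (nat_lit 11624896) (BT.node (nat_lit 11624512) (BT.node (nat_lit 11624384) (BT.node (nat_lit 11624256) (BT.leaf (nat_lit 31932689)) (BT.leaf (nat_lit 27619613))) (BT.node (nat_lit 11624448) (BT.leaf (nat_lit 47333649)) (BT.leaf (nat_lit 36125957)))) (BT.node (nat_lit 11624640) (BT.node (nat_lit 11624576) (BT.leaf (nat_lit 27622165)) (BT.leaf (nat_lit 27622173))) (BT.node (nat_lit 11624832) (BT.leaf (nat_lit 42073889)) (BT.leaf (nat_lit 47575585))))) (BT.node (nat_lit 11625408) (BT.node (nat_lit 11625216) (BT.node (nat_lit 11624960) (BT.leaf (nat_lit 27624469)) (BT.leaf (nat_lit 30493473))) (BT.node (nat_lit 11625344) (BT.leaf (nat_lit 27628573)) (BT.leaf (nat_lit 37350673)))) (BT.node (nat_lit 11625536) (BT.node (nat_lit 11625472) (BT.leaf (nat_lit 28481557)) (BT.leaf (nat_lit 47395601))) (BT.node (nat_lit 11625600) (BT.leaf (nat_lit 34962969)) (BT.leaf (nat_lit 50074901)))))) (BT.node (nat_lit 11626368) (BT.node (nat_lit 11625984) (BT.node (nat_lit 11625792) (BT.node (nat_lit 11625728) (BT.leaf (nat_lit 34409761)) (BT.leaf (nat_lit 27631637))) (BT.node (nat_lit 11625856) (BT.leaf (nat_lit 36190489)) (BT.leaf (nat_lit 34605849)))) (BT.node (nat_lit 11626176) (BT.node (nat_lit 11626048) (BT.leaf (nat_lit 34558729)) (BT.leaf (nat_lit 47466269))) (BT.node (nat_lit 11626240) (BT.leaf (nat_lit 50245653)) (BT.leaf (nat_lit 27637013))))) (BT.node (nat_lit 11626880) (BT.node (nat_lit 11626688) (BT.node (nat_lit 11626560) (BT.leaf (nat_lit 41730837)) (BT.leaf (nat_lit 27637281))) (BT.node (nat_lit 11626752) (BT.leaf (nat_lit 27638037)) (BT.leaf (nat_lit 33142033)))) (BT.node (nat_lit 11627008) (BT.node (nat_lit 11626944) (BT.leaf (nat_lit 31083793)) (BT.leaf (nat_lit 33145357))) (BT.node (nat_lit 11627072) (BT.leaf (nat_lit 43062037)) (BT.leaf (nat_lit 50500629)))))))) (BT.node (nat_lit 11628800) (BT.node (nat_lit 11627840) (BT.node (nat_lit 11627520) (BT.node (nat_lit 11627271) (BT.node (nat_lit 11627264) (BT.node (nat_lit 11627200) (BT.leaf (nat_lit 27644689)) (BT.leaf (nat_lit 27644933))) (BT.node (nat_lit 11627270) (BT.leaf (nat_lit 27644949)) (BT.leaf (nat_lit 796436)))) (BT.node (nat_lit 11627392) (BT.node (nat_lit 11627328) (BT.leaf (nat_lit 796436)) (BT.leaf (nat_lit 27645461))) (BT.node (nat_lit 11627456) (BT.leaf (nat_lit 27645465)) (BT.leaf (nat_lit 35445281))))) (BT.node (nat_lit 11627712) (BT.node (nat_lit 11627584) (BT.node (nat_lit 11627521) (BT.leaf (nat_lit 27906593)) (BT.leaf (nat_lit 795068))) (BT.node (nat_lit 11627648) (BT.leaf (nat_lit 27647257)) (BT.leaf (nat_lit 27647513)))) (BT.node (nat_lit 11627778) (BT.node (nat_lit 11627776) (BT.leaf (nat_lit 27647517)) (BT.leaf (nat_lit 27649045))) (BT.node (nat_lit 11627782) (BT.leaf (nat_lit 737024)) (BT.leaf (nat_lit 737024)))))) (BT.node (nat_lit 11628288) (BT.node (nat_lit 11628096) (BT.node (nat_lit 11627968) (BT.node (nat_lit 11627904) (BT.leaf (nat_lit 27650321)) (BT.leaf (nat_lit 38324489))) (BT.node (nat_lit 11628032) (BT.leaf (nat_lit 33145353)) (BT.leaf (nat_lit 36153889)))) (BT.node (nat_lit 11628168) (BT.node (nat_lit 11628160) (BT.leaf (nat_lit 33428769)) (BT.leaf (nat_lit 46508301))) (BT.node (nat_lit 11628224) (BT.leaf (nat_lit 735988)) (BT.leaf (nat_lit 32964637))))) (BT.node (nat_lit 11628544) (BT.node (nat_lit 11628416) (BT.node (nat_lit 11628352) (BT.leaf (nat_lit 48095493)) (BT.leaf (nat_lit 39766037))) (BT.node (nat_lit 11628480) (BT.leaf (nat_lit 48206357)) (BT.leaf (nat_lit 42233377)))) (BT.node (nat_lit 11628672) (BT.node (nat_lit 11628608) (BT.leaf (nat_lit 50696205)) (BT.leaf (nat_lit 34019089))) (BT.node (nat_lit 11628736) (BT.leaf (nat_lit 33664261)) (BT.leaf (nat_lit 27656725))))))) (BT.node (nat_lit 11629760) (BT.node (nat_lit 11629376) (BT.node (nat_lit 11629056) (BT.node (nat_lit 11628928) (BT.node (nat_lit 11628864) (BT.leaf (nat_lit 27660565)) (BT.leaf (nat_lit 27658761))) (BT.node (nat_lit 11628992) (BT.leaf (nat_lit 49133841)) (BT.leaf (nat_lit 33148425)))) (BT.node (nat_lit 11629248) (BT.node (nat_lit 11629184) (BT.leaf (nat_lit 27658765)) (BT.leaf (nat_lit 27658781))) (BT.node (nat_lit 11629312) (BT.leaf (nat_lit 27658777)) (BT.leaf (nat_lit 35224341))))) (BT.node (nat_lit 11629568) (BT.node (nat_lit 11629504) (BT.node (nat_lit 11629440) (BT.leaf (nat_lit 27659025)) (BT.leaf (nat_lit 34941201))) (BT.node (nat_lit 11629510) (BT.leaf (nat_lit 33712913)) (BT.leaf (nat_lit 740212)))) (BT.node (nat_lit 11629696) (BT.node (nat_lit 11629632) (BT.leaf (nat_lit 34940433)) (BT.leaf (nat_lit 33148681))) (BT.node (nat_lit 11629701) (BT.leaf (nat_lit 27661601)) (BT.leaf (nat_lit 740216)))))) (BT.node (nat_lit 11630464) (BT.node (nat_lit 11630212) (BT.node (nat_lit 11629888) (BT.node (nat_lit 11629824) (BT.leaf (nat_lit 27661849)) (BT.leaf (nat_lit 29263637))) (BT.node (nat_lit 11630208) (BT.leaf (nat_lit 27662357)) (BT.leaf (nat_lit 32742165)))) (BT.node (nat_lit 11630336) (BT.node (nat_lit 11630272) (BT.leaf (nat_lit 775124)) (BT.leaf (nat_lit 46797833))) (BT.node (nat_lit 11630400) (BT.leaf (nat_lit 33326105)) (BT.leaf (nat_lit 27666717))))) (BT.node (nat_lit 11630976) (BT.node (nat_lit 11630720) (BT.node (nat_lit 11630528) (BT.leaf (nat_lit 27667489)) (BT.leaf (nat_lit 50567445))) (BT.node (nat_lit 11630848) (BT.leaf (nat_lit 49863453)) (BT.leaf (nat_lit 49830929)))) (BT.node (nat_lit 11631104) (BT.node (nat_lit 11631040) (BT.leaf (nat_lit 27690781)) (BT.leaf (nat_lit 27672081))) (BT.node (nat_lit 11631232) (BT.leaf (nat_lit 27672097)) (BT.leaf (nat_lit 27699741)))))))))) (BT.node (nat_lit 11641920) (BT.node (nat_lit 11636288) (BT.node (nat_lit 11633728) (BT.node (nat_lit 11632448) (BT.node (nat_lit 11631872) (BT.node (nat_lit 11631488) (BT.node (nat_lit 11631299) (BT.node (nat_lit 11631298) (BT.leaf (nat_lit 27672593)) (BT.leaf (nat_lit 797228))) (BT.node (nat_lit 11631424) (BT.leaf (nat_lit 797228)) (BT.leaf (nat_lit 46327821)))) (BT.node (nat_lit 11631616) (BT.node (nat_lit 11631552) (BT.leaf (nat_lit 37771289)) (BT.leaf (nat_lit 36345885))) (BT.node (nat_lit 11631808) (BT.leaf (nat_lit 49502485)) (BT.leaf (nat_lit 27674913))))) (BT.node (nat_lit 11632192) (BT.node (nat_lit 11632064) (BT.node (nat_lit 11631936) (BT.leaf (nat_lit 50469909)) (BT.leaf (nat_lit 28522245))) (BT.node (nat_lit 11632128) (BT.leaf (nat_lit 30132241)) (BT.leaf (nat_lit 37950993)))) (BT.node (nat_lit 11632320) (BT.node (nat_lit 11632256) (BT.leaf (nat_lit 36463373)) (BT.leaf (nat_lit 27680273))) (BT.node (nat_lit 11632384) (BT.leaf (nat_lit 36444701)) (BT.leaf (nat_lit 33607705)))))) (BT.node (nat_lit 11633152) (BT.node (nat_lit 11632896) (BT.node (nat_lit 11632640) (BT.node (nat_lit 11632512) (BT.leaf (nat_lit 28831757)) (BT.leaf (nat_lit 27682821))) (BT.node (nat_lit 11632768) (BT.leaf (nat_lit 27683333)) (BT.leaf (nat_lit 27684629)))) (BT.node (nat_lit 11633024) (BT.node (nat_lit 11632960) (BT.leaf (nat_lit 28010777)) (BT.leaf (nat_lit 27687697))) (BT.node (nat_lit 11633088) (BT.leaf (nat_lit 27691029)) (BT.leaf (nat_lit 29108769))))) (BT.node (nat_lit 11633472) (BT.node (nat_lit 11633280) (BT.node (nat_lit 11633216) (BT.leaf (nat_lit 51023117)) (BT.leaf (nat_lit 48662021))) (BT.node (nat_lit 11633344) (BT.leaf (nat_lit 34641669)) (BT.leaf (nat_lit 48288277)))) (BT.node (nat_lit 11633600) (BT.node (nat_lit 11633536) (BT.leaf (nat_lit 46526489)) (BT.leaf (nat_lit 27699985))) (BT.node (nat_lit 11633664) (BT.leaf (nat_lit 46328589)) (BT.leaf (nat_lit 46328601))))))) (BT.node (nat_lit 11635264) (BT.node (nat_lit 11634496) (BT.node (nat_lit 11634048) (BT.node (nat_lit 11633856) (BT.node (nat_lit 11633792) (BT.leaf (nat_lit 28482841)) (BT.leaf (nat_lit 27701777))) (BT.node (nat_lit 11633984) (BT.leaf (nat_lit 27702301)) (BT.leaf (nat_lit 27703825)))) (BT.node (nat_lit 11634368) (BT.node (nat_lit 11634304) (BT.leaf (nat_lit 36151825)) (BT.leaf (nat_lit 32556309))) (BT.node (nat_lit 11634432) (BT.leaf (nat_lit 32588313)) (BT.leaf (nat_lit 35538973))))) (BT.node (nat_lit 11634944) (BT.node (nat_lit 11634816) (BT.node (nat_lit 11634560) (BT.leaf (nat_lit 27710737)) (BT.leaf (nat_lit 27711245))) (BT.node (nat_lit 11634880) (BT.leaf (nat_lit 52243229)) (BT.leaf (nat_lit 27713801)))) (BT.node (nat_lit 11635072) (BT.node (nat_lit 11635008) (BT.leaf (nat_lit 27713805)) (BT.leaf (nat_lit 27713817))) (BT.node (nat_lit 11635200) (BT.leaf (nat_lit 27713821)) (BT.leaf (nat_lit 51416605)))))) (BT.node (nat_lit 11635776) (BT.node (nat_lit 11635520) (BT.node (nat_lit 11635392) (BT.node (nat_lit 11635328) (BT.leaf (nat_lit 51939861)) (BT.leaf (nat_lit 35896605))) (BT.node (nat_lit 11635456) (BT.leaf (nat_lit 36764189)) (BT.leaf (nat_lit 46616073)))) (BT.node (nat_lit 11635648) (BT.node (nat_lit 11635584) (BT.leaf (nat_lit 46541849)) (BT.leaf (nat_lit 48883205))) (BT.node (nat_lit 11635712) (BT.leaf (nat_lit 50759429)) (BT.leaf (nat_lit 27715345))))) (BT.node (nat_lit 11636032) (BT.node (nat_lit 11635904) (BT.node (nat_lit 11635840) (BT.leaf (nat_lit 28063509)) (BT.leaf (nat_lit 28063513))) (BT.node (nat_lit 11635968) (BT.leaf (nat_lit 28063517)) (BT.leaf (nat_lit 46697489)))) (BT.node (nat_lit 11636160) (BT.node (nat_lit 11636096) (BT.leaf (nat_lit 51949341)) (BT.leaf (nat_lit 36818185))) (BT.node (nat_lit 11636224) (BT.leaf (nat_lit 52083721)) (BT.leaf (nat_lit 27717653)))))))) (BT.node (nat_lit 11639104) (BT.node (nat_lit 11637376) (BT.node (nat_lit 11636864) (BT.node (nat_lit 11636484) (BT.node (nat_lit 11636353) (BT.node (nat_lit 11636352) (BT.leaf (nat_lit 51941649)) (BT.leaf (nat_lit 27718161))) (BT.node (nat_lit 11636480) (BT.leaf (nat_lit 738324)) (BT.leaf (nat_lit 27718177)))) (BT.node (nat_lit 11636672) (BT.node (nat_lit 11636544) (BT.leaf (nat_lit 773112)) (BT.leaf (nat_lit 47211801))) (BT.node (nat_lit 11636800) (BT.leaf (nat_lit 27718929)) (BT.leaf (nat_lit 36984353))))) (BT.node (nat_lit 11637184) (BT.node (nat_lit 11637120) (BT.node (nat_lit 11636928) (BT.leaf (nat_lit 27719697)) (BT.leaf (nat_lit 34646021))) (BT.node (nat_lit 11637126) (BT.leaf (nat_lit 33591325)) (BT.leaf (nat_lit 782732)))) (BT.node (nat_lit 11637248) (BT.node (nat_lit 11637192) (BT.leaf (nat_lit 34646789)) (BT.leaf (nat_lit 739840))) (BT.node (nat_lit 11637312) (BT.leaf (nat_lit 27720213)) (BT.leaf (nat_lit 27720465)))))) (BT.node (nat_lit 11638528) (BT.node (nat_lit 11638144) (BT.node (nat_lit 11637760) (BT.node (nat_lit 11637632) (BT.leaf (nat_lit 27721233)) (BT.leaf (nat_lit 46544405))) (BT.node (nat_lit 11637888) (BT.leaf (nat_lit 36818201)) (BT.leaf (nat_lit 33310489)))) (BT.node (nat_lit 11638272) (BT.node (nat_lit 11638208) (BT.leaf (nat_lit 49478921)) (BT.leaf (nat_lit 30049313))) (BT.node (nat_lit 11638464) (BT.leaf (nat_lit 34001441)) (BT.leaf (nat_lit 27731233))))) (BT.node (nat_lit 11638784) (BT.node (nat_lit 11638656) (BT.node (nat_lit 11638592) (BT.leaf (nat_lit 27731733)) (BT.leaf (nat_lit 34654741))) (BT.node (nat_lit 11638720) (BT.leaf (nat_lit 51190549)) (BT.leaf (nat_lit 35478293)))) (BT.node (nat_lit 11638976) (BT.node (nat_lit 11638848) (BT.leaf (nat_lit 27736085)) (BT.leaf (nat_lit 33171229))) (BT.node (nat_lit 11639040) (BT.leaf (nat_lit 36944921)) (BT.leaf (nat_lit 27738141))))))) (BT.node (nat_lit 11640320) (BT.node (nat_lit 11639680) (BT.node (nat_lit 11639360) (BT.node (nat_lit 11639232) (BT.node (nat_lit 11639168) (BT.leaf (nat_lit 27740177)) (BT.leaf (nat_lit 27740689))) (BT.node (nat_lit 11639296) (BT.leaf (nat_lit 27741717)) (BT.leaf (nat_lit 46913557)))) (BT.node (nat_lit 11639552) (BT.node (nat_lit 11639424) (BT.leaf (nat_lit 27745301)) (BT.leaf (nat_lit 27746321))) (BT.node (nat_lit 11639616) (BT.leaf (nat_lit 51342865)) (BT.leaf (nat_lit 50199321))))) (BT.node (nat_lit 11639936) (BT.node (nat_lit 11639808) (BT.node (nat_lit 11639744) (BT.leaf (nat_lit 46557721)) (BT.leaf (nat_lit 27747101))) (BT.node (nat_lit 11639872) (BT.leaf (nat_lit 27747097)) (BT.leaf (nat_lit 27747345)))) (BT.node (nat_lit 11640128) (BT.node (nat_lit 11640000) (BT.leaf (nat_lit 27748117)) (BT.leaf (nat_lit 33244421))) (BT.node (nat_lit 11640192) (BT.leaf (nat_lit 27749657)) (BT.leaf (nat_lit 27749661)))))) (BT.node (nat_lit 11641216) (BT.node (nat_lit 11640704) (BT.node (nat_lit 11640512) (BT.node (nat_lit 11640384) (BT.leaf (nat_lit 33677089)) (BT.leaf (nat_lit 27750685))) (BT.node (nat_lit 11640640) (BT.leaf (nat_lit 27751709)) (BT.leaf (nat_lit 27753745)))) (BT.node (nat_lit 11641024) (BT.node (nat_lit 11640832) (BT.leaf (nat_lit 46327569)) (BT.leaf (nat_lit 36786193))) (BT.node (nat_lit 11641152) (BT.leaf (nat_lit 27756825)) (BT.leaf (nat_lit 42462213))))) (BT.node (nat_lit 11641536) (BT.node (nat_lit 11641408) (BT.node (nat_lit 11641280) (BT.leaf (nat_lit 36429585)) (BT.leaf (nat_lit 50543365))) (BT.node (nat_lit 11641472) (BT.leaf (nat_lit 46852889)) (BT.leaf (nat_lit 50471941)))) (BT.node (nat_lit 11641728) (BT.node (nat_lit 11641600) (BT.leaf (nat_lit 27758361)) (BT.leaf (nat_lit 27758365))) (BT.node (nat_lit 11641856) (BT.leaf (nat_lit 31890961)) (BT.leaf (nat_lit 51867425))))))))) (BT.node (nat_lit 11647168) (BT.node (nat_lit 11644416) (BT.node (nat_lit 11643328) (BT.node (nat_lit 11642432) (BT.node (nat_lit 11642176) (BT.node (nat_lit 11642048) (BT.node (nat_lit 11641984) (BT.leaf (nat_lit 34032413)) (BT.leaf (nat_lit 49509405))) (BT.node (nat_lit 11642112) (BT.leaf (nat_lit 36327701)) (BT.leaf (nat_lit 27761945)))) (BT.node (nat_lit 11642304) (BT.node (nat_lit 11642240) (BT.leaf (nat_lit 45782561)) (BT.leaf (nat_lit 30481689))) (BT.node (nat_lit 11642368) (BT.leaf (nat_lit 34331921)) (BT.leaf (nat_lit 49528097))))) (BT.node (nat_lit 11643080) (BT.node (nat_lit 11642752) (BT.node (nat_lit 11642496) (BT.leaf (nat_lit 34630169)) (BT.leaf (nat_lit 49519365))) (BT.node (nat_lit 11642880) (BT.leaf (nat_lit 34765589)) (BT.leaf (nat_lit 30611225)))) (BT.node (nat_lit 11643200) (BT.node (nat_lit 11643136) (BT.leaf (nat_lit 774160)) (BT.leaf (nat_lit 46948877))) (BT.node (nat_lit 11643264) (BT.leaf (nat_lit 27766809)) (BT.leaf (nat_lit 32641553)))))) (BT.node (nat_lit 11643840) (BT.node (nat_lit 11643584) (BT.node (nat_lit 11643456) (BT.node (nat_lit 11643392) (BT.leaf (nat_lit 27767833)) (BT.leaf (nat_lit 27767837))) (BT.node (nat_lit 11643520) (BT.leaf (nat_lit 46579225)) (BT.leaf (nat_lit 33185541)))) (BT.node (nat_lit 11643712) (BT.node (nat_lit 11643648) (BT.leaf (nat_lit 46762261)) (BT.leaf (nat_lit 37184021))) (BT.node (nat_lit 11643776) (BT.leaf (nat_lit 33295641)) (BT.leaf (nat_lit 28060693))))) (BT.node (nat_lit 11644096) (BT.node (nat_lit 11643968) (BT.node (nat_lit 11643904) (BT.leaf (nat_lit 28060697)) (BT.leaf (nat_lit 28060701))) (BT.node (nat_lit 11644032) (BT.leaf (nat_lit 27776785)) (BT.leaf (nat_lit 34456853)))) (BT.node (nat_lit 11644288) (BT.node (nat_lit 11644160) (BT.leaf (nat_lit 27777309)) (BT.leaf (nat_lit 27777809))) (BT.node (nat_lit 11644352) (BT.leaf (nat_lit 27782165)) (BT.leaf (nat_lit 34272781))))))) (BT.node (nat_lit 11645504) (BT.node (nat_lit 11644928) (BT.node (nat_lit 11644672) (BT.node (nat_lit 11644544) (BT.node (nat_lit 11644480) (BT.leaf (nat_lit 34272797)) (BT.leaf (nat_lit 31924757))) (BT.node (nat_lit 11644608) (BT.leaf (nat_lit 33400593)) (BT.leaf (nat_lit 50394373)))) (BT.node (nat_lit 11644800) (BT.node (nat_lit 11644736) (BT.leaf (nat_lit 35150617)) (BT.leaf (nat_lit 30843169))) (BT.node (nat_lit 11644864) (BT.leaf (nat_lit 33999877)) (BT.leaf (nat_lit 34105617))))) (BT.node (nat_lit 11645248) (BT.node (nat_lit 11645056) (BT.node (nat_lit 11644992) (BT.leaf (nat_lit 49753349)) (BT.leaf (nat_lit 27787033))) (BT.node (nat_lit 11645120) (BT.leaf (nat_lit 27787037)) (BT.leaf (nat_lit 38768645)))) (BT.node (nat_lit 11645376) (BT.node (nat_lit 11645312) (BT.leaf (nat_lit 35851269)) (BT.leaf (nat_lit 27789333))) (BT.node (nat_lit 11645381) (BT.leaf (nat_lit 27789337)) (BT.leaf (nat_lit 750544)))))) (BT.node (nat_lit 11646080) (BT.node (nat_lit 11645696) (BT.node (nat_lit 11645568) (BT.node (nat_lit 11645508) (BT.leaf (nat_lit 36870161)) (BT.leaf (nat_lit 812640))) (BT.node (nat_lit 11645632) (BT.leaf (nat_lit 27791385)) (BT.leaf (nat_lit 35136009)))) (BT.node (nat_lit 11645952) (BT.node (nat_lit 11645888) (BT.leaf (nat_lit 34069261)) (BT.leaf (nat_lit 27793425))) (BT.node (nat_lit 11646016) (BT.leaf (nat_lit 50322453)) (BT.leaf (nat_lit 50322713))))) (BT.node (nat_lit 11646592) (BT.node (nat_lit 11646208) (BT.node (nat_lit 11646144) (BT.leaf (nat_lit 32463637)) (BT.leaf (nat_lit 32463641))) (BT.node (nat_lit 11646272) (BT.leaf (nat_lit 32463645)) (BT.leaf (nat_lit 49612321)))) (BT.node (nat_lit 11646912) (BT.node (nat_lit 11646720) (BT.leaf (nat_lit 51657997)) (BT.leaf (nat_lit 27802897))) (BT.node (nat_lit 11647104) (BT.leaf (nat_lit 29297953)) (BT.leaf (nat_lit 27805449)))))))) (BT.node (nat_lit 11649536) (BT.node (nat_lit 11648256) (BT.node (nat_lit 11647808) (BT.node (nat_lit 11647552) (BT.node (nat_lit 11647296) (BT.node (nat_lit 11647232) (BT.leaf (nat_lit 46588957)) (BT.leaf (nat_lit 48999457))) (BT.node (nat_lit 11647424) (BT.leaf (nat_lit 48999453)) (BT.leaf (nat_lit 37021717)))) (BT.node (nat_lit 11647680) (BT.node (nat_lit 11647616) (BT.leaf (nat_lit 48999433)) (BT.leaf (nat_lit 27805713))) (BT.node (nat_lit 11647744) (BT.leaf (nat_lit 35041053)) (BT.leaf (nat_lit 29296929))))) (BT.node (nat_lit 11648064) (BT.node (nat_lit 11647936) (BT.node (nat_lit 11647872) (BT.leaf (nat_lit 38607389)) (BT.leaf (nat_lit 27806737))) (BT.node (nat_lit 11648000) (BT.leaf (nat_lit 33221381)) (BT.leaf (nat_lit 27807001)))) (BT.node (nat_lit 11648192) (BT.node (nat_lit 11648128) (BT.leaf (nat_lit 27807257)) (BT.leaf (nat_lit 34996489))) (BT.node (nat_lit 11648194) (BT.leaf (nat_lit 28202757)) (BT.leaf (nat_lit 808472)))))) (BT.node (nat_lit 11648896) (BT.node (nat_lit 11648384) (BT.node (nat_lit 11648320) (BT.node (nat_lit 11648258) (BT.leaf (nat_lit 48702217)) (BT.leaf (nat_lit 808476))) (BT.node (nat_lit 11648327) (BT.leaf (nat_lit 50934289)) (BT.leaf (nat_lit 808480)))) (BT.node (nat_lit 11648768) (BT.node (nat_lit 11648704) (BT.leaf (nat_lit 50587141)) (BT.leaf (nat_lit 27809825))) (BT.node (nat_lit 11648832) (BT.leaf (nat_lit 27810069)) (BT.leaf (nat_lit 27810325))))) (BT.node (nat_lit 11649280) (BT.node (nat_lit 11649024) (BT.node (nat_lit 11648960) (BT.leaf (nat_lit 27810833)) (BT.leaf (nat_lit 33057565))) (BT.node (nat_lit 11649088) (BT.leaf (nat_lit 27811093)) (BT.leaf (nat_lit 31551001)))) (BT.node (nat_lit 11649408) (BT.node (nat_lit 11649344) (BT.leaf (nat_lit 33208069)) (BT.leaf (nat_lit 33859873))) (BT.node (nat_lit 11649472) (BT.leaf (nat_lit 30774813)) (BT.leaf (nat_lit 27816465))))))) (BT.node (nat_lit 11650560) (BT.node (nat_lit 11650240) (BT.node (nat_lit 11649920) (BT.node (nat_lit 11649664) (BT.node (nat_lit 11649600) (BT.leaf (nat_lit 27817489)) (BT.leaf (nat_lit 32875553))) (BT.node (nat_lit 11649792) (BT.leaf (nat_lit 46054177)) (BT.leaf (nat_lit 35254549)))) (BT.node (nat_lit 11650048) (BT.node (nat_lit 11649984) (BT.leaf (nat_lit 48258069)) (BT.leaf (nat_lit 52304645))) (BT.node (nat_lit 11650112) (BT.leaf (nat_lit 27822353)) (BT.leaf (nat_lit 46848801))))) (BT.node (nat_lit 11650307) (BT.node (nat_lit 11650305) (BT.node (nat_lit 11650304) (BT.leaf (nat_lit 27824145)) (BT.leaf (nat_lit 37542165))) (BT.node (nat_lit 11650306) (BT.leaf (nat_lit 777408)) (BT.leaf (nat_lit 777408)))) (BT.node (nat_lit 11650432) (BT.node (nat_lit 11650368) (BT.leaf (nat_lit 777408)) (BT.leaf (nat_lit 36759301))) (BT.node (nat_lit 11650496) (BT.leaf (nat_lit 33202181)) (BT.leaf (nat_lit 50929685)))))) (BT.node (nat_lit 11651392) (BT.node (nat_lit 11651072) (BT.node (nat_lit 11650688) (BT.node (nat_lit 11650624) (BT.leaf (nat_lit 27827221)) (BT.leaf (nat_lit 52038169))) (BT.node (nat_lit 11650880) (BT.leaf (nat_lit 48229653)) (BT.leaf (nat_lit 27829777)))) (BT.node (nat_lit 11651264) (BT.node (nat_lit 11651136) (BT.leaf (nat_lit 32055309)) (BT.leaf (nat_lit 30222601))) (BT.node (nat_lit 11651328) (BT.leaf (nat_lit 38551569)) (BT.leaf (nat_lit 45585169))))) (BT.node (nat_lit 11651648) (BT.node (nat_lit 11651520) (BT.node (nat_lit 11651456) (BT.leaf (nat_lit 33360673)) (BT.leaf (nat_lit 27837473))) (BT.node (nat_lit 11651584) (BT.leaf (nat_lit 27837217)) (BT.leaf (nat_lit 48148257)))) (BT.node (nat_lit 11651776) (BT.node (nat_lit 11651712) (BT.leaf (nat_lit 46767365)) (BT.leaf (nat_lit 27836697))) (BT.node (nat_lit 11651840) (BT.leaf (nat_lit 35687969)) (BT.leaf (nat_lit 35328009))))))))))) (BT.node (nat_lit 11672320) (BT.node (nat_lit 11662272) (BT.node (nat_lit 11656960) (BT.node (nat_lit 11654528) (BT.node (nat_lit 11653184) (BT.node (nat_lit 11652544) (BT.node (nat_lit 11652160) (BT.node (nat_lit 11652032) (BT.node (nat_lit 11651968) (BT.leaf (nat_lit 44248069)) (BT.leaf (nat_lit 35328017))) (BT.node (nat_lit 11652039) (BT.leaf (nat_lit 51088921)) (BT.leaf (nat_lit 744336)))) (BT.node (nat_lit 11652416) (BT.node (nat_lit 11652224) (BT.leaf (nat_lit 47530525)) (BT.leaf (nat_lit 32449313))) (BT.node (nat_lit 11652480) (BT.leaf (nat_lit 27838749)) (BT.leaf (nat_lit 29250325))))) (BT.node (nat_lit 11652864) (BT.node (nat_lit 11652736) (BT.node (nat_lit 11652608) (BT.leaf (nat_lit 33975821)) (BT.leaf (nat_lit 49971973))) (BT.node (nat_lit 11652800) (BT.leaf (nat_lit 27841301)) (BT.leaf (nat_lit 50533397)))) (BT.node (nat_lit 11653056) (BT.node (nat_lit 11652928) (BT.leaf (nat_lit 48797729)) (BT.leaf (nat_lit 37683717))) (BT.node (nat_lit 11653120) (BT.leaf (nat_lit 27847189)) (BT.leaf (nat_lit 33769989)))))) (BT.node (nat_lit 11653824) (BT.node (nat_lit 11653504) (BT.node (nat_lit 11653312) (BT.node (nat_lit 11653248) (BT.leaf (nat_lit 37554693)) (BT.leaf (nat_lit 27847953))) (BT.node (nat_lit 11653440) (BT.leaf (nat_lit 39622929)) (BT.leaf (nat_lit 37204513)))) (BT.node (nat_lit 11653696) (BT.node (nat_lit 11653632) (BT.leaf (nat_lit 34810629)) (BT.leaf (nat_lit 35081493))) (BT.node (nat_lit 11653760) (BT.leaf (nat_lit 31393053)) (BT.leaf (nat_lit 38433057))))) (BT.node (nat_lit 11654080) (BT.node (nat_lit 11653952) (BT.node (nat_lit 11653829) (BT.leaf (nat_lit 35918101)) (BT.leaf (nat_lit 803532))) (BT.node (nat_lit 11654016) (BT.leaf (nat_lit 50358817)) (BT.leaf (nat_lit 37418773)))) (BT.node (nat_lit 11654208) (BT.node (nat_lit 11654144) (BT.leaf (nat_lit 51015189)) (BT.leaf (nat_lit 48883477))) (BT.node (nat_lit 11654272) (BT.leaf (nat_lit 49730821)) (BT.leaf (nat_lit 46451229))))))) (BT.node (nat_lit 11655488) (BT.node (nat_lit 11655040) (BT.node (nat_lit 11654720) (BT.node (nat_lit 11654592) (BT.node (nat_lit 11654532) (BT.leaf (nat_lit 34742801)) (BT.leaf (nat_lit 793100))) (BT.node (nat_lit 11654656) (BT.leaf (nat_lit 47700489)) (BT.leaf (nat_lit 47699741)))) (BT.node (nat_lit 11654912) (BT.node (nat_lit 11654848) (BT.leaf (nat_lit 27857177)) (BT.leaf (nat_lit 27857433))) (BT.node (nat_lit 11654976) (BT.leaf (nat_lit 27857437)) (BT.leaf (nat_lit 30004497))))) (BT.node (nat_lit 11655296) (BT.node (nat_lit 11655168) (BT.node (nat_lit 11655104) (BT.leaf (nat_lit 30004501)) (BT.leaf (nat_lit 35833361))) (BT.node (nat_lit 11655232) (BT.leaf (nat_lit 35833105)) (BT.leaf (nat_lit 27858457)))) (BT.node (nat_lit 11655424) (BT.node (nat_lit 11655360) (BT.leaf (nat_lit 27858461)) (BT.leaf (nat_lit 27858709))) (BT.node (nat_lit 11655428) (BT.leaf (nat_lit 37275665)) (BT.leaf (nat_lit 816692)))))) (BT.node (nat_lit 11656448) (BT.node (nat_lit 11656128) (BT.node (nat_lit 11655744) (BT.node (nat_lit 11655552) (BT.leaf (nat_lit 27858961)) (BT.leaf (nat_lit 27859221))) (BT.node (nat_lit 11656064) (BT.leaf (nat_lit 27859993)) (BT.leaf (nat_lit 32470293)))) (BT.node (nat_lit 11656320) (BT.node (nat_lit 11656192) (BT.leaf (nat_lit 27866129)) (BT.leaf (nat_lit 27866133))) (BT.node (nat_lit 11656384) (BT.leaf (nat_lit 51492373)) (BT.leaf (nat_lit 33964821))))) (BT.node (nat_lit 11656704) (BT.node (nat_lit 11656576) (BT.node (nat_lit 11656512) (BT.leaf (nat_lit 33216025)) (BT.leaf (nat_lit 33964573))) (BT.node (nat_lit 11656640) (BT.leaf (nat_lit 46627869)) (BT.leaf (nat_lit 27869461)))) (BT.node (nat_lit 11656832) (BT.node (nat_lit 11656768) (BT.leaf (nat_lit 51388949)) (BT.leaf (nat_lit 46989345))) (BT.node (nat_lit 11656896) (BT.leaf (nat_lit 50702877)) (BT.leaf (nat_lit 27871249)))))))) (BT.node (nat_lit 11660032) (BT.node (nat_lit 11658560) (BT.node (nat_lit 11657984) (BT.node (nat_lit 11657408) (BT.node (nat_lit 11657088) (BT.node (nat_lit 11657024) (BT.leaf (nat_lit 34646817)) (BT.leaf (nat_lit 50699529))) (BT.node (nat_lit 11657344) (BT.leaf (nat_lit 34644497)) (BT.leaf (nat_lit 27872021)))) (BT.node (nat_lit 11657792) (BT.node (nat_lit 11657472) (BT.leaf (nat_lit 50702861)) (BT.leaf (nat_lit 50610969))) (BT.node (nat_lit 11657856) (BT.leaf (nat_lit 46356501)) (BT.leaf (nat_lit 50540817))))) (BT.node (nat_lit 11658240) (BT.node (nat_lit 11658112) (BT.node (nat_lit 11658048) (BT.leaf (nat_lit 46356749)) (BT.leaf (nat_lit 34155797))) (BT.node (nat_lit 11658176) (BT.leaf (nat_lit 34182689)) (BT.leaf (nat_lit 27876637)))) (BT.node (nat_lit 11658368) (BT.node (nat_lit 11658304) (BT.leaf (nat_lit 50279953)) (BT.leaf (nat_lit 33253405))) (BT.node (nat_lit 11658496) (BT.leaf (nat_lit 27878677)) (BT.leaf (nat_lit 27880213)))))) (BT.node (nat_lit 11659200) (BT.node (nat_lit 11658816) (BT.node (nat_lit 11658688) (BT.node (nat_lit 11658624) (BT.leaf (nat_lit 35501333)) (BT.leaf (nat_lit 38705177))) (BT.node (nat_lit 11658752) (BT.leaf (nat_lit 37389317)) (BT.leaf (nat_lit 46795013)))) (BT.node (nat_lit 11658944) (BT.node (nat_lit 11658880) (BT.leaf (nat_lit 36889093)) (BT.leaf (nat_lit 33625113))) (BT.node (nat_lit 11659072) (BT.leaf (nat_lit 29214493)) (BT.leaf (nat_lit 36776709))))) (BT.node (nat_lit 11659584) (BT.node (nat_lit 11659456) (BT.node (nat_lit 11659392) (BT.leaf (nat_lit 27889697)) (BT.leaf (nat_lit 37075977))) (BT.node (nat_lit 11659520) (BT.leaf (nat_lit 27891473)) (BT.leaf (nat_lit 28000541)))) (BT.node (nat_lit 11659776) (BT.node (nat_lit 11659712) (BT.leaf (nat_lit 50741273)) (BT.leaf (nat_lit 32545541))) (BT.node (nat_lit 11659968) (BT.leaf (nat_lit 34921237)) (BT.leaf (nat_lit 27902997))))))) (BT.node (nat_lit 11661248) (BT.node (nat_lit 11660672) (BT.node (nat_lit 11660224) (BT.node (nat_lit 11660096) (BT.node (nat_lit 11660036) (BT.leaf (nat_lit 42151689)) (BT.leaf (nat_lit 754684))) (BT.node (nat_lit 11660160) (BT.leaf (nat_lit 33275681)) (BT.leaf (nat_lit 33275657)))) (BT.node (nat_lit 11660544) (BT.node (nat_lit 11660288) (BT.leaf (nat_lit 33320709)) (BT.leaf (nat_lit 33633797))) (BT.node (nat_lit 11660608) (BT.leaf (nat_lit 48492569)) (BT.leaf (nat_lit 46642201))))) (BT.node (nat_lit 11660992) (BT.node (nat_lit 11660800) (BT.node (nat_lit 11660736) (BT.leaf (nat_lit 46513925)) (BT.leaf (nat_lit 47640593))) (BT.node (nat_lit 11660864) (BT.leaf (nat_lit 47627021)) (BT.leaf (nat_lit 50270997)))) (BT.node (nat_lit 11661120) (BT.node (nat_lit 11661056) (BT.leaf (nat_lit 27911697)) (BT.leaf (nat_lit 50567697))) (BT.node (nat_lit 11661184) (BT.leaf (nat_lit 27912469)) (BT.leaf (nat_lit 27913749)))))) (BT.node (nat_lit 11661632) (BT.node (nat_lit 11661381) (BT.node (nat_lit 11661319) (BT.node (nat_lit 11661312) (BT.leaf (nat_lit 35290885)) (BT.leaf (nat_lit 47194633))) (BT.node (nat_lit 11661376) (BT.leaf (nat_lit 790108)) (BT.leaf (nat_lit 27914253)))) (BT.node (nat_lit 11661440) (BT.node (nat_lit 11661383) (BT.leaf (nat_lit 751296)) (BT.leaf (nat_lit 751296))) (BT.node (nat_lit 11661504) (BT.leaf (nat_lit 27914265)) (BT.leaf (nat_lit 34365725))))) (BT.node (nat_lit 11661952) (BT.node (nat_lit 11661760) (BT.node (nat_lit 11661696) (BT.leaf (nat_lit 34367265)) (BT.leaf (nat_lit 37824797))) (BT.node (nat_lit 11661888) (BT.leaf (nat_lit 27917077)) (BT.leaf (nat_lit 27916573)))) (BT.node (nat_lit 11662080) (BT.node (nat_lit 11662016) (BT.leaf (nat_lit 50435093)) (BT.leaf (nat_lit 33226001))) (BT.node (nat_lit 11662144) (BT.leaf (nat_lit 27916817)) (BT.leaf (nat_lit 27918101))))))))) (BT.node (nat_lit 11667584) (BT.node (nat_lit 11664896) (BT.node (nat_lit 11663424) (BT.node (nat_lit 11662848) (BT.node (nat_lit 11662592) (BT.node (nat_lit 11662400) (BT.node (nat_lit 11662336) (BT.leaf (nat_lit 27919633)) (BT.leaf (nat_lit 46590737))) (BT.node (nat_lit 11662464) (BT.leaf (nat_lit 46649869)) (BT.leaf (nat_lit 46470689)))) (BT.node (nat_lit 11662720) (BT.node (nat_lit 11662656) (BT.leaf (nat_lit 33153029)) (BT.leaf (nat_lit 33684757))) (BT.node (nat_lit 11662784) (BT.leaf (nat_lit 27921685)) (BT.leaf (nat_lit 27921693))))) (BT.node (nat_lit 11663168) (BT.node (nat_lit 11663040) (BT.node (nat_lit 11662912) (BT.leaf (nat_lit 29981461)) (BT.leaf (nat_lit 44310021))) (BT.node (nat_lit 11663104) (BT.leaf (nat_lit 46521093)) (BT.leaf (nat_lit 43743777)))) (BT.node (nat_lit 11663296) (BT.node (nat_lit 11663232) (BT.leaf (nat_lit 46678289)) (BT.leaf (nat_lit 38360325))) (BT.node (nat_lit 11663360) (BT.leaf (nat_lit 33149713)) (BT.leaf (nat_lit 31372313)))))) (BT.node (nat_lit 11664064) (BT.node (nat_lit 11663808) (BT.node (nat_lit 11663680) (BT.node (nat_lit 11663432) (BT.leaf (nat_lit 42474757)) (BT.leaf (nat_lit 769504))) (BT.node (nat_lit 11663744) (BT.leaf (nat_lit 46508549)) (BT.leaf (nat_lit 34424605)))) (BT.node (nat_lit 11663936) (BT.node (nat_lit 11663872) (BT.leaf (nat_lit 46655501)) (BT.leaf (nat_lit 47802373))) (BT.node (nat_lit 11664000) (BT.leaf (nat_lit 27930129)) (BT.leaf (nat_lit 27930137))))) (BT.node (nat_lit 11664576) (BT.node (nat_lit 11664192) (BT.node (nat_lit 11664128) (BT.leaf (nat_lit 27930141)) (BT.leaf (nat_lit 27930145))) (BT.node (nat_lit 11664256) (BT.leaf (nat_lit 27930393)) (BT.leaf (nat_lit 27931921)))) (BT.node (nat_lit 11664704) (BT.node (nat_lit 11664640) (BT.leaf (nat_lit 27933217)) (BT.leaf (nat_lit 34896669))) (BT.node (nat_lit 11664832) (BT.leaf (nat_lit 27933461)) (BT.leaf (nat_lit 27935261))))))) (BT.node (nat_lit 11666368) (BT.node (nat_lit 11665664) (BT.node (nat_lit 11665216) (BT.node (nat_lit 11665088) (BT.node (nat_lit 11665024) (BT.leaf (nat_lit 31315221)) (BT.leaf (nat_lit 38791437))) (BT.node (nat_lit 11665152) (BT.leaf (nat_lit 41240097)) (BT.leaf (nat_lit 29756189)))) (BT.node (nat_lit 11665536) (BT.node (nat_lit 11665472) (BT.leaf (nat_lit 27939605)) (BT.leaf (nat_lit 27939873))) (BT.node (nat_lit 11665600) (BT.leaf (nat_lit 27940113)) (BT.leaf (nat_lit 27940621))))) (BT.node (nat_lit 11665920) (BT.node (nat_lit 11665792) (BT.node (nat_lit 11665728) (BT.leaf (nat_lit 29922845)) (BT.leaf (nat_lit 27941393))) (BT.node (nat_lit 11665856) (BT.leaf (nat_lit 27941409)) (BT.leaf (nat_lit 28789273)))) (BT.node (nat_lit 11666048) (BT.node (nat_lit 11665984) (BT.leaf (nat_lit 27943185)) (BT.leaf (nat_lit 42050581))) (BT.node (nat_lit 11666304) (BT.leaf (nat_lit 27944977)) (BT.leaf (nat_lit 28365597)))))) (BT.node (nat_lit 11667008) (BT.node (nat_lit 11666688) (BT.node (nat_lit 11666496) (BT.node (nat_lit 11666432) (BT.leaf (nat_lit 28444949)) (BT.leaf (nat_lit 34852625))) (BT.node (nat_lit 11666624) (BT.leaf (nat_lit 28228613)) (BT.leaf (nat_lit 29927177)))) (BT.node (nat_lit 11666944) (BT.node (nat_lit 11666816) (BT.leaf (nat_lit 46418181)) (BT.leaf (nat_lit 27956753))) (BT.node (nat_lit 11666949) (BT.leaf (nat_lit 29336325)) (BT.leaf (nat_lit 740836))))) (BT.node (nat_lit 11667328) (BT.node (nat_lit 11667136) (BT.node (nat_lit 11667072) (BT.leaf (nat_lit 39294725)) (BT.leaf (nat_lit 49014805))) (BT.node (nat_lit 11667200) (BT.leaf (nat_lit 48677637)) (BT.leaf (nat_lit 27958557)))) (BT.node (nat_lit 11667456) (BT.node (nat_lit 11667392) (BT.leaf (nat_lit 27960093)) (BT.leaf (nat_lit 34009373))) (BT.node (nat_lit 11667520) (BT.leaf (nat_lit 34826529)) (BT.leaf (nat_lit 36251417)))))))) (BT.node (nat_lit 11670213) (BT.node (nat_lit 11668992) (BT.node (nat_lit 11668164) (BT.node (nat_lit 11667904) (BT.node (nat_lit 11667776) (BT.node (nat_lit 11667648) (BT.leaf (nat_lit 51609613)) (BT.leaf (nat_lit 41458181))) (BT.node (nat_lit 11667840) (BT.leaf (nat_lit 34658053)) (BT.leaf (nat_lit 51734037)))) (BT.node (nat_lit 11668096) (BT.node (nat_lit 11667968) (BT.leaf (nat_lit 51022101)) (BT.leaf (nat_lit 27963921))) (BT.node (nat_lit 11668160) (BT.leaf (nat_lit 27964437)) (BT.leaf (nat_lit 39299845))))) (BT.node (nat_lit 11668608) (BT.node (nat_lit 11668288) (BT.node (nat_lit 11668224) (BT.leaf (nat_lit 807476)) (BT.leaf (nat_lit 27965713))) (BT.node (nat_lit 11668352) (BT.leaf (nat_lit 30328601)) (BT.leaf (nat_lit 46668805)))) (BT.node (nat_lit 11668800) (BT.node (nat_lit 11668672) (BT.leaf (nat_lit 48106501)) (BT.leaf (nat_lit 29247749))) (BT.node (nat_lit 11668928) (BT.leaf (nat_lit 48269601)) (BT.leaf (nat_lit 27970077)))))) (BT.node (nat_lit 11669632) (BT.node (nat_lit 11669376) (BT.node (nat_lit 11669120) (BT.node (nat_lit 11669056) (BT.leaf (nat_lit 51121945)) (BT.leaf (nat_lit 51121949))) (BT.node (nat_lit 11669312) (BT.leaf (nat_lit 33777925)) (BT.leaf (nat_lit 52141089)))) (BT.node (nat_lit 11669504) (BT.node (nat_lit 11669440) (BT.leaf (nat_lit 31072025)) (BT.leaf (nat_lit 31072029))) (BT.node (nat_lit 11669568) (BT.leaf (nat_lit 27971857)) (BT.leaf (nat_lit 33739805))))) (BT.node (nat_lit 11670016) (BT.node (nat_lit 11669824) (BT.node (nat_lit 11669760) (BT.leaf (nat_lit 27974161)) (BT.leaf (nat_lit 35844117))) (BT.node (nat_lit 11669952) (BT.leaf (nat_lit 43707665)) (BT.leaf (nat_lit 33759261)))) (BT.node (nat_lit 11670144) (BT.node (nat_lit 11670080) (BT.leaf (nat_lit 27976977)) (BT.leaf (nat_lit 34287641))) (BT.node (nat_lit 11670208) (BT.leaf (nat_lit 34374941)) (BT.leaf (nat_lit 28872221))))))) (BT.node (nat_lit 11671424) (BT.node (nat_lit 11670848) (BT.node (nat_lit 11670592) (BT.node (nat_lit 11670400) (BT.node (nat_lit 11670272) (BT.leaf (nat_lit 736600)) (BT.leaf (nat_lit 27979029))) (BT.node (nat_lit 11670528) (BT.leaf (nat_lit 27982877)) (BT.leaf (nat_lit 29720593)))) (BT.node (nat_lit 11670720) (BT.node (nat_lit 11670656) (BT.leaf (nat_lit 37236229)) (BT.leaf (nat_lit 29162269))) (BT.node (nat_lit 11670784) (BT.leaf (nat_lit 27985429)) (BT.leaf (nat_lit 27985941))))) (BT.node (nat_lit 11671040) (BT.node (nat_lit 11670917) (BT.node (nat_lit 11670912) (BT.leaf (nat_lit 27986197)) (BT.leaf (nat_lit 48017185))) (BT.node (nat_lit 11670976) (BT.leaf (nat_lit 793440)) (BT.leaf (nat_lit 46786065)))) (BT.node (nat_lit 11671168) (BT.node (nat_lit 11671104) (BT.leaf (nat_lit 47463201)) (BT.leaf (nat_lit 49081349))) (BT.node (nat_lit 11671232) (BT.leaf (nat_lit 27988757)) (BT.leaf (nat_lit 50821893)))))) (BT.node (nat_lit 11672000) (BT.node (nat_lit 11671744) (BT.node (nat_lit 11671616) (BT.node (nat_lit 11671552) (BT.leaf (nat_lit 27989533)) (BT.leaf (nat_lit 39807509))) (BT.node (nat_lit 11671680) (BT.leaf (nat_lit 46686749)) (BT.leaf (nat_lit 49660181)))) (BT.node (nat_lit 11671872) (BT.node (nat_lit 11671808) (BT.leaf (nat_lit 29043973)) (BT.leaf (nat_lit 27993873))) (BT.node (nat_lit 11671936) (BT.leaf (nat_lit 46669333)) (BT.leaf (nat_lit 27995673))))) (BT.node (nat_lit 11672192) (BT.node (nat_lit 11672128) (BT.node (nat_lit 11672064) (BT.leaf (nat_lit 27995677)) (BT.leaf (nat_lit 38095381))) (BT.node (nat_lit 11672136) (BT.leaf (nat_lit 27996953)) (BT.leaf (nat_lit 782536)))) (BT.node (nat_lit 11672256) (BT.node (nat_lit 11672196) (BT.leaf (nat_lit 36601613)) (BT.leaf (nat_lit 771248))) (BT.node (nat_lit 11672262) (BT.leaf (nat_lit 46359585)) (BT.leaf (nat_lit 749872)))))))))) (BT.node (nat_lit 11681344) (BT.node (nat_lit 11677120) (BT.node (nat_lit 11674500) (BT.node (nat_lit 11673536) (BT.node (nat_lit 11672896) (BT.node (nat_lit 11672640) (BT.node (nat_lit 11672512) (BT.node (nat_lit 11672448) (BT.leaf (nat_lit 28000021)) (BT.leaf (nat_lit 37474309))) (BT.node (nat_lit 11672576) (BT.leaf (nat_lit 37474565)) (BT.leaf (nat_lit 46643989)))) (BT.node (nat_lit 11672768) (BT.node (nat_lit 11672704) (BT.leaf (nat_lit 49989653)) (BT.leaf (nat_lit 35163909))) (BT.node (nat_lit 11672832) (BT.leaf (nat_lit 35364633)) (BT.leaf (nat_lit 50613001))))) (BT.node (nat_lit 11673280) (BT.node (nat_lit 11673152) (BT.node (nat_lit 11673088) (BT.leaf (nat_lit 34409225)) (BT.leaf (nat_lit 28004369))) (BT.node (nat_lit 11673216) (BT.leaf (nat_lit 28004621)) (BT.leaf (nat_lit 28004633)))) (BT.node (nat_lit 11673408) (BT.node (nat_lit 11673344) (BT.leaf (nat_lit 28004641)) (BT.leaf (nat_lit 49943317))) (BT.node (nat_lit 11673472) (BT.leaf (nat_lit 50624285)) (BT.leaf (nat_lit 35166981)))))) (BT.node (nat_lit 11674048) (BT.node (nat_lit 11673792) (BT.node (nat_lit 11673664) (BT.node (nat_lit 11673600) (BT.leaf (nat_lit 35167237)) (BT.leaf (nat_lit 35167521))) (BT.node (nat_lit 11673728) (BT.leaf (nat_lit 34402573)) (BT.leaf (nat_lit 35779089)))) (BT.node (nat_lit 11673920) (BT.node (nat_lit 11673856) (BT.leaf (nat_lit 36257297)) (BT.leaf (nat_lit 35672593))) (BT.node (nat_lit 11673984) (BT.leaf (nat_lit 47181829)) (BT.leaf (nat_lit 31162637))))) (BT.node (nat_lit 11674375) (BT.node (nat_lit 11674240) (BT.node (nat_lit 11674176) (BT.leaf (nat_lit 28012573)) (BT.leaf (nat_lit 50246177))) (BT.node (nat_lit 11674368) (BT.leaf (nat_lit 30524449)) (BT.leaf (nat_lit 28018453)))) (BT.node (nat_lit 11674437) (BT.node (nat_lit 11674432) (BT.leaf (nat_lit 816896)) (BT.leaf (nat_lit 46698013))) (BT.node (nat_lit 11674496) (BT.leaf (nat_lit 816908)) (BT.leaf (nat_lit 37275921))))))) (BT.node (nat_lit 11675840) (BT.node (nat_lit 11675264) (BT.node (nat_lit 11675008) (BT.node (nat_lit 11674688) (BT.node (nat_lit 11674560) (BT.leaf (nat_lit 816696)) (BT.leaf (nat_lit 28018705))) (BT.node (nat_lit 11674752) (BT.leaf (nat_lit 36053517)) (BT.leaf (nat_lit 33837853)))) (BT.node (nat_lit 11675136) (BT.node (nat_lit 11675072) (BT.leaf (nat_lit 31588113)) (BT.leaf (nat_lit 28023569))) (BT.node (nat_lit 11675200) (BT.leaf (nat_lit 38063393)) (BT.leaf (nat_lit 36853513))))) (BT.node (nat_lit 11675584) (BT.node (nat_lit 11675456) (BT.node (nat_lit 11675392) (BT.leaf (nat_lit 28025361)) (BT.leaf (nat_lit 34581789))) (BT.node (nat_lit 11675520) (BT.leaf (nat_lit 36853781)) (BT.leaf (nat_lit 28480273)))) (BT.node (nat_lit 11675712) (BT.node (nat_lit 11675648) (BT.leaf (nat_lit 28028441)) (BT.leaf (nat_lit 46447365))) (BT.node (nat_lit 11675776) (BT.leaf (nat_lit 33269521)) (BT.leaf (nat_lit 30932505)))))) (BT.node (nat_lit 11676416) (BT.node (nat_lit 11676160) (BT.node (nat_lit 11675968) (BT.node (nat_lit 11675904) (BT.leaf (nat_lit 28029969)) (BT.leaf (nat_lit 48851737))) (BT.node (nat_lit 11676032) (BT.leaf (nat_lit 36719637)) (BT.leaf (nat_lit 51269393)))) (BT.node (nat_lit 11676288) (BT.node (nat_lit 11676224) (BT.leaf (nat_lit 34037769)) (BT.leaf (nat_lit 33275677))) (BT.node (nat_lit 11676352) (BT.leaf (nat_lit 46878725)) (BT.leaf (nat_lit 28033301))))) (BT.node (nat_lit 11676864) (BT.node (nat_lit 11676608) (BT.node (nat_lit 11676480) (BT.leaf (nat_lit 46702085)) (BT.leaf (nat_lit 46820893))) (BT.node (nat_lit 11676672) (BT.leaf (nat_lit 37127953)) (BT.leaf (nat_lit 28039185)))) (BT.node (nat_lit 11676928) (BT.node (nat_lit 11676867) (BT.leaf (nat_lit 28040725)) (BT.leaf (nat_lit 729812))) (BT.node (nat_lit 11676992) (BT.leaf (nat_lit 28040481)) (BT.leaf (nat_lit 29923845)))))))) (BT.node (nat_lit 11679168) (BT.node (nat_lit 11678080) (BT.node (nat_lit 11677632) (BT.node (nat_lit 11677376) (BT.node (nat_lit 11677248) (BT.node (nat_lit 11677184) (BT.leaf (nat_lit 28042017)) (BT.leaf (nat_lit 28043025))) (BT.node (nat_lit 11677312) (BT.leaf (nat_lit 34518049)) (BT.leaf (nat_lit 28044065)))) (BT.node (nat_lit 11677504) (BT.node (nat_lit 11677440) (BT.leaf (nat_lit 32165393)) (BT.leaf (nat_lit 47466513))) (BT.node (nat_lit 11677568) (BT.leaf (nat_lit 28959749)) (BT.leaf (nat_lit 50245641))))) (BT.node (nat_lit 11677824) (BT.node (nat_lit 11677700) (BT.node (nat_lit 11677696) (BT.leaf (nat_lit 28046357)) (BT.leaf (nat_lit 28046361))) (BT.node (nat_lit 11677760) (BT.leaf (nat_lit 761420)) (BT.leaf (nat_lit 28046365)))) (BT.node (nat_lit 11677952) (BT.node (nat_lit 11677888) (BT.leaf (nat_lit 28046617)) (BT.leaf (nat_lit 28046621))) (BT.node (nat_lit 11678016) (BT.leaf (nat_lit 46901253)) (BT.leaf (nat_lit 34371605)))))) (BT.node (nat_lit 11678592) (BT.node (nat_lit 11678336) (BT.node (nat_lit 11678208) (BT.node (nat_lit 11678144) (BT.leaf (nat_lit 48807969)) (BT.leaf (nat_lit 34855437))) (BT.node (nat_lit 11678272) (BT.leaf (nat_lit 28050705)) (BT.leaf (nat_lit 47082501)))) (BT.node (nat_lit 11678464) (BT.node (nat_lit 11678400) (BT.leaf (nat_lit 29965849)) (BT.leaf (nat_lit 36882721))) (BT.node (nat_lit 11678528) (BT.leaf (nat_lit 35237637)) (BT.leaf (nat_lit 41498385))))) (BT.node (nat_lit 11678912) (BT.node (nat_lit 11678720) (BT.node (nat_lit 11678656) (BT.leaf (nat_lit 28822297)) (BT.leaf (nat_lit 47378961))) (BT.node (nat_lit 11678784) (BT.leaf (nat_lit 29212949)) (BT.leaf (nat_lit 28055825)))) (BT.node (nat_lit 11679040) (BT.node (nat_lit 11678976) (BT.leaf (nat_lit 33279009)) (BT.leaf (nat_lit 43210505))) (BT.node (nat_lit 11679104) (BT.leaf (nat_lit 42513185)) (BT.leaf (nat_lit 35513629))))))) (BT.node (nat_lit 11680192) (BT.node (nat_lit 11679680) (BT.node (nat_lit 11679360) (BT.node (nat_lit 11679232) (BT.node (nat_lit 11679172) (BT.leaf (nat_lit 34542609)) (BT.leaf (nat_lit 791504))) (BT.node (nat_lit 11679296) (BT.leaf (nat_lit 28058905)) (BT.leaf (nat_lit 35105541)))) (BT.node (nat_lit 11679488) (BT.node (nat_lit 11679424) (BT.leaf (nat_lit 32452117)) (BT.leaf (nat_lit 28060433))) (BT.node (nat_lit 11679616) (BT.leaf (nat_lit 51098389)) (BT.leaf (nat_lit 33963281))))) (BT.node (nat_lit 11679872) (BT.node (nat_lit 11679744) (BT.node (nat_lit 11679687) (BT.leaf (nat_lit 32494341)) (BT.leaf (nat_lit 763176))) (BT.node (nat_lit 11679810) (BT.leaf (nat_lit 28062221)) (BT.leaf (nat_lit 763168)))) (BT.node (nat_lit 11680000) (BT.node (nat_lit 11679936) (BT.leaf (nat_lit 28062237)) (BT.leaf (nat_lit 28062993))) (BT.node (nat_lit 11680128) (BT.leaf (nat_lit 34118425)) (BT.leaf (nat_lit 52079637)))))) (BT.node (nat_lit 11680832) (BT.node (nat_lit 11680512) (BT.node (nat_lit 11680320) (BT.node (nat_lit 11680256) (BT.leaf (nat_lit 36017421)) (BT.leaf (nat_lit 48247829))) (BT.node (nat_lit 11680448) (BT.leaf (nat_lit 50490901)) (BT.leaf (nat_lit 28068881)))) (BT.node (nat_lit 11680704) (BT.node (nat_lit 11680640) (BT.leaf (nat_lit 28069905)) (BT.leaf (nat_lit 46463521))) (BT.node (nat_lit 11680768) (BT.leaf (nat_lit 33094673)) (BT.leaf (nat_lit 51355169))))) (BT.node (nat_lit 11681088) (BT.node (nat_lit 11680960) (BT.node (nat_lit 11680896) (BT.leaf (nat_lit 47049733)) (BT.leaf (nat_lit 28073745))) (BT.node (nat_lit 11681024) (BT.leaf (nat_lit 32484101)) (BT.leaf (nat_lit 28075285)))) (BT.node (nat_lit 11681216) (BT.node (nat_lit 11681152) (BT.leaf (nat_lit 34840601)) (BT.leaf (nat_lit 34840605))) (BT.node (nat_lit 11681280) (BT.leaf (nat_lit 34840609)) (BT.leaf (nat_lit 28690693))))))))) (BT.node (nat_lit 11686720) (BT.node (nat_lit 11683776) (BT.node (nat_lit 11682624) (BT.node (nat_lit 11681920) (BT.node (nat_lit 11681664) (BT.node (nat_lit 11681472) (BT.node (nat_lit 11681408) (BT.leaf (nat_lit 28075541)) (BT.leaf (nat_lit 28075797))) (BT.node (nat_lit 11681600) (BT.leaf (nat_lit 28077585)) (BT.leaf (nat_lit 37158661)))) (BT.node (nat_lit 11681792) (BT.node (nat_lit 11681728) (BT.leaf (nat_lit 49091873)) (BT.leaf (nat_lit 42309665))) (BT.node (nat_lit 11681856) (BT.leaf (nat_lit 49250333)) (BT.leaf (nat_lit 28082197))))) (BT.node (nat_lit 11682240) (BT.node (nat_lit 11682048) (BT.node (nat_lit 11681984) (BT.leaf (nat_lit 28082201)) (BT.leaf (nat_lit 28707105))) (BT.node (nat_lit 11682176) (BT.leaf (nat_lit 28083481)) (BT.leaf (nat_lit 29504777)))) (BT.node (nat_lit 11682432) (BT.node (nat_lit 11682304) (BT.leaf (nat_lit 36955153)) (BT.leaf (nat_lit 36955145))) (BT.node (nat_lit 11682560) (BT.leaf (nat_lit 50304537)) (BT.leaf (nat_lit 46409485)))))) (BT.node (nat_lit 11683200) (BT.node (nat_lit 11682880) (BT.node (nat_lit 11682752) (BT.node (nat_lit 11682688) (BT.leaf (nat_lit 47288585)) (BT.leaf (nat_lit 28085533))) (BT.node (nat_lit 11682816) (BT.leaf (nat_lit 28085777)) (BT.leaf (nat_lit 49338389)))) (BT.node (nat_lit 11683072) (BT.node (nat_lit 11682944) (BT.leaf (nat_lit 40565765)) (BT.leaf (nat_lit 50480657))) (BT.node (nat_lit 11683136) (BT.leaf (nat_lit 51292693)) (BT.leaf (nat_lit 28088593))))) (BT.node (nat_lit 11683520) (BT.node (nat_lit 11683328) (BT.node (nat_lit 11683264) (BT.leaf (nat_lit 28089617)) (BT.leaf (nat_lit 33921809))) (BT.node (nat_lit 11683392) (BT.leaf (nat_lit 36236549)) (BT.leaf (nat_lit 28093969)))) (BT.node (nat_lit 11683648) (BT.node (nat_lit 11683584) (BT.leaf (nat_lit 51656721)) (BT.leaf (nat_lit 51429137))) (BT.node (nat_lit 11683712) (BT.leaf (nat_lit 28095253)) (BT.leaf (nat_lit 28095001))))))) (BT.node (nat_lit 11685120) (BT.node (nat_lit 11684416) (BT.node (nat_lit 11684102) (BT.node (nat_lit 11683968) (BT.node (nat_lit 11683840) (BT.leaf (nat_lit 46621457)) (BT.leaf (nat_lit 28097305))) (BT.node (nat_lit 11684032) (BT.leaf (nat_lit 33296405)) (BT.leaf (nat_lit 30980105)))) (BT.node (nat_lit 11684224) (BT.node (nat_lit 11684160) (BT.leaf (nat_lit 815872)) (BT.leaf (nat_lit 33373201))) (BT.node (nat_lit 11684288) (BT.leaf (nat_lit 42127365)) (BT.leaf (nat_lit 49904153))))) (BT.node (nat_lit 11684672) (BT.node (nat_lit 11684544) (BT.node (nat_lit 11684480) (BT.leaf (nat_lit 34303777)) (BT.leaf (nat_lit 35806485))) (BT.node (nat_lit 11684608) (BT.leaf (nat_lit 33288709)) (BT.leaf (nat_lit 37773589)))) (BT.node (nat_lit 11684800) (BT.node (nat_lit 11684736) (BT.leaf (nat_lit 36825369)) (BT.leaf (nat_lit 36825357))) (BT.node (nat_lit 11684928) (BT.leaf (nat_lit 37963781)) (BT.leaf (nat_lit 28144149)))))) (BT.node (nat_lit 11685888) (BT.node (nat_lit 11685440) (BT.node (nat_lit 11685312) (BT.node (nat_lit 11685248) (BT.leaf (nat_lit 28107537)) (BT.leaf (nat_lit 52402957))) (BT.node (nat_lit 11685376) (BT.leaf (nat_lit 28108305)) (BT.leaf (nat_lit 28109589)))) (BT.node (nat_lit 11685760) (BT.node (nat_lit 11685696) (BT.leaf (nat_lit 31138073)) (BT.leaf (nat_lit 36178453))) (BT.node (nat_lit 11685824) (BT.leaf (nat_lit 28111889)) (BT.leaf (nat_lit 48799749))))) (BT.node (nat_lit 11686400) (BT.node (nat_lit 11686208) (BT.node (nat_lit 11686080) (BT.leaf (nat_lit 43905301)) (BT.leaf (nat_lit 50187297))) (BT.node (nat_lit 11686336) (BT.leaf (nat_lit 32168453)) (BT.leaf (nat_lit 47379997)))) (BT.node (nat_lit 11686592) (BT.node (nat_lit 11686528) (BT.leaf (nat_lit 29271069)) (BT.leaf (nat_lit 28120085))) (BT.node (nat_lit 11686656) (BT.leaf (nat_lit 33063701)) (BT.leaf (nat_lit 28120601)))))))) (BT.node (nat_lit 11690112) (BT.node (nat_lit 11688640) (BT.node (nat_lit 11687808) (BT.node (nat_lit 11687104) (BT.node (nat_lit 11686912) (BT.node (nat_lit 11686784) (BT.leaf (nat_lit 28121109)) (BT.leaf (nat_lit 28121113))) (BT.node (nat_lit 11686976) (BT.leaf (nat_lit 46813957)) (BT.leaf (nat_lit 41016069)))) (BT.node (nat_lit 11687552) (BT.node (nat_lit 11687424) (BT.leaf (nat_lit 46586905)) (BT.leaf (nat_lit 33730581))) (BT.node (nat_lit 11687680) (BT.leaf (nat_lit 51711513)) (BT.leaf (nat_lit 28125197))))) (BT.node (nat_lit 11688320) (BT.node (nat_lit 11688000) (BT.node (nat_lit 11687936) (BT.leaf (nat_lit 51711501)) (BT.leaf (nat_lit 32007701))) (BT.node (nat_lit 11688192) (BT.leaf (nat_lit 50302241)) (BT.leaf (nat_lit 45977101)))) (BT.node (nat_lit 11688512) (BT.node (nat_lit 11688448) (BT.leaf (nat_lit 33031701)) (BT.leaf (nat_lit 36330529))) (BT.node (nat_lit 11688576) (BT.leaf (nat_lit 33742625)) (BT.leaf (nat_lit 38961949)))))) (BT.node (nat_lit 11689472) (BT.node (nat_lit 11689152) (BT.node (nat_lit 11688832) (BT.node (nat_lit 11688768) (BT.leaf (nat_lit 33436697)) (BT.leaf (nat_lit 28131865))) (BT.node (nat_lit 11689088) (BT.leaf (nat_lit 28132113)) (BT.leaf (nat_lit 28132897)))) (BT.node (nat_lit 11689220) (BT.node (nat_lit 11689216) (BT.leaf (nat_lit 28133141)) (BT.leaf (nat_lit 28133397))) (BT.node (nat_lit 11689224) (BT.leaf (nat_lit 744892)) (BT.leaf (nat_lit 744892))))) (BT.node (nat_lit 11689664) (BT.node (nat_lit 11689543) (BT.node (nat_lit 11689536) (BT.leaf (nat_lit 28134929)) (BT.leaf (nat_lit 37101589))) (BT.node (nat_lit 11689600) (BT.leaf (nat_lit 801256)) (BT.leaf (nat_lit 28136977)))) (BT.node (nat_lit 11689984) (BT.node (nat_lit 11689920) (BT.leaf (nat_lit 28138769)) (BT.leaf (nat_lit 28140049))) (BT.node (nat_lit 11690048) (BT.leaf (nat_lit 34018065)) (BT.leaf (nat_lit 28141073))))))) (BT.node (nat_lit 11691840) (BT.node (nat_lit 11690880) (BT.node (nat_lit 11690560) (BT.node (nat_lit 11690240) (BT.node (nat_lit 11690176) (BT.leaf (nat_lit 28141077)) (BT.leaf (nat_lit 28141329))) (BT.node (nat_lit 11690304) (BT.leaf (nat_lit 28141573)) (BT.leaf (nat_lit 35419409)))) (BT.node (nat_lit 11690752) (BT.node (nat_lit 11690688) (BT.leaf (nat_lit 33104145)) (BT.leaf (nat_lit 50270993))) (BT.node (nat_lit 11690816) (BT.leaf (nat_lit 47625485)) (BT.leaf (nat_lit 28145437))))) (BT.node (nat_lit 11691520) (BT.node (nat_lit 11691008) (BT.node (nat_lit 11690944) (BT.leaf (nat_lit 33300753)) (BT.leaf (nat_lit 28146197))) (BT.node (nat_lit 11691456) (BT.leaf (nat_lit 28146201)) (BT.leaf (nat_lit 46566933)))) (BT.node (nat_lit 11691648) (BT.node (nat_lit 11691584) (BT.leaf (nat_lit 28151561)) (BT.leaf (nat_lit 28151577))) (BT.node (nat_lit 11691776) (BT.leaf (nat_lit 28151581)) (BT.leaf (nat_lit 33304845)))))) (BT.node (nat_lit 11692800) (BT.node (nat_lit 11692288) (BT.node (nat_lit 11692032) (BT.node (nat_lit 11691904) (BT.leaf (nat_lit 49014545)) (BT.leaf (nat_lit 28153369))) (BT.node (nat_lit 11692096) (BT.leaf (nat_lit 49001493)) (BT.leaf (nat_lit 50581281)))) (BT.node (nat_lit 11692416) (BT.node (nat_lit 11692352) (BT.leaf (nat_lit 28154913)) (BT.leaf (nat_lit 33303569))) (BT.node (nat_lit 11692480) (BT.leaf (nat_lit 32970517)) (BT.leaf (nat_lit 28155409))))) (BT.node (nat_lit 11692999) (BT.node (nat_lit 11692928) (BT.node (nat_lit 11692864) (BT.leaf (nat_lit 28157205)) (BT.leaf (nat_lit 45106693))) (BT.node (nat_lit 11692992) (BT.leaf (nat_lit 50583045)) (BT.leaf (nat_lit 47634197)))) (BT.node (nat_lit 11693120) (BT.node (nat_lit 11693056) (BT.leaf (nat_lit 787968)) (BT.leaf (nat_lit 28158997))) (BT.node (nat_lit 11693184) (BT.leaf (nat_lit 30069013)) (BT.leaf (nat_lit 50892305)))))))))))))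
noncomputable def big0_e110592 : BT Nat := (BT.node (nat_lit 11767104) (BT.node (nat_lit 11730368) (BT.node (nat_lit 11712192) (BT.node (nat_lit 11701824) (BT.node (nat_lit 11698176) (BT.node (nat_lit 11695744) (BT.node (nat_lit 11694656) (BT.node (nat_lit 11694144) (BT.node (nat_lit 11693824) (BT.node (nat_lit 11693632) (BT.node (nat_lit 11693568) (BT.leaf (nat_lit 28161553)) (BT.leaf (nat_lit 45215773))) (BT.node (nat_lit 11693760) (BT.leaf (nat_lit 49958929)) (BT.leaf (nat_lit 46543877)))) (BT.node (nat_lit 11693952) (BT.node (nat_lit 11693888) (BT.leaf (nat_lit 46781449)) (BT.leaf (nat_lit 46780189))) (BT.node (nat_lit 11694080) (BT.leaf (nat_lit 46778653)) (BT.leaf (nat_lit 50792737))))) (BT.node (nat_lit 11694464) (BT.node (nat_lit 11694272) (BT.node (nat_lit 11694208) (BT.leaf (nat_lit 50792481)) (BT.leaf (nat_lit 35553809))) (BT.node (nat_lit 11694336) (BT.leaf (nat_lit 35829769)) (BT.leaf (nat_lit 28165909)))) (BT.node (nat_lit 11694592) (BT.node (nat_lit 11694528) (BT.leaf (nat_lit 51218705)) (BT.leaf (nat_lit 33068317))) (BT.node (nat_lit 11694600) (BT.leaf (nat_lit 35464729)) (BT.leaf (nat_lit 799524)))))) (BT.node (nat_lit 11695040) (BT.node (nat_lit 11694784) (BT.node (nat_lit 11694722) (BT.node (nat_lit 11694720) (BT.leaf (nat_lit 48498961)) (BT.leaf (nat_lit 28166933))) (BT.node (nat_lit 11694728) (BT.leaf (nat_lit 802856)) (BT.leaf (nat_lit 802856)))) (BT.node (nat_lit 11694912) (BT.node (nat_lit 11694848) (BT.leaf (nat_lit 46779421)) (BT.leaf (nat_lit 50702597))) (BT.node (nat_lit 11694976) (BT.leaf (nat_lit 28167189)) (BT.leaf (nat_lit 46778649))))) (BT.node (nat_lit 11695424) (BT.node (nat_lit 11695232) (BT.node (nat_lit 11695104) (BT.leaf (nat_lit 39135249)) (BT.leaf (nat_lit 49169949))) (BT.node (nat_lit 11695360) (BT.leaf (nat_lit 35184409)) (BT.leaf (nat_lit 50850069)))) (BT.node (nat_lit 11695552) (BT.node (nat_lit 11695488) (BT.leaf (nat_lit 33306897)) (BT.leaf (nat_lit 43362065))) (BT.node (nat_lit 11695560) (BT.leaf (nat_lit 36984325)) (BT.leaf (nat_lit 773100))))))) (BT.node (nat_lit 11697152) (BT.node (nat_lit 11696384) (BT.node (nat_lit 11696064) (BT.node (nat_lit 11695936) (BT.node (nat_lit 11695808) (BT.leaf (nat_lit 28169493)) (BT.leaf (nat_lit 33308181))) (BT.node (nat_lit 11696000) (BT.leaf (nat_lit 33309957)) (BT.leaf (nat_lit 46549269)))) (BT.node (nat_lit 11696256) (BT.node (nat_lit 11696128) (BT.leaf (nat_lit 28170261)) (BT.leaf (nat_lit 36843289))) (BT.node (nat_lit 11696320) (BT.leaf (nat_lit 33309717)) (BT.leaf (nat_lit 28172561))))) (BT.node (nat_lit 11696896) (BT.node (nat_lit 11696512) (BT.node (nat_lit 11696448) (BT.leaf (nat_lit 28172821)) (BT.leaf (nat_lit 29882905))) (BT.node (nat_lit 11696704) (BT.leaf (nat_lit 36750085)) (BT.leaf (nat_lit 28177169)))) (BT.node (nat_lit 11697024) (BT.node (nat_lit 11696960) (BT.leaf (nat_lit 36316437)) (BT.leaf (nat_lit 39187465))) (BT.node (nat_lit 11697088) (BT.leaf (nat_lit 28819209)) (BT.leaf (nat_lit 28182293)))))) (BT.node (nat_lit 11697664) (BT.node (nat_lit 11697408) (BT.node (nat_lit 11697280) (BT.node (nat_lit 11697216) (BT.leaf (nat_lit 28183825)) (BT.leaf (nat_lit 31164705))) (BT.node (nat_lit 11697344) (BT.leaf (nat_lit 34626325)) (BT.leaf (nat_lit 28187401)))) (BT.node (nat_lit 11697536) (BT.node (nat_lit 11697472) (BT.leaf (nat_lit 28187405)) (BT.leaf (nat_lit 33315093))) (BT.node (nat_lit 11697600) (BT.leaf (nat_lit 28187417)) (BT.leaf (nat_lit 28187421))))) (BT.node (nat_lit 11697920) (BT.node (nat_lit 11697792) (BT.node (nat_lit 11697728) (BT.leaf (nat_lit 28188177)) (BT.leaf (nat_lit 28188437))) (BT.node (nat_lit 11697856) (BT.leaf (nat_lit 33315345)) (BT.leaf (nat_lit 28189725)))) (BT.node (nat_lit 11698048) (BT.node (nat_lit 11697984) (BT.leaf (nat_lit 28189721)) (BT.leaf (nat_lit 50707461))) (BT.node (nat_lit 11698112) (BT.leaf (nat_lit 28190745)) (BT.leaf (nat_lit 28190749)))))))) (BT.node (nat_lit 11700224) (BT.node (nat_lit 11699200) (BT.node (nat_lit 11698688) (BT.node (nat_lit 11698432) (BT.node (nat_lit 11698304) (BT.node (nat_lit 11698240) (BT.leaf (nat_lit 28191249)) (BT.leaf (nat_lit 28192017))) (BT.node (nat_lit 11698368) (BT.leaf (nat_lit 28193045)) (BT.leaf (nat_lit 28193049)))) (BT.node (nat_lit 11698560) (BT.node (nat_lit 11698496) (BT.leaf (nat_lit 33317141)) (BT.leaf (nat_lit 28193305))) (BT.node (nat_lit 11698624) (BT.leaf (nat_lit 28193309)) (BT.leaf (nat_lit 36749585))))) (BT.node (nat_lit 11698944) (BT.node (nat_lit 11698816) (BT.node (nat_lit 11698752) (BT.leaf (nat_lit 33312273)) (BT.leaf (nat_lit 51199261))) (BT.node (nat_lit 11698880) (BT.leaf (nat_lit 48231433)) (BT.leaf (nat_lit 28196129)))) (BT.node (nat_lit 11699072) (BT.node (nat_lit 11699008) (BT.leaf (nat_lit 52332825)) (BT.leaf (nat_lit 32964633))) (BT.node (nat_lit 11699136) (BT.leaf (nat_lit 33321741)) (BT.leaf (nat_lit 28199185)))))) (BT.node (nat_lit 11699648) (BT.node (nat_lit 11699456) (BT.node (nat_lit 11699328) (BT.node (nat_lit 11699264) (BT.leaf (nat_lit 32233749)) (BT.leaf (nat_lit 50656261))) (BT.node (nat_lit 11699392) (BT.leaf (nat_lit 34995209)) (BT.leaf (nat_lit 34995213)))) (BT.node (nat_lit 11699520) (BT.node (nat_lit 11699458) (BT.leaf (nat_lit 28202769)) (BT.leaf (nat_lit 795336))) (BT.node (nat_lit 11699584) (BT.leaf (nat_lit 34995225)) (BT.leaf (nat_lit 48000777))))) (BT.node (nat_lit 11699904) (BT.node (nat_lit 11699776) (BT.node (nat_lit 11699651) (BT.leaf (nat_lit 28202785)) (BT.leaf (nat_lit 795344))) (BT.node (nat_lit 11699840) (BT.leaf (nat_lit 51548173)) (BT.leaf (nat_lit 28204049)))) (BT.node (nat_lit 11700032) (BT.node (nat_lit 11699968) (BT.leaf (nat_lit 28204569)) (BT.leaf (nat_lit 37077525))) (BT.node (nat_lit 11700096) (BT.leaf (nat_lit 28205085)) (BT.leaf (nat_lit 28205841))))))) (BT.node (nat_lit 11701056) (BT.node (nat_lit 11700677) (BT.node (nat_lit 11700480) (BT.node (nat_lit 11700352) (BT.node (nat_lit 11700288) (BT.leaf (nat_lit 49379105)) (BT.leaf (nat_lit 45474081))) (BT.node (nat_lit 11700416) (BT.leaf (nat_lit 28206613)) (BT.leaf (nat_lit 28207121)))) (BT.node (nat_lit 11700608) (BT.node (nat_lit 11700544) (BT.leaf (nat_lit 28207633)) (BT.leaf (nat_lit 33664277))) (BT.node (nat_lit 11700672) (BT.leaf (nat_lit 52227085)) (BT.leaf (nat_lit 35715601))))) (BT.node (nat_lit 11700868) (BT.node (nat_lit 11700800) (BT.node (nat_lit 11700736) (BT.leaf (nat_lit 790128)) (BT.leaf (nat_lit 30906901))) (BT.node (nat_lit 11700864) (BT.leaf (nat_lit 31122705)) (BT.leaf (nat_lit 47523617)))) (BT.node (nat_lit 11700872) (BT.node (nat_lit 11700869) (BT.leaf (nat_lit 739624)) (BT.leaf (nat_lit 739624))) (BT.node (nat_lit 11700928) (BT.leaf (nat_lit 739624)) (BT.leaf (nat_lit 47523361)))))) (BT.node (nat_lit 11701256) (BT.node (nat_lit 11701248) (BT.node (nat_lit 11701184) (BT.node (nat_lit 11701120) (BT.leaf (nat_lit 28209177)) (BT.leaf (nat_lit 28209181))) (BT.node (nat_lit 11701188) (BT.leaf (nat_lit 41291273)) (BT.leaf (nat_lit 742560)))) (BT.node (nat_lit 11701254) (BT.node (nat_lit 11701253) (BT.leaf (nat_lit 48490509)) (BT.leaf (nat_lit 789012))) (BT.node (nat_lit 11701255) (BT.leaf (nat_lit 789012)) (BT.leaf (nat_lit 789012))))) (BT.node (nat_lit 11701568) (BT.node (nat_lit 11701440) (BT.node (nat_lit 11701312) (BT.leaf (nat_lit 789012)) (BT.leaf (nat_lit 48170517))) (BT.node (nat_lit 11701504) (BT.leaf (nat_lit 48174869)) (BT.leaf (nat_lit 28210193)))) (BT.node (nat_lit 11701696) (BT.node (nat_lit 11701632) (BT.leaf (nat_lit 28211209)) (BT.leaf (nat_lit 28211229))) (BT.node (nat_lit 11701760) (BT.leaf (nat_lit 28211225)) (BT.leaf (nat_lit 48355093))))))))) (BT.node (nat_lit 11706629) (BT.node (nat_lit 11704448) (BT.node (nat_lit 11702848) (BT.node (nat_lit 11702272) (BT.node (nat_lit 11702016) (BT.node (nat_lit 11701888) (BT.node (nat_lit 11701829) (BT.leaf (nat_lit 28213273)) (BT.leaf (nat_lit 806684))) (BT.node (nat_lit 11701952) (BT.leaf (nat_lit 28213521)) (BT.leaf (nat_lit 31369989)))) (BT.node (nat_lit 11702144) (BT.node (nat_lit 11702080) (BT.leaf (nat_lit 36727057)) (BT.leaf (nat_lit 41999389))) (BT.node (nat_lit 11702208) (BT.leaf (nat_lit 28215829)) (BT.leaf (nat_lit 46809101))))) (BT.node (nat_lit 11702528) (BT.node (nat_lit 11702279) (BT.node (nat_lit 11702278) (BT.leaf (nat_lit 41243413)) (BT.leaf (nat_lit 777592))) (BT.node (nat_lit 11702400) (BT.leaf (nat_lit 777592)) (BT.leaf (nat_lit 40946693)))) (BT.node (nat_lit 11702656) (BT.node (nat_lit 11702592) (BT.leaf (nat_lit 40717853)) (BT.leaf (nat_lit 28217097))) (BT.node (nat_lit 11702784) (BT.leaf (nat_lit 28216841)) (BT.leaf (nat_lit 33530641)))))) (BT.node (nat_lit 11703936) (BT.node (nat_lit 11703040) (BT.node (nat_lit 11702912) (BT.node (nat_lit 11702853) (BT.leaf (nat_lit 34078749)) (BT.leaf (nat_lit 787332))) (BT.node (nat_lit 11702976) (BT.leaf (nat_lit 28217873)) (BT.leaf (nat_lit 28218133)))) (BT.node (nat_lit 11703296) (BT.node (nat_lit 11703232) (BT.leaf (nat_lit 28218641)) (BT.leaf (nat_lit 28218905))) (BT.node (nat_lit 11703488) (BT.leaf (nat_lit 28218909)) (BT.leaf (nat_lit 33929493))))) (BT.node (nat_lit 11704192) (BT.node (nat_lit 11704064) (BT.node (nat_lit 11704000) (BT.leaf (nat_lit 28221217)) (BT.leaf (nat_lit 50656801))) (BT.node (nat_lit 11704128) (BT.leaf (nat_lit 47171617)) (BT.leaf (nat_lit 36725257)))) (BT.node (nat_lit 11704320) (BT.node (nat_lit 11704256) (BT.leaf (nat_lit 49961993)) (BT.leaf (nat_lit 42214433))) (BT.node (nat_lit 11704384) (BT.leaf (nat_lit 28232217)) (BT.leaf (nat_lit 28225557))))))) (BT.node (nat_lit 11705728) (BT.node (nat_lit 11705152) (BT.node (nat_lit 11704832) (BT.node (nat_lit 11704640) (BT.node (nat_lit 11704512) (BT.leaf (nat_lit 28226069)) (BT.leaf (nat_lit 28226577))) (BT.node (nat_lit 11704768) (BT.leaf (nat_lit 48710177)) (BT.leaf (nat_lit 31985669)))) (BT.node (nat_lit 11704960) (BT.node (nat_lit 11704896) (BT.leaf (nat_lit 49085717)) (BT.leaf (nat_lit 28231701))) (BT.node (nat_lit 11705024) (BT.leaf (nat_lit 28234245)) (BT.leaf (nat_lit 39258897))))) (BT.node (nat_lit 11705472) (BT.node (nat_lit 11705280) (BT.node (nat_lit 11705216) (BT.leaf (nat_lit 28239649)) (BT.leaf (nat_lit 28239893))) (BT.node (nat_lit 11705344) (BT.leaf (nat_lit 28241945)) (BT.leaf (nat_lit 31040013)))) (BT.node (nat_lit 11705600) (BT.node (nat_lit 11705536) (BT.leaf (nat_lit 49991701)) (BT.leaf (nat_lit 31876385))) (BT.node (nat_lit 11705664) (BT.leaf (nat_lit 28249365)) (BT.leaf (nat_lit 28249621)))))) (BT.node (nat_lit 11706176) (BT.node (nat_lit 11705987) (BT.node (nat_lit 11705984) (BT.node (nat_lit 11705792) (BT.leaf (nat_lit 28250641)) (BT.leaf (nat_lit 51567877))) (BT.node (nat_lit 11705986) (BT.leaf (nat_lit 28250901)) (BT.leaf (nat_lit 773644)))) (BT.node (nat_lit 11706048) (BT.node (nat_lit 11705990) (BT.leaf (nat_lit 773644)) (BT.leaf (nat_lit 773644))) (BT.node (nat_lit 11706112) (BT.leaf (nat_lit 32622873)) (BT.leaf (nat_lit 32622877))))) (BT.node (nat_lit 11706560) (BT.node (nat_lit 11706306) (BT.node (nat_lit 11706304) (BT.leaf (nat_lit 50843169)) (BT.leaf (nat_lit 50843937))) (BT.node (nat_lit 11706496) (BT.leaf (nat_lit 773620)) (BT.leaf (nat_lit 28252949)))) (BT.node (nat_lit 11706626) (BT.node (nat_lit 11706624) (BT.leaf (nat_lit 32028193)) (BT.leaf (nat_lit 32837141))) (BT.node (nat_lit 11706627) (BT.leaf (nat_lit 771036)) (BT.leaf (nat_lit 771036)))))))) (BT.node (nat_lit 11709574) (BT.node (nat_lit 11708224) (BT.node (nat_lit 11707456) (BT.node (nat_lit 11707200) (BT.node (nat_lit 11706880) (BT.node (nat_lit 11706688) (BT.leaf (nat_lit 771036)) (BT.leaf (nat_lit 28254741))) (BT.node (nat_lit 11707072) (BT.leaf (nat_lit 28256277)) (BT.leaf (nat_lit 47494661)))) (BT.node (nat_lit 11707328) (BT.node (nat_lit 11707264) (BT.leaf (nat_lit 33645829)) (BT.leaf (nat_lit 28258833))) (BT.node (nat_lit 11707392) (BT.leaf (nat_lit 46484485)) (BT.leaf (nat_lit 28260633))))) (BT.node (nat_lit 11707968) (BT.node (nat_lit 11707648) (BT.node (nat_lit 11707520) (BT.leaf (nat_lit 39513633)) (BT.leaf (nat_lit 28261145))) (BT.node (nat_lit 11707904) (BT.leaf (nat_lit 28261393)) (BT.leaf (nat_lit 50262041)))) (BT.node (nat_lit 11708096) (BT.node (nat_lit 11708032) (BT.leaf (nat_lit 28263697)) (BT.leaf (nat_lit 41029405))) (BT.node (nat_lit 11708160) (BT.leaf (nat_lit 28263961)) (BT.leaf (nat_lit 47278869)))))) (BT.node (nat_lit 11708736) (BT.node (nat_lit 11708480) (BT.node (nat_lit 11708352) (BT.node (nat_lit 11708288) (BT.leaf (nat_lit 29142297)) (BT.leaf (nat_lit 28265753))) (BT.node (nat_lit 11708416) (BT.leaf (nat_lit 31736325)) (BT.leaf (nat_lit 28266777)))) (BT.node (nat_lit 11708608) (BT.node (nat_lit 11708544) (BT.leaf (nat_lit 28266781)) (BT.leaf (nat_lit 33346833))) (BT.node (nat_lit 11708672) (BT.leaf (nat_lit 36121625)) (BT.leaf (nat_lit 36121629))))) (BT.node (nat_lit 11708992) (BT.node (nat_lit 11708864) (BT.node (nat_lit 11708800) (BT.leaf (nat_lit 49003285)) (BT.leaf (nat_lit 44381985))) (BT.node (nat_lit 11708928) (BT.leaf (nat_lit 28272913)) (BT.leaf (nat_lit 48827937)))) (BT.node (nat_lit 11709504) (BT.node (nat_lit 11709312) (BT.leaf (nat_lit 35197957)) (BT.leaf (nat_lit 28278033))) (BT.node (nat_lit 11709568) (BT.leaf (nat_lit 28279829)) (BT.leaf (nat_lit 28280593))))))) (BT.node (nat_lit 11710976) (BT.node (nat_lit 11710145) (BT.node (nat_lit 11709952) (BT.node (nat_lit 11709696) (BT.node (nat_lit 11709632) (BT.leaf (nat_lit 792272)) (BT.leaf (nat_lit 28280341))) (BT.node (nat_lit 11709888) (BT.leaf (nat_lit 35663129)) (BT.leaf (nat_lit 47388681)))) (BT.node (nat_lit 11710080) (BT.node (nat_lit 11710016) (BT.leaf (nat_lit 35617561)) (BT.leaf (nat_lit 35617565))) (BT.node (nat_lit 11710144) (BT.leaf (nat_lit 35627025)) (BT.leaf (nat_lit 28282901))))) (BT.node (nat_lit 11710656) (BT.node (nat_lit 11710528) (BT.node (nat_lit 11710400) (BT.leaf (nat_lit 750424)) (BT.leaf (nat_lit 29327893))) (BT.node (nat_lit 11710592) (BT.leaf (nat_lit 37135137)) (BT.leaf (nat_lit 52182049)))) (BT.node (nat_lit 11710848) (BT.node (nat_lit 11710720) (BT.leaf (nat_lit 37134625)) (BT.leaf (nat_lit 37134621))) (BT.node (nat_lit 11710912) (BT.leaf (nat_lit 51697925)) (BT.leaf (nat_lit 28284181)))))) (BT.node (nat_lit 11711488) (BT.node (nat_lit 11711232) (BT.node (nat_lit 11711104) (BT.node (nat_lit 11711040) (BT.leaf (nat_lit 44946209)) (BT.leaf (nat_lit 28285445))) (BT.node (nat_lit 11711168) (BT.leaf (nat_lit 28286989)) (BT.leaf (nat_lit 30783765)))) (BT.node (nat_lit 11711360) (BT.node (nat_lit 11711296) (BT.leaf (nat_lit 31608597)) (BT.leaf (nat_lit 31498517))) (BT.node (nat_lit 11711424) (BT.leaf (nat_lit 35940889)) (BT.leaf (nat_lit 49146901))))) (BT.node (nat_lit 11711872) (BT.node (nat_lit 11711616) (BT.node (nat_lit 11711552) (BT.leaf (nat_lit 46754053)) (BT.leaf (nat_lit 51561505))) (BT.node (nat_lit 11711680) (BT.leaf (nat_lit 47427873)) (BT.leaf (nat_lit 48560145)))) (BT.node (nat_lit 11712000) (BT.node (nat_lit 11711936) (BT.leaf (nat_lit 28293409)) (BT.leaf (nat_lit 28293653))) (BT.node (nat_lit 11712064) (BT.leaf (nat_lit 28294161)) (BT.leaf (nat_lit 29694241)))))))))) (BT.node (nat_lit 11721536) (BT.node (nat_lit 11716608) (BT.node (nat_lit 11714304) (BT.node (nat_lit 11713216) (BT.node (nat_lit 11712704) (BT.node (nat_lit 11712512) (BT.node (nat_lit 11712320) (BT.node (nat_lit 11712256) (BT.leaf (nat_lit 47457285)) (BT.leaf (nat_lit 28301329))) (BT.node (nat_lit 11712384) (BT.leaf (nat_lit 28301585)) (BT.leaf (nat_lit 48578309)))) (BT.node (nat_lit 11712580) (BT.node (nat_lit 11712576) (BT.leaf (nat_lit 29577749)) (BT.leaf (nat_lit 28304405))) (BT.node (nat_lit 11712640) (BT.leaf (nat_lit 737836)) (BT.leaf (nat_lit 29705245))))) (BT.node (nat_lit 11712960) (BT.node (nat_lit 11712832) (BT.node (nat_lit 11712768) (BT.leaf (nat_lit 51476753)) (BT.leaf (nat_lit 28306193))) (BT.node (nat_lit 11712896) (BT.leaf (nat_lit 28307973)) (BT.leaf (nat_lit 46835217)))) (BT.node (nat_lit 11713088) (BT.node (nat_lit 11713024) (BT.leaf (nat_lit 28308497)) (BT.leaf (nat_lit 28309529))) (BT.node (nat_lit 11713152) (BT.leaf (nat_lit 28309533)) (BT.leaf (nat_lit 33261073)))))) (BT.node (nat_lit 11713728) (BT.node (nat_lit 11713472) (BT.node (nat_lit 11713344) (BT.node (nat_lit 11713280) (BT.leaf (nat_lit 31763733)) (BT.leaf (nat_lit 50488581))) (BT.node (nat_lit 11713408) (BT.leaf (nat_lit 51503905)) (BT.leaf (nat_lit 50543373)))) (BT.node (nat_lit 11713600) (BT.node (nat_lit 11713536) (BT.leaf (nat_lit 28311069)) (BT.leaf (nat_lit 28311573))) (BT.node (nat_lit 11713664) (BT.leaf (nat_lit 28311833)) (BT.leaf (nat_lit 28311837))))) (BT.node (nat_lit 11714048) (BT.node (nat_lit 11713856) (BT.node (nat_lit 11713792) (BT.leaf (nat_lit 28312085)) (BT.leaf (nat_lit 28314133))) (BT.node (nat_lit 11713920) (BT.leaf (nat_lit 34914057)) (BT.leaf (nat_lit 34931477)))) (BT.node (nat_lit 11714114) (BT.node (nat_lit 11714112) (BT.leaf (nat_lit 28315157)) (BT.leaf (nat_lit 34708769))) (BT.node (nat_lit 11714240) (BT.leaf (nat_lit 801552)) (BT.leaf (nat_lit 47263777))))))) (BT.node (nat_lit 11715456) (BT.node (nat_lit 11714880) (BT.node (nat_lit 11714560) (BT.node (nat_lit 11714432) (BT.node (nat_lit 11714368) (BT.leaf (nat_lit 28317969)) (BT.leaf (nat_lit 50634525))) (BT.node (nat_lit 11714496) (BT.leaf (nat_lit 48629521)) (BT.leaf (nat_lit 30294049)))) (BT.node (nat_lit 11714688) (BT.node (nat_lit 11714624) (BT.leaf (nat_lit 28320017)) (BT.leaf (nat_lit 28321805))) (BT.node (nat_lit 11714816) (BT.leaf (nat_lit 28322061)) (BT.leaf (nat_lit 50594337))))) (BT.node (nat_lit 11715200) (BT.node (nat_lit 11715072) (BT.node (nat_lit 11714944) (BT.leaf (nat_lit 36103693)) (BT.leaf (nat_lit 28325909))) (BT.node (nat_lit 11715136) (BT.leaf (nat_lit 34743841)) (BT.leaf (nat_lit 34644249)))) (BT.node (nat_lit 11715328) (BT.node (nat_lit 11715264) (BT.leaf (nat_lit 31209757)) (BT.leaf (nat_lit 33509649))) (BT.node (nat_lit 11715392) (BT.leaf (nat_lit 33366801)) (BT.leaf (nat_lit 35507729)))))) (BT.node (nat_lit 11715968) (BT.node (nat_lit 11715776) (BT.node (nat_lit 11715584) (BT.node (nat_lit 11715520) (BT.leaf (nat_lit 28327193)) (BT.leaf (nat_lit 28327445))) (BT.node (nat_lit 11715648) (BT.leaf (nat_lit 28327697)) (BT.leaf (nat_lit 33499409)))) (BT.node (nat_lit 11715847) (BT.node (nat_lit 11715840) (BT.leaf (nat_lit 51168529)) (BT.leaf (nat_lit 33322265))) (BT.node (nat_lit 11715848) (BT.leaf (nat_lit 780464)) (BT.leaf (nat_lit 780464))))) (BT.node (nat_lit 11716288) (BT.node (nat_lit 11716096) (BT.node (nat_lit 11716032) (BT.leaf (nat_lit 28328981)) (BT.leaf (nat_lit 33307141))) (BT.node (nat_lit 11716224) (BT.leaf (nat_lit 46864153)) (BT.leaf (nat_lit 33076245)))) (BT.node (nat_lit 11716480) (BT.node (nat_lit 11716352) (BT.leaf (nat_lit 28329761)) (BT.leaf (nat_lit 28330001))) (BT.node (nat_lit 11716544) (BT.leaf (nat_lit 46864905)) (BT.leaf (nat_lit 51864081)))))))) (BT.node (nat_lit 11719168) (BT.node (nat_lit 11717888) (BT.node (nat_lit 11717376) (BT.node (nat_lit 11717120) (BT.node (nat_lit 11716800) (BT.node (nat_lit 11716672) (BT.leaf (nat_lit 46866201)) (BT.leaf (nat_lit 28330529))) (BT.node (nat_lit 11716992) (BT.leaf (nat_lit 28330785)) (BT.leaf (nat_lit 49945121)))) (BT.node (nat_lit 11717248) (BT.node (nat_lit 11717184) (BT.leaf (nat_lit 47995669)) (BT.leaf (nat_lit 38439433))) (BT.node (nat_lit 11717312) (BT.leaf (nat_lit 36983573)) (BT.leaf (nat_lit 34083361))))) (BT.node (nat_lit 11717632) (BT.node (nat_lit 11717504) (BT.node (nat_lit 11717440) (BT.leaf (nat_lit 29015577)) (BT.leaf (nat_lit 29015581))) (BT.node (nat_lit 11717568) (BT.leaf (nat_lit 28335621)) (BT.leaf (nat_lit 28335625)))) (BT.node (nat_lit 11717760) (BT.node (nat_lit 11717696) (BT.leaf (nat_lit 28335629)) (BT.leaf (nat_lit 48146705))) (BT.node (nat_lit 11717824) (BT.leaf (nat_lit 46870809)) (BT.leaf (nat_lit 48073989)))))) (BT.node (nat_lit 11718528) (BT.node (nat_lit 11718208) (BT.node (nat_lit 11718016) (BT.node (nat_lit 11717952) (BT.leaf (nat_lit 28335889)) (BT.leaf (nat_lit 47947297))) (BT.node (nat_lit 11718144) (BT.leaf (nat_lit 51554325)) (BT.leaf (nat_lit 28337953)))) (BT.node (nat_lit 11718336) (BT.node (nat_lit 11718272) (BT.leaf (nat_lit 28338453)) (BT.leaf (nat_lit 48833313))) (BT.node (nat_lit 11718400) (BT.leaf (nat_lit 28339989)) (BT.leaf (nat_lit 46637845))))) (BT.node (nat_lit 11718912) (BT.node (nat_lit 11718656) (BT.node (nat_lit 11718592) (BT.leaf (nat_lit 49203217)) (BT.leaf (nat_lit 41380897))) (BT.node (nat_lit 11718848) (BT.leaf (nat_lit 39187717)) (BT.leaf (nat_lit 28345353)))) (BT.node (nat_lit 11719040) (BT.node (nat_lit 11718976) (BT.leaf (nat_lit 28346393)) (BT.leaf (nat_lit 28346397))) (BT.node (nat_lit 11719104) (BT.leaf (nat_lit 28347165)) (BT.leaf (nat_lit 35570717))))))) (BT.node (nat_lit 11720320) (BT.node (nat_lit 11719744) (BT.node (nat_lit 11719488) (BT.node (nat_lit 11719296) (BT.node (nat_lit 11719232) (BT.leaf (nat_lit 47471109)) (BT.leaf (nat_lit 28347929))) (BT.node (nat_lit 11719360) (BT.leaf (nat_lit 28347933)) (BT.leaf (nat_lit 35575317)))) (BT.node (nat_lit 11719616) (BT.node (nat_lit 11719552) (BT.leaf (nat_lit 42658073)) (BT.leaf (nat_lit 37196297))) (BT.node (nat_lit 11719680) (BT.leaf (nat_lit 47129093)) (BT.leaf (nat_lit 50062361))))) (BT.node (nat_lit 11720064) (BT.node (nat_lit 11719872) (BT.node (nat_lit 11719808) (BT.leaf (nat_lit 47866145)) (BT.leaf (nat_lit 30552853))) (BT.node (nat_lit 11720000) (BT.leaf (nat_lit 50911501)) (BT.leaf (nat_lit 46642709)))) (BT.node (nat_lit 11720192) (BT.node (nat_lit 11720128) (BT.leaf (nat_lit 28353301)) (BT.leaf (nat_lit 46509345))) (BT.node (nat_lit 11720256) (BT.leaf (nat_lit 28353825)) (BT.leaf (nat_lit 29470745)))))) (BT.node (nat_lit 11720960) (BT.node (nat_lit 11720576) (BT.node (nat_lit 11720448) (BT.node (nat_lit 11720384) (BT.leaf (nat_lit 28355857)) (BT.leaf (nat_lit 28356113))) (BT.node (nat_lit 11720512) (BT.leaf (nat_lit 35256597)) (BT.leaf (nat_lit 48449309)))) (BT.node (nat_lit 11720708) (BT.node (nat_lit 11720704) (BT.leaf (nat_lit 28356885)) (BT.leaf (nat_lit 28357149))) (BT.node (nat_lit 11720709) (BT.leaf (nat_lit 802492)) (BT.leaf (nat_lit 802492))))) (BT.node (nat_lit 11721216) (BT.node (nat_lit 11721092) (BT.node (nat_lit 11721088) (BT.leaf (nat_lit 33666841)) (BT.leaf (nat_lit 28358421))) (BT.node (nat_lit 11721152) (BT.leaf (nat_lit 801752)) (BT.leaf (nat_lit 28358929)))) (BT.node (nat_lit 11721408) (BT.node (nat_lit 11721217) (BT.leaf (nat_lit 28358933)) (BT.leaf (nat_lit 787420))) (BT.node (nat_lit 11721472) (BT.leaf (nat_lit 33387273)) (BT.leaf (nat_lit 46514977))))))))) (BT.node (nat_lit 11725952) (BT.node (nat_lit 11723776) (BT.node (nat_lit 11722624) (BT.node (nat_lit 11722048) (BT.node (nat_lit 11721728) (BT.node (nat_lit 11721601) (BT.node (nat_lit 11721600) (BT.leaf (nat_lit 28360201)) (BT.leaf (nat_lit 52214549))) (BT.node (nat_lit 11721664) (BT.leaf (nat_lit 783572)) (BT.leaf (nat_lit 35893529)))) (BT.node (nat_lit 11721856) (BT.node (nat_lit 11721792) (BT.leaf (nat_lit 34300957)) (BT.leaf (nat_lit 43970565))) (BT.node (nat_lit 11721920) (BT.leaf (nat_lit 40495645)) (BT.leaf (nat_lit 35433757))))) (BT.node (nat_lit 11722304) (BT.node (nat_lit 11722176) (BT.node (nat_lit 11722112) (BT.leaf (nat_lit 28363553)) (BT.leaf (nat_lit 33270297))) (BT.node (nat_lit 11722240) (BT.leaf (nat_lit 28364309)) (BT.leaf (nat_lit 47146773)))) (BT.node (nat_lit 11722496) (BT.node (nat_lit 11722432) (BT.leaf (nat_lit 28366357)) (BT.leaf (nat_lit 28367649))) (BT.node (nat_lit 11722560) (BT.leaf (nat_lit 33274901)) (BT.leaf (nat_lit 32358433)))))) (BT.node (nat_lit 11723200) (BT.node (nat_lit 11722880) (BT.node (nat_lit 11722752) (BT.node (nat_lit 11722688) (BT.leaf (nat_lit 35154705)) (BT.leaf (nat_lit 46527253))) (BT.node (nat_lit 11722816) (BT.leaf (nat_lit 28374029)) (BT.leaf (nat_lit 28374025)))) (BT.node (nat_lit 11723072) (BT.node (nat_lit 11722944) (BT.leaf (nat_lit 28378905)) (BT.leaf (nat_lit 28378909))) (BT.node (nat_lit 11723136) (BT.leaf (nat_lit 28379933)) (BT.leaf (nat_lit 28382233))))) (BT.node (nat_lit 11723520) (BT.node (nat_lit 11723328) (BT.node (nat_lit 11723264) (BT.leaf (nat_lit 28382237)) (BT.leaf (nat_lit 28382485))) (BT.node (nat_lit 11723456) (BT.leaf (nat_lit 46892821)) (BT.leaf (nat_lit 33237765)))) (BT.node (nat_lit 11723648) (BT.node (nat_lit 11723584) (BT.leaf (nat_lit 28383253)) (BT.leaf (nat_lit 38808353))) (BT.node (nat_lit 11723712) (BT.leaf (nat_lit 28384789)) (BT.leaf (nat_lit 28385553))))))) (BT.node (nat_lit 11724800) (BT.node (nat_lit 11724288) (BT.node (nat_lit 11724032) (BT.node (nat_lit 11723904) (BT.node (nat_lit 11723840) (BT.leaf (nat_lit 28388381)) (BT.leaf (nat_lit 50652689))) (BT.node (nat_lit 11723968) (BT.leaf (nat_lit 33395985)) (BT.leaf (nat_lit 28392473)))) (BT.node (nat_lit 11724160) (BT.node (nat_lit 11724096) (BT.leaf (nat_lit 28392477)) (BT.leaf (nat_lit 44293381))) (BT.node (nat_lit 11724224) (BT.leaf (nat_lit 31899665)) (BT.leaf (nat_lit 48778501))))) (BT.node (nat_lit 11724544) (BT.node (nat_lit 11724416) (BT.node (nat_lit 11724352) (BT.leaf (nat_lit 28393245)) (BT.leaf (nat_lit 38260001))) (BT.node (nat_lit 11724480) (BT.leaf (nat_lit 33901857)) (BT.leaf (nat_lit 28394773)))) (BT.node (nat_lit 11724672) (BT.node (nat_lit 11724608) (BT.leaf (nat_lit 46353169)) (BT.leaf (nat_lit 46353173))) (BT.node (nat_lit 11724736) (BT.leaf (nat_lit 28395537)) (BT.leaf (nat_lit 28396309)))))) (BT.node (nat_lit 11725312) (BT.node (nat_lit 11725184) (BT.node (nat_lit 11724992) (BT.node (nat_lit 11724928) (BT.leaf (nat_lit 33397781)) (BT.leaf (nat_lit 40786949))) (BT.node (nat_lit 11725120) (BT.leaf (nat_lit 33620997)) (BT.leaf (nat_lit 34814725)))) (BT.node (nat_lit 11725248) (BT.node (nat_lit 11725188) (BT.leaf (nat_lit 50556705)) (BT.leaf (nat_lit 786672))) (BT.node (nat_lit 11725252) (BT.leaf (nat_lit 28400925)) (BT.leaf (nat_lit 751712))))) (BT.node (nat_lit 11725632) (BT.node (nat_lit 11725504) (BT.node (nat_lit 11725376) (BT.leaf (nat_lit 33720605)) (BT.leaf (nat_lit 33720333))) (BT.node (nat_lit 11725568) (BT.leaf (nat_lit 37966369)) (BT.leaf (nat_lit 29284109)))) (BT.node (nat_lit 11725760) (BT.node (nat_lit 11725696) (BT.leaf (nat_lit 29712141)) (BT.leaf (nat_lit 28409629))) (BT.node (nat_lit 11725888) (BT.leaf (nat_lit 48007441)) (BT.leaf (nat_lit 28411153)))))))) (BT.node (nat_lit 11728064) (BT.node (nat_lit 11727040) (BT.node (nat_lit 11726464) (BT.node (nat_lit 11726208) (BT.node (nat_lit 11726080) (BT.node (nat_lit 11726016) (BT.leaf (nat_lit 33825817)) (BT.leaf (nat_lit 28412689))) (BT.node (nat_lit 11726144) (BT.leaf (nat_lit 48475653)) (BT.leaf (nat_lit 33747993)))) (BT.node (nat_lit 11726336) (BT.node (nat_lit 11726272) (BT.leaf (nat_lit 28709137)) (BT.leaf (nat_lit 46905373))) (BT.node (nat_lit 11726400) (BT.leaf (nat_lit 33747981)) (BT.leaf (nat_lit 28416785))))) (BT.node (nat_lit 11726720) (BT.node (nat_lit 11726592) (BT.node (nat_lit 11726528) (BT.leaf (nat_lit 41073941)) (BT.leaf (nat_lit 38929429))) (BT.node (nat_lit 11726656) (BT.leaf (nat_lit 28975621)) (BT.leaf (nat_lit 28418585)))) (BT.node (nat_lit 11726912) (BT.node (nat_lit 11726784) (BT.leaf (nat_lit 28419349)) (BT.leaf (nat_lit 30709021))) (BT.node (nat_lit 11726976) (BT.leaf (nat_lit 28421657)) (BT.leaf (nat_lit 28421661)))))) (BT.node (nat_lit 11727552) (BT.node (nat_lit 11727296) (BT.node (nat_lit 11727168) (BT.node (nat_lit 11727104) (BT.leaf (nat_lit 44468513)) (BT.leaf (nat_lit 28422173))) (BT.node (nat_lit 11727232) (BT.leaf (nat_lit 28422409)) (BT.leaf (nat_lit 28422413)))) (BT.node (nat_lit 11727424) (BT.node (nat_lit 11727360) (BT.leaf (nat_lit 42923037)) (BT.leaf (nat_lit 28422425))) (BT.node (nat_lit 11727488) (BT.leaf (nat_lit 28422429)) (BT.leaf (nat_lit 28422433))))) (BT.node (nat_lit 11727808) (BT.node (nat_lit 11727680) (BT.node (nat_lit 11727616) (BT.leaf (nat_lit 47038989)) (BT.leaf (nat_lit 32288021))) (BT.node (nat_lit 11727744) (BT.leaf (nat_lit 28424981)) (BT.leaf (nat_lit 28424985)))) (BT.node (nat_lit 11727936) (BT.node (nat_lit 11727872) (BT.leaf (nat_lit 33735705)) (BT.leaf (nat_lit 39943709))) (BT.node (nat_lit 11728000) (BT.leaf (nat_lit 48399649)) (BT.leaf (nat_lit 49036053))))))) (BT.node (nat_lit 11729152) (BT.node (nat_lit 11728640) (BT.node (nat_lit 11728384) (BT.node (nat_lit 11728256) (BT.node (nat_lit 11728192) (BT.leaf (nat_lit 46912025)) (BT.leaf (nat_lit 46001429))) (BT.node (nat_lit 11728320) (BT.leaf (nat_lit 40013081)) (BT.leaf (nat_lit 41029401)))) (BT.node (nat_lit 11728512) (BT.node (nat_lit 11728448) (BT.leaf (nat_lit 28707613)) (BT.leaf (nat_lit 28690701))) (BT.node (nat_lit 11728576) (BT.leaf (nat_lit 28429845)) (BT.leaf (nat_lit 33410325))))) (BT.node (nat_lit 11728896) (BT.node (nat_lit 11728768) (BT.node (nat_lit 11728704) (BT.leaf (nat_lit 28431645)) (BT.leaf (nat_lit 28431897))) (BT.node (nat_lit 11728832) (BT.leaf (nat_lit 28431901)) (BT.leaf (nat_lit 28433425)))) (BT.node (nat_lit 11729024) (BT.node (nat_lit 11728960) (BT.leaf (nat_lit 37154849)) (BT.leaf (nat_lit 50852881))) (BT.node (nat_lit 11729088) (BT.leaf (nat_lit 50111505)) (BT.leaf (nat_lit 33411861)))))) (BT.node (nat_lit 11729792) (BT.node (nat_lit 11729536) (BT.node (nat_lit 11729344) (BT.node (nat_lit 11729280) (BT.leaf (nat_lit 35953169)) (BT.leaf (nat_lit 28436505))) (BT.node (nat_lit 11729408) (BT.leaf (nat_lit 28438293)) (BT.leaf (nat_lit 50191885)))) (BT.node (nat_lit 11729664) (BT.node (nat_lit 11729600) (BT.leaf (nat_lit 50059789)) (BT.leaf (nat_lit 47322901))) (BT.node (nat_lit 11729728) (BT.leaf (nat_lit 49529105)) (BT.leaf (nat_lit 40342033))))) (BT.node (nat_lit 11730048) (BT.node (nat_lit 11729920) (BT.node (nat_lit 11729856) (BT.leaf (nat_lit 34484513)) (BT.leaf (nat_lit 35057157))) (BT.node (nat_lit 11729984) (BT.leaf (nat_lit 42206213)) (BT.leaf (nat_lit 42206469)))) (BT.node (nat_lit 11730176) (BT.node (nat_lit 11730112) (BT.leaf (nat_lit 42206753)) (BT.leaf (nat_lit 28440857))) (BT.node (nat_lit 11730240) (BT.leaf (nat_lit 28440861)) (BT.leaf (nat_lit 28441105))))))))))) (BT.node (nat_lit 11748928) (BT.node (nat_lit 11739200) (BT.node (nat_lit 11734784) (BT.node (nat_lit 11732800) (BT.node (nat_lit 11731456) (BT.node (nat_lit 11730944) (BT.node (nat_lit 11730624) (BT.node (nat_lit 11730496) (BT.node (nat_lit 11730432) (BT.leaf (nat_lit 38213397)) (BT.leaf (nat_lit 37071365))) (BT.node (nat_lit 11730560) (BT.leaf (nat_lit 28444437)) (BT.leaf (nat_lit 28445461)))) (BT.node (nat_lit 11730816) (BT.node (nat_lit 11730688) (BT.leaf (nat_lit 28445721)) (BT.leaf (nat_lit 28446233))) (BT.node (nat_lit 11730880) (BT.leaf (nat_lit 28446481)) (BT.leaf (nat_lit 52260377))))) (BT.node (nat_lit 11731200) (BT.node (nat_lit 11731072) (BT.node (nat_lit 11731008) (BT.leaf (nat_lit 28449545)) (BT.leaf (nat_lit 28449549))) (BT.node (nat_lit 11731136) (BT.leaf (nat_lit 28449041)) (BT.leaf (nat_lit 28449297)))) (BT.node (nat_lit 11731328) (BT.node (nat_lit 11731264) (BT.leaf (nat_lit 46451733)) (BT.leaf (nat_lit 46952977))) (BT.node (nat_lit 11731392) (BT.leaf (nat_lit 35054609)) (BT.leaf (nat_lit 28451097)))))) (BT.node (nat_lit 11731968) (BT.node (nat_lit 11731712) (BT.node (nat_lit 11731584) (BT.node (nat_lit 11731520) (BT.leaf (nat_lit 38395669)) (BT.leaf (nat_lit 38395673))) (BT.node (nat_lit 11731648) (BT.leaf (nat_lit 38395677)) (BT.leaf (nat_lit 28453137)))) (BT.node (nat_lit 11731840) (BT.node (nat_lit 11731776) (BT.leaf (nat_lit 28452889)) (BT.leaf (nat_lit 28452893))) (BT.node (nat_lit 11731904) (BT.leaf (nat_lit 28455701)) (BT.leaf (nat_lit 40451857))))) (BT.node (nat_lit 11732224) (BT.node (nat_lit 11732096) (BT.node (nat_lit 11732032) (BT.leaf (nat_lit 28455949)) (BT.leaf (nat_lit 28455961))) (BT.node (nat_lit 11732160) (BT.leaf (nat_lit 40459281)) (BT.leaf (nat_lit 28456981)))) (BT.node (nat_lit 11732416) (BT.node (nat_lit 11732352) (BT.leaf (nat_lit 28457493)) (BT.leaf (nat_lit 48682785))) (BT.node (nat_lit 11732480) (BT.leaf (nat_lit 28459797)) (BT.leaf (nat_lit 29199113))))))) (BT.node (nat_lit 11733824) (BT.node (nat_lit 11733248) (BT.node (nat_lit 11732992) (BT.node (nat_lit 11732864) (BT.node (nat_lit 11732805) (BT.leaf (nat_lit 37301777)) (BT.leaf (nat_lit 816936))) (BT.node (nat_lit 11732928) (BT.leaf (nat_lit 51586057)) (BT.leaf (nat_lit 51586325)))) (BT.node (nat_lit 11733120) (BT.node (nat_lit 11733056) (BT.leaf (nat_lit 36212501)) (BT.leaf (nat_lit 32240405))) (BT.node (nat_lit 11733184) (BT.leaf (nat_lit 47452181)) (BT.leaf (nat_lit 28465177))))) (BT.node (nat_lit 11733504) (BT.node (nat_lit 11733376) (BT.node (nat_lit 11733312) (BT.leaf (nat_lit 28465181)) (BT.leaf (nat_lit 28465433))) (BT.node (nat_lit 11733440) (BT.leaf (nat_lit 28465437)) (BT.leaf (nat_lit 31594009)))) (BT.node (nat_lit 11733632) (BT.node (nat_lit 11733568) (BT.leaf (nat_lit 28465685)) (BT.leaf (nat_lit 28467473))) (BT.node (nat_lit 11733696) (BT.leaf (nat_lit 28468497)) (BT.leaf (nat_lit 52014097)))))) (BT.node (nat_lit 11734272) (BT.node (nat_lit 11734080) (BT.node (nat_lit 11733952) (BT.node (nat_lit 11733888) (BT.leaf (nat_lit 40592145)) (BT.leaf (nat_lit 49991457))) (BT.node (nat_lit 11734016) (BT.leaf (nat_lit 50813729)) (BT.leaf (nat_lit 31876365)))) (BT.node (nat_lit 11734149) (BT.node (nat_lit 11734144) (BT.leaf (nat_lit 30146581)) (BT.leaf (nat_lit 31514913))) (BT.node (nat_lit 11734208) (BT.leaf (nat_lit 761828)) (BT.leaf (nat_lit 48660229))))) (BT.node (nat_lit 11734592) (BT.node (nat_lit 11734400) (BT.node (nat_lit 11734336) (BT.leaf (nat_lit 32362257)) (BT.leaf (nat_lit 28476193))) (BT.node (nat_lit 11734464) (BT.leaf (nat_lit 28476437)) (BT.leaf (nat_lit 28476693)))) (BT.node (nat_lit 11734656) (BT.node (nat_lit 11734600) (BT.leaf (nat_lit 28919317)) (BT.leaf (nat_lit 794756))) (BT.node (nat_lit 11734720) (BT.leaf (nat_lit 28476945)) (BT.leaf (nat_lit 38407433)))))))) (BT.node (nat_lit 11737024) (BT.node (nat_lit 11735744) (BT.node (nat_lit 11735296) (BT.node (nat_lit 11734976) (BT.node (nat_lit 11734848) (BT.node (nat_lit 11734792) (BT.leaf (nat_lit 35199513)) (BT.leaf (nat_lit 762528))) (BT.node (nat_lit 11734912) (BT.leaf (nat_lit 51021089)) (BT.leaf (nat_lit 28477457)))) (BT.node (nat_lit 11735168) (BT.node (nat_lit 11735040) (BT.leaf (nat_lit 28478241)) (BT.leaf (nat_lit 28478485))) (BT.node (nat_lit 11735232) (BT.leaf (nat_lit 28480785)) (BT.leaf (nat_lit 36712725))))) (BT.node (nat_lit 11735552) (BT.node (nat_lit 11735424) (BT.node (nat_lit 11735360) (BT.leaf (nat_lit 51576849)) (BT.leaf (nat_lit 50664737))) (BT.node (nat_lit 11735488) (BT.leaf (nat_lit 28483601)) (BT.leaf (nat_lit 30412313)))) (BT.node (nat_lit 11735616) (BT.node (nat_lit 11735557) (BT.leaf (nat_lit 48733193)) (BT.leaf (nat_lit 761460))) (BT.node (nat_lit 11735680) (BT.leaf (nat_lit 28484873)) (BT.leaf (nat_lit 28484877)))))) (BT.node (nat_lit 11736384) (BT.node (nat_lit 11736000) (BT.node (nat_lit 11735872) (BT.node (nat_lit 11735808) (BT.leaf (nat_lit 28484889)) (BT.leaf (nat_lit 28484893))) (BT.node (nat_lit 11735936) (BT.leaf (nat_lit 49048837)) (BT.leaf (nat_lit 47142149)))) (BT.node (nat_lit 11736192) (BT.node (nat_lit 11736064) (BT.leaf (nat_lit 47538437)) (BT.leaf (nat_lit 29552921))) (BT.node (nat_lit 11736320) (BT.leaf (nat_lit 28871709)) (BT.leaf (nat_lit 28488217))))) (BT.node (nat_lit 11736704) (BT.node (nat_lit 11736512) (BT.node (nat_lit 11736448) (BT.leaf (nat_lit 28488721)) (BT.leaf (nat_lit 49157125))) (BT.node (nat_lit 11736576) (BT.leaf (nat_lit 31268125)) (BT.leaf (nat_lit 46424601)))) (BT.node (nat_lit 11736896) (BT.node (nat_lit 11736768) (BT.leaf (nat_lit 28491025)) (BT.leaf (nat_lit 51721761))) (BT.node (nat_lit 11736960) (BT.leaf (nat_lit 29246485)) (BT.leaf (nat_lit 28492305))))))) (BT.node (nat_lit 11738048) (BT.node (nat_lit 11737472) (BT.node (nat_lit 11737216) (BT.node (nat_lit 11737088) (BT.node (nat_lit 11737029) (BT.leaf (nat_lit 28492817)) (BT.leaf (nat_lit 778248))) (BT.node (nat_lit 11737152) (BT.leaf (nat_lit 48619289)) (BT.leaf (nat_lit 49636357)))) (BT.node (nat_lit 11737344) (BT.node (nat_lit 11737280) (BT.leaf (nat_lit 47368225)) (BT.leaf (nat_lit 48619277))) (BT.node (nat_lit 11737408) (BT.leaf (nat_lit 33585169)) (BT.leaf (nat_lit 28494357))))) (BT.node (nat_lit 11737792) (BT.node (nat_lit 11737600) (BT.node (nat_lit 11737536) (BT.leaf (nat_lit 48532001)) (BT.leaf (nat_lit 37828373))) (BT.node (nat_lit 11737664) (BT.leaf (nat_lit 28495889)) (BT.leaf (nat_lit 28497169)))) (BT.node (nat_lit 11737920) (BT.node (nat_lit 11737856) (BT.leaf (nat_lit 28497437)) (BT.leaf (nat_lit 36898585))) (BT.node (nat_lit 11737984) (BT.leaf (nat_lit 43378965)) (BT.leaf (nat_lit 36898573)))))) (BT.node (nat_lit 11738688) (BT.node (nat_lit 11738368) (BT.node (nat_lit 11738240) (BT.node (nat_lit 11738176) (BT.leaf (nat_lit 37682209)) (BT.leaf (nat_lit 28499477))) (BT.node (nat_lit 11738304) (BT.leaf (nat_lit 28501525)) (BT.leaf (nat_lit 28501777)))) (BT.node (nat_lit 11738496) (BT.node (nat_lit 11738432) (BT.leaf (nat_lit 29526041)) (BT.leaf (nat_lit 36791573))) (BT.node (nat_lit 11738560) (BT.leaf (nat_lit 37686549)) (BT.leaf (nat_lit 37053709))))) (BT.node (nat_lit 11738944) (BT.node (nat_lit 11738816) (BT.node (nat_lit 11738752) (BT.leaf (nat_lit 52098849)) (BT.leaf (nat_lit 30055441))) (BT.node (nat_lit 11738880) (BT.leaf (nat_lit 49837601)) (BT.leaf (nat_lit 34893585)))) (BT.node (nat_lit 11739079) (BT.node (nat_lit 11739072) (BT.leaf (nat_lit 28505369)) (BT.leaf (nat_lit 47529749))) (BT.node (nat_lit 11739136) (BT.leaf (nat_lit 797372)) (BT.leaf (nat_lit 48527625))))))))) (BT.node (nat_lit 11743744) (BT.node (nat_lit 11741696) (BT.node (nat_lit 11740608) (BT.node (nat_lit 11739904) (BT.node (nat_lit 11739520) (BT.node (nat_lit 11739328) (BT.node (nat_lit 11739264) (BT.leaf (nat_lit 46956569)) (BT.leaf (nat_lit 47393557))) (BT.node (nat_lit 11739392) (BT.leaf (nat_lit 35602445)) (BT.leaf (nat_lit 47977993)))) (BT.node (nat_lit 11739648) (BT.node (nat_lit 11739584) (BT.leaf (nat_lit 28512541)) (BT.leaf (nat_lit 28512537))) (BT.node (nat_lit 11739712) (BT.leaf (nat_lit 31849505)) (BT.leaf (nat_lit 28514321))))) (BT.node (nat_lit 11740352) (BT.node (nat_lit 11740096) (BT.node (nat_lit 11739968) (BT.leaf (nat_lit 28516113)) (BT.leaf (nat_lit 31282953))) (BT.node (nat_lit 11740160) (BT.leaf (nat_lit 28516633)) (BT.leaf (nat_lit 28516881)))) (BT.node (nat_lit 11740480) (BT.node (nat_lit 11740416) (BT.leaf (nat_lit 45612565)) (BT.leaf (nat_lit 36044037))) (BT.node (nat_lit 11740544) (BT.leaf (nat_lit 36044041)) (BT.leaf (nat_lit 52057369)))))) (BT.node (nat_lit 11741248) (BT.node (nat_lit 11740928) (BT.node (nat_lit 11740800) (BT.node (nat_lit 11740736) (BT.leaf (nat_lit 28518941)) (BT.leaf (nat_lit 46734865))) (BT.node (nat_lit 11740864) (BT.leaf (nat_lit 46962969)) (BT.leaf (nat_lit 28521237)))) (BT.node (nat_lit 11741120) (BT.node (nat_lit 11741056) (BT.leaf (nat_lit 49358353)) (BT.leaf (nat_lit 51078665))) (BT.node (nat_lit 11741184) (BT.leaf (nat_lit 51078669)) (BT.leaf (nat_lit 28525829))))) (BT.node (nat_lit 11741442) (BT.node (nat_lit 11741376) (BT.node (nat_lit 11741312) (BT.leaf (nat_lit 49109769)) (BT.leaf (nat_lit 46734105))) (BT.node (nat_lit 11741440) (BT.leaf (nat_lit 28524293)) (BT.leaf (nat_lit 47855649)))) (BT.node (nat_lit 11741568) (BT.node (nat_lit 11741504) (BT.leaf (nat_lit 754980)) (BT.leaf (nat_lit 28525073))) (BT.node (nat_lit 11741632) (BT.leaf (nat_lit 48706325)) (BT.leaf (nat_lit 28526097))))))) (BT.node (nat_lit 11742912) (BT.node (nat_lit 11742336) (BT.node (nat_lit 11742080) (BT.node (nat_lit 11741824) (BT.node (nat_lit 11741760) (BT.leaf (nat_lit 28527893)) (BT.leaf (nat_lit 50951429))) (BT.node (nat_lit 11741888) (BT.leaf (nat_lit 34793221)) (BT.leaf (nat_lit 33441541)))) (BT.node (nat_lit 11742208) (BT.node (nat_lit 11742144) (BT.leaf (nat_lit 50727189)) (BT.leaf (nat_lit 28535309))) (BT.node (nat_lit 11742272) (BT.leaf (nat_lit 50715933)) (BT.leaf (nat_lit 35623445))))) (BT.node (nat_lit 11742592) (BT.node (nat_lit 11742464) (BT.node (nat_lit 11742344) (BT.leaf (nat_lit 28535057)) (BT.leaf (nat_lit 764412))) (BT.node (nat_lit 11742528) (BT.leaf (nat_lit 35594521)) (BT.leaf (nat_lit 28535825)))) (BT.node (nat_lit 11742784) (BT.node (nat_lit 11742720) (BT.leaf (nat_lit 28536081)) (BT.leaf (nat_lit 48043277))) (BT.node (nat_lit 11742848) (BT.leaf (nat_lit 47104545)) (BT.leaf (nat_lit 47262469)))))) (BT.node (nat_lit 11743296) (BT.node (nat_lit 11743104) (BT.node (nat_lit 11742976) (BT.node (nat_lit 11742916) (BT.leaf (nat_lit 28538389)) (BT.leaf (nat_lit 736792))) (BT.node (nat_lit 11743040) (BT.leaf (nat_lit 42780421)) (BT.leaf (nat_lit 50152209)))) (BT.node (nat_lit 11743232) (BT.node (nat_lit 11743168) (BT.leaf (nat_lit 28539417)) (BT.leaf (nat_lit 52089861))) (BT.node (nat_lit 11743239) (BT.leaf (nat_lit 28539925)) (BT.leaf (nat_lit 791068))))) (BT.node (nat_lit 11743488) (BT.node (nat_lit 11743424) (BT.node (nat_lit 11743360) (BT.leaf (nat_lit 28540177)) (BT.leaf (nat_lit 28541713))) (BT.node (nat_lit 11743431) (BT.leaf (nat_lit 50438165)) (BT.leaf (nat_lit 744424)))) (BT.node (nat_lit 11743616) (BT.node (nat_lit 11743552) (BT.leaf (nat_lit 40336909)) (BT.leaf (nat_lit 46974493))) (BT.node (nat_lit 11743680) (BT.leaf (nat_lit 47676181)) (BT.leaf (nat_lit 28809493)))))))) (BT.node (nat_lit 11746432) (BT.node (nat_lit 11745088) (BT.node (nat_lit 11744384) (BT.node (nat_lit 11744064) (BT.node (nat_lit 11743936) (BT.node (nat_lit 11743808) (BT.leaf (nat_lit 50437917)) (BT.leaf (nat_lit 33464837))) (BT.node (nat_lit 11744000) (BT.leaf (nat_lit 37371681)) (BT.leaf (nat_lit 34001161)))) (BT.node (nat_lit 11744256) (BT.node (nat_lit 11744128) (BT.leaf (nat_lit 28544021)) (BT.leaf (nat_lit 33438493))) (BT.node (nat_lit 11744320) (BT.leaf (nat_lit 28546325)) (BT.leaf (nat_lit 50089221))))) (BT.node (nat_lit 11744704) (BT.node (nat_lit 11744512) (BT.node (nat_lit 11744448) (BT.leaf (nat_lit 46977821)) (BT.leaf (nat_lit 30049809))) (BT.node (nat_lit 11744576) (BT.leaf (nat_lit 36005405)) (BT.leaf (nat_lit 50032645)))) (BT.node (nat_lit 11744960) (BT.node (nat_lit 11744896) (BT.leaf (nat_lit 40931605)) (BT.leaf (nat_lit 28553249))) (BT.node (nat_lit 11745024) (BT.leaf (nat_lit 34704145)) (BT.leaf (nat_lit 28553745)))))) (BT.node (nat_lit 11745728) (BT.node (nat_lit 11745344) (BT.node (nat_lit 11745216) (BT.node (nat_lit 11745152) (BT.leaf (nat_lit 28554257)) (BT.leaf (nat_lit 28554773))) (BT.node (nat_lit 11745280) (BT.leaf (nat_lit 46767649)) (BT.leaf (nat_lit 46766113)))) (BT.node (nat_lit 11745472) (BT.node (nat_lit 11745408) (BT.leaf (nat_lit 32863769)) (BT.leaf (nat_lit 28558101))) (BT.node (nat_lit 11745536) (BT.leaf (nat_lit 51956489)) (BT.leaf (nat_lit 34671393))))) (BT.node (nat_lit 11746048) (BT.node (nat_lit 11745856) (BT.node (nat_lit 11745792) (BT.leaf (nat_lit 38273545)) (BT.leaf (nat_lit 37498133))) (BT.node (nat_lit 11745984) (BT.leaf (nat_lit 30219809)) (BT.leaf (nat_lit 48070681)))) (BT.node (nat_lit 11746240) (BT.node (nat_lit 11746112) (BT.leaf (nat_lit 28565013)) (BT.leaf (nat_lit 28565533))) (BT.node (nat_lit 11746368) (BT.leaf (nat_lit 37157901)) (BT.leaf (nat_lit 31301641))))))) (BT.node (nat_lit 11747588) (BT.node (nat_lit 11747136) (BT.node (nat_lit 11746752) (BT.node (nat_lit 11746560) (BT.node (nat_lit 11746496) (BT.leaf (nat_lit 33453577)) (BT.leaf (nat_lit 48153861))) (BT.node (nat_lit 11746688) (BT.leaf (nat_lit 39513365)) (BT.leaf (nat_lit 33919521)))) (BT.node (nat_lit 11746880) (BT.node (nat_lit 11746816) (BT.leaf (nat_lit 32806417)) (BT.leaf (nat_lit 28573457))) (BT.node (nat_lit 11746944) (BT.leaf (nat_lit 50962721)) (BT.leaf (nat_lit 52227857))))) (BT.node (nat_lit 11747456) (BT.node (nat_lit 11747328) (BT.node (nat_lit 11747200) (BT.leaf (nat_lit 28576789)) (BT.leaf (nat_lit 48764941))) (BT.node (nat_lit 11747392) (BT.leaf (nat_lit 50702873)) (BT.leaf (nat_lit 46622225)))) (BT.node (nat_lit 11747584) (BT.node (nat_lit 11747520) (BT.leaf (nat_lit 28577049)) (BT.leaf (nat_lit 28578073))) (BT.node (nat_lit 11747587) (BT.leaf (nat_lit 28579349)) (BT.leaf (nat_lit 760156)))))) (BT.node (nat_lit 11748288) (BT.node (nat_lit 11747904) (BT.node (nat_lit 11747712) (BT.node (nat_lit 11747648) (BT.leaf (nat_lit 760156)) (BT.leaf (nat_lit 46990877))) (BT.node (nat_lit 11747840) (BT.leaf (nat_lit 51966737)) (BT.leaf (nat_lit 50107909)))) (BT.node (nat_lit 11748160) (BT.node (nat_lit 11748032) (BT.leaf (nat_lit 28581393)) (BT.leaf (nat_lit 28582673))) (BT.node (nat_lit 11748224) (BT.leaf (nat_lit 50122785)) (BT.leaf (nat_lit 47625225))))) (BT.node (nat_lit 11748672) (BT.node (nat_lit 11748544) (BT.node (nat_lit 11748416) (BT.leaf (nat_lit 38865177)) (BT.leaf (nat_lit 48887557))) (BT.node (nat_lit 11748608) (BT.leaf (nat_lit 30554645)) (BT.leaf (nat_lit 28584721)))) (BT.node (nat_lit 11748737) (BT.node (nat_lit 11748736) (BT.leaf (nat_lit 37739013)) (BT.leaf (nat_lit 28585493))) (BT.node (nat_lit 11748864) (BT.leaf (nat_lit 760144)) (BT.leaf (nat_lit 46717985)))))))))) (BT.node (nat_lit 11757824) (BT.node (nat_lit 11753088) (BT.node (nat_lit 11751424) (BT.node (nat_lit 11750272) (BT.node (nat_lit 11749760) (BT.node (nat_lit 11749376) (BT.node (nat_lit 11749056) (BT.node (nat_lit 11748992) (BT.leaf (nat_lit 28586773)) (BT.leaf (nat_lit 28587537))) (BT.node (nat_lit 11749120) (BT.leaf (nat_lit 28587793)) (BT.leaf (nat_lit 36407825)))) (BT.node (nat_lit 11749504) (BT.node (nat_lit 11749440) (BT.leaf (nat_lit 48669981)) (BT.leaf (nat_lit 46452769))) (BT.node (nat_lit 11749696) (BT.leaf (nat_lit 46452513)) (BT.leaf (nat_lit 28590105))))) (BT.node (nat_lit 11750016) (BT.node (nat_lit 11749888) (BT.node (nat_lit 11749824) (BT.leaf (nat_lit 28591373)) (BT.leaf (nat_lit 35049485))) (BT.node (nat_lit 11749952) (BT.leaf (nat_lit 28591389)) (BT.leaf (nat_lit 35251977)))) (BT.node (nat_lit 11750152) (BT.node (nat_lit 11750144) (BT.leaf (nat_lit 32417045)) (BT.leaf (nat_lit 28593173))) (BT.node (nat_lit 11750208) (BT.leaf (nat_lit 742540)) (BT.leaf (nat_lit 33523461)))))) (BT.node (nat_lit 11750912) (BT.node (nat_lit 11750656) (BT.node (nat_lit 11750400) (BT.node (nat_lit 11750336) (BT.leaf (nat_lit 34760713)) (BT.leaf (nat_lit 46649365))) (BT.node (nat_lit 11750592) (BT.leaf (nat_lit 33467413)) (BT.leaf (nat_lit 46341125)))) (BT.node (nat_lit 11750784) (BT.node (nat_lit 11750720) (BT.leaf (nat_lit 28598037)) (BT.leaf (nat_lit 36193285))) (BT.node (nat_lit 11750848) (BT.leaf (nat_lit 29762821)) (BT.leaf (nat_lit 28600597))))) (BT.node (nat_lit 11751168) (BT.node (nat_lit 11751040) (BT.node (nat_lit 11750976) (BT.leaf (nat_lit 48674845)) (BT.leaf (nat_lit 48674825))) (BT.node (nat_lit 11751104) (BT.leaf (nat_lit 47003929)) (BT.leaf (nat_lit 28601621)))) (BT.node (nat_lit 11751296) (BT.node (nat_lit 11751232) (BT.leaf (nat_lit 29506577)) (BT.leaf (nat_lit 31470609))) (BT.node (nat_lit 11751360) (BT.leaf (nat_lit 34653213)) (BT.leaf (nat_lit 34653193))))))) (BT.node (nat_lit 11752448) (BT.node (nat_lit 11751936) (BT.node (nat_lit 11751744) (BT.node (nat_lit 11751616) (BT.node (nat_lit 11751488) (BT.leaf (nat_lit 48773389)) (BT.leaf (nat_lit 28606997))) (BT.node (nat_lit 11751680) (BT.leaf (nat_lit 31071005)) (BT.leaf (nat_lit 28608281)))) (BT.node (nat_lit 11751872) (BT.node (nat_lit 11751808) (BT.leaf (nat_lit 28608285)) (BT.leaf (nat_lit 28609553))) (BT.node (nat_lit 11751875) (BT.leaf (nat_lit 28610065)) (BT.leaf (nat_lit 812732))))) (BT.node (nat_lit 11752194) (BT.node (nat_lit 11752128) (BT.node (nat_lit 11752064) (BT.leaf (nat_lit 28610581)) (BT.leaf (nat_lit 35630613))) (BT.node (nat_lit 11752192) (BT.leaf (nat_lit 35812121)) (BT.leaf (nat_lit 28612625)))) (BT.node (nat_lit 11752320) (BT.node (nat_lit 11752256) (BT.leaf (nat_lit 767048)) (BT.leaf (nat_lit 28612893))) (BT.node (nat_lit 11752384) (BT.leaf (nat_lit 33894169)) (BT.leaf (nat_lit 42011157)))))) (BT.node (nat_lit 11752640) (BT.node (nat_lit 11752514) (BT.node (nat_lit 11752512) (BT.node (nat_lit 11752452) (BT.leaf (nat_lit 31044361)) (BT.leaf (nat_lit 755780))) (BT.node (nat_lit 11752513) (BT.leaf (nat_lit 31044369)) (BT.leaf (nat_lit 755772)))) (BT.node (nat_lit 11752518) (BT.node (nat_lit 11752517) (BT.leaf (nat_lit 755772)) (BT.leaf (nat_lit 755772))) (BT.node (nat_lit 11752519) (BT.leaf (nat_lit 755772)) (BT.leaf (nat_lit 755772))))) (BT.node (nat_lit 11752832) (BT.node (nat_lit 11752704) (BT.node (nat_lit 11752648) (BT.leaf (nat_lit 47840517)) (BT.leaf (nat_lit 777396))) (BT.node (nat_lit 11752768) (BT.leaf (nat_lit 28615445)) (BT.leaf (nat_lit 28616213)))) (BT.node (nat_lit 11752960) (BT.node (nat_lit 11752896) (BT.leaf (nat_lit 28617237)) (BT.leaf (nat_lit 28617749))) (BT.node (nat_lit 11753024) (BT.leaf (nat_lit 28618517)) (BT.leaf (nat_lit 28619781)))))))) (BT.node (nat_lit 11755520) (BT.node (nat_lit 11754368) (BT.node (nat_lit 11753664) (BT.node (nat_lit 11753344) (BT.node (nat_lit 11753216) (BT.node (nat_lit 11753152) (BT.leaf (nat_lit 28619289)) (BT.leaf (nat_lit 28619293))) (BT.node (nat_lit 11753280) (BT.leaf (nat_lit 48937993)) (BT.leaf (nat_lit 49383701)))) (BT.node (nat_lit 11753472) (BT.node (nat_lit 11753408) (BT.leaf (nat_lit 28620821)) (BT.leaf (nat_lit 28621077))) (BT.node (nat_lit 11753600) (BT.leaf (nat_lit 33410833)) (BT.leaf (nat_lit 46832149))))) (BT.node (nat_lit 11753984) (BT.node (nat_lit 11753856) (BT.node (nat_lit 11753792) (BT.leaf (nat_lit 28621345)) (BT.leaf (nat_lit 32150025))) (BT.node (nat_lit 11753920) (BT.leaf (nat_lit 28623381)) (BT.leaf (nat_lit 28624913)))) (BT.node (nat_lit 11754052) (BT.node (nat_lit 11754048) (BT.leaf (nat_lit 50658313)) (BT.leaf (nat_lit 51121433))) (BT.node (nat_lit 11754240) (BT.leaf (nat_lit 745440)) (BT.leaf (nat_lit 49170453)))))) (BT.node (nat_lit 11754944) (BT.node (nat_lit 11754624) (BT.node (nat_lit 11754496) (BT.node (nat_lit 11754432) (BT.leaf (nat_lit 28626449)) (BT.leaf (nat_lit 37392145))) (BT.node (nat_lit 11754560) (BT.leaf (nat_lit 48571661)) (BT.leaf (nat_lit 30040349)))) (BT.node (nat_lit 11754752) (BT.node (nat_lit 11754688) (BT.leaf (nat_lit 35828245)) (BT.leaf (nat_lit 46433809))) (BT.node (nat_lit 11754880) (BT.leaf (nat_lit 47018785)) (BT.leaf (nat_lit 43546909))))) (BT.node (nat_lit 11755264) (BT.node (nat_lit 11755136) (BT.node (nat_lit 11755072) (BT.leaf (nat_lit 46158617)) (BT.leaf (nat_lit 34687257))) (BT.node (nat_lit 11755200) (BT.leaf (nat_lit 50482965)) (BT.leaf (nat_lit 33473809)))) (BT.node (nat_lit 11755456) (BT.node (nat_lit 11755392) (BT.leaf (nat_lit 28637717)) (BT.leaf (nat_lit 50951685))) (BT.node (nat_lit 11755463) (BT.leaf (nat_lit 28641041)) (BT.leaf (nat_lit 786744))))))) (BT.node (nat_lit 11756608) (BT.node (nat_lit 11756032) (BT.node (nat_lit 11755776) (BT.node (nat_lit 11755648) (BT.node (nat_lit 11755584) (BT.leaf (nat_lit 34858505)) (BT.leaf (nat_lit 28641813))) (BT.node (nat_lit 11755712) (BT.leaf (nat_lit 34151433)) (BT.leaf (nat_lit 33301273)))) (BT.node (nat_lit 11755904) (BT.node (nat_lit 11755840) (BT.leaf (nat_lit 41227805)) (BT.leaf (nat_lit 28645393))) (BT.node (nat_lit 11755968) (BT.leaf (nat_lit 47002653)) (BT.leaf (nat_lit 28645921))))) (BT.node (nat_lit 11756352) (BT.node (nat_lit 11756160) (BT.node (nat_lit 11756096) (BT.leaf (nat_lit 34177041)) (BT.leaf (nat_lit 28646177))) (BT.node (nat_lit 11756288) (BT.leaf (nat_lit 28646405)) (BT.leaf (nat_lit 47001117)))) (BT.node (nat_lit 11756480) (BT.node (nat_lit 11756416) (BT.leaf (nat_lit 28647969)) (BT.leaf (nat_lit 36079121))) (BT.node (nat_lit 11756544) (BT.leaf (nat_lit 34826509)) (BT.leaf (nat_lit 35295509)))))) (BT.node (nat_lit 11757120) (BT.node (nat_lit 11756864) (BT.node (nat_lit 11756736) (BT.node (nat_lit 11756672) (BT.leaf (nat_lit 46441741)) (BT.leaf (nat_lit 33478945))) (BT.node (nat_lit 11756800) (BT.leaf (nat_lit 50353157)) (BT.leaf (nat_lit 34022161)))) (BT.node (nat_lit 11756992) (BT.node (nat_lit 11756928) (BT.leaf (nat_lit 28652305)) (BT.leaf (nat_lit 33633801))) (BT.node (nat_lit 11757056) (BT.leaf (nat_lit 47259665)) (BT.leaf (nat_lit 37199117))))) (BT.node (nat_lit 11757440) (BT.node (nat_lit 11757248) (BT.node (nat_lit 11757184) (BT.leaf (nat_lit 28655125)) (BT.leaf (nat_lit 28656145))) (BT.node (nat_lit 11757312) (BT.leaf (nat_lit 34066693)) (BT.leaf (nat_lit 28661261)))) (BT.node (nat_lit 11757632) (BT.node (nat_lit 11757568) (BT.leaf (nat_lit 34725125)) (BT.leaf (nat_lit 33485857))) (BT.node (nat_lit 11757696) (BT.leaf (nat_lit 33745941)) (BT.leaf (nat_lit 34067205))))))))) (BT.node (nat_lit 11762752) (BT.node (nat_lit 11760256) (BT.node (nat_lit 11759040) (BT.node (nat_lit 11758528) (BT.node (nat_lit 11758144) (BT.node (nat_lit 11758016) (BT.node (nat_lit 11757888) (BT.leaf (nat_lit 28661017)) (BT.leaf (nat_lit 28661025))) (BT.node (nat_lit 11758080) (BT.leaf (nat_lit 52305941)) (BT.leaf (nat_lit 47032089)))) (BT.node (nat_lit 11758336) (BT.node (nat_lit 11758208) (BT.leaf (nat_lit 48187157)) (BT.leaf (nat_lit 42383369))) (BT.node (nat_lit 11758400) (BT.leaf (nat_lit 42954765)) (BT.leaf (nat_lit 43025677))))) (BT.node (nat_lit 11758784) (BT.node (nat_lit 11758656) (BT.node (nat_lit 11758592) (BT.leaf (nat_lit 28663837)) (BT.leaf (nat_lit 32333841))) (BT.node (nat_lit 11758720) (BT.leaf (nat_lit 28664081)) (BT.leaf (nat_lit 48238101)))) (BT.node (nat_lit 11758912) (BT.node (nat_lit 11758848) (BT.leaf (nat_lit 28664853)) (BT.leaf (nat_lit 51140369))) (BT.node (nat_lit 11758976) (BT.leaf (nat_lit 47035401)) (BT.leaf (nat_lit 51140361)))))) (BT.node (nat_lit 11759552) (BT.node (nat_lit 11759296) (BT.node (nat_lit 11759168) (BT.node (nat_lit 11759104) (BT.leaf (nat_lit 41985049)) (BT.leaf (nat_lit 32344589))) (BT.node (nat_lit 11759232) (BT.leaf (nat_lit 48795669)) (BT.leaf (nat_lit 28667665)))) (BT.node (nat_lit 11759424) (BT.node (nat_lit 11759360) (BT.leaf (nat_lit 28668681)) (BT.leaf (nat_lit 28668685))) (BT.node (nat_lit 11759488) (BT.leaf (nat_lit 47983381)) (BT.leaf (nat_lit 28670225))))) (BT.node (nat_lit 11759808) (BT.node (nat_lit 11759680) (BT.node (nat_lit 11759616) (BT.leaf (nat_lit 33351429)) (BT.leaf (nat_lit 34737185))) (BT.node (nat_lit 11759744) (BT.leaf (nat_lit 28672017)) (BT.leaf (nat_lit 36164629)))) (BT.node (nat_lit 11759936) (BT.node (nat_lit 11759872) (BT.leaf (nat_lit 28673297)) (BT.leaf (nat_lit 31063321))) (BT.node (nat_lit 11760000) (BT.leaf (nat_lit 31063325)) (BT.leaf (nat_lit 29231641))))))) (BT.node (nat_lit 11761664) (BT.node (nat_lit 11760832) (BT.node (nat_lit 11760576) (BT.node (nat_lit 11760448) (BT.node (nat_lit 11760320) (BT.leaf (nat_lit 28674577)) (BT.leaf (nat_lit 34181145))) (BT.node (nat_lit 11760512) (BT.leaf (nat_lit 43066133)) (BT.leaf (nat_lit 31416853)))) (BT.node (nat_lit 11760704) (BT.node (nat_lit 11760640) (BT.leaf (nat_lit 39568405)) (BT.leaf (nat_lit 28676633))) (BT.node (nat_lit 11760768) (BT.leaf (nat_lit 39957525)) (BT.leaf (nat_lit 42219041))))) (BT.node (nat_lit 11761408) (BT.node (nat_lit 11761216) (BT.node (nat_lit 11760896) (BT.leaf (nat_lit 28690445)) (BT.leaf (nat_lit 47945753))) (BT.node (nat_lit 11761344) (BT.leaf (nat_lit 33869333)) (BT.leaf (nat_lit 52304921)))) (BT.node (nat_lit 11761536) (BT.node (nat_lit 11761416) (BT.leaf (nat_lit 28679701)) (BT.leaf (nat_lit 744592))) (BT.node (nat_lit 11761600) (BT.leaf (nat_lit 28680209)) (BT.leaf (nat_lit 35368465)))))) (BT.node (nat_lit 11762240) (BT.node (nat_lit 11761984) (BT.node (nat_lit 11761856) (BT.node (nat_lit 11761728) (BT.leaf (nat_lit 35255817)) (BT.leaf (nat_lit 31945749))) (BT.node (nat_lit 11761920) (BT.leaf (nat_lit 49408537)) (BT.leaf (nat_lit 50978333)))) (BT.node (nat_lit 11762112) (BT.node (nat_lit 11762048) (BT.leaf (nat_lit 37610757)) (BT.leaf (nat_lit 47047961))) (BT.node (nat_lit 11762176) (BT.leaf (nat_lit 33485077)) (BT.leaf (nat_lit 28683269))))) (BT.node (nat_lit 11762496) (BT.node (nat_lit 11762368) (BT.node (nat_lit 11762304) (BT.leaf (nat_lit 29334813)) (BT.leaf (nat_lit 37635345))) (BT.node (nat_lit 11762432) (BT.leaf (nat_lit 28684309)) (BT.leaf (nat_lit 48860449)))) (BT.node (nat_lit 11762624) (BT.node (nat_lit 11762560) (BT.leaf (nat_lit 49718805)) (BT.leaf (nat_lit 28687125))) (BT.node (nat_lit 11762688) (BT.leaf (nat_lit 47562517)) (BT.leaf (nat_lit 46258977)))))))) (BT.node (nat_lit 11764992) (BT.node (nat_lit 11763904) (BT.node (nat_lit 11763264) (BT.node (nat_lit 11763008) (BT.node (nat_lit 11762880) (BT.node (nat_lit 11762816) (BT.leaf (nat_lit 51118357)) (BT.leaf (nat_lit 28691221))) (BT.node (nat_lit 11762944) (BT.leaf (nat_lit 48345121)) (BT.leaf (nat_lit 32484869)))) (BT.node (nat_lit 11763136) (BT.node (nat_lit 11763072) (BT.leaf (nat_lit 47941649)) (BT.leaf (nat_lit 28690965))) (BT.node (nat_lit 11763200) (BT.leaf (nat_lit 51118625)) (BT.leaf (nat_lit 28691993))))) (BT.node (nat_lit 11763520) (BT.node (nat_lit 11763392) (BT.node (nat_lit 11763328) (BT.leaf (nat_lit 28692501)) (BT.leaf (nat_lit 46908693))) (BT.node (nat_lit 11763456) (BT.leaf (nat_lit 47421965)) (BT.leaf (nat_lit 46908953)))) (BT.node (nat_lit 11763712) (BT.node (nat_lit 11763584) (BT.leaf (nat_lit 49343765)) (BT.leaf (nat_lit 47965713))) (BT.node (nat_lit 11763776) (BT.leaf (nat_lit 28697117)) (BT.leaf (nat_lit 48425249)))))) (BT.node (nat_lit 11764480) (BT.node (nat_lit 11764160) (BT.node (nat_lit 11764032) (BT.node (nat_lit 11763968) (BT.leaf (nat_lit 28698901)) (BT.leaf (nat_lit 50990873))) (BT.node (nat_lit 11764096) (BT.leaf (nat_lit 51080989)) (BT.leaf (nat_lit 36326933)))) (BT.node (nat_lit 11764352) (BT.node (nat_lit 11764224) (BT.leaf (nat_lit 28700189)) (BT.leaf (nat_lit 51087125))) (BT.node (nat_lit 11764416) (BT.leaf (nat_lit 28701201)) (BT.leaf (nat_lit 47056409))))) (BT.node (nat_lit 11764736) (BT.node (nat_lit 11764608) (BT.node (nat_lit 11764544) (BT.leaf (nat_lit 32071701)) (BT.leaf (nat_lit 28704789))) (BT.node (nat_lit 11764672) (BT.leaf (nat_lit 47500065)) (BT.leaf (nat_lit 49265417)))) (BT.node (nat_lit 11764864) (BT.node (nat_lit 11764800) (BT.leaf (nat_lit 30647813)) (BT.leaf (nat_lit 48187397))) (BT.node (nat_lit 11764928) (BT.leaf (nat_lit 30647577)) (BT.leaf (nat_lit 30647829))))))) (BT.node (nat_lit 11766080) (BT.node (nat_lit 11765504) (BT.node (nat_lit 11765248) (BT.node (nat_lit 11765120) (BT.node (nat_lit 11765056) (BT.leaf (nat_lit 30605089)) (BT.leaf (nat_lit 43266565))) (BT.node (nat_lit 11765184) (BT.leaf (nat_lit 38508037)) (BT.leaf (nat_lit 28710677)))) (BT.node (nat_lit 11765376) (BT.node (nat_lit 11765312) (BT.leaf (nat_lit 28711449)) (BT.leaf (nat_lit 47407637))) (BT.node (nat_lit 11765440) (BT.leaf (nat_lit 47061273)) (BT.leaf (nat_lit 39564565))))) (BT.node (nat_lit 11765824) (BT.node (nat_lit 11765632) (BT.node (nat_lit 11765568) (BT.leaf (nat_lit 47188757)) (BT.leaf (nat_lit 49186333))) (BT.node (nat_lit 11765760) (BT.leaf (nat_lit 52403477)) (BT.leaf (nat_lit 47187989)))) (BT.node (nat_lit 11765952) (BT.node (nat_lit 11765888) (BT.leaf (nat_lit 38160133)) (BT.leaf (nat_lit 47782673))) (BT.node (nat_lit 11766016) (BT.leaf (nat_lit 48525317)) (BT.leaf (nat_lit 28716553)))))) (BT.node (nat_lit 11766656) (BT.node (nat_lit 11766400) (BT.node (nat_lit 11766208) (BT.node (nat_lit 11766144) (BT.leaf (nat_lit 28716557)) (BT.leaf (nat_lit 28716569))) (BT.node (nat_lit 11766336) (BT.leaf (nat_lit 28716573)) (BT.leaf (nat_lit 50598417)))) (BT.node (nat_lit 11766528) (BT.node (nat_lit 11766464) (BT.leaf (nat_lit 46582021)) (BT.leaf (nat_lit 46347785))) (BT.node (nat_lit 11766592) (BT.leaf (nat_lit 30365969)) (BT.leaf (nat_lit 28719381))))) (BT.node (nat_lit 11766912) (BT.node (nat_lit 11766784) (BT.node (nat_lit 11766720) (BT.leaf (nat_lit 33063445)) (BT.leaf (nat_lit 51508501))) (BT.node (nat_lit 11766848) (BT.leaf (nat_lit 37949705)) (BT.leaf (nat_lit 37949709)))) (BT.node (nat_lit 11767040) (BT.node (nat_lit 11766976) (BT.leaf (nat_lit 33454613)) (BT.leaf (nat_lit 28722445))) (BT.node (nat_lit 11767048) (BT.leaf (nat_lit 28721949)) (BT.leaf (nat_lit 756140)))))))))))) (BT.node (nat_lit 11806144) (BT.node (nat_lit 11788032) (BT.node (nat_lit 11778432) (BT.node (nat_lit 11772032) (BT.node (nat_lit 11770048) (BT.node (nat_lit 11768832) (BT.node (nat_lit 11768192) (BT.node (nat_lit 11767680) (BT.node (nat_lit 11767360) (BT.node (nat_lit 11767296) (BT.leaf (nat_lit 46731549)) (BT.leaf (nat_lit 28724253))) (BT.node (nat_lit 11767552) (BT.leaf (nat_lit 28724757)) (BT.leaf (nat_lit 33498133)))) (BT.node (nat_lit 11768064) (BT.node (nat_lit 11767808) (BT.leaf (nat_lit 33368341)) (BT.leaf (nat_lit 45613845))) (BT.node (nat_lit 11768128) (BT.leaf (nat_lit 35360517)) (BT.leaf (nat_lit 52032025))))) (BT.node (nat_lit 11768448) (BT.node (nat_lit 11768320) (BT.node (nat_lit 11768256) (BT.leaf (nat_lit 52423453)) (BT.leaf (nat_lit 28728857))) (BT.node (nat_lit 11768384) (BT.leaf (nat_lit 28728861)) (BT.leaf (nat_lit 47254805)))) (BT.node (nat_lit 11768576) (BT.node (nat_lit 11768512) (BT.leaf (nat_lit 28729621)) (BT.leaf (nat_lit 33499157))) (BT.node (nat_lit 11768640) (BT.leaf (nat_lit 34169609)) (BT.leaf (nat_lit 52168481)))))) (BT.node (nat_lit 11769408) (BT.node (nat_lit 11769152) (BT.node (nat_lit 11769024) (BT.node (nat_lit 11768960) (BT.leaf (nat_lit 34169629)) (BT.leaf (nat_lit 34169625))) (BT.node (nat_lit 11769088) (BT.leaf (nat_lit 46988577)) (BT.leaf (nat_lit 28732181)))) (BT.node (nat_lit 11769219) (BT.node (nat_lit 11769216) (BT.leaf (nat_lit 28732437)) (BT.leaf (nat_lit 36905233))) (BT.node (nat_lit 11769280) (BT.leaf (nat_lit 813052)) (BT.leaf (nat_lit 52423701))))) (BT.node (nat_lit 11769792) (BT.node (nat_lit 11769664) (BT.node (nat_lit 11769472) (BT.leaf (nat_lit 28734481)) (BT.leaf (nat_lit 28735249))) (BT.node (nat_lit 11769728) (BT.leaf (nat_lit 28737801)) (BT.leaf (nat_lit 47079197)))) (BT.node (nat_lit 11769920) (BT.node (nat_lit 11769856) (BT.leaf (nat_lit 50598673)) (BT.leaf (nat_lit 28739345))) (BT.node (nat_lit 11769984) (BT.leaf (nat_lit 33506325)) (BT.leaf (nat_lit 28741409))))))) (BT.node (nat_lit 11771264) (BT.node (nat_lit 11770560) (BT.node (nat_lit 11770304) (BT.node (nat_lit 11770176) (BT.node (nat_lit 11770112) (BT.leaf (nat_lit 29532701)) (BT.leaf (nat_lit 35960345))) (BT.node (nat_lit 11770240) (BT.leaf (nat_lit 28742929)) (BT.leaf (nat_lit 28746513)))) (BT.node (nat_lit 11770432) (BT.node (nat_lit 11770368) (BT.leaf (nat_lit 28747273)) (BT.leaf (nat_lit 28747289))) (BT.node (nat_lit 11770496) (BT.leaf (nat_lit 28747293)) (BT.leaf (nat_lit 28747545))))) (BT.node (nat_lit 11770880) (BT.node (nat_lit 11770688) (BT.node (nat_lit 11770624) (BT.leaf (nat_lit 28747549)) (BT.leaf (nat_lit 35303713))) (BT.node (nat_lit 11770752) (BT.leaf (nat_lit 39659801)) (BT.leaf (nat_lit 37083417)))) (BT.node (nat_lit 11771008) (BT.node (nat_lit 11770944) (BT.leaf (nat_lit 28748829)) (BT.leaf (nat_lit 32669457))) (BT.node (nat_lit 11771200) (BT.leaf (nat_lit 49557513)) (BT.leaf (nat_lit 48315153)))))) (BT.node (nat_lit 11771715) (BT.node (nat_lit 11771584) (BT.node (nat_lit 11771392) (BT.node (nat_lit 11771328) (BT.leaf (nat_lit 48558605)) (BT.leaf (nat_lit 28750617))) (BT.node (nat_lit 11771456) (BT.leaf (nat_lit 41307665)) (BT.leaf (nat_lit 42529301)))) (BT.node (nat_lit 11771712) (BT.node (nat_lit 11771648) (BT.leaf (nat_lit 33782557)) (BT.leaf (nat_lit 48969497))) (BT.node (nat_lit 11771714) (BT.leaf (nat_lit 46524181)) (BT.leaf (nat_lit 805484))))) (BT.node (nat_lit 11771844) (BT.node (nat_lit 11771840) (BT.node (nat_lit 11771776) (BT.leaf (nat_lit 805484)) (BT.leaf (nat_lit 47959045))) (BT.node (nat_lit 11771841) (BT.leaf (nat_lit 35444497)) (BT.leaf (nat_lit 799316)))) (BT.node (nat_lit 11771905) (BT.node (nat_lit 11771904) (BT.leaf (nat_lit 799316)) (BT.leaf (nat_lit 35047441))) (BT.node (nat_lit 11771968) (BT.leaf (nat_lit 795828)) (BT.leaf (nat_lit 28754965)))))))) (BT.node (nat_lit 11774912) (BT.node (nat_lit 11773184) (BT.node (nat_lit 11772608) (BT.node (nat_lit 11772288) (BT.node (nat_lit 11772160) (BT.node (nat_lit 11772096) (BT.leaf (nat_lit 50963205)) (BT.leaf (nat_lit 50191881))) (BT.node (nat_lit 11772224) (BT.leaf (nat_lit 35023365)) (BT.leaf (nat_lit 52146201)))) (BT.node (nat_lit 11772480) (BT.node (nat_lit 11772416) (BT.leaf (nat_lit 33508117)) (BT.leaf (nat_lit 46991637))) (BT.node (nat_lit 11772544) (BT.leaf (nat_lit 28758293)) (BT.leaf (nat_lit 33985313))))) (BT.node (nat_lit 11772928) (BT.node (nat_lit 11772736) (BT.node (nat_lit 11772672) (BT.leaf (nat_lit 28760081)) (BT.leaf (nat_lit 47993865))) (BT.node (nat_lit 11772864) (BT.leaf (nat_lit 47993869)) (BT.leaf (nat_lit 47993889)))) (BT.node (nat_lit 11773056) (BT.node (nat_lit 11772992) (BT.leaf (nat_lit 47687957)) (BT.leaf (nat_lit 46382105))) (BT.node (nat_lit 11773120) (BT.leaf (nat_lit 37827105)) (BT.leaf (nat_lit 28767249)))))) (BT.node (nat_lit 11773760) (BT.node (nat_lit 11773504) (BT.node (nat_lit 11773312) (BT.node (nat_lit 11773248) (BT.leaf (nat_lit 30541329)) (BT.leaf (nat_lit 47092761))) (BT.node (nat_lit 11773376) (BT.leaf (nat_lit 40099101)) (BT.leaf (nat_lit 28768281)))) (BT.node (nat_lit 11773632) (BT.node (nat_lit 11773568) (BT.leaf (nat_lit 48892697)) (BT.leaf (nat_lit 40775453))) (BT.node (nat_lit 11773696) (BT.leaf (nat_lit 49293345)) (BT.leaf (nat_lit 28769557))))) (BT.node (nat_lit 11774336) (BT.node (nat_lit 11773952) (BT.node (nat_lit 11773888) (BT.leaf (nat_lit 28769801)) (BT.leaf (nat_lit 28769821))) (BT.node (nat_lit 11774272) (BT.leaf (nat_lit 28771357)) (BT.leaf (nat_lit 46916117)))) (BT.node (nat_lit 11774528) (BT.node (nat_lit 11774464) (BT.leaf (nat_lit 28774161)) (BT.leaf (nat_lit 35897365))) (BT.node (nat_lit 11774848) (BT.leaf (nat_lit 28775441)) (BT.leaf (nat_lit 51761685))))))) (BT.node (nat_lit 11776320) (BT.node (nat_lit 11775808) (BT.node (nat_lit 11775488) (BT.node (nat_lit 11775168) (BT.node (nat_lit 11775104) (BT.leaf (nat_lit 28777233)) (BT.leaf (nat_lit 28776977))) (BT.node (nat_lit 11775360) (BT.leaf (nat_lit 50520597)) (BT.leaf (nat_lit 46916125)))) (BT.node (nat_lit 11775681) (BT.node (nat_lit 11775552) (BT.leaf (nat_lit 33517585)) (BT.leaf (nat_lit 47098137))) (BT.node (nat_lit 11775744) (BT.leaf (nat_lit 812456)) (BT.leaf (nat_lit 28783893))))) (BT.node (nat_lit 11776064) (BT.node (nat_lit 11775936) (BT.node (nat_lit 11775872) (BT.leaf (nat_lit 49809925)) (BT.leaf (nat_lit 36458001))) (BT.node (nat_lit 11776000) (BT.leaf (nat_lit 47111953)) (BT.leaf (nat_lit 47963425)))) (BT.node (nat_lit 11776192) (BT.node (nat_lit 11776128) (BT.leaf (nat_lit 28787985)) (BT.leaf (nat_lit 36704533))) (BT.node (nat_lit 11776256) (BT.leaf (nat_lit 46652945)) (BT.leaf (nat_lit 41136417)))))) (BT.node (nat_lit 11777344) (BT.node (nat_lit 11776960) (BT.node (nat_lit 11776640) (BT.node (nat_lit 11776384) (BT.leaf (nat_lit 40132113)) (BT.leaf (nat_lit 28797445))) (BT.node (nat_lit 11776832) (BT.leaf (nat_lit 51096865)) (BT.leaf (nat_lit 35846677)))) (BT.node (nat_lit 11777152) (BT.node (nat_lit 11777024) (BT.leaf (nat_lit 47656709)) (BT.leaf (nat_lit 28801301))) (BT.node (nat_lit 11777216) (BT.leaf (nat_lit 36972565)) (BT.leaf (nat_lit 52064289))))) (BT.node (nat_lit 11777984) (BT.node (nat_lit 11777728) (BT.node (nat_lit 11777472) (BT.leaf (nat_lit 28805141)) (BT.leaf (nat_lit 50391573))) (BT.node (nat_lit 11777856) (BT.leaf (nat_lit 52088069)) (BT.leaf (nat_lit 34107677)))) (BT.node (nat_lit 11778112) (BT.node (nat_lit 11778056) (BT.leaf (nat_lit 47973893)) (BT.leaf (nat_lit 741308))) (BT.node (nat_lit 11778240) (BT.leaf (nat_lit 28808477)) (BT.leaf (nat_lit 28809233))))))))) (BT.node (nat_lit 11782912) (BT.node (nat_lit 11780743) (BT.node (nat_lit 11779456) (BT.node (nat_lit 11779008) (BT.node (nat_lit 11778752) (BT.node (nat_lit 11778624) (BT.node (nat_lit 11778496) (BT.leaf (nat_lit 28811029)) (BT.leaf (nat_lit 28811537))) (BT.node (nat_lit 11778688) (BT.leaf (nat_lit 28812309)) (BT.leaf (nat_lit 47713797)))) (BT.node (nat_lit 11778880) (BT.node (nat_lit 11778816) (BT.leaf (nat_lit 46439697)) (BT.leaf (nat_lit 47125013))) (BT.node (nat_lit 11778944) (BT.leaf (nat_lit 28813845)) (BT.leaf (nat_lit 41126409))))) (BT.node (nat_lit 11779264) (BT.node (nat_lit 11779136) (BT.node (nat_lit 11779072) (BT.leaf (nat_lit 33908765)) (BT.leaf (nat_lit 28816405))) (BT.node (nat_lit 11779200) (BT.leaf (nat_lit 28816409)) (BT.leaf (nat_lit 28816413)))) (BT.node (nat_lit 11779328) (BT.node (nat_lit 11779266) (BT.leaf (nat_lit 29545501)) (BT.leaf (nat_lit 742672))) (BT.node (nat_lit 11779392) (BT.leaf (nat_lit 35328013)) (BT.leaf (nat_lit 33876749)))))) (BT.node (nat_lit 11780037) (BT.node (nat_lit 11779776) (BT.node (nat_lit 11779648) (BT.node (nat_lit 11779520) (BT.leaf (nat_lit 28819213)) (BT.leaf (nat_lit 34808069))) (BT.node (nat_lit 11779712) (BT.leaf (nat_lit 28819225)) (BT.leaf (nat_lit 28819229)))) (BT.node (nat_lit 11779968) (BT.node (nat_lit 11779904) (BT.leaf (nat_lit 35854101)) (BT.leaf (nat_lit 28820753))) (BT.node (nat_lit 11780032) (BT.leaf (nat_lit 34887709)) (BT.leaf (nat_lit 50455057))))) (BT.node (nat_lit 11780416) (BT.node (nat_lit 11780160) (BT.node (nat_lit 11780039) (BT.leaf (nat_lit 788496)) (BT.leaf (nat_lit 782964))) (BT.node (nat_lit 11780352) (BT.leaf (nat_lit 34182173)) (BT.leaf (nat_lit 51537433)))) (BT.node (nat_lit 11780672) (BT.node (nat_lit 11780480) (BT.leaf (nat_lit 28824085)) (BT.leaf (nat_lit 28824325))) (BT.node (nat_lit 11780736) (BT.leaf (nat_lit 28825109)) (BT.leaf (nat_lit 47558165))))))) (BT.node (nat_lit 11781824) (BT.node (nat_lit 11781312) (BT.node (nat_lit 11780992) (BT.node (nat_lit 11780800) (BT.node (nat_lit 11780744) (BT.leaf (nat_lit 750036)) (BT.leaf (nat_lit 750036))) (BT.node (nat_lit 11780928) (BT.leaf (nat_lit 46256409)) (BT.leaf (nat_lit 28826389)))) (BT.node (nat_lit 11781120) (BT.node (nat_lit 11781056) (BT.leaf (nat_lit 32536069)) (BT.leaf (nat_lit 28828937))) (BT.node (nat_lit 11781248) (BT.leaf (nat_lit 28828945)) (BT.leaf (nat_lit 28828961))))) (BT.node (nat_lit 11781568) (BT.node (nat_lit 11781440) (BT.node (nat_lit 11781376) (BT.leaf (nat_lit 28829205)) (BT.leaf (nat_lit 47357445))) (BT.node (nat_lit 11781504) (BT.leaf (nat_lit 48348693)) (BT.leaf (nat_lit 46529557)))) (BT.node (nat_lit 11781696) (BT.node (nat_lit 11781632) (BT.leaf (nat_lit 32102921)) (BT.leaf (nat_lit 46328837))) (BT.node (nat_lit 11781760) (BT.leaf (nat_lit 40093729)) (BT.leaf (nat_lit 36428297)))))) (BT.node (nat_lit 11782400) (BT.node (nat_lit 11782144) (BT.node (nat_lit 11781952) (BT.node (nat_lit 11781888) (BT.leaf (nat_lit 28834577)) (BT.leaf (nat_lit 48019717))) (BT.node (nat_lit 11782080) (BT.leaf (nat_lit 47015201)) (BT.leaf (nat_lit 51591713)))) (BT.node (nat_lit 11782272) (BT.node (nat_lit 11782208) (BT.leaf (nat_lit 51723805)) (BT.leaf (nat_lit 31047429))) (BT.node (nat_lit 11782336) (BT.leaf (nat_lit 49646621)) (BT.leaf (nat_lit 28838165))))) (BT.node (nat_lit 11782656) (BT.node (nat_lit 11782528) (BT.node (nat_lit 11782464) (BT.leaf (nat_lit 52265233)) (BT.leaf (nat_lit 33747725))) (BT.node (nat_lit 11782592) (BT.leaf (nat_lit 50188813)) (BT.leaf (nat_lit 28839189)))) (BT.node (nat_lit 11782784) (BT.node (nat_lit 11782720) (BT.leaf (nat_lit 31789573)) (BT.leaf (nat_lit 40369669))) (BT.node (nat_lit 11782848) (BT.leaf (nat_lit 28839457)) (BT.leaf (nat_lit 40193033)))))))) (BT.node (nat_lit 11785600) (BT.node (nat_lit 11784256) (BT.node (nat_lit 11783552) (BT.node (nat_lit 11783168) (BT.node (nat_lit 11783040) (BT.node (nat_lit 11782976) (BT.leaf (nat_lit 50516237)) (BT.leaf (nat_lit 28840725))) (BT.node (nat_lit 11783104) (BT.leaf (nat_lit 28840733)) (BT.leaf (nat_lit 34561541)))) (BT.node (nat_lit 11783296) (BT.node (nat_lit 11783232) (BT.leaf (nat_lit 28960005)) (BT.leaf (nat_lit 28960545))) (BT.node (nat_lit 11783488) (BT.leaf (nat_lit 28843809)) (BT.leaf (nat_lit 47181857))))) (BT.node (nat_lit 11784000) (BT.node (nat_lit 11783808) (BT.node (nat_lit 11783744) (BT.leaf (nat_lit 50667781)) (BT.leaf (nat_lit 38866205))) (BT.node (nat_lit 11783872) (BT.leaf (nat_lit 28852997)) (BT.leaf (nat_lit 47770385)))) (BT.node (nat_lit 11784128) (BT.node (nat_lit 11784064) (BT.leaf (nat_lit 28854025)) (BT.leaf (nat_lit 39546389))) (BT.node (nat_lit 11784192) (BT.leaf (nat_lit 28855569)) (BT.leaf (nat_lit 28855829)))))) (BT.node (nat_lit 11785024) (BT.node (nat_lit 11784768) (BT.node (nat_lit 11784576) (BT.node (nat_lit 11784384) (BT.leaf (nat_lit 28856085)) (BT.leaf (nat_lit 28856857))) (BT.node (nat_lit 11784640) (BT.leaf (nat_lit 36797213)) (BT.leaf (nat_lit 39144725)))) (BT.node (nat_lit 11784896) (BT.node (nat_lit 11784832) (BT.leaf (nat_lit 28863761)) (BT.leaf (nat_lit 35859473))) (BT.node (nat_lit 11784960) (BT.leaf (nat_lit 49753365)) (BT.leaf (nat_lit 50423557))))) (BT.node (nat_lit 11785344) (BT.node (nat_lit 11785152) (BT.node (nat_lit 11785088) (BT.leaf (nat_lit 35617293)) (BT.leaf (nat_lit 36723481))) (BT.node (nat_lit 11785216) (BT.leaf (nat_lit 28866325)) (BT.leaf (nat_lit 28866581)))) (BT.node (nat_lit 11785472) (BT.node (nat_lit 11785408) (BT.leaf (nat_lit 32780301)) (BT.leaf (nat_lit 34141445))) (BT.node (nat_lit 11785536) (BT.leaf (nat_lit 47731461)) (BT.leaf (nat_lit 28871705))))))) (BT.node (nat_lit 11786816) (BT.node (nat_lit 11786304) (BT.node (nat_lit 11785920) (BT.node (nat_lit 11785792) (BT.node (nat_lit 11785728) (BT.leaf (nat_lit 34443553)) (BT.leaf (nat_lit 50823457))) (BT.node (nat_lit 11785856) (BT.leaf (nat_lit 50729733)) (BT.leaf (nat_lit 28876053)))) (BT.node (nat_lit 11786048) (BT.node (nat_lit 11785984) (BT.leaf (nat_lit 28876313)) (BT.leaf (nat_lit 28876317))) (BT.node (nat_lit 11786112) (BT.leaf (nat_lit 28876565)) (BT.leaf (nat_lit 33548817))))) (BT.node (nat_lit 11786560) (BT.node (nat_lit 11786432) (BT.node (nat_lit 11786368) (BT.leaf (nat_lit 33572125)) (BT.leaf (nat_lit 28878357))) (BT.node (nat_lit 11786496) (BT.leaf (nat_lit 40204297)) (BT.leaf (nat_lit 28879381)))) (BT.node (nat_lit 11786688) (BT.node (nat_lit 11786624) (BT.leaf (nat_lit 47146525)) (BT.leaf (nat_lit 49628693))) (BT.node (nat_lit 11786752) (BT.leaf (nat_lit 28880417)) (BT.leaf (nat_lit 37666321)))))) (BT.node (nat_lit 11787520) (BT.node (nat_lit 11787136) (BT.node (nat_lit 11786944) (BT.node (nat_lit 11786880) (BT.leaf (nat_lit 35317529)) (BT.leaf (nat_lit 37345541))) (BT.node (nat_lit 11787008) (BT.leaf (nat_lit 28885273)) (BT.leaf (nat_lit 31570949)))) (BT.node (nat_lit 11787392) (BT.node (nat_lit 11787328) (BT.leaf (nat_lit 47607829)) (BT.leaf (nat_lit 28887577))) (BT.node (nat_lit 11787456) (BT.leaf (nat_lit 30000405)) (BT.leaf (nat_lit 30000409))))) (BT.node (nat_lit 11787776) (BT.node (nat_lit 11787648) (BT.node (nat_lit 11787584) (BT.leaf (nat_lit 30000413)) (BT.leaf (nat_lit 33083669))) (BT.node (nat_lit 11787652) (BT.leaf (nat_lit 47120673)) (BT.leaf (nat_lit 750460)))) (BT.node (nat_lit 11787904) (BT.node (nat_lit 11787840) (BT.leaf (nat_lit 28891413)) (BT.leaf (nat_lit 46808069))) (BT.node (nat_lit 11787968) (BT.leaf (nat_lit 36224265)) (BT.leaf (nat_lit 47806229)))))))))) (BT.node (nat_lit 11796736) (BT.node (nat_lit 11792384) (BT.node (nat_lit 11790272) (BT.node (nat_lit 11789056) (BT.node (nat_lit 11788544) (BT.node (nat_lit 11788288) (BT.node (nat_lit 11788160) (BT.node (nat_lit 11788096) (BT.leaf (nat_lit 47602197)) (BT.leaf (nat_lit 28893973))) (BT.node (nat_lit 11788224) (BT.leaf (nat_lit 28895249)) (BT.leaf (nat_lit 28897553)))) (BT.node (nat_lit 11788416) (BT.node (nat_lit 11788352) (BT.leaf (nat_lit 44488737)) (BT.leaf (nat_lit 28896797))) (BT.node (nat_lit 11788480) (BT.leaf (nat_lit 28897029)) (BT.leaf (nat_lit 28897045))))) (BT.node (nat_lit 11788800) (BT.node (nat_lit 11788672) (BT.node (nat_lit 11788608) (BT.leaf (nat_lit 47154445)) (BT.leaf (nat_lit 42674453))) (BT.node (nat_lit 11788736) (BT.leaf (nat_lit 33555477)) (BT.leaf (nat_lit 49997077)))) (BT.node (nat_lit 11788928) (BT.node (nat_lit 11788864) (BT.leaf (nat_lit 28899589)) (BT.leaf (nat_lit 41633817))) (BT.node (nat_lit 11788992) (BT.leaf (nat_lit 49655317)) (BT.leaf (nat_lit 28904225)))))) (BT.node (nat_lit 11789568) (BT.node (nat_lit 11789312) (BT.node (nat_lit 11789184) (BT.node (nat_lit 11789120) (BT.leaf (nat_lit 32544541)) (BT.leaf (nat_lit 28906257))) (BT.node (nat_lit 11789248) (BT.leaf (nat_lit 28906517)) (BT.leaf (nat_lit 28907281)))) (BT.node (nat_lit 11789440) (BT.node (nat_lit 11789376) (BT.leaf (nat_lit 46968865)) (BT.leaf (nat_lit 50949381))) (BT.node (nat_lit 11789504) (BT.leaf (nat_lit 48788229)) (BT.leaf (nat_lit 34901765))))) (BT.node (nat_lit 11789888) (BT.node (nat_lit 11789760) (BT.node (nat_lit 11789696) (BT.leaf (nat_lit 34901773)) (BT.leaf (nat_lit 47146013))) (BT.node (nat_lit 11789824) (BT.leaf (nat_lit 28919057)) (BT.leaf (nat_lit 28919313)))) (BT.node (nat_lit 11790016) (BT.node (nat_lit 11789952) (BT.leaf (nat_lit 38404885)) (BT.leaf (nat_lit 34843401))) (BT.node (nat_lit 11790144) (BT.leaf (nat_lit 38407437)) (BT.leaf (nat_lit 28920333))))))) (BT.node (nat_lit 11791296) (BT.node (nat_lit 11790784) (BT.node (nat_lit 11790464) (BT.node (nat_lit 11790336) (BT.node (nat_lit 11790280) (BT.leaf (nat_lit 40254997)) (BT.leaf (nat_lit 764332))) (BT.node (nat_lit 11790400) (BT.leaf (nat_lit 31763985)) (BT.leaf (nat_lit 31764001)))) (BT.node (nat_lit 11790592) (BT.node (nat_lit 11790528) (BT.leaf (nat_lit 35795989)) (BT.leaf (nat_lit 28924933))) (BT.node (nat_lit 11790720) (BT.leaf (nat_lit 32263701)) (BT.leaf (nat_lit 33579269))))) (BT.node (nat_lit 11791040) (BT.node (nat_lit 11790912) (BT.node (nat_lit 11790848) (BT.leaf (nat_lit 49669905)) (BT.leaf (nat_lit 28931865))) (BT.node (nat_lit 11790976) (BT.leaf (nat_lit 28931869)) (BT.leaf (nat_lit 34458653)))) (BT.node (nat_lit 11791173) (BT.node (nat_lit 11791104) (BT.leaf (nat_lit 33873165)) (BT.leaf (nat_lit 48598553))) (BT.node (nat_lit 11791232) (BT.leaf (nat_lit 807412)) (BT.leaf (nat_lit 33573137)))))) (BT.node (nat_lit 11791808) (BT.node (nat_lit 11791552) (BT.node (nat_lit 11791424) (BT.node (nat_lit 11791360) (BT.leaf (nat_lit 29735449)) (BT.leaf (nat_lit 39589641))) (BT.node (nat_lit 11791488) (BT.leaf (nat_lit 29735437)) (BT.leaf (nat_lit 28936993)))) (BT.node (nat_lit 11791744) (BT.node (nat_lit 11791680) (BT.leaf (nat_lit 28937745)) (BT.leaf (nat_lit 28939025))) (BT.node (nat_lit 11791751) (BT.leaf (nat_lit 47432197)) (BT.leaf (nat_lit 806028))))) (BT.node (nat_lit 11792064) (BT.node (nat_lit 11791936) (BT.node (nat_lit 11791872) (BT.leaf (nat_lit 28940821)) (BT.leaf (nat_lit 28940573))) (BT.node (nat_lit 11792000) (BT.leaf (nat_lit 28940829)) (BT.leaf (nat_lit 33588753)))) (BT.node (nat_lit 11792192) (BT.node (nat_lit 11792128) (BT.leaf (nat_lit 28941081)) (BT.leaf (nat_lit 28941085))) (BT.node (nat_lit 11792320) (BT.leaf (nat_lit 28941841)) (BT.leaf (nat_lit 28960021)))))))) (BT.node (nat_lit 11794688) (BT.node (nat_lit 11793472) (BT.node (nat_lit 11792960) (BT.node (nat_lit 11792704) (BT.node (nat_lit 11792576) (BT.node (nat_lit 11792448) (BT.leaf (nat_lit 48951561)) (BT.leaf (nat_lit 31413013))) (BT.node (nat_lit 11792640) (BT.leaf (nat_lit 28945169)) (BT.leaf (nat_lit 40912397)))) (BT.node (nat_lit 11792832) (BT.node (nat_lit 11792768) (BT.leaf (nat_lit 51586053)) (BT.leaf (nat_lit 28950037))) (BT.node (nat_lit 11792896) (BT.leaf (nat_lit 50737685)) (BT.leaf (nat_lit 51592985))))) (BT.node (nat_lit 11793216) (BT.node (nat_lit 11793088) (BT.node (nat_lit 11793024) (BT.leaf (nat_lit 51993105)) (BT.leaf (nat_lit 50737441))) (BT.node (nat_lit 11793152) (BT.leaf (nat_lit 28953365)) (BT.leaf (nat_lit 28953369)))) (BT.node (nat_lit 11793344) (BT.node (nat_lit 11793280) (BT.leaf (nat_lit 46927893)) (BT.leaf (nat_lit 46927645))) (BT.node (nat_lit 11793408) (BT.leaf (nat_lit 28955409)) (BT.leaf (nat_lit 37333277)))))) (BT.node (nat_lit 11794048) (BT.node (nat_lit 11793792) (BT.node (nat_lit 11793664) (BT.node (nat_lit 11793536) (BT.leaf (nat_lit 50209041)) (BT.leaf (nat_lit 36695569))) (BT.node (nat_lit 11793728) (BT.leaf (nat_lit 46693141)) (BT.leaf (nat_lit 45251085)))) (BT.node (nat_lit 11793920) (BT.node (nat_lit 11793856) (BT.leaf (nat_lit 28957957)) (BT.leaf (nat_lit 34999313))) (BT.node (nat_lit 11793984) (BT.leaf (nat_lit 34602001)) (BT.leaf (nat_lit 28958493))))) (BT.node (nat_lit 11794304) (BT.node (nat_lit 11794176) (BT.node (nat_lit 11794112) (BT.leaf (nat_lit 31802373)) (BT.leaf (nat_lit 49741845))) (BT.node (nat_lit 11794240) (BT.leaf (nat_lit 28959501)) (BT.leaf (nat_lit 28959493)))) (BT.node (nat_lit 11794432) (BT.node (nat_lit 11794368) (BT.leaf (nat_lit 51831825)) (BT.leaf (nat_lit 28960525))) (BT.node (nat_lit 11794560) (BT.leaf (nat_lit 28960521)) (BT.leaf (nat_lit 28960781))))))) (BT.node (nat_lit 11795776) (BT.node (nat_lit 11795200) (BT.node (nat_lit 11794944) (BT.node (nat_lit 11794816) (BT.node (nat_lit 11794752) (BT.leaf (nat_lit 33575437)) (BT.leaf (nat_lit 33574917))) (BT.node (nat_lit 11794880) (BT.leaf (nat_lit 52250117)) (BT.leaf (nat_lit 47179289)))) (BT.node (nat_lit 11795008) (BT.node (nat_lit 11794949) (BT.leaf (nat_lit 48892685)) (BT.leaf (nat_lit 763936))) (BT.node (nat_lit 11795136) (BT.leaf (nat_lit 31723549)) (BT.leaf (nat_lit 35364869))))) (BT.node (nat_lit 11795456) (BT.node (nat_lit 11795328) (BT.node (nat_lit 11795264) (BT.leaf (nat_lit 32941341)) (BT.leaf (nat_lit 28963605))) (BT.node (nat_lit 11795392) (BT.leaf (nat_lit 29624073)) (BT.leaf (nat_lit 28966673)))) (BT.node (nat_lit 11795648) (BT.node (nat_lit 11795584) (BT.leaf (nat_lit 34708753)) (BT.leaf (nat_lit 28968721))) (BT.node (nat_lit 11795712) (BT.leaf (nat_lit 28969489)) (BT.leaf (nat_lit 28970773)))))) (BT.node (nat_lit 11796288) (BT.node (nat_lit 11796032) (BT.node (nat_lit 11795904) (BT.node (nat_lit 11795840) (BT.leaf (nat_lit 34607369)) (BT.leaf (nat_lit 28973845))) (BT.node (nat_lit 11795968) (BT.leaf (nat_lit 28973849)) (BT.leaf (nat_lit 28975641)))) (BT.node (nat_lit 11796160) (BT.node (nat_lit 11796096) (BT.leaf (nat_lit 28975645)) (BT.leaf (nat_lit 28975885))) (BT.node (nat_lit 11796224) (BT.leaf (nat_lit 50634273)) (BT.leaf (nat_lit 28976657))))) (BT.node (nat_lit 11796480) (BT.node (nat_lit 11796359) (BT.node (nat_lit 11796352) (BT.leaf (nat_lit 28977669)) (BT.leaf (nat_lit 28979221))) (BT.node (nat_lit 11796416) (BT.leaf (nat_lit 766808)) (BT.leaf (nat_lit 28979485)))) (BT.node (nat_lit 11796608) (BT.node (nat_lit 11796544) (BT.leaf (nat_lit 28979985)) (BT.leaf (nat_lit 28980233))) (BT.node (nat_lit 11796672) (BT.leaf (nat_lit 29199133)) (BT.leaf (nat_lit 44725253))))))))) (BT.node (nat_lit 11801344) (BT.node (nat_lit 11798912) (BT.node (nat_lit 11797824) (BT.node (nat_lit 11797248) (BT.node (nat_lit 11796992) (BT.node (nat_lit 11796864) (BT.node (nat_lit 11796800) (BT.leaf (nat_lit 41487633)) (BT.leaf (nat_lit 29197849))) (BT.node (nat_lit 11796928) (BT.leaf (nat_lit 29093409)) (BT.leaf (nat_lit 28983837)))) (BT.node (nat_lit 11797120) (BT.node (nat_lit 11797056) (BT.leaf (nat_lit 48953605)) (BT.leaf (nat_lit 48954117))) (BT.node (nat_lit 11797184) (BT.leaf (nat_lit 28984609)) (BT.leaf (nat_lit 28984857))))) (BT.node (nat_lit 11797504) (BT.node (nat_lit 11797376) (BT.node (nat_lit 11797312) (BT.leaf (nat_lit 28985617)) (BT.leaf (nat_lit 33878801))) (BT.node (nat_lit 11797440) (BT.leaf (nat_lit 28986641)) (BT.leaf (nat_lit 31036945)))) (BT.node (nat_lit 11797632) (BT.node (nat_lit 11797568) (BT.leaf (nat_lit 34085649)) (BT.leaf (nat_lit 31362821))) (BT.node (nat_lit 11797696) (BT.leaf (nat_lit 33579537)) (BT.leaf (nat_lit 31362845)))))) (BT.node (nat_lit 11798336) (BT.node (nat_lit 11798080) (BT.node (nat_lit 11797952) (BT.node (nat_lit 11797888) (BT.leaf (nat_lit 28988185)) (BT.leaf (nat_lit 28990241))) (BT.node (nat_lit 11798016) (BT.leaf (nat_lit 47834629)) (BT.leaf (nat_lit 47834645)))) (BT.node (nat_lit 11798208) (BT.node (nat_lit 11798144) (BT.leaf (nat_lit 28992009)) (BT.leaf (nat_lit 33579533))) (BT.node (nat_lit 11798272) (BT.leaf (nat_lit 47193101)) (BT.leaf (nat_lit 33579797))))) (BT.node (nat_lit 11798592) (BT.node (nat_lit 11798464) (BT.node (nat_lit 11798400) (BT.leaf (nat_lit 28995857)) (BT.leaf (nat_lit 29000721))) (BT.node (nat_lit 11798528) (BT.leaf (nat_lit 28997141)) (BT.leaf (nat_lit 51254545)))) (BT.node (nat_lit 11798720) (BT.node (nat_lit 11798656) (BT.leaf (nat_lit 29627161)) (BT.leaf (nat_lit 29627169))) (BT.node (nat_lit 11798848) (BT.leaf (nat_lit 28997909)) (BT.leaf (nat_lit 33582085))))))) (BT.node (nat_lit 11800000) (BT.node (nat_lit 11799360) (BT.node (nat_lit 11799040) (BT.node (nat_lit 11798918) (BT.node (nat_lit 11798914) (BT.leaf (nat_lit 28998421)) (BT.leaf (nat_lit 741548))) (BT.node (nat_lit 11798976) (BT.leaf (nat_lit 741548)) (BT.leaf (nat_lit 49781017)))) (BT.node (nat_lit 11799232) (BT.node (nat_lit 11799104) (BT.leaf (nat_lit 49781021)) (BT.leaf (nat_lit 28999185))) (BT.node (nat_lit 11799296) (BT.leaf (nat_lit 33581857)) (BT.leaf (nat_lit 28999441))))) (BT.node (nat_lit 11799616) (BT.node (nat_lit 11799488) (BT.node (nat_lit 11799424) (BT.leaf (nat_lit 29000473)) (BT.leaf (nat_lit 33586205))) (BT.node (nat_lit 11799552) (BT.leaf (nat_lit 33586185)) (BT.leaf (nat_lit 29000733)))) (BT.node (nat_lit 11799744) (BT.node (nat_lit 11799680) (BT.leaf (nat_lit 29000981)) (BT.leaf (nat_lit 29002005))) (BT.node (nat_lit 11799808) (BT.leaf (nat_lit 31832069)) (BT.leaf (nat_lit 29002509)))))) (BT.node (nat_lit 11800640) (BT.node (nat_lit 11800384) (BT.node (nat_lit 11800256) (BT.node (nat_lit 11800064) (BT.leaf (nat_lit 39550485)) (BT.leaf (nat_lit 48287249))) (BT.node (nat_lit 11800320) (BT.leaf (nat_lit 46178325)) (BT.leaf (nat_lit 47200289)))) (BT.node (nat_lit 11800512) (BT.node (nat_lit 11800448) (BT.leaf (nat_lit 29004317)) (BT.leaf (nat_lit 29004821))) (BT.node (nat_lit 11800576) (BT.leaf (nat_lit 29006869)) (BT.leaf (nat_lit 29007125))))) (BT.node (nat_lit 11801088) (BT.node (nat_lit 11800768) (BT.node (nat_lit 11800704) (BT.leaf (nat_lit 29008145)) (BT.leaf (nat_lit 38035477))) (BT.node (nat_lit 11800832) (BT.leaf (nat_lit 38035481)) (BT.leaf (nat_lit 38035485)))) (BT.node (nat_lit 11801216) (BT.node (nat_lit 11801152) (BT.leaf (nat_lit 48668945)) (BT.leaf (nat_lit 29010961))) (BT.node (nat_lit 11801280) (BT.leaf (nat_lit 29011229)) (BT.leaf (nat_lit 29013273)))))))) (BT.node (nat_lit 11803840) (BT.node (nat_lit 11802752) (BT.node (nat_lit 11802048) (BT.node (nat_lit 11801664) (BT.node (nat_lit 11801472) (BT.node (nat_lit 11801408) (BT.leaf (nat_lit 29013277)) (BT.leaf (nat_lit 30945045))) (BT.node (nat_lit 11801600) (BT.leaf (nat_lit 35370013)) (BT.leaf (nat_lit 34301705)))) (BT.node (nat_lit 11801792) (BT.node (nat_lit 11801728) (BT.leaf (nat_lit 31159061)) (BT.leaf (nat_lit 29016341))) (BT.node (nat_lit 11801860) (BT.leaf (nat_lit 51143457)) (BT.leaf (nat_lit 819108))))) (BT.node (nat_lit 11802432) (BT.node (nat_lit 11802176) (BT.node (nat_lit 11802112) (BT.leaf (nat_lit 46862097)) (BT.leaf (nat_lit 29019157))) (BT.node (nat_lit 11802304) (BT.leaf (nat_lit 29020437)) (BT.leaf (nat_lit 29020445)))) (BT.node (nat_lit 11802560) (BT.node (nat_lit 11802496) (BT.leaf (nat_lit 32449553)) (BT.leaf (nat_lit 50821917))) (BT.node (nat_lit 11802688) (BT.leaf (nat_lit 29023253)) (BT.leaf (nat_lit 29708557)))))) (BT.node (nat_lit 11803392) (BT.node (nat_lit 11803136) (BT.node (nat_lit 11802880) (BT.node (nat_lit 11802816) (BT.leaf (nat_lit 29445141)) (BT.leaf (nat_lit 29445145))) (BT.node (nat_lit 11802944) (BT.leaf (nat_lit 30541597)) (BT.leaf (nat_lit 29026065)))) (BT.node (nat_lit 11803264) (BT.node (nat_lit 11803200) (BT.leaf (nat_lit 29026333)) (BT.leaf (nat_lit 29026577))) (BT.node (nat_lit 11803328) (BT.leaf (nat_lit 29027349)) (BT.leaf (nat_lit 33623049))))) (BT.node (nat_lit 11803525) (BT.node (nat_lit 11803461) (BT.node (nat_lit 11803456) (BT.leaf (nat_lit 48022797)) (BT.leaf (nat_lit 47682081))) (BT.node (nat_lit 11803520) (BT.leaf (nat_lit 739524)) (BT.leaf (nat_lit 47681825)))) (BT.node (nat_lit 11803712) (BT.node (nat_lit 11803584) (BT.leaf (nat_lit 783112)) (BT.leaf (nat_lit 29028125))) (BT.node (nat_lit 11803776) (BT.leaf (nat_lit 29212689)) (BT.leaf (nat_lit 29029137))))))) (BT.node (nat_lit 11804992) (BT.node (nat_lit 11804352) (BT.node (nat_lit 11804096) (BT.node (nat_lit 11803968) (BT.node (nat_lit 11803904) (BT.leaf (nat_lit 29029405)) (BT.leaf (nat_lit 47023365))) (BT.node (nat_lit 11804032) (BT.leaf (nat_lit 49725729)) (BT.leaf (nat_lit 49685789)))) (BT.node (nat_lit 11804224) (BT.node (nat_lit 11804160) (BT.leaf (nat_lit 47216137)) (BT.leaf (nat_lit 29031697))) (BT.node (nat_lit 11804288) (BT.leaf (nat_lit 49685773)) (BT.leaf (nat_lit 47216921))))) (BT.node (nat_lit 11804672) (BT.node (nat_lit 11804544) (BT.node (nat_lit 11804480) (BT.leaf (nat_lit 46175009)) (BT.leaf (nat_lit 29036829))) (BT.node (nat_lit 11804608) (BT.leaf (nat_lit 29036809)) (BT.leaf (nat_lit 42530585)))) (BT.node (nat_lit 11804864) (BT.node (nat_lit 11804800) (BT.leaf (nat_lit 29037073)) (BT.leaf (nat_lit 41702153))) (BT.node (nat_lit 11804928) (BT.leaf (nat_lit 29037581)) (BT.leaf (nat_lit 29037845)))))) (BT.node (nat_lit 11805568) (BT.node (nat_lit 11805184) (BT.node (nat_lit 11805060) (BT.node (nat_lit 11805056) (BT.leaf (nat_lit 29037593)) (BT.leaf (nat_lit 29038613))) (BT.node (nat_lit 11805120) (BT.leaf (nat_lit 766940)) (BT.leaf (nat_lit 46686753)))) (BT.node (nat_lit 11805312) (BT.node (nat_lit 11805248) (BT.leaf (nat_lit 47621133)) (BT.leaf (nat_lit 29690645))) (BT.node (nat_lit 11805376) (BT.leaf (nat_lit 29039129)) (BT.leaf (nat_lit 29705237))))) (BT.node (nat_lit 11805824) (BT.node (nat_lit 11805696) (BT.node (nat_lit 11805632) (BT.leaf (nat_lit 29040917)) (BT.leaf (nat_lit 29041173))) (BT.node (nat_lit 11805760) (BT.leaf (nat_lit 29041437)) (BT.leaf (nat_lit 31760673)))) (BT.node (nat_lit 11806016) (BT.node (nat_lit 11805888) (BT.leaf (nat_lit 29042961)) (BT.leaf (nat_lit 41722653))) (BT.node (nat_lit 11806080) (BT.leaf (nat_lit 35763985)) (BT.leaf (nat_lit 47224089))))))))))) (BT.node (nat_lit 11824768) (BT.node (nat_lit 11815168) (BT.node (nat_lit 11810496) (BT.node (nat_lit 11808384) (BT.node (nat_lit 11807168) (BT.node (nat_lit 11806656) (BT.node (nat_lit 11806400) (BT.node (nat_lit 11806272) (BT.node (nat_lit 11806208) (BT.leaf (nat_lit 50115353)) (BT.leaf (nat_lit 49631761))) (BT.node (nat_lit 11806336) (BT.leaf (nat_lit 33595157)) (BT.leaf (nat_lit 29044761)))) (BT.node (nat_lit 11806528) (BT.node (nat_lit 11806464) (BT.leaf (nat_lit 29045265)) (BT.leaf (nat_lit 51790101))) (BT.node (nat_lit 11806592) (BT.leaf (nat_lit 37551125)) (BT.leaf (nat_lit 29144593))))) (BT.node (nat_lit 11806848) (BT.node (nat_lit 11806784) (BT.node (nat_lit 11806720) (BT.leaf (nat_lit 47161121)) (BT.leaf (nat_lit 40547349))) (BT.node (nat_lit 11806791) (BT.leaf (nat_lit 33861137)) (BT.leaf (nat_lit 802648)))) (BT.node (nat_lit 11807040) (BT.node (nat_lit 11806976) (BT.leaf (nat_lit 32612641)) (BT.leaf (nat_lit 29051413))) (BT.node (nat_lit 11807104) (BT.leaf (nat_lit 47228961)) (BT.leaf (nat_lit 50652705)))))) (BT.node (nat_lit 11807744) (BT.node (nat_lit 11807424) (BT.node (nat_lit 11807296) (BT.node (nat_lit 11807232) (BT.leaf (nat_lit 51023393)) (BT.leaf (nat_lit 29052181))) (BT.node (nat_lit 11807360) (BT.leaf (nat_lit 34776865)) (BT.leaf (nat_lit 30573857)))) (BT.node (nat_lit 11807616) (BT.node (nat_lit 11807552) (BT.leaf (nat_lit 29052693)) (BT.leaf (nat_lit 51127813))) (BT.node (nat_lit 11807680) (BT.leaf (nat_lit 29056017)) (BT.leaf (nat_lit 29056265))))) (BT.node (nat_lit 11808000) (BT.node (nat_lit 11807872) (BT.node (nat_lit 11807808) (BT.leaf (nat_lit 29056269)) (BT.leaf (nat_lit 29056281))) (BT.node (nat_lit 11807936) (BT.leaf (nat_lit 29056285)) (BT.leaf (nat_lit 50596885)))) (BT.node (nat_lit 11808128) (BT.node (nat_lit 11808064) (BT.leaf (nat_lit 29060113)) (BT.leaf (nat_lit 47231509))) (BT.node (nat_lit 11808192) (BT.leaf (nat_lit 47231253)) (BT.leaf (nat_lit 47231005))))))) (BT.node (nat_lit 11809472) (BT.node (nat_lit 11809024) (BT.node (nat_lit 11808768) (BT.node (nat_lit 11808640) (BT.node (nat_lit 11808448) (BT.leaf (nat_lit 49830421)) (BT.leaf (nat_lit 29070865))) (BT.node (nat_lit 11808704) (BT.leaf (nat_lit 29071121)) (BT.leaf (nat_lit 47731205)))) (BT.node (nat_lit 11808896) (BT.node (nat_lit 11808832) (BT.leaf (nat_lit 29071633)) (BT.leaf (nat_lit 29071645))) (BT.node (nat_lit 11808960) (BT.leaf (nat_lit 29073929)) (BT.leaf (nat_lit 40528409))))) (BT.node (nat_lit 11809280) (BT.node (nat_lit 11809152) (BT.node (nat_lit 11809088) (BT.leaf (nat_lit 29073925)) (BT.leaf (nat_lit 29073941))) (BT.node (nat_lit 11809216) (BT.leaf (nat_lit 40963609)) (BT.leaf (nat_lit 38079001)))) (BT.node (nat_lit 11809408) (BT.node (nat_lit 11809344) (BT.leaf (nat_lit 30535969)) (BT.leaf (nat_lit 29076753))) (BT.node (nat_lit 11809413) (BT.leaf (nat_lit 29077529)) (BT.leaf (nat_lit 807256)))))) (BT.node (nat_lit 11809984) (BT.node (nat_lit 11809728) (BT.node (nat_lit 11809600) (BT.node (nat_lit 11809536) (BT.leaf (nat_lit 38808329)) (BT.leaf (nat_lit 46523417))) (BT.node (nat_lit 11809664) (BT.leaf (nat_lit 29081873)) (BT.leaf (nat_lit 37198349)))) (BT.node (nat_lit 11809856) (BT.node (nat_lit 11809792) (BT.leaf (nat_lit 29082137)) (BT.leaf (nat_lit 29082141))) (BT.node (nat_lit 11809920) (BT.leaf (nat_lit 29082645)) (BT.leaf (nat_lit 47239965))))) (BT.node (nat_lit 11810240) (BT.node (nat_lit 11810112) (BT.node (nat_lit 11810048) (BT.leaf (nat_lit 35073545)) (BT.leaf (nat_lit 29082897))) (BT.node (nat_lit 11810176) (BT.leaf (nat_lit 29085461)) (BT.leaf (nat_lit 29297433)))) (BT.node (nat_lit 11810368) (BT.node (nat_lit 11810304) (BT.leaf (nat_lit 29086489)) (BT.leaf (nat_lit 29086493))) (BT.node (nat_lit 11810432) (BT.leaf (nat_lit 50677253)) (BT.leaf (nat_lit 29088533)))))))) (BT.node (nat_lit 11812928) (BT.node (nat_lit 11811712) (BT.node (nat_lit 11811136) (BT.node (nat_lit 11810752) (BT.node (nat_lit 11810624) (BT.node (nat_lit 11810560) (BT.leaf (nat_lit 51539489)) (BT.leaf (nat_lit 51539745))) (BT.node (nat_lit 11810688) (BT.leaf (nat_lit 49009185)) (BT.leaf (nat_lit 49008901)))) (BT.node (nat_lit 11810880) (BT.node (nat_lit 11810816) (BT.leaf (nat_lit 47573529)) (BT.leaf (nat_lit 36590869))) (BT.node (nat_lit 11810944) (BT.leaf (nat_lit 31177489)) (BT.leaf (nat_lit 31177493))))) (BT.node (nat_lit 11811456) (BT.node (nat_lit 11811264) (BT.node (nat_lit 11811200) (BT.leaf (nat_lit 29809429)) (BT.leaf (nat_lit 29809433))) (BT.node (nat_lit 11811328) (BT.leaf (nat_lit 29809437)) (BT.leaf (nat_lit 29090581)))) (BT.node (nat_lit 11811584) (BT.node (nat_lit 11811520) (BT.leaf (nat_lit 39529761)) (BT.leaf (nat_lit 52395801))) (BT.node (nat_lit 11811648) (BT.leaf (nat_lit 29092101)) (BT.leaf (nat_lit 29092117)))))) (BT.node (nat_lit 11812416) (BT.node (nat_lit 11812160) (BT.node (nat_lit 11811840) (BT.node (nat_lit 11811776) (BT.leaf (nat_lit 33671433)) (BT.leaf (nat_lit 52006917))) (BT.node (nat_lit 11812096) (BT.leaf (nat_lit 40515333)) (BT.leaf (nat_lit 47248653)))) (BT.node (nat_lit 11812288) (BT.node (nat_lit 11812224) (BT.leaf (nat_lit 48185877)) (BT.leaf (nat_lit 29095193))) (BT.node (nat_lit 11812352) (BT.leaf (nat_lit 48140045)) (BT.leaf (nat_lit 34903585))))) (BT.node (nat_lit 11812608) (BT.node (nat_lit 11812485) (BT.node (nat_lit 11812480) (BT.leaf (nat_lit 37024785)) (BT.leaf (nat_lit 47723801))) (BT.node (nat_lit 11812544) (BT.leaf (nat_lit 749008)) (BT.leaf (nat_lit 48493065)))) (BT.node (nat_lit 11812800) (BT.node (nat_lit 11812672) (BT.leaf (nat_lit 50387221)) (BT.leaf (nat_lit 50618397))) (BT.node (nat_lit 11812864) (BT.leaf (nat_lit 47866901)) (BT.leaf (nat_lit 29099537))))))) (BT.node (nat_lit 11814016) (BT.node (nat_lit 11813504) (BT.node (nat_lit 11813184) (BT.node (nat_lit 11813056) (BT.node (nat_lit 11812992) (BT.leaf (nat_lit 32964369)) (BT.leaf (nat_lit 29100049))) (BT.node (nat_lit 11813120) (BT.leaf (nat_lit 51168033)) (BT.leaf (nat_lit 29101077)))) (BT.node (nat_lit 11813312) (BT.node (nat_lit 11813248) (BT.leaf (nat_lit 33498897)) (BT.leaf (nat_lit 29101597))) (BT.node (nat_lit 11813440) (BT.leaf (nat_lit 50849797)) (BT.leaf (nat_lit 49943573))))) (BT.node (nat_lit 11813760) (BT.node (nat_lit 11813632) (BT.node (nat_lit 11813568) (BT.leaf (nat_lit 48606469)) (BT.leaf (nat_lit 29103129))) (BT.node (nat_lit 11813696) (BT.leaf (nat_lit 33628689)) (BT.leaf (nat_lit 33628433)))) (BT.node (nat_lit 11813888) (BT.node (nat_lit 11813824) (BT.leaf (nat_lit 48605189)) (BT.leaf (nat_lit 47255065))) (BT.node (nat_lit 11813952) (BT.leaf (nat_lit 33629473)) (BT.leaf (nat_lit 29267217)))))) (BT.node (nat_lit 11814656) (BT.node (nat_lit 11814336) (BT.node (nat_lit 11814144) (BT.node (nat_lit 11814080) (BT.leaf (nat_lit 35712265)) (BT.leaf (nat_lit 35985441))) (BT.node (nat_lit 11814272) (BT.leaf (nat_lit 35683869)) (BT.leaf (nat_lit 29107217)))) (BT.node (nat_lit 11814528) (BT.node (nat_lit 11814400) (BT.leaf (nat_lit 29107985)) (BT.leaf (nat_lit 29108241))) (BT.node (nat_lit 11814592) (BT.leaf (nat_lit 31248145)) (BT.leaf (nat_lit 46318085))))) (BT.node (nat_lit 11814912) (BT.node (nat_lit 11814784) (BT.node (nat_lit 11814720) (BT.leaf (nat_lit 49800197)) (BT.leaf (nat_lit 48277525))) (BT.node (nat_lit 11814848) (BT.leaf (nat_lit 50845985)) (BT.leaf (nat_lit 34641413)))) (BT.node (nat_lit 11815040) (BT.node (nat_lit 11814976) (BT.leaf (nat_lit 46233629)) (BT.leaf (nat_lit 50785313))) (BT.node (nat_lit 11815104) (BT.leaf (nat_lit 43400709)) (BT.leaf (nat_lit 36582933))))))))) (BT.node (nat_lit 11819840) (BT.node (nat_lit 11817216) (BT.node (nat_lit 11816000) (BT.node (nat_lit 11815682) (BT.node (nat_lit 11815488) (BT.node (nat_lit 11815296) (BT.node (nat_lit 11815232) (BT.leaf (nat_lit 39745313)) (BT.leaf (nat_lit 33021205))) (BT.node (nat_lit 11815360) (BT.leaf (nat_lit 48335385)) (BT.leaf (nat_lit 37183497)))) (BT.node (nat_lit 11815616) (BT.node (nat_lit 11815552) (BT.leaf (nat_lit 51995421)) (BT.leaf (nat_lit 37705733))) (BT.node (nat_lit 11815680) (BT.leaf (nat_lit 29118481)) (BT.leaf (nat_lit 32930309))))) (BT.node (nat_lit 11815872) (BT.node (nat_lit 11815744) (BT.node (nat_lit 11815684) (BT.leaf (nat_lit 746704)) (BT.leaf (nat_lit 746704))) (BT.node (nat_lit 11815808) (BT.leaf (nat_lit 47267089)) (BT.leaf (nat_lit 33635601)))) (BT.node (nat_lit 11815936) (BT.node (nat_lit 11815877) (BT.leaf (nat_lit 30326289)) (BT.leaf (nat_lit 749736))) (BT.node (nat_lit 11815944) (BT.leaf (nat_lit 32930317)) (BT.leaf (nat_lit 790172)))))) (BT.node (nat_lit 11816576) (BT.node (nat_lit 11816256) (BT.node (nat_lit 11816128) (BT.node (nat_lit 11816064) (BT.leaf (nat_lit 29121813)) (BT.leaf (nat_lit 32930337))) (BT.node (nat_lit 11816192) (BT.leaf (nat_lit 49361925)) (BT.leaf (nat_lit 37199113)))) (BT.node (nat_lit 11816448) (BT.node (nat_lit 11816320) (BT.leaf (nat_lit 29121821)) (BT.leaf (nat_lit 42185237))) (BT.node (nat_lit 11816512) (BT.leaf (nat_lit 33064985)) (BT.leaf (nat_lit 51321869))))) (BT.node (nat_lit 11816896) (BT.node (nat_lit 11816768) (BT.node (nat_lit 11816640) (BT.leaf (nat_lit 50738965)) (BT.leaf (nat_lit 42535957))) (BT.node (nat_lit 11816832) (BT.leaf (nat_lit 48359201)) (BT.leaf (nat_lit 39583505)))) (BT.node (nat_lit 11817024) (BT.node (nat_lit 11816960) (BT.leaf (nat_lit 48360225)) (BT.leaf (nat_lit 29125905))) (BT.node (nat_lit 11817152) (BT.leaf (nat_lit 33636617)) (BT.leaf (nat_lit 29126685))))))) (BT.node (nat_lit 11818368) (BT.node (nat_lit 11817792) (BT.node (nat_lit 11817536) (BT.node (nat_lit 11817344) (BT.node (nat_lit 11817280) (BT.leaf (nat_lit 36620565)) (BT.leaf (nat_lit 51840541))) (BT.node (nat_lit 11817472) (BT.leaf (nat_lit 29127705)) (BT.leaf (nat_lit 34747141)))) (BT.node (nat_lit 11817664) (BT.node (nat_lit 11817600) (BT.leaf (nat_lit 41423109)) (BT.leaf (nat_lit 29129497))) (BT.node (nat_lit 11817728) (BT.leaf (nat_lit 29129501)) (BT.leaf (nat_lit 45026593))))) (BT.node (nat_lit 11818112) (BT.node (nat_lit 11817920) (BT.node (nat_lit 11817856) (BT.leaf (nat_lit 34910225)) (BT.leaf (nat_lit 34909969))) (BT.node (nat_lit 11817984) (BT.leaf (nat_lit 49709341)) (BT.leaf (nat_lit 49425429)))) (BT.node (nat_lit 11818240) (BT.node (nat_lit 11818176) (BT.leaf (nat_lit 29131289)) (BT.leaf (nat_lit 29131541))) (BT.node (nat_lit 11818304) (BT.leaf (nat_lit 29131549)) (BT.leaf (nat_lit 30568985)))))) (BT.node (nat_lit 11818944) (BT.node (nat_lit 11818624) (BT.node (nat_lit 11818496) (BT.node (nat_lit 11818432) (BT.leaf (nat_lit 32529941)) (BT.leaf (nat_lit 48103429))) (BT.node (nat_lit 11818560) (BT.leaf (nat_lit 29744409)) (BT.leaf (nat_lit 29133333)))) (BT.node (nat_lit 11818752) (BT.node (nat_lit 11818688) (BT.leaf (nat_lit 50866197)) (BT.leaf (nat_lit 29743633))) (BT.node (nat_lit 11818816) (BT.leaf (nat_lit 29743637)) (BT.leaf (nat_lit 31843605))))) (BT.node (nat_lit 11819264) (BT.node (nat_lit 11819072) (BT.node (nat_lit 11819008) (BT.leaf (nat_lit 51093269)) (BT.leaf (nat_lit 36373537))) (BT.node (nat_lit 11819136) (BT.leaf (nat_lit 29138457)) (BT.leaf (nat_lit 29138461)))) (BT.node (nat_lit 11819584) (BT.node (nat_lit 11819328) (BT.leaf (nat_lit 29138961)) (BT.leaf (nat_lit 50112525))) (BT.node (nat_lit 11819712) (BT.leaf (nat_lit 29140761)) (BT.leaf (nat_lit 29142301)))))))) (BT.node (nat_lit 11822080) (BT.node (nat_lit 11820992) (BT.node (nat_lit 11820352) (BT.node (nat_lit 11820096) (BT.node (nat_lit 11819968) (BT.node (nat_lit 11819904) (BT.leaf (nat_lit 29143325)) (BT.leaf (nat_lit 34990853))) (BT.node (nat_lit 11820032) (BT.leaf (nat_lit 30599193)) (BT.leaf (nat_lit 51256337)))) (BT.node (nat_lit 11820224) (BT.node (nat_lit 11820160) (BT.leaf (nat_lit 45849605)) (BT.leaf (nat_lit 29145117))) (BT.node (nat_lit 11820288) (BT.leaf (nat_lit 45849625)) (BT.leaf (nat_lit 29146389))))) (BT.node (nat_lit 11820672) (BT.node (nat_lit 11820480) (BT.node (nat_lit 11820416) (BT.leaf (nat_lit 33613837)) (BT.leaf (nat_lit 47282189))) (BT.node (nat_lit 11820544) (BT.leaf (nat_lit 38078217)) (BT.leaf (nat_lit 46482977)))) (BT.node (nat_lit 11820864) (BT.node (nat_lit 11820736) (BT.leaf (nat_lit 36286233)) (BT.leaf (nat_lit 38078237))) (BT.node (nat_lit 11820928) (BT.leaf (nat_lit 43508489)) (BT.leaf (nat_lit 43508493)))))) (BT.node (nat_lit 11821568) (BT.node (nat_lit 11821248) (BT.node (nat_lit 11821120) (BT.node (nat_lit 11821056) (BT.leaf (nat_lit 29148701)) (BT.leaf (nat_lit 31762977))) (BT.node (nat_lit 11821184) (BT.leaf (nat_lit 49656581)) (BT.leaf (nat_lit 31387425)))) (BT.node (nat_lit 11821376) (BT.node (nat_lit 11821312) (BT.leaf (nat_lit 49762309)) (BT.leaf (nat_lit 29150225))) (BT.node (nat_lit 11821504) (BT.leaf (nat_lit 29150489)) (BT.leaf (nat_lit 29151261))))) (BT.node (nat_lit 11821824) (BT.node (nat_lit 11821696) (BT.node (nat_lit 11821632) (BT.leaf (nat_lit 32224521)) (BT.leaf (nat_lit 35709973))) (BT.node (nat_lit 11821760) (BT.leaf (nat_lit 50650645)) (BT.leaf (nat_lit 32224525)))) (BT.node (nat_lit 11821952) (BT.node (nat_lit 11821888) (BT.leaf (nat_lit 29152281)) (BT.leaf (nat_lit 30599189))) (BT.node (nat_lit 11822016) (BT.leaf (nat_lit 48287777)) (BT.leaf (nat_lit 34325537))))))) (BT.node (nat_lit 11823616) (BT.node (nat_lit 11822912) (BT.node (nat_lit 11822592) (BT.node (nat_lit 11822208) (BT.node (nat_lit 11822144) (BT.leaf (nat_lit 48767769)) (BT.leaf (nat_lit 49228805))) (BT.node (nat_lit 11822272) (BT.leaf (nat_lit 29153821)) (BT.leaf (nat_lit 30572317)))) (BT.node (nat_lit 11822784) (BT.node (nat_lit 11822720) (BT.leaf (nat_lit 48108805)) (BT.leaf (nat_lit 34467085))) (BT.node (nat_lit 11822848) (BT.leaf (nat_lit 29156621)) (BT.leaf (nat_lit 35691797))))) (BT.node (nat_lit 11823296) (BT.node (nat_lit 11823104) (BT.node (nat_lit 11822976) (BT.leaf (nat_lit 29156633)) (BT.leaf (nat_lit 29156637))) (BT.node (nat_lit 11823168) (BT.leaf (nat_lit 29157653)) (BT.leaf (nat_lit 35692053)))) (BT.node (nat_lit 11823488) (BT.node (nat_lit 11823360) (BT.leaf (nat_lit 34839577)) (BT.leaf (nat_lit 48133913))) (BT.node (nat_lit 11823552) (BT.leaf (nat_lit 33653533)) (BT.leaf (nat_lit 29159957)))))) (BT.node (nat_lit 11824256) (BT.node (nat_lit 11824000) (BT.node (nat_lit 11823744) (BT.node (nat_lit 11823680) (BT.leaf (nat_lit 34116373)) (BT.leaf (nat_lit 34116381))) (BT.node (nat_lit 11823936) (BT.leaf (nat_lit 29163037)) (BT.leaf (nat_lit 47242517)))) (BT.node (nat_lit 11824128) (BT.node (nat_lit 11824064) (BT.leaf (nat_lit 47352845)) (BT.leaf (nat_lit 37443857))) (BT.node (nat_lit 11824192) (BT.leaf (nat_lit 29165073)) (BT.leaf (nat_lit 46379533))))) (BT.node (nat_lit 11824512) (BT.node (nat_lit 11824384) (BT.node (nat_lit 11824320) (BT.leaf (nat_lit 29242389)) (BT.leaf (nat_lit 46379549))) (BT.node (nat_lit 11824448) (BT.leaf (nat_lit 51969557)) (BT.leaf (nat_lit 29166869)))) (BT.node (nat_lit 11824640) (BT.node (nat_lit 11824576) (BT.leaf (nat_lit 29167377)) (BT.leaf (nat_lit 29167381))) (BT.node (nat_lit 11824704) (BT.leaf (nat_lit 29167637)) (BT.leaf (nat_lit 29168657)))))))))) (BT.node (nat_lit 11834307) (BT.node (nat_lit 11829760) (BT.node (nat_lit 11827328) (BT.node (nat_lit 11825984) (BT.node (nat_lit 11825472) (BT.node (nat_lit 11825152) (BT.node (nat_lit 11825024) (BT.node (nat_lit 11824960) (BT.leaf (nat_lit 47338269)) (BT.leaf (nat_lit 29169433))) (BT.node (nat_lit 11825088) (BT.leaf (nat_lit 43398177)) (BT.leaf (nat_lit 29170969)))) (BT.node (nat_lit 11825280) (BT.node (nat_lit 11825216) (BT.leaf (nat_lit 29170973)) (BT.leaf (nat_lit 33673221))) (BT.node (nat_lit 11825408) (BT.leaf (nat_lit 30895365)) (BT.leaf (nat_lit 31187973))))) (BT.node (nat_lit 11825728) (BT.node (nat_lit 11825600) (BT.node (nat_lit 11825536) (BT.leaf (nat_lit 29173525)) (BT.leaf (nat_lit 47514645))) (BT.node (nat_lit 11825664) (BT.leaf (nat_lit 43368205)) (BT.leaf (nat_lit 46454293)))) (BT.node (nat_lit 11825856) (BT.node (nat_lit 11825792) (BT.leaf (nat_lit 43368217)) (BT.leaf (nat_lit 43368221))) (BT.node (nat_lit 11825920) (BT.leaf (nat_lit 43368225)) (BT.leaf (nat_lit 46454277)))))) (BT.node (nat_lit 11826627) (BT.node (nat_lit 11826304) (BT.node (nat_lit 11826112) (BT.node (nat_lit 11826048) (BT.leaf (nat_lit 46454297)) (BT.leaf (nat_lit 46454301))) (BT.node (nat_lit 11826240) (BT.leaf (nat_lit 50550533)) (BT.leaf (nat_lit 30920469)))) (BT.node (nat_lit 11826496) (BT.node (nat_lit 11826368) (BT.leaf (nat_lit 29175829)) (BT.leaf (nat_lit 38100757))) (BT.node (nat_lit 11826624) (BT.leaf (nat_lit 29177109)) (BT.leaf (nat_lit 35593241))))) (BT.node (nat_lit 11826944) (BT.node (nat_lit 11826816) (BT.node (nat_lit 11826688) (BT.leaf (nat_lit 800744)) (BT.leaf (nat_lit 52217121))) (BT.node (nat_lit 11826880) (BT.leaf (nat_lit 29178645)) (BT.leaf (nat_lit 29178901)))) (BT.node (nat_lit 11827072) (BT.node (nat_lit 11827008) (BT.leaf (nat_lit 29179669)) (BT.leaf (nat_lit 47491853))) (BT.node (nat_lit 11827136) (BT.leaf (nat_lit 37758485)) (BT.leaf (nat_lit 51675909))))))) (BT.node (nat_lit 11828288) (BT.node (nat_lit 11827712) (BT.node (nat_lit 11827520) (BT.node (nat_lit 11827456) (BT.node (nat_lit 11827392) (BT.leaf (nat_lit 29448473)) (BT.leaf (nat_lit 29181461))) (BT.node (nat_lit 11827464) (BT.leaf (nat_lit 35074069)) (BT.leaf (nat_lit 796104)))) (BT.node (nat_lit 11827584) (BT.node (nat_lit 11827521) (BT.leaf (nat_lit 45403669)) (BT.leaf (nat_lit 796112))) (BT.node (nat_lit 11827648) (BT.leaf (nat_lit 30549265)) (BT.leaf (nat_lit 29182229))))) (BT.node (nat_lit 11827968) (BT.node (nat_lit 11827840) (BT.node (nat_lit 11827776) (BT.leaf (nat_lit 30552089)) (BT.leaf (nat_lit 30552093))) (BT.node (nat_lit 11827904) (BT.leaf (nat_lit 51695901)) (BT.leaf (nat_lit 48316449)))) (BT.node (nat_lit 11828160) (BT.node (nat_lit 11828096) (BT.leaf (nat_lit 40163605)) (BT.leaf (nat_lit 29184013))) (BT.node (nat_lit 11828224) (BT.leaf (nat_lit 29184029)) (BT.leaf (nat_lit 29184277)))))) (BT.node (nat_lit 11829120) (BT.node (nat_lit 11828544) (BT.node (nat_lit 11828416) (BT.node (nat_lit 11828352) (BT.leaf (nat_lit 29184285)) (BT.leaf (nat_lit 51679517))) (BT.node (nat_lit 11828480) (BT.leaf (nat_lit 29185545)) (BT.leaf (nat_lit 29185301)))) (BT.node (nat_lit 11828864) (BT.node (nat_lit 11828672) (BT.leaf (nat_lit 33671437)) (BT.leaf (nat_lit 47314457))) (BT.node (nat_lit 11828928) (BT.leaf (nat_lit 29186585)) (BT.leaf (nat_lit 29186845))))) (BT.node (nat_lit 11829504) (BT.node (nat_lit 11829376) (BT.node (nat_lit 11829312) (BT.leaf (nat_lit 49263393)) (BT.leaf (nat_lit 34593797))) (BT.node (nat_lit 11829440) (BT.leaf (nat_lit 40789769)) (BT.leaf (nat_lit 38302997)))) (BT.node (nat_lit 11829632) (BT.node (nat_lit 11829568) (BT.leaf (nat_lit 48746245)) (BT.leaf (nat_lit 40773401))) (BT.node (nat_lit 11829696) (BT.leaf (nat_lit 29191705)) (BT.leaf (nat_lit 50150405)))))))) (BT.node (nat_lit 11832256) (BT.node (nat_lit 11831168) (BT.node (nat_lit 11830528) (BT.node (nat_lit 11830144) (BT.node (nat_lit 11829952) (BT.node (nat_lit 11829888) (BT.leaf (nat_lit 50118425)) (BT.leaf (nat_lit 50169109))) (BT.node (nat_lit 11830080) (BT.leaf (nat_lit 50169117)) (BT.leaf (nat_lit 29196301)))) (BT.node (nat_lit 11830336) (BT.node (nat_lit 11830208) (BT.leaf (nat_lit 29196297)) (BT.leaf (nat_lit 29196577))) (BT.node (nat_lit 11830400) (BT.leaf (nat_lit 47365145)) (BT.leaf (nat_lit 47365133))))) (BT.node (nat_lit 11830848) (BT.node (nat_lit 11830592) (BT.node (nat_lit 11830533) (BT.leaf (nat_lit 29200409)) (BT.leaf (nat_lit 753916))) (BT.node (nat_lit 11830720) (BT.leaf (nat_lit 29200413)) (BT.leaf (nat_lit 29201181)))) (BT.node (nat_lit 11830976) (BT.node (nat_lit 11830912) (BT.leaf (nat_lit 29201693)) (BT.leaf (nat_lit 33677073))) (BT.node (nat_lit 11831040) (BT.leaf (nat_lit 29201945)) (BT.leaf (nat_lit 29201949)))))) (BT.node (nat_lit 11831616) (BT.node (nat_lit 11831366) (BT.node (nat_lit 11831296) (BT.node (nat_lit 11831232) (BT.leaf (nat_lit 34718485)) (BT.leaf (nat_lit 29202201))) (BT.node (nat_lit 11831360) (BT.leaf (nat_lit 29202205)) (BT.leaf (nat_lit 33037585)))) (BT.node (nat_lit 11831488) (BT.node (nat_lit 11831424) (BT.leaf (nat_lit 778152)) (BT.leaf (nat_lit 34718489))) (BT.node (nat_lit 11831552) (BT.leaf (nat_lit 47304197)) (BT.leaf (nat_lit 34836757))))) (BT.node (nat_lit 11831936) (BT.node (nat_lit 11831808) (BT.node (nat_lit 11831744) (BT.leaf (nat_lit 34835737)) (BT.leaf (nat_lit 30866201))) (BT.node (nat_lit 11831872) (BT.leaf (nat_lit 47301917)) (BT.leaf (nat_lit 30400777)))) (BT.node (nat_lit 11832128) (BT.node (nat_lit 11832064) (BT.leaf (nat_lit 30400793)) (BT.leaf (nat_lit 47213089))) (BT.node (nat_lit 11832192) (BT.leaf (nat_lit 48352289)) (BT.leaf (nat_lit 29207061))))))) (BT.node (nat_lit 11833344) (BT.node (nat_lit 11832832) (BT.node (nat_lit 11832576) (BT.node (nat_lit 11832448) (BT.node (nat_lit 11832384) (BT.leaf (nat_lit 29207317)) (BT.leaf (nat_lit 33623065))) (BT.node (nat_lit 11832512) (BT.leaf (nat_lit 31437857)) (BT.leaf (nat_lit 33623053)))) (BT.node (nat_lit 11832704) (BT.node (nat_lit 11832640) (BT.leaf (nat_lit 48000797)) (BT.leaf (nat_lit 30401289))) (BT.node (nat_lit 11832768) (BT.leaf (nat_lit 30401313)) (BT.leaf (nat_lit 29208601))))) (BT.node (nat_lit 11833094) (BT.node (nat_lit 11833024) (BT.node (nat_lit 11832896) (BT.leaf (nat_lit 29368329)) (BT.leaf (nat_lit 29368333))) (BT.node (nat_lit 11833088) (BT.leaf (nat_lit 29368349)) (BT.leaf (nat_lit 29210897)))) (BT.node (nat_lit 11833216) (BT.node (nat_lit 11833152) (BT.leaf (nat_lit 774748)) (BT.leaf (nat_lit 31063565))) (BT.node (nat_lit 11833280) (BT.leaf (nat_lit 29369361)) (BT.leaf (nat_lit 34703901)))))) (BT.node (nat_lit 11833920) (BT.node (nat_lit 11833536) (BT.node (nat_lit 11833472) (BT.node (nat_lit 11833408) (BT.leaf (nat_lit 34702605)) (BT.leaf (nat_lit 32014613))) (BT.node (nat_lit 11833479) (BT.leaf (nat_lit 29214225)) (BT.leaf (nat_lit 813692)))) (BT.node (nat_lit 11833728) (BT.node (nat_lit 11833664) (BT.leaf (nat_lit 29213961)) (BT.leaf (nat_lit 35866905))) (BT.node (nat_lit 11833856) (BT.leaf (nat_lit 35866909)) (BT.leaf (nat_lit 30873377))))) (BT.node (nat_lit 11834177) (BT.node (nat_lit 11833992) (BT.node (nat_lit 11833984) (BT.leaf (nat_lit 29216789)) (BT.leaf (nat_lit 29259545))) (BT.node (nat_lit 11834112) (BT.leaf (nat_lit 755184)) (BT.leaf (nat_lit 48332053)))) (BT.node (nat_lit 11834304) (BT.node (nat_lit 11834240) (BT.leaf (nat_lit 793708)) (BT.leaf (nat_lit 49521941))) (BT.node (nat_lit 11834306) (BT.leaf (nat_lit 37193505)) (BT.leaf (nat_lit 741916))))))))) (BT.node (nat_lit 11838592) (BT.node (nat_lit 11836224) (BT.node (nat_lit 11835136) (BT.node (nat_lit 11834567) (BT.node (nat_lit 11834496) (BT.node (nat_lit 11834368) (BT.node (nat_lit 11834310) (BT.leaf (nat_lit 741916)) (BT.leaf (nat_lit 741916))) (BT.node (nat_lit 11834432) (BT.leaf (nat_lit 36031749)) (BT.leaf (nat_lit 36031761)))) (BT.node (nat_lit 11834561) (BT.node (nat_lit 11834560) (BT.leaf (nat_lit 29217053)) (BT.leaf (nat_lit 31190801))) (BT.node (nat_lit 11834565) (BT.leaf (nat_lit 765896)) (BT.leaf (nat_lit 765896))))) (BT.node (nat_lit 11834880) (BT.node (nat_lit 11834688) (BT.node (nat_lit 11834624) (BT.leaf (nat_lit 765896)) (BT.leaf (nat_lit 29217049))) (BT.node (nat_lit 11834752) (BT.leaf (nat_lit 29217821)) (BT.leaf (nat_lit 43409169)))) (BT.node (nat_lit 11835008) (BT.node (nat_lit 11834944) (BT.leaf (nat_lit 29217817)) (BT.leaf (nat_lit 35773469))) (BT.node (nat_lit 11835072) (BT.leaf (nat_lit 48332293)) (BT.leaf (nat_lit 33679133)))))) (BT.node (nat_lit 11835526) (BT.node (nat_lit 11835328) (BT.node (nat_lit 11835269) (BT.node (nat_lit 11835264) (BT.leaf (nat_lit 29259549)) (BT.leaf (nat_lit 29219077))) (BT.node (nat_lit 11835270) (BT.leaf (nat_lit 742392)) (BT.leaf (nat_lit 742392)))) (BT.node (nat_lit 11835397) (BT.node (nat_lit 11835392) (BT.leaf (nat_lit 49017621)) (BT.leaf (nat_lit 29219097))) (BT.node (nat_lit 11835520) (BT.leaf (nat_lit 765372)) (BT.leaf (nat_lit 31125793))))) (BT.node (nat_lit 11835904) (BT.node (nat_lit 11835712) (BT.node (nat_lit 11835584) (BT.leaf (nat_lit 757652)) (BT.leaf (nat_lit 33803801))) (BT.node (nat_lit 11835776) (BT.leaf (nat_lit 51280657)) (BT.leaf (nat_lit 49777953)))) (BT.node (nat_lit 11836032) (BT.node (nat_lit 11835968) (BT.leaf (nat_lit 29224729)) (BT.leaf (nat_lit 29224733))) (BT.node (nat_lit 11836160) (BT.leaf (nat_lit 39746565)) (BT.leaf (nat_lit 29225489))))))) (BT.node (nat_lit 11837184) (BT.node (nat_lit 11836736) (BT.node (nat_lit 11836480) (BT.node (nat_lit 11836352) (BT.node (nat_lit 11836288) (BT.leaf (nat_lit 29225749)) (BT.leaf (nat_lit 47279625))) (BT.node (nat_lit 11836416) (BT.leaf (nat_lit 50236677)) (BT.leaf (nat_lit 35996441)))) (BT.node (nat_lit 11836608) (BT.node (nat_lit 11836544) (BT.leaf (nat_lit 29228573)) (BT.leaf (nat_lit 47900193))) (BT.node (nat_lit 11836672) (BT.leaf (nat_lit 51085077)) (BT.leaf (nat_lit 47281437))))) (BT.node (nat_lit 11836864) (BT.node (nat_lit 11836804) (BT.node (nat_lit 11836800) (BT.leaf (nat_lit 47900173)) (BT.leaf (nat_lit 35008533))) (BT.node (nat_lit 11836805) (BT.leaf (nat_lit 766648)) (BT.leaf (nat_lit 766648)))) (BT.node (nat_lit 11836992) (BT.node (nat_lit 11836928) (BT.leaf (nat_lit 48313877)) (BT.leaf (nat_lit 48313353))) (BT.node (nat_lit 11837056) (BT.leaf (nat_lit 29230617)) (BT.leaf (nat_lit 30886425)))))) (BT.node (nat_lit 11837952) (BT.node (nat_lit 11837504) (BT.node (nat_lit 11837376) (BT.node (nat_lit 11837248) (BT.leaf (nat_lit 29231377)) (BT.leaf (nat_lit 49066509))) (BT.node (nat_lit 11837440) (BT.leaf (nat_lit 29231649)) (BT.leaf (nat_lit 29231893)))) (BT.node (nat_lit 11837760) (BT.node (nat_lit 11837696) (BT.leaf (nat_lit 29233681)) (BT.leaf (nat_lit 35293445))) (BT.node (nat_lit 11837888) (BT.leaf (nat_lit 51071777)) (BT.leaf (nat_lit 50235909))))) (BT.node (nat_lit 11838150) (BT.node (nat_lit 11838080) (BT.node (nat_lit 11838016) (BT.leaf (nat_lit 51700769)) (BT.leaf (nat_lit 50131481))) (BT.node (nat_lit 11838144) (BT.leaf (nat_lit 51699745)) (BT.leaf (nat_lit 31071249)))) (BT.node (nat_lit 11838272) (BT.node (nat_lit 11838208) (BT.leaf (nat_lit 757104)) (BT.leaf (nat_lit 50138389))) (BT.node (nat_lit 11838464) (BT.leaf (nat_lit 40716569)) (BT.leaf (nat_lit 50618145)))))))) (BT.node (nat_lit 11840960) (BT.node (nat_lit 11839808) (BT.node (nat_lit 11839360) (BT.node (nat_lit 11838912) (BT.node (nat_lit 11838720) (BT.node (nat_lit 11838656) (BT.leaf (nat_lit 29241621)) (BT.leaf (nat_lit 49047841))) (BT.node (nat_lit 11838848) (BT.leaf (nat_lit 49048097)) (BT.leaf (nat_lit 49048865)))) (BT.node (nat_lit 11839040) (BT.node (nat_lit 11838976) (BT.leaf (nat_lit 49048609)) (BT.leaf (nat_lit 29243149))) (BT.node (nat_lit 11839296) (BT.leaf (nat_lit 46943521)) (BT.leaf (nat_lit 48951057))))) (BT.node (nat_lit 11839616) (BT.node (nat_lit 11839488) (BT.node (nat_lit 11839424) (BT.leaf (nat_lit 45141773)) (BT.leaf (nat_lit 29255941))) (BT.node (nat_lit 11839552) (BT.leaf (nat_lit 29246229)) (BT.leaf (nat_lit 33053465)))) (BT.node (nat_lit 11839680) (BT.node (nat_lit 11839620) (BT.leaf (nat_lit 51309845)) (BT.leaf (nat_lit 812364))) (BT.node (nat_lit 11839744) (BT.leaf (nat_lit 31822369)) (BT.leaf (nat_lit 51309337)))))) (BT.node (nat_lit 11840384) (BT.node (nat_lit 11840064) (BT.node (nat_lit 11839936) (BT.node (nat_lit 11839872) (BT.leaf (nat_lit 29248005)) (BT.leaf (nat_lit 29247773))) (BT.node (nat_lit 11840000) (BT.leaf (nat_lit 29248021)) (BT.leaf (nat_lit 29248029)))) (BT.node (nat_lit 11840192) (BT.node (nat_lit 11840128) (BT.leaf (nat_lit 29248273)) (BT.leaf (nat_lit 32088325))) (BT.node (nat_lit 11840320) (BT.leaf (nat_lit 49925649)) (BT.leaf (nat_lit 29248537))))) (BT.node (nat_lit 11840640) (BT.node (nat_lit 11840512) (BT.node (nat_lit 11840448) (BT.leaf (nat_lit 44885537)) (BT.leaf (nat_lit 49544481))) (BT.node (nat_lit 11840576) (BT.leaf (nat_lit 49544737)) (BT.leaf (nat_lit 49545249)))) (BT.node (nat_lit 11840768) (BT.node (nat_lit 11840704) (BT.leaf (nat_lit 40773409)) (BT.leaf (nat_lit 50930709))) (BT.node (nat_lit 11840832) (BT.leaf (nat_lit 29251333)) (BT.leaf (nat_lit 50169113))))))) (BT.node (nat_lit 11841920) (BT.node (nat_lit 11841472) (BT.node (nat_lit 11841216) (BT.node (nat_lit 11841088) (BT.node (nat_lit 11841024) (BT.leaf (nat_lit 50118165)) (BT.leaf (nat_lit 29251589))) (BT.node (nat_lit 11841152) (BT.leaf (nat_lit 33706269)) (BT.leaf (nat_lit 34803225)))) (BT.node (nat_lit 11841344) (BT.node (nat_lit 11841280) (BT.leaf (nat_lit 29252897)) (BT.leaf (nat_lit 29253141))) (BT.node (nat_lit 11841408) (BT.leaf (nat_lit 35056409)) (BT.leaf (nat_lit 47514373))))) (BT.node (nat_lit 11841728) (BT.node (nat_lit 11841600) (BT.node (nat_lit 11841536) (BT.leaf (nat_lit 44794129)) (BT.leaf (nat_lit 50212357))) (BT.node (nat_lit 11841664) (BT.leaf (nat_lit 45803533)) (BT.leaf (nat_lit 29256469)))) (BT.node (nat_lit 11841733) (BT.node (nat_lit 11841732) (BT.leaf (nat_lit 34837269)) (BT.leaf (nat_lit 766076))) (BT.node (nat_lit 11841792) (BT.leaf (nat_lit 766076)) (BT.leaf (nat_lit 29256989)))))) (BT.node (nat_lit 11842496) (BT.node (nat_lit 11842176) (BT.node (nat_lit 11842048) (BT.node (nat_lit 11841984) (BT.leaf (nat_lit 36873237)) (BT.leaf (nat_lit 51239437))) (BT.node (nat_lit 11842112) (BT.leaf (nat_lit 50226709)) (BT.leaf (nat_lit 47513361)))) (BT.node (nat_lit 11842368) (BT.node (nat_lit 11842304) (BT.leaf (nat_lit 49637153)) (BT.leaf (nat_lit 48327441))) (BT.node (nat_lit 11842432) (BT.leaf (nat_lit 48352021)) (BT.leaf (nat_lit 29258525))))) (BT.node (nat_lit 11842816) (BT.node (nat_lit 11842688) (BT.node (nat_lit 11842560) (BT.leaf (nat_lit 31899925)) (BT.leaf (nat_lit 31122713))) (BT.node (nat_lit 11842752) (BT.leaf (nat_lit 36965905)) (BT.leaf (nat_lit 33984017)))) (BT.node (nat_lit 11842880) (BT.node (nat_lit 11842823) (BT.leaf (nat_lit 46972185)) (BT.leaf (nat_lit 786404))) (BT.node (nat_lit 11843072) (BT.leaf (nat_lit 34157073)) (BT.leaf (nat_lit 31184401)))))))))))))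
noncomputable def big0_e112640 : BT Nat := (BT.node (nat_lit 11920512) (BT.node (nat_lit 11881216) (BT.node (nat_lit 11861632) (BT.node (nat_lit 11852423) (BT.node (nat_lit 11847616) (BT.node (nat_lit 11845632) (BT.node (nat_lit 11844480) (BT.node (nat_lit 11843904) (BT.node (nat_lit 11843456) (BT.node (nat_lit 11843264) (BT.node (nat_lit 11843200) (BT.leaf (nat_lit 29263129)) (BT.leaf (nat_lit 29263133))) (BT.node (nat_lit 11843392) (BT.leaf (nat_lit 50567713)) (BT.leaf (nat_lit 29263881)))) (BT.node (nat_lit 11843648) (BT.node (nat_lit 11843520) (BT.leaf (nat_lit 29263885)) (BT.leaf (nat_lit 34942497))) (BT.node (nat_lit 11843712) (BT.leaf (nat_lit 29264405)) (BT.leaf (nat_lit 40626197))))) (BT.node (nat_lit 11844224) (BT.node (nat_lit 11844096) (BT.node (nat_lit 11843968) (BT.leaf (nat_lit 30143773)) (BT.leaf (nat_lit 32726021))) (BT.node (nat_lit 11844160) (BT.leaf (nat_lit 44182789)) (BT.leaf (nat_lit 34066721)))) (BT.node (nat_lit 11844352) (BT.node (nat_lit 11844288) (BT.leaf (nat_lit 29268245)) (BT.leaf (nat_lit 29267481))) (BT.node (nat_lit 11844416) (BT.leaf (nat_lit 50380817)) (BT.leaf (nat_lit 29267733)))))) (BT.node (nat_lit 11845056) (BT.node (nat_lit 11844800) (BT.node (nat_lit 11844608) (BT.node (nat_lit 11844544) (BT.leaf (nat_lit 33722645)) (BT.leaf (nat_lit 29268505))) (BT.node (nat_lit 11844736) (BT.leaf (nat_lit 50381073)) (BT.leaf (nat_lit 33723677)))) (BT.node (nat_lit 11844928) (BT.node (nat_lit 11844864) (BT.leaf (nat_lit 32740869)) (BT.leaf (nat_lit 32741153))) (BT.node (nat_lit 11844992) (BT.leaf (nat_lit 47594757)) (BT.leaf (nat_lit 32413717))))) (BT.node (nat_lit 11845312) (BT.node (nat_lit 11845184) (BT.node (nat_lit 11845120) (BT.leaf (nat_lit 41018145)) (BT.leaf (nat_lit 39732249))) (BT.node (nat_lit 11845248) (BT.leaf (nat_lit 29272593)) (BT.leaf (nat_lit 29273105)))) (BT.node (nat_lit 11845504) (BT.node (nat_lit 11845376) (BT.leaf (nat_lit 32573701)) (BT.leaf (nat_lit 50287901))) (BT.node (nat_lit 11845568) (BT.leaf (nat_lit 29275425)) (BT.leaf (nat_lit 29275669))))))) (BT.node (nat_lit 11846464) (BT.node (nat_lit 11846081) (BT.node (nat_lit 11845888) (BT.node (nat_lit 11845760) (BT.node (nat_lit 11845696) (BT.leaf (nat_lit 29279001)) (BT.leaf (nat_lit 49058053))) (BT.node (nat_lit 11845824) (BT.leaf (nat_lit 33079569)) (BT.leaf (nat_lit 33725205)))) (BT.node (nat_lit 11846016) (BT.node (nat_lit 11845952) (BT.leaf (nat_lit 29280281)) (BT.leaf (nat_lit 50726417))) (BT.node (nat_lit 11846080) (BT.leaf (nat_lit 50663185)) (BT.leaf (nat_lit 35049493))))) (BT.node (nat_lit 11846208) (BT.node (nat_lit 11846083) (BT.node (nat_lit 11846082) (BT.leaf (nat_lit 785304)) (BT.leaf (nat_lit 785304))) (BT.node (nat_lit 11846144) (BT.leaf (nat_lit 785304)) (BT.leaf (nat_lit 29281309)))) (BT.node (nat_lit 11846336) (BT.node (nat_lit 11846272) (BT.leaf (nat_lit 33862417)) (BT.leaf (nat_lit 48202001))) (BT.node (nat_lit 11846400) (BT.leaf (nat_lit 29284105)) (BT.leaf (nat_lit 47319557)))))) (BT.node (nat_lit 11847040) (BT.node (nat_lit 11846720) (BT.node (nat_lit 11846592) (BT.node (nat_lit 11846528) (BT.leaf (nat_lit 30765573)) (BT.leaf (nat_lit 30765857))) (BT.node (nat_lit 11846656) (BT.leaf (nat_lit 29284633)) (BT.leaf (nat_lit 29284637)))) (BT.node (nat_lit 11846912) (BT.node (nat_lit 11846848) (BT.leaf (nat_lit 42353441)) (BT.leaf (nat_lit 29286421))) (BT.node (nat_lit 11846976) (BT.leaf (nat_lit 29286677)) (BT.leaf (nat_lit 41221125))))) (BT.node (nat_lit 11847296) (BT.node (nat_lit 11847168) (BT.node (nat_lit 11847104) (BT.leaf (nat_lit 43782933)) (BT.leaf (nat_lit 29287201))) (BT.node (nat_lit 11847232) (BT.leaf (nat_lit 41208089)) (BT.leaf (nat_lit 29288981)))) (BT.node (nat_lit 11847488) (BT.node (nat_lit 11847424) (BT.leaf (nat_lit 46730517)) (BT.leaf (nat_lit 29290521))) (BT.node (nat_lit 11847552) (BT.leaf (nat_lit 29290525)) (BT.leaf (nat_lit 29290765)))))))) (BT.node (nat_lit 11850048) (BT.node (nat_lit 11848768) (BT.node (nat_lit 11848256) (BT.node (nat_lit 11848005) (BT.node (nat_lit 11847872) (BT.node (nat_lit 11847680) (BT.leaf (nat_lit 33729301)) (BT.leaf (nat_lit 29290777))) (BT.node (nat_lit 11848000) (BT.leaf (nat_lit 50591509)) (BT.leaf (nat_lit 29292317)))) (BT.node (nat_lit 11848128) (BT.node (nat_lit 11848064) (BT.leaf (nat_lit 772204)) (BT.leaf (nat_lit 49055749))) (BT.node (nat_lit 11848192) (BT.leaf (nat_lit 32004129)) (BT.leaf (nat_lit 34829081))))) (BT.node (nat_lit 11848512) (BT.node (nat_lit 11848384) (BT.node (nat_lit 11848320) (BT.leaf (nat_lit 46904333)) (BT.leaf (nat_lit 33482257))) (BT.node (nat_lit 11848448) (BT.leaf (nat_lit 29296413)) (BT.leaf (nat_lit 46956297)))) (BT.node (nat_lit 11848640) (BT.node (nat_lit 11848576) (BT.leaf (nat_lit 32737313)) (BT.leaf (nat_lit 37348373))) (BT.node (nat_lit 11848704) (BT.leaf (nat_lit 50927133)) (BT.leaf (nat_lit 29300241)))))) (BT.node (nat_lit 11849344) (BT.node (nat_lit 11849088) (BT.node (nat_lit 11848896) (BT.node (nat_lit 11848832) (BT.leaf (nat_lit 49617941)) (BT.leaf (nat_lit 29301013))) (BT.node (nat_lit 11848960) (BT.leaf (nat_lit 29302037)) (BT.leaf (nat_lit 38342161)))) (BT.node (nat_lit 11849216) (BT.node (nat_lit 11849152) (BT.leaf (nat_lit 47395845)) (BT.leaf (nat_lit 29305109))) (BT.node (nat_lit 11849280) (BT.leaf (nat_lit 46458401)) (BT.leaf (nat_lit 48028437))))) (BT.node (nat_lit 11849728) (BT.node (nat_lit 11849600) (BT.node (nat_lit 11849536) (BT.leaf (nat_lit 48028693)) (BT.leaf (nat_lit 29308701))) (BT.node (nat_lit 11849664) (BT.leaf (nat_lit 47144209)) (BT.leaf (nat_lit 49719577)))) (BT.node (nat_lit 11849920) (BT.node (nat_lit 11849792) (BT.leaf (nat_lit 33735189)) (BT.leaf (nat_lit 51118865))) (BT.node (nat_lit 11849984) (BT.leaf (nat_lit 51118881)) (BT.leaf (nat_lit 29572633))))))) (BT.node (nat_lit 11851392) (BT.node (nat_lit 11850752) (BT.node (nat_lit 11850432) (BT.node (nat_lit 11850240) (BT.node (nat_lit 11850112) (BT.leaf (nat_lit 29313805)) (BT.leaf (nat_lit 29313801))) (BT.node (nat_lit 11850368) (BT.leaf (nat_lit 39945241)) (BT.leaf (nat_lit 29315869)))) (BT.node (nat_lit 11850624) (BT.node (nat_lit 11850560) (BT.leaf (nat_lit 29316121)) (BT.leaf (nat_lit 49199877))) (BT.node (nat_lit 11850688) (BT.leaf (nat_lit 29316885)) (BT.leaf (nat_lit 50668817))))) (BT.node (nat_lit 11851136) (BT.node (nat_lit 11850880) (BT.node (nat_lit 11850816) (BT.leaf (nat_lit 51507997)) (BT.leaf (nat_lit 50055441))) (BT.node (nat_lit 11850944) (BT.leaf (nat_lit 29318157)) (BT.leaf (nat_lit 33432089)))) (BT.node (nat_lit 11851264) (BT.node (nat_lit 11851200) (BT.leaf (nat_lit 47572257)) (BT.leaf (nat_lit 50669077))) (BT.node (nat_lit 11851328) (BT.leaf (nat_lit 51508509)) (BT.leaf (nat_lit 47064089)))))) (BT.node (nat_lit 11852096) (BT.node (nat_lit 11851840) (BT.node (nat_lit 11851648) (BT.node (nat_lit 11851584) (BT.leaf (nat_lit 29322517)) (BT.leaf (nat_lit 29325085))) (BT.node (nat_lit 11851712) (BT.leaf (nat_lit 30710041)) (BT.leaf (nat_lit 50242577)))) (BT.node (nat_lit 11851968) (BT.node (nat_lit 11851904) (BT.leaf (nat_lit 38594821)) (BT.leaf (nat_lit 39016985))) (BT.node (nat_lit 11852032) (BT.leaf (nat_lit 51057949)) (BT.leaf (nat_lit 37611033))))) (BT.node (nat_lit 11852288) (BT.node (nat_lit 11852224) (BT.node (nat_lit 11852160) (BT.leaf (nat_lit 29328409)) (BT.leaf (nat_lit 29328665))) (BT.node (nat_lit 11852231) (BT.leaf (nat_lit 31232789)) (BT.leaf (nat_lit 797384)))) (BT.node (nat_lit 11852416) (BT.node (nat_lit 11852352) (BT.leaf (nat_lit 29328925)) (BT.leaf (nat_lit 39792397))) (BT.node (nat_lit 11852418) (BT.leaf (nat_lit 34889221)) (BT.leaf (nat_lit 774032))))))))) (BT.node (nat_lit 11856832) (BT.node (nat_lit 11854272) (BT.node (nat_lit 11853312) (BT.node (nat_lit 11852864) (BT.node (nat_lit 11852612) (BT.node (nat_lit 11852544) (BT.node (nat_lit 11852480) (BT.leaf (nat_lit 774032)) (BT.leaf (nat_lit 41008405))) (BT.node (nat_lit 11852608) (BT.leaf (nat_lit 29331221)) (BT.leaf (nat_lit 29329945)))) (BT.node (nat_lit 11852736) (BT.node (nat_lit 11852672) (BT.leaf (nat_lit 810832)) (BT.leaf (nat_lit 32008473))) (BT.node (nat_lit 11852800) (BT.leaf (nat_lit 48818977)) (BT.leaf (nat_lit 34888217))))) (BT.node (nat_lit 11853056) (BT.node (nat_lit 11852929) (BT.node (nat_lit 11852928) (BT.leaf (nat_lit 29330705)) (BT.leaf (nat_lit 29331481))) (BT.node (nat_lit 11852992) (BT.leaf (nat_lit 810840)) (BT.leaf (nat_lit 29331729)))) (BT.node (nat_lit 11853184) (BT.node (nat_lit 11853120) (BT.leaf (nat_lit 49101857)) (BT.leaf (nat_lit 39926541))) (BT.node (nat_lit 11853248) (BT.leaf (nat_lit 47413001)) (BT.leaf (nat_lit 52305685)))))) (BT.node (nat_lit 11853760) (BT.node (nat_lit 11853504) (BT.node (nat_lit 11853440) (BT.node (nat_lit 11853376) (BT.leaf (nat_lit 29335045)) (BT.leaf (nat_lit 44194573))) (BT.node (nat_lit 11853444) (BT.leaf (nat_lit 30267153)) (BT.leaf (nat_lit 749156)))) (BT.node (nat_lit 11853632) (BT.node (nat_lit 11853568) (BT.leaf (nat_lit 39145997)) (BT.leaf (nat_lit 38595605))) (BT.node (nat_lit 11853696) (BT.leaf (nat_lit 50390289)) (BT.leaf (nat_lit 42590741))))) (BT.node (nat_lit 11854016) (BT.node (nat_lit 11853888) (BT.node (nat_lit 11853824) (BT.leaf (nat_lit 42590725)) (BT.leaf (nat_lit 33789725))) (BT.node (nat_lit 11853952) (BT.leaf (nat_lit 34349077)) (BT.leaf (nat_lit 47392289)))) (BT.node (nat_lit 11854144) (BT.node (nat_lit 11854080) (BT.leaf (nat_lit 30845977)) (BT.leaf (nat_lit 47059221))) (BT.node (nat_lit 11854208) (BT.leaf (nat_lit 48101653)) (BT.leaf (nat_lit 29341729))))))) (BT.node (nat_lit 11855616) (BT.node (nat_lit 11854976) (BT.node (nat_lit 11854720) (BT.node (nat_lit 11854464) (BT.node (nat_lit 11854336) (BT.leaf (nat_lit 32258837)) (BT.leaf (nat_lit 32257817))) (BT.node (nat_lit 11854528) (BT.leaf (nat_lit 34264861)) (BT.leaf (nat_lit 29343257)))) (BT.node (nat_lit 11854848) (BT.node (nat_lit 11854784) (BT.leaf (nat_lit 50159113)) (BT.leaf (nat_lit 39514145))) (BT.node (nat_lit 11854912) (BT.leaf (nat_lit 48266261)) (BT.leaf (nat_lit 29348101))))) (BT.node (nat_lit 11855360) (BT.node (nat_lit 11855232) (BT.node (nat_lit 11855040) (BT.leaf (nat_lit 29348125)) (BT.leaf (nat_lit 29348885))) (BT.node (nat_lit 11855296) (BT.leaf (nat_lit 29353249)) (BT.leaf (nat_lit 29353477)))) (BT.node (nat_lit 11855488) (BT.node (nat_lit 11855424) (BT.leaf (nat_lit 46908697)) (BT.leaf (nat_lit 29353733))) (BT.node (nat_lit 11855552) (BT.leaf (nat_lit 46909461)) (BT.leaf (nat_lit 35272981)))))) (BT.node (nat_lit 11856192) (BT.node (nat_lit 11855936) (BT.node (nat_lit 11855744) (BT.node (nat_lit 11855680) (BT.leaf (nat_lit 29356817)) (BT.leaf (nat_lit 29357333))) (BT.node (nat_lit 11855872) (BT.leaf (nat_lit 29358865)) (BT.leaf (nat_lit 34278149)))) (BT.node (nat_lit 11856064) (BT.node (nat_lit 11856000) (BT.leaf (nat_lit 39823377)) (BT.leaf (nat_lit 29361681))) (BT.node (nat_lit 11856128) (BT.leaf (nat_lit 29363973)) (BT.leaf (nat_lit 29364757))))) (BT.node (nat_lit 11856512) (BT.node (nat_lit 11856384) (BT.node (nat_lit 11856256) (BT.leaf (nat_lit 29365269)) (BT.leaf (nat_lit 29765385))) (BT.node (nat_lit 11856448) (BT.leaf (nat_lit 43172101)) (BT.leaf (nat_lit 47011089)))) (BT.node (nat_lit 11856640) (BT.node (nat_lit 11856576) (BT.leaf (nat_lit 39316001)) (BT.leaf (nat_lit 41224473))) (BT.node (nat_lit 11856768) (BT.leaf (nat_lit 47658761)) (BT.leaf (nat_lit 29367577)))))))) (BT.node (nat_lit 11859655) (BT.node (nat_lit 11858176) (BT.node (nat_lit 11857344) (BT.node (nat_lit 11857094) (BT.node (nat_lit 11856960) (BT.node (nat_lit 11856896) (BT.leaf (nat_lit 44691477)) (BT.leaf (nat_lit 34799889))) (BT.node (nat_lit 11857088) (BT.leaf (nat_lit 29369621)) (BT.leaf (nat_lit 29371153)))) (BT.node (nat_lit 11857216) (BT.node (nat_lit 11857152) (BT.leaf (nat_lit 796284)) (BT.leaf (nat_lit 47332377))) (BT.node (nat_lit 11857280) (BT.leaf (nat_lit 29371929)) (BT.leaf (nat_lit 29372945))))) (BT.node (nat_lit 11857920) (BT.node (nat_lit 11857600) (BT.node (nat_lit 11857408) (BT.leaf (nat_lit 29373201)) (BT.leaf (nat_lit 31495701))) (BT.node (nat_lit 11857664) (BT.leaf (nat_lit 32909329)) (BT.leaf (nat_lit 33995545)))) (BT.node (nat_lit 11858048) (BT.node (nat_lit 11857984) (BT.leaf (nat_lit 33405193)) (BT.leaf (nat_lit 29378833))) (BT.node (nat_lit 11858112) (BT.leaf (nat_lit 36702233)) (BT.leaf (nat_lit 29382673)))))) (BT.node (nat_lit 11858752) (BT.node (nat_lit 11858432) (BT.node (nat_lit 11858304) (BT.node (nat_lit 11858240) (BT.leaf (nat_lit 34844941)) (BT.leaf (nat_lit 29383441))) (BT.node (nat_lit 11858368) (BT.leaf (nat_lit 29384217)) (BT.leaf (nat_lit 49171461)))) (BT.node (nat_lit 11858624) (BT.node (nat_lit 11858560) (BT.leaf (nat_lit 33683997)) (BT.leaf (nat_lit 29386005))) (BT.node (nat_lit 11858688) (BT.leaf (nat_lit 29387281)) (BT.leaf (nat_lit 47948321))))) (BT.node (nat_lit 11859136) (BT.node (nat_lit 11859008) (BT.node (nat_lit 11858816) (BT.leaf (nat_lit 47949061)) (BT.leaf (nat_lit 50732817))) (BT.node (nat_lit 11859072) (BT.leaf (nat_lit 48111369)) (BT.leaf (nat_lit 29389329)))) (BT.node (nat_lit 11859584) (BT.node (nat_lit 11859392) (BT.leaf (nat_lit 51299101)) (BT.leaf (nat_lit 42529045))) (BT.node (nat_lit 11859648) (BT.leaf (nat_lit 29390361)) (BT.leaf (nat_lit 29391377))))))) (BT.node (nat_lit 11860736) (BT.node (nat_lit 11860224) (BT.node (nat_lit 11859968) (BT.node (nat_lit 11859776) (BT.node (nat_lit 11859712) (BT.leaf (nat_lit 806904)) (BT.leaf (nat_lit 33975569))) (BT.node (nat_lit 11859840) (BT.leaf (nat_lit 47435041)) (BT.leaf (nat_lit 29391905)))) (BT.node (nat_lit 11860096) (BT.node (nat_lit 11860037) (BT.leaf (nat_lit 29392669)) (BT.leaf (nat_lit 805444))) (BT.node (nat_lit 11860160) (BT.leaf (nat_lit 29392917)) (BT.leaf (nat_lit 29392929))))) (BT.node (nat_lit 11860544) (BT.node (nat_lit 11860416) (BT.node (nat_lit 11860288) (BT.leaf (nat_lit 29393173)) (BT.leaf (nat_lit 29393185))) (BT.node (nat_lit 11860480) (BT.leaf (nat_lit 32711441)) (BT.leaf (nat_lit 29394437)))) (BT.node (nat_lit 11860608) (BT.node (nat_lit 11860546) (BT.leaf (nat_lit 29394453)) (BT.leaf (nat_lit 786020))) (BT.node (nat_lit 11860672) (BT.leaf (nat_lit 45117473)) (BT.leaf (nat_lit 46995461)))))) (BT.node (nat_lit 11861120) (BT.node (nat_lit 11860869) (BT.node (nat_lit 11860864) (BT.node (nat_lit 11860800) (BT.leaf (nat_lit 29397265)) (BT.leaf (nat_lit 29397509))) (BT.node (nat_lit 11860865) (BT.leaf (nat_lit 41744929)) (BT.leaf (nat_lit 791220)))) (BT.node (nat_lit 11860992) (BT.node (nat_lit 11860928) (BT.leaf (nat_lit 791220)) (BT.leaf (nat_lit 35386629))) (BT.node (nat_lit 11861056) (BT.leaf (nat_lit 35386645)) (BT.leaf (nat_lit 29399061))))) (BT.node (nat_lit 11861376) (BT.node (nat_lit 11861248) (BT.node (nat_lit 11861184) (BT.leaf (nat_lit 41126413)) (BT.leaf (nat_lit 29399569))) (BT.node (nat_lit 11861312) (BT.leaf (nat_lit 29402385)) (BT.leaf (nat_lit 47103509)))) (BT.node (nat_lit 11861504) (BT.node (nat_lit 11861440) (BT.leaf (nat_lit 47103769)) (BT.leaf (nat_lit 29404689))) (BT.node (nat_lit 11861568) (BT.leaf (nat_lit 29405973)) (BT.leaf (nat_lit 46488325)))))))))) (BT.node (nat_lit 11871424) (BT.node (nat_lit 11866432) (BT.node (nat_lit 11864256) (BT.node (nat_lit 11862656) (BT.node (nat_lit 11862144) (BT.node (nat_lit 11861888) (BT.node (nat_lit 11861760) (BT.node (nat_lit 11861696) (BT.leaf (nat_lit 48193045)) (BT.leaf (nat_lit 46573589))) (BT.node (nat_lit 11861824) (BT.leaf (nat_lit 29408529)) (BT.leaf (nat_lit 38518809)))) (BT.node (nat_lit 11862016) (BT.node (nat_lit 11861952) (BT.leaf (nat_lit 47084057)) (BT.leaf (nat_lit 41175557))) (BT.node (nat_lit 11862080) (BT.leaf (nat_lit 29411093)) (BT.leaf (nat_lit 41405205))))) (BT.node (nat_lit 11862400) (BT.node (nat_lit 11862272) (BT.node (nat_lit 11862208) (BT.leaf (nat_lit 34834197)) (BT.leaf (nat_lit 33506333))) (BT.node (nat_lit 11862336) (BT.leaf (nat_lit 52082193)) (BT.leaf (nat_lit 29415173)))) (BT.node (nat_lit 11862528) (BT.node (nat_lit 11862464) (BT.leaf (nat_lit 40066057)) (BT.leaf (nat_lit 45881377))) (BT.node (nat_lit 11862592) (BT.leaf (nat_lit 49585953)) (BT.leaf (nat_lit 29416465)))))) (BT.node (nat_lit 11863232) (BT.node (nat_lit 11862912) (BT.node (nat_lit 11862784) (BT.node (nat_lit 11862720) (BT.leaf (nat_lit 35044105)) (BT.leaf (nat_lit 29416989))) (BT.node (nat_lit 11862848) (BT.leaf (nat_lit 29417497)) (BT.leaf (nat_lit 29417749)))) (BT.node (nat_lit 11863040) (BT.node (nat_lit 11862976) (BT.leaf (nat_lit 29417753)) (BT.leaf (nat_lit 29417757))) (BT.node (nat_lit 11863168) (BT.leaf (nat_lit 35677457)) (BT.leaf (nat_lit 29421333))))) (BT.node (nat_lit 11863744) (BT.node (nat_lit 11863488) (BT.node (nat_lit 11863360) (BT.leaf (nat_lit 29421589)) (BT.leaf (nat_lit 48691221))) (BT.node (nat_lit 11863552) (BT.leaf (nat_lit 31339285)) (BT.leaf (nat_lit 36402965)))) (BT.node (nat_lit 11863936) (BT.node (nat_lit 11863808) (BT.leaf (nat_lit 29427737)) (BT.leaf (nat_lit 49051909))) (BT.node (nat_lit 11864128) (BT.leaf (nat_lit 30779157)) (BT.leaf (nat_lit 29429281))))))) (BT.node (nat_lit 11865408) (BT.node (nat_lit 11864768) (BT.node (nat_lit 11864512) (BT.node (nat_lit 11864384) (BT.node (nat_lit 11864320) (BT.leaf (nat_lit 29429781)) (BT.leaf (nat_lit 34008597))) (BT.node (nat_lit 11864448) (BT.leaf (nat_lit 34008605)) (BT.leaf (nat_lit 29431825)))) (BT.node (nat_lit 11864640) (BT.node (nat_lit 11864576) (BT.leaf (nat_lit 29431841)) (BT.leaf (nat_lit 33000213))) (BT.node (nat_lit 11864648) (BT.leaf (nat_lit 44330773)) (BT.leaf (nat_lit 770424))))) (BT.node (nat_lit 11865024) (BT.node (nat_lit 11864896) (BT.node (nat_lit 11864832) (BT.leaf (nat_lit 49781013)) (BT.leaf (nat_lit 29432597))) (BT.node (nat_lit 11864960) (BT.leaf (nat_lit 41638433)) (BT.leaf (nat_lit 41639201)))) (BT.node (nat_lit 11865152) (BT.node (nat_lit 11865088) (BT.leaf (nat_lit 31776529)) (BT.leaf (nat_lit 29435405))) (BT.node (nat_lit 11865280) (BT.leaf (nat_lit 29435421)) (BT.leaf (nat_lit 30413585)))))) (BT.node (nat_lit 11865792) (BT.node (nat_lit 11865472) (BT.node (nat_lit 11865413) (BT.node (nat_lit 11865409) (BT.leaf (nat_lit 29436689)) (BT.leaf (nat_lit 788384))) (BT.node (nat_lit 11865415) (BT.leaf (nat_lit 788384)) (BT.leaf (nat_lit 788384)))) (BT.node (nat_lit 11865664) (BT.node (nat_lit 11865600) (BT.leaf (nat_lit 29437213)) (BT.leaf (nat_lit 34873361))) (BT.node (nat_lit 11865728) (BT.leaf (nat_lit 40963589)) (BT.leaf (nat_lit 29439253))))) (BT.node (nat_lit 11866048) (BT.node (nat_lit 11865920) (BT.node (nat_lit 11865856) (BT.leaf (nat_lit 29439509)) (BT.leaf (nat_lit 29441809))) (BT.node (nat_lit 11865984) (BT.leaf (nat_lit 29442065)) (BT.leaf (nat_lit 29442581)))) (BT.node (nat_lit 11866240) (BT.node (nat_lit 11866176) (BT.leaf (nat_lit 29443605)) (BT.leaf (nat_lit 29444101))) (BT.node (nat_lit 11866304) (BT.leaf (nat_lit 49397765)) (BT.leaf (nat_lit 32282893)))))))) (BT.node (nat_lit 11868800) (BT.node (nat_lit 11867656) (BT.node (nat_lit 11867008) (BT.node (nat_lit 11866688) (BT.node (nat_lit 11866560) (BT.node (nat_lit 11866496) (BT.leaf (nat_lit 29446933)) (BT.leaf (nat_lit 29447441))) (BT.node (nat_lit 11866624) (BT.leaf (nat_lit 37333269)) (BT.leaf (nat_lit 33185053)))) (BT.node (nat_lit 11866880) (BT.node (nat_lit 11866816) (BT.leaf (nat_lit 37333789)) (BT.leaf (nat_lit 35765005))) (BT.node (nat_lit 11866944) (BT.leaf (nat_lit 29449233)) (BT.leaf (nat_lit 29449493))))) (BT.node (nat_lit 11867268) (BT.node (nat_lit 11867136) (BT.node (nat_lit 11867072) (BT.leaf (nat_lit 29449749)) (BT.leaf (nat_lit 29450777))) (BT.node (nat_lit 11867264) (BT.leaf (nat_lit 29450781)) (BT.leaf (nat_lit 29452821)))) (BT.node (nat_lit 11867584) (BT.node (nat_lit 11867328) (BT.leaf (nat_lit 784392)) (BT.leaf (nat_lit 35022365))) (BT.node (nat_lit 11867648) (BT.leaf (nat_lit 29455121)) (BT.leaf (nat_lit 29456405)))))) (BT.node (nat_lit 11868160) (BT.node (nat_lit 11867904) (BT.node (nat_lit 11867776) (BT.node (nat_lit 11867712) (BT.leaf (nat_lit 792312)) (BT.leaf (nat_lit 36990993))) (BT.node (nat_lit 11867840) (BT.leaf (nat_lit 49318165)) (BT.leaf (nat_lit 49621277)))) (BT.node (nat_lit 11868032) (BT.node (nat_lit 11867968) (BT.leaf (nat_lit 29457169)) (BT.leaf (nat_lit 29461257))) (BT.node (nat_lit 11868096) (BT.leaf (nat_lit 29459729)) (BT.leaf (nat_lit 29459745))))) (BT.node (nat_lit 11868416) (BT.node (nat_lit 11868288) (BT.node (nat_lit 11868224) (BT.leaf (nat_lit 29462277)) (BT.leaf (nat_lit 49812501))) (BT.node (nat_lit 11868352) (BT.leaf (nat_lit 49915681)) (BT.leaf (nat_lit 35602961)))) (BT.node (nat_lit 11868672) (BT.node (nat_lit 11868480) (BT.leaf (nat_lit 35152913)) (BT.leaf (nat_lit 29463573))) (BT.node (nat_lit 11868736) (BT.leaf (nat_lit 29464609)) (BT.leaf (nat_lit 35153413))))))) (BT.node (nat_lit 11870208) (BT.node (nat_lit 11869632) (BT.node (nat_lit 11869120) (BT.node (nat_lit 11868992) (BT.node (nat_lit 11868928) (BT.leaf (nat_lit 30317585)) (BT.leaf (nat_lit 48980001))) (BT.node (nat_lit 11869056) (BT.leaf (nat_lit 29468445)) (BT.leaf (nat_lit 33532177)))) (BT.node (nat_lit 11869376) (BT.node (nat_lit 11869184) (BT.leaf (nat_lit 29763345)) (BT.leaf (nat_lit 49133577))) (BT.node (nat_lit 11869440) (BT.leaf (nat_lit 39171081)) (BT.leaf (nat_lit 47512853))))) (BT.node (nat_lit 11869952) (BT.node (nat_lit 11869760) (BT.node (nat_lit 11869696) (BT.leaf (nat_lit 40760093)) (BT.leaf (nat_lit 34833669))) (BT.node (nat_lit 11869888) (BT.leaf (nat_lit 29486361)) (BT.leaf (nat_lit 41011729)))) (BT.node (nat_lit 11870080) (BT.node (nat_lit 11870016) (BT.leaf (nat_lit 29473813)) (BT.leaf (nat_lit 29474581))) (BT.node (nat_lit 11870144) (BT.leaf (nat_lit 33776413)) (BT.leaf (nat_lit 29475093)))))) (BT.node (nat_lit 11870784) (BT.node (nat_lit 11870400) (BT.node (nat_lit 11870336) (BT.node (nat_lit 11870272) (BT.leaf (nat_lit 29475609)) (BT.leaf (nat_lit 29475613))) (BT.node (nat_lit 11870342) (BT.leaf (nat_lit 49438997)) (BT.leaf (nat_lit 767824)))) (BT.node (nat_lit 11870528) (BT.node (nat_lit 11870464) (BT.leaf (nat_lit 32462113)) (BT.leaf (nat_lit 29476373))) (BT.node (nat_lit 11870656) (BT.leaf (nat_lit 29476885)) (BT.leaf (nat_lit 48270625))))) (BT.node (nat_lit 11871104) (BT.node (nat_lit 11870976) (BT.node (nat_lit 11870912) (BT.leaf (nat_lit 33778197)) (BT.leaf (nat_lit 29479185))) (BT.node (nat_lit 11871040) (BT.leaf (nat_lit 29479189)) (BT.leaf (nat_lit 50861333)))) (BT.node (nat_lit 11871296) (BT.node (nat_lit 11871168) (BT.leaf (nat_lit 51222297)) (BT.leaf (nat_lit 51222281))) (BT.node (nat_lit 11871360) (BT.leaf (nat_lit 51617821)) (BT.leaf (nat_lit 29480217))))))))) (BT.node (nat_lit 11876032) (BT.node (nat_lit 11873792) (BT.node (nat_lit 11872771) (BT.node (nat_lit 11872320) (BT.node (nat_lit 11871936) (BT.node (nat_lit 11871552) (BT.node (nat_lit 11871488) (BT.leaf (nat_lit 43377185)) (BT.leaf (nat_lit 50872089))) (BT.node (nat_lit 11871872) (BT.leaf (nat_lit 29762333)) (BT.leaf (nat_lit 29481489)))) (BT.node (nat_lit 11872064) (BT.node (nat_lit 11872000) (BT.leaf (nat_lit 47585805)) (BT.leaf (nat_lit 33779733))) (BT.node (nat_lit 11872128) (BT.leaf (nat_lit 36350997)) (BT.leaf (nat_lit 29482781))))) (BT.node (nat_lit 11872640) (BT.node (nat_lit 11872448) (BT.node (nat_lit 11872384) (BT.leaf (nat_lit 29483793)) (BT.leaf (nat_lit 34830865))) (BT.node (nat_lit 11872576) (BT.leaf (nat_lit 29484817)) (BT.leaf (nat_lit 29485593)))) (BT.node (nat_lit 11872710) (BT.node (nat_lit 11872704) (BT.leaf (nat_lit 29485589)) (BT.leaf (nat_lit 29486609))) (BT.node (nat_lit 11872768) (BT.leaf (nat_lit 778640)) (BT.leaf (nat_lit 29486613)))))) (BT.node (nat_lit 11873216) (BT.node (nat_lit 11872896) (BT.node (nat_lit 11872832) (BT.node (nat_lit 11872774) (BT.leaf (nat_lit 765968)) (BT.leaf (nat_lit 765968))) (BT.node (nat_lit 11872836) (BT.leaf (nat_lit 45010185)) (BT.leaf (nat_lit 755152)))) (BT.node (nat_lit 11873024) (BT.node (nat_lit 11872960) (BT.leaf (nat_lit 29487385)) (BT.leaf (nat_lit 47179541))) (BT.node (nat_lit 11873152) (BT.leaf (nat_lit 47491865)) (BT.leaf (nat_lit 37333781))))) (BT.node (nat_lit 11873536) (BT.node (nat_lit 11873408) (BT.node (nat_lit 11873344) (BT.leaf (nat_lit 47173653)) (BT.leaf (nat_lit 37333273))) (BT.node (nat_lit 11873472) (BT.leaf (nat_lit 29490713)) (BT.leaf (nat_lit 29491989)))) (BT.node (nat_lit 11873664) (BT.node (nat_lit 11873600) (BT.leaf (nat_lit 34332425)) (BT.leaf (nat_lit 29493513))) (BT.node (nat_lit 11873728) (BT.leaf (nat_lit 29493533)) (BT.leaf (nat_lit 29495325))))))) (BT.node (nat_lit 11874944) (BT.node (nat_lit 11874368) (BT.node (nat_lit 11873984) (BT.node (nat_lit 11873856) (BT.node (nat_lit 11873793) (BT.leaf (nat_lit 29498653)) (BT.leaf (nat_lit 808252))) (BT.node (nat_lit 11873920) (BT.leaf (nat_lit 29498905)) (BT.leaf (nat_lit 29498909)))) (BT.node (nat_lit 11874240) (BT.node (nat_lit 11874176) (BT.leaf (nat_lit 29499413)) (BT.leaf (nat_lit 33796101))) (BT.node (nat_lit 11874304) (BT.leaf (nat_lit 33796385)) (BT.leaf (nat_lit 33796897))))) (BT.node (nat_lit 11874688) (BT.node (nat_lit 11874560) (BT.node (nat_lit 11874496) (BT.leaf (nat_lit 34201117)) (BT.leaf (nat_lit 29502229))) (BT.node (nat_lit 11874624) (BT.leaf (nat_lit 29509905)) (BT.leaf (nat_lit 29509909)))) (BT.node (nat_lit 11874816) (BT.node (nat_lit 11874752) (BT.leaf (nat_lit 44512017)) (BT.leaf (nat_lit 29503517))) (BT.node (nat_lit 11874880) (BT.leaf (nat_lit 29504029)) (BT.leaf (nat_lit 29504537)))))) (BT.node (nat_lit 11875520) (BT.node (nat_lit 11875264) (BT.node (nat_lit 11875072) (BT.node (nat_lit 11875008) (BT.leaf (nat_lit 29504541)) (BT.leaf (nat_lit 29504781))) (BT.node (nat_lit 11875136) (BT.leaf (nat_lit 29504793)) (BT.leaf (nat_lit 29505029)))) (BT.node (nat_lit 11875392) (BT.node (nat_lit 11875328) (BT.leaf (nat_lit 29505285)) (BT.leaf (nat_lit 29505301))) (BT.node (nat_lit 11875456) (BT.leaf (nat_lit 33475345)) (BT.leaf (nat_lit 47535637))))) (BT.node (nat_lit 11875776) (BT.node (nat_lit 11875648) (BT.node (nat_lit 11875584) (BT.leaf (nat_lit 36349189)) (BT.leaf (nat_lit 29507353))) (BT.node (nat_lit 11875712) (BT.leaf (nat_lit 29507349)) (BT.leaf (nat_lit 50842885)))) (BT.node (nat_lit 11875904) (BT.node (nat_lit 11875840) (BT.leaf (nat_lit 30605589)) (BT.leaf (nat_lit 46640145))) (BT.node (nat_lit 11875968) (BT.leaf (nat_lit 29509657)) (BT.leaf (nat_lit 29509661)))))))) (BT.node (nat_lit 11878336) (BT.node (nat_lit 11877120) (BT.node (nat_lit 11876480) (BT.node (nat_lit 11876160) (BT.node (nat_lit 11876099) (BT.node (nat_lit 11876096) (BT.leaf (nat_lit 39976465)) (BT.leaf (nat_lit 29511445))) (BT.node (nat_lit 11876102) (BT.leaf (nat_lit 814152)) (BT.leaf (nat_lit 814152)))) (BT.node (nat_lit 11876288) (BT.node (nat_lit 11876224) (BT.leaf (nat_lit 29511961)) (BT.leaf (nat_lit 29511965))) (BT.node (nat_lit 11876352) (BT.leaf (nat_lit 29512209)) (BT.leaf (nat_lit 29512725))))) (BT.node (nat_lit 11876800) (BT.node (nat_lit 11876608) (BT.node (nat_lit 11876544) (BT.leaf (nat_lit 50795805)) (BT.leaf (nat_lit 29512977))) (BT.node (nat_lit 11876736) (BT.leaf (nat_lit 48834061)) (BT.leaf (nat_lit 29513245)))) (BT.node (nat_lit 11877056) (BT.node (nat_lit 11876864) (BT.leaf (nat_lit 31895573)) (BT.leaf (nat_lit 29515029))) (BT.node (nat_lit 11877061) (BT.leaf (nat_lit 49006085)) (BT.leaf (nat_lit 786708)))))) (BT.node (nat_lit 11877696) (BT.node (nat_lit 11877376) (BT.node (nat_lit 11877248) (BT.node (nat_lit 11877184) (BT.leaf (nat_lit 29517853)) (BT.leaf (nat_lit 50798869))) (BT.node (nat_lit 11877312) (BT.leaf (nat_lit 50798621)) (BT.leaf (nat_lit 29520657)))) (BT.node (nat_lit 11877568) (BT.node (nat_lit 11877504) (BT.leaf (nat_lit 29520909)) (BT.leaf (nat_lit 51289361))) (BT.node (nat_lit 11877632) (BT.leaf (nat_lit 29521677)) (BT.leaf (nat_lit 29522197))))) (BT.node (nat_lit 11878016) (BT.node (nat_lit 11877824) (BT.node (nat_lit 11877760) (BT.leaf (nat_lit 29537029)) (BT.leaf (nat_lit 48345621))) (BT.node (nat_lit 11877952) (BT.leaf (nat_lit 47314445)) (BT.leaf (nat_lit 33803797)))) (BT.node (nat_lit 11878208) (BT.node (nat_lit 11878144) (BT.leaf (nat_lit 29522457)) (BT.leaf (nat_lit 29522961))) (BT.node (nat_lit 11878272) (BT.leaf (nat_lit 47338513)) (BT.leaf (nat_lit 47368461))))))) (BT.node (nat_lit 11879680) (BT.node (nat_lit 11879040) (BT.node (nat_lit 11878656) (BT.node (nat_lit 11878528) (BT.node (nat_lit 11878464) (BT.leaf (nat_lit 48350469)) (BT.leaf (nat_lit 34446101))) (BT.node (nat_lit 11878592) (BT.leaf (nat_lit 30056985)) (BT.leaf (nat_lit 30056989)))) (BT.node (nat_lit 11878848) (BT.node (nat_lit 11878720) (BT.leaf (nat_lit 33807109)) (BT.leaf (nat_lit 29524501))) (BT.node (nat_lit 11878976) (BT.leaf (nat_lit 50943009)) (BT.leaf (nat_lit 29528345))))) (BT.node (nat_lit 11879296) (BT.node (nat_lit 11879168) (BT.node (nat_lit 11879104) (BT.leaf (nat_lit 34454545)) (BT.leaf (nat_lit 29528853))) (BT.node (nat_lit 11879232) (BT.leaf (nat_lit 33767189)) (BT.leaf (nat_lit 29531921)))) (BT.node (nat_lit 11879424) (BT.node (nat_lit 11879360) (BT.leaf (nat_lit 29532437)) (BT.leaf (nat_lit 33506069))) (BT.node (nat_lit 11879488) (BT.leaf (nat_lit 33506077)) (BT.leaf (nat_lit 29533193)))))) (BT.node (nat_lit 11880640) (BT.node (nat_lit 11880000) (BT.node (nat_lit 11879808) (BT.node (nat_lit 11879744) (BT.leaf (nat_lit 51288849)) (BT.leaf (nat_lit 29534485))) (BT.node (nat_lit 11879872) (BT.leaf (nat_lit 46618129)) (BT.leaf (nat_lit 49156629)))) (BT.node (nat_lit 11880384) (BT.node (nat_lit 11880320) (BT.leaf (nat_lit 29534733)) (BT.leaf (nat_lit 44238113))) (BT.node (nat_lit 11880576) (BT.leaf (nat_lit 29537301)) (BT.leaf (nat_lit 51614225))))) (BT.node (nat_lit 11880960) (BT.node (nat_lit 11880832) (BT.node (nat_lit 11880768) (BT.leaf (nat_lit 37682193)) (BT.leaf (nat_lit 47769361))) (BT.node (nat_lit 11880896) (BT.leaf (nat_lit 50364437)) (BT.leaf (nat_lit 52216609)))) (BT.node (nat_lit 11881088) (BT.node (nat_lit 11881024) (BT.leaf (nat_lit 48170501)) (BT.leaf (nat_lit 50861077))) (BT.node (nat_lit 11881152) (BT.leaf (nat_lit 29539593)) (BT.leaf (nat_lit 47524893))))))))))) (BT.node (nat_lit 11902082) (BT.node (nat_lit 11890944) (BT.node (nat_lit 11885760) (BT.node (nat_lit 11883584) (BT.node (nat_lit 11882368) (BT.node (nat_lit 11881664) (BT.node (nat_lit 11881344) (BT.node (nat_lit 11881221) (BT.node (nat_lit 11881217) (BT.leaf (nat_lit 36253973)) (BT.leaf (nat_lit 767972))) (BT.node (nat_lit 11881280) (BT.leaf (nat_lit 767972)) (BT.leaf (nat_lit 29540121)))) (BT.node (nat_lit 11881536) (BT.node (nat_lit 11881472) (BT.leaf (nat_lit 29540125)) (BT.leaf (nat_lit 48816913))) (BT.node (nat_lit 11881600) (BT.leaf (nat_lit 29540637)) (BT.leaf (nat_lit 47173381))))) (BT.node (nat_lit 11881920) (BT.node (nat_lit 11881792) (BT.node (nat_lit 11881728) (BT.leaf (nat_lit 29542665)) (BT.leaf (nat_lit 48055585))) (BT.node (nat_lit 11881856) (BT.leaf (nat_lit 29542161)) (BT.leaf (nat_lit 29542681)))) (BT.node (nat_lit 11882048) (BT.node (nat_lit 11881984) (BT.leaf (nat_lit 29542929)) (BT.leaf (nat_lit 52114693))) (BT.node (nat_lit 11882304) (BT.leaf (nat_lit 29543709)) (BT.leaf (nat_lit 31473169)))))) (BT.node (nat_lit 11883008) (BT.node (nat_lit 11882752) (BT.node (nat_lit 11882560) (BT.node (nat_lit 11882432) (BT.leaf (nat_lit 29544969)) (BT.leaf (nat_lit 29544973))) (BT.node (nat_lit 11882624) (BT.leaf (nat_lit 29544985)) (BT.leaf (nat_lit 31870725)))) (BT.node (nat_lit 11882822) (BT.node (nat_lit 11882816) (BT.leaf (nat_lit 51037189)) (BT.leaf (nat_lit 42959893))) (BT.node (nat_lit 11882944) (BT.leaf (nat_lit 777444)) (BT.leaf (nat_lit 29546261))))) (BT.node (nat_lit 11883264) (BT.node (nat_lit 11883136) (BT.node (nat_lit 11883075) (BT.leaf (nat_lit 48663065)) (BT.leaf (nat_lit 760356))) (BT.node (nat_lit 11883200) (BT.leaf (nat_lit 48577809)) (BT.leaf (nat_lit 48663577)))) (BT.node (nat_lit 11883392) (BT.node (nat_lit 11883328) (BT.leaf (nat_lit 32010513)) (BT.leaf (nat_lit 42429981))) (BT.node (nat_lit 11883456) (BT.leaf (nat_lit 29547525)) (BT.leaf (nat_lit 36572189))))))) (BT.node (nat_lit 11884736) (BT.node (nat_lit 11884231) (BT.node (nat_lit 11883840) (BT.node (nat_lit 11883719) (BT.node (nat_lit 11883712) (BT.leaf (nat_lit 29547793)) (BT.leaf (nat_lit 34468117))) (BT.node (nat_lit 11883776) (BT.leaf (nat_lit 795296)) (BT.leaf (nat_lit 34992409)))) (BT.node (nat_lit 11884160) (BT.node (nat_lit 11883904) (BT.leaf (nat_lit 34992413)) (BT.leaf (nat_lit 50233629))) (BT.node (nat_lit 11884224) (BT.leaf (nat_lit 48130317)) (BT.leaf (nat_lit 48277765))))) (BT.node (nat_lit 11884480) (BT.node (nat_lit 11884352) (BT.node (nat_lit 11884288) (BT.leaf (nat_lit 775080)) (BT.leaf (nat_lit 34504717))) (BT.node (nat_lit 11884416) (BT.leaf (nat_lit 52139781)) (BT.leaf (nat_lit 29551129)))) (BT.node (nat_lit 11884608) (BT.node (nat_lit 11884544) (BT.leaf (nat_lit 44310037)) (BT.leaf (nat_lit 47025669))) (BT.node (nat_lit 11884672) (BT.leaf (nat_lit 29552925)) (BT.leaf (nat_lit 42967581)))))) (BT.node (nat_lit 11885185) (BT.node (nat_lit 11884992) (BT.node (nat_lit 11884864) (BT.node (nat_lit 11884800) (BT.leaf (nat_lit 29554465)) (BT.leaf (nat_lit 29554201))) (BT.node (nat_lit 11884928) (BT.leaf (nat_lit 29554205)) (BT.leaf (nat_lit 29554457)))) (BT.node (nat_lit 11885120) (BT.node (nat_lit 11885056) (BT.leaf (nat_lit 29554709)) (BT.leaf (nat_lit 45819405))) (BT.node (nat_lit 11885184) (BT.leaf (nat_lit 29554977)) (BT.leaf (nat_lit 29555985))))) (BT.node (nat_lit 11885376) (BT.node (nat_lit 11885248) (BT.node (nat_lit 11885191) (BT.leaf (nat_lit 798016)) (BT.leaf (nat_lit 798016))) (BT.node (nat_lit 11885312) (BT.leaf (nat_lit 29556501)) (BT.leaf (nat_lit 47541533)))) (BT.node (nat_lit 11885568) (BT.node (nat_lit 11885504) (BT.leaf (nat_lit 47506965)) (BT.leaf (nat_lit 31850781))) (BT.node (nat_lit 11885632) (BT.leaf (nat_lit 29557777)) (BT.leaf (nat_lit 31850761)))))))) (BT.node (nat_lit 11888000) (BT.node (nat_lit 11886784) (BT.node (nat_lit 11886208) (BT.node (nat_lit 11885959) (BT.node (nat_lit 11885952) (BT.node (nat_lit 11885888) (BT.leaf (nat_lit 29558545)) (BT.leaf (nat_lit 29559573))) (BT.node (nat_lit 11885958) (BT.leaf (nat_lit 32391701)) (BT.leaf (nat_lit 771180)))) (BT.node (nat_lit 11886080) (BT.node (nat_lit 11886016) (BT.leaf (nat_lit 771180)) (BT.leaf (nat_lit 50034193))) (BT.node (nat_lit 11886144) (BT.leaf (nat_lit 50035741)) (BT.leaf (nat_lit 38375961))))) (BT.node (nat_lit 11886464) (BT.node (nat_lit 11886336) (BT.node (nat_lit 11886272) (BT.leaf (nat_lit 48150025)) (BT.leaf (nat_lit 47228437))) (BT.node (nat_lit 11886400) (BT.leaf (nat_lit 51727381)) (BT.leaf (nat_lit 29560849)))) (BT.node (nat_lit 11886656) (BT.node (nat_lit 11886528) (BT.leaf (nat_lit 29561117)) (BT.leaf (nat_lit 50677281))) (BT.node (nat_lit 11886720) (BT.leaf (nat_lit 30590489)) (BT.leaf (nat_lit 50805281)))))) (BT.node (nat_lit 11887296) (BT.node (nat_lit 11887040) (BT.node (nat_lit 11886912) (BT.node (nat_lit 11886848) (BT.leaf (nat_lit 29562141)) (BT.leaf (nat_lit 33820689))) (BT.node (nat_lit 11886976) (BT.leaf (nat_lit 29562393)) (BT.leaf (nat_lit 29562397)))) (BT.node (nat_lit 11887168) (BT.node (nat_lit 11887104) (BT.leaf (nat_lit 35194897)) (BT.leaf (nat_lit 51019545))) (BT.node (nat_lit 11887232) (BT.leaf (nat_lit 29564941)) (BT.leaf (nat_lit 33824021))))) (BT.node (nat_lit 11887552) (BT.node (nat_lit 11887424) (BT.node (nat_lit 11887360) (BT.leaf (nat_lit 29564953)) (BT.leaf (nat_lit 29565205))) (BT.node (nat_lit 11887488) (BT.leaf (nat_lit 44976913)) (BT.leaf (nat_lit 47550237)))) (BT.node (nat_lit 11887680) (BT.node (nat_lit 11887616) (BT.leaf (nat_lit 32092437)) (BT.leaf (nat_lit 40622341))) (BT.node (nat_lit 11887872) (BT.leaf (nat_lit 48416261)) (BT.leaf (nat_lit 50668065))))))) (BT.node (nat_lit 11889408) (BT.node (nat_lit 11888896) (BT.node (nat_lit 11888640) (BT.node (nat_lit 11888320) (BT.node (nat_lit 11888192) (BT.leaf (nat_lit 29566981)) (BT.leaf (nat_lit 29567509))) (BT.node (nat_lit 11888576) (BT.leaf (nat_lit 48910597)) (BT.leaf (nat_lit 35460885)))) (BT.node (nat_lit 11888768) (BT.node (nat_lit 11888704) (BT.leaf (nat_lit 38333957)) (BT.leaf (nat_lit 32428317))) (BT.node (nat_lit 11888832) (BT.leaf (nat_lit 47132701)) (BT.leaf (nat_lit 30269973))))) (BT.node (nat_lit 11889152) (BT.node (nat_lit 11889024) (BT.node (nat_lit 11888960) (BT.leaf (nat_lit 29572629)) (BT.leaf (nat_lit 29572893))) (BT.node (nat_lit 11889088) (BT.leaf (nat_lit 29573393)) (BT.leaf (nat_lit 33501973)))) (BT.node (nat_lit 11889280) (BT.node (nat_lit 11889216) (BT.leaf (nat_lit 47982617)) (BT.leaf (nat_lit 47982621))) (BT.node (nat_lit 11889344) (BT.leaf (nat_lit 29574417)) (BT.leaf (nat_lit 43439393)))))) (BT.node (nat_lit 11890304) (BT.node (nat_lit 11889920) (BT.node (nat_lit 11889600) (BT.node (nat_lit 11889536) (BT.leaf (nat_lit 29574937)) (BT.leaf (nat_lit 29575177))) (BT.node (nat_lit 11889728) (BT.leaf (nat_lit 29575445)) (BT.leaf (nat_lit 41666069)))) (BT.node (nat_lit 11890048) (BT.node (nat_lit 11889984) (BT.leaf (nat_lit 29575713)) (BT.leaf (nat_lit 29575957))) (BT.node (nat_lit 11890240) (BT.leaf (nat_lit 29576213)) (BT.leaf (nat_lit 29577745))))) (BT.node (nat_lit 11890624) (BT.node (nat_lit 11890432) (BT.node (nat_lit 11890368) (BT.leaf (nat_lit 47460129)) (BT.leaf (nat_lit 48257313))) (BT.node (nat_lit 11890496) (BT.leaf (nat_lit 35355937)) (BT.leaf (nat_lit 29581073)))) (BT.node (nat_lit 11890752) (BT.node (nat_lit 11890688) (BT.leaf (nat_lit 29582365)) (BT.leaf (nat_lit 49059845))) (BT.node (nat_lit 11890880) (BT.leaf (nat_lit 50431509)) (BT.leaf (nat_lit 50579205))))))))) (BT.node (nat_lit 11896064) (BT.node (nat_lit 11893504) (BT.node (nat_lit 11892224) (BT.node (nat_lit 11891456) (BT.node (nat_lit 11891200) (BT.node (nat_lit 11891072) (BT.node (nat_lit 11891008) (BT.leaf (nat_lit 35669521)) (BT.leaf (nat_lit 48267021))) (BT.node (nat_lit 11891136) (BT.leaf (nat_lit 50579217)) (BT.leaf (nat_lit 29584669)))) (BT.node (nat_lit 11891328) (BT.node (nat_lit 11891264) (BT.leaf (nat_lit 30886409)) (BT.leaf (nat_lit 30272529))) (BT.node (nat_lit 11891392) (BT.leaf (nat_lit 29585685)) (BT.leaf (nat_lit 29585941))))) (BT.node (nat_lit 11891776) (BT.node (nat_lit 11891584) (BT.node (nat_lit 11891520) (BT.leaf (nat_lit 29586197)) (BT.leaf (nat_lit 29587221))) (BT.node (nat_lit 11891648) (BT.leaf (nat_lit 35897109)) (BT.leaf (nat_lit 30697497)))) (BT.node (nat_lit 11891904) (BT.node (nat_lit 11891840) (BT.leaf (nat_lit 48402209)) (BT.leaf (nat_lit 48231701))) (BT.node (nat_lit 11892160) (BT.leaf (nat_lit 50808857)) (BT.leaf (nat_lit 33834517)))))) (BT.node (nat_lit 11892864) (BT.node (nat_lit 11892480) (BT.node (nat_lit 11892352) (BT.node (nat_lit 11892288) (BT.leaf (nat_lit 29593361)) (BT.leaf (nat_lit 42810129))) (BT.node (nat_lit 11892416) (BT.leaf (nat_lit 47856417)) (BT.leaf (nat_lit 52299285)))) (BT.node (nat_lit 11892608) (BT.node (nat_lit 11892544) (BT.leaf (nat_lit 38522137)) (BT.leaf (nat_lit 38021385))) (BT.node (nat_lit 11892672) (BT.leaf (nat_lit 29596693)) (BT.leaf (nat_lit 29598749))))) (BT.node (nat_lit 11893184) (BT.node (nat_lit 11893056) (BT.node (nat_lit 11892992) (BT.leaf (nat_lit 29599521)) (BT.leaf (nat_lit 29600533))) (BT.node (nat_lit 11893120) (BT.leaf (nat_lit 29600789)) (BT.leaf (nat_lit 29601565)))) (BT.node (nat_lit 11893312) (BT.node (nat_lit 11893248) (BT.leaf (nat_lit 43660557)) (BT.leaf (nat_lit 37065489))) (BT.node (nat_lit 11893376) (BT.leaf (nat_lit 51578389)) (BT.leaf (nat_lit 34112017))))))) (BT.node (nat_lit 11894528) (BT.node (nat_lit 11894016) (BT.node (nat_lit 11893760) (BT.node (nat_lit 11893632) (BT.node (nat_lit 11893568) (BT.leaf (nat_lit 49182213)) (BT.leaf (nat_lit 32131353))) (BT.node (nat_lit 11893696) (BT.leaf (nat_lit 29604897)) (BT.leaf (nat_lit 29606425)))) (BT.node (nat_lit 11893888) (BT.node (nat_lit 11893824) (BT.leaf (nat_lit 29606429)) (BT.leaf (nat_lit 45128217))) (BT.node (nat_lit 11893952) (BT.leaf (nat_lit 30661909)) (BT.leaf (nat_lit 29613329))))) (BT.node (nat_lit 11894272) (BT.node (nat_lit 11894144) (BT.node (nat_lit 11894080) (BT.leaf (nat_lit 29614353)) (BT.leaf (nat_lit 46846469))) (BT.node (nat_lit 11894208) (BT.leaf (nat_lit 47174665)) (BT.leaf (nat_lit 50736161)))) (BT.node (nat_lit 11894400) (BT.node (nat_lit 11894336) (BT.leaf (nat_lit 47081749)) (BT.leaf (nat_lit 47091729))) (BT.node (nat_lit 11894464) (BT.leaf (nat_lit 34961669)) (BT.leaf (nat_lit 46949661)))))) (BT.node (nat_lit 11895296) (BT.node (nat_lit 11894912) (BT.node (nat_lit 11894784) (BT.node (nat_lit 11894592) (BT.leaf (nat_lit 31344417)) (BT.leaf (nat_lit 47575813))) (BT.node (nat_lit 11894848) (BT.leaf (nat_lit 29624089)) (BT.leaf (nat_lit 29624093)))) (BT.node (nat_lit 11895168) (BT.node (nat_lit 11895104) (BT.leaf (nat_lit 31007769)) (BT.leaf (nat_lit 45138721))) (BT.node (nat_lit 11895232) (BT.leaf (nat_lit 34365721)) (BT.leaf (nat_lit 40463637))))) (BT.node (nat_lit 11895552) (BT.node (nat_lit 11895424) (BT.node (nat_lit 11895360) (BT.leaf (nat_lit 29627417)) (BT.leaf (nat_lit 41796373))) (BT.node (nat_lit 11895488) (BT.leaf (nat_lit 47184921)) (BT.leaf (nat_lit 41796873)))) (BT.node (nat_lit 11895808) (BT.node (nat_lit 11895616) (BT.leaf (nat_lit 29628945)) (BT.leaf (nat_lit 49190149))) (BT.node (nat_lit 11896000) (BT.leaf (nat_lit 29631257)) (BT.leaf (nat_lit 44356629)))))))) (BT.node (nat_lit 11898624) (BT.node (nat_lit 11897280) (BT.node (nat_lit 11896768) (BT.node (nat_lit 11896448) (BT.node (nat_lit 11896256) (BT.node (nat_lit 11896128) (BT.leaf (nat_lit 48200981)) (BT.leaf (nat_lit 29634065))) (BT.node (nat_lit 11896320) (BT.leaf (nat_lit 46927901)) (BT.leaf (nat_lit 29637125)))) (BT.node (nat_lit 11896576) (BT.node (nat_lit 11896512) (BT.leaf (nat_lit 31352853)) (BT.leaf (nat_lit 36995345))) (BT.node (nat_lit 11896640) (BT.leaf (nat_lit 39675925)) (BT.leaf (nat_lit 36995361))))) (BT.node (nat_lit 11897024) (BT.node (nat_lit 11896896) (BT.node (nat_lit 11896832) (BT.leaf (nat_lit 36995617)) (BT.leaf (nat_lit 36996129))) (BT.node (nat_lit 11896960) (BT.leaf (nat_lit 29641733)) (BT.leaf (nat_lit 29641489)))) (BT.node (nat_lit 11897152) (BT.node (nat_lit 11897088) (BT.leaf (nat_lit 33843997)) (BT.leaf (nat_lit 29641749))) (BT.node (nat_lit 11897216) (BT.leaf (nat_lit 33263901)) (BT.leaf (nat_lit 29642269)))))) (BT.node (nat_lit 11897792) (BT.node (nat_lit 11897536) (BT.node (nat_lit 11897408) (BT.node (nat_lit 11897344) (BT.leaf (nat_lit 50323229)) (BT.leaf (nat_lit 48688913))) (BT.node (nat_lit 11897472) (BT.leaf (nat_lit 39579913)) (BT.leaf (nat_lit 48688905)))) (BT.node (nat_lit 11897664) (BT.node (nat_lit 11897600) (BT.leaf (nat_lit 45243397)) (BT.leaf (nat_lit 50904597))) (BT.node (nat_lit 11897728) (BT.leaf (nat_lit 29647889)) (BT.leaf (nat_lit 39968801))))) (BT.node (nat_lit 11898048) (BT.node (nat_lit 11897920) (BT.node (nat_lit 11897856) (BT.leaf (nat_lit 29650949)) (BT.leaf (nat_lit 29648917))) (BT.node (nat_lit 11897984) (BT.leaf (nat_lit 29650209)) (BT.leaf (nat_lit 48476433)))) (BT.node (nat_lit 11898176) (BT.node (nat_lit 11898112) (BT.leaf (nat_lit 48951585)) (BT.leaf (nat_lit 40748041))) (BT.node (nat_lit 11898240) (BT.leaf (nat_lit 29653265)) (BT.leaf (nat_lit 33844497))))))) (BT.node (nat_lit 11900608) (BT.node (nat_lit 11900096) (BT.node (nat_lit 11899264) (BT.node (nat_lit 11898752) (BT.node (nat_lit 11898688) (BT.leaf (nat_lit 46919969)) (BT.leaf (nat_lit 29656345))) (BT.node (nat_lit 11898816) (BT.leaf (nat_lit 29656349)) (BT.leaf (nat_lit 47606277)))) (BT.node (nat_lit 11899584) (BT.node (nat_lit 11899392) (BT.leaf (nat_lit 29656865)) (BT.leaf (nat_lit 29658389))) (BT.node (nat_lit 11899904) (BT.leaf (nat_lit 29658641)) (BT.leaf (nat_lit 29666309))))) (BT.node (nat_lit 11900352) (BT.node (nat_lit 11900224) (BT.node (nat_lit 11900160) (BT.leaf (nat_lit 29660681)) (BT.leaf (nat_lit 29660685))) (BT.node (nat_lit 11900288) (BT.leaf (nat_lit 29660697)) (BT.leaf (nat_lit 29660701)))) (BT.node (nat_lit 11900480) (BT.node (nat_lit 11900416) (BT.leaf (nat_lit 40273949)) (BT.leaf (nat_lit 29662225))) (BT.node (nat_lit 11900544) (BT.leaf (nat_lit 29662725)) (BT.leaf (nat_lit 33847313)))))) (BT.node (nat_lit 11901568) (BT.node (nat_lit 11901056) (BT.node (nat_lit 11900864) (BT.node (nat_lit 11900736) (BT.leaf (nat_lit 33847057)) (BT.leaf (nat_lit 29664537))) (BT.node (nat_lit 11900992) (BT.leaf (nat_lit 35624213)) (BT.leaf (nat_lit 35624221)))) (BT.node (nat_lit 11901376) (BT.node (nat_lit 11901120) (BT.leaf (nat_lit 29667093)) (BT.leaf (nat_lit 30683161))) (BT.node (nat_lit 11901504) (BT.leaf (nat_lit 29668385)) (BT.leaf (nat_lit 47155209))))) (BT.node (nat_lit 11901888) (BT.node (nat_lit 11901760) (BT.node (nat_lit 11901696) (BT.leaf (nat_lit 32338201)) (BT.leaf (nat_lit 32338189))) (BT.node (nat_lit 11901824) (BT.leaf (nat_lit 41759509)) (BT.leaf (nat_lit 29671945)))) (BT.node (nat_lit 11902016) (BT.node (nat_lit 11901952) (BT.leaf (nat_lit 36367121)) (BT.leaf (nat_lit 35651345))) (BT.node (nat_lit 11902080) (BT.leaf (nat_lit 50054161)) (BT.leaf (nat_lit 33504029)))))))))) (BT.node (nat_lit 11910656) (BT.node (nat_lit 11906240) (BT.node (nat_lit 11904000) (BT.node (nat_lit 11902912) (BT.node (nat_lit 11902464) (BT.node (nat_lit 11902208) (BT.node (nat_lit 11902144) (BT.node (nat_lit 11902083) (BT.leaf (nat_lit 782100)) (BT.leaf (nat_lit 782100))) (BT.node (nat_lit 11902148) (BT.leaf (nat_lit 29673245)) (BT.leaf (nat_lit 814516)))) (BT.node (nat_lit 11902336) (BT.node (nat_lit 11902272) (BT.leaf (nat_lit 50384901)) (BT.leaf (nat_lit 37211921))) (BT.node (nat_lit 11902400) (BT.leaf (nat_lit 33851413)) (BT.leaf (nat_lit 46701061))))) (BT.node (nat_lit 11902656) (BT.node (nat_lit 11902535) (BT.node (nat_lit 11902528) (BT.leaf (nat_lit 29679385)) (BT.leaf (nat_lit 33039633))) (BT.node (nat_lit 11902592) (BT.leaf (nat_lit 778172)) (BT.leaf (nat_lit 29679885)))) (BT.node (nat_lit 11902724) (BT.node (nat_lit 11902720) (BT.leaf (nat_lit 35802897)) (BT.leaf (nat_lit 29681941))) (BT.node (nat_lit 11902848) (BT.leaf (nat_lit 796804)) (BT.leaf (nat_lit 36540949)))))) (BT.node (nat_lit 11903424) (BT.node (nat_lit 11903108) (BT.node (nat_lit 11903040) (BT.node (nat_lit 11902976) (BT.leaf (nat_lit 33853969)) (BT.leaf (nat_lit 29683985))) (BT.node (nat_lit 11903104) (BT.leaf (nat_lit 47387425)) (BT.leaf (nat_lit 40222241)))) (BT.node (nat_lit 11903296) (BT.node (nat_lit 11903168) (BT.leaf (nat_lit 777768)) (BT.leaf (nat_lit 46856205))) (BT.node (nat_lit 11903360) (BT.leaf (nat_lit 29689877)) (BT.leaf (nat_lit 33592849))))) (BT.node (nat_lit 11903680) (BT.node (nat_lit 11903552) (BT.node (nat_lit 11903488) (BT.leaf (nat_lit 29690649)) (BT.leaf (nat_lit 29691405))) (BT.node (nat_lit 11903616) (BT.leaf (nat_lit 29691417)) (BT.leaf (nat_lit 29691421)))) (BT.node (nat_lit 11903872) (BT.node (nat_lit 11903744) (BT.leaf (nat_lit 33858825)) (BT.leaf (nat_lit 29692437))) (BT.node (nat_lit 11903936) (BT.leaf (nat_lit 47614745)) (BT.leaf (nat_lit 33858829))))))) (BT.node (nat_lit 11905088) (BT.node (nat_lit 11904640) (BT.node (nat_lit 11904384) (BT.node (nat_lit 11904256) (BT.node (nat_lit 11904064) (BT.leaf (nat_lit 29692945)) (BT.leaf (nat_lit 29693969))) (BT.node (nat_lit 11904320) (BT.leaf (nat_lit 47283745)) (BT.leaf (nat_lit 45919257)))) (BT.node (nat_lit 11904512) (BT.node (nat_lit 11904448) (BT.leaf (nat_lit 29696789)) (BT.leaf (nat_lit 45034521))) (BT.node (nat_lit 11904576) (BT.leaf (nat_lit 50868997)) (BT.leaf (nat_lit 50869013))))) (BT.node (nat_lit 11904832) (BT.node (nat_lit 11904768) (BT.node (nat_lit 11904704) (BT.leaf (nat_lit 29699089)) (BT.leaf (nat_lit 31556373))) (BT.node (nat_lit 11904770) (BT.leaf (nat_lit 46463765)) (BT.leaf (nat_lit 760648)))) (BT.node (nat_lit 11904960) (BT.node (nat_lit 11904840) (BT.leaf (nat_lit 47619097)) (BT.leaf (nat_lit 762176))) (BT.node (nat_lit 11905024) (BT.leaf (nat_lit 32118277)) (BT.leaf (nat_lit 48038157)))))) (BT.node (nat_lit 11905664) (BT.node (nat_lit 11905344) (BT.node (nat_lit 11905216) (BT.node (nat_lit 11905152) (BT.leaf (nat_lit 29702405)) (BT.leaf (nat_lit 39727897))) (BT.node (nat_lit 11905280) (BT.leaf (nat_lit 29703445)) (BT.leaf (nat_lit 48370721)))) (BT.node (nat_lit 11905472) (BT.node (nat_lit 11905408) (BT.leaf (nat_lit 47607581)) (BT.leaf (nat_lit 40535561))) (BT.node (nat_lit 11905536) (BT.leaf (nat_lit 41016077)) (BT.leaf (nat_lit 29708565))))) (BT.node (nat_lit 11905920) (BT.node (nat_lit 11905792) (BT.node (nat_lit 11905728) (BT.leaf (nat_lit 32555781)) (BT.leaf (nat_lit 29710085))) (BT.node (nat_lit 11905856) (BT.leaf (nat_lit 50923781)) (BT.leaf (nat_lit 34952965)))) (BT.node (nat_lit 11906112) (BT.node (nat_lit 11906048) (BT.leaf (nat_lit 32445969)) (BT.leaf (nat_lit 33877793))) (BT.node (nat_lit 11906176) (BT.leaf (nat_lit 50584353)) (BT.leaf (nat_lit 29711901)))))))) (BT.node (nat_lit 11908485) (BT.node (nat_lit 11907072) (BT.node (nat_lit 11906688) (BT.node (nat_lit 11906368) (BT.node (nat_lit 11906244) (BT.node (nat_lit 11906242) (BT.leaf (nat_lit 29712149)) (BT.leaf (nat_lit 771240))) (BT.node (nat_lit 11906304) (BT.leaf (nat_lit 771240)) (BT.leaf (nat_lit 51323409)))) (BT.node (nat_lit 11906560) (BT.node (nat_lit 11906432) (BT.leaf (nat_lit 47625241)) (BT.leaf (nat_lit 29713685))) (BT.node (nat_lit 11906624) (BT.leaf (nat_lit 35324677)) (BT.leaf (nat_lit 35419925))))) (BT.node (nat_lit 11906816) (BT.node (nat_lit 11906755) (BT.node (nat_lit 11906752) (BT.leaf (nat_lit 35453461)) (BT.leaf (nat_lit 29716501))) (BT.node (nat_lit 11906756) (BT.leaf (nat_lit 799184)) (BT.leaf (nat_lit 799184)))) (BT.node (nat_lit 11906944) (BT.node (nat_lit 11906880) (BT.leaf (nat_lit 46990597)) (BT.leaf (nat_lit 34086149))) (BT.node (nat_lit 11907008) (BT.leaf (nat_lit 46713889)) (BT.leaf (nat_lit 33222933)))))) (BT.node (nat_lit 11908104) (BT.node (nat_lit 11907648) (BT.node (nat_lit 11907200) (BT.node (nat_lit 11907136) (BT.leaf (nat_lit 29717521)) (BT.leaf (nat_lit 34600993))) (BT.node (nat_lit 11907328) (BT.leaf (nat_lit 51597061)) (BT.leaf (nat_lit 50967317)))) (BT.node (nat_lit 11907840) (BT.node (nat_lit 11907776) (BT.leaf (nat_lit 29720093)) (BT.leaf (nat_lit 29720089))) (BT.node (nat_lit 11908096) (BT.leaf (nat_lit 50570517)) (BT.leaf (nat_lit 33572617))))) (BT.node (nat_lit 11908352) (BT.node (nat_lit 11908288) (BT.node (nat_lit 11908224) (BT.leaf (nat_lit 800532)) (BT.leaf (nat_lit 46767389))) (BT.node (nat_lit 11908293) (BT.leaf (nat_lit 29722893)) (BT.leaf (nat_lit 790888)))) (BT.node (nat_lit 11908480) (BT.node (nat_lit 11908416) (BT.leaf (nat_lit 29722897)) (BT.leaf (nat_lit 31898129))) (BT.node (nat_lit 11908484) (BT.leaf (nat_lit 47633689)) (BT.leaf (nat_lit 780284))))))) (BT.node (nat_lit 11909575) (BT.node (nat_lit 11908992) (BT.node (nat_lit 11908736) (BT.node (nat_lit 11908546) (BT.node (nat_lit 11908544) (BT.leaf (nat_lit 780284)) (BT.leaf (nat_lit 34858777))) (BT.node (nat_lit 11908550) (BT.leaf (nat_lit 765876)) (BT.leaf (nat_lit 765876)))) (BT.node (nat_lit 11908864) (BT.node (nat_lit 11908800) (BT.leaf (nat_lit 47638549)) (BT.leaf (nat_lit 33898521))) (BT.node (nat_lit 11908928) (BT.leaf (nat_lit 33899017)) (BT.leaf (nat_lit 50800657))))) (BT.node (nat_lit 11909376) (BT.node (nat_lit 11909120) (BT.node (nat_lit 11909056) (BT.leaf (nat_lit 47635737)) (BT.leaf (nat_lit 29724433))) (BT.node (nat_lit 11909312) (BT.leaf (nat_lit 29723677)) (BT.leaf (nat_lit 34657041)))) (BT.node (nat_lit 11909504) (BT.node (nat_lit 11909440) (BT.leaf (nat_lit 51537677)) (BT.leaf (nat_lit 47637277))) (BT.node (nat_lit 11909568) (BT.leaf (nat_lit 46896665)) (BT.leaf (nat_lit 29724437)))))) (BT.node (nat_lit 11910144) (BT.node (nat_lit 11909888) (BT.node (nat_lit 11909696) (BT.node (nat_lit 11909632) (BT.leaf (nat_lit 787980)) (BT.leaf (nat_lit 33899033))) (BT.node (nat_lit 11909760) (BT.leaf (nat_lit 47635481)) (BT.leaf (nat_lit 33899021)))) (BT.node (nat_lit 11910016) (BT.node (nat_lit 11909952) (BT.leaf (nat_lit 29725705)) (BT.leaf (nat_lit 29725709))) (BT.node (nat_lit 11910080) (BT.leaf (nat_lit 29725725)) (BT.leaf (nat_lit 34600725))))) (BT.node (nat_lit 11910400) (BT.node (nat_lit 11910272) (BT.node (nat_lit 11910208) (BT.leaf (nat_lit 48900613)) (BT.leaf (nat_lit 29727765))) (BT.node (nat_lit 11910336) (BT.leaf (nat_lit 46717701)) (BT.leaf (nat_lit 29728533)))) (BT.node (nat_lit 11910528) (BT.node (nat_lit 11910464) (BT.leaf (nat_lit 52073249)) (BT.leaf (nat_lit 29731089))) (BT.node (nat_lit 11910592) (BT.leaf (nat_lit 29731345)) (BT.leaf (nat_lit 30294021))))))))) (BT.node (nat_lit 11915008) (BT.node (nat_lit 11912768) (BT.node (nat_lit 11911488) (BT.node (nat_lit 11911040) (BT.node (nat_lit 11910784) (BT.node (nat_lit 11910723) (BT.node (nat_lit 11910720) (BT.leaf (nat_lit 31093785)) (BT.leaf (nat_lit 29733661))) (BT.node (nat_lit 11910725) (BT.leaf (nat_lit 757376)) (BT.leaf (nat_lit 757376)))) (BT.node (nat_lit 11910912) (BT.node (nat_lit 11910848) (BT.leaf (nat_lit 40336905)) (BT.leaf (nat_lit 49696029))) (BT.node (nat_lit 11910976) (BT.leaf (nat_lit 29735433)) (BT.leaf (nat_lit 48425221))))) (BT.node (nat_lit 11911296) (BT.node (nat_lit 11911168) (BT.node (nat_lit 11911104) (BT.leaf (nat_lit 47675909)) (BT.leaf (nat_lit 29738773))) (BT.node (nat_lit 11911232) (BT.leaf (nat_lit 32706841)) (BT.leaf (nat_lit 37886213)))) (BT.node (nat_lit 11911424) (BT.node (nat_lit 11911360) (BT.leaf (nat_lit 29740057)) (BT.leaf (nat_lit 29740061))) (BT.node (nat_lit 11911428) (BT.leaf (nat_lit 29741845)) (BT.leaf (nat_lit 760056)))))) (BT.node (nat_lit 11911872) (BT.node (nat_lit 11911680) (BT.node (nat_lit 11911554) (BT.node (nat_lit 11911552) (BT.leaf (nat_lit 35616785)) (BT.leaf (nat_lit 29744405))) (BT.node (nat_lit 11911616) (BT.leaf (nat_lit 749240)) (BT.leaf (nat_lit 45309445)))) (BT.node (nat_lit 11911751) (BT.node (nat_lit 11911744) (BT.leaf (nat_lit 29744413)) (BT.leaf (nat_lit 30461961))) (BT.node (nat_lit 11911808) (BT.leaf (nat_lit 751004)) (BT.leaf (nat_lit 39598369))))) (BT.node (nat_lit 11912448) (BT.node (nat_lit 11912128) (BT.node (nat_lit 11911936) (BT.leaf (nat_lit 42148101)) (BT.leaf (nat_lit 29744925))) (BT.node (nat_lit 11912320) (BT.leaf (nat_lit 36195349)) (BT.leaf (nat_lit 33263125)))) (BT.node (nat_lit 11912640) (BT.node (nat_lit 11912576) (BT.leaf (nat_lit 29748497)) (BT.leaf (nat_lit 29748513))) (BT.node (nat_lit 11912704) (BT.leaf (nat_lit 29748753)) (BT.leaf (nat_lit 47880737))))))) (BT.node (nat_lit 11914048) (BT.node (nat_lit 11913344) (BT.node (nat_lit 11913088) (BT.node (nat_lit 11912896) (BT.node (nat_lit 11912832) (BT.leaf (nat_lit 47086853)) (BT.leaf (nat_lit 29750041))) (BT.node (nat_lit 11913024) (BT.leaf (nat_lit 29750045)) (BT.leaf (nat_lit 48718093)))) (BT.node (nat_lit 11913216) (BT.node (nat_lit 11913152) (BT.leaf (nat_lit 51198749)) (BT.leaf (nat_lit 34618909))) (BT.node (nat_lit 11913280) (BT.leaf (nat_lit 29751561)) (BT.leaf (nat_lit 29751565))))) (BT.node (nat_lit 11913600) (BT.node (nat_lit 11913472) (BT.node (nat_lit 11913408) (BT.leaf (nat_lit 29751577)) (BT.leaf (nat_lit 29751581))) (BT.node (nat_lit 11913536) (BT.leaf (nat_lit 29755165)) (BT.leaf (nat_lit 47654429)))) (BT.node (nat_lit 11913856) (BT.node (nat_lit 11913728) (BT.leaf (nat_lit 51850517)) (BT.leaf (nat_lit 51532305))) (BT.node (nat_lit 11913920) (BT.leaf (nat_lit 39042081)) (BT.leaf (nat_lit 29759517)))))) (BT.node (nat_lit 11914560) (BT.node (nat_lit 11914240) (BT.node (nat_lit 11914112) (BT.node (nat_lit 11914052) (BT.leaf (nat_lit 29760789)) (BT.leaf (nat_lit 765352))) (BT.node (nat_lit 11914176) (BT.leaf (nat_lit 30788381)) (BT.leaf (nat_lit 49915665)))) (BT.node (nat_lit 11914368) (BT.node (nat_lit 11914304) (BT.leaf (nat_lit 29762845)) (BT.leaf (nat_lit 49263137))) (BT.node (nat_lit 11914432) (BT.leaf (nat_lit 36112413)) (BT.leaf (nat_lit 38008865))))) (BT.node (nat_lit 11914816) (BT.node (nat_lit 11914688) (BT.node (nat_lit 11914624) (BT.leaf (nat_lit 36310553)) (BT.leaf (nat_lit 29767697))) (BT.node (nat_lit 11914752) (BT.leaf (nat_lit 29767957)) (BT.leaf (nat_lit 30735393)))) (BT.node (nat_lit 11914944) (BT.node (nat_lit 11914880) (BT.leaf (nat_lit 36899077)) (BT.leaf (nat_lit 47659805))) (BT.node (nat_lit 11914945) (BT.leaf (nat_lit 52330005)) (BT.leaf (nat_lit 812928)))))))) (BT.node (nat_lit 11917888) (BT.node (nat_lit 11916160) (BT.node (nat_lit 11915584) (BT.node (nat_lit 11915264) (BT.node (nat_lit 11915136) (BT.node (nat_lit 11915072) (BT.leaf (nat_lit 39138849)) (BT.leaf (nat_lit 33700113))) (BT.node (nat_lit 11915200) (BT.leaf (nat_lit 34316817)) (BT.leaf (nat_lit 46669329)))) (BT.node (nat_lit 11915392) (BT.node (nat_lit 11915328) (BT.leaf (nat_lit 29774605)) (BT.leaf (nat_lit 33898261))) (BT.node (nat_lit 11915456) (BT.leaf (nat_lit 29775385)) (BT.leaf (nat_lit 29775389))))) (BT.node (nat_lit 11915840) (BT.node (nat_lit 11915712) (BT.node (nat_lit 11915648) (BT.leaf (nat_lit 29775893)) (BT.leaf (nat_lit 46337821))) (BT.node (nat_lit 11915776) (BT.leaf (nat_lit 41829913)) (BT.leaf (nat_lit 49447201)))) (BT.node (nat_lit 11915968) (BT.node (nat_lit 11915904) (BT.leaf (nat_lit 50815773)) (BT.leaf (nat_lit 47663901))) (BT.node (nat_lit 11916032) (BT.leaf (nat_lit 34843925)) (BT.leaf (nat_lit 51479325)))))) (BT.node (nat_lit 11917056) (BT.node (nat_lit 11916672) (BT.node (nat_lit 11916288) (BT.node (nat_lit 11916224) (BT.leaf (nat_lit 29779989)) (BT.leaf (nat_lit 34724625))) (BT.node (nat_lit 11916544) (BT.leaf (nat_lit 50747677)) (BT.leaf (nat_lit 29783069)))) (BT.node (nat_lit 11916864) (BT.node (nat_lit 11916736) (BT.leaf (nat_lit 29782293)) (BT.leaf (nat_lit 51746581))) (BT.node (nat_lit 11916992) (BT.leaf (nat_lit 29783049)) (BT.leaf (nat_lit 36335109))))) (BT.node (nat_lit 11917376) (BT.node (nat_lit 11917184) (BT.node (nat_lit 11917120) (BT.leaf (nat_lit 29787669)) (BT.leaf (nat_lit 29788689))) (BT.node (nat_lit 11917312) (BT.leaf (nat_lit 38474269)) (BT.leaf (nat_lit 29789729)))) (BT.node (nat_lit 11917568) (BT.node (nat_lit 11917440) (BT.leaf (nat_lit 29790745)) (BT.leaf (nat_lit 29790749))) (BT.node (nat_lit 11917696) (BT.leaf (nat_lit 47764509)) (BT.leaf (nat_lit 36326917))))))) (BT.node (nat_lit 11919552) (BT.node (nat_lit 11918784) (BT.node (nat_lit 11918208) (BT.node (nat_lit 11918016) (BT.node (nat_lit 11917952) (BT.leaf (nat_lit 29793813)) (BT.leaf (nat_lit 29794325))) (BT.node (nat_lit 11918080) (BT.leaf (nat_lit 29794825)) (BT.leaf (nat_lit 29794829)))) (BT.node (nat_lit 11918336) (BT.node (nat_lit 11918272) (BT.leaf (nat_lit 36163861)) (BT.leaf (nat_lit 43743241))) (BT.node (nat_lit 11918464) (BT.leaf (nat_lit 50824465)) (BT.leaf (nat_lit 29797141))))) (BT.node (nat_lit 11919040) (BT.node (nat_lit 11918912) (BT.node (nat_lit 11918848) (BT.leaf (nat_lit 29797409)) (BT.leaf (nat_lit 29968133))) (BT.node (nat_lit 11918976) (BT.leaf (nat_lit 29968417)) (BT.leaf (nat_lit 29797649)))) (BT.node (nat_lit 11919296) (BT.node (nat_lit 11919168) (BT.leaf (nat_lit 48889633)) (BT.leaf (nat_lit 29799193))) (BT.node (nat_lit 11919360) (BT.leaf (nat_lit 29799449)) (BT.leaf (nat_lit 29799453)))))) (BT.node (nat_lit 11920069) (BT.node (nat_lit 11919936) (BT.node (nat_lit 11919744) (BT.node (nat_lit 11919616) (BT.leaf (nat_lit 33911309)) (BT.leaf (nat_lit 49795593))) (BT.node (nat_lit 11919808) (BT.leaf (nat_lit 38781985)) (BT.leaf (nat_lit 38781961)))) (BT.node (nat_lit 11920007) (BT.node (nat_lit 11920000) (BT.leaf (nat_lit 29803025)) (BT.leaf (nat_lit 29803285))) (BT.node (nat_lit 11920064) (BT.leaf (nat_lit 775976)) (BT.leaf (nat_lit 49614369))))) (BT.node (nat_lit 11920384) (BT.node (nat_lit 11920192) (BT.node (nat_lit 11920128) (BT.leaf (nat_lit 793188)) (BT.leaf (nat_lit 29803541))) (BT.node (nat_lit 11920320) (BT.leaf (nat_lit 49853457)) (BT.leaf (nat_lit 48000781)))) (BT.node (nat_lit 11920391) (BT.node (nat_lit 11920390) (BT.leaf (nat_lit 30359061)) (BT.leaf (nat_lit 755488))) (BT.node (nat_lit 11920448) (BT.leaf (nat_lit 755488)) (BT.leaf (nat_lit 48352269)))))))))))) (BT.node (nat_lit 11958336) (BT.node (nat_lit 11939712) (BT.node (nat_lit 11930048) (BT.node (nat_lit 11925248) (BT.node (nat_lit 11922752) (BT.node (nat_lit 11921664) (BT.node (nat_lit 11921152) (BT.node (nat_lit 11920832) (BT.node (nat_lit 11920704) (BT.node (nat_lit 11920640) (BT.leaf (nat_lit 43409685)) (BT.leaf (nat_lit 31822881))) (BT.node (nat_lit 11920768) (BT.leaf (nat_lit 29807893)) (BT.leaf (nat_lit 47109409)))) (BT.node (nat_lit 11920960) (BT.node (nat_lit 11920896) (BT.leaf (nat_lit 35892761)) (BT.leaf (nat_lit 29807381))) (BT.node (nat_lit 11921024) (BT.leaf (nat_lit 29809681)) (BT.leaf (nat_lit 29809685))))) (BT.node (nat_lit 11921408) (BT.node (nat_lit 11921280) (BT.node (nat_lit 11921216) (BT.leaf (nat_lit 45040925)) (BT.leaf (nat_lit 45040905))) (BT.node (nat_lit 11921344) (BT.leaf (nat_lit 33912589)) (BT.leaf (nat_lit 29810449)))) (BT.node (nat_lit 11921536) (BT.node (nat_lit 11921472) (BT.leaf (nat_lit 29810453)) (BT.leaf (nat_lit 33152285))) (BT.node (nat_lit 11921600) (BT.leaf (nat_lit 29812241)) (BT.leaf (nat_lit 41805089)))))) (BT.node (nat_lit 11922310) (BT.node (nat_lit 11922112) (BT.node (nat_lit 11921984) (BT.node (nat_lit 11921856) (BT.leaf (nat_lit 29812509)) (BT.leaf (nat_lit 29814033))) (BT.node (nat_lit 11922048) (BT.leaf (nat_lit 29814049)) (BT.leaf (nat_lit 29815313)))) (BT.node (nat_lit 11922240) (BT.node (nat_lit 11922176) (BT.leaf (nat_lit 48887329)) (BT.leaf (nat_lit 39307021))) (BT.node (nat_lit 11922304) (BT.leaf (nat_lit 48161301)) (BT.leaf (nat_lit 49612053))))) (BT.node (nat_lit 11922496) (BT.node (nat_lit 11922368) (BT.node (nat_lit 11922311) (BT.leaf (nat_lit 770240)) (BT.leaf (nat_lit 770240))) (BT.node (nat_lit 11922432) (BT.leaf (nat_lit 29817877)) (BT.leaf (nat_lit 29818141)))) (BT.node (nat_lit 11922624) (BT.node (nat_lit 11922560) (BT.leaf (nat_lit 29818641)) (BT.leaf (nat_lit 38220045))) (BT.node (nat_lit 11922688) (BT.leaf (nat_lit 51548953)) (BT.leaf (nat_lit 41802269))))))) (BT.node (nat_lit 11923904) (BT.node (nat_lit 11923456) (BT.node (nat_lit 11923008) (BT.node (nat_lit 11922880) (BT.node (nat_lit 11922816) (BT.leaf (nat_lit 29822233)) (BT.leaf (nat_lit 29822237))) (BT.node (nat_lit 11922944) (BT.leaf (nat_lit 33915665)) (BT.leaf (nat_lit 33915409)))) (BT.node (nat_lit 11923264) (BT.node (nat_lit 11923200) (BT.leaf (nat_lit 43376921)) (BT.leaf (nat_lit 29823513))) (BT.node (nat_lit 11923392) (BT.leaf (nat_lit 29823517)) (BT.leaf (nat_lit 29824281))))) (BT.node (nat_lit 11923648) (BT.node (nat_lit 11923520) (BT.node (nat_lit 11923463) (BT.leaf (nat_lit 29824533)) (BT.leaf (nat_lit 772872))) (BT.node (nat_lit 11923584) (BT.leaf (nat_lit 29824789)) (BT.leaf (nat_lit 30802697)))) (BT.node (nat_lit 11923776) (BT.node (nat_lit 11923712) (BT.leaf (nat_lit 29825557)) (BT.leaf (nat_lit 34435589))) (BT.node (nat_lit 11923840) (BT.leaf (nat_lit 29827089)) (BT.leaf (nat_lit 35697157)))))) (BT.node (nat_lit 11924672) (BT.node (nat_lit 11924224) (BT.node (nat_lit 11924032) (BT.node (nat_lit 11923968) (BT.leaf (nat_lit 33920017)) (BT.leaf (nat_lit 48604933))) (BT.node (nat_lit 11924160) (BT.leaf (nat_lit 29830173)) (BT.leaf (nat_lit 29830673)))) (BT.node (nat_lit 11924544) (BT.node (nat_lit 11924352) (BT.leaf (nat_lit 40635141)) (BT.leaf (nat_lit 29831697))) (BT.node (nat_lit 11924608) (BT.leaf (nat_lit 49341985)) (BT.leaf (nat_lit 29836049))))) (BT.node (nat_lit 11924928) (BT.node (nat_lit 11924800) (BT.node (nat_lit 11924736) (BT.leaf (nat_lit 35165977)) (BT.leaf (nat_lit 33924369))) (BT.node (nat_lit 11924864) (BT.leaf (nat_lit 29837593)) (BT.leaf (nat_lit 48450325)))) (BT.node (nat_lit 11925120) (BT.node (nat_lit 11925056) (BT.leaf (nat_lit 49439765)) (BT.leaf (nat_lit 36742165))) (BT.node (nat_lit 11925184) (BT.leaf (nat_lit 44354069)) (BT.leaf (nat_lit 44354053)))))))) (BT.node (nat_lit 11927744) (BT.node (nat_lit 11926656) (BT.node (nat_lit 11925824) (BT.node (nat_lit 11925568) (BT.node (nat_lit 11925376) (BT.node (nat_lit 11925312) (BT.leaf (nat_lit 32482565)) (BT.leaf (nat_lit 29839893))) (BT.node (nat_lit 11925504) (BT.leaf (nat_lit 29839897)) (BT.leaf (nat_lit 29840665)))) (BT.node (nat_lit 11925696) (BT.node (nat_lit 11925632) (BT.leaf (nat_lit 29841937)) (BT.leaf (nat_lit 51020569))) (BT.node (nat_lit 11925760) (BT.leaf (nat_lit 30314001)) (BT.leaf (nat_lit 32476421))))) (BT.node (nat_lit 11926080) (BT.node (nat_lit 11925952) (BT.node (nat_lit 11925888) (BT.leaf (nat_lit 47756321)) (BT.leaf (nat_lit 29843993))) (BT.node (nat_lit 11926016) (BT.leaf (nat_lit 29843997)) (BT.leaf (nat_lit 31685397)))) (BT.node (nat_lit 11926400) (BT.node (nat_lit 11926272) (BT.leaf (nat_lit 40289305)) (BT.leaf (nat_lit 40289293))) (BT.node (nat_lit 11926528) (BT.leaf (nat_lit 40288005)) (BT.leaf (nat_lit 29848069)))))) (BT.node (nat_lit 11927168) (BT.node (nat_lit 11926912) (BT.node (nat_lit 11926784) (BT.node (nat_lit 11926720) (BT.leaf (nat_lit 47053573)) (BT.leaf (nat_lit 47053829))) (BT.node (nat_lit 11926848) (BT.leaf (nat_lit 29849621)) (BT.leaf (nat_lit 41725201)))) (BT.node (nat_lit 11927040) (BT.node (nat_lit 11926976) (BT.leaf (nat_lit 29850653)) (BT.leaf (nat_lit 50115093))) (BT.node (nat_lit 11927104) (BT.leaf (nat_lit 47877893)) (BT.leaf (nat_lit 33891857))))) (BT.node (nat_lit 11927424) (BT.node (nat_lit 11927296) (BT.node (nat_lit 11927232) (BT.leaf (nat_lit 38273549)) (BT.leaf (nat_lit 29855761))) (BT.node (nat_lit 11927360) (BT.leaf (nat_lit 48272145)) (BT.leaf (nat_lit 48272901)))) (BT.node (nat_lit 11927552) (BT.node (nat_lit 11927488) (BT.leaf (nat_lit 29858321)) (BT.leaf (nat_lit 35849237))) (BT.node (nat_lit 11927680) (BT.leaf (nat_lit 29860625)) (BT.leaf (nat_lit 29862929))))))) (BT.node (nat_lit 11929024) (BT.node (nat_lit 11928448) (BT.node (nat_lit 11928064) (BT.node (nat_lit 11927872) (BT.node (nat_lit 11927808) (BT.leaf (nat_lit 51400205)) (BT.leaf (nat_lit 49808401))) (BT.node (nat_lit 11927936) (BT.leaf (nat_lit 29863697)) (BT.leaf (nat_lit 29864209)))) (BT.node (nat_lit 11928256) (BT.node (nat_lit 11928192) (BT.leaf (nat_lit 35971349)) (BT.leaf (nat_lit 51447065))) (BT.node (nat_lit 11928320) (BT.leaf (nat_lit 35971869)) (BT.leaf (nat_lit 47611669))))) (BT.node (nat_lit 11928704) (BT.node (nat_lit 11928576) (BT.node (nat_lit 11928512) (BT.leaf (nat_lit 47714077)) (BT.leaf (nat_lit 40638737))) (BT.node (nat_lit 11928640) (BT.leaf (nat_lit 50647569)) (BT.leaf (nat_lit 32685085)))) (BT.node (nat_lit 11928832) (BT.node (nat_lit 11928768) (BT.leaf (nat_lit 29868053)) (BT.leaf (nat_lit 29868573))) (BT.node (nat_lit 11928896) (BT.leaf (nat_lit 36165649)) (BT.leaf (nat_lit 29868825)))))) (BT.node (nat_lit 11929536) (BT.node (nat_lit 11929280) (BT.node (nat_lit 11929152) (BT.node (nat_lit 11929088) (BT.leaf (nat_lit 31694105)) (BT.leaf (nat_lit 33936389))) (BT.node (nat_lit 11929216) (BT.leaf (nat_lit 29870617)) (BT.leaf (nat_lit 29870621)))) (BT.node (nat_lit 11929411) (BT.node (nat_lit 11929344) (BT.leaf (nat_lit 43456781)) (BT.leaf (nat_lit 47872797))) (BT.node (nat_lit 11929472) (BT.leaf (nat_lit 748012)) (BT.leaf (nat_lit 29873937))))) (BT.node (nat_lit 11929792) (BT.node (nat_lit 11929664) (BT.node (nat_lit 11929600) (BT.leaf (nat_lit 50672401)) (BT.leaf (nat_lit 31359257))) (BT.node (nat_lit 11929728) (BT.leaf (nat_lit 29877277)) (BT.leaf (nat_lit 33089565)))) (BT.node (nat_lit 11929920) (BT.node (nat_lit 11929856) (BT.leaf (nat_lit 34190869)) (BT.leaf (nat_lit 29877269))) (BT.node (nat_lit 11929984) (BT.leaf (nat_lit 36717853)) (BT.leaf (nat_lit 29879065))))))))) (BT.node (nat_lit 11934912) (BT.node (nat_lit 11932544) (BT.node (nat_lit 11931520) (BT.node (nat_lit 11930752) (BT.node (nat_lit 11930368) (BT.node (nat_lit 11930176) (BT.node (nat_lit 11930112) (BT.leaf (nat_lit 32887313)) (BT.leaf (nat_lit 33631257))) (BT.node (nat_lit 11930304) (BT.leaf (nat_lit 29882397)) (BT.leaf (nat_lit 29883925)))) (BT.node (nat_lit 11930624) (BT.node (nat_lit 11930560) (BT.leaf (nat_lit 29883929)) (BT.leaf (nat_lit 29886993))) (BT.node (nat_lit 11930688) (BT.leaf (nat_lit 29888277)) (BT.leaf (nat_lit 47938581))))) (BT.node (nat_lit 11931264) (BT.node (nat_lit 11930885) (BT.node (nat_lit 11930880) (BT.leaf (nat_lit 30252053)) (BT.leaf (nat_lit 47672325))) (BT.node (nat_lit 11930944) (BT.leaf (nat_lit 795524)) (BT.leaf (nat_lit 29889557)))) (BT.node (nat_lit 11931392) (BT.node (nat_lit 11931328) (BT.leaf (nat_lit 37421593)) (BT.leaf (nat_lit 29891357))) (BT.node (nat_lit 11931456) (BT.leaf (nat_lit 35841053)) (BT.leaf (nat_lit 29891353)))))) (BT.node (nat_lit 11932032) (BT.node (nat_lit 11931776) (BT.node (nat_lit 11931648) (BT.node (nat_lit 11931584) (BT.leaf (nat_lit 33943057)) (BT.leaf (nat_lit 50809889))) (BT.node (nat_lit 11931712) (BT.leaf (nat_lit 29894429)) (BT.leaf (nat_lit 49405217)))) (BT.node (nat_lit 11931904) (BT.node (nat_lit 11931840) (BT.leaf (nat_lit 47726857)) (BT.leaf (nat_lit 32245277))) (BT.node (nat_lit 11931968) (BT.leaf (nat_lit 47251973)) (BT.leaf (nat_lit 29896977))))) (BT.node (nat_lit 11932288) (BT.node (nat_lit 11932160) (BT.node (nat_lit 11932096) (BT.leaf (nat_lit 38803989)) (BT.leaf (nat_lit 38803997))) (BT.node (nat_lit 11932224) (BT.leaf (nat_lit 37717009)) (BT.leaf (nat_lit 34843145)))) (BT.node (nat_lit 11932416) (BT.node (nat_lit 11932352) (BT.leaf (nat_lit 41774617)) (BT.leaf (nat_lit 45392133))) (BT.node (nat_lit 11932480) (BT.leaf (nat_lit 31111689)) (BT.leaf (nat_lit 40238881))))))) (BT.node (nat_lit 11933824) (BT.node (nat_lit 11933248) (BT.node (nat_lit 11932864) (BT.node (nat_lit 11932736) (BT.node (nat_lit 11932672) (BT.leaf (nat_lit 44841753)) (BT.leaf (nat_lit 29899281))) (BT.node (nat_lit 11932800) (BT.leaf (nat_lit 29899293)) (BT.leaf (nat_lit 44633121)))) (BT.node (nat_lit 11933120) (BT.node (nat_lit 11933056) (BT.leaf (nat_lit 29899537)) (BT.leaf (nat_lit 29900061))) (BT.node (nat_lit 11933124) (BT.leaf (nat_lit 37091345)) (BT.leaf (nat_lit 808864))))) (BT.node (nat_lit 11933568) (BT.node (nat_lit 11933440) (BT.node (nat_lit 11933376) (BT.leaf (nat_lit 38175509)) (BT.leaf (nat_lit 42897441))) (BT.node (nat_lit 11933504) (BT.leaf (nat_lit 34569505)) (BT.leaf (nat_lit 29902361)))) (BT.node (nat_lit 11933696) (BT.node (nat_lit 11933632) (BT.leaf (nat_lit 29902365)) (BT.leaf (nat_lit 29904917))) (BT.node (nat_lit 11933760) (BT.leaf (nat_lit 29904921)) (BT.leaf (nat_lit 29904925)))))) (BT.node (nat_lit 11934400) (BT.node (nat_lit 11934080) (BT.node (nat_lit 11933952) (BT.node (nat_lit 11933888) (BT.leaf (nat_lit 29905425)) (BT.leaf (nat_lit 37494041))) (BT.node (nat_lit 11934016) (BT.leaf (nat_lit 51894801)) (BT.leaf (nat_lit 51049245)))) (BT.node (nat_lit 11934272) (BT.node (nat_lit 11934208) (BT.leaf (nat_lit 29909521)) (BT.leaf (nat_lit 30932501))) (BT.node (nat_lit 11934336) (BT.leaf (nat_lit 29913357)) (BT.leaf (nat_lit 46800917))))) (BT.node (nat_lit 11934656) (BT.node (nat_lit 11934528) (BT.node (nat_lit 11934464) (BT.leaf (nat_lit 46638869)) (BT.leaf (nat_lit 29913617))) (BT.node (nat_lit 11934592) (BT.leaf (nat_lit 38870801)) (BT.leaf (nat_lit 29916681)))) (BT.node (nat_lit 11934784) (BT.node (nat_lit 11934720) (BT.leaf (nat_lit 29916697)) (BT.leaf (nat_lit 29916945))) (BT.node (nat_lit 11934848) (BT.leaf (nat_lit 29918237)) (BT.leaf (nat_lit 29918493)))))))) (BT.node (nat_lit 11937218) (BT.node (nat_lit 11935872) (BT.node (nat_lit 11935424) (BT.node (nat_lit 11935168) (BT.node (nat_lit 11935040) (BT.node (nat_lit 11934976) (BT.leaf (nat_lit 49215777)) (BT.leaf (nat_lit 29918745))) (BT.node (nat_lit 11935104) (BT.leaf (nat_lit 29918749)) (BT.leaf (nat_lit 35367189)))) (BT.node (nat_lit 11935296) (BT.node (nat_lit 11935232) (BT.leaf (nat_lit 40890397)) (BT.leaf (nat_lit 29919497))) (BT.node (nat_lit 11935360) (BT.leaf (nat_lit 33956373)) (BT.leaf (nat_lit 35086085))))) (BT.node (nat_lit 11935620) (BT.node (nat_lit 11935616) (BT.node (nat_lit 11935488) (BT.leaf (nat_lit 38815765)) (BT.leaf (nat_lit 47741705))) (BT.node (nat_lit 11935617) (BT.leaf (nat_lit 36451097)) (BT.leaf (nat_lit 789560)))) (BT.node (nat_lit 11935744) (BT.node (nat_lit 11935680) (BT.leaf (nat_lit 789560)) (BT.leaf (nat_lit 35843345))) (BT.node (nat_lit 11935808) (BT.leaf (nat_lit 35843089)) (BT.leaf (nat_lit 46498581)))))) (BT.node (nat_lit 11936512) (BT.node (nat_lit 11936128) (BT.node (nat_lit 11936000) (BT.node (nat_lit 11935936) (BT.leaf (nat_lit 29930521)) (BT.leaf (nat_lit 35029765))) (BT.node (nat_lit 11936064) (BT.leaf (nat_lit 32323845)) (BT.leaf (nat_lit 47075349)))) (BT.node (nat_lit 11936384) (BT.node (nat_lit 11936192) (BT.leaf (nat_lit 50701077)) (BT.leaf (nat_lit 44181537))) (BT.node (nat_lit 11936448) (BT.leaf (nat_lit 38030613)) (BT.leaf (nat_lit 49889041))))) (BT.node (nat_lit 11936896) (BT.node (nat_lit 11936704) (BT.node (nat_lit 11936576) (BT.leaf (nat_lit 30261525)) (BT.leaf (nat_lit 49010449))) (BT.node (nat_lit 11936768) (BT.leaf (nat_lit 51504133)) (BT.leaf (nat_lit 49656853)))) (BT.node (nat_lit 11937024) (BT.node (nat_lit 11936960) (BT.leaf (nat_lit 29938193)) (BT.leaf (nat_lit 33969173))) (BT.node (nat_lit 11937152) (BT.leaf (nat_lit 48874261)) (BT.leaf (nat_lit 46620701))))))) (BT.node (nat_lit 11938560) (BT.node (nat_lit 11937920) (BT.node (nat_lit 11937472) (BT.node (nat_lit 11937280) (BT.node (nat_lit 11937219) (BT.leaf (nat_lit 751652)) (BT.leaf (nat_lit 751652))) (BT.node (nat_lit 11937344) (BT.leaf (nat_lit 46774553)) (BT.leaf (nat_lit 29943565)))) (BT.node (nat_lit 11937664) (BT.node (nat_lit 11937600) (BT.leaf (nat_lit 29943313)) (BT.leaf (nat_lit 30258453))) (BT.node (nat_lit 11937728) (BT.leaf (nat_lit 50989089)) (BT.leaf (nat_lit 44468769))))) (BT.node (nat_lit 11938304) (BT.node (nat_lit 11938048) (BT.node (nat_lit 11937984) (BT.leaf (nat_lit 48580877)) (BT.leaf (nat_lit 49564185))) (BT.node (nat_lit 11938240) (BT.leaf (nat_lit 29946901)) (BT.leaf (nat_lit 32224545)))) (BT.node (nat_lit 11938432) (BT.node (nat_lit 11938368) (BT.leaf (nat_lit 29949205)) (BT.leaf (nat_lit 29950481))) (BT.node (nat_lit 11938496) (BT.leaf (nat_lit 47701281)) (BT.leaf (nat_lit 47053089)))))) (BT.node (nat_lit 11939200) (BT.node (nat_lit 11938816) (BT.node (nat_lit 11938688) (BT.node (nat_lit 11938624) (BT.leaf (nat_lit 49311521)) (BT.leaf (nat_lit 49311777))) (BT.node (nat_lit 11938752) (BT.leaf (nat_lit 49312033)) (BT.leaf (nat_lit 37876253)))) (BT.node (nat_lit 11939072) (BT.node (nat_lit 11939008) (BT.leaf (nat_lit 29953301)) (BT.leaf (nat_lit 29953553))) (BT.node (nat_lit 11939136) (BT.leaf (nat_lit 29954069)) (BT.leaf (nat_lit 29954073))))) (BT.node (nat_lit 11939456) (BT.node (nat_lit 11939328) (BT.node (nat_lit 11939264) (BT.leaf (nat_lit 29954077)) (BT.leaf (nat_lit 48017677))) (BT.node (nat_lit 11939392) (BT.leaf (nat_lit 30228257)) (BT.leaf (nat_lit 29956889)))) (BT.node (nat_lit 11939584) (BT.node (nat_lit 11939520) (BT.leaf (nat_lit 29956893)) (BT.leaf (nat_lit 29957657))) (BT.node (nat_lit 11939648) (BT.leaf (nat_lit 29957661)) (BT.leaf (nat_lit 33971985)))))))))) (BT.node (nat_lit 11948736) (BT.node (nat_lit 11944192) (BT.node (nat_lit 11942208) (BT.node (nat_lit 11940864) (BT.node (nat_lit 11940224) (BT.node (nat_lit 11939968) (BT.node (nat_lit 11939840) (BT.node (nat_lit 11939776) (BT.leaf (nat_lit 33973521)) (BT.leaf (nat_lit 29958941))) (BT.node (nat_lit 11939904) (BT.leaf (nat_lit 38572573)) (BT.leaf (nat_lit 51065361)))) (BT.node (nat_lit 11940096) (BT.node (nat_lit 11940032) (BT.leaf (nat_lit 44792609)) (BT.leaf (nat_lit 35021317))) (BT.node (nat_lit 11940160) (BT.leaf (nat_lit 29965065)) (BT.leaf (nat_lit 49246469))))) (BT.node (nat_lit 11940358) (BT.node (nat_lit 11940288) (BT.node (nat_lit 11940229) (BT.leaf (nat_lit 29965593)) (BT.leaf (nat_lit 801012))) (BT.node (nat_lit 11940352) (BT.leaf (nat_lit 35620125)) (BT.leaf (nat_lit 40719893)))) (BT.node (nat_lit 11940480) (BT.node (nat_lit 11940416) (BT.leaf (nat_lit 814848)) (BT.leaf (nat_lit 37080345))) (BT.node (nat_lit 11940608) (BT.leaf (nat_lit 29966357)) (BT.leaf (nat_lit 29966617)))))) (BT.node (nat_lit 11941572) (BT.node (nat_lit 11941184) (BT.node (nat_lit 11941056) (BT.node (nat_lit 11940992) (BT.leaf (nat_lit 29967381)) (BT.leaf (nat_lit 29968393))) (BT.node (nat_lit 11941120) (BT.leaf (nat_lit 29968149)) (BT.leaf (nat_lit 46476301)))) (BT.node (nat_lit 11941440) (BT.node (nat_lit 11941248) (BT.leaf (nat_lit 29968389)) (BT.leaf (nat_lit 50499089))) (BT.node (nat_lit 11941568) (BT.leaf (nat_lit 29968657)) (BT.leaf (nat_lit 51235865))))) (BT.node (nat_lit 11941824) (BT.node (nat_lit 11941632) (BT.node (nat_lit 11941573) (BT.leaf (nat_lit 747264)) (BT.leaf (nat_lit 747264))) (BT.node (nat_lit 11941696) (BT.leaf (nat_lit 49953553)) (BT.leaf (nat_lit 29969177)))) (BT.node (nat_lit 11942016) (BT.node (nat_lit 11941888) (BT.leaf (nat_lit 51493921)) (BT.leaf (nat_lit 51978261))) (BT.node (nat_lit 11942144) (BT.leaf (nat_lit 35021593)) (BT.leaf (nat_lit 49979669))))))) (BT.node (nat_lit 11943045) (BT.node (nat_lit 11942528) (BT.node (nat_lit 11942272) (BT.node (nat_lit 11942213) (BT.node (nat_lit 11942210) (BT.leaf (nat_lit 32183829)) (BT.leaf (nat_lit 768932))) (BT.node (nat_lit 11942214) (BT.leaf (nat_lit 768932)) (BT.leaf (nat_lit 768932)))) (BT.node (nat_lit 11942340) (BT.node (nat_lit 11942336) (BT.leaf (nat_lit 51050513)) (BT.leaf (nat_lit 51490337))) (BT.node (nat_lit 11942464) (BT.leaf (nat_lit 758404)) (BT.leaf (nat_lit 40213777))))) (BT.node (nat_lit 11942848) (BT.node (nat_lit 11942656) (BT.node (nat_lit 11942592) (BT.leaf (nat_lit 32405525)) (BT.leaf (nat_lit 33978389))) (BT.node (nat_lit 11942720) (BT.leaf (nat_lit 33913605)) (BT.leaf (nat_lit 50443269)))) (BT.node (nat_lit 11942976) (BT.node (nat_lit 11942912) (BT.leaf (nat_lit 35175177)) (BT.leaf (nat_lit 35175181))) (BT.node (nat_lit 11943040) (BT.leaf (nat_lit 51010061)) (BT.leaf (nat_lit 32128289)))))) (BT.node (nat_lit 11943616) (BT.node (nat_lit 11943296) (BT.node (nat_lit 11943168) (BT.node (nat_lit 11943104) (BT.leaf (nat_lit 755840)) (BT.leaf (nat_lit 48485901))) (BT.node (nat_lit 11943232) (BT.leaf (nat_lit 29973265)) (BT.leaf (nat_lit 29973269)))) (BT.node (nat_lit 11943488) (BT.node (nat_lit 11943424) (BT.leaf (nat_lit 29973781)) (BT.leaf (nat_lit 46515473))) (BT.node (nat_lit 11943552) (BT.leaf (nat_lit 35892765)) (BT.leaf (nat_lit 29975057))))) (BT.node (nat_lit 11943936) (BT.node (nat_lit 11943744) (BT.node (nat_lit 11943680) (BT.leaf (nat_lit 29975313)) (BT.leaf (nat_lit 29975569))) (BT.node (nat_lit 11943808) (BT.leaf (nat_lit 30498065)) (BT.leaf (nat_lit 51405345)))) (BT.node (nat_lit 11944064) (BT.node (nat_lit 11944000) (BT.leaf (nat_lit 48297481)) (BT.leaf (nat_lit 51531297))) (BT.node (nat_lit 11944128) (BT.leaf (nat_lit 36327201)) (BT.leaf (nat_lit 34371345)))))))) (BT.node (nat_lit 11946496) (BT.node (nat_lit 11945408) (BT.node (nat_lit 11944832) (BT.node (nat_lit 11944512) (BT.node (nat_lit 11944384) (BT.node (nat_lit 11944256) (BT.leaf (nat_lit 47890457)) (BT.leaf (nat_lit 31388945))) (BT.node (nat_lit 11944448) (BT.leaf (nat_lit 42072089)) (BT.leaf (nat_lit 38883605)))) (BT.node (nat_lit 11944704) (BT.node (nat_lit 11944640) (BT.leaf (nat_lit 29994773)) (BT.leaf (nat_lit 42072077))) (BT.node (nat_lit 11944768) (BT.leaf (nat_lit 29985045)) (BT.leaf (nat_lit 46512673))))) (BT.node (nat_lit 11945088) (BT.node (nat_lit 11944960) (BT.node (nat_lit 11944896) (BT.leaf (nat_lit 46716933)) (BT.leaf (nat_lit 45119253))) (BT.node (nat_lit 11945024) (BT.leaf (nat_lit 48373021)) (BT.leaf (nat_lit 33983253)))) (BT.node (nat_lit 11945216) (BT.node (nat_lit 11945152) (BT.leaf (nat_lit 48373001)) (BT.leaf (nat_lit 44440333))) (BT.node (nat_lit 11945344) (BT.leaf (nat_lit 43063829)) (BT.leaf (nat_lit 38889493)))))) (BT.node (nat_lit 11945984) (BT.node (nat_lit 11945664) (BT.node (nat_lit 11945536) (BT.node (nat_lit 11945472) (BT.leaf (nat_lit 48888353)) (BT.leaf (nat_lit 51010073))) (BT.node (nat_lit 11945600) (BT.leaf (nat_lit 47771661)) (BT.leaf (nat_lit 29986081)))) (BT.node (nat_lit 11945856) (BT.node (nat_lit 11945728) (BT.leaf (nat_lit 40501537)) (BT.leaf (nat_lit 31723541))) (BT.node (nat_lit 11945920) (BT.leaf (nat_lit 41904149)) (BT.leaf (nat_lit 29987093))))) (BT.node (nat_lit 11946240) (BT.node (nat_lit 11946112) (BT.node (nat_lit 11946048) (BT.leaf (nat_lit 34110745)) (BT.leaf (nat_lit 29987349))) (BT.node (nat_lit 11946176) (BT.leaf (nat_lit 29987857)) (BT.leaf (nat_lit 48721685)))) (BT.node (nat_lit 11946368) (BT.node (nat_lit 11946304) (BT.leaf (nat_lit 29989149)) (BT.leaf (nat_lit 51137809))) (BT.node (nat_lit 11946432) (BT.leaf (nat_lit 49398049)) (BT.leaf (nat_lit 40617497))))))) (BT.node (nat_lit 11947712) (BT.node (nat_lit 11947072) (BT.node (nat_lit 11946880) (BT.node (nat_lit 11946624) (BT.node (nat_lit 11946560) (BT.leaf (nat_lit 30667549)) (BT.leaf (nat_lit 33984281))) (BT.node (nat_lit 11946816) (BT.leaf (nat_lit 46402309)) (BT.leaf (nat_lit 35802141)))) (BT.node (nat_lit 11946945) (BT.node (nat_lit 11946944) (BT.leaf (nat_lit 29996305)) (BT.leaf (nat_lit 33984785))) (BT.node (nat_lit 11947008) (BT.leaf (nat_lit 766880)) (BT.leaf (nat_lit 35613985))))) (BT.node (nat_lit 11947456) (BT.node (nat_lit 11947264) (BT.node (nat_lit 11947200) (BT.leaf (nat_lit 51042593)) (BT.leaf (nat_lit 48887813))) (BT.node (nat_lit 11947328) (BT.leaf (nat_lit 35614753)) (BT.leaf (nat_lit 48960517)))) (BT.node (nat_lit 11947584) (BT.node (nat_lit 11947520) (BT.leaf (nat_lit 30000149)) (BT.leaf (nat_lit 49289497))) (BT.node (nat_lit 11947648) (BT.leaf (nat_lit 47983885)) (BT.leaf (nat_lit 39312673)))))) (BT.node (nat_lit 11948224) (BT.node (nat_lit 11947968) (BT.node (nat_lit 11947840) (BT.node (nat_lit 11947776) (BT.leaf (nat_lit 48195349)) (BT.leaf (nat_lit 30000137))) (BT.node (nat_lit 11947904) (BT.leaf (nat_lit 30000133)) (BT.leaf (nat_lit 47791901)))) (BT.node (nat_lit 11948096) (BT.node (nat_lit 11948032) (BT.leaf (nat_lit 48889093)) (BT.leaf (nat_lit 39521037))) (BT.node (nat_lit 11948160) (BT.leaf (nat_lit 36196617)) (BT.leaf (nat_lit 30001925))))) (BT.node (nat_lit 11948480) (BT.node (nat_lit 11948352) (BT.node (nat_lit 11948288) (BT.leaf (nat_lit 50618649)) (BT.leaf (nat_lit 50952477))) (BT.node (nat_lit 11948416) (BT.leaf (nat_lit 51583769)) (BT.leaf (nat_lit 47780129)))) (BT.node (nat_lit 11948608) (BT.node (nat_lit 11948544) (BT.leaf (nat_lit 48934165)) (BT.leaf (nat_lit 30003477))) (BT.node (nat_lit 11948672) (BT.leaf (nat_lit 46610973)) (BT.leaf (nat_lit 45629193))))))))) (BT.node (nat_lit 11953472) (BT.node (nat_lit 11951104) (BT.node (nat_lit 11949888) (BT.node (nat_lit 11949376) (BT.node (nat_lit 11949120) (BT.node (nat_lit 11948864) (BT.node (nat_lit 11948800) (BT.leaf (nat_lit 49576481)) (BT.leaf (nat_lit 30005265))) (BT.node (nat_lit 11948992) (BT.leaf (nat_lit 49823237)) (BT.leaf (nat_lit 49823005)))) (BT.node (nat_lit 11949248) (BT.node (nat_lit 11949184) (BT.leaf (nat_lit 39497481)) (BT.leaf (nat_lit 39497497))) (BT.node (nat_lit 11949312) (BT.leaf (nat_lit 39497501)) (BT.leaf (nat_lit 30008081))))) (BT.node (nat_lit 11949569) (BT.node (nat_lit 11949504) (BT.node (nat_lit 11949440) (BT.leaf (nat_lit 30008337)) (BT.leaf (nat_lit 30008841))) (BT.node (nat_lit 11949568) (BT.leaf (nat_lit 46916101)) (BT.leaf (nat_lit 50076677)))) (BT.node (nat_lit 11949760) (BT.node (nat_lit 11949696) (BT.leaf (nat_lit 778552)) (BT.leaf (nat_lit 50076689))) (BT.node (nat_lit 11949824) (BT.leaf (nat_lit 33098757)) (BT.leaf (nat_lit 30009873)))))) (BT.node (nat_lit 11950592) (BT.node (nat_lit 11950272) (BT.node (nat_lit 11950144) (BT.node (nat_lit 11950080) (BT.leaf (nat_lit 31439881)) (BT.leaf (nat_lit 47986465))) (BT.node (nat_lit 11950208) (BT.leaf (nat_lit 51869201)) (BT.leaf (nat_lit 30013977)))) (BT.node (nat_lit 11950464) (BT.node (nat_lit 11950400) (BT.leaf (nat_lit 30013981)) (BT.leaf (nat_lit 36300569))) (BT.node (nat_lit 11950528) (BT.leaf (nat_lit 44862221)) (BT.leaf (nat_lit 47802381))))) (BT.node (nat_lit 11950848) (BT.node (nat_lit 11950720) (BT.node (nat_lit 11950656) (BT.leaf (nat_lit 38085149)) (BT.leaf (nat_lit 30017809))) (BT.node (nat_lit 11950784) (BT.leaf (nat_lit 38085129)) (BT.leaf (nat_lit 47802905)))) (BT.node (nat_lit 11950976) (BT.node (nat_lit 11950912) (BT.leaf (nat_lit 30017825)) (BT.leaf (nat_lit 34518021))) (BT.node (nat_lit 11951040) (BT.leaf (nat_lit 30018069)) (BT.leaf (nat_lit 38802457))))))) (BT.node (nat_lit 11952256) (BT.node (nat_lit 11951680) (BT.node (nat_lit 11951424) (BT.node (nat_lit 11951296) (BT.node (nat_lit 11951232) (BT.leaf (nat_lit 38086941)) (BT.leaf (nat_lit 30018593))) (BT.node (nat_lit 11951360) (BT.leaf (nat_lit 51647777)) (BT.leaf (nat_lit 30020113)))) (BT.node (nat_lit 11951552) (BT.node (nat_lit 11951488) (BT.leaf (nat_lit 30020373)) (BT.leaf (nat_lit 36112409))) (BT.node (nat_lit 11951616) (BT.leaf (nat_lit 33734417)) (BT.leaf (nat_lit 46741537))))) (BT.node (nat_lit 11952000) (BT.node (nat_lit 11951808) (BT.node (nat_lit 11951744) (BT.leaf (nat_lit 30022429)) (BT.leaf (nat_lit 47819525))) (BT.node (nat_lit 11951872) (BT.leaf (nat_lit 30022681)) (BT.leaf (nat_lit 49104133)))) (BT.node (nat_lit 11952128) (BT.node (nat_lit 11952064) (BT.leaf (nat_lit 50717729)) (BT.leaf (nat_lit 30023457))) (BT.node (nat_lit 11952192) (BT.leaf (nat_lit 48400389)) (BT.leaf (nat_lit 49269769)))))) (BT.node (nat_lit 11952896) (BT.node (nat_lit 11952576) (BT.node (nat_lit 11952384) (BT.node (nat_lit 11952320) (BT.leaf (nat_lit 47287561)) (BT.leaf (nat_lit 50238213))) (BT.node (nat_lit 11952512) (BT.leaf (nat_lit 42954785)) (BT.leaf (nat_lit 30026773)))) (BT.node (nat_lit 11952768) (BT.node (nat_lit 11952704) (BT.leaf (nat_lit 30045977)) (BT.leaf (nat_lit 30029841))) (BT.node (nat_lit 11952832) (BT.leaf (nat_lit 50053385)) (BT.leaf (nat_lit 30030869))))) (BT.node (nat_lit 11953221) (BT.node (nat_lit 11953088) (BT.node (nat_lit 11952960) (BT.leaf (nat_lit 30031889)) (BT.leaf (nat_lit 30032153))) (BT.node (nat_lit 11953216) (BT.leaf (nat_lit 30032913)) (BT.leaf (nat_lit 31850765)))) (BT.node (nat_lit 11953344) (BT.node (nat_lit 11953280) (BT.leaf (nat_lit 765292)) (BT.leaf (nat_lit 30032929))) (BT.node (nat_lit 11953408) (BT.leaf (nat_lit 37545989)) (BT.leaf (nat_lit 32300057)))))))) (BT.node (nat_lit 11956032) (BT.node (nat_lit 11954752) (BT.node (nat_lit 11953984) (BT.node (nat_lit 11953728) (BT.node (nat_lit 11953600) (BT.node (nat_lit 11953536) (BT.leaf (nat_lit 47892765)) (BT.leaf (nat_lit 34684433))) (BT.node (nat_lit 11953664) (BT.leaf (nat_lit 47892745)) (BT.leaf (nat_lit 32300045)))) (BT.node (nat_lit 11953856) (BT.node (nat_lit 11953792) (BT.leaf (nat_lit 30036757)) (BT.leaf (nat_lit 50958357))) (BT.node (nat_lit 11953920) (BT.leaf (nat_lit 34278425)) (BT.leaf (nat_lit 30038041))))) (BT.node (nat_lit 11954240) (BT.node (nat_lit 11954112) (BT.node (nat_lit 11954048) (BT.leaf (nat_lit 34278413)) (BT.leaf (nat_lit 30038293))) (BT.node (nat_lit 11954176) (BT.leaf (nat_lit 30738969)) (BT.leaf (nat_lit 30038801)))) (BT.node (nat_lit 11954432) (BT.node (nat_lit 11954304) (BT.leaf (nat_lit 43172117)) (BT.leaf (nat_lit 30738957))) (BT.node (nat_lit 11954624) (BT.leaf (nat_lit 30039565)) (BT.leaf (nat_lit 33882389)))))) (BT.node (nat_lit 11955392) (BT.node (nat_lit 11955072) (BT.node (nat_lit 11954944) (BT.node (nat_lit 11954880) (BT.leaf (nat_lit 34069257)) (BT.leaf (nat_lit 50383893))) (BT.node (nat_lit 11955008) (BT.leaf (nat_lit 47932685)) (BT.leaf (nat_lit 50384153)))) (BT.node (nat_lit 11955264) (BT.node (nat_lit 11955200) (BT.leaf (nat_lit 49114641)) (BT.leaf (nat_lit 52115221))) (BT.node (nat_lit 11955328) (BT.leaf (nat_lit 33869073)) (BT.leaf (nat_lit 30043165))))) (BT.node (nat_lit 11955648) (BT.node (nat_lit 11955520) (BT.node (nat_lit 11955456) (BT.leaf (nat_lit 36177937)) (BT.leaf (nat_lit 30716953))) (BT.node (nat_lit 11955584) (BT.leaf (nat_lit 47927069)) (BT.leaf (nat_lit 30043921)))) (BT.node (nat_lit 11955776) (BT.node (nat_lit 11955712) (BT.leaf (nat_lit 51191061)) (BT.leaf (nat_lit 30044701))) (BT.node (nat_lit 11955840) (BT.leaf (nat_lit 44333073)) (BT.leaf (nat_lit 32524053))))))) (BT.node (nat_lit 11957184) (BT.node (nat_lit 11956608) (BT.node (nat_lit 11956352) (BT.node (nat_lit 11956160) (BT.node (nat_lit 11956096) (BT.leaf (nat_lit 30686745)) (BT.leaf (nat_lit 30048273))) (BT.node (nat_lit 11956224) (BT.leaf (nat_lit 30049813)) (BT.leaf (nat_lit 48628769)))) (BT.node (nat_lit 11956480) (BT.node (nat_lit 11956416) (BT.leaf (nat_lit 30766345)) (BT.leaf (nat_lit 46403105))) (BT.node (nat_lit 11956544) (BT.leaf (nat_lit 30056213)) (BT.leaf (nat_lit 51413265))))) (BT.node (nat_lit 11956864) (BT.node (nat_lit 11956736) (BT.node (nat_lit 11956672) (BT.leaf (nat_lit 33422365)) (BT.leaf (nat_lit 30858253))) (BT.node (nat_lit 11956800) (BT.leaf (nat_lit 34663685)) (BT.leaf (nat_lit 47826969)))) (BT.node (nat_lit 11957056) (BT.node (nat_lit 11956992) (BT.leaf (nat_lit 42507285)) (BT.leaf (nat_lit 35926545))) (BT.node (nat_lit 11957120) (BT.leaf (nat_lit 30058769)) (BT.leaf (nat_lit 33381641)))))) (BT.node (nat_lit 11957632) (BT.node (nat_lit 11957440) (BT.node (nat_lit 11957312) (BT.node (nat_lit 11957248) (BT.leaf (nat_lit 37199137)) (BT.leaf (nat_lit 51542049))) (BT.node (nat_lit 11957376) (BT.leaf (nat_lit 30060821)) (BT.leaf (nat_lit 34835473)))) (BT.node (nat_lit 11957568) (BT.node (nat_lit 11957504) (BT.leaf (nat_lit 30062365)) (BT.leaf (nat_lit 30065425))) (BT.node (nat_lit 11957572) (BT.leaf (nat_lit 30065941)) (BT.leaf (nat_lit 759236))))) (BT.node (nat_lit 11957888) (BT.node (nat_lit 11957760) (BT.node (nat_lit 11957696) (BT.leaf (nat_lit 31272473)) (BT.leaf (nat_lit 32961569))) (BT.node (nat_lit 11957824) (BT.leaf (nat_lit 30066705)) (BT.leaf (nat_lit 47025953)))) (BT.node (nat_lit 11958016) (BT.node (nat_lit 11957952) (BT.leaf (nat_lit 35201313)) (BT.leaf (nat_lit 51147525))) (BT.node (nat_lit 11958272) (BT.leaf (nat_lit 48469781)) (BT.leaf (nat_lit 30070553))))))))))) (BT.node (nat_lit 11976896) (BT.node (nat_lit 11968128) (BT.node (nat_lit 11963200) (BT.node (nat_lit 11960768) (BT.node (nat_lit 11959552) (BT.node (nat_lit 11959040) (BT.node (nat_lit 11958784) (BT.node (nat_lit 11958656) (BT.node (nat_lit 11958528) (BT.leaf (nat_lit 42780445)) (BT.leaf (nat_lit 35119137))) (BT.node (nat_lit 11958720) (BT.leaf (nat_lit 48004101)) (BT.leaf (nat_lit 30074133)))) (BT.node (nat_lit 11958912) (BT.node (nat_lit 11958848) (BT.leaf (nat_lit 30074645)) (BT.leaf (nat_lit 30075401))) (BT.node (nat_lit 11958976) (BT.leaf (nat_lit 30075405)) (BT.leaf (nat_lit 48522529))))) (BT.node (nat_lit 11959296) (BT.node (nat_lit 11959168) (BT.node (nat_lit 11959104) (BT.leaf (nat_lit 30075417)) (BT.leaf (nat_lit 30075421))) (BT.node (nat_lit 11959232) (BT.leaf (nat_lit 31352341)) (BT.leaf (nat_lit 30076945)))) (BT.node (nat_lit 11959424) (BT.node (nat_lit 11959360) (BT.leaf (nat_lit 48399885)) (BT.leaf (nat_lit 34218517))) (BT.node (nat_lit 11959488) (BT.leaf (nat_lit 30078225)) (BT.leaf (nat_lit 32598037)))))) (BT.node (nat_lit 11960128) (BT.node (nat_lit 11959936) (BT.node (nat_lit 11959744) (BT.node (nat_lit 11959616) (BT.leaf (nat_lit 41819681)) (BT.leaf (nat_lit 41819425))) (BT.node (nat_lit 11959808) (BT.leaf (nat_lit 31506453)) (BT.leaf (nat_lit 31523609)))) (BT.node (nat_lit 11960064) (BT.node (nat_lit 11960000) (BT.leaf (nat_lit 31506457)) (BT.leaf (nat_lit 31506461))) (BT.node (nat_lit 11960072) (BT.leaf (nat_lit 47840525)) (BT.leaf (nat_lit 798176))))) (BT.node (nat_lit 11960384) (BT.node (nat_lit 11960256) (BT.node (nat_lit 11960192) (BT.leaf (nat_lit 35318285)) (BT.leaf (nat_lit 51099925))) (BT.node (nat_lit 11960320) (BT.leaf (nat_lit 30082821)) (BT.leaf (nat_lit 34138137)))) (BT.node (nat_lit 11960576) (BT.node (nat_lit 11960512) (BT.leaf (nat_lit 30083357)) (BT.leaf (nat_lit 30083353))) (BT.node (nat_lit 11960640) (BT.leaf (nat_lit 30084881)) (BT.leaf (nat_lit 30085149))))))) (BT.node (nat_lit 11961920) (BT.node (nat_lit 11961280) (BT.node (nat_lit 11961024) (BT.node (nat_lit 11960896) (BT.node (nat_lit 11960832) (BT.leaf (nat_lit 30086169)) (BT.leaf (nat_lit 30086413))) (BT.node (nat_lit 11960960) (BT.leaf (nat_lit 43487509)) (BT.leaf (nat_lit 30086429)))) (BT.node (nat_lit 11961152) (BT.node (nat_lit 11961088) (BT.leaf (nat_lit 39836677)) (BT.leaf (nat_lit 49357601))) (BT.node (nat_lit 11961216) (BT.leaf (nat_lit 39485461)) (BT.leaf (nat_lit 40615689))))) (BT.node (nat_lit 11961664) (BT.node (nat_lit 11961472) (BT.node (nat_lit 11961344) (BT.leaf (nat_lit 47844889)) (BT.leaf (nat_lit 31002909))) (BT.node (nat_lit 11961600) (BT.leaf (nat_lit 49384197)) (BT.leaf (nat_lit 30091033)))) (BT.node (nat_lit 11961792) (BT.node (nat_lit 11961728) (BT.leaf (nat_lit 30091037)) (BT.leaf (nat_lit 30092049))) (BT.node (nat_lit 11961856) (BT.leaf (nat_lit 30092821)) (BT.leaf (nat_lit 30092829)))))) (BT.node (nat_lit 11962624) (BT.node (nat_lit 11962240) (BT.node (nat_lit 11962048) (BT.node (nat_lit 11961984) (BT.leaf (nat_lit 39308309)) (BT.leaf (nat_lit 34573081))) (BT.node (nat_lit 11962112) (BT.leaf (nat_lit 30093085)) (BT.leaf (nat_lit 30093333)))) (BT.node (nat_lit 11962368) (BT.node (nat_lit 11962304) (BT.leaf (nat_lit 34470405)) (BT.leaf (nat_lit 39009297))) (BT.node (nat_lit 11962560) (BT.leaf (nat_lit 49339677)) (BT.leaf (nat_lit 30095121))))) (BT.node (nat_lit 11962880) (BT.node (nat_lit 11962752) (BT.node (nat_lit 11962688) (BT.leaf (nat_lit 49831701)) (BT.leaf (nat_lit 47887649))) (BT.node (nat_lit 11962816) (BT.leaf (nat_lit 31590425)) (BT.leaf (nat_lit 42866957)))) (BT.node (nat_lit 11963072) (BT.node (nat_lit 11963008) (BT.leaf (nat_lit 30633225)) (BT.leaf (nat_lit 33056529))) (BT.node (nat_lit 11963136) (BT.leaf (nat_lit 30097949)) (BT.leaf (nat_lit 30098453)))))))) (BT.node (nat_lit 11965888) (BT.node (nat_lit 11964608) (BT.node (nat_lit 11963840) (BT.node (nat_lit 11963520) (BT.node (nat_lit 11963392) (BT.node (nat_lit 11963328) (BT.leaf (nat_lit 34129417)) (BT.leaf (nat_lit 30100757))) (BT.node (nat_lit 11963456) (BT.leaf (nat_lit 40000793)) (BT.leaf (nat_lit 47853593)))) (BT.node (nat_lit 11963648) (BT.node (nat_lit 11963584) (BT.leaf (nat_lit 34133017)) (BT.leaf (nat_lit 52354569))) (BT.node (nat_lit 11963712) (BT.leaf (nat_lit 34110749)) (BT.leaf (nat_lit 30101525))))) (BT.node (nat_lit 11964096) (BT.node (nat_lit 11963968) (BT.node (nat_lit 11963904) (BT.leaf (nat_lit 49358369)) (BT.leaf (nat_lit 47855385))) (BT.node (nat_lit 11964032) (BT.leaf (nat_lit 31191825)) (BT.leaf (nat_lit 30105105)))) (BT.node (nat_lit 11964352) (BT.node (nat_lit 11964160) (BT.leaf (nat_lit 30104853)) (BT.leaf (nat_lit 30105617))) (BT.node (nat_lit 11964544) (BT.leaf (nat_lit 30107669)) (BT.leaf (nat_lit 30110737)))))) (BT.node (nat_lit 11965120) (BT.node (nat_lit 11964805) (BT.node (nat_lit 11964736) (BT.node (nat_lit 11964672) (BT.leaf (nat_lit 32626205)) (BT.leaf (nat_lit 48818209))) (BT.node (nat_lit 11964800) (BT.leaf (nat_lit 35852053)) (BT.leaf (nat_lit 38944781)))) (BT.node (nat_lit 11964928) (BT.node (nat_lit 11964864) (BT.leaf (nat_lit 762700)) (BT.leaf (nat_lit 38427169))) (BT.node (nat_lit 11964992) (BT.leaf (nat_lit 38299681)) (BT.leaf (nat_lit 38928153))))) (BT.node (nat_lit 11965440) (BT.node (nat_lit 11965248) (BT.node (nat_lit 11965184) (BT.leaf (nat_lit 31391761)) (BT.leaf (nat_lit 52341013))) (BT.node (nat_lit 11965376) (BT.leaf (nat_lit 47007777)) (BT.leaf (nat_lit 50336005)))) (BT.node (nat_lit 11965568) (BT.node (nat_lit 11965504) (BT.leaf (nat_lit 30118929)) (BT.leaf (nat_lit 31390997))) (BT.node (nat_lit 11965824) (BT.leaf (nat_lit 34437149)) (BT.leaf (nat_lit 42330897))))))) (BT.node (nat_lit 11967040) (BT.node (nat_lit 11966528) (BT.node (nat_lit 11966144) (BT.node (nat_lit 11966016) (BT.node (nat_lit 11965952) (BT.leaf (nat_lit 30124821)) (BT.leaf (nat_lit 36079377))) (BT.node (nat_lit 11966080) (BT.leaf (nat_lit 37900045)) (BT.leaf (nat_lit 47532557)))) (BT.node (nat_lit 11966400) (BT.node (nat_lit 11966208) (BT.leaf (nat_lit 43274525)) (BT.leaf (nat_lit 50846481))) (BT.node (nat_lit 11966464) (BT.leaf (nat_lit 30129429)) (BT.leaf (nat_lit 30130961))))) (BT.node (nat_lit 11966784) (BT.node (nat_lit 11966656) (BT.node (nat_lit 11966592) (BT.leaf (nat_lit 46701833)) (BT.leaf (nat_lit 47866653))) (BT.node (nat_lit 11966720) (BT.leaf (nat_lit 33080853)) (BT.leaf (nat_lit 30132753)))) (BT.node (nat_lit 11966912) (BT.node (nat_lit 11966853) (BT.leaf (nat_lit 30133009)) (BT.leaf (nat_lit 787404))) (BT.node (nat_lit 11966976) (BT.leaf (nat_lit 30135057)) (BT.leaf (nat_lit 46700817)))))) (BT.node (nat_lit 11967616) (BT.node (nat_lit 11967360) (BT.node (nat_lit 11967168) (BT.node (nat_lit 11967104) (BT.leaf (nat_lit 51464725)) (BT.leaf (nat_lit 35196697))) (BT.node (nat_lit 11967296) (BT.leaf (nat_lit 30135569)) (BT.leaf (nat_lit 30284565)))) (BT.node (nat_lit 11967488) (BT.node (nat_lit 11967424) (BT.leaf (nat_lit 30137877)) (BT.leaf (nat_lit 30138129))) (BT.node (nat_lit 11967552) (BT.leaf (nat_lit 30139413)) (BT.leaf (nat_lit 41036805))))) (BT.node (nat_lit 11967872) (BT.node (nat_lit 11967744) (BT.node (nat_lit 11967680) (BT.leaf (nat_lit 30139669)) (BT.leaf (nat_lit 30139929))) (BT.node (nat_lit 11967808) (BT.leaf (nat_lit 30139933)) (BT.leaf (nat_lit 44828189)))) (BT.node (nat_lit 11968000) (BT.node (nat_lit 11967936) (BT.leaf (nat_lit 30140441)) (BT.leaf (nat_lit 30140933))) (BT.node (nat_lit 11968064) (BT.leaf (nat_lit 45243917)) (BT.leaf (nat_lit 30140961))))))))) (BT.node (nat_lit 11972864) (BT.node (nat_lit 11970368) (BT.node (nat_lit 11969152) (BT.node (nat_lit 11968512) (BT.node (nat_lit 11968384) (BT.node (nat_lit 11968256) (BT.node (nat_lit 11968192) (BT.leaf (nat_lit 30141717)) (BT.leaf (nat_lit 46974213))) (BT.node (nat_lit 11968262) (BT.leaf (nat_lit 51293457)) (BT.leaf (nat_lit 772792)))) (BT.node (nat_lit 11968454) (BT.node (nat_lit 11968448) (BT.leaf (nat_lit 46683669)) (BT.leaf (nat_lit 30143765))) (BT.node (nat_lit 11968456) (BT.leaf (nat_lit 788960)) (BT.leaf (nat_lit 788960))))) (BT.node (nat_lit 11968768) (BT.node (nat_lit 11968640) (BT.node (nat_lit 11968576) (BT.leaf (nat_lit 34246425)) (BT.leaf (nat_lit 34246429))) (BT.node (nat_lit 11968704) (BT.leaf (nat_lit 30144017)) (BT.leaf (nat_lit 30144541)))) (BT.node (nat_lit 11968896) (BT.node (nat_lit 11968832) (BT.leaf (nat_lit 35913489)) (BT.leaf (nat_lit 48401697))) (BT.node (nat_lit 11969088) (BT.leaf (nat_lit 49143045)) (BT.leaf (nat_lit 30146837)))))) (BT.node (nat_lit 11969856) (BT.node (nat_lit 11969472) (BT.node (nat_lit 11969280) (BT.node (nat_lit 11969216) (BT.leaf (nat_lit 49149729)) (BT.leaf (nat_lit 49149985))) (BT.node (nat_lit 11969408) (BT.leaf (nat_lit 34043413)) (BT.leaf (nat_lit 47877901)))) (BT.node (nat_lit 11969664) (BT.node (nat_lit 11969536) (BT.leaf (nat_lit 51366669)) (BT.leaf (nat_lit 51366673))) (BT.node (nat_lit 11969728) (BT.leaf (nat_lit 43300629)) (BT.leaf (nat_lit 50824965))))) (BT.node (nat_lit 11970050) (BT.node (nat_lit 11969984) (BT.node (nat_lit 11969920) (BT.leaf (nat_lit 47562781)) (BT.leaf (nat_lit 34492953))) (BT.node (nat_lit 11970048) (BT.leaf (nat_lit 30150933)) (BT.leaf (nat_lit 30151189)))) (BT.node (nat_lit 11970112) (BT.node (nat_lit 11970051) (BT.leaf (nat_lit 760840)) (BT.leaf (nat_lit 760840))) (BT.node (nat_lit 11970176) (BT.leaf (nat_lit 44723213)) (BT.leaf (nat_lit 30615829))))))) (BT.node (nat_lit 11971776) (BT.node (nat_lit 11971008) (BT.node (nat_lit 11970624) (BT.node (nat_lit 11970496) (BT.node (nat_lit 11970432) (BT.leaf (nat_lit 30151965)) (BT.leaf (nat_lit 47071245))) (BT.node (nat_lit 11970560) (BT.leaf (nat_lit 30152965)) (BT.leaf (nat_lit 46618401)))) (BT.node (nat_lit 11970752) (BT.node (nat_lit 11970688) (BT.leaf (nat_lit 51431713)) (BT.leaf (nat_lit 47362833))) (BT.node (nat_lit 11970816) (BT.leaf (nat_lit 30153233)) (BT.leaf (nat_lit 34718469))))) (BT.node (nat_lit 11971392) (BT.node (nat_lit 11971264) (BT.node (nat_lit 11971200) (BT.leaf (nat_lit 30156305)) (BT.leaf (nat_lit 44625685))) (BT.node (nat_lit 11971328) (BT.leaf (nat_lit 30159633)) (BT.leaf (nat_lit 44690197)))) (BT.node (nat_lit 11971584) (BT.node (nat_lit 11971520) (BT.leaf (nat_lit 30159649)) (BT.leaf (nat_lit 30161437))) (BT.node (nat_lit 11971648) (BT.leaf (nat_lit 30161441)) (BT.leaf (nat_lit 47821589)))))) (BT.node (nat_lit 11972288) (BT.node (nat_lit 11972032) (BT.node (nat_lit 11971904) (BT.node (nat_lit 11971840) (BT.leaf (nat_lit 32012053)) (BT.leaf (nat_lit 30726153))) (BT.node (nat_lit 11971968) (BT.leaf (nat_lit 30164501)) (BT.leaf (nat_lit 30168073)))) (BT.node (nat_lit 11972160) (BT.node (nat_lit 11972096) (BT.leaf (nat_lit 30168077)) (BT.leaf (nat_lit 30170133))) (BT.node (nat_lit 11972224) (BT.leaf (nat_lit 36834581)) (BT.leaf (nat_lit 30171397))))) (BT.node (nat_lit 11972608) (BT.node (nat_lit 11972416) (BT.node (nat_lit 11972352) (BT.leaf (nat_lit 30170905)) (BT.leaf (nat_lit 30170909))) (BT.node (nat_lit 11972544) (BT.leaf (nat_lit 51231009)) (BT.leaf (nat_lit 30173209)))) (BT.node (nat_lit 11972736) (BT.node (nat_lit 11972672) (BT.leaf (nat_lit 33822993)) (BT.leaf (nat_lit 37158161))) (BT.node (nat_lit 11972800) (BT.leaf (nat_lit 52020229)) (BT.leaf (nat_lit 51664389)))))))) (BT.node (nat_lit 11975040) (BT.node (nat_lit 11974018) (BT.node (nat_lit 11973568) (BT.node (nat_lit 11973184) (BT.node (nat_lit 11972992) (BT.node (nat_lit 11972928) (BT.leaf (nat_lit 42230541)) (BT.leaf (nat_lit 39795717))) (BT.node (nat_lit 11973120) (BT.leaf (nat_lit 30175757)) (BT.leaf (nat_lit 30175777)))) (BT.node (nat_lit 11973376) (BT.node (nat_lit 11973312) (BT.leaf (nat_lit 30176021)) (BT.leaf (nat_lit 31015177))) (BT.node (nat_lit 11973440) (BT.leaf (nat_lit 30177045)) (BT.leaf (nat_lit 30178333))))) (BT.node (nat_lit 11973824) (BT.node (nat_lit 11973696) (BT.node (nat_lit 11973632) (BT.leaf (nat_lit 30178845)) (BT.leaf (nat_lit 30179857))) (BT.node (nat_lit 11973760) (BT.leaf (nat_lit 37979153)) (BT.leaf (nat_lit 37979161)))) (BT.node (nat_lit 11973952) (BT.node (nat_lit 11973888) (BT.leaf (nat_lit 37979165)) (BT.leaf (nat_lit 30181649))) (BT.node (nat_lit 11974016) (BT.leaf (nat_lit 33046549)) (BT.leaf (nat_lit 37200389)))))) (BT.node (nat_lit 11974528) (BT.node (nat_lit 11974272) (BT.node (nat_lit 11974144) (BT.node (nat_lit 11974080) (BT.leaf (nat_lit 778480)) (BT.leaf (nat_lit 30182417))) (BT.node (nat_lit 11974208) (BT.leaf (nat_lit 34056213)) (BT.leaf (nat_lit 48296213)))) (BT.node (nat_lit 11974400) (BT.node (nat_lit 11974336) (BT.leaf (nat_lit 48296221)) (BT.leaf (nat_lit 30783241))) (BT.node (nat_lit 11974464) (BT.leaf (nat_lit 35950609)) (BT.leaf (nat_lit 48136721))))) (BT.node (nat_lit 11974784) (BT.node (nat_lit 11974656) (BT.node (nat_lit 11974592) (BT.leaf (nat_lit 34202393)) (BT.leaf (nat_lit 30185241))) (BT.node (nat_lit 11974720) (BT.leaf (nat_lit 30185245)) (BT.leaf (nat_lit 30189841)))) (BT.node (nat_lit 11974912) (BT.node (nat_lit 11974848) (BT.leaf (nat_lit 30189593)) (BT.leaf (nat_lit 30189597))) (BT.node (nat_lit 11974976) (BT.leaf (nat_lit 30190617)) (BT.leaf (nat_lit 48309773))))))) (BT.node (nat_lit 11975744) (BT.node (nat_lit 11975424) (BT.node (nat_lit 11975296) (BT.node (nat_lit 11975168) (BT.node (nat_lit 11975104) (BT.leaf (nat_lit 51085333)) (BT.leaf (nat_lit 48309269))) (BT.node (nat_lit 11975232) (BT.leaf (nat_lit 30192657)) (BT.leaf (nat_lit 30193425)))) (BT.node (nat_lit 11975299) (BT.node (nat_lit 11975297) (BT.leaf (nat_lit 40897049)) (BT.leaf (nat_lit 805776))) (BT.node (nat_lit 11975360) (BT.leaf (nat_lit 805776)) (BT.leaf (nat_lit 36178201))))) (BT.node (nat_lit 11975616) (BT.node (nat_lit 11975552) (BT.node (nat_lit 11975429) (BT.leaf (nat_lit 41835553)) (BT.leaf (nat_lit 805780))) (BT.node (nat_lit 11975553) (BT.leaf (nat_lit 34952993)) (BT.leaf (nat_lit 795016)))) (BT.node (nat_lit 11975622) (BT.node (nat_lit 11975619) (BT.leaf (nat_lit 30194453)) (BT.leaf (nat_lit 795020))) (BT.node (nat_lit 11975680) (BT.leaf (nat_lit 795020)) (BT.leaf (nat_lit 30194713)))))) (BT.node (nat_lit 11976192) (BT.node (nat_lit 11975936) (BT.node (nat_lit 11975809) (BT.node (nat_lit 11975808) (BT.leaf (nat_lit 41717537)) (BT.leaf (nat_lit 47379981))) (BT.node (nat_lit 11975872) (BT.leaf (nat_lit 814512)) (BT.leaf (nat_lit 37045521)))) (BT.node (nat_lit 11976064) (BT.node (nat_lit 11976000) (BT.leaf (nat_lit 37045525)) (BT.leaf (nat_lit 30197265))) (BT.node (nat_lit 11976128) (BT.leaf (nat_lit 30198541)) (BT.leaf (nat_lit 36737053))))) (BT.node (nat_lit 11976576) (BT.node (nat_lit 11976448) (BT.node (nat_lit 11976256) (BT.leaf (nat_lit 38177285)) (BT.leaf (nat_lit 48225309))) (BT.node (nat_lit 11976512) (BT.leaf (nat_lit 35268885)) (BT.leaf (nat_lit 34065429)))) (BT.node (nat_lit 11976704) (BT.node (nat_lit 11976640) (BT.leaf (nat_lit 46739221)) (BT.leaf (nat_lit 51671585))) (BT.node (nat_lit 11976832) (BT.leaf (nat_lit 48097797)) (BT.leaf (nat_lit 30203669)))))))))) (BT.node (nat_lit 11987136) (BT.node (nat_lit 11982080) (BT.node (nat_lit 11979840) (BT.node (nat_lit 11978240) (BT.node (nat_lit 11977472) (BT.node (nat_lit 11977216) (BT.node (nat_lit 11977088) (BT.node (nat_lit 11977024) (BT.leaf (nat_lit 51603733)) (BT.leaf (nat_lit 30204701))) (BT.node (nat_lit 11977152) (BT.leaf (nat_lit 34991381)) (BT.leaf (nat_lit 50979077)))) (BT.node (nat_lit 11977344) (BT.node (nat_lit 11977280) (BT.leaf (nat_lit 30217749)) (BT.leaf (nat_lit 34067221))) (BT.node (nat_lit 11977408) (BT.leaf (nat_lit 39397653)) (BT.leaf (nat_lit 30205721))))) (BT.node (nat_lit 11977920) (BT.node (nat_lit 11977728) (BT.node (nat_lit 11977664) (BT.leaf (nat_lit 30206229)) (BT.leaf (nat_lit 47910941))) (BT.node (nat_lit 11977792) (BT.leaf (nat_lit 46459141)) (BT.leaf (nat_lit 30206741)))) (BT.node (nat_lit 11978048) (BT.node (nat_lit 11977991) (BT.leaf (nat_lit 37276165)) (BT.leaf (nat_lit 779712))) (BT.node (nat_lit 11978053) (BT.leaf (nat_lit 51485445)) (BT.leaf (nat_lit 779684)))))) (BT.node (nat_lit 11978944) (BT.node (nat_lit 11978624) (BT.node (nat_lit 11978432) (BT.node (nat_lit 11978368) (BT.leaf (nat_lit 30208277)) (BT.leaf (nat_lit 30208285))) (BT.node (nat_lit 11978496) (BT.leaf (nat_lit 42158601)) (BT.leaf (nat_lit 42158617)))) (BT.node (nat_lit 11978752) (BT.node (nat_lit 11978688) (BT.leaf (nat_lit 42230545)) (BT.leaf (nat_lit 42230549))) (BT.node (nat_lit 11978816) (BT.leaf (nat_lit 34829337)) (BT.leaf (nat_lit 30210581))))) (BT.node (nat_lit 11979264) (BT.node (nat_lit 11979072) (BT.node (nat_lit 11979008) (BT.leaf (nat_lit 30211869)) (BT.leaf (nat_lit 47905041))) (BT.node (nat_lit 11979136) (BT.leaf (nat_lit 30212629)) (BT.leaf (nat_lit 30212121)))) (BT.node (nat_lit 11979584) (BT.node (nat_lit 11979328) (BT.leaf (nat_lit 31683361)) (BT.leaf (nat_lit 30215957))) (BT.node (nat_lit 11979712) (BT.leaf (nat_lit 48430357)) (BT.leaf (nat_lit 36280069))))))) (BT.node (nat_lit 11980867) (BT.node (nat_lit 11980480) (BT.node (nat_lit 11980160) (BT.node (nat_lit 11980032) (BT.node (nat_lit 11979968) (BT.leaf (nat_lit 48178693)) (BT.leaf (nat_lit 30219789))) (BT.node (nat_lit 11980096) (BT.leaf (nat_lit 30220565)) (BT.leaf (nat_lit 39780357)))) (BT.node (nat_lit 11980288) (BT.node (nat_lit 11980224) (BT.leaf (nat_lit 39894045)) (BT.leaf (nat_lit 34066949))) (BT.node (nat_lit 11980352) (BT.leaf (nat_lit 30222353)) (BT.leaf (nat_lit 30222597))))) (BT.node (nat_lit 11980736) (BT.node (nat_lit 11980608) (BT.node (nat_lit 11980544) (BT.leaf (nat_lit 51917589)) (BT.leaf (nat_lit 51603741))) (BT.node (nat_lit 11980672) (BT.leaf (nat_lit 34066701)) (BT.leaf (nat_lit 51079969)))) (BT.node (nat_lit 11980864) (BT.node (nat_lit 11980800) (BT.leaf (nat_lit 36238621)) (BT.leaf (nat_lit 34064917))) (BT.node (nat_lit 11980866) (BT.leaf (nat_lit 36238353)) (BT.leaf (nat_lit 806408)))))) (BT.node (nat_lit 11981568) (BT.node (nat_lit 11981248) (BT.node (nat_lit 11981120) (BT.node (nat_lit 11980868) (BT.leaf (nat_lit 806408)) (BT.leaf (nat_lit 806408))) (BT.node (nat_lit 11981184) (BT.leaf (nat_lit 31686689)) (BT.leaf (nat_lit 30226705)))) (BT.node (nat_lit 11981440) (BT.node (nat_lit 11981376) (BT.leaf (nat_lit 50338577)) (BT.leaf (nat_lit 50925345))) (BT.node (nat_lit 11981504) (BT.leaf (nat_lit 34845217)) (BT.leaf (nat_lit 42234133))))) (BT.node (nat_lit 11981824) (BT.node (nat_lit 11981696) (BT.node (nat_lit 11981632) (BT.leaf (nat_lit 34845205)) (BT.leaf (nat_lit 34845209))) (BT.node (nat_lit 11981760) (BT.leaf (nat_lit 34845213)) (BT.leaf (nat_lit 30716949)))) (BT.node (nat_lit 11981952) (BT.node (nat_lit 11981888) (BT.leaf (nat_lit 48591649)) (BT.leaf (nat_lit 48230165))) (BT.node (nat_lit 11982016) (BT.leaf (nat_lit 30717449)) (BT.leaf (nat_lit 32032785)))))))) (BT.node (nat_lit 11984448) (BT.node (nat_lit 11983424) (BT.node (nat_lit 11982848) (BT.node (nat_lit 11982336) (BT.node (nat_lit 11982208) (BT.node (nat_lit 11982144) (BT.leaf (nat_lit 47583253)) (BT.leaf (nat_lit 30234649))) (BT.node (nat_lit 11982272) (BT.leaf (nat_lit 50753561)) (BT.leaf (nat_lit 45172485)))) (BT.node (nat_lit 11982592) (BT.node (nat_lit 11982464) (BT.leaf (nat_lit 38735117)) (BT.leaf (nat_lit 44991005))) (BT.node (nat_lit 11982784) (BT.leaf (nat_lit 30238749)) (BT.leaf (nat_lit 34074629))))) (BT.node (nat_lit 11983044) (BT.node (nat_lit 11982976) (BT.node (nat_lit 11982912) (BT.leaf (nat_lit 50280453)) (BT.leaf (nat_lit 34073109))) (BT.node (nat_lit 11983040) (BT.leaf (nat_lit 34074373)) (BT.leaf (nat_lit 47607837)))) (BT.node (nat_lit 11983296) (BT.node (nat_lit 11983168) (BT.leaf (nat_lit 805788)) (BT.leaf (nat_lit 50384661))) (BT.node (nat_lit 11983360) (BT.leaf (nat_lit 30245653)) (BT.leaf (nat_lit 30246165)))))) (BT.node (nat_lit 11983873) (BT.node (nat_lit 11983680) (BT.node (nat_lit 11983552) (BT.node (nat_lit 11983488) (BT.leaf (nat_lit 37775649)) (BT.leaf (nat_lit 30246425))) (BT.node (nat_lit 11983616) (BT.leaf (nat_lit 30246429)) (BT.leaf (nat_lit 30246937)))) (BT.node (nat_lit 11983748) (BT.node (nat_lit 11983744) (BT.leaf (nat_lit 30246941)) (BT.leaf (nat_lit 48337941))) (BT.node (nat_lit 11983872) (BT.leaf (nat_lit 754656)) (BT.leaf (nat_lit 48335637))))) (BT.node (nat_lit 11984192) (BT.node (nat_lit 11984064) (BT.node (nat_lit 11983936) (BT.leaf (nat_lit 754664)) (BT.leaf (nat_lit 48458517))) (BT.node (nat_lit 11984128) (BT.leaf (nat_lit 30248737)) (BT.leaf (nat_lit 50387209)))) (BT.node (nat_lit 11984320) (BT.node (nat_lit 11984256) (BT.leaf (nat_lit 30248993)) (BT.leaf (nat_lit 34471445))) (BT.node (nat_lit 11984384) (BT.leaf (nat_lit 30249493)) (BT.leaf (nat_lit 30249749))))))) (BT.node (nat_lit 11985920) (BT.node (nat_lit 11985088) (BT.node (nat_lit 11984704) (BT.node (nat_lit 11984576) (BT.node (nat_lit 11984512) (BT.leaf (nat_lit 30250257)) (BT.leaf (nat_lit 33723165))) (BT.node (nat_lit 11984640) (BT.leaf (nat_lit 37738513)) (BT.leaf (nat_lit 30251805)))) (BT.node (nat_lit 11984832) (BT.node (nat_lit 11984768) (BT.leaf (nat_lit 30252565)) (BT.leaf (nat_lit 30252817))) (BT.node (nat_lit 11985024) (BT.leaf (nat_lit 30751249)) (BT.leaf (nat_lit 48964621))))) (BT.node (nat_lit 11985408) (BT.node (nat_lit 11985216) (BT.node (nat_lit 11985152) (BT.leaf (nat_lit 30254865)) (BT.leaf (nat_lit 30254869))) (BT.node (nat_lit 11985280) (BT.leaf (nat_lit 30255889)) (BT.leaf (nat_lit 34080261)))) (BT.node (nat_lit 11985536) (BT.node (nat_lit 11985472) (BT.leaf (nat_lit 30258969)) (BT.leaf (nat_lit 32557061))) (BT.node (nat_lit 11985856) (BT.leaf (nat_lit 30264085)) (BT.leaf (nat_lit 30263813)))))) (BT.node (nat_lit 11986432) (BT.node (nat_lit 11986304) (BT.node (nat_lit 11986112) (BT.node (nat_lit 11986048) (BT.leaf (nat_lit 30264069)) (BT.leaf (nat_lit 30264093))) (BT.node (nat_lit 11986240) (BT.leaf (nat_lit 30814989)) (BT.leaf (nat_lit 47321349)))) (BT.node (nat_lit 11986312) (BT.node (nat_lit 11986308) (BT.leaf (nat_lit 47364613)) (BT.leaf (nat_lit 756084))) (BT.node (nat_lit 11986368) (BT.leaf (nat_lit 756084)) (BT.leaf (nat_lit 30265361))))) (BT.node (nat_lit 11986880) (BT.node (nat_lit 11986688) (BT.node (nat_lit 11986624) (BT.leaf (nat_lit 30266897)) (BT.leaf (nat_lit 34907401))) (BT.node (nat_lit 11986816) (BT.leaf (nat_lit 49118981)) (BT.leaf (nat_lit 49120517)))) (BT.node (nat_lit 11987008) (BT.node (nat_lit 11986944) (BT.leaf (nat_lit 47331353)) (BT.leaf (nat_lit 34089229))) (BT.node (nat_lit 11987072) (BT.leaf (nat_lit 30280461)) (BT.leaf (nat_lit 52231445))))))))) (BT.node (nat_lit 11991744) (BT.node (nat_lit 11989248) (BT.node (nat_lit 11988224) (BT.node (nat_lit 11987648) (BT.node (nat_lit 11987392) (BT.node (nat_lit 11987264) (BT.node (nat_lit 11987200) (BT.leaf (nat_lit 34708997)) (BT.leaf (nat_lit 47948569))) (BT.node (nat_lit 11987328) (BT.leaf (nat_lit 30272289)) (BT.leaf (nat_lit 30272277)))) (BT.node (nat_lit 11987520) (BT.node (nat_lit 11987456) (BT.leaf (nat_lit 32813085)) (BT.leaf (nat_lit 51532577))) (BT.node (nat_lit 11987584) (BT.leaf (nat_lit 30274065)) (BT.leaf (nat_lit 30274589))))) (BT.node (nat_lit 11987968) (BT.node (nat_lit 11987840) (BT.node (nat_lit 11987776) (BT.leaf (nat_lit 32529173)) (BT.leaf (nat_lit 52003361))) (BT.node (nat_lit 11987904) (BT.leaf (nat_lit 47975957)) (BT.leaf (nat_lit 47646217)))) (BT.node (nat_lit 11988096) (BT.node (nat_lit 11988032) (BT.leaf (nat_lit 30275345)) (BT.leaf (nat_lit 38663189))) (BT.node (nat_lit 11988160) (BT.leaf (nat_lit 30275613)) (BT.leaf (nat_lit 30275861)))))) (BT.node (nat_lit 11988736) (BT.node (nat_lit 11988480) (BT.node (nat_lit 11988352) (BT.node (nat_lit 11988288) (BT.leaf (nat_lit 30276117)) (BT.leaf (nat_lit 30276125))) (BT.node (nat_lit 11988416) (BT.leaf (nat_lit 48031257)) (BT.leaf (nat_lit 41779717)))) (BT.node (nat_lit 11988608) (BT.node (nat_lit 11988544) (BT.leaf (nat_lit 30277657)) (BT.leaf (nat_lit 30277905))) (BT.node (nat_lit 11988672) (BT.leaf (nat_lit 48633377)) (BT.leaf (nat_lit 31648541))))) (BT.node (nat_lit 11988992) (BT.node (nat_lit 11988864) (BT.node (nat_lit 11988800) (BT.leaf (nat_lit 30278933)) (BT.leaf (nat_lit 47947537))) (BT.node (nat_lit 11988928) (BT.leaf (nat_lit 30279441)) (BT.leaf (nat_lit 50423321)))) (BT.node (nat_lit 11989120) (BT.node (nat_lit 11989056) (BT.leaf (nat_lit 31415313)) (BT.leaf (nat_lit 30280733))) (BT.node (nat_lit 11989184) (BT.leaf (nat_lit 30280981)) (BT.leaf (nat_lit 33381649))))))) (BT.node (nat_lit 11990528) (BT.node (nat_lit 11989952) (BT.node (nat_lit 11989696) (BT.node (nat_lit 11989440) (BT.node (nat_lit 11989312) (BT.leaf (nat_lit 46717217)) (BT.leaf (nat_lit 30283797))) (BT.node (nat_lit 11989508) (BT.leaf (nat_lit 40061205)) (BT.leaf (nat_lit 806892)))) (BT.node (nat_lit 11989824) (BT.node (nat_lit 11989760) (BT.leaf (nat_lit 30284317)) (BT.leaf (nat_lit 34091809))) (BT.node (nat_lit 11989888) (BT.leaf (nat_lit 30284809)) (BT.leaf (nat_lit 34091797))))) (BT.node (nat_lit 11990208) (BT.node (nat_lit 11990080) (BT.node (nat_lit 11990016) (BT.leaf (nat_lit 42636065)) (BT.leaf (nat_lit 30286361))) (BT.node (nat_lit 11990144) (BT.leaf (nat_lit 34093329)) (BT.leaf (nat_lit 40659461)))) (BT.node (nat_lit 11990336) (BT.node (nat_lit 11990272) (BT.leaf (nat_lit 30287377)) (BT.leaf (nat_lit 42693921))) (BT.node (nat_lit 11990400) (BT.leaf (nat_lit 48901149)) (BT.leaf (nat_lit 48541721)))))) (BT.node (nat_lit 11991104) (BT.node (nat_lit 11990784) (BT.node (nat_lit 11990656) (BT.node (nat_lit 11990592) (BT.leaf (nat_lit 30288917)) (BT.leaf (nat_lit 47116049))) (BT.node (nat_lit 11990720) (BT.leaf (nat_lit 47115793)) (BT.leaf (nat_lit 30289173)))) (BT.node (nat_lit 11990976) (BT.node (nat_lit 11990912) (BT.leaf (nat_lit 51845921)) (BT.leaf (nat_lit 50436113))) (BT.node (nat_lit 11991040) (BT.leaf (nat_lit 50436117)) (BT.leaf (nat_lit 30291477))))) (BT.node (nat_lit 11991488) (BT.node (nat_lit 11991360) (BT.node (nat_lit 11991168) (BT.leaf (nat_lit 30294293)) (BT.leaf (nat_lit 43530005))) (BT.node (nat_lit 11991424) (BT.leaf (nat_lit 49678353)) (BT.leaf (nat_lit 49985301)))) (BT.node (nat_lit 11991616) (BT.node (nat_lit 11991552) (BT.leaf (nat_lit 32494353)) (BT.leaf (nat_lit 32494369))) (BT.node (nat_lit 11991680) (BT.leaf (nat_lit 30297101)) (BT.leaf (nat_lit 30297121)))))))) (BT.node (nat_lit 11994368) (BT.node (nat_lit 11993152) (BT.node (nat_lit 11992320) (BT.node (nat_lit 11992064) (BT.node (nat_lit 11991872) (BT.node (nat_lit 11991808) (BT.leaf (nat_lit 31659269)) (BT.leaf (nat_lit 30297873))) (BT.node (nat_lit 11992000) (BT.leaf (nat_lit 32130325)) (BT.leaf (nat_lit 30299929)))) (BT.node (nat_lit 11992192) (BT.node (nat_lit 11992128) (BT.leaf (nat_lit 34096145)) (BT.leaf (nat_lit 52072197))) (BT.node (nat_lit 11992256) (BT.leaf (nat_lit 30300701)) (BT.leaf (nat_lit 50341917))))) (BT.node (nat_lit 11992640) (BT.node (nat_lit 11992512) (BT.node (nat_lit 11992448) (BT.leaf (nat_lit 51399445)) (BT.leaf (nat_lit 46926613))) (BT.node (nat_lit 11992584) (BT.leaf (nat_lit 30304785)) (BT.leaf (nat_lit 783752)))) (BT.node (nat_lit 11993024) (BT.node (nat_lit 11992704) (BT.leaf (nat_lit 30306065)) (BT.leaf (nat_lit 51908101))) (BT.node (nat_lit 11993088) (BT.leaf (nat_lit 34286345)) (BT.leaf (nat_lit 34101521)))))) (BT.node (nat_lit 11993792) (BT.node (nat_lit 11993472) (BT.node (nat_lit 11993344) (BT.node (nat_lit 11993280) (BT.leaf (nat_lit 34286349)) (BT.leaf (nat_lit 34223381))) (BT.node (nat_lit 11993408) (BT.leaf (nat_lit 30312457)) (BT.leaf (nat_lit 49856277)))) (BT.node (nat_lit 11993664) (BT.node (nat_lit 11993600) (BT.leaf (nat_lit 30314269)) (BT.leaf (nat_lit 30315021))) (BT.node (nat_lit 11993728) (BT.leaf (nat_lit 30315033)) (BT.leaf (nat_lit 30315037))))) (BT.node (nat_lit 11993926) (BT.node (nat_lit 11993920) (BT.node (nat_lit 11993795) (BT.leaf (nat_lit 32850949)) (BT.leaf (nat_lit 763688))) (BT.node (nat_lit 11993922) (BT.leaf (nat_lit 30315797)) (BT.leaf (nat_lit 750048)))) (BT.node (nat_lit 11994048) (BT.node (nat_lit 11993984) (BT.leaf (nat_lit 750048)) (BT.leaf (nat_lit 36925197))) (BT.node (nat_lit 11994176) (BT.leaf (nat_lit 48064273)) (BT.leaf (nat_lit 36925193))))))) (BT.node (nat_lit 11995584) (BT.node (nat_lit 11995008) (BT.node (nat_lit 11994752) (BT.node (nat_lit 11994496) (BT.node (nat_lit 11994432) (BT.leaf (nat_lit 42675461)) (BT.leaf (nat_lit 31508501))) (BT.node (nat_lit 11994688) (BT.leaf (nat_lit 48655393)) (BT.leaf (nat_lit 30319113)))) (BT.node (nat_lit 11994880) (BT.node (nat_lit 11994816) (BT.leaf (nat_lit 34106909)) (BT.leaf (nat_lit 34106889))) (BT.node (nat_lit 11994944) (BT.leaf (nat_lit 30319641)) (BT.leaf (nat_lit 30319645))))) (BT.node (nat_lit 11995328) (BT.node (nat_lit 11995200) (BT.node (nat_lit 11995136) (BT.leaf (nat_lit 34439185)) (BT.leaf (nat_lit 36898057))) (BT.node (nat_lit 11995264) (BT.leaf (nat_lit 52075553)) (BT.leaf (nat_lit 52076065)))) (BT.node (nat_lit 11995456) (BT.node (nat_lit 11995392) (BT.leaf (nat_lit 36898077)) (BT.leaf (nat_lit 37522693))) (BT.node (nat_lit 11995520) (BT.leaf (nat_lit 30321941)) (BT.leaf (nat_lit 36898833)))))) (BT.node (nat_lit 11996288) (BT.node (nat_lit 11995840) (BT.node (nat_lit 11995712) (BT.node (nat_lit 11995648) (BT.leaf (nat_lit 30323729)) (BT.leaf (nat_lit 35623949))) (BT.node (nat_lit 11995776) (BT.leaf (nat_lit 35054625)) (BT.leaf (nat_lit 49295881)))) (BT.node (nat_lit 11996160) (BT.node (nat_lit 11995968) (BT.leaf (nat_lit 42207493)) (BT.leaf (nat_lit 48441109))) (BT.node (nat_lit 11996224) (BT.leaf (nat_lit 44975625)) (BT.leaf (nat_lit 44975629))))) (BT.node (nat_lit 11996544) (BT.node (nat_lit 11996416) (BT.node (nat_lit 11996352) (BT.leaf (nat_lit 30327577)) (BT.leaf (nat_lit 50938145))) (BT.node (nat_lit 11996480) (BT.leaf (nat_lit 50415109)) (BT.leaf (nat_lit 30328093)))) (BT.node (nat_lit 11996736) (BT.node (nat_lit 11996608) (BT.leaf (nat_lit 30907145)) (BT.leaf (nat_lit 50413061))) (BT.node (nat_lit 11996800) (BT.leaf (nat_lit 48543237)) (BT.leaf (nat_lit 50171933)))))))))))))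
noncomputable def big0_e114688 : BT Nat := (BT.node (nat_lit 12074112) (BT.node (nat_lit 12036800) (BT.node (nat_lit 12016128) (BT.node (nat_lit 12006208) (BT.node (nat_lit 12001344) (BT.node (nat_lit 11999424) (BT.node (nat_lit 11998080) (BT.node (nat_lit 11997568) (BT.node (nat_lit 11997248) (BT.node (nat_lit 11997120) (BT.node (nat_lit 11996992) (BT.leaf (nat_lit 50332693)) (BT.leaf (nat_lit 35675933))) (BT.node (nat_lit 11997184) (BT.leaf (nat_lit 30330393)) (BT.leaf (nat_lit 30333201)))) (BT.node (nat_lit 11997376) (BT.node (nat_lit 11997312) (BT.leaf (nat_lit 48799777)) (BT.leaf (nat_lit 38972433))) (BT.node (nat_lit 11997440) (BT.leaf (nat_lit 34136069)) (BT.leaf (nat_lit 30336529))))) (BT.node (nat_lit 11997824) (BT.node (nat_lit 11997696) (BT.node (nat_lit 11997632) (BT.leaf (nat_lit 32162837)) (BT.leaf (nat_lit 30339345))) (BT.node (nat_lit 11997760) (BT.leaf (nat_lit 30339601)) (BT.leaf (nat_lit 49491205)))) (BT.node (nat_lit 11997952) (BT.node (nat_lit 11997888) (BT.leaf (nat_lit 36297753)) (BT.leaf (nat_lit 30341905))) (BT.node (nat_lit 11998016) (BT.leaf (nat_lit 30344469)) (BT.leaf (nat_lit 47233797)))))) (BT.node (nat_lit 11998784) (BT.node (nat_lit 11998336) (BT.node (nat_lit 11998208) (BT.node (nat_lit 11998144) (BT.leaf (nat_lit 30346261)) (BT.leaf (nat_lit 30347037))) (BT.node (nat_lit 11998272) (BT.leaf (nat_lit 37504533)) (BT.leaf (nat_lit 51050273)))) (BT.node (nat_lit 11998528) (BT.node (nat_lit 11998464) (BT.leaf (nat_lit 30348561)) (BT.leaf (nat_lit 37827077))) (BT.node (nat_lit 11998720) (BT.leaf (nat_lit 30662933)) (BT.leaf (nat_lit 30352913))))) (BT.node (nat_lit 11999168) (BT.node (nat_lit 11998912) (BT.node (nat_lit 11998848) (BT.leaf (nat_lit 47995421)) (BT.leaf (nat_lit 51204101))) (BT.node (nat_lit 11998976) (BT.leaf (nat_lit 36135713)) (BT.leaf (nat_lit 30353437)))) (BT.node (nat_lit 11999296) (BT.node (nat_lit 11999232) (BT.leaf (nat_lit 34117141)) (BT.leaf (nat_lit 31186201))) (BT.node (nat_lit 11999360) (BT.leaf (nat_lit 30354705)) (BT.leaf (nat_lit 49115933))))))) (BT.node (nat_lit 12000448) (BT.node (nat_lit 11999936) (BT.node (nat_lit 11999680) (BT.node (nat_lit 11999552) (BT.node (nat_lit 11999488) (BT.leaf (nat_lit 30667533)) (BT.leaf (nat_lit 34117397))) (BT.node (nat_lit 11999616) (BT.leaf (nat_lit 30667545)) (BT.leaf (nat_lit 30667553)))) (BT.node (nat_lit 11999808) (BT.node (nat_lit 11999744) (BT.leaf (nat_lit 30356245)) (BT.leaf (nat_lit 31092257))) (BT.node (nat_lit 11999872) (BT.leaf (nat_lit 30358549)) (BT.leaf (nat_lit 30358793))))) (BT.node (nat_lit 12000192) (BT.node (nat_lit 12000064) (BT.node (nat_lit 12000000) (BT.leaf (nat_lit 30359317)) (BT.leaf (nat_lit 44541209))) (BT.node (nat_lit 12000128) (BT.leaf (nat_lit 31732741)) (BT.leaf (nat_lit 34015005)))) (BT.node (nat_lit 12000320) (BT.node (nat_lit 12000256) (BT.leaf (nat_lit 30901781)) (BT.leaf (nat_lit 30359829))) (BT.node (nat_lit 12000384) (BT.leaf (nat_lit 30359833)) (BT.leaf (nat_lit 30359837)))))) (BT.node (nat_lit 12000960) (BT.node (nat_lit 12000768) (BT.node (nat_lit 12000576) (BT.node (nat_lit 12000512) (BT.leaf (nat_lit 34217233)) (BT.leaf (nat_lit 47122973))) (BT.node (nat_lit 12000640) (BT.leaf (nat_lit 41937437)) (BT.leaf (nat_lit 41403665)))) (BT.node (nat_lit 12000836) (BT.node (nat_lit 12000832) (BT.leaf (nat_lit 49984517)) (BT.leaf (nat_lit 30363669))) (BT.node (nat_lit 12000896) (BT.leaf (nat_lit 766624)) (BT.leaf (nat_lit 30365197))))) (BT.node (nat_lit 12001095) (BT.node (nat_lit 12001088) (BT.node (nat_lit 12001024) (BT.leaf (nat_lit 34120469)) (BT.leaf (nat_lit 34120721))) (BT.node (nat_lit 12001090) (BT.leaf (nat_lit 36820249)) (BT.leaf (nat_lit 812040)))) (BT.node (nat_lit 12001216) (BT.node (nat_lit 12001152) (BT.leaf (nat_lit 812040)) (BT.leaf (nat_lit 50623513))) (BT.node (nat_lit 12001280) (BT.leaf (nat_lit 47066649)) (BT.leaf (nat_lit 30366225)))))))) (BT.node (nat_lit 12003968) (BT.node (nat_lit 12002560) (BT.node (nat_lit 12001792) (BT.node (nat_lit 12001536) (BT.node (nat_lit 12001416) (BT.node (nat_lit 12001345) (BT.leaf (nat_lit 30366489)) (BT.leaf (nat_lit 758440))) (BT.node (nat_lit 12001472) (BT.leaf (nat_lit 812144)) (BT.leaf (nat_lit 36829965)))) (BT.node (nat_lit 12001664) (BT.node (nat_lit 12001600) (BT.leaf (nat_lit 30367505)) (BT.leaf (nat_lit 30368269))) (BT.node (nat_lit 12001728) (BT.leaf (nat_lit 30367769)) (BT.leaf (nat_lit 46903049))))) (BT.node (nat_lit 12002048) (BT.node (nat_lit 12001920) (BT.node (nat_lit 12001856) (BT.leaf (nat_lit 30368265)) (BT.leaf (nat_lit 30369813))) (BT.node (nat_lit 12001984) (BT.leaf (nat_lit 50509581)) (BT.leaf (nat_lit 30369045)))) (BT.node (nat_lit 12002176) (BT.node (nat_lit 12002112) (BT.leaf (nat_lit 30369285)) (BT.leaf (nat_lit 47959585))) (BT.node (nat_lit 12002496) (BT.leaf (nat_lit 30370581)) (BT.leaf (nat_lit 48543265)))))) (BT.node (nat_lit 12003264) (BT.node (nat_lit 12002944) (BT.node (nat_lit 12002816) (BT.node (nat_lit 12002624) (BT.leaf (nat_lit 50413345)) (BT.leaf (nat_lit 30371861))) (BT.node (nat_lit 12002880) (BT.leaf (nat_lit 49998869)) (BT.leaf (nat_lit 30373913)))) (BT.node (nat_lit 12003072) (BT.node (nat_lit 12003008) (BT.leaf (nat_lit 34123537)) (BT.leaf (nat_lit 30374165))) (BT.node (nat_lit 12003136) (BT.leaf (nat_lit 30374681)) (BT.leaf (nat_lit 30374685))))) (BT.node (nat_lit 12003712) (BT.node (nat_lit 12003456) (BT.node (nat_lit 12003328) (BT.leaf (nat_lit 47998733)) (BT.leaf (nat_lit 39372809))) (BT.node (nat_lit 12003648) (BT.leaf (nat_lit 39372813)) (BT.leaf (nat_lit 30376729)))) (BT.node (nat_lit 12003840) (BT.node (nat_lit 12003776) (BT.leaf (nat_lit 30376717)) (BT.leaf (nat_lit 30376989))) (BT.node (nat_lit 12003904) (BT.leaf (nat_lit 30378001)) (BT.leaf (nat_lit 30378517))))))) (BT.node (nat_lit 12005056) (BT.node (nat_lit 12004608) (BT.node (nat_lit 12004288) (BT.node (nat_lit 12004160) (BT.node (nat_lit 12004032) (BT.leaf (nat_lit 30378525)) (BT.leaf (nat_lit 33837849))) (BT.node (nat_lit 12004224) (BT.leaf (nat_lit 33249309)) (BT.leaf (nat_lit 30381333)))) (BT.node (nat_lit 12004416) (BT.node (nat_lit 12004352) (BT.leaf (nat_lit 48066317)) (BT.leaf (nat_lit 47978017))) (BT.node (nat_lit 12004544) (BT.leaf (nat_lit 38532869)) (BT.leaf (nat_lit 30389017))))) (BT.node (nat_lit 12004928) (BT.node (nat_lit 12004736) (BT.node (nat_lit 12004672) (BT.leaf (nat_lit 51911445)) (BT.leaf (nat_lit 51984901))) (BT.node (nat_lit 12004800) (BT.leaf (nat_lit 30389769)) (BT.leaf (nat_lit 30390285)))) (BT.node (nat_lit 12004933) (BT.node (nat_lit 12004929) (BT.leaf (nat_lit 30390033)) (BT.leaf (nat_lit 789320))) (BT.node (nat_lit 12004992) (BT.leaf (nat_lit 789320)) (BT.leaf (nat_lit 30390297)))))) (BT.node (nat_lit 12005696) (BT.node (nat_lit 12005376) (BT.node (nat_lit 12005248) (BT.node (nat_lit 12005184) (BT.leaf (nat_lit 48904993)) (BT.leaf (nat_lit 30391569))) (BT.node (nat_lit 12005312) (BT.leaf (nat_lit 47001361)) (BT.leaf (nat_lit 30394645)))) (BT.node (nat_lit 12005504) (BT.node (nat_lit 12005440) (BT.leaf (nat_lit 48530693)) (BT.leaf (nat_lit 42147349))) (BT.node (nat_lit 12005632) (BT.leaf (nat_lit 40278805)) (BT.leaf (nat_lit 30400797))))) (BT.node (nat_lit 12005952) (BT.node (nat_lit 12005824) (BT.node (nat_lit 12005760) (BT.leaf (nat_lit 36935189)) (BT.leaf (nat_lit 48022793))) (BT.node (nat_lit 12005888) (BT.leaf (nat_lit 34994977)) (BT.leaf (nat_lit 51008781)))) (BT.node (nat_lit 12006080) (BT.node (nat_lit 12006016) (BT.leaf (nat_lit 37687325)) (BT.leaf (nat_lit 37639965))) (BT.node (nat_lit 12006144) (BT.leaf (nat_lit 37204489)) (BT.leaf (nat_lit 52053269))))))))) (BT.node (nat_lit 12011072) (BT.node (nat_lit 12008448) (BT.node (nat_lit 12007360) (BT.node (nat_lit 12006848) (BT.node (nat_lit 12006592) (BT.node (nat_lit 12006464) (BT.node (nat_lit 12006336) (BT.leaf (nat_lit 48024601)) (BT.leaf (nat_lit 48429845))) (BT.node (nat_lit 12006528) (BT.leaf (nat_lit 36972305)) (BT.leaf (nat_lit 33312537)))) (BT.node (nat_lit 12006720) (BT.node (nat_lit 12006656) (BT.leaf (nat_lit 30405393)) (BT.leaf (nat_lit 30405909))) (BT.node (nat_lit 12006784) (BT.leaf (nat_lit 50030085)) (BT.leaf (nat_lit 46600989))))) (BT.node (nat_lit 12007104) (BT.node (nat_lit 12006976) (BT.node (nat_lit 12006912) (BT.leaf (nat_lit 34138133)) (BT.leaf (nat_lit 47840537))) (BT.node (nat_lit 12007040) (BT.leaf (nat_lit 30408461)) (BT.leaf (nat_lit 50640145)))) (BT.node (nat_lit 12007232) (BT.node (nat_lit 12007168) (BT.leaf (nat_lit 30408473)) (BT.leaf (nat_lit 30408477))) (BT.node (nat_lit 12007296) (BT.leaf (nat_lit 42273041)) (BT.leaf (nat_lit 39851269)))))) (BT.node (nat_lit 12007872) (BT.node (nat_lit 12007680) (BT.node (nat_lit 12007552) (BT.node (nat_lit 12007424) (BT.leaf (nat_lit 36297993)) (BT.leaf (nat_lit 34392349))) (BT.node (nat_lit 12007616) (BT.leaf (nat_lit 48786705)) (BT.leaf (nat_lit 30410773)))) (BT.node (nat_lit 12007808) (BT.node (nat_lit 12007744) (BT.leaf (nat_lit 34141449)) (BT.leaf (nat_lit 30412061))) (BT.node (nat_lit 12007813) (BT.leaf (nat_lit 30412561)) (BT.leaf (nat_lit 761464))))) (BT.node (nat_lit 12008128) (BT.node (nat_lit 12008000) (BT.node (nat_lit 12007936) (BT.leaf (nat_lit 30412817)) (BT.leaf (nat_lit 30413849))) (BT.node (nat_lit 12008064) (BT.leaf (nat_lit 30413853)) (BT.leaf (nat_lit 30414097)))) (BT.node (nat_lit 12008256) (BT.node (nat_lit 12008192) (BT.leaf (nat_lit 30414357)) (BT.leaf (nat_lit 30415381))) (BT.node (nat_lit 12008320) (BT.leaf (nat_lit 46739721)) (BT.leaf (nat_lit 46739725))))))) (BT.node (nat_lit 12009536) (BT.node (nat_lit 12008960) (BT.node (nat_lit 12008704) (BT.node (nat_lit 12008576) (BT.node (nat_lit 12008512) (BT.leaf (nat_lit 30416413)) (BT.leaf (nat_lit 46739745))) (BT.node (nat_lit 12008640) (BT.leaf (nat_lit 34138901)) (BT.leaf (nat_lit 40225817)))) (BT.node (nat_lit 12008832) (BT.node (nat_lit 12008768) (BT.leaf (nat_lit 37955845)) (BT.leaf (nat_lit 42706713))) (BT.node (nat_lit 12008896) (BT.leaf (nat_lit 51401745)) (BT.leaf (nat_lit 30418973))))) (BT.node (nat_lit 12009216) (BT.node (nat_lit 12009088) (BT.node (nat_lit 12009024) (BT.leaf (nat_lit 35190557)) (BT.leaf (nat_lit 30419977))) (BT.node (nat_lit 12009152) (BT.leaf (nat_lit 30419981)) (BT.leaf (nat_lit 30420501)))) (BT.node (nat_lit 12009344) (BT.node (nat_lit 12009280) (BT.leaf (nat_lit 39807769)) (BT.leaf (nat_lit 39807773))) (BT.node (nat_lit 12009408) (BT.leaf (nat_lit 51019013)) (BT.leaf (nat_lit 30421013)))))) (BT.node (nat_lit 12010368) (BT.node (nat_lit 12010112) (BT.node (nat_lit 12009984) (BT.node (nat_lit 12009792) (BT.leaf (nat_lit 30421525)) (BT.leaf (nat_lit 50427397))) (BT.node (nat_lit 12010048) (BT.leaf (nat_lit 44390945)) (BT.leaf (nat_lit 47702297)))) (BT.node (nat_lit 12010240) (BT.node (nat_lit 12010176) (BT.leaf (nat_lit 34140689)) (BT.leaf (nat_lit 45969945))) (BT.node (nat_lit 12010304) (BT.leaf (nat_lit 45969929)) (BT.leaf (nat_lit 34141717))))) (BT.node (nat_lit 12010816) (BT.node (nat_lit 12010688) (BT.node (nat_lit 12010560) (BT.leaf (nat_lit 30432537)) (BT.leaf (nat_lit 49122821))) (BT.node (nat_lit 12010752) (BT.leaf (nat_lit 30428445)) (BT.leaf (nat_lit 33260305)))) (BT.node (nat_lit 12010885) (BT.node (nat_lit 12010880) (BT.leaf (nat_lit 35910165)) (BT.leaf (nat_lit 30430481))) (BT.node (nat_lit 12010944) (BT.leaf (nat_lit 776296)) (BT.leaf (nat_lit 30430749)))))))) (BT.node (nat_lit 12013376) (BT.node (nat_lit 12011904) (BT.node (nat_lit 12011584) (BT.node (nat_lit 12011328) (BT.node (nat_lit 12011200) (BT.node (nat_lit 12011136) (BT.leaf (nat_lit 31228185)) (BT.leaf (nat_lit 43459853))) (BT.node (nat_lit 12011264) (BT.leaf (nat_lit 32607749)) (BT.leaf (nat_lit 42749465)))) (BT.node (nat_lit 12011456) (BT.node (nat_lit 12011392) (BT.leaf (nat_lit 30439441)) (BT.leaf (nat_lit 30439445))) (BT.node (nat_lit 12011520) (BT.leaf (nat_lit 38176261)) (BT.leaf (nat_lit 40783381))))) (BT.node (nat_lit 12011656) (BT.node (nat_lit 12011649) (BT.node (nat_lit 12011648) (BT.leaf (nat_lit 40783385)) (BT.leaf (nat_lit 31406617))) (BT.node (nat_lit 12011650) (BT.leaf (nat_lit 760592)) (BT.leaf (nat_lit 760592)))) (BT.node (nat_lit 12011776) (BT.node (nat_lit 12011712) (BT.leaf (nat_lit 760592)) (BT.leaf (nat_lit 30440213))) (BT.node (nat_lit 12011840) (BT.leaf (nat_lit 30938649)) (BT.leaf (nat_lit 30440985)))))) (BT.node (nat_lit 12012544) (BT.node (nat_lit 12012160) (BT.node (nat_lit 12012032) (BT.node (nat_lit 12011968) (BT.leaf (nat_lit 30440989)) (BT.leaf (nat_lit 34144017))) (BT.node (nat_lit 12012096) (BT.leaf (nat_lit 30442521)) (BT.leaf (nat_lit 37109021)))) (BT.node (nat_lit 12012416) (BT.node (nat_lit 12012352) (BT.leaf (nat_lit 30443537)) (BT.leaf (nat_lit 49043205))) (BT.node (nat_lit 12012480) (BT.leaf (nat_lit 50834453)) (BT.leaf (nat_lit 50820629))))) (BT.node (nat_lit 12012800) (BT.node (nat_lit 12012672) (BT.node (nat_lit 12012608) (BT.leaf (nat_lit 35250721)) (BT.leaf (nat_lit 31506201))) (BT.node (nat_lit 12012736) (BT.leaf (nat_lit 31506205)) (BT.leaf (nat_lit 30447121)))) (BT.node (nat_lit 12012992) (BT.node (nat_lit 12012864) (BT.leaf (nat_lit 34684957)) (BT.leaf (nat_lit 30448393))) (BT.node (nat_lit 12013312) (BT.leaf (nat_lit 30448397)) (BT.leaf (nat_lit 30460949))))))) (BT.node (nat_lit 12014464) (BT.node (nat_lit 12013888) (BT.node (nat_lit 12013696) (BT.node (nat_lit 12013568) (BT.node (nat_lit 12013440) (BT.leaf (nat_lit 30460701)) (BT.leaf (nat_lit 51359265))) (BT.node (nat_lit 12013632) (BT.leaf (nat_lit 48615713)) (BT.leaf (nat_lit 48686113)))) (BT.node (nat_lit 12013702) (BT.node (nat_lit 12013697) (BT.leaf (nat_lit 50407185)) (BT.leaf (nat_lit 777184))) (BT.node (nat_lit 12013760) (BT.leaf (nat_lit 777184)) (BT.leaf (nat_lit 48651553))))) (BT.node (nat_lit 12014208) (BT.node (nat_lit 12014080) (BT.node (nat_lit 12014016) (BT.leaf (nat_lit 35920405)) (BT.leaf (nat_lit 42780701))) (BT.node (nat_lit 12014144) (BT.leaf (nat_lit 42780441)) (BT.leaf (nat_lit 51199513)))) (BT.node (nat_lit 12014336) (BT.node (nat_lit 12014272) (BT.leaf (nat_lit 30456341)) (BT.leaf (nat_lit 52413729))) (BT.node (nat_lit 12014400) (BT.leaf (nat_lit 50495497)) (BT.leaf (nat_lit 52412961)))))) (BT.node (nat_lit 12015232) (BT.node (nat_lit 12014912) (BT.node (nat_lit 12014720) (BT.node (nat_lit 12014656) (BT.leaf (nat_lit 30457357)) (BT.leaf (nat_lit 50473497))) (BT.node (nat_lit 12014848) (BT.leaf (nat_lit 30457353)) (BT.leaf (nat_lit 30458901)))) (BT.node (nat_lit 12015104) (BT.node (nat_lit 12014976) (BT.leaf (nat_lit 49636105)) (BT.leaf (nat_lit 48928281))) (BT.node (nat_lit 12015168) (BT.leaf (nat_lit 50473485)) (BT.leaf (nat_lit 32787741))))) (BT.node (nat_lit 12015744) (BT.node (nat_lit 12015616) (BT.node (nat_lit 12015488) (BT.leaf (nat_lit 31781661)) (BT.leaf (nat_lit 36899097))) (BT.node (nat_lit 12015680) (BT.leaf (nat_lit 51100693)) (BT.leaf (nat_lit 47018525)))) (BT.node (nat_lit 12016000) (BT.node (nat_lit 12015872) (BT.leaf (nat_lit 51712273)) (BT.leaf (nat_lit 49954581))) (BT.node (nat_lit 12016064) (BT.leaf (nat_lit 30460693)) (BT.leaf (nat_lit 47472905)))))))))) (BT.node (nat_lit 12026368) (BT.node (nat_lit 12021888) (BT.node (nat_lit 12019264) (BT.node (nat_lit 12017856) (BT.node (nat_lit 12016960) (BT.node (nat_lit 12016576) (BT.node (nat_lit 12016320) (BT.node (nat_lit 12016256) (BT.leaf (nat_lit 49247761)) (BT.leaf (nat_lit 30461965))) (BT.node (nat_lit 12016384) (BT.leaf (nat_lit 36193561)) (BT.leaf (nat_lit 36193565)))) (BT.node (nat_lit 12016579) (BT.node (nat_lit 12016578) (BT.leaf (nat_lit 33297685)) (BT.leaf (nat_lit 780220))) (BT.node (nat_lit 12016832) (BT.leaf (nat_lit 780220)) (BT.leaf (nat_lit 46974221))))) (BT.node (nat_lit 12017600) (BT.node (nat_lit 12017216) (BT.node (nat_lit 12016961) (BT.leaf (nat_lit 30477853)) (BT.leaf (nat_lit 758712))) (BT.node (nat_lit 12017536) (BT.leaf (nat_lit 47172365)) (BT.leaf (nat_lit 35164953)))) (BT.node (nat_lit 12017728) (BT.node (nat_lit 12017664) (BT.leaf (nat_lit 30467345)) (BT.leaf (nat_lit 30467601))) (BT.node (nat_lit 12017792) (BT.leaf (nat_lit 38232097)) (BT.leaf (nat_lit 32140309)))))) (BT.node (nat_lit 12018496) (BT.node (nat_lit 12018112) (BT.node (nat_lit 12017984) (BT.node (nat_lit 12017920) (BT.leaf (nat_lit 47308569)) (BT.leaf (nat_lit 45455877))) (BT.node (nat_lit 12018048) (BT.leaf (nat_lit 45525021)) (BT.leaf (nat_lit 30472469)))) (BT.node (nat_lit 12018304) (BT.node (nat_lit 12018176) (BT.leaf (nat_lit 34161413)) (BT.leaf (nat_lit 30473749))) (BT.node (nat_lit 12018368) (BT.leaf (nat_lit 42789389)) (BT.leaf (nat_lit 30475297))))) (BT.node (nat_lit 12018880) (BT.node (nat_lit 12018752) (BT.node (nat_lit 12018688) (BT.leaf (nat_lit 37998361)) (BT.leaf (nat_lit 30477849))) (BT.node (nat_lit 12018816) (BT.leaf (nat_lit 37998369)) (BT.leaf (nat_lit 47290373)))) (BT.node (nat_lit 12019136) (BT.node (nat_lit 12018944) (BT.leaf (nat_lit 30477837)) (BT.leaf (nat_lit 49370145))) (BT.node (nat_lit 12019200) (BT.leaf (nat_lit 30480921)) (BT.leaf (nat_lit 42296853))))))) (BT.node (nat_lit 12020608) (BT.node (nat_lit 12019904) (BT.node (nat_lit 12019648) (BT.node (nat_lit 12019392) (BT.node (nat_lit 12019328) (BT.leaf (nat_lit 48950549)) (BT.leaf (nat_lit 31004185))) (BT.node (nat_lit 12019520) (BT.leaf (nat_lit 48950553)) (BT.leaf (nat_lit 47172385)))) (BT.node (nat_lit 12019776) (BT.node (nat_lit 12019712) (BT.leaf (nat_lit 38010389)) (BT.leaf (nat_lit 34456353))) (BT.node (nat_lit 12019840) (BT.leaf (nat_lit 50613025)) (BT.leaf (nat_lit 47595041))))) (BT.node (nat_lit 12020160) (BT.node (nat_lit 12020032) (BT.node (nat_lit 12019968) (BT.leaf (nat_lit 48590369)) (BT.leaf (nat_lit 46289669))) (BT.node (nat_lit 12020096) (BT.leaf (nat_lit 30485781)) (BT.leaf (nat_lit 42790409)))) (BT.node (nat_lit 12020416) (BT.node (nat_lit 12020352) (BT.leaf (nat_lit 32413457)) (BT.leaf (nat_lit 50039825))) (BT.node (nat_lit 12020480) (BT.leaf (nat_lit 47172381)) (BT.leaf (nat_lit 43416081)))))) (BT.node (nat_lit 12021312) (BT.node (nat_lit 12020928) (BT.node (nat_lit 12020736) (BT.node (nat_lit 12020672) (BT.leaf (nat_lit 49206801)) (BT.leaf (nat_lit 34052121))) (BT.node (nat_lit 12020800) (BT.leaf (nat_lit 34365709)) (BT.leaf (nat_lit 43369237)))) (BT.node (nat_lit 12021120) (BT.node (nat_lit 12021056) (BT.leaf (nat_lit 30492693)) (BT.leaf (nat_lit 43169313))) (BT.node (nat_lit 12021248) (BT.leaf (nat_lit 47816709)) (BT.leaf (nat_lit 43541517))))) (BT.node (nat_lit 12021632) (BT.node (nat_lit 12021504) (BT.node (nat_lit 12021376) (BT.leaf (nat_lit 30493977)) (BT.leaf (nat_lit 48641813))) (BT.node (nat_lit 12021568) (BT.leaf (nat_lit 30494489)) (BT.leaf (nat_lit 51009797)))) (BT.node (nat_lit 12021760) (BT.node (nat_lit 12021696) (BT.leaf (nat_lit 30496277)) (BT.leaf (nat_lit 30497809))) (BT.node (nat_lit 12021824) (BT.leaf (nat_lit 51112205)) (BT.leaf (nat_lit 34162965)))))))) (BT.node (nat_lit 12024256) (BT.node (nat_lit 12023040) (BT.node (nat_lit 12022464) (BT.node (nat_lit 12022208) (BT.node (nat_lit 12022016) (BT.node (nat_lit 12021952) (BT.leaf (nat_lit 35370269)) (BT.leaf (nat_lit 45695765))) (BT.node (nat_lit 12022080) (BT.leaf (nat_lit 31551265)) (BT.leaf (nat_lit 38040593)))) (BT.node (nat_lit 12022336) (BT.node (nat_lit 12022272) (BT.leaf (nat_lit 30501909)) (BT.leaf (nat_lit 30503957))) (BT.node (nat_lit 12022400) (BT.leaf (nat_lit 42170377)) (BT.leaf (nat_lit 42170381))))) (BT.node (nat_lit 12022784) (BT.node (nat_lit 12022592) (BT.node (nat_lit 12022528) (BT.leaf (nat_lit 34166305)) (BT.leaf (nat_lit 30505493))) (BT.node (nat_lit 12022656) (BT.leaf (nat_lit 30505749)) (BT.leaf (nat_lit 30506517)))) (BT.node (nat_lit 12022912) (BT.node (nat_lit 12022848) (BT.leaf (nat_lit 46897933)) (BT.leaf (nat_lit 42866953))) (BT.node (nat_lit 12022976) (BT.leaf (nat_lit 31011093)) (BT.leaf (nat_lit 30509329)))))) (BT.node (nat_lit 12023616) (BT.node (nat_lit 12023360) (BT.node (nat_lit 12023168) (BT.node (nat_lit 12023104) (BT.leaf (nat_lit 40611845)) (BT.leaf (nat_lit 30510625))) (BT.node (nat_lit 12023232) (BT.leaf (nat_lit 48093717)) (BT.leaf (nat_lit 48356113)))) (BT.node (nat_lit 12023488) (BT.node (nat_lit 12023424) (BT.leaf (nat_lit 31011613)) (BT.leaf (nat_lit 30511901))) (BT.node (nat_lit 12023552) (BT.leaf (nat_lit 30512401)) (BT.leaf (nat_lit 30512417))))) (BT.node (nat_lit 12023936) (BT.node (nat_lit 12023808) (BT.node (nat_lit 12023680) (BT.leaf (nat_lit 30516753)) (BT.leaf (nat_lit 30517009))) (BT.node (nat_lit 12023872) (BT.leaf (nat_lit 30518805)) (BT.leaf (nat_lit 30519057)))) (BT.node (nat_lit 12024128) (BT.node (nat_lit 12024000) (BT.leaf (nat_lit 30519825)) (BT.leaf (nat_lit 43127321))) (BT.node (nat_lit 12024192) (BT.leaf (nat_lit 30524425)) (BT.leaf (nat_lit 30524945))))))) (BT.node (nat_lit 12025344) (BT.node (nat_lit 12024896) (BT.node (nat_lit 12024640) (BT.node (nat_lit 12024448) (BT.node (nat_lit 12024320) (BT.leaf (nat_lit 30525201)) (BT.leaf (nat_lit 30526229))) (BT.node (nat_lit 12024576) (BT.leaf (nat_lit 52157713)) (BT.leaf (nat_lit 50634757)))) (BT.node (nat_lit 12024768) (BT.node (nat_lit 12024704) (BT.leaf (nat_lit 30527249)) (BT.leaf (nat_lit 30527505))) (BT.node (nat_lit 12024832) (BT.leaf (nat_lit 52404241)) (BT.leaf (nat_lit 52404505))))) (BT.node (nat_lit 12025088) (BT.node (nat_lit 12024966) (BT.node (nat_lit 12024960) (BT.leaf (nat_lit 32246029)) (BT.leaf (nat_lit 50370309))) (BT.node (nat_lit 12025024) (BT.leaf (nat_lit 783956)) (BT.leaf (nat_lit 30529053)))) (BT.node (nat_lit 12025216) (BT.node (nat_lit 12025152) (BT.leaf (nat_lit 39676677)) (BT.leaf (nat_lit 44758033))) (BT.node (nat_lit 12025280) (BT.leaf (nat_lit 30530841)) (BT.leaf (nat_lit 30530845)))))) (BT.node (nat_lit 12025856) (BT.node (nat_lit 12025600) (BT.node (nat_lit 12025472) (BT.node (nat_lit 12025408) (BT.leaf (nat_lit 30532113)) (BT.leaf (nat_lit 30532613))) (BT.node (nat_lit 12025536) (BT.leaf (nat_lit 38084885)) (BT.leaf (nat_lit 30535193)))) (BT.node (nat_lit 12025728) (BT.node (nat_lit 12025664) (BT.leaf (nat_lit 30535197)) (BT.leaf (nat_lit 30536221))) (BT.node (nat_lit 12025792) (BT.leaf (nat_lit 32776737)) (BT.leaf (nat_lit 33298201))))) (BT.node (nat_lit 12026112) (BT.node (nat_lit 12025984) (BT.node (nat_lit 12025920) (BT.leaf (nat_lit 30539545)) (BT.leaf (nat_lit 34174993))) (BT.node (nat_lit 12026048) (BT.leaf (nat_lit 50782745)) (BT.leaf (nat_lit 30540565)))) (BT.node (nat_lit 12026240) (BT.node (nat_lit 12026176) (BT.leaf (nat_lit 42995477)) (BT.leaf (nat_lit 42991129))) (BT.node (nat_lit 12026304) (BT.leaf (nat_lit 36973329)) (BT.leaf (nat_lit 30541589))))))))) (BT.node (nat_lit 12031104) (BT.node (nat_lit 12028992) (BT.node (nat_lit 12027392) (BT.node (nat_lit 12026880) (BT.node (nat_lit 12026624) (BT.node (nat_lit 12026496) (BT.node (nat_lit 12026432) (BT.leaf (nat_lit 37793309)) (BT.leaf (nat_lit 30542097))) (BT.node (nat_lit 12026560) (BT.leaf (nat_lit 30542101)) (BT.leaf (nat_lit 30542625)))) (BT.node (nat_lit 12026752) (BT.node (nat_lit 12026688) (BT.leaf (nat_lit 47493921)) (BT.leaf (nat_lit 30818841))) (BT.node (nat_lit 12026816) (BT.leaf (nat_lit 30544665)) (BT.leaf (nat_lit 30544669))))) (BT.node (nat_lit 12027136) (BT.node (nat_lit 12027008) (BT.node (nat_lit 12026944) (BT.leaf (nat_lit 49916449)) (BT.leaf (nat_lit 40778017))) (BT.node (nat_lit 12027072) (BT.leaf (nat_lit 50052621)) (BT.leaf (nat_lit 34083357)))) (BT.node (nat_lit 12027264) (BT.node (nat_lit 12027200) (BT.leaf (nat_lit 30546705)) (BT.leaf (nat_lit 46870805))) (BT.node (nat_lit 12027328) (BT.leaf (nat_lit 42913565)) (BT.leaf (nat_lit 49357585)))))) (BT.node (nat_lit 12027904) (BT.node (nat_lit 12027648) (BT.node (nat_lit 12027520) (BT.node (nat_lit 12027456) (BT.leaf (nat_lit 43287301)) (BT.leaf (nat_lit 39950113))) (BT.node (nat_lit 12027584) (BT.leaf (nat_lit 30797857)) (BT.leaf (nat_lit 30797601)))) (BT.node (nat_lit 12027776) (BT.node (nat_lit 12027712) (BT.leaf (nat_lit 35875345)) (BT.leaf (nat_lit 35322385))) (BT.node (nat_lit 12027840) (BT.leaf (nat_lit 30555397)) (BT.leaf (nat_lit 48116753))))) (BT.node (nat_lit 12028224) (BT.node (nat_lit 12028032) (BT.node (nat_lit 12027968) (BT.leaf (nat_lit 34007825)) (BT.leaf (nat_lit 30555401))) (BT.node (nat_lit 12028160) (BT.leaf (nat_lit 30556693)) (BT.leaf (nat_lit 51513873)))) (BT.node (nat_lit 12028800) (BT.node (nat_lit 12028736) (BT.leaf (nat_lit 31693833)) (BT.leaf (nat_lit 38224137))) (BT.node (nat_lit 12028864) (BT.leaf (nat_lit 34008085)) (BT.leaf (nat_lit 30557729))))))) (BT.node (nat_lit 12030080) (BT.node (nat_lit 12029504) (BT.node (nat_lit 12029248) (BT.node (nat_lit 12029120) (BT.node (nat_lit 12029056) (BT.leaf (nat_lit 34194713)) (BT.leaf (nat_lit 30558485))) (BT.node (nat_lit 12029184) (BT.leaf (nat_lit 30559237)) (BT.leaf (nat_lit 48648993)))) (BT.node (nat_lit 12029376) (BT.node (nat_lit 12029312) (BT.leaf (nat_lit 30559001)) (BT.leaf (nat_lit 30559005))) (BT.node (nat_lit 12029440) (BT.leaf (nat_lit 47829009)) (BT.leaf (nat_lit 48278305))))) (BT.node (nat_lit 12029824) (BT.node (nat_lit 12029696) (BT.node (nat_lit 12029632) (BT.leaf (nat_lit 48278049)) (BT.leaf (nat_lit 30559765))) (BT.node (nat_lit 12029760) (BT.leaf (nat_lit 30560273)) (BT.leaf (nat_lit 34010897)))) (BT.node (nat_lit 12029952) (BT.node (nat_lit 12029888) (BT.leaf (nat_lit 30560789)) (BT.leaf (nat_lit 49166357))) (BT.node (nat_lit 12030016) (BT.leaf (nat_lit 34197781)) (BT.leaf (nat_lit 30561297)))))) (BT.node (nat_lit 12030592) (BT.node (nat_lit 12030336) (BT.node (nat_lit 12030208) (BT.node (nat_lit 12030144) (BT.leaf (nat_lit 49166617)) (BT.leaf (nat_lit 30561557))) (BT.node (nat_lit 12030272) (BT.leaf (nat_lit 31750165)) (BT.leaf (nat_lit 31750169)))) (BT.node (nat_lit 12030464) (BT.node (nat_lit 12030400) (BT.leaf (nat_lit 31750173)) (BT.leaf (nat_lit 36974613))) (BT.node (nat_lit 12030528) (BT.leaf (nat_lit 51466009)) (BT.leaf (nat_lit 34679301))))) (BT.node (nat_lit 12030848) (BT.node (nat_lit 12030720) (BT.node (nat_lit 12030656) (BT.leaf (nat_lit 34513413)) (BT.leaf (nat_lit 46729249))) (BT.node (nat_lit 12030784) (BT.leaf (nat_lit 46728965)) (BT.leaf (nat_lit 52068385)))) (BT.node (nat_lit 12030976) (BT.node (nat_lit 12030912) (BT.leaf (nat_lit 30566681)) (BT.leaf (nat_lit 42975513))) (BT.node (nat_lit 12031040) (BT.leaf (nat_lit 48130337)) (BT.leaf (nat_lit 46956317)))))))) (BT.node (nat_lit 12033472) (BT.node (nat_lit 12032448) (BT.node (nat_lit 12031936) (BT.node (nat_lit 12031616) (BT.node (nat_lit 12031232) (BT.node (nat_lit 12031168) (BT.leaf (nat_lit 30568469)) (BT.leaf (nat_lit 30568981))) (BT.node (nat_lit 12031296) (BT.leaf (nat_lit 30568989)) (BT.leaf (nat_lit 48997637)))) (BT.node (nat_lit 12031808) (BT.node (nat_lit 12031744) (BT.leaf (nat_lit 50483477)) (BT.leaf (nat_lit 34199061))) (BT.node (nat_lit 12031872) (BT.leaf (nat_lit 48288033)) (BT.leaf (nat_lit 50472737))))) (BT.node (nat_lit 12032192) (BT.node (nat_lit 12032064) (BT.node (nat_lit 12032000) (BT.leaf (nat_lit 34199313)) (BT.leaf (nat_lit 30573341))) (BT.node (nat_lit 12032128) (BT.leaf (nat_lit 47117329)) (BT.leaf (nat_lit 46564869)))) (BT.node (nat_lit 12032320) (BT.node (nat_lit 12032256) (BT.leaf (nat_lit 34776849)) (BT.leaf (nat_lit 30573849))) (BT.node (nat_lit 12032384) (BT.leaf (nat_lit 30573853)) (BT.leaf (nat_lit 30574353)))))) (BT.node (nat_lit 12032896) (BT.node (nat_lit 12032642) (BT.node (nat_lit 12032576) (BT.node (nat_lit 12032512) (BT.leaf (nat_lit 31232793)) (BT.leaf (nat_lit 48123909))) (BT.node (nat_lit 12032640) (BT.leaf (nat_lit 34200069)) (BT.leaf (nat_lit 48124165)))) (BT.node (nat_lit 12032832) (BT.node (nat_lit 12032704) (BT.leaf (nat_lit 775048)) (BT.leaf (nat_lit 30576401))) (BT.node (nat_lit 12032837) (BT.leaf (nat_lit 30576925)) (BT.leaf (nat_lit 767556))))) (BT.node (nat_lit 12033216) (BT.node (nat_lit 12033088) (BT.node (nat_lit 12033024) (BT.leaf (nat_lit 36349729)) (BT.leaf (nat_lit 30578193))) (BT.node (nat_lit 12033152) (BT.leaf (nat_lit 52398877)) (BT.leaf (nat_lit 48239889)))) (BT.node (nat_lit 12033344) (BT.node (nat_lit 12033280) (BT.leaf (nat_lit 30579229)) (BT.leaf (nat_lit 35207197))) (BT.node (nat_lit 12033408) (BT.leaf (nat_lit 30579221)) (BT.leaf (nat_lit 30579477))))))) (BT.node (nat_lit 12035008) (BT.node (nat_lit 12034112) (BT.node (nat_lit 12033728) (BT.node (nat_lit 12033600) (BT.node (nat_lit 12033536) (BT.leaf (nat_lit 34174225)) (BT.leaf (nat_lit 30581257))) (BT.node (nat_lit 12033664) (BT.leaf (nat_lit 30581261)) (BT.leaf (nat_lit 30581273)))) (BT.node (nat_lit 12033856) (BT.node (nat_lit 12033792) (BT.leaf (nat_lit 30581277)) (BT.leaf (nat_lit 50954501))) (BT.node (nat_lit 12033920) (BT.leaf (nat_lit 35309585)) (BT.leaf (nat_lit 35149593))))) (BT.node (nat_lit 12034688) (BT.node (nat_lit 12034560) (BT.node (nat_lit 12034176) (BT.leaf (nat_lit 30582033)) (BT.leaf (nat_lit 34203925))) (BT.node (nat_lit 12034624) (BT.leaf (nat_lit 30583309)) (BT.leaf (nat_lit 30583321)))) (BT.node (nat_lit 12034880) (BT.node (nat_lit 12034752) (BT.leaf (nat_lit 30583813)) (BT.leaf (nat_lit 48134169))) (BT.node (nat_lit 12034944) (BT.leaf (nat_lit 44705313)) (BT.leaf (nat_lit 48971285)))))) (BT.node (nat_lit 12036160) (BT.node (nat_lit 12035648) (BT.node (nat_lit 12035392) (BT.node (nat_lit 12035328) (BT.leaf (nat_lit 30587157)) (BT.leaf (nat_lit 30587677))) (BT.node (nat_lit 12035456) (BT.leaf (nat_lit 30587913)) (BT.leaf (nat_lit 50484757)))) (BT.node (nat_lit 12035776) (BT.node (nat_lit 12035712) (BT.leaf (nat_lit 34236437)) (BT.leaf (nat_lit 30590485))) (BT.node (nat_lit 12035840) (BT.leaf (nat_lit 30593557)) (BT.leaf (nat_lit 30592517))))) (BT.node (nat_lit 12036480) (BT.node (nat_lit 12036288) (BT.node (nat_lit 12036224) (BT.leaf (nat_lit 46766369)) (BT.leaf (nat_lit 47502869))) (BT.node (nat_lit 12036416) (BT.leaf (nat_lit 48154913)) (BT.leaf (nat_lit 32430865)))) (BT.node (nat_lit 12036608) (BT.node (nat_lit 12036544) (BT.leaf (nat_lit 39136017)) (BT.leaf (nat_lit 39646485))) (BT.node (nat_lit 12036672) (BT.leaf (nat_lit 40980769)) (BT.leaf (nat_lit 44194329))))))))))) (BT.node (nat_lit 12055616) (BT.node (nat_lit 12046528) (BT.node (nat_lit 12041728) (BT.node (nat_lit 12039040) (BT.node (nat_lit 12037824) (BT.node (nat_lit 12037312) (BT.node (nat_lit 12037056) (BT.node (nat_lit 12036928) (BT.node (nat_lit 12036864) (BT.leaf (nat_lit 48147477)) (BT.leaf (nat_lit 50238725))) (BT.node (nat_lit 12036992) (BT.leaf (nat_lit 30599197)) (BT.leaf (nat_lit 35051025)))) (BT.node (nat_lit 12037184) (BT.node (nat_lit 12037120) (BT.leaf (nat_lit 46769173)) (BT.leaf (nat_lit 48148233))) (BT.node (nat_lit 12037248) (BT.leaf (nat_lit 33602069)) (BT.leaf (nat_lit 36013337))))) (BT.node (nat_lit 12037568) (BT.node (nat_lit 12037440) (BT.node (nat_lit 12037376) (BT.leaf (nat_lit 43327521)) (BT.leaf (nat_lit 34240793))) (BT.node (nat_lit 12037504) (BT.leaf (nat_lit 34241053)) (BT.leaf (nat_lit 48918037)))) (BT.node (nat_lit 12037696) (BT.node (nat_lit 12037632) (BT.leaf (nat_lit 30912789)) (BT.leaf (nat_lit 48153349))) (BT.node (nat_lit 12037760) (BT.leaf (nat_lit 34217989)) (BT.leaf (nat_lit 30601237)))))) (BT.node (nat_lit 12038336) (BT.node (nat_lit 12038080) (BT.node (nat_lit 12037952) (BT.node (nat_lit 12037888) (BT.leaf (nat_lit 30601241)) (BT.leaf (nat_lit 30601245))) (BT.node (nat_lit 12038016) (BT.leaf (nat_lit 30602001)) (BT.leaf (nat_lit 30601501)))) (BT.node (nat_lit 12038208) (BT.node (nat_lit 12038144) (BT.leaf (nat_lit 50544401)) (BT.leaf (nat_lit 36078105))) (BT.node (nat_lit 12038272) (BT.leaf (nat_lit 45433109)) (BT.leaf (nat_lit 48267025))))) (BT.node (nat_lit 12038720) (BT.node (nat_lit 12038464) (BT.node (nat_lit 12038400) (BT.leaf (nat_lit 30602777)) (BT.leaf (nat_lit 30602781))) (BT.node (nat_lit 12038592) (BT.leaf (nat_lit 30603297)) (BT.leaf (nat_lit 33822221)))) (BT.node (nat_lit 12038912) (BT.node (nat_lit 12038784) (BT.leaf (nat_lit 30604565)) (BT.leaf (nat_lit 30605593))) (BT.node (nat_lit 12038976) (BT.leaf (nat_lit 39252245)) (BT.leaf (nat_lit 46882337))))))) (BT.node (nat_lit 12040192) (BT.node (nat_lit 12039616) (BT.node (nat_lit 12039296) (BT.node (nat_lit 12039168) (BT.node (nat_lit 12039104) (BT.leaf (nat_lit 30607641)) (BT.leaf (nat_lit 34703885))) (BT.node (nat_lit 12039232) (BT.leaf (nat_lit 51381777)) (BT.leaf (nat_lit 34703897)))) (BT.node (nat_lit 12039488) (BT.node (nat_lit 12039424) (BT.leaf (nat_lit 30608405)) (BT.leaf (nat_lit 30608921))) (BT.node (nat_lit 12039552) (BT.leaf (nat_lit 47446537)) (BT.leaf (nat_lit 34167829))))) (BT.node (nat_lit 12039872) (BT.node (nat_lit 12039744) (BT.node (nat_lit 12039680) (BT.leaf (nat_lit 30609941)) (BT.leaf (nat_lit 45782533))) (BT.node (nat_lit 12039808) (BT.leaf (nat_lit 30611985)) (BT.leaf (nat_lit 30612501)))) (BT.node (nat_lit 12040064) (BT.node (nat_lit 12040000) (BT.leaf (nat_lit 48162053)) (BT.leaf (nat_lit 31838229))) (BT.node (nat_lit 12040128) (BT.leaf (nat_lit 41325829)) (BT.leaf (nat_lit 44121625)))))) (BT.node (nat_lit 12040960) (BT.node (nat_lit 12040640) (BT.node (nat_lit 12040448) (BT.node (nat_lit 12040320) (BT.leaf (nat_lit 30614789)) (BT.leaf (nat_lit 50857989))) (BT.node (nat_lit 12040512) (BT.leaf (nat_lit 30616085)) (BT.leaf (nat_lit 30616605)))) (BT.node (nat_lit 12040768) (BT.node (nat_lit 12040704) (BT.leaf (nat_lit 33247261)) (BT.leaf (nat_lit 40394509))) (BT.node (nat_lit 12040896) (BT.leaf (nat_lit 51997445)) (BT.leaf (nat_lit 48486177))))) (BT.node (nat_lit 12041344) (BT.node (nat_lit 12041152) (BT.node (nat_lit 12041024) (BT.leaf (nat_lit 30619929)) (BT.leaf (nat_lit 30619925))) (BT.node (nat_lit 12041216) (BT.leaf (nat_lit 38663457)) (BT.leaf (nat_lit 36965649)))) (BT.node (nat_lit 12041472) (BT.node (nat_lit 12041408) (BT.leaf (nat_lit 41429281)) (BT.leaf (nat_lit 30621465))) (BT.node (nat_lit 12041536) (BT.leaf (nat_lit 30621469)) (BT.leaf (nat_lit 47494433)))))))) (BT.node (nat_lit 12043840) (BT.node (nat_lit 12042688) (BT.node (nat_lit 12042240) (BT.node (nat_lit 12041862) (BT.node (nat_lit 12041792) (BT.node (nat_lit 12041733) (BT.leaf (nat_lit 47981089)) (BT.leaf (nat_lit 813688))) (BT.node (nat_lit 12041856) (BT.leaf (nat_lit 30622997)) (BT.leaf (nat_lit 30623761)))) (BT.node (nat_lit 12041984) (BT.node (nat_lit 12041920) (BT.leaf (nat_lit 782136)) (BT.leaf (nat_lit 46381073))) (BT.node (nat_lit 12042112) (BT.leaf (nat_lit 47449113)) (BT.leaf (nat_lit 30624273))))) (BT.node (nat_lit 12042496) (BT.node (nat_lit 12042368) (BT.node (nat_lit 12042304) (BT.leaf (nat_lit 36893201)) (BT.leaf (nat_lit 52392217))) (BT.node (nat_lit 12042432) (BT.leaf (nat_lit 30625049)) (BT.leaf (nat_lit 30625289)))) (BT.node (nat_lit 12042624) (BT.node (nat_lit 12042560) (BT.leaf (nat_lit 52064533)) (BT.leaf (nat_lit 52391193))) (BT.node (nat_lit 12042625) (BT.leaf (nat_lit 30658585)) (BT.leaf (nat_lit 788676)))))) (BT.node (nat_lit 12043264) (BT.node (nat_lit 12043072) (BT.node (nat_lit 12042944) (BT.node (nat_lit 12042752) (BT.leaf (nat_lit 37475349)) (BT.leaf (nat_lit 48194841))) (BT.node (nat_lit 12043008) (BT.leaf (nat_lit 50475781)) (BT.leaf (nat_lit 48000517)))) (BT.node (nat_lit 12043144) (BT.node (nat_lit 12043136) (BT.leaf (nat_lit 34223901)) (BT.leaf (nat_lit 34223133))) (BT.node (nat_lit 12043200) (BT.leaf (nat_lit 754236)) (BT.leaf (nat_lit 49523477))))) (BT.node (nat_lit 12043584) (BT.node (nat_lit 12043456) (BT.node (nat_lit 12043392) (BT.leaf (nat_lit 50844437)) (BT.leaf (nat_lit 30627869))) (BT.node (nat_lit 12043520) (BT.leaf (nat_lit 30658313)) (BT.leaf (nat_lit 30627865)))) (BT.node (nat_lit 12043712) (BT.node (nat_lit 12043648) (BT.leaf (nat_lit 30627861)) (BT.leaf (nat_lit 33447697))) (BT.node (nat_lit 12043776) (BT.leaf (nat_lit 30658589)) (BT.leaf (nat_lit 51868693))))))) (BT.node (nat_lit 12045120) (BT.node (nat_lit 12044352) (BT.node (nat_lit 12044096) (BT.node (nat_lit 12043968) (BT.node (nat_lit 12043904) (BT.leaf (nat_lit 52413189)) (BT.leaf (nat_lit 48195341))) (BT.node (nat_lit 12044036) (BT.leaf (nat_lit 49152789)) (BT.leaf (nat_lit 773804)))) (BT.node (nat_lit 12044224) (BT.node (nat_lit 12044160) (BT.leaf (nat_lit 50860041)) (BT.leaf (nat_lit 33679129))) (BT.node (nat_lit 12044288) (BT.leaf (nat_lit 36833037)) (BT.leaf (nat_lit 30629657))))) (BT.node (nat_lit 12044673) (BT.node (nat_lit 12044544) (BT.node (nat_lit 12044416) (BT.leaf (nat_lit 47318277)) (BT.leaf (nat_lit 30631941))) (BT.node (nat_lit 12044672) (BT.leaf (nat_lit 47248665)) (BT.leaf (nat_lit 49303069)))) (BT.node (nat_lit 12044992) (BT.node (nat_lit 12044864) (BT.leaf (nat_lit 770356)) (BT.leaf (nat_lit 35962641))) (BT.node (nat_lit 12045056) (BT.leaf (nat_lit 45825797)) (BT.leaf (nat_lit 30636041)))))) (BT.node (nat_lit 12045824) (BT.node (nat_lit 12045440) (BT.node (nat_lit 12045248) (BT.node (nat_lit 12045184) (BT.leaf (nat_lit 30636045)) (BT.leaf (nat_lit 51091737))) (BT.node (nat_lit 12045312) (BT.leaf (nat_lit 30636061)) (BT.leaf (nat_lit 49583393)))) (BT.node (nat_lit 12045632) (BT.node (nat_lit 12045568) (BT.leaf (nat_lit 34231829)) (BT.leaf (nat_lit 46805025))) (BT.node (nat_lit 12045696) (BT.leaf (nat_lit 30637593)) (BT.leaf (nat_lit 30637845))))) (BT.node (nat_lit 12046144) (BT.node (nat_lit 12045894) (BT.node (nat_lit 12045888) (BT.leaf (nat_lit 51560225)) (BT.leaf (nat_lit 37471509))) (BT.node (nat_lit 12046080) (BT.leaf (nat_lit 818576)) (BT.leaf (nat_lit 49049621)))) (BT.node (nat_lit 12046336) (BT.node (nat_lit 12046272) (BT.leaf (nat_lit 30643733)) (BT.leaf (nat_lit 34236693))) (BT.node (nat_lit 12046464) (BT.leaf (nat_lit 30645269)) (BT.leaf (nat_lit 50391313))))))))) (BT.node (nat_lit 12051008) (BT.node (nat_lit 12048704) (BT.node (nat_lit 12047616) (BT.node (nat_lit 12047040) (BT.node (nat_lit 12046784) (BT.node (nat_lit 12046656) (BT.node (nat_lit 12046592) (BT.leaf (nat_lit 33153293)) (BT.leaf (nat_lit 34350869))) (BT.node (nat_lit 12046720) (BT.leaf (nat_lit 42889241)) (BT.leaf (nat_lit 46287113)))) (BT.node (nat_lit 12046912) (BT.node (nat_lit 12046848) (BT.leaf (nat_lit 30647065)) (BT.leaf (nat_lit 30647069))) (BT.node (nat_lit 12046976) (BT.leaf (nat_lit 30647313)) (BT.leaf (nat_lit 30648337))))) (BT.node (nat_lit 12047360) (BT.node (nat_lit 12047168) (BT.node (nat_lit 12047104) (BT.leaf (nat_lit 40649221)) (BT.leaf (nat_lit 48188185))) (BT.node (nat_lit 12047296) (BT.leaf (nat_lit 47531297)) (BT.leaf (nat_lit 42963989)))) (BT.node (nat_lit 12047488) (BT.node (nat_lit 12047424) (BT.leaf (nat_lit 50469645)) (BT.leaf (nat_lit 42403105))) (BT.node (nat_lit 12047552) (BT.leaf (nat_lit 30651161)) (BT.leaf (nat_lit 30651165)))))) (BT.node (nat_lit 12048128) (BT.node (nat_lit 12047872) (BT.node (nat_lit 12047744) (BT.node (nat_lit 12047680) (BT.leaf (nat_lit 30651681)) (BT.leaf (nat_lit 47035937))) (BT.node (nat_lit 12047808) (BT.leaf (nat_lit 52398869)) (BT.leaf (nat_lit 33811737)))) (BT.node (nat_lit 12048000) (BT.node (nat_lit 12047936) (BT.leaf (nat_lit 48334113)) (BT.leaf (nat_lit 30652689))) (BT.node (nat_lit 12048064) (BT.leaf (nat_lit 30652953)) (BT.leaf (nat_lit 36374533))))) (BT.node (nat_lit 12048448) (BT.node (nat_lit 12048256) (BT.node (nat_lit 12048192) (BT.leaf (nat_lit 30653205)) (BT.leaf (nat_lit 51289105))) (BT.node (nat_lit 12048320) (BT.leaf (nat_lit 30654493)) (BT.leaf (nat_lit 49647905)))) (BT.node (nat_lit 12048576) (BT.node (nat_lit 12048512) (BT.leaf (nat_lit 38018841)) (BT.leaf (nat_lit 34156817))) (BT.node (nat_lit 12048640) (BT.leaf (nat_lit 30657561)) (BT.leaf (nat_lit 30657565))))))) (BT.node (nat_lit 12049920) (BT.node (nat_lit 12049216) (BT.node (nat_lit 12048896) (BT.node (nat_lit 12048832) (BT.node (nat_lit 12048768) (BT.leaf (nat_lit 47369477)) (BT.leaf (nat_lit 37525005))) (BT.node (nat_lit 12048837) (BT.leaf (nat_lit 36090897)) (BT.leaf (nat_lit 766084)))) (BT.node (nat_lit 12049024) (BT.node (nat_lit 12048960) (BT.leaf (nat_lit 48486433)) (BT.leaf (nat_lit 34837777))) (BT.node (nat_lit 12049152) (BT.leaf (nat_lit 30659085)) (BT.leaf (nat_lit 52089621))))) (BT.node (nat_lit 12049536) (BT.node (nat_lit 12049408) (BT.node (nat_lit 12049344) (BT.leaf (nat_lit 52392201)) (BT.leaf (nat_lit 52089373))) (BT.node (nat_lit 12049472) (BT.leaf (nat_lit 36950801)) (BT.leaf (nat_lit 37477137)))) (BT.node (nat_lit 12049664) (BT.node (nat_lit 12049600) (BT.leaf (nat_lit 36951057)) (BT.leaf (nat_lit 52089117))) (BT.node (nat_lit 12049728) (BT.leaf (nat_lit 34178841)) (BT.leaf (nat_lit 37476881)))))) (BT.node (nat_lit 12050432) (BT.node (nat_lit 12050176) (BT.node (nat_lit 12050048) (BT.node (nat_lit 12049984) (BT.leaf (nat_lit 52089365)) (BT.leaf (nat_lit 46646533))) (BT.node (nat_lit 12050112) (BT.leaf (nat_lit 30662941)) (BT.leaf (nat_lit 30663197)))) (BT.node (nat_lit 12050304) (BT.node (nat_lit 12050240) (BT.leaf (nat_lit 46805017)) (BT.leaf (nat_lit 30664977))) (BT.node (nat_lit 12050368) (BT.leaf (nat_lit 30665237)) (BT.leaf (nat_lit 30665749))))) (BT.node (nat_lit 12050752) (BT.node (nat_lit 12050624) (BT.node (nat_lit 12050496) (BT.leaf (nat_lit 34253341)) (BT.leaf (nat_lit 30666265))) (BT.node (nat_lit 12050688) (BT.leaf (nat_lit 47248405)) (BT.leaf (nat_lit 51687441)))) (BT.node (nat_lit 12050880) (BT.node (nat_lit 12050816) (BT.leaf (nat_lit 33908245)) (BT.leaf (nat_lit 34256917))) (BT.node (nat_lit 12050944) (BT.leaf (nat_lit 30670865)) (BT.leaf (nat_lit 30671121)))))))) (BT.node (nat_lit 12053312) (BT.node (nat_lit 12052032) (BT.node (nat_lit 12051461) (BT.node (nat_lit 12051328) (BT.node (nat_lit 12051136) (BT.node (nat_lit 12051072) (BT.leaf (nat_lit 30671385)) (BT.leaf (nat_lit 46487833))) (BT.node (nat_lit 12051264) (BT.leaf (nat_lit 46487837)) (BT.leaf (nat_lit 48968733)))) (BT.node (nat_lit 12051396) (BT.node (nat_lit 12051392) (BT.leaf (nat_lit 30672657)) (BT.leaf (nat_lit 30673685))) (BT.node (nat_lit 12051456) (BT.leaf (nat_lit 774640)) (BT.leaf (nat_lit 30673937))))) (BT.node (nat_lit 12051776) (BT.node (nat_lit 12051584) (BT.node (nat_lit 12051520) (BT.leaf (nat_lit 774644)) (BT.leaf (nat_lit 38337565))) (BT.node (nat_lit 12051712) (BT.leaf (nat_lit 37739033)) (BT.leaf (nat_lit 35100441)))) (BT.node (nat_lit 12051904) (BT.node (nat_lit 12051840) (BT.leaf (nat_lit 30674453)) (BT.leaf (nat_lit 30675217))) (BT.node (nat_lit 12051968) (BT.leaf (nat_lit 30675737)) (BT.leaf (nat_lit 30675741)))))) (BT.node (nat_lit 12052608) (BT.node (nat_lit 12052352) (BT.node (nat_lit 12052160) (BT.node (nat_lit 12052096) (BT.leaf (nat_lit 30676241)) (BT.leaf (nat_lit 30675993))) (BT.node (nat_lit 12052224) (BT.leaf (nat_lit 30675997)) (BT.leaf (nat_lit 34260501)))) (BT.node (nat_lit 12052480) (BT.node (nat_lit 12052416) (BT.leaf (nat_lit 49488917)) (BT.leaf (nat_lit 30677517))) (BT.node (nat_lit 12052544) (BT.leaf (nat_lit 30678549)) (BT.leaf (nat_lit 30680593))))) (BT.node (nat_lit 12052864) (BT.node (nat_lit 12052736) (BT.node (nat_lit 12052672) (BT.leaf (nat_lit 30680849)) (BT.leaf (nat_lit 30681113))) (BT.node (nat_lit 12052800) (BT.leaf (nat_lit 30681117)) (BT.leaf (nat_lit 34832409)))) (BT.node (nat_lit 12053056) (BT.node (nat_lit 12052992) (BT.leaf (nat_lit 39975185)) (BT.leaf (nat_lit 47405601))) (BT.node (nat_lit 12053120) (BT.leaf (nat_lit 45157921)) (BT.leaf (nat_lit 30683165))))))) (BT.node (nat_lit 12054464) (BT.node (nat_lit 12054016) (BT.node (nat_lit 12053632) (BT.node (nat_lit 12053504) (BT.node (nat_lit 12053376) (BT.leaf (nat_lit 30683925)) (BT.leaf (nat_lit 30684185))) (BT.node (nat_lit 12053568) (BT.leaf (nat_lit 48425749)) (BT.leaf (nat_lit 30686217)))) (BT.node (nat_lit 12053888) (BT.node (nat_lit 12053824) (BT.leaf (nat_lit 30686221)) (BT.leaf (nat_lit 43080197))) (BT.node (nat_lit 12053952) (BT.leaf (nat_lit 43089421)) (BT.leaf (nat_lit 30686749))))) (BT.node (nat_lit 12054208) (BT.node (nat_lit 12054083) (BT.node (nat_lit 12054080) (BT.leaf (nat_lit 42243357)) (BT.leaf (nat_lit 48218397))) (BT.node (nat_lit 12054144) (BT.leaf (nat_lit 775892)) (BT.leaf (nat_lit 44005125)))) (BT.node (nat_lit 12054336) (BT.node (nat_lit 12054272) (BT.leaf (nat_lit 30691089)) (BT.leaf (nat_lit 42491933))) (BT.node (nat_lit 12054400) (BT.leaf (nat_lit 32697109)) (BT.leaf (nat_lit 49402653)))))) (BT.node (nat_lit 12055104) (BT.node (nat_lit 12054784) (BT.node (nat_lit 12054656) (BT.node (nat_lit 12054592) (BT.leaf (nat_lit 30691865)) (BT.leaf (nat_lit 30692101))) (BT.node (nat_lit 12054720) (BT.leaf (nat_lit 44005137)) (BT.leaf (nat_lit 43617825)))) (BT.node (nat_lit 12054976) (BT.node (nat_lit 12054848) (BT.leaf (nat_lit 48964881)) (BT.leaf (nat_lit 43610645))) (BT.node (nat_lit 12055040) (BT.leaf (nat_lit 41581317)) (BT.leaf (nat_lit 30694677))))) (BT.node (nat_lit 12055360) (BT.node (nat_lit 12055232) (BT.node (nat_lit 12055168) (BT.leaf (nat_lit 33744393)) (BT.leaf (nat_lit 30695201))) (BT.node (nat_lit 12055296) (BT.leaf (nat_lit 51339809)) (BT.leaf (nat_lit 30695445)))) (BT.node (nat_lit 12055488) (BT.node (nat_lit 12055424) (BT.leaf (nat_lit 30696457)) (BT.leaf (nat_lit 48221965))) (BT.node (nat_lit 12055552) (BT.leaf (nat_lit 42454037)) (BT.leaf (nat_lit 30696733)))))))))) (BT.node (nat_lit 12064960) (BT.node (nat_lit 12059904) (BT.node (nat_lit 12057792) (BT.node (nat_lit 12056640) (BT.node (nat_lit 12056192) (BT.node (nat_lit 12055936) (BT.node (nat_lit 12055744) (BT.node (nat_lit 12055680) (BT.leaf (nat_lit 30698769)) (BT.leaf (nat_lit 43118617))) (BT.node (nat_lit 12055872) (BT.leaf (nat_lit 30699297)) (BT.leaf (nat_lit 30700057)))) (BT.node (nat_lit 12056064) (BT.node (nat_lit 12056000) (BT.leaf (nat_lit 30700309)) (BT.leaf (nat_lit 30700817))) (BT.node (nat_lit 12056128) (BT.leaf (nat_lit 30701345)) (BT.leaf (nat_lit 49097989))))) (BT.node (nat_lit 12056448) (BT.node (nat_lit 12056320) (BT.node (nat_lit 12056256) (BT.leaf (nat_lit 30702881)) (BT.leaf (nat_lit 47701277))) (BT.node (nat_lit 12056384) (BT.leaf (nat_lit 47914761)) (BT.leaf (nat_lit 37022493)))) (BT.node (nat_lit 12056512) (BT.node (nat_lit 12056453) (BT.leaf (nat_lit 32806169)) (BT.leaf (nat_lit 775876))) (BT.node (nat_lit 12056576) (BT.leaf (nat_lit 34845973)) (BT.leaf (nat_lit 34846229)))))) (BT.node (nat_lit 12057216) (BT.node (nat_lit 12056960) (BT.node (nat_lit 12056832) (BT.node (nat_lit 12056704) (BT.leaf (nat_lit 30708769)) (BT.leaf (nat_lit 30709269))) (BT.node (nat_lit 12056896) (BT.leaf (nat_lit 30710549)) (BT.leaf (nat_lit 49102341)))) (BT.node (nat_lit 12057088) (BT.node (nat_lit 12057024) (BT.leaf (nat_lit 49659681)) (BT.leaf (nat_lit 34891013))) (BT.node (nat_lit 12057152) (BT.leaf (nat_lit 49099781)) (BT.leaf (nat_lit 47918865))))) (BT.node (nat_lit 12057472) (BT.node (nat_lit 12057344) (BT.node (nat_lit 12057280) (BT.leaf (nat_lit 30953749)) (BT.leaf (nat_lit 44274977))) (BT.node (nat_lit 12057408) (BT.leaf (nat_lit 38562581)) (BT.leaf (nat_lit 48229901)))) (BT.node (nat_lit 12057600) (BT.node (nat_lit 12057536) (BT.leaf (nat_lit 52050949)) (BT.leaf (nat_lit 30716697))) (BT.node (nat_lit 12057728) (BT.leaf (nat_lit 30716957)) (BT.leaf (nat_lit 47620373))))))) (BT.node (nat_lit 12058816) (BT.node (nat_lit 12058304) (BT.node (nat_lit 12058048) (BT.node (nat_lit 12057920) (BT.node (nat_lit 12057856) (BT.leaf (nat_lit 38043417)) (BT.leaf (nat_lit 47129121))) (BT.node (nat_lit 12057984) (BT.leaf (nat_lit 30718481)) (BT.leaf (nat_lit 35176213)))) (BT.node (nat_lit 12058176) (BT.node (nat_lit 12058112) (BT.leaf (nat_lit 31038737)) (BT.leaf (nat_lit 30722069))) (BT.node (nat_lit 12058240) (BT.leaf (nat_lit 30723605)) (BT.leaf (nat_lit 46691105))))) (BT.node (nat_lit 12058560) (BT.node (nat_lit 12058432) (BT.node (nat_lit 12058368) (BT.leaf (nat_lit 30724625)) (BT.leaf (nat_lit 30725141))) (BT.node (nat_lit 12058496) (BT.leaf (nat_lit 45167385)) (BT.leaf (nat_lit 45167389)))) (BT.node (nat_lit 12058688) (BT.node (nat_lit 12058624) (BT.leaf (nat_lit 34054417)) (BT.leaf (nat_lit 33540881))) (BT.node (nat_lit 12058752) (BT.leaf (nat_lit 30726933)) (BT.leaf (nat_lit 40442657)))))) (BT.node (nat_lit 12059328) (BT.node (nat_lit 12059072) (BT.node (nat_lit 12058944) (BT.node (nat_lit 12058880) (BT.leaf (nat_lit 33541381)) (BT.leaf (nat_lit 47892749))) (BT.node (nat_lit 12059008) (BT.leaf (nat_lit 30731281)) (BT.leaf (nat_lit 30732049)))) (BT.node (nat_lit 12059200) (BT.node (nat_lit 12059136) (BT.leaf (nat_lit 48639777)) (BT.leaf (nat_lit 37046277))) (BT.node (nat_lit 12059264) (BT.leaf (nat_lit 30735381)) (BT.leaf (nat_lit 30736413))))) (BT.node (nat_lit 12059648) (BT.node (nat_lit 12059520) (BT.node (nat_lit 12059456) (BT.leaf (nat_lit 30736661)) (BT.leaf (nat_lit 30737941))) (BT.node (nat_lit 12059584) (BT.leaf (nat_lit 30738973)) (BT.leaf (nat_lit 30738953)))) (BT.node (nat_lit 12059776) (BT.node (nat_lit 12059712) (BT.leaf (nat_lit 30738977)) (BT.leaf (nat_lit 30739977))) (BT.node (nat_lit 12059840) (BT.leaf (nat_lit 30739981)) (BT.leaf (nat_lit 30740757)))))))) (BT.node (nat_lit 12062464) (BT.node (nat_lit 12061184) (BT.node (nat_lit 12060672) (BT.node (nat_lit 12060160) (BT.node (nat_lit 12059972) (BT.node (nat_lit 12059968) (BT.leaf (nat_lit 51439889)) (BT.leaf (nat_lit 42151189))) (BT.node (nat_lit 12060032) (BT.leaf (nat_lit 754688)) (BT.leaf (nat_lit 42788109)))) (BT.node (nat_lit 12060352) (BT.node (nat_lit 12060224) (BT.leaf (nat_lit 32837921)) (BT.leaf (nat_lit 30744081))) (BT.node (nat_lit 12060608) (BT.leaf (nat_lit 30745361)) (BT.leaf (nat_lit 38125593))))) (BT.node (nat_lit 12060928) (BT.node (nat_lit 12060800) (BT.node (nat_lit 12060736) (BT.leaf (nat_lit 48013089)) (BT.leaf (nat_lit 44845081))) (BT.node (nat_lit 12060864) (BT.leaf (nat_lit 30750997)) (BT.leaf (nat_lit 30751005)))) (BT.node (nat_lit 12061056) (BT.node (nat_lit 12060992) (BT.leaf (nat_lit 50825505)) (BT.leaf (nat_lit 30751761))) (BT.node (nat_lit 12061120) (BT.leaf (nat_lit 34282769)) (BT.leaf (nat_lit 36153373)))))) (BT.node (nat_lit 12061888) (BT.node (nat_lit 12061504) (BT.node (nat_lit 12061312) (BT.node (nat_lit 12061248) (BT.leaf (nat_lit 50114569)) (BT.leaf (nat_lit 49065221))) (BT.node (nat_lit 12061442) (BT.leaf (nat_lit 34283029)) (BT.leaf (nat_lit 790012)))) (BT.node (nat_lit 12061760) (BT.node (nat_lit 12061573) (BT.leaf (nat_lit 30752273)) (BT.leaf (nat_lit 803632))) (BT.node (nat_lit 12061824) (BT.leaf (nat_lit 50584085)) (BT.leaf (nat_lit 30753041))))) (BT.node (nat_lit 12062208) (BT.node (nat_lit 12062016) (BT.node (nat_lit 12061952) (BT.leaf (nat_lit 50224905)) (BT.leaf (nat_lit 31954949))) (BT.node (nat_lit 12062144) (BT.leaf (nat_lit 34285333)) (BT.leaf (nat_lit 47953417)))) (BT.node (nat_lit 12062336) (BT.node (nat_lit 12062272) (BT.leaf (nat_lit 48249117)) (BT.leaf (nat_lit 50396681))) (BT.node (nat_lit 12062400) (BT.leaf (nat_lit 30760465)) (BT.leaf (nat_lit 49366037))))))) (BT.node (nat_lit 12063744) (BT.node (nat_lit 12063104) (BT.node (nat_lit 12062784) (BT.node (nat_lit 12062656) (BT.node (nat_lit 12062592) (BT.leaf (nat_lit 41163541)) (BT.leaf (nat_lit 51047941))) (BT.node (nat_lit 12062720) (BT.leaf (nat_lit 35242265)) (BT.leaf (nat_lit 30763029)))) (BT.node (nat_lit 12062976) (BT.node (nat_lit 12062912) (BT.leaf (nat_lit 47521569)) (BT.leaf (nat_lit 39019029))) (BT.node (nat_lit 12063040) (BT.leaf (nat_lit 40065045)) (BT.leaf (nat_lit 30765329))))) (BT.node (nat_lit 12063424) (BT.node (nat_lit 12063232) (BT.node (nat_lit 12063168) (BT.leaf (nat_lit 45838877)) (BT.leaf (nat_lit 43246861))) (BT.node (nat_lit 12063296) (BT.leaf (nat_lit 30765829)) (BT.leaf (nat_lit 30766605)))) (BT.node (nat_lit 12063552) (BT.node (nat_lit 12063488) (BT.leaf (nat_lit 35215897)) (BT.leaf (nat_lit 43233309))) (BT.node (nat_lit 12063680) (BT.leaf (nat_lit 32282905)) (BT.leaf (nat_lit 47465245)))))) (BT.node (nat_lit 12064384) (BT.node (nat_lit 12064000) (BT.node (nat_lit 12063872) (BT.node (nat_lit 12063808) (BT.leaf (nat_lit 38034977)) (BT.leaf (nat_lit 30768913))) (BT.node (nat_lit 12063936) (BT.leaf (nat_lit 30769177)) (BT.leaf (nat_lit 30769181)))) (BT.node (nat_lit 12064256) (BT.node (nat_lit 12064128) (BT.leaf (nat_lit 32286741)) (BT.leaf (nat_lit 30769953))) (BT.node (nat_lit 12064320) (BT.leaf (nat_lit 30770453)) (BT.leaf (nat_lit 46496773))))) (BT.node (nat_lit 12064640) (BT.node (nat_lit 12064512) (BT.node (nat_lit 12064448) (BT.leaf (nat_lit 30771473)) (BT.leaf (nat_lit 34682141))) (BT.node (nat_lit 12064576) (BT.leaf (nat_lit 30771985)) (BT.leaf (nat_lit 39654677)))) (BT.node (nat_lit 12064768) (BT.node (nat_lit 12064704) (BT.leaf (nat_lit 32921621)) (BT.leaf (nat_lit 39633181))) (BT.node (nat_lit 12064832) (BT.leaf (nat_lit 38929181)) (BT.leaf (nat_lit 46173461))))))))) (BT.node (nat_lit 12069312) (BT.node (nat_lit 12066880) (BT.node (nat_lit 12065920) (BT.node (nat_lit 12065536) (BT.node (nat_lit 12065216) (BT.node (nat_lit 12065088) (BT.node (nat_lit 12065024) (BT.leaf (nat_lit 30773789)) (BT.leaf (nat_lit 30775313))) (BT.node (nat_lit 12065152) (BT.leaf (nat_lit 30775825)) (BT.leaf (nat_lit 50832161)))) (BT.node (nat_lit 12065408) (BT.node (nat_lit 12065344) (BT.leaf (nat_lit 50832417)) (BT.leaf (nat_lit 50832929))) (BT.node (nat_lit 12065472) (BT.leaf (nat_lit 49970465)) (BT.leaf (nat_lit 30777361))))) (BT.node (nat_lit 12065671) (BT.node (nat_lit 12065664) (BT.node (nat_lit 12065600) (BT.leaf (nat_lit 34298629)) (BT.leaf (nat_lit 30779165))) (BT.node (nat_lit 12065667) (BT.leaf (nat_lit 30780693)) (BT.leaf (nat_lit 805792)))) (BT.node (nat_lit 12065792) (BT.node (nat_lit 12065728) (BT.leaf (nat_lit 805792)) (BT.leaf (nat_lit 49589281))) (BT.node (nat_lit 12065856) (BT.leaf (nat_lit 30780957)) (BT.leaf (nat_lit 34299669)))))) (BT.node (nat_lit 12066376) (BT.node (nat_lit 12066176) (BT.node (nat_lit 12066048) (BT.node (nat_lit 12065984) (BT.leaf (nat_lit 30782493)) (BT.leaf (nat_lit 30782729))) (BT.node (nat_lit 12066112) (BT.leaf (nat_lit 30782733)) (BT.leaf (nat_lit 43254305)))) (BT.node (nat_lit 12066304) (BT.node (nat_lit 12066240) (BT.leaf (nat_lit 30782745)) (BT.leaf (nat_lit 30782749))) (BT.node (nat_lit 12066368) (BT.leaf (nat_lit 34871577)) (BT.leaf (nat_lit 30783261))))) (BT.node (nat_lit 12066624) (BT.node (nat_lit 12066496) (BT.node (nat_lit 12066432) (BT.leaf (nat_lit 774916)) (BT.leaf (nat_lit 30783513))) (BT.node (nat_lit 12066560) (BT.leaf (nat_lit 30783773)) (BT.leaf (nat_lit 47499525)))) (BT.node (nat_lit 12066752) (BT.node (nat_lit 12066688) (BT.leaf (nat_lit 30784533)) (BT.leaf (nat_lit 30785297))) (BT.node (nat_lit 12066816) (BT.leaf (nat_lit 33354513)) (BT.leaf (nat_lit 43331093))))))) (BT.node (nat_lit 12068032) (BT.node (nat_lit 12067456) (BT.node (nat_lit 12067200) (BT.node (nat_lit 12067072) (BT.node (nat_lit 12066944) (BT.leaf (nat_lit 47564061)) (BT.leaf (nat_lit 42453277))) (BT.node (nat_lit 12067136) (BT.leaf (nat_lit 30788633)) (BT.leaf (nat_lit 30788881)))) (BT.node (nat_lit 12067328) (BT.node (nat_lit 12067264) (BT.leaf (nat_lit 30788885)) (BT.leaf (nat_lit 30789405))) (BT.node (nat_lit 12067392) (BT.leaf (nat_lit 30789401)) (BT.leaf (nat_lit 30789397))))) (BT.node (nat_lit 12067712) (BT.node (nat_lit 12067584) (BT.node (nat_lit 12067520) (BT.leaf (nat_lit 49637921)) (BT.leaf (nat_lit 47368733))) (BT.node (nat_lit 12067648) (BT.leaf (nat_lit 49637409)) (BT.leaf (nat_lit 47336985)))) (BT.node (nat_lit 12067840) (BT.node (nat_lit 12067776) (BT.leaf (nat_lit 48351757)) (BT.leaf (nat_lit 34223881))) (BT.node (nat_lit 12067904) (BT.leaf (nat_lit 30790165)) (BT.leaf (nat_lit 36330785)))))) (BT.node (nat_lit 12068544) (BT.node (nat_lit 12068288) (BT.node (nat_lit 12068160) (BT.node (nat_lit 12068096) (BT.leaf (nat_lit 30791709)) (BT.leaf (nat_lit 35157253))) (BT.node (nat_lit 12068224) (BT.leaf (nat_lit 30796053)) (BT.leaf (nat_lit 49358113)))) (BT.node (nat_lit 12068416) (BT.node (nat_lit 12068352) (BT.leaf (nat_lit 30796321)) (BT.leaf (nat_lit 46894601))) (BT.node (nat_lit 12068480) (BT.leaf (nat_lit 52281629)) (BT.leaf (nat_lit 35297041))))) (BT.node (nat_lit 12068864) (BT.node (nat_lit 12068672) (BT.node (nat_lit 12068608) (BT.leaf (nat_lit 37054985)) (BT.leaf (nat_lit 30799381))) (BT.node (nat_lit 12068800) (BT.leaf (nat_lit 30799389)) (BT.leaf (nat_lit 30800393)))) (BT.node (nat_lit 12069120) (BT.node (nat_lit 12068992) (BT.leaf (nat_lit 34307605)) (BT.leaf (nat_lit 40873225))) (BT.node (nat_lit 12069248) (BT.leaf (nat_lit 33442065)) (BT.leaf (nat_lit 30801425)))))))) (BT.node (nat_lit 12071680) (BT.node (nat_lit 12070208) (BT.node (nat_lit 12069699) (BT.node (nat_lit 12069568) (BT.node (nat_lit 12069440) (BT.node (nat_lit 12069376) (BT.leaf (nat_lit 34023693)) (BT.leaf (nat_lit 30801669))) (BT.node (nat_lit 12069504) (BT.leaf (nat_lit 30801685)) (BT.leaf (nat_lit 30801689)))) (BT.node (nat_lit 12069696) (BT.node (nat_lit 12069632) (BT.leaf (nat_lit 48899861)) (BT.leaf (nat_lit 30802693))) (BT.node (nat_lit 12069698) (BT.leaf (nat_lit 32127777)) (BT.leaf (nat_lit 768432))))) (BT.node (nat_lit 12069952) (BT.node (nat_lit 12069824) (BT.node (nat_lit 12069760) (BT.leaf (nat_lit 768432)) (BT.leaf (nat_lit 30802457))) (BT.node (nat_lit 12069888) (BT.leaf (nat_lit 30802461)) (BT.leaf (nat_lit 35979025)))) (BT.node (nat_lit 12070080) (BT.node (nat_lit 12070016) (BT.leaf (nat_lit 35978769)) (BT.leaf (nat_lit 30802717))) (BT.node (nat_lit 12070144) (BT.leaf (nat_lit 30803221)) (BT.leaf (nat_lit 30803737)))))) (BT.node (nat_lit 12070784) (BT.node (nat_lit 12070528) (BT.node (nat_lit 12070336) (BT.node (nat_lit 12070272) (BT.leaf (nat_lit 33976085)) (BT.leaf (nat_lit 38339353))) (BT.node (nat_lit 12070400) (BT.leaf (nat_lit 35420697)) (BT.leaf (nat_lit 35493401)))) (BT.node (nat_lit 12070656) (BT.node (nat_lit 12070592) (BT.leaf (nat_lit 51129621)) (BT.leaf (nat_lit 46775073))) (BT.node (nat_lit 12070720) (BT.leaf (nat_lit 46543137)) (BT.leaf (nat_lit 30811929))))) (BT.node (nat_lit 12071424) (BT.node (nat_lit 12070976) (BT.node (nat_lit 12070848) (BT.leaf (nat_lit 30812677)) (BT.leaf (nat_lit 30812961))) (BT.node (nat_lit 12071040) (BT.leaf (nat_lit 48284169)) (BT.leaf (nat_lit 50792213)))) (BT.node (nat_lit 12071552) (BT.node (nat_lit 12071488) (BT.leaf (nat_lit 35632157)) (BT.leaf (nat_lit 30814749))) (BT.node (nat_lit 12071616) (BT.leaf (nat_lit 51949077)) (BT.leaf (nat_lit 48286217))))))) (BT.node (nat_lit 12072960) (BT.node (nat_lit 12072256) (BT.node (nat_lit 12072000) (BT.node (nat_lit 12071808) (BT.node (nat_lit 12071744) (BT.leaf (nat_lit 34171157)) (BT.leaf (nat_lit 30815001))) (BT.node (nat_lit 12071936) (BT.leaf (nat_lit 52177181)) (BT.leaf (nat_lit 30816537)))) (BT.node (nat_lit 12072128) (BT.node (nat_lit 12072064) (BT.leaf (nat_lit 30816541)) (BT.leaf (nat_lit 46607877))) (BT.node (nat_lit 12072192) (BT.leaf (nat_lit 52208145)) (BT.leaf (nat_lit 46327557))))) (BT.node (nat_lit 12072576) (BT.node (nat_lit 12072448) (BT.node (nat_lit 12072384) (BT.leaf (nat_lit 50999061)) (BT.leaf (nat_lit 30818057))) (BT.node (nat_lit 12072512) (BT.leaf (nat_lit 30818061)) (BT.leaf (nat_lit 30818073)))) (BT.node (nat_lit 12072704) (BT.node (nat_lit 12072640) (BT.leaf (nat_lit 38944793)) (BT.leaf (nat_lit 30819609))) (BT.node (nat_lit 12072896) (BT.leaf (nat_lit 30819869)) (BT.leaf (nat_lit 30820633)))))) (BT.node (nat_lit 12073472) (BT.node (nat_lit 12073216) (BT.node (nat_lit 12073088) (BT.node (nat_lit 12073024) (BT.leaf (nat_lit 30821393)) (BT.leaf (nat_lit 30822941))) (BT.node (nat_lit 12073152) (BT.leaf (nat_lit 32775685)) (BT.leaf (nat_lit 30823453)))) (BT.node (nat_lit 12073280) (BT.node (nat_lit 12073219) (BT.leaf (nat_lit 31434773)) (BT.leaf (nat_lit 760684))) (BT.node (nat_lit 12073344) (BT.leaf (nat_lit 30823953)) (BT.leaf (nat_lit 30824213))))) (BT.node (nat_lit 12073856) (BT.node (nat_lit 12073728) (BT.node (nat_lit 12073664) (BT.leaf (nat_lit 33485589)) (BT.leaf (nat_lit 30827033))) (BT.node (nat_lit 12073792) (BT.leaf (nat_lit 30827037)) (BT.leaf (nat_lit 35996945)))) (BT.node (nat_lit 12073984) (BT.node (nat_lit 12073920) (BT.leaf (nat_lit 45409541)) (BT.leaf (nat_lit 49007877))) (BT.node (nat_lit 12074048) (BT.leaf (nat_lit 35022873)) (BT.leaf (nat_lit 30827797)))))))))))) (BT.node (nat_lit 12110720) (BT.node (nat_lit 12092480) (BT.node (nat_lit 12082944) (BT.node (nat_lit 12078400) (BT.node (nat_lit 12076352) (BT.node (nat_lit 12075264) (BT.node (nat_lit 12074688) (BT.node (nat_lit 12074368) (BT.node (nat_lit 12074240) (BT.node (nat_lit 12074176) (BT.leaf (nat_lit 30828049)) (BT.leaf (nat_lit 30828313))) (BT.node (nat_lit 12074304) (BT.leaf (nat_lit 30828817)) (BT.leaf (nat_lit 30829581)))) (BT.node (nat_lit 12074496) (BT.node (nat_lit 12074432) (BT.leaf (nat_lit 34349845)) (BT.leaf (nat_lit 30830345))) (BT.node (nat_lit 12074624) (BT.leaf (nat_lit 30829577)) (BT.leaf (nat_lit 30829597))))) (BT.node (nat_lit 12075008) (BT.node (nat_lit 12074816) (BT.node (nat_lit 12074752) (BT.leaf (nat_lit 30829845)) (BT.leaf (nat_lit 30830365))) (BT.node (nat_lit 12074944) (BT.leaf (nat_lit 30830097)) (BT.leaf (nat_lit 30830613)))) (BT.node (nat_lit 12075136) (BT.node (nat_lit 12075072) (BT.leaf (nat_lit 34349833)) (BT.leaf (nat_lit 47498781))) (BT.node (nat_lit 12075200) (BT.leaf (nat_lit 48183581)) (BT.leaf (nat_lit 46130465)))))) (BT.node (nat_lit 12075776) (BT.node (nat_lit 12075520) (BT.node (nat_lit 12075392) (BT.node (nat_lit 12075328) (BT.leaf (nat_lit 42004485)) (BT.leaf (nat_lit 30831901))) (BT.node (nat_lit 12075456) (BT.leaf (nat_lit 30832401)) (BT.leaf (nat_lit 30835217)))) (BT.node (nat_lit 12075648) (BT.node (nat_lit 12075584) (BT.leaf (nat_lit 35997713)) (BT.leaf (nat_lit 43120161))) (BT.node (nat_lit 12075712) (BT.leaf (nat_lit 43024929)) (BT.leaf (nat_lit 46913313))))) (BT.node (nat_lit 12076096) (BT.node (nat_lit 12075968) (BT.node (nat_lit 12075840) (BT.leaf (nat_lit 30838037)) (BT.leaf (nat_lit 50350101))) (BT.node (nat_lit 12076032) (BT.leaf (nat_lit 31898385)) (BT.leaf (nat_lit 30839069)))) (BT.node (nat_lit 12076224) (BT.node (nat_lit 12076160) (BT.leaf (nat_lit 34827029)) (BT.leaf (nat_lit 49016341))) (BT.node (nat_lit 12076288) (BT.leaf (nat_lit 30839577)) (BT.leaf (nat_lit 49015577))))))) (BT.node (nat_lit 12077504) (BT.node (nat_lit 12076992) (BT.node (nat_lit 12076672) (BT.node (nat_lit 12076480) (BT.node (nat_lit 12076416) (BT.leaf (nat_lit 34020893)) (BT.leaf (nat_lit 30840337))) (BT.node (nat_lit 12076544) (BT.leaf (nat_lit 36078109)) (BT.leaf (nat_lit 43330069)))) (BT.node (nat_lit 12076800) (BT.node (nat_lit 12076736) (BT.leaf (nat_lit 34071061)) (BT.leaf (nat_lit 35997973))) (BT.node (nat_lit 12076928) (BT.leaf (nat_lit 30841873)) (BT.leaf (nat_lit 30842909))))) (BT.node (nat_lit 12077248) (BT.node (nat_lit 12077120) (BT.node (nat_lit 12077056) (BT.leaf (nat_lit 30843917)) (BT.leaf (nat_lit 47061013))) (BT.node (nat_lit 12077184) (BT.leaf (nat_lit 30844177)) (BT.leaf (nat_lit 48311065)))) (BT.node (nat_lit 12077376) (BT.node (nat_lit 12077312) (BT.leaf (nat_lit 30844693)) (BT.leaf (nat_lit 47899921))) (BT.node (nat_lit 12077440) (BT.leaf (nat_lit 30845197)) (BT.leaf (nat_lit 50375449)))))) (BT.node (nat_lit 12078016) (BT.node (nat_lit 12077699) (BT.node (nat_lit 12077632) (BT.node (nat_lit 12077568) (BT.leaf (nat_lit 30845209)) (BT.leaf (nat_lit 31876101))) (BT.node (nat_lit 12077696) (BT.leaf (nat_lit 51085577)) (BT.leaf (nat_lit 48129285)))) (BT.node (nat_lit 12077888) (BT.node (nat_lit 12077760) (BT.leaf (nat_lit 786060)) (BT.leaf (nat_lit 34325009))) (BT.node (nat_lit 12077952) (BT.leaf (nat_lit 35235081)) (BT.leaf (nat_lit 30846497))))) (BT.node (nat_lit 12078272) (BT.node (nat_lit 12078144) (BT.node (nat_lit 12078080) (BT.leaf (nat_lit 32683549)) (BT.leaf (nat_lit 30848265))) (BT.node (nat_lit 12078208) (BT.leaf (nat_lit 48152069)) (BT.leaf (nat_lit 35235353)))) (BT.node (nat_lit 12078342) (BT.node (nat_lit 12078336) (BT.leaf (nat_lit 42965781)) (BT.leaf (nat_lit 49011461))) (BT.node (nat_lit 12078343) (BT.leaf (nat_lit 766668)) (BT.leaf (nat_lit 766668)))))))) (BT.node (nat_lit 12080768) (BT.node (nat_lit 12079616) (BT.node (nat_lit 12079040) (BT.node (nat_lit 12078784) (BT.node (nat_lit 12078528) (BT.node (nat_lit 12078464) (BT.leaf (nat_lit 46895877)) (BT.leaf (nat_lit 50269729))) (BT.node (nat_lit 12078720) (BT.leaf (nat_lit 35202325)) (BT.leaf (nat_lit 30851861)))) (BT.node (nat_lit 12078912) (BT.node (nat_lit 12078848) (BT.leaf (nat_lit 34329373)) (BT.leaf (nat_lit 47761433))) (BT.node (nat_lit 12078976) (BT.leaf (nat_lit 30857221)) (BT.leaf (nat_lit 30853649))))) (BT.node (nat_lit 12079296) (BT.node (nat_lit 12079168) (BT.node (nat_lit 12079104) (BT.leaf (nat_lit 30853653)) (BT.leaf (nat_lit 49358341))) (BT.node (nat_lit 12079232) (BT.leaf (nat_lit 30854417)) (BT.leaf (nat_lit 47299077)))) (BT.node (nat_lit 12079424) (BT.node (nat_lit 12079360) (BT.leaf (nat_lit 30854929)) (BT.leaf (nat_lit 40761377))) (BT.node (nat_lit 12079488) (BT.leaf (nat_lit 47312673)) (BT.leaf (nat_lit 39597857)))))) (BT.node (nat_lit 12080256) (BT.node (nat_lit 12079872) (BT.node (nat_lit 12079744) (BT.node (nat_lit 12079680) (BT.leaf (nat_lit 51888401)) (BT.leaf (nat_lit 48318489))) (BT.node (nat_lit 12079808) (BT.leaf (nat_lit 30856465)) (BT.leaf (nat_lit 30856729)))) (BT.node (nat_lit 12080128) (BT.node (nat_lit 12079936) (BT.leaf (nat_lit 38346273)) (BT.leaf (nat_lit 30857233))) (BT.node (nat_lit 12080192) (BT.leaf (nat_lit 30858005)) (BT.leaf (nat_lit 33808133))))) (BT.node (nat_lit 12080512) (BT.node (nat_lit 12080384) (BT.node (nat_lit 12080320) (BT.leaf (nat_lit 30858249)) (BT.leaf (nat_lit 30858517))) (BT.node (nat_lit 12080448) (BT.leaf (nat_lit 30858773)) (BT.leaf (nat_lit 42308641)))) (BT.node (nat_lit 12080640) (BT.node (nat_lit 12080576) (BT.leaf (nat_lit 30859537)) (BT.leaf (nat_lit 41321229))) (BT.node (nat_lit 12080704) (BT.leaf (nat_lit 51289625)) (BT.leaf (nat_lit 30860305))))))) (BT.node (nat_lit 12081792) (BT.node (nat_lit 12081280) (BT.node (nat_lit 12081024) (BT.node (nat_lit 12080896) (BT.node (nat_lit 12080832) (BT.leaf (nat_lit 30860561)) (BT.leaf (nat_lit 49076497))) (BT.node (nat_lit 12080960) (BT.leaf (nat_lit 34719253)) (BT.leaf (nat_lit 31187985)))) (BT.node (nat_lit 12081152) (BT.node (nat_lit 12081088) (BT.leaf (nat_lit 30861593)) (BT.leaf (nat_lit 34357269))) (BT.node (nat_lit 12081216) (BT.leaf (nat_lit 50165793)) (BT.leaf (nat_lit 45983749))))) (BT.node (nat_lit 12081536) (BT.node (nat_lit 12081408) (BT.node (nat_lit 12081344) (BT.leaf (nat_lit 49190677)) (BT.leaf (nat_lit 30865689))) (BT.node (nat_lit 12081472) (BT.leaf (nat_lit 30866185)) (BT.leaf (nat_lit 34336017)))) (BT.node (nat_lit 12081664) (BT.node (nat_lit 12081600) (BT.leaf (nat_lit 34335761)) (BT.leaf (nat_lit 30866969))) (BT.node (nat_lit 12081728) (BT.leaf (nat_lit 33807133)) (BT.leaf (nat_lit 33806873)))))) (BT.node (nat_lit 12082368) (BT.node (nat_lit 12082112) (BT.node (nat_lit 12081920) (BT.node (nat_lit 12081856) (BT.leaf (nat_lit 34944537)) (BT.leaf (nat_lit 34051853))) (BT.node (nat_lit 12082048) (BT.leaf (nat_lit 34051873)) (BT.leaf (nat_lit 43414037)))) (BT.node (nat_lit 12082240) (BT.node (nat_lit 12082176) (BT.leaf (nat_lit 34339349)) (BT.leaf (nat_lit 35215893))) (BT.node (nat_lit 12082304) (BT.leaf (nat_lit 49525017)) (BT.leaf (nat_lit 50860313))))) (BT.node (nat_lit 12082688) (BT.node (nat_lit 12082560) (BT.node (nat_lit 12082496) (BT.leaf (nat_lit 30869521)) (BT.leaf (nat_lit 49152005))) (BT.node (nat_lit 12082624) (BT.leaf (nat_lit 48000793)) (BT.leaf (nat_lit 31433229)))) (BT.node (nat_lit 12082816) (BT.node (nat_lit 12082752) (BT.leaf (nat_lit 34795013)) (BT.leaf (nat_lit 48172053))) (BT.node (nat_lit 12082880) (BT.leaf (nat_lit 48270877)) (BT.leaf (nat_lit 48270357))))))))) (BT.node (nat_lit 12087173) (BT.node (nat_lit 12085184) (BT.node (nat_lit 12084096) (BT.node (nat_lit 12083520) (BT.node (nat_lit 12083200) (BT.node (nat_lit 12083072) (BT.node (nat_lit 12083008) (BT.leaf (nat_lit 47336461)) (BT.leaf (nat_lit 47368709))) (BT.node (nat_lit 12083136) (BT.leaf (nat_lit 47336473)) (BT.leaf (nat_lit 33664285)))) (BT.node (nat_lit 12083392) (BT.node (nat_lit 12083328) (BT.leaf (nat_lit 35290657)) (BT.leaf (nat_lit 49031433))) (BT.node (nat_lit 12083456) (BT.leaf (nat_lit 48737821)) (BT.leaf (nat_lit 42683417))))) (BT.node (nat_lit 12083840) (BT.node (nat_lit 12083712) (BT.node (nat_lit 12083584) (BT.leaf (nat_lit 36375813)) (BT.leaf (nat_lit 48334105))) (BT.node (nat_lit 12083776) (BT.leaf (nat_lit 49008405)) (BT.leaf (nat_lit 31129621)))) (BT.node (nat_lit 12083968) (BT.node (nat_lit 12083904) (BT.leaf (nat_lit 47723541)) (BT.leaf (nat_lit 30876701))) (BT.node (nat_lit 12084032) (BT.leaf (nat_lit 51454221)) (BT.leaf (nat_lit 51074069)))))) (BT.node (nat_lit 12084608) (BT.node (nat_lit 12084352) (BT.node (nat_lit 12084224) (BT.node (nat_lit 12084160) (BT.leaf (nat_lit 30877201)) (BT.leaf (nat_lit 50609181))) (BT.node (nat_lit 12084288) (BT.leaf (nat_lit 30877717)) (BT.leaf (nat_lit 36851225)))) (BT.node (nat_lit 12084480) (BT.node (nat_lit 12084416) (BT.leaf (nat_lit 34447117)) (BT.leaf (nat_lit 34447121))) (BT.node (nat_lit 12084544) (BT.leaf (nat_lit 51994889)) (BT.leaf (nat_lit 51967249))))) (BT.node (nat_lit 12084864) (BT.node (nat_lit 12084736) (BT.node (nat_lit 12084672) (BT.leaf (nat_lit 30879253)) (BT.leaf (nat_lit 48336921))) (BT.node (nat_lit 12084800) (BT.leaf (nat_lit 30879761)) (BT.leaf (nat_lit 44754965)))) (BT.node (nat_lit 12085056) (BT.node (nat_lit 12084992) (BT.leaf (nat_lit 30883089)) (BT.leaf (nat_lit 38145805))) (BT.node (nat_lit 12085120) (BT.leaf (nat_lit 30883857)) (BT.leaf (nat_lit 30884117))))))) (BT.node (nat_lit 12086144) (BT.node (nat_lit 12085632) (BT.node (nat_lit 12085440) (BT.node (nat_lit 12085312) (BT.node (nat_lit 12085248) (BT.leaf (nat_lit 30885637)) (BT.leaf (nat_lit 30885653))) (BT.node (nat_lit 12085376) (BT.leaf (nat_lit 50812449)) (BT.leaf (nat_lit 30886413)))) (BT.node (nat_lit 12085568) (BT.node (nat_lit 12085504) (BT.leaf (nat_lit 30886429)) (BT.leaf (nat_lit 39390225))) (BT.node (nat_lit 12085572) (BT.leaf (nat_lit 31957013)) (BT.leaf (nat_lit 766680))))) (BT.node (nat_lit 12085888) (BT.node (nat_lit 12085760) (BT.node (nat_lit 12085696) (BT.leaf (nat_lit 48342297)) (BT.leaf (nat_lit 46935569))) (BT.node (nat_lit 12085824) (BT.leaf (nat_lit 48850965)) (BT.leaf (nat_lit 35371037)))) (BT.node (nat_lit 12086016) (BT.node (nat_lit 12085952) (BT.leaf (nat_lit 30887953)) (BT.leaf (nat_lit 48850969))) (BT.node (nat_lit 12086080) (BT.leaf (nat_lit 44775709)) (BT.leaf (nat_lit 30888985)))))) (BT.node (nat_lit 12086784) (BT.node (nat_lit 12086400) (BT.node (nat_lit 12086272) (BT.node (nat_lit 12086208) (BT.leaf (nat_lit 30889237)) (BT.leaf (nat_lit 34354973))) (BT.node (nat_lit 12086336) (BT.leaf (nat_lit 30890261)) (BT.leaf (nat_lit 30891797)))) (BT.node (nat_lit 12086656) (BT.node (nat_lit 12086592) (BT.leaf (nat_lit 30890521)) (BT.leaf (nat_lit 30891025))) (BT.node (nat_lit 12086720) (BT.leaf (nat_lit 30892049)) (BT.leaf (nat_lit 31806749))))) (BT.node (nat_lit 12087040) (BT.node (nat_lit 12086912) (BT.node (nat_lit 12086848) (BT.leaf (nat_lit 48480529)) (BT.leaf (nat_lit 30895125))) (BT.node (nat_lit 12086976) (BT.leaf (nat_lit 34333469)) (BT.leaf (nat_lit 30896405)))) (BT.node (nat_lit 12087168) (BT.node (nat_lit 12087104) (BT.leaf (nat_lit 34359313)) (BT.leaf (nat_lit 31815189))) (BT.node (nat_lit 12087170) (BT.leaf (nat_lit 51472645)) (BT.leaf (nat_lit 778864)))))))) (BT.node (nat_lit 12089800) (BT.node (nat_lit 12088448) (BT.node (nat_lit 12087872) (BT.node (nat_lit 12087552) (BT.node (nat_lit 12087424) (BT.node (nat_lit 12087232) (BT.leaf (nat_lit 778864)) (BT.leaf (nat_lit 30898201))) (BT.node (nat_lit 12087488) (BT.leaf (nat_lit 30898713)) (BT.leaf (nat_lit 30901017)))) (BT.node (nat_lit 12087744) (BT.node (nat_lit 12087616) (BT.leaf (nat_lit 50556433)) (BT.leaf (nat_lit 30902049))) (BT.node (nat_lit 12087808) (BT.leaf (nat_lit 35175701)) (BT.leaf (nat_lit 47330081))))) (BT.node (nat_lit 12088192) (BT.node (nat_lit 12088000) (BT.node (nat_lit 12087936) (BT.leaf (nat_lit 30901785)) (BT.leaf (nat_lit 48332821))) (BT.node (nat_lit 12088064) (BT.leaf (nat_lit 48351769)) (BT.leaf (nat_lit 30902293)))) (BT.node (nat_lit 12088320) (BT.node (nat_lit 12088256) (BT.leaf (nat_lit 30902549)) (BT.leaf (nat_lit 49639445))) (BT.node (nat_lit 12088384) (BT.leaf (nat_lit 30903569)) (BT.leaf (nat_lit 30903573)))))) (BT.node (nat_lit 12089216) (BT.node (nat_lit 12088768) (BT.node (nat_lit 12088576) (BT.node (nat_lit 12088512) (BT.leaf (nat_lit 30903825)) (BT.leaf (nat_lit 30903829))) (BT.node (nat_lit 12088704) (BT.leaf (nat_lit 47329569)) (BT.leaf (nat_lit 30906133)))) (BT.node (nat_lit 12089024) (BT.node (nat_lit 12088960) (BT.leaf (nat_lit 30906385)) (BT.leaf (nat_lit 49079557))) (BT.node (nat_lit 12089152) (BT.leaf (nat_lit 46084101)) (BT.leaf (nat_lit 50840849))))) (BT.node (nat_lit 12089600) (BT.node (nat_lit 12089344) (BT.node (nat_lit 12089280) (BT.leaf (nat_lit 30911761)) (BT.leaf (nat_lit 32865825))) (BT.node (nat_lit 12089408) (BT.leaf (nat_lit 32914457)) (BT.leaf (nat_lit 32914461)))) (BT.node (nat_lit 12089728) (BT.node (nat_lit 12089664) (BT.leaf (nat_lit 34958853)) (BT.leaf (nat_lit 31115029))) (BT.node (nat_lit 12089792) (BT.leaf (nat_lit 50584337)) (BT.leaf (nat_lit 47790873))))))) (BT.node (nat_lit 12091200) (BT.node (nat_lit 12090496) (BT.node (nat_lit 12090176) (BT.node (nat_lit 12090048) (BT.node (nat_lit 12089920) (BT.leaf (nat_lit 796176)) (BT.leaf (nat_lit 30915089))) (BT.node (nat_lit 12090112) (BT.leaf (nat_lit 47790861)) (BT.leaf (nat_lit 30915105)))) (BT.node (nat_lit 12090304) (BT.node (nat_lit 12090240) (BT.leaf (nat_lit 30916633)) (BT.leaf (nat_lit 30916637))) (BT.node (nat_lit 12090368) (BT.leaf (nat_lit 30916889)) (BT.leaf (nat_lit 30916893))))) (BT.node (nat_lit 12090816) (BT.node (nat_lit 12090688) (BT.node (nat_lit 12090624) (BT.leaf (nat_lit 34370581)) (BT.leaf (nat_lit 30917405))) (BT.node (nat_lit 12090752) (BT.leaf (nat_lit 45504021)) (BT.leaf (nat_lit 30917653)))) (BT.node (nat_lit 12091072) (BT.node (nat_lit 12090880) (BT.leaf (nat_lit 30918929)) (BT.leaf (nat_lit 30919189))) (BT.node (nat_lit 12091136) (BT.leaf (nat_lit 32143905)) (BT.leaf (nat_lit 33843233)))))) (BT.node (nat_lit 12091840) (BT.node (nat_lit 12091520) (BT.node (nat_lit 12091328) (BT.node (nat_lit 12091264) (BT.leaf (nat_lit 30920981)) (BT.leaf (nat_lit 30920989))) (BT.node (nat_lit 12091392) (BT.leaf (nat_lit 36054277)) (BT.leaf (nat_lit 30921501)))) (BT.node (nat_lit 12091648) (BT.node (nat_lit 12091584) (BT.leaf (nat_lit 31351573)) (BT.leaf (nat_lit 50195985))) (BT.node (nat_lit 12091776) (BT.leaf (nat_lit 33761801)) (BT.leaf (nat_lit 30923797))))) (BT.node (nat_lit 12092224) (BT.node (nat_lit 12092096) (BT.node (nat_lit 12092032) (BT.leaf (nat_lit 34793749)) (BT.leaf (nat_lit 39337237))) (BT.node (nat_lit 12092160) (BT.leaf (nat_lit 30925077)) (BT.leaf (nat_lit 30925585)))) (BT.node (nat_lit 12092352) (BT.node (nat_lit 12092288) (BT.leaf (nat_lit 47555617)) (BT.leaf (nat_lit 30928401))) (BT.node (nat_lit 12092416) (BT.leaf (nat_lit 49659665)) (BT.leaf (nat_lit 47010057)))))))))) (BT.node (nat_lit 12101312) (BT.node (nat_lit 12096896) (BT.node (nat_lit 12094656) (BT.node (nat_lit 12093632) (BT.node (nat_lit 12093056) (BT.node (nat_lit 12092736) (BT.node (nat_lit 12092608) (BT.node (nat_lit 12092544) (BT.leaf (nat_lit 49659657)) (BT.leaf (nat_lit 45827081))) (BT.node (nat_lit 12092672) (BT.leaf (nat_lit 30929437)) (BT.leaf (nat_lit 50028825)))) (BT.node (nat_lit 12092928) (BT.node (nat_lit 12092864) (BT.leaf (nat_lit 34375445)) (BT.leaf (nat_lit 38883613))) (BT.node (nat_lit 12092992) (BT.leaf (nat_lit 49072673)) (BT.leaf (nat_lit 45119245))))) (BT.node (nat_lit 12093312) (BT.node (nat_lit 12093184) (BT.node (nat_lit 12093120) (BT.leaf (nat_lit 38888713)) (BT.leaf (nat_lit 48372249))) (BT.node (nat_lit 12093248) (BT.leaf (nat_lit 30933537)) (BT.leaf (nat_lit 48846869)))) (BT.node (nat_lit 12093504) (BT.node (nat_lit 12093440) (BT.leaf (nat_lit 38889749)) (BT.leaf (nat_lit 30934033))) (BT.node (nat_lit 12093568) (BT.leaf (nat_lit 48374301)) (BT.leaf (nat_lit 42157581)))))) (BT.node (nat_lit 12094144) (BT.node (nat_lit 12093888) (BT.node (nat_lit 12093760) (BT.node (nat_lit 12093696) (BT.leaf (nat_lit 30934049)) (BT.leaf (nat_lit 30935069))) (BT.node (nat_lit 12093824) (BT.leaf (nat_lit 30935065)) (BT.leaf (nat_lit 46882833)))) (BT.node (nat_lit 12094016) (BT.node (nat_lit 12093952) (BT.leaf (nat_lit 30935325)) (BT.leaf (nat_lit 30936089))) (BT.node (nat_lit 12094080) (BT.leaf (nat_lit 41481249)) (BT.leaf (nat_lit 30936601))))) (BT.node (nat_lit 12094400) (BT.node (nat_lit 12094272) (BT.node (nat_lit 12094208) (BT.leaf (nat_lit 30936605)) (BT.leaf (nat_lit 30937105))) (BT.node (nat_lit 12094336) (BT.leaf (nat_lit 39523077)) (BT.leaf (nat_lit 35315973)))) (BT.node (nat_lit 12094528) (BT.node (nat_lit 12094464) (BT.leaf (nat_lit 30938645)) (BT.leaf (nat_lit 49681433))) (BT.node (nat_lit 12094592) (BT.leaf (nat_lit 30939165)) (BT.leaf (nat_lit 30939929))))))) (BT.node (nat_lit 12095808) (BT.node (nat_lit 12095296) (BT.node (nat_lit 12094912) (BT.node (nat_lit 12094784) (BT.node (nat_lit 12094720) (BT.leaf (nat_lit 45826329)) (BT.leaf (nat_lit 45826333))) (BT.node (nat_lit 12094848) (BT.leaf (nat_lit 44885525)) (BT.leaf (nat_lit 30943253)))) (BT.node (nat_lit 12095104) (BT.node (nat_lit 12094976) (BT.leaf (nat_lit 41488389)) (BT.leaf (nat_lit 47885061))) (BT.node (nat_lit 12095168) (BT.leaf (nat_lit 50373409)) (BT.leaf (nat_lit 32859161))))) (BT.node (nat_lit 12095552) (BT.node (nat_lit 12095424) (BT.node (nat_lit 12095360) (BT.leaf (nat_lit 50526753)) (BT.leaf (nat_lit 32859169))) (BT.node (nat_lit 12095488) (BT.leaf (nat_lit 48381981)) (BT.leaf (nat_lit 30950665)))) (BT.node (nat_lit 12095680) (BT.node (nat_lit 12095616) (BT.leaf (nat_lit 43264033)) (BT.leaf (nat_lit 47315745))) (BT.node (nat_lit 12095744) (BT.leaf (nat_lit 30951693)) (BT.leaf (nat_lit 52141329)))))) (BT.node (nat_lit 12096384) (BT.node (nat_lit 12096064) (BT.node (nat_lit 12095873) (BT.node (nat_lit 12095872) (BT.leaf (nat_lit 36874517)) (BT.leaf (nat_lit 30952473))) (BT.node (nat_lit 12095936) (BT.leaf (nat_lit 812716)) (BT.leaf (nat_lit 30952477)))) (BT.node (nat_lit 12096192) (BT.node (nat_lit 12096128) (BT.leaf (nat_lit 42285833)) (BT.leaf (nat_lit 48036877))) (BT.node (nat_lit 12096256) (BT.leaf (nat_lit 48036885)) (BT.leaf (nat_lit 34387477))))) (BT.node (nat_lit 12096640) (BT.node (nat_lit 12096512) (BT.node (nat_lit 12096448) (BT.leaf (nat_lit 48036873)) (BT.leaf (nat_lit 30958097))) (BT.node (nat_lit 12096576) (BT.leaf (nat_lit 30958101)) (BT.leaf (nat_lit 48386589)))) (BT.node (nat_lit 12096768) (BT.node (nat_lit 12096704) (BT.leaf (nat_lit 30959109)) (BT.leaf (nat_lit 44264737))) (BT.node (nat_lit 12096832) (BT.leaf (nat_lit 30959381)) (BT.leaf (nat_lit 47284757)))))))) (BT.node (nat_lit 12099072) (BT.node (nat_lit 12097984) (BT.node (nat_lit 12097472) (BT.node (nat_lit 12097152) (BT.node (nat_lit 12097024) (BT.node (nat_lit 12096960) (BT.leaf (nat_lit 31447569)) (BT.leaf (nat_lit 35233305))) (BT.node (nat_lit 12097088) (BT.leaf (nat_lit 41696517)) (BT.leaf (nat_lit 48040205)))) (BT.node (nat_lit 12097280) (BT.node (nat_lit 12097216) (BT.leaf (nat_lit 30962709)) (BT.leaf (nat_lit 30962973))) (BT.node (nat_lit 12097344) (BT.leaf (nat_lit 30963745)) (BT.leaf (nat_lit 47120157))))) (BT.node (nat_lit 12097728) (BT.node (nat_lit 12097600) (BT.node (nat_lit 12097536) (BT.leaf (nat_lit 30964761)) (BT.leaf (nat_lit 30966533))) (BT.node (nat_lit 12097664) (BT.leaf (nat_lit 30967317)) (BT.leaf (nat_lit 33320725)))) (BT.node (nat_lit 12097856) (BT.node (nat_lit 12097792) (BT.leaf (nat_lit 34397729)) (BT.leaf (nat_lit 45238549))) (BT.node (nat_lit 12097920) (BT.leaf (nat_lit 48960533)) (BT.leaf (nat_lit 30967825)))))) (BT.node (nat_lit 12098496) (BT.node (nat_lit 12098240) (BT.node (nat_lit 12098112) (BT.node (nat_lit 12098048) (BT.leaf (nat_lit 45237781)) (BT.leaf (nat_lit 34996493))) (BT.node (nat_lit 12098176) (BT.leaf (nat_lit 32129029)) (BT.leaf (nat_lit 43453701)))) (BT.node (nat_lit 12098368) (BT.node (nat_lit 12098304) (BT.leaf (nat_lit 30968349)) (BT.leaf (nat_lit 34997529))) (BT.node (nat_lit 12098432) (BT.leaf (nat_lit 40102929)) (BT.leaf (nat_lit 49241353))))) (BT.node (nat_lit 12098816) (BT.node (nat_lit 12098688) (BT.node (nat_lit 12098560) (BT.leaf (nat_lit 34997517)) (BT.leaf (nat_lit 30968609))) (BT.node (nat_lit 12098752) (BT.leaf (nat_lit 39168261)) (BT.leaf (nat_lit 49413149)))) (BT.node (nat_lit 12098944) (BT.node (nat_lit 12098880) (BT.leaf (nat_lit 30972193)) (BT.leaf (nat_lit 30972689))) (BT.node (nat_lit 12099008) (BT.leaf (nat_lit 30973713)) (BT.leaf (nat_lit 30975001))))))) (BT.node (nat_lit 12100096) (BT.node (nat_lit 12099456) (BT.node (nat_lit 12099328) (BT.node (nat_lit 12099200) (BT.node (nat_lit 12099136) (BT.leaf (nat_lit 36021265)) (BT.leaf (nat_lit 30976533))) (BT.node (nat_lit 12099264) (BT.leaf (nat_lit 30976537)) (BT.leaf (nat_lit 30976541)))) (BT.node (nat_lit 12099392) (BT.node (nat_lit 12099333) (BT.leaf (nat_lit 34399505)) (BT.leaf (nat_lit 805544))) (BT.node (nat_lit 12099398) (BT.leaf (nat_lit 34399249)) (BT.leaf (nat_lit 805548))))) (BT.node (nat_lit 12099712) (BT.node (nat_lit 12099584) (BT.node (nat_lit 12099520) (BT.leaf (nat_lit 30977053)) (BT.leaf (nat_lit 35106585))) (BT.node (nat_lit 12099648) (BT.leaf (nat_lit 43798049)) (BT.leaf (nat_lit 30977821)))) (BT.node (nat_lit 12099968) (BT.node (nat_lit 12099904) (BT.leaf (nat_lit 43619093)) (BT.leaf (nat_lit 34218249))) (BT.node (nat_lit 12100032) (BT.leaf (nat_lit 33820181)) (BT.leaf (nat_lit 50237717)))))) (BT.node (nat_lit 12100736) (BT.node (nat_lit 12100480) (BT.node (nat_lit 12100352) (BT.node (nat_lit 12100160) (BT.leaf (nat_lit 30981665)) (BT.leaf (nat_lit 30979353))) (BT.node (nat_lit 12100416) (BT.leaf (nat_lit 51901201)) (BT.leaf (nat_lit 30979865)))) (BT.node (nat_lit 12100608) (BT.node (nat_lit 12100544) (BT.leaf (nat_lit 30979869)) (BT.leaf (nat_lit 51901205))) (BT.node (nat_lit 12100672) (BT.leaf (nat_lit 36930321)) (BT.leaf (nat_lit 35812377))))) (BT.node (nat_lit 12101056) (BT.node (nat_lit 12100864) (BT.node (nat_lit 12100800) (BT.leaf (nat_lit 35812381)) (BT.leaf (nat_lit 37139229))) (BT.node (nat_lit 12100928) (BT.leaf (nat_lit 48586785)) (BT.leaf (nat_lit 30981917)))) (BT.node (nat_lit 12101184) (BT.node (nat_lit 12101120) (BT.leaf (nat_lit 48223777)) (BT.leaf (nat_lit 30985745))) (BT.node (nat_lit 12101248) (BT.leaf (nat_lit 31409413)) (BT.leaf (nat_lit 30986513))))))))) (BT.node (nat_lit 12106048) (BT.node (nat_lit 12103488) (BT.node (nat_lit 12102400) (BT.node (nat_lit 12101888) (BT.node (nat_lit 12101568) (BT.node (nat_lit 12101440) (BT.node (nat_lit 12101376) (BT.leaf (nat_lit 48238113)) (BT.leaf (nat_lit 41488417))) (BT.node (nat_lit 12101504) (BT.leaf (nat_lit 30987537)) (BT.leaf (nat_lit 45291289)))) (BT.node (nat_lit 12101760) (BT.node (nat_lit 12101696) (BT.leaf (nat_lit 30988057)) (BT.leaf (nat_lit 49371921))) (BT.node (nat_lit 12101824) (BT.leaf (nat_lit 30988309)) (BT.leaf (nat_lit 48922629))))) (BT.node (nat_lit 12102144) (BT.node (nat_lit 12102016) (BT.node (nat_lit 12101952) (BT.leaf (nat_lit 30995233)) (BT.leaf (nat_lit 30989593))) (BT.node (nat_lit 12102080) (BT.leaf (nat_lit 30989597)) (BT.leaf (nat_lit 30989601)))) (BT.node (nat_lit 12102272) (BT.node (nat_lit 12102208) (BT.leaf (nat_lit 30989841)) (BT.leaf (nat_lit 48517657))) (BT.node (nat_lit 12102336) (BT.leaf (nat_lit 30990097)) (BT.leaf (nat_lit 30990101)))))) (BT.node (nat_lit 12102912) (BT.node (nat_lit 12102656) (BT.node (nat_lit 12102528) (BT.node (nat_lit 12102464) (BT.leaf (nat_lit 44828933)) (BT.leaf (nat_lit 30991881))) (BT.node (nat_lit 12102592) (BT.leaf (nat_lit 30991901)) (BT.leaf (nat_lit 30992405)))) (BT.node (nat_lit 12102784) (BT.node (nat_lit 12102720) (BT.leaf (nat_lit 30992409)) (BT.leaf (nat_lit 30992413))) (BT.node (nat_lit 12102848) (BT.leaf (nat_lit 30993941)) (BT.leaf (nat_lit 43551769))))) (BT.node (nat_lit 12103168) (BT.node (nat_lit 12103040) (BT.node (nat_lit 12102976) (BT.leaf (nat_lit 45181717)) (BT.leaf (nat_lit 30995741))) (BT.node (nat_lit 12103104) (BT.leaf (nat_lit 31789829)) (BT.leaf (nat_lit 49210913)))) (BT.node (nat_lit 12103360) (BT.node (nat_lit 12103296) (BT.leaf (nat_lit 49383457)) (BT.leaf (nat_lit 37602841))) (BT.node (nat_lit 12103424) (BT.leaf (nat_lit 39309077)) (BT.leaf (nat_lit 31000085))))))) (BT.node (nat_lit 12104704) (BT.node (nat_lit 12104064) (BT.node (nat_lit 12103808) (BT.node (nat_lit 12103616) (BT.node (nat_lit 12103552) (BT.leaf (nat_lit 34407185)) (BT.leaf (nat_lit 32828705))) (BT.node (nat_lit 12103680) (BT.leaf (nat_lit 40774917)) (BT.leaf (nat_lit 37603093)))) (BT.node (nat_lit 12103936) (BT.node (nat_lit 12103872) (BT.leaf (nat_lit 31003657)) (BT.leaf (nat_lit 31003677))) (BT.node (nat_lit 12104000) (BT.leaf (nat_lit 31003673)) (BT.leaf (nat_lit 48071441))))) (BT.node (nat_lit 12104448) (BT.node (nat_lit 12104256) (BT.node (nat_lit 12104128) (BT.leaf (nat_lit 31006481)) (BT.leaf (nat_lit 31436065))) (BT.node (nat_lit 12104320) (BT.leaf (nat_lit 48417309)) (BT.leaf (nat_lit 47551493)))) (BT.node (nat_lit 12104576) (BT.node (nat_lit 12104512) (BT.leaf (nat_lit 31436549)) (BT.leaf (nat_lit 31007773))) (BT.node (nat_lit 12104640) (BT.leaf (nat_lit 31008017)) (BT.leaf (nat_lit 31009305)))))) (BT.node (nat_lit 12105280) (BT.node (nat_lit 12104960) (BT.node (nat_lit 12104832) (BT.node (nat_lit 12104768) (BT.leaf (nat_lit 31009557)) (BT.leaf (nat_lit 31010065))) (BT.node (nat_lit 12104896) (BT.leaf (nat_lit 38304773)) (BT.leaf (nat_lit 49189381)))) (BT.node (nat_lit 12105088) (BT.node (nat_lit 12105024) (BT.leaf (nat_lit 49189637)) (BT.leaf (nat_lit 31013397))) (BT.node (nat_lit 12105216) (BT.leaf (nat_lit 34410773)) (BT.leaf (nat_lit 40616213))))) (BT.node (nat_lit 12105536) (BT.node (nat_lit 12105408) (BT.node (nat_lit 12105344) (BT.leaf (nat_lit 31014673)) (BT.leaf (nat_lit 34789141))) (BT.node (nat_lit 12105472) (BT.leaf (nat_lit 50784277)) (BT.leaf (nat_lit 34788889)))) (BT.node (nat_lit 12105792) (BT.node (nat_lit 12105600) (BT.leaf (nat_lit 50794013)) (BT.leaf (nat_lit 33824277))) (BT.node (nat_lit 12105920) (BT.leaf (nat_lit 32839457)) (BT.leaf (nat_lit 34803985)))))))) (BT.node (nat_lit 12108288) (BT.node (nat_lit 12107136) (BT.node (nat_lit 12106560) (BT.node (nat_lit 12106304) (BT.node (nat_lit 12106176) (BT.node (nat_lit 12106112) (BT.leaf (nat_lit 31020549)) (BT.leaf (nat_lit 48422149))) (BT.node (nat_lit 12106240) (BT.leaf (nat_lit 47995921)) (BT.leaf (nat_lit 43370265)))) (BT.node (nat_lit 12106432) (BT.node (nat_lit 12106368) (BT.leaf (nat_lit 47644181)) (BT.leaf (nat_lit 31024913))) (BT.node (nat_lit 12106496) (BT.leaf (nat_lit 31025681)) (BT.leaf (nat_lit 31025937))))) (BT.node (nat_lit 12106816) (BT.node (nat_lit 12106688) (BT.node (nat_lit 12106624) (BT.leaf (nat_lit 31027985)) (BT.leaf (nat_lit 31029009))) (BT.node (nat_lit 12106752) (BT.leaf (nat_lit 31035909)) (BT.leaf (nat_lit 31686925)))) (BT.node (nat_lit 12106944) (BT.node (nat_lit 12106880) (BT.leaf (nat_lit 31030545)) (BT.leaf (nat_lit 31030805))) (BT.node (nat_lit 12107008) (BT.leaf (nat_lit 31032085)) (BT.leaf (nat_lit 31031329)))))) (BT.node (nat_lit 12107776) (BT.node (nat_lit 12107520) (BT.node (nat_lit 12107392) (BT.node (nat_lit 12107328) (BT.leaf (nat_lit 31032585)) (BT.leaf (nat_lit 47835161))) (BT.node (nat_lit 12107456) (BT.leaf (nat_lit 33752345)) (BT.leaf (nat_lit 34661913)))) (BT.node (nat_lit 12107648) (BT.node (nat_lit 12107584) (BT.leaf (nat_lit 31035413)) (BT.leaf (nat_lit 31035917))) (BT.node (nat_lit 12107712) (BT.leaf (nat_lit 31036437)) (BT.leaf (nat_lit 34413077))))) (BT.node (nat_lit 12108032) (BT.node (nat_lit 12107904) (BT.node (nat_lit 12107840) (BT.leaf (nat_lit 31038225)) (BT.leaf (nat_lit 35372301))) (BT.node (nat_lit 12107968) (BT.leaf (nat_lit 46838049)) (BT.leaf (nat_lit 51078433)))) (BT.node (nat_lit 12108160) (BT.node (nat_lit 12108096) (BT.leaf (nat_lit 51078689)) (BT.leaf (nat_lit 51078945))) (BT.node (nat_lit 12108224) (BT.leaf (nat_lit 51077921)) (BT.leaf (nat_lit 51078149))))))) (BT.node (nat_lit 12109696) (BT.node (nat_lit 12109184) (BT.node (nat_lit 12108672) (BT.node (nat_lit 12108544) (BT.node (nat_lit 12108416) (BT.leaf (nat_lit 39548697)) (BT.leaf (nat_lit 48600341))) (BT.node (nat_lit 12108608) (BT.leaf (nat_lit 49226517)) (BT.leaf (nat_lit 31046409)))) (BT.node (nat_lit 12109056) (BT.node (nat_lit 12108736) (BT.leaf (nat_lit 31046413)) (BT.leaf (nat_lit 31046425))) (BT.node (nat_lit 12109120) (BT.leaf (nat_lit 31046941)) (BT.leaf (nat_lit 32949281))))) (BT.node (nat_lit 12109440) (BT.node (nat_lit 12109312) (BT.node (nat_lit 12109248) (BT.leaf (nat_lit 31047449)) (BT.leaf (nat_lit 31047705))) (BT.node (nat_lit 12109376) (BT.leaf (nat_lit 31047709)) (BT.leaf (nat_lit 38034713)))) (BT.node (nat_lit 12109508) (BT.node (nat_lit 12109504) (BT.leaf (nat_lit 38034717)) (BT.leaf (nat_lit 31048221))) (BT.node (nat_lit 12109568) (BT.leaf (nat_lit 771768)) (BT.leaf (nat_lit 48505861)))))) (BT.node (nat_lit 12110208) (BT.node (nat_lit 12109952) (BT.node (nat_lit 12109824) (BT.node (nat_lit 12109760) (BT.leaf (nat_lit 32594457)) (BT.leaf (nat_lit 46462749))) (BT.node (nat_lit 12109888) (BT.leaf (nat_lit 31274517)) (BT.leaf (nat_lit 46800901)))) (BT.node (nat_lit 12110080) (BT.node (nat_lit 12110016) (BT.leaf (nat_lit 50775309)) (BT.leaf (nat_lit 48666637))) (BT.node (nat_lit 12110144) (BT.leaf (nat_lit 46564885)) (BT.leaf (nat_lit 46334469))))) (BT.node (nat_lit 12110464) (BT.node (nat_lit 12110336) (BT.node (nat_lit 12110272) (BT.leaf (nat_lit 31054097)) (BT.leaf (nat_lit 51510033))) (BT.node (nat_lit 12110400) (BT.leaf (nat_lit 51509777)) (BT.leaf (nat_lit 31054361)))) (BT.node (nat_lit 12110592) (BT.node (nat_lit 12110528) (BT.leaf (nat_lit 31054365)) (BT.leaf (nat_lit 33390101))) (BT.node (nat_lit 12110656) (BT.leaf (nat_lit 31054609)) (BT.leaf (nat_lit 31054861))))))))))) (BT.node (nat_lit 12128512) (BT.node (nat_lit 12120128) (BT.node (nat_lit 12115392) (BT.node (nat_lit 12113152) (BT.node (nat_lit 12111872) (BT.node (nat_lit 12111240) (BT.node (nat_lit 12111040) (BT.node (nat_lit 12110912) (BT.node (nat_lit 12110784) (BT.leaf (nat_lit 31054873)) (BT.leaf (nat_lit 49934609))) (BT.node (nat_lit 12110976) (BT.leaf (nat_lit 49283349)) (BT.leaf (nat_lit 49286677)))) (BT.node (nat_lit 12111232) (BT.node (nat_lit 12111168) (BT.leaf (nat_lit 32303885)) (BT.leaf (nat_lit 48562721))) (BT.node (nat_lit 12111236) (BT.leaf (nat_lit 32302621)) (BT.leaf (nat_lit 760736))))) (BT.node (nat_lit 12111616) (BT.node (nat_lit 12111488) (BT.node (nat_lit 12111424) (BT.leaf (nat_lit 760736)) (BT.leaf (nat_lit 32306701))) (BT.node (nat_lit 12111552) (BT.leaf (nat_lit 31057165)) (BT.leaf (nat_lit 33000965)))) (BT.node (nat_lit 12111744) (BT.node (nat_lit 12111680) (BT.leaf (nat_lit 49266973)) (BT.leaf (nat_lit 42930969))) (BT.node (nat_lit 12111808) (BT.leaf (nat_lit 49269013)) (BT.leaf (nat_lit 31058453)))))) (BT.node (nat_lit 12112448) (BT.node (nat_lit 12112192) (BT.node (nat_lit 12112000) (BT.node (nat_lit 12111936) (BT.leaf (nat_lit 31058961)) (BT.leaf (nat_lit 50773025))) (BT.node (nat_lit 12112064) (BT.leaf (nat_lit 34498837)) (BT.leaf (nat_lit 43012109)))) (BT.node (nat_lit 12112320) (BT.node (nat_lit 12112256) (BT.leaf (nat_lit 31060513)) (BT.leaf (nat_lit 31060753))) (BT.node (nat_lit 12112384) (BT.leaf (nat_lit 31061013)) (BT.leaf (nat_lit 46361889))))) (BT.node (nat_lit 12112896) (BT.node (nat_lit 12112640) (BT.node (nat_lit 12112576) (BT.leaf (nat_lit 47907361)) (BT.leaf (nat_lit 51504401))) (BT.node (nat_lit 12112768) (BT.leaf (nat_lit 31062297)) (BT.leaf (nat_lit 34589977)))) (BT.node (nat_lit 12113024) (BT.node (nat_lit 12112960) (BT.leaf (nat_lit 31064089)) (BT.leaf (nat_lit 31064093))) (BT.node (nat_lit 12113088) (BT.leaf (nat_lit 48071201)) (BT.leaf (nat_lit 40401925))))))) (BT.node (nat_lit 12114432) (BT.node (nat_lit 12113856) (BT.node (nat_lit 12113472) (BT.node (nat_lit 12113344) (BT.node (nat_lit 12113280) (BT.leaf (nat_lit 31064857)) (BT.leaf (nat_lit 47131937))) (BT.node (nat_lit 12113408) (BT.leaf (nat_lit 31066133)) (BT.leaf (nat_lit 31068949)))) (BT.node (nat_lit 12113664) (BT.node (nat_lit 12113600) (BT.leaf (nat_lit 31070225)) (BT.leaf (nat_lit 31071001))) (BT.node (nat_lit 12113728) (BT.leaf (nat_lit 37064973)) (BT.leaf (nat_lit 46690585))))) (BT.node (nat_lit 12114176) (BT.node (nat_lit 12114048) (BT.node (nat_lit 12113984) (BT.leaf (nat_lit 52217861)) (BT.leaf (nat_lit 31072021))) (BT.node (nat_lit 12114112) (BT.leaf (nat_lit 33221405)) (BT.leaf (nat_lit 31073033)))) (BT.node (nat_lit 12114304) (BT.node (nat_lit 12114240) (BT.leaf (nat_lit 31073037)) (BT.leaf (nat_lit 31073557))) (BT.node (nat_lit 12114368) (BT.leaf (nat_lit 31073297)) (BT.leaf (nat_lit 31073809)))))) (BT.node (nat_lit 12114888) (BT.node (nat_lit 12114688) (BT.node (nat_lit 12114560) (BT.node (nat_lit 12114496) (BT.leaf (nat_lit 31073825)) (BT.leaf (nat_lit 31074325))) (BT.node (nat_lit 12114624) (BT.leaf (nat_lit 31074829)) (BT.leaf (nat_lit 31075089)))) (BT.node (nat_lit 12114816) (BT.node (nat_lit 12114752) (BT.leaf (nat_lit 34543109)) (BT.leaf (nat_lit 38168069))) (BT.node (nat_lit 12114880) (BT.leaf (nat_lit 48459549)) (BT.leaf (nat_lit 44542221))))) (BT.node (nat_lit 12115136) (BT.node (nat_lit 12115008) (BT.node (nat_lit 12114944) (BT.leaf (nat_lit 760980)) (BT.leaf (nat_lit 31075601))) (BT.node (nat_lit 12115072) (BT.leaf (nat_lit 31076633)) (BT.leaf (nat_lit 31076637)))) (BT.node (nat_lit 12115264) (BT.node (nat_lit 12115200) (BT.leaf (nat_lit 37556741)) (BT.leaf (nat_lit 34809617))) (BT.node (nat_lit 12115328) (BT.leaf (nat_lit 48461325)) (BT.leaf (nat_lit 46791189)))))))) (BT.node (nat_lit 12117888) (BT.node (nat_lit 12116672) (BT.node (nat_lit 12115968) (BT.node (nat_lit 12115648) (BT.node (nat_lit 12115520) (BT.node (nat_lit 12115456) (BT.leaf (nat_lit 31079197)) (BT.leaf (nat_lit 31079961))) (BT.node (nat_lit 12115584) (BT.leaf (nat_lit 31079965)) (BT.leaf (nat_lit 31080477)))) (BT.node (nat_lit 12115776) (BT.node (nat_lit 12115712) (BT.leaf (nat_lit 31080993)) (BT.leaf (nat_lit 46789657))) (BT.node (nat_lit 12115904) (BT.leaf (nat_lit 48903685)) (BT.leaf (nat_lit 46884369))))) (BT.node (nat_lit 12116288) (BT.node (nat_lit 12116160) (BT.node (nat_lit 12116032) (BT.leaf (nat_lit 51443473)) (BT.leaf (nat_lit 46400025))) (BT.node (nat_lit 12116224) (BT.leaf (nat_lit 31083549)) (BT.leaf (nat_lit 31083553)))) (BT.node (nat_lit 12116544) (BT.node (nat_lit 12116352) (BT.leaf (nat_lit 48304401)) (BT.leaf (nat_lit 51461137))) (BT.node (nat_lit 12116608) (BT.leaf (nat_lit 39168285)) (BT.leaf (nat_lit 39168265)))))) (BT.node (nat_lit 12117376) (BT.node (nat_lit 12116992) (BT.node (nat_lit 12116800) (BT.node (nat_lit 12116736) (BT.leaf (nat_lit 43838981)) (BT.leaf (nat_lit 31198749))) (BT.node (nat_lit 12116928) (BT.leaf (nat_lit 46383881)) (BT.leaf (nat_lit 31088665)))) (BT.node (nat_lit 12117248) (BT.node (nat_lit 12117184) (BT.leaf (nat_lit 31088669)) (BT.leaf (nat_lit 31090201))) (BT.node (nat_lit 12117312) (BT.leaf (nat_lit 33129233)) (BT.leaf (nat_lit 31091225))))) (BT.node (nat_lit 12117632) (BT.node (nat_lit 12117504) (BT.node (nat_lit 12117440) (BT.leaf (nat_lit 31091229)) (BT.leaf (nat_lit 46772497))) (BT.node (nat_lit 12117568) (BT.leaf (nat_lit 33075465)) (BT.leaf (nat_lit 31091989)))) (BT.node (nat_lit 12117760) (BT.node (nat_lit 12117633) (BT.leaf (nat_lit 42208801)) (BT.leaf (nat_lit 767304))) (BT.node (nat_lit 12117824) (BT.leaf (nat_lit 34904069)) (BT.leaf (nat_lit 31092497))))))) (BT.node (nat_lit 12119104) (BT.node (nat_lit 12118400) (BT.node (nat_lit 12118144) (BT.node (nat_lit 12118016) (BT.node (nat_lit 12117952) (BT.leaf (nat_lit 34188821)) (BT.leaf (nat_lit 31092513))) (BT.node (nat_lit 12118080) (BT.leaf (nat_lit 31093789)) (BT.leaf (nat_lit 31093769)))) (BT.node (nat_lit 12118272) (BT.node (nat_lit 12118208) (BT.leaf (nat_lit 31094037)) (BT.leaf (nat_lit 47477773))) (BT.node (nat_lit 12118336) (BT.leaf (nat_lit 47477785)) (BT.leaf (nat_lit 33632533))))) (BT.node (nat_lit 12118848) (BT.node (nat_lit 12118720) (BT.node (nat_lit 12118592) (BT.leaf (nat_lit 31095317)) (BT.leaf (nat_lit 52312089))) (BT.node (nat_lit 12118784) (BT.leaf (nat_lit 31096849)) (BT.leaf (nat_lit 31098381)))) (BT.node (nat_lit 12118976) (BT.node (nat_lit 12118912) (BT.leaf (nat_lit 31098377)) (BT.leaf (nat_lit 31098401))) (BT.node (nat_lit 12119040) (BT.leaf (nat_lit 51539217)) (BT.leaf (nat_lit 47304985)))))) (BT.node (nat_lit 12119680) (BT.node (nat_lit 12119360) (BT.node (nat_lit 12119232) (BT.node (nat_lit 12119168) (BT.leaf (nat_lit 46697733)) (BT.leaf (nat_lit 40404245))) (BT.node (nat_lit 12119296) (BT.leaf (nat_lit 40404249)) (BT.leaf (nat_lit 40404253)))) (BT.node (nat_lit 12119552) (BT.node (nat_lit 12119424) (BT.leaf (nat_lit 49746721)) (BT.leaf (nat_lit 31989517))) (BT.node (nat_lit 12119616) (BT.leaf (nat_lit 49185057)) (BT.leaf (nat_lit 44891661))))) (BT.node (nat_lit 12120000) (BT.node (nat_lit 12119808) (BT.node (nat_lit 12119744) (BT.leaf (nat_lit 41176853)) (BT.leaf (nat_lit 31111705))) (BT.node (nat_lit 12119936) (BT.leaf (nat_lit 31111965)) (BT.leaf (nat_lit 41319701)))) (BT.node (nat_lit 12120070) (BT.node (nat_lit 12120064) (BT.leaf (nat_lit 33785877)) (BT.leaf (nat_lit 36504857))) (BT.node (nat_lit 12120071) (BT.leaf (nat_lit 809052)) (BT.leaf (nat_lit 809052))))))))) (BT.node (nat_lit 12124288) (BT.node (nat_lit 12122048) (BT.node (nat_lit 12121024) (BT.node (nat_lit 12120576) (BT.node (nat_lit 12120256) (BT.node (nat_lit 12120194) (BT.node (nat_lit 12120192) (BT.leaf (nat_lit 46756893)) (BT.leaf (nat_lit 52393989))) (BT.node (nat_lit 12120196) (BT.leaf (nat_lit 808996)) (BT.leaf (nat_lit 808996)))) (BT.node (nat_lit 12120448) (BT.node (nat_lit 12120384) (BT.leaf (nat_lit 48561949)) (BT.leaf (nat_lit 34455837))) (BT.node (nat_lit 12120512) (BT.leaf (nat_lit 48482585)) (BT.leaf (nat_lit 35083805))))) (BT.node (nat_lit 12120768) (BT.node (nat_lit 12120704) (BT.node (nat_lit 12120640) (BT.leaf (nat_lit 47679501)) (BT.leaf (nat_lit 43743265))) (BT.node (nat_lit 12120708) (BT.leaf (nat_lit 43053317)) (BT.leaf (nat_lit 767936)))) (BT.node (nat_lit 12120896) (BT.node (nat_lit 12120832) (BT.leaf (nat_lit 44782369)) (BT.leaf (nat_lit 36272917))) (BT.node (nat_lit 12120960) (BT.leaf (nat_lit 31115537)) (BT.leaf (nat_lit 38078233)))))) (BT.node (nat_lit 12121536) (BT.node (nat_lit 12121280) (BT.node (nat_lit 12121152) (BT.node (nat_lit 12121088) (BT.leaf (nat_lit 31116305)) (BT.leaf (nat_lit 39234833))) (BT.node (nat_lit 12121216) (BT.leaf (nat_lit 46806289)) (BT.leaf (nat_lit 31118105)))) (BT.node (nat_lit 12121408) (BT.node (nat_lit 12121344) (BT.leaf (nat_lit 31121945)) (BT.leaf (nat_lit 31122697))) (BT.node (nat_lit 12121472) (BT.leaf (nat_lit 31122701)) (BT.leaf (nat_lit 46360345))))) (BT.node (nat_lit 12121792) (BT.node (nat_lit 12121664) (BT.node (nat_lit 12121600) (BT.leaf (nat_lit 31122453)) (BT.leaf (nat_lit 31122717))) (BT.node (nat_lit 12121728) (BT.leaf (nat_lit 49981461)) (BT.leaf (nat_lit 49179413)))) (BT.node (nat_lit 12121920) (BT.node (nat_lit 12121856) (BT.leaf (nat_lit 39238169)) (BT.leaf (nat_lit 31731985))) (BT.node (nat_lit 12121984) (BT.leaf (nat_lit 48651029)) (BT.leaf (nat_lit 31123729))))))) (BT.node (nat_lit 12123072) (BT.node (nat_lit 12122560) (BT.node (nat_lit 12122304) (BT.node (nat_lit 12122176) (BT.node (nat_lit 12122112) (BT.leaf (nat_lit 48353545)) (BT.leaf (nat_lit 52082457))) (BT.node (nat_lit 12122240) (BT.leaf (nat_lit 45451545)) (BT.leaf (nat_lit 47306009)))) (BT.node (nat_lit 12122432) (BT.node (nat_lit 12122368) (BT.leaf (nat_lit 45451533)) (BT.leaf (nat_lit 31125525))) (BT.node (nat_lit 12122496) (BT.leaf (nat_lit 48176417)) (BT.leaf (nat_lit 31127057))))) (BT.node (nat_lit 12122752) (BT.node (nat_lit 12122624) (BT.node (nat_lit 12122563) (BT.leaf (nat_lit 31127317)) (BT.leaf (nat_lit 793484))) (BT.node (nat_lit 12122688) (BT.leaf (nat_lit 31127825)) (BT.leaf (nat_lit 50617605)))) (BT.node (nat_lit 12122880) (BT.node (nat_lit 12122816) (BT.leaf (nat_lit 49853213)) (BT.leaf (nat_lit 48172565))) (BT.node (nat_lit 12123008) (BT.leaf (nat_lit 48172577)) (BT.leaf (nat_lit 34460437)))))) (BT.node (nat_lit 12123648) (BT.node (nat_lit 12123328) (BT.node (nat_lit 12123200) (BT.node (nat_lit 12123136) (BT.leaf (nat_lit 48492573)) (BT.leaf (nat_lit 48443909))) (BT.node (nat_lit 12123264) (BT.leaf (nat_lit 31646485)) (BT.leaf (nat_lit 47673349)))) (BT.node (nat_lit 12123456) (BT.node (nat_lit 12123392) (BT.leaf (nat_lit 47678981)) (BT.leaf (nat_lit 31129877))) (BT.node (nat_lit 12123520) (BT.leaf (nat_lit 48494605)) (BT.leaf (nat_lit 31133461))))) (BT.node (nat_lit 12124032) (BT.node (nat_lit 12123904) (BT.node (nat_lit 12123712) (BT.leaf (nat_lit 31132437)) (BT.leaf (nat_lit 46813205))) (BT.node (nat_lit 12123968) (BT.leaf (nat_lit 46812185)) (BT.leaf (nat_lit 31131921)))) (BT.node (nat_lit 12124160) (BT.node (nat_lit 12124096) (BT.leaf (nat_lit 47760153)) (BT.leaf (nat_lit 41744417))) (BT.node (nat_lit 12124224) (BT.leaf (nat_lit 32306693)) (BT.leaf (nat_lit 31134225)))))))) (BT.node (nat_lit 12126336) (BT.node (nat_lit 12125312) (BT.node (nat_lit 12124864) (BT.node (nat_lit 12124608) (BT.node (nat_lit 12124480) (BT.node (nat_lit 12124416) (BT.leaf (nat_lit 31139093)) (BT.leaf (nat_lit 45814797))) (BT.node (nat_lit 12124544) (BT.leaf (nat_lit 41350433)) (BT.leaf (nat_lit 42596613)))) (BT.node (nat_lit 12124736) (BT.node (nat_lit 12124672) (BT.leaf (nat_lit 45743885)) (BT.leaf (nat_lit 46363425))) (BT.node (nat_lit 12124800) (BT.leaf (nat_lit 31136797)) (BT.leaf (nat_lit 31137045))))) (BT.node (nat_lit 12125184) (BT.node (nat_lit 12125056) (BT.node (nat_lit 12124992) (BT.leaf (nat_lit 31137293)) (BT.leaf (nat_lit 31138565))) (BT.node (nat_lit 12125120) (BT.leaf (nat_lit 34861081)) (BT.leaf (nat_lit 34861085)))) (BT.node (nat_lit 12125248) (BT.node (nat_lit 12125189) (BT.leaf (nat_lit 31138569)) (BT.leaf (nat_lit 807892))) (BT.node (nat_lit 12125254) (BT.leaf (nat_lit 31138573)) (BT.leaf (nat_lit 807896)))))) (BT.node (nat_lit 12125824) (BT.node (nat_lit 12125568) (BT.node (nat_lit 12125440) (BT.node (nat_lit 12125376) (BT.leaf (nat_lit 31138589)) (BT.leaf (nat_lit 36385313))) (BT.node (nat_lit 12125504) (BT.leaf (nat_lit 31138837)) (BT.leaf (nat_lit 31139101)))) (BT.node (nat_lit 12125696) (BT.node (nat_lit 12125632) (BT.leaf (nat_lit 40226309)) (BT.leaf (nat_lit 31140361))) (BT.node (nat_lit 12125760) (BT.leaf (nat_lit 31140365)) (BT.leaf (nat_lit 31141141))))) (BT.node (nat_lit 12126080) (BT.node (nat_lit 12125952) (BT.node (nat_lit 12125888) (BT.leaf (nat_lit 31140381)) (BT.leaf (nat_lit 40542725))) (BT.node (nat_lit 12126016) (BT.leaf (nat_lit 31140881)) (BT.leaf (nat_lit 31140885)))) (BT.node (nat_lit 12126208) (BT.node (nat_lit 12126144) (BT.leaf (nat_lit 31142165)) (BT.leaf (nat_lit 31142421))) (BT.node (nat_lit 12126272) (BT.leaf (nat_lit 31142933)) (BT.leaf (nat_lit 43770377))))))) (BT.node (nat_lit 12127360) (BT.node (nat_lit 12126848) (BT.node (nat_lit 12126592) (BT.node (nat_lit 12126464) (BT.node (nat_lit 12126400) (BT.leaf (nat_lit 31143953)) (BT.leaf (nat_lit 44581909))) (BT.node (nat_lit 12126528) (BT.leaf (nat_lit 31144217)) (BT.leaf (nat_lit 39078661)))) (BT.node (nat_lit 12126720) (BT.node (nat_lit 12126656) (BT.leaf (nat_lit 32605721)) (BT.leaf (nat_lit 31147285))) (BT.node (nat_lit 12126784) (BT.leaf (nat_lit 45919245)) (BT.leaf (nat_lit 41012741))))) (BT.node (nat_lit 12127104) (BT.node (nat_lit 12126976) (BT.node (nat_lit 12126912) (BT.leaf (nat_lit 41684489)) (BT.leaf (nat_lit 48578565))) (BT.node (nat_lit 12127040) (BT.leaf (nat_lit 33256713)) (BT.leaf (nat_lit 34870045)))) (BT.node (nat_lit 12127232) (BT.node (nat_lit 12127168) (BT.leaf (nat_lit 31150097)) (BT.leaf (nat_lit 41994001))) (BT.node (nat_lit 12127296) (BT.leaf (nat_lit 51608081)) (BT.leaf (nat_lit 31153425)))))) (BT.node (nat_lit 12127936) (BT.node (nat_lit 12127616) (BT.node (nat_lit 12127488) (BT.node (nat_lit 12127424) (BT.leaf (nat_lit 50356001)) (BT.leaf (nat_lit 31153685))) (BT.node (nat_lit 12127552) (BT.leaf (nat_lit 47714317)) (BT.leaf (nat_lit 49021713)))) (BT.node (nat_lit 12127808) (BT.node (nat_lit 12127744) (BT.leaf (nat_lit 31155733)) (BT.leaf (nat_lit 32461585))) (BT.node (nat_lit 12127872) (BT.leaf (nat_lit 49666333)) (BT.leaf (nat_lit 31157265))))) (BT.node (nat_lit 12128256) (BT.node (nat_lit 12128064) (BT.node (nat_lit 12128000) (BT.leaf (nat_lit 47182357)) (BT.leaf (nat_lit 31158033))) (BT.node (nat_lit 12128192) (BT.leaf (nat_lit 31158289)) (BT.leaf (nat_lit 34470661)))) (BT.node (nat_lit 12128384) (BT.node (nat_lit 12128320) (BT.leaf (nat_lit 52218401)) (BT.leaf (nat_lit 31159301))) (BT.node (nat_lit 12128448) (BT.leaf (nat_lit 34470161)) (BT.leaf (nat_lit 31160593)))))))))) (BT.node (nat_lit 12137216) (BT.node (nat_lit 12132864) (BT.node (nat_lit 12130688) (BT.node (nat_lit 12129600) (BT.node (nat_lit 12129024) (BT.node (nat_lit 12128768) (BT.node (nat_lit 12128640) (BT.node (nat_lit 12128576) (BT.leaf (nat_lit 32648981)) (BT.leaf (nat_lit 45424161))) (BT.node (nat_lit 12128704) (BT.leaf (nat_lit 49158921)) (BT.leaf (nat_lit 50307093)))) (BT.node (nat_lit 12128896) (BT.node (nat_lit 12128832) (BT.leaf (nat_lit 31161633)) (BT.leaf (nat_lit 31161873))) (BT.node (nat_lit 12128960) (BT.leaf (nat_lit 33936669)) (BT.leaf (nat_lit 41569545))))) (BT.node (nat_lit 12129280) (BT.node (nat_lit 12129152) (BT.node (nat_lit 12129088) (BT.leaf (nat_lit 41410569)) (BT.leaf (nat_lit 31162389))) (BT.node (nat_lit 12129216) (BT.leaf (nat_lit 33103889)) (BT.leaf (nat_lit 31162905)))) (BT.node (nat_lit 12129408) (BT.node (nat_lit 12129344) (BT.leaf (nat_lit 31163153)) (BT.leaf (nat_lit 42025761))) (BT.node (nat_lit 12129536) (BT.leaf (nat_lit 42026017)) (BT.leaf (nat_lit 31163665)))))) (BT.node (nat_lit 12130112) (BT.node (nat_lit 12129856) (BT.node (nat_lit 12129728) (BT.node (nat_lit 12129664) (BT.leaf (nat_lit 49667601)) (BT.leaf (nat_lit 31164185))) (BT.node (nat_lit 12129792) (BT.leaf (nat_lit 31164189)) (BT.leaf (nat_lit 36876053)))) (BT.node (nat_lit 12129984) (BT.node (nat_lit 12129920) (BT.leaf (nat_lit 46682905)) (BT.leaf (nat_lit 48519433))) (BT.node (nat_lit 12130048) (BT.leaf (nat_lit 48520221)) (BT.leaf (nat_lit 46682893))))) (BT.node (nat_lit 12130432) (BT.node (nat_lit 12130304) (BT.node (nat_lit 12130176) (BT.leaf (nat_lit 31166241)) (BT.leaf (nat_lit 46683417))) (BT.node (nat_lit 12130368) (BT.leaf (nat_lit 31167253)) (BT.leaf (nat_lit 52340257)))) (BT.node (nat_lit 12130560) (BT.node (nat_lit 12130496) (BT.leaf (nat_lit 33409305)) (BT.leaf (nat_lit 31170057))) (BT.node (nat_lit 12130624) (BT.leaf (nat_lit 31170061)) (BT.leaf (nat_lit 31170837))))))) (BT.node (nat_lit 12131776) (BT.node (nat_lit 12131200) (BT.node (nat_lit 12130944) (BT.node (nat_lit 12130816) (BT.node (nat_lit 12130752) (BT.leaf (nat_lit 31170073)) (BT.leaf (nat_lit 31170077))) (BT.node (nat_lit 12130880) (BT.leaf (nat_lit 31170581)) (BT.leaf (nat_lit 31171601)))) (BT.node (nat_lit 12131072) (BT.node (nat_lit 12131008) (BT.leaf (nat_lit 41260553)) (BT.leaf (nat_lit 47977757))) (BT.node (nat_lit 12131136) (BT.leaf (nat_lit 37056277)) (BT.leaf (nat_lit 47977737))))) (BT.node (nat_lit 12131456) (BT.node (nat_lit 12131328) (BT.node (nat_lit 12131264) (BT.leaf (nat_lit 41260573)) (BT.leaf (nat_lit 31172629))) (BT.node (nat_lit 12131392) (BT.leaf (nat_lit 37056529)) (BT.leaf (nat_lit 37056285)))) (BT.node (nat_lit 12131648) (BT.node (nat_lit 12131520) (BT.leaf (nat_lit 50993157)) (BT.leaf (nat_lit 46915605))) (BT.node (nat_lit 12131712) (BT.leaf (nat_lit 50016269)) (BT.leaf (nat_lit 46953993)))))) (BT.node (nat_lit 12132288) (BT.node (nat_lit 12132032) (BT.node (nat_lit 12131904) (BT.node (nat_lit 12131840) (BT.leaf (nat_lit 50201621)) (BT.leaf (nat_lit 34475793))) (BT.node (nat_lit 12131968) (BT.leaf (nat_lit 49557265)) (BT.leaf (nat_lit 48527641)))) (BT.node (nat_lit 12132160) (BT.node (nat_lit 12132096) (BT.leaf (nat_lit 31177993)) (BT.leaf (nat_lit 31177997))) (BT.node (nat_lit 12132224) (BT.leaf (nat_lit 31178009)) (BT.leaf (nat_lit 31178013))))) (BT.node (nat_lit 12132608) (BT.node (nat_lit 12132416) (BT.node (nat_lit 12132352) (BT.leaf (nat_lit 31179037)) (BT.leaf (nat_lit 37724181))) (BT.node (nat_lit 12132544) (BT.leaf (nat_lit 31179033)) (BT.leaf (nat_lit 31180833)))) (BT.node (nat_lit 12132736) (BT.node (nat_lit 12132672) (BT.leaf (nat_lit 31181329)) (BT.leaf (nat_lit 34478609))) (BT.node (nat_lit 12132800) (BT.leaf (nat_lit 31182361)) (BT.leaf (nat_lit 31182365)))))))) (BT.node (nat_lit 12134848) (BT.node (nat_lit 12133952) (BT.node (nat_lit 12133376) (BT.node (nat_lit 12133120) (BT.node (nat_lit 12132992) (BT.node (nat_lit 12132928) (BT.leaf (nat_lit 32436497)) (BT.leaf (nat_lit 46949905))) (BT.node (nat_lit 12133056) (BT.leaf (nat_lit 31184141)) (BT.leaf (nat_lit 31184145)))) (BT.node (nat_lit 12133248) (BT.node (nat_lit 12133184) (BT.leaf (nat_lit 31183389)) (BT.leaf (nat_lit 31184157))) (BT.node (nat_lit 12133312) (BT.leaf (nat_lit 31184153)) (BT.leaf (nat_lit 41993761))))) (BT.node (nat_lit 12133696) (BT.node (nat_lit 12133568) (BT.node (nat_lit 12133440) (BT.leaf (nat_lit 39518737)) (BT.leaf (nat_lit 41404177))) (BT.node (nat_lit 12133632) (BT.leaf (nat_lit 41306385)) (BT.leaf (nat_lit 31185681)))) (BT.node (nat_lit 12133824) (BT.node (nat_lit 12133760) (BT.leaf (nat_lit 47446025)) (BT.leaf (nat_lit 42157317))) (BT.node (nat_lit 12133888) (BT.leaf (nat_lit 48005917)) (BT.leaf (nat_lit 31186449)))))) (BT.node (nat_lit 12134400) (BT.node (nat_lit 12134147) (BT.node (nat_lit 12134080) (BT.node (nat_lit 12134016) (BT.leaf (nat_lit 31186717)) (BT.leaf (nat_lit 50080005))) (BT.node (nat_lit 12134144) (BT.leaf (nat_lit 37962269)) (BT.leaf (nat_lit 35045921)))) (BT.node (nat_lit 12134272) (BT.node (nat_lit 12134208) (BT.leaf (nat_lit 815984)) (BT.leaf (nat_lit 39883553))) (BT.node (nat_lit 12134336) (BT.leaf (nat_lit 31189013)) (BT.leaf (nat_lit 31189769))))) (BT.node (nat_lit 12134592) (BT.node (nat_lit 12134468) (BT.node (nat_lit 12134464) (BT.leaf (nat_lit 37938201)) (BT.leaf (nat_lit 31190541))) (BT.node (nat_lit 12134528) (BT.leaf (nat_lit 805072)) (BT.leaf (nat_lit 37183765)))) (BT.node (nat_lit 12134720) (BT.node (nat_lit 12134656) (BT.leaf (nat_lit 48982297)) (BT.leaf (nat_lit 31190553))) (BT.node (nat_lit 12134784) (BT.leaf (nat_lit 48472837)) (BT.leaf (nat_lit 33427477))))))) (BT.node (nat_lit 12135872) (BT.node (nat_lit 12135424) (BT.node (nat_lit 12135168) (BT.node (nat_lit 12135040) (BT.node (nat_lit 12134912) (BT.leaf (nat_lit 37183769)) (BT.leaf (nat_lit 48900897))) (BT.node (nat_lit 12135104) (BT.leaf (nat_lit 48539929)) (BT.leaf (nat_lit 31192333)))) (BT.node (nat_lit 12135296) (BT.node (nat_lit 12135232) (BT.leaf (nat_lit 39405589)) (BT.leaf (nat_lit 31192593))) (BT.node (nat_lit 12135360) (BT.leaf (nat_lit 44425505)) (BT.leaf (nat_lit 50584849))))) (BT.node (nat_lit 12135616) (BT.node (nat_lit 12135432) (BT.node (nat_lit 12135430) (BT.leaf (nat_lit 34397193)) (BT.leaf (nat_lit 790384))) (BT.node (nat_lit 12135488) (BT.leaf (nat_lit 790384)) (BT.leaf (nat_lit 47825953)))) (BT.node (nat_lit 12135744) (BT.node (nat_lit 12135680) (BT.leaf (nat_lit 34486789)) (BT.leaf (nat_lit 31193877))) (BT.node (nat_lit 12135808) (BT.leaf (nat_lit 47511317)) (BT.leaf (nat_lit 48543001)))))) (BT.node (nat_lit 12136704) (BT.node (nat_lit 12136448) (BT.node (nat_lit 12136320) (BT.node (nat_lit 12136256) (BT.leaf (nat_lit 31195153)) (BT.leaf (nat_lit 48543009))) (BT.node (nat_lit 12136384) (BT.leaf (nat_lit 31196181)) (BT.leaf (nat_lit 31197961)))) (BT.node (nat_lit 12136576) (BT.node (nat_lit 12136512) (BT.leaf (nat_lit 31197965)) (BT.leaf (nat_lit 31197969))) (BT.node (nat_lit 12136640) (BT.leaf (nat_lit 44664609)) (BT.leaf (nat_lit 37795345))))) (BT.node (nat_lit 12136960) (BT.node (nat_lit 12136832) (BT.node (nat_lit 12136768) (BT.leaf (nat_lit 31197981)) (BT.leaf (nat_lit 31197977))) (BT.node (nat_lit 12136896) (BT.leaf (nat_lit 34488337)) (BT.leaf (nat_lit 31198233)))) (BT.node (nat_lit 12137088) (BT.node (nat_lit 12137024) (BT.leaf (nat_lit 31198729)) (BT.leaf (nat_lit 31200009))) (BT.node (nat_lit 12137152) (BT.leaf (nat_lit 46401813)) (BT.leaf (nat_lit 31200013))))))))) (BT.node (nat_lit 12141504) (BT.node (nat_lit 12139456) (BT.node (nat_lit 12138304) (BT.node (nat_lit 12137792) (BT.node (nat_lit 12137472) (BT.node (nat_lit 12137344) (BT.node (nat_lit 12137280) (BT.leaf (nat_lit 34488857)) (BT.leaf (nat_lit 31200533))) (BT.node (nat_lit 12137408) (BT.leaf (nat_lit 31200537)) (BT.leaf (nat_lit 34336533)))) (BT.node (nat_lit 12137600) (BT.node (nat_lit 12137536) (BT.leaf (nat_lit 48967713)) (BT.leaf (nat_lit 35370009))) (BT.node (nat_lit 12137728) (BT.leaf (nat_lit 31204889)) (BT.leaf (nat_lit 33363729))))) (BT.node (nat_lit 12138048) (BT.node (nat_lit 12137920) (BT.node (nat_lit 12137856) (BT.leaf (nat_lit 31205133)) (BT.leaf (nat_lit 31205145))) (BT.node (nat_lit 12137984) (BT.leaf (nat_lit 31205397)) (BT.leaf (nat_lit 31205917)))) (BT.node (nat_lit 12138176) (BT.node (nat_lit 12138112) (BT.leaf (nat_lit 31205913)) (BT.leaf (nat_lit 31206677))) (BT.node (nat_lit 12138240) (BT.leaf (nat_lit 31207437)) (BT.leaf (nat_lit 33370133)))))) (BT.node (nat_lit 12138944) (BT.node (nat_lit 12138624) (BT.node (nat_lit 12138496) (BT.node (nat_lit 12138368) (BT.leaf (nat_lit 48602385)) (BT.leaf (nat_lit 31207433))) (BT.node (nat_lit 12138560) (BT.leaf (nat_lit 48720149)) (BT.leaf (nat_lit 33369885)))) (BT.node (nat_lit 12138752) (BT.node (nat_lit 12138688) (BT.leaf (nat_lit 31208217)) (BT.leaf (nat_lit 31463201))) (BT.node (nat_lit 12138816) (BT.leaf (nat_lit 50566177)) (BT.leaf (nat_lit 31209749))))) (BT.node (nat_lit 12139200) (BT.node (nat_lit 12139072) (BT.node (nat_lit 12139008) (BT.leaf (nat_lit 33510165)) (BT.leaf (nat_lit 37962521))) (BT.node (nat_lit 12139136) (BT.leaf (nat_lit 31719953)) (BT.leaf (nat_lit 31719957)))) (BT.node (nat_lit 12139328) (BT.node (nat_lit 12139264) (BT.leaf (nat_lit 31212061)) (BT.leaf (nat_lit 31211797))) (BT.node (nat_lit 12139392) (BT.leaf (nat_lit 34491921)) (BT.leaf (nat_lit 31215117))))))) (BT.node (nat_lit 12140416) (BT.node (nat_lit 12139968) (BT.node (nat_lit 12139712) (BT.node (nat_lit 12139584) (BT.node (nat_lit 12139520) (BT.leaf (nat_lit 31213333)) (BT.leaf (nat_lit 35166725))) (BT.node (nat_lit 12139648) (BT.leaf (nat_lit 31215125)) (BT.leaf (nat_lit 47333917)))) (BT.node (nat_lit 12139840) (BT.node (nat_lit 12139776) (BT.leaf (nat_lit 40092429)) (BT.leaf (nat_lit 40092441))) (BT.node (nat_lit 12139904) (BT.leaf (nat_lit 31217429)) (BT.leaf (nat_lit 41557773))))) (BT.node (nat_lit 12140224) (BT.node (nat_lit 12140096) (BT.node (nat_lit 12140032) (BT.leaf (nat_lit 31218705)) (BT.leaf (nat_lit 31220245))) (BT.node (nat_lit 12140160) (BT.leaf (nat_lit 32568597)) (BT.leaf (nat_lit 31221521)))) (BT.node (nat_lit 12140292) (BT.node (nat_lit 12140288) (BT.leaf (nat_lit 51915805)) (BT.leaf (nat_lit 32304905))) (BT.node (nat_lit 12140352) (BT.leaf (nat_lit 760288)) (BT.leaf (nat_lit 51926545)))))) (BT.node (nat_lit 12140864) (BT.node (nat_lit 12140544) (BT.node (nat_lit 12140484) (BT.node (nat_lit 12140480) (BT.leaf (nat_lit 46816529)) (BT.leaf (nat_lit 47768845))) (BT.node (nat_lit 12140488) (BT.leaf (nat_lit 812432)) (BT.leaf (nat_lit 812432)))) (BT.node (nat_lit 12140736) (BT.node (nat_lit 12140672) (BT.leaf (nat_lit 48444689)) (BT.leaf (nat_lit 48482565))) (BT.node (nat_lit 12140800) (BT.leaf (nat_lit 46018065)) (BT.leaf (nat_lit 31222549))))) (BT.node (nat_lit 12141248) (BT.node (nat_lit 12141120) (BT.node (nat_lit 12140992) (BT.leaf (nat_lit 34600469)) (BT.leaf (nat_lit 37912593))) (BT.node (nat_lit 12141184) (BT.leaf (nat_lit 48437025)) (BT.leaf (nat_lit 31225609)))) (BT.node (nat_lit 12141376) (BT.node (nat_lit 12141312) (BT.leaf (nat_lit 31225613)) (BT.leaf (nat_lit 43770649))) (BT.node (nat_lit 12141440) (BT.leaf (nat_lit 31226129)) (BT.leaf (nat_lit 45226253)))))))) (BT.node (nat_lit 12143936) (BT.node (nat_lit 12142656) (BT.node (nat_lit 12142144) (BT.node (nat_lit 12141824) (BT.node (nat_lit 12141696) (BT.node (nat_lit 12141632) (BT.leaf (nat_lit 46686469)) (BT.leaf (nat_lit 31230489))) (BT.node (nat_lit 12141760) (BT.leaf (nat_lit 31230493)) (BT.leaf (nat_lit 39055369)))) (BT.node (nat_lit 12141952) (BT.node (nat_lit 12141888) (BT.leaf (nat_lit 47408405)) (BT.leaf (nat_lit 31233309))) (BT.node (nat_lit 12142016) (BT.leaf (nat_lit 34432285)) (BT.leaf (nat_lit 31234321))))) (BT.node (nat_lit 12142400) (BT.node (nat_lit 12142272) (BT.node (nat_lit 12142208) (BT.leaf (nat_lit 46691361)) (BT.leaf (nat_lit 31235861))) (BT.node (nat_lit 12142336) (BT.leaf (nat_lit 31236373)) (BT.leaf (nat_lit 44388129)))) (BT.node (nat_lit 12142528) (BT.node (nat_lit 12142464) (BT.leaf (nat_lit 31236889)) (BT.leaf (nat_lit 31236893))) (BT.node (nat_lit 12142592) (BT.leaf (nat_lit 31237393)) (BT.leaf (nat_lit 31237653)))))) (BT.node (nat_lit 12143360) (BT.node (nat_lit 12143104) (BT.node (nat_lit 12142784) (BT.node (nat_lit 12142720) (BT.leaf (nat_lit 51568145)) (BT.leaf (nat_lit 31237909))) (BT.node (nat_lit 12142912) (BT.leaf (nat_lit 49786401)) (BT.leaf (nat_lit 51135509)))) (BT.node (nat_lit 12143232) (BT.node (nat_lit 12143168) (BT.leaf (nat_lit 33959189)) (BT.leaf (nat_lit 31240209))) (BT.node (nat_lit 12143296) (BT.leaf (nat_lit 31241745)) (BT.leaf (nat_lit 51290645))))) (BT.node (nat_lit 12143616) (BT.node (nat_lit 12143488) (BT.node (nat_lit 12143424) (BT.leaf (nat_lit 34511117)) (BT.leaf (nat_lit 44366597))) (BT.node (nat_lit 12143552) (BT.leaf (nat_lit 32535833)) (BT.leaf (nat_lit 33017373)))) (BT.node (nat_lit 12143808) (BT.node (nat_lit 12143744) (BT.leaf (nat_lit 31809045)) (BT.leaf (nat_lit 31245337))) (BT.node (nat_lit 12143872) (BT.leaf (nat_lit 31245333)) (BT.leaf (nat_lit 34512133))))))) (BT.node (nat_lit 12144960) (BT.node (nat_lit 12144448) (BT.node (nat_lit 12144192) (BT.node (nat_lit 12144064) (BT.node (nat_lit 12144000) (BT.leaf (nat_lit 32000533)) (BT.leaf (nat_lit 31246613))) (BT.node (nat_lit 12144128) (BT.leaf (nat_lit 31247637)) (BT.leaf (nat_lit 42929949)))) (BT.node (nat_lit 12144320) (BT.node (nat_lit 12144256) (BT.leaf (nat_lit 47532553)) (BT.leaf (nat_lit 31247905))) (BT.node (nat_lit 12144384) (BT.leaf (nat_lit 46937881)) (BT.leaf (nat_lit 47532549))))) (BT.node (nat_lit 12144704) (BT.node (nat_lit 12144576) (BT.node (nat_lit 12144512) (BT.leaf (nat_lit 51848729)) (BT.leaf (nat_lit 47660821))) (BT.node (nat_lit 12144640) (BT.leaf (nat_lit 31248913)) (BT.leaf (nat_lit 31250193)))) (BT.node (nat_lit 12144832) (BT.node (nat_lit 12144768) (BT.leaf (nat_lit 31249685)) (BT.leaf (nat_lit 31249937))) (BT.node (nat_lit 12144896) (BT.leaf (nat_lit 34515477)) (BT.leaf (nat_lit 31250209)))))) (BT.node (nat_lit 12145536) (BT.node (nat_lit 12145216) (BT.node (nat_lit 12145088) (BT.node (nat_lit 12145024) (BT.leaf (nat_lit 39398689)) (BT.leaf (nat_lit 31254045))) (BT.node (nat_lit 12145152) (BT.leaf (nat_lit 48800005)) (BT.leaf (nat_lit 48506145)))) (BT.node (nat_lit 12145408) (BT.node (nat_lit 12145344) (BT.leaf (nat_lit 37386005)) (BT.leaf (nat_lit 48501013))) (BT.node (nat_lit 12145472) (BT.leaf (nat_lit 31256593)) (BT.leaf (nat_lit 34522389))))) (BT.node (nat_lit 12145792) (BT.node (nat_lit 12145664) (BT.node (nat_lit 12145600) (BT.leaf (nat_lit 31259413)) (BT.leaf (nat_lit 31260433))) (BT.node (nat_lit 12145728) (BT.leaf (nat_lit 50558229)) (BT.leaf (nat_lit 31260937)))) (BT.node (nat_lit 12145920) (BT.node (nat_lit 12145856) (BT.leaf (nat_lit 34989841)) (BT.leaf (nat_lit 31261973))) (BT.node (nat_lit 12145984) (BT.leaf (nat_lit 42917401)) (BT.leaf (nat_lit 38151941)))))))))))))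
noncomputable def big0_e116736 : BT Nat := (BT.node (nat_lit 12221504) (BT.node (nat_lit 12183360) (BT.node (nat_lit 12164416) (BT.node (nat_lit 12155392) (BT.node (nat_lit 12150400) (BT.node (nat_lit 12148160) (BT.node (nat_lit 12147072) (BT.node (nat_lit 12146504) (BT.node (nat_lit 12146304) (BT.node (nat_lit 12146176) (BT.node (nat_lit 12146112) (BT.leaf (nat_lit 44292881)) (BT.leaf (nat_lit 31263769))) (BT.node (nat_lit 12146240) (BT.leaf (nat_lit 31264281)) (BT.leaf (nat_lit 31265045)))) (BT.node (nat_lit 12146432) (BT.node (nat_lit 12146368) (BT.leaf (nat_lit 31265293)) (BT.leaf (nat_lit 31265285))) (BT.node (nat_lit 12146496) (BT.leaf (nat_lit 45226009)) (BT.leaf (nat_lit 47782169))))) (BT.node (nat_lit 12146752) (BT.node (nat_lit 12146568) (BT.node (nat_lit 12146560) (BT.leaf (nat_lit 760960)) (BT.leaf (nat_lit 47782173))) (BT.node (nat_lit 12146688) (BT.leaf (nat_lit 760964)) (BT.leaf (nat_lit 46592793)))) (BT.node (nat_lit 12146880) (BT.node (nat_lit 12146816) (BT.leaf (nat_lit 50603549)) (BT.leaf (nat_lit 31267357))) (BT.node (nat_lit 12147008) (BT.leaf (nat_lit 49212957)) (BT.leaf (nat_lit 31268117)))))) (BT.node (nat_lit 12147584) (BT.node (nat_lit 12147328) (BT.node (nat_lit 12147200) (BT.node (nat_lit 12147136) (BT.leaf (nat_lit 49212941)) (BT.leaf (nat_lit 32023045))) (BT.node (nat_lit 12147264) (BT.leaf (nat_lit 38524941)) (BT.leaf (nat_lit 49326621)))) (BT.node (nat_lit 12147456) (BT.node (nat_lit 12147392) (BT.leaf (nat_lit 33286685)) (BT.leaf (nat_lit 31269397))) (BT.node (nat_lit 12147520) (BT.leaf (nat_lit 31270425)) (BT.leaf (nat_lit 48590365))))) (BT.node (nat_lit 12147840) (BT.node (nat_lit 12147712) (BT.node (nat_lit 12147648) (BT.leaf (nat_lit 45098245)) (BT.leaf (nat_lit 32118021))) (BT.node (nat_lit 12147776) (BT.leaf (nat_lit 34520593)) (BT.leaf (nat_lit 31272469)))) (BT.node (nat_lit 12147968) (BT.node (nat_lit 12147904) (BT.leaf (nat_lit 51746821)) (BT.leaf (nat_lit 31272981))) (BT.node (nat_lit 12148096) (BT.leaf (nat_lit 31272985)) (BT.leaf (nat_lit 49480733))))))) (BT.node (nat_lit 12149184) (BT.node (nat_lit 12148672) (BT.node (nat_lit 12148416) (BT.node (nat_lit 12148288) (BT.node (nat_lit 12148224) (BT.leaf (nat_lit 49480713)) (BT.leaf (nat_lit 48592665))) (BT.node (nat_lit 12148352) (BT.leaf (nat_lit 31273749)) (BT.leaf (nat_lit 31274009)))) (BT.node (nat_lit 12148544) (BT.node (nat_lit 12148480) (BT.leaf (nat_lit 31274013)) (BT.leaf (nat_lit 33301521))) (BT.node (nat_lit 12148608) (BT.leaf (nat_lit 34530065)) (BT.leaf (nat_lit 31275285))))) (BT.node (nat_lit 12148928) (BT.node (nat_lit 12148800) (BT.node (nat_lit 12148736) (BT.leaf (nat_lit 35285269)) (BT.leaf (nat_lit 31275793))) (BT.node (nat_lit 12148864) (BT.leaf (nat_lit 34202649)) (BT.leaf (nat_lit 34202633)))) (BT.node (nat_lit 12149120) (BT.node (nat_lit 12148992) (BT.leaf (nat_lit 34238229)) (BT.leaf (nat_lit 45560853))) (BT.node (nat_lit 12149122) (BT.leaf (nat_lit 37650461)) (BT.leaf (nat_lit 818228)))))) (BT.node (nat_lit 12149760) (BT.node (nat_lit 12149504) (BT.node (nat_lit 12149376) (BT.node (nat_lit 12149248) (BT.leaf (nat_lit 52057113)) (BT.leaf (nat_lit 31280401))) (BT.node (nat_lit 12149440) (BT.leaf (nat_lit 37575697)) (BT.leaf (nat_lit 31282969)))) (BT.node (nat_lit 12149632) (BT.node (nat_lit 12149568) (BT.leaf (nat_lit 31282973)) (BT.leaf (nat_lit 46925333))) (BT.node (nat_lit 12149696) (BT.leaf (nat_lit 46925337)) (BT.leaf (nat_lit 46925341))))) (BT.node (nat_lit 12150016) (BT.node (nat_lit 12149888) (BT.node (nat_lit 12149824) (BT.leaf (nat_lit 31284241)) (BT.leaf (nat_lit 48434717))) (BT.node (nat_lit 12149952) (BT.leaf (nat_lit 50449185)) (BT.leaf (nat_lit 50448149)))) (BT.node (nat_lit 12150144) (BT.node (nat_lit 12150080) (BT.leaf (nat_lit 31285021)) (BT.leaf (nat_lit 37439761))) (BT.node (nat_lit 12150336) (BT.leaf (nat_lit 37650961)) (BT.leaf (nat_lit 31285785)))))))) (BT.node (nat_lit 12153344) (BT.node (nat_lit 12151936) (BT.node (nat_lit 12151360) (BT.node (nat_lit 12150656) (BT.node (nat_lit 12150528) (BT.node (nat_lit 12150464) (BT.leaf (nat_lit 47464737)) (BT.leaf (nat_lit 47972629))) (BT.node (nat_lit 12150592) (BT.leaf (nat_lit 50674465)) (BT.leaf (nat_lit 50298645)))) (BT.node (nat_lit 12151232) (BT.node (nat_lit 12151168) (BT.leaf (nat_lit 48720925)) (BT.leaf (nat_lit 48722461))) (BT.node (nat_lit 12151296) (BT.leaf (nat_lit 31468317)) (BT.leaf (nat_lit 34620953))))) (BT.node (nat_lit 12151680) (BT.node (nat_lit 12151552) (BT.node (nat_lit 12151424) (BT.leaf (nat_lit 48722201)) (BT.leaf (nat_lit 31290141))) (BT.node (nat_lit 12151616) (BT.leaf (nat_lit 31290905)) (BT.leaf (nat_lit 36727825)))) (BT.node (nat_lit 12151808) (BT.node (nat_lit 12151744) (BT.leaf (nat_lit 31468065)) (BT.leaf (nat_lit 39890201))) (BT.node (nat_lit 12151872) (BT.leaf (nat_lit 46866453)) (BT.leaf (nat_lit 31397381)))))) (BT.node (nat_lit 12152512) (BT.node (nat_lit 12152192) (BT.node (nat_lit 12152064) (BT.node (nat_lit 12152000) (BT.leaf (nat_lit 43818777)) (BT.leaf (nat_lit 34539549))) (BT.node (nat_lit 12152128) (BT.leaf (nat_lit 34539529)) (BT.leaf (nat_lit 43818765)))) (BT.node (nat_lit 12152384) (BT.node (nat_lit 12152256) (BT.leaf (nat_lit 48810501)) (BT.leaf (nat_lit 31294741))) (BT.node (nat_lit 12152448) (BT.leaf (nat_lit 34540553)) (BT.leaf (nat_lit 48612885))))) (BT.node (nat_lit 12152768) (BT.node (nat_lit 12152640) (BT.node (nat_lit 12152576) (BT.leaf (nat_lit 31295509)) (BT.leaf (nat_lit 31296277))) (BT.node (nat_lit 12152704) (BT.leaf (nat_lit 31297053)) (BT.leaf (nat_lit 31297305)))) (BT.node (nat_lit 12152960) (BT.node (nat_lit 12152896) (BT.leaf (nat_lit 31297309)) (BT.leaf (nat_lit 48609049))) (BT.node (nat_lit 12153216) (BT.leaf (nat_lit 47604241)) (BT.leaf (nat_lit 48610073))))))) (BT.node (nat_lit 12154432) (BT.node (nat_lit 12153728) (BT.node (nat_lit 12153600) (BT.node (nat_lit 12153472) (BT.node (nat_lit 12153408) (BT.leaf (nat_lit 31299865)) (BT.leaf (nat_lit 31299869))) (BT.node (nat_lit 12153536) (BT.leaf (nat_lit 31300361)) (BT.leaf (nat_lit 31300365)))) (BT.node (nat_lit 12153668) (BT.node (nat_lit 12153664) (BT.leaf (nat_lit 31300377)) (BT.leaf (nat_lit 33102109))) (BT.node (nat_lit 12153669) (BT.leaf (nat_lit 794180)) (BT.leaf (nat_lit 794180))))) (BT.node (nat_lit 12154112) (BT.node (nat_lit 12153920) (BT.node (nat_lit 12153792) (BT.leaf (nat_lit 51720209)) (BT.leaf (nat_lit 51720213))) (BT.node (nat_lit 12153984) (BT.leaf (nat_lit 31302165)) (BT.leaf (nat_lit 31302169)))) (BT.node (nat_lit 12154304) (BT.node (nat_lit 12154240) (BT.leaf (nat_lit 48328473)) (BT.leaf (nat_lit 48642053))) (BT.node (nat_lit 12154368) (BT.leaf (nat_lit 32243465)) (BT.leaf (nat_lit 32243469)))))) (BT.node (nat_lit 12154822) (BT.node (nat_lit 12154688) (BT.node (nat_lit 12154560) (BT.node (nat_lit 12154496) (BT.leaf (nat_lit 32243481)) (BT.leaf (nat_lit 32243485))) (BT.node (nat_lit 12154624) (BT.leaf (nat_lit 32621341)) (BT.leaf (nat_lit 51353889)))) (BT.node (nat_lit 12154816) (BT.node (nat_lit 12154752) (BT.leaf (nat_lit 32621337)) (BT.leaf (nat_lit 34549777))) (BT.node (nat_lit 12154819) (BT.leaf (nat_lit 34032405)) (BT.leaf (nat_lit 773580))))) (BT.node (nat_lit 12155136) (BT.node (nat_lit 12155008) (BT.node (nat_lit 12154944) (BT.leaf (nat_lit 773580)) (BT.leaf (nat_lit 42252065))) (BT.node (nat_lit 12155072) (BT.leaf (nat_lit 51735813)) (BT.leaf (nat_lit 31307797)))) (BT.node (nat_lit 12155264) (BT.node (nat_lit 12155200) (BT.leaf (nat_lit 31308053)) (BT.leaf (nat_lit 31311125))) (BT.node (nat_lit 12155328) (BT.leaf (nat_lit 49216793)) (BT.leaf (nat_lit 49791749))))))))) (BT.node (nat_lit 12159488) (BT.node (nat_lit 12157440) (BT.node (nat_lit 12156416) (BT.node (nat_lit 12155904) (BT.node (nat_lit 12155648) (BT.node (nat_lit 12155520) (BT.node (nat_lit 12155456) (BT.leaf (nat_lit 34556945)) (BT.leaf (nat_lit 35337237))) (BT.node (nat_lit 12155584) (BT.leaf (nat_lit 31317265)) (BT.leaf (nat_lit 39390741)))) (BT.node (nat_lit 12155776) (BT.node (nat_lit 12155712) (BT.leaf (nat_lit 31321121)) (BT.leaf (nat_lit 31322125))) (BT.node (nat_lit 12155840) (BT.leaf (nat_lit 34986525)) (BT.leaf (nat_lit 38810885))))) (BT.node (nat_lit 12156160) (BT.node (nat_lit 12156032) (BT.node (nat_lit 12155968) (BT.leaf (nat_lit 31322121)) (BT.leaf (nat_lit 31322901))) (BT.node (nat_lit 12156096) (BT.leaf (nat_lit 48623897)) (BT.leaf (nat_lit 39486497)))) (BT.node (nat_lit 12156288) (BT.node (nat_lit 12156224) (BT.leaf (nat_lit 31322385)) (BT.leaf (nat_lit 31323417))) (BT.node (nat_lit 12156352) (BT.leaf (nat_lit 31323405)) (BT.leaf (nat_lit 31324181)))))) (BT.node (nat_lit 12156928) (BT.node (nat_lit 12156672) (BT.node (nat_lit 12156544) (BT.node (nat_lit 12156480) (BT.leaf (nat_lit 39501081)) (BT.leaf (nat_lit 31325969))) (BT.node (nat_lit 12156608) (BT.leaf (nat_lit 31326997)) (BT.leaf (nat_lit 39013401)))) (BT.node (nat_lit 12156800) (BT.node (nat_lit 12156736) (BT.leaf (nat_lit 31327505)) (BT.leaf (nat_lit 35235845))) (BT.node (nat_lit 12156864) (BT.leaf (nat_lit 34317317)) (BT.leaf (nat_lit 43010053))))) (BT.node (nat_lit 12157184) (BT.node (nat_lit 12157056) (BT.node (nat_lit 12156992) (BT.leaf (nat_lit 50341409)) (BT.leaf (nat_lit 42195233))) (BT.node (nat_lit 12157120) (BT.leaf (nat_lit 31330577)) (BT.leaf (nat_lit 34560273)))) (BT.node (nat_lit 12157312) (BT.node (nat_lit 12157248) (BT.leaf (nat_lit 31331349)) (BT.leaf (nat_lit 31331605))) (BT.node (nat_lit 12157376) (BT.leaf (nat_lit 50516233)) (BT.leaf (nat_lit 45776417))))))) (BT.node (nat_lit 12158592) (BT.node (nat_lit 12158080) (BT.node (nat_lit 12157824) (BT.node (nat_lit 12157568) (BT.node (nat_lit 12157504) (BT.leaf (nat_lit 31332633)) (BT.leaf (nat_lit 31332637))) (BT.node (nat_lit 12157760) (BT.leaf (nat_lit 48413705)) (BT.leaf (nat_lit 48086037)))) (BT.node (nat_lit 12157952) (BT.node (nat_lit 12157888) (BT.leaf (nat_lit 41531425)) (BT.leaf (nat_lit 31335181))) (BT.node (nat_lit 12158016) (BT.leaf (nat_lit 31335193)) (BT.leaf (nat_lit 31337221))))) (BT.node (nat_lit 12158336) (BT.node (nat_lit 12158208) (BT.node (nat_lit 12158144) (BT.leaf (nat_lit 31337233)) (BT.leaf (nat_lit 31337237))) (BT.node (nat_lit 12158272) (BT.leaf (nat_lit 31337477)) (BT.leaf (nat_lit 39503129)))) (BT.node (nat_lit 12158464) (BT.node (nat_lit 12158400) (BT.leaf (nat_lit 48640009)) (BT.leaf (nat_lit 34569749))) (BT.node (nat_lit 12158528) (BT.leaf (nat_lit 49702425)) (BT.leaf (nat_lit 31338517)))))) (BT.node (nat_lit 12159041) (BT.node (nat_lit 12158784) (BT.node (nat_lit 12158664) (BT.node (nat_lit 12158656) (BT.leaf (nat_lit 32442137)) (BT.leaf (nat_lit 31804445))) (BT.node (nat_lit 12158720) (BT.leaf (nat_lit 764792)) (BT.leaf (nat_lit 31339033)))) (BT.node (nat_lit 12158976) (BT.node (nat_lit 12158848) (BT.leaf (nat_lit 34566929)) (BT.leaf (nat_lit 34560529))) (BT.node (nat_lit 12159040) (BT.leaf (nat_lit 34569481)) (BT.leaf (nat_lit 31340049))))) (BT.node (nat_lit 12159232) (BT.node (nat_lit 12159104) (BT.node (nat_lit 12159046) (BT.leaf (nat_lit 790980)) (BT.leaf (nat_lit 790980))) (BT.node (nat_lit 12159168) (BT.leaf (nat_lit 31421981)) (BT.leaf (nat_lit 31348509)))) (BT.node (nat_lit 12159360) (BT.node (nat_lit 12159296) (BT.leaf (nat_lit 31340817)) (BT.leaf (nat_lit 32141337))) (BT.node (nat_lit 12159424) (BT.leaf (nat_lit 38252833)) (BT.leaf (nat_lit 39616773)))))))) (BT.node (nat_lit 12161728) (BT.node (nat_lit 12160640) (BT.node (nat_lit 12160128) (BT.node (nat_lit 12159872) (BT.node (nat_lit 12159744) (BT.node (nat_lit 12159680) (BT.leaf (nat_lit 49396741)) (BT.leaf (nat_lit 31344145))) (BT.node (nat_lit 12159808) (BT.leaf (nat_lit 34567957)) (BT.leaf (nat_lit 31345941)))) (BT.node (nat_lit 12160000) (BT.node (nat_lit 12159936) (BT.leaf (nat_lit 47424289)) (BT.leaf (nat_lit 31346965))) (BT.node (nat_lit 12160064) (BT.leaf (nat_lit 31348501)) (BT.leaf (nat_lit 31348757))))) (BT.node (nat_lit 12160384) (BT.node (nat_lit 12160256) (BT.node (nat_lit 12160192) (BT.leaf (nat_lit 31348761)) (BT.leaf (nat_lit 31348765))) (BT.node (nat_lit 12160320) (BT.leaf (nat_lit 31349021)) (BT.leaf (nat_lit 31349269)))) (BT.node (nat_lit 12160512) (BT.node (nat_lit 12160448) (BT.leaf (nat_lit 31349525)) (BT.leaf (nat_lit 34818821))) (BT.node (nat_lit 12160576) (BT.leaf (nat_lit 47659809)) (BT.leaf (nat_lit 31350813)))))) (BT.node (nat_lit 12161216) (BT.node (nat_lit 12160896) (BT.node (nat_lit 12160768) (BT.node (nat_lit 12160704) (BT.leaf (nat_lit 48641805)) (BT.leaf (nat_lit 31351577))) (BT.node (nat_lit 12160832) (BT.leaf (nat_lit 31351581)) (BT.leaf (nat_lit 31351837)))) (BT.node (nat_lit 12161088) (BT.node (nat_lit 12160960) (BT.leaf (nat_lit 34572053)) (BT.leaf (nat_lit 31352093))) (BT.node (nat_lit 12161152) (BT.leaf (nat_lit 31352325)) (BT.leaf (nat_lit 31352861))))) (BT.node (nat_lit 12161472) (BT.node (nat_lit 12161344) (BT.node (nat_lit 12161280) (BT.leaf (nat_lit 49995781)) (BT.leaf (nat_lit 48961297))) (BT.node (nat_lit 12161408) (BT.leaf (nat_lit 31352597)) (BT.leaf (nat_lit 52027145)))) (BT.node (nat_lit 12161600) (BT.node (nat_lit 12161536) (BT.leaf (nat_lit 47659273)) (BT.leaf (nat_lit 40625417))) (BT.node (nat_lit 12161664) (BT.leaf (nat_lit 34573601)) (BT.leaf (nat_lit 50863137))))))) (BT.node (nat_lit 12162944) (BT.node (nat_lit 12162368) (BT.node (nat_lit 12162048) (BT.node (nat_lit 12161920) (BT.node (nat_lit 12161856) (BT.leaf (nat_lit 40768285)) (BT.leaf (nat_lit 31356705))) (BT.node (nat_lit 12161984) (BT.leaf (nat_lit 31356949)) (BT.leaf (nat_lit 50024217)))) (BT.node (nat_lit 12162176) (BT.node (nat_lit 12162112) (BT.leaf (nat_lit 49334049)) (BT.leaf (nat_lit 31358993))) (BT.node (nat_lit 12162240) (BT.leaf (nat_lit 31358997)) (BT.leaf (nat_lit 41861653))))) (BT.node (nat_lit 12162688) (BT.node (nat_lit 12162496) (BT.node (nat_lit 12162434) (BT.leaf (nat_lit 37737997)) (BT.leaf (nat_lit 781612))) (BT.node (nat_lit 12162624) (BT.leaf (nat_lit 49917445)) (BT.leaf (nat_lit 48059665)))) (BT.node (nat_lit 12162816) (BT.node (nat_lit 12162752) (BT.leaf (nat_lit 48058641)) (BT.leaf (nat_lit 31364637))) (BT.node (nat_lit 12162880) (BT.leaf (nat_lit 44041497)) (BT.leaf (nat_lit 41519637)))))) (BT.node (nat_lit 12163840) (BT.node (nat_lit 12163456) (BT.node (nat_lit 12163200) (BT.node (nat_lit 12163072) (BT.leaf (nat_lit 46886429)) (BT.leaf (nat_lit 34575633))) (BT.node (nat_lit 12163328) (BT.leaf (nat_lit 35227153)) (BT.leaf (nat_lit 36404753)))) (BT.node (nat_lit 12163648) (BT.node (nat_lit 12163584) (BT.leaf (nat_lit 49934097)) (BT.leaf (nat_lit 35881489))) (BT.node (nat_lit 12163712) (BT.leaf (nat_lit 31369229)) (BT.leaf (nat_lit 31369245))))) (BT.node (nat_lit 12164160) (BT.node (nat_lit 12163968) (BT.node (nat_lit 12163904) (BT.leaf (nat_lit 34126869)) (BT.leaf (nat_lit 31370009))) (BT.node (nat_lit 12164032) (BT.leaf (nat_lit 31370005)) (BT.leaf (nat_lit 31370261)))) (BT.node (nat_lit 12164288) (BT.node (nat_lit 12164224) (BT.leaf (nat_lit 34578441)) (BT.leaf (nat_lit 50291477))) (BT.node (nat_lit 12164352) (BT.leaf (nat_lit 39224097)) (BT.leaf (nat_lit 49286681)))))))))) (BT.node (nat_lit 12173504) (BT.node (nat_lit 12169152) (BT.node (nat_lit 12166528) (BT.node (nat_lit 12165504) (BT.node (nat_lit 12164992) (BT.node (nat_lit 12164672) (BT.node (nat_lit 12164544) (BT.node (nat_lit 12164480) (BT.leaf (nat_lit 48657949)) (BT.leaf (nat_lit 33990157))) (BT.node (nat_lit 12164608) (BT.leaf (nat_lit 31371797)) (BT.leaf (nat_lit 48444685)))) (BT.node (nat_lit 12164800) (BT.node (nat_lit 12164736) (BT.leaf (nat_lit 48443165)) (BT.leaf (nat_lit 31373841))) (BT.node (nat_lit 12164864) (BT.leaf (nat_lit 31385629)) (BT.leaf (nat_lit 31374113))))) (BT.node (nat_lit 12165184) (BT.node (nat_lit 12165057) (BT.node (nat_lit 12165056) (BT.leaf (nat_lit 31387165)) (BT.leaf (nat_lit 31374865))) (BT.node (nat_lit 12165059) (BT.leaf (nat_lit 762532)) (BT.leaf (nat_lit 762532)))) (BT.node (nat_lit 12165312) (BT.node (nat_lit 12165248) (BT.leaf (nat_lit 31585313)) (BT.leaf (nat_lit 36185117))) (BT.node (nat_lit 12165376) (BT.leaf (nat_lit 48916501)) (BT.leaf (nat_lit 31375633)))))) (BT.node (nat_lit 12166016) (BT.node (nat_lit 12165760) (BT.node (nat_lit 12165632) (BT.node (nat_lit 12165568) (BT.leaf (nat_lit 34641697)) (BT.leaf (nat_lit 47531289))) (BT.node (nat_lit 12165696) (BT.leaf (nat_lit 46233109)) (BT.leaf (nat_lit 48663069)))) (BT.node (nat_lit 12165888) (BT.node (nat_lit 12165824) (BT.leaf (nat_lit 49756429)) (BT.leaf (nat_lit 47532065))) (BT.node (nat_lit 12165952) (BT.leaf (nat_lit 46607893)) (BT.leaf (nat_lit 31377169))))) (BT.node (nat_lit 12166272) (BT.node (nat_lit 12166144) (BT.node (nat_lit 12166080) (BT.leaf (nat_lit 47087641)) (BT.leaf (nat_lit 47087645))) (BT.node (nat_lit 12166208) (BT.leaf (nat_lit 31379461)) (BT.leaf (nat_lit 34584337)))) (BT.node (nat_lit 12166400) (BT.node (nat_lit 12166336) (BT.leaf (nat_lit 31383829)) (BT.leaf (nat_lit 31383833))) (BT.node (nat_lit 12166464) (BT.leaf (nat_lit 31384329)) (BT.leaf (nat_lit 31384333))))))) (BT.node (nat_lit 12167616) (BT.node (nat_lit 12167104) (BT.node (nat_lit 12166848) (BT.node (nat_lit 12166656) (BT.node (nat_lit 12166592) (BT.leaf (nat_lit 31384345)) (BT.leaf (nat_lit 31384349))) (BT.node (nat_lit 12166720) (BT.leaf (nat_lit 50775573)) (BT.leaf (nat_lit 48661261)))) (BT.node (nat_lit 12166976) (BT.node (nat_lit 12166912) (BT.leaf (nat_lit 44605473)) (BT.leaf (nat_lit 48439825))) (BT.node (nat_lit 12167040) (BT.leaf (nat_lit 31387677)) (BT.leaf (nat_lit 34001429))))) (BT.node (nat_lit 12167360) (BT.node (nat_lit 12167232) (BT.node (nat_lit 12167168) (BT.leaf (nat_lit 33589509)) (BT.leaf (nat_lit 31393049))) (BT.node (nat_lit 12167296) (BT.leaf (nat_lit 31393045)) (BT.leaf (nat_lit 31676177)))) (BT.node (nat_lit 12167552) (BT.node (nat_lit 12167488) (BT.leaf (nat_lit 33267473)) (BT.leaf (nat_lit 52351765))) (BT.node (nat_lit 12167557) (BT.leaf (nat_lit 38673433)) (BT.leaf (nat_lit 794952)))))) (BT.node (nat_lit 12168512) (BT.node (nat_lit 12168000) (BT.node (nat_lit 12167808) (BT.node (nat_lit 12167744) (BT.leaf (nat_lit 46997781)) (BT.leaf (nat_lit 51148305))) (BT.node (nat_lit 12167872) (BT.leaf (nat_lit 51148049)) (BT.leaf (nat_lit 31395093)))) (BT.node (nat_lit 12168192) (BT.node (nat_lit 12168064) (BT.leaf (nat_lit 45346325)) (BT.leaf (nat_lit 31464709))) (BT.node (nat_lit 12168384) (BT.leaf (nat_lit 50566665)) (BT.leaf (nat_lit 48721925))))) (BT.node (nat_lit 12168832) (BT.node (nat_lit 12168704) (BT.node (nat_lit 12168640) (BT.leaf (nat_lit 50675733)) (BT.leaf (nat_lit 31399713))) (BT.node (nat_lit 12168768) (BT.leaf (nat_lit 31399957)) (BT.leaf (nat_lit 31400469)))) (BT.node (nat_lit 12169024) (BT.node (nat_lit 12168960) (BT.leaf (nat_lit 31400977)) (BT.leaf (nat_lit 49316897))) (BT.node (nat_lit 12169088) (BT.leaf (nat_lit 31402261)) (BT.leaf (nat_lit 48772869)))))))) (BT.node (nat_lit 12171392) (BT.node (nat_lit 12170304) (BT.node (nat_lit 12169792) (BT.node (nat_lit 12169472) (BT.node (nat_lit 12169344) (BT.node (nat_lit 12169280) (BT.leaf (nat_lit 31403797)) (BT.leaf (nat_lit 31404821))) (BT.node (nat_lit 12169408) (BT.leaf (nat_lit 31405601)) (BT.leaf (nat_lit 34335009)))) (BT.node (nat_lit 12169600) (BT.node (nat_lit 12169536) (BT.leaf (nat_lit 40783389)) (BT.leaf (nat_lit 48740637))) (BT.node (nat_lit 12169664) (BT.leaf (nat_lit 31427101)) (BT.leaf (nat_lit 31407377))))) (BT.node (nat_lit 12170048) (BT.node (nat_lit 12169920) (BT.node (nat_lit 12169856) (BT.leaf (nat_lit 48092941)) (BT.leaf (nat_lit 31407889))) (BT.node (nat_lit 12169984) (BT.leaf (nat_lit 51025437)) (BT.leaf (nat_lit 43339529)))) (BT.node (nat_lit 12170176) (BT.node (nat_lit 12170112) (BT.leaf (nat_lit 40253961)) (BT.leaf (nat_lit 41332769))) (BT.node (nat_lit 12170240) (BT.leaf (nat_lit 48680989)) (BT.leaf (nat_lit 43314701)))))) (BT.node (nat_lit 12170816) (BT.node (nat_lit 12170560) (BT.node (nat_lit 12170432) (BT.node (nat_lit 12170368) (BT.leaf (nat_lit 31409173)) (BT.leaf (nat_lit 31556377))) (BT.node (nat_lit 12170496) (BT.leaf (nat_lit 44293921)) (BT.leaf (nat_lit 31409949)))) (BT.node (nat_lit 12170688) (BT.node (nat_lit 12170624) (BT.leaf (nat_lit 49040901)) (BT.leaf (nat_lit 31410961))) (BT.node (nat_lit 12170752) (BT.leaf (nat_lit 31412245)) (BT.leaf (nat_lit 31413021))))) (BT.node (nat_lit 12171072) (BT.node (nat_lit 12170944) (BT.node (nat_lit 12170880) (BT.leaf (nat_lit 31414549)) (BT.leaf (nat_lit 49208353))) (BT.node (nat_lit 12171008) (BT.leaf (nat_lit 42005765)) (BT.leaf (nat_lit 41533201)))) (BT.node (nat_lit 12171264) (BT.node (nat_lit 12171136) (BT.leaf (nat_lit 36444425)) (BT.leaf (nat_lit 43887621))) (BT.node (nat_lit 12171328) (BT.leaf (nat_lit 31608853)) (BT.leaf (nat_lit 35303693))))))) (BT.node (nat_lit 12172416) (BT.node (nat_lit 12171904) (BT.node (nat_lit 12171648) (BT.node (nat_lit 12171520) (BT.node (nat_lit 12171456) (BT.leaf (nat_lit 50326293)) (BT.leaf (nat_lit 35303705))) (BT.node (nat_lit 12171584) (BT.leaf (nat_lit 39659797)) (BT.leaf (nat_lit 31416337)))) (BT.node (nat_lit 12171776) (BT.node (nat_lit 12171712) (BT.leaf (nat_lit 44835361)) (BT.leaf (nat_lit 45154565))) (BT.node (nat_lit 12171840) (BT.leaf (nat_lit 31417621)) (BT.leaf (nat_lit 31417629))))) (BT.node (nat_lit 12172160) (BT.node (nat_lit 12172032) (BT.node (nat_lit 12171968) (BT.leaf (nat_lit 31418129)) (BT.leaf (nat_lit 33883665))) (BT.node (nat_lit 12172096) (BT.leaf (nat_lit 31419421)) (BT.leaf (nat_lit 37070353)))) (BT.node (nat_lit 12172288) (BT.node (nat_lit 12172224) (BT.leaf (nat_lit 34596881)) (BT.leaf (nat_lit 31420437))) (BT.node (nat_lit 12172352) (BT.leaf (nat_lit 31420693)) (BT.leaf (nat_lit 31420697)))))) (BT.node (nat_lit 12172992) (BT.node (nat_lit 12172672) (BT.node (nat_lit 12172544) (BT.node (nat_lit 12172480) (BT.leaf (nat_lit 31420701)) (BT.leaf (nat_lit 37071629))) (BT.node (nat_lit 12172608) (BT.leaf (nat_lit 33123345)) (BT.leaf (nat_lit 47089949)))) (BT.node (nat_lit 12172800) (BT.node (nat_lit 12172736) (BT.leaf (nat_lit 31421461)) (BT.leaf (nat_lit 37071633))) (BT.node (nat_lit 12172928) (BT.leaf (nat_lit 34601745)) (BT.leaf (nat_lit 31422493))))) (BT.node (nat_lit 12173248) (BT.node (nat_lit 12173120) (BT.node (nat_lit 12173056) (BT.leaf (nat_lit 31422741)) (BT.leaf (nat_lit 31423005))) (BT.node (nat_lit 12173184) (BT.leaf (nat_lit 31423517)) (BT.leaf (nat_lit 31423765)))) (BT.node (nat_lit 12173376) (BT.node (nat_lit 12173312) (BT.leaf (nat_lit 31423769)) (BT.leaf (nat_lit 31647769))) (BT.node (nat_lit 12173440) (BT.leaf (nat_lit 31424021)) (BT.leaf (nat_lit 44121629))))))))) (BT.node (nat_lit 12178432) (BT.node (nat_lit 12175680) (BT.node (nat_lit 12174592) (BT.node (nat_lit 12174080) (BT.node (nat_lit 12173824) (BT.node (nat_lit 12173632) (BT.node (nat_lit 12173568) (BT.leaf (nat_lit 34603293)) (BT.leaf (nat_lit 31425557))) (BT.node (nat_lit 12173696) (BT.leaf (nat_lit 31426821)) (BT.leaf (nat_lit 31426837)))) (BT.node (nat_lit 12173952) (BT.node (nat_lit 12173888) (BT.leaf (nat_lit 31428625)) (BT.leaf (nat_lit 31430685))) (BT.node (nat_lit 12174016) (BT.leaf (nat_lit 36111377)) (BT.leaf (nat_lit 36111121))))) (BT.node (nat_lit 12174336) (BT.node (nat_lit 12174208) (BT.node (nat_lit 12174144) (BT.leaf (nat_lit 35362833)) (BT.leaf (nat_lit 31431453))) (BT.node (nat_lit 12174272) (BT.leaf (nat_lit 31431961)) (BT.leaf (nat_lit 31432473)))) (BT.node (nat_lit 12174464) (BT.node (nat_lit 12174400) (BT.leaf (nat_lit 33882385)) (BT.leaf (nat_lit 52027141))) (BT.node (nat_lit 12174528) (BT.leaf (nat_lit 47475225)) (BT.leaf (nat_lit 48645917)))))) (BT.node (nat_lit 12175168) (BT.node (nat_lit 12174848) (BT.node (nat_lit 12174720) (BT.node (nat_lit 12174656) (BT.leaf (nat_lit 49673249)) (BT.leaf (nat_lit 31434261))) (BT.node (nat_lit 12174784) (BT.leaf (nat_lit 31434517)) (BT.leaf (nat_lit 31434769)))) (BT.node (nat_lit 12174976) (BT.node (nat_lit 12174912) (BT.leaf (nat_lit 31435033)) (BT.leaf (nat_lit 31435037))) (BT.node (nat_lit 12175104) (BT.leaf (nat_lit 40795409)) (BT.leaf (nat_lit 31436049))))) (BT.node (nat_lit 12175424) (BT.node (nat_lit 12175296) (BT.node (nat_lit 12175232) (BT.leaf (nat_lit 47743257)) (BT.leaf (nat_lit 31436821))) (BT.node (nat_lit 12175360) (BT.leaf (nat_lit 31437073)) (BT.leaf (nat_lit 50657029)))) (BT.node (nat_lit 12175552) (BT.node (nat_lit 12175488) (BT.leaf (nat_lit 48701465)) (BT.leaf (nat_lit 39705625))) (BT.node (nat_lit 12175616) (BT.leaf (nat_lit 31437585)) (BT.leaf (nat_lit 49922065))))))) (BT.node (nat_lit 12177152) (BT.node (nat_lit 12176384) (BT.node (nat_lit 12175936) (BT.node (nat_lit 12175808) (BT.node (nat_lit 12175744) (BT.leaf (nat_lit 34543133)) (BT.leaf (nat_lit 32906521))) (BT.node (nat_lit 12175872) (BT.leaf (nat_lit 34611469)) (BT.leaf (nat_lit 50918409)))) (BT.node (nat_lit 12176256) (BT.node (nat_lit 12176064) (BT.leaf (nat_lit 51594517)) (BT.leaf (nat_lit 49853985))) (BT.node (nat_lit 12176320) (BT.leaf (nat_lit 42569493)) (BT.leaf (nat_lit 31442197))))) (BT.node (nat_lit 12176704) (BT.node (nat_lit 12176576) (BT.node (nat_lit 12176448) (BT.leaf (nat_lit 32890137)) (BT.leaf (nat_lit 48711449))) (BT.node (nat_lit 12176640) (BT.leaf (nat_lit 31443233)) (BT.leaf (nat_lit 31443733)))) (BT.node (nat_lit 12177024) (BT.node (nat_lit 12176896) (BT.leaf (nat_lit 39490581)) (BT.leaf (nat_lit 31444513))) (BT.node (nat_lit 12177088) (BT.leaf (nat_lit 31446289)) (BT.leaf (nat_lit 48705293)))))) (BT.node (nat_lit 12177792) (BT.node (nat_lit 12177472) (BT.node (nat_lit 12177344) (BT.node (nat_lit 12177280) (BT.leaf (nat_lit 34613009)) (BT.leaf (nat_lit 43333665))) (BT.node (nat_lit 12177408) (BT.leaf (nat_lit 31447057)) (BT.leaf (nat_lit 49709321)))) (BT.node (nat_lit 12177600) (BT.node (nat_lit 12177536) (BT.leaf (nat_lit 31448325)) (BT.leaf (nat_lit 42214409))) (BT.node (nat_lit 12177664) (BT.leaf (nat_lit 32197893)) (BT.leaf (nat_lit 31451409))))) (BT.node (nat_lit 12178176) (BT.node (nat_lit 12177920) (BT.node (nat_lit 12177856) (BT.leaf (nat_lit 34614813)) (BT.leaf (nat_lit 32890121))) (BT.node (nat_lit 12178048) (BT.leaf (nat_lit 31454485)) (BT.leaf (nat_lit 48555297)))) (BT.node (nat_lit 12178304) (BT.node (nat_lit 12178240) (BT.leaf (nat_lit 51102993)) (BT.leaf (nat_lit 31459857))) (BT.node (nat_lit 12178368) (BT.leaf (nat_lit 49734681)) (BT.leaf (nat_lit 51384337)))))))) (BT.node (nat_lit 12181120) (BT.node (nat_lit 12179776) (BT.node (nat_lit 12179200) (BT.node (nat_lit 12178688) (BT.node (nat_lit 12178560) (BT.node (nat_lit 12178496) (BT.leaf (nat_lit 31460125)) (BT.leaf (nat_lit 34370321))) (BT.node (nat_lit 12178624) (BT.leaf (nat_lit 34370325)) (BT.leaf (nat_lit 48858117)))) (BT.node (nat_lit 12178944) (BT.node (nat_lit 12178752) (BT.leaf (nat_lit 38028313)) (BT.leaf (nat_lit 32938773))) (BT.node (nat_lit 12179136) (BT.leaf (nat_lit 48718101)) (BT.leaf (nat_lit 48718105))))) (BT.node (nat_lit 12179584) (BT.node (nat_lit 12179392) (BT.node (nat_lit 12179264) (BT.leaf (nat_lit 31463697)) (BT.leaf (nat_lit 47652117))) (BT.node (nat_lit 12179520) (BT.leaf (nat_lit 48715785)) (BT.leaf (nat_lit 38158609)))) (BT.node (nat_lit 12179655) (BT.node (nat_lit 12179648) (BT.leaf (nat_lit 39722769)) (BT.leaf (nat_lit 48239129))) (BT.node (nat_lit 12179712) (BT.leaf (nat_lit 788156)) (BT.leaf (nat_lit 31465497)))))) (BT.node (nat_lit 12180480) (BT.node (nat_lit 12180160) (BT.node (nat_lit 12180032) (BT.node (nat_lit 12179968) (BT.leaf (nat_lit 31465501)) (BT.leaf (nat_lit 48602381))) (BT.node (nat_lit 12180096) (BT.leaf (nat_lit 51968773)) (BT.leaf (nat_lit 44183561)))) (BT.node (nat_lit 12180288) (BT.node (nat_lit 12180224) (BT.leaf (nat_lit 31467033)) (BT.leaf (nat_lit 48870165))) (BT.node (nat_lit 12180416) (BT.leaf (nat_lit 31468313)) (BT.leaf (nat_lit 51453201))))) (BT.node (nat_lit 12180736) (BT.node (nat_lit 12180608) (BT.node (nat_lit 12180544) (BT.leaf (nat_lit 47784733)) (BT.leaf (nat_lit 31468297))) (BT.node (nat_lit 12180672) (BT.leaf (nat_lit 31468301)) (BT.leaf (nat_lit 34116117)))) (BT.node (nat_lit 12180928) (BT.node (nat_lit 12180864) (BT.leaf (nat_lit 51968517)) (BT.leaf (nat_lit 31470345))) (BT.node (nat_lit 12180992) (BT.leaf (nat_lit 34621717)) (BT.leaf (nat_lit 31470361))))))) (BT.node (nat_lit 12182144) (BT.node (nat_lit 12181632) (BT.node (nat_lit 12181376) (BT.node (nat_lit 12181248) (BT.node (nat_lit 12181184) (BT.leaf (nat_lit 31470881)) (BT.leaf (nat_lit 31472133))) (BT.node (nat_lit 12181312) (BT.leaf (nat_lit 31471901)) (BT.leaf (nat_lit 34624021)))) (BT.node (nat_lit 12181504) (BT.node (nat_lit 12181440) (BT.leaf (nat_lit 31472157)) (BT.leaf (nat_lit 31472409))) (BT.node (nat_lit 12181568) (BT.leaf (nat_lit 31472413)) (BT.leaf (nat_lit 31474181))))) (BT.node (nat_lit 12181888) (BT.node (nat_lit 12181760) (BT.node (nat_lit 12181696) (BT.leaf (nat_lit 31473949)) (BT.leaf (nat_lit 31474201))) (BT.node (nat_lit 12181824) (BT.leaf (nat_lit 31474205)) (BT.leaf (nat_lit 45025045)))) (BT.node (nat_lit 12182016) (BT.node (nat_lit 12181952) (BT.leaf (nat_lit 39796761)) (BT.leaf (nat_lit 39796765))) (BT.node (nat_lit 12182080) (BT.leaf (nat_lit 31475221)) (BT.leaf (nat_lit 51088929)))))) (BT.node (nat_lit 12182784) (BT.node (nat_lit 12182528) (BT.node (nat_lit 12182336) (BT.node (nat_lit 12182208) (BT.leaf (nat_lit 31476249)) (BT.leaf (nat_lit 31476253))) (BT.node (nat_lit 12182464) (BT.leaf (nat_lit 51115553)) (BT.leaf (nat_lit 31477017)))) (BT.node (nat_lit 12182656) (BT.node (nat_lit 12182592) (BT.leaf (nat_lit 31477021)) (BT.leaf (nat_lit 31477777))) (BT.node (nat_lit 12182720) (BT.leaf (nat_lit 43023641)) (BT.leaf (nat_lit 38524961))))) (BT.node (nat_lit 12183104) (BT.node (nat_lit 12182976) (BT.node (nat_lit 12182912) (BT.leaf (nat_lit 34627089)) (BT.leaf (nat_lit 49191177))) (BT.node (nat_lit 12183040) (BT.leaf (nat_lit 31479825)) (BT.leaf (nat_lit 49223445)))) (BT.node (nat_lit 12183232) (BT.node (nat_lit 12183168) (BT.leaf (nat_lit 31482385)) (BT.leaf (nat_lit 31482645))) (BT.node (nat_lit 12183296) (BT.leaf (nat_lit 31482649)) (BT.leaf (nat_lit 46290973))))))))))) (BT.node (nat_lit 12202560) (BT.node (nat_lit 12192960) (BT.node (nat_lit 12188288) (BT.node (nat_lit 12185792) (BT.node (nat_lit 12184448) (BT.node (nat_lit 12183872) (BT.node (nat_lit 12183616) (BT.node (nat_lit 12183488) (BT.node (nat_lit 12183424) (BT.leaf (nat_lit 31498525)) (BT.leaf (nat_lit 31482897))) (BT.node (nat_lit 12183552) (BT.leaf (nat_lit 40601365)) (BT.leaf (nat_lit 44740117)))) (BT.node (nat_lit 12183744) (BT.node (nat_lit 12183680) (BT.leaf (nat_lit 31482913)) (BT.leaf (nat_lit 31484177))) (BT.node (nat_lit 12183808) (BT.leaf (nat_lit 33890065)) (BT.leaf (nat_lit 31484957))))) (BT.node (nat_lit 12184128) (BT.node (nat_lit 12184000) (BT.node (nat_lit 12183936) (BT.leaf (nat_lit 31485461)) (BT.leaf (nat_lit 34629649))) (BT.node (nat_lit 12184064) (BT.leaf (nat_lit 31486233)) (BT.leaf (nat_lit 31486237)))) (BT.node (nat_lit 12184256) (BT.node (nat_lit 12184192) (BT.leaf (nat_lit 31486485)) (BT.leaf (nat_lit 34627601))) (BT.node (nat_lit 12184384) (BT.leaf (nat_lit 31487253)) (BT.leaf (nat_lit 52075809)))))) (BT.node (nat_lit 12185024) (BT.node (nat_lit 12184768) (BT.node (nat_lit 12184640) (BT.node (nat_lit 12184576) (BT.leaf (nat_lit 52075297)) (BT.leaf (nat_lit 47980833))) (BT.node (nat_lit 12184704) (BT.leaf (nat_lit 33715741)) (BT.leaf (nat_lit 32443417)))) (BT.node (nat_lit 12184896) (BT.node (nat_lit 12184832) (BT.leaf (nat_lit 48321057)) (BT.leaf (nat_lit 31491089))) (BT.node (nat_lit 12184960) (BT.leaf (nat_lit 31491345)) (BT.leaf (nat_lit 44120865))))) (BT.node (nat_lit 12185408) (BT.node (nat_lit 12185152) (BT.node (nat_lit 12185088) (BT.leaf (nat_lit 41805589)) (BT.leaf (nat_lit 41414681))) (BT.node (nat_lit 12185216) (BT.leaf (nat_lit 36371217)) (BT.leaf (nat_lit 41413665)))) (BT.node (nat_lit 12185664) (BT.node (nat_lit 12185536) (BT.leaf (nat_lit 37914389)) (BT.leaf (nat_lit 50636065))) (BT.node (nat_lit 12185728) (BT.leaf (nat_lit 47368725)) (BT.leaf (nat_lit 34688021))))))) (BT.node (nat_lit 12187136) (BT.node (nat_lit 12186432) (BT.node (nat_lit 12186112) (BT.node (nat_lit 12185920) (BT.node (nat_lit 12185856) (BT.leaf (nat_lit 46292249)) (BT.leaf (nat_lit 31499029))) (BT.node (nat_lit 12185984) (BT.leaf (nat_lit 31499285)) (BT.leaf (nat_lit 50074657)))) (BT.node (nat_lit 12186240) (BT.node (nat_lit 12186176) (BT.leaf (nat_lit 45780997)) (BT.leaf (nat_lit 34902045))) (BT.node (nat_lit 12186368) (BT.leaf (nat_lit 31501077)) (BT.leaf (nat_lit 31502101))))) (BT.node (nat_lit 12186688) (BT.node (nat_lit 12186560) (BT.node (nat_lit 12186496) (BT.leaf (nat_lit 39446301)) (BT.leaf (nat_lit 47318029))) (BT.node (nat_lit 12186624) (BT.leaf (nat_lit 42315289)) (BT.leaf (nat_lit 47318037)))) (BT.node (nat_lit 12186880) (BT.node (nat_lit 12186752) (BT.leaf (nat_lit 32033041)) (BT.leaf (nat_lit 32845829))) (BT.node (nat_lit 12187008) (BT.leaf (nat_lit 31505421)) (BT.leaf (nat_lit 31505437)))))) (BT.node (nat_lit 12187776) (BT.node (nat_lit 12187392) (BT.node (nat_lit 12187264) (BT.node (nat_lit 12187200) (BT.leaf (nat_lit 31505681)) (BT.leaf (nat_lit 35102229))) (BT.node (nat_lit 12187328) (BT.leaf (nat_lit 46513941)) (BT.leaf (nat_lit 31506961)))) (BT.node (nat_lit 12187520) (BT.node (nat_lit 12187456) (BT.leaf (nat_lit 31507217)) (BT.leaf (nat_lit 31507221))) (BT.node (nat_lit 12187712) (BT.leaf (nat_lit 31507477)) (BT.leaf (nat_lit 31507993))))) (BT.node (nat_lit 12188160) (BT.node (nat_lit 12187904) (BT.node (nat_lit 12187840) (BT.leaf (nat_lit 42344993)) (BT.leaf (nat_lit 38755357))) (BT.node (nat_lit 12188032) (BT.leaf (nat_lit 31508761)) (BT.leaf (nat_lit 33224209)))) (BT.node (nat_lit 12188229) (BT.node (nat_lit 12188224) (BT.leaf (nat_lit 33223953)) (BT.leaf (nat_lit 52211721))) (BT.node (nat_lit 12188231) (BT.leaf (nat_lit 773816)) (BT.leaf (nat_lit 773816)))))))) (BT.node (nat_lit 12190592) (BT.node (nat_lit 12189504) (BT.node (nat_lit 12188992) (BT.node (nat_lit 12188608) (BT.node (nat_lit 12188480) (BT.node (nat_lit 12188352) (BT.leaf (nat_lit 46823949)) (BT.leaf (nat_lit 46823961))) (BT.node (nat_lit 12188544) (BT.leaf (nat_lit 49512209)) (BT.leaf (nat_lit 44242957)))) (BT.node (nat_lit 12188800) (BT.node (nat_lit 12188736) (BT.leaf (nat_lit 36282129)) (BT.leaf (nat_lit 33889561))) (BT.node (nat_lit 12188864) (BT.leaf (nat_lit 31512337)) (BT.leaf (nat_lit 47028513))))) (BT.node (nat_lit 12189248) (BT.node (nat_lit 12189120) (BT.node (nat_lit 12189056) (BT.leaf (nat_lit 31520285)) (BT.leaf (nat_lit 31514897))) (BT.node (nat_lit 12189184) (BT.leaf (nat_lit 31520265)) (BT.leaf (nat_lit 31584793)))) (BT.node (nat_lit 12189376) (BT.node (nat_lit 12189312) (BT.leaf (nat_lit 48801569)) (BT.leaf (nat_lit 34640913))) (BT.node (nat_lit 12189440) (BT.leaf (nat_lit 31515417)) (BT.leaf (nat_lit 31515421)))))) (BT.node (nat_lit 12190016) (BT.node (nat_lit 12189760) (BT.node (nat_lit 12189632) (BT.node (nat_lit 12189568) (BT.leaf (nat_lit 48705541)) (BT.leaf (nat_lit 48705797))) (BT.node (nat_lit 12189696) (BT.leaf (nat_lit 47651105)) (BT.leaf (nat_lit 31518225)))) (BT.node (nat_lit 12189888) (BT.node (nat_lit 12189824) (BT.leaf (nat_lit 46242077)) (BT.leaf (nat_lit 31519505))) (BT.node (nat_lit 12189952) (BT.leaf (nat_lit 31519773)) (BT.leaf (nat_lit 51089413))))) (BT.node (nat_lit 12190272) (BT.node (nat_lit 12190144) (BT.node (nat_lit 12190080) (BT.leaf (nat_lit 31520269)) (BT.leaf (nat_lit 44248345))) (BT.node (nat_lit 12190208) (BT.leaf (nat_lit 32807965)) (BT.leaf (nat_lit 31521041)))) (BT.node (nat_lit 12190464) (BT.node (nat_lit 12190336) (BT.leaf (nat_lit 31521297)) (BT.leaf (nat_lit 31522581))) (BT.node (nat_lit 12190528) (BT.leaf (nat_lit 31524113)) (BT.leaf (nat_lit 33017361))))))) (BT.node (nat_lit 12191808) (BT.node (nat_lit 12191296) (BT.node (nat_lit 12190912) (BT.node (nat_lit 12190720) (BT.node (nat_lit 12190656) (BT.leaf (nat_lit 31525381)) (BT.leaf (nat_lit 45778717))) (BT.node (nat_lit 12190784) (BT.leaf (nat_lit 38371845)) (BT.leaf (nat_lit 46531617)))) (BT.node (nat_lit 12191104) (BT.node (nat_lit 12190976) (BT.leaf (nat_lit 31536145)) (BT.leaf (nat_lit 31536149))) (BT.node (nat_lit 12191232) (BT.leaf (nat_lit 34645021)) (BT.leaf (nat_lit 49169425))))) (BT.node (nat_lit 12191552) (BT.node (nat_lit 12191424) (BT.node (nat_lit 12191360) (BT.leaf (nat_lit 46780421)) (BT.leaf (nat_lit 31537421))) (BT.node (nat_lit 12191488) (BT.leaf (nat_lit 50850325)) (BT.leaf (nat_lit 33310493)))) (BT.node (nat_lit 12191680) (BT.node (nat_lit 12191616) (BT.leaf (nat_lit 34648081)) (BT.leaf (nat_lit 31539225))) (BT.node (nat_lit 12191744) (BT.leaf (nat_lit 49274629)) (BT.leaf (nat_lit 31539465)))))) (BT.node (nat_lit 12192448) (BT.node (nat_lit 12192064) (BT.node (nat_lit 12191936) (BT.node (nat_lit 12191872) (BT.leaf (nat_lit 38452513)) (BT.leaf (nat_lit 31539485))) (BT.node (nat_lit 12192000) (BT.leaf (nat_lit 31539729)) (BT.leaf (nat_lit 31539733)))) (BT.node (nat_lit 12192320) (BT.node (nat_lit 12192192) (BT.leaf (nat_lit 35476245)) (BT.leaf (nat_lit 36137237))) (BT.node (nat_lit 12192384) (BT.leaf (nat_lit 52428293)) (BT.leaf (nat_lit 48769801))))) (BT.node (nat_lit 12192704) (BT.node (nat_lit 12192576) (BT.node (nat_lit 12192512) (BT.leaf (nat_lit 34653717)) (BT.leaf (nat_lit 31544597))) (BT.node (nat_lit 12192640) (BT.leaf (nat_lit 39209505)) (BT.leaf (nat_lit 31545617)))) (BT.node (nat_lit 12192832) (BT.node (nat_lit 12192768) (BT.leaf (nat_lit 47005981)) (BT.leaf (nat_lit 48771597))) (BT.node (nat_lit 12192896) (BT.leaf (nat_lit 31547409)) (BT.leaf (nat_lit 33531669))))))))) (BT.node (nat_lit 12197696) (BT.node (nat_lit 12195328) (BT.node (nat_lit 12194176) (BT.node (nat_lit 12193600) (BT.node (nat_lit 12193280) (BT.node (nat_lit 12193088) (BT.node (nat_lit 12193024) (BT.leaf (nat_lit 48771609)) (BT.leaf (nat_lit 50765317))) (BT.node (nat_lit 12193216) (BT.leaf (nat_lit 38514977)) (BT.leaf (nat_lit 34653209)))) (BT.node (nat_lit 12193408) (BT.node (nat_lit 12193344) (BT.leaf (nat_lit 31548437)) (BT.leaf (nat_lit 31548693))) (BT.node (nat_lit 12193536) (BT.leaf (nat_lit 47005977)) (BT.leaf (nat_lit 31548945))))) (BT.node (nat_lit 12193856) (BT.node (nat_lit 12193728) (BT.node (nat_lit 12193664) (BT.leaf (nat_lit 34648073)) (BT.leaf (nat_lit 48768013))) (BT.node (nat_lit 12193792) (BT.leaf (nat_lit 48767509)) (BT.leaf (nat_lit 48237345)))) (BT.node (nat_lit 12194048) (BT.node (nat_lit 12193920) (BT.leaf (nat_lit 45260037)) (BT.leaf (nat_lit 39418401))) (BT.node (nat_lit 12194112) (BT.leaf (nat_lit 49250585)) (BT.leaf (nat_lit 31553041)))))) (BT.node (nat_lit 12194816) (BT.node (nat_lit 12194560) (BT.node (nat_lit 12194368) (BT.node (nat_lit 12194240) (BT.leaf (nat_lit 38493985)) (BT.leaf (nat_lit 46822417))) (BT.node (nat_lit 12194496) (BT.leaf (nat_lit 46404377)) (BT.leaf (nat_lit 40006917)))) (BT.node (nat_lit 12194688) (BT.node (nat_lit 12194624) (BT.leaf (nat_lit 49000993)) (BT.leaf (nat_lit 31555865))) (BT.node (nat_lit 12194752) (BT.leaf (nat_lit 31556121)) (BT.leaf (nat_lit 31556125))))) (BT.node (nat_lit 12195072) (BT.node (nat_lit 12194944) (BT.node (nat_lit 12194880) (BT.leaf (nat_lit 31556381)) (BT.leaf (nat_lit 31556625))) (BT.node (nat_lit 12195008) (BT.leaf (nat_lit 48661277)) (BT.leaf (nat_lit 31557909)))) (BT.node (nat_lit 12195200) (BT.node (nat_lit 12195136) (BT.leaf (nat_lit 31558153)) (BT.leaf (nat_lit 31558169))) (BT.node (nat_lit 12195264) (BT.leaf (nat_lit 31558173)) (BT.leaf (nat_lit 33015325))))))) (BT.node (nat_lit 12196480) (BT.node (nat_lit 12195840) (BT.node (nat_lit 12195584) (BT.node (nat_lit 12195456) (BT.node (nat_lit 12195392) (BT.leaf (nat_lit 34742037)) (BT.leaf (nat_lit 48781321))) (BT.node (nat_lit 12195520) (BT.leaf (nat_lit 42913813)) (BT.leaf (nat_lit 47835413)))) (BT.node (nat_lit 12195712) (BT.node (nat_lit 12195648) (BT.leaf (nat_lit 48849429)) (BT.leaf (nat_lit 47780893))) (BT.node (nat_lit 12195776) (BT.leaf (nat_lit 48847129)) (BT.leaf (nat_lit 44434957))))) (BT.node (nat_lit 12196224) (BT.node (nat_lit 12195968) (BT.node (nat_lit 12195904) (BT.leaf (nat_lit 44871697)) (BT.leaf (nat_lit 41272849))) (BT.node (nat_lit 12196096) (BT.leaf (nat_lit 31561497)) (BT.leaf (nat_lit 31562001)))) (BT.node (nat_lit 12196352) (BT.node (nat_lit 12196288) (BT.leaf (nat_lit 31562505)) (BT.leaf (nat_lit 31562521))) (BT.node (nat_lit 12196416) (BT.leaf (nat_lit 31562525)) (BT.leaf (nat_lit 49157397)))))) (BT.node (nat_lit 12196992) (BT.node (nat_lit 12196736) (BT.node (nat_lit 12196608) (BT.node (nat_lit 12196544) (BT.leaf (nat_lit 49157381)) (BT.leaf (nat_lit 34716445))) (BT.node (nat_lit 12196672) (BT.leaf (nat_lit 31564565)) (BT.leaf (nat_lit 31564573)))) (BT.node (nat_lit 12196864) (BT.node (nat_lit 12196800) (BT.leaf (nat_lit 31564829)) (BT.leaf (nat_lit 48835609))) (BT.node (nat_lit 12196928) (BT.leaf (nat_lit 31565585)) (BT.leaf (nat_lit 47066385))))) (BT.node (nat_lit 12197248) (BT.node (nat_lit 12197120) (BT.node (nat_lit 12197056) (BT.leaf (nat_lit 34663441)) (BT.leaf (nat_lit 48576289))) (BT.node (nat_lit 12197184) (BT.leaf (nat_lit 31567125)) (BT.leaf (nat_lit 31567381)))) (BT.node (nat_lit 12197440) (BT.node (nat_lit 12197312) (BT.leaf (nat_lit 31568661)) (BT.leaf (nat_lit 48824853))) (BT.node (nat_lit 12197568) (BT.leaf (nat_lit 39270169)) (BT.leaf (nat_lit 31568913)))))))) (BT.node (nat_lit 12200384) (BT.node (nat_lit 12199168) (BT.node (nat_lit 12198592) (BT.node (nat_lit 12198080) (BT.node (nat_lit 12197824) (BT.node (nat_lit 12197760) (BT.leaf (nat_lit 47803141)) (BT.leaf (nat_lit 31568929))) (BT.node (nat_lit 12197888) (BT.leaf (nat_lit 31569157)) (BT.leaf (nat_lit 46819609)))) (BT.node (nat_lit 12198272) (BT.node (nat_lit 12198144) (BT.leaf (nat_lit 31569697)) (BT.leaf (nat_lit 31570197))) (BT.node (nat_lit 12198464) (BT.leaf (nat_lit 48873749)) (BT.leaf (nat_lit 48871193))))) (BT.node (nat_lit 12198912) (BT.node (nat_lit 12198720) (BT.node (nat_lit 12198656) (BT.leaf (nat_lit 37889297)) (BT.leaf (nat_lit 32012045))) (BT.node (nat_lit 12198848) (BT.leaf (nat_lit 49095957)) (BT.leaf (nat_lit 50927649)))) (BT.node (nat_lit 12199040) (BT.node (nat_lit 12198976) (BT.leaf (nat_lit 47715357)) (BT.leaf (nat_lit 31573765))) (BT.node (nat_lit 12199104) (BT.leaf (nat_lit 43272225)) (BT.leaf (nat_lit 40702485)))))) (BT.node (nat_lit 12199680) (BT.node (nat_lit 12199424) (BT.node (nat_lit 12199296) (BT.node (nat_lit 12199232) (BT.leaf (nat_lit 31574289)) (BT.leaf (nat_lit 47009809))) (BT.node (nat_lit 12199360) (BT.leaf (nat_lit 31574557)) (BT.leaf (nat_lit 31575581)))) (BT.node (nat_lit 12199552) (BT.node (nat_lit 12199488) (BT.leaf (nat_lit 31577109)) (BT.leaf (nat_lit 31740949))) (BT.node (nat_lit 12199616) (BT.leaf (nat_lit 31580681)) (BT.leaf (nat_lit 31580685))))) (BT.node (nat_lit 12200000) (BT.node (nat_lit 12199872) (BT.node (nat_lit 12199744) (BT.leaf (nat_lit 31580697)) (BT.leaf (nat_lit 31580701))) (BT.node (nat_lit 12199936) (BT.leaf (nat_lit 31582237)) (BT.leaf (nat_lit 37933585)))) (BT.node (nat_lit 12200128) (BT.node (nat_lit 12200064) (BT.leaf (nat_lit 31582745)) (BT.leaf (nat_lit 31582749))) (BT.node (nat_lit 12200320) (BT.leaf (nat_lit 44589837)) (BT.leaf (nat_lit 32972045))))))) (BT.node (nat_lit 12201472) (BT.node (nat_lit 12200896) (BT.node (nat_lit 12200640) (BT.node (nat_lit 12200512) (BT.node (nat_lit 12200448) (BT.leaf (nat_lit 48756509)) (BT.leaf (nat_lit 31763981))) (BT.node (nat_lit 12200576) (BT.leaf (nat_lit 31585297)) (BT.leaf (nat_lit 48916509)))) (BT.node (nat_lit 12200768) (BT.node (nat_lit 12200704) (BT.leaf (nat_lit 39643681)) (BT.leaf (nat_lit 31587605))) (BT.node (nat_lit 12200832) (BT.leaf (nat_lit 49791505)) (BT.leaf (nat_lit 32144905))))) (BT.node (nat_lit 12201152) (BT.node (nat_lit 12201024) (BT.node (nat_lit 12200960) (BT.leaf (nat_lit 48803353)) (BT.leaf (nat_lit 31588117))) (BT.node (nat_lit 12201088) (BT.leaf (nat_lit 34798869)) (BT.leaf (nat_lit 34799129)))) (BT.node (nat_lit 12201344) (BT.node (nat_lit 12201280) (BT.leaf (nat_lit 31589653)) (BT.leaf (nat_lit 47850757))) (BT.node (nat_lit 12201408) (BT.leaf (nat_lit 48952333)) (BT.leaf (nat_lit 50550305)))))) (BT.node (nat_lit 12202048) (BT.node (nat_lit 12201860) (BT.node (nat_lit 12201792) (BT.node (nat_lit 12201664) (BT.leaf (nat_lit 46668553)) (BT.leaf (nat_lit 31591953))) (BT.node (nat_lit 12201856) (BT.leaf (nat_lit 31592725)) (BT.leaf (nat_lit 36358417)))) (BT.node (nat_lit 12201928) (BT.node (nat_lit 12201861) (BT.leaf (nat_lit 807592)) (BT.leaf (nat_lit 807592))) (BT.node (nat_lit 12201984) (BT.leaf (nat_lit 807604)) (BT.leaf (nat_lit 31593749))))) (BT.node (nat_lit 12202304) (BT.node (nat_lit 12202176) (BT.node (nat_lit 12202112) (BT.leaf (nat_lit 51000333)) (BT.leaf (nat_lit 51000589))) (BT.node (nat_lit 12202240) (BT.leaf (nat_lit 31594005)) (BT.leaf (nat_lit 31594013)))) (BT.node (nat_lit 12202432) (BT.node (nat_lit 12202368) (BT.leaf (nat_lit 31594257)) (BT.leaf (nat_lit 49185813))) (BT.node (nat_lit 12202496) (BT.leaf (nat_lit 31597081)) (BT.leaf (nat_lit 31597085)))))))))) (BT.node (nat_lit 12212224) (BT.node (nat_lit 12207168) (BT.node (nat_lit 12204928) (BT.node (nat_lit 12203712) (BT.node (nat_lit 12203136) (BT.node (nat_lit 12202816) (BT.node (nat_lit 12202688) (BT.node (nat_lit 12202624) (BT.leaf (nat_lit 31597337)) (BT.leaf (nat_lit 47007509))) (BT.node (nat_lit 12202752) (BT.leaf (nat_lit 31597845)) (BT.leaf (nat_lit 47227413)))) (BT.node (nat_lit 12202944) (BT.node (nat_lit 12202880) (BT.leaf (nat_lit 31598353)) (BT.leaf (nat_lit 39411989))) (BT.node (nat_lit 12203008) (BT.leaf (nat_lit 47992349)) (BT.leaf (nat_lit 48187653))))) (BT.node (nat_lit 12203456) (BT.node (nat_lit 12203328) (BT.node (nat_lit 12203200) (BT.leaf (nat_lit 31599381)) (BT.leaf (nat_lit 37893385))) (BT.node (nat_lit 12203392) (BT.leaf (nat_lit 31601169)) (BT.leaf (nat_lit 31601429)))) (BT.node (nat_lit 12203584) (BT.node (nat_lit 12203520) (BT.leaf (nat_lit 48663813)) (BT.leaf (nat_lit 48110341))) (BT.node (nat_lit 12203648) (BT.leaf (nat_lit 31603221)) (BT.leaf (nat_lit 47309857)))))) (BT.node (nat_lit 12204416) (BT.node (nat_lit 12203968) (BT.node (nat_lit 12203840) (BT.node (nat_lit 12203776) (BT.leaf (nat_lit 31603737)) (BT.leaf (nat_lit 46898973))) (BT.node (nat_lit 12203904) (BT.leaf (nat_lit 46898977)) (BT.leaf (nat_lit 49324309)))) (BT.node (nat_lit 12204288) (BT.node (nat_lit 12204224) (BT.leaf (nat_lit 36204309)) (BT.leaf (nat_lit 34688277))) (BT.node (nat_lit 12204352) (BT.leaf (nat_lit 46407437)) (BT.leaf (nat_lit 47406357))))) (BT.node (nat_lit 12204672) (BT.node (nat_lit 12204544) (BT.node (nat_lit 12204480) (BT.leaf (nat_lit 32824077)) (BT.leaf (nat_lit 35303689))) (BT.node (nat_lit 12204608) (BT.leaf (nat_lit 51393813)) (BT.leaf (nat_lit 51393301)))) (BT.node (nat_lit 12204800) (BT.node (nat_lit 12204736) (BT.leaf (nat_lit 46407453)) (BT.leaf (nat_lit 37739029))) (BT.node (nat_lit 12204864) (BT.leaf (nat_lit 45143305)) (BT.leaf (nat_lit 51076885))))))) (BT.node (nat_lit 12206080) (BT.node (nat_lit 12205568) (BT.node (nat_lit 12205184) (BT.node (nat_lit 12205056) (BT.node (nat_lit 12204992) (BT.leaf (nat_lit 34689809)) (BT.leaf (nat_lit 35175445))) (BT.node (nat_lit 12205120) (BT.leaf (nat_lit 48819993)) (BT.leaf (nat_lit 31613201)))) (BT.node (nat_lit 12205312) (BT.node (nat_lit 12205248) (BT.leaf (nat_lit 35359777)) (BT.leaf (nat_lit 35330565))) (BT.node (nat_lit 12205376) (BT.leaf (nat_lit 33107741)) (BT.leaf (nat_lit 31620625))))) (BT.node (nat_lit 12205824) (BT.node (nat_lit 12205696) (BT.node (nat_lit 12205632) (BT.leaf (nat_lit 39626005)) (BT.leaf (nat_lit 31621905))) (BT.node (nat_lit 12205760) (BT.leaf (nat_lit 31622673)) (BT.leaf (nat_lit 31622169)))) (BT.node (nat_lit 12205952) (BT.node (nat_lit 12205888) (BT.leaf (nat_lit 31623189)) (BT.leaf (nat_lit 31623701))) (BT.node (nat_lit 12206016) (BT.leaf (nat_lit 43991841)) (BT.leaf (nat_lit 45199905)))))) (BT.node (nat_lit 12206656) (BT.node (nat_lit 12206400) (BT.node (nat_lit 12206208) (BT.node (nat_lit 12206144) (BT.leaf (nat_lit 31624465)) (BT.leaf (nat_lit 48825609))) (BT.node (nat_lit 12206336) (BT.leaf (nat_lit 31624729)) (BT.leaf (nat_lit 39270173)))) (BT.node (nat_lit 12206528) (BT.node (nat_lit 12206464) (BT.leaf (nat_lit 48790805)) (BT.leaf (nat_lit 31626005))) (BT.node (nat_lit 12206592) (BT.leaf (nat_lit 43419161)) (BT.leaf (nat_lit 31626245))))) (BT.node (nat_lit 12206912) (BT.node (nat_lit 12206784) (BT.node (nat_lit 12206720) (BT.leaf (nat_lit 31626261)) (BT.leaf (nat_lit 31627281))) (BT.node (nat_lit 12206848) (BT.leaf (nat_lit 31627801)) (BT.leaf (nat_lit 31627805)))) (BT.node (nat_lit 12207040) (BT.node (nat_lit 12206976) (BT.leaf (nat_lit 31978517)) (BT.leaf (nat_lit 31628565))) (BT.node (nat_lit 12207104) (BT.leaf (nat_lit 31628821)) (BT.leaf (nat_lit 31630101)))))))) (BT.node (nat_lit 12209600) (BT.node (nat_lit 12208320) (BT.node (nat_lit 12207680) (BT.node (nat_lit 12207424) (BT.node (nat_lit 12207296) (BT.node (nat_lit 12207232) (BT.leaf (nat_lit 47199257)) (BT.leaf (nat_lit 31631121))) (BT.node (nat_lit 12207360) (BT.leaf (nat_lit 31631649)) (BT.leaf (nat_lit 31633169)))) (BT.node (nat_lit 12207552) (BT.node (nat_lit 12207488) (BT.leaf (nat_lit 31634961)) (BT.leaf (nat_lit 31635733))) (BT.node (nat_lit 12207616) (BT.leaf (nat_lit 31637001)) (BT.leaf (nat_lit 31637005))))) (BT.node (nat_lit 12208064) (BT.node (nat_lit 12207808) (BT.node (nat_lit 12207744) (BT.leaf (nat_lit 31637525)) (BT.leaf (nat_lit 31637021))) (BT.node (nat_lit 12207872) (BT.leaf (nat_lit 32021001)) (BT.leaf (nat_lit 48831257)))) (BT.node (nat_lit 12208192) (BT.node (nat_lit 12208128) (BT.leaf (nat_lit 31639813)) (BT.leaf (nat_lit 40419105))) (BT.node (nat_lit 12208256) (BT.leaf (nat_lit 43360285)) (BT.leaf (nat_lit 31640593)))))) (BT.node (nat_lit 12208832) (BT.node (nat_lit 12208579) (BT.node (nat_lit 12208512) (BT.node (nat_lit 12208448) (BT.leaf (nat_lit 31641109)) (BT.leaf (nat_lit 31641361))) (BT.node (nat_lit 12208576) (BT.leaf (nat_lit 47542549)) (BT.leaf (nat_lit 31641377)))) (BT.node (nat_lit 12208704) (BT.node (nat_lit 12208640) (BT.leaf (nat_lit 793680)) (BT.leaf (nat_lit 46934533))) (BT.node (nat_lit 12208768) (BT.leaf (nat_lit 31642129)) (BT.leaf (nat_lit 31962121))))) (BT.node (nat_lit 12209344) (BT.node (nat_lit 12209024) (BT.node (nat_lit 12208896) (BT.leaf (nat_lit 31643401)) (BT.leaf (nat_lit 31643405))) (BT.node (nat_lit 12209216) (BT.leaf (nat_lit 34612501)) (BT.leaf (nat_lit 31645457)))) (BT.node (nat_lit 12209472) (BT.node (nat_lit 12209408) (BT.leaf (nat_lit 51995169)) (BT.leaf (nat_lit 34709525))) (BT.node (nat_lit 12209536) (BT.leaf (nat_lit 50618913)) (BT.leaf (nat_lit 51995425))))))) (BT.node (nat_lit 12211072) (BT.node (nat_lit 12210176) (BT.node (nat_lit 12209920) (BT.node (nat_lit 12209728) (BT.node (nat_lit 12209664) (BT.leaf (nat_lit 31646489)) (BT.leaf (nat_lit 47953413))) (BT.node (nat_lit 12209856) (BT.leaf (nat_lit 31647513)) (BT.leaf (nat_lit 34710293)))) (BT.node (nat_lit 12210048) (BT.node (nat_lit 12209984) (BT.leaf (nat_lit 31648025)) (BT.leaf (nat_lit 31648533))) (BT.node (nat_lit 12210112) (BT.leaf (nat_lit 50423057)) (BT.leaf (nat_lit 50143765))))) (BT.node (nat_lit 12210752) (BT.node (nat_lit 12210560) (BT.node (nat_lit 12210432) (BT.leaf (nat_lit 32591889)) (BT.leaf (nat_lit 31650569))) (BT.node (nat_lit 12210624) (BT.leaf (nat_lit 51420177)) (BT.leaf (nat_lit 48835613)))) (BT.node (nat_lit 12210944) (BT.node (nat_lit 12210880) (BT.leaf (nat_lit 45591325)) (BT.leaf (nat_lit 31653909))) (BT.node (nat_lit 12211008) (BT.leaf (nat_lit 31654165)) (BT.leaf (nat_lit 48844301)))))) (BT.node (nat_lit 12211648) (BT.node (nat_lit 12211328) (BT.node (nat_lit 12211200) (BT.node (nat_lit 12211136) (BT.leaf (nat_lit 46361621)) (BT.leaf (nat_lit 46653721))) (BT.node (nat_lit 12211264) (BT.leaf (nat_lit 46653725)) (BT.leaf (nat_lit 48537881)))) (BT.node (nat_lit 12211520) (BT.node (nat_lit 12211392) (BT.leaf (nat_lit 39763741)) (BT.leaf (nat_lit 41380121))) (BT.node (nat_lit 12211584) (BT.leaf (nat_lit 31656465)) (BT.leaf (nat_lit 32875801))))) (BT.node (nat_lit 12211904) (BT.node (nat_lit 12211776) (BT.node (nat_lit 12211712) (BT.leaf (nat_lit 31656221)) (BT.leaf (nat_lit 31657481))) (BT.node (nat_lit 12211840) (BT.leaf (nat_lit 31657485)) (BT.leaf (nat_lit 41757189)))) (BT.node (nat_lit 12212032) (BT.node (nat_lit 12211968) (BT.leaf (nat_lit 31657497)) (BT.leaf (nat_lit 31657501))) (BT.node (nat_lit 12212096) (BT.leaf (nat_lit 36829977)) (BT.leaf (nat_lit 31658017))))))))) (BT.node (nat_lit 12216576) (BT.node (nat_lit 12214209) (BT.node (nat_lit 12212992) (BT.node (nat_lit 12212677) (BT.node (nat_lit 12212480) (BT.node (nat_lit 12212352) (BT.node (nat_lit 12212288) (BT.leaf (nat_lit 31658501)) (BT.leaf (nat_lit 31661073))) (BT.node (nat_lit 12212416) (BT.leaf (nat_lit 48847133)) (BT.leaf (nat_lit 47933457)))) (BT.node (nat_lit 12212608) (BT.node (nat_lit 12212544) (BT.leaf (nat_lit 31661845)) (BT.leaf (nat_lit 31662357))) (BT.node (nat_lit 12212672) (BT.leaf (nat_lit 31663129)) (BT.leaf (nat_lit 35008525))))) (BT.node (nat_lit 12212800) (BT.node (nat_lit 12212742) (BT.node (nat_lit 12212736) (BT.leaf (nat_lit 797464)) (BT.leaf (nat_lit 47867653))) (BT.node (nat_lit 12212744) (BT.leaf (nat_lit 782920)) (BT.leaf (nat_lit 782920)))) (BT.node (nat_lit 12212869) (BT.node (nat_lit 12212864) (BT.leaf (nat_lit 49037333)) (BT.leaf (nat_lit 48851741))) (BT.node (nat_lit 12212928) (BT.leaf (nat_lit 788912)) (BT.leaf (nat_lit 31876625)))))) (BT.node (nat_lit 12213632) (BT.node (nat_lit 12213254) (BT.node (nat_lit 12213184) (BT.node (nat_lit 12213120) (BT.leaf (nat_lit 31954709)) (BT.leaf (nat_lit 31667225))) (BT.node (nat_lit 12213248) (BT.leaf (nat_lit 31670277)) (BT.leaf (nat_lit 31668241)))) (BT.node (nat_lit 12213440) (BT.node (nat_lit 12213312) (BT.leaf (nat_lit 786476)) (BT.leaf (nat_lit 47347737))) (BT.node (nat_lit 12213568) (BT.leaf (nat_lit 37742357)) (BT.leaf (nat_lit 31954713))))) (BT.node (nat_lit 12213824) (BT.node (nat_lit 12213760) (BT.node (nat_lit 12213696) (BT.leaf (nat_lit 38197273)) (BT.leaf (nat_lit 38197277))) (BT.node (nat_lit 12213763) (BT.leaf (nat_lit 35199249)) (BT.leaf (nat_lit 766204)))) (BT.node (nat_lit 12213952) (BT.node (nat_lit 12213888) (BT.leaf (nat_lit 52080137)) (BT.leaf (nat_lit 37899797))) (BT.node (nat_lit 12214016) (BT.leaf (nat_lit 34723345)) (BT.leaf (nat_lit 31673109))))))) (BT.node (nat_lit 12215296) (BT.node (nat_lit 12214784) (BT.node (nat_lit 12214464) (BT.node (nat_lit 12214336) (BT.node (nat_lit 12214272) (BT.leaf (nat_lit 800896)) (BT.leaf (nat_lit 31673877))) (BT.node (nat_lit 12214400) (BT.leaf (nat_lit 34756105)) (BT.leaf (nat_lit 31675413)))) (BT.node (nat_lit 12214656) (BT.node (nat_lit 12214528) (BT.leaf (nat_lit 31675925)) (BT.leaf (nat_lit 52264465))) (BT.node (nat_lit 12214720) (BT.leaf (nat_lit 49253661)) (BT.leaf (nat_lit 33183517))))) (BT.node (nat_lit 12214976) (BT.node (nat_lit 12214848) (BT.node (nat_lit 12214792) (BT.leaf (nat_lit 31678745)) (BT.leaf (nat_lit 773056))) (BT.node (nat_lit 12214912) (BT.leaf (nat_lit 43953693)) (BT.leaf (nat_lit 31691545)))) (BT.node (nat_lit 12215104) (BT.node (nat_lit 12215040) (BT.leaf (nat_lit 48864025)) (BT.leaf (nat_lit 31680021))) (BT.node (nat_lit 12215168) (BT.leaf (nat_lit 31691533)) (BT.leaf (nat_lit 31679749)))))) (BT.node (nat_lit 12215936) (BT.node (nat_lit 12215680) (BT.node (nat_lit 12215488) (BT.node (nat_lit 12215360) (BT.leaf (nat_lit 52268557)) (BT.leaf (nat_lit 51339789))) (BT.node (nat_lit 12215616) (BT.leaf (nat_lit 34726933)) (BT.leaf (nat_lit 31686165)))) (BT.node (nat_lit 12215808) (BT.node (nat_lit 12215744) (BT.leaf (nat_lit 47170333)) (BT.leaf (nat_lit 31688469))) (BT.node (nat_lit 12215872) (BT.leaf (nat_lit 31688721)) (BT.leaf (nat_lit 44473629))))) (BT.node (nat_lit 12216320) (BT.node (nat_lit 12216064) (BT.node (nat_lit 12216000) (BT.leaf (nat_lit 31690017)) (BT.leaf (nat_lit 31691529))) (BT.node (nat_lit 12216192) (BT.leaf (nat_lit 49104149)) (BT.leaf (nat_lit 50717465)))) (BT.node (nat_lit 12216448) (BT.node (nat_lit 12216384) (BT.leaf (nat_lit 50296865)) (BT.leaf (nat_lit 31693841))) (BT.node (nat_lit 12216512) (BT.leaf (nat_lit 34731281)) (BT.leaf (nat_lit 36165393)))))))) (BT.node (nat_lit 12219328) (BT.node (nat_lit 12217792) (BT.node (nat_lit 12217152) (BT.node (nat_lit 12216896) (BT.node (nat_lit 12216704) (BT.node (nat_lit 12216640) (BT.leaf (nat_lit 31694109)) (BT.leaf (nat_lit 31695133))) (BT.node (nat_lit 12216768) (BT.leaf (nat_lit 32805641)) (BT.leaf (nat_lit 31695389)))) (BT.node (nat_lit 12217024) (BT.node (nat_lit 12216960) (BT.leaf (nat_lit 49095189)) (BT.leaf (nat_lit 31695905))) (BT.node (nat_lit 12217088) (BT.leaf (nat_lit 33103389)) (BT.leaf (nat_lit 34884637))))) (BT.node (nat_lit 12217408) (BT.node (nat_lit 12217280) (BT.node (nat_lit 12217216) (BT.leaf (nat_lit 50647061)) (BT.leaf (nat_lit 34180889))) (BT.node (nat_lit 12217344) (BT.leaf (nat_lit 43910433)) (BT.leaf (nat_lit 31697685)))) (BT.node (nat_lit 12217536) (BT.node (nat_lit 12217472) (BT.leaf (nat_lit 46164513)) (BT.leaf (nat_lit 47349525))) (BT.node (nat_lit 12217728) (BT.leaf (nat_lit 36790049)) (BT.leaf (nat_lit 34668053)))))) (BT.node (nat_lit 12218752) (BT.node (nat_lit 12218304) (BT.node (nat_lit 12218048) (BT.node (nat_lit 12217984) (BT.leaf (nat_lit 49951249)) (BT.leaf (nat_lit 41840405))) (BT.node (nat_lit 12218240) (BT.leaf (nat_lit 48873753)) (BT.leaf (nat_lit 48871197)))) (BT.node (nat_lit 12218560) (BT.node (nat_lit 12218432) (BT.leaf (nat_lit 43449873)) (BT.leaf (nat_lit 49832465))) (BT.node (nat_lit 12218688) (BT.leaf (nat_lit 34736145)) (BT.leaf (nat_lit 31703573))))) (BT.node (nat_lit 12219072) (BT.node (nat_lit 12218944) (BT.node (nat_lit 12218880) (BT.leaf (nat_lit 34073117)) (BT.leaf (nat_lit 31704853))) (BT.node (nat_lit 12219008) (BT.leaf (nat_lit 51542805)) (BT.leaf (nat_lit 31705617)))) (BT.node (nat_lit 12219200) (BT.node (nat_lit 12219136) (BT.leaf (nat_lit 42075681)) (BT.leaf (nat_lit 31706377))) (BT.node (nat_lit 12219264) (BT.leaf (nat_lit 31707417)) (BT.leaf (nat_lit 31707421))))))) (BT.node (nat_lit 12220416) (BT.node (nat_lit 12219840) (BT.node (nat_lit 12219584) (BT.node (nat_lit 12219456) (BT.node (nat_lit 12219392) (BT.leaf (nat_lit 40135445)) (BT.leaf (nat_lit 44521993))) (BT.node (nat_lit 12219520) (BT.leaf (nat_lit 44521493)) (BT.leaf (nat_lit 31708425)))) (BT.node (nat_lit 12219712) (BT.node (nat_lit 12219648) (BT.leaf (nat_lit 34737941)) (BT.leaf (nat_lit 31708445))) (BT.node (nat_lit 12219776) (BT.leaf (nat_lit 31708449)) (BT.leaf (nat_lit 31708693))))) (BT.node (nat_lit 12220160) (BT.node (nat_lit 12220032) (BT.node (nat_lit 12219904) (BT.leaf (nat_lit 31709729)) (BT.leaf (nat_lit 43440905))) (BT.node (nat_lit 12220096) (BT.leaf (nat_lit 33752597)) (BT.leaf (nat_lit 34741781)))) (BT.node (nat_lit 12220291) (BT.node (nat_lit 12220224) (BT.leaf (nat_lit 34742041)) (BT.leaf (nat_lit 52058897))) (BT.node (nat_lit 12220352) (BT.leaf (nat_lit 810120)) (BT.leaf (nat_lit 42094625)))))) (BT.node (nat_lit 12220803) (BT.node (nat_lit 12220672) (BT.node (nat_lit 12220544) (BT.node (nat_lit 12220423) (BT.leaf (nat_lit 52057881)) (BT.leaf (nat_lit 816036))) (BT.node (nat_lit 12220608) (BT.leaf (nat_lit 46860293)) (BT.leaf (nat_lit 31714841)))) (BT.node (nat_lit 12220800) (BT.node (nat_lit 12220736) (BT.leaf (nat_lit 51547921)) (BT.leaf (nat_lit 51993361))) (BT.node (nat_lit 12220802) (BT.leaf (nat_lit 35893785)) (BT.leaf (nat_lit 803356))))) (BT.node (nat_lit 12221056) (BT.node (nat_lit 12220928) (BT.node (nat_lit 12220864) (BT.leaf (nat_lit 803356)) (BT.leaf (nat_lit 46542353))) (BT.node (nat_lit 12220992) (BT.leaf (nat_lit 51586577)) (BT.leaf (nat_lit 51827473)))) (BT.node (nat_lit 12221184) (BT.node (nat_lit 12221120) (BT.leaf (nat_lit 48883977)) (BT.leaf (nat_lit 31715865))) (BT.node (nat_lit 12221248) (BT.leaf (nat_lit 48781337)) (BT.leaf (nat_lit 34742805)))))))))))) (BT.node (nat_lit 12257984) (BT.node (nat_lit 12239104) (BT.node (nat_lit 12230784) (BT.node (nat_lit 12226432) (BT.node (nat_lit 12223872) (BT.node (nat_lit 12222720) (BT.node (nat_lit 12222080) (BT.node (nat_lit 12221824) (BT.node (nat_lit 12221696) (BT.node (nat_lit 12221568) (BT.leaf (nat_lit 31717637)) (BT.leaf (nat_lit 31717649))) (BT.node (nat_lit 12221760) (BT.leaf (nat_lit 31717917)) (BT.leaf (nat_lit 45006105)))) (BT.node (nat_lit 12221952) (BT.node (nat_lit 12221888) (BT.leaf (nat_lit 34306069)) (BT.leaf (nat_lit 34306073))) (BT.node (nat_lit 12222016) (BT.leaf (nat_lit 34306077)) (BT.leaf (nat_lit 37881369))))) (BT.node (nat_lit 12222336) (BT.node (nat_lit 12222208) (BT.node (nat_lit 12222144) (BT.leaf (nat_lit 31719701)) (BT.leaf (nat_lit 37881357))) (BT.node (nat_lit 12222272) (BT.leaf (nat_lit 48889117)) (BT.leaf (nat_lit 51696401)))) (BT.node (nat_lit 12222464) (BT.node (nat_lit 12222400) (BT.leaf (nat_lit 31720221)) (BT.leaf (nat_lit 31720469))) (BT.node (nat_lit 12222592) (BT.leaf (nat_lit 34912273)) (BT.leaf (nat_lit 34749461)))))) (BT.node (nat_lit 12223360) (BT.node (nat_lit 12223040) (BT.node (nat_lit 12222848) (BT.node (nat_lit 12222784) (BT.leaf (nat_lit 33688849)) (BT.leaf (nat_lit 31721233))) (BT.node (nat_lit 12222976) (BT.leaf (nat_lit 34750225)) (BT.leaf (nat_lit 46932233)))) (BT.node (nat_lit 12223232) (BT.node (nat_lit 12223168) (BT.leaf (nat_lit 31724041)) (BT.leaf (nat_lit 46932237))) (BT.node (nat_lit 12223296) (BT.leaf (nat_lit 31725081)) (BT.leaf (nat_lit 31725069))))) (BT.node (nat_lit 12223616) (BT.node (nat_lit 12223488) (BT.node (nat_lit 12223424) (BT.leaf (nat_lit 31725329)) (BT.leaf (nat_lit 31726601))) (BT.node (nat_lit 12223552) (BT.leaf (nat_lit 31725585)) (BT.leaf (nat_lit 31726609)))) (BT.node (nat_lit 12223744) (BT.node (nat_lit 12223680) (BT.leaf (nat_lit 31726621)) (BT.leaf (nat_lit 31726617))) (BT.node (nat_lit 12223808) (BT.leaf (nat_lit 34752273)) (BT.leaf (nat_lit 34751505))))))) (BT.node (nat_lit 12225024) (BT.node (nat_lit 12224448) (BT.node (nat_lit 12224128) (BT.node (nat_lit 12224000) (BT.node (nat_lit 12223936) (BT.leaf (nat_lit 49242401)) (BT.leaf (nat_lit 31727901))) (BT.node (nat_lit 12224064) (BT.leaf (nat_lit 36059933)) (BT.leaf (nat_lit 31728145)))) (BT.node (nat_lit 12224320) (BT.node (nat_lit 12224192) (BT.leaf (nat_lit 48887313)) (BT.leaf (nat_lit 31729177))) (BT.node (nat_lit 12224384) (BT.leaf (nat_lit 48889097)) (BT.leaf (nat_lit 50417169))))) (BT.node (nat_lit 12224704) (BT.node (nat_lit 12224576) (BT.node (nat_lit 12224512) (BT.leaf (nat_lit 50417173)) (BT.leaf (nat_lit 31732237))) (BT.node (nat_lit 12224640) (BT.leaf (nat_lit 31732745)) (BT.leaf (nat_lit 31732233)))) (BT.node (nat_lit 12224832) (BT.node (nat_lit 12224768) (BT.leaf (nat_lit 31732749)) (BT.leaf (nat_lit 31734037))) (BT.node (nat_lit 12224960) (BT.leaf (nat_lit 31732761)) (BT.leaf (nat_lit 31733025)))))) (BT.node (nat_lit 12225856) (BT.node (nat_lit 12225280) (BT.node (nat_lit 12225152) (BT.node (nat_lit 12225088) (BT.leaf (nat_lit 31733269)) (BT.leaf (nat_lit 37881377))) (BT.node (nat_lit 12225216) (BT.leaf (nat_lit 50191649)) (BT.leaf (nat_lit 35671813)))) (BT.node (nat_lit 12225472) (BT.node (nat_lit 12225408) (BT.leaf (nat_lit 45116169)) (BT.leaf (nat_lit 45391393))) (BT.node (nat_lit 12225664) (BT.leaf (nat_lit 31741205)) (BT.leaf (nat_lit 31742737))))) (BT.node (nat_lit 12226112) (BT.node (nat_lit 12225984) (BT.node (nat_lit 12225920) (BT.leaf (nat_lit 31743773)) (BT.leaf (nat_lit 31744017))) (BT.node (nat_lit 12226048) (BT.leaf (nat_lit 31783957)) (BT.leaf (nat_lit 31745289)))) (BT.node (nat_lit 12226240) (BT.node (nat_lit 12226176) (BT.leaf (nat_lit 31745297)) (BT.leaf (nat_lit 51807765))) (BT.node (nat_lit 12226368) (BT.leaf (nat_lit 51807749)) (BT.leaf (nat_lit 49211153)))))))) (BT.node (nat_lit 12228480) (BT.node (nat_lit 12227392) (BT.node (nat_lit 12226944) (BT.node (nat_lit 12226688) (BT.node (nat_lit 12226560) (BT.node (nat_lit 12226496) (BT.leaf (nat_lit 31748885)) (BT.leaf (nat_lit 31748889))) (BT.node (nat_lit 12226624) (BT.leaf (nat_lit 31749397)) (BT.leaf (nat_lit 46103577)))) (BT.node (nat_lit 12226816) (BT.node (nat_lit 12226752) (BT.leaf (nat_lit 49086469)) (BT.leaf (nat_lit 31757853))) (BT.node (nat_lit 12226880) (BT.leaf (nat_lit 31760137)) (BT.leaf (nat_lit 31751957))))) (BT.node (nat_lit 12227140) (BT.node (nat_lit 12227072) (BT.node (nat_lit 12227008) (BT.leaf (nat_lit 41216793)) (BT.leaf (nat_lit 41216797))) (BT.node (nat_lit 12227136) (BT.leaf (nat_lit 31752465)) (BT.leaf (nat_lit 34926609)))) (BT.node (nat_lit 12227264) (BT.node (nat_lit 12227200) (BT.leaf (nat_lit 767840)) (BT.leaf (nat_lit 49390353))) (BT.node (nat_lit 12227328) (BT.leaf (nat_lit 31754517)) (BT.leaf (nat_lit 47024405)))))) (BT.node (nat_lit 12227968) (BT.node (nat_lit 12227648) (BT.node (nat_lit 12227520) (BT.node (nat_lit 12227456) (BT.leaf (nat_lit 47023649)) (BT.leaf (nat_lit 31755785))) (BT.node (nat_lit 12227584) (BT.leaf (nat_lit 31755789)) (BT.leaf (nat_lit 31756305)))) (BT.node (nat_lit 12227776) (BT.node (nat_lit 12227712) (BT.leaf (nat_lit 31756561)) (BT.leaf (nat_lit 31757845))) (BT.node (nat_lit 12227904) (BT.leaf (nat_lit 31760161)) (BT.leaf (nat_lit 43753733))))) (BT.node (nat_lit 12228224) (BT.node (nat_lit 12228096) (BT.node (nat_lit 12228032) (BT.leaf (nat_lit 31759369)) (BT.leaf (nat_lit 31759373))) (BT.node (nat_lit 12228160) (BT.leaf (nat_lit 47664657)) (BT.leaf (nat_lit 31759389)))) (BT.node (nat_lit 12228352) (BT.node (nat_lit 12228288) (BT.leaf (nat_lit 47093009)) (BT.leaf (nat_lit 48913437))) (BT.node (nat_lit 12228416) (BT.leaf (nat_lit 50283537)) (BT.leaf (nat_lit 51573525))))))) (BT.node (nat_lit 12229440) (BT.node (nat_lit 12228928) (BT.node (nat_lit 12228736) (BT.node (nat_lit 12228608) (BT.node (nat_lit 12228544) (BT.leaf (nat_lit 48914189)) (BT.leaf (nat_lit 48661253))) (BT.node (nat_lit 12228672) (BT.leaf (nat_lit 34838537)) (BT.leaf (nat_lit 49502213)))) (BT.node (nat_lit 12228800) (BT.node (nat_lit 12228743) (BT.leaf (nat_lit 36410641)) (BT.leaf (nat_lit 777544))) (BT.node (nat_lit 12228864) (BT.leaf (nat_lit 32613125)) (BT.leaf (nat_lit 31762449))))) (BT.node (nat_lit 12229184) (BT.node (nat_lit 12229056) (BT.node (nat_lit 12228992) (BT.leaf (nat_lit 40254469)) (BT.leaf (nat_lit 31763465))) (BT.node (nat_lit 12229120) (BT.leaf (nat_lit 50811937)) (BT.leaf (nat_lit 48661009)))) (BT.node (nat_lit 12229312) (BT.node (nat_lit 12229248) (BT.leaf (nat_lit 46564893)) (BT.leaf (nat_lit 32611105))) (BT.node (nat_lit 12229376) (BT.leaf (nat_lit 38407449)) (BT.leaf (nat_lit 39314457)))))) (BT.node (nat_lit 12230080) (BT.node (nat_lit 12229824) (BT.node (nat_lit 12229568) (BT.node (nat_lit 12229504) (BT.leaf (nat_lit 34773785)) (BT.leaf (nat_lit 34215709))) (BT.node (nat_lit 12229632) (BT.leaf (nat_lit 31765265)) (BT.leaf (nat_lit 31765777)))) (BT.node (nat_lit 12229952) (BT.node (nat_lit 12229888) (BT.leaf (nat_lit 32715541)) (BT.leaf (nat_lit 32715525))) (BT.node (nat_lit 12230016) (BT.leaf (nat_lit 31767569)) (BT.leaf (nat_lit 48661525))))) (BT.node (nat_lit 12230464) (BT.node (nat_lit 12230208) (BT.node (nat_lit 12230144) (BT.leaf (nat_lit 31768081)) (BT.leaf (nat_lit 31770637))) (BT.node (nat_lit 12230272) (BT.leaf (nat_lit 51734805)) (BT.leaf (nat_lit 36585733)))) (BT.node (nat_lit 12230656) (BT.node (nat_lit 12230592) (BT.leaf (nat_lit 36096025)) (BT.leaf (nat_lit 52336149))) (BT.node (nat_lit 12230720) (BT.leaf (nat_lit 31771921)) (BT.leaf (nat_lit 36428573))))))))) (BT.node (nat_lit 12234752) (BT.node (nat_lit 12232645) (BT.node (nat_lit 12231808) (BT.node (nat_lit 12231234) (BT.node (nat_lit 12231109) (BT.node (nat_lit 12230976) (BT.node (nat_lit 12230912) (BT.leaf (nat_lit 34780445)) (BT.leaf (nat_lit 31774229))) (BT.node (nat_lit 12231104) (BT.leaf (nat_lit 47233569)) (BT.leaf (nat_lit 31775497)))) (BT.node (nat_lit 12231173) (BT.node (nat_lit 12231168) (BT.leaf (nat_lit 813856)) (BT.leaf (nat_lit 31775501))) (BT.node (nat_lit 12231232) (BT.leaf (nat_lit 813860)) (BT.leaf (nat_lit 47236121))))) (BT.node (nat_lit 12231552) (BT.node (nat_lit 12231360) (BT.node (nat_lit 12231296) (BT.leaf (nat_lit 813864)) (BT.leaf (nat_lit 49970201))) (BT.node (nat_lit 12231424) (BT.leaf (nat_lit 44624137)) (BT.leaf (nat_lit 31778837)))) (BT.node (nat_lit 12231680) (BT.node (nat_lit 12231616) (BT.leaf (nat_lit 34781461)) (BT.leaf (nat_lit 44630805))) (BT.node (nat_lit 12231744) (BT.leaf (nat_lit 32719637)) (BT.leaf (nat_lit 31776789)))))) (BT.node (nat_lit 12232192) (BT.node (nat_lit 12232000) (BT.node (nat_lit 12231878) (BT.node (nat_lit 12231872) (BT.leaf (nat_lit 46437637)) (BT.leaf (nat_lit 43395617))) (BT.node (nat_lit 12231936) (BT.leaf (nat_lit 794944)) (BT.leaf (nat_lit 31778325)))) (BT.node (nat_lit 12232128) (BT.node (nat_lit 12232064) (BT.leaf (nat_lit 38059037)) (BT.leaf (nat_lit 31781653))) (BT.node (nat_lit 12232132) (BT.leaf (nat_lit 35436317)) (BT.leaf (nat_lit 799252))))) (BT.node (nat_lit 12232448) (BT.node (nat_lit 12232320) (BT.node (nat_lit 12232256) (BT.leaf (nat_lit 51152137)) (BT.leaf (nat_lit 47018517))) (BT.node (nat_lit 12232384) (BT.leaf (nat_lit 35436301)) (BT.leaf (nat_lit 48752661)))) (BT.node (nat_lit 12232576) (BT.node (nat_lit 12232512) (BT.leaf (nat_lit 52413985)) (BT.leaf (nat_lit 31782673))) (BT.node (nat_lit 12232640) (BT.leaf (nat_lit 48494625)) (BT.leaf (nat_lit 51685409))))))) (BT.node (nat_lit 12233728) (BT.node (nat_lit 12233216) (BT.node (nat_lit 12232896) (BT.node (nat_lit 12232704) (BT.node (nat_lit 12232648) (BT.leaf (nat_lit 811356)) (BT.leaf (nat_lit 811356))) (BT.node (nat_lit 12232832) (BT.leaf (nat_lit 31784981)) (BT.leaf (nat_lit 31785229)))) (BT.node (nat_lit 12233024) (BT.node (nat_lit 12232960) (BT.leaf (nat_lit 31785493)) (BT.leaf (nat_lit 31785241))) (BT.node (nat_lit 12233152) (BT.leaf (nat_lit 31785245)) (BT.leaf (nat_lit 48987421))))) (BT.node (nat_lit 12233472) (BT.node (nat_lit 12233344) (BT.node (nat_lit 12233280) (BT.leaf (nat_lit 48949533)) (BT.leaf (nat_lit 40104725))) (BT.node (nat_lit 12233408) (BT.leaf (nat_lit 31787545)) (BT.leaf (nat_lit 31788053)))) (BT.node (nat_lit 12233600) (BT.node (nat_lit 12233536) (BT.leaf (nat_lit 45721093)) (BT.leaf (nat_lit 37858577))) (BT.node (nat_lit 12233664) (BT.leaf (nat_lit 47793949)) (BT.leaf (nat_lit 31788813)))))) (BT.node (nat_lit 12234240) (BT.node (nat_lit 12233984) (BT.node (nat_lit 12233856) (BT.node (nat_lit 12233792) (BT.leaf (nat_lit 32950293)) (BT.leaf (nat_lit 31789837))) (BT.node (nat_lit 12233920) (BT.leaf (nat_lit 44648717)) (BT.leaf (nat_lit 50615061)))) (BT.node (nat_lit 12234049) (BT.node (nat_lit 12234048) (BT.leaf (nat_lit 47467545)) (BT.leaf (nat_lit 52157977))) (BT.node (nat_lit 12234176) (BT.leaf (nat_lit 807588)) (BT.leaf (nat_lit 48481569))))) (BT.node (nat_lit 12234496) (BT.node (nat_lit 12234368) (BT.node (nat_lit 12234304) (BT.leaf (nat_lit 31792401)) (BT.leaf (nat_lit 32150029))) (BT.node (nat_lit 12234432) (BT.leaf (nat_lit 36396049)) (BT.leaf (nat_lit 48325381)))) (BT.node (nat_lit 12234624) (BT.node (nat_lit 12234560) (BT.leaf (nat_lit 37629205)) (BT.leaf (nat_lit 37628693))) (BT.node (nat_lit 12234688) (BT.leaf (nat_lit 48932625)) (BT.leaf (nat_lit 48682529)))))))) (BT.node (nat_lit 12236928) (BT.node (nat_lit 12235776) (BT.node (nat_lit 12235136) (BT.node (nat_lit 12234949) (BT.node (nat_lit 12234880) (BT.node (nat_lit 12234816) (BT.leaf (nat_lit 31810849)) (BT.leaf (nat_lit 31810837))) (BT.node (nat_lit 12234944) (BT.leaf (nat_lit 31797777)) (BT.leaf (nat_lit 32648453)))) (BT.node (nat_lit 12235013) (BT.node (nat_lit 12235008) (BT.leaf (nat_lit 764848)) (BT.leaf (nat_lit 31798301))) (BT.node (nat_lit 12235072) (BT.leaf (nat_lit 764844)) (BT.leaf (nat_lit 48479009))))) (BT.node (nat_lit 12235520) (BT.node (nat_lit 12235328) (BT.node (nat_lit 12235200) (BT.leaf (nat_lit 31798805)) (BT.leaf (nat_lit 50858769))) (BT.node (nat_lit 12235456) (BT.leaf (nat_lit 31799325)) (BT.leaf (nat_lit 31801105)))) (BT.node (nat_lit 12235648) (BT.node (nat_lit 12235584) (BT.leaf (nat_lit 50893069)) (BT.leaf (nat_lit 34831389))) (BT.node (nat_lit 12235712) (BT.leaf (nat_lit 40202269)) (BT.leaf (nat_lit 45147913)))))) (BT.node (nat_lit 12236352) (BT.node (nat_lit 12236032) (BT.node (nat_lit 12235904) (BT.node (nat_lit 12235840) (BT.leaf (nat_lit 34969117)) (BT.leaf (nat_lit 31802393))) (BT.node (nat_lit 12235968) (BT.leaf (nat_lit 34725905)) (BT.leaf (nat_lit 31803157)))) (BT.node (nat_lit 12236160) (BT.node (nat_lit 12236096) (BT.leaf (nat_lit 40333841)) (BT.leaf (nat_lit 44207381))) (BT.node (nat_lit 12236288) (BT.leaf (nat_lit 35163925)) (BT.leaf (nat_lit 31803677))))) (BT.node (nat_lit 12236608) (BT.node (nat_lit 12236480) (BT.node (nat_lit 12236416) (BT.leaf (nat_lit 31804181)) (BT.leaf (nat_lit 48945933))) (BT.node (nat_lit 12236544) (BT.leaf (nat_lit 32143381)) (BT.leaf (nat_lit 31805205)))) (BT.node (nat_lit 12236736) (BT.node (nat_lit 12236672) (BT.leaf (nat_lit 31804441)) (BT.leaf (nat_lit 49187349))) (BT.node (nat_lit 12236864) (BT.leaf (nat_lit 49187101)) (BT.leaf (nat_lit 31805973))))))) (BT.node (nat_lit 12237952) (BT.node (nat_lit 12237440) (BT.node (nat_lit 12237184) (BT.node (nat_lit 12237056) (BT.node (nat_lit 12236992) (BT.leaf (nat_lit 31807753)) (BT.leaf (nat_lit 31808533))) (BT.node (nat_lit 12237120) (BT.leaf (nat_lit 31807769)) (BT.leaf (nat_lit 31808541)))) (BT.node (nat_lit 12237312) (BT.node (nat_lit 12237248) (BT.leaf (nat_lit 31808781)) (BT.leaf (nat_lit 31809301))) (BT.node (nat_lit 12237376) (BT.leaf (nat_lit 48805909)) (BT.leaf (nat_lit 43396617))))) (BT.node (nat_lit 12237696) (BT.node (nat_lit 12237568) (BT.node (nat_lit 12237504) (BT.leaf (nat_lit 38022681)) (BT.leaf (nat_lit 31810845))) (BT.node (nat_lit 12237632) (BT.leaf (nat_lit 31810841)) (BT.leaf (nat_lit 32795149)))) (BT.node (nat_lit 12237824) (BT.node (nat_lit 12237760) (BT.leaf (nat_lit 40612357)) (BT.leaf (nat_lit 47357473))) (BT.node (nat_lit 12237888) (BT.leaf (nat_lit 45141793)) (BT.leaf (nat_lit 32145685)))))) (BT.node (nat_lit 12238528) (BT.node (nat_lit 12238272) (BT.node (nat_lit 12238144) (BT.node (nat_lit 12238080) (BT.leaf (nat_lit 43895321)) (BT.leaf (nat_lit 51108893))) (BT.node (nat_lit 12238208) (BT.leaf (nat_lit 43895325)) (BT.leaf (nat_lit 44341273)))) (BT.node (nat_lit 12238400) (BT.node (nat_lit 12238336) (BT.leaf (nat_lit 32146697)) (BT.leaf (nat_lit 38523157))) (BT.node (nat_lit 12238464) (BT.leaf (nat_lit 31814417)) (BT.leaf (nat_lit 46301445))))) (BT.node (nat_lit 12238848) (BT.node (nat_lit 12238720) (BT.node (nat_lit 12238656) (BT.leaf (nat_lit 31814929)) (BT.leaf (nat_lit 44666645))) (BT.node (nat_lit 12238784) (BT.leaf (nat_lit 31815961)) (BT.leaf (nat_lit 31815965)))) (BT.node (nat_lit 12238976) (BT.node (nat_lit 12238912) (BT.leaf (nat_lit 46395413)) (BT.leaf (nat_lit 34960401))) (BT.node (nat_lit 12239040) (BT.leaf (nat_lit 31822097)) (BT.leaf (nat_lit 34798609)))))))))) (BT.node (nat_lit 12249088) (BT.node (nat_lit 12244352) (BT.node (nat_lit 12241664) (BT.node (nat_lit 12240384) (BT.node (nat_lit 12239744) (BT.node (nat_lit 12239488) (BT.node (nat_lit 12239360) (BT.node (nat_lit 12239168) (BT.leaf (nat_lit 31822609)) (BT.leaf (nat_lit 44337425))) (BT.node (nat_lit 12239424) (BT.leaf (nat_lit 34795269)) (BT.leaf (nat_lit 44338185)))) (BT.node (nat_lit 12239616) (BT.node (nat_lit 12239552) (BT.leaf (nat_lit 31824149)) (BT.leaf (nat_lit 46904609))) (BT.node (nat_lit 12239680) (BT.leaf (nat_lit 41067297)) (BT.leaf (nat_lit 40007173))))) (BT.node (nat_lit 12240064) (BT.node (nat_lit 12239936) (BT.node (nat_lit 12239808) (BT.leaf (nat_lit 46905377)) (BT.leaf (nat_lit 46905121))) (BT.node (nat_lit 12240000) (BT.leaf (nat_lit 31825437)) (BT.leaf (nat_lit 47659285)))) (BT.node (nat_lit 12240192) (BT.node (nat_lit 12240128) (BT.leaf (nat_lit 32570393)) (BT.leaf (nat_lit 31826197))) (BT.node (nat_lit 12240320) (BT.leaf (nat_lit 31827729)) (BT.leaf (nat_lit 31828241)))))) (BT.node (nat_lit 12241088) (BT.node (nat_lit 12240832) (BT.node (nat_lit 12240576) (BT.node (nat_lit 12240448) (BT.leaf (nat_lit 47000609)) (BT.leaf (nat_lit 31829781))) (BT.node (nat_lit 12240768) (BT.leaf (nat_lit 41812757)) (BT.leaf (nat_lit 31832593)))) (BT.node (nat_lit 12240960) (BT.node (nat_lit 12240896) (BT.leaf (nat_lit 34799637)) (BT.leaf (nat_lit 31833625))) (BT.node (nat_lit 12241024) (BT.leaf (nat_lit 31833885)) (BT.leaf (nat_lit 31834117))))) (BT.node (nat_lit 12241344) (BT.node (nat_lit 12241216) (BT.node (nat_lit 12241152) (BT.leaf (nat_lit 31834133)) (BT.leaf (nat_lit 48219425))) (BT.node (nat_lit 12241280) (BT.leaf (nat_lit 48803857)) (BT.leaf (nat_lit 42497049)))) (BT.node (nat_lit 12241536) (BT.node (nat_lit 12241472) (BT.leaf (nat_lit 42497053)) (BT.leaf (nat_lit 50391817))) (BT.node (nat_lit 12241600) (BT.leaf (nat_lit 31835421)) (BT.leaf (nat_lit 33455381))))))) (BT.node (nat_lit 12243200) (BT.node (nat_lit 12242368) (BT.node (nat_lit 12242048) (BT.node (nat_lit 12241856) (BT.node (nat_lit 12241792) (BT.leaf (nat_lit 34802957)) (BT.leaf (nat_lit 40777993))) (BT.node (nat_lit 12241920) (BT.leaf (nat_lit 34909209)) (BT.leaf (nat_lit 31837205)))) (BT.node (nat_lit 12242240) (BT.node (nat_lit 12242176) (BT.leaf (nat_lit 31837213)) (BT.leaf (nat_lit 34817557))) (BT.node (nat_lit 12242304) (BT.leaf (nat_lit 31837713)) (BT.leaf (nat_lit 31904797))))) (BT.node (nat_lit 12242816) (BT.node (nat_lit 12242560) (BT.node (nat_lit 12242496) (BT.leaf (nat_lit 31838997)) (BT.leaf (nat_lit 31839761))) (BT.node (nat_lit 12242752) (BT.leaf (nat_lit 39013405)) (BT.leaf (nat_lit 31841553)))) (BT.node (nat_lit 12243072) (BT.node (nat_lit 12242880) (BT.leaf (nat_lit 31841561)) (BT.leaf (nat_lit 31841565))) (BT.node (nat_lit 12243136) (BT.leaf (nat_lit 31842585)) (BT.leaf (nat_lit 31842581)))))) (BT.node (nat_lit 12243712) (BT.node (nat_lit 12243456) (BT.node (nat_lit 12243328) (BT.node (nat_lit 12243264) (BT.leaf (nat_lit 37489685)) (BT.leaf (nat_lit 34200601))) (BT.node (nat_lit 12243392) (BT.leaf (nat_lit 50814745)) (BT.leaf (nat_lit 37490461)))) (BT.node (nat_lit 12243584) (BT.node (nat_lit 12243520) (BT.leaf (nat_lit 36202249)) (BT.leaf (nat_lit 31844369))) (BT.node (nat_lit 12243648) (BT.leaf (nat_lit 31844629)) (BT.leaf (nat_lit 31845145))))) (BT.node (nat_lit 12244096) (BT.node (nat_lit 12243904) (BT.node (nat_lit 12243776) (BT.leaf (nat_lit 38719265)) (BT.leaf (nat_lit 31845917))) (BT.node (nat_lit 12243968) (BT.leaf (nat_lit 31845913)) (BT.leaf (nat_lit 37644829)))) (BT.node (nat_lit 12244224) (BT.node (nat_lit 12244160) (BT.leaf (nat_lit 48976653)) (BT.leaf (nat_lit 31849221))) (BT.node (nat_lit 12244288) (BT.leaf (nat_lit 31848725)) (BT.leaf (nat_lit 31848733)))))))) (BT.node (nat_lit 12246592) (BT.node (nat_lit 12245376) (BT.node (nat_lit 12244864) (BT.node (nat_lit 12244608) (BT.node (nat_lit 12244480) (BT.node (nat_lit 12244416) (BT.leaf (nat_lit 36143121)) (BT.leaf (nat_lit 31849745))) (BT.node (nat_lit 12244544) (BT.leaf (nat_lit 31850009)) (BT.leaf (nat_lit 38456085)))) (BT.node (nat_lit 12244736) (BT.node (nat_lit 12244672) (BT.leaf (nat_lit 31850529)) (BT.leaf (nat_lit 34811421))) (BT.node (nat_lit 12244800) (BT.leaf (nat_lit 32646165)) (BT.leaf (nat_lit 33139473))))) (BT.node (nat_lit 12245120) (BT.node (nat_lit 12244992) (BT.node (nat_lit 12244928) (BT.leaf (nat_lit 31851289)) (BT.leaf (nat_lit 50369285))) (BT.node (nat_lit 12245056) (BT.leaf (nat_lit 43372061)) (BT.leaf (nat_lit 31852309)))) (BT.node (nat_lit 12245248) (BT.node (nat_lit 12245184) (BT.leaf (nat_lit 31852313)) (BT.leaf (nat_lit 31852317))) (BT.node (nat_lit 12245312) (BT.leaf (nat_lit 31852569)) (BT.leaf (nat_lit 46798613)))))) (BT.node (nat_lit 12246016) (BT.node (nat_lit 12245632) (BT.node (nat_lit 12245504) (BT.node (nat_lit 12245440) (BT.leaf (nat_lit 37705233)) (BT.leaf (nat_lit 36883741))) (BT.node (nat_lit 12245568) (BT.leaf (nat_lit 48982285)) (BT.leaf (nat_lit 47338261)))) (BT.node (nat_lit 12245888) (BT.node (nat_lit 12245696) (BT.leaf (nat_lit 34814741)) (BT.leaf (nat_lit 39403545))) (BT.node (nat_lit 12245952) (BT.leaf (nat_lit 41290757)) (BT.leaf (nat_lit 49017625))))) (BT.node (nat_lit 12246272) (BT.node (nat_lit 12246144) (BT.node (nat_lit 12246080) (BT.leaf (nat_lit 31855125)) (BT.leaf (nat_lit 31856409))) (BT.node (nat_lit 12246208) (BT.leaf (nat_lit 31856413)) (BT.leaf (nat_lit 47309837)))) (BT.node (nat_lit 12246400) (BT.node (nat_lit 12246336) (BT.leaf (nat_lit 40797457)) (BT.leaf (nat_lit 41411865))) (BT.node (nat_lit 12246464) (BT.leaf (nat_lit 41411869)) (BT.leaf (nat_lit 48968721))))))) (BT.node (nat_lit 12247808) (BT.node (nat_lit 12247232) (BT.node (nat_lit 12246976) (BT.node (nat_lit 12246848) (BT.node (nat_lit 12246720) (BT.leaf (nat_lit 40938761)) (BT.leaf (nat_lit 34831901))) (BT.node (nat_lit 12246912) (BT.leaf (nat_lit 50808597)) (BT.leaf (nat_lit 40394521)))) (BT.node (nat_lit 12247104) (BT.node (nat_lit 12247040) (BT.leaf (nat_lit 31859985)) (BT.leaf (nat_lit 31860497))) (BT.node (nat_lit 12247168) (BT.leaf (nat_lit 31860501)) (BT.leaf (nat_lit 44376085))))) (BT.node (nat_lit 12247488) (BT.node (nat_lit 12247360) (BT.node (nat_lit 12247296) (BT.leaf (nat_lit 31901465)) (BT.leaf (nat_lit 41387273))) (BT.node (nat_lit 12247424) (BT.leaf (nat_lit 32771589)) (BT.leaf (nat_lit 31862289)))) (BT.node (nat_lit 12247680) (BT.node (nat_lit 12247616) (BT.leaf (nat_lit 34817813)) (BT.leaf (nat_lit 50798357))) (BT.node (nat_lit 12247744) (BT.leaf (nat_lit 31863057)) (BT.leaf (nat_lit 34817565)))))) (BT.node (nat_lit 12248448) (BT.node (nat_lit 12248128) (BT.node (nat_lit 12247936) (BT.node (nat_lit 12247872) (BT.leaf (nat_lit 31863825)) (BT.leaf (nat_lit 31864593))) (BT.node (nat_lit 12248064) (BT.leaf (nat_lit 36358685)) (BT.leaf (nat_lit 31865889)))) (BT.node (nat_lit 12248325) (BT.node (nat_lit 12248320) (BT.leaf (nat_lit 41234197)) (BT.leaf (nat_lit 44734493))) (BT.node (nat_lit 12248384) (BT.leaf (nat_lit 773956)) (BT.leaf (nat_lit 40194077))))) (BT.node (nat_lit 12248832) (BT.node (nat_lit 12248576) (BT.node (nat_lit 12248512) (BT.leaf (nat_lit 40916509)) (BT.leaf (nat_lit 31867921))) (BT.node (nat_lit 12248768) (BT.leaf (nat_lit 31868185)) (BT.leaf (nat_lit 39612189)))) (BT.node (nat_lit 12248960) (BT.node (nat_lit 12248896) (BT.leaf (nat_lit 39606289)) (BT.leaf (nat_lit 51930889))) (BT.node (nat_lit 12249024) (BT.leaf (nat_lit 41303313)) (BT.leaf (nat_lit 31870489))))))))) (BT.node (nat_lit 12253376) (BT.node (nat_lit 12251072) (BT.node (nat_lit 12250112) (BT.node (nat_lit 12249600) (BT.node (nat_lit 12249280) (BT.node (nat_lit 12249216) (BT.node (nat_lit 12249152) (BT.leaf (nat_lit 31870493)) (BT.leaf (nat_lit 49938205))) (BT.node (nat_lit 12249217) (BT.leaf (nat_lit 31870745)) (BT.leaf (nat_lit 785420)))) (BT.node (nat_lit 12249408) (BT.node (nat_lit 12249344) (BT.leaf (nat_lit 31870749)) (BT.leaf (nat_lit 31871757))) (BT.node (nat_lit 12249472) (BT.leaf (nat_lit 31871761)) (BT.leaf (nat_lit 31872017))))) (BT.node (nat_lit 12249856) (BT.node (nat_lit 12249728) (BT.node (nat_lit 12249664) (BT.leaf (nat_lit 40496929)) (BT.leaf (nat_lit 32759313))) (BT.node (nat_lit 12249792) (BT.leaf (nat_lit 31874565)) (BT.leaf (nat_lit 31874077)))) (BT.node (nat_lit 12249984) (BT.node (nat_lit 12249920) (BT.leaf (nat_lit 49410325)) (BT.leaf (nat_lit 31874577))) (BT.node (nat_lit 12250048) (BT.leaf (nat_lit 31875345)) (BT.leaf (nat_lit 31957793)))))) (BT.node (nat_lit 12250624) (BT.node (nat_lit 12250368) (BT.node (nat_lit 12250240) (BT.node (nat_lit 12250176) (BT.leaf (nat_lit 31875609)) (BT.leaf (nat_lit 31875613))) (BT.node (nat_lit 12250304) (BT.leaf (nat_lit 47634957)) (BT.leaf (nat_lit 50087197)))) (BT.node (nat_lit 12250496) (BT.node (nat_lit 12250432) (BT.leaf (nat_lit 48997125)) (BT.leaf (nat_lit 31876361))) (BT.node (nat_lit 12250560) (BT.leaf (nat_lit 31876381)) (BT.leaf (nat_lit 49037341))))) (BT.node (nat_lit 12250816) (BT.node (nat_lit 12250752) (BT.node (nat_lit 12250688) (BT.leaf (nat_lit 34821397)) (BT.leaf (nat_lit 31876641))) (BT.node (nat_lit 12250758) (BT.leaf (nat_lit 49011465)) (BT.leaf (nat_lit 766712)))) (BT.node (nat_lit 12250944) (BT.node (nat_lit 12250880) (BT.leaf (nat_lit 31876897)) (BT.leaf (nat_lit 50225173))) (BT.node (nat_lit 12251008) (BT.leaf (nat_lit 49003545)) (BT.leaf (nat_lit 31878161))))))) (BT.node (nat_lit 12252224) (BT.node (nat_lit 12251584) (BT.node (nat_lit 12251328) (BT.node (nat_lit 12251200) (BT.node (nat_lit 12251136) (BT.leaf (nat_lit 31878165)) (BT.leaf (nat_lit 34528533))) (BT.node (nat_lit 12251264) (BT.leaf (nat_lit 32333597)) (BT.leaf (nat_lit 34845469)))) (BT.node (nat_lit 12251456) (BT.node (nat_lit 12251392) (BT.leaf (nat_lit 42209297)) (BT.leaf (nat_lit 33473313))) (BT.node (nat_lit 12251520) (BT.leaf (nat_lit 32371741)) (BT.leaf (nat_lit 48459553))))) (BT.node (nat_lit 12251904) (BT.node (nat_lit 12251776) (BT.node (nat_lit 12251648) (BT.leaf (nat_lit 47328517)) (BT.leaf (nat_lit 31880457))) (BT.node (nat_lit 12251840) (BT.leaf (nat_lit 52018965)) (BT.leaf (nat_lit 31883541)))) (BT.node (nat_lit 12252096) (BT.node (nat_lit 12251968) (BT.leaf (nat_lit 31883793)) (BT.leaf (nat_lit 31885329))) (BT.node (nat_lit 12252160) (BT.leaf (nat_lit 31885345)) (BT.leaf (nat_lit 31885601)))))) (BT.node (nat_lit 12252736) (BT.node (nat_lit 12252480) (BT.node (nat_lit 12252352) (BT.node (nat_lit 12252288) (BT.leaf (nat_lit 31886113)) (BT.leaf (nat_lit 32292101))) (BT.node (nat_lit 12252416) (BT.leaf (nat_lit 32292129)) (BT.leaf (nat_lit 31887125)))) (BT.node (nat_lit 12252608) (BT.node (nat_lit 12252544) (BT.leaf (nat_lit 31887637)) (BT.leaf (nat_lit 31888665))) (BT.node (nat_lit 12252672) (BT.leaf (nat_lit 31888669)) (BT.leaf (nat_lit 31889425))))) (BT.node (nat_lit 12252992) (BT.node (nat_lit 12252864) (BT.node (nat_lit 12252800) (BT.leaf (nat_lit 45474821)) (BT.leaf (nat_lit 44707093))) (BT.node (nat_lit 12252928) (BT.leaf (nat_lit 51691013)) (BT.leaf (nat_lit 52401161)))) (BT.node (nat_lit 12253120) (BT.node (nat_lit 12253056) (BT.leaf (nat_lit 31892997)) (BT.leaf (nat_lit 31893777))) (BT.node (nat_lit 12253248) (BT.leaf (nat_lit 34825745)) (BT.leaf (nat_lit 32782085)))))))) (BT.node (nat_lit 12255808) (BT.node (nat_lit 12254720) (BT.node (nat_lit 12253952) (BT.node (nat_lit 12253632) (BT.node (nat_lit 12253504) (BT.node (nat_lit 12253440) (BT.leaf (nat_lit 31896609)) (BT.leaf (nat_lit 34826513))) (BT.node (nat_lit 12253568) (BT.leaf (nat_lit 31897113)) (BT.leaf (nat_lit 31897117)))) (BT.node (nat_lit 12253824) (BT.node (nat_lit 12253696) (BT.leaf (nat_lit 31898125)) (BT.leaf (nat_lit 31898145))) (BT.node (nat_lit 12253888) (BT.leaf (nat_lit 31898401)) (BT.leaf (nat_lit 31898641))))) (BT.node (nat_lit 12254336) (BT.node (nat_lit 12254080) (BT.node (nat_lit 12254016) (BT.leaf (nat_lit 34529033)) (BT.leaf (nat_lit 50429973))) (BT.node (nat_lit 12254272) (BT.leaf (nat_lit 34858781)) (BT.leaf (nat_lit 31899653)))) (BT.node (nat_lit 12254464) (BT.node (nat_lit 12254400) (BT.leaf (nat_lit 31899913)) (BT.leaf (nat_lit 31899917))) (BT.node (nat_lit 12254656) (BT.leaf (nat_lit 34828053)) (BT.leaf (nat_lit 40736281)))))) (BT.node (nat_lit 12255296) (BT.node (nat_lit 12255040) (BT.node (nat_lit 12254848) (BT.node (nat_lit 12254784) (BT.leaf (nat_lit 31900433)) (BT.leaf (nat_lit 48982045))) (BT.node (nat_lit 12254912) (BT.leaf (nat_lit 31900697)) (BT.leaf (nat_lit 31900949)))) (BT.node (nat_lit 12255048) (BT.node (nat_lit 12255046) (BT.leaf (nat_lit 31901201)) (BT.leaf (nat_lit 815484))) (BT.node (nat_lit 12255104) (BT.leaf (nat_lit 815484)) (BT.leaf (nat_lit 31901469))))) (BT.node (nat_lit 12255552) (BT.node (nat_lit 12255424) (BT.node (nat_lit 12255360) (BT.leaf (nat_lit 36443157)) (BT.leaf (nat_lit 34831641))) (BT.node (nat_lit 12255488) (BT.leaf (nat_lit 31903765)) (BT.leaf (nat_lit 34833685)))) (BT.node (nat_lit 12255680) (BT.node (nat_lit 12255616) (BT.leaf (nat_lit 47479585)) (BT.leaf (nat_lit 46931721))) (BT.node (nat_lit 12255744) (BT.leaf (nat_lit 34805269)) (BT.leaf (nat_lit 31904793))))))) (BT.node (nat_lit 12256896) (BT.node (nat_lit 12256320) (BT.node (nat_lit 12256000) (BT.node (nat_lit 12255874) (BT.node (nat_lit 12255872) (BT.leaf (nat_lit 40950805)) (BT.leaf (nat_lit 36370717))) (BT.node (nat_lit 12255936) (BT.leaf (nat_lit 807744)) (BT.leaf (nat_lit 50567709)))) (BT.node (nat_lit 12256128) (BT.node (nat_lit 12256064) (BT.leaf (nat_lit 44700957)) (BT.leaf (nat_lit 32644129))) (BT.node (nat_lit 12256256) (BT.leaf (nat_lit 31905809)) (BT.leaf (nat_lit 31906325))))) (BT.node (nat_lit 12256640) (BT.node (nat_lit 12256448) (BT.node (nat_lit 12256384) (BT.leaf (nat_lit 34833413)) (BT.leaf (nat_lit 31906581))) (BT.node (nat_lit 12256512) (BT.leaf (nat_lit 31906837)) (BT.leaf (nat_lit 31907349)))) (BT.node (nat_lit 12256768) (BT.node (nat_lit 12256704) (BT.leaf (nat_lit 47510817)) (BT.leaf (nat_lit 31909141))) (BT.node (nat_lit 12256832) (BT.leaf (nat_lit 33807621)) (BT.leaf (nat_lit 48324385)))))) (BT.node (nat_lit 12257472) (BT.node (nat_lit 12257152) (BT.node (nat_lit 12257024) (BT.node (nat_lit 12256960) (BT.leaf (nat_lit 43280921)) (BT.leaf (nat_lit 43280925))) (BT.node (nat_lit 12257088) (BT.leaf (nat_lit 31910417)) (BT.leaf (nat_lit 46677521)))) (BT.node (nat_lit 12257344) (BT.node (nat_lit 12257216) (BT.leaf (nat_lit 48176657)) (BT.leaf (nat_lit 41418529))) (BT.node (nat_lit 12257408) (BT.leaf (nat_lit 34938373)) (BT.leaf (nat_lit 48395537))))) (BT.node (nat_lit 12257728) (BT.node (nat_lit 12257600) (BT.node (nat_lit 12257536) (BT.leaf (nat_lit 42185749)) (BT.leaf (nat_lit 46352149))) (BT.node (nat_lit 12257664) (BT.leaf (nat_lit 31912973)) (BT.leaf (nat_lit 31913225)))) (BT.node (nat_lit 12257856) (BT.node (nat_lit 12257792) (BT.leaf (nat_lit 51616525)) (BT.leaf (nat_lit 48333329))) (BT.node (nat_lit 12257920) (BT.leaf (nat_lit 36209173)) (BT.leaf (nat_lit 49151261))))))))))) (BT.node (nat_lit 12276032) (BT.node (nat_lit 12266880) (BT.node (nat_lit 12262272) (BT.node (nat_lit 12260096) (BT.node (nat_lit 12259008) (BT.node (nat_lit 12258496) (BT.node (nat_lit 12258240) (BT.node (nat_lit 12258112) (BT.node (nat_lit 12258048) (BT.leaf (nat_lit 31912989)) (BT.leaf (nat_lit 31913497))) (BT.node (nat_lit 12258176) (BT.leaf (nat_lit 31913501)) (BT.leaf (nat_lit 49639189)))) (BT.node (nat_lit 12258368) (BT.node (nat_lit 12258304) (BT.leaf (nat_lit 31914261)) (BT.leaf (nat_lit 31914513))) (BT.node (nat_lit 12258432) (BT.leaf (nat_lit 31914517)) (BT.leaf (nat_lit 38860549))))) (BT.node (nat_lit 12258752) (BT.node (nat_lit 12258624) (BT.node (nat_lit 12258560) (BT.leaf (nat_lit 44814341)) (BT.leaf (nat_lit 31915273))) (BT.node (nat_lit 12258688) (BT.leaf (nat_lit 31915281)) (BT.leaf (nat_lit 31915289)))) (BT.node (nat_lit 12258880) (BT.node (nat_lit 12258816) (BT.leaf (nat_lit 31915293)) (BT.leaf (nat_lit 31915545))) (BT.node (nat_lit 12258944) (BT.leaf (nat_lit 31915549)) (BT.leaf (nat_lit 31916569)))))) (BT.node (nat_lit 12259584) (BT.node (nat_lit 12259264) (BT.node (nat_lit 12259136) (BT.node (nat_lit 12259072) (BT.leaf (nat_lit 31916825)) (BT.leaf (nat_lit 34021913))) (BT.node (nat_lit 12259200) (BT.leaf (nat_lit 34021917)) (BT.leaf (nat_lit 50087181)))) (BT.node (nat_lit 12259392) (BT.node (nat_lit 12259328) (BT.leaf (nat_lit 48851217)) (BT.leaf (nat_lit 49003533))) (BT.node (nat_lit 12259456) (BT.leaf (nat_lit 31918101)) (BT.leaf (nat_lit 32784149))))) (BT.node (nat_lit 12259840) (BT.node (nat_lit 12259712) (BT.node (nat_lit 12259648) (BT.leaf (nat_lit 34806805)) (BT.leaf (nat_lit 37606937))) (BT.node (nat_lit 12259776) (BT.leaf (nat_lit 44806161)) (BT.leaf (nat_lit 37606945)))) (BT.node (nat_lit 12259968) (BT.node (nat_lit 12259904) (BT.leaf (nat_lit 41448725)) (BT.leaf (nat_lit 31922949))) (BT.node (nat_lit 12260032) (BT.leaf (nat_lit 34842653)) (BT.leaf (nat_lit 31921941))))))) (BT.node (nat_lit 12261255) (BT.node (nat_lit 12260672) (BT.node (nat_lit 12260352) (BT.node (nat_lit 12260224) (BT.node (nat_lit 12260160) (BT.leaf (nat_lit 31922197)) (BT.leaf (nat_lit 33790745))) (BT.node (nat_lit 12260288) (BT.leaf (nat_lit 34843153)) (BT.leaf (nat_lit 49034017)))) (BT.node (nat_lit 12260480) (BT.node (nat_lit 12260416) (BT.leaf (nat_lit 31923465)) (BT.leaf (nat_lit 31923469))) (BT.node (nat_lit 12260544) (BT.leaf (nat_lit 48401669)) (BT.leaf (nat_lit 49035013))))) (BT.node (nat_lit 12260928) (BT.node (nat_lit 12260800) (BT.node (nat_lit 12260736) (BT.leaf (nat_lit 49035525)) (BT.leaf (nat_lit 34844433))) (BT.node (nat_lit 12260864) (BT.leaf (nat_lit 34844177)) (BT.leaf (nat_lit 31923993)))) (BT.node (nat_lit 12261120) (BT.node (nat_lit 12260992) (BT.leaf (nat_lit 31923997)) (BT.leaf (nat_lit 31924233))) (BT.node (nat_lit 12261248) (BT.leaf (nat_lit 31924249)) (BT.leaf (nat_lit 31924497)))))) (BT.node (nat_lit 12261760) (BT.node (nat_lit 12261504) (BT.node (nat_lit 12261376) (BT.node (nat_lit 12261312) (BT.leaf (nat_lit 766772)) (BT.leaf (nat_lit 43886869))) (BT.node (nat_lit 12261440) (BT.leaf (nat_lit 31924761)) (BT.leaf (nat_lit 39756821)))) (BT.node (nat_lit 12261632) (BT.node (nat_lit 12261568) (BT.leaf (nat_lit 31925789)) (BT.leaf (nat_lit 31926037))) (BT.node (nat_lit 12261696) (BT.leaf (nat_lit 32289825)) (BT.leaf (nat_lit 40257033))))) (BT.node (nat_lit 12262016) (BT.node (nat_lit 12261888) (BT.node (nat_lit 12261824) (BT.leaf (nat_lit 40257037)) (BT.leaf (nat_lit 31926813))) (BT.node (nat_lit 12261952) (BT.leaf (nat_lit 31927057)) (BT.leaf (nat_lit 31927305)))) (BT.node (nat_lit 12262144) (BT.node (nat_lit 12262080) (BT.leaf (nat_lit 31927309)) (BT.leaf (nat_lit 31927313))) (BT.node (nat_lit 12262208) (BT.leaf (nat_lit 31927321)) (BT.leaf (nat_lit 31927325)))))))) (BT.node (nat_lit 12264640) (BT.node (nat_lit 12263488) (BT.node (nat_lit 12262784) (BT.node (nat_lit 12262528) (BT.node (nat_lit 12262400) (BT.node (nat_lit 12262336) (BT.leaf (nat_lit 31927569)) (BT.leaf (nat_lit 31928097))) (BT.node (nat_lit 12262464) (BT.leaf (nat_lit 31928345)) (BT.leaf (nat_lit 31928349)))) (BT.node (nat_lit 12262656) (BT.node (nat_lit 12262592) (BT.leaf (nat_lit 31928609)) (BT.leaf (nat_lit 31928849))) (BT.node (nat_lit 12262720) (BT.leaf (nat_lit 44705289)) (BT.leaf (nat_lit 41162017))))) (BT.node (nat_lit 12263232) (BT.node (nat_lit 12262976) (BT.node (nat_lit 12262912) (BT.leaf (nat_lit 32856597)) (BT.leaf (nat_lit 43475745))) (BT.node (nat_lit 12263104) (BT.leaf (nat_lit 31931921)) (BT.leaf (nat_lit 34850837)))) (BT.node (nat_lit 12263360) (BT.node (nat_lit 12263296) (BT.leaf (nat_lit 31932701)) (BT.leaf (nat_lit 31932705))) (BT.node (nat_lit 12263424) (BT.leaf (nat_lit 31933201)) (BT.leaf (nat_lit 31933461)))))) (BT.node (nat_lit 12264128) (BT.node (nat_lit 12263744) (BT.node (nat_lit 12263616) (BT.node (nat_lit 12263552) (BT.leaf (nat_lit 38900769)) (BT.leaf (nat_lit 40932629))) (BT.node (nat_lit 12263680) (BT.leaf (nat_lit 31934993)) (BT.leaf (nat_lit 46442001)))) (BT.node (nat_lit 12263872) (BT.node (nat_lit 12263808) (BT.leaf (nat_lit 32263961)) (BT.leaf (nat_lit 32263965))) (BT.node (nat_lit 12263936) (BT.leaf (nat_lit 47387681)) (BT.leaf (nat_lit 42362657))))) (BT.node (nat_lit 12264384) (BT.node (nat_lit 12264256) (BT.node (nat_lit 12264192) (BT.leaf (nat_lit 31938337)) (BT.leaf (nat_lit 31938581))) (BT.node (nat_lit 12264320) (BT.leaf (nat_lit 31939081)) (BT.leaf (nat_lit 31939085)))) (BT.node (nat_lit 12264512) (BT.node (nat_lit 12264448) (BT.leaf (nat_lit 31939349)) (BT.leaf (nat_lit 31939097))) (BT.node (nat_lit 12264576) (BT.leaf (nat_lit 31939101)) (BT.leaf (nat_lit 31939601))))))) (BT.node (nat_lit 12265856) (BT.node (nat_lit 12265152) (BT.node (nat_lit 12264896) (BT.node (nat_lit 12264768) (BT.node (nat_lit 12264704) (BT.leaf (nat_lit 46420769)) (BT.leaf (nat_lit 31939865))) (BT.node (nat_lit 12264832) (BT.leaf (nat_lit 31939869)) (BT.leaf (nat_lit 31940629)))) (BT.node (nat_lit 12265024) (BT.node (nat_lit 12264960) (BT.leaf (nat_lit 35272965)) (BT.leaf (nat_lit 31941393))) (BT.node (nat_lit 12265088) (BT.leaf (nat_lit 47462945)) (BT.leaf (nat_lit 31944469))))) (BT.node (nat_lit 12265600) (BT.node (nat_lit 12265472) (BT.node (nat_lit 12265408) (BT.leaf (nat_lit 49079585)) (BT.leaf (nat_lit 49053189))) (BT.node (nat_lit 12265536) (BT.leaf (nat_lit 39144981)) (BT.leaf (nat_lit 39144989)))) (BT.node (nat_lit 12265728) (BT.node (nat_lit 12265664) (BT.leaf (nat_lit 50013717)) (BT.leaf (nat_lit 49038861))) (BT.node (nat_lit 12265792) (BT.leaf (nat_lit 37944081)) (BT.leaf (nat_lit 38261781)))))) (BT.node (nat_lit 12266432) (BT.node (nat_lit 12266176) (BT.node (nat_lit 12265984) (BT.node (nat_lit 12265920) (BT.leaf (nat_lit 44418585)) (BT.leaf (nat_lit 31949601))) (BT.node (nat_lit 12266112) (BT.leaf (nat_lit 31950101)) (BT.leaf (nat_lit 48093473)))) (BT.node (nat_lit 12266304) (BT.node (nat_lit 12266240) (BT.leaf (nat_lit 31951637)) (BT.leaf (nat_lit 44852509))) (BT.node (nat_lit 12266368) (BT.leaf (nat_lit 47347985)) (BT.leaf (nat_lit 48245281))))) (BT.node (nat_lit 12266688) (BT.node (nat_lit 12266560) (BT.node (nat_lit 12266496) (BT.leaf (nat_lit 37767961)) (BT.leaf (nat_lit 37767965))) (BT.node (nat_lit 12266624) (BT.leaf (nat_lit 46895641)) (BT.leaf (nat_lit 48313373)))) (BT.node (nat_lit 12266816) (BT.node (nat_lit 12266752) (BT.leaf (nat_lit 31957765)) (BT.leaf (nat_lit 50225165))) (BT.node (nat_lit 12266824) (BT.leaf (nat_lit 34242841)) (BT.leaf (nat_lit 788892))))))))) (BT.node (nat_lit 12271168) (BT.node (nat_lit 12268864) (BT.node (nat_lit 12267840) (BT.node (nat_lit 12267328) (BT.node (nat_lit 12267136) (BT.node (nat_lit 12267008) (BT.node (nat_lit 12266944) (BT.leaf (nat_lit 50225157)) (BT.leaf (nat_lit 31955729))) (BT.node (nat_lit 12267072) (BT.leaf (nat_lit 33362705)) (BT.leaf (nat_lit 31956249)))) (BT.node (nat_lit 12267269) (BT.node (nat_lit 12267264) (BT.leaf (nat_lit 47636501)) (BT.leaf (nat_lit 46829341))) (BT.node (nat_lit 12267270) (BT.leaf (nat_lit 782916)) (BT.leaf (nat_lit 782916))))) (BT.node (nat_lit 12267588) (BT.node (nat_lit 12267520) (BT.node (nat_lit 12267392) (BT.leaf (nat_lit 31957269)) (BT.leaf (nat_lit 31957769))) (BT.node (nat_lit 12267584) (BT.leaf (nat_lit 36078613)) (BT.leaf (nat_lit 31958025)))) (BT.node (nat_lit 12267776) (BT.node (nat_lit 12267712) (BT.leaf (nat_lit 814384)) (BT.leaf (nat_lit 50583061))) (BT.node (nat_lit 12267784) (BT.leaf (nat_lit 31958289)) (BT.leaf (nat_lit 800892)))))) (BT.node (nat_lit 12268352) (BT.node (nat_lit 12268096) (BT.node (nat_lit 12267968) (BT.node (nat_lit 12267904) (BT.leaf (nat_lit 34755345)) (BT.leaf (nat_lit 31958789))) (BT.node (nat_lit 12268032) (BT.leaf (nat_lit 31958809)) (BT.leaf (nat_lit 31958813)))) (BT.node (nat_lit 12268224) (BT.node (nat_lit 12268160) (BT.leaf (nat_lit 34722333)) (BT.leaf (nat_lit 31960597))) (BT.node (nat_lit 12268288) (BT.leaf (nat_lit 50416389)) (BT.leaf (nat_lit 35123985))))) (BT.node (nat_lit 12268608) (BT.node (nat_lit 12268480) (BT.node (nat_lit 12268416) (BT.leaf (nat_lit 49482513)) (BT.leaf (nat_lit 51554577))) (BT.node (nat_lit 12268544) (BT.leaf (nat_lit 43065121)) (BT.leaf (nat_lit 31965213)))) (BT.node (nat_lit 12268736) (BT.node (nat_lit 12268672) (BT.leaf (nat_lit 31965209)) (BT.leaf (nat_lit 33753617))) (BT.node (nat_lit 12268800) (BT.leaf (nat_lit 50168593)) (BT.leaf (nat_lit 31966481))))))) (BT.node (nat_lit 12270016) (BT.node (nat_lit 12269504) (BT.node (nat_lit 12269248) (BT.node (nat_lit 12269120) (BT.node (nat_lit 12268928) (BT.leaf (nat_lit 47185437)) (BT.leaf (nat_lit 38500893))) (BT.node (nat_lit 12269184) (BT.leaf (nat_lit 34627085)) (BT.leaf (nat_lit 44788757)))) (BT.node (nat_lit 12269376) (BT.node (nat_lit 12269312) (BT.leaf (nat_lit 31968273)) (BT.leaf (nat_lit 31968277))) (BT.node (nat_lit 12269440) (BT.leaf (nat_lit 31968529)) (BT.leaf (nat_lit 48533533))))) (BT.node (nat_lit 12269760) (BT.node (nat_lit 12269632) (BT.node (nat_lit 12269568) (BT.leaf (nat_lit 44419593)) (BT.leaf (nat_lit 44419597))) (BT.node (nat_lit 12269696) (BT.leaf (nat_lit 44419613)) (BT.leaf (nat_lit 48783641)))) (BT.node (nat_lit 12269888) (BT.node (nat_lit 12269824) (BT.leaf (nat_lit 31972621)) (BT.leaf (nat_lit 31974165))) (BT.node (nat_lit 12269952) (BT.leaf (nat_lit 31974169)) (BT.leaf (nat_lit 31974173)))))) (BT.node (nat_lit 12270528) (BT.node (nat_lit 12270272) (BT.node (nat_lit 12270144) (BT.node (nat_lit 12270080) (BT.leaf (nat_lit 31975185)) (BT.leaf (nat_lit 31974933))) (BT.node (nat_lit 12270208) (BT.leaf (nat_lit 31975177)) (BT.leaf (nat_lit 34867733)))) (BT.node (nat_lit 12270400) (BT.node (nat_lit 12270336) (BT.leaf (nat_lit 31975201)) (BT.leaf (nat_lit 33757969))) (BT.node (nat_lit 12270464) (BT.leaf (nat_lit 38115089)) (BT.leaf (nat_lit 31976465))))) (BT.node (nat_lit 12270976) (BT.node (nat_lit 12270848) (BT.node (nat_lit 12270720) (BT.leaf (nat_lit 42758161)) (BT.leaf (nat_lit 48260373))) (BT.node (nat_lit 12270912) (BT.leaf (nat_lit 38905881)) (BT.leaf (nat_lit 31982869)))) (BT.node (nat_lit 12271040) (BT.node (nat_lit 12270981) (BT.leaf (nat_lit 35127569)) (BT.leaf (nat_lit 772016))) (BT.node (nat_lit 12271104) (BT.leaf (nat_lit 34874389)) (BT.leaf (nat_lit 34173969)))))))) (BT.node (nat_lit 12273408) (BT.node (nat_lit 12272320) (BT.node (nat_lit 12271744) (BT.node (nat_lit 12271488) (BT.node (nat_lit 12271360) (BT.node (nat_lit 12271232) (BT.leaf (nat_lit 31984905)) (BT.leaf (nat_lit 34659357))) (BT.node (nat_lit 12271424) (BT.leaf (nat_lit 35801617)) (BT.leaf (nat_lit 31985697)))) (BT.node (nat_lit 12271616) (BT.node (nat_lit 12271552) (BT.leaf (nat_lit 31986441)) (BT.leaf (nat_lit 31986449))) (BT.node (nat_lit 12271680) (BT.leaf (nat_lit 31987229)) (BT.leaf (nat_lit 31987473))))) (BT.node (nat_lit 12272064) (BT.node (nat_lit 12271936) (BT.node (nat_lit 12271872) (BT.leaf (nat_lit 31987989)) (BT.leaf (nat_lit 37603077))) (BT.node (nat_lit 12272000) (BT.leaf (nat_lit 37603089)) (BT.leaf (nat_lit 32435205)))) (BT.node (nat_lit 12272192) (BT.node (nat_lit 12272128) (BT.leaf (nat_lit 44402713)) (BT.leaf (nat_lit 40417313))) (BT.node (nat_lit 12272256) (BT.leaf (nat_lit 40248337)) (BT.leaf (nat_lit 36221201)))))) (BT.node (nat_lit 12272832) (BT.node (nat_lit 12272576) (BT.node (nat_lit 12272448) (BT.node (nat_lit 12272384) (BT.leaf (nat_lit 31992089)) (BT.leaf (nat_lit 36220689))) (BT.node (nat_lit 12272512) (BT.leaf (nat_lit 31992345)) (BT.leaf (nat_lit 31993097)))) (BT.node (nat_lit 12272704) (BT.node (nat_lit 12272640) (BT.leaf (nat_lit 31993093)) (BT.leaf (nat_lit 41634837))) (BT.node (nat_lit 12272768) (BT.leaf (nat_lit 31993349)) (BT.leaf (nat_lit 34884113))))) (BT.node (nat_lit 12273152) (BT.node (nat_lit 12272960) (BT.node (nat_lit 12272896) (BT.leaf (nat_lit 31993613)) (BT.leaf (nat_lit 31993633))) (BT.node (nat_lit 12273088) (BT.leaf (nat_lit 47675925)) (BT.leaf (nat_lit 45593889)))) (BT.node (nat_lit 12273280) (BT.node (nat_lit 12273216) (BT.leaf (nat_lit 49419013)) (BT.leaf (nat_lit 43584541))) (BT.node (nat_lit 12273344) (BT.leaf (nat_lit 49421601)) (BT.leaf (nat_lit 31994897))))))) (BT.node (nat_lit 12274624) (BT.node (nat_lit 12273920) (BT.node (nat_lit 12273664) (BT.node (nat_lit 12273536) (BT.node (nat_lit 12273472) (BT.leaf (nat_lit 31995405)) (BT.leaf (nat_lit 31996185))) (BT.node (nat_lit 12273600) (BT.leaf (nat_lit 39970585)) (BT.leaf (nat_lit 34729505)))) (BT.node (nat_lit 12273792) (BT.node (nat_lit 12273728) (BT.leaf (nat_lit 47716377)) (BT.leaf (nat_lit 31998481))) (BT.node (nat_lit 12273856) (BT.leaf (nat_lit 33103385)) (BT.leaf (nat_lit 33936413))))) (BT.node (nat_lit 12274240) (BT.node (nat_lit 12274112) (BT.node (nat_lit 12273984) (BT.leaf (nat_lit 34512157)) (BT.leaf (nat_lit 47715353))) (BT.node (nat_lit 12274120) (BT.leaf (nat_lit 34512661)) (BT.leaf (nat_lit 791356)))) (BT.node (nat_lit 12274496) (BT.node (nat_lit 12274304) (BT.leaf (nat_lit 38597909)) (BT.leaf (nat_lit 46002201))) (BT.node (nat_lit 12274560) (BT.leaf (nat_lit 35747609)) (BT.leaf (nat_lit 32003093)))))) (BT.node (nat_lit 12275264) (BT.node (nat_lit 12274944) (BT.node (nat_lit 12274752) (BT.node (nat_lit 12274688) (BT.leaf (nat_lit 34727189)) (BT.leaf (nat_lit 49612577))) (BT.node (nat_lit 12274880) (BT.leaf (nat_lit 32005661)) (BT.leaf (nat_lit 32013601)))) (BT.node (nat_lit 12275136) (BT.node (nat_lit 12275008) (BT.leaf (nat_lit 47807517)) (BT.leaf (nat_lit 32007197))) (BT.node (nat_lit 12275200) (BT.leaf (nat_lit 32008457)) (BT.leaf (nat_lit 32009229))))) (BT.node (nat_lit 12275520) (BT.node (nat_lit 12275392) (BT.node (nat_lit 12275328) (BT.leaf (nat_lit 32008729)) (BT.leaf (nat_lit 46650897))) (BT.node (nat_lit 12275456) (BT.leaf (nat_lit 41006093)) (BT.leaf (nat_lit 51646725)))) (BT.node (nat_lit 12275648) (BT.node (nat_lit 12275584) (BT.leaf (nat_lit 49380357)) (BT.leaf (nat_lit 40260629))) (BT.node (nat_lit 12275776) (BT.leaf (nat_lit 40260381)) (BT.leaf (nat_lit 34889501)))))))))) (BT.node (nat_lit 12285952) (BT.node (nat_lit 12280704) (BT.node (nat_lit 12278144) (BT.node (nat_lit 12277056) (BT.node (nat_lit 12276544) (BT.node (nat_lit 12276288) (BT.node (nat_lit 12276160) (BT.node (nat_lit 12276096) (BT.leaf (nat_lit 52182801)) (BT.leaf (nat_lit 49104153))) (BT.node (nat_lit 12276224) (BT.leaf (nat_lit 37612821)) (BT.leaf (nat_lit 32014105)))) (BT.node (nat_lit 12276416) (BT.node (nat_lit 12276352) (BT.leaf (nat_lit 32014109)) (BT.leaf (nat_lit 32014345))) (BT.node (nat_lit 12276480) (BT.leaf (nat_lit 32014349)) (BT.leaf (nat_lit 32014365))))) (BT.node (nat_lit 12276800) (BT.node (nat_lit 12276672) (BT.node (nat_lit 12276608) (BT.leaf (nat_lit 32014609)) (BT.leaf (nat_lit 32014869))) (BT.node (nat_lit 12276736) (BT.leaf (nat_lit 32015125)) (BT.leaf (nat_lit 32015365)))) (BT.node (nat_lit 12276928) (BT.node (nat_lit 12276864) (BT.leaf (nat_lit 32016913)) (BT.leaf (nat_lit 32017437))) (BT.node (nat_lit 12276992) (BT.leaf (nat_lit 32021765)) (BT.leaf (nat_lit 32018197)))))) (BT.node (nat_lit 12277568) (BT.node (nat_lit 12277312) (BT.node (nat_lit 12277184) (BT.node (nat_lit 12277120) (BT.leaf (nat_lit 32017941)) (BT.leaf (nat_lit 52129313))) (BT.node (nat_lit 12277248) (BT.leaf (nat_lit 52438801)) (BT.leaf (nat_lit 33786125)))) (BT.node (nat_lit 12277440) (BT.node (nat_lit 12277376) (BT.leaf (nat_lit 32021521)) (BT.leaf (nat_lit 32021793))) (BT.node (nat_lit 12277504) (BT.leaf (nat_lit 38811669)) (BT.leaf (nat_lit 32023557))))) (BT.node (nat_lit 12277888) (BT.node (nat_lit 12277696) (BT.node (nat_lit 12277632) (BT.leaf (nat_lit 34895377)) (BT.leaf (nat_lit 34895121))) (BT.node (nat_lit 12277760) (BT.leaf (nat_lit 32023813)) (BT.leaf (nat_lit 48830489)))) (BT.node (nat_lit 12278016) (BT.node (nat_lit 12277952) (BT.leaf (nat_lit 47353889)) (BT.leaf (nat_lit 50618653))) (BT.node (nat_lit 12278080) (BT.leaf (nat_lit 47250209)) (BT.leaf (nat_lit 32027153))))))) (BT.node (nat_lit 12279424) (BT.node (nat_lit 12278784) (BT.node (nat_lit 12278400) (BT.node (nat_lit 12278272) (BT.node (nat_lit 12278208) (BT.leaf (nat_lit 32028177)) (BT.leaf (nat_lit 49159437))) (BT.node (nat_lit 12278336) (BT.leaf (nat_lit 37970965)) (BT.leaf (nat_lit 47871009)))) (BT.node (nat_lit 12278528) (BT.node (nat_lit 12278464) (BT.leaf (nat_lit 47870753)) (BT.leaf (nat_lit 32978717))) (BT.node (nat_lit 12278656) (BT.leaf (nat_lit 47869701)) (BT.leaf (nat_lit 51458589))))) (BT.node (nat_lit 12279040) (BT.node (nat_lit 12278912) (BT.node (nat_lit 12278848) (BT.leaf (nat_lit 32032801)) (BT.leaf (nat_lit 34671125))) (BT.node (nat_lit 12278976) (BT.leaf (nat_lit 32033057)) (BT.leaf (nat_lit 50721549)))) (BT.node (nat_lit 12279296) (BT.node (nat_lit 12279104) (BT.leaf (nat_lit 49115401)) (BT.leaf (nat_lit 42612769))) (BT.node (nat_lit 12279360) (BT.leaf (nat_lit 32034329)) (BT.leaf (nat_lit 32034581)))))) (BT.node (nat_lit 12280000) (BT.node (nat_lit 12279680) (BT.node (nat_lit 12279552) (BT.node (nat_lit 12279488) (BT.leaf (nat_lit 50848017)) (BT.leaf (nat_lit 39757073))) (BT.node (nat_lit 12279616) (BT.leaf (nat_lit 48006677)) (BT.leaf (nat_lit 34445853)))) (BT.node (nat_lit 12279808) (BT.node (nat_lit 12279744) (BT.leaf (nat_lit 34754573)) (BT.leaf (nat_lit 36983821))) (BT.node (nat_lit 12279872) (BT.leaf (nat_lit 32038421)) (BT.leaf (nat_lit 32037393))))) (BT.node (nat_lit 12280448) (BT.node (nat_lit 12280128) (BT.node (nat_lit 12280064) (BT.leaf (nat_lit 36983833)) (BT.leaf (nat_lit 32037657))) (BT.node (nat_lit 12280320) (BT.leaf (nat_lit 33307145)) (BT.leaf (nat_lit 32038673)))) (BT.node (nat_lit 12280576) (BT.node (nat_lit 12280512) (BT.leaf (nat_lit 45818657)) (BT.leaf (nat_lit 33802001))) (BT.node (nat_lit 12280640) (BT.leaf (nat_lit 45970977)) (BT.leaf (nat_lit 49618465)))))))) (BT.node (nat_lit 12283136) (BT.node (nat_lit 12281792) (BT.node (nat_lit 12281216) (BT.node (nat_lit 12280960) (BT.node (nat_lit 12280832) (BT.node (nat_lit 12280768) (BT.leaf (nat_lit 40693017)) (BT.leaf (nat_lit 32040469))) (BT.node (nat_lit 12280896) (BT.leaf (nat_lit 41693457)) (BT.leaf (nat_lit 32041501)))) (BT.node (nat_lit 12281088) (BT.node (nat_lit 12281024) (BT.leaf (nat_lit 48133141)) (BT.leaf (nat_lit 49125141))) (BT.node (nat_lit 12281152) (BT.leaf (nat_lit 47663649)) (BT.leaf (nat_lit 38734609))))) (BT.node (nat_lit 12281472) (BT.node (nat_lit 12281344) (BT.node (nat_lit 12281280) (BT.leaf (nat_lit 32042773)) (BT.leaf (nat_lit 47663905))) (BT.node (nat_lit 12281408) (BT.leaf (nat_lit 46766597)) (BT.leaf (nat_lit 50842901)))) (BT.node (nat_lit 12281664) (BT.node (nat_lit 12281536) (BT.leaf (nat_lit 32044057)) (BT.leaf (nat_lit 32044061))) (BT.node (nat_lit 12281728) (BT.leaf (nat_lit 49126941)) (BT.leaf (nat_lit 50238741)))))) (BT.node (nat_lit 12282432) (BT.node (nat_lit 12282116) (BT.node (nat_lit 12282048) (BT.node (nat_lit 12281984) (BT.leaf (nat_lit 44298257)) (BT.leaf (nat_lit 32050457))) (BT.node (nat_lit 12282112) (BT.leaf (nat_lit 35218705)) (BT.leaf (nat_lit 48389381)))) (BT.node (nat_lit 12282304) (BT.node (nat_lit 12282240) (BT.leaf (nat_lit 776464)) (BT.leaf (nat_lit 34913309))) (BT.node (nat_lit 12282368) (BT.leaf (nat_lit 35218709)) (BT.leaf (nat_lit 32051473))))) (BT.node (nat_lit 12282688) (BT.node (nat_lit 12282560) (BT.node (nat_lit 12282496) (BT.leaf (nat_lit 32052229)) (BT.leaf (nat_lit 32052241))) (BT.node (nat_lit 12282624) (BT.leaf (nat_lit 49111817)) (BT.leaf (nat_lit 49111829)))) (BT.node (nat_lit 12282816) (BT.node (nat_lit 12282752) (BT.leaf (nat_lit 51260693)) (BT.leaf (nat_lit 32053525))) (BT.node (nat_lit 12283072) (BT.leaf (nat_lit 32054037)) (BT.leaf (nat_lit 51954709))))))) (BT.node (nat_lit 12284416) (BT.node (nat_lit 12283840) (BT.node (nat_lit 12283392) (BT.node (nat_lit 12283264) (BT.node (nat_lit 12283200) (BT.leaf (nat_lit 32055581)) (BT.leaf (nat_lit 32055829))) (BT.node (nat_lit 12283328) (BT.leaf (nat_lit 32056597)) (BT.leaf (nat_lit 32642589)))) (BT.node (nat_lit 12283584) (BT.node (nat_lit 12283456) (BT.leaf (nat_lit 47490309)) (BT.leaf (nat_lit 32083981))) (BT.node (nat_lit 12283776) (BT.leaf (nat_lit 32058909)) (BT.leaf (nat_lit 32083977))))) (BT.node (nat_lit 12284160) (BT.node (nat_lit 12283968) (BT.node (nat_lit 12283904) (BT.leaf (nat_lit 36241429)) (BT.leaf (nat_lit 32060701))) (BT.node (nat_lit 12284032) (BT.leaf (nat_lit 49136157)) (BT.leaf (nat_lit 32062485)))) (BT.node (nat_lit 12284288) (BT.node (nat_lit 12284224) (BT.leaf (nat_lit 40749849)) (BT.leaf (nat_lit 32061457))) (BT.node (nat_lit 12284352) (BT.leaf (nat_lit 34922009)) (BT.leaf (nat_lit 32063249)))))) (BT.node (nat_lit 12285312) (BT.node (nat_lit 12284672) (BT.node (nat_lit 12284544) (BT.node (nat_lit 12284480) (BT.leaf (nat_lit 32062993)) (BT.leaf (nat_lit 46518041))) (BT.node (nat_lit 12284608) (BT.leaf (nat_lit 32063253)) (BT.leaf (nat_lit 50862361)))) (BT.node (nat_lit 12285184) (BT.node (nat_lit 12284736) (BT.leaf (nat_lit 34899733)) (BT.leaf (nat_lit 50862105))) (BT.node (nat_lit 12285248) (BT.leaf (nat_lit 46453013)) (BT.leaf (nat_lit 51388437))))) (BT.node (nat_lit 12285632) (BT.node (nat_lit 12285504) (BT.node (nat_lit 12285376) (BT.leaf (nat_lit 32067609)) (BT.leaf (nat_lit 32067869))) (BT.node (nat_lit 12285568) (BT.leaf (nat_lit 32068889)) (BT.leaf (nat_lit 32068893)))) (BT.node (nat_lit 12285824) (BT.node (nat_lit 12285760) (BT.leaf (nat_lit 32069137)) (BT.leaf (nat_lit 32071441))) (BT.node (nat_lit 12285888) (BT.leaf (nat_lit 34846213)) (BT.leaf (nat_lit 32072721))))))))) (BT.node (nat_lit 12290432) (BT.node (nat_lit 12288192) (BT.node (nat_lit 12287040) (BT.node (nat_lit 12286592) (BT.node (nat_lit 12286336) (BT.node (nat_lit 12286208) (BT.node (nat_lit 12286016) (BT.leaf (nat_lit 32073233)) (BT.leaf (nat_lit 48886549))) (BT.node (nat_lit 12286272) (BT.leaf (nat_lit 41431321)) (BT.leaf (nat_lit 42967577)))) (BT.node (nat_lit 12286464) (BT.node (nat_lit 12286400) (BT.leaf (nat_lit 32074777)) (BT.leaf (nat_lit 32074781))) (BT.node (nat_lit 12286528) (BT.leaf (nat_lit 32075289)) (BT.leaf (nat_lit 32075293))))) (BT.node (nat_lit 12286848) (BT.node (nat_lit 12286720) (BT.node (nat_lit 12286656) (BT.leaf (nat_lit 41335565)) (BT.leaf (nat_lit 34650909))) (BT.node (nat_lit 12286784) (BT.leaf (nat_lit 49038609)) (BT.leaf (nat_lit 34934281)))) (BT.node (nat_lit 12286913) (BT.node (nat_lit 12286912) (BT.leaf (nat_lit 33791257)) (BT.leaf (nat_lit 32082453))) (BT.node (nat_lit 12286976) (BT.leaf (nat_lit 773296)) (BT.leaf (nat_lit 43055137)))))) (BT.node (nat_lit 12287616) (BT.node (nat_lit 12287360) (BT.node (nat_lit 12287168) (BT.node (nat_lit 12287104) (BT.leaf (nat_lit 43055365)) (BT.leaf (nat_lit 46516241))) (BT.node (nat_lit 12287296) (BT.leaf (nat_lit 32084001)) (BT.leaf (nat_lit 34920469)))) (BT.node (nat_lit 12287488) (BT.node (nat_lit 12287424) (BT.leaf (nat_lit 41870613)) (BT.leaf (nat_lit 32085769))) (BT.node (nat_lit 12287552) (BT.leaf (nat_lit 32085773)) (BT.leaf (nat_lit 49031713))))) (BT.node (nat_lit 12287936) (BT.node (nat_lit 12287808) (BT.node (nat_lit 12287744) (BT.leaf (nat_lit 32085789)) (BT.leaf (nat_lit 34937869))) (BT.node (nat_lit 12287872) (BT.leaf (nat_lit 51615765)) (BT.leaf (nat_lit 32086805)))) (BT.node (nat_lit 12288064) (BT.node (nat_lit 12288000) (BT.leaf (nat_lit 32087569)) (BT.leaf (nat_lit 34937625))) (BT.node (nat_lit 12288128) (BT.leaf (nat_lit 32087825)) (BT.leaf (nat_lit 32087829))))))) (BT.node (nat_lit 12289408) (BT.node (nat_lit 12288768) (BT.node (nat_lit 12288512) (BT.node (nat_lit 12288384) (BT.node (nat_lit 12288256) (BT.leaf (nat_lit 34176793)) (BT.leaf (nat_lit 49151005))) (BT.node (nat_lit 12288448) (BT.leaf (nat_lit 34937865)) (BT.leaf (nat_lit 32089109)))) (BT.node (nat_lit 12288640) (BT.node (nat_lit 12288576) (BT.leaf (nat_lit 32089877)) (BT.leaf (nat_lit 43414021))) (BT.node (nat_lit 12288704) (BT.leaf (nat_lit 34939165)) (BT.leaf (nat_lit 32090129))))) (BT.node (nat_lit 12289088) (BT.node (nat_lit 12288960) (BT.node (nat_lit 12288832) (BT.leaf (nat_lit 34939145)) (BT.leaf (nat_lit 46952737))) (BT.node (nat_lit 12289024) (BT.leaf (nat_lit 33322521)) (BT.leaf (nat_lit 32090389)))) (BT.node (nat_lit 12289280) (BT.node (nat_lit 12289152) (BT.leaf (nat_lit 32090641)) (BT.leaf (nat_lit 32091161))) (BT.node (nat_lit 12289344) (BT.leaf (nat_lit 44840473)) (BT.leaf (nat_lit 48106017)))))) (BT.node (nat_lit 12289920) (BT.node (nat_lit 12289664) (BT.node (nat_lit 12289536) (BT.node (nat_lit 12289472) (BT.leaf (nat_lit 34945301)) (BT.leaf (nat_lit 48105993))) (BT.node (nat_lit 12289600) (BT.leaf (nat_lit 49560097)) (BT.leaf (nat_lit 48346629)))) (BT.node (nat_lit 12289792) (BT.node (nat_lit 12289728) (BT.leaf (nat_lit 32092941)) (BT.leaf (nat_lit 32093713))) (BT.node (nat_lit 12289856) (BT.leaf (nat_lit 34790161)) (BT.leaf (nat_lit 32094737))))) (BT.node (nat_lit 12290176) (BT.node (nat_lit 12290048) (BT.node (nat_lit 12289984) (BT.leaf (nat_lit 32095005)) (BT.leaf (nat_lit 32096017))) (BT.node (nat_lit 12290112) (BT.leaf (nat_lit 32095769)) (BT.leaf (nat_lit 32095773)))) (BT.node (nat_lit 12290304) (BT.node (nat_lit 12290240) (BT.leaf (nat_lit 44933409)) (BT.leaf (nat_lit 48639509))) (BT.node (nat_lit 12290368) (BT.leaf (nat_lit 48510229)) (BT.leaf (nat_lit 32098585)))))))) (BT.node (nat_lit 12292487) (BT.node (nat_lit 12291520) (BT.node (nat_lit 12291008) (BT.node (nat_lit 12290688) (BT.node (nat_lit 12290560) (BT.node (nat_lit 12290496) (BT.leaf (nat_lit 41530145)) (BT.leaf (nat_lit 32098841))) (BT.node (nat_lit 12290624) (BT.leaf (nat_lit 32098845)) (BT.leaf (nat_lit 41321481)))) (BT.node (nat_lit 12290880) (BT.node (nat_lit 12290816) (BT.leaf (nat_lit 41321485)) (BT.leaf (nat_lit 41321501))) (BT.node (nat_lit 12290944) (BT.leaf (nat_lit 32099105)) (BT.leaf (nat_lit 33974293))))) (BT.node (nat_lit 12291264) (BT.node (nat_lit 12291136) (BT.node (nat_lit 12291072) (BT.leaf (nat_lit 50857745)) (BT.leaf (nat_lit 34934553))) (BT.node (nat_lit 12291200) (BT.leaf (nat_lit 38345477)) (BT.leaf (nat_lit 45006093)))) (BT.node (nat_lit 12291392) (BT.node (nat_lit 12291328) (BT.leaf (nat_lit 50305045)) (BT.leaf (nat_lit 32101905))) (BT.node (nat_lit 12291456) (BT.leaf (nat_lit 32102417)) (BT.leaf (nat_lit 32102937)))))) (BT.node (nat_lit 12292160) (BT.node (nat_lit 12291840) (BT.node (nat_lit 12291648) (BT.node (nat_lit 12291584) (BT.leaf (nat_lit 32102941)) (BT.leaf (nat_lit 36428817))) (BT.node (nat_lit 12291776) (BT.leaf (nat_lit 35848721)) (BT.leaf (nat_lit 32103705)))) (BT.node (nat_lit 12292032) (BT.node (nat_lit 12291968) (BT.leaf (nat_lit 32104721)) (BT.leaf (nat_lit 34872853))) (BT.node (nat_lit 12292096) (BT.leaf (nat_lit 51572501)) (BT.leaf (nat_lit 32108061))))) (BT.node (nat_lit 12292480) (BT.node (nat_lit 12292352) (BT.node (nat_lit 12292224) (BT.leaf (nat_lit 49712393)) (BT.leaf (nat_lit 32111633))) (BT.node (nat_lit 12292416) (BT.leaf (nat_lit 32110365)) (BT.leaf (nat_lit 32110621)))) (BT.node (nat_lit 12292485) (BT.node (nat_lit 12292483) (BT.leaf (nat_lit 32111121)) (BT.leaf (nat_lit 789636))) (BT.node (nat_lit 12292486) (BT.leaf (nat_lit 789636)) (BT.leaf (nat_lit 789636))))))) (BT.node (nat_lit 12293632) (BT.node (nat_lit 12293120) (BT.node (nat_lit 12292736) (BT.node (nat_lit 12292608) (BT.node (nat_lit 12292488) (BT.leaf (nat_lit 789636)) (BT.leaf (nat_lit 789636))) (BT.node (nat_lit 12292672) (BT.leaf (nat_lit 33046289)) (BT.leaf (nat_lit 32112661)))) (BT.node (nat_lit 12292992) (BT.node (nat_lit 12292864) (BT.leaf (nat_lit 38589985)) (BT.leaf (nat_lit 46597917))) (BT.node (nat_lit 12293056) (BT.leaf (nat_lit 40670985)) (BT.leaf (nat_lit 41450757))))) (BT.node (nat_lit 12293376) (BT.node (nat_lit 12293248) (BT.node (nat_lit 12293184) (BT.leaf (nat_lit 39851801)) (BT.leaf (nat_lit 47617285))) (BT.node (nat_lit 12293312) (BT.leaf (nat_lit 32116745)) (BT.leaf (nat_lit 32117261)))) (BT.node (nat_lit 12293504) (BT.node (nat_lit 12293440) (BT.leaf (nat_lit 32117769)) (BT.leaf (nat_lit 32118549))) (BT.node (nat_lit 12293568) (BT.leaf (nat_lit 32118805)) (BT.leaf (nat_lit 38462469)))))) (BT.node (nat_lit 12294016) (BT.node (nat_lit 12293768) (BT.node (nat_lit 12293761) (BT.node (nat_lit 12293760) (BT.leaf (nat_lit 32120077)) (BT.leaf (nat_lit 50565649))) (BT.node (nat_lit 12293765) (BT.leaf (nat_lit 784104)) (BT.leaf (nat_lit 784104)))) (BT.node (nat_lit 12293888) (BT.node (nat_lit 12293824) (BT.leaf (nat_lit 784104)) (BT.leaf (nat_lit 32120865))) (BT.node (nat_lit 12293952) (BT.leaf (nat_lit 32121873)) (BT.leaf (nat_lit 39002373))))) (BT.node (nat_lit 12294272) (BT.node (nat_lit 12294144) (BT.node (nat_lit 12294080) (BT.leaf (nat_lit 32122649)) (BT.leaf (nat_lit 32122653))) (BT.node (nat_lit 12294208) (BT.leaf (nat_lit 32122897)) (BT.leaf (nat_lit 34394397)))) (BT.node (nat_lit 12294400) (BT.node (nat_lit 12294336) (BT.leaf (nat_lit 32123157)) (BT.leaf (nat_lit 32123413))) (BT.node (nat_lit 12294464) (BT.leaf (nat_lit 32123669)) (BT.leaf (nat_lit 34955537)))))))))))))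
noncomputable def big0_e118784 : BT Nat := (BT.node (nat_lit 12366784) (BT.node (nat_lit 12330816) (BT.node (nat_lit 12312896) (BT.node (nat_lit 12303808) (BT.node (nat_lit 12299072) (BT.node (nat_lit 12296896) (BT.node (nat_lit 12295744) (BT.node (nat_lit 12295168) (BT.node (nat_lit 12294848) (BT.node (nat_lit 12294656) (BT.node (nat_lit 12294592) (BT.leaf (nat_lit 34955281)) (BT.leaf (nat_lit 32123929))) (BT.node (nat_lit 12294784) (BT.leaf (nat_lit 37816089)) (BT.leaf (nat_lit 38219541)))) (BT.node (nat_lit 12294976) (BT.node (nat_lit 12294912) (BT.leaf (nat_lit 32127761)) (BT.leaf (nat_lit 49355809))) (BT.node (nat_lit 12295104) (BT.leaf (nat_lit 32128017)) (BT.leaf (nat_lit 32129045))))) (BT.node (nat_lit 12295488) (BT.node (nat_lit 12295360) (BT.node (nat_lit 12295296) (BT.leaf (nat_lit 32129557)) (BT.leaf (nat_lit 34010641))) (BT.node (nat_lit 12295424) (BT.leaf (nat_lit 32132125)) (BT.leaf (nat_lit 32132381)))) (BT.node (nat_lit 12295616) (BT.node (nat_lit 12295552) (BT.leaf (nat_lit 32310553)) (BT.leaf (nat_lit 32310557))) (BT.node (nat_lit 12295680) (BT.leaf (nat_lit 41533985)) (BT.leaf (nat_lit 32134677)))))) (BT.node (nat_lit 12296256) (BT.node (nat_lit 12296000) (BT.node (nat_lit 12295812) (BT.node (nat_lit 12295808) (BT.leaf (nat_lit 32135453)) (BT.leaf (nat_lit 32136213))) (BT.node (nat_lit 12295936) (BT.leaf (nat_lit 772100)) (BT.leaf (nat_lit 35166741)))) (BT.node (nat_lit 12296128) (BT.node (nat_lit 12296064) (BT.leaf (nat_lit 32138513)) (BT.leaf (nat_lit 32139797))) (BT.node (nat_lit 12296192) (BT.leaf (nat_lit 32139285)) (BT.leaf (nat_lit 32139537))))) (BT.node (nat_lit 12296640) (BT.node (nat_lit 12296448) (BT.node (nat_lit 12296320) (BT.leaf (nat_lit 32141077)) (BT.leaf (nat_lit 46375953))) (BT.node (nat_lit 12296576) (BT.leaf (nat_lit 50784541)) (BT.leaf (nat_lit 34789897)))) (BT.node (nat_lit 12296768) (BT.node (nat_lit 12296704) (BT.leaf (nat_lit 49186329)) (BT.leaf (nat_lit 32143389))) (BT.node (nat_lit 12296832) (BT.leaf (nat_lit 43218953)) (BT.leaf (nat_lit 32143645))))))) (BT.node (nat_lit 12297856) (BT.node (nat_lit 12297344) (BT.node (nat_lit 12297152) (BT.node (nat_lit 12297024) (BT.node (nat_lit 12296960) (BT.leaf (nat_lit 35024913)) (BT.leaf (nat_lit 32144149))) (BT.node (nat_lit 12297088) (BT.leaf (nat_lit 45506081)) (BT.leaf (nat_lit 32144665)))) (BT.node (nat_lit 12297218) (BT.node (nat_lit 12297216) (BT.leaf (nat_lit 35956757)) (BT.leaf (nat_lit 51320597))) (BT.node (nat_lit 12297280) (BT.leaf (nat_lit 780476)) (BT.leaf (nat_lit 33323797))))) (BT.node (nat_lit 12297600) (BT.node (nat_lit 12297472) (BT.node (nat_lit 12297408) (BT.leaf (nat_lit 32145693)) (BT.leaf (nat_lit 32145937))) (BT.node (nat_lit 12297536) (BT.leaf (nat_lit 40747801)) (BT.leaf (nat_lit 32146193)))) (BT.node (nat_lit 12297728) (BT.node (nat_lit 12297664) (BT.leaf (nat_lit 47323673)) (BT.leaf (nat_lit 46668569))) (BT.node (nat_lit 12297792) (BT.leaf (nat_lit 40611349)) (BT.leaf (nat_lit 47304481)))))) (BT.node (nat_lit 12298560) (BT.node (nat_lit 12298112) (BT.node (nat_lit 12297984) (BT.node (nat_lit 12297920) (BT.leaf (nat_lit 34964753)) (BT.leaf (nat_lit 32149525))) (BT.node (nat_lit 12298048) (BT.leaf (nat_lit 37629201)) (BT.leaf (nat_lit 49561621)))) (BT.node (nat_lit 12298368) (BT.node (nat_lit 12298240) (BT.leaf (nat_lit 32151325)) (BT.leaf (nat_lit 32152341))) (BT.node (nat_lit 12298496) (BT.leaf (nat_lit 35365905)) (BT.leaf (nat_lit 41373205))))) (BT.node (nat_lit 12298816) (BT.node (nat_lit 12298688) (BT.node (nat_lit 12298624) (BT.leaf (nat_lit 33542681)) (BT.leaf (nat_lit 52411165))) (BT.node (nat_lit 12298752) (BT.leaf (nat_lit 32154129)) (BT.leaf (nat_lit 44716569)))) (BT.node (nat_lit 12298944) (BT.node (nat_lit 12298880) (BT.leaf (nat_lit 37630485)) (BT.leaf (nat_lit 49195273))) (BT.node (nat_lit 12299008) (BT.leaf (nat_lit 32154649)) (BT.leaf (nat_lit 32155409)))))))) (BT.node (nat_lit 12301312) (BT.node (nat_lit 12300096) (BT.node (nat_lit 12299584) (BT.node (nat_lit 12299328) (BT.node (nat_lit 12299200) (BT.node (nat_lit 12299136) (BT.leaf (nat_lit 32157473)) (BT.leaf (nat_lit 44666137))) (BT.node (nat_lit 12299264) (BT.leaf (nat_lit 50448401)) (BT.leaf (nat_lit 32158741)))) (BT.node (nat_lit 12299456) (BT.node (nat_lit 12299392) (BT.leaf (nat_lit 32159505)) (BT.leaf (nat_lit 32160785))) (BT.node (nat_lit 12299520) (BT.leaf (nat_lit 32162069)) (BT.leaf (nat_lit 32162073))))) (BT.node (nat_lit 12299840) (BT.node (nat_lit 12299712) (BT.node (nat_lit 12299648) (BT.leaf (nat_lit 32162077)) (BT.leaf (nat_lit 32162321))) (BT.node (nat_lit 12299776) (BT.leaf (nat_lit 32163089)) (BT.leaf (nat_lit 32163345)))) (BT.node (nat_lit 12299968) (BT.node (nat_lit 12299904) (BT.leaf (nat_lit 32163601)) (BT.leaf (nat_lit 32472581))) (BT.node (nat_lit 12300032) (BT.leaf (nat_lit 46506785)) (BT.leaf (nat_lit 36284189)))))) (BT.node (nat_lit 12300736) (BT.node (nat_lit 12300480) (BT.node (nat_lit 12300224) (BT.node (nat_lit 12300160) (BT.leaf (nat_lit 48525081)) (BT.leaf (nat_lit 43599621))) (BT.node (nat_lit 12300416) (BT.leaf (nat_lit 34973205)) (BT.leaf (nat_lit 34734869)))) (BT.node (nat_lit 12300608) (BT.node (nat_lit 12300544) (BT.leaf (nat_lit 32166665)) (BT.leaf (nat_lit 32166669))) (BT.node (nat_lit 12300672) (BT.leaf (nat_lit 32167189)) (BT.leaf (nat_lit 32167445))))) (BT.node (nat_lit 12300992) (BT.node (nat_lit 12300864) (BT.node (nat_lit 12300800) (BT.leaf (nat_lit 42488337)) (BT.leaf (nat_lit 32169237))) (BT.node (nat_lit 12300928) (BT.leaf (nat_lit 35133473)) (BT.leaf (nat_lit 32169749)))) (BT.node (nat_lit 12301120) (BT.node (nat_lit 12301056) (BT.leaf (nat_lit 51462917)) (BT.leaf (nat_lit 32171297))) (BT.node (nat_lit 12301248) (BT.leaf (nat_lit 49205017)) (BT.leaf (nat_lit 39253265))))))) (BT.node (nat_lit 12302592) (BT.node (nat_lit 12301824) (BT.node (nat_lit 12301568) (BT.node (nat_lit 12301440) (BT.node (nat_lit 12301376) (BT.leaf (nat_lit 42348833)) (BT.leaf (nat_lit 49205257))) (BT.node (nat_lit 12301504) (BT.leaf (nat_lit 34324757)) (BT.leaf (nat_lit 41627425)))) (BT.node (nat_lit 12301696) (BT.node (nat_lit 12301632) (BT.leaf (nat_lit 48882965)) (BT.leaf (nat_lit 32175389))) (BT.node (nat_lit 12301760) (BT.leaf (nat_lit 32175901)) (BT.leaf (nat_lit 46437409))))) (BT.node (nat_lit 12302208) (BT.node (nat_lit 12302080) (BT.node (nat_lit 12302016) (BT.leaf (nat_lit 32177685)) (BT.leaf (nat_lit 32179217))) (BT.node (nat_lit 12302144) (BT.leaf (nat_lit 32179477)) (BT.leaf (nat_lit 32179733)))) (BT.node (nat_lit 12302336) (BT.node (nat_lit 12302272) (BT.leaf (nat_lit 32179737)) (BT.leaf (nat_lit 32179997))) (BT.node (nat_lit 12302528) (BT.leaf (nat_lit 34977301)) (BT.leaf (nat_lit 43862045)))))) (BT.node (nat_lit 12303296) (BT.node (nat_lit 12302848) (BT.node (nat_lit 12302720) (BT.node (nat_lit 12302656) (BT.leaf (nat_lit 47768857)) (BT.leaf (nat_lit 34526997))) (BT.node (nat_lit 12302784) (BT.leaf (nat_lit 43862025)) (BT.leaf (nat_lit 32183569)))) (BT.node (nat_lit 12303168) (BT.node (nat_lit 12302912) (BT.leaf (nat_lit 46653457)) (BT.leaf (nat_lit 51995657))) (BT.node (nat_lit 12303232) (BT.leaf (nat_lit 39691013)) (BT.leaf (nat_lit 44398853))))) (BT.node (nat_lit 12303552) (BT.node (nat_lit 12303424) (BT.node (nat_lit 12303360) (BT.leaf (nat_lit 43639577)) (BT.leaf (nat_lit 32186129))) (BT.node (nat_lit 12303488) (BT.leaf (nat_lit 43364617)) (BT.leaf (nat_lit 46897929)))) (BT.node (nat_lit 12303680) (BT.node (nat_lit 12303616) (BT.leaf (nat_lit 32187157)) (BT.leaf (nat_lit 50736417))) (BT.node (nat_lit 12303744) (BT.leaf (nat_lit 48513057)) (BT.leaf (nat_lit 48072225))))))))) (BT.node (nat_lit 12308608) (BT.node (nat_lit 12306240) (BT.node (nat_lit 12304960) (BT.node (nat_lit 12304384) (BT.node (nat_lit 12304128) (BT.node (nat_lit 12303936) (BT.node (nat_lit 12303872) (BT.leaf (nat_lit 50233873)) (BT.leaf (nat_lit 32192541))) (BT.node (nat_lit 12304064) (BT.leaf (nat_lit 50695701)) (BT.leaf (nat_lit 46394145)))) (BT.node (nat_lit 12304256) (BT.node (nat_lit 12304192) (BT.leaf (nat_lit 50647329)) (BT.leaf (nat_lit 34983185))) (BT.node (nat_lit 12304320) (BT.leaf (nat_lit 45199389)) (BT.leaf (nat_lit 32196881))))) (BT.node (nat_lit 12304640) (BT.node (nat_lit 12304512) (BT.node (nat_lit 12304448) (BT.leaf (nat_lit 32197397)) (BT.leaf (nat_lit 32197401))) (BT.node (nat_lit 12304576) (BT.leaf (nat_lit 32197653)) (BT.leaf (nat_lit 32199185)))) (BT.node (nat_lit 12304768) (BT.node (nat_lit 12304704) (BT.leaf (nat_lit 48624393)) (BT.leaf (nat_lit 32201501))) (BT.node (nat_lit 12304896) (BT.leaf (nat_lit 32202769)) (BT.leaf (nat_lit 35029253)))))) (BT.node (nat_lit 12305600) (BT.node (nat_lit 12305216) (BT.node (nat_lit 12305088) (BT.node (nat_lit 12305024) (BT.leaf (nat_lit 43949333)) (BT.leaf (nat_lit 49219849))) (BT.node (nat_lit 12305152) (BT.leaf (nat_lit 46870549)) (BT.leaf (nat_lit 35959073)))) (BT.node (nat_lit 12305344) (BT.node (nat_lit 12305280) (BT.leaf (nat_lit 50921221)) (BT.leaf (nat_lit 46544925))) (BT.node (nat_lit 12305536) (BT.leaf (nat_lit 40188433)) (BT.leaf (nat_lit 32208925))))) (BT.node (nat_lit 12305984) (BT.node (nat_lit 12305728) (BT.node (nat_lit 12305664) (BT.leaf (nat_lit 32209417)) (BT.leaf (nat_lit 32209685))) (BT.node (nat_lit 12305856) (BT.leaf (nat_lit 49206305)) (BT.leaf (nat_lit 32214533)))) (BT.node (nat_lit 12306112) (BT.node (nat_lit 12306048) (BT.leaf (nat_lit 32212757)) (BT.leaf (nat_lit 49519877))) (BT.node (nat_lit 12306176) (BT.leaf (nat_lit 32212761)) (BT.leaf (nat_lit 32212765))))))) (BT.node (nat_lit 12307392) (BT.node (nat_lit 12306880) (BT.node (nat_lit 12306624) (BT.node (nat_lit 12306432) (BT.node (nat_lit 12306368) (BT.leaf (nat_lit 46734357)) (BT.leaf (nat_lit 49224969))) (BT.node (nat_lit 12306496) (BT.leaf (nat_lit 48433693)) (BT.leaf (nat_lit 46965269)))) (BT.node (nat_lit 12306752) (BT.node (nat_lit 12306688) (BT.leaf (nat_lit 48600605)) (BT.leaf (nat_lit 32335905))) (BT.node (nat_lit 12306816) (BT.leaf (nat_lit 47906321)) (BT.leaf (nat_lit 32219153))))) (BT.node (nat_lit 12307136) (BT.node (nat_lit 12307008) (BT.node (nat_lit 12306944) (BT.leaf (nat_lit 43913737)) (BT.leaf (nat_lit 32221449))) (BT.node (nat_lit 12307072) (BT.leaf (nat_lit 32223249)) (BT.leaf (nat_lit 48585481)))) (BT.node (nat_lit 12307264) (BT.node (nat_lit 12307200) (BT.leaf (nat_lit 36280081)) (BT.leaf (nat_lit 32224537))) (BT.node (nat_lit 12307328) (BT.leaf (nat_lit 34503185)) (BT.leaf (nat_lit 32224793)))))) (BT.node (nat_lit 12308032) (BT.node (nat_lit 12307712) (BT.node (nat_lit 12307584) (BT.node (nat_lit 12307456) (BT.leaf (nat_lit 32224797)) (BT.leaf (nat_lit 49483273))) (BT.node (nat_lit 12307648) (BT.leaf (nat_lit 42124065)) (BT.leaf (nat_lit 32225305)))) (BT.node (nat_lit 12307840) (BT.node (nat_lit 12307776) (BT.leaf (nat_lit 32225561)) (BT.leaf (nat_lit 32226069))) (BT.node (nat_lit 12307968) (BT.leaf (nat_lit 48650517)) (BT.leaf (nat_lit 39556377))))) (BT.node (nat_lit 12308288) (BT.node (nat_lit 12308160) (BT.node (nat_lit 12308096) (BT.leaf (nat_lit 48650777)) (BT.leaf (nat_lit 32227101))) (BT.node (nat_lit 12308224) (BT.leaf (nat_lit 48614421)) (BT.leaf (nat_lit 46571017)))) (BT.node (nat_lit 12308480) (BT.node (nat_lit 12308416) (BT.leaf (nat_lit 46882329)) (BT.leaf (nat_lit 51026461))) (BT.node (nat_lit 12308544) (BT.leaf (nat_lit 50628113)) (BT.leaf (nat_lit 34627617)))))))) (BT.node (nat_lit 12310720) (BT.node (nat_lit 12309632) (BT.node (nat_lit 12309120) (BT.node (nat_lit 12308864) (BT.node (nat_lit 12308736) (BT.node (nat_lit 12308672) (BT.leaf (nat_lit 46571033)) (BT.leaf (nat_lit 36054549))) (BT.node (nat_lit 12308800) (BT.leaf (nat_lit 50094105)) (BT.leaf (nat_lit 35279377)))) (BT.node (nat_lit 12308992) (BT.node (nat_lit 12308928) (BT.leaf (nat_lit 49894941)) (BT.leaf (nat_lit 36352017))) (BT.node (nat_lit 12309056) (BT.leaf (nat_lit 32230161)) (BT.leaf (nat_lit 46797069))))) (BT.node (nat_lit 12309376) (BT.node (nat_lit 12309248) (BT.node (nat_lit 12309184) (BT.leaf (nat_lit 32231185)) (BT.leaf (nat_lit 32231953))) (BT.node (nat_lit 12309312) (BT.leaf (nat_lit 32231969)) (BT.leaf (nat_lit 32232457)))) (BT.node (nat_lit 12309504) (BT.node (nat_lit 12309440) (BT.leaf (nat_lit 47999241)) (BT.leaf (nat_lit 32232973))) (BT.node (nat_lit 12309568) (BT.leaf (nat_lit 34994709)) (BT.leaf (nat_lit 32232725)))))) (BT.node (nat_lit 12310080) (BT.node (nat_lit 12309824) (BT.node (nat_lit 12309760) (BT.node (nat_lit 12309696) (BT.leaf (nat_lit 32232737)) (BT.leaf (nat_lit 45169925))) (BT.node (nat_lit 12309765) (BT.leaf (nat_lit 34061857)) (BT.leaf (nat_lit 787140)))) (BT.node (nat_lit 12309952) (BT.node (nat_lit 12309888) (BT.leaf (nat_lit 48390673)) (BT.leaf (nat_lit 32234781))) (BT.node (nat_lit 12310016) (BT.leaf (nat_lit 32235537)) (BT.leaf (nat_lit 32235541))))) (BT.node (nat_lit 12310464) (BT.node (nat_lit 12310272) (BT.node (nat_lit 12310144) (BT.leaf (nat_lit 44644113)) (BT.leaf (nat_lit 44644121))) (BT.node (nat_lit 12310336) (BT.leaf (nat_lit 34997533)) (BT.leaf (nat_lit 32237845)))) (BT.node (nat_lit 12310592) (BT.node (nat_lit 12310528) (BT.leaf (nat_lit 32238361)) (BT.leaf (nat_lit 32238365))) (BT.node (nat_lit 12310656) (BT.leaf (nat_lit 32239125)) (BT.leaf (nat_lit 32239389))))))) (BT.node (nat_lit 12311808) (BT.node (nat_lit 12311232) (BT.node (nat_lit 12310976) (BT.node (nat_lit 12310848) (BT.node (nat_lit 12310784) (BT.leaf (nat_lit 32239633)) (BT.leaf (nat_lit 40348957))) (BT.node (nat_lit 12310912) (BT.leaf (nat_lit 52114193)) (BT.leaf (nat_lit 32240413)))) (BT.node (nat_lit 12311104) (BT.node (nat_lit 12311040) (BT.leaf (nat_lit 35000341)) (BT.leaf (nat_lit 38125597))) (BT.node (nat_lit 12311168) (BT.leaf (nat_lit 32241429)) (BT.leaf (nat_lit 32241685))))) (BT.node (nat_lit 12311488) (BT.node (nat_lit 12311360) (BT.node (nat_lit 12311296) (BT.leaf (nat_lit 32241937)) (BT.leaf (nat_lit 40894477))) (BT.node (nat_lit 12311424) (BT.leaf (nat_lit 41515029)) (BT.leaf (nat_lit 47154957)))) (BT.node (nat_lit 12311616) (BT.node (nat_lit 12311552) (BT.leaf (nat_lit 38585629)) (BT.leaf (nat_lit 38781193))) (BT.node (nat_lit 12311744) (BT.leaf (nat_lit 48022049)) (BT.leaf (nat_lit 32245525)))))) (BT.node (nat_lit 12312320) (BT.node (nat_lit 12312064) (BT.node (nat_lit 12311936) (BT.node (nat_lit 12311872) (BT.leaf (nat_lit 47760917)) (BT.leaf (nat_lit 43136265))) (BT.node (nat_lit 12312000) (BT.leaf (nat_lit 51581453)) (BT.leaf (nat_lit 35002893)))) (BT.node (nat_lit 12312192) (BT.node (nat_lit 12312128) (BT.leaf (nat_lit 35619861)) (BT.leaf (nat_lit 49248281))) (BT.node (nat_lit 12312256) (BT.leaf (nat_lit 32247065)) (BT.leaf (nat_lit 52148485))))) (BT.node (nat_lit 12312576) (BT.node (nat_lit 12312448) (BT.node (nat_lit 12312384) (BT.leaf (nat_lit 32247317)) (BT.leaf (nat_lit 50708229))) (BT.node (nat_lit 12312512) (BT.leaf (nat_lit 32248345)) (BT.leaf (nat_lit 32248349)))) (BT.node (nat_lit 12312704) (BT.node (nat_lit 12312640) (BT.leaf (nat_lit 50199301)) (BT.leaf (nat_lit 52315409))) (BT.node (nat_lit 12312768) (BT.leaf (nat_lit 32248861)) (BT.leaf (nat_lit 52233489)))))))))) (BT.node (nat_lit 12321728) (BT.node (nat_lit 12317440) (BT.node (nat_lit 12315392) (BT.node (nat_lit 12314048) (BT.node (nat_lit 12313536) (BT.node (nat_lit 12313280) (BT.node (nat_lit 12313152) (BT.node (nat_lit 12312960) (BT.leaf (nat_lit 40001049)) (BT.leaf (nat_lit 47808277))) (BT.node (nat_lit 12313216) (BT.leaf (nat_lit 32251677)) (BT.leaf (nat_lit 32251681)))) (BT.node (nat_lit 12313408) (BT.node (nat_lit 12313344) (BT.leaf (nat_lit 32253717)) (BT.leaf (nat_lit 43111685))) (BT.node (nat_lit 12313472) (BT.leaf (nat_lit 46904329)) (BT.leaf (nat_lit 42330657))))) (BT.node (nat_lit 12313792) (BT.node (nat_lit 12313664) (BT.node (nat_lit 12313600) (BT.leaf (nat_lit 40181521)) (BT.leaf (nat_lit 32255509))) (BT.node (nat_lit 12313728) (BT.leaf (nat_lit 32257305)) (BT.leaf (nat_lit 32257309)))) (BT.node (nat_lit 12313920) (BT.node (nat_lit 12313856) (BT.leaf (nat_lit 37078049)) (BT.leaf (nat_lit 32259605))) (BT.node (nat_lit 12313984) (BT.leaf (nat_lit 40419361)) (BT.leaf (nat_lit 51463953)))))) (BT.node (nat_lit 12314624) (BT.node (nat_lit 12314304) (BT.node (nat_lit 12314176) (BT.node (nat_lit 12314112) (BT.leaf (nat_lit 47855369)) (BT.leaf (nat_lit 42412293))) (BT.node (nat_lit 12314240) (BT.leaf (nat_lit 45614609)) (BT.leaf (nat_lit 46963725)))) (BT.node (nat_lit 12314496) (BT.node (nat_lit 12314432) (BT.leaf (nat_lit 41296157)) (BT.leaf (nat_lit 43281157))) (BT.node (nat_lit 12314560) (BT.leaf (nat_lit 41382405)) (BT.leaf (nat_lit 48882969))))) (BT.node (nat_lit 12315008) (BT.node (nat_lit 12314752) (BT.node (nat_lit 12314688) (BT.leaf (nat_lit 32263445)) (BT.leaf (nat_lit 49257757))) (BT.node (nat_lit 12314816) (BT.leaf (nat_lit 32264977)) (BT.leaf (nat_lit 52146957)))) (BT.node (nat_lit 12315200) (BT.node (nat_lit 12315136) (BT.leaf (nat_lit 47463445)) (BT.leaf (nat_lit 32268057))) (BT.node (nat_lit 12315264) (BT.leaf (nat_lit 39482401)) (BT.leaf (nat_lit 32269329))))))) (BT.node (nat_lit 12316416) (BT.node (nat_lit 12315904) (BT.node (nat_lit 12315648) (BT.node (nat_lit 12315520) (BT.node (nat_lit 12315456) (BT.leaf (nat_lit 32269841)) (BT.leaf (nat_lit 32649225))) (BT.node (nat_lit 12315584) (BT.leaf (nat_lit 47974929)) (BT.leaf (nat_lit 41136673)))) (BT.node (nat_lit 12315776) (BT.node (nat_lit 12315712) (BT.leaf (nat_lit 32273433)) (BT.leaf (nat_lit 32273437))) (BT.node (nat_lit 12315840) (BT.leaf (nat_lit 34335253)) (BT.leaf (nat_lit 50550805))))) (BT.node (nat_lit 12316160) (BT.node (nat_lit 12316032) (BT.node (nat_lit 12315968) (BT.leaf (nat_lit 36053785)) (BT.leaf (nat_lit 47395353))) (BT.node (nat_lit 12316096) (BT.leaf (nat_lit 47057933)) (BT.leaf (nat_lit 32274705)))) (BT.node (nat_lit 12316288) (BT.node (nat_lit 12316224) (BT.leaf (nat_lit 47057945)) (BT.leaf (nat_lit 47395341))) (BT.node (nat_lit 12316352) (BT.leaf (nat_lit 47057953)) (BT.leaf (nat_lit 32274965)))))) (BT.node (nat_lit 12316928) (BT.node (nat_lit 12316672) (BT.node (nat_lit 12316544) (BT.node (nat_lit 12316480) (BT.leaf (nat_lit 35013141)) (BT.leaf (nat_lit 32275989))) (BT.node (nat_lit 12316608) (BT.leaf (nat_lit 32276753)) (BT.leaf (nat_lit 32279313)))) (BT.node (nat_lit 12316800) (BT.node (nat_lit 12316736) (BT.leaf (nat_lit 47464221)) (BT.leaf (nat_lit 40453901))) (BT.node (nat_lit 12316864) (BT.leaf (nat_lit 43650833)) (BT.leaf (nat_lit 32280605))))) (BT.node (nat_lit 12317184) (BT.node (nat_lit 12317056) (BT.node (nat_lit 12316992) (BT.leaf (nat_lit 32280849)) (BT.leaf (nat_lit 48447261))) (BT.node (nat_lit 12317120) (BT.leaf (nat_lit 47465237)) (BT.leaf (nat_lit 32282385)))) (BT.node (nat_lit 12317312) (BT.node (nat_lit 12317248) (BT.leaf (nat_lit 32282909)) (BT.leaf (nat_lit 32282889))) (BT.node (nat_lit 12317376) (BT.leaf (nat_lit 48228873)) (BT.leaf (nat_lit 48228877)))))))) (BT.node (nat_lit 12319552) (BT.node (nat_lit 12318464) (BT.node (nat_lit 12317888) (BT.node (nat_lit 12317632) (BT.node (nat_lit 12317504) (BT.node (nat_lit 12317442) (BT.leaf (nat_lit 49753889)) (BT.leaf (nat_lit 798180))) (BT.node (nat_lit 12317568) (BT.leaf (nat_lit 32285717)) (BT.leaf (nat_lit 32286233)))) (BT.node (nat_lit 12317760) (BT.node (nat_lit 12317696) (BT.leaf (nat_lit 32286237)) (BT.leaf (nat_lit 32286493))) (BT.node (nat_lit 12317824) (BT.leaf (nat_lit 32286745)) (BT.leaf (nat_lit 36797457))))) (BT.node (nat_lit 12318144) (BT.node (nat_lit 12318016) (BT.node (nat_lit 12317952) (BT.leaf (nat_lit 32287241)) (BT.leaf (nat_lit 48449289))) (BT.node (nat_lit 12318080) (BT.leaf (nat_lit 49271305)) (BT.leaf (nat_lit 43061009)))) (BT.node (nat_lit 12318272) (BT.node (nat_lit 12318208) (BT.leaf (nat_lit 48257033)) (BT.leaf (nat_lit 32291857))) (BT.node (nat_lit 12318400) (BT.leaf (nat_lit 49933589)) (BT.leaf (nat_lit 35019297)))))) (BT.node (nat_lit 12319040) (BT.node (nat_lit 12318720) (BT.node (nat_lit 12318592) (BT.node (nat_lit 12318528) (BT.leaf (nat_lit 41848341)) (BT.leaf (nat_lit 39797765))) (BT.node (nat_lit 12318656) (BT.leaf (nat_lit 34593297)) (BT.leaf (nat_lit 32293661)))) (BT.node (nat_lit 12318848) (BT.node (nat_lit 12318784) (BT.leaf (nat_lit 32293913)) (BT.leaf (nat_lit 32293917))) (BT.node (nat_lit 12318912) (BT.leaf (nat_lit 32294665)) (BT.leaf (nat_lit 32294669))))) (BT.node (nat_lit 12319296) (BT.node (nat_lit 12319168) (BT.node (nat_lit 12319104) (BT.leaf (nat_lit 32295201)) (BT.leaf (nat_lit 32297229))) (BT.node (nat_lit 12319232) (BT.leaf (nat_lit 32297233)) (BT.leaf (nat_lit 32297241)))) (BT.node (nat_lit 12319424) (BT.node (nat_lit 12319360) (BT.leaf (nat_lit 39817733)) (BT.leaf (nat_lit 32297761))) (BT.node (nat_lit 12319488) (BT.leaf (nat_lit 32298009)) (BT.leaf (nat_lit 32298013))))))) (BT.node (nat_lit 12320576) (BT.node (nat_lit 12320064) (BT.node (nat_lit 12319808) (BT.node (nat_lit 12319680) (BT.node (nat_lit 12319616) (BT.leaf (nat_lit 32298261)) (BT.leaf (nat_lit 47739661))) (BT.node (nat_lit 12319744) (BT.leaf (nat_lit 32299033)) (BT.leaf (nat_lit 32299037)))) (BT.node (nat_lit 12320000) (BT.node (nat_lit 12319936) (BT.leaf (nat_lit 47740425)) (BT.leaf (nat_lit 32299293))) (BT.node (nat_lit 12320004) (BT.leaf (nat_lit 39672609)) (BT.leaf (nat_lit 791524))))) (BT.node (nat_lit 12320320) (BT.node (nat_lit 12320192) (BT.node (nat_lit 12320128) (BT.leaf (nat_lit 32299545)) (BT.leaf (nat_lit 32300037))) (BT.node (nat_lit 12320256) (BT.leaf (nat_lit 32300049)) (BT.leaf (nat_lit 32300565)))) (BT.node (nat_lit 12320448) (BT.node (nat_lit 12320384) (BT.leaf (nat_lit 32300573)) (BT.leaf (nat_lit 32300809))) (BT.node (nat_lit 12320512) (BT.leaf (nat_lit 32300813)) (BT.leaf (nat_lit 32300825)))))) (BT.node (nat_lit 12321216) (BT.node (nat_lit 12320832) (BT.node (nat_lit 12320704) (BT.node (nat_lit 12320640) (BT.leaf (nat_lit 32300829)) (BT.leaf (nat_lit 32301337))) (BT.node (nat_lit 12320768) (BT.leaf (nat_lit 32301333)) (BT.leaf (nat_lit 50065413)))) (BT.node (nat_lit 12321024) (BT.node (nat_lit 12320960) (BT.leaf (nat_lit 32302617)) (BT.leaf (nat_lit 48657177))) (BT.node (nat_lit 12321088) (BT.leaf (nat_lit 34038545)) (BT.leaf (nat_lit 32303877))))) (BT.node (nat_lit 12321472) (BT.node (nat_lit 12321344) (BT.node (nat_lit 12321280) (BT.leaf (nat_lit 47679493)) (BT.leaf (nat_lit 48443161))) (BT.node (nat_lit 12321408) (BT.leaf (nat_lit 32304929)) (BT.leaf (nat_lit 33990149)))) (BT.node (nat_lit 12321600) (BT.node (nat_lit 12321536) (BT.leaf (nat_lit 39367701)) (BT.leaf (nat_lit 39367705))) (BT.node (nat_lit 12321664) (BT.leaf (nat_lit 39367709)) (BT.leaf (nat_lit 33990153))))))))) (BT.node (nat_lit 12326336) (BT.node (nat_lit 12323904) (BT.node (nat_lit 12322880) (BT.node (nat_lit 12322304) (BT.node (nat_lit 12321928) (BT.node (nat_lit 12321792) (BT.node (nat_lit 12321729) (BT.leaf (nat_lit 34853141)) (BT.leaf (nat_lit 794080))) (BT.node (nat_lit 12321796) (BT.leaf (nat_lit 35253265)) (BT.leaf (nat_lit 797680)))) (BT.node (nat_lit 12322112) (BT.node (nat_lit 12322048) (BT.leaf (nat_lit 806880)) (BT.leaf (nat_lit 49952285))) (BT.node (nat_lit 12322240) (BT.leaf (nat_lit 32306193)) (BT.leaf (nat_lit 32306697))))) (BT.node (nat_lit 12322624) (BT.node (nat_lit 12322496) (BT.node (nat_lit 12322368) (BT.leaf (nat_lit 44688145)) (BT.leaf (nat_lit 48441621))) (BT.node (nat_lit 12322560) (BT.leaf (nat_lit 32308501)) (BT.leaf (nat_lit 50788877)))) (BT.node (nat_lit 12322752) (BT.node (nat_lit 12322688) (BT.leaf (nat_lit 47329041)) (BT.leaf (nat_lit 32308497))) (BT.node (nat_lit 12322816) (BT.leaf (nat_lit 48359701)) (BT.leaf (nat_lit 48441113)))))) (BT.node (nat_lit 12323392) (BT.node (nat_lit 12323136) (BT.node (nat_lit 12323008) (BT.node (nat_lit 12322944) (BT.leaf (nat_lit 32309269)) (BT.leaf (nat_lit 32310541))) (BT.node (nat_lit 12323072) (BT.leaf (nat_lit 32311057)) (BT.leaf (nat_lit 34476573)))) (BT.node (nat_lit 12323264) (BT.node (nat_lit 12323200) (BT.leaf (nat_lit 37757469)) (BT.leaf (nat_lit 35403285))) (BT.node (nat_lit 12323328) (BT.leaf (nat_lit 34476549)) (BT.leaf (nat_lit 32312853))))) (BT.node (nat_lit 12323648) (BT.node (nat_lit 12323520) (BT.node (nat_lit 12323461) (BT.leaf (nat_lit 48897825)) (BT.leaf (nat_lit 786800))) (BT.node (nat_lit 12323584) (BT.leaf (nat_lit 41113349)) (BT.leaf (nat_lit 41505033)))) (BT.node (nat_lit 12323776) (BT.node (nat_lit 12323712) (BT.leaf (nat_lit 51451169)) (BT.leaf (nat_lit 48632841))) (BT.node (nat_lit 12323840) (BT.leaf (nat_lit 44206605)) (BT.leaf (nat_lit 41891589))))))) (BT.node (nat_lit 12325248) (BT.node (nat_lit 12324416) (BT.node (nat_lit 12324160) (BT.node (nat_lit 12324032) (BT.node (nat_lit 12323968) (BT.leaf (nat_lit 32317201)) (BT.leaf (nat_lit 47264017))) (BT.node (nat_lit 12324096) (BT.leaf (nat_lit 36150553)) (BT.leaf (nat_lit 43654409)))) (BT.node (nat_lit 12324288) (BT.node (nat_lit 12324224) (BT.leaf (nat_lit 32319257)) (BT.leaf (nat_lit 32319261))) (BT.node (nat_lit 12324352) (BT.leaf (nat_lit 32319765)) (BT.leaf (nat_lit 32320529))))) (BT.node (nat_lit 12324736) (BT.node (nat_lit 12324544) (BT.node (nat_lit 12324480) (BT.leaf (nat_lit 32321049)) (BT.leaf (nat_lit 32321053))) (BT.node (nat_lit 12324672) (BT.leaf (nat_lit 32321297)) (BT.leaf (nat_lit 32322845)))) (BT.node (nat_lit 12325056) (BT.node (nat_lit 12324864) (BT.leaf (nat_lit 40012565)) (BT.leaf (nat_lit 47652101))) (BT.node (nat_lit 12325184) (BT.leaf (nat_lit 34364701)) (BT.leaf (nat_lit 32324881)))))) (BT.node (nat_lit 12325824) (BT.node (nat_lit 12325568) (BT.node (nat_lit 12325376) (BT.node (nat_lit 12325312) (BT.leaf (nat_lit 49819665)) (BT.leaf (nat_lit 42897925))) (BT.node (nat_lit 12325504) (BT.leaf (nat_lit 32325649)) (BT.leaf (nat_lit 32327185)))) (BT.node (nat_lit 12325696) (BT.node (nat_lit 12325632) (BT.leaf (nat_lit 52372001)) (BT.leaf (nat_lit 38321173))) (BT.node (nat_lit 12325760) (BT.leaf (nat_lit 48185881)) (BT.leaf (nat_lit 48185885))))) (BT.node (nat_lit 12326080) (BT.node (nat_lit 12325952) (BT.node (nat_lit 12325888) (BT.leaf (nat_lit 32328729)) (BT.leaf (nat_lit 32328733))) (BT.node (nat_lit 12326016) (BT.leaf (nat_lit 32329233)) (BT.leaf (nat_lit 43216665)))) (BT.node (nat_lit 12326208) (BT.node (nat_lit 12326144) (BT.leaf (nat_lit 43216669)) (BT.leaf (nat_lit 32330517))) (BT.node (nat_lit 12326272) (BT.leaf (nat_lit 32330769)) (BT.leaf (nat_lit 39019797)))))))) (BT.node (nat_lit 12328704) (BT.node (nat_lit 12327616) (BT.node (nat_lit 12326848) (BT.node (nat_lit 12326592) (BT.node (nat_lit 12326464) (BT.node (nat_lit 12326400) (BT.leaf (nat_lit 40542753)) (BT.leaf (nat_lit 40005909))) (BT.node (nat_lit 12326528) (BT.leaf (nat_lit 52305925)) (BT.leaf (nat_lit 43132937)))) (BT.node (nat_lit 12326720) (BT.node (nat_lit 12326656) (BT.leaf (nat_lit 47926789)) (BT.leaf (nat_lit 35036433))) (BT.node (nat_lit 12326784) (BT.leaf (nat_lit 32334109)) (BT.leaf (nat_lit 47458313))))) (BT.node (nat_lit 12327360) (BT.node (nat_lit 12327232) (BT.node (nat_lit 12327040) (BT.leaf (nat_lit 44619029)) (BT.leaf (nat_lit 32336161))) (BT.node (nat_lit 12327296) (BT.leaf (nat_lit 35037209)) (BT.leaf (nat_lit 33924641)))) (BT.node (nat_lit 12327488) (BT.node (nat_lit 12327424) (BT.leaf (nat_lit 40844057)) (BT.leaf (nat_lit 32337681))) (BT.node (nat_lit 12327552) (BT.leaf (nat_lit 32338205)) (BT.leaf (nat_lit 41637149)))))) (BT.node (nat_lit 12328128) (BT.node (nat_lit 12327872) (BT.node (nat_lit 12327744) (BT.node (nat_lit 12327680) (BT.leaf (nat_lit 32338185)) (BT.leaf (nat_lit 32338453))) (BT.node (nat_lit 12327808) (BT.leaf (nat_lit 40341269)) (BT.leaf (nat_lit 32339217)))) (BT.node (nat_lit 12328000) (BT.node (nat_lit 12327936) (BT.leaf (nat_lit 32339465)) (BT.leaf (nat_lit 32339469))) (BT.node (nat_lit 12328064) (BT.leaf (nat_lit 32339485)) (BT.leaf (nat_lit 39739417))))) (BT.node (nat_lit 12328448) (BT.node (nat_lit 12328256) (BT.node (nat_lit 12328192) (BT.leaf (nat_lit 32340501)) (BT.leaf (nat_lit 47224085))) (BT.node (nat_lit 12328384) (BT.leaf (nat_lit 32341265)) (BT.leaf (nat_lit 46912793)))) (BT.node (nat_lit 12328576) (BT.node (nat_lit 12328512) (BT.leaf (nat_lit 34199305)) (BT.leaf (nat_lit 35039237))) (BT.node (nat_lit 12328640) (BT.leaf (nat_lit 39043845)) (BT.leaf (nat_lit 43023645))))))) (BT.node (nat_lit 12329792) (BT.node (nat_lit 12329216) (BT.node (nat_lit 12328960) (BT.node (nat_lit 12328832) (BT.node (nat_lit 12328768) (BT.leaf (nat_lit 33289233)) (BT.leaf (nat_lit 32345625))) (BT.node (nat_lit 12328896) (BT.leaf (nat_lit 51657233)) (BT.leaf (nat_lit 41103637)))) (BT.node (nat_lit 12329088) (BT.node (nat_lit 12329024) (BT.leaf (nat_lit 50322957)) (BT.leaf (nat_lit 52431125))) (BT.node (nat_lit 12329152) (BT.leaf (nat_lit 32349705)) (BT.leaf (nat_lit 32349709))))) (BT.node (nat_lit 12329472) (BT.node (nat_lit 12329344) (BT.node (nat_lit 12329280) (BT.leaf (nat_lit 35042325)) (BT.leaf (nat_lit 32349721))) (BT.node (nat_lit 12329408) (BT.leaf (nat_lit 32349725)) (BT.leaf (nat_lit 41814549)))) (BT.node (nat_lit 12329664) (BT.node (nat_lit 12329536) (BT.leaf (nat_lit 47004445)) (BT.leaf (nat_lit 32350481))) (BT.node (nat_lit 12329728) (BT.leaf (nat_lit 32350497)) (BT.leaf (nat_lit 32350741)))))) (BT.node (nat_lit 12330368) (BT.node (nat_lit 12330112) (BT.node (nat_lit 12329920) (BT.node (nat_lit 12329856) (BT.leaf (nat_lit 34800409)) (BT.leaf (nat_lit 34800413))) (BT.node (nat_lit 12329984) (BT.leaf (nat_lit 50430481)) (BT.leaf (nat_lit 50936353)))) (BT.node (nat_lit 12330240) (BT.node (nat_lit 12330176) (BT.leaf (nat_lit 32353297)) (BT.leaf (nat_lit 47299857))) (BT.node (nat_lit 12330304) (BT.leaf (nat_lit 49155857)) (BT.leaf (nat_lit 41874193))))) (BT.node (nat_lit 12330496) (BT.node (nat_lit 12330436) (BT.node (nat_lit 12330432) (BT.leaf (nat_lit 32354325)) (BT.leaf (nat_lit 32354329))) (BT.node (nat_lit 12330437) (BT.leaf (nat_lit 774620)) (BT.leaf (nat_lit 774620)))) (BT.node (nat_lit 12330688) (BT.node (nat_lit 12330624) (BT.leaf (nat_lit 50413089)) (BT.leaf (nat_lit 48785697))) (BT.node (nat_lit 12330752) (BT.leaf (nat_lit 47882781)) (BT.leaf (nat_lit 32355861))))))))))) (BT.node (nat_lit 12348864) (BT.node (nat_lit 12340032) (BT.node (nat_lit 12335552) (BT.node (nat_lit 12333312) (BT.node (nat_lit 12331968) (BT.node (nat_lit 12331456) (BT.node (nat_lit 12331072) (BT.node (nat_lit 12330944) (BT.node (nat_lit 12330880) (BT.leaf (nat_lit 51956257)) (BT.leaf (nat_lit 32356105))) (BT.node (nat_lit 12331008) (BT.leaf (nat_lit 32356109)) (BT.leaf (nat_lit 35046421)))) (BT.node (nat_lit 12331200) (BT.node (nat_lit 12331136) (BT.leaf (nat_lit 46799365)) (BT.leaf (nat_lit 32356877))) (BT.node (nat_lit 12331264) (BT.leaf (nat_lit 32356889)) (BT.leaf (nat_lit 32515093))))) (BT.node (nat_lit 12331712) (BT.node (nat_lit 12331584) (BT.node (nat_lit 12331520) (BT.leaf (nat_lit 49440265)) (BT.leaf (nat_lit 32357905))) (BT.node (nat_lit 12331648) (BT.leaf (nat_lit 45533961)) (BT.leaf (nat_lit 32358921)))) (BT.node (nat_lit 12331840) (BT.node (nat_lit 12331776) (BT.leaf (nat_lit 46430237)) (BT.leaf (nat_lit 32358937))) (BT.node (nat_lit 12331904) (BT.leaf (nat_lit 32358941)) (BT.leaf (nat_lit 32358945)))))) (BT.node (nat_lit 12332608) (BT.node (nat_lit 12332288) (BT.node (nat_lit 12332160) (BT.node (nat_lit 12332096) (BT.leaf (nat_lit 50004257)) (BT.leaf (nat_lit 39574561))) (BT.node (nat_lit 12332224) (BT.leaf (nat_lit 47800581)) (BT.leaf (nat_lit 32360729)))) (BT.node (nat_lit 12332416) (BT.node (nat_lit 12332352) (BT.leaf (nat_lit 32360733)) (BT.leaf (nat_lit 32361237))) (BT.node (nat_lit 12332544) (BT.leaf (nat_lit 43222809)) (BT.leaf (nat_lit 35247385))))) (BT.node (nat_lit 12332864) (BT.node (nat_lit 12332736) (BT.node (nat_lit 12332672) (BT.leaf (nat_lit 48891413)) (BT.leaf (nat_lit 46658841))) (BT.node (nat_lit 12332800) (BT.leaf (nat_lit 46658829)) (BT.leaf (nat_lit 32363041)))) (BT.node (nat_lit 12333184) (BT.node (nat_lit 12332928) (BT.leaf (nat_lit 32363285)) (BT.leaf (nat_lit 49358601))) (BT.node (nat_lit 12333248) (BT.leaf (nat_lit 43380245)) (BT.leaf (nat_lit 32364053))))))) (BT.node (nat_lit 12334464) (BT.node (nat_lit 12333952) (BT.node (nat_lit 12333568) (BT.node (nat_lit 12333440) (BT.node (nat_lit 12333376) (BT.leaf (nat_lit 46656801)) (BT.leaf (nat_lit 49333789))) (BT.node (nat_lit 12333504) (BT.leaf (nat_lit 49453829)) (BT.leaf (nat_lit 50955017)))) (BT.node (nat_lit 12333696) (BT.node (nat_lit 12333632) (BT.leaf (nat_lit 32365849)) (BT.leaf (nat_lit 32365853))) (BT.node (nat_lit 12333888) (BT.leaf (nat_lit 41155341)) (BT.leaf (nat_lit 50982169))))) (BT.node (nat_lit 12334208) (BT.node (nat_lit 12334080) (BT.node (nat_lit 12334016) (BT.leaf (nat_lit 34348817)) (BT.leaf (nat_lit 32367641))) (BT.node (nat_lit 12334144) (BT.leaf (nat_lit 51054101)) (BT.leaf (nat_lit 50979337)))) (BT.node (nat_lit 12334336) (BT.node (nat_lit 12334272) (BT.leaf (nat_lit 32369169)) (BT.leaf (nat_lit 32369429))) (BT.node (nat_lit 12334400) (BT.leaf (nat_lit 32370449)) (BT.leaf (nat_lit 49416465)))))) (BT.node (nat_lit 12335040) (BT.node (nat_lit 12334784) (BT.node (nat_lit 12334592) (BT.node (nat_lit 12334528) (BT.leaf (nat_lit 50727437)) (BT.leaf (nat_lit 33441561))) (BT.node (nat_lit 12334656) (BT.leaf (nat_lit 49424157)) (BT.leaf (nat_lit 32371997)))) (BT.node (nat_lit 12334912) (BT.node (nat_lit 12334848) (BT.leaf (nat_lit 39653385)) (BT.leaf (nat_lit 42120969))) (BT.node (nat_lit 12334976) (BT.leaf (nat_lit 32374021)) (BT.leaf (nat_lit 32373781))))) (BT.node (nat_lit 12335296) (BT.node (nat_lit 12335168) (BT.node (nat_lit 12335104) (BT.leaf (nat_lit 32484877)) (BT.leaf (nat_lit 32374285))) (BT.node (nat_lit 12335232) (BT.leaf (nat_lit 32374297)) (BT.leaf (nat_lit 32374301)))) (BT.node (nat_lit 12335424) (BT.node (nat_lit 12335360) (BT.leaf (nat_lit 42287125)) (BT.leaf (nat_lit 49461777))) (BT.node (nat_lit 12335488) (BT.leaf (nat_lit 32375053)) (BT.leaf (nat_lit 32375065)))))))) (BT.node (nat_lit 12337664) (BT.node (nat_lit 12336512) (BT.node (nat_lit 12335936) (BT.node (nat_lit 12335808) (BT.node (nat_lit 12335680) (BT.node (nat_lit 12335616) (BT.leaf (nat_lit 32375069)) (BT.leaf (nat_lit 32375573))) (BT.node (nat_lit 12335744) (BT.leaf (nat_lit 51660833)) (BT.leaf (nat_lit 52226577)))) (BT.node (nat_lit 12335811) (BT.node (nat_lit 12335809) (BT.leaf (nat_lit 49985285)) (BT.leaf (nat_lit 805172))) (BT.node (nat_lit 12335872) (BT.leaf (nat_lit 805172)) (BT.leaf (nat_lit 32376605))))) (BT.node (nat_lit 12336256) (BT.node (nat_lit 12336128) (BT.node (nat_lit 12336000) (BT.leaf (nat_lit 49985297)) (BT.leaf (nat_lit 32377109))) (BT.node (nat_lit 12336192) (BT.leaf (nat_lit 32827165)) (BT.leaf (nat_lit 48510213)))) (BT.node (nat_lit 12336384) (BT.node (nat_lit 12336320) (BT.leaf (nat_lit 32378125)) (BT.leaf (nat_lit 32379413))) (BT.node (nat_lit 12336448) (BT.leaf (nat_lit 49977109)) (BT.leaf (nat_lit 38522397)))))) (BT.node (nat_lit 12337152) (BT.node (nat_lit 12336832) (BT.node (nat_lit 12336640) (BT.node (nat_lit 12336576) (BT.leaf (nat_lit 49476625)) (BT.leaf (nat_lit 33020433))) (BT.node (nat_lit 12336768) (BT.leaf (nat_lit 49672217)) (BT.leaf (nat_lit 43068421)))) (BT.node (nat_lit 12337024) (BT.node (nat_lit 12336960) (BT.leaf (nat_lit 48515333)) (BT.leaf (nat_lit 40981777))) (BT.node (nat_lit 12337088) (BT.leaf (nat_lit 41656341)) (BT.leaf (nat_lit 37912341))))) (BT.node (nat_lit 12337408) (BT.node (nat_lit 12337280) (BT.node (nat_lit 12337216) (BT.leaf (nat_lit 32384017)) (BT.leaf (nat_lit 32384785))) (BT.node (nat_lit 12337344) (BT.leaf (nat_lit 49443085)) (BT.leaf (nat_lit 38492421)))) (BT.node (nat_lit 12337536) (BT.node (nat_lit 12337472) (BT.leaf (nat_lit 32384529)) (BT.leaf (nat_lit 32385053))) (BT.node (nat_lit 12337600) (BT.leaf (nat_lit 49504277)) (BT.leaf (nat_lit 32386069))))))) (BT.node (nat_lit 12339008) (BT.node (nat_lit 12338240) (BT.node (nat_lit 12337920) (BT.node (nat_lit 12337792) (BT.node (nat_lit 12337728) (BT.leaf (nat_lit 49504029)) (BT.leaf (nat_lit 32386321))) (BT.node (nat_lit 12337856) (BT.leaf (nat_lit 39867669)) (BT.leaf (nat_lit 32388105)))) (BT.node (nat_lit 12338048) (BT.node (nat_lit 12337984) (BT.leaf (nat_lit 32388109)) (BT.leaf (nat_lit 35070485))) (BT.node (nat_lit 12338112) (BT.leaf (nat_lit 32388121)) (BT.leaf (nat_lit 32388125))))) (BT.node (nat_lit 12338688) (BT.node (nat_lit 12338432) (BT.node (nat_lit 12338368) (BT.leaf (nat_lit 32388881)) (BT.leaf (nat_lit 32388897))) (BT.node (nat_lit 12338496) (BT.leaf (nat_lit 46112545)) (BT.leaf (nat_lit 32548889)))) (BT.node (nat_lit 12338880) (BT.node (nat_lit 12338752) (BT.leaf (nat_lit 32390689)) (BT.leaf (nat_lit 32391189))) (BT.node (nat_lit 12338944) (BT.leaf (nat_lit 50470165)) (BT.leaf (nat_lit 32391957)))))) (BT.node (nat_lit 12339520) (BT.node (nat_lit 12339264) (BT.node (nat_lit 12339136) (BT.node (nat_lit 12339072) (BT.leaf (nat_lit 32391961)) (BT.leaf (nat_lit 32391965))) (BT.node (nat_lit 12339200) (BT.leaf (nat_lit 38808333)) (BT.leaf (nat_lit 32392469)))) (BT.node (nat_lit 12339392) (BT.node (nat_lit 12339328) (BT.leaf (nat_lit 49357341)) (BT.leaf (nat_lit 35073549))) (BT.node (nat_lit 12339456) (BT.leaf (nat_lit 48316425)) (BT.leaf (nat_lit 41291805))))) (BT.node (nat_lit 12339776) (BT.node (nat_lit 12339648) (BT.node (nat_lit 12339584) (BT.leaf (nat_lit 49257221)) (BT.leaf (nat_lit 48318493))) (BT.node (nat_lit 12339712) (BT.leaf (nat_lit 46656533)) (BT.leaf (nat_lit 35088653)))) (BT.node (nat_lit 12339904) (BT.node (nat_lit 12339840) (BT.leaf (nat_lit 47624969)) (BT.leaf (nat_lit 50017057))) (BT.node (nat_lit 12339968) (BT.leaf (nat_lit 32396309)) (BT.leaf (nat_lit 47727637))))))))) (BT.node (nat_lit 12344512) (BT.node (nat_lit 12342272) (BT.node (nat_lit 12341120) (BT.node (nat_lit 12340608) (BT.node (nat_lit 12340352) (BT.node (nat_lit 12340160) (BT.node (nat_lit 12340096) (BT.leaf (nat_lit 32396817)) (BT.leaf (nat_lit 32397073))) (BT.node (nat_lit 12340224) (BT.leaf (nat_lit 51366169)) (BT.leaf (nat_lit 35795485)))) (BT.node (nat_lit 12340480) (BT.node (nat_lit 12340416) (BT.leaf (nat_lit 42181389)) (BT.leaf (nat_lit 32400149))) (BT.node (nat_lit 12340544) (BT.leaf (nat_lit 42181409)) (BT.leaf (nat_lit 52231701))))) (BT.node (nat_lit 12340864) (BT.node (nat_lit 12340736) (BT.node (nat_lit 12340672) (BT.leaf (nat_lit 41996809)) (BT.leaf (nat_lit 47135501))) (BT.node (nat_lit 12340800) (BT.leaf (nat_lit 47654925)) (BT.leaf (nat_lit 50796821)))) (BT.node (nat_lit 12340992) (BT.node (nat_lit 12340928) (BT.leaf (nat_lit 46956833)) (BT.leaf (nat_lit 46956577))) (BT.node (nat_lit 12341056) (BT.leaf (nat_lit 42831637)) (BT.leaf (nat_lit 39676421)))))) (BT.node (nat_lit 12341696) (BT.node (nat_lit 12341440) (BT.node (nat_lit 12341248) (BT.node (nat_lit 12341184) (BT.leaf (nat_lit 47135517)) (BT.leaf (nat_lit 44107277))) (BT.node (nat_lit 12341376) (BT.leaf (nat_lit 32734229)) (BT.leaf (nat_lit 33376521)))) (BT.node (nat_lit 12341568) (BT.node (nat_lit 12341504) (BT.leaf (nat_lit 37403141)) (BT.leaf (nat_lit 49925393))) (BT.node (nat_lit 12341632) (BT.leaf (nat_lit 32411165)) (BT.leaf (nat_lit 43040289))))) (BT.node (nat_lit 12342016) (BT.node (nat_lit 12341824) (BT.node (nat_lit 12341760) (BT.leaf (nat_lit 39040281)) (BT.leaf (nat_lit 41026585))) (BT.node (nat_lit 12341888) (BT.leaf (nat_lit 32411921)) (BT.leaf (nat_lit 32412181)))) (BT.node (nat_lit 12342144) (BT.node (nat_lit 12342080) (BT.leaf (nat_lit 52394009)) (BT.leaf (nat_lit 32413209))) (BT.node (nat_lit 12342208) (BT.leaf (nat_lit 47901717)) (BT.leaf (nat_lit 37805345))))))) (BT.node (nat_lit 12343360) (BT.node (nat_lit 12342848) (BT.node (nat_lit 12342528) (BT.node (nat_lit 12342400) (BT.node (nat_lit 12342336) (BT.leaf (nat_lit 41835809)) (BT.leaf (nat_lit 46950661))) (BT.node (nat_lit 12342464) (BT.leaf (nat_lit 48414733)) (BT.leaf (nat_lit 35084049)))) (BT.node (nat_lit 12342720) (BT.node (nat_lit 12342656) (BT.leaf (nat_lit 35301901)) (BT.leaf (nat_lit 35010053))) (BT.node (nat_lit 12342784) (BT.leaf (nat_lit 32416285)) (BT.leaf (nat_lit 32801045))))) (BT.node (nat_lit 12343104) (BT.node (nat_lit 12342976) (BT.node (nat_lit 12342912) (BT.leaf (nat_lit 32801053)) (BT.leaf (nat_lit 32417041))) (BT.node (nat_lit 12343040) (BT.leaf (nat_lit 42828553)) (BT.leaf (nat_lit 49353733)))) (BT.node (nat_lit 12343232) (BT.node (nat_lit 12343168) (BT.leaf (nat_lit 32418065)) (BT.leaf (nat_lit 35085077))) (BT.node (nat_lit 12343296) (BT.leaf (nat_lit 33611037)) (BT.leaf (nat_lit 41329161)))))) (BT.node (nat_lit 12343936) (BT.node (nat_lit 12343680) (BT.node (nat_lit 12343488) (BT.node (nat_lit 12343424) (BT.leaf (nat_lit 32419865)) (BT.leaf (nat_lit 32419869))) (BT.node (nat_lit 12343552) (BT.leaf (nat_lit 35087377)) (BT.leaf (nat_lit 32420121)))) (BT.node (nat_lit 12343808) (BT.node (nat_lit 12343744) (BT.leaf (nat_lit 45435681)) (BT.leaf (nat_lit 35088665))) (BT.node (nat_lit 12343872) (BT.leaf (nat_lit 32421397)) (BT.leaf (nat_lit 32422169))))) (BT.node (nat_lit 12344256) (BT.node (nat_lit 12344128) (BT.node (nat_lit 12344000) (BT.leaf (nat_lit 49804817)) (BT.leaf (nat_lit 32422429))) (BT.node (nat_lit 12344192) (BT.leaf (nat_lit 32422681)) (BT.leaf (nat_lit 32422685)))) (BT.node (nat_lit 12344384) (BT.node (nat_lit 12344320) (BT.leaf (nat_lit 51938069)) (BT.leaf (nat_lit 32423185))) (BT.node (nat_lit 12344448) (BT.leaf (nat_lit 52304153)) (BT.leaf (nat_lit 33959197)))))))) (BT.node (nat_lit 12346624) (BT.node (nat_lit 12345472) (BT.node (nat_lit 12345024) (BT.node (nat_lit 12344768) (BT.node (nat_lit 12344640) (BT.node (nat_lit 12344576) (BT.leaf (nat_lit 32425225)) (BT.leaf (nat_lit 46439201))) (BT.node (nat_lit 12344704) (BT.leaf (nat_lit 51649553)) (BT.leaf (nat_lit 32427797)))) (BT.node (nat_lit 12344896) (BT.node (nat_lit 12344832) (BT.leaf (nat_lit 32428297)) (BT.leaf (nat_lit 32428041))) (BT.node (nat_lit 12344960) (BT.leaf (nat_lit 32428049)) (BT.leaf (nat_lit 48419349))))) (BT.node (nat_lit 12345216) (BT.node (nat_lit 12345093) (BT.node (nat_lit 12345088) (BT.leaf (nat_lit 49379865)) (BT.leaf (nat_lit 34934301))) (BT.node (nat_lit 12345152) (BT.leaf (nat_lit 794832)) (BT.leaf (nat_lit 32430357)))) (BT.node (nat_lit 12345344) (BT.node (nat_lit 12345280) (BT.leaf (nat_lit 32430613)) (BT.leaf (nat_lit 32431385))) (BT.node (nat_lit 12345408) (BT.leaf (nat_lit 32431389)) (BT.leaf (nat_lit 32431633)))))) (BT.node (nat_lit 12345984) (BT.node (nat_lit 12345728) (BT.node (nat_lit 12345600) (BT.node (nat_lit 12345536) (BT.leaf (nat_lit 45174789)) (BT.leaf (nat_lit 32432661))) (BT.node (nat_lit 12345664) (BT.leaf (nat_lit 32941061)) (BT.leaf (nat_lit 32433173)))) (BT.node (nat_lit 12345856) (BT.node (nat_lit 12345792) (BT.leaf (nat_lit 32433177)) (BT.leaf (nat_lit 32433181))) (BT.node (nat_lit 12345920) (BT.leaf (nat_lit 35301897)) (BT.leaf (nat_lit 34084369))))) (BT.node (nat_lit 12346240) (BT.node (nat_lit 12346112) (BT.node (nat_lit 12346048) (BT.leaf (nat_lit 36357905)) (BT.leaf (nat_lit 37602581))) (BT.node (nat_lit 12346176) (BT.leaf (nat_lit 45396761)) (BT.leaf (nat_lit 45396765)))) (BT.node (nat_lit 12346432) (BT.node (nat_lit 12346304) (BT.leaf (nat_lit 49615389)) (BT.leaf (nat_lit 43717405))) (BT.node (nat_lit 12346560) (BT.leaf (nat_lit 44969989)) (BT.leaf (nat_lit 32751381))))))) (BT.node (nat_lit 12347648) (BT.node (nat_lit 12347136) (BT.node (nat_lit 12346884) (BT.node (nat_lit 12346752) (BT.node (nat_lit 12346688) (BT.leaf (nat_lit 35083785)) (BT.leaf (nat_lit 32751881))) (BT.node (nat_lit 12346880) (BT.leaf (nat_lit 32440853)) (BT.leaf (nat_lit 32441881)))) (BT.node (nat_lit 12347008) (BT.node (nat_lit 12346944) (BT.leaf (nat_lit 771744)) (BT.leaf (nat_lit 32442141))) (BT.node (nat_lit 12347072) (BT.leaf (nat_lit 32442373)) (BT.leaf (nat_lit 49463329))))) (BT.node (nat_lit 12347392) (BT.node (nat_lit 12347264) (BT.node (nat_lit 12347200) (BT.leaf (nat_lit 32444169)) (BT.leaf (nat_lit 32444173))) (BT.node (nat_lit 12347328) (BT.leaf (nat_lit 32444177)) (BT.leaf (nat_lit 38250265)))) (BT.node (nat_lit 12347520) (BT.node (nat_lit 12347456) (BT.leaf (nat_lit 32443665)) (BT.leaf (nat_lit 32444189))) (BT.node (nat_lit 12347584) (BT.leaf (nat_lit 32444185)) (BT.leaf (nat_lit 32444693)))))) (BT.node (nat_lit 12348352) (BT.node (nat_lit 12348096) (BT.node (nat_lit 12347904) (BT.node (nat_lit 12347840) (BT.leaf (nat_lit 32444701)) (BT.leaf (nat_lit 41414929))) (BT.node (nat_lit 12348032) (BT.leaf (nat_lit 47080453)) (BT.leaf (nat_lit 32877597)))) (BT.node (nat_lit 12348224) (BT.node (nat_lit 12348160) (BT.leaf (nat_lit 34573089)) (BT.leaf (nat_lit 32450841))) (BT.node (nat_lit 12348288) (BT.leaf (nat_lit 32450837)) (BT.leaf (nat_lit 50614049))))) (BT.node (nat_lit 12348672) (BT.node (nat_lit 12348544) (BT.node (nat_lit 12348480) (BT.leaf (nat_lit 47790613)) (BT.leaf (nat_lit 32452881))) (BT.node (nat_lit 12348608) (BT.leaf (nat_lit 32453397)) (BT.leaf (nat_lit 32453641)))) (BT.node (nat_lit 12348736) (BT.node (nat_lit 12348673) (BT.leaf (nat_lit 34037777)) (BT.leaf (nat_lit 786892))) (BT.node (nat_lit 12348800) (BT.leaf (nat_lit 47087137)) (BT.leaf (nat_lit 32456221)))))))))) (BT.node (nat_lit 12357376) (BT.node (nat_lit 12352832) (BT.node (nat_lit 12350977) (BT.node (nat_lit 12349952) (BT.node (nat_lit 12349440) (BT.node (nat_lit 12349120) (BT.node (nat_lit 12348992) (BT.node (nat_lit 12348928) (BT.leaf (nat_lit 32456981)) (BT.leaf (nat_lit 32457501))) (BT.node (nat_lit 12349056) (BT.leaf (nat_lit 37827081)) (BT.leaf (nat_lit 37827085)))) (BT.node (nat_lit 12349248) (BT.node (nat_lit 12349184) (BT.leaf (nat_lit 35106069)) (BT.leaf (nat_lit 49186837))) (BT.node (nat_lit 12349312) (BT.leaf (nat_lit 41750793)) (BT.leaf (nat_lit 32460061))))) (BT.node (nat_lit 12349696) (BT.node (nat_lit 12349568) (BT.node (nat_lit 12349504) (BT.leaf (nat_lit 47211281)) (BT.leaf (nat_lit 35109141))) (BT.node (nat_lit 12349632) (BT.leaf (nat_lit 32461345)) (BT.leaf (nat_lit 39481605)))) (BT.node (nat_lit 12349765) (BT.node (nat_lit 12349760) (BT.leaf (nat_lit 46924309)) (BT.leaf (nat_lit 32463393))) (BT.node (nat_lit 12349766) (BT.leaf (nat_lit 788112)) (BT.leaf (nat_lit 788112)))))) (BT.node (nat_lit 12350400) (BT.node (nat_lit 12350144) (BT.node (nat_lit 12350080) (BT.node (nat_lit 12350016) (BT.leaf (nat_lit 50971405)) (BT.leaf (nat_lit 35119633))) (BT.node (nat_lit 12350088) (BT.leaf (nat_lit 49403421)) (BT.leaf (nat_lit 814924)))) (BT.node (nat_lit 12350272) (BT.node (nat_lit 12350208) (BT.leaf (nat_lit 45231885)) (BT.leaf (nat_lit 35120401))) (BT.node (nat_lit 12350336) (BT.leaf (nat_lit 39644933)) (BT.leaf (nat_lit 32465173))))) (BT.node (nat_lit 12350784) (BT.node (nat_lit 12350592) (BT.node (nat_lit 12350464) (BT.leaf (nat_lit 32465425)) (BT.leaf (nat_lit 32466197))) (BT.node (nat_lit 12350656) (BT.leaf (nat_lit 36326417)) (BT.leaf (nat_lit 36326161)))) (BT.node (nat_lit 12350912) (BT.node (nat_lit 12350848) (BT.leaf (nat_lit 49402905)) (BT.leaf (nat_lit 37089309))) (BT.node (nat_lit 12350976) (BT.leaf (nat_lit 32466709)) (BT.leaf (nat_lit 44857377))))))) (BT.node (nat_lit 12351936) (BT.node (nat_lit 12351360) (BT.node (nat_lit 12351105) (BT.node (nat_lit 12351048) (BT.node (nat_lit 12351040) (BT.leaf (nat_lit 797584)) (BT.leaf (nat_lit 32467993))) (BT.node (nat_lit 12351104) (BT.leaf (nat_lit 797588)) (BT.leaf (nat_lit 32467997)))) (BT.node (nat_lit 12351232) (BT.node (nat_lit 12351168) (BT.leaf (nat_lit 797592)) (BT.leaf (nat_lit 41153049))) (BT.node (nat_lit 12351296) (BT.leaf (nat_lit 32469529)) (BT.leaf (nat_lit 32469533))))) (BT.node (nat_lit 12351680) (BT.node (nat_lit 12351488) (BT.node (nat_lit 12351424) (BT.leaf (nat_lit 40280581)) (BT.leaf (nat_lit 32470033))) (BT.node (nat_lit 12351616) (BT.leaf (nat_lit 35124997)) (BT.leaf (nat_lit 32484873)))) (BT.node (nat_lit 12351808) (BT.node (nat_lit 12351744) (BT.leaf (nat_lit 32472597)) (BT.leaf (nat_lit 49340437))) (BT.node (nat_lit 12351872) (BT.leaf (nat_lit 49417237)) (BT.leaf (nat_lit 49407257)))))) (BT.node (nat_lit 12352324) (BT.node (nat_lit 12352192) (BT.node (nat_lit 12352064) (BT.node (nat_lit 12352000) (BT.leaf (nat_lit 45576477)) (BT.leaf (nat_lit 32474641))) (BT.node (nat_lit 12352128) (BT.leaf (nat_lit 42590217)) (BT.leaf (nat_lit 46762773)))) (BT.node (nat_lit 12352320) (BT.node (nat_lit 12352256) (BT.leaf (nat_lit 39080969)) (BT.leaf (nat_lit 47612705))) (BT.node (nat_lit 12352321) (BT.leaf (nat_lit 41005317)) (BT.leaf (nat_lit 775024))))) (BT.node (nat_lit 12352576) (BT.node (nat_lit 12352448) (BT.node (nat_lit 12352384) (BT.leaf (nat_lit 775024)) (BT.leaf (nat_lit 35773969))) (BT.node (nat_lit 12352512) (BT.leaf (nat_lit 49410077)) (BT.leaf (nat_lit 48070161)))) (BT.node (nat_lit 12352704) (BT.node (nat_lit 12352640) (BT.leaf (nat_lit 37020177)) (BT.leaf (nat_lit 49410329))) (BT.node (nat_lit 12352768) (BT.leaf (nat_lit 36067861)) (BT.leaf (nat_lit 42118433)))))))) (BT.node (nat_lit 12354944) (BT.node (nat_lit 12353920) (BT.node (nat_lit 12353408) (BT.node (nat_lit 12353088) (BT.node (nat_lit 12352960) (BT.node (nat_lit 12352896) (BT.leaf (nat_lit 35232521)) (BT.leaf (nat_lit 35232525))) (BT.node (nat_lit 12353024) (BT.leaf (nat_lit 34754333)) (BT.leaf (nat_lit 35232537)))) (BT.node (nat_lit 12353216) (BT.node (nat_lit 12353152) (BT.leaf (nat_lit 35232545)) (BT.leaf (nat_lit 32480785))) (BT.node (nat_lit 12353280) (BT.leaf (nat_lit 32481297)) (BT.leaf (nat_lit 49416709))))) (BT.node (nat_lit 12353664) (BT.node (nat_lit 12353536) (BT.node (nat_lit 12353472) (BT.leaf (nat_lit 43087621)) (BT.leaf (nat_lit 32483337))) (BT.node (nat_lit 12353600) (BT.leaf (nat_lit 48345101)) (BT.leaf (nat_lit 32486421)))) (BT.node (nat_lit 12353792) (BT.node (nat_lit 12353728) (BT.leaf (nat_lit 48345117)) (BT.leaf (nat_lit 32483605))) (BT.node (nat_lit 12353856) (BT.leaf (nat_lit 49415689)) (BT.leaf (nat_lit 45571869)))))) (BT.node (nat_lit 12354432) (BT.node (nat_lit 12354176) (BT.node (nat_lit 12354048) (BT.node (nat_lit 12353984) (BT.leaf (nat_lit 51077653)) (BT.leaf (nat_lit 32556817))) (BT.node (nat_lit 12354112) (BT.leaf (nat_lit 32485137)) (BT.leaf (nat_lit 32485397)))) (BT.node (nat_lit 12354304) (BT.node (nat_lit 12354240) (BT.leaf (nat_lit 32485657)) (BT.leaf (nat_lit 50991137))) (BT.node (nat_lit 12354368) (BT.leaf (nat_lit 45576473)) (BT.leaf (nat_lit 43087905))))) (BT.node (nat_lit 12354688) (BT.node (nat_lit 12354560) (BT.node (nat_lit 12354496) (BT.leaf (nat_lit 45627161)) (BT.leaf (nat_lit 32487197))) (BT.node (nat_lit 12354624) (BT.leaf (nat_lit 42512921)) (BT.leaf (nat_lit 42512925)))) (BT.node (nat_lit 12354816) (BT.node (nat_lit 12354752) (BT.leaf (nat_lit 32488213)) (BT.leaf (nat_lit 32491793))) (BT.node (nat_lit 12354880) (BT.leaf (nat_lit 32488965)) (BT.leaf (nat_lit 32489237))))))) (BT.node (nat_lit 12356352) (BT.node (nat_lit 12355456) (BT.node (nat_lit 12355200) (BT.node (nat_lit 12355072) (BT.node (nat_lit 12355008) (BT.leaf (nat_lit 32489501)) (BT.leaf (nat_lit 32489753))) (BT.node (nat_lit 12355136) (BT.leaf (nat_lit 33153289)) (BT.leaf (nat_lit 32490269)))) (BT.node (nat_lit 12355328) (BT.node (nat_lit 12355264) (BT.leaf (nat_lit 32738313)) (BT.leaf (nat_lit 33153305))) (BT.node (nat_lit 12355392) (BT.leaf (nat_lit 32491549)) (BT.leaf (nat_lit 45598741))))) (BT.node (nat_lit 12356032) (BT.node (nat_lit 12355840) (BT.node (nat_lit 12355776) (BT.leaf (nat_lit 45598745)) (BT.leaf (nat_lit 35133449))) (BT.node (nat_lit 12355904) (BT.leaf (nat_lit 52232209)) (BT.leaf (nat_lit 32495637)))) (BT.node (nat_lit 12356224) (BT.node (nat_lit 12356160) (BT.leaf (nat_lit 36330769)) (BT.leaf (nat_lit 50727701))) (BT.node (nat_lit 12356288) (BT.leaf (nat_lit 49424665)) (BT.leaf (nat_lit 36330513)))))) (BT.node (nat_lit 12356864) (BT.node (nat_lit 12356608) (BT.node (nat_lit 12356480) (BT.node (nat_lit 12356416) (BT.leaf (nat_lit 50232865)) (BT.leaf (nat_lit 50237217))) (BT.node (nat_lit 12356544) (BT.leaf (nat_lit 50236961)) (BT.leaf (nat_lit 32498709)))) (BT.node (nat_lit 12356736) (BT.node (nat_lit 12356672) (BT.leaf (nat_lit 49659425)) (BT.leaf (nat_lit 33819145))) (BT.node (nat_lit 12356800) (BT.leaf (nat_lit 32499485)) (BT.leaf (nat_lit 34215189))))) (BT.node (nat_lit 12357120) (BT.node (nat_lit 12356992) (BT.node (nat_lit 12356928) (BT.leaf (nat_lit 50304521)) (BT.leaf (nat_lit 32500241))) (BT.node (nat_lit 12357056) (BT.leaf (nat_lit 35266589)) (BT.leaf (nat_lit 32502553)))) (BT.node (nat_lit 12357248) (BT.node (nat_lit 12357184) (BT.leaf (nat_lit 39653389)) (BT.leaf (nat_lit 47929861))) (BT.node (nat_lit 12357312) (BT.leaf (nat_lit 36984097)) (BT.leaf (nat_lit 46564621))))))))) (BT.node (nat_lit 12362176) (BT.node (nat_lit 12360128) (BT.node (nat_lit 12359040) (BT.node (nat_lit 12358208) (BT.node (nat_lit 12357696) (BT.node (nat_lit 12357568) (BT.node (nat_lit 12357440) (BT.leaf (nat_lit 32502561)) (BT.leaf (nat_lit 47937809))) (BT.node (nat_lit 12357632) (BT.leaf (nat_lit 32504597)) (BT.leaf (nat_lit 47628297)))) (BT.node (nat_lit 12357952) (BT.node (nat_lit 12357888) (BT.leaf (nat_lit 47628301)) (BT.leaf (nat_lit 47628293))) (BT.node (nat_lit 12358144) (BT.leaf (nat_lit 50603033)) (BT.leaf (nat_lit 32507413))))) (BT.node (nat_lit 12358720) (BT.node (nat_lit 12358336) (BT.node (nat_lit 12358272) (BT.leaf (nat_lit 50068753)) (BT.leaf (nat_lit 35261721))) (BT.node (nat_lit 12358592) (BT.leaf (nat_lit 49434397)) (BT.leaf (nat_lit 49895441)))) (BT.node (nat_lit 12358848) (BT.node (nat_lit 12358784) (BT.leaf (nat_lit 32514837)) (BT.leaf (nat_lit 35185429))) (BT.node (nat_lit 12358912) (BT.leaf (nat_lit 32510481)) (BT.leaf (nat_lit 32510749)))))) (BT.node (nat_lit 12359680) (BT.node (nat_lit 12359360) (BT.node (nat_lit 12359232) (BT.node (nat_lit 12359168) (BT.leaf (nat_lit 50849029)) (BT.leaf (nat_lit 50358301))) (BT.node (nat_lit 12359296) (BT.leaf (nat_lit 38694421)) (BT.leaf (nat_lit 49436937)))) (BT.node (nat_lit 12359488) (BT.node (nat_lit 12359424) (BT.leaf (nat_lit 36727841)) (BT.leaf (nat_lit 49734405))) (BT.node (nat_lit 12359616) (BT.leaf (nat_lit 42731277)) (BT.leaf (nat_lit 32514581))))) (BT.node (nat_lit 12359872) (BT.node (nat_lit 12359744) (BT.node (nat_lit 12359688) (BT.leaf (nat_lit 35918109)) (BT.leaf (nat_lit 803536))) (BT.node (nat_lit 12359808) (BT.leaf (nat_lit 46541585)) (BT.leaf (nat_lit 51426317)))) (BT.node (nat_lit 12359936) (BT.node (nat_lit 12359876) (BT.leaf (nat_lit 50757125)) (BT.leaf (nat_lit 772500))) (BT.node (nat_lit 12360064) (BT.leaf (nat_lit 46541329)) (BT.leaf (nat_lit 32515605))))))) (BT.node (nat_lit 12361152) (BT.node (nat_lit 12360640) (BT.node (nat_lit 12360384) (BT.node (nat_lit 12360256) (BT.node (nat_lit 12360192) (BT.leaf (nat_lit 32515865)) (BT.leaf (nat_lit 49434909))) (BT.node (nat_lit 12360320) (BT.leaf (nat_lit 35921949)) (BT.leaf (nat_lit 52057889)))) (BT.node (nat_lit 12360512) (BT.node (nat_lit 12360448) (BT.leaf (nat_lit 50759173)) (BT.leaf (nat_lit 37242889))) (BT.node (nat_lit 12360514) (BT.leaf (nat_lit 35921933)) (BT.leaf (nat_lit 803584))))) (BT.node (nat_lit 12360896) (BT.node (nat_lit 12360768) (BT.node (nat_lit 12360704) (BT.leaf (nat_lit 32517917)) (BT.leaf (nat_lit 32519441))) (BT.node (nat_lit 12360832) (BT.leaf (nat_lit 39056153)) (BT.leaf (nat_lit 49443097)))) (BT.node (nat_lit 12361024) (BT.node (nat_lit 12360960) (BT.leaf (nat_lit 32519185)) (BT.leaf (nat_lit 32519957))) (BT.node (nat_lit 12361088) (BT.leaf (nat_lit 32521241)) (BT.leaf (nat_lit 32521245)))))) (BT.node (nat_lit 12361664) (BT.node (nat_lit 12361408) (BT.node (nat_lit 12361280) (BT.node (nat_lit 12361216) (BT.leaf (nat_lit 32521489)) (BT.leaf (nat_lit 32521753))) (BT.node (nat_lit 12361344) (BT.leaf (nat_lit 32521757)) (BT.leaf (nat_lit 46061581)))) (BT.node (nat_lit 12361536) (BT.node (nat_lit 12361472) (BT.leaf (nat_lit 40000009)) (BT.leaf (nat_lit 38259729))) (BT.node (nat_lit 12361600) (BT.leaf (nat_lit 32523801)) (BT.leaf (nat_lit 32524309))))) (BT.node (nat_lit 12361920) (BT.node (nat_lit 12361792) (BT.node (nat_lit 12361728) (BT.leaf (nat_lit 32525585)) (BT.leaf (nat_lit 46337813))) (BT.node (nat_lit 12361856) (BT.leaf (nat_lit 46337817)) (BT.leaf (nat_lit 35147025)))) (BT.node (nat_lit 12362048) (BT.node (nat_lit 12361984) (BT.leaf (nat_lit 46338325)) (BT.leaf (nat_lit 35148813))) (BT.node (nat_lit 12362112) (BT.leaf (nat_lit 34215445)) (BT.leaf (nat_lit 44742433)))))))) (BT.node (nat_lit 12364352) (BT.node (nat_lit 12363264) (BT.node (nat_lit 12362752) (BT.node (nat_lit 12362432) (BT.node (nat_lit 12362304) (BT.node (nat_lit 12362240) (BT.leaf (nat_lit 43031317)) (BT.leaf (nat_lit 48151053))) (BT.node (nat_lit 12362368) (BT.leaf (nat_lit 32528153)) (BT.leaf (nat_lit 32528157)))) (BT.node (nat_lit 12362624) (BT.node (nat_lit 12362496) (BT.leaf (nat_lit 49337889)) (BT.leaf (nat_lit 49710109))) (BT.node (nat_lit 12362688) (BT.leaf (nat_lit 46406933)) (BT.leaf (nat_lit 32531725))))) (BT.node (nat_lit 12363008) (BT.node (nat_lit 12362880) (BT.node (nat_lit 12362816) (BT.leaf (nat_lit 32531741)) (BT.leaf (nat_lit 33533981))) (BT.node (nat_lit 12362944) (BT.leaf (nat_lit 32531997)) (BT.leaf (nat_lit 32532497)))) (BT.node (nat_lit 12363136) (BT.node (nat_lit 12363072) (BT.leaf (nat_lit 32535061)) (BT.leaf (nat_lit 49787653))) (BT.node (nat_lit 12363200) (BT.leaf (nat_lit 32535837)) (BT.leaf (nat_lit 50937889)))))) (BT.node (nat_lit 12363776) (BT.node (nat_lit 12363520) (BT.node (nat_lit 12363392) (BT.node (nat_lit 12363328) (BT.leaf (nat_lit 32537361)) (BT.leaf (nat_lit 32538129))) (BT.node (nat_lit 12363456) (BT.leaf (nat_lit 32539161)) (BT.leaf (nat_lit 32539165)))) (BT.node (nat_lit 12363648) (BT.node (nat_lit 12363584) (BT.leaf (nat_lit 32539653)) (BT.leaf (nat_lit 38186529))) (BT.node (nat_lit 12363712) (BT.leaf (nat_lit 32540945)) (BT.leaf (nat_lit 32541713))))) (BT.node (nat_lit 12364032) (BT.node (nat_lit 12363904) (BT.node (nat_lit 12363840) (BT.leaf (nat_lit 32544533)) (BT.leaf (nat_lit 35093789))) (BT.node (nat_lit 12363968) (BT.leaf (nat_lit 38326561)) (BT.leaf (nat_lit 32546069)))) (BT.node (nat_lit 12364160) (BT.node (nat_lit 12364096) (BT.leaf (nat_lit 32546073)) (BT.leaf (nat_lit 32546321))) (BT.node (nat_lit 12364288) (BT.leaf (nat_lit 32546577)) (BT.leaf (nat_lit 41457173))))))) (BT.node (nat_lit 12365568) (BT.node (nat_lit 12364928) (BT.node (nat_lit 12364672) (BT.node (nat_lit 12364480) (BT.node (nat_lit 12364416) (BT.leaf (nat_lit 43339293)) (BT.leaf (nat_lit 49355037))) (BT.node (nat_lit 12364608) (BT.leaf (nat_lit 50033425)) (BT.leaf (nat_lit 38197793)))) (BT.node (nat_lit 12364800) (BT.node (nat_lit 12364736) (BT.leaf (nat_lit 47717409)) (BT.leaf (nat_lit 32875545))) (BT.node (nat_lit 12364864) (BT.leaf (nat_lit 32875533)) (BT.leaf (nat_lit 32550689))))) (BT.node (nat_lit 12365312) (BT.node (nat_lit 12365184) (BT.node (nat_lit 12365056) (BT.leaf (nat_lit 32551189)) (BT.leaf (nat_lit 35167253))) (BT.node (nat_lit 12365248) (BT.leaf (nat_lit 32552981)) (BT.leaf (nat_lit 42433301)))) (BT.node (nat_lit 12365440) (BT.node (nat_lit 12365376) (BT.leaf (nat_lit 32552985)) (BT.leaf (nat_lit 32553237))) (BT.node (nat_lit 12365504) (BT.leaf (nat_lit 32554781)) (BT.leaf (nat_lit 35305245)))))) (BT.node (nat_lit 12366080) (BT.node (nat_lit 12365824) (BT.node (nat_lit 12365696) (BT.node (nat_lit 12365632) (BT.leaf (nat_lit 32556061)) (BT.leaf (nat_lit 32556561))) (BT.node (nat_lit 12365760) (BT.leaf (nat_lit 32557073)) (BT.leaf (nat_lit 32558613)))) (BT.node (nat_lit 12365952) (BT.node (nat_lit 12365888) (BT.leaf (nat_lit 32558869)) (BT.leaf (nat_lit 49460249))) (BT.node (nat_lit 12366016) (BT.leaf (nat_lit 35168021)) (BT.leaf (nat_lit 39603461))))) (BT.node (nat_lit 12366464) (BT.node (nat_lit 12366208) (BT.node (nat_lit 12366144) (BT.leaf (nat_lit 49345045)) (BT.leaf (nat_lit 32561681))) (BT.node (nat_lit 12366272) (BT.leaf (nat_lit 38206993)) (BT.leaf (nat_lit 50614293)))) (BT.node (nat_lit 12366592) (BT.node (nat_lit 12366528) (BT.leaf (nat_lit 32563989)) (BT.leaf (nat_lit 32563741))) (BT.node (nat_lit 12366720) (BT.leaf (nat_lit 50976537)) (BT.leaf (nat_lit 40800781)))))))))))) (BT.node (nat_lit 12403203) (BT.node (nat_lit 12385216) (BT.node (nat_lit 12375680) (BT.node (nat_lit 12371264) (BT.node (nat_lit 12369024) (BT.node (nat_lit 12367936) (BT.node (nat_lit 12367424) (BT.node (nat_lit 12367104) (BT.node (nat_lit 12366912) (BT.node (nat_lit 12366848) (BT.leaf (nat_lit 45671961)) (BT.leaf (nat_lit 38879001))) (BT.node (nat_lit 12366976) (BT.leaf (nat_lit 32820761)) (BT.leaf (nat_lit 35173141)))) (BT.node (nat_lit 12367296) (BT.node (nat_lit 12367232) (BT.leaf (nat_lit 32568861)) (BT.leaf (nat_lit 32570397))) (BT.node (nat_lit 12367360) (BT.leaf (nat_lit 35303189)) (BT.leaf (nat_lit 32570649))))) (BT.node (nat_lit 12367680) (BT.node (nat_lit 12367552) (BT.node (nat_lit 12367488) (BT.leaf (nat_lit 45689113)) (BT.leaf (nat_lit 32571409))) (BT.node (nat_lit 12367616) (BT.leaf (nat_lit 32571665)) (BT.leaf (nat_lit 32571669)))) (BT.node (nat_lit 12367808) (BT.node (nat_lit 12367744) (BT.leaf (nat_lit 32572177)) (BT.leaf (nat_lit 32572425))) (BT.node (nat_lit 12367872) (BT.leaf (nat_lit 32572429)) (BT.leaf (nat_lit 32572949)))))) (BT.node (nat_lit 12368448) (BT.node (nat_lit 12368192) (BT.node (nat_lit 12368064) (BT.node (nat_lit 12368000) (BT.leaf (nat_lit 32572441)) (BT.leaf (nat_lit 32572445))) (BT.node (nat_lit 12368128) (BT.leaf (nat_lit 45896981)) (BT.leaf (nat_lit 32577045)))) (BT.node (nat_lit 12368320) (BT.node (nat_lit 12368256) (BT.leaf (nat_lit 32578073)) (BT.leaf (nat_lit 32578077))) (BT.node (nat_lit 12368384) (BT.leaf (nat_lit 32578329)) (BT.leaf (nat_lit 32670221))))) (BT.node (nat_lit 12368768) (BT.node (nat_lit 12368640) (BT.node (nat_lit 12368512) (BT.leaf (nat_lit 32578585)) (BT.leaf (nat_lit 32578589))) (BT.node (nat_lit 12368704) (BT.leaf (nat_lit 49671957)) (BT.leaf (nat_lit 45711389)))) (BT.node (nat_lit 12368896) (BT.node (nat_lit 12368832) (BT.leaf (nat_lit 38693917)) (BT.leaf (nat_lit 49254685))) (BT.node (nat_lit 12368960) (BT.leaf (nat_lit 43953689)) (BT.leaf (nat_lit 33020429))))))) (BT.node (nat_lit 12370176) (BT.node (nat_lit 12369664) (BT.node (nat_lit 12369344) (BT.node (nat_lit 12369152) (BT.node (nat_lit 12369088) (BT.leaf (nat_lit 37839385)) (BT.leaf (nat_lit 37839389))) (BT.node (nat_lit 12369216) (BT.leaf (nat_lit 42073353)) (BT.leaf (nat_lit 32834057)))) (BT.node (nat_lit 12369472) (BT.node (nat_lit 12369408) (BT.leaf (nat_lit 32581393)) (BT.leaf (nat_lit 49476117))) (BT.node (nat_lit 12369600) (BT.leaf (nat_lit 33020445)) (BT.leaf (nat_lit 46549529))))) (BT.node (nat_lit 12369920) (BT.node (nat_lit 12369792) (BT.node (nat_lit 12369728) (BT.leaf (nat_lit 32585757)) (BT.leaf (nat_lit 51948821))) (BT.node (nat_lit 12369856) (BT.leaf (nat_lit 33498913)) (BT.leaf (nat_lit 32586513)))) (BT.node (nat_lit 12370048) (BT.node (nat_lit 12369984) (BT.leaf (nat_lit 32587289)) (BT.leaf (nat_lit 35187989))) (BT.node (nat_lit 12370112) (BT.leaf (nat_lit 48591633)) (BT.leaf (nat_lit 51018261)))))) (BT.node (nat_lit 12370696) (BT.node (nat_lit 12370496) (BT.node (nat_lit 12370368) (BT.node (nat_lit 12370304) (BT.leaf (nat_lit 51270933)) (BT.leaf (nat_lit 32590869))) (BT.node (nat_lit 12370432) (BT.leaf (nat_lit 32590877)) (BT.leaf (nat_lit 35382545)))) (BT.node (nat_lit 12370624) (BT.node (nat_lit 12370560) (BT.leaf (nat_lit 50991629)) (BT.leaf (nat_lit 32591637))) (BT.node (nat_lit 12370688) (BT.leaf (nat_lit 32591645)) (BT.leaf (nat_lit 49043997))))) (BT.node (nat_lit 12371008) (BT.node (nat_lit 12370816) (BT.node (nat_lit 12370752) (BT.leaf (nat_lit 808060)) (BT.leaf (nat_lit 32592153))) (BT.node (nat_lit 12370880) (BT.leaf (nat_lit 48500757)) (BT.leaf (nat_lit 46763793)))) (BT.node (nat_lit 12371136) (BT.node (nat_lit 12371072) (BT.leaf (nat_lit 32592673)) (BT.leaf (nat_lit 51705865))) (BT.node (nat_lit 12371200) (BT.leaf (nat_lit 48501017)) (BT.leaf (nat_lit 32594453)))))))) (BT.node (nat_lit 12373505) (BT.node (nat_lit 12372544) (BT.node (nat_lit 12371968) (BT.node (nat_lit 12371520) (BT.node (nat_lit 12371392) (BT.node (nat_lit 12371328) (BT.leaf (nat_lit 35193105)) (BT.leaf (nat_lit 32594953))) (BT.node (nat_lit 12371456) (BT.leaf (nat_lit 35191573)) (BT.leaf (nat_lit 32595981)))) (BT.node (nat_lit 12371840) (BT.node (nat_lit 12371712) (BT.leaf (nat_lit 35191821)) (BT.leaf (nat_lit 49480717))) (BT.node (nat_lit 12371904) (BT.leaf (nat_lit 47138593)) (BT.leaf (nat_lit 32597525))))) (BT.node (nat_lit 12372224) (BT.node (nat_lit 12372096) (BT.node (nat_lit 12372032) (BT.leaf (nat_lit 32597769)) (BT.leaf (nat_lit 35193117))) (BT.node (nat_lit 12372160) (BT.leaf (nat_lit 35193097)) (BT.leaf (nat_lit 41836313)))) (BT.node (nat_lit 12372416) (BT.node (nat_lit 12372352) (BT.leaf (nat_lit 35189265)) (BT.leaf (nat_lit 35190801))) (BT.node (nat_lit 12372480) (BT.leaf (nat_lit 32598801)) (BT.leaf (nat_lit 32599049)))))) (BT.node (nat_lit 12373056) (BT.node (nat_lit 12372800) (BT.node (nat_lit 12372672) (BT.node (nat_lit 12372608) (BT.leaf (nat_lit 32599065)) (BT.leaf (nat_lit 36065301))) (BT.node (nat_lit 12372736) (BT.leaf (nat_lit 32599825)) (BT.leaf (nat_lit 45034509)))) (BT.node (nat_lit 12372928) (BT.node (nat_lit 12372864) (BT.leaf (nat_lit 47141665)) (BT.leaf (nat_lit 35032861))) (BT.node (nat_lit 12372992) (BT.leaf (nat_lit 32601621)) (BT.leaf (nat_lit 32601877))))) (BT.node (nat_lit 12373312) (BT.node (nat_lit 12373184) (BT.node (nat_lit 12373120) (BT.leaf (nat_lit 49679625)) (BT.leaf (nat_lit 32862477))) (BT.node (nat_lit 12373248) (BT.leaf (nat_lit 32866317)) (BT.leaf (nat_lit 32602889)))) (BT.node (nat_lit 12373440) (BT.node (nat_lit 12373376) (BT.leaf (nat_lit 32602893)) (BT.leaf (nat_lit 32866581))) (BT.node (nat_lit 12373504) (BT.leaf (nat_lit 32602905)) (BT.leaf (nat_lit 45817097))))))) (BT.node (nat_lit 12374592) (BT.node (nat_lit 12373952) (BT.node (nat_lit 12373696) (BT.node (nat_lit 12373568) (BT.node (nat_lit 12373510) (BT.leaf (nat_lit 774084)) (BT.leaf (nat_lit 774084))) (BT.node (nat_lit 12373632) (BT.leaf (nat_lit 48498465)) (BT.leaf (nat_lit 38861321)))) (BT.node (nat_lit 12373824) (BT.node (nat_lit 12373760) (BT.leaf (nat_lit 44811533)) (BT.leaf (nat_lit 47216161))) (BT.node (nat_lit 12373888) (BT.leaf (nat_lit 47216645)) (BT.leaf (nat_lit 47217185))))) (BT.node (nat_lit 12374272) (BT.node (nat_lit 12374144) (BT.node (nat_lit 12374080) (BT.leaf (nat_lit 47216929)) (BT.leaf (nat_lit 32606737))) (BT.node (nat_lit 12374208) (BT.leaf (nat_lit 46073097)) (BT.leaf (nat_lit 46073865)))) (BT.node (nat_lit 12374400) (BT.node (nat_lit 12374336) (BT.leaf (nat_lit 32608005)) (BT.leaf (nat_lit 47883029))) (BT.node (nat_lit 12374464) (BT.leaf (nat_lit 50745105)) (BT.leaf (nat_lit 32609041)))))) (BT.node (nat_lit 12375168) (BT.node (nat_lit 12374848) (BT.node (nat_lit 12374720) (BT.node (nat_lit 12374656) (BT.leaf (nat_lit 49499149)) (BT.leaf (nat_lit 32609297))) (BT.node (nat_lit 12374784) (BT.leaf (nat_lit 32609305)) (BT.leaf (nat_lit 49594901)))) (BT.node (nat_lit 12375040) (BT.node (nat_lit 12374912) (BT.leaf (nat_lit 32610581)) (BT.leaf (nat_lit 32862489))) (BT.node (nat_lit 12375104) (BT.leaf (nat_lit 32610333)) (BT.leaf (nat_lit 32610329))))) (BT.node (nat_lit 12375424) (BT.node (nat_lit 12375296) (BT.node (nat_lit 12375232) (BT.leaf (nat_lit 49595925)) (BT.leaf (nat_lit 32610589))) (BT.node (nat_lit 12375360) (BT.leaf (nat_lit 39096601)) (BT.leaf (nat_lit 32610837)))) (BT.node (nat_lit 12375552) (BT.node (nat_lit 12375488) (BT.leaf (nat_lit 46526469)) (BT.leaf (nat_lit 32611089))) (BT.node (nat_lit 12375616) (BT.leaf (nat_lit 44605209)) (BT.leaf (nat_lit 46526225))))))))) (BT.node (nat_lit 12380160) (BT.node (nat_lit 12377728) (BT.node (nat_lit 12376704) (BT.node (nat_lit 12376192) (BT.node (nat_lit 12375936) (BT.node (nat_lit 12375808) (BT.node (nat_lit 12375744) (BT.leaf (nat_lit 32612113)) (BT.leaf (nat_lit 46562845))) (BT.node (nat_lit 12375872) (BT.leaf (nat_lit 35200793)) (BT.leaf (nat_lit 50244613)))) (BT.node (nat_lit 12376064) (BT.node (nat_lit 12376000) (BT.leaf (nat_lit 32613405)) (BT.leaf (nat_lit 33420817))) (BT.node (nat_lit 12376128) (BT.leaf (nat_lit 33048593)) (BT.leaf (nat_lit 35802385))))) (BT.node (nat_lit 12376448) (BT.node (nat_lit 12376320) (BT.node (nat_lit 12376256) (BT.leaf (nat_lit 32614425)) (BT.leaf (nat_lit 35743249))) (BT.node (nat_lit 12376384) (BT.leaf (nat_lit 35203605)) (BT.leaf (nat_lit 32614941)))) (BT.node (nat_lit 12376576) (BT.node (nat_lit 12376512) (BT.leaf (nat_lit 32619797)) (BT.leaf (nat_lit 49504789))) (BT.node (nat_lit 12376640) (BT.leaf (nat_lit 32618517)) (BT.leaf (nat_lit 47610397)))))) (BT.node (nat_lit 12377280) (BT.node (nat_lit 12377024) (BT.node (nat_lit 12376832) (BT.node (nat_lit 12376768) (BT.leaf (nat_lit 32618521)) (BT.leaf (nat_lit 34115089))) (BT.node (nat_lit 12376960) (BT.leaf (nat_lit 32618781)) (BT.leaf (nat_lit 32619037)))) (BT.node (nat_lit 12377152) (BT.node (nat_lit 12377088) (BT.leaf (nat_lit 35203613)) (BT.leaf (nat_lit 32619801))) (BT.node (nat_lit 12377216) (BT.leaf (nat_lit 34854161)) (BT.leaf (nat_lit 33548565))))) (BT.node (nat_lit 12377537) (BT.node (nat_lit 12377408) (BT.node (nat_lit 12377344) (BT.leaf (nat_lit 32621333)) (BT.leaf (nat_lit 32630029))) (BT.node (nat_lit 12377536) (BT.leaf (nat_lit 49509401)) (BT.leaf (nat_lit 50496033)))) (BT.node (nat_lit 12377608) (BT.node (nat_lit 12377544) (BT.leaf (nat_lit 774124)) (BT.leaf (nat_lit 774124))) (BT.node (nat_lit 12377664) (BT.leaf (nat_lit 774108)) (BT.leaf (nat_lit 48175393))))))) (BT.node (nat_lit 12378944) (BT.node (nat_lit 12378368) (BT.node (nat_lit 12378048) (BT.node (nat_lit 12377920) (BT.node (nat_lit 12377792) (BT.leaf (nat_lit 37524513)) (BT.leaf (nat_lit 32621845))) (BT.node (nat_lit 12377984) (BT.leaf (nat_lit 35213337)) (BT.leaf (nat_lit 49855521)))) (BT.node (nat_lit 12378240) (BT.node (nat_lit 12378176) (BT.leaf (nat_lit 35206677)) (BT.leaf (nat_lit 35213325))) (BT.node (nat_lit 12378304) (BT.leaf (nat_lit 32634637)) (BT.leaf (nat_lit 32622869))))) (BT.node (nat_lit 12378688) (BT.node (nat_lit 12378496) (BT.node (nat_lit 12378432) (BT.leaf (nat_lit 45980441)) (BT.leaf (nat_lit 32623633))) (BT.node (nat_lit 12378560) (BT.leaf (nat_lit 45831445)) (BT.leaf (nat_lit 43346965)))) (BT.node (nat_lit 12378816) (BT.node (nat_lit 12378752) (BT.leaf (nat_lit 32626201)) (BT.leaf (nat_lit 32626457))) (BT.node (nat_lit 12378880) (BT.leaf (nat_lit 32626461)) (BT.leaf (nat_lit 32626713)))))) (BT.node (nat_lit 12379520) (BT.node (nat_lit 12379200) (BT.node (nat_lit 12379072) (BT.node (nat_lit 12379008) (BT.leaf (nat_lit 32626717)) (BT.leaf (nat_lit 32627473))) (BT.node (nat_lit 12379136) (BT.leaf (nat_lit 32628497)) (BT.leaf (nat_lit 32628757)))) (BT.node (nat_lit 12379328) (BT.node (nat_lit 12379264) (BT.leaf (nat_lit 32629013)) (BT.leaf (nat_lit 46567453))) (BT.node (nat_lit 12379392) (BT.leaf (nat_lit 35209493)) (BT.leaf (nat_lit 46567433))))) (BT.node (nat_lit 12379840) (BT.node (nat_lit 12379648) (BT.node (nat_lit 12379584) (BT.leaf (nat_lit 49523717)) (BT.leaf (nat_lit 32630037))) (BT.node (nat_lit 12379712) (BT.leaf (nat_lit 45784837)) (BT.leaf (nat_lit 32630549)))) (BT.node (nat_lit 12380032) (BT.node (nat_lit 12379968) (BT.leaf (nat_lit 32630813)) (BT.leaf (nat_lit 42897669))) (BT.node (nat_lit 12380096) (BT.leaf (nat_lit 36216325)) (BT.leaf (nat_lit 35211797)))))))) (BT.node (nat_lit 12382912) (BT.node (nat_lit 12381504) (BT.node (nat_lit 12381056) (BT.node (nat_lit 12380544) (BT.node (nat_lit 12380288) (BT.node (nat_lit 12380224) (BT.leaf (nat_lit 32632849)) (BT.leaf (nat_lit 49637893))) (BT.node (nat_lit 12380480) (BT.leaf (nat_lit 35212053)) (BT.leaf (nat_lit 35281953)))) (BT.node (nat_lit 12380672) (BT.node (nat_lit 12380608) (BT.leaf (nat_lit 32633365)) (BT.leaf (nat_lit 32633877))) (BT.node (nat_lit 12380864) (BT.leaf (nat_lit 49512989)) (BT.leaf (nat_lit 49521925))))) (BT.node (nat_lit 12381312) (BT.node (nat_lit 12381184) (BT.node (nat_lit 12381120) (BT.leaf (nat_lit 46823945)) (BT.leaf (nat_lit 49639693))) (BT.node (nat_lit 12381248) (BT.leaf (nat_lit 36925705)) (BT.leaf (nat_lit 36925709)))) (BT.node (nat_lit 12381377) (BT.node (nat_lit 12381376) (BT.leaf (nat_lit 46360857)) (BT.leaf (nat_lit 52143137))) (BT.node (nat_lit 12381440) (BT.leaf (nat_lit 813236)) (BT.leaf (nat_lit 32635665)))))) (BT.node (nat_lit 12382080) (BT.node (nat_lit 12381824) (BT.node (nat_lit 12381696) (BT.node (nat_lit 12381568) (BT.leaf (nat_lit 32635933)) (BT.leaf (nat_lit 35698453))) (BT.node (nat_lit 12381760) (BT.leaf (nat_lit 45782305)) (BT.leaf (nat_lit 32790797)))) (BT.node (nat_lit 12381952) (BT.node (nat_lit 12381888) (BT.leaf (nat_lit 45782277)) (BT.leaf (nat_lit 49643017))) (BT.node (nat_lit 12382016) (BT.leaf (nat_lit 41070853)) (BT.leaf (nat_lit 48731141))))) (BT.node (nat_lit 12382592) (BT.node (nat_lit 12382336) (BT.node (nat_lit 12382272) (BT.leaf (nat_lit 32640025)) (BT.leaf (nat_lit 32641549))) (BT.node (nat_lit 12382528) (BT.leaf (nat_lit 32640793)) (BT.leaf (nat_lit 32641565)))) (BT.node (nat_lit 12382720) (BT.node (nat_lit 12382656) (BT.leaf (nat_lit 33182485)) (BT.leaf (nat_lit 32671769))) (BT.node (nat_lit 12382726) (BT.leaf (nat_lit 32642065)) (BT.leaf (nat_lit 773928))))))) (BT.node (nat_lit 12384000) (BT.node (nat_lit 12383488) (BT.node (nat_lit 12383168) (BT.node (nat_lit 12383040) (BT.node (nat_lit 12382976) (BT.leaf (nat_lit 36391953)) (BT.leaf (nat_lit 32643357))) (BT.node (nat_lit 12383104) (BT.leaf (nat_lit 32643609)) (BT.leaf (nat_lit 32644113)))) (BT.node (nat_lit 12383296) (BT.node (nat_lit 12383232) (BT.leaf (nat_lit 41314849)) (BT.leaf (nat_lit 32645137))) (BT.node (nat_lit 12383424) (BT.leaf (nat_lit 32645153)) (BT.leaf (nat_lit 32645905))))) (BT.node (nat_lit 12383744) (BT.node (nat_lit 12383616) (BT.node (nat_lit 12383552) (BT.leaf (nat_lit 45837321)) (BT.leaf (nat_lit 35216657))) (BT.node (nat_lit 12383680) (BT.leaf (nat_lit 32646169)) (BT.leaf (nat_lit 32646173)))) (BT.node (nat_lit 12383872) (BT.node (nat_lit 12383808) (BT.leaf (nat_lit 32646421)) (BT.leaf (nat_lit 32646677))) (BT.node (nat_lit 12383936) (BT.leaf (nat_lit 32647189)) (BT.leaf (nat_lit 32647961)))))) (BT.node (nat_lit 12384576) (BT.node (nat_lit 12384320) (BT.node (nat_lit 12384192) (BT.node (nat_lit 12384128) (BT.leaf (nat_lit 49649161)) (BT.leaf (nat_lit 35217685))) (BT.node (nat_lit 12384256) (BT.leaf (nat_lit 32650001)) (BT.leaf (nat_lit 32651029)))) (BT.node (nat_lit 12384448) (BT.node (nat_lit 12384384) (BT.leaf (nat_lit 38855429)) (BT.leaf (nat_lit 47411717))) (BT.node (nat_lit 12384512) (BT.leaf (nat_lit 49537561)) (BT.leaf (nat_lit 32651797))))) (BT.node (nat_lit 12384960) (BT.node (nat_lit 12384704) (BT.node (nat_lit 12384640) (BT.leaf (nat_lit 32652057)) (BT.leaf (nat_lit 32652061))) (BT.node (nat_lit 12384896) (BT.leaf (nat_lit 47049237)) (BT.leaf (nat_lit 32654617)))) (BT.node (nat_lit 12385088) (BT.node (nat_lit 12385024) (BT.leaf (nat_lit 45846297)) (BT.leaf (nat_lit 32655893))) (BT.node (nat_lit 12385152) (BT.leaf (nat_lit 45818397)) (BT.leaf (nat_lit 32682525)))))))))) (BT.node (nat_lit 12394176) (BT.node (nat_lit 12389696) (BT.node (nat_lit 12387392) (BT.node (nat_lit 12386176) (BT.node (nat_lit 12385728) (BT.node (nat_lit 12385472) (BT.node (nat_lit 12385344) (BT.node (nat_lit 12385280) (BT.leaf (nat_lit 38652953)) (BT.leaf (nat_lit 35224085))) (BT.node (nat_lit 12385408) (BT.leaf (nat_lit 40692249)) (BT.leaf (nat_lit 32656653)))) (BT.node (nat_lit 12385600) (BT.node (nat_lit 12385536) (BT.leaf (nat_lit 34575137)) (BT.leaf (nat_lit 32656665))) (BT.node (nat_lit 12385664) (BT.leaf (nat_lit 32790801)) (BT.leaf (nat_lit 32657169))))) (BT.node (nat_lit 12385922) (BT.node (nat_lit 12385797) (BT.node (nat_lit 12385792) (BT.leaf (nat_lit 49625613)) (BT.leaf (nat_lit 50495777))) (BT.node (nat_lit 12385856) (BT.leaf (nat_lit 775400)) (BT.leaf (nat_lit 32663829)))) (BT.node (nat_lit 12386048) (BT.node (nat_lit 12385984) (BT.leaf (nat_lit 775396)) (BT.leaf (nat_lit 49625369))) (BT.node (nat_lit 12386112) (BT.leaf (nat_lit 32658709)) (BT.leaf (nat_lit 32659209)))))) (BT.node (nat_lit 12386624) (BT.node (nat_lit 12386374) (BT.node (nat_lit 12386304) (BT.node (nat_lit 12386240) (BT.leaf (nat_lit 32659213)) (BT.leaf (nat_lit 32659225))) (BT.node (nat_lit 12386368) (BT.leaf (nat_lit 32659229)) (BT.leaf (nat_lit 32796953)))) (BT.node (nat_lit 12386496) (BT.node (nat_lit 12386432) (BT.leaf (nat_lit 775768)) (BT.leaf (nat_lit 32659741))) (BT.node (nat_lit 12386560) (BT.leaf (nat_lit 49517077)) (BT.leaf (nat_lit 49518365))))) (BT.node (nat_lit 12387136) (BT.node (nat_lit 12386816) (BT.node (nat_lit 12386688) (BT.leaf (nat_lit 35225109)) (BT.leaf (nat_lit 49518093))) (BT.node (nat_lit 12386944) (BT.leaf (nat_lit 47522309)) (BT.leaf (nat_lit 35225877)))) (BT.node (nat_lit 12387264) (BT.node (nat_lit 12387200) (BT.leaf (nat_lit 32661269)) (BT.leaf (nat_lit 49149217))) (BT.node (nat_lit 12387328) (BT.leaf (nat_lit 32790817)) (BT.leaf (nat_lit 32662033))))))) (BT.node (nat_lit 12388608) (BT.node (nat_lit 12388032) (BT.node (nat_lit 12387776) (BT.node (nat_lit 12387584) (BT.node (nat_lit 12387456) (BT.leaf (nat_lit 50861601)) (BT.leaf (nat_lit 50231585))) (BT.node (nat_lit 12387648) (BT.leaf (nat_lit 36854537)) (BT.leaf (nat_lit 36854541)))) (BT.node (nat_lit 12387904) (BT.node (nat_lit 12387840) (BT.leaf (nat_lit 32663313)) (BT.leaf (nat_lit 41296673))) (BT.node (nat_lit 12387968) (BT.leaf (nat_lit 32663837)) (BT.leaf (nat_lit 32664605))))) (BT.node (nat_lit 12388416) (BT.node (nat_lit 12388224) (BT.node (nat_lit 12388096) (BT.leaf (nat_lit 32664849)) (BT.leaf (nat_lit 49627405))) (BT.node (nat_lit 12388288) (BT.leaf (nat_lit 32665621)) (BT.leaf (nat_lit 32666385)))) (BT.node (nat_lit 12388544) (BT.node (nat_lit 12388480) (BT.leaf (nat_lit 32666649)) (BT.leaf (nat_lit 32666653))) (BT.node (nat_lit 12388549) (BT.leaf (nat_lit 32666897)) (BT.leaf (nat_lit 815272)))))) (BT.node (nat_lit 12389184) (BT.node (nat_lit 12388864) (BT.node (nat_lit 12388736) (BT.node (nat_lit 12388672) (BT.leaf (nat_lit 44649485)) (BT.leaf (nat_lit 33181969))) (BT.node (nat_lit 12388800) (BT.leaf (nat_lit 37686809)) (BT.leaf (nat_lit 37633037)))) (BT.node (nat_lit 12389056) (BT.node (nat_lit 12388928) (BT.leaf (nat_lit 32668949)) (BT.leaf (nat_lit 37686797))) (BT.node (nat_lit 12389120) (BT.leaf (nat_lit 32668689)) (BT.leaf (nat_lit 32668933))))) (BT.node (nat_lit 12389440) (BT.node (nat_lit 12389312) (BT.node (nat_lit 12389248) (BT.leaf (nat_lit 32668953)) (BT.leaf (nat_lit 49532693))) (BT.node (nat_lit 12389376) (BT.leaf (nat_lit 32669205)) (BT.leaf (nat_lit 37634065)))) (BT.node (nat_lit 12389568) (BT.node (nat_lit 12389504) (BT.leaf (nat_lit 32669461)) (BT.leaf (nat_lit 37634581))) (BT.node (nat_lit 12389632) (BT.leaf (nat_lit 32670217)) (BT.leaf (nat_lit 49560069)))))))) (BT.node (nat_lit 12392000) (BT.node (nat_lit 12390848) (BT.node (nat_lit 12390272) (BT.node (nat_lit 12389952) (BT.node (nat_lit 12389824) (BT.node (nat_lit 12389760) (BT.leaf (nat_lit 40781829)) (BT.leaf (nat_lit 32670985))) (BT.node (nat_lit 12389888) (BT.leaf (nat_lit 32670989)) (BT.leaf (nat_lit 32670993)))) (BT.node (nat_lit 12390144) (BT.node (nat_lit 12390016) (BT.leaf (nat_lit 32671001)) (BT.leaf (nat_lit 32671005))) (BT.node (nat_lit 12390208) (BT.leaf (nat_lit 32671513)) (BT.leaf (nat_lit 32671517))))) (BT.node (nat_lit 12390592) (BT.node (nat_lit 12390400) (BT.node (nat_lit 12390336) (BT.leaf (nat_lit 47015185)) (BT.leaf (nat_lit 51694353))) (BT.node (nat_lit 12390528) (BT.leaf (nat_lit 43396637)) (BT.leaf (nat_lit 49531405)))) (BT.node (nat_lit 12390720) (BT.node (nat_lit 12390656) (BT.leaf (nat_lit 37771285)) (BT.leaf (nat_lit 50934545))) (BT.node (nat_lit 12390784) (BT.leaf (nat_lit 50934541)) (BT.leaf (nat_lit 38402585)))))) (BT.node (nat_lit 12391424) (BT.node (nat_lit 12391104) (BT.node (nat_lit 12390976) (BT.node (nat_lit 12390912) (BT.leaf (nat_lit 47544837)) (BT.leaf (nat_lit 37845777))) (BT.node (nat_lit 12391040) (BT.leaf (nat_lit 46533401)) (BT.leaf (nat_lit 49564429)))) (BT.node (nat_lit 12391232) (BT.node (nat_lit 12391168) (BT.leaf (nat_lit 50777873)) (BT.leaf (nat_lit 50778657))) (BT.node (nat_lit 12391360) (BT.leaf (nat_lit 46321949)) (BT.leaf (nat_lit 32675605))))) (BT.node (nat_lit 12391680) (BT.node (nat_lit 12391552) (BT.node (nat_lit 12391488) (BT.leaf (nat_lit 32678161)) (BT.leaf (nat_lit 32678941))) (BT.node (nat_lit 12391616) (BT.leaf (nat_lit 32680461)) (BT.leaf (nat_lit 32680457)))) (BT.node (nat_lit 12391808) (BT.node (nat_lit 12391744) (BT.leaf (nat_lit 32680473)) (BT.leaf (nat_lit 32680477))) (BT.node (nat_lit 12391936) (BT.leaf (nat_lit 32680989)) (BT.leaf (nat_lit 32681989))))))) (BT.node (nat_lit 12393024) (BT.node (nat_lit 12392512) (BT.node (nat_lit 12392256) (BT.node (nat_lit 12392128) (BT.node (nat_lit 12392064) (BT.leaf (nat_lit 47537669)) (BT.leaf (nat_lit 32682529))) (BT.node (nat_lit 12392192) (BT.leaf (nat_lit 32682269)) (BT.leaf (nat_lit 32682769)))) (BT.node (nat_lit 12392384) (BT.node (nat_lit 12392320) (BT.leaf (nat_lit 32682773)) (BT.leaf (nat_lit 32684049))) (BT.node (nat_lit 12392448) (BT.leaf (nat_lit 47545861)) (BT.leaf (nat_lit 48577569))))) (BT.node (nat_lit 12392768) (BT.node (nat_lit 12392640) (BT.node (nat_lit 12392576) (BT.leaf (nat_lit 50653189)) (BT.leaf (nat_lit 48577561))) (BT.node (nat_lit 12392704) (BT.leaf (nat_lit 48577565)) (BT.leaf (nat_lit 34325789)))) (BT.node (nat_lit 12392896) (BT.node (nat_lit 12392832) (BT.leaf (nat_lit 50653201)) (BT.leaf (nat_lit 49043477))) (BT.node (nat_lit 12392960) (BT.leaf (nat_lit 46042657)) (BT.leaf (nat_lit 32686361)))))) (BT.node (nat_lit 12393600) (BT.node (nat_lit 12393344) (BT.node (nat_lit 12393152) (BT.node (nat_lit 12393088) (BT.leaf (nat_lit 32686365)) (BT.leaf (nat_lit 32686617))) (BT.node (nat_lit 12393216) (BT.leaf (nat_lit 32686621)) (BT.leaf (nat_lit 32687637)))) (BT.node (nat_lit 12393472) (BT.node (nat_lit 12393408) (BT.leaf (nat_lit 32688149)) (BT.leaf (nat_lit 32689173))) (BT.node (nat_lit 12393536) (BT.leaf (nat_lit 32689421)) (BT.leaf (nat_lit 32689425))))) (BT.node (nat_lit 12393856) (BT.node (nat_lit 12393728) (BT.node (nat_lit 12393664) (BT.leaf (nat_lit 32689441)) (BT.leaf (nat_lit 47627041))) (BT.node (nat_lit 12393792) (BT.leaf (nat_lit 34958597)) (BT.leaf (nat_lit 32691217)))) (BT.node (nat_lit 12394048) (BT.node (nat_lit 12393984) (BT.leaf (nat_lit 32691729)) (BT.leaf (nat_lit 42896153))) (BT.node (nat_lit 12394112) (BT.leaf (nat_lit 32693005)) (BT.leaf (nat_lit 32692497))))))))) (BT.node (nat_lit 12398528) (BT.node (nat_lit 12396416) (BT.node (nat_lit 12395392) (BT.node (nat_lit 12394752) (BT.node (nat_lit 12394560) (BT.node (nat_lit 12394432) (BT.node (nat_lit 12394368) (BT.leaf (nat_lit 49321481)) (BT.leaf (nat_lit 32693765))) (BT.node (nat_lit 12394496) (BT.leaf (nat_lit 32694281)) (BT.leaf (nat_lit 36428293)))) (BT.node (nat_lit 12394627) (BT.node (nat_lit 12394624) (BT.leaf (nat_lit 32694805)) (BT.leaf (nat_lit 48277537))) (BT.node (nat_lit 12394688) (BT.leaf (nat_lit 804696)) (BT.leaf (nat_lit 46521617))))) (BT.node (nat_lit 12395008) (BT.node (nat_lit 12394880) (BT.node (nat_lit 12394816) (BT.leaf (nat_lit 32696597)) (BT.leaf (nat_lit 32696605))) (BT.node (nat_lit 12394944) (BT.leaf (nat_lit 48686597)) (BT.leaf (nat_lit 32697105)))) (BT.node (nat_lit 12395136) (BT.node (nat_lit 12395072) (BT.leaf (nat_lit 49402649)) (BT.leaf (nat_lit 45231881))) (BT.node (nat_lit 12395200) (BT.leaf (nat_lit 32697365)) (BT.leaf (nat_lit 32697625)))))) (BT.node (nat_lit 12395904) (BT.node (nat_lit 12395648) (BT.node (nat_lit 12395520) (BT.node (nat_lit 12395456) (BT.leaf (nat_lit 36326429)) (BT.leaf (nat_lit 32699925))) (BT.node (nat_lit 12395584) (BT.leaf (nat_lit 36378901)) (BT.leaf (nat_lit 32700445)))) (BT.node (nat_lit 12395776) (BT.node (nat_lit 12395712) (BT.leaf (nat_lit 32701473)) (BT.leaf (nat_lit 32701969))) (BT.node (nat_lit 12395840) (BT.leaf (nat_lit 32702229)) (BT.leaf (nat_lit 40619285))))) (BT.node (nat_lit 12396160) (BT.node (nat_lit 12396032) (BT.node (nat_lit 12395968) (BT.leaf (nat_lit 32702737)) (BT.leaf (nat_lit 51205137))) (BT.node (nat_lit 12396096) (BT.leaf (nat_lit 32705305)) (BT.leaf (nat_lit 45511177)))) (BT.node (nat_lit 12396288) (BT.node (nat_lit 12396224) (BT.leaf (nat_lit 32705557)) (BT.leaf (nat_lit 35799573))) (BT.node (nat_lit 12396352) (BT.leaf (nat_lit 33949201)) (BT.leaf (nat_lit 41600773))))))) (BT.node (nat_lit 12397440) (BT.node (nat_lit 12396928) (BT.node (nat_lit 12396672) (BT.node (nat_lit 12396544) (BT.node (nat_lit 12396480) (BT.leaf (nat_lit 44018949)) (BT.leaf (nat_lit 32707609))) (BT.node (nat_lit 12396608) (BT.leaf (nat_lit 32708117)) (BT.leaf (nat_lit 48479237)))) (BT.node (nat_lit 12396800) (BT.node (nat_lit 12396736) (BT.leaf (nat_lit 35247377)) (BT.leaf (nat_lit 32709145))) (BT.node (nat_lit 12396864) (BT.leaf (nat_lit 32709149)) (BT.leaf (nat_lit 32709657))))) (BT.node (nat_lit 12397184) (BT.node (nat_lit 12397056) (BT.node (nat_lit 12396992) (BT.leaf (nat_lit 45882397)) (BT.leaf (nat_lit 38245893))) (BT.node (nat_lit 12397120) (BT.leaf (nat_lit 50569505)) (BT.leaf (nat_lit 32711193)))) (BT.node (nat_lit 12397312) (BT.node (nat_lit 12397248) (BT.leaf (nat_lit 32711197)) (BT.leaf (nat_lit 50501381))) (BT.node (nat_lit 12397376) (BT.leaf (nat_lit 32712977)) (BT.leaf (nat_lit 32712473)))))) (BT.node (nat_lit 12397952) (BT.node (nat_lit 12397696) (BT.node (nat_lit 12397568) (BT.node (nat_lit 12397504) (BT.leaf (nat_lit 35250453)) (BT.leaf (nat_lit 32712985))) (BT.node (nat_lit 12397632) (BT.leaf (nat_lit 32712993)) (BT.leaf (nat_lit 42684165)))) (BT.node (nat_lit 12397824) (BT.node (nat_lit 12397760) (BT.leaf (nat_lit 40228385)) (BT.leaf (nat_lit 51434265))) (BT.node (nat_lit 12397888) (BT.leaf (nat_lit 36446213)) (BT.leaf (nat_lit 43776545))))) (BT.node (nat_lit 12398208) (BT.node (nat_lit 12398080) (BT.node (nat_lit 12398016) (BT.leaf (nat_lit 43775777)) (BT.leaf (nat_lit 36771857))) (BT.node (nat_lit 12398088) (BT.leaf (nat_lit 51024393)) (BT.leaf (nat_lit 786172)))) (BT.node (nat_lit 12398400) (BT.node (nat_lit 12398336) (BT.leaf (nat_lit 34905885)) (BT.leaf (nat_lit 49682721))) (BT.node (nat_lit 12398464) (BT.leaf (nat_lit 44763677)) (BT.leaf (nat_lit 49930005)))))))) (BT.node (nat_lit 12401024) (BT.node (nat_lit 12399744) (BT.node (nat_lit 12399168) (BT.node (nat_lit 12398784) (BT.node (nat_lit 12398656) (BT.node (nat_lit 12398592) (BT.leaf (nat_lit 32719889)) (BT.leaf (nat_lit 35255061))) (BT.node (nat_lit 12398720) (BT.leaf (nat_lit 34871581)) (BT.leaf (nat_lit 32721169)))) (BT.node (nat_lit 12398912) (BT.node (nat_lit 12398848) (BT.leaf (nat_lit 49380617)) (BT.leaf (nat_lit 32721433))) (BT.node (nat_lit 12398976) (BT.leaf (nat_lit 38281761)) (BT.leaf (nat_lit 32722693))))) (BT.node (nat_lit 12399424) (BT.node (nat_lit 12399296) (BT.node (nat_lit 12399232) (BT.leaf (nat_lit 49596941)) (BT.leaf (nat_lit 45174557))) (BT.node (nat_lit 12399360) (BT.leaf (nat_lit 45174537)) (BT.leaf (nat_lit 32723745)))) (BT.node (nat_lit 12399552) (BT.node (nat_lit 12399488) (BT.leaf (nat_lit 32723989)) (BT.leaf (nat_lit 32724505))) (BT.node (nat_lit 12399680) (BT.leaf (nat_lit 32724509)) (BT.leaf (nat_lit 37828869)))))) (BT.node (nat_lit 12400448) (BT.node (nat_lit 12400064) (BT.node (nat_lit 12399872) (BT.node (nat_lit 12399808) (BT.leaf (nat_lit 32725785)) (BT.leaf (nat_lit 43502869))) (BT.node (nat_lit 12400000) (BT.leaf (nat_lit 32729109)) (BT.leaf (nat_lit 43606533)))) (BT.node (nat_lit 12400256) (BT.node (nat_lit 12400128) (BT.leaf (nat_lit 32730897)) (BT.leaf (nat_lit 32730389))) (BT.node (nat_lit 12400320) (BT.leaf (nat_lit 32730397)) (BT.leaf (nat_lit 32731157))))) (BT.node (nat_lit 12400768) (BT.node (nat_lit 12400576) (BT.node (nat_lit 12400512) (BT.leaf (nat_lit 32733209)) (BT.leaf (nat_lit 32733465))) (BT.node (nat_lit 12400704) (BT.leaf (nat_lit 43384085)) (BT.leaf (nat_lit 44003353)))) (BT.node (nat_lit 12400896) (BT.node (nat_lit 12400832) (BT.leaf (nat_lit 32736789)) (BT.leaf (nat_lit 32736277))) (BT.node (nat_lit 12400960) (BT.leaf (nat_lit 48130569)) (BT.leaf (nat_lit 49101601))))))) (BT.node (nat_lit 12402048) (BT.node (nat_lit 12401536) (BT.node (nat_lit 12401280) (BT.node (nat_lit 12401152) (BT.node (nat_lit 12401088) (BT.leaf (nat_lit 41006113)) (BT.leaf (nat_lit 41006341))) (BT.node (nat_lit 12401216) (BT.leaf (nat_lit 32736525)) (BT.leaf (nat_lit 47412229)))) (BT.node (nat_lit 12401408) (BT.node (nat_lit 12401344) (BT.leaf (nat_lit 32737045)) (BT.leaf (nat_lit 32737561))) (BT.node (nat_lit 12401472) (BT.leaf (nat_lit 32738077)) (BT.leaf (nat_lit 33153309))))) (BT.node (nat_lit 12401792) (BT.node (nat_lit 12401664) (BT.node (nat_lit 12401600) (BT.leaf (nat_lit 49606413)) (BT.leaf (nat_lit 47830289))) (BT.node (nat_lit 12401728) (BT.leaf (nat_lit 48592389)) (BT.leaf (nat_lit 41717513)))) (BT.node (nat_lit 12401920) (BT.node (nat_lit 12401856) (BT.leaf (nat_lit 39809301)) (BT.leaf (nat_lit 32741641))) (BT.node (nat_lit 12401984) (BT.leaf (nat_lit 41878801)) (BT.leaf (nat_lit 34348317)))))) (BT.node (nat_lit 12402624) (BT.node (nat_lit 12402304) (BT.node (nat_lit 12402176) (BT.node (nat_lit 12402112) (BT.leaf (nat_lit 49007897)) (BT.leaf (nat_lit 35266309))) (BT.node (nat_lit 12402240) (BT.leaf (nat_lit 35134241)) (BT.leaf (nat_lit 34680349)))) (BT.node (nat_lit 12402496) (BT.node (nat_lit 12402432) (BT.leaf (nat_lit 32743965)) (BT.leaf (nat_lit 50601749))) (BT.node (nat_lit 12402560) (BT.leaf (nat_lit 49424917)) (BT.leaf (nat_lit 32746009))))) (BT.node (nat_lit 12403008) (BT.node (nat_lit 12402880) (BT.node (nat_lit 12402688) (BT.leaf (nat_lit 47421209)) (BT.leaf (nat_lit 38350873))) (BT.node (nat_lit 12402944) (BT.leaf (nat_lit 49099029)) (BT.leaf (nat_lit 50836501)))) (BT.node (nat_lit 12403136) (BT.node (nat_lit 12403072) (BT.leaf (nat_lit 44482593)) (BT.leaf (nat_lit 35131661))) (BT.node (nat_lit 12403200) (BT.leaf (nat_lit 32748057)) (BT.leaf (nat_lit 37353233))))))))))) (BT.node (nat_lit 12419904) (BT.node (nat_lit 12411714) (BT.node (nat_lit 12407424) (BT.node (nat_lit 12405312) (BT.node (nat_lit 12404288) (BT.node (nat_lit 12403776) (BT.node (nat_lit 12403520) (BT.node (nat_lit 12403328) (BT.node (nat_lit 12403264) (BT.leaf (nat_lit 817368)) (BT.leaf (nat_lit 32749573))) (BT.node (nat_lit 12403456) (BT.leaf (nat_lit 42093345)) (BT.leaf (nat_lit 32751637)))) (BT.node (nat_lit 12403648) (BT.node (nat_lit 12403584) (BT.leaf (nat_lit 41860881)) (BT.leaf (nat_lit 32751901))) (BT.node (nat_lit 12403712) (BT.leaf (nat_lit 41860897)) (BT.leaf (nat_lit 32752153))))) (BT.node (nat_lit 12404032) (BT.node (nat_lit 12403904) (BT.node (nat_lit 12403840) (BT.leaf (nat_lit 32752157)) (BT.leaf (nat_lit 35270929))) (BT.node (nat_lit 12403968) (BT.leaf (nat_lit 35270673)) (BT.leaf (nat_lit 32752413)))) (BT.node (nat_lit 12404160) (BT.node (nat_lit 12404096) (BT.leaf (nat_lit 32752657)) (BT.leaf (nat_lit 32752661))) (BT.node (nat_lit 12404224) (BT.leaf (nat_lit 32754449)) (BT.leaf (nat_lit 49460257)))))) (BT.node (nat_lit 12404800) (BT.node (nat_lit 12404544) (BT.node (nat_lit 12404416) (BT.node (nat_lit 12404352) (BT.leaf (nat_lit 32755729)) (BT.leaf (nat_lit 32755993))) (BT.node (nat_lit 12404480) (BT.leaf (nat_lit 32756233)) (BT.leaf (nat_lit 48639493)))) (BT.node (nat_lit 12404672) (BT.node (nat_lit 12404608) (BT.leaf (nat_lit 32757269)) (BT.leaf (nat_lit 39963149))) (BT.node (nat_lit 12404736) (BT.leaf (nat_lit 39963161)) (BT.leaf (nat_lit 39963165))))) (BT.node (nat_lit 12405056) (BT.node (nat_lit 12404928) (BT.node (nat_lit 12404864) (BT.leaf (nat_lit 32781597)) (BT.leaf (nat_lit 32759065))) (BT.node (nat_lit 12404992) (BT.leaf (nat_lit 32759825)) (BT.leaf (nat_lit 49620253)))) (BT.node (nat_lit 12405184) (BT.node (nat_lit 12405120) (BT.leaf (nat_lit 45990421)) (BT.leaf (nat_lit 33644561))) (BT.node (nat_lit 12405248) (BT.leaf (nat_lit 39207713)) (BT.leaf (nat_lit 32761625))))))) (BT.node (nat_lit 12406336) (BT.node (nat_lit 12405824) (BT.node (nat_lit 12405568) (BT.node (nat_lit 12405440) (BT.node (nat_lit 12405376) (BT.leaf (nat_lit 32761629)) (BT.leaf (nat_lit 32761877))) (BT.node (nat_lit 12405504) (BT.leaf (nat_lit 32762385)) (BT.leaf (nat_lit 32762897)))) (BT.node (nat_lit 12405696) (BT.node (nat_lit 12405632) (BT.leaf (nat_lit 32765445)) (BT.leaf (nat_lit 34756637))) (BT.node (nat_lit 12405760) (BT.leaf (nat_lit 36335377)) (BT.leaf (nat_lit 32765969))))) (BT.node (nat_lit 12406080) (BT.node (nat_lit 12405952) (BT.node (nat_lit 12405888) (BT.leaf (nat_lit 32766237)) (BT.leaf (nat_lit 32766737))) (BT.node (nat_lit 12406016) (BT.leaf (nat_lit 36854561)) (BT.leaf (nat_lit 32767769)))) (BT.node (nat_lit 12406208) (BT.node (nat_lit 12406144) (BT.leaf (nat_lit 32768025)) (BT.leaf (nat_lit 36885529))) (BT.node (nat_lit 12406272) (BT.leaf (nat_lit 48642821)) (BT.leaf (nat_lit 32768785)))))) (BT.node (nat_lit 12406848) (BT.node (nat_lit 12406592) (BT.node (nat_lit 12406464) (BT.node (nat_lit 12406400) (BT.leaf (nat_lit 49522185)) (BT.leaf (nat_lit 49522205))) (BT.node (nat_lit 12406528) (BT.leaf (nat_lit 32769817)) (BT.leaf (nat_lit 32769821)))) (BT.node (nat_lit 12406720) (BT.node (nat_lit 12406656) (BT.leaf (nat_lit 44725509)) (BT.leaf (nat_lit 41301253))) (BT.node (nat_lit 12406784) (BT.leaf (nat_lit 32770833)) (BT.leaf (nat_lit 32771089))))) (BT.node (nat_lit 12407168) (BT.node (nat_lit 12406976) (BT.node (nat_lit 12406912) (BT.leaf (nat_lit 32771093)) (BT.leaf (nat_lit 32771345))) (BT.node (nat_lit 12407040) (BT.leaf (nat_lit 32771857)) (BT.leaf (nat_lit 32772113)))) (BT.node (nat_lit 12407296) (BT.node (nat_lit 12407232) (BT.leaf (nat_lit 32772381)) (BT.leaf (nat_lit 35282205))) (BT.node (nat_lit 12407360) (BT.leaf (nat_lit 37147409)) (BT.leaf (nat_lit 39650845)))))))) (BT.node (nat_lit 12409536) (BT.node (nat_lit 12408576) (BT.node (nat_lit 12408064) (BT.node (nat_lit 12407680) (BT.node (nat_lit 12407552) (BT.node (nat_lit 12407488) (BT.leaf (nat_lit 32773649)) (BT.leaf (nat_lit 32773905))) (BT.node (nat_lit 12407616) (BT.leaf (nat_lit 32774417)) (BT.leaf (nat_lit 32775185)))) (BT.node (nat_lit 12407936) (BT.node (nat_lit 12407744) (BT.leaf (nat_lit 32775201)) (BT.leaf (nat_lit 32775689))) (BT.node (nat_lit 12408000) (BT.leaf (nat_lit 32777245)) (BT.leaf (nat_lit 32778257))))) (BT.node (nat_lit 12408320) (BT.node (nat_lit 12408192) (BT.node (nat_lit 12408128) (BT.leaf (nat_lit 48972305)) (BT.leaf (nat_lit 32779553))) (BT.node (nat_lit 12408256) (BT.leaf (nat_lit 32779289)) (BT.leaf (nat_lit 32779545)))) (BT.node (nat_lit 12408448) (BT.node (nat_lit 12408384) (BT.leaf (nat_lit 32779549)) (BT.leaf (nat_lit 43508253))) (BT.node (nat_lit 12408512) (BT.leaf (nat_lit 32780565)) (BT.leaf (nat_lit 35273237)))))) (BT.node (nat_lit 12409088) (BT.node (nat_lit 12408832) (BT.node (nat_lit 12408704) (BT.node (nat_lit 12408640) (BT.leaf (nat_lit 32780833)) (BT.leaf (nat_lit 35286801))) (BT.node (nat_lit 12408768) (BT.leaf (nat_lit 32782105)) (BT.leaf (nat_lit 32782613)))) (BT.node (nat_lit 12408960) (BT.node (nat_lit 12408896) (BT.leaf (nat_lit 32783637)) (BT.leaf (nat_lit 32783893))) (BT.node (nat_lit 12409024) (BT.leaf (nat_lit 49651221)) (BT.leaf (nat_lit 32784905))))) (BT.node (nat_lit 12409344) (BT.node (nat_lit 12409216) (BT.node (nat_lit 12409152) (BT.leaf (nat_lit 32784909)) (BT.leaf (nat_lit 32784925))) (BT.node (nat_lit 12409280) (BT.leaf (nat_lit 49523725)) (BT.leaf (nat_lit 35290633)))) (BT.node (nat_lit 12409410) (BT.node (nat_lit 12409408) (BT.leaf (nat_lit 35290637)) (BT.leaf (nat_lit 32789269))) (BT.node (nat_lit 12409472) (BT.leaf (nat_lit 797972)) (BT.leaf (nat_lit 35290649))))))) (BT.node (nat_lit 12410688) (BT.node (nat_lit 12410048) (BT.node (nat_lit 12409792) (BT.node (nat_lit 12409664) (BT.node (nat_lit 12409600) (BT.leaf (nat_lit 35290373)) (BT.leaf (nat_lit 32786197))) (BT.node (nat_lit 12409728) (BT.leaf (nat_lit 32787721)) (BT.leaf (nat_lit 32787725)))) (BT.node (nat_lit 12409920) (BT.node (nat_lit 12409856) (BT.leaf (nat_lit 32786969)) (BT.leaf (nat_lit 32786973))) (BT.node (nat_lit 12409984) (BT.leaf (nat_lit 50810901)) (BT.leaf (nat_lit 38759189))))) (BT.node (nat_lit 12410304) (BT.node (nat_lit 12410176) (BT.node (nat_lit 12410112) (BT.leaf (nat_lit 35213321)) (BT.leaf (nat_lit 32787737))) (BT.node (nat_lit 12410240) (BT.leaf (nat_lit 49031957)) (BT.leaf (nat_lit 32788505)))) (BT.node (nat_lit 12410560) (BT.node (nat_lit 12410432) (BT.leaf (nat_lit 32788509)) (BT.leaf (nat_lit 48352801))) (BT.node (nat_lit 12410624) (BT.leaf (nat_lit 44794913)) (BT.leaf (nat_lit 34575133)))))) (BT.node (nat_lit 12411200) (BT.node (nat_lit 12410944) (BT.node (nat_lit 12410816) (BT.node (nat_lit 12410752) (BT.leaf (nat_lit 32790789)) (BT.leaf (nat_lit 51035409))) (BT.node (nat_lit 12410880) (BT.leaf (nat_lit 32791573)) (BT.leaf (nat_lit 51963405)))) (BT.node (nat_lit 12411072) (BT.node (nat_lit 12411008) (BT.leaf (nat_lit 32792585)) (BT.leaf (nat_lit 32792601))) (BT.node (nat_lit 12411136) (BT.leaf (nat_lit 32792605)) (BT.leaf (nat_lit 32794645))))) (BT.node (nat_lit 12411520) (BT.node (nat_lit 12411328) (BT.node (nat_lit 12411264) (BT.leaf (nat_lit 34830877)) (BT.leaf (nat_lit 47129369))) (BT.node (nat_lit 12411456) (BT.leaf (nat_lit 40343321)) (BT.leaf (nat_lit 32793621)))) (BT.node (nat_lit 12411648) (BT.node (nat_lit 12411584) (BT.leaf (nat_lit 32793873)) (BT.leaf (nat_lit 47509273))) (BT.node (nat_lit 12411712) (BT.leaf (nat_lit 32794133)) (BT.leaf (nat_lit 32794137))))))))) (BT.node (nat_lit 12415680) (BT.node (nat_lit 12413504) (BT.node (nat_lit 12412672) (BT.node (nat_lit 12412096) (BT.node (nat_lit 12411840) (BT.node (nat_lit 12411716) (BT.node (nat_lit 12411715) (BT.leaf (nat_lit 779260)) (BT.leaf (nat_lit 779260))) (BT.node (nat_lit 12411776) (BT.leaf (nat_lit 779260)) (BT.leaf (nat_lit 35292185)))) (BT.node (nat_lit 12411968) (BT.node (nat_lit 12411904) (BT.leaf (nat_lit 49535501)) (BT.leaf (nat_lit 47129377))) (BT.node (nat_lit 12412032) (BT.leaf (nat_lit 32795145)) (BT.leaf (nat_lit 32795165))))) (BT.node (nat_lit 12412416) (BT.node (nat_lit 12412224) (BT.node (nat_lit 12412160) (BT.leaf (nat_lit 49370129)) (BT.leaf (nat_lit 32795929))) (BT.node (nat_lit 12412288) (BT.leaf (nat_lit 32795933)) (BT.leaf (nat_lit 51696145)))) (BT.node (nat_lit 12412544) (BT.node (nat_lit 12412480) (BT.leaf (nat_lit 49558817)) (BT.leaf (nat_lit 49650453))) (BT.node (nat_lit 12412608) (BT.leaf (nat_lit 48377105)) (BT.leaf (nat_lit 47326241)))))) (BT.node (nat_lit 12412992) (BT.node (nat_lit 12412864) (BT.node (nat_lit 12412800) (BT.node (nat_lit 12412736) (BT.leaf (nat_lit 43632653)) (BT.leaf (nat_lit 32798473))) (BT.node (nat_lit 12412808) (BT.leaf (nat_lit 32799513)) (BT.leaf (nat_lit 784880)))) (BT.node (nat_lit 12412872) (BT.node (nat_lit 12412865) (BT.leaf (nat_lit 32799517)) (BT.leaf (nat_lit 784884))) (BT.node (nat_lit 12412928) (BT.leaf (nat_lit 784884)) (BT.leaf (nat_lit 49619737))))) (BT.node (nat_lit 12413248) (BT.node (nat_lit 12413120) (BT.node (nat_lit 12413056) (BT.leaf (nat_lit 32800021)) (BT.leaf (nat_lit 49619989))) (BT.node (nat_lit 12413184) (BT.leaf (nat_lit 32801297)) (BT.leaf (nat_lit 49620237)))) (BT.node (nat_lit 12413376) (BT.node (nat_lit 12413312) (BT.leaf (nat_lit 32801569)) (BT.leaf (nat_lit 34807061))) (BT.node (nat_lit 12413440) (BT.leaf (nat_lit 32803617)) (BT.leaf (nat_lit 36211745))))))) (BT.node (nat_lit 12414592) (BT.node (nat_lit 12414016) (BT.node (nat_lit 12413760) (BT.node (nat_lit 12413632) (BT.node (nat_lit 12413568) (BT.leaf (nat_lit 49039893)) (BT.leaf (nat_lit 32805393))) (BT.node (nat_lit 12413696) (BT.leaf (nat_lit 32805645)) (BT.leaf (nat_lit 32805649)))) (BT.node (nat_lit 12413888) (BT.node (nat_lit 12413824) (BT.leaf (nat_lit 32805657)) (BT.leaf (nat_lit 32805913))) (BT.node (nat_lit 12413952) (BT.leaf (nat_lit 32805917)) (BT.leaf (nat_lit 32806157))))) (BT.node (nat_lit 12414272) (BT.node (nat_lit 12414144) (BT.node (nat_lit 12414080) (BT.leaf (nat_lit 34845957)) (BT.leaf (nat_lit 36410897))) (BT.node (nat_lit 12414208) (BT.leaf (nat_lit 32807961)) (BT.leaf (nat_lit 49761817)))) (BT.node (nat_lit 12414464) (BT.node (nat_lit 12414400) (BT.leaf (nat_lit 32808977)) (BT.leaf (nat_lit 32811289))) (BT.node (nat_lit 12414528) (BT.leaf (nat_lit 32811293)) (BT.leaf (nat_lit 49856005)))))) (BT.node (nat_lit 12415168) (BT.node (nat_lit 12414912) (BT.node (nat_lit 12414784) (BT.node (nat_lit 12414656) (BT.leaf (nat_lit 35718929)) (BT.leaf (nat_lit 35718933))) (BT.node (nat_lit 12414848) (BT.leaf (nat_lit 32813329)) (BT.leaf (nat_lit 49426713)))) (BT.node (nat_lit 12415040) (BT.node (nat_lit 12414976) (BT.leaf (nat_lit 32814613)) (BT.leaf (nat_lit 32814617))) (BT.node (nat_lit 12415104) (BT.leaf (nat_lit 32814621)) (BT.leaf (nat_lit 34106129))))) (BT.node (nat_lit 12415424) (BT.node (nat_lit 12415296) (BT.node (nat_lit 12415232) (BT.leaf (nat_lit 39812625)) (BT.leaf (nat_lit 44932629))) (BT.node (nat_lit 12415360) (BT.leaf (nat_lit 38497285)) (BT.leaf (nat_lit 48406789)))) (BT.node (nat_lit 12415552) (BT.node (nat_lit 12415488) (BT.leaf (nat_lit 35299605)) (BT.leaf (nat_lit 32820509))) (BT.node (nat_lit 12415616) (BT.leaf (nat_lit 32821001)) (BT.leaf (nat_lit 49614613)))))))) (BT.node (nat_lit 12417856) (BT.node (nat_lit 12416768) (BT.node (nat_lit 12416256) (BT.node (nat_lit 12415936) (BT.node (nat_lit 12415808) (BT.node (nat_lit 12415744) (BT.leaf (nat_lit 49348109)) (BT.leaf (nat_lit 32821769))) (BT.node (nat_lit 12415872) (BT.leaf (nat_lit 32821793)) (BT.leaf (nat_lit 35300101)))) (BT.node (nat_lit 12416128) (BT.node (nat_lit 12416064) (BT.leaf (nat_lit 44355353)) (BT.leaf (nat_lit 37793553))) (BT.node (nat_lit 12416192) (BT.leaf (nat_lit 32822805)) (BT.leaf (nat_lit 33703453))))) (BT.node (nat_lit 12416512) (BT.node (nat_lit 12416384) (BT.node (nat_lit 12416320) (BT.leaf (nat_lit 32824093)) (BT.leaf (nat_lit 32824837))) (BT.node (nat_lit 12416448) (BT.leaf (nat_lit 37604117)) (BT.leaf (nat_lit 49383961)))) (BT.node (nat_lit 12416640) (BT.node (nat_lit 12416576) (BT.leaf (nat_lit 32826649)) (BT.leaf (nat_lit 32826889))) (BT.node (nat_lit 12416704) (BT.leaf (nat_lit 38244129)) (BT.leaf (nat_lit 32827157)))))) (BT.node (nat_lit 12417344) (BT.node (nat_lit 12417088) (BT.node (nat_lit 12416960) (BT.node (nat_lit 12416896) (BT.leaf (nat_lit 32828169)) (BT.leaf (nat_lit 32828173))) (BT.node (nat_lit 12417024) (BT.leaf (nat_lit 32827669)) (BT.leaf (nat_lit 32828189)))) (BT.node (nat_lit 12417216) (BT.node (nat_lit 12417152) (BT.leaf (nat_lit 32828185)) (BT.leaf (nat_lit 35304465))) (BT.node (nat_lit 12417280) (BT.leaf (nat_lit 32830477)) (BT.leaf (nat_lit 32831001))))) (BT.node (nat_lit 12417600) (BT.node (nat_lit 12417472) (BT.node (nat_lit 12417408) (BT.leaf (nat_lit 47318305)) (BT.leaf (nat_lit 32831761))) (BT.node (nat_lit 12417536) (BT.leaf (nat_lit 40330517)) (BT.leaf (nat_lit 40206853)))) (BT.node (nat_lit 12417728) (BT.node (nat_lit 12417664) (BT.leaf (nat_lit 46305557)) (BT.leaf (nat_lit 32832797))) (BT.node (nat_lit 12417792) (BT.leaf (nat_lit 49387033)) (BT.leaf (nat_lit 40206881))))))) (BT.node (nat_lit 12418880) (BT.node (nat_lit 12418368) (BT.node (nat_lit 12418112) (BT.node (nat_lit 12417984) (BT.node (nat_lit 12417920) (BT.leaf (nat_lit 32834821)) (BT.leaf (nat_lit 42073373))) (BT.node (nat_lit 12418048) (BT.leaf (nat_lit 38021409)) (BT.leaf (nat_lit 32837397)))) (BT.node (nat_lit 12418240) (BT.node (nat_lit 12418176) (BT.leaf (nat_lit 51005205)) (BT.leaf (nat_lit 42610205))) (BT.node (nat_lit 12418304) (BT.leaf (nat_lit 32839441)) (BT.leaf (nat_lit 32840461))))) (BT.node (nat_lit 12418624) (BT.node (nat_lit 12418496) (BT.node (nat_lit 12418432) (BT.leaf (nat_lit 49466381)) (BT.leaf (nat_lit 32840725))) (BT.node (nat_lit 12418560) (BT.leaf (nat_lit 41524505)) (BT.leaf (nat_lit 39920929)))) (BT.node (nat_lit 12418752) (BT.node (nat_lit 12418688) (BT.leaf (nat_lit 46745633)) (BT.leaf (nat_lit 32844057))) (BT.node (nat_lit 12418816) (BT.leaf (nat_lit 48079381)) (BT.leaf (nat_lit 39921157)))))) (BT.node (nat_lit 12419392) (BT.node (nat_lit 12419136) (BT.node (nat_lit 12419008) (BT.node (nat_lit 12418944) (BT.leaf (nat_lit 32845081)) (BT.leaf (nat_lit 32845085))) (BT.node (nat_lit 12419072) (BT.leaf (nat_lit 32845585)) (BT.leaf (nat_lit 49447453)))) (BT.node (nat_lit 12419264) (BT.node (nat_lit 12419200) (BT.leaf (nat_lit 32846345)) (BT.leaf (nat_lit 32847109))) (BT.node (nat_lit 12419328) (BT.leaf (nat_lit 43496469)) (BT.leaf (nat_lit 32847889))))) (BT.node (nat_lit 12419648) (BT.node (nat_lit 12419520) (BT.node (nat_lit 12419456) (BT.leaf (nat_lit 32849937)) (BT.leaf (nat_lit 50640657))) (BT.node (nat_lit 12419584) (BT.leaf (nat_lit 32849693)) (BT.leaf (nat_lit 32850197)))) (BT.node (nat_lit 12419776) (BT.node (nat_lit 12419712) (BT.leaf (nat_lit 32850205)) (BT.leaf (nat_lit 41480993))) (BT.node (nat_lit 12419840) (BT.leaf (nat_lit 37109265)) (BT.leaf (nat_lit 32854033)))))))))) (BT.node (nat_lit 12428608) (BT.node (nat_lit 12424064) (BT.node (nat_lit 12422016) (BT.node (nat_lit 12420928) (BT.node (nat_lit 12420352) (BT.node (nat_lit 12420096) (BT.node (nat_lit 12419968) (BT.node (nat_lit 12419906) (BT.leaf (nat_lit 32854037)) (BT.leaf (nat_lit 776348))) (BT.node (nat_lit 12420032) (BT.leaf (nat_lit 32854297)) (BT.leaf (nat_lit 39523093)))) (BT.node (nat_lit 12420224) (BT.node (nat_lit 12420160) (BT.leaf (nat_lit 45902101)) (BT.leaf (nat_lit 32856349))) (BT.node (nat_lit 12420288) (BT.leaf (nat_lit 32856345)) (BT.leaf (nat_lit 32856605))))) (BT.node (nat_lit 12420608) (BT.node (nat_lit 12420480) (BT.node (nat_lit 12420416) (BT.leaf (nat_lit 35315473)) (BT.leaf (nat_lit 32856853))) (BT.node (nat_lit 12420544) (BT.leaf (nat_lit 32856861)) (BT.leaf (nat_lit 34380573)))) (BT.node (nat_lit 12420736) (BT.node (nat_lit 12420672) (BT.leaf (nat_lit 32857105)) (BT.leaf (nat_lit 32857877))) (BT.node (nat_lit 12420864) (BT.leaf (nat_lit 32858641)) (BT.leaf (nat_lit 32862469)))))) (BT.node (nat_lit 12421440) (BT.node (nat_lit 12421184) (BT.node (nat_lit 12421056) (BT.node (nat_lit 12420992) (BT.leaf (nat_lit 32859153)) (BT.leaf (nat_lit 32859165))) (BT.node (nat_lit 12421120) (BT.leaf (nat_lit 32860177)) (BT.leaf (nat_lit 49495829)))) (BT.node (nat_lit 12421312) (BT.node (nat_lit 12421248) (BT.leaf (nat_lit 49351709)) (BT.leaf (nat_lit 49351449))) (BT.node (nat_lit 12421376) (BT.leaf (nat_lit 47661085)) (BT.leaf (nat_lit 32861449))))) (BT.node (nat_lit 12421696) (BT.node (nat_lit 12421568) (BT.node (nat_lit 12421504) (BT.leaf (nat_lit 40871957)) (BT.leaf (nat_lit 40577057))) (BT.node (nat_lit 12421632) (BT.leaf (nat_lit 49686557)) (BT.leaf (nat_lit 32862473)))) (BT.node (nat_lit 12421824) (BT.node (nat_lit 12421760) (BT.leaf (nat_lit 32862213)) (BT.leaf (nat_lit 47662881))) (BT.node (nat_lit 12421888) (BT.leaf (nat_lit 32862741)) (BT.leaf (nat_lit 32862997))))))) (BT.node (nat_lit 12423040) (BT.node (nat_lit 12422528) (BT.node (nat_lit 12422272) (BT.node (nat_lit 12422144) (BT.node (nat_lit 12422080) (BT.leaf (nat_lit 37959445)) (BT.leaf (nat_lit 43873313))) (BT.node (nat_lit 12422208) (BT.leaf (nat_lit 40539937)) (BT.leaf (nat_lit 35318289)))) (BT.node (nat_lit 12422400) (BT.node (nat_lit 12422336) (BT.leaf (nat_lit 32865561)) (BT.leaf (nat_lit 32865565))) (BT.node (nat_lit 12422464) (BT.leaf (nat_lit 32865817)) (BT.leaf (nat_lit 32865821))))) (BT.node (nat_lit 12422784) (BT.node (nat_lit 12422656) (BT.node (nat_lit 12422592) (BT.leaf (nat_lit 32866053)) (BT.leaf (nat_lit 40539401))) (BT.node (nat_lit 12422720) (BT.leaf (nat_lit 35997201)) (BT.leaf (nat_lit 32866333)))) (BT.node (nat_lit 12422912) (BT.node (nat_lit 12422848) (BT.leaf (nat_lit 32866585)) (BT.leaf (nat_lit 45035533))) (BT.node (nat_lit 12422976) (BT.leaf (nat_lit 41693445)) (BT.leaf (nat_lit 49691657)))))) (BT.node (nat_lit 12423552) (BT.node (nat_lit 12423296) (BT.node (nat_lit 12423168) (BT.node (nat_lit 12423104) (BT.leaf (nat_lit 45034525)) (BT.leaf (nat_lit 46176025))) (BT.node (nat_lit 12423232) (BT.leaf (nat_lit 44506133)) (BT.leaf (nat_lit 49692681)))) (BT.node (nat_lit 12423424) (BT.node (nat_lit 12423360) (BT.leaf (nat_lit 32867865)) (BT.leaf (nat_lit 49493021))) (BT.node (nat_lit 12423488) (BT.leaf (nat_lit 35382045)) (BT.leaf (nat_lit 50108689))))) (BT.node (nat_lit 12423808) (BT.node (nat_lit 12423680) (BT.node (nat_lit 12423616) (BT.leaf (nat_lit 39404053)) (BT.leaf (nat_lit 49694749))) (BT.node (nat_lit 12423744) (BT.leaf (nat_lit 45332237)) (BT.leaf (nat_lit 41505057)))) (BT.node (nat_lit 12423936) (BT.node (nat_lit 12423872) (BT.leaf (nat_lit 32870921)) (BT.leaf (nat_lit 32870937))) (BT.node (nat_lit 12424000) (BT.leaf (nat_lit 49757209)) (BT.leaf (nat_lit 49759245)))))))) (BT.node (nat_lit 12426432) (BT.node (nat_lit 12425216) (BT.node (nat_lit 12424640) (BT.node (nat_lit 12424384) (BT.node (nat_lit 12424192) (BT.node (nat_lit 12424128) (BT.leaf (nat_lit 51044357)) (BT.leaf (nat_lit 32872213))) (BT.node (nat_lit 12424256) (BT.leaf (nat_lit 32872465)) (BT.leaf (nat_lit 49403909)))) (BT.node (nat_lit 12424512) (BT.node (nat_lit 12424448) (BT.leaf (nat_lit 32873505)) (BT.leaf (nat_lit 35323669))) (BT.node (nat_lit 12424576) (BT.leaf (nat_lit 32873245)) (BT.leaf (nat_lit 45862433))))) (BT.node (nat_lit 12424960) (BT.node (nat_lit 12424768) (BT.node (nat_lit 12424704) (BT.leaf (nat_lit 32874009)) (BT.leaf (nat_lit 32874013))) (BT.node (nat_lit 12424832) (BT.leaf (nat_lit 35239449)) (BT.leaf (nat_lit 48217865)))) (BT.node (nat_lit 12425088) (BT.node (nat_lit 12425024) (BT.leaf (nat_lit 32875529)) (BT.leaf (nat_lit 46850321))) (BT.node (nat_lit 12425152) (BT.leaf (nat_lit 46850337)) (BT.leaf (nat_lit 32875805)))))) (BT.node (nat_lit 12425792) (BT.node (nat_lit 12425472) (BT.node (nat_lit 12425344) (BT.node (nat_lit 12425280) (BT.leaf (nat_lit 49458449)) (BT.leaf (nat_lit 32876553))) (BT.node (nat_lit 12425408) (BT.leaf (nat_lit 32876557)) (BT.leaf (nat_lit 32876573)))) (BT.node (nat_lit 12425600) (BT.node (nat_lit 12425536) (BT.leaf (nat_lit 35326485)) (BT.leaf (nat_lit 32877077))) (BT.node (nat_lit 12425728) (BT.leaf (nat_lit 32877593)) (BT.leaf (nat_lit 32878349))))) (BT.node (nat_lit 12426048) (BT.node (nat_lit 12425920) (BT.node (nat_lit 12425856) (BT.leaf (nat_lit 32878341)) (BT.leaf (nat_lit 35327761))) (BT.node (nat_lit 12425984) (BT.leaf (nat_lit 32878361)) (BT.leaf (nat_lit 32878365)))) (BT.node (nat_lit 12426240) (BT.node (nat_lit 12426112) (BT.leaf (nat_lit 51920401)) (BT.leaf (nat_lit 47066633))) (BT.node (nat_lit 12426368) (BT.leaf (nat_lit 32879893)) (BT.leaf (nat_lit 32880409))))))) (BT.node (nat_lit 12427456) (BT.node (nat_lit 12426944) (BT.node (nat_lit 12426688) (BT.node (nat_lit 12426560) (BT.node (nat_lit 12426496) (BT.leaf (nat_lit 32880413)) (BT.leaf (nat_lit 32880661))) (BT.node (nat_lit 12426624) (BT.leaf (nat_lit 32881161)) (BT.leaf (nat_lit 32881165)))) (BT.node (nat_lit 12426816) (BT.node (nat_lit 12426752) (BT.leaf (nat_lit 50779673)) (BT.leaf (nat_lit 32881429))) (BT.node (nat_lit 12426880) (BT.leaf (nat_lit 41498377)) (BT.leaf (nat_lit 45644321))))) (BT.node (nat_lit 12427264) (BT.node (nat_lit 12427072) (BT.node (nat_lit 12427008) (BT.leaf (nat_lit 32882705)) (BT.leaf (nat_lit 49456389))) (BT.node (nat_lit 12427200) (BT.leaf (nat_lit 34514965)) (BT.leaf (nat_lit 50995973)))) (BT.node (nat_lit 12427331) (BT.node (nat_lit 12427328) (BT.leaf (nat_lit 49709337)) (BT.leaf (nat_lit 35016465))) (BT.node (nat_lit 12427392) (BT.leaf (nat_lit 795504)) (BT.leaf (nat_lit 32886801)))))) (BT.node (nat_lit 12428032) (BT.node (nat_lit 12427712) (BT.node (nat_lit 12427584) (BT.node (nat_lit 12427520) (BT.leaf (nat_lit 44172309)) (BT.leaf (nat_lit 32890901))) (BT.node (nat_lit 12427648) (BT.leaf (nat_lit 32890909)) (BT.leaf (nat_lit 32891925)))) (BT.node (nat_lit 12427904) (BT.node (nat_lit 12427840) (BT.leaf (nat_lit 49448473)) (BT.leaf (nat_lit 49214233))) (BT.node (nat_lit 12427968) (BT.leaf (nat_lit 32893457)) (BT.leaf (nat_lit 32893717))))) (BT.node (nat_lit 12428288) (BT.node (nat_lit 12428160) (BT.node (nat_lit 12428096) (BT.leaf (nat_lit 45105429)) (BT.leaf (nat_lit 51336469))) (BT.node (nat_lit 12428224) (BT.leaf (nat_lit 32893969)) (BT.leaf (nat_lit 50838809)))) (BT.node (nat_lit 12428480) (BT.node (nat_lit 12428352) (BT.leaf (nat_lit 35339029)) (BT.leaf (nat_lit 47402785))) (BT.node (nat_lit 12428544) (BT.leaf (nat_lit 47819781)) (BT.leaf (nat_lit 47820037))))))))) (BT.node (nat_lit 12433216) (BT.node (nat_lit 12430720) (BT.node (nat_lit 12429696) (BT.node (nat_lit 12429120) (BT.node (nat_lit 12428864) (BT.node (nat_lit 12428736) (BT.node (nat_lit 12428672) (BT.leaf (nat_lit 43498505)) (BT.leaf (nat_lit 43498509))) (BT.node (nat_lit 12428800) (BT.leaf (nat_lit 32899353)) (BT.leaf (nat_lit 32899357)))) (BT.node (nat_lit 12428992) (BT.node (nat_lit 12428928) (BT.leaf (nat_lit 37976345)) (BT.leaf (nat_lit 32899601))) (BT.node (nat_lit 12429056) (BT.leaf (nat_lit 32899857)) (BT.leaf (nat_lit 32900633))))) (BT.node (nat_lit 12429376) (BT.node (nat_lit 12429248) (BT.node (nat_lit 12429184) (BT.leaf (nat_lit 32901141)) (BT.leaf (nat_lit 32901909))) (BT.node (nat_lit 12429312) (BT.leaf (nat_lit 32901913)) (BT.leaf (nat_lit 41621769)))) (BT.node (nat_lit 12429568) (BT.node (nat_lit 12429440) (BT.leaf (nat_lit 32903697)) (BT.leaf (nat_lit 32903957))) (BT.node (nat_lit 12429632) (BT.leaf (nat_lit 32906777)) (BT.leaf (nat_lit 35351061)))))) (BT.node (nat_lit 12430208) (BT.node (nat_lit 12429952) (BT.node (nat_lit 12429824) (BT.node (nat_lit 12429760) (BT.leaf (nat_lit 43066905)) (BT.leaf (nat_lit 40834081))) (BT.node (nat_lit 12429888) (BT.leaf (nat_lit 32909333)) (BT.leaf (nat_lit 32909589)))) (BT.node (nat_lit 12430080) (BT.node (nat_lit 12430016) (BT.leaf (nat_lit 32910097)) (BT.leaf (nat_lit 33301277))) (BT.node (nat_lit 12430144) (BT.leaf (nat_lit 32911125)) (BT.leaf (nat_lit 32911625))))) (BT.node (nat_lit 12430464) (BT.node (nat_lit 12430336) (BT.node (nat_lit 12430272) (BT.leaf (nat_lit 32911629)) (BT.leaf (nat_lit 35351317))) (BT.node (nat_lit 12430400) (BT.leaf (nat_lit 32911641)) (BT.leaf (nat_lit 32911645)))) (BT.node (nat_lit 12430592) (BT.node (nat_lit 12430528) (BT.leaf (nat_lit 48043541)) (BT.leaf (nat_lit 32911893))) (BT.node (nat_lit 12430656) (BT.leaf (nat_lit 43323413)) (BT.leaf (nat_lit 32914713))))))) (BT.node (nat_lit 12431936) (BT.node (nat_lit 12431360) (BT.node (nat_lit 12431040) (BT.node (nat_lit 12430912) (BT.node (nat_lit 12430848) (BT.leaf (nat_lit 32914717)) (BT.leaf (nat_lit 35068693))) (BT.node (nat_lit 12430976) (BT.leaf (nat_lit 32918545)) (BT.leaf (nat_lit 32919065)))) (BT.node (nat_lit 12431176) (BT.node (nat_lit 12431104) (BT.leaf (nat_lit 32919069)) (BT.leaf (nat_lit 32919317))) (BT.node (nat_lit 12431296) (BT.leaf (nat_lit 794740)) (BT.leaf (nat_lit 32920849))))) (BT.node (nat_lit 12431680) (BT.node (nat_lit 12431488) (BT.node (nat_lit 12431424) (BT.leaf (nat_lit 32921361)) (BT.leaf (nat_lit 32921109))) (BT.node (nat_lit 12431616) (BT.leaf (nat_lit 32922125)) (BT.leaf (nat_lit 47990533)))) (BT.node (nat_lit 12431808) (BT.node (nat_lit 12431744) (BT.leaf (nat_lit 39633165)) (BT.leaf (nat_lit 40528405))) (BT.node (nat_lit 12431872) (BT.leaf (nat_lit 32922645)) (BT.leaf (nat_lit 41226761)))))) (BT.node (nat_lit 12432576) (BT.node (nat_lit 12432192) (BT.node (nat_lit 12432064) (BT.node (nat_lit 12432000) (BT.leaf (nat_lit 32923929)) (BT.leaf (nat_lit 52330777))) (BT.node (nat_lit 12432128) (BT.leaf (nat_lit 41692941)) (BT.leaf (nat_lit 33434141)))) (BT.node (nat_lit 12432320) (BT.node (nat_lit 12432256) (BT.leaf (nat_lit 35011845)) (BT.leaf (nat_lit 32927509))) (BT.node (nat_lit 12432384) (BT.leaf (nat_lit 47743245)) (BT.leaf (nat_lit 42074893))))) (BT.node (nat_lit 12432896) (BT.node (nat_lit 12432768) (BT.node (nat_lit 12432704) (BT.leaf (nat_lit 37793797)) (BT.leaf (nat_lit 48450565))) (BT.node (nat_lit 12432832) (BT.leaf (nat_lit 48434181)) (BT.leaf (nat_lit 49222941)))) (BT.node (nat_lit 12433024) (BT.node (nat_lit 12432960) (BT.leaf (nat_lit 32929809)) (BT.leaf (nat_lit 32930065))) (BT.node (nat_lit 12433152) (BT.leaf (nat_lit 32930833)) (BT.leaf (nat_lit 46356741)))))))) (BT.node (nat_lit 12435712) (BT.node (nat_lit 12434496) (BT.node (nat_lit 12433856) (BT.node (nat_lit 12433472) (BT.node (nat_lit 12433344) (BT.node (nat_lit 12433280) (BT.leaf (nat_lit 43954953)) (BT.leaf (nat_lit 37795361))) (BT.node (nat_lit 12433408) (BT.leaf (nat_lit 47152137)) (BT.leaf (nat_lit 42035733)))) (BT.node (nat_lit 12433664) (BT.node (nat_lit 12433600) (BT.leaf (nat_lit 32933665)) (BT.leaf (nat_lit 34620957))) (BT.node (nat_lit 12433728) (BT.leaf (nat_lit 32936201)) (BT.leaf (nat_lit 32936205))))) (BT.node (nat_lit 12434240) (BT.node (nat_lit 12433984) (BT.node (nat_lit 12433920) (BT.leaf (nat_lit 32936221)) (BT.leaf (nat_lit 48070941))) (BT.node (nat_lit 12434048) (BT.leaf (nat_lit 32935953)) (BT.leaf (nat_lit 32936217)))) (BT.node (nat_lit 12434368) (BT.node (nat_lit 12434304) (BT.leaf (nat_lit 32937757)) (BT.leaf (nat_lit 32938001))) (BT.node (nat_lit 12434432) (BT.leaf (nat_lit 47652889)) (BT.leaf (nat_lit 40673825)))))) (BT.node (nat_lit 12435200) (BT.node (nat_lit 12434944) (BT.node (nat_lit 12434624) (BT.node (nat_lit 12434560) (BT.leaf (nat_lit 32941081)) (BT.leaf (nat_lit 48558113))) (BT.node (nat_lit 12434688) (BT.leaf (nat_lit 35364897)) (BT.leaf (nat_lit 40384801)))) (BT.node (nat_lit 12435072) (BT.node (nat_lit 12435008) (BT.leaf (nat_lit 46952205)) (BT.leaf (nat_lit 40355349))) (BT.node (nat_lit 12435136) (BT.leaf (nat_lit 48734997)) (BT.leaf (nat_lit 32942873))))) (BT.node (nat_lit 12435456) (BT.node (nat_lit 12435328) (BT.node (nat_lit 12435264) (BT.leaf (nat_lit 32942877)) (BT.leaf (nat_lit 35363617))) (BT.node (nat_lit 12435392) (BT.leaf (nat_lit 32943897)) (BT.leaf (nat_lit 32943901)))) (BT.node (nat_lit 12435584) (BT.node (nat_lit 12435520) (BT.leaf (nat_lit 32944157)) (BT.leaf (nat_lit 35392797))) (BT.node (nat_lit 12435648) (BT.leaf (nat_lit 32944665)) (BT.leaf (nat_lit 35362065))))))) (BT.node (nat_lit 12436864) (BT.node (nat_lit 12436288) (BT.node (nat_lit 12435968) (BT.node (nat_lit 12435840) (BT.node (nat_lit 12435776) (BT.leaf (nat_lit 42201101)) (BT.leaf (nat_lit 41555221))) (BT.node (nat_lit 12435904) (BT.leaf (nat_lit 35364117)) (BT.leaf (nat_lit 32944925)))) (BT.node (nat_lit 12436160) (BT.node (nat_lit 12436032) (BT.leaf (nat_lit 38922261)) (BT.leaf (nat_lit 49214981))) (BT.node (nat_lit 12436224) (BT.leaf (nat_lit 44137741)) (BT.leaf (nat_lit 48698893))))) (BT.node (nat_lit 12436544) (BT.node (nat_lit 12436416) (BT.node (nat_lit 12436352) (BT.leaf (nat_lit 32946453)) (BT.leaf (nat_lit 32947473))) (BT.node (nat_lit 12436480) (BT.leaf (nat_lit 48627489)) (BT.leaf (nat_lit 32947733)))) (BT.node (nat_lit 12436736) (BT.node (nat_lit 12436672) (BT.leaf (nat_lit 32948241)) (BT.leaf (nat_lit 32948757))) (BT.node (nat_lit 12436800) (BT.leaf (nat_lit 32949013)) (BT.leaf (nat_lit 32949265)))))) (BT.node (nat_lit 12437376) (BT.node (nat_lit 12437120) (BT.node (nat_lit 12436992) (BT.node (nat_lit 12436928) (BT.leaf (nat_lit 32949777)) (BT.leaf (nat_lit 47137049))) (BT.node (nat_lit 12437056) (BT.leaf (nat_lit 40218133)) (BT.leaf (nat_lit 44385285)))) (BT.node (nat_lit 12437248) (BT.node (nat_lit 12437184) (BT.leaf (nat_lit 47137037)) (BT.leaf (nat_lit 49274905))) (BT.node (nat_lit 12437312) (BT.leaf (nat_lit 32955153)) (BT.leaf (nat_lit 34681117))))) (BT.node (nat_lit 12437632) (BT.node (nat_lit 12437504) (BT.node (nat_lit 12437440) (BT.leaf (nat_lit 32955665)) (BT.leaf (nat_lit 43070729))) (BT.node (nat_lit 12437568) (BT.leaf (nat_lit 47550217)) (BT.leaf (nat_lit 50203153)))) (BT.node (nat_lit 12437760) (BT.node (nat_lit 12437696) (BT.leaf (nat_lit 32956937)) (BT.leaf (nat_lit 32956941))) (BT.node (nat_lit 12437824) (BT.leaf (nat_lit 32957205)) (BT.leaf (nat_lit 32956957)))))))))))))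
noncomputable def big0_e120832 : BT Nat := (BT.node (nat_lit 12520512) (BT.node (nat_lit 12478272) (BT.node (nat_lit 12455808) (BT.node (nat_lit 12446080) (BT.node (nat_lit 12441984) (BT.node (nat_lit 12439808) (BT.node (nat_lit 12438912) (BT.node (nat_lit 12438400) (BT.node (nat_lit 12438144) (BT.node (nat_lit 12438016) (BT.node (nat_lit 12437952) (BT.leaf (nat_lit 51348485)) (BT.leaf (nat_lit 48807449))) (BT.node (nat_lit 12438080) (BT.leaf (nat_lit 32958229)) (BT.leaf (nat_lit 32958737)))) (BT.node (nat_lit 12438272) (BT.node (nat_lit 12438208) (BT.leaf (nat_lit 41561117)) (BT.leaf (nat_lit 45633041))) (BT.node (nat_lit 12438336) (BT.leaf (nat_lit 49753357)) (BT.leaf (nat_lit 51083789))))) (BT.node (nat_lit 12438656) (BT.node (nat_lit 12438528) (BT.node (nat_lit 12438464) (BT.leaf (nat_lit 50706201)) (BT.leaf (nat_lit 50706205))) (BT.node (nat_lit 12438592) (BT.leaf (nat_lit 34135833)) (BT.leaf (nat_lit 47139853)))) (BT.node (nat_lit 12438784) (BT.node (nat_lit 12438720) (BT.leaf (nat_lit 44271621)) (BT.leaf (nat_lit 51754501))) (BT.node (nat_lit 12438848) (BT.leaf (nat_lit 46523909)) (BT.leaf (nat_lit 49394693)))))) (BT.node (nat_lit 12439362) (BT.node (nat_lit 12439168) (BT.node (nat_lit 12439040) (BT.node (nat_lit 12438976) (BT.leaf (nat_lit 32965141)) (BT.leaf (nat_lit 32965145))) (BT.node (nat_lit 12439104) (BT.leaf (nat_lit 32965149)) (BT.leaf (nat_lit 48128277)))) (BT.node (nat_lit 12439296) (BT.node (nat_lit 12439232) (BT.leaf (nat_lit 32966165)) (BT.leaf (nat_lit 50638865))) (BT.node (nat_lit 12439360) (BT.leaf (nat_lit 47973905)) (BT.leaf (nat_lit 33382173))))) (BT.node (nat_lit 12439552) (BT.node (nat_lit 12439424) (BT.node (nat_lit 12439363) (BT.leaf (nat_lit 780996)) (BT.leaf (nat_lit 780996))) (BT.node (nat_lit 12439488) (BT.leaf (nat_lit 32966941)) (BT.leaf (nat_lit 32967689)))) (BT.node (nat_lit 12439680) (BT.node (nat_lit 12439616) (BT.leaf (nat_lit 32967693)) (BT.leaf (nat_lit 32967697))) (BT.node (nat_lit 12439744) (BT.leaf (nat_lit 32967705)) (BT.leaf (nat_lit 51204629))))))) (BT.node (nat_lit 12440896) (BT.node (nat_lit 12440384) (BT.node (nat_lit 12440128) (BT.node (nat_lit 12440000) (BT.node (nat_lit 12439936) (BT.leaf (nat_lit 32967957)) (BT.leaf (nat_lit 46927109))) (BT.node (nat_lit 12440064) (BT.leaf (nat_lit 49760269)) (BT.leaf (nat_lit 48759317)))) (BT.node (nat_lit 12440256) (BT.node (nat_lit 12440192) (BT.leaf (nat_lit 32969737)) (BT.leaf (nat_lit 32969741))) (BT.node (nat_lit 12440320) (BT.leaf (nat_lit 32969753)) (BT.leaf (nat_lit 32969757))))) (BT.node (nat_lit 12440640) (BT.node (nat_lit 12440512) (BT.node (nat_lit 12440448) (BT.leaf (nat_lit 32969989)) (BT.leaf (nat_lit 40710665))) (BT.node (nat_lit 12440576) (BT.leaf (nat_lit 32970769)) (BT.leaf (nat_lit 49656345)))) (BT.node (nat_lit 12440768) (BT.node (nat_lit 12440704) (BT.leaf (nat_lit 32971793)) (BT.leaf (nat_lit 32971297))) (BT.node (nat_lit 12440832) (BT.leaf (nat_lit 38499101)) (BT.leaf (nat_lit 32972313)))))) (BT.node (nat_lit 12441472) (BT.node (nat_lit 12441216) (BT.node (nat_lit 12441088) (BT.node (nat_lit 12440960) (BT.leaf (nat_lit 32972317)) (BT.leaf (nat_lit 32974105))) (BT.node (nat_lit 12441152) (BT.leaf (nat_lit 33494561)) (BT.leaf (nat_lit 32978713)))) (BT.node (nat_lit 12441344) (BT.node (nat_lit 12441280) (BT.leaf (nat_lit 32978961)) (BT.leaf (nat_lit 33495329))) (BT.node (nat_lit 12441408) (BT.leaf (nat_lit 32979733)) (BT.leaf (nat_lit 46809117))))) (BT.node (nat_lit 12441728) (BT.node (nat_lit 12441600) (BT.node (nat_lit 12441536) (BT.leaf (nat_lit 33693709)) (BT.leaf (nat_lit 32980249))) (BT.node (nat_lit 12441664) (BT.leaf (nat_lit 32980253)) (BT.leaf (nat_lit 45405729)))) (BT.node (nat_lit 12441856) (BT.node (nat_lit 12441792) (BT.leaf (nat_lit 32980509)) (BT.leaf (nat_lit 32981013))) (BT.node (nat_lit 12441920) (BT.leaf (nat_lit 47387921)) (BT.leaf (nat_lit 40282145)))))))) (BT.node (nat_lit 12444032) (BT.node (nat_lit 12443008) (BT.node (nat_lit 12442496) (BT.node (nat_lit 12442240) (BT.node (nat_lit 12442112) (BT.node (nat_lit 12442048) (BT.leaf (nat_lit 40281889)) (BT.leaf (nat_lit 43451937))) (BT.node (nat_lit 12442176) (BT.leaf (nat_lit 47955461)) (BT.leaf (nat_lit 32982537)))) (BT.node (nat_lit 12442368) (BT.node (nat_lit 12442304) (BT.leaf (nat_lit 32982541)) (BT.leaf (nat_lit 32982545))) (BT.node (nat_lit 12442432) (BT.leaf (nat_lit 32982553)) (BT.leaf (nat_lit 32982557))))) (BT.node (nat_lit 12442752) (BT.node (nat_lit 12442624) (BT.node (nat_lit 12442560) (BT.leaf (nat_lit 32983313)) (BT.leaf (nat_lit 32984329))) (BT.node (nat_lit 12442688) (BT.leaf (nat_lit 32984333)) (BT.leaf (nat_lit 44240921)))) (BT.node (nat_lit 12442880) (BT.node (nat_lit 12442816) (BT.leaf (nat_lit 32984609)) (BT.leaf (nat_lit 32985109))) (BT.node (nat_lit 12442944) (BT.leaf (nat_lit 32985117)) (BT.leaf (nat_lit 49035285)))))) (BT.node (nat_lit 12443520) (BT.node (nat_lit 12443264) (BT.node (nat_lit 12443136) (BT.node (nat_lit 12443072) (BT.leaf (nat_lit 49113877)) (BT.leaf (nat_lit 48107029))) (BT.node (nat_lit 12443200) (BT.leaf (nat_lit 50049313)) (BT.leaf (nat_lit 32986393)))) (BT.node (nat_lit 12443392) (BT.node (nat_lit 12443328) (BT.leaf (nat_lit 32986397)) (BT.leaf (nat_lit 32986641))) (BT.node (nat_lit 12443456) (BT.leaf (nat_lit 40982049)) (BT.leaf (nat_lit 32987925))))) (BT.node (nat_lit 12443776) (BT.node (nat_lit 12443648) (BT.node (nat_lit 12443584) (BT.leaf (nat_lit 32988953)) (BT.leaf (nat_lit 32988957))) (BT.node (nat_lit 12443712) (BT.leaf (nat_lit 32989973)) (BT.leaf (nat_lit 32989457)))) (BT.node (nat_lit 12443904) (BT.node (nat_lit 12443840) (BT.leaf (nat_lit 32989461)) (BT.leaf (nat_lit 32990229))) (BT.node (nat_lit 12443968) (BT.leaf (nat_lit 35388189)) (BT.leaf (nat_lit 32992277))))))) (BT.node (nat_lit 12445056) (BT.node (nat_lit 12444544) (BT.node (nat_lit 12444288) (BT.node (nat_lit 12444160) (BT.node (nat_lit 12444096) (BT.leaf (nat_lit 37743897)) (BT.leaf (nat_lit 32995353))) (BT.node (nat_lit 12444224) (BT.leaf (nat_lit 32995357)) (BT.leaf (nat_lit 32995597)))) (BT.node (nat_lit 12444416) (BT.node (nat_lit 12444352) (BT.leaf (nat_lit 35388949)) (BT.leaf (nat_lit 40675593))) (BT.node (nat_lit 12444480) (BT.leaf (nat_lit 40675609)) (BT.leaf (nat_lit 40675613))))) (BT.node (nat_lit 12444800) (BT.node (nat_lit 12444672) (BT.node (nat_lit 12444608) (BT.leaf (nat_lit 32997145)) (BT.leaf (nat_lit 32998173))) (BT.node (nat_lit 12444736) (BT.leaf (nat_lit 32999689)) (BT.leaf (nat_lit 35390481)))) (BT.node (nat_lit 12444928) (BT.node (nat_lit 12444864) (BT.leaf (nat_lit 33000461)) (BT.leaf (nat_lit 33000457))) (BT.node (nat_lit 12444992) (BT.leaf (nat_lit 33000221)) (BT.leaf (nat_lit 35390997)))))) (BT.node (nat_lit 12445568) (BT.node (nat_lit 12445312) (BT.node (nat_lit 12445184) (BT.node (nat_lit 12445120) (BT.leaf (nat_lit 37739805)) (BT.leaf (nat_lit 33000985))) (BT.node (nat_lit 12445248) (BT.leaf (nat_lit 47458329)) (BT.leaf (nat_lit 33001737)))) (BT.node (nat_lit 12445440) (BT.node (nat_lit 12445376) (BT.leaf (nat_lit 33002769)) (BT.leaf (nat_lit 33006865))) (BT.node (nat_lit 12445504) (BT.leaf (nat_lit 33007377)) (BT.leaf (nat_lit 49782285))))) (BT.node (nat_lit 12445824) (BT.node (nat_lit 12445696) (BT.node (nat_lit 12445632) (BT.leaf (nat_lit 44234261)) (BT.leaf (nat_lit 42688033))) (BT.node (nat_lit 12445760) (BT.leaf (nat_lit 33009157)) (BT.leaf (nat_lit 39670809)))) (BT.node (nat_lit 12445952) (BT.node (nat_lit 12445888) (BT.leaf (nat_lit 33011225)) (BT.leaf (nat_lit 42019865))) (BT.node (nat_lit 12446016) (BT.leaf (nat_lit 45124385)) (BT.leaf (nat_lit 33012249))))))))) (BT.node (nat_lit 12450496) (BT.node (nat_lit 12448256) (BT.node (nat_lit 12447232) (BT.node (nat_lit 12446592) (BT.node (nat_lit 12446336) (BT.node (nat_lit 12446208) (BT.node (nat_lit 12446144) (BT.leaf (nat_lit 33012489)) (BT.leaf (nat_lit 33012493))) (BT.node (nat_lit 12446272) (BT.leaf (nat_lit 33012505)) (BT.leaf (nat_lit 33012509)))) (BT.node (nat_lit 12446464) (BT.node (nat_lit 12446400) (BT.leaf (nat_lit 33013009)) (BT.leaf (nat_lit 47114765))) (BT.node (nat_lit 12446528) (BT.leaf (nat_lit 49785625)) (BT.leaf (nat_lit 39648265))))) (BT.node (nat_lit 12446848) (BT.node (nat_lit 12446720) (BT.node (nat_lit 12446656) (BT.leaf (nat_lit 33013789)) (BT.leaf (nat_lit 47115273))) (BT.node (nat_lit 12446784) (BT.leaf (nat_lit 38808325)) (BT.leaf (nat_lit 33016849)))) (BT.node (nat_lit 12446976) (BT.node (nat_lit 12446912) (BT.leaf (nat_lit 46660897)) (BT.leaf (nat_lit 46444321))) (BT.node (nat_lit 12447040) (BT.leaf (nat_lit 33017369)) (BT.leaf (nat_lit 33018129)))))) (BT.node (nat_lit 12447744) (BT.node (nat_lit 12447488) (BT.node (nat_lit 12447360) (BT.node (nat_lit 12447296) (BT.leaf (nat_lit 33019673)) (BT.leaf (nat_lit 33020677))) (BT.node (nat_lit 12447424) (BT.leaf (nat_lit 33020949)) (BT.leaf (nat_lit 33020953)))) (BT.node (nat_lit 12447616) (BT.node (nat_lit 12447552) (BT.leaf (nat_lit 33020957)) (BT.leaf (nat_lit 33021209))) (BT.node (nat_lit 12447680) (BT.leaf (nat_lit 33021213)) (BT.leaf (nat_lit 33021461))))) (BT.node (nat_lit 12448000) (BT.node (nat_lit 12447872) (BT.node (nat_lit 12447808) (BT.leaf (nat_lit 33021713)) (BT.leaf (nat_lit 33023249))) (BT.node (nat_lit 12447936) (BT.leaf (nat_lit 46307097)) (BT.leaf (nat_lit 33024017)))) (BT.node (nat_lit 12448128) (BT.node (nat_lit 12448064) (BT.leaf (nat_lit 46937877)) (BT.leaf (nat_lit 40224033))) (BT.node (nat_lit 12448192) (BT.leaf (nat_lit 33026065)) (BT.leaf (nat_lit 33026321))))))) (BT.node (nat_lit 12449408) (BT.node (nat_lit 12448832) (BT.node (nat_lit 12448576) (BT.node (nat_lit 12448448) (BT.node (nat_lit 12448384) (BT.leaf (nat_lit 35400725)) (BT.leaf (nat_lit 33027353))) (BT.node (nat_lit 12448512) (BT.leaf (nat_lit 33027357)) (BT.leaf (nat_lit 48578849)))) (BT.node (nat_lit 12448704) (BT.node (nat_lit 12448640) (BT.leaf (nat_lit 33028121)) (BT.leaf (nat_lit 33028125))) (BT.node (nat_lit 12448768) (BT.leaf (nat_lit 33029649)) (BT.leaf (nat_lit 47119113))))) (BT.node (nat_lit 12449152) (BT.node (nat_lit 12448960) (BT.node (nat_lit 12448896) (BT.leaf (nat_lit 49934857)) (BT.leaf (nat_lit 38169109))) (BT.node (nat_lit 12449088) (BT.leaf (nat_lit 46467085)) (BT.leaf (nat_lit 51396877)))) (BT.node (nat_lit 12449280) (BT.node (nat_lit 12449216) (BT.leaf (nat_lit 47352601)) (BT.leaf (nat_lit 48648965))) (BT.node (nat_lit 12449344) (BT.leaf (nat_lit 33031433)) (BT.leaf (nat_lit 33031449)))))) (BT.node (nat_lit 12449984) (BT.node (nat_lit 12449664) (BT.node (nat_lit 12449536) (BT.node (nat_lit 12449472) (BT.leaf (nat_lit 33031453)) (BT.leaf (nat_lit 35851789))) (BT.node (nat_lit 12449600) (BT.leaf (nat_lit 41000985)) (BT.leaf (nat_lit 45721873)))) (BT.node (nat_lit 12449856) (BT.node (nat_lit 12449792) (BT.leaf (nat_lit 52210709)) (BT.leaf (nat_lit 33033493))) (BT.node (nat_lit 12449920) (BT.leaf (nat_lit 33034005)) (BT.leaf (nat_lit 33034261))))) (BT.node (nat_lit 12450240) (BT.node (nat_lit 12450112) (BT.node (nat_lit 12450048) (BT.leaf (nat_lit 33035285)) (BT.leaf (nat_lit 40637465))) (BT.node (nat_lit 12450176) (BT.leaf (nat_lit 33848849)) (BT.leaf (nat_lit 49800473)))) (BT.node (nat_lit 12450368) (BT.node (nat_lit 12450304) (BT.leaf (nat_lit 49924897)) (BT.leaf (nat_lit 33037085))) (BT.node (nat_lit 12450432) (BT.leaf (nat_lit 51404561)) (BT.leaf (nat_lit 50008837)))))))) (BT.node (nat_lit 12452992) (BT.node (nat_lit 12451712) (BT.node (nat_lit 12451136) (BT.node (nat_lit 12450752) (BT.node (nat_lit 12450560) (BT.node (nat_lit 12450503) (BT.leaf (nat_lit 33037841)) (BT.leaf (nat_lit 791968))) (BT.node (nat_lit 12450624) (BT.leaf (nat_lit 35658005)) (BT.leaf (nat_lit 50323973)))) (BT.node (nat_lit 12450944) (BT.node (nat_lit 12450880) (BT.leaf (nat_lit 35802889)) (BT.leaf (nat_lit 51487749))) (BT.node (nat_lit 12451072) (BT.leaf (nat_lit 51493145)) (BT.leaf (nat_lit 37341721))))) (BT.node (nat_lit 12451456) (BT.node (nat_lit 12451328) (BT.node (nat_lit 12451200) (BT.leaf (nat_lit 34681369)) (BT.leaf (nat_lit 36512281))) (BT.node (nat_lit 12451392) (BT.leaf (nat_lit 35802381)) (BT.leaf (nat_lit 49916961)))) (BT.node (nat_lit 12451584) (BT.node (nat_lit 12451520) (BT.leaf (nat_lit 33049617)) (BT.leaf (nat_lit 33050381))) (BT.node (nat_lit 12451648) (BT.leaf (nat_lit 33050393)) (BT.leaf (nat_lit 33050397)))))) (BT.node (nat_lit 12452416) (BT.node (nat_lit 12451968) (BT.node (nat_lit 12451840) (BT.node (nat_lit 12451776) (BT.leaf (nat_lit 33050645)) (BT.leaf (nat_lit 33050897))) (BT.node (nat_lit 12451904) (BT.leaf (nat_lit 36302597)) (BT.leaf (nat_lit 36848645)))) (BT.node (nat_lit 12452096) (BT.node (nat_lit 12452032) (BT.leaf (nat_lit 33053713)) (BT.leaf (nat_lit 33054481))) (BT.node (nat_lit 12452352) (BT.leaf (nat_lit 49830917)) (BT.leaf (nat_lit 33057561))))) (BT.node (nat_lit 12452736) (BT.node (nat_lit 12452544) (BT.node (nat_lit 12452480) (BT.leaf (nat_lit 33057813)) (BT.leaf (nat_lit 50962961))) (BT.node (nat_lit 12452608) (BT.leaf (nat_lit 50153221)) (BT.leaf (nat_lit 33058577)))) (BT.node (nat_lit 12452864) (BT.node (nat_lit 12452800) (BT.leaf (nat_lit 50457365)) (BT.leaf (nat_lit 51379717))) (BT.node (nat_lit 12452928) (BT.leaf (nat_lit 35531281)) (BT.leaf (nat_lit 33073689))))))) (BT.node (nat_lit 12454720) (BT.node (nat_lit 12453888) (BT.node (nat_lit 12453248) (BT.node (nat_lit 12453120) (BT.node (nat_lit 12453056) (BT.leaf (nat_lit 33063185)) (BT.leaf (nat_lit 50292509))) (BT.node (nat_lit 12453184) (BT.leaf (nat_lit 33063697)) (BT.leaf (nat_lit 33064213)))) (BT.node (nat_lit 12453376) (BT.node (nat_lit 12453312) (BT.leaf (nat_lit 52075037)) (BT.leaf (nat_lit 33064725))) (BT.node (nat_lit 12453568) (BT.leaf (nat_lit 33064977)) (BT.leaf (nat_lit 51479837))))) (BT.node (nat_lit 12454272) (BT.node (nat_lit 12454080) (BT.node (nat_lit 12454016) (BT.leaf (nat_lit 33067793)) (BT.leaf (nat_lit 35829793))) (BT.node (nat_lit 12454208) (BT.leaf (nat_lit 37445149)) (BT.leaf (nat_lit 51658785)))) (BT.node (nat_lit 12454528) (BT.node (nat_lit 12454336) (BT.leaf (nat_lit 33071889)) (BT.leaf (nat_lit 33072145))) (BT.node (nat_lit 12454592) (BT.leaf (nat_lit 46443281)) (BT.leaf (nat_lit 51153941)))))) (BT.node (nat_lit 12455296) (BT.node (nat_lit 12454976) (BT.node (nat_lit 12454848) (BT.node (nat_lit 12454784) (BT.leaf (nat_lit 33074965)) (BT.leaf (nat_lit 33075729))) (BT.node (nat_lit 12454912) (BT.leaf (nat_lit 49949465)) (BT.leaf (nat_lit 51143429)))) (BT.node (nat_lit 12455104) (BT.node (nat_lit 12455040) (BT.leaf (nat_lit 51771929)) (BT.leaf (nat_lit 47568649))) (BT.node (nat_lit 12455232) (BT.leaf (nat_lit 38804741)) (BT.leaf (nat_lit 35529481))))) (BT.node (nat_lit 12455552) (BT.node (nat_lit 12455424) (BT.node (nat_lit 12455360) (BT.leaf (nat_lit 33082385)) (BT.leaf (nat_lit 33082641))) (BT.node (nat_lit 12455488) (BT.leaf (nat_lit 46607109)) (BT.leaf (nat_lit 50374933)))) (BT.node (nat_lit 12455680) (BT.node (nat_lit 12455616) (BT.leaf (nat_lit 33917189)) (BT.leaf (nat_lit 33085457))) (BT.node (nat_lit 12455744) (BT.leaf (nat_lit 34681373)) (BT.leaf (nat_lit 50605829)))))))))) (BT.node (nat_lit 12467392) (BT.node (nat_lit 12461120) (BT.node (nat_lit 12458560) (BT.node (nat_lit 12457152) (BT.node (nat_lit 12456640) (BT.node (nat_lit 12456320) (BT.node (nat_lit 12456192) (BT.node (nat_lit 12455872) (BT.leaf (nat_lit 51146257)) (BT.leaf (nat_lit 33938465))) (BT.node (nat_lit 12456256) (BT.leaf (nat_lit 33097997)) (BT.leaf (nat_lit 33095685)))) (BT.node (nat_lit 12456512) (BT.node (nat_lit 12456448) (BT.leaf (nat_lit 33095709)) (BT.leaf (nat_lit 33096465))) (BT.node (nat_lit 12456576) (BT.leaf (nat_lit 51649045)) (BT.leaf (nat_lit 49828105))))) (BT.node (nat_lit 12456896) (BT.node (nat_lit 12456768) (BT.node (nat_lit 12456704) (BT.leaf (nat_lit 33097749)) (BT.leaf (nat_lit 51073569))) (BT.node (nat_lit 12456832) (BT.leaf (nat_lit 45654277)) (BT.leaf (nat_lit 46916385)))) (BT.node (nat_lit 12457024) (BT.node (nat_lit 12456960) (BT.leaf (nat_lit 51279381)) (BT.leaf (nat_lit 52118805))) (BT.node (nat_lit 12457088) (BT.leaf (nat_lit 50819845)) (BT.leaf (nat_lit 33100305)))))) (BT.node (nat_lit 12457664) (BT.node (nat_lit 12457408) (BT.node (nat_lit 12457280) (BT.node (nat_lit 12457216) (BT.leaf (nat_lit 33101073)) (BT.leaf (nat_lit 33104657))) (BT.node (nat_lit 12457344) (BT.leaf (nat_lit 33105177)) (BT.leaf (nat_lit 33105437)))) (BT.node (nat_lit 12457536) (BT.node (nat_lit 12457472) (BT.leaf (nat_lit 49884933)) (BT.leaf (nat_lit 36010757))) (BT.node (nat_lit 12457600) (BT.leaf (nat_lit 33106449)) (BT.leaf (nat_lit 33106705))))) (BT.node (nat_lit 12458176) (BT.node (nat_lit 12457920) (BT.node (nat_lit 12457728) (BT.leaf (nat_lit 33107217)) (BT.leaf (nat_lit 37198617))) (BT.node (nat_lit 12458112) (BT.leaf (nat_lit 33109537)) (BT.leaf (nat_lit 33110045)))) (BT.node (nat_lit 12458368) (BT.node (nat_lit 12458240) (BT.leaf (nat_lit 33110289)) (BT.leaf (nat_lit 34833681))) (BT.node (nat_lit 12458496) (BT.leaf (nat_lit 40752145)) (BT.leaf (nat_lit 33111577))))))) (BT.node (nat_lit 12459968) (BT.node (nat_lit 12459328) (BT.node (nat_lit 12458880) (BT.node (nat_lit 12458752) (BT.node (nat_lit 12458688) (BT.leaf (nat_lit 33111581)) (BT.leaf (nat_lit 34055185))) (BT.node (nat_lit 12458816) (BT.leaf (nat_lit 35848221)) (BT.leaf (nat_lit 50346517)))) (BT.node (nat_lit 12459072) (BT.node (nat_lit 12459008) (BT.leaf (nat_lit 51415325)) (BT.leaf (nat_lit 33116693))) (BT.node (nat_lit 12459136) (BT.leaf (nat_lit 50038561)) (BT.leaf (nat_lit 33116957))))) (BT.node (nat_lit 12459648) (BT.node (nat_lit 12459456) (BT.node (nat_lit 12459392) (BT.leaf (nat_lit 33119513)) (BT.leaf (nat_lit 36047881))) (BT.node (nat_lit 12459584) (BT.leaf (nat_lit 33120285)) (BT.leaf (nat_lit 33121553)))) (BT.node (nat_lit 12459840) (BT.node (nat_lit 12459712) (BT.leaf (nat_lit 33122321)) (BT.leaf (nat_lit 33123089))) (BT.node (nat_lit 12459904) (BT.leaf (nat_lit 33124369)) (BT.leaf (nat_lit 33125129)))))) (BT.node (nat_lit 12460544) (BT.node (nat_lit 12460224) (BT.node (nat_lit 12460096) (BT.node (nat_lit 12460032) (BT.leaf (nat_lit 51547161)) (BT.leaf (nat_lit 33125153))) (BT.node (nat_lit 12460160) (BT.leaf (nat_lit 52091661)) (BT.leaf (nat_lit 33397517)))) (BT.node (nat_lit 12460416) (BT.node (nat_lit 12460352) (BT.leaf (nat_lit 33126161)) (BT.leaf (nat_lit 35742745))) (BT.node (nat_lit 12460480) (BT.leaf (nat_lit 33126933)) (BT.leaf (nat_lit 36507665))))) (BT.node (nat_lit 12460864) (BT.node (nat_lit 12460672) (BT.node (nat_lit 12460608) (BT.leaf (nat_lit 33128465)) (BT.leaf (nat_lit 50825761))) (BT.node (nat_lit 12460800) (BT.leaf (nat_lit 33130513)) (BT.leaf (nat_lit 33130777)))) (BT.node (nat_lit 12460992) (BT.node (nat_lit 12460928) (BT.leaf (nat_lit 33130781)) (BT.leaf (nat_lit 34611217))) (BT.node (nat_lit 12461056) (BT.leaf (nat_lit 51403545)) (BT.leaf (nat_lit 36132629)))))))) (BT.node (nat_lit 12464064) (BT.node (nat_lit 12462976) (BT.node (nat_lit 12461888) (BT.node (nat_lit 12461568) (BT.node (nat_lit 12461248) (BT.node (nat_lit 12461184) (BT.leaf (nat_lit 36542233)) (BT.leaf (nat_lit 33136413))) (BT.node (nat_lit 12461312) (BT.leaf (nat_lit 46759941)) (BT.leaf (nat_lit 35985941)))) (BT.node (nat_lit 12461760) (BT.node (nat_lit 12461632) (BT.leaf (nat_lit 34947093)) (BT.leaf (nat_lit 33138201))) (BT.node (nat_lit 12461824) (BT.leaf (nat_lit 49847309)) (BT.leaf (nat_lit 47125521))))) (BT.node (nat_lit 12462272) (BT.node (nat_lit 12462144) (BT.node (nat_lit 12462080) (BT.leaf (nat_lit 33138961)) (BT.leaf (nat_lit 33842197))) (BT.node (nat_lit 12462208) (BT.leaf (nat_lit 33140513)) (BT.leaf (nat_lit 33140761)))) (BT.node (nat_lit 12462720) (BT.node (nat_lit 12462656) (BT.leaf (nat_lit 33140765)) (BT.leaf (nat_lit 33928717))) (BT.node (nat_lit 12462912) (BT.leaf (nat_lit 51227161)) (BT.leaf (nat_lit 33143569)))))) (BT.node (nat_lit 12463488) (BT.node (nat_lit 12463232) (BT.node (nat_lit 12463104) (BT.node (nat_lit 12463040) (BT.leaf (nat_lit 33143825)) (BT.leaf (nat_lit 33143829))) (BT.node (nat_lit 12463168) (BT.leaf (nat_lit 33144849)) (BT.leaf (nat_lit 33145377)))) (BT.node (nat_lit 12463360) (BT.node (nat_lit 12463296) (BT.leaf (nat_lit 49809697)) (BT.leaf (nat_lit 33145873))) (BT.node (nat_lit 12463424) (BT.leaf (nat_lit 33146389)) (BT.leaf (nat_lit 33146393))))) (BT.node (nat_lit 12463872) (BT.node (nat_lit 12463680) (BT.node (nat_lit 12463616) (BT.leaf (nat_lit 33146645)) (BT.leaf (nat_lit 33147161))) (BT.node (nat_lit 12463744) (BT.leaf (nat_lit 36243465)) (BT.leaf (nat_lit 33147413)))) (BT.node (nat_lit 12463880) (BT.node (nat_lit 12463876) (BT.leaf (nat_lit 36635149)) (BT.leaf (nat_lit 806484))) (BT.node (nat_lit 12464000) (BT.leaf (nat_lit 806484)) (BT.leaf (nat_lit 33149209))))))) (BT.node (nat_lit 12465408) (BT.node (nat_lit 12464704) (BT.node (nat_lit 12464320) (BT.node (nat_lit 12464192) (BT.node (nat_lit 12464128) (BT.leaf (nat_lit 46649377)) (BT.leaf (nat_lit 33150993))) (BT.node (nat_lit 12464256) (BT.leaf (nat_lit 51661061)) (BT.leaf (nat_lit 35831565)))) (BT.node (nat_lit 12464448) (BT.node (nat_lit 12464384) (BT.leaf (nat_lit 33151249)) (BT.leaf (nat_lit 33151513))) (BT.node (nat_lit 12464576) (BT.leaf (nat_lit 33151517)) (BT.leaf (nat_lit 35133193))))) (BT.node (nat_lit 12464960) (BT.node (nat_lit 12464832) (BT.node (nat_lit 12464768) (BT.leaf (nat_lit 35133197)) (BT.leaf (nat_lit 40946705))) (BT.node (nat_lit 12464896) (BT.leaf (nat_lit 35133213)) (BT.leaf (nat_lit 33153041)))) (BT.node (nat_lit 12465216) (BT.node (nat_lit 12465088) (BT.leaf (nat_lit 35133209)) (BT.leaf (nat_lit 49863957))) (BT.node (nat_lit 12465280) (BT.leaf (nat_lit 37412617)) (BT.leaf (nat_lit 33155865)))))) (BT.node (nat_lit 12466368) (BT.node (nat_lit 12465984) (BT.node (nat_lit 12465600) (BT.node (nat_lit 12465472) (BT.leaf (nat_lit 51283741)) (BT.leaf (nat_lit 37469213))) (BT.node (nat_lit 12465856) (BT.leaf (nat_lit 37100573)) (BT.leaf (nat_lit 51842309)))) (BT.node (nat_lit 12466240) (BT.node (nat_lit 12466176) (BT.leaf (nat_lit 36222481)) (BT.leaf (nat_lit 33156889))) (BT.node (nat_lit 12466304) (BT.leaf (nat_lit 35876633)) (BT.leaf (nat_lit 36018977))))) (BT.node (nat_lit 12467072) (BT.node (nat_lit 12466752) (BT.node (nat_lit 12466432) (BT.leaf (nat_lit 38839829)) (BT.leaf (nat_lit 51022357))) (BT.node (nat_lit 12467008) (BT.leaf (nat_lit 33491481)) (BT.leaf (nat_lit 33167125)))) (BT.node (nat_lit 12467200) (BT.node (nat_lit 12467136) (BT.leaf (nat_lit 49974561)) (BT.leaf (nat_lit 33305625))) (BT.node (nat_lit 12467328) (BT.leaf (nat_lit 52393233)) (BT.leaf (nat_lit 37302297))))))))) (BT.node (nat_lit 12472832) (BT.node (nat_lit 12470656) (BT.node (nat_lit 12469120) (BT.node (nat_lit 12467840) (BT.node (nat_lit 12467456) (BT.node (nat_lit 12467396) (BT.node (nat_lit 12467393) (BT.leaf (nat_lit 37300997)) (BT.leaf (nat_lit 809012))) (BT.node (nat_lit 12467400) (BT.leaf (nat_lit 809012)) (BT.leaf (nat_lit 809012)))) (BT.node (nat_lit 12467648) (BT.node (nat_lit 12467584) (BT.leaf (nat_lit 51478301)) (BT.leaf (nat_lit 35437585))) (BT.node (nat_lit 12467712) (BT.leaf (nat_lit 51469317)) (BT.leaf (nat_lit 33169949))))) (BT.node (nat_lit 12468480) (BT.node (nat_lit 12468288) (BT.node (nat_lit 12468032) (BT.leaf (nat_lit 33514757)) (BT.leaf (nat_lit 51934237))) (BT.node (nat_lit 12468352) (BT.leaf (nat_lit 33175585)) (BT.leaf (nat_lit 49962245)))) (BT.node (nat_lit 12468992) (BT.node (nat_lit 12468800) (BT.leaf (nat_lit 35284741)) (BT.leaf (nat_lit 33182237))) (BT.node (nat_lit 12469056) (BT.leaf (nat_lit 51722761)) (BT.leaf (nat_lit 52445193)))))) (BT.node (nat_lit 12469824) (BT.node (nat_lit 12469312) (BT.node (nat_lit 12469248) (BT.node (nat_lit 12469184) (BT.leaf (nat_lit 52445461)) (BT.leaf (nat_lit 35482893))) (BT.node (nat_lit 12469253) (BT.leaf (nat_lit 51558677)) (BT.leaf (nat_lit 812644)))) (BT.node (nat_lit 12469440) (BT.node (nat_lit 12469376) (BT.leaf (nat_lit 33185809)) (BT.leaf (nat_lit 46588949))) (BT.node (nat_lit 12469760) (BT.leaf (nat_lit 49961477)) (BT.leaf (nat_lit 51183365))))) (BT.node (nat_lit 12470144) (BT.node (nat_lit 12469952) (BT.node (nat_lit 12469888) (BT.leaf (nat_lit 49883397)) (BT.leaf (nat_lit 51502597))) (BT.node (nat_lit 12470016) (BT.leaf (nat_lit 51879701)) (BT.leaf (nat_lit 35436053)))) (BT.node (nat_lit 12470400) (BT.node (nat_lit 12470211) (BT.leaf (nat_lit 50572805)) (BT.leaf (nat_lit 800700))) (BT.node (nat_lit 12470464) (BT.leaf (nat_lit 42206485)) (BT.leaf (nat_lit 50980129))))))) (BT.node (nat_lit 12471744) (BT.node (nat_lit 12471232) (BT.node (nat_lit 12470976) (BT.node (nat_lit 12470848) (BT.node (nat_lit 12470784) (BT.leaf (nat_lit 33193489)) (BT.leaf (nat_lit 52173585))) (BT.node (nat_lit 12470912) (BT.leaf (nat_lit 33195033)) (BT.leaf (nat_lit 33195037)))) (BT.node (nat_lit 12471104) (BT.node (nat_lit 12471040) (BT.leaf (nat_lit 34029085)) (BT.leaf (nat_lit 51158277))) (BT.node (nat_lit 12471168) (BT.leaf (nat_lit 33200917)) (BT.leaf (nat_lit 33201425))))) (BT.node (nat_lit 12471488) (BT.node (nat_lit 12471360) (BT.node (nat_lit 12471296) (BT.leaf (nat_lit 33203485)) (BT.leaf (nat_lit 35841797))) (BT.node (nat_lit 12471424) (BT.leaf (nat_lit 33203733)) (BT.leaf (nat_lit 33203737)))) (BT.node (nat_lit 12471616) (BT.node (nat_lit 12471552) (BT.leaf (nat_lit 35797025)) (BT.leaf (nat_lit 47900449))) (BT.node (nat_lit 12471680) (BT.leaf (nat_lit 49938437)) (BT.leaf (nat_lit 48663565)))))) (BT.node (nat_lit 12472256) (BT.node (nat_lit 12472003) (BT.node (nat_lit 12471872) (BT.node (nat_lit 12471808) (BT.leaf (nat_lit 48148253)) (BT.leaf (nat_lit 49418253))) (BT.node (nat_lit 12471936) (BT.leaf (nat_lit 50339593)) (BT.leaf (nat_lit 33212181)))) (BT.node (nat_lit 12472128) (BT.node (nat_lit 12472064) (BT.leaf (nat_lit 816328)) (BT.leaf (nat_lit 37242393))) (BT.node (nat_lit 12472192) (BT.leaf (nat_lit 37242397)) (BT.leaf (nat_lit 37243157))))) (BT.node (nat_lit 12472513) (BT.node (nat_lit 12472384) (BT.node (nat_lit 12472320) (BT.leaf (nat_lit 33213197)) (BT.leaf (nat_lit 33213457))) (BT.node (nat_lit 12472512) (BT.leaf (nat_lit 52092693)) (BT.leaf (nat_lit 35599897)))) (BT.node (nat_lit 12472704) (BT.node (nat_lit 12472519) (BT.leaf (nat_lit 800828)) (BT.leaf (nat_lit 800828))) (BT.node (nat_lit 12472768) (BT.leaf (nat_lit 51529237)) (BT.leaf (nat_lit 35638533)))))))) (BT.node (nat_lit 12476160) (BT.node (nat_lit 12474240) (BT.node (nat_lit 12473344) (BT.node (nat_lit 12473024) (BT.node (nat_lit 12472903) (BT.node (nat_lit 12472896) (BT.leaf (nat_lit 50877213)) (BT.leaf (nat_lit 46953241))) (BT.node (nat_lit 12472960) (BT.leaf (nat_lit 804996)) (BT.leaf (nat_lit 50080281)))) (BT.node (nat_lit 12473088) (BT.node (nat_lit 12473027) (BT.leaf (nat_lit 34603801)) (BT.leaf (nat_lit 791892))) (BT.node (nat_lit 12473280) (BT.leaf (nat_lit 33422097)) (BT.leaf (nat_lit 33218065))))) (BT.node (nat_lit 12473728) (BT.node (nat_lit 12473536) (BT.node (nat_lit 12473472) (BT.leaf (nat_lit 52175893)) (BT.leaf (nat_lit 49948421))) (BT.node (nat_lit 12473664) (BT.leaf (nat_lit 51528213)) (BT.leaf (nat_lit 47116561)))) (BT.node (nat_lit 12473856) (BT.node (nat_lit 12473792) (BT.leaf (nat_lit 33223185)) (BT.leaf (nat_lit 51706885))) (BT.node (nat_lit 12473984) (BT.leaf (nat_lit 33224473)) (BT.leaf (nat_lit 46292237)))))) (BT.node (nat_lit 12474944) (BT.node (nat_lit 12474624) (BT.node (nat_lit 12474496) (BT.node (nat_lit 12474368) (BT.leaf (nat_lit 51373329)) (BT.leaf (nat_lit 33227289))) (BT.node (nat_lit 12474560) (BT.leaf (nat_lit 38218001)) (BT.leaf (nat_lit 50163217)))) (BT.node (nat_lit 12474752) (BT.node (nat_lit 12474688) (BT.leaf (nat_lit 33229081)) (BT.leaf (nat_lit 49967633))) (BT.node (nat_lit 12474880) (BT.leaf (nat_lit 33230357)) (BT.leaf (nat_lit 51360801))))) (BT.node (nat_lit 12475904) (BT.node (nat_lit 12475392) (BT.node (nat_lit 12475072) (BT.leaf (nat_lit 51777569)) (BT.leaf (nat_lit 37639449))) (BT.node (nat_lit 12475520) (BT.leaf (nat_lit 51778081)) (BT.leaf (nat_lit 37639437)))) (BT.node (nat_lit 12476032) (BT.node (nat_lit 12475968) (BT.leaf (nat_lit 36598297)) (BT.leaf (nat_lit 37024021))) (BT.node (nat_lit 12476096) (BT.leaf (nat_lit 35052293)) (BT.leaf (nat_lit 34303521))))))) (BT.node (nat_lit 12477312) (BT.node (nat_lit 12476608) (BT.node (nat_lit 12476352) (BT.node (nat_lit 12476228) (BT.node (nat_lit 12476224) (BT.leaf (nat_lit 36736009)) (BT.leaf (nat_lit 33236757))) (BT.node (nat_lit 12476288) (BT.leaf (nat_lit 793196)) (BT.leaf (nat_lit 33237509)))) (BT.node (nat_lit 12476480) (BT.node (nat_lit 12476416) (BT.leaf (nat_lit 51552533)) (BT.leaf (nat_lit 33239317))) (BT.node (nat_lit 12476544) (BT.leaf (nat_lit 33239573)) (BT.leaf (nat_lit 33240093))))) (BT.node (nat_lit 12476864) (BT.node (nat_lit 12476736) (BT.node (nat_lit 12476672) (BT.leaf (nat_lit 49014789)) (BT.leaf (nat_lit 33242641))) (BT.node (nat_lit 12476800) (BT.leaf (nat_lit 33242897)) (BT.leaf (nat_lit 33243409)))) (BT.node (nat_lit 12477120) (BT.node (nat_lit 12477056) (BT.leaf (nat_lit 33244441)) (BT.leaf (nat_lit 51626005))) (BT.node (nat_lit 12477248) (BT.leaf (nat_lit 51699233)) (BT.leaf (nat_lit 33246493)))))) (BT.node (nat_lit 12477760) (BT.node (nat_lit 12477632) (BT.node (nat_lit 12477440) (BT.node (nat_lit 12477376) (BT.leaf (nat_lit 47319813)) (BT.leaf (nat_lit 33248273))) (BT.node (nat_lit 12477509) (BT.leaf (nat_lit 35206917)) (BT.leaf (nat_lit 803316)))) (BT.node (nat_lit 12477696) (BT.node (nat_lit 12477636) (BT.leaf (nat_lit 36721681)) (BT.leaf (nat_lit 811140))) (BT.node (nat_lit 12477701) (BT.leaf (nat_lit 36721685)) (BT.leaf (nat_lit 811144))))) (BT.node (nat_lit 12478016) (BT.node (nat_lit 12477888) (BT.node (nat_lit 12477824) (BT.leaf (nat_lit 33250321)) (BT.leaf (nat_lit 35741725))) (BT.node (nat_lit 12477952) (BT.leaf (nat_lit 33251345)) (BT.leaf (nat_lit 33253137)))) (BT.node (nat_lit 12478144) (BT.node (nat_lit 12478080) (BT.leaf (nat_lit 33254417)) (BT.leaf (nat_lit 49906445))) (BT.node (nat_lit 12478208) (BT.leaf (nat_lit 49919009)) (BT.leaf (nat_lit 49919237))))))))))) (BT.node (nat_lit 12500032) (BT.node (nat_lit 12487936) (BT.node (nat_lit 12482624) (BT.node (nat_lit 12480320) (BT.node (nat_lit 12479302) (BT.node (nat_lit 12478784) (BT.node (nat_lit 12478528) (BT.node (nat_lit 12478400) (BT.node (nat_lit 12478336) (BT.leaf (nat_lit 50648069)) (BT.leaf (nat_lit 33258513))) (BT.node (nat_lit 12478464) (BT.leaf (nat_lit 34905105)) (BT.leaf (nat_lit 51418909)))) (BT.node (nat_lit 12478656) (BT.node (nat_lit 12478592) (BT.leaf (nat_lit 33359125)) (BT.leaf (nat_lit 33359377))) (BT.node (nat_lit 12478720) (BT.leaf (nat_lit 35818781)) (BT.leaf (nat_lit 35810053))))) (BT.node (nat_lit 12479104) (BT.node (nat_lit 12479040) (BT.node (nat_lit 12478912) (BT.leaf (nat_lit 47473165)) (BT.leaf (nat_lit 50066453))) (BT.node (nat_lit 12479044) (BT.leaf (nat_lit 33262109)) (BT.leaf (nat_lit 792840)))) (BT.node (nat_lit 12479232) (BT.node (nat_lit 12479168) (BT.leaf (nat_lit 35406357)) (BT.leaf (nat_lit 33266465))) (BT.node (nat_lit 12479296) (BT.leaf (nat_lit 33267733)) (BT.leaf (nat_lit 51420685)))))) (BT.node (nat_lit 12479808) (BT.node (nat_lit 12479552) (BT.node (nat_lit 12479424) (BT.node (nat_lit 12479360) (BT.leaf (nat_lit 804332)) (BT.leaf (nat_lit 47949329))) (BT.node (nat_lit 12479488) (BT.leaf (nat_lit 46473745)) (BT.leaf (nat_lit 33899781)))) (BT.node (nat_lit 12479680) (BT.node (nat_lit 12479616) (BT.leaf (nat_lit 33271569)) (BT.leaf (nat_lit 33271825))) (BT.node (nat_lit 12479744) (BT.leaf (nat_lit 33272081)) (BT.leaf (nat_lit 36233749))))) (BT.node (nat_lit 12480064) (BT.node (nat_lit 12479936) (BT.node (nat_lit 12479872) (BT.leaf (nat_lit 36234001)) (BT.leaf (nat_lit 51420677))) (BT.node (nat_lit 12480000) (BT.leaf (nat_lit 40321045)) (BT.leaf (nat_lit 50086425)))) (BT.node (nat_lit 12480192) (BT.node (nat_lit 12480128) (BT.leaf (nat_lit 36565017)) (BT.leaf (nat_lit 33872913))) (BT.node (nat_lit 12480256) (BT.leaf (nat_lit 36463393)) (BT.leaf (nat_lit 37772805))))))) (BT.node (nat_lit 12481408) (BT.node (nat_lit 12480896) (BT.node (nat_lit 12480640) (BT.node (nat_lit 12480512) (BT.node (nat_lit 12480384) (BT.leaf (nat_lit 51147809)) (BT.leaf (nat_lit 33276689))) (BT.node (nat_lit 12480576) (BT.leaf (nat_lit 49056777)) (BT.leaf (nat_lit 33277729)))) (BT.node (nat_lit 12480768) (BT.node (nat_lit 12480704) (BT.leaf (nat_lit 51611673)) (BT.leaf (nat_lit 50497821))) (BT.node (nat_lit 12480832) (BT.leaf (nat_lit 47266309)) (BT.leaf (nat_lit 36638497))))) (BT.node (nat_lit 12481152) (BT.node (nat_lit 12481024) (BT.node (nat_lit 12480960) (BT.leaf (nat_lit 51450145)) (BT.leaf (nat_lit 51672345))) (BT.node (nat_lit 12481088) (BT.leaf (nat_lit 33279765)) (BT.leaf (nat_lit 35995673)))) (BT.node (nat_lit 12481280) (BT.node (nat_lit 12481216) (BT.leaf (nat_lit 46822409)) (BT.leaf (nat_lit 33281045))) (BT.node (nat_lit 12481344) (BT.leaf (nat_lit 51289377)) (BT.leaf (nat_lit 50525981)))))) (BT.node (nat_lit 12481984) (BT.node (nat_lit 12481607) (BT.node (nat_lit 12481603) (BT.node (nat_lit 12481472) (BT.leaf (nat_lit 47313933)) (BT.leaf (nat_lit 33282321))) (BT.node (nat_lit 12481606) (BT.leaf (nat_lit 782180)) (BT.leaf (nat_lit 782180)))) (BT.node (nat_lit 12481792) (BT.node (nat_lit 12481728) (BT.leaf (nat_lit 782180)) (BT.leaf (nat_lit 33283089))) (BT.node (nat_lit 12481856) (BT.leaf (nat_lit 50965765)) (BT.leaf (nat_lit 33284121))))) (BT.node (nat_lit 12482304) (BT.node (nat_lit 12482112) (BT.node (nat_lit 12482048) (BT.leaf (nat_lit 50480661)) (BT.leaf (nat_lit 49835525))) (BT.node (nat_lit 12482240) (BT.leaf (nat_lit 50297377)) (BT.leaf (nat_lit 33287953)))) (BT.node (nat_lit 12482496) (BT.node (nat_lit 12482432) (BT.leaf (nat_lit 34793485)) (BT.leaf (nat_lit 36049949))) (BT.node (nat_lit 12482560) (BT.leaf (nat_lit 33290513)) (BT.leaf (nat_lit 33291037)))))))) (BT.node (nat_lit 12485376) (BT.node (nat_lit 12484160) (BT.node (nat_lit 12483648) (BT.node (nat_lit 12483328) (BT.node (nat_lit 12483072) (BT.node (nat_lit 12482688) (BT.leaf (nat_lit 33291793)) (BT.leaf (nat_lit 36076293))) (BT.node (nat_lit 12483200) (BT.leaf (nat_lit 36334621)) (BT.leaf (nat_lit 33295125)))) (BT.node (nat_lit 12483520) (BT.node (nat_lit 12483392) (BT.leaf (nat_lit 34521349)) (BT.leaf (nat_lit 33297169))) (BT.node (nat_lit 12483584) (BT.leaf (nat_lit 36097813)) (BT.leaf (nat_lit 33297689))))) (BT.node (nat_lit 12483904) (BT.node (nat_lit 12483776) (BT.node (nat_lit 12483712) (BT.leaf (nat_lit 51128853)) (BT.leaf (nat_lit 33298709))) (BT.node (nat_lit 12483840) (BT.leaf (nat_lit 34346777)) (BT.leaf (nat_lit 34174481)))) (BT.node (nat_lit 12484032) (BT.node (nat_lit 12483968) (BT.leaf (nat_lit 48017177)) (BT.leaf (nat_lit 49881861))) (BT.node (nat_lit 12484096) (BT.leaf (nat_lit 48232481)) (BT.leaf (nat_lit 34950177)))))) (BT.node (nat_lit 12484800) (BT.node (nat_lit 12484480) (BT.node (nat_lit 12484288) (BT.node (nat_lit 12484224) (BT.leaf (nat_lit 33302545)) (BT.leaf (nat_lit 33304097))) (BT.node (nat_lit 12484416) (BT.leaf (nat_lit 33303841)) (BT.leaf (nat_lit 49937949)))) (BT.node (nat_lit 12484672) (BT.node (nat_lit 12484608) (BT.leaf (nat_lit 52208645)) (BT.leaf (nat_lit 52419105))) (BT.node (nat_lit 12484736) (BT.leaf (nat_lit 33829397)) (BT.leaf (nat_lit 33304849))))) (BT.node (nat_lit 12485056) (BT.node (nat_lit 12484928) (BT.node (nat_lit 12484864) (BT.leaf (nat_lit 49814293)) (BT.leaf (nat_lit 33305621))) (BT.node (nat_lit 12484992) (BT.leaf (nat_lit 33305629)) (BT.leaf (nat_lit 33305873)))) (BT.node (nat_lit 12485184) (BT.node (nat_lit 12485120) (BT.leaf (nat_lit 36983061)) (BT.leaf (nat_lit 46779925))) (BT.node (nat_lit 12485248) (BT.leaf (nat_lit 46777357)) (BT.leaf (nat_lit 46777369))))))) (BT.node (nat_lit 12486720) (BT.node (nat_lit 12485888) (BT.node (nat_lit 12485632) (BT.node (nat_lit 12485504) (BT.node (nat_lit 12485440) (BT.leaf (nat_lit 33309205)) (BT.leaf (nat_lit 33308693))) (BT.node (nat_lit 12485568) (BT.leaf (nat_lit 33309453)) (BT.leaf (nat_lit 33310217)))) (BT.node (nat_lit 12485760) (BT.node (nat_lit 12485696) (BT.leaf (nat_lit 33309449)) (BT.leaf (nat_lit 33309213))) (BT.node (nat_lit 12485824) (BT.leaf (nat_lit 33309445)) (BT.leaf (nat_lit 49943581))))) (BT.node (nat_lit 12486272) (BT.node (nat_lit 12486144) (BT.node (nat_lit 12486080) (BT.leaf (nat_lit 48308753)) (BT.leaf (nat_lit 33310213))) (BT.node (nat_lit 12486208) (BT.leaf (nat_lit 48286241)) (BT.leaf (nat_lit 48286497)))) (BT.node (nat_lit 12486592) (BT.node (nat_lit 12486528) (BT.leaf (nat_lit 33310741)) (BT.leaf (nat_lit 35850009))) (BT.node (nat_lit 12486656) (BT.leaf (nat_lit 49873173)) (BT.leaf (nat_lit 33314321)))))) (BT.node (nat_lit 12487296) (BT.node (nat_lit 12487040) (BT.node (nat_lit 12486912) (BT.node (nat_lit 12486784) (BT.leaf (nat_lit 48674581)) (BT.leaf (nat_lit 33314833))) (BT.node (nat_lit 12486976) (BT.leaf (nat_lit 51178501)) (BT.leaf (nat_lit 33318173)))) (BT.node (nat_lit 12487168) (BT.node (nat_lit 12487104) (BT.leaf (nat_lit 51199509)) (BT.leaf (nat_lit 33318429))) (BT.node (nat_lit 12487232) (BT.leaf (nat_lit 52258581)) (BT.leaf (nat_lit 33320977))))) (BT.node (nat_lit 12487616) (BT.node (nat_lit 12487424) (BT.node (nat_lit 12487360) (BT.leaf (nat_lit 34903813)) (BT.leaf (nat_lit 33322001))) (BT.node (nat_lit 12487552) (BT.leaf (nat_lit 51169797)) (BT.leaf (nat_lit 34363929)))) (BT.node (nat_lit 12487808) (BT.node (nat_lit 12487680) (BT.leaf (nat_lit 33323793)) (BT.leaf (nat_lit 50298145))) (BT.node (nat_lit 12487872) (BT.leaf (nat_lit 52110113)) (BT.leaf (nat_lit 34076433))))))))) (BT.node (nat_lit 12494144) (BT.node (nat_lit 12490560) (BT.node (nat_lit 12489344) (BT.node (nat_lit 12488512) (BT.node (nat_lit 12488192) (BT.node (nat_lit 12488064) (BT.node (nat_lit 12488000) (BT.leaf (nat_lit 33325589)) (BT.leaf (nat_lit 33326089))) (BT.node (nat_lit 12488128) (BT.leaf (nat_lit 33326097)) (BT.leaf (nat_lit 33326109)))) (BT.node (nat_lit 12488384) (BT.node (nat_lit 12488320) (BT.leaf (nat_lit 33326357)) (BT.leaf (nat_lit 48655621))) (BT.node (nat_lit 12488448) (BT.leaf (nat_lit 33327625)) (BT.leaf (nat_lit 33327629))))) (BT.node (nat_lit 12488768) (BT.node (nat_lit 12488640) (BT.node (nat_lit 12488576) (BT.leaf (nat_lit 33327641)) (BT.leaf (nat_lit 33327889))) (BT.node (nat_lit 12488704) (BT.leaf (nat_lit 33329169)) (BT.leaf (nat_lit 52172805)))) (BT.node (nat_lit 12489216) (BT.node (nat_lit 12488832) (BT.leaf (nat_lit 33329945)) (BT.leaf (nat_lit 33330197))) (BT.node (nat_lit 12489280) (BT.leaf (nat_lit 35555349)) (BT.leaf (nat_lit 49958165)))))) (BT.node (nat_lit 12489856) (BT.node (nat_lit 12489600) (BT.node (nat_lit 12489479) (BT.node (nat_lit 12489472) (BT.leaf (nat_lit 50794273)) (BT.leaf (nat_lit 33331729))) (BT.node (nat_lit 12489536) (BT.leaf (nat_lit 802724)) (BT.leaf (nat_lit 51592993)))) (BT.node (nat_lit 12489728) (BT.node (nat_lit 12489664) (BT.leaf (nat_lit 51592989)) (BT.leaf (nat_lit 33332753))) (BT.node (nat_lit 12489732) (BT.leaf (nat_lit 33331997)) (BT.leaf (nat_lit 802720))))) (BT.node (nat_lit 12490304) (BT.node (nat_lit 12490048) (BT.node (nat_lit 12489920) (BT.leaf (nat_lit 33332245)) (BT.leaf (nat_lit 50794253))) (BT.node (nat_lit 12490176) (BT.leaf (nat_lit 51592969)) (BT.leaf (nat_lit 50142217)))) (BT.node (nat_lit 12490432) (BT.node (nat_lit 12490368) (BT.leaf (nat_lit 33333781)) (BT.leaf (nat_lit 33334033))) (BT.node (nat_lit 12490496) (BT.leaf (nat_lit 36018957)) (BT.leaf (nat_lit 46524437))))))) (BT.node (nat_lit 12492224) (BT.node (nat_lit 12491712) (BT.node (nat_lit 12491008) (BT.node (nat_lit 12490880) (BT.node (nat_lit 12490688) (BT.leaf (nat_lit 33339409)) (BT.leaf (nat_lit 33340945))) (BT.node (nat_lit 12490944) (BT.leaf (nat_lit 33343261)) (BT.leaf (nat_lit 33344017)))) (BT.node (nat_lit 12491392) (BT.node (nat_lit 12491328) (BT.leaf (nat_lit 33344529)) (BT.leaf (nat_lit 46842645))) (BT.node (nat_lit 12491648) (BT.leaf (nat_lit 51380241)) (BT.leaf (nat_lit 46397209))))) (BT.node (nat_lit 12491968) (BT.node (nat_lit 12491840) (BT.node (nat_lit 12491776) (BT.leaf (nat_lit 33351697)) (BT.leaf (nat_lit 51502341))) (BT.node (nat_lit 12491904) (BT.leaf (nat_lit 33352209)) (BT.leaf (nat_lit 33352469)))) (BT.node (nat_lit 12492096) (BT.node (nat_lit 12492032) (BT.leaf (nat_lit 33352477)) (BT.leaf (nat_lit 33353493))) (BT.node (nat_lit 12492160) (BT.leaf (nat_lit 33353233)) (BT.leaf (nat_lit 47229713)))))) (BT.node (nat_lit 12493312) (BT.node (nat_lit 12492608) (BT.node (nat_lit 12492416) (BT.node (nat_lit 12492352) (BT.leaf (nat_lit 51423765)) (BT.leaf (nat_lit 33355805))) (BT.node (nat_lit 12492544) (BT.leaf (nat_lit 33356305)) (BT.leaf (nat_lit 33357073)))) (BT.node (nat_lit 12492864) (BT.node (nat_lit 12492800) (BT.leaf (nat_lit 33358357)) (BT.leaf (nat_lit 33359121))) (BT.node (nat_lit 12492992) (BT.leaf (nat_lit 33360645)) (BT.leaf (nat_lit 33362449))))) (BT.node (nat_lit 12493632) (BT.node (nat_lit 12493504) (BT.node (nat_lit 12493440) (BT.leaf (nat_lit 34743301)) (BT.leaf (nat_lit 37417997))) (BT.node (nat_lit 12493568) (BT.leaf (nat_lit 37398021)) (BT.leaf (nat_lit 37419033)))) (BT.node (nat_lit 12493824) (BT.node (nat_lit 12493760) (BT.leaf (nat_lit 51220761)) (BT.leaf (nat_lit 51211525))) (BT.node (nat_lit 12494080) (BT.leaf (nat_lit 33367061)) (BT.leaf (nat_lit 33912349)))))))) (BT.node (nat_lit 12496960) (BT.node (nat_lit 12495360) (BT.node (nat_lit 12494720) (BT.node (nat_lit 12494464) (BT.node (nat_lit 12494272) (BT.node (nat_lit 12494208) (BT.leaf (nat_lit 46380573)) (BT.leaf (nat_lit 51383065))) (BT.node (nat_lit 12494400) (BT.leaf (nat_lit 33368349)) (BT.leaf (nat_lit 35437329)))) (BT.node (nat_lit 12494592) (BT.node (nat_lit 12494528) (BT.leaf (nat_lit 48553241)) (BT.leaf (nat_lit 33370897))) (BT.node (nat_lit 12494656) (BT.leaf (nat_lit 33371153)) (BT.leaf (nat_lit 33371409))))) (BT.node (nat_lit 12494976) (BT.node (nat_lit 12494848) (BT.node (nat_lit 12494784) (BT.leaf (nat_lit 33371665)) (BT.leaf (nat_lit 36630813))) (BT.node (nat_lit 12494912) (BT.leaf (nat_lit 52379669)) (BT.leaf (nat_lit 33375505)))) (BT.node (nat_lit 12495168) (BT.node (nat_lit 12495104) (BT.leaf (nat_lit 33375261)) (BT.leaf (nat_lit 36305929))) (BT.node (nat_lit 12495296) (BT.leaf (nat_lit 33376525)) (BT.leaf (nat_lit 36605973)))))) (BT.node (nat_lit 12496128) (BT.node (nat_lit 12495616) (BT.node (nat_lit 12495488) (BT.node (nat_lit 12495424) (BT.leaf (nat_lit 33377297)) (BT.leaf (nat_lit 35783701))) (BT.node (nat_lit 12495552) (BT.leaf (nat_lit 33378073)) (BT.leaf (nat_lit 33378077)))) (BT.node (nat_lit 12495808) (BT.node (nat_lit 12495744) (BT.leaf (nat_lit 33380121)) (BT.leaf (nat_lit 33380625))) (BT.node (nat_lit 12495936) (BT.leaf (nat_lit 50457605)) (BT.leaf (nat_lit 47104005))))) (BT.node (nat_lit 12496640) (BT.node (nat_lit 12496320) (BT.node (nat_lit 12496256) (BT.leaf (nat_lit 50628385)) (BT.leaf (nat_lit 33383965))) (BT.node (nat_lit 12496384) (BT.leaf (nat_lit 33384217)) (BT.leaf (nat_lit 41263121)))) (BT.node (nat_lit 12496711) (BT.node (nat_lit 12496704) (BT.leaf (nat_lit 51909905)) (BT.leaf (nat_lit 33387025))) (BT.node (nat_lit 12496832) (BT.leaf (nat_lit 785880)) (BT.leaf (nat_lit 33387289))))))) (BT.node (nat_lit 12498304) (BT.node (nat_lit 12497536) (BT.node (nat_lit 12497280) (BT.node (nat_lit 12497152) (BT.node (nat_lit 12497088) (BT.leaf (nat_lit 42514449)) (BT.leaf (nat_lit 46514961))) (BT.node (nat_lit 12497216) (BT.leaf (nat_lit 50395661)) (BT.leaf (nat_lit 33389321)))) (BT.node (nat_lit 12497408) (BT.node (nat_lit 12497344) (BT.leaf (nat_lit 33389325)) (BT.leaf (nat_lit 33389337))) (BT.node (nat_lit 12497472) (BT.leaf (nat_lit 46319893)) (BT.leaf (nat_lit 35616029))))) (BT.node (nat_lit 12497856) (BT.node (nat_lit 12497664) (BT.node (nat_lit 12497600) (BT.leaf (nat_lit 33389845)) (BT.leaf (nat_lit 51821065))) (BT.node (nat_lit 12497792) (BT.leaf (nat_lit 46638341)) (BT.leaf (nat_lit 33395737)))) (BT.node (nat_lit 12498048) (BT.node (nat_lit 12497920) (BT.leaf (nat_lit 33395981)) (BT.leaf (nat_lit 33396001))) (BT.node (nat_lit 12498240) (BT.leaf (nat_lit 52102153)) (BT.leaf (nat_lit 36787233)))))) (BT.node (nat_lit 12499328) (BT.node (nat_lit 12498688) (BT.node (nat_lit 12498496) (BT.node (nat_lit 12498368) (BT.leaf (nat_lit 33397009)) (BT.leaf (nat_lit 33397013))) (BT.node (nat_lit 12498624) (BT.leaf (nat_lit 33397789)) (BT.leaf (nat_lit 33398301)))) (BT.node (nat_lit 12498944) (BT.node (nat_lit 12498880) (BT.leaf (nat_lit 33398545)) (BT.leaf (nat_lit 33399065))) (BT.node (nat_lit 12499264) (BT.leaf (nat_lit 33399069)) (BT.leaf (nat_lit 33401361))))) (BT.node (nat_lit 12499712) (BT.node (nat_lit 12499584) (BT.node (nat_lit 12499392) (BT.leaf (nat_lit 33401113)) (BT.leaf (nat_lit 35621129))) (BT.node (nat_lit 12499648) (BT.leaf (nat_lit 35621641)) (BT.leaf (nat_lit 33402385)))) (BT.node (nat_lit 12499904) (BT.node (nat_lit 12499840) (BT.leaf (nat_lit 33403409)) (BT.leaf (nat_lit 51867153))) (BT.node (nat_lit 12499968) (BT.leaf (nat_lit 33405209)) (BT.leaf (nat_lit 33407249)))))))))) (BT.node (nat_lit 12510208) (BT.node (nat_lit 12505152) (BT.node (nat_lit 12502400) (BT.node (nat_lit 12501440) (BT.node (nat_lit 12500864) (BT.node (nat_lit 12500480) (BT.node (nat_lit 12500224) (BT.node (nat_lit 12500160) (BT.leaf (nat_lit 50928901)) (BT.leaf (nat_lit 51564065))) (BT.node (nat_lit 12500288) (BT.leaf (nat_lit 33409809)) (BT.leaf (nat_lit 50043673)))) (BT.node (nat_lit 12500736) (BT.node (nat_lit 12500608) (BT.leaf (nat_lit 33410593)) (BT.leaf (nat_lit 33411093))) (BT.node (nat_lit 12500800) (BT.leaf (nat_lit 33412121)) (BT.leaf (nat_lit 33412125))))) (BT.node (nat_lit 12501184) (BT.node (nat_lit 12500992) (BT.node (nat_lit 12500928) (BT.leaf (nat_lit 47486229)) (BT.leaf (nat_lit 34329873))) (BT.node (nat_lit 12501056) (BT.leaf (nat_lit 50605089)) (BT.leaf (nat_lit 50341125)))) (BT.node (nat_lit 12501312) (BT.node (nat_lit 12501248) (BT.leaf (nat_lit 33413401)) (BT.leaf (nat_lit 47080725))) (BT.node (nat_lit 12501376) (BT.leaf (nat_lit 33414161)) (BT.leaf (nat_lit 35748885)))))) (BT.node (nat_lit 12501952) (BT.node (nat_lit 12501699) (BT.node (nat_lit 12501568) (BT.node (nat_lit 12501504) (BT.leaf (nat_lit 50127113)) (BT.leaf (nat_lit 50005785))) (BT.node (nat_lit 12501632) (BT.leaf (nat_lit 33415945)) (BT.leaf (nat_lit 35059973)))) (BT.node (nat_lit 12501824) (BT.node (nat_lit 12501760) (BT.leaf (nat_lit 816032)) (BT.leaf (nat_lit 33417737))) (BT.node (nat_lit 12501888) (BT.leaf (nat_lit 33417741)) (BT.leaf (nat_lit 33417753))))) (BT.node (nat_lit 12502144) (BT.node (nat_lit 12502019) (BT.node (nat_lit 12502016) (BT.leaf (nat_lit 33417757)) (BT.leaf (nat_lit 33418517))) (BT.node (nat_lit 12502080) (BT.leaf (nat_lit 803176)) (BT.leaf (nat_lit 35925769)))) (BT.node (nat_lit 12502272) (BT.node (nat_lit 12502208) (BT.leaf (nat_lit 50965537)) (BT.leaf (nat_lit 35600161))) (BT.node (nat_lit 12502336) (BT.leaf (nat_lit 35728413)) (BT.leaf (nat_lit 33975813))))))) (BT.node (nat_lit 12503616) (BT.node (nat_lit 12503040) (BT.node (nat_lit 12502784) (BT.node (nat_lit 12502656) (BT.node (nat_lit 12502528) (BT.leaf (nat_lit 35802377)) (BT.leaf (nat_lit 51820305))) (BT.node (nat_lit 12502720) (BT.leaf (nat_lit 33422605)) (BT.leaf (nat_lit 33423125)))) (BT.node (nat_lit 12502912) (BT.node (nat_lit 12502848) (BT.leaf (nat_lit 33899037)) (BT.leaf (nat_lit 33510933))) (BT.node (nat_lit 12502976) (BT.leaf (nat_lit 51650565)) (BT.leaf (nat_lit 36686353))))) (BT.node (nat_lit 12503360) (BT.node (nat_lit 12503168) (BT.node (nat_lit 12503104) (BT.leaf (nat_lit 33425941)) (BT.leaf (nat_lit 33426193))) (BT.node (nat_lit 12503232) (BT.leaf (nat_lit 51280649)) (BT.leaf (nat_lit 36566533)))) (BT.node (nat_lit 12503488) (BT.node (nat_lit 12503424) (BT.leaf (nat_lit 47556121)) (BT.leaf (nat_lit 33429529))) (BT.node (nat_lit 12503552) (BT.leaf (nat_lit 51069701)) (BT.leaf (nat_lit 33431057)))))) (BT.node (nat_lit 12504256) (BT.node (nat_lit 12504064) (BT.node (nat_lit 12503872) (BT.node (nat_lit 12503744) (BT.leaf (nat_lit 33430809)) (BT.leaf (nat_lit 47874585))) (BT.node (nat_lit 12503936) (BT.leaf (nat_lit 50562581)) (BT.leaf (nat_lit 33435665)))) (BT.node (nat_lit 12504128) (BT.node (nat_lit 12504066) (BT.leaf (nat_lit 47474709)) (BT.leaf (nat_lit 796136))) (BT.node (nat_lit 12504192) (BT.leaf (nat_lit 33438225)) (BT.leaf (nat_lit 33438481))))) (BT.node (nat_lit 12504640) (BT.node (nat_lit 12504384) (BT.node (nat_lit 12504320) (BT.leaf (nat_lit 36882693)) (BT.leaf (nat_lit 51160841))) (BT.node (nat_lit 12504512) (BT.leaf (nat_lit 50952197)) (BT.leaf (nat_lit 33447181)))) (BT.node (nat_lit 12504768) (BT.node (nat_lit 12504704) (BT.leaf (nat_lit 46801941)) (BT.leaf (nat_lit 33447445))) (BT.node (nat_lit 12504772) (BT.leaf (nat_lit 33447961)) (BT.leaf (nat_lit 785936)))))))) (BT.node (nat_lit 12507904) (BT.node (nat_lit 12506496) (BT.node (nat_lit 12505920) (BT.node (nat_lit 12505472) (BT.node (nat_lit 12505280) (BT.node (nat_lit 12505216) (BT.leaf (nat_lit 51346181)) (BT.leaf (nat_lit 33452313))) (BT.node (nat_lit 12505408) (BT.leaf (nat_lit 33452317)) (BT.leaf (nat_lit 37526801)))) (BT.node (nat_lit 12505600) (BT.node (nat_lit 12505536) (BT.leaf (nat_lit 33453597)) (BT.leaf (nat_lit 37526805))) (BT.node (nat_lit 12505856) (BT.leaf (nat_lit 52009753)) (BT.leaf (nat_lit 48649489))))) (BT.node (nat_lit 12506176) (BT.node (nat_lit 12506048) (BT.node (nat_lit 12505984) (BT.leaf (nat_lit 50344737)) (BT.leaf (nat_lit 52100377))) (BT.node (nat_lit 12506112) (BT.leaf (nat_lit 33456661)) (BT.leaf (nat_lit 49804821)))) (BT.node (nat_lit 12506368) (BT.node (nat_lit 12506240) (BT.leaf (nat_lit 33458205)) (BT.leaf (nat_lit 51773977))) (BT.node (nat_lit 12506432) (BT.leaf (nat_lit 51656977)) (BT.leaf (nat_lit 33459473)))))) (BT.node (nat_lit 12507328) (BT.node (nat_lit 12507008) (BT.node (nat_lit 12506816) (BT.node (nat_lit 12506560) (BT.leaf (nat_lit 33460757)) (BT.leaf (nat_lit 35464725))) (BT.node (nat_lit 12506880) (BT.leaf (nat_lit 33461521)) (BT.leaf (nat_lit 33462289)))) (BT.node (nat_lit 12507200) (BT.node (nat_lit 12507136) (BT.leaf (nat_lit 33465105)) (BT.leaf (nat_lit 52431381))) (BT.node (nat_lit 12507264) (BT.leaf (nat_lit 47009549)) (BT.leaf (nat_lit 52232469))))) (BT.node (nat_lit 12507648) (BT.node (nat_lit 12507456) (BT.node (nat_lit 12507392) (BT.leaf (nat_lit 34652445)) (BT.leaf (nat_lit 35629333))) (BT.node (nat_lit 12507520) (BT.leaf (nat_lit 34652425)) (BT.leaf (nat_lit 48769293)))) (BT.node (nat_lit 12507776) (BT.node (nat_lit 12507712) (BT.leaf (nat_lit 33468689)) (BT.leaf (nat_lit 33468961))) (BT.node (nat_lit 12507840) (BT.leaf (nat_lit 33469217)) (BT.leaf (nat_lit 51549977))))))) (BT.node (nat_lit 12509061) (BT.node (nat_lit 12508544) (BT.node (nat_lit 12508160) (BT.node (nat_lit 12508032) (BT.node (nat_lit 12507968) (BT.leaf (nat_lit 33471761)) (BT.leaf (nat_lit 49270277))) (BT.node (nat_lit 12508096) (BT.leaf (nat_lit 46896417)) (BT.leaf (nat_lit 36596497)))) (BT.node (nat_lit 12508416) (BT.node (nat_lit 12508352) (BT.leaf (nat_lit 34149137)) (BT.leaf (nat_lit 46527501))) (BT.node (nat_lit 12508480) (BT.leaf (nat_lit 41452809)) (BT.leaf (nat_lit 36419861))))) (BT.node (nat_lit 12508864) (BT.node (nat_lit 12508736) (BT.node (nat_lit 12508608) (BT.leaf (nat_lit 33477141)) (BT.leaf (nat_lit 51378965))) (BT.node (nat_lit 12508800) (BT.leaf (nat_lit 33477657)) (BT.leaf (nat_lit 33477661)))) (BT.node (nat_lit 12508992) (BT.node (nat_lit 12508928) (BT.leaf (nat_lit 33477905)) (BT.leaf (nat_lit 33478165))) (BT.node (nat_lit 12509056) (BT.leaf (nat_lit 50161941)) (BT.leaf (nat_lit 50105121)))))) (BT.node (nat_lit 12509568) (BT.node (nat_lit 12509312) (BT.node (nat_lit 12509184) (BT.node (nat_lit 12509120) (BT.leaf (nat_lit 782484)) (BT.leaf (nat_lit 34022153))) (BT.node (nat_lit 12509248) (BT.leaf (nat_lit 34022157)) (BT.leaf (nat_lit 33478681)))) (BT.node (nat_lit 12509440) (BT.node (nat_lit 12509376) (BT.leaf (nat_lit 36448517)) (BT.leaf (nat_lit 51756565))) (BT.node (nat_lit 12509504) (BT.leaf (nat_lit 51467033)) (BT.leaf (nat_lit 47026461))))) (BT.node (nat_lit 12509888) (BT.node (nat_lit 12509760) (BT.node (nat_lit 12509696) (BT.leaf (nat_lit 50069021)) (BT.leaf (nat_lit 35730705))) (BT.node (nat_lit 12509824) (BT.leaf (nat_lit 36328481)) (BT.leaf (nat_lit 33483289)))) (BT.node (nat_lit 12510016) (BT.node (nat_lit 12509952) (BT.leaf (nat_lit 35126533)) (BT.leaf (nat_lit 33483805))) (BT.node (nat_lit 12510080) (BT.leaf (nat_lit 33484561)) (BT.leaf (nat_lit 33484817))))))))) (BT.node (nat_lit 12515584) (BT.node (nat_lit 12512896) (BT.node (nat_lit 12511680) (BT.node (nat_lit 12510848) (BT.node (nat_lit 12510464) (BT.node (nat_lit 12510336) (BT.node (nat_lit 12510272) (BT.leaf (nat_lit 33486097)) (BT.leaf (nat_lit 33486353))) (BT.node (nat_lit 12510400) (BT.leaf (nat_lit 33486613)) (BT.leaf (nat_lit 51661601)))) (BT.node (nat_lit 12510720) (BT.node (nat_lit 12510656) (BT.leaf (nat_lit 51563041)) (BT.leaf (nat_lit 52162053))) (BT.node (nat_lit 12510784) (BT.leaf (nat_lit 51308569)) (BT.leaf (nat_lit 51958301))))) (BT.node (nat_lit 12511168) (BT.node (nat_lit 12510976) (BT.node (nat_lit 12510912) (BT.leaf (nat_lit 36639249)) (BT.leaf (nat_lit 36638993))) (BT.node (nat_lit 12511104) (BT.leaf (nat_lit 33488153)) (BT.leaf (nat_lit 50755105)))) (BT.node (nat_lit 12511488) (BT.node (nat_lit 12511296) (BT.leaf (nat_lit 33488401)) (BT.leaf (nat_lit 51563269))) (BT.node (nat_lit 12511552) (BT.leaf (nat_lit 37322773)) (BT.leaf (nat_lit 51336213)))))) (BT.node (nat_lit 12512192) (BT.node (nat_lit 12511936) (BT.node (nat_lit 12511808) (BT.node (nat_lit 12511744) (BT.leaf (nat_lit 51565573)) (BT.leaf (nat_lit 33490197))) (BT.node (nat_lit 12511872) (BT.leaf (nat_lit 50043925)) (BT.leaf (nat_lit 37097733)))) (BT.node (nat_lit 12512064) (BT.node (nat_lit 12512000) (BT.leaf (nat_lit 36802845)) (BT.leaf (nat_lit 50043677))) (BT.node (nat_lit 12512128) (BT.leaf (nat_lit 33492241)) (BT.leaf (nat_lit 52009493))))) (BT.node (nat_lit 12512640) (BT.node (nat_lit 12512448) (BT.node (nat_lit 12512320) (BT.leaf (nat_lit 50598421)) (BT.leaf (nat_lit 33494553))) (BT.node (nat_lit 12512512) (BT.leaf (nat_lit 44742425)) (BT.leaf (nat_lit 33495073)))) (BT.node (nat_lit 12512768) (BT.node (nat_lit 12512704) (BT.leaf (nat_lit 48787721)) (BT.leaf (nat_lit 33497881))) (BT.node (nat_lit 12512832) (BT.leaf (nat_lit 49941013)) (BT.leaf (nat_lit 33500437))))))) (BT.node (nat_lit 12514240) (BT.node (nat_lit 12513536) (BT.node (nat_lit 12513216) (BT.node (nat_lit 12513088) (BT.node (nat_lit 12513024) (BT.leaf (nat_lit 33500689)) (BT.leaf (nat_lit 47410449))) (BT.node (nat_lit 12513152) (BT.leaf (nat_lit 49819161)) (BT.leaf (nat_lit 33501717)))) (BT.node (nat_lit 12513344) (BT.node (nat_lit 12513280) (BT.leaf (nat_lit 50390801)) (BT.leaf (nat_lit 33502233))) (BT.node (nat_lit 12513408) (BT.leaf (nat_lit 33502241)) (BT.leaf (nat_lit 36418317))))) (BT.node (nat_lit 12513856) (BT.node (nat_lit 12513728) (BT.node (nat_lit 12513664) (BT.leaf (nat_lit 33503773)) (BT.leaf (nat_lit 33504529))) (BT.node (nat_lit 12513792) (BT.leaf (nat_lit 33504793)) (BT.leaf (nat_lit 33504797)))) (BT.node (nat_lit 12514112) (BT.node (nat_lit 12514048) (BT.leaf (nat_lit 33505049)) (BT.leaf (nat_lit 36396561))) (BT.node (nat_lit 12514176) (BT.leaf (nat_lit 41272593)) (BT.leaf (nat_lit 36974097)))))) (BT.node (nat_lit 12514944) (BT.node (nat_lit 12514496) (BT.node (nat_lit 12514368) (BT.node (nat_lit 12514304) (BT.leaf (nat_lit 33507617)) (BT.leaf (nat_lit 34311441))) (BT.node (nat_lit 12514432) (BT.leaf (nat_lit 50852125)) (BT.leaf (nat_lit 33612829)))) (BT.node (nat_lit 12514752) (BT.node (nat_lit 12514688) (BT.leaf (nat_lit 33510677)) (BT.leaf (nat_lit 33511689))) (BT.node (nat_lit 12514880) (BT.leaf (nat_lit 48543509)) (BT.leaf (nat_lit 33512465))))) (BT.node (nat_lit 12515205) (BT.node (nat_lit 12515136) (BT.node (nat_lit 12515072) (BT.leaf (nat_lit 35214613)) (BT.leaf (nat_lit 37050897))) (BT.node (nat_lit 12515200) (BT.leaf (nat_lit 46573085)) (BT.leaf (nat_lit 37637917)))) (BT.node (nat_lit 12515456) (BT.node (nat_lit 12515392) (BT.leaf (nat_lit 797608)) (BT.leaf (nat_lit 33515037))) (BT.node (nat_lit 12515520) (BT.leaf (nat_lit 33515793)) (BT.leaf (nat_lit 33515541)))))))) (BT.node (nat_lit 12517952) (BT.node (nat_lit 12516672) (BT.node (nat_lit 12516096) (BT.node (nat_lit 12515840) (BT.node (nat_lit 12515712) (BT.node (nat_lit 12515648) (BT.leaf (nat_lit 33515545)) (BT.leaf (nat_lit 33515549))) (BT.node (nat_lit 12515776) (BT.leaf (nat_lit 33516305)) (BT.leaf (nat_lit 33516561)))) (BT.node (nat_lit 12515968) (BT.node (nat_lit 12515904) (BT.leaf (nat_lit 33517329)) (BT.leaf (nat_lit 33517081))) (BT.node (nat_lit 12516032) (BT.leaf (nat_lit 33517085)) (BT.leaf (nat_lit 33518357))))) (BT.node (nat_lit 12516352) (BT.node (nat_lit 12516224) (BT.node (nat_lit 12516160) (BT.leaf (nat_lit 33519121)) (BT.leaf (nat_lit 50971141))) (BT.node (nat_lit 12516288) (BT.leaf (nat_lit 33519889)) (BT.leaf (nat_lit 33520145)))) (BT.node (nat_lit 12516544) (BT.node (nat_lit 12516416) (BT.leaf (nat_lit 33520657)) (BT.leaf (nat_lit 33520917))) (BT.node (nat_lit 12516608) (BT.leaf (nat_lit 33522197)) (BT.leaf (nat_lit 33522961)))))) (BT.node (nat_lit 12517248) (BT.node (nat_lit 12516928) (BT.node (nat_lit 12516800) (BT.node (nat_lit 12516736) (BT.leaf (nat_lit 33523213)) (BT.leaf (nat_lit 33523989))) (BT.node (nat_lit 12516864) (BT.leaf (nat_lit 49810453)) (BT.leaf (nat_lit 50292757)))) (BT.node (nat_lit 12517125) (BT.node (nat_lit 12517120) (BT.leaf (nat_lit 33525525)) (BT.leaf (nat_lit 51101189))) (BT.node (nat_lit 12517184) (BT.leaf (nat_lit 811372)) (BT.leaf (nat_lit 33527065))))) (BT.node (nat_lit 12517696) (BT.node (nat_lit 12517440) (BT.node (nat_lit 12517312) (BT.leaf (nat_lit 33527825)) (BT.leaf (nat_lit 33529097))) (BT.node (nat_lit 12517632) (BT.leaf (nat_lit 33529101)) (BT.leaf (nat_lit 47021081)))) (BT.node (nat_lit 12517824) (BT.node (nat_lit 12517760) (BT.leaf (nat_lit 33531401)) (BT.leaf (nat_lit 36463369))) (BT.node (nat_lit 12517888) (BT.leaf (nat_lit 50409733)) (BT.leaf (nat_lit 33535249))))))) (BT.node (nat_lit 12519232) (BT.node (nat_lit 12518464) (BT.node (nat_lit 12518208) (BT.node (nat_lit 12518080) (BT.node (nat_lit 12518016) (BT.leaf (nat_lit 33536261)) (BT.leaf (nat_lit 33536533))) (BT.node (nat_lit 12518144) (BT.leaf (nat_lit 33536537)) (BT.leaf (nat_lit 50460437)))) (BT.node (nat_lit 12518336) (BT.node (nat_lit 12518272) (BT.leaf (nat_lit 47190289)) (BT.leaf (nat_lit 33537813))) (BT.node (nat_lit 12518400) (BT.leaf (nat_lit 50086177)) (BT.leaf (nat_lit 36184837))))) (BT.node (nat_lit 12518720) (BT.node (nat_lit 12518592) (BT.node (nat_lit 12518528) (BT.leaf (nat_lit 47164193)) (BT.leaf (nat_lit 33539601))) (BT.node (nat_lit 12518656) (BT.leaf (nat_lit 33539865)) (BT.leaf (nat_lit 50847245)))) (BT.node (nat_lit 12518912) (BT.node (nat_lit 12518784) (BT.leaf (nat_lit 33540385)) (BT.leaf (nat_lit 33541137))) (BT.node (nat_lit 12519168) (BT.leaf (nat_lit 33846545)) (BT.leaf (nat_lit 50677021)))))) (BT.node (nat_lit 12520000) (BT.node (nat_lit 12519488) (BT.node (nat_lit 12519360) (BT.node (nat_lit 12519296) (BT.leaf (nat_lit 33547793)) (BT.leaf (nat_lit 33548049))) (BT.node (nat_lit 12519424) (BT.leaf (nat_lit 33549593)) (BT.leaf (nat_lit 33551633)))) (BT.node (nat_lit 12519744) (BT.node (nat_lit 12519680) (BT.leaf (nat_lit 33552149)) (BT.leaf (nat_lit 33554445))) (BT.node (nat_lit 12519872) (BT.leaf (nat_lit 51673861)) (BT.leaf (nat_lit 37020945))))) (BT.node (nat_lit 12520256) (BT.node (nat_lit 12520128) (BT.node (nat_lit 12520064) (BT.leaf (nat_lit 50530337)) (BT.leaf (nat_lit 33558801))) (BT.node (nat_lit 12520192) (BT.leaf (nat_lit 34337305)) (BT.leaf (nat_lit 34337309)))) (BT.node (nat_lit 12520384) (BT.node (nat_lit 12520320) (BT.leaf (nat_lit 51160865)) (BT.leaf (nat_lit 52079893))) (BT.node (nat_lit 12520448) (BT.leaf (nat_lit 35564293)) (BT.leaf (nat_lit 33563153)))))))))))) (BT.node (nat_lit 12563648) (BT.node (nat_lit 12542656) (BT.node (nat_lit 12531776) (BT.node (nat_lit 12526080) (BT.node (nat_lit 12523332) (BT.node (nat_lit 12521728) (BT.node (nat_lit 12521280) (BT.node (nat_lit 12520832) (BT.node (nat_lit 12520640) (BT.node (nat_lit 12520576) (BT.leaf (nat_lit 36603921)) (BT.leaf (nat_lit 33563929))) (BT.node (nat_lit 12520704) (BT.leaf (nat_lit 51021845)) (BT.leaf (nat_lit 33564689)))) (BT.node (nat_lit 12521152) (BT.node (nat_lit 12521088) (BT.leaf (nat_lit 33566493)) (BT.leaf (nat_lit 33568017))) (BT.node (nat_lit 12521216) (BT.leaf (nat_lit 33567769)) (BT.leaf (nat_lit 46940173))))) (BT.node (nat_lit 12521536) (BT.node (nat_lit 12521408) (BT.node (nat_lit 12521344) (BT.leaf (nat_lit 33570329)) (BT.leaf (nat_lit 33570333))) (BT.node (nat_lit 12521472) (BT.leaf (nat_lit 36345877)) (BT.leaf (nat_lit 35202581)))) (BT.node (nat_lit 12521606) (BT.node (nat_lit 12521600) (BT.leaf (nat_lit 33873677)) (BT.leaf (nat_lit 33571857))) (BT.node (nat_lit 12521664) (BT.leaf (nat_lit 799164)) (BT.leaf (nat_lit 33572117)))))) (BT.node (nat_lit 12522368) (BT.node (nat_lit 12522112) (BT.node (nat_lit 12521856) (BT.node (nat_lit 12521792) (BT.leaf (nat_lit 50678549)) (BT.leaf (nat_lit 47639061))) (BT.node (nat_lit 12521920) (BT.leaf (nat_lit 47638805)) (BT.leaf (nat_lit 47635485)))) (BT.node (nat_lit 12522240) (BT.node (nat_lit 12522176) (BT.leaf (nat_lit 36693777)) (BT.leaf (nat_lit 51831813))) (BT.node (nat_lit 12522304) (BT.leaf (nat_lit 33575445)) (BT.leaf (nat_lit 33577745))))) (BT.node (nat_lit 12522752) (BT.node (nat_lit 12522496) (BT.node (nat_lit 12522432) (BT.leaf (nat_lit 33577989)) (BT.leaf (nat_lit 33579025))) (BT.node (nat_lit 12522624) (BT.leaf (nat_lit 33579289)) (BT.leaf (nat_lit 33582365)))) (BT.node (nat_lit 12523008) (BT.node (nat_lit 12522816) (BT.leaf (nat_lit 33586189)) (BT.leaf (nat_lit 50007321))) (BT.node (nat_lit 12523072) (BT.leaf (nat_lit 49837589)) (BT.leaf (nat_lit 33588233))))))) (BT.node (nat_lit 12524677) (BT.node (nat_lit 12523840) (BT.node (nat_lit 12523584) (BT.node (nat_lit 12523456) (BT.node (nat_lit 12523392) (BT.leaf (nat_lit 819112)) (BT.leaf (nat_lit 50748181))) (BT.node (nat_lit 12523520) (BT.leaf (nat_lit 50007325)) (BT.leaf (nat_lit 33590801)))) (BT.node (nat_lit 12523776) (BT.node (nat_lit 12523712) (BT.leaf (nat_lit 33591057)) (BT.leaf (nat_lit 51382305))) (BT.node (nat_lit 12523783) (BT.leaf (nat_lit 33591569)) (BT.leaf (nat_lit 796728))))) (BT.node (nat_lit 12524352) (BT.node (nat_lit 12524160) (BT.node (nat_lit 12524032) (BT.leaf (nat_lit 33593105)) (BT.leaf (nat_lit 33594129))) (BT.node (nat_lit 12524224) (BT.leaf (nat_lit 34930953)) (BT.leaf (nat_lit 34581265)))) (BT.node (nat_lit 12524544) (BT.node (nat_lit 12524480) (BT.leaf (nat_lit 50012689)) (BT.leaf (nat_lit 34191121))) (BT.node (nat_lit 12524672) (BT.leaf (nat_lit 46654993)) (BT.leaf (nat_lit 35805457)))))) (BT.node (nat_lit 12525504) (BT.node (nat_lit 12525056) (BT.node (nat_lit 12524864) (BT.node (nat_lit 12524800) (BT.leaf (nat_lit 785324)) (BT.leaf (nat_lit 36589073))) (BT.node (nat_lit 12524928) (BT.leaf (nat_lit 37549849)) (BT.leaf (nat_lit 36538645)))) (BT.node (nat_lit 12525376) (BT.node (nat_lit 12525120) (BT.leaf (nat_lit 37374737)) (BT.leaf (nat_lit 33605909))) (BT.node (nat_lit 12525440) (BT.leaf (nat_lit 33601561)) (BT.leaf (nat_lit 36057105))))) (BT.node (nat_lit 12525760) (BT.node (nat_lit 12525632) (BT.node (nat_lit 12525568) (BT.leaf (nat_lit 40546329)) (BT.leaf (nat_lit 45654301))) (BT.node (nat_lit 12525696) (BT.leaf (nat_lit 33602577)) (BT.leaf (nat_lit 33862925)))) (BT.node (nat_lit 12525888) (BT.node (nat_lit 12525824) (BT.leaf (nat_lit 33602837)) (BT.leaf (nat_lit 46936081))) (BT.node (nat_lit 12525952) (BT.leaf (nat_lit 46830101)) (BT.leaf (nat_lit 33861641)))))))) (BT.node (nat_lit 12528640) (BT.node (nat_lit 12527296) (BT.node (nat_lit 12526784) (BT.node (nat_lit 12526400) (BT.node (nat_lit 12526208) (BT.node (nat_lit 12526144) (BT.leaf (nat_lit 50258189)) (BT.leaf (nat_lit 34778653))) (BT.node (nat_lit 12526272) (BT.leaf (nat_lit 41696017)) (BT.leaf (nat_lit 46564117)))) (BT.node (nat_lit 12526592) (BT.node (nat_lit 12526528) (BT.leaf (nat_lit 36344865)) (BT.leaf (nat_lit 33605393))) (BT.node (nat_lit 12526720) (BT.leaf (nat_lit 50663689)) (BT.leaf (nat_lit 49037317))))) (BT.node (nat_lit 12527040) (BT.node (nat_lit 12526912) (BT.node (nat_lit 12526848) (BT.leaf (nat_lit 33607441)) (BT.leaf (nat_lit 33608209))) (BT.node (nat_lit 12526976) (BT.leaf (nat_lit 33608473)) (BT.leaf (nat_lit 33608477)))) (BT.node (nat_lit 12527168) (BT.node (nat_lit 12527104) (BT.leaf (nat_lit 47119889)) (BT.leaf (nat_lit 33608977))) (BT.node (nat_lit 12527232) (BT.leaf (nat_lit 33609757)) (BT.leaf (nat_lit 33610773)))))) (BT.node (nat_lit 12527872) (BT.node (nat_lit 12527616) (BT.node (nat_lit 12527488) (BT.node (nat_lit 12527424) (BT.leaf (nat_lit 33610257)) (BT.leaf (nat_lit 33610513))) (BT.node (nat_lit 12527552) (BT.leaf (nat_lit 33610777)) (BT.leaf (nat_lit 33611033)))) (BT.node (nat_lit 12527744) (BT.node (nat_lit 12527680) (BT.leaf (nat_lit 33611793)) (BT.leaf (nat_lit 39708933))) (BT.node (nat_lit 12527808) (BT.leaf (nat_lit 33612553)) (BT.leaf (nat_lit 33612557))))) (BT.node (nat_lit 12528192) (BT.node (nat_lit 12528064) (BT.node (nat_lit 12528000) (BT.leaf (nat_lit 33612569)) (BT.leaf (nat_lit 33612821))) (BT.node (nat_lit 12528128) (BT.leaf (nat_lit 35689497)) (BT.leaf (nat_lit 33644821)))) (BT.node (nat_lit 12528448) (BT.node (nat_lit 12528384) (BT.leaf (nat_lit 33613849)) (BT.leaf (nat_lit 35708693))) (BT.node (nat_lit 12528576) (BT.leaf (nat_lit 50720017)) (BT.leaf (nat_lit 47637781))))))) (BT.node (nat_lit 12530560) (BT.node (nat_lit 12529536) (BT.node (nat_lit 12528896) (BT.node (nat_lit 12528768) (BT.node (nat_lit 12528704) (BT.leaf (nat_lit 48245265)) (BT.leaf (nat_lit 33616909))) (BT.node (nat_lit 12528832) (BT.leaf (nat_lit 33617169)) (BT.leaf (nat_lit 50464017)))) (BT.node (nat_lit 12529408) (BT.node (nat_lit 12529344) (BT.leaf (nat_lit 34207513)) (BT.leaf (nat_lit 33682453))) (BT.node (nat_lit 12529472) (BT.leaf (nat_lit 50413073)) (BT.leaf (nat_lit 33620497))))) (BT.node (nat_lit 12530048) (BT.node (nat_lit 12529664) (BT.node (nat_lit 12529600) (BT.leaf (nat_lit 50169097)) (BT.leaf (nat_lit 47319561))) (BT.node (nat_lit 12529792) (BT.leaf (nat_lit 33621777)) (BT.leaf (nat_lit 33623069)))) (BT.node (nat_lit 12530432) (BT.node (nat_lit 12530368) (BT.leaf (nat_lit 49290501)) (BT.leaf (nat_lit 34343957))) (BT.node (nat_lit 12530496) (BT.leaf (nat_lit 34433305)) (BT.leaf (nat_lit 34433309)))))) (BT.node (nat_lit 12531264) (BT.node (nat_lit 12530944) (BT.node (nat_lit 12530816) (BT.node (nat_lit 12530688) (BT.leaf (nat_lit 47987985)) (BT.leaf (nat_lit 36809245))) (BT.node (nat_lit 12530880) (BT.leaf (nat_lit 40433685)) (BT.leaf (nat_lit 34364697)))) (BT.node (nat_lit 12531136) (BT.node (nat_lit 12531008) (BT.leaf (nat_lit 47078925)) (BT.leaf (nat_lit 33629713))) (BT.node (nat_lit 12531200) (BT.leaf (nat_lit 33633805)) (BT.leaf (nat_lit 33633297))))) (BT.node (nat_lit 12531520) (BT.node (nat_lit 12531392) (BT.node (nat_lit 12531328) (BT.leaf (nat_lit 46319137)) (BT.leaf (nat_lit 33634325))) (BT.node (nat_lit 12531456) (BT.leaf (nat_lit 50933277)) (BT.leaf (nat_lit 34018081)))) (BT.node (nat_lit 12531648) (BT.node (nat_lit 12531584) (BT.leaf (nat_lit 33636621)) (BT.leaf (nat_lit 36782101))) (BT.node (nat_lit 12531712) (BT.leaf (nat_lit 33638417)) (BT.leaf (nat_lit 33638661))))))))) (BT.node (nat_lit 12537472) (BT.node (nat_lit 12534464) (BT.node (nat_lit 12533120) (BT.node (nat_lit 12532352) (BT.node (nat_lit 12532032) (BT.node (nat_lit 12531904) (BT.node (nat_lit 12531840) (BT.leaf (nat_lit 51163921)) (BT.leaf (nat_lit 50127129))) (BT.node (nat_lit 12531968) (BT.leaf (nat_lit 34194181)) (BT.leaf (nat_lit 50127641)))) (BT.node (nat_lit 12532224) (BT.node (nat_lit 12532160) (BT.leaf (nat_lit 49844753)) (BT.leaf (nat_lit 33639697))) (BT.node (nat_lit 12532288) (BT.leaf (nat_lit 33639969)) (BT.leaf (nat_lit 33640201))))) (BT.node (nat_lit 12532608) (BT.node (nat_lit 12532480) (BT.node (nat_lit 12532416) (BT.leaf (nat_lit 33640721)) (BT.leaf (nat_lit 33640977))) (BT.node (nat_lit 12532544) (BT.leaf (nat_lit 33641489)) (BT.leaf (nat_lit 33643025)))) (BT.node (nat_lit 12532864) (BT.node (nat_lit 12532800) (BT.leaf (nat_lit 47351065)) (BT.leaf (nat_lit 51700001))) (BT.node (nat_lit 12532928) (BT.leaf (nat_lit 37594645)) (BT.leaf (nat_lit 50131465)))))) (BT.node (nat_lit 12533696) (BT.node (nat_lit 12533376) (BT.node (nat_lit 12533248) (BT.node (nat_lit 12533184) (BT.leaf (nat_lit 46944289)) (BT.leaf (nat_lit 42010629))) (BT.node (nat_lit 12533312) (BT.leaf (nat_lit 44699425)) (BT.leaf (nat_lit 36448025)))) (BT.node (nat_lit 12533504) (BT.node (nat_lit 12533440) (BT.leaf (nat_lit 34322949)) (BT.leaf (nat_lit 48304133))) (BT.node (nat_lit 12533568) (BT.leaf (nat_lit 50710545)) (BT.leaf (nat_lit 48778517))))) (BT.node (nat_lit 12534144) (BT.node (nat_lit 12534016) (BT.node (nat_lit 12533952) (BT.leaf (nat_lit 50114573)) (BT.leaf (nat_lit 33652241))) (BT.node (nat_lit 12534080) (BT.leaf (nat_lit 45569285)) (BT.leaf (nat_lit 33654545)))) (BT.node (nat_lit 12534336) (BT.node (nat_lit 12534272) (BT.leaf (nat_lit 33655057)) (BT.leaf (nat_lit 33655573))) (BT.node (nat_lit 12534400) (BT.leaf (nat_lit 36835345)) (BT.leaf (nat_lit 33656085))))))) (BT.node (nat_lit 12536000) (BT.node (nat_lit 12535168) (BT.node (nat_lit 12534848) (BT.node (nat_lit 12534592) (BT.node (nat_lit 12534528) (BT.leaf (nat_lit 47242773)) (BT.leaf (nat_lit 34320921))) (BT.node (nat_lit 12534784) (BT.leaf (nat_lit 49046305)) (BT.leaf (nat_lit 33658905)))) (BT.node (nat_lit 12535040) (BT.node (nat_lit 12534912) (BT.leaf (nat_lit 33658909)) (BT.leaf (nat_lit 51690273))) (BT.node (nat_lit 12535104) (BT.leaf (nat_lit 33661193)) (BT.leaf (nat_lit 33661197))))) (BT.node (nat_lit 12535552) (BT.node (nat_lit 12535424) (BT.node (nat_lit 12535360) (BT.leaf (nat_lit 36980513)) (BT.leaf (nat_lit 33661457))) (BT.node (nat_lit 12535488) (BT.leaf (nat_lit 33661461)) (BT.leaf (nat_lit 33661717)))) (BT.node (nat_lit 12535808) (BT.node (nat_lit 12535680) (BT.leaf (nat_lit 52167713)) (BT.leaf (nat_lit 33663001))) (BT.node (nat_lit 12535936) (BT.leaf (nat_lit 33663505)) (BT.leaf (nat_lit 33663761)))))) (BT.node (nat_lit 12536640) (BT.node (nat_lit 12536256) (BT.node (nat_lit 12536128) (BT.node (nat_lit 12536064) (BT.leaf (nat_lit 33664017)) (BT.leaf (nat_lit 33682713))) (BT.node (nat_lit 12536192) (BT.leaf (nat_lit 36242693)) (BT.leaf (nat_lit 33664785)))) (BT.node (nat_lit 12536384) (BT.node (nat_lit 12536320) (BT.leaf (nat_lit 36443921)) (BT.leaf (nat_lit 51294481))) (BT.node (nat_lit 12536576) (BT.leaf (nat_lit 49992225)) (BT.leaf (nat_lit 37104657))))) (BT.node (nat_lit 12537152) (BT.node (nat_lit 12537024) (BT.node (nat_lit 12536704) (BT.leaf (nat_lit 33665809)) (BT.leaf (nat_lit 33666569))) (BT.node (nat_lit 12537088) (BT.leaf (nat_lit 52104721)) (BT.leaf (nat_lit 33668369)))) (BT.node (nat_lit 12537280) (BT.node (nat_lit 12537216) (BT.leaf (nat_lit 33668621)) (BT.leaf (nat_lit 35593749))) (BT.node (nat_lit 12537344) (BT.leaf (nat_lit 37449249)) (BT.leaf (nat_lit 51959573)))))))) (BT.node (nat_lit 12539776) (BT.node (nat_lit 12538560) (BT.node (nat_lit 12538052) (BT.node (nat_lit 12537792) (BT.node (nat_lit 12537600) (BT.node (nat_lit 12537536) (BT.leaf (nat_lit 33671445)) (BT.leaf (nat_lit 33671701))) (BT.node (nat_lit 12537728) (BT.leaf (nat_lit 38969373)) (BT.leaf (nat_lit 33672473)))) (BT.node (nat_lit 12537984) (BT.node (nat_lit 12537920) (BT.leaf (nat_lit 33672477)) (BT.leaf (nat_lit 33677069))) (BT.node (nat_lit 12538048) (BT.leaf (nat_lit 33677585)) (BT.leaf (nat_lit 48737825))))) (BT.node (nat_lit 12538368) (BT.node (nat_lit 12538304) (BT.node (nat_lit 12538240) (BT.leaf (nat_lit 813676)) (BT.leaf (nat_lit 39704849))) (BT.node (nat_lit 12538311) (BT.leaf (nat_lit 35594269)) (BT.leaf (nat_lit 800776)))) (BT.node (nat_lit 12538439) (BT.node (nat_lit 12538432) (BT.leaf (nat_lit 50202909)) (BT.leaf (nat_lit 33804061))) (BT.node (nat_lit 12538496) (BT.leaf (nat_lit 784796)) (BT.leaf (nat_lit 35989785)))))) (BT.node (nat_lit 12539136) (BT.node (nat_lit 12538816) (BT.node (nat_lit 12538688) (BT.node (nat_lit 12538624) (BT.leaf (nat_lit 34104089)) (BT.leaf (nat_lit 33680921))) (BT.node (nat_lit 12538752) (BT.leaf (nat_lit 33681693)) (BT.leaf (nat_lit 33681937)))) (BT.node (nat_lit 12539072) (BT.node (nat_lit 12538880) (BT.leaf (nat_lit 51867657)) (BT.leaf (nat_lit 33682969))) (BT.node (nat_lit 12539076) (BT.leaf (nat_lit 33683485)) (BT.leaf (nat_lit 787156))))) (BT.node (nat_lit 12539392) (BT.node (nat_lit 12539264) (BT.node (nat_lit 12539200) (BT.leaf (nat_lit 33684245)) (BT.leaf (nat_lit 33686033))) (BT.node (nat_lit 12539328) (BT.leaf (nat_lit 50936337)) (BT.leaf (nat_lit 33686801)))) (BT.node (nat_lit 12539584) (BT.node (nat_lit 12539456) (BT.leaf (nat_lit 33687061)) (BT.leaf (nat_lit 33687069))) (BT.node (nat_lit 12539712) (BT.leaf (nat_lit 50813473)) (BT.leaf (nat_lit 33688073))))))) (BT.node (nat_lit 12541440) (BT.node (nat_lit 12540485) (BT.node (nat_lit 12540288) (BT.node (nat_lit 12539904) (BT.node (nat_lit 12539840) (BT.leaf (nat_lit 50238497)) (BT.leaf (nat_lit 36248353))) (BT.node (nat_lit 12540032) (BT.leaf (nat_lit 51255825)) (BT.leaf (nat_lit 48244765)))) (BT.node (nat_lit 12540480) (BT.node (nat_lit 12540416) (BT.leaf (nat_lit 33691409)) (BT.leaf (nat_lit 33691921))) (BT.node (nat_lit 12540483) (BT.leaf (nat_lit 51622149)) (BT.leaf (nat_lit 788604))))) (BT.node (nat_lit 12540800) (BT.node (nat_lit 12540608) (BT.node (nat_lit 12540544) (BT.leaf (nat_lit 788604)) (BT.leaf (nat_lit 50619169))) (BT.node (nat_lit 12540736) (BT.leaf (nat_lit 50466585)) (BT.leaf (nat_lit 34349829)))) (BT.node (nat_lit 12540992) (BT.node (nat_lit 12540864) (BT.leaf (nat_lit 33696285)) (BT.leaf (nat_lit 51036181))) (BT.node (nat_lit 12541376) (BT.leaf (nat_lit 48182817)) (BT.leaf (nat_lit 33700633)))))) (BT.node (nat_lit 12542080) (BT.node (nat_lit 12541760) (BT.node (nat_lit 12541632) (BT.node (nat_lit 12541568) (BT.leaf (nat_lit 33701141)) (BT.leaf (nat_lit 50166541))) (BT.node (nat_lit 12541696) (BT.leaf (nat_lit 50140181)) (BT.leaf (nat_lit 33702673)))) (BT.node (nat_lit 12541888) (BT.node (nat_lit 12541824) (BT.leaf (nat_lit 50140441)) (BT.leaf (nat_lit 50203677))) (BT.node (nat_lit 12541952) (BT.leaf (nat_lit 33703961)) (BT.leaf (nat_lit 33703965))))) (BT.node (nat_lit 12542336) (BT.node (nat_lit 12542208) (BT.node (nat_lit 12542144) (BT.leaf (nat_lit 33704725)) (BT.leaf (nat_lit 33704729))) (BT.node (nat_lit 12542272) (BT.leaf (nat_lit 33706245)) (BT.leaf (nat_lit 50149921)))) (BT.node (nat_lit 12542528) (BT.node (nat_lit 12542464) (BT.leaf (nat_lit 50149901)) (BT.leaf (nat_lit 33708569))) (BT.node (nat_lit 12542592) (BT.leaf (nat_lit 33708573)) (BT.leaf (nat_lit 50145045)))))))))) (BT.node (nat_lit 12553600) (BT.node (nat_lit 12548160) (BT.node (nat_lit 12545280) (BT.node (nat_lit 12543680) (BT.node (nat_lit 12543104) (BT.node (nat_lit 12542912) (BT.node (nat_lit 12542784) (BT.node (nat_lit 12542720) (BT.leaf (nat_lit 33709329)) (BT.leaf (nat_lit 50145305))) (BT.node (nat_lit 12542848) (BT.leaf (nat_lit 35289605)) (BT.leaf (nat_lit 36785169)))) (BT.node (nat_lit 12542983) (BT.node (nat_lit 12542976) (BT.leaf (nat_lit 36785425)) (BT.leaf (nat_lit 33712405))) (BT.node (nat_lit 12543040) (BT.leaf (nat_lit 786400)) (BT.leaf (nat_lit 33983769))))) (BT.node (nat_lit 12543424) (BT.node (nat_lit 12543296) (BT.node (nat_lit 12543232) (BT.leaf (nat_lit 33983773)) (BT.leaf (nat_lit 51624225))) (BT.node (nat_lit 12543360) (BT.leaf (nat_lit 46423305)) (BT.leaf (nat_lit 33714449)))) (BT.node (nat_lit 12543552) (BT.node (nat_lit 12543488) (BT.leaf (nat_lit 33715217)) (BT.leaf (nat_lit 47331349))) (BT.node (nat_lit 12543616) (BT.leaf (nat_lit 33715993)) (BT.leaf (nat_lit 33715997)))))) (BT.node (nat_lit 12544320) (BT.node (nat_lit 12544000) (BT.node (nat_lit 12543872) (BT.node (nat_lit 12543744) (BT.leaf (nat_lit 33716501)) (BT.leaf (nat_lit 33717509))) (BT.node (nat_lit 12543936) (BT.leaf (nat_lit 33718297)) (BT.leaf (nat_lit 33718301)))) (BT.node (nat_lit 12544128) (BT.node (nat_lit 12544064) (BT.leaf (nat_lit 36533765)) (BT.leaf (nat_lit 51463457))) (BT.node (nat_lit 12544192) (BT.leaf (nat_lit 33719065)) (BT.leaf (nat_lit 33719069))))) (BT.node (nat_lit 12544896) (BT.node (nat_lit 12544512) (BT.node (nat_lit 12544448) (BT.leaf (nat_lit 51602709)) (BT.leaf (nat_lit 35257121))) (BT.node (nat_lit 12544832) (BT.leaf (nat_lit 51595781)) (BT.leaf (nat_lit 51501317)))) (BT.node (nat_lit 12545152) (BT.node (nat_lit 12545088) (BT.leaf (nat_lit 33722653)) (BT.leaf (nat_lit 37165841))) (BT.node (nat_lit 12545216) (BT.leaf (nat_lit 33723417)) (BT.leaf (nat_lit 50267653))))))) (BT.node (nat_lit 12546816) (BT.node (nat_lit 12545920) (BT.node (nat_lit 12545472) (BT.node (nat_lit 12545349) (BT.node (nat_lit 12545344) (BT.leaf (nat_lit 49013765)) (BT.leaf (nat_lit 50181145))) (BT.node (nat_lit 12545408) (BT.leaf (nat_lit 804132)) (BT.leaf (nat_lit 50096901)))) (BT.node (nat_lit 12545728) (BT.node (nat_lit 12545600) (BT.leaf (nat_lit 37577505)) (BT.leaf (nat_lit 37489169))) (BT.node (nat_lit 12545792) (BT.leaf (nat_lit 33736729)) (BT.leaf (nat_lit 34633749))))) (BT.node (nat_lit 12546176) (BT.node (nat_lit 12546048) (BT.node (nat_lit 12545984) (BT.leaf (nat_lit 49881605)) (BT.leaf (nat_lit 49822485))) (BT.node (nat_lit 12546112) (BT.leaf (nat_lit 49876241)) (BT.leaf (nat_lit 52445201)))) (BT.node (nat_lit 12546432) (BT.node (nat_lit 12546304) (BT.leaf (nat_lit 52445981)) (BT.leaf (nat_lit 51693345))) (BT.node (nat_lit 12546624) (BT.leaf (nat_lit 35529485)) (BT.leaf (nat_lit 50461461)))))) (BT.node (nat_lit 12547525) (BT.node (nat_lit 12547200) (BT.node (nat_lit 12547008) (BT.node (nat_lit 12546880) (BT.leaf (nat_lit 33742357)) (BT.leaf (nat_lit 36954389))) (BT.node (nat_lit 12547072) (BT.leaf (nat_lit 33746209)) (BT.leaf (nat_lit 50842629)))) (BT.node (nat_lit 12547456) (BT.node (nat_lit 12547264) (BT.leaf (nat_lit 50652181)) (BT.leaf (nat_lit 33748761))) (BT.node (nat_lit 12547520) (BT.leaf (nat_lit 33750041)) (BT.leaf (nat_lit 33750045))))) (BT.node (nat_lit 12547776) (BT.node (nat_lit 12547649) (BT.node (nat_lit 12547648) (BT.leaf (nat_lit 804188)) (BT.leaf (nat_lit 36014365))) (BT.node (nat_lit 12547712) (BT.leaf (nat_lit 804184)) (BT.leaf (nat_lit 37637909)))) (BT.node (nat_lit 12547904) (BT.node (nat_lit 12547840) (BT.leaf (nat_lit 51156489)) (BT.leaf (nat_lit 46510085))) (BT.node (nat_lit 12548032) (BT.leaf (nat_lit 33751573)) (BT.leaf (nat_lit 52072709)))))))) (BT.node (nat_lit 12550592) (BT.node (nat_lit 12549312) (BT.node (nat_lit 12548736) (BT.node (nat_lit 12548416) (BT.node (nat_lit 12548288) (BT.node (nat_lit 12548224) (BT.leaf (nat_lit 33752837)) (BT.leaf (nat_lit 47490841))) (BT.node (nat_lit 12548352) (BT.leaf (nat_lit 48777489)) (BT.leaf (nat_lit 37206809)))) (BT.node (nat_lit 12548608) (BT.node (nat_lit 12548544) (BT.leaf (nat_lit 37206813)) (BT.leaf (nat_lit 33755933))) (BT.node (nat_lit 12548672) (BT.leaf (nat_lit 33756433)) (BT.leaf (nat_lit 33756697))))) (BT.node (nat_lit 12548992) (BT.node (nat_lit 12548864) (BT.node (nat_lit 12548800) (BT.leaf (nat_lit 33757205)) (BT.leaf (nat_lit 33758749))) (BT.node (nat_lit 12548928) (BT.leaf (nat_lit 33760793)) (BT.leaf (nat_lit 33761045)))) (BT.node (nat_lit 12549120) (BT.node (nat_lit 12549056) (BT.leaf (nat_lit 33761805)) (BT.leaf (nat_lit 48026657))) (BT.node (nat_lit 12549184) (BT.leaf (nat_lit 50833429)) (BT.leaf (nat_lit 33763093)))))) (BT.node (nat_lit 12550016) (BT.node (nat_lit 12549760) (BT.node (nat_lit 12549568) (BT.node (nat_lit 12549376) (BT.leaf (nat_lit 39855369)) (BT.leaf (nat_lit 33764641))) (BT.node (nat_lit 12549696) (BT.leaf (nat_lit 33785369)) (BT.leaf (nat_lit 33768721)))) (BT.node (nat_lit 12549888) (BT.node (nat_lit 12549824) (BT.leaf (nat_lit 33768981)) (BT.leaf (nat_lit 33768985))) (BT.node (nat_lit 12549952) (BT.leaf (nat_lit 33768989)) (BT.leaf (nat_lit 33769241))))) (BT.node (nat_lit 12550276) (BT.node (nat_lit 12550208) (BT.node (nat_lit 12550144) (BT.leaf (nat_lit 33769245)) (BT.leaf (nat_lit 35422493))) (BT.node (nat_lit 12550272) (BT.leaf (nat_lit 34810885)) (BT.leaf (nat_lit 33770005)))) (BT.node (nat_lit 12550464) (BT.node (nat_lit 12550400) (BT.leaf (nat_lit 793676)) (BT.leaf (nat_lit 33770785))) (BT.node (nat_lit 12550528) (BT.leaf (nat_lit 33771801)) (BT.leaf (nat_lit 33771805))))))) (BT.node (nat_lit 12552192) (BT.node (nat_lit 12551168) (BT.node (nat_lit 12550912) (BT.node (nat_lit 12550720) (BT.node (nat_lit 12550656) (BT.leaf (nat_lit 43377953)) (BT.leaf (nat_lit 45672453))) (BT.node (nat_lit 12550784) (BT.leaf (nat_lit 33772817)) (BT.leaf (nat_lit 33773845)))) (BT.node (nat_lit 12551040) (BT.node (nat_lit 12550976) (BT.leaf (nat_lit 50140437)) (BT.leaf (nat_lit 33774621))) (BT.node (nat_lit 12551104) (BT.leaf (nat_lit 50166553)) (BT.leaf (nat_lit 50140189))))) (BT.node (nat_lit 12551680) (BT.node (nat_lit 12551552) (BT.node (nat_lit 12551296) (BT.leaf (nat_lit 48686369)) (BT.leaf (nat_lit 33777945))) (BT.node (nat_lit 12551616) (BT.leaf (nat_lit 33778717)) (BT.leaf (nat_lit 33778961)))) (BT.node (nat_lit 12551808) (BT.node (nat_lit 12551744) (BT.leaf (nat_lit 33779225)) (BT.leaf (nat_lit 33779229))) (BT.node (nat_lit 12551872) (BT.leaf (nat_lit 50205189)) (BT.leaf (nat_lit 46676505)))))) (BT.node (nat_lit 12553024) (BT.node (nat_lit 12552704) (BT.node (nat_lit 12552448) (BT.node (nat_lit 12552256) (BT.leaf (nat_lit 36393749)) (BT.leaf (nat_lit 35764493))) (BT.node (nat_lit 12552576) (BT.leaf (nat_lit 33783581)) (BT.leaf (nat_lit 36650513)))) (BT.node (nat_lit 12552832) (BT.node (nat_lit 12552768) (BT.leaf (nat_lit 50210333)) (BT.leaf (nat_lit 36311321))) (BT.node (nat_lit 12552960) (BT.leaf (nat_lit 33785101)) (BT.leaf (nat_lit 33785121))))) (BT.node (nat_lit 12553280) (BT.node (nat_lit 12553152) (BT.node (nat_lit 12553088) (BT.leaf (nat_lit 33785361)) (BT.leaf (nat_lit 43727641))) (BT.node (nat_lit 12553216) (BT.leaf (nat_lit 41232917)) (BT.leaf (nat_lit 33786389)))) (BT.node (nat_lit 12553408) (BT.node (nat_lit 12553281) (BT.leaf (nat_lit 33786649)) (BT.leaf (nat_lit 802328))) (BT.node (nat_lit 12553472) (BT.leaf (nat_lit 48008721)) (BT.leaf (nat_lit 50548505))))))))) (BT.node (nat_lit 12558400) (BT.node (nat_lit 12556032) (BT.node (nat_lit 12554880) (BT.node (nat_lit 12554176) (BT.node (nat_lit 12553920) (BT.node (nat_lit 12553792) (BT.node (nat_lit 12553664) (BT.leaf (nat_lit 33789465)) (BT.leaf (nat_lit 33789469))) (BT.node (nat_lit 12553856) (BT.leaf (nat_lit 33789977)) (BT.leaf (nat_lit 33789981)))) (BT.node (nat_lit 12554048) (BT.node (nat_lit 12553984) (BT.leaf (nat_lit 33790489)) (BT.leaf (nat_lit 33792021))) (BT.node (nat_lit 12554112) (BT.leaf (nat_lit 52401945)) (BT.leaf (nat_lit 33792785))))) (BT.node (nat_lit 12554432) (BT.node (nat_lit 12554304) (BT.node (nat_lit 12554240) (BT.leaf (nat_lit 33793049)) (BT.leaf (nat_lit 50219029))) (BT.node (nat_lit 12554368) (BT.leaf (nat_lit 50216969)) (BT.leaf (nat_lit 50221845)))) (BT.node (nat_lit 12554688) (BT.node (nat_lit 12554624) (BT.leaf (nat_lit 33793821)) (BT.leaf (nat_lit 33794589))) (BT.node (nat_lit 12554752) (BT.leaf (nat_lit 36657937)) (BT.leaf (nat_lit 36657681)))))) (BT.node (nat_lit 12555520) (BT.node (nat_lit 12555264) (BT.node (nat_lit 12555136) (BT.node (nat_lit 12554944) (BT.leaf (nat_lit 33795101)) (BT.leaf (nat_lit 50217241))) (BT.node (nat_lit 12555200) (BT.leaf (nat_lit 37345557)) (BT.leaf (nat_lit 33796125)))) (BT.node (nat_lit 12555392) (BT.node (nat_lit 12555328) (BT.leaf (nat_lit 33796357)) (BT.leaf (nat_lit 50216985))) (BT.node (nat_lit 12555456) (BT.leaf (nat_lit 50219037)) (BT.leaf (nat_lit 50218777))))) (BT.node (nat_lit 12555776) (BT.node (nat_lit 12555648) (BT.node (nat_lit 12555584) (BT.leaf (nat_lit 51697181)) (BT.leaf (nat_lit 50219541))) (BT.node (nat_lit 12555712) (BT.leaf (nat_lit 33798937)) (BT.leaf (nat_lit 33799181)))) (BT.node (nat_lit 12555904) (BT.node (nat_lit 12555840) (BT.leaf (nat_lit 49936917)) (BT.leaf (nat_lit 33799197))) (BT.node (nat_lit 12555968) (BT.leaf (nat_lit 35963421)) (BT.leaf (nat_lit 33799445))))))) (BT.node (nat_lit 12557248) (BT.node (nat_lit 12556736) (BT.node (nat_lit 12556416) (BT.node (nat_lit 12556288) (BT.node (nat_lit 12556224) (BT.leaf (nat_lit 50113797)) (BT.leaf (nat_lit 48248081))) (BT.node (nat_lit 12556352) (BT.leaf (nat_lit 48248097)) (BT.leaf (nat_lit 33802265)))) (BT.node (nat_lit 12556608) (BT.node (nat_lit 12556544) (BT.leaf (nat_lit 33802525)) (BT.leaf (nat_lit 50689053))) (BT.node (nat_lit 12556672) (BT.leaf (nat_lit 33803553)) (BT.leaf (nat_lit 33804057))))) (BT.node (nat_lit 12556992) (BT.node (nat_lit 12556864) (BT.node (nat_lit 12556800) (BT.leaf (nat_lit 36241697)) (BT.leaf (nat_lit 33804305))) (BT.node (nat_lit 12556928) (BT.leaf (nat_lit 33804817)) (BT.leaf (nat_lit 33805081)))) (BT.node (nat_lit 12557120) (BT.node (nat_lit 12557056) (BT.leaf (nat_lit 35786001)) (BT.leaf (nat_lit 35785745))) (BT.node (nat_lit 12557184) (BT.leaf (nat_lit 33806361)) (BT.leaf (nat_lit 50229001)))))) (BT.node (nat_lit 12557632) (BT.node (nat_lit 12557440) (BT.node (nat_lit 12557376) (BT.node (nat_lit 12557312) (BT.leaf (nat_lit 48321561)) (BT.leaf (nat_lit 33808149))) (BT.node (nat_lit 12557380) (BT.leaf (nat_lit 50229765)) (BT.leaf (nat_lit 812576)))) (BT.node (nat_lit 12557445) (BT.node (nat_lit 12557444) (BT.leaf (nat_lit 33809181)) (BT.leaf (nat_lit 793032))) (BT.node (nat_lit 12557504) (BT.leaf (nat_lit 793032)) (BT.leaf (nat_lit 37682961))))) (BT.node (nat_lit 12558016) (BT.node (nat_lit 12557888) (BT.node (nat_lit 12557696) (BT.leaf (nat_lit 47512069)) (BT.leaf (nat_lit 33809693))) (BT.node (nat_lit 12557952) (BT.leaf (nat_lit 51222285)) (BT.leaf (nat_lit 33811209)))) (BT.node (nat_lit 12558144) (BT.node (nat_lit 12558080) (BT.leaf (nat_lit 33811213)) (BT.leaf (nat_lit 33811225))) (BT.node (nat_lit 12558208) (BT.leaf (nat_lit 33811229)) (BT.leaf (nat_lit 33811977)))))))) (BT.node (nat_lit 12561024) (BT.node (nat_lit 12559488) (BT.node (nat_lit 12558976) (BT.node (nat_lit 12558656) (BT.node (nat_lit 12558528) (BT.node (nat_lit 12558464) (BT.leaf (nat_lit 36684561)) (BT.leaf (nat_lit 33814805))) (BT.node (nat_lit 12558592) (BT.leaf (nat_lit 33814809)) (BT.leaf (nat_lit 33814813)))) (BT.node (nat_lit 12558848) (BT.node (nat_lit 12558720) (BT.leaf (nat_lit 33815057)) (BT.leaf (nat_lit 37330709))) (BT.node (nat_lit 12558912) (BT.leaf (nat_lit 33816337)) (BT.leaf (nat_lit 37329437))))) (BT.node (nat_lit 12559232) (BT.node (nat_lit 12559104) (BT.node (nat_lit 12559040) (BT.leaf (nat_lit 52106773)) (BT.leaf (nat_lit 33817361))) (BT.node (nat_lit 12559168) (BT.leaf (nat_lit 33817617)) (BT.leaf (nat_lit 35293457)))) (BT.node (nat_lit 12559360) (BT.node (nat_lit 12559296) (BT.leaf (nat_lit 33819161)) (BT.leaf (nat_lit 33819165))) (BT.node (nat_lit 12559424) (BT.leaf (nat_lit 33819913)) (BT.leaf (nat_lit 33819933)))))) (BT.node (nat_lit 12560200) (BT.node (nat_lit 12559744) (BT.node (nat_lit 12559616) (BT.node (nat_lit 12559552) (BT.leaf (nat_lit 33820705)) (BT.leaf (nat_lit 33821217))) (BT.node (nat_lit 12559680) (BT.leaf (nat_lit 33821445)) (BT.leaf (nat_lit 33822241)))) (BT.node (nat_lit 12559872) (BT.node (nat_lit 12559808) (BT.leaf (nat_lit 45724177)) (BT.leaf (nat_lit 33822745))) (BT.node (nat_lit 12560000) (BT.leaf (nat_lit 33822749)) (BT.leaf (nat_lit 33824545))))) (BT.node (nat_lit 12560704) (BT.node (nat_lit 12560512) (BT.node (nat_lit 12560320) (BT.leaf (nat_lit 805264)) (BT.leaf (nat_lit 33826581))) (BT.node (nat_lit 12560640) (BT.leaf (nat_lit 33827353)) (BT.leaf (nat_lit 34386693)))) (BT.node (nat_lit 12560832) (BT.node (nat_lit 12560768) (BT.leaf (nat_lit 33829141)) (BT.leaf (nat_lit 33829145))) (BT.node (nat_lit 12560896) (BT.leaf (nat_lit 33829149)) (BT.leaf (nat_lit 33829405))))))) (BT.node (nat_lit 12562496) (BT.node (nat_lit 12561600) (BT.node (nat_lit 12561344) (BT.node (nat_lit 12561152) (BT.node (nat_lit 12561088) (BT.leaf (nat_lit 33831697)) (BT.leaf (nat_lit 51524881))) (BT.node (nat_lit 12561216) (BT.leaf (nat_lit 51735573)) (BT.leaf (nat_lit 33832725)))) (BT.node (nat_lit 12561472) (BT.node (nat_lit 12561408) (BT.leaf (nat_lit 46454805)) (BT.leaf (nat_lit 37601053))) (BT.node (nat_lit 12561536) (BT.leaf (nat_lit 33834769)) (BT.leaf (nat_lit 33838613))))) (BT.node (nat_lit 12561856) (BT.node (nat_lit 12561728) (BT.node (nat_lit 12561664) (BT.leaf (nat_lit 33840141)) (BT.leaf (nat_lit 33840161))) (BT.node (nat_lit 12561792) (BT.leaf (nat_lit 33840913)) (BT.leaf (nat_lit 33840929)))) (BT.node (nat_lit 12562048) (BT.node (nat_lit 12561984) (BT.leaf (nat_lit 36694801)) (BT.leaf (nat_lit 50088989))) (BT.node (nat_lit 12562368) (BT.leaf (nat_lit 33843729)) (BT.leaf (nat_lit 35541265)))))) (BT.node (nat_lit 12563200) (BT.node (nat_lit 12562816) (BT.node (nat_lit 12562688) (BT.node (nat_lit 12562560) (BT.leaf (nat_lit 33844757)) (BT.leaf (nat_lit 46584581))) (BT.node (nat_lit 12562752) (BT.leaf (nat_lit 50038285)) (BT.leaf (nat_lit 50091269)))) (BT.node (nat_lit 12562944) (BT.node (nat_lit 12562880) (BT.leaf (nat_lit 33849353)) (BT.leaf (nat_lit 38555925))) (BT.node (nat_lit 12563136) (BT.leaf (nat_lit 34292001)) (BT.leaf (nat_lit 34291993))))) (BT.node (nat_lit 12563456) (BT.node (nat_lit 12563328) (BT.node (nat_lit 12563264) (BT.leaf (nat_lit 34581013)) (BT.leaf (nat_lit 33851673))) (BT.node (nat_lit 12563392) (BT.leaf (nat_lit 33852441)) (BT.leaf (nat_lit 33852445)))) (BT.node (nat_lit 12563520) (BT.node (nat_lit 12563461) (BT.leaf (nat_lit 33926161)) (BT.leaf (nat_lit 787796))) (BT.node (nat_lit 12563584) (BT.leaf (nat_lit 34126101)) (BT.leaf (nat_lit 47718929))))))))))) (BT.node (nat_lit 12583424) (BT.node (nat_lit 12573824) (BT.node (nat_lit 12568320) (BT.node (nat_lit 12566016) (BT.node (nat_lit 12564736) (BT.node (nat_lit 12564160) (BT.node (nat_lit 12563904) (BT.node (nat_lit 12563776) (BT.node (nat_lit 12563712) (BT.leaf (nat_lit 50835745)) (BT.leaf (nat_lit 33853465))) (BT.node (nat_lit 12563840) (BT.leaf (nat_lit 40935685)) (BT.leaf (nat_lit 48497185)))) (BT.node (nat_lit 12564032) (BT.node (nat_lit 12563968) (BT.leaf (nat_lit 33855001)) (BT.leaf (nat_lit 33855509))) (BT.node (nat_lit 12564096) (BT.leaf (nat_lit 33855513)) (BT.leaf (nat_lit 33855517))))) (BT.node (nat_lit 12564416) (BT.node (nat_lit 12564288) (BT.node (nat_lit 12564224) (BT.leaf (nat_lit 33856529)) (BT.leaf (nat_lit 47613701))) (BT.node (nat_lit 12564352) (BT.leaf (nat_lit 33858333)) (BT.leaf (nat_lit 33858845)))) (BT.node (nat_lit 12564544) (BT.node (nat_lit 12564480) (BT.leaf (nat_lit 33859093)) (BT.leaf (nat_lit 34910993))) (BT.node (nat_lit 12564672) (BT.leaf (nat_lit 49000469)) (BT.leaf (nat_lit 49003809)))))) (BT.node (nat_lit 12565312) (BT.node (nat_lit 12565056) (BT.node (nat_lit 12564864) (BT.node (nat_lit 12564800) (BT.leaf (nat_lit 49014293)) (BT.leaf (nat_lit 49014037))) (BT.node (nat_lit 12564992) (BT.leaf (nat_lit 50223905)) (BT.leaf (nat_lit 49013785)))) (BT.node (nat_lit 12565184) (BT.node (nat_lit 12565120) (BT.leaf (nat_lit 33863185)) (BT.leaf (nat_lit 34559261))) (BT.node (nat_lit 12565248) (BT.leaf (nat_lit 51186953)) (BT.leaf (nat_lit 50261269))))) (BT.node (nat_lit 12565632) (BT.node (nat_lit 12565504) (BT.node (nat_lit 12565376) (BT.leaf (nat_lit 33863965)) (BT.leaf (nat_lit 33865233))) (BT.node (nat_lit 12565568) (BT.leaf (nat_lit 46935829)) (BT.leaf (nat_lit 33866773)))) (BT.node (nat_lit 12565824) (BT.node (nat_lit 12565760) (BT.leaf (nat_lit 33867025)) (BT.leaf (nat_lit 50484505))) (BT.node (nat_lit 12565888) (BT.leaf (nat_lit 50577941)) (BT.leaf (nat_lit 50578193))))))) (BT.node (nat_lit 12567296) (BT.node (nat_lit 12566720) (BT.node (nat_lit 12566336) (BT.node (nat_lit 12566208) (BT.node (nat_lit 12566144) (BT.leaf (nat_lit 50825733)) (BT.leaf (nat_lit 33870093))) (BT.node (nat_lit 12566272) (BT.leaf (nat_lit 33870105)) (BT.leaf (nat_lit 33870109)))) (BT.node (nat_lit 12566592) (BT.node (nat_lit 12566400) (BT.leaf (nat_lit 46610453)) (BT.leaf (nat_lit 33870357))) (BT.node (nat_lit 12566656) (BT.leaf (nat_lit 33872401)) (BT.leaf (nat_lit 51727649))))) (BT.node (nat_lit 12566976) (BT.node (nat_lit 12566848) (BT.node (nat_lit 12566784) (BT.leaf (nat_lit 49937685)) (BT.leaf (nat_lit 33873673))) (BT.node (nat_lit 12566912) (BT.leaf (nat_lit 49904657)) (BT.leaf (nat_lit 33874713)))) (BT.node (nat_lit 12567168) (BT.node (nat_lit 12567104) (BT.leaf (nat_lit 33874717)) (BT.leaf (nat_lit 33875485))) (BT.node (nat_lit 12567232) (BT.leaf (nat_lit 33875977)) (BT.leaf (nat_lit 33875993)))))) (BT.node (nat_lit 12567808) (BT.node (nat_lit 12567552) (BT.node (nat_lit 12567424) (BT.node (nat_lit 12567360) (BT.leaf (nat_lit 33875997)) (BT.leaf (nat_lit 33876513))) (BT.node (nat_lit 12567489) (BT.leaf (nat_lit 47530521)) (BT.leaf (nat_lit 785728)))) (BT.node (nat_lit 12567680) (BT.node (nat_lit 12567616) (BT.leaf (nat_lit 33877009)) (BT.leaf (nat_lit 49703193))) (BT.node (nat_lit 12567744) (BT.leaf (nat_lit 33878549)) (BT.leaf (nat_lit 50271261))))) (BT.node (nat_lit 12568128) (BT.node (nat_lit 12567936) (BT.node (nat_lit 12567872) (BT.leaf (nat_lit 33879309)) (BT.leaf (nat_lit 50993953))) (BT.node (nat_lit 12568000) (BT.leaf (nat_lit 46642957)) (BT.leaf (nat_lit 34971161)))) (BT.node (nat_lit 12568193) (BT.node (nat_lit 12568129) (BT.leaf (nat_lit 51070489)) (BT.leaf (nat_lit 812124))) (BT.node (nat_lit 12568256) (BT.leaf (nat_lit 812120)) (BT.leaf (nat_lit 35118605)))))))) (BT.node (nat_lit 12571456) (BT.node (nat_lit 12570112) (BT.node (nat_lit 12569024) (BT.node (nat_lit 12568768) (BT.node (nat_lit 12568640) (BT.node (nat_lit 12568512) (BT.leaf (nat_lit 33881361)) (BT.leaf (nat_lit 51584017))) (BT.node (nat_lit 12568704) (BT.leaf (nat_lit 50284321)) (BT.leaf (nat_lit 33884945)))) (BT.node (nat_lit 12568896) (BT.node (nat_lit 12568832) (BT.leaf (nat_lit 33885201)) (BT.leaf (nat_lit 33963525))) (BT.node (nat_lit 12568960) (BT.leaf (nat_lit 35118877)) (BT.leaf (nat_lit 33885977))))) (BT.node (nat_lit 12569472) (BT.node (nat_lit 12569152) (BT.node (nat_lit 12569088) (BT.leaf (nat_lit 33885981)) (BT.leaf (nat_lit 33886225))) (BT.node (nat_lit 12569408) (BT.leaf (nat_lit 36295429)) (BT.leaf (nat_lit 36433177)))) (BT.node (nat_lit 12569984) (BT.node (nat_lit 12569728) (BT.leaf (nat_lit 50250013)) (BT.leaf (nat_lit 51142937))) (BT.node (nat_lit 12570048) (BT.leaf (nat_lit 50874133)) (BT.leaf (nat_lit 33890325)))))) (BT.node (nat_lit 12570816) (BT.node (nat_lit 12570624) (BT.node (nat_lit 12570432) (BT.node (nat_lit 12570368) (BT.leaf (nat_lit 33890577)) (BT.leaf (nat_lit 33891105))) (BT.node (nat_lit 12570496) (BT.leaf (nat_lit 33891349)) (BT.leaf (nat_lit 50692373)))) (BT.node (nat_lit 12570752) (BT.node (nat_lit 12570688) (BT.leaf (nat_lit 36730133)) (BT.leaf (nat_lit 36730137))) (BT.node (nat_lit 12570756) (BT.leaf (nat_lit 33892637)) (BT.leaf (nat_lit 797192))))) (BT.node (nat_lit 12571136) (BT.node (nat_lit 12570944) (BT.node (nat_lit 12570880) (BT.leaf (nat_lit 33892893)) (BT.leaf (nat_lit 33893145))) (BT.node (nat_lit 12571072) (BT.leaf (nat_lit 33893149)) (BT.leaf (nat_lit 50067721)))) (BT.node (nat_lit 12571328) (BT.node (nat_lit 12571264) (BT.leaf (nat_lit 33894685)) (BT.leaf (nat_lit 50196489))) (BT.node (nat_lit 12571392) (BT.leaf (nat_lit 33896977)) (BT.leaf (nat_lit 38598161))))))) (BT.node (nat_lit 12572544) (BT.node (nat_lit 12571968) (BT.node (nat_lit 12571712) (BT.node (nat_lit 12571584) (BT.node (nat_lit 12571520) (BT.leaf (nat_lit 51618585)) (BT.leaf (nat_lit 47634969))) (BT.node (nat_lit 12571648) (BT.leaf (nat_lit 50710801)) (BT.leaf (nat_lit 50011157)))) (BT.node (nat_lit 12571840) (BT.node (nat_lit 12571776) (BT.leaf (nat_lit 33899029)) (BT.leaf (nat_lit 33900305))) (BT.node (nat_lit 12571904) (BT.leaf (nat_lit 40607261)) (BT.leaf (nat_lit 46832673))))) (BT.node (nat_lit 12572224) (BT.node (nat_lit 12572096) (BT.node (nat_lit 12572032) (BT.leaf (nat_lit 33902357)) (BT.leaf (nat_lit 37262109))) (BT.node (nat_lit 12572160) (BT.leaf (nat_lit 35013649)) (BT.leaf (nat_lit 37790485)))) (BT.node (nat_lit 12572352) (BT.node (nat_lit 12572288) (BT.leaf (nat_lit 33906705)) (BT.leaf (nat_lit 33906721))) (BT.node (nat_lit 12572420) (BT.leaf (nat_lit 33906965)) (BT.leaf (nat_lit 796268)))))) (BT.node (nat_lit 12573312) (BT.node (nat_lit 12573056) (BT.node (nat_lit 12572864) (BT.node (nat_lit 12572800) (BT.leaf (nat_lit 43725073)) (BT.leaf (nat_lit 35624725))) (BT.node (nat_lit 12572992) (BT.leaf (nat_lit 33910297)) (BT.leaf (nat_lit 33911321)))) (BT.node (nat_lit 12573184) (BT.node (nat_lit 12573120) (BT.leaf (nat_lit 48458773)) (BT.leaf (nat_lit 33911569))) (BT.node (nat_lit 12573248) (BT.leaf (nat_lit 33912081)) (BT.leaf (nat_lit 49816069))))) (BT.node (nat_lit 12573568) (BT.node (nat_lit 12573440) (BT.node (nat_lit 12573376) (BT.leaf (nat_lit 33912585)) (BT.leaf (nat_lit 37677589))) (BT.node (nat_lit 12573504) (BT.leaf (nat_lit 33913357)) (BT.leaf (nat_lit 47685641)))) (BT.node (nat_lit 12573696) (BT.node (nat_lit 12573632) (BT.leaf (nat_lit 33913861)) (BT.leaf (nat_lit 33913889))) (BT.node (nat_lit 12573760) (BT.leaf (nat_lit 33915153)) (BT.leaf (nat_lit 33914909))))))))) (BT.node (nat_lit 12578816) (BT.node (nat_lit 12576576) (BT.node (nat_lit 12575232) (BT.node (nat_lit 12574592) (BT.node (nat_lit 12574272) (BT.node (nat_lit 12574144) (BT.node (nat_lit 12574080) (BT.leaf (nat_lit 35677209)) (BT.leaf (nat_lit 36769545))) (BT.node (nat_lit 12574208) (BT.leaf (nat_lit 33917717)) (BT.leaf (nat_lit 33917973)))) (BT.node (nat_lit 12574464) (BT.node (nat_lit 12574336) (BT.leaf (nat_lit 33918225)) (BT.leaf (nat_lit 33918485))) (BT.node (nat_lit 12574528) (BT.leaf (nat_lit 36806421)) (BT.leaf (nat_lit 51170585))))) (BT.node (nat_lit 12574976) (BT.node (nat_lit 12574720) (BT.node (nat_lit 12574656) (BT.leaf (nat_lit 33919253)) (BT.leaf (nat_lit 36816929))) (BT.node (nat_lit 12574912) (BT.leaf (nat_lit 36817185)) (BT.leaf (nat_lit 51373601)))) (BT.node (nat_lit 12575104) (BT.node (nat_lit 12575040) (BT.leaf (nat_lit 51382541)) (BT.leaf (nat_lit 50094365))) (BT.node (nat_lit 12575168) (BT.leaf (nat_lit 33921821)) (BT.leaf (nat_lit 33921825)))))) (BT.node (nat_lit 12576064) (BT.node (nat_lit 12575552) (BT.node (nat_lit 12575424) (BT.node (nat_lit 12575360) (BT.leaf (nat_lit 33922321)) (BT.leaf (nat_lit 33923857))) (BT.node (nat_lit 12575488) (BT.leaf (nat_lit 33925653)) (BT.leaf (nat_lit 33926165)))) (BT.node (nat_lit 12575872) (BT.node (nat_lit 12575680) (BT.leaf (nat_lit 33926925)) (BT.leaf (nat_lit 46332681))) (BT.node (nat_lit 12576000) (BT.leaf (nat_lit 46671373)) (BT.leaf (nat_lit 33928737))))) (BT.node (nat_lit 12576320) (BT.node (nat_lit 12576192) (BT.node (nat_lit 12576128) (BT.leaf (nat_lit 49929249)) (BT.leaf (nat_lit 33930261))) (BT.node (nat_lit 12576256) (BT.leaf (nat_lit 33930769)) (BT.leaf (nat_lit 33931281)))) (BT.node (nat_lit 12576448) (BT.node (nat_lit 12576384) (BT.leaf (nat_lit 46917393)) (BT.leaf (nat_lit 33933077))) (BT.node (nat_lit 12576512) (BT.leaf (nat_lit 46440725)) (BT.leaf (nat_lit 33934097))))))) (BT.node (nat_lit 12577664) (BT.node (nat_lit 12577088) (BT.node (nat_lit 12576832) (BT.node (nat_lit 12576704) (BT.node (nat_lit 12576640) (BT.leaf (nat_lit 33935381)) (BT.leaf (nat_lit 48417289))) (BT.node (nat_lit 12576768) (BT.leaf (nat_lit 49916433)) (BT.leaf (nat_lit 33936665)))) (BT.node (nat_lit 12576960) (BT.node (nat_lit 12576896) (BT.leaf (nat_lit 36027677)) (BT.leaf (nat_lit 46608645))) (BT.node (nat_lit 12577024) (BT.leaf (nat_lit 51092253)) (BT.leaf (nat_lit 50087429))))) (BT.node (nat_lit 12577152) (BT.node (nat_lit 12577093) (BT.node (nat_lit 12577091) (BT.leaf (nat_lit 50616069)) (BT.leaf (nat_lit 797452))) (BT.node (nat_lit 12577096) (BT.leaf (nat_lit 797452)) (BT.leaf (nat_lit 797452)))) (BT.node (nat_lit 12577280) (BT.node (nat_lit 12577216) (BT.leaf (nat_lit 50106901)) (BT.leaf (nat_lit 50350113))) (BT.node (nat_lit 12577344) (BT.leaf (nat_lit 51655445)) (BT.leaf (nat_lit 33940497)))))) (BT.node (nat_lit 12578304) (BT.node (nat_lit 12578048) (BT.node (nat_lit 12577792) (BT.node (nat_lit 12577728) (BT.leaf (nat_lit 51519253)) (BT.leaf (nat_lit 49803545))) (BT.node (nat_lit 12577920) (BT.leaf (nat_lit 33944337)) (BT.leaf (nat_lit 49084933)))) (BT.node (nat_lit 12578176) (BT.node (nat_lit 12578112) (BT.leaf (nat_lit 52118549)) (BT.leaf (nat_lit 33946653))) (BT.node (nat_lit 12578240) (BT.leaf (nat_lit 36493841)) (BT.leaf (nat_lit 50664197))))) (BT.node (nat_lit 12578560) (BT.node (nat_lit 12578432) (BT.node (nat_lit 12578368) (BT.leaf (nat_lit 37507605)) (BT.leaf (nat_lit 33954577))) (BT.node (nat_lit 12578496) (BT.leaf (nat_lit 34572037)) (BT.leaf (nat_lit 33956113)))) (BT.node (nat_lit 12578688) (BT.node (nat_lit 12578624) (BT.leaf (nat_lit 47660053)) (BT.leaf (nat_lit 50252833))) (BT.node (nat_lit 12578752) (BT.leaf (nat_lit 38088453)) (BT.leaf (nat_lit 49375493)))))))) (BT.node (nat_lit 12581056) (BT.node (nat_lit 12579840) (BT.node (nat_lit 12579200) (BT.node (nat_lit 12579072) (BT.node (nat_lit 12578944) (BT.node (nat_lit 12578880) (BT.leaf (nat_lit 33961737)) (BT.leaf (nat_lit 33962777))) (BT.node (nat_lit 12579008) (BT.leaf (nat_lit 33963025)) (BT.leaf (nat_lit 35623965)))) (BT.node (nat_lit 12579137) (BT.node (nat_lit 12579136) (BT.leaf (nat_lit 51134745)) (BT.leaf (nat_lit 35417361))) (BT.node (nat_lit 12579144) (BT.leaf (nat_lit 799008)) (BT.leaf (nat_lit 799008))))) (BT.node (nat_lit 12579520) (BT.node (nat_lit 12579392) (BT.node (nat_lit 12579328) (BT.leaf (nat_lit 33967113)) (BT.leaf (nat_lit 33967133))) (BT.node (nat_lit 12579456) (BT.leaf (nat_lit 33967377)) (BT.leaf (nat_lit 33967641)))) (BT.node (nat_lit 12579648) (BT.node (nat_lit 12579584) (BT.leaf (nat_lit 33967901)) (BT.leaf (nat_lit 33969437))) (BT.node (nat_lit 12579712) (BT.leaf (nat_lit 33969433)) (BT.leaf (nat_lit 33969937)))))) (BT.node (nat_lit 12580416) (BT.node (nat_lit 12580096) (BT.node (nat_lit 12579968) (BT.node (nat_lit 12579904) (BT.leaf (nat_lit 33970437)) (BT.leaf (nat_lit 50942241))) (BT.node (nat_lit 12580032) (BT.leaf (nat_lit 37873945)) (BT.leaf (nat_lit 33971473)))) (BT.node (nat_lit 12580224) (BT.node (nat_lit 12580160) (BT.leaf (nat_lit 47614989)) (BT.leaf (nat_lit 33971729))) (BT.node (nat_lit 12580352) (BT.leaf (nat_lit 47615773)) (BT.leaf (nat_lit 51635973))))) (BT.node (nat_lit 12580736) (BT.node (nat_lit 12580608) (BT.node (nat_lit 12580544) (BT.leaf (nat_lit 51691289)) (BT.leaf (nat_lit 51636997))) (BT.node (nat_lit 12580672) (BT.leaf (nat_lit 33974281)) (BT.leaf (nat_lit 33974285)))) (BT.node (nat_lit 12580928) (BT.node (nat_lit 12580800) (BT.leaf (nat_lit 33974297)) (BT.leaf (nat_lit 33974301))) (BT.node (nat_lit 12580992) (BT.leaf (nat_lit 33975817)) (BT.leaf (nat_lit 33975841))))))) (BT.node (nat_lit 12582272) (BT.node (nat_lit 12581824) (BT.node (nat_lit 12581376) (BT.node (nat_lit 12581248) (BT.node (nat_lit 12581120) (BT.leaf (nat_lit 44543521)) (BT.leaf (nat_lit 33975833))) (BT.node (nat_lit 12581312) (BT.leaf (nat_lit 33976093)) (BT.leaf (nat_lit 43725089)))) (BT.node (nat_lit 12581632) (BT.node (nat_lit 12581568) (BT.leaf (nat_lit 33978129)) (BT.leaf (nat_lit 50054661))) (BT.node (nat_lit 12581760) (BT.leaf (nat_lit 49906969)) (BT.leaf (nat_lit 33979661))))) (BT.node (nat_lit 12582016) (BT.node (nat_lit 12581952) (BT.node (nat_lit 12581888) (BT.leaf (nat_lit 33979673)) (BT.leaf (nat_lit 33980429))) (BT.node (nat_lit 12581960) (BT.leaf (nat_lit 35846933)) (BT.leaf (nat_lit 788308)))) (BT.node (nat_lit 12582144) (BT.node (nat_lit 12582080) (BT.leaf (nat_lit 50294533)) (BT.leaf (nat_lit 46515717))) (BT.node (nat_lit 12582208) (BT.leaf (nat_lit 48652309)) (BT.leaf (nat_lit 37082905)))))) (BT.node (nat_lit 12582784) (BT.node (nat_lit 12582528) (BT.node (nat_lit 12582400) (BT.node (nat_lit 12582336) (BT.leaf (nat_lit 37082909)) (BT.leaf (nat_lit 33982477))) (BT.node (nat_lit 12582464) (BT.leaf (nat_lit 33983765)) (BT.leaf (nat_lit 33984021)))) (BT.node (nat_lit 12582656) (BT.node (nat_lit 12582592) (BT.leaf (nat_lit 33984269)) (BT.leaf (nat_lit 51049237))) (BT.node (nat_lit 12582720) (BT.leaf (nat_lit 50666785)) (BT.leaf (nat_lit 33985565))))) (BT.node (nat_lit 12583104) (BT.node (nat_lit 12582912) (BT.node (nat_lit 12582848) (BT.leaf (nat_lit 35613713)) (BT.leaf (nat_lit 33986325))) (BT.node (nat_lit 12582976) (BT.leaf (nat_lit 33986585)) (BT.leaf (nat_lit 33986589)))) (BT.node (nat_lit 12583296) (BT.node (nat_lit 12583168) (BT.leaf (nat_lit 33988377)) (BT.leaf (nat_lit 33989393))) (BT.node (nat_lit 12583360) (BT.leaf (nat_lit 47651085)) (BT.leaf (nat_lit 48000277)))))))))) (BT.node (nat_lit 12593856) (BT.node (nat_lit 12588928) (BT.node (nat_lit 12586240) (BT.node (nat_lit 12584704) (BT.node (nat_lit 12584000) (BT.node (nat_lit 12583744) (BT.node (nat_lit 12583552) (BT.node (nat_lit 12583488) (BT.leaf (nat_lit 33990169)) (BT.leaf (nat_lit 33990173))) (BT.node (nat_lit 12583616) (BT.leaf (nat_lit 46641165)) (BT.leaf (nat_lit 36567045)))) (BT.node (nat_lit 12583872) (BT.node (nat_lit 12583808) (BT.leaf (nat_lit 50346513)) (BT.leaf (nat_lit 33993745))) (BT.node (nat_lit 12583936) (BT.leaf (nat_lit 51887637)) (BT.leaf (nat_lit 33994013))))) (BT.node (nat_lit 12584455) (BT.node (nat_lit 12584192) (BT.node (nat_lit 12584064) (BT.leaf (nat_lit 33995281)) (BT.leaf (nat_lit 33996049))) (BT.node (nat_lit 12584448) (BT.leaf (nat_lit 50284549)) (BT.leaf (nat_lit 36868377)))) (BT.node (nat_lit 12584576) (BT.node (nat_lit 12584512) (BT.leaf (nat_lit 812616)) (BT.leaf (nat_lit 52131097))) (BT.node (nat_lit 12584640) (BT.leaf (nat_lit 36291349)) (BT.leaf (nat_lit 33999381)))))) (BT.node (nat_lit 12585408) (BT.node (nat_lit 12585088) (BT.node (nat_lit 12584832) (BT.node (nat_lit 12584768) (BT.leaf (nat_lit 37102881)) (BT.leaf (nat_lit 50335777))) (BT.node (nat_lit 12584896) (BT.leaf (nat_lit 50378505)) (BT.leaf (nat_lit 51543573)))) (BT.node (nat_lit 12585280) (BT.node (nat_lit 12585216) (BT.leaf (nat_lit 34001697)) (BT.leaf (nat_lit 34002197))) (BT.node (nat_lit 12585344) (BT.leaf (nat_lit 34003489)) (BT.leaf (nat_lit 34003477))))) (BT.node (nat_lit 12585856) (BT.node (nat_lit 12585664) (BT.node (nat_lit 12585472) (BT.leaf (nat_lit 34004241)) (BT.leaf (nat_lit 51412753))) (BT.node (nat_lit 12585728) (BT.leaf (nat_lit 51404053)) (BT.leaf (nat_lit 34904353)))) (BT.node (nat_lit 12585984) (BT.node (nat_lit 12585920) (BT.leaf (nat_lit 37527329)) (BT.leaf (nat_lit 51160837))) (BT.node (nat_lit 12586176) (BT.leaf (nat_lit 34193933)) (BT.leaf (nat_lit 34194957))))))) (BT.node (nat_lit 12587520) (BT.node (nat_lit 12586944) (BT.node (nat_lit 12586560) (BT.node (nat_lit 12586432) (BT.node (nat_lit 12586368) (BT.leaf (nat_lit 47572001)) (BT.leaf (nat_lit 52414753))) (BT.node (nat_lit 12586496) (BT.leaf (nat_lit 51511049)) (BT.leaf (nat_lit 34010901)))) (BT.node (nat_lit 12586688) (BT.node (nat_lit 12586624) (BT.leaf (nat_lit 47994129)) (BT.leaf (nat_lit 34343965))) (BT.node (nat_lit 12586752) (BT.leaf (nat_lit 34014997)) (BT.leaf (nat_lit 34015001))))) (BT.node (nat_lit 12587264) (BT.node (nat_lit 12587136) (BT.node (nat_lit 12587072) (BT.leaf (nat_lit 52011297)) (BT.leaf (nat_lit 34016277))) (BT.node (nat_lit 12587200) (BT.leaf (nat_lit 38770437)) (BT.leaf (nat_lit 50394377)))) (BT.node (nat_lit 12587392) (BT.node (nat_lit 12587328) (BT.leaf (nat_lit 34017041)) (BT.leaf (nat_lit 34017817))) (BT.node (nat_lit 12587456) (BT.leaf (nat_lit 34019857)) (BT.leaf (nat_lit 34020889)))))) (BT.node (nat_lit 12588096) (BT.node (nat_lit 12587840) (BT.node (nat_lit 12587648) (BT.node (nat_lit 12587584) (BT.leaf (nat_lit 48303877)) (BT.leaf (nat_lit 34021145))) (BT.node (nat_lit 12587712) (BT.leaf (nat_lit 34021149)) (BT.leaf (nat_lit 47285525)))) (BT.node (nat_lit 12587968) (BT.node (nat_lit 12587904) (BT.leaf (nat_lit 34022169)) (BT.leaf (nat_lit 37408017))) (BT.node (nat_lit 12588032) (BT.leaf (nat_lit 50432529)) (BT.leaf (nat_lit 34022429))))) (BT.node (nat_lit 12588416) (BT.node (nat_lit 12588288) (BT.node (nat_lit 12588160) (BT.leaf (nat_lit 34022661)) (BT.leaf (nat_lit 51469085))) (BT.node (nat_lit 12588352) (BT.leaf (nat_lit 50432789)) (BT.leaf (nat_lit 50373665)))) (BT.node (nat_lit 12588544) (BT.node (nat_lit 12588480) (BT.leaf (nat_lit 34023957)) (BT.leaf (nat_lit 49923605))) (BT.node (nat_lit 12588608) (BT.leaf (nat_lit 50353929)) (BT.leaf (nat_lit 34024981)))))))) (BT.node (nat_lit 12591744) (BT.node (nat_lit 12590400) (BT.node (nat_lit 12589568) (BT.node (nat_lit 12589184) (BT.node (nat_lit 12589056) (BT.node (nat_lit 12588992) (BT.leaf (nat_lit 34024725)) (BT.leaf (nat_lit 37054989))) (BT.node (nat_lit 12589120) (BT.leaf (nat_lit 34024989)) (BT.leaf (nat_lit 36146693)))) (BT.node (nat_lit 12589376) (BT.node (nat_lit 12589312) (BT.leaf (nat_lit 34965785)) (BT.leaf (nat_lit 34027537))) (BT.node (nat_lit 12589440) (BT.leaf (nat_lit 34029329)) (BT.leaf (nat_lit 49263633))))) (BT.node (nat_lit 12590144) (BT.node (nat_lit 12589760) (BT.node (nat_lit 12589696) (BT.leaf (nat_lit 34033429)) (BT.leaf (nat_lit 51826969))) (BT.node (nat_lit 12589952) (BT.leaf (nat_lit 34034961)) (BT.leaf (nat_lit 34035997)))) (BT.node (nat_lit 12590272) (BT.node (nat_lit 12590208) (BT.leaf (nat_lit 34684953)) (BT.leaf (nat_lit 34036497))) (BT.node (nat_lit 12590336) (BT.leaf (nat_lit 49983265)) (BT.leaf (nat_lit 34039057)))))) (BT.node (nat_lit 12591040) (BT.node (nat_lit 12590784) (BT.node (nat_lit 12590656) (BT.node (nat_lit 12590528) (BT.leaf (nat_lit 34040589)) (BT.leaf (nat_lit 50153245))) (BT.node (nat_lit 12590720) (BT.leaf (nat_lit 49988885)) (BT.leaf (nat_lit 34042137)))) (BT.node (nat_lit 12590912) (BT.node (nat_lit 12590848) (BT.leaf (nat_lit 34042141)) (BT.leaf (nat_lit 38910745))) (BT.node (nat_lit 12590976) (BT.leaf (nat_lit 48303389)) (BT.leaf (nat_lit 34043153))))) (BT.node (nat_lit 12591296) (BT.node (nat_lit 12591168) (BT.node (nat_lit 12591104) (BT.leaf (nat_lit 34043417)) (BT.leaf (nat_lit 34043421))) (BT.node (nat_lit 12591232) (BT.leaf (nat_lit 46447621)) (BT.leaf (nat_lit 34045465)))) (BT.node (nat_lit 12591552) (BT.node (nat_lit 12591360) (BT.leaf (nat_lit 34045469)) (BT.leaf (nat_lit 52024593))) (BT.node (nat_lit 12591616) (BT.leaf (nat_lit 37549341)) (BT.leaf (nat_lit 51176225))))))) (BT.node (nat_lit 12592896) (BT.node (nat_lit 12592384) (BT.node (nat_lit 12592128) (BT.node (nat_lit 12591936) (BT.node (nat_lit 12591872) (BT.leaf (nat_lit 37069317)) (BT.leaf (nat_lit 51524105))) (BT.node (nat_lit 12592000) (BT.leaf (nat_lit 49949461)) (BT.leaf (nat_lit 34048793)))) (BT.node (nat_lit 12592256) (BT.node (nat_lit 12592192) (BT.leaf (nat_lit 34049809)) (BT.leaf (nat_lit 43372057))) (BT.node (nat_lit 12592320) (BT.leaf (nat_lit 34051865)) (BT.leaf (nat_lit 34051869))))) (BT.node (nat_lit 12592640) (BT.node (nat_lit 12592512) (BT.node (nat_lit 12592448) (BT.leaf (nat_lit 49847573)) (BT.leaf (nat_lit 50370077))) (BT.node (nat_lit 12592576) (BT.leaf (nat_lit 51670549)) (BT.leaf (nat_lit 50173189)))) (BT.node (nat_lit 12592768) (BT.node (nat_lit 12592704) (BT.leaf (nat_lit 34052357)) (BT.leaf (nat_lit 36339993))) (BT.node (nat_lit 12592832) (BT.leaf (nat_lit 42816273)) (BT.leaf (nat_lit 49469473)))))) (BT.node (nat_lit 12593408) (BT.node (nat_lit 12593152) (BT.node (nat_lit 12593024) (BT.node (nat_lit 12592960) (BT.leaf (nat_lit 35412245)) (BT.leaf (nat_lit 34053905))) (BT.node (nat_lit 12593088) (BT.leaf (nat_lit 34054161)) (BT.leaf (nat_lit 36707333)))) (BT.node (nat_lit 12593280) (BT.node (nat_lit 12593216) (BT.leaf (nat_lit 34056465)) (BT.leaf (nat_lit 51422221))) (BT.node (nat_lit 12593344) (BT.leaf (nat_lit 46123805)) (BT.leaf (nat_lit 43261205))))) (BT.node (nat_lit 12593728) (BT.node (nat_lit 12593536) (BT.node (nat_lit 12593472) (BT.leaf (nat_lit 50373385)) (BT.leaf (nat_lit 46606881))) (BT.node (nat_lit 12593664) (BT.leaf (nat_lit 50285829)) (BT.leaf (nat_lit 35912197)))) (BT.node (nat_lit 12593793) (BT.node (nat_lit 12593792) (BT.leaf (nat_lit 51737605)) (BT.leaf (nat_lit 51088389))) (BT.node (nat_lit 12593794) (BT.leaf (nat_lit 798200)) (BT.leaf (nat_lit 798200))))))))) (BT.node (nat_lit 12598404) (BT.node (nat_lit 12596160) (BT.node (nat_lit 12595008) (BT.node (nat_lit 12594432) (BT.node (nat_lit 12594112) (BT.node (nat_lit 12593984) (BT.node (nat_lit 12593920) (BT.leaf (nat_lit 49821717)) (BT.leaf (nat_lit 44293409))) (BT.node (nat_lit 12594048) (BT.leaf (nat_lit 34061077)) (BT.leaf (nat_lit 48471069)))) (BT.node (nat_lit 12594304) (BT.node (nat_lit 12594240) (BT.leaf (nat_lit 34062357)) (BT.leaf (nat_lit 50722309))) (BT.node (nat_lit 12594368) (BT.leaf (nat_lit 47028257)) (BT.leaf (nat_lit 34062361))))) (BT.node (nat_lit 12594688) (BT.node (nat_lit 12594560) (BT.node (nat_lit 12594496) (BT.leaf (nat_lit 34064161)) (BT.leaf (nat_lit 50806281))) (BT.node (nat_lit 12594624) (BT.leaf (nat_lit 34064405)) (BT.leaf (nat_lit 47077657)))) (BT.node (nat_lit 12594816) (BT.node (nat_lit 12594752) (BT.leaf (nat_lit 52269061)) (BT.leaf (nat_lit 50378777))) (BT.node (nat_lit 12594944) (BT.leaf (nat_lit 34066465)) (BT.leaf (nat_lit 47069201)))))) (BT.node (nat_lit 12595584) (BT.node (nat_lit 12595264) (BT.node (nat_lit 12595136) (BT.node (nat_lit 12595072) (BT.leaf (nat_lit 34067725)) (BT.leaf (nat_lit 34067721))) (BT.node (nat_lit 12595200) (BT.leaf (nat_lit 34067485)) (BT.leaf (nat_lit 34068501)))) (BT.node (nat_lit 12595392) (BT.node (nat_lit 12595328) (BT.leaf (nat_lit 34068757)) (BT.leaf (nat_lit 51150097))) (BT.node (nat_lit 12595456) (BT.leaf (nat_lit 51150101)) (BT.leaf (nat_lit 50280225))))) (BT.node (nat_lit 12595904) (BT.node (nat_lit 12595712) (BT.node (nat_lit 12595648) (BT.leaf (nat_lit 34069789)) (BT.leaf (nat_lit 34070025))) (BT.node (nat_lit 12595776) (BT.leaf (nat_lit 34070029)) (BT.leaf (nat_lit 49811989)))) (BT.node (nat_lit 12596032) (BT.node (nat_lit 12595968) (BT.leaf (nat_lit 52007193)) (BT.leaf (nat_lit 52216081))) (BT.node (nat_lit 12596096) (BT.leaf (nat_lit 34072077)) (BT.leaf (nat_lit 51426841))))))) (BT.node (nat_lit 12597312) (BT.node (nat_lit 12596672) (BT.node (nat_lit 12596416) (BT.node (nat_lit 12596288) (BT.node (nat_lit 12596224) (BT.leaf (nat_lit 34072089)) (BT.leaf (nat_lit 34072337))) (BT.node (nat_lit 12596352) (BT.leaf (nat_lit 34073861)) (BT.leaf (nat_lit 50383897)))) (BT.node (nat_lit 12596544) (BT.node (nat_lit 12596480) (BT.leaf (nat_lit 50338065)) (BT.leaf (nat_lit 34075661))) (BT.node (nat_lit 12596608) (BT.leaf (nat_lit 34075657)) (BT.leaf (nat_lit 34416917))))) (BT.node (nat_lit 12596928) (BT.node (nat_lit 12596800) (BT.node (nat_lit 12596736) (BT.leaf (nat_lit 34075673)) (BT.leaf (nat_lit 34075677))) (BT.node (nat_lit 12596864) (BT.leaf (nat_lit 47671833)) (BT.leaf (nat_lit 34268437)))) (BT.node (nat_lit 12597184) (BT.node (nat_lit 12597120) (BT.leaf (nat_lit 34076689)) (BT.leaf (nat_lit 34077453))) (BT.node (nat_lit 12597248) (BT.leaf (nat_lit 34077469)) (BT.leaf (nat_lit 39023897)))))) (BT.node (nat_lit 12597888) (BT.node (nat_lit 12597568) (BT.node (nat_lit 12597440) (BT.node (nat_lit 12597376) (BT.leaf (nat_lit 34578717)) (BT.leaf (nat_lit 50389773))) (BT.node (nat_lit 12597504) (BT.leaf (nat_lit 51362593)) (BT.leaf (nat_lit 34080529)))) (BT.node (nat_lit 12597696) (BT.node (nat_lit 12597632) (BT.leaf (nat_lit 34081309)) (BT.leaf (nat_lit 34081561))) (BT.node (nat_lit 12597824) (BT.leaf (nat_lit 51099677)) (BT.leaf (nat_lit 47461661))))) (BT.node (nat_lit 12598208) (BT.node (nat_lit 12598080) (BT.node (nat_lit 12597952) (BT.leaf (nat_lit 39782161)) (BT.leaf (nat_lit 34082325))) (BT.node (nat_lit 12598144) (BT.leaf (nat_lit 50781701)) (BT.leaf (nat_lit 35330337)))) (BT.node (nat_lit 12598336) (BT.node (nat_lit 12598272) (BT.leaf (nat_lit 40814369)) (BT.leaf (nat_lit 34085401))) (BT.node (nat_lit 12598400) (BT.leaf (nat_lit 34085405)) (BT.leaf (nat_lit 35887641)))))))) (BT.node (nat_lit 12600832) (BT.node (nat_lit 12599616) (BT.node (nat_lit 12599104) (BT.node (nat_lit 12598784) (BT.node (nat_lit 12598592) (BT.node (nat_lit 12598464) (BT.leaf (nat_lit 803188)) (BT.leaf (nat_lit 49917453))) (BT.node (nat_lit 12598720) (BT.leaf (nat_lit 50591001)) (BT.leaf (nat_lit 51405589)))) (BT.node (nat_lit 12598976) (BT.node (nat_lit 12598912) (BT.leaf (nat_lit 43456777)) (BT.leaf (nat_lit 51248149))) (BT.node (nat_lit 12599040) (BT.leaf (nat_lit 51672093)) (BT.leaf (nat_lit 34088981))))) (BT.node (nat_lit 12599360) (BT.node (nat_lit 12599232) (BT.node (nat_lit 12599168) (BT.leaf (nat_lit 50396701)) (BT.leaf (nat_lit 51419665))) (BT.node (nat_lit 12599296) (BT.leaf (nat_lit 34089505)) (BT.leaf (nat_lit 47331605)))) (BT.node (nat_lit 12599488) (BT.node (nat_lit 12599424) (BT.leaf (nat_lit 47333141)) (BT.leaf (nat_lit 48155917))) (BT.node (nat_lit 12599552) (BT.leaf (nat_lit 34090245)) (BT.leaf (nat_lit 49923845)))))) (BT.node (nat_lit 12600320) (BT.node (nat_lit 12599936) (BT.node (nat_lit 12599744) (BT.node (nat_lit 12599680) (BT.leaf (nat_lit 40660233)) (BT.leaf (nat_lit 40660001))) (BT.node (nat_lit 12599808) (BT.leaf (nat_lit 40659745)) (BT.leaf (nat_lit 40659205)))) (BT.node (nat_lit 12600128) (BT.node (nat_lit 12600000) (BT.leaf (nat_lit 34092565)) (BT.leaf (nat_lit 34092817))) (BT.node (nat_lit 12600256) (BT.leaf (nat_lit 34094097)) (BT.leaf (nat_lit 34094609))))) (BT.node (nat_lit 12600576) (BT.node (nat_lit 12600448) (BT.node (nat_lit 12600384) (BT.leaf (nat_lit 34094865)) (BT.leaf (nat_lit 34095637))) (BT.node (nat_lit 12600512) (BT.leaf (nat_lit 43827225)) (BT.leaf (nat_lit 50401801)))) (BT.node (nat_lit 12600704) (BT.node (nat_lit 12600640) (BT.leaf (nat_lit 44438813)) (BT.leaf (nat_lit 34097173))) (BT.node (nat_lit 12600768) (BT.leaf (nat_lit 34312465)) (BT.leaf (nat_lit 35937545))))))) (BT.node (nat_lit 12601920) (BT.node (nat_lit 12601280) (BT.node (nat_lit 12601024) (BT.node (nat_lit 12600900) (BT.node (nat_lit 12600896) (BT.leaf (nat_lit 51419161)) (BT.leaf (nat_lit 37235217))) (BT.node (nat_lit 12600960) (BT.leaf (nat_lit 804352)) (BT.leaf (nat_lit 34098969)))) (BT.node (nat_lit 12601152) (BT.node (nat_lit 12601088) (BT.leaf (nat_lit 34098973)) (BT.leaf (nat_lit 52146709))) (BT.node (nat_lit 12601216) (BT.leaf (nat_lit 34099985)) (BT.leaf (nat_lit 50086689))))) (BT.node (nat_lit 12601536) (BT.node (nat_lit 12601408) (BT.node (nat_lit 12601344) (BT.leaf (nat_lit 34100753)) (BT.leaf (nat_lit 34100769))) (BT.node (nat_lit 12601472) (BT.leaf (nat_lit 34101265)) (BT.leaf (nat_lit 34101017)))) (BT.node (nat_lit 12601792) (BT.node (nat_lit 12601664) (BT.leaf (nat_lit 34101021)) (BT.leaf (nat_lit 47079429))) (BT.node (nat_lit 12601856) (BT.leaf (nat_lit 35896345)) (BT.leaf (nat_lit 48054545)))))) (BT.node (nat_lit 12602624) (BT.node (nat_lit 12602240) (BT.node (nat_lit 12602112) (BT.node (nat_lit 12601984) (BT.leaf (nat_lit 34103829)) (BT.leaf (nat_lit 34106133))) (BT.node (nat_lit 12602176) (BT.leaf (nat_lit 34106393)) (BT.leaf (nat_lit 34106397)))) (BT.node (nat_lit 12602368) (BT.node (nat_lit 12602304) (BT.leaf (nat_lit 34106905)) (BT.leaf (nat_lit 49856533))) (BT.node (nat_lit 12602432) (BT.leaf (nat_lit 50362117)) (BT.leaf (nat_lit 34110481))))) (BT.node (nat_lit 12602887) (BT.node (nat_lit 12602752) (BT.node (nat_lit 12602688) (BT.leaf (nat_lit 34113809)) (BT.leaf (nat_lit 34114841))) (BT.node (nat_lit 12602880) (BT.leaf (nat_lit 34114845)) (BT.leaf (nat_lit 46508821)))) (BT.node (nat_lit 12603136) (BT.node (nat_lit 12603072) (BT.leaf (nat_lit 807196)) (BT.leaf (nat_lit 51453205))) (BT.node (nat_lit 12603200) (BT.leaf (nat_lit 47151389)) (BT.leaf (nat_lit 34117649)))))))))))))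
noncomputable def big0_e122880 : BT Nat := (BT.node (nat_lit 12681856) (BT.node (nat_lit 12643456) (BT.node (nat_lit 12623360) (BT.node (nat_lit 12613568) (BT.node (nat_lit 12608064) (BT.node (nat_lit 12605952) (BT.node (nat_lit 12604672) (BT.node (nat_lit 12603968) (BT.node (nat_lit 12603520) (BT.node (nat_lit 12603392) (BT.node (nat_lit 12603328) (BT.leaf (nat_lit 50169373)) (BT.leaf (nat_lit 47314197))) (BT.node (nat_lit 12603456) (BT.leaf (nat_lit 50413837)) (BT.leaf (nat_lit 50342689)))) (BT.node (nat_lit 12603648) (BT.node (nat_lit 12603584) (BT.leaf (nat_lit 44549149)) (BT.leaf (nat_lit 34121753))) (BT.node (nat_lit 12603776) (BT.leaf (nat_lit 34121757)) (BT.leaf (nat_lit 34122521))))) (BT.node (nat_lit 12604224) (BT.node (nat_lit 12604096) (BT.node (nat_lit 12604032) (BT.leaf (nat_lit 47080733)) (BT.leaf (nat_lit 34124041))) (BT.node (nat_lit 12604160) (BT.leaf (nat_lit 36772625)) (BT.leaf (nat_lit 50531081)))) (BT.node (nat_lit 12604416) (BT.node (nat_lit 12604288) (BT.leaf (nat_lit 52135429)) (BT.leaf (nat_lit 35980313))) (BT.node (nat_lit 12604608) (BT.leaf (nat_lit 34125329)) (BT.leaf (nat_lit 34125345)))))) (BT.node (nat_lit 12605248) (BT.node (nat_lit 12604992) (BT.node (nat_lit 12604864) (BT.node (nat_lit 12604736) (BT.leaf (nat_lit 34125589)) (BT.leaf (nat_lit 34126097))) (BT.node (nat_lit 12604928) (BT.leaf (nat_lit 48610077)) (BT.leaf (nat_lit 34127897)))) (BT.node (nat_lit 12605120) (BT.node (nat_lit 12605056) (BT.leaf (nat_lit 51668501)) (BT.leaf (nat_lit 34130441))) (BT.node (nat_lit 12605184) (BT.leaf (nat_lit 34130445)) (BT.leaf (nat_lit 37366293))))) (BT.node (nat_lit 12605696) (BT.node (nat_lit 12605315) (BT.node (nat_lit 12605312) (BT.leaf (nat_lit 34131985)) (BT.leaf (nat_lit 51908889))) (BT.node (nat_lit 12605376) (BT.leaf (nat_lit 815868)) (BT.leaf (nat_lit 51400733)))) (BT.node (nat_lit 12605824) (BT.node (nat_lit 12605760) (BT.leaf (nat_lit 34135057)) (BT.leaf (nat_lit 35122973))) (BT.node (nat_lit 12605888) (BT.leaf (nat_lit 34135313)) (BT.leaf (nat_lit 34136089))))))) (BT.node (nat_lit 12606976) (BT.node (nat_lit 12606464) (BT.node (nat_lit 12606208) (BT.node (nat_lit 12606080) (BT.node (nat_lit 12606016) (BT.leaf (nat_lit 34136093)) (BT.leaf (nat_lit 34136097))) (BT.node (nat_lit 12606144) (BT.leaf (nat_lit 40229381)) (BT.leaf (nat_lit 37541897)))) (BT.node (nat_lit 12606336) (BT.node (nat_lit 12606272) (BT.leaf (nat_lit 34138381)) (BT.leaf (nat_lit 34137889))) (BT.node (nat_lit 12606400) (BT.leaf (nat_lit 34138377)) (BT.leaf (nat_lit 47989529))))) (BT.node (nat_lit 12606720) (BT.node (nat_lit 12606592) (BT.node (nat_lit 12606528) (BT.leaf (nat_lit 34139165)) (BT.leaf (nat_lit 34139161))) (BT.node (nat_lit 12606656) (BT.leaf (nat_lit 34139409)) (BT.leaf (nat_lit 46991377)))) (BT.node (nat_lit 12606848) (BT.node (nat_lit 12606784) (BT.leaf (nat_lit 34140193)) (BT.leaf (nat_lit 34140705))) (BT.node (nat_lit 12606912) (BT.leaf (nat_lit 34141473)) (BT.leaf (nat_lit 50427933)))))) (BT.node (nat_lit 12607552) (BT.node (nat_lit 12607296) (BT.node (nat_lit 12607168) (BT.node (nat_lit 12607040) (BT.leaf (nat_lit 50396433)) (BT.leaf (nat_lit 34384913))) (BT.node (nat_lit 12607232) (BT.leaf (nat_lit 45751841)) (BT.leaf (nat_lit 34143241)))) (BT.node (nat_lit 12607424) (BT.node (nat_lit 12607360) (BT.leaf (nat_lit 34143245)) (BT.leaf (nat_lit 34143257))) (BT.node (nat_lit 12607488) (BT.leaf (nat_lit 50615829)) (BT.leaf (nat_lit 34443529))))) (BT.node (nat_lit 12607808) (BT.node (nat_lit 12607680) (BT.node (nat_lit 12607616) (BT.leaf (nat_lit 34827285)) (BT.leaf (nat_lit 46896917))) (BT.node (nat_lit 12607744) (BT.leaf (nat_lit 50930441)) (BT.leaf (nat_lit 47450645)))) (BT.node (nat_lit 12607936) (BT.node (nat_lit 12607872) (BT.leaf (nat_lit 51460885)) (BT.leaf (nat_lit 48303901))) (BT.node (nat_lit 12608000) (BT.leaf (nat_lit 51316245)) (BT.leaf (nat_lit 50157061)))))))) (BT.node (nat_lit 12611136) (BT.node (nat_lit 12609792) (BT.node (nat_lit 12608768) (BT.node (nat_lit 12608384) (BT.node (nat_lit 12608192) (BT.node (nat_lit 12608128) (BT.leaf (nat_lit 51085325)) (BT.leaf (nat_lit 34147849))) (BT.node (nat_lit 12608256) (BT.leaf (nat_lit 34147873)) (BT.leaf (nat_lit 34148373)))) (BT.node (nat_lit 12608640) (BT.node (nat_lit 12608448) (BT.leaf (nat_lit 50433053)) (BT.leaf (nat_lit 34150933))) (BT.node (nat_lit 12608704) (BT.leaf (nat_lit 34152221)) (BT.leaf (nat_lit 34152977))))) (BT.node (nat_lit 12609408) (BT.node (nat_lit 12609216) (BT.node (nat_lit 12609024) (BT.leaf (nat_lit 34155025)) (BT.leaf (nat_lit 34155293))) (BT.node (nat_lit 12609344) (BT.leaf (nat_lit 50540821)) (BT.leaf (nat_lit 52130849)))) (BT.node (nat_lit 12609536) (BT.node (nat_lit 12609472) (BT.leaf (nat_lit 52130829)) (BT.leaf (nat_lit 34158089))) (BT.node (nat_lit 12609728) (BT.leaf (nat_lit 34158093)) (BT.leaf (nat_lit 46508565)))))) (BT.node (nat_lit 12610432) (BT.node (nat_lit 12610112) (BT.node (nat_lit 12609920) (BT.node (nat_lit 12609856) (BT.leaf (nat_lit 35118601)) (BT.leaf (nat_lit 34159629))) (BT.node (nat_lit 12610048) (BT.leaf (nat_lit 35118625)) (BT.leaf (nat_lit 50970913)))) (BT.node (nat_lit 12610240) (BT.node (nat_lit 12610176) (BT.leaf (nat_lit 34159897)) (BT.leaf (nat_lit 34159901))) (BT.node (nat_lit 12610368) (BT.leaf (nat_lit 34160145)) (BT.leaf (nat_lit 48238869))))) (BT.node (nat_lit 12610816) (BT.node (nat_lit 12610688) (BT.node (nat_lit 12610496) (BT.leaf (nat_lit 46692869)) (BT.leaf (nat_lit 46693381))) (BT.node (nat_lit 12610752) (BT.leaf (nat_lit 34163233)) (BT.leaf (nat_lit 34163729)))) (BT.node (nat_lit 12611008) (BT.node (nat_lit 12610944) (BT.leaf (nat_lit 34163997)) (BT.leaf (nat_lit 34165521))) (BT.node (nat_lit 12611072) (BT.leaf (nat_lit 48088845)) (BT.leaf (nat_lit 48088857))))))) (BT.node (nat_lit 12612352) (BT.node (nat_lit 12611840) (BT.node (nat_lit 12611456) (BT.node (nat_lit 12611328) (BT.node (nat_lit 12611264) (BT.leaf (nat_lit 34166049)) (BT.leaf (nat_lit 34167569))) (BT.node (nat_lit 12611392) (BT.leaf (nat_lit 48952581)) (BT.leaf (nat_lit 52168225)))) (BT.node (nat_lit 12611584) (BT.node (nat_lit 12611520) (BT.leaf (nat_lit 50791953)) (BT.leaf (nat_lit 52168993))) (BT.node (nat_lit 12611776) (BT.leaf (nat_lit 52168737)) (BT.leaf (nat_lit 34171413))))) (BT.node (nat_lit 12612096) (BT.node (nat_lit 12611968) (BT.node (nat_lit 12611904) (BT.leaf (nat_lit 34171657)) (BT.leaf (nat_lit 34171661))) (BT.node (nat_lit 12612032) (BT.leaf (nat_lit 34171933)) (BT.leaf (nat_lit 34172185)))) (BT.node (nat_lit 12612224) (BT.node (nat_lit 12612160) (BT.leaf (nat_lit 34490137)) (BT.leaf (nat_lit 34172433))) (BT.node (nat_lit 12612288) (BT.leaf (nat_lit 34172689)) (BT.leaf (nat_lit 34172693)))))) (BT.node (nat_lit 12612928) (BT.node (nat_lit 12612608) (BT.node (nat_lit 12612480) (BT.node (nat_lit 12612416) (BT.leaf (nat_lit 34172945)) (BT.leaf (nat_lit 34173201))) (BT.node (nat_lit 12612544) (BT.leaf (nat_lit 34174485)) (BT.leaf (nat_lit 52167437)))) (BT.node (nat_lit 12612736) (BT.node (nat_lit 12612672) (BT.leaf (nat_lit 34175757)) (BT.leaf (nat_lit 34176021))) (BT.node (nat_lit 12612740) (BT.leaf (nat_lit 34176025)) (BT.leaf (nat_lit 798064))))) (BT.node (nat_lit 12613248) (BT.node (nat_lit 12613056) (BT.node (nat_lit 12612992) (BT.leaf (nat_lit 36350741)) (BT.leaf (nat_lit 35926805))) (BT.node (nat_lit 12613184) (BT.leaf (nat_lit 34179601)) (BT.leaf (nat_lit 49138977)))) (BT.node (nat_lit 12613440) (BT.node (nat_lit 12613376) (BT.leaf (nat_lit 50844705)) (BT.leaf (nat_lit 34180629))) (BT.node (nat_lit 12613504) (BT.leaf (nat_lit 48577549)) (BT.leaf (nat_lit 45979157))))))))) (BT.node (nat_lit 12618752) (BT.node (nat_lit 12616000) (BT.node (nat_lit 12614656) (BT.node (nat_lit 12614080) (BT.node (nat_lit 12613824) (BT.node (nat_lit 12613696) (BT.node (nat_lit 12613632) (BT.leaf (nat_lit 49888545)) (BT.leaf (nat_lit 50455049))) (BT.node (nat_lit 12613760) (BT.leaf (nat_lit 34182177)) (BT.leaf (nat_lit 47109917)))) (BT.node (nat_lit 12613952) (BT.node (nat_lit 12613888) (BT.leaf (nat_lit 34182661)) (BT.leaf (nat_lit 47109901))) (BT.node (nat_lit 12614016) (BT.leaf (nat_lit 50455577)) (BT.leaf (nat_lit 51623437))))) (BT.node (nat_lit 12614400) (BT.node (nat_lit 12614272) (BT.node (nat_lit 12614208) (BT.leaf (nat_lit 47944477)) (BT.leaf (nat_lit 39290885))) (BT.node (nat_lit 12614336) (BT.leaf (nat_lit 34186017)) (BT.leaf (nat_lit 34187793)))) (BT.node (nat_lit 12614528) (BT.node (nat_lit 12614464) (BT.leaf (nat_lit 47262241)) (BT.leaf (nat_lit 48004613))) (BT.node (nat_lit 12614592) (BT.leaf (nat_lit 50414085)) (BT.leaf (nat_lit 47261985)))))) (BT.node (nat_lit 12615168) (BT.node (nat_lit 12614849) (BT.node (nat_lit 12614784) (BT.node (nat_lit 12614720) (BT.leaf (nat_lit 34189585)) (BT.leaf (nat_lit 34192921))) (BT.node (nat_lit 12614848) (BT.leaf (nat_lit 51165469)) (BT.leaf (nat_lit 51514377)))) (BT.node (nat_lit 12614976) (BT.node (nat_lit 12614912) (BT.leaf (nat_lit 808360)) (BT.leaf (nat_lit 34194701))) (BT.node (nat_lit 12615104) (BT.leaf (nat_lit 34194705)) (BT.leaf (nat_lit 34196241))))) (BT.node (nat_lit 12615616) (BT.node (nat_lit 12615360) (BT.node (nat_lit 12615296) (BT.leaf (nat_lit 34196753)) (BT.leaf (nat_lit 34197789))) (BT.node (nat_lit 12615488) (BT.leaf (nat_lit 34198301)) (BT.leaf (nat_lit 34198801)))) (BT.node (nat_lit 12615808) (BT.node (nat_lit 12615744) (BT.leaf (nat_lit 37490965)) (BT.leaf (nat_lit 47540257))) (BT.node (nat_lit 12615936) (BT.leaf (nat_lit 34202129)) (BT.leaf (nat_lit 34203153))))))) (BT.node (nat_lit 12617280) (BT.node (nat_lit 12616576) (BT.node (nat_lit 12616320) (BT.node (nat_lit 12616192) (BT.node (nat_lit 12616128) (BT.leaf (nat_lit 34203157)) (BT.leaf (nat_lit 34204697))) (BT.node (nat_lit 12616256) (BT.leaf (nat_lit 34204701)) (BT.leaf (nat_lit 34205201)))) (BT.node (nat_lit 12616448) (BT.node (nat_lit 12616384) (BT.leaf (nat_lit 34205205)) (BT.leaf (nat_lit 34205457))) (BT.node (nat_lit 12616512) (BT.leaf (nat_lit 34206217)) (BT.leaf (nat_lit 34206741))))) (BT.node (nat_lit 12616896) (BT.node (nat_lit 12616704) (BT.node (nat_lit 12616640) (BT.leaf (nat_lit 34206993)) (BT.leaf (nat_lit 34208265))) (BT.node (nat_lit 12616768) (BT.leaf (nat_lit 34208269)) (BT.leaf (nat_lit 34208281)))) (BT.node (nat_lit 12617088) (BT.node (nat_lit 12617024) (BT.leaf (nat_lit 34211349)) (BT.leaf (nat_lit 50486037))) (BT.node (nat_lit 12617216) (BT.leaf (nat_lit 34212633)) (BT.leaf (nat_lit 34212889)))))) (BT.node (nat_lit 12617920) (BT.node (nat_lit 12617600) (BT.node (nat_lit 12617472) (BT.node (nat_lit 12617344) (BT.leaf (nat_lit 34213137)) (BT.leaf (nat_lit 34214417))) (BT.node (nat_lit 12617536) (BT.leaf (nat_lit 36413969)) (BT.leaf (nat_lit 51625745)))) (BT.node (nat_lit 12617792) (BT.node (nat_lit 12617664) (BT.leaf (nat_lit 51437853)) (BT.leaf (nat_lit 34215961))) (BT.node (nat_lit 12617856) (BT.leaf (nat_lit 47564293)) (BT.leaf (nat_lit 34216713))))) (BT.node (nat_lit 12618304) (BT.node (nat_lit 12618112) (BT.node (nat_lit 12617984) (BT.leaf (nat_lit 34216977)) (BT.leaf (nat_lit 48267037))) (BT.node (nat_lit 12618176) (BT.leaf (nat_lit 48267033)) (BT.leaf (nat_lit 48914965)))) (BT.node (nat_lit 12618432) (BT.node (nat_lit 12618368) (BT.leaf (nat_lit 34219541)) (BT.leaf (nat_lit 34219797))) (BT.node (nat_lit 12618560) (BT.leaf (nat_lit 36347681)) (BT.leaf (nat_lit 34221081)))))))) (BT.node (nat_lit 12620928) (BT.node (nat_lit 12619840) (BT.node (nat_lit 12619264) (BT.node (nat_lit 12619008) (BT.node (nat_lit 12618880) (BT.node (nat_lit 12618816) (BT.leaf (nat_lit 34222869)) (BT.leaf (nat_lit 50475549))) (BT.node (nat_lit 12618944) (BT.leaf (nat_lit 51595553)) (BT.leaf (nat_lit 48172825)))) (BT.node (nat_lit 12619136) (BT.node (nat_lit 12619072) (BT.leaf (nat_lit 48172305)) (BT.leaf (nat_lit 48172309))) (BT.node (nat_lit 12619200) (BT.leaf (nat_lit 34224157)) (BT.leaf (nat_lit 48167177))))) (BT.node (nat_lit 12619456) (BT.node (nat_lit 12619328) (BT.node (nat_lit 12619271) (BT.leaf (nat_lit 34224657)) (BT.leaf (nat_lit 813812))) (BT.node (nat_lit 12619392) (BT.leaf (nat_lit 34224925)) (BT.leaf (nat_lit 50664469)))) (BT.node (nat_lit 12619648) (BT.node (nat_lit 12619520) (BT.leaf (nat_lit 34227485)) (BT.leaf (nat_lit 47339041))) (BT.node (nat_lit 12619712) (BT.leaf (nat_lit 50144545)) (BT.leaf (nat_lit 50153989)))))) (BT.node (nat_lit 12620224) (BT.node (nat_lit 12620096) (BT.node (nat_lit 12619968) (BT.node (nat_lit 12619904) (BT.leaf (nat_lit 34229521)) (BT.leaf (nat_lit 43008021))) (BT.node (nat_lit 12620032) (BT.leaf (nat_lit 50630937)) (BT.leaf (nat_lit 34230289)))) (BT.node (nat_lit 12620164) (BT.node (nat_lit 12620160) (BT.leaf (nat_lit 34230545)) (BT.leaf (nat_lit 34231325))) (BT.node (nat_lit 12620165) (BT.leaf (nat_lit 790668)) (BT.leaf (nat_lit 790668))))) (BT.node (nat_lit 12620672) (BT.node (nat_lit 12620416) (BT.node (nat_lit 12620288) (BT.leaf (nat_lit 34231577)) (BT.leaf (nat_lit 34231581))) (BT.node (nat_lit 12620608) (BT.leaf (nat_lit 34231837)) (BT.leaf (nat_lit 34232089)))) (BT.node (nat_lit 12620800) (BT.node (nat_lit 12620736) (BT.leaf (nat_lit 47433733)) (BT.leaf (nat_lit 34232341))) (BT.node (nat_lit 12620864) (BT.leaf (nat_lit 51433753)) (BT.leaf (nat_lit 50237957))))))) (BT.node (nat_lit 12622208) (BT.node (nat_lit 12621632) (BT.node (nat_lit 12621312) (BT.node (nat_lit 12621184) (BT.node (nat_lit 12621120) (BT.leaf (nat_lit 39037445)) (BT.leaf (nat_lit 34234901))) (BT.node (nat_lit 12621248) (BT.leaf (nat_lit 50954017)) (BT.leaf (nat_lit 50954273)))) (BT.node (nat_lit 12621504) (BT.node (nat_lit 12621440) (BT.leaf (nat_lit 34235925)) (BT.leaf (nat_lit 46943009))) (BT.node (nat_lit 12621568) (BT.leaf (nat_lit 49650977)) (BT.leaf (nat_lit 34237969))))) (BT.node (nat_lit 12621952) (BT.node (nat_lit 12621760) (BT.node (nat_lit 12621696) (BT.leaf (nat_lit 34237973)) (BT.leaf (nat_lit 34346765))) (BT.node (nat_lit 12621888) (BT.leaf (nat_lit 45018133)) (BT.leaf (nat_lit 34240281)))) (BT.node (nat_lit 12622080) (BT.node (nat_lit 12622016) (BT.leaf (nat_lit 34240285)) (BT.leaf (nat_lit 34241553))) (BT.node (nat_lit 12622144) (BT.leaf (nat_lit 34242065)) (BT.leaf (nat_lit 49070105)))))) (BT.node (nat_lit 12622720) (BT.node (nat_lit 12622407) (BT.node (nat_lit 12622336) (BT.node (nat_lit 12622272) (BT.leaf (nat_lit 50224909)) (BT.leaf (nat_lit 50225161))) (BT.node (nat_lit 12622400) (BT.leaf (nat_lit 34243601)) (BT.leaf (nat_lit 34243349)))) (BT.node (nat_lit 12622592) (BT.node (nat_lit 12622469) (BT.leaf (nat_lit 792984)) (BT.leaf (nat_lit 805640))) (BT.node (nat_lit 12622656) (BT.leaf (nat_lit 49037337)) (BT.leaf (nat_lit 48247557))))) (BT.node (nat_lit 12622976) (BT.node (nat_lit 12622848) (BT.node (nat_lit 12622784) (BT.leaf (nat_lit 34243865)) (BT.leaf (nat_lit 48247581))) (BT.node (nat_lit 12622912) (BT.leaf (nat_lit 50224153)) (BT.leaf (nat_lit 51770897)))) (BT.node (nat_lit 12623104) (BT.node (nat_lit 12623040) (BT.leaf (nat_lit 34244889)) (BT.leaf (nat_lit 36374049))) (BT.node (nat_lit 12623296) (BT.leaf (nat_lit 36374305)) (BT.leaf (nat_lit 34245393)))))))))) (BT.node (nat_lit 12633344) (BT.node (nat_lit 12628672) (BT.node (nat_lit 12626112) (BT.node (nat_lit 12624768) (BT.node (nat_lit 12624000) (BT.node (nat_lit 12623744) (BT.node (nat_lit 12623616) (BT.node (nat_lit 12623552) (BT.leaf (nat_lit 34246421)) (BT.leaf (nat_lit 34248221))) (BT.node (nat_lit 12623680) (BT.leaf (nat_lit 51509525)) (BT.leaf (nat_lit 34249225)))) (BT.node (nat_lit 12623872) (BT.node (nat_lit 12623808) (BT.leaf (nat_lit 34249229)) (BT.leaf (nat_lit 41418513))) (BT.node (nat_lit 12623936) (BT.leaf (nat_lit 34251017)) (BT.leaf (nat_lit 34251021))))) (BT.node (nat_lit 12624320) (BT.node (nat_lit 12624192) (BT.node (nat_lit 12624128) (BT.leaf (nat_lit 34251033)) (BT.leaf (nat_lit 34251281))) (BT.node (nat_lit 12624256) (BT.leaf (nat_lit 48170513)) (BT.leaf (nat_lit 34251545)))) (BT.node (nat_lit 12624448) (BT.node (nat_lit 12624384) (BT.leaf (nat_lit 42821921)) (BT.leaf (nat_lit 49188869))) (BT.node (nat_lit 12624576) (BT.leaf (nat_lit 48166165)) (BT.leaf (nat_lit 50869765)))))) (BT.node (nat_lit 12625344) (BT.node (nat_lit 12625024) (BT.node (nat_lit 12624896) (BT.node (nat_lit 12624832) (BT.leaf (nat_lit 34255897)) (BT.leaf (nat_lit 48850453))) (BT.node (nat_lit 12624960) (BT.leaf (nat_lit 35930641)) (BT.leaf (nat_lit 34256413)))) (BT.node (nat_lit 12625152) (BT.node (nat_lit 12625088) (BT.leaf (nat_lit 34257437)) (BT.leaf (nat_lit 34257673))) (BT.node (nat_lit 12625280) (BT.leaf (nat_lit 38327057)) (BT.leaf (nat_lit 47436037))))) (BT.node (nat_lit 12625792) (BT.node (nat_lit 12625472) (BT.node (nat_lit 12625408) (BT.leaf (nat_lit 34258193)) (BT.leaf (nat_lit 50930973))) (BT.node (nat_lit 12625600) (BT.leaf (nat_lit 36216597)) (BT.leaf (nat_lit 34259481)))) (BT.node (nat_lit 12625920) (BT.node (nat_lit 12625856) (BT.leaf (nat_lit 34260505)) (BT.leaf (nat_lit 34260509))) (BT.node (nat_lit 12625984) (BT.leaf (nat_lit 34260757)) (BT.leaf (nat_lit 34261009))))))) (BT.node (nat_lit 12627334) (BT.node (nat_lit 12626624) (BT.node (nat_lit 12626368) (BT.node (nat_lit 12626240) (BT.node (nat_lit 12626176) (BT.leaf (nat_lit 49198869)) (BT.leaf (nat_lit 34262805))) (BT.node (nat_lit 12626304) (BT.leaf (nat_lit 34263825)) (BT.leaf (nat_lit 51992601)))) (BT.node (nat_lit 12626496) (BT.node (nat_lit 12626432) (BT.leaf (nat_lit 38950921)) (BT.leaf (nat_lit 47871509))) (BT.node (nat_lit 12626560) (BT.leaf (nat_lit 34265109)) (BT.leaf (nat_lit 47499797))))) (BT.node (nat_lit 12627072) (BT.node (nat_lit 12626752) (BT.node (nat_lit 12626688) (BT.leaf (nat_lit 34265877)) (BT.leaf (nat_lit 34265881))) (BT.node (nat_lit 12627008) (BT.leaf (nat_lit 34265885)) (BT.leaf (nat_lit 40949793)))) (BT.node (nat_lit 12627264) (BT.node (nat_lit 12627136) (BT.leaf (nat_lit 47392773)) (BT.leaf (nat_lit 51904261))) (BT.node (nat_lit 12627328) (BT.leaf (nat_lit 34267681)) (BT.leaf (nat_lit 49117961)))))) (BT.node (nat_lit 12627904) (BT.node (nat_lit 12627584) (BT.node (nat_lit 12627456) (BT.node (nat_lit 12627392) (BT.leaf (nat_lit 794804)) (BT.leaf (nat_lit 51448837))) (BT.node (nat_lit 12627520) (BT.leaf (nat_lit 34272533)) (BT.leaf (nat_lit 34268945)))) (BT.node (nat_lit 12627776) (BT.node (nat_lit 12627712) (BT.leaf (nat_lit 50185221)) (BT.leaf (nat_lit 51398677))) (BT.node (nat_lit 12627840) (BT.leaf (nat_lit 34269725)) (BT.leaf (nat_lit 36003865))))) (BT.node (nat_lit 12628352) (BT.node (nat_lit 12628032) (BT.node (nat_lit 12627968) (BT.leaf (nat_lit 50389789)) (BT.leaf (nat_lit 37512965))) (BT.node (nat_lit 12628096) (BT.leaf (nat_lit 34271513)) (BT.leaf (nat_lit 34271517)))) (BT.node (nat_lit 12628544) (BT.node (nat_lit 12628480) (BT.leaf (nat_lit 52272645)) (BT.leaf (nat_lit 37170209))) (BT.node (nat_lit 12628608) (BT.leaf (nat_lit 48297753)) (BT.leaf (nat_lit 35882253)))))))) (BT.node (nat_lit 12630784) (BT.node (nat_lit 12629696) (BT.node (nat_lit 12629184) (BT.node (nat_lit 12628928) (BT.node (nat_lit 12628800) (BT.node (nat_lit 12628736) (BT.leaf (nat_lit 35883789)) (BT.leaf (nat_lit 35317509))) (BT.node (nat_lit 12628864) (BT.leaf (nat_lit 34274841)) (BT.leaf (nat_lit 34274845)))) (BT.node (nat_lit 12629056) (BT.node (nat_lit 12628992) (BT.leaf (nat_lit 48591645)) (BT.leaf (nat_lit 47182597))) (BT.node (nat_lit 12629120) (BT.leaf (nat_lit 46594837)) (BT.leaf (nat_lit 34276881))))) (BT.node (nat_lit 12629440) (BT.node (nat_lit 12629312) (BT.node (nat_lit 12629248) (BT.leaf (nat_lit 34277137)) (BT.leaf (nat_lit 34277389))) (BT.node (nat_lit 12629376) (BT.leaf (nat_lit 34278409)) (BT.leaf (nat_lit 34279705)))) (BT.node (nat_lit 12629568) (BT.node (nat_lit 12629504) (BT.leaf (nat_lit 34279709)) (BT.leaf (nat_lit 34281245))) (BT.node (nat_lit 12629632) (BT.leaf (nat_lit 40050977)) (BT.leaf (nat_lit 34282261)))))) (BT.node (nat_lit 12630208) (BT.node (nat_lit 12629952) (BT.node (nat_lit 12629824) (BT.node (nat_lit 12629760) (BT.leaf (nat_lit 34282265)) (BT.leaf (nat_lit 34282269))) (BT.node (nat_lit 12629888) (BT.leaf (nat_lit 34283537)) (BT.leaf (nat_lit 34284825)))) (BT.node (nat_lit 12630080) (BT.node (nat_lit 12629960) (BT.leaf (nat_lit 35952405)) (BT.leaf (nat_lit 803684))) (BT.node (nat_lit 12630144) (BT.leaf (nat_lit 50223881)) (BT.leaf (nat_lit 34910481))))) (BT.node (nat_lit 12630464) (BT.node (nat_lit 12630336) (BT.node (nat_lit 12630272) (BT.leaf (nat_lit 34286877)) (BT.leaf (nat_lit 38219037))) (BT.node (nat_lit 12630400) (BT.leaf (nat_lit 34287381)) (BT.leaf (nat_lit 34289681)))) (BT.node (nat_lit 12630656) (BT.node (nat_lit 12630528) (BT.leaf (nat_lit 34289945)) (BT.leaf (nat_lit 52000029))) (BT.node (nat_lit 12630720) (BT.leaf (nat_lit 35890961)) (BT.leaf (nat_lit 34290717))))))) (BT.node (nat_lit 12632128) (BT.node (nat_lit 12631296) (BT.node (nat_lit 12631040) (BT.node (nat_lit 12630912) (BT.node (nat_lit 12630848) (BT.leaf (nat_lit 35890705)) (BT.leaf (nat_lit 51253281))) (BT.node (nat_lit 12630976) (BT.leaf (nat_lit 51047965)) (BT.leaf (nat_lit 36815377)))) (BT.node (nat_lit 12631168) (BT.node (nat_lit 12631104) (BT.leaf (nat_lit 34292761)) (BT.leaf (nat_lit 34293009))) (BT.node (nat_lit 12631232) (BT.leaf (nat_lit 34293013)) (BT.leaf (nat_lit 34293269))))) (BT.node (nat_lit 12631680) (BT.node (nat_lit 12631552) (BT.node (nat_lit 12631488) (BT.leaf (nat_lit 34293521)) (BT.leaf (nat_lit 50150177))) (BT.node (nat_lit 12631616) (BT.leaf (nat_lit 51413001)) (BT.leaf (nat_lit 50834949)))) (BT.node (nat_lit 12632000) (BT.node (nat_lit 12631936) (BT.leaf (nat_lit 50373657)) (BT.leaf (nat_lit 34297105))) (BT.node (nat_lit 12632064) (BT.leaf (nat_lit 34297361)) (BT.leaf (nat_lit 49084705)))))) (BT.node (nat_lit 12632704) (BT.node (nat_lit 12632448) (BT.node (nat_lit 12632256) (BT.node (nat_lit 12632192) (BT.leaf (nat_lit 34299925)) (BT.leaf (nat_lit 48341001))) (BT.node (nat_lit 12632320) (BT.leaf (nat_lit 44800277)) (BT.leaf (nat_lit 34301725)))) (BT.node (nat_lit 12632576) (BT.node (nat_lit 12632512) (BT.leaf (nat_lit 35158293)) (BT.leaf (nat_lit 49179397))) (BT.node (nat_lit 12632640) (BT.leaf (nat_lit 48896533)) (BT.leaf (nat_lit 50459169))))) (BT.node (nat_lit 12633024) (BT.node (nat_lit 12632832) (BT.node (nat_lit 12632768) (BT.leaf (nat_lit 50531101)) (BT.leaf (nat_lit 52027921))) (BT.node (nat_lit 12632896) (BT.leaf (nat_lit 50127905)) (BT.leaf (nat_lit 34307857)))) (BT.node (nat_lit 12633152) (BT.node (nat_lit 12633088) (BT.leaf (nat_lit 34308881)) (BT.leaf (nat_lit 34309393))) (BT.node (nat_lit 12633216) (BT.leaf (nat_lit 34309661)) (BT.leaf (nat_lit 51605789))))))))) (BT.node (nat_lit 12638592) (BT.node (nat_lit 12636160) (BT.node (nat_lit 12635136) (BT.node (nat_lit 12634304) (BT.node (nat_lit 12633856) (BT.node (nat_lit 12633728) (BT.node (nat_lit 12633472) (BT.leaf (nat_lit 34311953)) (BT.leaf (nat_lit 34311969))) (BT.node (nat_lit 12633792) (BT.leaf (nat_lit 34313233)) (BT.leaf (nat_lit 34314257)))) (BT.node (nat_lit 12634048) (BT.node (nat_lit 12633920) (BT.leaf (nat_lit 34313753)) (BT.leaf (nat_lit 34313757))) (BT.node (nat_lit 12634240) (BT.leaf (nat_lit 34315025)) (BT.leaf (nat_lit 36083205))))) (BT.node (nat_lit 12634752) (BT.node (nat_lit 12634496) (BT.node (nat_lit 12634368) (BT.leaf (nat_lit 34316569)) (BT.leaf (nat_lit 34316573))) (BT.node (nat_lit 12634688) (BT.leaf (nat_lit 48971013)) (BT.leaf (nat_lit 34317853)))) (BT.node (nat_lit 12634880) (BT.node (nat_lit 12634816) (BT.leaf (nat_lit 34318113)) (BT.leaf (nat_lit 37635349))) (BT.node (nat_lit 12635072) (BT.leaf (nat_lit 50539277)) (BT.leaf (nat_lit 34320909)))))) (BT.node (nat_lit 12635648) (BT.node (nat_lit 12635392) (BT.node (nat_lit 12635264) (BT.node (nat_lit 12635200) (BT.leaf (nat_lit 34320925)) (BT.leaf (nat_lit 34321177))) (BT.node (nat_lit 12635328) (BT.leaf (nat_lit 35437841)) (BT.leaf (nat_lit 34321437)))) (BT.node (nat_lit 12635520) (BT.node (nat_lit 12635456) (BT.leaf (nat_lit 36665629)) (BT.leaf (nat_lit 38859041))) (BT.node (nat_lit 12635584) (BT.leaf (nat_lit 48465157)) (BT.leaf (nat_lit 46670357))))) (BT.node (nat_lit 12635904) (BT.node (nat_lit 12635776) (BT.node (nat_lit 12635712) (BT.leaf (nat_lit 34323985)) (BT.leaf (nat_lit 49206045))) (BT.node (nat_lit 12635840) (BT.leaf (nat_lit 41343761)) (BT.leaf (nat_lit 49042965)))) (BT.node (nat_lit 12636032) (BT.node (nat_lit 12635968) (BT.leaf (nat_lit 48853269)) (BT.leaf (nat_lit 34326289))) (BT.node (nat_lit 12636096) (BT.leaf (nat_lit 49919773)) (BT.leaf (nat_lit 48127517))))))) (BT.node (nat_lit 12637440) (BT.node (nat_lit 12636800) (BT.node (nat_lit 12636480) (BT.node (nat_lit 12636288) (BT.node (nat_lit 12636224) (BT.leaf (nat_lit 34326545)) (BT.leaf (nat_lit 34326809))) (BT.node (nat_lit 12636416) (BT.leaf (nat_lit 46895385)) (BT.leaf (nat_lit 34327833)))) (BT.node (nat_lit 12636672) (BT.node (nat_lit 12636544) (BT.leaf (nat_lit 34327837)) (BT.leaf (nat_lit 36373509))) (BT.node (nat_lit 12636736) (BT.leaf (nat_lit 44121633)) (BT.leaf (nat_lit 34329617))))) (BT.node (nat_lit 12637056) (BT.node (nat_lit 12636928) (BT.node (nat_lit 12636864) (BT.leaf (nat_lit 34329633)) (BT.leaf (nat_lit 47526681))) (BT.node (nat_lit 12636992) (BT.leaf (nat_lit 34331157)) (BT.leaf (nat_lit 34333721)))) (BT.node (nat_lit 12637184) (BT.node (nat_lit 12637120) (BT.leaf (nat_lit 50549785)) (BT.leaf (nat_lit 34331669))) (BT.node (nat_lit 12637248) (BT.leaf (nat_lit 34331913)) (BT.leaf (nat_lit 34331917)))))) (BT.node (nat_lit 12637952) (BT.node (nat_lit 12637696) (BT.node (nat_lit 12637568) (BT.node (nat_lit 12637504) (BT.leaf (nat_lit 34333705)) (BT.leaf (nat_lit 48646661))) (BT.node (nat_lit 12637632) (BT.leaf (nat_lit 34334989)) (BT.leaf (nat_lit 34335001)))) (BT.node (nat_lit 12637824) (BT.node (nat_lit 12637760) (BT.leaf (nat_lit 34335005)) (BT.leaf (nat_lit 34335777))) (BT.node (nat_lit 12637888) (BT.leaf (nat_lit 34336033)) (BT.leaf (nat_lit 51253253))))) (BT.node (nat_lit 12638272) (BT.node (nat_lit 12638144) (BT.node (nat_lit 12638016) (BT.leaf (nat_lit 47826201)) (BT.leaf (nat_lit 34339089))) (BT.node (nat_lit 12638208) (BT.leaf (nat_lit 34339609)) (BT.leaf (nat_lit 34339613)))) (BT.node (nat_lit 12638464) (BT.node (nat_lit 12638400) (BT.leaf (nat_lit 34339865)) (BT.leaf (nat_lit 51239969))) (BT.node (nat_lit 12638528) (BT.leaf (nat_lit 34341141)) (BT.leaf (nat_lit 34342681)))))))) (BT.node (nat_lit 12640960) (BT.node (nat_lit 12639744) (BT.node (nat_lit 12639104) (BT.node (nat_lit 12638848) (BT.node (nat_lit 12638720) (BT.node (nat_lit 12638656) (BT.leaf (nat_lit 34342685)) (BT.leaf (nat_lit 46672901))) (BT.node (nat_lit 12638784) (BT.leaf (nat_lit 34343961)) (BT.leaf (nat_lit 50602757)))) (BT.node (nat_lit 12638976) (BT.node (nat_lit 12638912) (BT.leaf (nat_lit 50898693)) (BT.leaf (nat_lit 34344221))) (BT.node (nat_lit 12639040) (BT.leaf (nat_lit 34344473)) (BT.leaf (nat_lit 34344477))))) (BT.node (nat_lit 12639360) (BT.node (nat_lit 12639232) (BT.node (nat_lit 12639168) (BT.leaf (nat_lit 34344729)) (BT.leaf (nat_lit 34344733))) (BT.node (nat_lit 12639296) (BT.leaf (nat_lit 34344981)) (BT.leaf (nat_lit 34344985)))) (BT.node (nat_lit 12639552) (BT.node (nat_lit 12639488) (BT.leaf (nat_lit 34344989)) (BT.leaf (nat_lit 34347533))) (BT.node (nat_lit 12639616) (BT.leaf (nat_lit 34349085)) (BT.leaf (nat_lit 34350873)))))) (BT.node (nat_lit 12640192) (BT.node (nat_lit 12640000) (BT.node (nat_lit 12639872) (BT.node (nat_lit 12639808) (BT.leaf (nat_lit 45287189)) (BT.leaf (nat_lit 34351133))) (BT.node (nat_lit 12639936) (BT.leaf (nat_lit 45287193)) (BT.leaf (nat_lit 50163993)))) (BT.node (nat_lit 12640128) (BT.node (nat_lit 12640064) (BT.leaf (nat_lit 36005909)) (BT.leaf (nat_lit 50163997))) (BT.node (nat_lit 12640135) (BT.leaf (nat_lit 34352657)) (BT.leaf (nat_lit 797716))))) (BT.node (nat_lit 12640704) (BT.node (nat_lit 12640512) (BT.node (nat_lit 12640259) (BT.leaf (nat_lit 50114593)) (BT.leaf (nat_lit 797708))) (BT.node (nat_lit 12640640) (BT.leaf (nat_lit 34355985)) (BT.leaf (nat_lit 34357769)))) (BT.node (nat_lit 12640832) (BT.node (nat_lit 12640768) (BT.leaf (nat_lit 51214613)) (BT.leaf (nat_lit 50227717))) (BT.node (nat_lit 12640896) (BT.leaf (nat_lit 34360093)) (BT.leaf (nat_lit 35957269))))))) (BT.node (nat_lit 12642176) (BT.node (nat_lit 12641536) (BT.node (nat_lit 12641344) (BT.node (nat_lit 12641152) (BT.node (nat_lit 12641088) (BT.leaf (nat_lit 50119201)) (BT.leaf (nat_lit 34362393))) (BT.node (nat_lit 12641280) (BT.leaf (nat_lit 34362641)) (BT.leaf (nat_lit 50174497)))) (BT.node (nat_lit 12641412) (BT.node (nat_lit 12641408) (BT.leaf (nat_lit 43453985)) (BT.leaf (nat_lit 34364185))) (BT.node (nat_lit 12641472) (BT.leaf (nat_lit 798400)) (BT.leaf (nat_lit 34364437))))) (BT.node (nat_lit 12641856) (BT.node (nat_lit 12641728) (BT.node (nat_lit 12641664) (BT.leaf (nat_lit 34364681)) (BT.leaf (nat_lit 52329505))) (BT.node (nat_lit 12641792) (BT.leaf (nat_lit 34365705)) (BT.leaf (nat_lit 34366229)))) (BT.node (nat_lit 12642048) (BT.node (nat_lit 12641920) (BT.leaf (nat_lit 34366737)) (BT.leaf (nat_lit 34366997))) (BT.node (nat_lit 12642112) (BT.leaf (nat_lit 34367245)) (BT.leaf (nat_lit 34367257)))))) (BT.node (nat_lit 12642816) (BT.node (nat_lit 12642496) (BT.node (nat_lit 12642368) (BT.node (nat_lit 12642304) (BT.leaf (nat_lit 34367261)) (BT.leaf (nat_lit 34367517))) (BT.node (nat_lit 12642432) (BT.leaf (nat_lit 34368533)) (BT.leaf (nat_lit 47831313)))) (BT.node (nat_lit 12642688) (BT.node (nat_lit 12642624) (BT.leaf (nat_lit 34559765)) (BT.leaf (nat_lit 34369553))) (BT.node (nat_lit 12642752) (BT.leaf (nat_lit 34369809)) (BT.leaf (nat_lit 49295885))))) (BT.node (nat_lit 12643072) (BT.node (nat_lit 12642944) (BT.node (nat_lit 12642880) (BT.leaf (nat_lit 34370833)) (BT.leaf (nat_lit 34370585))) (BT.node (nat_lit 12643008) (BT.leaf (nat_lit 50780957)) (BT.leaf (nat_lit 34372113)))) (BT.node (nat_lit 12643200) (BT.node (nat_lit 12643077) (BT.leaf (nat_lit 51643421)) (BT.leaf (nat_lit 818996))) (BT.node (nat_lit 12643392) (BT.leaf (nat_lit 51511065)) (BT.leaf (nat_lit 51982873))))))))))) (BT.node (nat_lit 12662336) (BT.node (nat_lit 12652736) (BT.node (nat_lit 12648195) (BT.node (nat_lit 12645760) (BT.node (nat_lit 12644544) (BT.node (nat_lit 12643968) (BT.node (nat_lit 12643712) (BT.node (nat_lit 12643584) (BT.node (nat_lit 12643520) (BT.leaf (nat_lit 34375185)) (BT.leaf (nat_lit 34375957))) (BT.node (nat_lit 12643648) (BT.leaf (nat_lit 34375961)) (BT.leaf (nat_lit 34375965)))) (BT.node (nat_lit 12643840) (BT.node (nat_lit 12643776) (BT.leaf (nat_lit 34376213)) (BT.leaf (nat_lit 48243461))) (BT.node (nat_lit 12643904) (BT.leaf (nat_lit 34376465)) (BT.leaf (nat_lit 34376725))))) (BT.node (nat_lit 12644288) (BT.node (nat_lit 12644096) (BT.node (nat_lit 12644032) (BT.leaf (nat_lit 51727621)) (BT.leaf (nat_lit 34377245))) (BT.node (nat_lit 12644160) (BT.leaf (nat_lit 34377497)) (BT.leaf (nat_lit 34377501)))) (BT.node (nat_lit 12644416) (BT.node (nat_lit 12644352) (BT.leaf (nat_lit 34379797)) (BT.leaf (nat_lit 34381329))) (BT.node (nat_lit 12644480) (BT.leaf (nat_lit 48259861)) (BT.leaf (nat_lit 34382609)))))) (BT.node (nat_lit 12645120) (BT.node (nat_lit 12644864) (BT.node (nat_lit 12644736) (BT.node (nat_lit 12644608) (BT.leaf (nat_lit 50464009)) (BT.leaf (nat_lit 34383377))) (BT.node (nat_lit 12644800) (BT.leaf (nat_lit 35808537)) (BT.leaf (nat_lit 34383889)))) (BT.node (nat_lit 12644992) (BT.node (nat_lit 12644928) (BT.leaf (nat_lit 34384145)) (BT.leaf (nat_lit 34384905))) (BT.node (nat_lit 12645056) (BT.leaf (nat_lit 34384909)) (BT.leaf (nat_lit 34386449))))) (BT.node (nat_lit 12645504) (BT.node (nat_lit 12645312) (BT.node (nat_lit 12645248) (BT.leaf (nat_lit 48037141)) (BT.leaf (nat_lit 49656597))) (BT.node (nat_lit 12645440) (BT.leaf (nat_lit 34390037)) (BT.leaf (nat_lit 50582277)))) (BT.node (nat_lit 12645632) (BT.node (nat_lit 12645568) (BT.leaf (nat_lit 38619417)) (BT.leaf (nat_lit 40265761))) (BT.node (nat_lit 12645696) (BT.leaf (nat_lit 40598801)) (BT.leaf (nat_lit 48248849))))))) (BT.node (nat_lit 12646976) (BT.node (nat_lit 12646336) (BT.node (nat_lit 12646016) (BT.node (nat_lit 12645888) (BT.node (nat_lit 12645824) (BT.leaf (nat_lit 34393361)) (BT.leaf (nat_lit 48478753))) (BT.node (nat_lit 12645953) (BT.leaf (nat_lit 34394393)) (BT.leaf (nat_lit 798920)))) (BT.node (nat_lit 12646208) (BT.node (nat_lit 12646080) (BT.leaf (nat_lit 34396177)) (BT.leaf (nat_lit 34396949))) (BT.node (nat_lit 12646272) (BT.leaf (nat_lit 34397197)) (BT.leaf (nat_lit 34397209))))) (BT.node (nat_lit 12646656) (BT.node (nat_lit 12646528) (BT.node (nat_lit 12646464) (BT.leaf (nat_lit 34397213)) (BT.leaf (nat_lit 34397977))) (BT.node (nat_lit 12646592) (BT.leaf (nat_lit 34397981)) (BT.leaf (nat_lit 34408213)))) (BT.node (nat_lit 12646784) (BT.node (nat_lit 12646720) (BT.leaf (nat_lit 50589205)) (BT.leaf (nat_lit 50899997))) (BT.node (nat_lit 12646848) (BT.leaf (nat_lit 40958497)) (BT.leaf (nat_lit 47166741)))))) (BT.node (nat_lit 12647616) (BT.node (nat_lit 12647360) (BT.node (nat_lit 12647232) (BT.node (nat_lit 12647168) (BT.leaf (nat_lit 48019733)) (BT.leaf (nat_lit 36060437))) (BT.node (nat_lit 12647296) (BT.leaf (nat_lit 34406685)) (BT.leaf (nat_lit 34710297)))) (BT.node (nat_lit 12647488) (BT.node (nat_lit 12647424) (BT.leaf (nat_lit 48839453)) (BT.leaf (nat_lit 50613017))) (BT.node (nat_lit 12647552) (BT.leaf (nat_lit 34451997)) (BT.leaf (nat_lit 50958101))))) (BT.node (nat_lit 12647936) (BT.node (nat_lit 12647808) (BT.node (nat_lit 12647744) (BT.leaf (nat_lit 50394381)) (BT.leaf (nat_lit 46645013))) (BT.node (nat_lit 12647872) (BT.leaf (nat_lit 34412573)) (BT.leaf (nat_lit 34414353)))) (BT.node (nat_lit 12648064) (BT.node (nat_lit 12648000) (BT.leaf (nat_lit 34414609)) (BT.leaf (nat_lit 34414865))) (BT.node (nat_lit 12648192) (BT.leaf (nat_lit 50229521)) (BT.leaf (nat_lit 50384389)))))))) (BT.node (nat_lit 12650624) (BT.node (nat_lit 12649408) (BT.node (nat_lit 12648640) (BT.node (nat_lit 12648320) (BT.node (nat_lit 12648200) (BT.node (nat_lit 12648199) (BT.leaf (nat_lit 805044)) (BT.leaf (nat_lit 805044))) (BT.node (nat_lit 12648256) (BT.leaf (nat_lit 805044)) (BT.leaf (nat_lit 34415889)))) (BT.node (nat_lit 12648512) (BT.node (nat_lit 12648384) (BT.leaf (nat_lit 49910797)) (BT.leaf (nat_lit 50421265))) (BT.node (nat_lit 12648576) (BT.leaf (nat_lit 37651725)) (BT.leaf (nat_lit 37651989))))) (BT.node (nat_lit 12649152) (BT.node (nat_lit 12648900) (BT.node (nat_lit 12648832) (BT.leaf (nat_lit 34419737)) (BT.leaf (nat_lit 51105285))) (BT.node (nat_lit 12648960) (BT.leaf (nat_lit 813380)) (BT.leaf (nat_lit 52426513)))) (BT.node (nat_lit 12649280) (BT.node (nat_lit 12649216) (BT.leaf (nat_lit 34422049)) (BT.leaf (nat_lit 34423569))) (BT.node (nat_lit 12649344) (BT.leaf (nat_lit 51937805)) (BT.leaf (nat_lit 34424093)))))) (BT.node (nat_lit 12650112) (BT.node (nat_lit 12649664) (BT.node (nat_lit 12649536) (BT.node (nat_lit 12649472) (BT.leaf (nat_lit 34426385)) (BT.leaf (nat_lit 34426641))) (BT.node (nat_lit 12649600) (BT.leaf (nat_lit 34427157)) (BT.leaf (nat_lit 34427165)))) (BT.node (nat_lit 12649792) (BT.node (nat_lit 12649728) (BT.leaf (nat_lit 34427413)) (BT.leaf (nat_lit 34427921))) (BT.node (nat_lit 12650048) (BT.leaf (nat_lit 46211337)) (BT.leaf (nat_lit 34428945))))) (BT.node (nat_lit 12650368) (BT.node (nat_lit 12650240) (BT.node (nat_lit 12650176) (BT.leaf (nat_lit 51980301)) (BT.leaf (nat_lit 34429209))) (BT.node (nat_lit 12650304) (BT.leaf (nat_lit 34429969)) (BT.leaf (nat_lit 39279625)))) (BT.node (nat_lit 12650496) (BT.node (nat_lit 12650432) (BT.leaf (nat_lit 34431253)) (BT.leaf (nat_lit 34431261))) (BT.node (nat_lit 12650560) (BT.leaf (nat_lit 34431761)) (BT.leaf (nat_lit 34432281))))))) (BT.node (nat_lit 12651712) (BT.node (nat_lit 12651136) (BT.node (nat_lit 12650880) (BT.node (nat_lit 12650752) (BT.node (nat_lit 12650688) (BT.leaf (nat_lit 34433557)) (BT.leaf (nat_lit 34434077))) (BT.node (nat_lit 12650816) (BT.leaf (nat_lit 34435857)) (BT.leaf (nat_lit 50732565)))) (BT.node (nat_lit 12651008) (BT.node (nat_lit 12650944) (BT.leaf (nat_lit 34438161)) (BT.leaf (nat_lit 36454933))) (BT.node (nat_lit 12651072) (BT.leaf (nat_lit 47952929)) (BT.leaf (nat_lit 34440473))))) (BT.node (nat_lit 12651456) (BT.node (nat_lit 12651264) (BT.node (nat_lit 12651200) (BT.leaf (nat_lit 34440477)) (BT.leaf (nat_lit 36282121))) (BT.node (nat_lit 12651392) (BT.leaf (nat_lit 46399253)) (BT.leaf (nat_lit 52407585)))) (BT.node (nat_lit 12651584) (BT.node (nat_lit 12651520) (BT.leaf (nat_lit 36895517)) (BT.leaf (nat_lit 34443533))) (BT.node (nat_lit 12651648) (BT.leaf (nat_lit 46383901)) (BT.leaf (nat_lit 34444305)))))) (BT.node (nat_lit 12652224) (BT.node (nat_lit 12651968) (BT.node (nat_lit 12651840) (BT.node (nat_lit 12651776) (BT.leaf (nat_lit 36841745)) (BT.leaf (nat_lit 34444569))) (BT.node (nat_lit 12651904) (BT.leaf (nat_lit 34444573)) (BT.leaf (nat_lit 34445081)))) (BT.node (nat_lit 12652096) (BT.node (nat_lit 12652032) (BT.leaf (nat_lit 34445085)) (BT.leaf (nat_lit 49117189))) (BT.node (nat_lit 12652160) (BT.leaf (nat_lit 36301577)) (BT.leaf (nat_lit 37890073))))) (BT.node (nat_lit 12652480) (BT.node (nat_lit 12652352) (BT.node (nat_lit 12652288) (BT.leaf (nat_lit 36301581)) (BT.leaf (nat_lit 36851213))) (BT.node (nat_lit 12652416) (BT.leaf (nat_lit 34446865)) (BT.leaf (nat_lit 34447129)))) (BT.node (nat_lit 12652608) (BT.node (nat_lit 12652544) (BT.leaf (nat_lit 50690053)) (BT.leaf (nat_lit 34448157))) (BT.node (nat_lit 12652672) (BT.leaf (nat_lit 34448913)) (BT.leaf (nat_lit 34449429))))))))) (BT.node (nat_lit 12657664) (BT.node (nat_lit 12655424) (BT.node (nat_lit 12654080) (BT.node (nat_lit 12653568) (BT.node (nat_lit 12653312) (BT.node (nat_lit 12652864) (BT.node (nat_lit 12652800) (BT.leaf (nat_lit 47074581)) (BT.leaf (nat_lit 49942549))) (BT.node (nat_lit 12653248) (BT.leaf (nat_lit 49943309)) (BT.leaf (nat_lit 34451989)))) (BT.node (nat_lit 12653440) (BT.node (nat_lit 12653376) (BT.leaf (nat_lit 34452241)) (BT.leaf (nat_lit 34452497))) (BT.node (nat_lit 12653504) (BT.leaf (nat_lit 34702601)) (BT.leaf (nat_lit 48167449))))) (BT.node (nat_lit 12653824) (BT.node (nat_lit 12653696) (BT.node (nat_lit 12653632) (BT.leaf (nat_lit 34454561)) (BT.leaf (nat_lit 34454805))) (BT.node (nat_lit 12653760) (BT.leaf (nat_lit 34455817)) (BT.leaf (nat_lit 34455841)))) (BT.node (nat_lit 12653952) (BT.node (nat_lit 12653888) (BT.leaf (nat_lit 34456329)) (BT.leaf (nat_lit 34457105))) (BT.node (nat_lit 12654016) (BT.leaf (nat_lit 34457361)) (BT.leaf (nat_lit 34458649)))))) (BT.node (nat_lit 12654656) (BT.node (nat_lit 12654400) (BT.node (nat_lit 12654272) (BT.node (nat_lit 12654208) (BT.leaf (nat_lit 49036805)) (BT.leaf (nat_lit 51618565))) (BT.node (nat_lit 12654336) (BT.leaf (nat_lit 49803553)) (BT.leaf (nat_lit 34460185)))) (BT.node (nat_lit 12654528) (BT.node (nat_lit 12654464) (BT.leaf (nat_lit 34460189)) (BT.leaf (nat_lit 47793177))) (BT.node (nat_lit 12654592) (BT.leaf (nat_lit 34462221)) (BT.leaf (nat_lit 47673353))))) (BT.node (nat_lit 12654912) (BT.node (nat_lit 12654784) (BT.node (nat_lit 12654720) (BT.leaf (nat_lit 34462237)) (BT.leaf (nat_lit 51995417))) (BT.node (nat_lit 12654848) (BT.leaf (nat_lit 34462233)) (BT.leaf (nat_lit 34462745)))) (BT.node (nat_lit 12655040) (BT.node (nat_lit 12654976) (BT.leaf (nat_lit 34462749)) (BT.leaf (nat_lit 34463249))) (BT.node (nat_lit 12655104) (BT.leaf (nat_lit 51498245)) (BT.leaf (nat_lit 36068101))))))) (BT.node (nat_lit 12656512) (BT.node (nat_lit 12656000) (BT.node (nat_lit 12655744) (BT.node (nat_lit 12655616) (BT.node (nat_lit 12655552) (BT.leaf (nat_lit 50801417)) (BT.leaf (nat_lit 34465053))) (BT.node (nat_lit 12655680) (BT.leaf (nat_lit 34465289)) (BT.leaf (nat_lit 47801617)))) (BT.node (nat_lit 12655872) (BT.node (nat_lit 12655808) (BT.leaf (nat_lit 34467349)) (BT.leaf (nat_lit 34467593))) (BT.node (nat_lit 12655936) (BT.leaf (nat_lit 51970581)) (BT.leaf (nat_lit 34467609))))) (BT.node (nat_lit 12656256) (BT.node (nat_lit 12656128) (BT.node (nat_lit 12656064) (BT.leaf (nat_lit 48614673)) (BT.leaf (nat_lit 47253785))) (BT.node (nat_lit 12656192) (BT.leaf (nat_lit 47253773)) (BT.leaf (nat_lit 34470177)))) (BT.node (nat_lit 12656384) (BT.node (nat_lit 12656320) (BT.leaf (nat_lit 50611477)) (BT.leaf (nat_lit 52213537))) (BT.node (nat_lit 12656448) (BT.leaf (nat_lit 52213793)) (BT.leaf (nat_lit 34473749)))))) (BT.node (nat_lit 12657152) (BT.node (nat_lit 12656896) (BT.node (nat_lit 12656768) (BT.node (nat_lit 12656576) (BT.leaf (nat_lit 52011809)) (BT.leaf (nat_lit 52214049))) (BT.node (nat_lit 12656832) (BT.leaf (nat_lit 51117597)) (BT.leaf (nat_lit 34477585)))) (BT.node (nat_lit 12657024) (BT.node (nat_lit 12656960) (BT.leaf (nat_lit 39997709)) (BT.leaf (nat_lit 43442441))) (BT.node (nat_lit 12657088) (BT.leaf (nat_lit 51678237)) (BT.leaf (nat_lit 40336901))))) (BT.node (nat_lit 12657408) (BT.node (nat_lit 12657280) (BT.node (nat_lit 12657216) (BT.leaf (nat_lit 34480661)) (BT.leaf (nat_lit 34480665))) (BT.node (nat_lit 12657344) (BT.leaf (nat_lit 34480669)) (BT.leaf (nat_lit 34481689)))) (BT.node (nat_lit 12657536) (BT.node (nat_lit 12657472) (BT.leaf (nat_lit 34481693)) (BT.leaf (nat_lit 34482449))) (BT.node (nat_lit 12657600) (BT.leaf (nat_lit 34482709)) (BT.leaf (nat_lit 34482713)))))))) (BT.node (nat_lit 12659968) (BT.node (nat_lit 12658688) (BT.node (nat_lit 12658176) (BT.node (nat_lit 12657920) (BT.node (nat_lit 12657792) (BT.node (nat_lit 12657728) (BT.leaf (nat_lit 34482717)) (BT.leaf (nat_lit 51289633))) (BT.node (nat_lit 12657856) (BT.leaf (nat_lit 35358489)) (BT.leaf (nat_lit 34484253)))) (BT.node (nat_lit 12658048) (BT.node (nat_lit 12657984) (BT.leaf (nat_lit 51298825)) (BT.leaf (nat_lit 34484757))) (BT.node (nat_lit 12658112) (BT.leaf (nat_lit 34484505)) (BT.leaf (nat_lit 34485789))))) (BT.node (nat_lit 12658432) (BT.node (nat_lit 12658304) (BT.node (nat_lit 12658240) (BT.leaf (nat_lit 34486041)) (BT.leaf (nat_lit 34486045))) (BT.node (nat_lit 12658368) (BT.leaf (nat_lit 34486301)) (BT.leaf (nat_lit 34486545)))) (BT.node (nat_lit 12658560) (BT.node (nat_lit 12658496) (BT.leaf (nat_lit 34486549)) (BT.leaf (nat_lit 34488845))) (BT.node (nat_lit 12658624) (BT.leaf (nat_lit 34488849)) (BT.leaf (nat_lit 37869065)))))) (BT.node (nat_lit 12659392) (BT.node (nat_lit 12658944) (BT.node (nat_lit 12658816) (BT.node (nat_lit 12658752) (BT.leaf (nat_lit 52264721)) (BT.leaf (nat_lit 36062481))) (BT.node (nat_lit 12658880) (BT.leaf (nat_lit 47085089)) (BT.leaf (nat_lit 47215133)))) (BT.node (nat_lit 12659072) (BT.node (nat_lit 12659008) (BT.leaf (nat_lit 47085073)) (BT.leaf (nat_lit 34495241))) (BT.node (nat_lit 12659136) (BT.leaf (nat_lit 34495509)) (BT.leaf (nat_lit 50783749))))) (BT.node (nat_lit 12659648) (BT.node (nat_lit 12659520) (BT.node (nat_lit 12659456) (BT.leaf (nat_lit 34497289)) (BT.leaf (nat_lit 34497293))) (BT.node (nat_lit 12659584) (BT.leaf (nat_lit 49718049)) (BT.leaf (nat_lit 34497305)))) (BT.node (nat_lit 12659776) (BT.node (nat_lit 12659712) (BT.leaf (nat_lit 34497309)) (BT.leaf (nat_lit 34497565))) (BT.node (nat_lit 12659840) (BT.leaf (nat_lit 51097889)) (BT.leaf (nat_lit 36064789))))))) (BT.node (nat_lit 12661248) (BT.node (nat_lit 12660544) (BT.node (nat_lit 12660288) (BT.node (nat_lit 12660096) (BT.node (nat_lit 12660032) (BT.leaf (nat_lit 35129621)) (BT.leaf (nat_lit 34500117))) (BT.node (nat_lit 12660160) (BT.leaf (nat_lit 34500369)) (BT.leaf (nat_lit 48500229)))) (BT.node (nat_lit 12660416) (BT.node (nat_lit 12660352) (BT.leaf (nat_lit 34501397)) (BT.leaf (nat_lit 34502413))) (BT.node (nat_lit 12660480) (BT.leaf (nat_lit 34502409)) (BT.leaf (nat_lit 36066837))))) (BT.node (nat_lit 12660864) (BT.node (nat_lit 12660672) (BT.node (nat_lit 12660608) (BT.leaf (nat_lit 34502429)) (BT.leaf (nat_lit 47411221))) (BT.node (nat_lit 12660736) (BT.leaf (nat_lit 34504977)) (BT.leaf (nat_lit 34507537)))) (BT.node (nat_lit 12661120) (BT.node (nat_lit 12660992) (BT.leaf (nat_lit 50262557)) (BT.leaf (nat_lit 34508313))) (BT.node (nat_lit 12661184) (BT.leaf (nat_lit 46525973)) (BT.leaf (nat_lit 51766281)))))) (BT.node (nat_lit 12661760) (BT.node (nat_lit 12661504) (BT.node (nat_lit 12661376) (BT.node (nat_lit 12661312) (BT.leaf (nat_lit 34510361)) (BT.leaf (nat_lit 34510365))) (BT.node (nat_lit 12661440) (BT.leaf (nat_lit 34510609)) (BT.leaf (nat_lit 34510865)))) (BT.node (nat_lit 12661632) (BT.node (nat_lit 12661568) (BT.leaf (nat_lit 35415569)) (BT.leaf (nat_lit 34512149))) (BT.node (nat_lit 12661696) (BT.leaf (nat_lit 34512153)) (BT.leaf (nat_lit 34885397))))) (BT.node (nat_lit 12662016) (BT.node (nat_lit 12661888) (BT.node (nat_lit 12661824) (BT.leaf (nat_lit 34513433)) (BT.leaf (nat_lit 49457157))) (BT.node (nat_lit 12661952) (BT.leaf (nat_lit 46306841)) (BT.leaf (nat_lit 34516497)))) (BT.node (nat_lit 12662208) (BT.node (nat_lit 12662080) (BT.leaf (nat_lit 34747409)) (BT.leaf (nat_lit 52325153))) (BT.node (nat_lit 12662272) (BT.leaf (nat_lit 34519825)) (BT.leaf (nat_lit 50689045)))))))))) (BT.node (nat_lit 12671872) (BT.node (nat_lit 12666944) (BT.node (nat_lit 12664768) (BT.node (nat_lit 12663488) (BT.node (nat_lit 12662848) (BT.node (nat_lit 12662592) (BT.node (nat_lit 12662464) (BT.node (nat_lit 12662400) (BT.leaf (nat_lit 34520861)) (BT.leaf (nat_lit 34521617))) (BT.node (nat_lit 12662528) (BT.leaf (nat_lit 50897945)) (BT.leaf (nat_lit 50650381)))) (BT.node (nat_lit 12662720) (BT.node (nat_lit 12662656) (BT.leaf (nat_lit 50896661)) (BT.leaf (nat_lit 50896921))) (BT.node (nat_lit 12662784) (BT.leaf (nat_lit 41721361)) (BT.leaf (nat_lit 36724237))))) (BT.node (nat_lit 12663296) (BT.node (nat_lit 12663040) (BT.node (nat_lit 12662912) (BT.leaf (nat_lit 36724249)) (BT.leaf (nat_lit 36724253))) (BT.node (nat_lit 12663168) (BT.leaf (nat_lit 34526753)) (BT.leaf (nat_lit 34529037)))) (BT.node (nat_lit 12663361) (BT.node (nat_lit 12663360) (BT.leaf (nat_lit 49571361)) (BT.leaf (nat_lit 37439513))) (BT.node (nat_lit 12663424) (BT.leaf (nat_lit 818220)) (BT.leaf (nat_lit 46872069)))))) (BT.node (nat_lit 12664064) (BT.node (nat_lit 12663808) (BT.node (nat_lit 12663616) (BT.node (nat_lit 12663552) (BT.leaf (nat_lit 34531093)) (BT.leaf (nat_lit 34532625))) (BT.node (nat_lit 12663680) (BT.leaf (nat_lit 34533649)) (BT.leaf (nat_lit 50690589)))) (BT.node (nat_lit 12663936) (BT.node (nat_lit 12663872) (BT.leaf (nat_lit 47461905)) (BT.leaf (nat_lit 34538513))) (BT.node (nat_lit 12664000) (BT.leaf (nat_lit 34539553)) (BT.leaf (nat_lit 34541329))))) (BT.node (nat_lit 12664384) (BT.node (nat_lit 12664256) (BT.node (nat_lit 12664192) (BT.leaf (nat_lit 49809953)) (BT.leaf (nat_lit 34543125))) (BT.node (nat_lit 12664320) (BT.leaf (nat_lit 34543129)) (BT.leaf (nat_lit 34543893)))) (BT.node (nat_lit 12664576) (BT.node (nat_lit 12664448) (BT.leaf (nat_lit 47937037)) (BT.leaf (nat_lit 34544153))) (BT.node (nat_lit 12664640) (BT.leaf (nat_lit 34545169)) (BT.leaf (nat_lit 34545173))))))) (BT.node (nat_lit 12665920) (BT.node (nat_lit 12665408) (BT.node (nat_lit 12665088) (BT.node (nat_lit 12664960) (BT.node (nat_lit 12664832) (BT.leaf (nat_lit 42145817)) (BT.leaf (nat_lit 42146077))) (BT.node (nat_lit 12665024) (BT.leaf (nat_lit 48840477)) (BT.leaf (nat_lit 44415505)))) (BT.node (nat_lit 12665216) (BT.node (nat_lit 12665152) (BT.leaf (nat_lit 51556641)) (BT.leaf (nat_lit 48013845))) (BT.node (nat_lit 12665280) (BT.leaf (nat_lit 52209173)) (BT.leaf (nat_lit 34554145))))) (BT.node (nat_lit 12665664) (BT.node (nat_lit 12665536) (BT.node (nat_lit 12665472) (BT.leaf (nat_lit 34557713)) (BT.leaf (nat_lit 50145053))) (BT.node (nat_lit 12665600) (BT.leaf (nat_lit 49066785)) (BT.leaf (nat_lit 34559257)))) (BT.node (nat_lit 12665792) (BT.node (nat_lit 12665728) (BT.leaf (nat_lit 35051017)) (BT.leaf (nat_lit 35051033))) (BT.node (nat_lit 12665856) (BT.leaf (nat_lit 35051037)) (BT.leaf (nat_lit 34559761)))))) (BT.node (nat_lit 12666432) (BT.node (nat_lit 12666176) (BT.node (nat_lit 12666048) (BT.node (nat_lit 12665984) (BT.leaf (nat_lit 52408325)) (BT.leaf (nat_lit 34561297))) (BT.node (nat_lit 12666112) (BT.leaf (nat_lit 34561809)) (BT.leaf (nat_lit 34562073)))) (BT.node (nat_lit 12666304) (BT.node (nat_lit 12666240) (BT.leaf (nat_lit 34562077)) (BT.leaf (nat_lit 34562841))) (BT.node (nat_lit 12666368) (BT.leaf (nat_lit 36172809)) (BT.leaf (nat_lit 49157665))))) (BT.node (nat_lit 12666688) (BT.node (nat_lit 12666560) (BT.node (nat_lit 12666496) (BT.leaf (nat_lit 34564637)) (BT.leaf (nat_lit 34565649))) (BT.node (nat_lit 12666624) (BT.leaf (nat_lit 34567441)) (BT.leaf (nat_lit 35455765)))) (BT.node (nat_lit 12666816) (BT.node (nat_lit 12666752) (BT.leaf (nat_lit 34569497)) (BT.leaf (nat_lit 34571281))) (BT.node (nat_lit 12666880) (BT.leaf (nat_lit 34571793)) (BT.leaf (nat_lit 34573069)))))))) (BT.node (nat_lit 12669440) (BT.node (nat_lit 12668288) (BT.node (nat_lit 12667520) (BT.node (nat_lit 12667200) (BT.node (nat_lit 12667072) (BT.node (nat_lit 12667008) (BT.leaf (nat_lit 34573329)) (BT.leaf (nat_lit 37869077))) (BT.node (nat_lit 12667142) (BT.leaf (nat_lit 38978829)) (BT.leaf (nat_lit 795144)))) (BT.node (nat_lit 12667392) (BT.node (nat_lit 12667264) (BT.leaf (nat_lit 34575901)) (BT.leaf (nat_lit 34576401))) (BT.node (nat_lit 12667456) (BT.leaf (nat_lit 34577677)) (BT.leaf (nat_lit 34577177))))) (BT.node (nat_lit 12668032) (BT.node (nat_lit 12667840) (BT.node (nat_lit 12667776) (BT.leaf (nat_lit 41519633)) (BT.leaf (nat_lit 34578205))) (BT.node (nat_lit 12667968) (BT.leaf (nat_lit 48295445)) (BT.leaf (nat_lit 34580757)))) (BT.node (nat_lit 12668160) (BT.node (nat_lit 12668096) (BT.leaf (nat_lit 34580761)) (BT.leaf (nat_lit 51408149))) (BT.node (nat_lit 12668224) (BT.leaf (nat_lit 34583317)) (BT.leaf (nat_lit 39623173)))))) (BT.node (nat_lit 12668800) (BT.node (nat_lit 12668544) (BT.node (nat_lit 12668416) (BT.node (nat_lit 12668352) (BT.leaf (nat_lit 34741525)) (BT.leaf (nat_lit 34587665))) (BT.node (nat_lit 12668480) (BT.leaf (nat_lit 34588177)) (BT.leaf (nat_lit 48604961)))) (BT.node (nat_lit 12668672) (BT.node (nat_lit 12668608) (BT.leaf (nat_lit 48140065)) (BT.leaf (nat_lit 48719905))) (BT.node (nat_lit 12668736) (BT.leaf (nat_lit 48178209)) (BT.leaf (nat_lit 48765205))))) (BT.node (nat_lit 12669184) (BT.node (nat_lit 12669056) (BT.node (nat_lit 12668928) (BT.leaf (nat_lit 34590745)) (BT.leaf (nat_lit 51172881))) (BT.node (nat_lit 12669120) (BT.leaf (nat_lit 51917077)) (BT.leaf (nat_lit 34592529)))) (BT.node (nat_lit 12669312) (BT.node (nat_lit 12669248) (BT.leaf (nat_lit 50765077)) (BT.leaf (nat_lit 34594317))) (BT.node (nat_lit 12669376) (BT.leaf (nat_lit 34595093)) (BT.leaf (nat_lit 34594333))))))) (BT.node (nat_lit 12670592) (BT.node (nat_lit 12670080) (BT.node (nat_lit 12669696) (BT.node (nat_lit 12669568) (BT.node (nat_lit 12669504) (BT.leaf (nat_lit 34594565)) (BT.leaf (nat_lit 34596633))) (BT.node (nat_lit 12669632) (BT.leaf (nat_lit 42782737)) (BT.leaf (nat_lit 34597649)))) (BT.node (nat_lit 12669952) (BT.node (nat_lit 12669888) (BT.leaf (nat_lit 34598149)) (BT.leaf (nat_lit 34598941))) (BT.node (nat_lit 12670016) (BT.leaf (nat_lit 50521377)) (BT.leaf (nat_lit 34601489))))) (BT.node (nat_lit 12670336) (BT.node (nat_lit 12670208) (BT.node (nat_lit 12670144) (BT.leaf (nat_lit 49839381)) (BT.leaf (nat_lit 34603273))) (BT.node (nat_lit 12670272) (BT.leaf (nat_lit 45046789)) (BT.leaf (nat_lit 51381013)))) (BT.node (nat_lit 12670464) (BT.node (nat_lit 12670400) (BT.leaf (nat_lit 34605585)) (BT.leaf (nat_lit 35799829))) (BT.node (nat_lit 12670528) (BT.leaf (nat_lit 48643077)) (BT.leaf (nat_lit 34609681)))))) (BT.node (nat_lit 12671360) (BT.node (nat_lit 12670976) (BT.node (nat_lit 12670784) (BT.node (nat_lit 12670720) (BT.leaf (nat_lit 50124821)) (BT.leaf (nat_lit 48054277))) (BT.node (nat_lit 12670848) (BT.leaf (nat_lit 51594513)) (BT.leaf (nat_lit 48166933)))) (BT.node (nat_lit 12671232) (BT.node (nat_lit 12671040) (BT.leaf (nat_lit 51643681)) (BT.leaf (nat_lit 34615569))) (BT.node (nat_lit 12671296) (BT.leaf (nat_lit 36440601)) (BT.leaf (nat_lit 46955033))))) (BT.node (nat_lit 12671616) (BT.node (nat_lit 12671488) (BT.node (nat_lit 12671424) (BT.leaf (nat_lit 36124701)) (BT.leaf (nat_lit 50015773))) (BT.node (nat_lit 12671552) (BT.leaf (nat_lit 50010401)) (BT.leaf (nat_lit 50300693)))) (BT.node (nat_lit 12671744) (BT.node (nat_lit 12671680) (BT.leaf (nat_lit 34620693)) (BT.leaf (nat_lit 50299665))) (BT.node (nat_lit 12671808) (BT.leaf (nat_lit 51667477)) (BT.leaf (nat_lit 43959301))))))))) (BT.node (nat_lit 12676864) (BT.node (nat_lit 12674496) (BT.node (nat_lit 12673280) (BT.node (nat_lit 12672640) (BT.node (nat_lit 12672256) (BT.node (nat_lit 12672000) (BT.node (nat_lit 12671936) (BT.leaf (nat_lit 34623249)) (BT.leaf (nat_lit 34624529))) (BT.node (nat_lit 12672192) (BT.leaf (nat_lit 34625297)) (BT.leaf (nat_lit 34625825)))) (BT.node (nat_lit 12672512) (BT.node (nat_lit 12672448) (BT.leaf (nat_lit 46842629)) (BT.leaf (nat_lit 50628117))) (BT.node (nat_lit 12672576) (BT.leaf (nat_lit 34628377)) (BT.leaf (nat_lit 34628625))))) (BT.node (nat_lit 12672896) (BT.node (nat_lit 12672768) (BT.node (nat_lit 12672704) (BT.leaf (nat_lit 50015749)) (BT.leaf (nat_lit 36402453))) (BT.node (nat_lit 12672832) (BT.leaf (nat_lit 34630929)) (BT.leaf (nat_lit 34631961)))) (BT.node (nat_lit 12673088) (BT.node (nat_lit 12673024) (BT.leaf (nat_lit 34631965)) (BT.leaf (nat_lit 47856665))) (BT.node (nat_lit 12673152) (BT.leaf (nat_lit 36455965)) (BT.leaf (nat_lit 35471121)))))) (BT.node (nat_lit 12673984) (BT.node (nat_lit 12673732) (BT.node (nat_lit 12673664) (BT.node (nat_lit 12673344) (BT.leaf (nat_lit 34635029)) (BT.leaf (nat_lit 34635793))) (BT.node (nat_lit 12673728) (BT.leaf (nat_lit 35386889)) (BT.leaf (nat_lit 50488349)))) (BT.node (nat_lit 12673856) (BT.node (nat_lit 12673792) (BT.leaf (nat_lit 797712)) (BT.leaf (nat_lit 48749849))) (BT.node (nat_lit 12673920) (BT.leaf (nat_lit 34639377)) (BT.leaf (nat_lit 34639633))))) (BT.node (nat_lit 12674240) (BT.node (nat_lit 12674112) (BT.node (nat_lit 12674048) (BT.leaf (nat_lit 50683909)) (BT.leaf (nat_lit 39884565))) (BT.node (nat_lit 12674176) (BT.leaf (nat_lit 34640929)) (BT.leaf (nat_lit 34641169)))) (BT.node (nat_lit 12674368) (BT.node (nat_lit 12674304) (BT.leaf (nat_lit 48915481)) (BT.leaf (nat_lit 34642953))) (BT.node (nat_lit 12674432) (BT.leaf (nat_lit 34642957)) (BT.leaf (nat_lit 34642969))))))) (BT.node (nat_lit 12675712) (BT.node (nat_lit 12675008) (BT.node (nat_lit 12674752) (BT.node (nat_lit 12674624) (BT.node (nat_lit 12674560) (BT.leaf (nat_lit 34642973)) (BT.leaf (nat_lit 34643485))) (BT.node (nat_lit 12674691) (BT.leaf (nat_lit 34643737)) (BT.leaf (nat_lit 816940)))) (BT.node (nat_lit 12674880) (BT.node (nat_lit 12674816) (BT.leaf (nat_lit 34644245)) (BT.leaf (nat_lit 34644253))) (BT.node (nat_lit 12674944) (BT.leaf (nat_lit 52092181)) (BT.leaf (nat_lit 52092957))))) (BT.node (nat_lit 12675328) (BT.node (nat_lit 12675136) (BT.node (nat_lit 12675072) (BT.leaf (nat_lit 52092937)) (BT.leaf (nat_lit 49819397))) (BT.node (nat_lit 12675264) (BT.leaf (nat_lit 34644757)) (BT.leaf (nat_lit 50700553)))) (BT.node (nat_lit 12675392) (BT.node (nat_lit 12675336) (BT.leaf (nat_lit 46863365)) (BT.leaf (nat_lit 799528))) (BT.node (nat_lit 12675520) (BT.leaf (nat_lit 34645269)) (BT.leaf (nat_lit 34645777)))))) (BT.node (nat_lit 12676288) (BT.node (nat_lit 12676032) (BT.node (nat_lit 12675840) (BT.node (nat_lit 12675776) (BT.leaf (nat_lit 52092941)) (BT.leaf (nat_lit 52092961))) (BT.node (nat_lit 12675968) (BT.leaf (nat_lit 49120277)) (BT.leaf (nat_lit 47005961)))) (BT.node (nat_lit 12676160) (BT.node (nat_lit 12676096) (BT.leaf (nat_lit 34648097)) (BT.leaf (nat_lit 34648597))) (BT.node (nat_lit 12676224) (BT.leaf (nat_lit 34648853)) (BT.leaf (nat_lit 34649869))))) (BT.node (nat_lit 12676544) (BT.node (nat_lit 12676416) (BT.node (nat_lit 12676352) (BT.leaf (nat_lit 50704653)) (BT.leaf (nat_lit 35662353))) (BT.node (nat_lit 12676480) (BT.leaf (nat_lit 46838297)) (BT.leaf (nat_lit 47989525)))) (BT.node (nat_lit 12676672) (BT.node (nat_lit 12676608) (BT.leaf (nat_lit 49753353)) (BT.leaf (nat_lit 52134421))) (BT.node (nat_lit 12676736) (BT.leaf (nat_lit 38561813)) (BT.leaf (nat_lit 50706197)))))))) (BT.node (nat_lit 12679168) (BT.node (nat_lit 12677952) (BT.node (nat_lit 12677440) (BT.node (nat_lit 12677120) (BT.node (nat_lit 12676992) (BT.node (nat_lit 12676928) (BT.leaf (nat_lit 34652945)) (BT.leaf (nat_lit 34653197))) (BT.node (nat_lit 12677056) (BT.leaf (nat_lit 34653973)) (BT.leaf (nat_lit 34654481)))) (BT.node (nat_lit 12677312) (BT.node (nat_lit 12677248) (BT.leaf (nat_lit 34654997)) (BT.leaf (nat_lit 34655253))) (BT.node (nat_lit 12677376) (BT.leaf (nat_lit 49443077)) (BT.leaf (nat_lit 34655261))))) (BT.node (nat_lit 12677696) (BT.node (nat_lit 12677568) (BT.node (nat_lit 12677504) (BT.leaf (nat_lit 51517701)) (BT.leaf (nat_lit 34656525))) (BT.node (nat_lit 12677632) (BT.leaf (nat_lit 34656529)) (BT.leaf (nat_lit 34657033)))) (BT.node (nat_lit 12677824) (BT.node (nat_lit 12677760) (BT.leaf (nat_lit 34657037)) (BT.leaf (nat_lit 36258837))) (BT.node (nat_lit 12677888) (BT.leaf (nat_lit 34658585)) (BT.leaf (nat_lit 34658589)))))) (BT.node (nat_lit 12678720) (BT.node (nat_lit 12678464) (BT.node (nat_lit 12678080) (BT.node (nat_lit 12678016) (BT.leaf (nat_lit 50139677)) (BT.leaf (nat_lit 50011661))) (BT.node (nat_lit 12678144) (BT.leaf (nat_lit 36707349)) (BT.leaf (nat_lit 36707357)))) (BT.node (nat_lit 12678592) (BT.node (nat_lit 12678528) (BT.leaf (nat_lit 34661661)) (BT.leaf (nat_lit 47835417))) (BT.node (nat_lit 12678656) (BT.leaf (nat_lit 47835421)) (BT.leaf (nat_lit 34662173))))) (BT.node (nat_lit 12678912) (BT.node (nat_lit 12678788) (BT.node (nat_lit 12678784) (BT.leaf (nat_lit 36161301)) (BT.leaf (nat_lit 36162589))) (BT.node (nat_lit 12678848) (BT.leaf (nat_lit 815764)) (BT.leaf (nat_lit 36162569)))) (BT.node (nat_lit 12679040) (BT.node (nat_lit 12678976) (BT.leaf (nat_lit 50739465)) (BT.leaf (nat_lit 34663701))) (BT.node (nat_lit 12679104) (BT.leaf (nat_lit 47842065)) (BT.leaf (nat_lit 34663957))))))) (BT.node (nat_lit 12680576) (BT.node (nat_lit 12680000) (BT.node (nat_lit 12679552) (BT.node (nat_lit 12679424) (BT.node (nat_lit 12679360) (BT.leaf (nat_lit 47086861)) (BT.leaf (nat_lit 37613073))) (BT.node (nat_lit 12679488) (BT.leaf (nat_lit 34666261)) (BT.leaf (nat_lit 37610265)))) (BT.node (nat_lit 12679808) (BT.node (nat_lit 12679744) (BT.leaf (nat_lit 37725973)) (BT.leaf (nat_lit 34668313))) (BT.node (nat_lit 12679936) (BT.leaf (nat_lit 34668317)) (BT.leaf (nat_lit 51575573))))) (BT.node (nat_lit 12680256) (BT.node (nat_lit 12680128) (BT.node (nat_lit 12680064) (BT.leaf (nat_lit 48916245)) (BT.leaf (nat_lit 36178953))) (BT.node (nat_lit 12680192) (BT.leaf (nat_lit 34669845)) (BT.leaf (nat_lit 34670097)))) (BT.node (nat_lit 12680384) (BT.node (nat_lit 12680320) (BT.leaf (nat_lit 49117457)) (BT.leaf (nat_lit 34670365))) (BT.node (nat_lit 12680448) (BT.leaf (nat_lit 44549141)) (BT.leaf (nat_lit 34671381)))))) (BT.node (nat_lit 12681152) (BT.node (nat_lit 12680896) (BT.node (nat_lit 12680704) (BT.node (nat_lit 12680640) (BT.leaf (nat_lit 34670625)) (BT.leaf (nat_lit 34670869))) (BT.node (nat_lit 12680832) (BT.leaf (nat_lit 43370001)) (BT.leaf (nat_lit 43218957)))) (BT.node (nat_lit 12681024) (BT.node (nat_lit 12680960) (BT.leaf (nat_lit 45136661)) (BT.leaf (nat_lit 34673437))) (BT.node (nat_lit 12681088) (BT.leaf (nat_lit 48945945)) (BT.leaf (nat_lit 34761753))))) (BT.node (nat_lit 12681600) (BT.node (nat_lit 12681344) (BT.node (nat_lit 12681216) (BT.leaf (nat_lit 34674209)) (BT.leaf (nat_lit 50869509))) (BT.node (nat_lit 12681472) (BT.leaf (nat_lit 51413013)) (BT.leaf (nat_lit 34676753)))) (BT.node (nat_lit 12681728) (BT.node (nat_lit 12681664) (BT.leaf (nat_lit 34677013)) (BT.leaf (nat_lit 47844357))) (BT.node (nat_lit 12681792) (BT.leaf (nat_lit 34679573)) (BT.leaf (nat_lit 34680089)))))))))))) (BT.node (nat_lit 12720704) (BT.node (nat_lit 12701632) (BT.node (nat_lit 12691648) (BT.node (nat_lit 12686976) (BT.node (nat_lit 12684352) (BT.node (nat_lit 12683264) (BT.node (nat_lit 12682432) (BT.node (nat_lit 12682112) (BT.node (nat_lit 12681984) (BT.node (nat_lit 12681920) (BT.leaf (nat_lit 34680341)) (BT.leaf (nat_lit 34680345))) (BT.node (nat_lit 12682048) (BT.leaf (nat_lit 49338133)) (BT.leaf (nat_lit 48981257)))) (BT.node (nat_lit 12682304) (BT.node (nat_lit 12682176) (BT.leaf (nat_lit 48981261)) (BT.leaf (nat_lit 34683665))) (BT.node (nat_lit 12682368) (BT.leaf (nat_lit 47867141)) (BT.leaf (nat_lit 34684177))))) (BT.node (nat_lit 12683008) (BT.node (nat_lit 12682880) (BT.node (nat_lit 12682752) (BT.leaf (nat_lit 50359813)) (BT.leaf (nat_lit 34685457))) (BT.node (nat_lit 12682944) (BT.leaf (nat_lit 34686737)) (BT.leaf (nat_lit 36204313)))) (BT.node (nat_lit 12683136) (BT.node (nat_lit 12683072) (BT.leaf (nat_lit 34688029)) (BT.leaf (nat_lit 41227537))) (BT.node (nat_lit 12683200) (BT.leaf (nat_lit 34691849)) (BT.leaf (nat_lit 48116741)))))) (BT.node (nat_lit 12683776) (BT.node (nat_lit 12683520) (BT.node (nat_lit 12683392) (BT.node (nat_lit 12683328) (BT.leaf (nat_lit 47435285)) (BT.leaf (nat_lit 34695705))) (BT.node (nat_lit 12683456) (BT.leaf (nat_lit 34695709)) (BT.leaf (nat_lit 48788745)))) (BT.node (nat_lit 12683648) (BT.node (nat_lit 12683584) (BT.leaf (nat_lit 34699281)) (BT.leaf (nat_lit 34699793))) (BT.node (nat_lit 12683712) (BT.leaf (nat_lit 34700309)) (BT.leaf (nat_lit 35800853))))) (BT.node (nat_lit 12684032) (BT.node (nat_lit 12683904) (BT.node (nat_lit 12683840) (BT.leaf (nat_lit 35800857)) (BT.leaf (nat_lit 35800861))) (BT.node (nat_lit 12683968) (BT.leaf (nat_lit 35372565)) (BT.leaf (nat_lit 34701853)))) (BT.node (nat_lit 12684160) (BT.node (nat_lit 12684096) (BT.leaf (nat_lit 34702357)) (BT.leaf (nat_lit 34702361))) (BT.node (nat_lit 12684224) (BT.leaf (nat_lit 47080465)) (BT.leaf (nat_lit 50030613))))))) (BT.node (nat_lit 12685504) (BT.node (nat_lit 12684928) (BT.node (nat_lit 12684672) (BT.node (nat_lit 12684544) (BT.node (nat_lit 12684416) (BT.leaf (nat_lit 34896397)) (BT.leaf (nat_lit 34705441))) (BT.node (nat_lit 12684608) (BT.leaf (nat_lit 34708505)) (BT.leaf (nat_lit 34708509)))) (BT.node (nat_lit 12684800) (BT.node (nat_lit 12684736) (BT.leaf (nat_lit 51633673)) (BT.leaf (nat_lit 51633677))) (BT.node (nat_lit 12684864) (BT.leaf (nat_lit 51557397)) (BT.leaf (nat_lit 50974489))))) (BT.node (nat_lit 12685184) (BT.node (nat_lit 12685056) (BT.node (nat_lit 12684992) (BT.leaf (nat_lit 34709013)) (BT.leaf (nat_lit 34709269))) (BT.node (nat_lit 12685120) (BT.leaf (nat_lit 34709781)) (BT.leaf (nat_lit 34710557)))) (BT.node (nat_lit 12685376) (BT.node (nat_lit 12685312) (BT.leaf (nat_lit 50271765)) (BT.leaf (nat_lit 34970645))) (BT.node (nat_lit 12685440) (BT.leaf (nat_lit 34712605)) (BT.leaf (nat_lit 50438661)))))) (BT.node (nat_lit 12686016) (BT.node (nat_lit 12685760) (BT.node (nat_lit 12685632) (BT.node (nat_lit 12685568) (BT.leaf (nat_lit 34713105)) (BT.leaf (nat_lit 34713373))) (BT.node (nat_lit 12685696) (BT.leaf (nat_lit 34714385)) (BT.leaf (nat_lit 34714905)))) (BT.node (nat_lit 12685888) (BT.node (nat_lit 12685824) (BT.leaf (nat_lit 34714909)) (BT.leaf (nat_lit 36565513))) (BT.node (nat_lit 12685952) (BT.leaf (nat_lit 36565781)) (BT.leaf (nat_lit 49842205))))) (BT.node (nat_lit 12686400) (BT.node (nat_lit 12686144) (BT.node (nat_lit 12686080) (BT.leaf (nat_lit 34715669)) (BT.leaf (nat_lit 36565789))) (BT.node (nat_lit 12686272) (BT.leaf (nat_lit 48345353)) (BT.leaf (nat_lit 34717717)))) (BT.node (nat_lit 12686848) (BT.node (nat_lit 12686720) (BT.leaf (nat_lit 34718733)) (BT.leaf (nat_lit 50267397))) (BT.node (nat_lit 12686912) (BT.leaf (nat_lit 34724633)) (BT.leaf (nat_lit 34724637)))))))) (BT.node (nat_lit 12689408) (BT.node (nat_lit 12688256) (BT.node (nat_lit 12687680) (BT.node (nat_lit 12687296) (BT.node (nat_lit 12687168) (BT.node (nat_lit 12687040) (BT.leaf (nat_lit 52277021)) (BT.leaf (nat_lit 52276753))) (BT.node (nat_lit 12687232) (BT.leaf (nat_lit 52260113)) (BT.leaf (nat_lit 34725393)))) (BT.node (nat_lit 12687424) (BT.node (nat_lit 12687360) (BT.leaf (nat_lit 34725649)) (BT.leaf (nat_lit 34726161))) (BT.node (nat_lit 12687616) (BT.leaf (nat_lit 34726429)) (BT.leaf (nat_lit 34726929))))) (BT.node (nat_lit 12688000) (BT.node (nat_lit 12687872) (BT.node (nat_lit 12687808) (BT.leaf (nat_lit 34727969)) (BT.leaf (nat_lit 35838997))) (BT.node (nat_lit 12687936) (BT.leaf (nat_lit 36165657)) (BT.leaf (nat_lit 35406621)))) (BT.node (nat_lit 12688128) (BT.node (nat_lit 12688064) (BT.leaf (nat_lit 34731273)) (BT.leaf (nat_lit 34731277))) (BT.node (nat_lit 12688192) (BT.leaf (nat_lit 49034257)) (BT.leaf (nat_lit 34733081)))))) (BT.node (nat_lit 12688768) (BT.node (nat_lit 12688512) (BT.node (nat_lit 12688384) (BT.node (nat_lit 12688320) (BT.leaf (nat_lit 34733085)) (BT.leaf (nat_lit 34734097))) (BT.node (nat_lit 12688448) (BT.leaf (nat_lit 44502805)) (BT.leaf (nat_lit 45085469)))) (BT.node (nat_lit 12688640) (BT.node (nat_lit 12688576) (BT.leaf (nat_lit 37682717)) (BT.leaf (nat_lit 34736137))) (BT.node (nat_lit 12688704) (BT.leaf (nat_lit 34736141)) (BT.leaf (nat_lit 35562257))))) (BT.node (nat_lit 12689159) (BT.node (nat_lit 12689024) (BT.node (nat_lit 12688960) (BT.leaf (nat_lit 34737181)) (BT.leaf (nat_lit 51153441))) (BT.node (nat_lit 12689152) (BT.leaf (nat_lit 51268877)) (BT.leaf (nat_lit 37482769)))) (BT.node (nat_lit 12689280) (BT.node (nat_lit 12689216) (BT.leaf (nat_lit 818688)) (BT.leaf (nat_lit 51268873))) (BT.node (nat_lit 12689347) (BT.leaf (nat_lit 34742045)) (BT.leaf (nat_lit 818488))))))) (BT.node (nat_lit 12690688) (BT.node (nat_lit 12690048) (BT.node (nat_lit 12689728) (BT.node (nat_lit 12689600) (BT.node (nat_lit 12689536) (BT.leaf (nat_lit 46541829)) (BT.leaf (nat_lit 34743069))) (BT.node (nat_lit 12689664) (BT.leaf (nat_lit 49440033)) (BT.leaf (nat_lit 37680669)))) (BT.node (nat_lit 12689856) (BT.node (nat_lit 12689792) (BT.leaf (nat_lit 34743817)) (BT.leaf (nat_lit 50758937))) (BT.node (nat_lit 12689920) (BT.leaf (nat_lit 37680401)) (BT.leaf (nat_lit 34745629))))) (BT.node (nat_lit 12690368) (BT.node (nat_lit 12690240) (BT.node (nat_lit 12690112) (BT.leaf (nat_lit 34746641)) (BT.leaf (nat_lit 34747673))) (BT.node (nat_lit 12690304) (BT.leaf (nat_lit 47778081)) (BT.leaf (nat_lit 34748185)))) (BT.node (nat_lit 12690496) (BT.node (nat_lit 12690432) (BT.leaf (nat_lit 34748189)) (BT.leaf (nat_lit 34748433))) (BT.node (nat_lit 12690624) (BT.leaf (nat_lit 34748697)) (BT.leaf (nat_lit 34749981)))))) (BT.node (nat_lit 12691136) (BT.node (nat_lit 12690944) (BT.node (nat_lit 12690816) (BT.node (nat_lit 12690752) (BT.leaf (nat_lit 34750993)) (BT.leaf (nat_lit 34752017))) (BT.node (nat_lit 12690880) (BT.leaf (nat_lit 50253845)) (BT.leaf (nat_lit 38163213)))) (BT.node (nat_lit 12691013) (BT.node (nat_lit 12691008) (BT.leaf (nat_lit 34753309)) (BT.leaf (nat_lit 49614617))) (BT.node (nat_lit 12691072) (BT.leaf (nat_lit 798060)) (BT.leaf (nat_lit 48395029))))) (BT.node (nat_lit 12691392) (BT.node (nat_lit 12691264) (BT.node (nat_lit 12691200) (BT.leaf (nat_lit 34755093)) (BT.leaf (nat_lit 50933793))) (BT.node (nat_lit 12691328) (BT.leaf (nat_lit 34756881)) (BT.leaf (nat_lit 34757137)))) (BT.node (nat_lit 12691520) (BT.node (nat_lit 12691456) (BT.leaf (nat_lit 52340513)) (BT.leaf (nat_lit 34760209))) (BT.node (nat_lit 12691584) (BT.leaf (nat_lit 34760981)) (BT.leaf (nat_lit 34762253))))))))) (BT.node (nat_lit 12696768) (BT.node (nat_lit 12694468) (BT.node (nat_lit 12693440) (BT.node (nat_lit 12692736) (BT.node (nat_lit 12692480) (BT.node (nat_lit 12692224) (BT.node (nat_lit 12691712) (BT.leaf (nat_lit 44568589)) (BT.leaf (nat_lit 51544853))) (BT.node (nat_lit 12692416) (BT.leaf (nat_lit 34764817)) (BT.leaf (nat_lit 34767385)))) (BT.node (nat_lit 12692608) (BT.node (nat_lit 12692544) (BT.leaf (nat_lit 34768917)) (BT.leaf (nat_lit 34768921))) (BT.node (nat_lit 12692672) (BT.leaf (nat_lit 34769425)) (BT.leaf (nat_lit 34770449))))) (BT.node (nat_lit 12693056) (BT.node (nat_lit 12692928) (BT.node (nat_lit 12692864) (BT.leaf (nat_lit 49629457)) (BT.leaf (nat_lit 34770705))) (BT.node (nat_lit 12692992) (BT.leaf (nat_lit 35237125)) (BT.leaf (nat_lit 34771729)))) (BT.node (nat_lit 12693248) (BT.node (nat_lit 12693120) (BT.leaf (nat_lit 34771225)) (BT.leaf (nat_lit 34771997))) (BT.node (nat_lit 12693376) (BT.leaf (nat_lit 34772501)) (BT.leaf (nat_lit 34773277)))))) (BT.node (nat_lit 12693952) (BT.node (nat_lit 12693696) (BT.node (nat_lit 12693568) (BT.node (nat_lit 12693504) (BT.leaf (nat_lit 34773789)) (BT.leaf (nat_lit 34774553))) (BT.node (nat_lit 12693632) (BT.leaf (nat_lit 34774557)) (BT.leaf (nat_lit 36261129)))) (BT.node (nat_lit 12693824) (BT.node (nat_lit 12693760) (BT.leaf (nat_lit 52063009)) (BT.leaf (nat_lit 36261145))) (BT.node (nat_lit 12693888) (BT.leaf (nat_lit 34775829)) (BT.leaf (nat_lit 34775833))))) (BT.node (nat_lit 12694272) (BT.node (nat_lit 12694144) (BT.node (nat_lit 12694080) (BT.leaf (nat_lit 34777117)) (BT.leaf (nat_lit 36425749))) (BT.node (nat_lit 12694208) (BT.leaf (nat_lit 51307801)) (BT.leaf (nat_lit 51437833)))) (BT.node (nat_lit 12694400) (BT.node (nat_lit 12694336) (BT.leaf (nat_lit 34779417)) (BT.leaf (nat_lit 34779921))) (BT.node (nat_lit 12694464) (BT.leaf (nat_lit 44327957)) (BT.leaf (nat_lit 36631061))))))) (BT.node (nat_lit 12695680) (BT.node (nat_lit 12695232) (BT.node (nat_lit 12694912) (BT.node (nat_lit 12694720) (BT.node (nat_lit 12694656) (BT.leaf (nat_lit 810372)) (BT.leaf (nat_lit 50108437))) (BT.node (nat_lit 12694848) (BT.leaf (nat_lit 34782745)) (BT.leaf (nat_lit 49706785)))) (BT.node (nat_lit 12695104) (BT.node (nat_lit 12695040) (BT.leaf (nat_lit 46654741)) (BT.leaf (nat_lit 49915141))) (BT.node (nat_lit 12695168) (BT.leaf (nat_lit 47107873)) (BT.leaf (nat_lit 34784265))))) (BT.node (nat_lit 12695424) (BT.node (nat_lit 12695300) (BT.node (nat_lit 12695296) (BT.leaf (nat_lit 34785549)) (BT.leaf (nat_lit 34785565))) (BT.node (nat_lit 12695360) (BT.leaf (nat_lit 801060)) (BT.leaf (nat_lit 34786333)))) (BT.node (nat_lit 12695552) (BT.node (nat_lit 12695488) (BT.leaf (nat_lit 34786577)) (BT.leaf (nat_lit 34787089))) (BT.node (nat_lit 12695616) (BT.leaf (nat_lit 34787093)) (BT.leaf (nat_lit 34787345)))))) (BT.node (nat_lit 12696256) (BT.node (nat_lit 12696000) (BT.node (nat_lit 12695872) (BT.node (nat_lit 12695744) (BT.leaf (nat_lit 34787601)) (BT.leaf (nat_lit 50722837))) (BT.node (nat_lit 12695936) (BT.leaf (nat_lit 34788629)) (BT.leaf (nat_lit 46807317)))) (BT.node (nat_lit 12696128) (BT.node (nat_lit 12696064) (BT.leaf (nat_lit 34788633)) (BT.leaf (nat_lit 34788893))) (BT.node (nat_lit 12696192) (BT.leaf (nat_lit 34789901)) (BT.leaf (nat_lit 34789913))))) (BT.node (nat_lit 12696512) (BT.node (nat_lit 12696384) (BT.node (nat_lit 12696320) (BT.leaf (nat_lit 50785289)) (BT.leaf (nat_lit 35424533))) (BT.node (nat_lit 12696448) (BT.leaf (nat_lit 34964489)) (BT.leaf (nat_lit 34790929)))) (BT.node (nat_lit 12696640) (BT.node (nat_lit 12696576) (BT.leaf (nat_lit 34790945)) (BT.leaf (nat_lit 36073757))) (BT.node (nat_lit 12696704) (BT.leaf (nat_lit 34792725)) (BT.leaf (nat_lit 34792977)))))))) (BT.node (nat_lit 12699072) (BT.node (nat_lit 12697856) (BT.node (nat_lit 12697344) (BT.node (nat_lit 12697024) (BT.node (nat_lit 12696896) (BT.node (nat_lit 12696832) (BT.leaf (nat_lit 34793489)) (BT.leaf (nat_lit 34794001))) (BT.node (nat_lit 12696960) (BT.leaf (nat_lit 36339481)) (BT.leaf (nat_lit 34795537)))) (BT.node (nat_lit 12697216) (BT.node (nat_lit 12697088) (BT.leaf (nat_lit 34795541)) (BT.leaf (nat_lit 34795793))) (BT.node (nat_lit 12697280) (BT.leaf (nat_lit 34967317)) (BT.leaf (nat_lit 46480161))))) (BT.node (nat_lit 12697600) (BT.node (nat_lit 12697472) (BT.node (nat_lit 12697408) (BT.leaf (nat_lit 51008033)) (BT.leaf (nat_lit 34799125))) (BT.node (nat_lit 12697536) (BT.leaf (nat_lit 34799881)) (BT.leaf (nat_lit 34799885)))) (BT.node (nat_lit 12697728) (BT.node (nat_lit 12697664) (BT.leaf (nat_lit 34799897)) (BT.leaf (nat_lit 34800397))) (BT.node (nat_lit 12697792) (BT.leaf (nat_lit 34800417)) (BT.leaf (nat_lit 34800917)))))) (BT.node (nat_lit 12698496) (BT.node (nat_lit 12698112) (BT.node (nat_lit 12697984) (BT.node (nat_lit 12697920) (BT.leaf (nat_lit 34801157)) (BT.leaf (nat_lit 46863905))) (BT.node (nat_lit 12698048) (BT.leaf (nat_lit 49169945)) (BT.leaf (nat_lit 34801677)))) (BT.node (nat_lit 12698240) (BT.node (nat_lit 12698176) (BT.leaf (nat_lit 50792733)) (BT.leaf (nat_lit 49169681))) (BT.node (nat_lit 12698432) (BT.leaf (nat_lit 34803729)) (BT.leaf (nat_lit 46722077))))) (BT.node (nat_lit 12698816) (BT.node (nat_lit 12698688) (BT.node (nat_lit 12698560) (BT.leaf (nat_lit 34804753)) (BT.leaf (nat_lit 34805013))) (BT.node (nat_lit 12698752) (BT.leaf (nat_lit 34808081)) (BT.leaf (nat_lit 34810389)))) (BT.node (nat_lit 12698944) (BT.node (nat_lit 12698880) (BT.leaf (nat_lit 34810901)) (BT.leaf (nat_lit 34811681))) (BT.node (nat_lit 12699008) (BT.leaf (nat_lit 47812885)) (BT.leaf (nat_lit 34812165))))))) (BT.node (nat_lit 12700224) (BT.node (nat_lit 12699648) (BT.node (nat_lit 12699328) (BT.node (nat_lit 12699200) (BT.node (nat_lit 12699136) (BT.leaf (nat_lit 49555469)) (BT.leaf (nat_lit 34812705))) (BT.node (nat_lit 12699264) (BT.leaf (nat_lit 50201605)) (BT.leaf (nat_lit 35760645)))) (BT.node (nat_lit 12699520) (BT.node (nat_lit 12699456) (BT.leaf (nat_lit 47336989)) (BT.leaf (nat_lit 52033553))) (BT.node (nat_lit 12699584) (BT.leaf (nat_lit 47179029)) (BT.leaf (nat_lit 34817561))))) (BT.node (nat_lit 12699904) (BT.node (nat_lit 12699776) (BT.node (nat_lit 12699712) (BT.leaf (nat_lit 36668433)) (BT.leaf (nat_lit 36668177))) (BT.node (nat_lit 12699840) (BT.leaf (nat_lit 36669201)) (BT.leaf (nat_lit 34818845)))) (BT.node (nat_lit 12700032) (BT.node (nat_lit 12699968) (BT.leaf (nat_lit 40343325)) (BT.leaf (nat_lit 34820121))) (BT.node (nat_lit 12700160) (BT.leaf (nat_lit 34820125)) (BT.leaf (nat_lit 34821641)))))) (BT.node (nat_lit 12701120) (BT.node (nat_lit 12700480) (BT.node (nat_lit 12700352) (BT.node (nat_lit 12700288) (BT.leaf (nat_lit 34822165)) (BT.leaf (nat_lit 34822417))) (BT.node (nat_lit 12700416) (BT.leaf (nat_lit 34822421)) (BT.leaf (nat_lit 34822681)))) (BT.node (nat_lit 12700800) (BT.node (nat_lit 12700736) (BT.leaf (nat_lit 34822941)) (BT.leaf (nat_lit 51900701))) (BT.node (nat_lit 12701056) (BT.leaf (nat_lit 52401677)) (BT.leaf (nat_lit 37153301))))) (BT.node (nat_lit 12701376) (BT.node (nat_lit 12701248) (BT.node (nat_lit 12701184) (BT.leaf (nat_lit 34825761)) (BT.leaf (nat_lit 36203025))) (BT.node (nat_lit 12701312) (BT.leaf (nat_lit 34826265)) (BT.leaf (nat_lit 36411157)))) (BT.node (nat_lit 12701504) (BT.node (nat_lit 12701440) (BT.leaf (nat_lit 34827545)) (BT.leaf (nat_lit 34827549))) (BT.node (nat_lit 12701568) (BT.leaf (nat_lit 34828061)) (BT.leaf (nat_lit 50508573)))))))))) (BT.node (nat_lit 12711424) (BT.node (nat_lit 12706304) (BT.node (nat_lit 12703744) (BT.node (nat_lit 12702528) (BT.node (nat_lit 12702016) (BT.node (nat_lit 12701889) (BT.node (nat_lit 12701760) (BT.node (nat_lit 12701696) (BT.leaf (nat_lit 52160025)) (BT.leaf (nat_lit 48861445))) (BT.node (nat_lit 12701888) (BT.leaf (nat_lit 39888145)) (BT.leaf (nat_lit 34830109)))) (BT.node (nat_lit 12701892) (BT.node (nat_lit 12701891) (BT.leaf (nat_lit 811420)) (BT.leaf (nat_lit 811420))) (BT.node (nat_lit 12701952) (BT.leaf (nat_lit 811420)) (BT.leaf (nat_lit 52189209))))) (BT.node (nat_lit 12702272) (BT.node (nat_lit 12702144) (BT.node (nat_lit 12702080) (BT.leaf (nat_lit 41310485)) (BT.leaf (nat_lit 34830873))) (BT.node (nat_lit 12702208) (BT.leaf (nat_lit 34831877)) (BT.leaf (nat_lit 37015825)))) (BT.node (nat_lit 12702400) (BT.node (nat_lit 12702336) (BT.leaf (nat_lit 40345377)) (BT.leaf (nat_lit 40345365))) (BT.node (nat_lit 12702464) (BT.leaf (nat_lit 40345373)) (BT.leaf (nat_lit 34833941)))))) (BT.node (nat_lit 12703168) (BT.node (nat_lit 12702848) (BT.node (nat_lit 12702656) (BT.node (nat_lit 12702592) (BT.leaf (nat_lit 44793633)) (BT.leaf (nat_lit 34837009))) (BT.node (nat_lit 12702720) (BT.leaf (nat_lit 50478605)) (BT.leaf (nat_lit 34837273)))) (BT.node (nat_lit 12702976) (BT.node (nat_lit 12702912) (BT.leaf (nat_lit 34838041)) (BT.leaf (nat_lit 36375045))) (BT.node (nat_lit 12703104) (BT.leaf (nat_lit 34838541)) (BT.leaf (nat_lit 34838557))))) (BT.node (nat_lit 12703424) (BT.node (nat_lit 12703296) (BT.node (nat_lit 12703232) (BT.leaf (nat_lit 34839065)) (BT.leaf (nat_lit 34839313))) (BT.node (nat_lit 12703360) (BT.leaf (nat_lit 34839581)) (BT.leaf (nat_lit 34839817)))) (BT.node (nat_lit 12703552) (BT.node (nat_lit 12703488) (BT.leaf (nat_lit 34840085)) (BT.leaf (nat_lit 44763933))) (BT.node (nat_lit 12703680) (BT.leaf (nat_lit 36987409)) (BT.leaf (nat_lit 37490453))))))) (BT.node (nat_lit 12704896) (BT.node (nat_lit 12704256) (BT.node (nat_lit 12704000) (BT.node (nat_lit 12703872) (BT.node (nat_lit 12703808) (BT.leaf (nat_lit 36211473)) (BT.leaf (nat_lit 36211217))) (BT.node (nat_lit 12703936) (BT.leaf (nat_lit 34843405)) (BT.leaf (nat_lit 34843669)))) (BT.node (nat_lit 12704128) (BT.node (nat_lit 12704064) (BT.leaf (nat_lit 34844705)) (BT.leaf (nat_lit 34845457))) (BT.node (nat_lit 12704192) (BT.leaf (nat_lit 34845721)) (BT.leaf (nat_lit 34845725))))) (BT.node (nat_lit 12704576) (BT.node (nat_lit 12704448) (BT.node (nat_lit 12704320) (BT.leaf (nat_lit 34847773)) (BT.leaf (nat_lit 34848025))) (BT.node (nat_lit 12704512) (BT.leaf (nat_lit 34848517)) (BT.leaf (nat_lit 39652381)))) (BT.node (nat_lit 12704704) (BT.node (nat_lit 12704640) (BT.leaf (nat_lit 34848789)) (BT.leaf (nat_lit 34849561))) (BT.node (nat_lit 12704768) (BT.leaf (nat_lit 34850065)) (BT.leaf (nat_lit 34850321)))))) (BT.node (nat_lit 12705536) (BT.node (nat_lit 12705216) (BT.node (nat_lit 12705024) (BT.node (nat_lit 12704960) (BT.leaf (nat_lit 34851601)) (BT.leaf (nat_lit 34851857))) (BT.node (nat_lit 12705152) (BT.leaf (nat_lit 46441997)) (BT.leaf (nat_lit 46442017)))) (BT.node (nat_lit 12705408) (BT.node (nat_lit 12705344) (BT.leaf (nat_lit 35048213)) (BT.leaf (nat_lit 34854421))) (BT.node (nat_lit 12705472) (BT.leaf (nat_lit 34854425)) (BT.leaf (nat_lit 49702417))))) (BT.node (nat_lit 12705856) (BT.node (nat_lit 12705664) (BT.node (nat_lit 12705600) (BT.leaf (nat_lit 34855965)) (BT.leaf (nat_lit 50888709))) (BT.node (nat_lit 12705728) (BT.leaf (nat_lit 34856465)) (BT.leaf (nat_lit 47501345)))) (BT.node (nat_lit 12706176) (BT.node (nat_lit 12706112) (BT.leaf (nat_lit 37042453)) (BT.leaf (nat_lit 34859797))) (BT.node (nat_lit 12706240) (BT.leaf (nat_lit 34860817)) (BT.leaf (nat_lit 34861329)))))))) (BT.node (nat_lit 12708736) (BT.node (nat_lit 12707712) (BT.node (nat_lit 12706880) (BT.node (nat_lit 12706560) (BT.node (nat_lit 12706432) (BT.node (nat_lit 12706368) (BT.leaf (nat_lit 37816093)) (BT.leaf (nat_lit 47933201))) (BT.node (nat_lit 12706496) (BT.leaf (nat_lit 35446041)) (BT.leaf (nat_lit 34863385)))) (BT.node (nat_lit 12706688) (BT.node (nat_lit 12706624) (BT.leaf (nat_lit 34863389)) (BT.leaf (nat_lit 34863641))) (BT.node (nat_lit 12706752) (BT.leaf (nat_lit 34863645)) (BT.leaf (nat_lit 34864657))))) (BT.node (nat_lit 12707200) (BT.node (nat_lit 12707072) (BT.node (nat_lit 12706944) (BT.leaf (nat_lit 36366365)) (BT.leaf (nat_lit 52143621))) (BT.node (nat_lit 12707136) (BT.leaf (nat_lit 34865945)) (BT.leaf (nat_lit 34865949)))) (BT.node (nat_lit 12707328) (BT.node (nat_lit 12707264) (BT.leaf (nat_lit 34866197)) (BT.leaf (nat_lit 41380125))) (BT.node (nat_lit 12707648) (BT.leaf (nat_lit 34867989)) (BT.leaf (nat_lit 48508941)))))) (BT.node (nat_lit 12708224) (BT.node (nat_lit 12707968) (BT.node (nat_lit 12707840) (BT.node (nat_lit 12707776) (BT.leaf (nat_lit 34870545)) (BT.leaf (nat_lit 34871057))) (BT.node (nat_lit 12707904) (BT.leaf (nat_lit 34871313)) (BT.leaf (nat_lit 34871573)))) (BT.node (nat_lit 12708096) (BT.node (nat_lit 12708032) (BT.leaf (nat_lit 34872601)) (BT.leaf (nat_lit 34874889))) (BT.node (nat_lit 12708160) (BT.leaf (nat_lit 34874893)) (BT.leaf (nat_lit 34875157))))) (BT.node (nat_lit 12708480) (BT.node (nat_lit 12708352) (BT.node (nat_lit 12708288) (BT.leaf (nat_lit 34874905)) (BT.leaf (nat_lit 34875421))) (BT.node (nat_lit 12708416) (BT.leaf (nat_lit 52041761)) (BT.leaf (nat_lit 51126797)))) (BT.node (nat_lit 12708608) (BT.node (nat_lit 12708544) (BT.leaf (nat_lit 51126277)) (BT.leaf (nat_lit 51126293))) (BT.node (nat_lit 12708672) (BT.leaf (nat_lit 34878497)) (BT.leaf (nat_lit 46365713))))))) (BT.node (nat_lit 12709888) (BT.node (nat_lit 12709312) (BT.node (nat_lit 12709056) (BT.node (nat_lit 12708928) (BT.node (nat_lit 12708864) (BT.leaf (nat_lit 50346001)) (BT.leaf (nat_lit 34880773))) (BT.node (nat_lit 12708992) (BT.leaf (nat_lit 46796053)) (BT.leaf (nat_lit 34883589)))) (BT.node (nat_lit 12709184) (BT.node (nat_lit 12709120) (BT.leaf (nat_lit 40289569)) (BT.leaf (nat_lit 34886433))) (BT.node (nat_lit 12709248) (BT.leaf (nat_lit 37610777)) (BT.leaf (nat_lit 34888221))))) (BT.node (nat_lit 12709568) (BT.node (nat_lit 12709440) (BT.node (nat_lit 12709376) (BT.leaf (nat_lit 49602593)) (BT.leaf (nat_lit 49602565))) (BT.node (nat_lit 12709504) (BT.leaf (nat_lit 34888725)) (BT.leaf (nat_lit 34889229)))) (BT.node (nat_lit 12709696) (BT.node (nat_lit 12709632) (BT.leaf (nat_lit 41009157)) (BT.leaf (nat_lit 34889497))) (BT.node (nat_lit 12709824) (BT.leaf (nat_lit 51915021)) (BT.leaf (nat_lit 34891801)))))) (BT.node (nat_lit 12710656) (BT.node (nat_lit 12710336) (BT.node (nat_lit 12710144) (BT.node (nat_lit 12710080) (BT.leaf (nat_lit 34892565)) (BT.leaf (nat_lit 34893089))) (BT.node (nat_lit 12710208) (BT.leaf (nat_lit 34893845)) (BT.leaf (nat_lit 34894097)))) (BT.node (nat_lit 12710528) (BT.node (nat_lit 12710464) (BT.leaf (nat_lit 50517025)) (BT.leaf (nat_lit 34895633))) (BT.node (nat_lit 12710592) (BT.leaf (nat_lit 34896401)) (BT.leaf (nat_lit 34896661))))) (BT.node (nat_lit 12711104) (BT.node (nat_lit 12710784) (BT.node (nat_lit 12710720) (BT.leaf (nat_lit 48475425)) (BT.leaf (nat_lit 47500321))) (BT.node (nat_lit 12710976) (BT.leaf (nat_lit 36209429)) (BT.leaf (nat_lit 36635145)))) (BT.node (nat_lit 12711296) (BT.node (nat_lit 12711168) (BT.leaf (nat_lit 51585309)) (BT.leaf (nat_lit 34924317))) (BT.node (nat_lit 12711360) (BT.leaf (nat_lit 34901769)) (BT.leaf (nat_lit 34900501))))))))) (BT.node (nat_lit 12716096) (BT.node (nat_lit 12713920) (BT.node (nat_lit 12712576) (BT.node (nat_lit 12711936) (BT.node (nat_lit 12711680) (BT.node (nat_lit 12711552) (BT.node (nat_lit 12711488) (BT.leaf (nat_lit 34900505)) (BT.leaf (nat_lit 34900509))) (BT.node (nat_lit 12711616) (BT.leaf (nat_lit 34900757)) (BT.leaf (nat_lit 34900761)))) (BT.node (nat_lit 12711808) (BT.node (nat_lit 12711744) (BT.leaf (nat_lit 34900765)) (BT.leaf (nat_lit 34901009))) (BT.node (nat_lit 12711872) (BT.leaf (nat_lit 35552789)) (BT.leaf (nat_lit 34902809))))) (BT.node (nat_lit 12712256) (BT.node (nat_lit 12712064) (BT.node (nat_lit 12712000) (BT.leaf (nat_lit 34902813)) (BT.leaf (nat_lit 34903573))) (BT.node (nat_lit 12712128) (BT.leaf (nat_lit 50414113)) (BT.leaf (nat_lit 36219933)))) (BT.node (nat_lit 12712448) (BT.node (nat_lit 12712384) (BT.leaf (nat_lit 34906397)) (BT.leaf (nat_lit 52191257))) (BT.node (nat_lit 12712512) (BT.leaf (nat_lit 34907153)) (BT.leaf (nat_lit 52093469)))))) (BT.node (nat_lit 12713216) (BT.node (nat_lit 12712832) (BT.node (nat_lit 12712704) (BT.node (nat_lit 12712640) (BT.leaf (nat_lit 34907425)) (BT.leaf (nat_lit 50445845))) (BT.node (nat_lit 12712768) (BT.leaf (nat_lit 50274577)) (BT.leaf (nat_lit 50455813)))) (BT.node (nat_lit 12713088) (BT.node (nat_lit 12713024) (BT.leaf (nat_lit 51949317)) (BT.leaf (nat_lit 50259233))) (BT.node (nat_lit 12713152) (BT.leaf (nat_lit 34910989)) (BT.leaf (nat_lit 51436065))))) (BT.node (nat_lit 12713408) (BT.node (nat_lit 12713344) (BT.node (nat_lit 12713280) (BT.leaf (nat_lit 50111001)) (BT.leaf (nat_lit 36225805))) (BT.node (nat_lit 12713352) (BT.leaf (nat_lit 47384837)) (BT.leaf (nat_lit 795060)))) (BT.node (nat_lit 12713600) (BT.node (nat_lit 12713536) (BT.leaf (nat_lit 36248329)) (BT.leaf (nat_lit 34913305))) (BT.node (nat_lit 12713728) (BT.leaf (nat_lit 34913809)) (BT.leaf (nat_lit 34915865))))))) (BT.node (nat_lit 12715008) (BT.node (nat_lit 12714432) (BT.node (nat_lit 12714176) (BT.node (nat_lit 12714048) (BT.node (nat_lit 12713984) (BT.leaf (nat_lit 34916373)) (BT.leaf (nat_lit 34916633))) (BT.node (nat_lit 12714112) (BT.leaf (nat_lit 34916637)) (BT.leaf (nat_lit 50865677)))) (BT.node (nat_lit 12714304) (BT.node (nat_lit 12714240) (BT.leaf (nat_lit 34918429)) (BT.leaf (nat_lit 34918673))) (BT.node (nat_lit 12714368) (BT.leaf (nat_lit 34918937)) (BT.leaf (nat_lit 34918941))))) (BT.node (nat_lit 12714688) (BT.node (nat_lit 12714560) (BT.node (nat_lit 12714496) (BT.leaf (nat_lit 34919193)) (BT.leaf (nat_lit 34919197))) (BT.node (nat_lit 12714624) (BT.leaf (nat_lit 34919449)) (BT.leaf (nat_lit 34919453)))) (BT.node (nat_lit 12714816) (BT.node (nat_lit 12714752) (BT.leaf (nat_lit 52299809)) (BT.leaf (nat_lit 34920217))) (BT.node (nat_lit 12714944) (BT.leaf (nat_lit 34920977)) (BT.leaf (nat_lit 34921493)))))) (BT.node (nat_lit 12715520) (BT.node (nat_lit 12715264) (BT.node (nat_lit 12715136) (BT.node (nat_lit 12715072) (BT.leaf (nat_lit 34922005)) (BT.leaf (nat_lit 34922261))) (BT.node (nat_lit 12715200) (BT.leaf (nat_lit 34922505)) (BT.leaf (nat_lit 34922521)))) (BT.node (nat_lit 12715392) (BT.node (nat_lit 12715328) (BT.leaf (nat_lit 36246297)) (BT.leaf (nat_lit 36253977))) (BT.node (nat_lit 12715456) (BT.leaf (nat_lit 51222301)) (BT.leaf (nat_lit 34924569))))) (BT.node (nat_lit 12715776) (BT.node (nat_lit 12715648) (BT.node (nat_lit 12715584) (BT.leaf (nat_lit 34924053)) (BT.leaf (nat_lit 34924553))) (BT.node (nat_lit 12715712) (BT.leaf (nat_lit 34924577)) (BT.leaf (nat_lit 50480389)))) (BT.node (nat_lit 12715968) (BT.node (nat_lit 12715904) (BT.leaf (nat_lit 46214157)) (BT.leaf (nat_lit 34927125))) (BT.node (nat_lit 12716032) (BT.leaf (nat_lit 34927129)) (BT.leaf (nat_lit 34927133)))))))) (BT.node (nat_lit 12718533) (BT.node (nat_lit 12717504) (BT.node (nat_lit 12716672) (BT.node (nat_lit 12716416) (BT.node (nat_lit 12716224) (BT.node (nat_lit 12716160) (BT.leaf (nat_lit 38407453)) (BT.leaf (nat_lit 50216965))) (BT.node (nat_lit 12716352) (BT.leaf (nat_lit 50864649)) (BT.leaf (nat_lit 34928661)))) (BT.node (nat_lit 12716544) (BT.node (nat_lit 12716480) (BT.leaf (nat_lit 47874849)) (BT.leaf (nat_lit 34929425))) (BT.node (nat_lit 12716608) (BT.leaf (nat_lit 46942497)) (BT.leaf (nat_lit 46942753))))) (BT.node (nat_lit 12717248) (BT.node (nat_lit 12716864) (BT.node (nat_lit 12716736) (BT.leaf (nat_lit 46943265)) (BT.leaf (nat_lit 50095389))) (BT.node (nat_lit 12717056) (BT.leaf (nat_lit 36227081)) (BT.leaf (nat_lit 49930261)))) (BT.node (nat_lit 12717376) (BT.node (nat_lit 12717312) (BT.leaf (nat_lit 46845725)) (BT.leaf (nat_lit 45034505))) (BT.node (nat_lit 12717440) (BT.leaf (nat_lit 36310293)) (BT.leaf (nat_lit 51654169)))))) (BT.node (nat_lit 12718016) (BT.node (nat_lit 12717760) (BT.node (nat_lit 12717632) (BT.node (nat_lit 12717568) (BT.leaf (nat_lit 34935069)) (BT.leaf (nat_lit 34935317))) (BT.node (nat_lit 12717696) (BT.leaf (nat_lit 34935325)) (BT.leaf (nat_lit 47683597)))) (BT.node (nat_lit 12717888) (BT.node (nat_lit 12717824) (BT.leaf (nat_lit 34936853)) (BT.leaf (nat_lit 34937105))) (BT.node (nat_lit 12717952) (BT.leaf (nat_lit 34937361)) (BT.leaf (nat_lit 34937881))))) (BT.node (nat_lit 12718272) (BT.node (nat_lit 12718144) (BT.node (nat_lit 12718080) (BT.leaf (nat_lit 50173985)) (BT.leaf (nat_lit 34939149))) (BT.node (nat_lit 12718208) (BT.leaf (nat_lit 34939161)) (BT.leaf (nat_lit 47333665)))) (BT.node (nat_lit 12718464) (BT.node (nat_lit 12718336) (BT.leaf (nat_lit 41866773)) (BT.leaf (nat_lit 36229901))) (BT.node (nat_lit 12718528) (BT.leaf (nat_lit 34941457)) (BT.leaf (nat_lit 46778913))))))) (BT.node (nat_lit 12719680) (BT.node (nat_lit 12719168) (BT.node (nat_lit 12718848) (BT.node (nat_lit 12718720) (BT.node (nat_lit 12718656) (BT.leaf (nat_lit 805212)) (BT.leaf (nat_lit 50568453))) (BT.node (nat_lit 12718784) (BT.leaf (nat_lit 34941981)) (BT.leaf (nat_lit 50567705)))) (BT.node (nat_lit 12718976) (BT.node (nat_lit 12718912) (BT.leaf (nat_lit 34942481)) (BT.leaf (nat_lit 34944281))) (BT.node (nat_lit 12719040) (BT.leaf (nat_lit 34944285)) (BT.leaf (nat_lit 34945557))))) (BT.node (nat_lit 12719424) (BT.node (nat_lit 12719296) (BT.node (nat_lit 12719232) (BT.leaf (nat_lit 43395361)) (BT.leaf (nat_lit 47881753))) (BT.node (nat_lit 12719360) (BT.leaf (nat_lit 34946069)) (BT.leaf (nat_lit 34946841)))) (BT.node (nat_lit 12719552) (BT.node (nat_lit 12719488) (BT.leaf (nat_lit 34947609)) (BT.leaf (nat_lit 34947613))) (BT.node (nat_lit 12719616) (BT.leaf (nat_lit 34948113)) (BT.leaf (nat_lit 34948117)))))) (BT.node (nat_lit 12720192) (BT.node (nat_lit 12719936) (BT.node (nat_lit 12719808) (BT.node (nat_lit 12719744) (BT.leaf (nat_lit 34948377)) (BT.leaf (nat_lit 34948625))) (BT.node (nat_lit 12719872) (BT.leaf (nat_lit 34950153)) (BT.leaf (nat_lit 34950421)))) (BT.node (nat_lit 12720064) (BT.node (nat_lit 12720000) (BT.leaf (nat_lit 34951185)) (BT.leaf (nat_lit 36016901))) (BT.node (nat_lit 12720128) (BT.leaf (nat_lit 34951953)) (BT.leaf (nat_lit 50774557))))) (BT.node (nat_lit 12720448) (BT.node (nat_lit 12720320) (BT.node (nat_lit 12720256) (BT.leaf (nat_lit 34952213)) (BT.leaf (nat_lit 34952721))) (BT.node (nat_lit 12720384) (BT.leaf (nat_lit 34952725)) (BT.leaf (nat_lit 48912909)))) (BT.node (nat_lit 12720576) (BT.node (nat_lit 12720512) (BT.leaf (nat_lit 42709521)) (BT.leaf (nat_lit 44594969))) (BT.node (nat_lit 12720640) (BT.leaf (nat_lit 34953481)) (BT.leaf (nat_lit 34953485))))))))))) (BT.node (nat_lit 12739008) (BT.node (nat_lit 12729280) (BT.node (nat_lit 12724864) (BT.node (nat_lit 12722752) (BT.node (nat_lit 12721856) (BT.node (nat_lit 12721155) (BT.node (nat_lit 12720960) (BT.node (nat_lit 12720832) (BT.node (nat_lit 12720768) (BT.leaf (nat_lit 34953501)) (BT.leaf (nat_lit 48125197))) (BT.node (nat_lit 12720896) (BT.leaf (nat_lit 34954265)) (BT.leaf (nat_lit 41911557)))) (BT.node (nat_lit 12721088) (BT.node (nat_lit 12721024) (BT.leaf (nat_lit 50259717)) (BT.leaf (nat_lit 50418453))) (BT.node (nat_lit 12721152) (BT.leaf (nat_lit 50993929)) (BT.leaf (nat_lit 35219993))))) (BT.node (nat_lit 12721472) (BT.node (nat_lit 12721344) (BT.node (nat_lit 12721280) (BT.leaf (nat_lit 797360)) (BT.leaf (nat_lit 42522893))) (BT.node (nat_lit 12721408) (BT.leaf (nat_lit 42522913)) (BT.leaf (nat_lit 48945949)))) (BT.node (nat_lit 12721728) (BT.node (nat_lit 12721536) (BT.leaf (nat_lit 34962973)) (BT.leaf (nat_lit 34964257))) (BT.node (nat_lit 12721792) (BT.leaf (nat_lit 42816797)) (BT.leaf (nat_lit 47501829)))))) (BT.node (nat_lit 12722368) (BT.node (nat_lit 12722112) (BT.node (nat_lit 12721984) (BT.node (nat_lit 12721920) (BT.leaf (nat_lit 36157717)) (BT.leaf (nat_lit 34967573))) (BT.node (nat_lit 12722048) (BT.leaf (nat_lit 34967581)) (BT.leaf (nat_lit 34968849)))) (BT.node (nat_lit 12722240) (BT.node (nat_lit 12722176) (BT.leaf (nat_lit 34970117)) (BT.leaf (nat_lit 52055313))) (BT.node (nat_lit 12722304) (BT.leaf (nat_lit 50272525)) (BT.leaf (nat_lit 51511301))))) (BT.node (nat_lit 12722438) (BT.node (nat_lit 12722432) (BT.node (nat_lit 12722374) (BT.leaf (nat_lit 36321553)) (BT.leaf (nat_lit 807172))) (BT.node (nat_lit 12722435) (BT.leaf (nat_lit 36321053)) (BT.leaf (nat_lit 807160)))) (BT.node (nat_lit 12722560) (BT.node (nat_lit 12722496) (BT.leaf (nat_lit 807160)) (BT.leaf (nat_lit 52129057))) (BT.node (nat_lit 12722624) (BT.leaf (nat_lit 34974229)) (BT.leaf (nat_lit 34973973))))))) (BT.node (nat_lit 12723840) (BT.node (nat_lit 12723264) (BT.node (nat_lit 12723008) (BT.node (nat_lit 12722880) (BT.node (nat_lit 12722816) (BT.leaf (nat_lit 46069257)) (BT.leaf (nat_lit 51581725))) (BT.node (nat_lit 12722944) (BT.leaf (nat_lit 51640593)) (BT.leaf (nat_lit 47476501)))) (BT.node (nat_lit 12723136) (BT.node (nat_lit 12723072) (BT.leaf (nat_lit 34980373)) (BT.leaf (nat_lit 50533909))) (BT.node (nat_lit 12723200) (BT.leaf (nat_lit 34984213)) (BT.leaf (nat_lit 34984721))))) (BT.node (nat_lit 12723520) (BT.node (nat_lit 12723392) (BT.node (nat_lit 12723328) (BT.leaf (nat_lit 45189141)) (BT.leaf (nat_lit 45494029))) (BT.node (nat_lit 12723456) (BT.leaf (nat_lit 48646421)) (BT.leaf (nat_lit 46961433)))) (BT.node (nat_lit 12723648) (BT.node (nat_lit 12723584) (BT.leaf (nat_lit 35623961)) (BT.leaf (nat_lit 34988049))) (BT.node (nat_lit 12723712) (BT.leaf (nat_lit 34988313)) (BT.leaf (nat_lit 34988561)))))) (BT.node (nat_lit 12724352) (BT.node (nat_lit 12724096) (BT.node (nat_lit 12723968) (BT.node (nat_lit 12723904) (BT.leaf (nat_lit 50390817)) (BT.leaf (nat_lit 34989329))) (BT.node (nat_lit 12724032) (BT.leaf (nat_lit 34989333)) (BT.leaf (nat_lit 36278801)))) (BT.node (nat_lit 12724224) (BT.node (nat_lit 12724160) (BT.leaf (nat_lit 34990361)) (BT.leaf (nat_lit 36279313))) (BT.node (nat_lit 12724288) (BT.leaf (nat_lit 36279057)) (BT.leaf (nat_lit 37928985))))) (BT.node (nat_lit 12724608) (BT.node (nat_lit 12724480) (BT.node (nat_lit 12724416) (BT.leaf (nat_lit 34991125)) (BT.leaf (nat_lit 34991369))) (BT.node (nat_lit 12724544) (BT.leaf (nat_lit 34991373)) (BT.leaf (nat_lit 34991385)))) (BT.node (nat_lit 12724736) (BT.node (nat_lit 12724672) (BT.leaf (nat_lit 51679761)) (BT.leaf (nat_lit 34992153))) (BT.node (nat_lit 12724800) (BT.leaf (nat_lit 34992405)) (BT.leaf (nat_lit 37026313)))))))) (BT.node (nat_lit 12727104) (BT.node (nat_lit 12725952) (BT.node (nat_lit 12725376) (BT.node (nat_lit 12725120) (BT.node (nat_lit 12724992) (BT.node (nat_lit 12724928) (BT.leaf (nat_lit 51026709)) (BT.leaf (nat_lit 48013337))) (BT.node (nat_lit 12725056) (BT.leaf (nat_lit 48013341)) (BT.leaf (nat_lit 50660109)))) (BT.node (nat_lit 12725248) (BT.node (nat_lit 12725184) (BT.leaf (nat_lit 34994453)) (BT.leaf (nat_lit 34994961))) (BT.node (nat_lit 12725312) (BT.leaf (nat_lit 39223829)) (BT.leaf (nat_lit 48960545))))) (BT.node (nat_lit 12725632) (BT.node (nat_lit 12725504) (BT.node (nat_lit 12725440) (BT.leaf (nat_lit 34995217)) (BT.leaf (nat_lit 34995229))) (BT.node (nat_lit 12725568) (BT.leaf (nat_lit 34995233)) (BT.leaf (nat_lit 34996509)))) (BT.node (nat_lit 12725760) (BT.node (nat_lit 12725696) (BT.leaf (nat_lit 34995745)) (BT.leaf (nat_lit 44142613))) (BT.node (nat_lit 12725888) (BT.leaf (nat_lit 34996513)) (BT.leaf (nat_lit 52124689)))))) (BT.node (nat_lit 12726592) (BT.node (nat_lit 12726208) (BT.node (nat_lit 12726080) (BT.node (nat_lit 12726016) (BT.leaf (nat_lit 52114197)) (BT.leaf (nat_lit 34997513))) (BT.node (nat_lit 12726144) (BT.leaf (nat_lit 34999057)) (BT.leaf (nat_lit 34999833)))) (BT.node (nat_lit 12726464) (BT.node (nat_lit 12726400) (BT.leaf (nat_lit 35000081)) (BT.leaf (nat_lit 35001113))) (BT.node (nat_lit 12726528) (BT.leaf (nat_lit 35001117)) (BT.leaf (nat_lit 35001617))))) (BT.node (nat_lit 12726848) (BT.node (nat_lit 12726720) (BT.node (nat_lit 12726656) (BT.leaf (nat_lit 35002129)) (BT.leaf (nat_lit 35002641))) (BT.node (nat_lit 12726784) (BT.leaf (nat_lit 35002909)) (BT.leaf (nat_lit 35003409)))) (BT.node (nat_lit 12726976) (BT.node (nat_lit 12726912) (BT.leaf (nat_lit 50334981)) (BT.leaf (nat_lit 51117345))) (BT.node (nat_lit 12727040) (BT.leaf (nat_lit 35004185)) (BT.leaf (nat_lit 35004189))))))) (BT.node (nat_lit 12728192) (BT.node (nat_lit 12727680) (BT.node (nat_lit 12727424) (BT.node (nat_lit 12727296) (BT.node (nat_lit 12727168) (BT.leaf (nat_lit 45394453)) (BT.leaf (nat_lit 50267909))) (BT.node (nat_lit 12727360) (BT.leaf (nat_lit 47804949)) (BT.leaf (nat_lit 35007501)))) (BT.node (nat_lit 12727552) (BT.node (nat_lit 12727488) (BT.leaf (nat_lit 36421129)) (BT.leaf (nat_lit 46363405))) (BT.node (nat_lit 12727616) (BT.leaf (nat_lit 35010589)) (BT.leaf (nat_lit 48750853))))) (BT.node (nat_lit 12727936) (BT.node (nat_lit 12727808) (BT.node (nat_lit 12727744) (BT.leaf (nat_lit 50367509)) (BT.leaf (nat_lit 35012885))) (BT.node (nat_lit 12727872) (BT.leaf (nat_lit 47025157)) (BT.leaf (nat_lit 35013905)))) (BT.node (nat_lit 12728064) (BT.node (nat_lit 12728000) (BT.leaf (nat_lit 35014417)) (BT.leaf (nat_lit 38774277))) (BT.node (nat_lit 12728128) (BT.leaf (nat_lit 35914273)) (BT.leaf (nat_lit 48257053)))))) (BT.node (nat_lit 12728768) (BT.node (nat_lit 12728512) (BT.node (nat_lit 12728384) (BT.node (nat_lit 12728256) (BT.leaf (nat_lit 47973405)) (BT.leaf (nat_lit 47764257))) (BT.node (nat_lit 12728448) (BT.leaf (nat_lit 35021581)) (BT.leaf (nat_lit 35021597)))) (BT.node (nat_lit 12728640) (BT.node (nat_lit 12728576) (BT.leaf (nat_lit 35022105)) (BT.leaf (nat_lit 37757465))) (BT.node (nat_lit 12728704) (BT.leaf (nat_lit 35022609)) (BT.leaf (nat_lit 52239881))))) (BT.node (nat_lit 12729024) (BT.node (nat_lit 12728896) (BT.node (nat_lit 12728832) (BT.leaf (nat_lit 52239885)) (BT.leaf (nat_lit 35022877))) (BT.node (nat_lit 12728960) (BT.leaf (nat_lit 36246553)) (BT.leaf (nat_lit 35023633)))) (BT.node (nat_lit 12729152) (BT.node (nat_lit 12729088) (BT.leaf (nat_lit 46828309)) (BT.leaf (nat_lit 36246541))) (BT.node (nat_lit 12729216) (BT.leaf (nat_lit 35023897)) (BT.leaf (nat_lit 35024389))))))))) (BT.node (nat_lit 12733952) (BT.node (nat_lit 12731648) (BT.node (nat_lit 12730432) (BT.node (nat_lit 12729792) (BT.node (nat_lit 12729536) (BT.node (nat_lit 12729408) (BT.node (nat_lit 12729344) (BT.leaf (nat_lit 35024157)) (BT.leaf (nat_lit 36293137))) (BT.node (nat_lit 12729472) (BT.leaf (nat_lit 36292881)) (BT.leaf (nat_lit 35024409)))) (BT.node (nat_lit 12729664) (BT.node (nat_lit 12729600) (BT.leaf (nat_lit 35024917)) (BT.leaf (nat_lit 48616453))) (BT.node (nat_lit 12729728) (BT.leaf (nat_lit 35239705)) (BT.leaf (nat_lit 43529505))))) (BT.node (nat_lit 12730048) (BT.node (nat_lit 12729920) (BT.node (nat_lit 12729856) (BT.leaf (nat_lit 35240457)) (BT.leaf (nat_lit 35240461))) (BT.node (nat_lit 12729984) (BT.leaf (nat_lit 35240473)) (BT.leaf (nat_lit 35027481)))) (BT.node (nat_lit 12730304) (BT.node (nat_lit 12730240) (BT.leaf (nat_lit 35027485)) (BT.leaf (nat_lit 50172945))) (BT.node (nat_lit 12730368) (BT.leaf (nat_lit 50920989)) (BT.leaf (nat_lit 35030553)))))) (BT.node (nat_lit 12730944) (BT.node (nat_lit 12730688) (BT.node (nat_lit 12730560) (BT.node (nat_lit 12730496) (BT.leaf (nat_lit 35031313)) (BT.leaf (nat_lit 47121689))) (BT.node (nat_lit 12730624) (BT.leaf (nat_lit 50921993)) (BT.leaf (nat_lit 35032597)))) (BT.node (nat_lit 12730816) (BT.node (nat_lit 12730752) (BT.leaf (nat_lit 35032857)) (BT.leaf (nat_lit 36298017))) (BT.node (nat_lit 12730880) (BT.leaf (nat_lit 51066129)) (BT.leaf (nat_lit 35033625))))) (BT.node (nat_lit 12731264) (BT.node (nat_lit 12731072) (BT.node (nat_lit 12731008) (BT.leaf (nat_lit 46764049)) (BT.leaf (nat_lit 35034125))) (BT.node (nat_lit 12731136) (BT.leaf (nat_lit 35034137)) (BT.leaf (nat_lit 35034141)))) (BT.node (nat_lit 12731520) (BT.node (nat_lit 12731328) (BT.leaf (nat_lit 35035141)) (BT.leaf (nat_lit 50077965))) (BT.node (nat_lit 12731584) (BT.leaf (nat_lit 50514965)) (BT.leaf (nat_lit 35037705))))))) (BT.node (nat_lit 12732672) (BT.node (nat_lit 12732160) (BT.node (nat_lit 12731904) (BT.node (nat_lit 12731776) (BT.node (nat_lit 12731712) (BT.leaf (nat_lit 35037973)) (BT.leaf (nat_lit 35194641))) (BT.node (nat_lit 12731840) (BT.leaf (nat_lit 35782161)) (BT.leaf (nat_lit 37345565)))) (BT.node (nat_lit 12732032) (BT.node (nat_lit 12731968) (BT.leaf (nat_lit 50646281)) (BT.leaf (nat_lit 35039493))) (BT.node (nat_lit 12732096) (BT.leaf (nat_lit 35039505)) (BT.leaf (nat_lit 37577489))))) (BT.node (nat_lit 12732416) (BT.node (nat_lit 12732288) (BT.node (nat_lit 12732224) (BT.leaf (nat_lit 35040793)) (BT.leaf (nat_lit 35040797))) (BT.node (nat_lit 12732352) (BT.leaf (nat_lit 51960345)) (BT.leaf (nat_lit 35042577)))) (BT.node (nat_lit 12732544) (BT.node (nat_lit 12732480) (BT.leaf (nat_lit 37024773)) (BT.leaf (nat_lit 50936865))) (BT.node (nat_lit 12732608) (BT.leaf (nat_lit 44451861)) (BT.leaf (nat_lit 50431761)))))) (BT.node (nat_lit 12733376) (BT.node (nat_lit 12732928) (BT.node (nat_lit 12732744) (BT.node (nat_lit 12732736) (BT.leaf (nat_lit 47363333)) (BT.leaf (nat_lit 35045897))) (BT.node (nat_lit 12732800) (BT.leaf (nat_lit 815996)) (BT.leaf (nat_lit 35045901)))) (BT.node (nat_lit 12733248) (BT.node (nat_lit 12733184) (BT.leaf (nat_lit 42206729)) (BT.leaf (nat_lit 35046933))) (BT.node (nat_lit 12733312) (BT.leaf (nat_lit 37705741)) (BT.leaf (nat_lit 35047689))))) (BT.node (nat_lit 12733696) (BT.node (nat_lit 12733568) (BT.node (nat_lit 12733440) (BT.leaf (nat_lit 35047957)) (BT.leaf (nat_lit 47803413))) (BT.node (nat_lit 12733632) (BT.leaf (nat_lit 35050013)) (BT.leaf (nat_lit 35050773)))) (BT.node (nat_lit 12733824) (BT.node (nat_lit 12733760) (BT.leaf (nat_lit 46533389)) (BT.leaf (nat_lit 35051289))) (BT.node (nat_lit 12733888) (BT.leaf (nat_lit 35051293)) (BT.leaf (nat_lit 35051541)))))))) (BT.node (nat_lit 12736704) (BT.node (nat_lit 12735232) (BT.node (nat_lit 12734592) (BT.node (nat_lit 12734336) (BT.node (nat_lit 12734208) (BT.node (nat_lit 12734080) (BT.leaf (nat_lit 35051797)) (BT.leaf (nat_lit 35053333))) (BT.node (nat_lit 12734272) (BT.leaf (nat_lit 35053845)) (BT.leaf (nat_lit 35053849)))) (BT.node (nat_lit 12734464) (BT.node (nat_lit 12734400) (BT.leaf (nat_lit 35053853)) (BT.leaf (nat_lit 36383245))) (BT.node (nat_lit 12734528) (BT.leaf (nat_lit 35054869)) (BT.leaf (nat_lit 35055125))))) (BT.node (nat_lit 12734976) (BT.node (nat_lit 12734720) (BT.node (nat_lit 12734656) (BT.leaf (nat_lit 35055129)) (BT.leaf (nat_lit 35055133))) (BT.node (nat_lit 12734784) (BT.leaf (nat_lit 35055369)) (BT.leaf (nat_lit 36380437)))) (BT.node (nat_lit 12735104) (BT.node (nat_lit 12735040) (BT.leaf (nat_lit 46403353)) (BT.leaf (nat_lit 35055893))) (BT.node (nat_lit 12735168) (BT.leaf (nat_lit 50940685)) (BT.leaf (nat_lit 36377621)))))) (BT.node (nat_lit 12735872) (BT.node (nat_lit 12735488) (BT.node (nat_lit 12735360) (BT.node (nat_lit 12735296) (BT.leaf (nat_lit 51701013)) (BT.leaf (nat_lit 36377881))) (BT.node (nat_lit 12735424) (BT.leaf (nat_lit 35057169)) (BT.leaf (nat_lit 39585557)))) (BT.node (nat_lit 12735744) (BT.node (nat_lit 12735552) (BT.leaf (nat_lit 35057681)) (BT.leaf (nat_lit 35057685))) (BT.node (nat_lit 12735808) (BT.leaf (nat_lit 50007557)) (BT.leaf (nat_lit 35062033))))) (BT.node (nat_lit 12736448) (BT.node (nat_lit 12736064) (BT.node (nat_lit 12735936) (BT.leaf (nat_lit 46926341)) (BT.leaf (nat_lit 35062297))) (BT.node (nat_lit 12736128) (BT.leaf (nat_lit 35062809)) (BT.leaf (nat_lit 35062813)))) (BT.node (nat_lit 12736576) (BT.node (nat_lit 12736512) (BT.leaf (nat_lit 51632389)) (BT.leaf (nat_lit 35063569))) (BT.node (nat_lit 12736640) (BT.leaf (nat_lit 35064081)) (BT.leaf (nat_lit 35064337))))))) (BT.node (nat_lit 12737984) (BT.node (nat_lit 12737344) (BT.node (nat_lit 12737024) (BT.node (nat_lit 12736832) (BT.node (nat_lit 12736768) (BT.leaf (nat_lit 35064341)) (BT.leaf (nat_lit 51008013))) (BT.node (nat_lit 12736896) (BT.leaf (nat_lit 36414493)) (BT.leaf (nat_lit 50624261)))) (BT.node (nat_lit 12737152) (BT.node (nat_lit 12737088) (BT.leaf (nat_lit 35067421)) (BT.leaf (nat_lit 35068441))) (BT.node (nat_lit 12737216) (BT.leaf (nat_lit 35068445)) (BT.leaf (nat_lit 35317533))))) (BT.node (nat_lit 12737728) (BT.node (nat_lit 12737536) (BT.node (nat_lit 12737408) (BT.leaf (nat_lit 35071761)) (BT.leaf (nat_lit 48623381))) (BT.node (nat_lit 12737664) (BT.leaf (nat_lit 47845125)) (BT.leaf (nat_lit 35073041)))) (BT.node (nat_lit 12737856) (BT.node (nat_lit 12737792) (BT.leaf (nat_lit 35073049)) (BT.leaf (nat_lit 35073057))) (BT.node (nat_lit 12737920) (BT.leaf (nat_lit 52280861)) (BT.leaf (nat_lit 35075345)))))) (BT.node (nat_lit 12738496) (BT.node (nat_lit 12738240) (BT.node (nat_lit 12738112) (BT.node (nat_lit 12738048) (BT.leaf (nat_lit 51295241)) (BT.leaf (nat_lit 35075857))) (BT.node (nat_lit 12738176) (BT.leaf (nat_lit 48493069)) (BT.leaf (nat_lit 52192021)))) (BT.node (nat_lit 12738368) (BT.node (nat_lit 12738304) (BT.leaf (nat_lit 35078161)) (BT.leaf (nat_lit 49980701))) (BT.node (nat_lit 12738432) (BT.leaf (nat_lit 52058649)) (BT.leaf (nat_lit 35081753))))) (BT.node (nat_lit 12738752) (BT.node (nat_lit 12738624) (BT.node (nat_lit 12738560) (BT.leaf (nat_lit 35083273)) (BT.leaf (nat_lit 35083277))) (BT.node (nat_lit 12738688) (BT.leaf (nat_lit 35083281)) (BT.leaf (nat_lit 35083789)))) (BT.node (nat_lit 12738880) (BT.node (nat_lit 12738816) (BT.leaf (nat_lit 51260421)) (BT.leaf (nat_lit 42584085))) (BT.node (nat_lit 12738944) (BT.leaf (nat_lit 46236421)) (BT.leaf (nat_lit 44044321)))))))))) (BT.node (nat_lit 12748288) (BT.node (nat_lit 12743168) (BT.node (nat_lit 12740992) (BT.node (nat_lit 12740096) (BT.node (nat_lit 12739520) (BT.node (nat_lit 12739264) (BT.node (nat_lit 12739136) (BT.node (nat_lit 12739072) (BT.leaf (nat_lit 49331485)) (BT.leaf (nat_lit 49331465))) (BT.node (nat_lit 12739200) (BT.leaf (nat_lit 49331737)) (BT.leaf (nat_lit 35910169)))) (BT.node (nat_lit 12739392) (BT.node (nat_lit 12739328) (BT.leaf (nat_lit 37396233)) (BT.leaf (nat_lit 35090705))) (BT.node (nat_lit 12739456) (BT.leaf (nat_lit 35091729)) (BT.leaf (nat_lit 35093781))))) (BT.node (nat_lit 12739776) (BT.node (nat_lit 12739648) (BT.node (nat_lit 12739584) (BT.leaf (nat_lit 35094289)) (BT.leaf (nat_lit 35094553))) (BT.node (nat_lit 12739712) (BT.leaf (nat_lit 35094557)) (BT.leaf (nat_lit 36916761)))) (BT.node (nat_lit 12739968) (BT.node (nat_lit 12739904) (BT.leaf (nat_lit 35096593)) (BT.leaf (nat_lit 35097873))) (BT.node (nat_lit 12740032) (BT.leaf (nat_lit 35098393)) (BT.leaf (nat_lit 35099153)))))) (BT.node (nat_lit 12740616) (BT.node (nat_lit 12740544) (BT.node (nat_lit 12740416) (BT.node (nat_lit 12740160) (BT.leaf (nat_lit 35098905)) (BT.leaf (nat_lit 35098909))) (BT.node (nat_lit 12740480) (BT.leaf (nat_lit 48558625)) (BT.leaf (nat_lit 42109969)))) (BT.node (nat_lit 12740609) (BT.node (nat_lit 12740608) (BT.leaf (nat_lit 35280401)) (BT.leaf (nat_lit 36377877))) (BT.node (nat_lit 12740612) (BT.leaf (nat_lit 812776)) (BT.leaf (nat_lit 812776))))) (BT.node (nat_lit 12740736) (BT.node (nat_lit 12740673) (BT.node (nat_lit 12740672) (BT.leaf (nat_lit 812776)) (BT.leaf (nat_lit 50962441))) (BT.node (nat_lit 12740680) (BT.leaf (nat_lit 804692)) (BT.leaf (nat_lit 804692)))) (BT.node (nat_lit 12740864) (BT.node (nat_lit 12740800) (BT.leaf (nat_lit 35105557)) (BT.leaf (nat_lit 35105297))) (BT.node (nat_lit 12740928) (BT.leaf (nat_lit 36377629)) (BT.leaf (nat_lit 35106581))))))) (BT.node (nat_lit 12742016) (BT.node (nat_lit 12741504) (BT.node (nat_lit 12741248) (BT.node (nat_lit 12741120) (BT.node (nat_lit 12741056) (BT.leaf (nat_lit 35106589)) (BT.leaf (nat_lit 35106837))) (BT.node (nat_lit 12741184) (BT.leaf (nat_lit 35106841)) (BT.leaf (nat_lit 35109397)))) (BT.node (nat_lit 12741376) (BT.node (nat_lit 12741312) (BT.leaf (nat_lit 35110165)) (BT.leaf (nat_lit 49924357))) (BT.node (nat_lit 12741440) (BT.leaf (nat_lit 35110677)) (BT.leaf (nat_lit 35110937))))) (BT.node (nat_lit 12741760) (BT.node (nat_lit 12741632) (BT.node (nat_lit 12741568) (BT.leaf (nat_lit 36324113)) (BT.leaf (nat_lit 35111193))) (BT.node (nat_lit 12741696) (BT.leaf (nat_lit 35111197)) (BT.leaf (nat_lit 36379669)))) (BT.node (nat_lit 12741888) (BT.node (nat_lit 12741824) (BT.leaf (nat_lit 49818381)) (BT.leaf (nat_lit 35114001))) (BT.node (nat_lit 12741952) (BT.leaf (nat_lit 35113753)) (BT.leaf (nat_lit 35113757)))))) (BT.node (nat_lit 12742528) (BT.node (nat_lit 12742272) (BT.node (nat_lit 12742144) (BT.node (nat_lit 12742080) (BT.leaf (nat_lit 48465177)) (BT.leaf (nat_lit 35115029))) (BT.node (nat_lit 12742208) (BT.leaf (nat_lit 50156829)) (BT.leaf (nat_lit 35116305)))) (BT.node (nat_lit 12742400) (BT.node (nat_lit 12742336) (BT.leaf (nat_lit 35116057)) (BT.leaf (nat_lit 35116061))) (BT.node (nat_lit 12742464) (BT.leaf (nat_lit 35116817)) (BT.leaf (nat_lit 35117077))))) (BT.node (nat_lit 12742784) (BT.node (nat_lit 12742656) (BT.node (nat_lit 12742592) (BT.leaf (nat_lit 35117333)) (BT.leaf (nat_lit 46521621))) (BT.node (nat_lit 12742720) (BT.leaf (nat_lit 35118597)) (BT.leaf (nat_lit 35118617)))) (BT.node (nat_lit 12742976) (BT.node (nat_lit 12742848) (BT.leaf (nat_lit 35118621)) (BT.leaf (nat_lit 51740181))) (BT.node (nat_lit 12743104) (BT.leaf (nat_lit 51268641)) (BT.leaf (nat_lit 51740437)))))))) (BT.node (nat_lit 12745600) (BT.node (nat_lit 12744320) (BT.node (nat_lit 12743744) (BT.node (nat_lit 12743424) (BT.node (nat_lit 12743296) (BT.node (nat_lit 12743232) (BT.leaf (nat_lit 38349325)) (BT.leaf (nat_lit 35121169))) (BT.node (nat_lit 12743360) (BT.leaf (nat_lit 52171793)) (BT.leaf (nat_lit 35121929)))) (BT.node (nat_lit 12743552) (BT.node (nat_lit 12743488) (BT.leaf (nat_lit 35121933)) (BT.leaf (nat_lit 35121949))) (BT.node (nat_lit 12743616) (BT.leaf (nat_lit 35122969)) (BT.leaf (nat_lit 35123729))))) (BT.node (nat_lit 12744000) (BT.node (nat_lit 12743872) (BT.node (nat_lit 12743808) (BT.leaf (nat_lit 35124233)) (BT.leaf (nat_lit 35124237))) (BT.node (nat_lit 12743936) (BT.leaf (nat_lit 35124249)) (BT.leaf (nat_lit 35124497)))) (BT.node (nat_lit 12744128) (BT.node (nat_lit 12744064) (BT.leaf (nat_lit 35125269)) (BT.leaf (nat_lit 35125521))) (BT.node (nat_lit 12744256) (BT.leaf (nat_lit 35125777)) (BT.leaf (nat_lit 35126297)))))) (BT.node (nat_lit 12745088) (BT.node (nat_lit 12744768) (BT.node (nat_lit 12744512) (BT.node (nat_lit 12744384) (BT.leaf (nat_lit 39923973)) (BT.leaf (nat_lit 35126545))) (BT.node (nat_lit 12744576) (BT.leaf (nat_lit 47621141)) (BT.leaf (nat_lit 35128325)))) (BT.node (nat_lit 12744960) (BT.node (nat_lit 12744832) (BT.leaf (nat_lit 50898181)) (BT.leaf (nat_lit 50323205))) (BT.node (nat_lit 12745024) (BT.leaf (nat_lit 35131145)) (BT.leaf (nat_lit 35131673))))) (BT.node (nat_lit 12745344) (BT.node (nat_lit 12745216) (BT.node (nat_lit 12745152) (BT.leaf (nat_lit 49981201)) (BT.leaf (nat_lit 35132441))) (BT.node (nat_lit 12745280) (BT.leaf (nat_lit 35132689)) (BT.leaf (nat_lit 35132693)))) (BT.node (nat_lit 12745472) (BT.node (nat_lit 12745408) (BT.leaf (nat_lit 35132945)) (BT.leaf (nat_lit 35132949))) (BT.node (nat_lit 12745536) (BT.leaf (nat_lit 51183125)) (BT.leaf (nat_lit 35133453))))))) (BT.node (nat_lit 12746688) (BT.node (nat_lit 12746112) (BT.node (nat_lit 12745856) (BT.node (nat_lit 12745728) (BT.node (nat_lit 12745664) (BT.leaf (nat_lit 48746009)) (BT.leaf (nat_lit 50982409))) (BT.node (nat_lit 12745792) (BT.leaf (nat_lit 40772637)) (BT.leaf (nat_lit 36582677)))) (BT.node (nat_lit 12745984) (BT.node (nat_lit 12745920) (BT.leaf (nat_lit 50983177)) (BT.leaf (nat_lit 49813281))) (BT.node (nat_lit 12746048) (BT.leaf (nat_lit 35135773)) (BT.leaf (nat_lit 35436049))))) (BT.node (nat_lit 12746368) (BT.node (nat_lit 12746240) (BT.node (nat_lit 12746176) (BT.leaf (nat_lit 35136269)) (BT.leaf (nat_lit 35137041))) (BT.node (nat_lit 12746304) (BT.leaf (nat_lit 35137305)) (BT.leaf (nat_lit 35137309)))) (BT.node (nat_lit 12746496) (BT.node (nat_lit 12746432) (BT.leaf (nat_lit 35137801)) (BT.leaf (nat_lit 40565769))) (BT.node (nat_lit 12746624) (BT.leaf (nat_lit 40565773)) (BT.leaf (nat_lit 49808153)))))) (BT.node (nat_lit 12747648) (BT.node (nat_lit 12747264) (BT.node (nat_lit 12747072) (BT.node (nat_lit 12747008) (BT.leaf (nat_lit 35139333)) (BT.leaf (nat_lit 35140629))) (BT.node (nat_lit 12747136) (BT.leaf (nat_lit 50988045)) (BT.leaf (nat_lit 50988057)))) (BT.node (nat_lit 12747392) (BT.node (nat_lit 12747328) (BT.leaf (nat_lit 50935577)) (BT.leaf (nat_lit 35144217))) (BT.node (nat_lit 12747456) (BT.leaf (nat_lit 35144221)) (BT.leaf (nat_lit 36940825))))) (BT.node (nat_lit 12747904) (BT.node (nat_lit 12747776) (BT.node (nat_lit 12747712) (BT.leaf (nat_lit 36769549)) (BT.leaf (nat_lit 51080981))) (BT.node (nat_lit 12747840) (BT.leaf (nat_lit 35148045)) (BT.leaf (nat_lit 35149589)))) (BT.node (nat_lit 12748032) (BT.node (nat_lit 12747968) (BT.leaf (nat_lit 49693977)) (BT.leaf (nat_lit 49481989))) (BT.node (nat_lit 12748096) (BT.leaf (nat_lit 49482001)) (BT.leaf (nat_lit 35150865))))))))) (BT.node (nat_lit 12753088) (BT.node (nat_lit 12750592) (BT.node (nat_lit 12749312) (BT.node (nat_lit 12748800) (BT.node (nat_lit 12748544) (BT.node (nat_lit 12748416) (BT.node (nat_lit 12748352) (BT.leaf (nat_lit 35153169)) (BT.leaf (nat_lit 35153689))) (BT.node (nat_lit 12748480) (BT.leaf (nat_lit 35153693)) (BT.leaf (nat_lit 50191109)))) (BT.node (nat_lit 12748672) (BT.node (nat_lit 12748608) (BT.leaf (nat_lit 35155217)) (BT.leaf (nat_lit 35155985))) (BT.node (nat_lit 12748736) (BT.leaf (nat_lit 35156761)) (BT.leaf (nat_lit 35156765))))) (BT.node (nat_lit 12749056) (BT.node (nat_lit 12748928) (BT.node (nat_lit 12748864) (BT.leaf (nat_lit 35158813)) (BT.leaf (nat_lit 35159573))) (BT.node (nat_lit 12748992) (BT.leaf (nat_lit 41976597)) (BT.leaf (nat_lit 46439453)))) (BT.node (nat_lit 12749184) (BT.node (nat_lit 12749120) (BT.leaf (nat_lit 35160341)) (BT.leaf (nat_lit 47543837))) (BT.node (nat_lit 12749248) (BT.leaf (nat_lit 48150049)) (BT.leaf (nat_lit 35161097)))))) (BT.node (nat_lit 12750016) (BT.node (nat_lit 12749632) (BT.node (nat_lit 12749504) (BT.node (nat_lit 12749376) (BT.leaf (nat_lit 35162133)) (BT.leaf (nat_lit 35162377))) (BT.node (nat_lit 12749568) (BT.leaf (nat_lit 35162401)) (BT.leaf (nat_lit 35162645)))) (BT.node (nat_lit 12749760) (BT.node (nat_lit 12749696) (BT.leaf (nat_lit 40334853)) (BT.leaf (nat_lit 51652117))) (BT.node (nat_lit 12749952) (BT.leaf (nat_lit 50998793)) (BT.leaf (nat_lit 35163913))))) (BT.node (nat_lit 12750272) (BT.node (nat_lit 12750144) (BT.node (nat_lit 12750080) (BT.leaf (nat_lit 35163917)) (BT.leaf (nat_lit 35163929))) (BT.node (nat_lit 12750208) (BT.leaf (nat_lit 35163933)) (BT.leaf (nat_lit 35306525)))) (BT.node (nat_lit 12750400) (BT.node (nat_lit 12750336) (BT.leaf (nat_lit 35306505)) (BT.leaf (nat_lit 35165201))) (BT.node (nat_lit 12750528) (BT.leaf (nat_lit 35165457)) (BT.leaf (nat_lit 35166241))))))) (BT.node (nat_lit 12752000) (BT.node (nat_lit 12751296) (BT.node (nat_lit 12750848) (BT.node (nat_lit 12750720) (BT.node (nat_lit 12750656) (BT.leaf (nat_lit 35167501)) (BT.leaf (nat_lit 35167001))) (BT.node (nat_lit 12750784) (BT.leaf (nat_lit 35167497)) (BT.leaf (nat_lit 35167261)))) (BT.node (nat_lit 12751168) (BT.node (nat_lit 12751040) (BT.leaf (nat_lit 35168277)) (BT.leaf (nat_lit 51000093))) (BT.node (nat_lit 12751232) (BT.leaf (nat_lit 48690721)) (BT.leaf (nat_lit 36114193))))) (BT.node (nat_lit 12751616) (BT.node (nat_lit 12751424) (BT.node (nat_lit 12751360) (BT.leaf (nat_lit 42609937)) (BT.leaf (nat_lit 35170841))) (BT.node (nat_lit 12751552) (BT.leaf (nat_lit 50202641)) (BT.leaf (nat_lit 35171873)))) (BT.node (nat_lit 12751744) (BT.node (nat_lit 12751680) (BT.leaf (nat_lit 50040089)) (BT.leaf (nat_lit 49927441))) (BT.node (nat_lit 12751936) (BT.leaf (nat_lit 51006745)) (BT.leaf (nat_lit 51729173)))))) (BT.node (nat_lit 12752512) (BT.node (nat_lit 12752256) (BT.node (nat_lit 12752128) (BT.node (nat_lit 12752064) (BT.leaf (nat_lit 35174149)) (BT.leaf (nat_lit 35174161))) (BT.node (nat_lit 12752192) (BT.leaf (nat_lit 36414745)) (BT.leaf (nat_lit 35174677)))) (BT.node (nat_lit 12752384) (BT.node (nat_lit 12752320) (BT.leaf (nat_lit 35174929)) (BT.leaf (nat_lit 35175193))) (BT.node (nat_lit 12752448) (BT.leaf (nat_lit 35175197)) (BT.leaf (nat_lit 35175697))))) (BT.node (nat_lit 12752832) (BT.node (nat_lit 12752640) (BT.node (nat_lit 12752576) (BT.leaf (nat_lit 50602261)) (BT.leaf (nat_lit 48685593))) (BT.node (nat_lit 12752704) (BT.leaf (nat_lit 50407457)) (BT.leaf (nat_lit 50074373)))) (BT.node (nat_lit 12752960) (BT.node (nat_lit 12752896) (BT.leaf (nat_lit 35177501)) (BT.leaf (nat_lit 35179545))) (BT.node (nat_lit 12753024) (BT.leaf (nat_lit 35180817)) (BT.leaf (nat_lit 35180821)))))))) (BT.node (nat_lit 12755520) (BT.node (nat_lit 12754432) (BT.node (nat_lit 12753856) (BT.node (nat_lit 12753472) (BT.node (nat_lit 12753216) (BT.node (nat_lit 12753152) (BT.leaf (nat_lit 35181077)) (BT.leaf (nat_lit 51012109))) (BT.node (nat_lit 12753344) (BT.leaf (nat_lit 35181601)) (BT.leaf (nat_lit 35182617)))) (BT.node (nat_lit 12753664) (BT.node (nat_lit 12753536) (BT.leaf (nat_lit 51104517)) (BT.leaf (nat_lit 35184413))) (BT.node (nat_lit 12753792) (BT.leaf (nat_lit 37692181)) (BT.leaf (nat_lit 50448161))))) (BT.node (nat_lit 12754176) (BT.node (nat_lit 12754048) (BT.node (nat_lit 12753920) (BT.leaf (nat_lit 46535957)) (BT.leaf (nat_lit 35187985))) (BT.node (nat_lit 12754112) (BT.leaf (nat_lit 35189529)) (BT.leaf (nat_lit 35189533)))) (BT.node (nat_lit 12754304) (BT.node (nat_lit 12754240) (BT.leaf (nat_lit 45123337)) (BT.leaf (nat_lit 47890461))) (BT.node (nat_lit 12754368) (BT.leaf (nat_lit 35190553)) (BT.leaf (nat_lit 35191833)))))) (BT.node (nat_lit 12755008) (BT.node (nat_lit 12754752) (BT.node (nat_lit 12754624) (BT.node (nat_lit 12754560) (BT.leaf (nat_lit 36447001)) (BT.leaf (nat_lit 49480729))) (BT.node (nat_lit 12754688) (BT.leaf (nat_lit 35193113)) (BT.leaf (nat_lit 35317525)))) (BT.node (nat_lit 12754880) (BT.node (nat_lit 12754816) (BT.leaf (nat_lit 35194129)) (BT.leaf (nat_lit 35194385))) (BT.node (nat_lit 12754944) (BT.leaf (nat_lit 45123333)) (BT.leaf (nat_lit 50427653))))) (BT.node (nat_lit 12755264) (BT.node (nat_lit 12755136) (BT.node (nat_lit 12755072) (BT.leaf (nat_lit 51019801)) (BT.leaf (nat_lit 47702561))) (BT.node (nat_lit 12755200) (BT.leaf (nat_lit 47950353)) (BT.leaf (nat_lit 45905421)))) (BT.node (nat_lit 12755392) (BT.node (nat_lit 12755328) (BT.leaf (nat_lit 46938909)) (BT.leaf (nat_lit 35601429))) (BT.node (nat_lit 12755456) (BT.leaf (nat_lit 37182481)) (BT.leaf (nat_lit 35200529))))))) (BT.node (nat_lit 12756672) (BT.node (nat_lit 12756096) (BT.node (nat_lit 12755776) (BT.node (nat_lit 12755648) (BT.node (nat_lit 12755584) (BT.leaf (nat_lit 35200797)) (BT.leaf (nat_lit 35201041))) (BT.node (nat_lit 12755712) (BT.leaf (nat_lit 35201297)) (BT.leaf (nat_lit 49502493)))) (BT.node (nat_lit 12755904) (BT.node (nat_lit 12755840) (BT.leaf (nat_lit 35201557)) (BT.leaf (nat_lit 47663881))) (BT.node (nat_lit 12755968) (BT.leaf (nat_lit 36345881)) (BT.leaf (nat_lit 35203089))))) (BT.node (nat_lit 12756352) (BT.node (nat_lit 12756224) (BT.node (nat_lit 12756160) (BT.leaf (nat_lit 49506821)) (BT.leaf (nat_lit 35204369))) (BT.node (nat_lit 12756288) (BT.leaf (nat_lit 35205137)) (BT.leaf (nat_lit 35205657)))) (BT.node (nat_lit 12756544) (BT.node (nat_lit 12756416) (BT.leaf (nat_lit 35205905)) (BT.leaf (nat_lit 35227661))) (BT.node (nat_lit 12756608) (BT.leaf (nat_lit 35207441)) (BT.leaf (nat_lit 35210005)))))) (BT.node (nat_lit 12757376) (BT.node (nat_lit 12757120) (BT.node (nat_lit 12756864) (BT.node (nat_lit 12756800) (BT.leaf (nat_lit 35210013)) (BT.leaf (nat_lit 35212061))) (BT.node (nat_lit 12757056) (BT.leaf (nat_lit 49637641)) (BT.leaf (nat_lit 35215633)))) (BT.node (nat_lit 12757248) (BT.node (nat_lit 12757184) (BT.leaf (nat_lit 50056217)) (BT.leaf (nat_lit 48984341))) (BT.node (nat_lit 12757312) (BT.leaf (nat_lit 46822937)) (BT.leaf (nat_lit 48994309))))) (BT.node (nat_lit 12757632) (BT.node (nat_lit 12757504) (BT.node (nat_lit 12757440) (BT.leaf (nat_lit 44737569)) (BT.leaf (nat_lit 35217945))) (BT.node (nat_lit 12757568) (BT.leaf (nat_lit 35217949)) (BT.leaf (nat_lit 49908485)))) (BT.node (nat_lit 12757888) (BT.node (nat_lit 12757824) (BT.leaf (nat_lit 35219477)) (BT.leaf (nat_lit 35220753))) (BT.node (nat_lit 12757952) (BT.leaf (nat_lit 35220253)) (BT.leaf (nat_lit 35221001)))))))))))))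
noncomputable def big0_e124928 : BT Nat := (BT.node (nat_lit 12841600) (BT.node (nat_lit 12797504) (BT.node (nat_lit 12775872) (BT.node (nat_lit 12767040) (BT.node (nat_lit 12762112) (BT.node (nat_lit 12760192) (BT.node (nat_lit 12759168) (BT.node (nat_lit 12758592) (BT.node (nat_lit 12758272) (BT.node (nat_lit 12758144) (BT.node (nat_lit 12758080) (BT.leaf (nat_lit 35221269)) (BT.leaf (nat_lit 36630805))) (BT.node (nat_lit 12758208) (BT.leaf (nat_lit 35222793)) (BT.leaf (nat_lit 35222813)))) (BT.node (nat_lit 12758400) (BT.node (nat_lit 12758336) (BT.leaf (nat_lit 35223057)) (BT.leaf (nat_lit 35223837))) (BT.node (nat_lit 12758464) (BT.leaf (nat_lit 48010261)) (BT.leaf (nat_lit 35225621))))) (BT.node (nat_lit 12758848) (BT.node (nat_lit 12758720) (BT.node (nat_lit 12758656) (BT.leaf (nat_lit 50563617)) (BT.leaf (nat_lit 51062541))) (BT.node (nat_lit 12758784) (BT.leaf (nat_lit 35227417)) (BT.leaf (nat_lit 51063053)))) (BT.node (nat_lit 12759040) (BT.node (nat_lit 12758912) (BT.leaf (nat_lit 35228701)) (BT.leaf (nat_lit 35229969))) (BT.node (nat_lit 12759104) (BT.leaf (nat_lit 35230493)) (BT.leaf (nat_lit 35230997)))))) (BT.node (nat_lit 12759680) (BT.node (nat_lit 12759424) (BT.node (nat_lit 12759296) (BT.node (nat_lit 12759232) (BT.leaf (nat_lit 35231005)) (BT.leaf (nat_lit 50308121))) (BT.node (nat_lit 12759360) (BT.leaf (nat_lit 50308125)) (BT.leaf (nat_lit 35231505)))) (BT.node (nat_lit 12759552) (BT.node (nat_lit 12759488) (BT.leaf (nat_lit 50106401)) (BT.leaf (nat_lit 35232033))) (BT.node (nat_lit 12759616) (BT.leaf (nat_lit 37590809)) (BT.leaf (nat_lit 36374021))))) (BT.node (nat_lit 12759936) (BT.node (nat_lit 12759808) (BT.node (nat_lit 12759744) (BT.leaf (nat_lit 51038473)) (BT.leaf (nat_lit 48309525))) (BT.node (nat_lit 12759872) (BT.leaf (nat_lit 49569797)) (BT.leaf (nat_lit 35233809)))) (BT.node (nat_lit 12760064) (BT.node (nat_lit 12760000) (BT.leaf (nat_lit 41424133)) (BT.leaf (nat_lit 35234841))) (BT.node (nat_lit 12760128) (BT.leaf (nat_lit 35234845)) (BT.leaf (nat_lit 49002773))))))) (BT.node (nat_lit 12761088) (BT.node (nat_lit 12760704) (BT.node (nat_lit 12760448) (BT.node (nat_lit 12760320) (BT.node (nat_lit 12760256) (BT.leaf (nat_lit 51040525)) (BT.leaf (nat_lit 50816021))) (BT.node (nat_lit 12760384) (BT.leaf (nat_lit 40649249)) (BT.leaf (nat_lit 39648785)))) (BT.node (nat_lit 12760576) (BT.node (nat_lit 12760512) (BT.leaf (nat_lit 35237145)) (BT.leaf (nat_lit 35237149))) (BT.node (nat_lit 12760640) (BT.leaf (nat_lit 46372109)) (BT.leaf (nat_lit 35237653))))) (BT.node (nat_lit 12760832) (BT.node (nat_lit 12760712) (BT.node (nat_lit 12760709) (BT.leaf (nat_lit 49796897)) (BT.leaf (nat_lit 812768))) (BT.node (nat_lit 12760768) (BT.leaf (nat_lit 812768)) (BT.leaf (nat_lit 47410957)))) (BT.node (nat_lit 12760960) (BT.node (nat_lit 12760896) (BT.leaf (nat_lit 35238149)) (BT.leaf (nat_lit 35238161))) (BT.node (nat_lit 12761024) (BT.leaf (nat_lit 44974625)) (BT.leaf (nat_lit 35238673)))))) (BT.node (nat_lit 12761600) (BT.node (nat_lit 12761344) (BT.node (nat_lit 12761216) (BT.node (nat_lit 12761152) (BT.leaf (nat_lit 35238929)) (BT.leaf (nat_lit 35239185))) (BT.node (nat_lit 12761280) (BT.leaf (nat_lit 41755653)) (BT.leaf (nat_lit 36325389)))) (BT.node (nat_lit 12761472) (BT.node (nat_lit 12761408) (BT.leaf (nat_lit 35239957)) (BT.leaf (nat_lit 35239961))) (BT.node (nat_lit 12761536) (BT.leaf (nat_lit 35239965)) (BT.leaf (nat_lit 35240465))))) (BT.node (nat_lit 12761856) (BT.node (nat_lit 12761728) (BT.node (nat_lit 12761664) (BT.leaf (nat_lit 39994913)) (BT.leaf (nat_lit 35241745))) (BT.node (nat_lit 12761792) (BT.leaf (nat_lit 35242001)) (BT.leaf (nat_lit 41164065)))) (BT.node (nat_lit 12761984) (BT.node (nat_lit 12761920) (BT.leaf (nat_lit 52001053)) (BT.leaf (nat_lit 47302177))) (BT.node (nat_lit 12762048) (BT.leaf (nat_lit 41414177)) (BT.leaf (nat_lit 35243025)))))))) (BT.node (nat_lit 12764608) (BT.node (nat_lit 12763200) (BT.node (nat_lit 12762624) (BT.node (nat_lit 12762368) (BT.node (nat_lit 12762240) (BT.node (nat_lit 12762176) (BT.leaf (nat_lit 40786709)) (BT.leaf (nat_lit 49027093))) (BT.node (nat_lit 12762304) (BT.leaf (nat_lit 47837717)) (BT.leaf (nat_lit 48635937)))) (BT.node (nat_lit 12762496) (BT.node (nat_lit 12762432) (BT.leaf (nat_lit 50691349)) (BT.leaf (nat_lit 35247641))) (BT.node (nat_lit 12762560) (BT.leaf (nat_lit 35248401)) (BT.leaf (nat_lit 35248661))))) (BT.node (nat_lit 12762944) (BT.node (nat_lit 12762752) (BT.node (nat_lit 12762688) (BT.leaf (nat_lit 35249685)) (BT.leaf (nat_lit 47457313))) (BT.node (nat_lit 12762816) (BT.leaf (nat_lit 35251729)) (BT.leaf (nat_lit 35253257)))) (BT.node (nat_lit 12763072) (BT.node (nat_lit 12763008) (BT.leaf (nat_lit 35254553)) (BT.leaf (nat_lit 35254813))) (BT.node (nat_lit 12763136) (BT.leaf (nat_lit 43753993)) (BT.leaf (nat_lit 43754001)))))) (BT.node (nat_lit 12764096) (BT.node (nat_lit 12763712) (BT.node (nat_lit 12763392) (BT.node (nat_lit 12763264) (BT.leaf (nat_lit 35256089)) (BT.leaf (nat_lit 35256601))) (BT.node (nat_lit 12763520) (BT.leaf (nat_lit 35258133)) (BT.leaf (nat_lit 50979081)))) (BT.node (nat_lit 12763904) (BT.node (nat_lit 12763840) (BT.leaf (nat_lit 35258913)) (BT.leaf (nat_lit 35259405))) (BT.node (nat_lit 12764032) (BT.leaf (nat_lit 35259417)) (BT.leaf (nat_lit 50986009))))) (BT.node (nat_lit 12764352) (BT.node (nat_lit 12764224) (BT.node (nat_lit 12764160) (BT.leaf (nat_lit 46732313)) (BT.leaf (nat_lit 51292701))) (BT.node (nat_lit 12764288) (BT.leaf (nat_lit 35262233)) (BT.leaf (nat_lit 35262237)))) (BT.node (nat_lit 12764480) (BT.node (nat_lit 12764416) (BT.leaf (nat_lit 51532829)) (BT.leaf (nat_lit 35263505))) (BT.node (nat_lit 12764544) (BT.leaf (nat_lit 35263749)) (BT.leaf (nat_lit 35265553))))))) (BT.node (nat_lit 12765824) (BT.node (nat_lit 12765248) (BT.node (nat_lit 12764864) (BT.node (nat_lit 12764736) (BT.node (nat_lit 12764672) (BT.leaf (nat_lit 35265557)) (BT.leaf (nat_lit 47499029))) (BT.node (nat_lit 12764800) (BT.leaf (nat_lit 35267865)) (BT.leaf (nat_lit 35267869)))) (BT.node (nat_lit 12765120) (BT.node (nat_lit 12764992) (BT.leaf (nat_lit 45073157)) (BT.leaf (nat_lit 35270157))) (BT.node (nat_lit 12765184) (BT.leaf (nat_lit 48236565)) (BT.leaf (nat_lit 35272465))))) (BT.node (nat_lit 12765504) (BT.node (nat_lit 12765376) (BT.node (nat_lit 12765312) (BT.leaf (nat_lit 35273493)) (BT.leaf (nat_lit 35273745))) (BT.node (nat_lit 12765440) (BT.leaf (nat_lit 35274257)) (BT.leaf (nat_lit 35275525)))) (BT.node (nat_lit 12765632) (BT.node (nat_lit 12765568) (BT.leaf (nat_lit 35856913)) (BT.leaf (nat_lit 35278353))) (BT.node (nat_lit 12765696) (BT.leaf (nat_lit 45790981)) (BT.leaf (nat_lit 35279641)))))) (BT.node (nat_lit 12766400) (BT.node (nat_lit 12766144) (BT.node (nat_lit 12766016) (BT.node (nat_lit 12765888) (BT.leaf (nat_lit 50173977)) (BT.leaf (nat_lit 47214353))) (BT.node (nat_lit 12766080) (BT.leaf (nat_lit 35280913)) (BT.leaf (nat_lit 35281181)))) (BT.node (nat_lit 12766272) (BT.node (nat_lit 12766208) (BT.leaf (nat_lit 35282969)) (BT.leaf (nat_lit 35282973))) (BT.node (nat_lit 12766336) (BT.leaf (nat_lit 35283989)) (BT.leaf (nat_lit 35283993))))) (BT.node (nat_lit 12766720) (BT.node (nat_lit 12766528) (BT.node (nat_lit 12766464) (BT.leaf (nat_lit 35284249)) (BT.leaf (nat_lit 35284253))) (BT.node (nat_lit 12766592) (BT.leaf (nat_lit 35284509)) (BT.leaf (nat_lit 35285017)))) (BT.node (nat_lit 12766848) (BT.node (nat_lit 12766784) (BT.leaf (nat_lit 35285265)) (BT.leaf (nat_lit 51716373))) (BT.node (nat_lit 12766912) (BT.leaf (nat_lit 51067145)) (BT.leaf (nat_lit 51717653))))))))) (BT.node (nat_lit 12771648) (BT.node (nat_lit 12769472) (BT.node (nat_lit 12768384) (BT.node (nat_lit 12767808) (BT.node (nat_lit 12767424) (BT.node (nat_lit 12767296) (BT.node (nat_lit 12767232) (BT.leaf (nat_lit 35285793)) (BT.leaf (nat_lit 35332885))) (BT.node (nat_lit 12767360) (BT.leaf (nat_lit 48545045)) (BT.leaf (nat_lit 35289361)))) (BT.node (nat_lit 12767552) (BT.node (nat_lit 12767488) (BT.leaf (nat_lit 35289873)) (BT.leaf (nat_lit 35290129))) (BT.node (nat_lit 12767616) (BT.leaf (nat_lit 35290641)) (BT.leaf (nat_lit 35290901))))) (BT.node (nat_lit 12768128) (BT.node (nat_lit 12768000) (BT.node (nat_lit 12767936) (BT.leaf (nat_lit 35292701)) (BT.leaf (nat_lit 52180757))) (BT.node (nat_lit 12768064) (BT.leaf (nat_lit 35293465)) (BT.leaf (nat_lit 35293705)))) (BT.node (nat_lit 12768256) (BT.node (nat_lit 12768192) (BT.leaf (nat_lit 35293709)) (BT.leaf (nat_lit 35293721))) (BT.node (nat_lit 12768320) (BT.leaf (nat_lit 35294225)) (BT.leaf (nat_lit 35294241)))))) (BT.node (nat_lit 12768896) (BT.node (nat_lit 12768640) (BT.node (nat_lit 12768512) (BT.node (nat_lit 12768448) (BT.leaf (nat_lit 35295241)) (BT.leaf (nat_lit 35295777))) (BT.node (nat_lit 12768576) (BT.leaf (nat_lit 35296545)) (BT.leaf (nat_lit 35296781)))) (BT.node (nat_lit 12768768) (BT.node (nat_lit 12768704) (BT.leaf (nat_lit 35296793)) (BT.leaf (nat_lit 35296797))) (BT.node (nat_lit 12768832) (BT.leaf (nat_lit 50061845)) (BT.leaf (nat_lit 35298321))))) (BT.node (nat_lit 12769216) (BT.node (nat_lit 12769088) (BT.node (nat_lit 12769024) (BT.leaf (nat_lit 47679765)) (BT.leaf (nat_lit 52102421))) (BT.node (nat_lit 12769152) (BT.leaf (nat_lit 35302681)) (BT.leaf (nat_lit 35302933)))) (BT.node (nat_lit 12769344) (BT.node (nat_lit 12769280) (BT.leaf (nat_lit 35302941)) (BT.leaf (nat_lit 49666845))) (BT.node (nat_lit 12769408) (BT.leaf (nat_lit 50793745)) (BT.leaf (nat_lit 35306785))))))) (BT.node (nat_lit 12770624) (BT.node (nat_lit 12769984) (BT.node (nat_lit 12769728) (BT.node (nat_lit 12769600) (BT.node (nat_lit 12769536) (BT.leaf (nat_lit 35308821)) (BT.leaf (nat_lit 35309073))) (BT.node (nat_lit 12769664) (BT.leaf (nat_lit 35309321)) (BT.leaf (nat_lit 35309325)))) (BT.node (nat_lit 12769856) (BT.node (nat_lit 12769792) (BT.leaf (nat_lit 35309341)) (BT.leaf (nat_lit 35310369))) (BT.node (nat_lit 12769920) (BT.leaf (nat_lit 35310609)) (BT.leaf (nat_lit 35310625))))) (BT.node (nat_lit 12770304) (BT.node (nat_lit 12770112) (BT.node (nat_lit 12770048) (BT.leaf (nat_lit 47922453)) (BT.leaf (nat_lit 35311137))) (BT.node (nat_lit 12770240) (BT.leaf (nat_lit 35311393)) (BT.leaf (nat_lit 47965449)))) (BT.node (nat_lit 12770432) (BT.node (nat_lit 12770368) (BT.leaf (nat_lit 49969413)) (BT.leaf (nat_lit 48377861))) (BT.node (nat_lit 12770560) (BT.leaf (nat_lit 35314709)) (BT.leaf (nat_lit 43264533)))))) (BT.node (nat_lit 12771136) (BT.node (nat_lit 12770880) (BT.node (nat_lit 12770752) (BT.node (nat_lit 12770688) (BT.leaf (nat_lit 49595413)) (BT.leaf (nat_lit 35316241))) (BT.node (nat_lit 12770816) (BT.leaf (nat_lit 41825825)) (BT.leaf (nat_lit 35318281)))) (BT.node (nat_lit 12771008) (BT.node (nat_lit 12770944) (BT.leaf (nat_lit 48228889)) (BT.leaf (nat_lit 46763541))) (BT.node (nat_lit 12771072) (BT.leaf (nat_lit 36422149)) (BT.leaf (nat_lit 49491213))))) (BT.node (nat_lit 12771392) (BT.node (nat_lit 12771264) (BT.node (nat_lit 12771200) (BT.leaf (nat_lit 35320849)) (BT.leaf (nat_lit 50307861))) (BT.node (nat_lit 12771328) (BT.leaf (nat_lit 35321613)) (BT.leaf (nat_lit 47633925)))) (BT.node (nat_lit 12771520) (BT.node (nat_lit 12771456) (BT.leaf (nat_lit 48996869)) (BT.leaf (nat_lit 35322121))) (BT.node (nat_lit 12771584) (BT.leaf (nat_lit 35322141)) (BT.leaf (nat_lit 35325205)))))))) (BT.node (nat_lit 12773696) (BT.node (nat_lit 12772672) (BT.node (nat_lit 12772160) (BT.node (nat_lit 12771904) (BT.node (nat_lit 12771776) (BT.node (nat_lit 12771712) (BT.leaf (nat_lit 51086877)) (BT.leaf (nat_lit 51046421))) (BT.node (nat_lit 12771840) (BT.leaf (nat_lit 49581601)) (BT.leaf (nat_lit 50965025)))) (BT.node (nat_lit 12772032) (BT.node (nat_lit 12771968) (BT.leaf (nat_lit 36452893)) (BT.leaf (nat_lit 35326997))) (BT.node (nat_lit 12772096) (BT.leaf (nat_lit 35327253)) (BT.leaf (nat_lit 46606621))))) (BT.node (nat_lit 12772416) (BT.node (nat_lit 12772288) (BT.node (nat_lit 12772224) (BT.leaf (nat_lit 35327757)) (BT.leaf (nat_lit 47633669))) (BT.node (nat_lit 12772352) (BT.leaf (nat_lit 47634181)) (BT.leaf (nat_lit 51115289)))) (BT.node (nat_lit 12772544) (BT.node (nat_lit 12772480) (BT.leaf (nat_lit 35328281)) (BT.leaf (nat_lit 35328285))) (BT.node (nat_lit 12772608) (BT.leaf (nat_lit 36426769)) (BT.leaf (nat_lit 36426001)))))) (BT.node (nat_lit 12773184) (BT.node (nat_lit 12772928) (BT.node (nat_lit 12772800) (BT.node (nat_lit 12772736) (BT.leaf (nat_lit 36425745)) (BT.leaf (nat_lit 35329821))) (BT.node (nat_lit 12772864) (BT.leaf (nat_lit 35332113)) (BT.leaf (nat_lit 35332625)))) (BT.node (nat_lit 12773056) (BT.node (nat_lit 12772992) (BT.leaf (nat_lit 35333137)) (BT.leaf (nat_lit 46688545))) (BT.node (nat_lit 12773120) (BT.leaf (nat_lit 48309781)) (BT.leaf (nat_lit 35334673))))) (BT.node (nat_lit 12773440) (BT.node (nat_lit 12773312) (BT.node (nat_lit 12773248) (BT.leaf (nat_lit 45189653)) (BT.leaf (nat_lit 49410309))) (BT.node (nat_lit 12773376) (BT.leaf (nat_lit 50717957)) (BT.leaf (nat_lit 46575365)))) (BT.node (nat_lit 12773568) (BT.node (nat_lit 12773504) (BT.leaf (nat_lit 35340049)) (BT.leaf (nat_lit 47694625))) (BT.node (nat_lit 12773632) (BT.leaf (nat_lit 35340313)) (BT.leaf (nat_lit 50038281))))))) (BT.node (nat_lit 12774784) (BT.node (nat_lit 12774272) (BT.node (nat_lit 12774016) (BT.node (nat_lit 12773824) (BT.node (nat_lit 12773760) (BT.leaf (nat_lit 35341073)) (BT.leaf (nat_lit 36224289))) (BT.node (nat_lit 12773888) (BT.leaf (nat_lit 47151649)) (BT.leaf (nat_lit 36672517)))) (BT.node (nat_lit 12774144) (BT.node (nat_lit 12774080) (BT.leaf (nat_lit 46388997)) (BT.leaf (nat_lit 35347985))) (BT.node (nat_lit 12774208) (BT.leaf (nat_lit 50935301)) (BT.leaf (nat_lit 35348757))))) (BT.node (nat_lit 12774528) (BT.node (nat_lit 12774400) (BT.node (nat_lit 12774336) (BT.leaf (nat_lit 35348761)) (BT.leaf (nat_lit 35348765))) (BT.node (nat_lit 12774464) (BT.leaf (nat_lit 35349017)) (BT.leaf (nat_lit 35350029)))) (BT.node (nat_lit 12774656) (BT.node (nat_lit 12774592) (BT.leaf (nat_lit 35350025)) (BT.leaf (nat_lit 35350045))) (BT.node (nat_lit 12774720) (BT.leaf (nat_lit 35350801)) (BT.leaf (nat_lit 35351569)))))) (BT.node (nat_lit 12775296) (BT.node (nat_lit 12775040) (BT.node (nat_lit 12774912) (BT.node (nat_lit 12774848) (BT.leaf (nat_lit 35352089)) (BT.leaf (nat_lit 35352093))) (BT.node (nat_lit 12774976) (BT.leaf (nat_lit 35352849)) (BT.leaf (nat_lit 35353361)))) (BT.node (nat_lit 12775168) (BT.node (nat_lit 12775104) (BT.leaf (nat_lit 49062149)) (BT.leaf (nat_lit 39880461))) (BT.node (nat_lit 12775232) (BT.leaf (nat_lit 39880473)) (BT.leaf (nat_lit 35355665))))) (BT.node (nat_lit 12775680) (BT.node (nat_lit 12775424) (BT.node (nat_lit 12775360) (BT.leaf (nat_lit 47659553)) (BT.leaf (nat_lit 44693009))) (BT.node (nat_lit 12775616) (BT.leaf (nat_lit 52443413)) (BT.leaf (nat_lit 51213073)))) (BT.node (nat_lit 12775808) (BT.node (nat_lit 12775744) (BT.leaf (nat_lit 35357457)) (BT.leaf (nat_lit 36605721))) (BT.node (nat_lit 12775813) (BT.leaf (nat_lit 52159265)) (BT.leaf (nat_lit 810108)))))))))) (BT.node (nat_lit 12785728) (BT.node (nat_lit 12780352) (BT.node (nat_lit 12778368) (BT.node (nat_lit 12777088) (BT.node (nat_lit 12776576) (BT.node (nat_lit 12776192) (BT.node (nat_lit 12776000) (BT.node (nat_lit 12775936) (BT.leaf (nat_lit 46183701)) (BT.leaf (nat_lit 35358493))) (BT.node (nat_lit 12776128) (BT.leaf (nat_lit 49939473)) (BT.leaf (nat_lit 35359513)))) (BT.node (nat_lit 12776320) (BT.node (nat_lit 12776256) (BT.leaf (nat_lit 35359517)) (BT.leaf (nat_lit 51767577))) (BT.node (nat_lit 12776512) (BT.leaf (nat_lit 35360017)) (BT.leaf (nat_lit 52212757))))) (BT.node (nat_lit 12776832) (BT.node (nat_lit 12776710) (BT.node (nat_lit 12776704) (BT.leaf (nat_lit 51384341)) (BT.leaf (nat_lit 52159521))) (BT.node (nat_lit 12776768) (BT.leaf (nat_lit 810112)) (BT.leaf (nat_lit 52442629)))) (BT.node (nat_lit 12776960) (BT.node (nat_lit 12776896) (BT.leaf (nat_lit 38142745)) (BT.leaf (nat_lit 35361813))) (BT.node (nat_lit 12777024) (BT.leaf (nat_lit 42813985)) (BT.leaf (nat_lit 35362577)))))) (BT.node (nat_lit 12777792) (BT.node (nat_lit 12777536) (BT.node (nat_lit 12777216) (BT.node (nat_lit 12777152) (BT.leaf (nat_lit 35363333)) (BT.leaf (nat_lit 35363353))) (BT.node (nat_lit 12777280) (BT.leaf (nat_lit 47592205)) (BT.leaf (nat_lit 50784773)))) (BT.node (nat_lit 12777664) (BT.node (nat_lit 12777600) (BT.leaf (nat_lit 35367701)) (BT.leaf (nat_lit 35367705))) (BT.node (nat_lit 12777728) (BT.leaf (nat_lit 49718561)) (BT.leaf (nat_lit 35368721))))) (BT.node (nat_lit 12778048) (BT.node (nat_lit 12777920) (BT.node (nat_lit 12777856) (BT.leaf (nat_lit 43323917)) (BT.leaf (nat_lit 36040729))) (BT.node (nat_lit 12777984) (BT.leaf (nat_lit 36040733)) (BT.leaf (nat_lit 35369753)))) (BT.node (nat_lit 12778176) (BT.node (nat_lit 12778112) (BT.leaf (nat_lit 48087313)) (BT.leaf (nat_lit 51112217))) (BT.node (nat_lit 12778304) (BT.leaf (nat_lit 35370525)) (BT.leaf (nat_lit 50349857))))))) (BT.node (nat_lit 12779328) (BT.node (nat_lit 12778880) (BT.node (nat_lit 12778624) (BT.node (nat_lit 12778496) (BT.node (nat_lit 12778432) (BT.leaf (nat_lit 46456081)) (BT.leaf (nat_lit 35373073))) (BT.node (nat_lit 12778560) (BT.leaf (nat_lit 35372825)) (BT.leaf (nat_lit 35372829)))) (BT.node (nat_lit 12778752) (BT.node (nat_lit 12778688) (BT.leaf (nat_lit 35373333)) (BT.leaf (nat_lit 36567065))) (BT.node (nat_lit 12778816) (BT.leaf (nat_lit 51288097)) (BT.leaf (nat_lit 51288353))))) (BT.node (nat_lit 12779008) (BT.node (nat_lit 12778888) (BT.node (nat_lit 12778887) (BT.leaf (nat_lit 46606617)) (BT.leaf (nat_lit 805276))) (BT.node (nat_lit 12778944) (BT.leaf (nat_lit 805276)) (BT.leaf (nat_lit 35374873)))) (BT.node (nat_lit 12779200) (BT.node (nat_lit 12779136) (BT.leaf (nat_lit 35374877)) (BT.leaf (nat_lit 35377429))) (BT.node (nat_lit 12779264) (BT.leaf (nat_lit 35377689)) (BT.leaf (nat_lit 35377693)))))) (BT.node (nat_lit 12779840) (BT.node (nat_lit 12779584) (BT.node (nat_lit 12779456) (BT.node (nat_lit 12779392) (BT.leaf (nat_lit 35378197)) (BT.leaf (nat_lit 50310917))) (BT.node (nat_lit 12779520) (BT.leaf (nat_lit 47056645)) (BT.leaf (nat_lit 50281741)))) (BT.node (nat_lit 12779712) (BT.node (nat_lit 12779648) (BT.leaf (nat_lit 35380001)) (BT.leaf (nat_lit 50281753))) (BT.node (nat_lit 12779776) (BT.leaf (nat_lit 35382037)) (BT.leaf (nat_lit 50991649))))) (BT.node (nat_lit 12780096) (BT.node (nat_lit 12779968) (BT.node (nat_lit 12779904) (BT.leaf (nat_lit 50992133)) (BT.leaf (nat_lit 35383309))) (BT.node (nat_lit 12780032) (BT.leaf (nat_lit 35383305)) (BT.leaf (nat_lit 35384077)))) (BT.node (nat_lit 12780224) (BT.node (nat_lit 12780160) (BT.leaf (nat_lit 35383825)) (BT.leaf (nat_lit 35384089))) (BT.node (nat_lit 12780288) (BT.leaf (nat_lit 35384601)) (BT.leaf (nat_lit 51531789)))))))) (BT.node (nat_lit 12782784) (BT.node (nat_lit 12781440) (BT.node (nat_lit 12780864) (BT.node (nat_lit 12780608) (BT.node (nat_lit 12780480) (BT.node (nat_lit 12780416) (BT.leaf (nat_lit 35388169)) (BT.leaf (nat_lit 35388689))) (BT.node (nat_lit 12780544) (BT.leaf (nat_lit 47018509)) (BT.leaf (nat_lit 51122701)))) (BT.node (nat_lit 12780736) (BT.node (nat_lit 12780672) (BT.leaf (nat_lit 47018521)) (BT.leaf (nat_lit 48062753))) (BT.node (nat_lit 12780800) (BT.leaf (nat_lit 42344737)) (BT.leaf (nat_lit 35390741))))) (BT.node (nat_lit 12781184) (BT.node (nat_lit 12780992) (BT.node (nat_lit 12780928) (BT.leaf (nat_lit 35391249)) (BT.leaf (nat_lit 35392017))) (BT.node (nat_lit 12781120) (BT.leaf (nat_lit 49469461)) (BT.leaf (nat_lit 35392289)))) (BT.node (nat_lit 12781312) (BT.node (nat_lit 12781248) (BT.leaf (nat_lit 35392533)) (BT.leaf (nat_lit 35393041))) (BT.node (nat_lit 12781376) (BT.leaf (nat_lit 35392793)) (BT.leaf (nat_lit 51745049)))))) (BT.node (nat_lit 12782080) (BT.node (nat_lit 12781696) (BT.node (nat_lit 12781568) (BT.node (nat_lit 12781504) (BT.leaf (nat_lit 48625925)) (BT.leaf (nat_lit 46234389))) (BT.node (nat_lit 12781632) (BT.leaf (nat_lit 35396625)) (BT.leaf (nat_lit 35397141)))) (BT.node (nat_lit 12781952) (BT.node (nat_lit 12781824) (BT.leaf (nat_lit 35397397)) (BT.leaf (nat_lit 35398673))) (BT.node (nat_lit 12782016) (BT.leaf (nat_lit 50648341)) (BT.leaf (nat_lit 35400729))))) (BT.node (nat_lit 12782336) (BT.node (nat_lit 12782208) (BT.node (nat_lit 12782144) (BT.leaf (nat_lit 35400981)) (BT.leaf (nat_lit 35400989))) (BT.node (nat_lit 12782272) (BT.leaf (nat_lit 48066313)) (BT.leaf (nat_lit 35403037)))) (BT.node (nat_lit 12782464) (BT.node (nat_lit 12782400) (BT.leaf (nat_lit 35405073)) (BT.leaf (nat_lit 35406865))) (BT.node (nat_lit 12782656) (BT.leaf (nat_lit 35407385)) (BT.leaf (nat_lit 37124357))))))) (BT.node (nat_lit 12784192) (BT.node (nat_lit 12783424) (BT.node (nat_lit 12783168) (BT.node (nat_lit 12783040) (BT.node (nat_lit 12782976) (BT.leaf (nat_lit 51167757)) (BT.leaf (nat_lit 52111649))) (BT.node (nat_lit 12783104) (BT.leaf (nat_lit 35410965)) (BT.leaf (nat_lit 35410973)))) (BT.node (nat_lit 12783296) (BT.node (nat_lit 12783232) (BT.leaf (nat_lit 35411217)) (BT.leaf (nat_lit 35411993))) (BT.node (nat_lit 12783360) (BT.leaf (nat_lit 35411997)) (BT.leaf (nat_lit 35412253))))) (BT.node (nat_lit 12783872) (BT.node (nat_lit 12783680) (BT.node (nat_lit 12783616) (BT.leaf (nat_lit 35412757)) (BT.leaf (nat_lit 52000261))) (BT.node (nat_lit 12783812) (BT.leaf (nat_lit 36521489)) (BT.leaf (nat_lit 816028)))) (BT.node (nat_lit 12784064) (BT.node (nat_lit 12783936) (BT.leaf (nat_lit 52221189)) (BT.leaf (nat_lit 35415313))) (BT.node (nat_lit 12784128) (BT.leaf (nat_lit 35415069)) (BT.leaf (nat_lit 51175957)))))) (BT.node (nat_lit 12784704) (BT.node (nat_lit 12784384) (BT.node (nat_lit 12784260) (BT.node (nat_lit 12784256) (BT.leaf (nat_lit 36588809)) (BT.leaf (nat_lit 50742557))) (BT.node (nat_lit 12784320) (BT.leaf (nat_lit 810352)) (BT.leaf (nat_lit 36779013)))) (BT.node (nat_lit 12784512) (BT.node (nat_lit 12784448) (BT.leaf (nat_lit 50532117)) (BT.leaf (nat_lit 35419669))) (BT.node (nat_lit 12784640) (BT.leaf (nat_lit 35419677)) (BT.leaf (nat_lit 35421713))))) (BT.node (nat_lit 12785280) (BT.node (nat_lit 12785088) (BT.node (nat_lit 12784960) (BT.leaf (nat_lit 36827937)) (BT.leaf (nat_lit 35423001))) (BT.node (nat_lit 12785152) (BT.leaf (nat_lit 35424789)) (BT.leaf (nat_lit 52053253)))) (BT.node (nat_lit 12785600) (BT.node (nat_lit 12785472) (BT.leaf (nat_lit 35426577)) (BT.leaf (nat_lit 50061589))) (BT.node (nat_lit 12785664) (BT.leaf (nat_lit 47633937)) (BT.leaf (nat_lit 35427617))))))))) (BT.node (nat_lit 12791424) (BT.node (nat_lit 12788288) (BT.node (nat_lit 12787008) (BT.node (nat_lit 12786432) (BT.node (nat_lit 12786048) (BT.node (nat_lit 12785792) (BT.node (nat_lit 12785734) (BT.leaf (nat_lit 35427857)) (BT.leaf (nat_lit 808404))) (BT.node (nat_lit 12785856) (BT.leaf (nat_lit 52310557)) (BT.leaf (nat_lit 51384605)))) (BT.node (nat_lit 12786304) (BT.node (nat_lit 12786240) (BT.leaf (nat_lit 51484437)) (BT.leaf (nat_lit 35429141))) (BT.node (nat_lit 12786368) (BT.leaf (nat_lit 35429397)) (BT.leaf (nat_lit 35429649))))) (BT.node (nat_lit 12786688) (BT.node (nat_lit 12786560) (BT.node (nat_lit 12786496) (BT.leaf (nat_lit 52176401)) (BT.leaf (nat_lit 36630545))) (BT.node (nat_lit 12786624) (BT.leaf (nat_lit 51404809)) (BT.leaf (nat_lit 36895493)))) (BT.node (nat_lit 12786880) (BT.node (nat_lit 12786752) (BT.leaf (nat_lit 35432469)) (BT.leaf (nat_lit 35432473))) (BT.node (nat_lit 12786944) (BT.leaf (nat_lit 35433233)) (BT.leaf (nat_lit 46642949)))))) (BT.node (nat_lit 12787520) (BT.node (nat_lit 12787204) (BT.node (nat_lit 12787080) (BT.node (nat_lit 12787072) (BT.leaf (nat_lit 49975061)) (BT.leaf (nat_lit 36062485))) (BT.node (nat_lit 12787200) (BT.leaf (nat_lit 818236)) (BT.leaf (nat_lit 35434781)))) (BT.node (nat_lit 12787264) (BT.node (nat_lit 12787205) (BT.leaf (nat_lit 804312)) (BT.leaf (nat_lit 804312))) (BT.node (nat_lit 12787328) (BT.leaf (nat_lit 51312401)) (BT.leaf (nat_lit 35435037))))) (BT.node (nat_lit 12788032) (BT.node (nat_lit 12787840) (BT.node (nat_lit 12787776) (BT.leaf (nat_lit 35435545)) (BT.leaf (nat_lit 51245065))) (BT.node (nat_lit 12787904) (BT.leaf (nat_lit 35436297)) (BT.leaf (nat_lit 51249165)))) (BT.node (nat_lit 12788160) (BT.node (nat_lit 12788096) (BT.leaf (nat_lit 51249181)) (BT.leaf (nat_lit 35436565))) (BT.node (nat_lit 12788224) (BT.leaf (nat_lit 35989789)) (BT.leaf (nat_lit 35436821))))))) (BT.node (nat_lit 12789632) (BT.node (nat_lit 12788992) (BT.node (nat_lit 12788608) (BT.node (nat_lit 12788480) (BT.node (nat_lit 12788352) (BT.leaf (nat_lit 51274249)) (BT.leaf (nat_lit 35638537))) (BT.node (nat_lit 12788544) (BT.leaf (nat_lit 35440161)) (BT.leaf (nat_lit 35440401)))) (BT.node (nat_lit 12788864) (BT.node (nat_lit 12788672) (BT.leaf (nat_lit 35440925)) (BT.leaf (nat_lit 51374625))) (BT.node (nat_lit 12788928) (BT.leaf (nat_lit 35443217)) (BT.leaf (nat_lit 35442969))))) (BT.node (nat_lit 12789376) (BT.node (nat_lit 12789120) (BT.node (nat_lit 12789056) (BT.leaf (nat_lit 35443729)) (BT.leaf (nat_lit 37705737))) (BT.node (nat_lit 12789184) (BT.leaf (nat_lit 50191633)) (BT.leaf (nat_lit 52185861)))) (BT.node (nat_lit 12789504) (BT.node (nat_lit 12789440) (BT.leaf (nat_lit 35447573)) (BT.leaf (nat_lit 35447577))) (BT.node (nat_lit 12789568) (BT.leaf (nat_lit 35447581)) (BT.leaf (nat_lit 36087825)))))) (BT.node (nat_lit 12790336) (BT.node (nat_lit 12790080) (BT.node (nat_lit 12789760) (BT.node (nat_lit 12789696) (BT.leaf (nat_lit 35448845)) (BT.leaf (nat_lit 50528277))) (BT.node (nat_lit 12789952) (BT.leaf (nat_lit 35449109)) (BT.leaf (nat_lit 49948949)))) (BT.node (nat_lit 12790208) (BT.node (nat_lit 12790144) (BT.leaf (nat_lit 35451673)) (BT.leaf (nat_lit 35452185))) (BT.node (nat_lit 12790272) (BT.leaf (nat_lit 46352401)) (BT.leaf (nat_lit 37056005))))) (BT.node (nat_lit 12791104) (BT.node (nat_lit 12790848) (BT.node (nat_lit 12790784) (BT.leaf (nat_lit 36855329)) (BT.leaf (nat_lit 52293397))) (BT.node (nat_lit 12790976) (BT.leaf (nat_lit 51898401)) (BT.leaf (nat_lit 35458585)))) (BT.node (nat_lit 12791296) (BT.node (nat_lit 12791168) (BT.leaf (nat_lit 35972885)) (BT.leaf (nat_lit 48701205))) (BT.node (nat_lit 12791360) (BT.leaf (nat_lit 51514397)) (BT.leaf (nat_lit 35459601)))))))) (BT.node (nat_lit 12794304) (BT.node (nat_lit 12792516) (BT.node (nat_lit 12792000) (BT.node (nat_lit 12791744) (BT.node (nat_lit 12791552) (BT.node (nat_lit 12791488) (BT.leaf (nat_lit 46970397)) (BT.leaf (nat_lit 35460629))) (BT.node (nat_lit 12791616) (BT.leaf (nat_lit 35460633)) (BT.leaf (nat_lit 35460637)))) (BT.node (nat_lit 12791872) (BT.node (nat_lit 12791808) (BT.leaf (nat_lit 36157721)) (BT.leaf (nat_lit 35461905))) (BT.node (nat_lit 12791936) (BT.leaf (nat_lit 35462421)) (BT.leaf (nat_lit 51218949))))) (BT.node (nat_lit 12792320) (BT.node (nat_lit 12792192) (BT.node (nat_lit 12792128) (BT.leaf (nat_lit 35463445)) (BT.leaf (nat_lit 35463709))) (BT.node (nat_lit 12792256) (BT.leaf (nat_lit 35463957)) (BT.leaf (nat_lit 35464209)))) (BT.node (nat_lit 12792448) (BT.node (nat_lit 12792384) (BT.leaf (nat_lit 49803529)) (BT.leaf (nat_lit 35829773))) (BT.node (nat_lit 12792512) (BT.leaf (nat_lit 51382281)) (BT.leaf (nat_lit 35919897)))))) (BT.node (nat_lit 12793344) (BT.node (nat_lit 12792768) (BT.node (nat_lit 12792640) (BT.node (nat_lit 12792576) (BT.leaf (nat_lit 815144)) (BT.leaf (nat_lit 46777105))) (BT.node (nat_lit 12792704) (BT.leaf (nat_lit 49803533)) (BT.leaf (nat_lit 51814689)))) (BT.node (nat_lit 12793216) (BT.node (nat_lit 12792896) (BT.leaf (nat_lit 51224593)) (BT.leaf (nat_lit 52031253))) (BT.node (nat_lit 12793280) (BT.leaf (nat_lit 36729629)) (BT.leaf (nat_lit 36509193))))) (BT.node (nat_lit 12794048) (BT.node (nat_lit 12793856) (BT.node (nat_lit 12793664) (BT.leaf (nat_lit 36509705)) (BT.leaf (nat_lit 51954965))) (BT.node (nat_lit 12793984) (BT.leaf (nat_lit 46783265)) (BT.leaf (nat_lit 50366473)))) (BT.node (nat_lit 12794176) (BT.node (nat_lit 12794112) (BT.leaf (nat_lit 52060165)) (BT.leaf (nat_lit 37660961))) (BT.node (nat_lit 12794240) (BT.leaf (nat_lit 52440085)) (BT.leaf (nat_lit 37221405))))))) (BT.node (nat_lit 12795840) (BT.node (nat_lit 12795008) (BT.node (nat_lit 12794624) (BT.node (nat_lit 12794432) (BT.node (nat_lit 12794368) (BT.leaf (nat_lit 37373981)) (BT.leaf (nat_lit 35477009))) (BT.node (nat_lit 12794496) (BT.leaf (nat_lit 35478553)) (BT.leaf (nat_lit 51936005)))) (BT.node (nat_lit 12794752) (BT.node (nat_lit 12794688) (BT.leaf (nat_lit 35480081)) (BT.leaf (nat_lit 49646105))) (BT.node (nat_lit 12794816) (BT.leaf (nat_lit 51333649)) (BT.leaf (nat_lit 36799493))))) (BT.node (nat_lit 12795584) (BT.node (nat_lit 12795392) (BT.node (nat_lit 12795200) (BT.leaf (nat_lit 35482905)) (BT.leaf (nat_lit 51996693))) (BT.node (nat_lit 12795456) (BT.leaf (nat_lit 35770393)) (BT.leaf (nat_lit 50184477)))) (BT.node (nat_lit 12795712) (BT.node (nat_lit 12795648) (BT.leaf (nat_lit 35485721)) (BT.leaf (nat_lit 36539417))) (BT.node (nat_lit 12795776) (BT.leaf (nat_lit 35485973)) (BT.leaf (nat_lit 35488017)))))) (BT.node (nat_lit 12796672) (BT.node (nat_lit 12796096) (BT.node (nat_lit 12795968) (BT.node (nat_lit 12795904) (BT.leaf (nat_lit 36654865)) (BT.leaf (nat_lit 49883653))) (BT.node (nat_lit 12796032) (BT.leaf (nat_lit 35490069)) (BT.leaf (nat_lit 35489565)))) (BT.node (nat_lit 12796352) (BT.node (nat_lit 12796224) (BT.leaf (nat_lit 37320737)) (BT.leaf (nat_lit 37667077))) (BT.node (nat_lit 12796608) (BT.leaf (nat_lit 35537689)) (BT.leaf (nat_lit 49806105))))) (BT.node (nat_lit 12797248) (BT.node (nat_lit 12796800) (BT.node (nat_lit 12796736) (BT.leaf (nat_lit 46978325)) (BT.leaf (nat_lit 51838753))) (BT.node (nat_lit 12796928) (BT.leaf (nat_lit 49806613)) (BT.leaf (nat_lit 52371229)))) (BT.node (nat_lit 12797376) (BT.node (nat_lit 12797312) (BT.leaf (nat_lit 51944465)) (BT.leaf (nat_lit 35502609))) (BT.node (nat_lit 12797440) (BT.leaf (nat_lit 35502365)) (BT.leaf (nat_lit 35503121))))))))))) (BT.node (nat_lit 12820160) (BT.node (nat_lit 12808896) (BT.node (nat_lit 12803136) (BT.node (nat_lit 12800640) (BT.node (nat_lit 12799360) (BT.node (nat_lit 12798272) (BT.node (nat_lit 12797760) (BT.node (nat_lit 12797632) (BT.node (nat_lit 12797568) (BT.leaf (nat_lit 35504157)) (BT.leaf (nat_lit 37546517))) (BT.node (nat_lit 12797696) (BT.leaf (nat_lit 35504657)) (BT.leaf (nat_lit 35505685)))) (BT.node (nat_lit 12798080) (BT.node (nat_lit 12797952) (BT.leaf (nat_lit 35505689)) (BT.leaf (nat_lit 37574917))) (BT.node (nat_lit 12798144) (BT.leaf (nat_lit 35506705)) (BT.leaf (nat_lit 51193633))))) (BT.node (nat_lit 12798656) (BT.node (nat_lit 12798464) (BT.node (nat_lit 12798400) (BT.leaf (nat_lit 51101729)) (BT.leaf (nat_lit 47906565))) (BT.node (nat_lit 12798592) (BT.leaf (nat_lit 52035333)) (BT.leaf (nat_lit 35507997)))) (BT.node (nat_lit 12799040) (BT.node (nat_lit 12798720) (BT.leaf (nat_lit 35508245)) (BT.leaf (nat_lit 35509005))) (BT.node (nat_lit 12799168) (BT.leaf (nat_lit 35512341)) (BT.leaf (nat_lit 51455237)))))) (BT.node (nat_lit 12799936) (BT.node (nat_lit 12799680) (BT.node (nat_lit 12799488) (BT.node (nat_lit 12799424) (BT.leaf (nat_lit 35514129)) (BT.leaf (nat_lit 35514133))) (BT.node (nat_lit 12799616) (BT.leaf (nat_lit 35514389)) (BT.leaf (nat_lit 50742549)))) (BT.node (nat_lit 12799808) (BT.node (nat_lit 12799744) (BT.leaf (nat_lit 35517457)) (BT.leaf (nat_lit 46414097))) (BT.node (nat_lit 12799872) (BT.leaf (nat_lit 35517961)) (BT.leaf (nat_lit 35517965))))) (BT.node (nat_lit 12800320) (BT.node (nat_lit 12800128) (BT.node (nat_lit 12800000) (BT.leaf (nat_lit 35518737)) (BT.leaf (nat_lit 35518489))) (BT.node (nat_lit 12800256) (BT.leaf (nat_lit 37377557)) (BT.leaf (nat_lit 35520033)))) (BT.node (nat_lit 12800512) (BT.node (nat_lit 12800384) (BT.leaf (nat_lit 51691541)) (BT.leaf (nat_lit 51691525))) (BT.node (nat_lit 12800576) (BT.leaf (nat_lit 35745045)) (BT.leaf (nat_lit 51691797))))))) (BT.node (nat_lit 12802112) (BT.node (nat_lit 12801344) (BT.node (nat_lit 12801088) (BT.node (nat_lit 12800960) (BT.node (nat_lit 12800768) (BT.leaf (nat_lit 52173333)) (BT.leaf (nat_lit 51996941))) (BT.node (nat_lit 12801024) (BT.leaf (nat_lit 51310361)) (BT.leaf (nat_lit 51310349)))) (BT.node (nat_lit 12801216) (BT.node (nat_lit 12801152) (BT.leaf (nat_lit 36338449)) (BT.leaf (nat_lit 35527185))) (BT.node (nat_lit 12801280) (BT.leaf (nat_lit 35528213)) (BT.leaf (nat_lit 35528221))))) (BT.node (nat_lit 12801792) (BT.node (nat_lit 12801472) (BT.node (nat_lit 12801408) (BT.leaf (nat_lit 35528473)) (BT.leaf (nat_lit 35528477))) (BT.node (nat_lit 12801664) (BT.leaf (nat_lit 37316889)) (BT.leaf (nat_lit 35532821)))) (BT.node (nat_lit 12801920) (BT.node (nat_lit 12801856) (BT.leaf (nat_lit 35533073)) (BT.leaf (nat_lit 51333409))) (BT.node (nat_lit 12801984) (BT.leaf (nat_lit 35533837)) (BT.leaf (nat_lit 35534613)))))) (BT.node (nat_lit 12802560) (BT.node (nat_lit 12802304) (BT.node (nat_lit 12802176) (BT.node (nat_lit 12802118) (BT.leaf (nat_lit 51859973)) (BT.leaf (nat_lit 809556))) (BT.node (nat_lit 12802240) (BT.leaf (nat_lit 35534101)) (BT.leaf (nat_lit 51694113)))) (BT.node (nat_lit 12802432) (BT.node (nat_lit 12802368) (BT.leaf (nat_lit 52178977)) (BT.leaf (nat_lit 46393361))) (BT.node (nat_lit 12802496) (BT.leaf (nat_lit 35537937)) (BT.leaf (nat_lit 52300049))))) (BT.node (nat_lit 12802880) (BT.node (nat_lit 12802688) (BT.node (nat_lit 12802624) (BT.leaf (nat_lit 37313293)) (BT.leaf (nat_lit 51143441))) (BT.node (nat_lit 12802816) (BT.leaf (nat_lit 35539225)) (BT.leaf (nat_lit 36046357)))) (BT.node (nat_lit 12803008) (BT.node (nat_lit 12802944) (BT.leaf (nat_lit 51485209)) (BT.leaf (nat_lit 51483925))) (BT.node (nat_lit 12803072) (BT.leaf (nat_lit 51485193)) (BT.leaf (nat_lit 35539989)))))))) (BT.node (nat_lit 12805632) (BT.node (nat_lit 12804480) (BT.node (nat_lit 12803904) (BT.node (nat_lit 12803456) (BT.node (nat_lit 12803328) (BT.node (nat_lit 12803264) (BT.leaf (nat_lit 35540233)) (BT.leaf (nat_lit 46467605))) (BT.node (nat_lit 12803392) (BT.leaf (nat_lit 35540497)) (BT.leaf (nat_lit 36550921)))) (BT.node (nat_lit 12803648) (BT.node (nat_lit 12803584) (BT.leaf (nat_lit 51143181)) (BT.leaf (nat_lit 35542033))) (BT.node (nat_lit 12803840) (BT.leaf (nat_lit 50193157)) (BT.leaf (nat_lit 35544853))))) (BT.node (nat_lit 12804160) (BT.node (nat_lit 12804032) (BT.node (nat_lit 12803968) (BT.leaf (nat_lit 52332577)) (BT.leaf (nat_lit 52068641))) (BT.node (nat_lit 12804096) (BT.leaf (nat_lit 51217161)) (BT.leaf (nat_lit 35546385)))) (BT.node (nat_lit 12804288) (BT.node (nat_lit 12804224) (BT.leaf (nat_lit 35546133)) (BT.leaf (nat_lit 36691225))) (BT.node (nat_lit 12804416) (BT.leaf (nat_lit 37356821)) (BT.leaf (nat_lit 35549965)))))) (BT.node (nat_lit 12804992) (BT.node (nat_lit 12804736) (BT.node (nat_lit 12804608) (BT.node (nat_lit 12804544) (BT.leaf (nat_lit 35550485)) (BT.leaf (nat_lit 35550225))) (BT.node (nat_lit 12804672) (BT.leaf (nat_lit 36051725)) (BT.leaf (nat_lit 35551261)))) (BT.node (nat_lit 12804928) (BT.node (nat_lit 12804800) (BT.leaf (nat_lit 51141901)) (BT.leaf (nat_lit 51170309))) (BT.node (nat_lit 12804935) (BT.leaf (nat_lit 35554581)) (BT.leaf (nat_lit 809992))))) (BT.node (nat_lit 12805312) (BT.node (nat_lit 12805184) (BT.node (nat_lit 12805120) (BT.leaf (nat_lit 49819913)) (BT.leaf (nat_lit 35816477))) (BT.node (nat_lit 12805248) (BT.leaf (nat_lit 51771917)) (BT.leaf (nat_lit 35556629)))) (BT.node (nat_lit 12805440) (BT.node (nat_lit 12805376) (BT.leaf (nat_lit 35557393)) (BT.leaf (nat_lit 50933521))) (BT.node (nat_lit 12805568) (BT.leaf (nat_lit 35558165)) (BT.leaf (nat_lit 51912737))))))) (BT.node (nat_lit 12807040) (BT.node (nat_lit 12806400) (BT.node (nat_lit 12806144) (BT.node (nat_lit 12805952) (BT.node (nat_lit 12805696) (BT.leaf (nat_lit 51594761)) (BT.leaf (nat_lit 51454725))) (BT.node (nat_lit 12806080) (BT.leaf (nat_lit 52154633)) (BT.leaf (nat_lit 51224605)))) (BT.node (nat_lit 12806272) (BT.node (nat_lit 12806208) (BT.leaf (nat_lit 36648981)) (BT.leaf (nat_lit 36648461))) (BT.node (nat_lit 12806336) (BT.leaf (nat_lit 37306653)) (BT.leaf (nat_lit 37103369))))) (BT.node (nat_lit 12806656) (BT.node (nat_lit 12806528) (BT.node (nat_lit 12806464) (BT.leaf (nat_lit 35562769)) (BT.leaf (nat_lit 35563285))) (BT.node (nat_lit 12806592) (BT.leaf (nat_lit 35563797)) (BT.leaf (nat_lit 37082389)))) (BT.node (nat_lit 12806784) (BT.node (nat_lit 12806720) (BT.leaf (nat_lit 37082393)) (BT.leaf (nat_lit 36561161))) (BT.node (nat_lit 12806848) (BT.leaf (nat_lit 35567121)) (BT.leaf (nat_lit 47121413)))))) (BT.node (nat_lit 12807936) (BT.node (nat_lit 12807616) (BT.node (nat_lit 12807360) (BT.node (nat_lit 12807168) (BT.leaf (nat_lit 51598353)) (BT.leaf (nat_lit 51433233))) (BT.node (nat_lit 12807552) (BT.leaf (nat_lit 52237341)) (BT.leaf (nat_lit 35570709)))) (BT.node (nat_lit 12807744) (BT.node (nat_lit 12807680) (BT.leaf (nat_lit 35570713)) (BT.leaf (nat_lit 35570961))) (BT.node (nat_lit 12807808) (BT.leaf (nat_lit 35571221)) (BT.leaf (nat_lit 35571229))))) (BT.node (nat_lit 12808192) (BT.node (nat_lit 12808064) (BT.node (nat_lit 12808000) (BT.leaf (nat_lit 35573013)) (BT.leaf (nat_lit 35572761))) (BT.node (nat_lit 12808128) (BT.leaf (nat_lit 35572765)) (BT.leaf (nat_lit 48531741)))) (BT.node (nat_lit 12808512) (BT.node (nat_lit 12808384) (BT.leaf (nat_lit 35576345)) (BT.leaf (nat_lit 52333077))) (BT.node (nat_lit 12808576) (BT.leaf (nat_lit 50010645)) (BT.leaf (nat_lit 51920661))))))))) (BT.node (nat_lit 12815168) (BT.node (nat_lit 12811968) (BT.node (nat_lit 12810304) (BT.node (nat_lit 12809792) (BT.node (nat_lit 12809216) (BT.node (nat_lit 12809088) (BT.node (nat_lit 12808960) (BT.leaf (nat_lit 42687509)) (BT.leaf (nat_lit 50639125))) (BT.node (nat_lit 12809152) (BT.leaf (nat_lit 36151065)) (BT.leaf (nat_lit 47963409)))) (BT.node (nat_lit 12809664) (BT.node (nat_lit 12809536) (BT.leaf (nat_lit 47963413)) (BT.leaf (nat_lit 37101337))) (BT.node (nat_lit 12809728) (BT.leaf (nat_lit 35585053)) (BT.leaf (nat_lit 35942421))))) (BT.node (nat_lit 12810048) (BT.node (nat_lit 12809859) (BT.node (nat_lit 12809856) (BT.leaf (nat_lit 35942425)) (BT.leaf (nat_lit 35586581))) (BT.node (nat_lit 12809984) (BT.leaf (nat_lit 803984)) (BT.leaf (nat_lit 35586837)))) (BT.node (nat_lit 12810176) (BT.node (nat_lit 12810112) (BT.leaf (nat_lit 35587337)) (BT.leaf (nat_lit 35587341))) (BT.node (nat_lit 12810240) (BT.leaf (nat_lit 39240981)) (BT.leaf (nat_lit 36977433)))))) (BT.node (nat_lit 12811200) (BT.node (nat_lit 12810752) (BT.node (nat_lit 12810688) (BT.node (nat_lit 12810368) (BT.leaf (nat_lit 47331089)) (BT.leaf (nat_lit 47331093))) (BT.node (nat_lit 12810695) (BT.leaf (nat_lit 35589397)) (BT.leaf (nat_lit 804268)))) (BT.node (nat_lit 12810880) (BT.node (nat_lit 12810816) (BT.leaf (nat_lit 35589405)) (BT.leaf (nat_lit 35589653))) (BT.node (nat_lit 12810944) (BT.leaf (nat_lit 35589657)) (BT.leaf (nat_lit 35589661))))) (BT.node (nat_lit 12811652) (BT.node (nat_lit 12811328) (BT.node (nat_lit 12811264) (BT.leaf (nat_lit 49880601)) (BT.leaf (nat_lit 49880605))) (BT.node (nat_lit 12811648) (BT.leaf (nat_lit 35591441)) (BT.leaf (nat_lit 35592213)))) (BT.node (nat_lit 12811840) (BT.node (nat_lit 12811712) (BT.leaf (nat_lit 806284)) (BT.leaf (nat_lit 37675277))) (BT.node (nat_lit 12811904) (BT.leaf (nat_lit 35593237)) (BT.leaf (nat_lit 51614493))))))) (BT.node (nat_lit 12813632) (BT.node (nat_lit 12812800) (BT.node (nat_lit 12812416) (BT.node (nat_lit 12812288) (BT.node (nat_lit 12812032) (BT.leaf (nat_lit 51149317)) (BT.leaf (nat_lit 35593753))) (BT.node (nat_lit 12812352) (BT.leaf (nat_lit 35594261)) (BT.leaf (nat_lit 35594265)))) (BT.node (nat_lit 12812672) (BT.node (nat_lit 12812480) (BT.leaf (nat_lit 51455493)) (BT.leaf (nat_lit 35594517))) (BT.node (nat_lit 12812736) (BT.leaf (nat_lit 37317637)) (BT.leaf (nat_lit 51285001))))) (BT.node (nat_lit 12813248) (BT.node (nat_lit 12812928) (BT.node (nat_lit 12812864) (BT.leaf (nat_lit 51646213)) (BT.leaf (nat_lit 35596561))) (BT.node (nat_lit 12813184) (BT.leaf (nat_lit 51335449)) (BT.leaf (nat_lit 35599137)))) (BT.node (nat_lit 12813440) (BT.node (nat_lit 12813312) (BT.leaf (nat_lit 51377941)) (BT.leaf (nat_lit 35600157))) (BT.node (nat_lit 12813504) (BT.leaf (nat_lit 35600413)) (BT.leaf (nat_lit 35601945)))))) (BT.node (nat_lit 12814464) (BT.node (nat_lit 12814144) (BT.node (nat_lit 12813952) (BT.node (nat_lit 12813760) (BT.leaf (nat_lit 35602441)) (BT.leaf (nat_lit 36667401))) (BT.node (nat_lit 12814080) (BT.leaf (nat_lit 37266197)) (BT.leaf (nat_lit 38620437)))) (BT.node (nat_lit 12814272) (BT.node (nat_lit 12814208) (BT.leaf (nat_lit 35604241)) (BT.leaf (nat_lit 35604505))) (BT.node (nat_lit 12814336) (BT.leaf (nat_lit 50743317)) (BT.leaf (nat_lit 52080141))))) (BT.node (nat_lit 12814912) (BT.node (nat_lit 12814656) (BT.node (nat_lit 12814592) (BT.leaf (nat_lit 35607313)) (BT.leaf (nat_lit 52434461))) (BT.node (nat_lit 12814720) (BT.leaf (nat_lit 52203541)) (BT.leaf (nat_lit 35609369)))) (BT.node (nat_lit 12815040) (BT.node (nat_lit 12814976) (BT.leaf (nat_lit 48978209)) (BT.leaf (nat_lit 35611665))) (BT.node (nat_lit 12815104) (BT.leaf (nat_lit 36628757)) (BT.leaf (nat_lit 52017941)))))))) (BT.node (nat_lit 12817536) (BT.node (nat_lit 12816320) (BT.node (nat_lit 12815680) (BT.node (nat_lit 12815424) (BT.node (nat_lit 12815296) (BT.node (nat_lit 12815232) (BT.leaf (nat_lit 38661905)) (BT.leaf (nat_lit 51160845))) (BT.node (nat_lit 12815360) (BT.leaf (nat_lit 35615509)) (BT.leaf (nat_lit 35614997)))) (BT.node (nat_lit 12815552) (BT.node (nat_lit 12815488) (BT.leaf (nat_lit 35616021)) (BT.leaf (nat_lit 36484113))) (BT.node (nat_lit 12815616) (BT.leaf (nat_lit 51262477)) (BT.leaf (nat_lit 50705949))))) (BT.node (nat_lit 12816000) (BT.node (nat_lit 12815808) (BT.node (nat_lit 12815744) (BT.leaf (nat_lit 50705929)) (BT.leaf (nat_lit 51262745))) (BT.node (nat_lit 12815936) (BT.leaf (nat_lit 35617813)) (BT.leaf (nat_lit 35619349)))) (BT.node (nat_lit 12816192) (BT.node (nat_lit 12816128) (BT.leaf (nat_lit 35620117)) (BT.leaf (nat_lit 38564629))) (BT.node (nat_lit 12816256) (BT.leaf (nat_lit 35620121)) (BT.leaf (nat_lit 35620625)))))) (BT.node (nat_lit 12816960) (BT.node (nat_lit 12816704) (BT.node (nat_lit 12816576) (BT.node (nat_lit 12816448) (BT.leaf (nat_lit 37165857)) (BT.leaf (nat_lit 35621645))) (BT.node (nat_lit 12816640) (BT.leaf (nat_lit 37340693)) (BT.leaf (nat_lit 51409437)))) (BT.node (nat_lit 12816832) (BT.node (nat_lit 12816768) (BT.leaf (nat_lit 52204053)) (BT.leaf (nat_lit 51446561))) (BT.node (nat_lit 12816896) (BT.leaf (nat_lit 51763225)) (BT.leaf (nat_lit 35623453))))) (BT.node (nat_lit 12817216) (BT.node (nat_lit 12817088) (BT.node (nat_lit 12817024) (BT.leaf (nat_lit 50970657)) (BT.leaf (nat_lit 35624469))) (BT.node (nat_lit 12817152) (BT.leaf (nat_lit 50970885)) (BT.leaf (nat_lit 51268377)))) (BT.node (nat_lit 12817344) (BT.node (nat_lit 12817280) (BT.leaf (nat_lit 50757661)) (BT.leaf (nat_lit 51186721))) (BT.node (nat_lit 12817472) (BT.leaf (nat_lit 35626005)) (BT.leaf (nat_lit 52428313))))))) (BT.node (nat_lit 12819072) (BT.node (nat_lit 12818240) (BT.node (nat_lit 12817792) (BT.node (nat_lit 12817664) (BT.node (nat_lit 12817600) (BT.leaf (nat_lit 51527453)) (BT.leaf (nat_lit 51527433))) (BT.node (nat_lit 12817728) (BT.leaf (nat_lit 52428301)) (BT.leaf (nat_lit 46840609)))) (BT.node (nat_lit 12817920) (BT.node (nat_lit 12817856) (BT.leaf (nat_lit 35626773)) (BT.leaf (nat_lit 35627545))) (BT.node (nat_lit 12818048) (BT.leaf (nat_lit 51273221)) (BT.leaf (nat_lit 50879249))))) (BT.node (nat_lit 12818496) (BT.node (nat_lit 12818368) (BT.node (nat_lit 12818304) (BT.leaf (nat_lit 35629337)) (BT.leaf (nat_lit 35629341))) (BT.node (nat_lit 12818432) (BT.leaf (nat_lit 35629841)) (BT.leaf (nat_lit 35630361)))) (BT.node (nat_lit 12818688) (BT.node (nat_lit 12818560) (BT.leaf (nat_lit 35630365)) (BT.leaf (nat_lit 49891105))) (BT.node (nat_lit 12818816) (BT.leaf (nat_lit 35639045)) (BT.leaf (nat_lit 50622497)))))) (BT.node (nat_lit 12819584) (BT.node (nat_lit 12819328) (BT.node (nat_lit 12819200) (BT.node (nat_lit 12819136) (BT.leaf (nat_lit 35635225)) (BT.leaf (nat_lit 35635229))) (BT.node (nat_lit 12819264) (BT.leaf (nat_lit 37695761)) (BT.leaf (nat_lit 35636241)))) (BT.node (nat_lit 12819456) (BT.node (nat_lit 12819392) (BT.leaf (nat_lit 37532193)) (BT.leaf (nat_lit 50755869))) (BT.node (nat_lit 12819520) (BT.leaf (nat_lit 35637273)) (BT.leaf (nat_lit 35637277))))) (BT.node (nat_lit 12819840) (BT.node (nat_lit 12819712) (BT.node (nat_lit 12819648) (BT.leaf (nat_lit 52118281)) (BT.leaf (nat_lit 35638553))) (BT.node (nat_lit 12819776) (BT.leaf (nat_lit 36665625)) (BT.leaf (nat_lit 35639061)))) (BT.node (nat_lit 12820032) (BT.node (nat_lit 12819904) (BT.leaf (nat_lit 51747873)) (BT.leaf (nat_lit 51378949))) (BT.node (nat_lit 12820096) (BT.leaf (nat_lit 50433801)) (BT.leaf (nat_lit 47342857)))))))))) (BT.node (nat_lit 12831168) (BT.node (nat_lit 12825088) (BT.node (nat_lit 12822656) (BT.node (nat_lit 12821376) (BT.node (nat_lit 12820800) (BT.node (nat_lit 12820482) (BT.node (nat_lit 12820416) (BT.node (nat_lit 12820352) (BT.leaf (nat_lit 35640853)) (BT.leaf (nat_lit 35642649))) (BT.node (nat_lit 12820480) (BT.leaf (nat_lit 35642653)) (BT.leaf (nat_lit 36424973)))) (BT.node (nat_lit 12820672) (BT.node (nat_lit 12820483) (BT.leaf (nat_lit 808328)) (BT.leaf (nat_lit 808328))) (BT.node (nat_lit 12820736) (BT.leaf (nat_lit 35643681)) (BT.leaf (nat_lit 51960341))))) (BT.node (nat_lit 12821056) (BT.node (nat_lit 12820928) (BT.node (nat_lit 12820864) (BT.leaf (nat_lit 51692577)) (BT.leaf (nat_lit 37331217))) (BT.node (nat_lit 12820992) (BT.leaf (nat_lit 52442389)) (BT.leaf (nat_lit 37169441)))) (BT.node (nat_lit 12821248) (BT.node (nat_lit 12821120) (BT.leaf (nat_lit 35645205)) (BT.leaf (nat_lit 37072653))) (BT.node (nat_lit 12821316) (BT.leaf (nat_lit 52444421)) (BT.leaf (nat_lit 817360)))))) (BT.node (nat_lit 12822144) (BT.node (nat_lit 12821760) (BT.node (nat_lit 12821444) (BT.node (nat_lit 12821440) (BT.leaf (nat_lit 49836293)) (BT.leaf (nat_lit 36322061))) (BT.node (nat_lit 12821696) (BT.leaf (nat_lit 807180)) (BT.leaf (nat_lit 35650577)))) (BT.node (nat_lit 12822016) (BT.node (nat_lit 12821824) (BT.leaf (nat_lit 52215329)) (BT.leaf (nat_lit 52215325))) (BT.node (nat_lit 12822080) (BT.leaf (nat_lit 35687945)) (BT.leaf (nat_lit 35687949))))) (BT.node (nat_lit 12822400) (BT.node (nat_lit 12822272) (BT.node (nat_lit 12822208) (BT.leaf (nat_lit 35652641)) (BT.leaf (nat_lit 47518989))) (BT.node (nat_lit 12822336) (BT.leaf (nat_lit 50473241)) (BT.leaf (nat_lit 47510541)))) (BT.node (nat_lit 12822528) (BT.node (nat_lit 12822464) (BT.leaf (nat_lit 47518741)) (BT.leaf (nat_lit 35654173))) (BT.node (nat_lit 12822592) (BT.leaf (nat_lit 35655701)) (BT.leaf (nat_lit 51734789))))))) (BT.node (nat_lit 12823872) (BT.node (nat_lit 12823424) (BT.node (nat_lit 12823104) (BT.node (nat_lit 12822848) (BT.node (nat_lit 12822720) (BT.leaf (nat_lit 35655709)) (BT.leaf (nat_lit 47963653))) (BT.node (nat_lit 12823040) (BT.leaf (nat_lit 35659293)) (BT.leaf (nat_lit 37352993)))) (BT.node (nat_lit 12823296) (BT.node (nat_lit 12823168) (BT.leaf (nat_lit 37540613)) (BT.leaf (nat_lit 35661585))) (BT.node (nat_lit 12823360) (BT.leaf (nat_lit 35662109)) (BT.leaf (nat_lit 50361365))))) (BT.node (nat_lit 12823620) (BT.node (nat_lit 12823552) (BT.node (nat_lit 12823488) (BT.leaf (nat_lit 35662869)) (BT.leaf (nat_lit 35663125))) (BT.node (nat_lit 12823616) (BT.leaf (nat_lit 46703121)) (BT.leaf (nat_lit 51294749)))) (BT.node (nat_lit 12823744) (BT.node (nat_lit 12823680) (BT.leaf (nat_lit 817156)) (BT.leaf (nat_lit 36416261))) (BT.node (nat_lit 12823808) (BT.leaf (nat_lit 35665425)) (BT.leaf (nat_lit 35665941)))))) (BT.node (nat_lit 12824576) (BT.node (nat_lit 12824128) (BT.node (nat_lit 12824000) (BT.node (nat_lit 12823936) (BT.leaf (nat_lit 35666201)) (BT.leaf (nat_lit 35667217))) (BT.node (nat_lit 12824064) (BT.leaf (nat_lit 35666973)) (BT.leaf (nat_lit 35668241)))) (BT.node (nat_lit 12824256) (BT.node (nat_lit 12824192) (BT.leaf (nat_lit 35668757)) (BT.leaf (nat_lit 50677261))) (BT.node (nat_lit 12824448) (BT.leaf (nat_lit 35669777)) (BT.leaf (nat_lit 37615109))))) (BT.node (nat_lit 12824832) (BT.node (nat_lit 12824704) (BT.node (nat_lit 12824640) (BT.leaf (nat_lit 35671057)) (BT.leaf (nat_lit 51884821))) (BT.node (nat_lit 12824768) (BT.leaf (nat_lit 52222981)) (BT.leaf (nat_lit 50716693)))) (BT.node (nat_lit 12824960) (BT.node (nat_lit 12824896) (BT.leaf (nat_lit 48539153)) (BT.leaf (nat_lit 48116237))) (BT.node (nat_lit 12825024) (BT.leaf (nat_lit 46400533)) (BT.leaf (nat_lit 35674393)))))))) (BT.node (nat_lit 12828160) (BT.node (nat_lit 12826560) (BT.node (nat_lit 12825728) (BT.node (nat_lit 12825472) (BT.node (nat_lit 12825344) (BT.node (nat_lit 12825152) (BT.leaf (nat_lit 35674397)) (BT.leaf (nat_lit 35674901))) (BT.node (nat_lit 12825408) (BT.leaf (nat_lit 51301661)) (BT.leaf (nat_lit 52093973)))) (BT.node (nat_lit 12825600) (BT.node (nat_lit 12825536) (BT.leaf (nat_lit 35675409)) (BT.leaf (nat_lit 49120033))) (BT.node (nat_lit 12825664) (BT.leaf (nat_lit 48716549)) (BT.leaf (nat_lit 51420421))))) (BT.node (nat_lit 12826112) (BT.node (nat_lit 12825920) (BT.node (nat_lit 12825792) (BT.leaf (nat_lit 35676949)) (BT.leaf (nat_lit 37017881))) (BT.node (nat_lit 12825984) (BT.leaf (nat_lit 37018129)) (BT.leaf (nat_lit 37018133)))) (BT.node (nat_lit 12826304) (BT.node (nat_lit 12826176) (BT.leaf (nat_lit 35680281)) (BT.leaf (nat_lit 51883281))) (BT.node (nat_lit 12826496) (BT.leaf (nat_lit 35681813)) (BT.leaf (nat_lit 35683605)))))) (BT.node (nat_lit 12827520) (BT.node (nat_lit 12827136) (BT.node (nat_lit 12826944) (BT.node (nat_lit 12826880) (BT.leaf (nat_lit 51088137)) (BT.leaf (nat_lit 36323105))) (BT.node (nat_lit 12827072) (BT.leaf (nat_lit 36429077)) (BT.leaf (nat_lit 35692061)))) (BT.node (nat_lit 12827328) (BT.node (nat_lit 12827200) (BT.leaf (nat_lit 51958293)) (BT.leaf (nat_lit 35694105))) (BT.node (nat_lit 12827456) (BT.leaf (nat_lit 35694861)) (BT.leaf (nat_lit 35694857))))) (BT.node (nat_lit 12827904) (BT.node (nat_lit 12827648) (BT.node (nat_lit 12827584) (BT.leaf (nat_lit 35696905)) (BT.leaf (nat_lit 35697173))) (BT.node (nat_lit 12827840) (BT.leaf (nat_lit 50141445)) (BT.leaf (nat_lit 35698201)))) (BT.node (nat_lit 12828032) (BT.node (nat_lit 12827968) (BT.leaf (nat_lit 35698205)) (BT.leaf (nat_lit 35698461))) (BT.node (nat_lit 12828096) (BT.leaf (nat_lit 35698709)) (BT.leaf (nat_lit 35699221))))))) (BT.node (nat_lit 12829824) (BT.node (nat_lit 12829120) (BT.node (nat_lit 12828736) (BT.node (nat_lit 12828352) (BT.node (nat_lit 12828224) (BT.leaf (nat_lit 35699473)) (BT.leaf (nat_lit 52161041))) (BT.node (nat_lit 12828672) (BT.leaf (nat_lit 36616981)) (BT.leaf (nat_lit 49812769)))) (BT.node (nat_lit 12828992) (BT.node (nat_lit 12828928) (BT.leaf (nat_lit 46916369)) (BT.leaf (nat_lit 35709193))) (BT.node (nat_lit 12829056) (BT.leaf (nat_lit 49569285)) (BT.leaf (nat_lit 35710497))))) (BT.node (nat_lit 12829376) (BT.node (nat_lit 12829248) (BT.node (nat_lit 12829184) (BT.leaf (nat_lit 35711257)) (BT.leaf (nat_lit 35711261))) (BT.node (nat_lit 12829312) (BT.leaf (nat_lit 35712789)) (BT.leaf (nat_lit 36631065)))) (BT.node (nat_lit 12829504) (BT.node (nat_lit 12829440) (BT.leaf (nat_lit 49564697)) (BT.leaf (nat_lit 35714325))) (BT.node (nat_lit 12829568) (BT.leaf (nat_lit 35714589)) (BT.leaf (nat_lit 38047241)))))) (BT.node (nat_lit 12830336) (BT.node (nat_lit 12830080) (BT.node (nat_lit 12829952) (BT.node (nat_lit 12829888) (BT.leaf (nat_lit 50041877)) (BT.leaf (nat_lit 35718409))) (BT.node (nat_lit 12830016) (BT.leaf (nat_lit 35718413)) (BT.leaf (nat_lit 35718425)))) (BT.node (nat_lit 12830208) (BT.node (nat_lit 12830144) (BT.leaf (nat_lit 35718429)) (BT.leaf (nat_lit 35718673))) (BT.node (nat_lit 12830272) (BT.leaf (nat_lit 35718677)) (BT.leaf (nat_lit 35719945))))) (BT.node (nat_lit 12830912) (BT.node (nat_lit 12830464) (BT.node (nat_lit 12830400) (BT.leaf (nat_lit 35719949)) (BT.leaf (nat_lit 35720733))) (BT.node (nat_lit 12830848) (BT.leaf (nat_lit 35721237)) (BT.leaf (nat_lit 50272517)))) (BT.node (nat_lit 12831040) (BT.node (nat_lit 12830976) (BT.leaf (nat_lit 36355077)) (BT.leaf (nat_lit 35723037))) (BT.node (nat_lit 12831104) (BT.leaf (nat_lit 35788313)) (BT.leaf (nat_lit 51562777))))))))) (BT.node (nat_lit 12836096) (BT.node (nat_lit 12833408) (BT.node (nat_lit 12832320) (BT.node (nat_lit 12831744) (BT.node (nat_lit 12831488) (BT.node (nat_lit 12831296) (BT.node (nat_lit 12831232) (BT.leaf (nat_lit 36224285)) (BT.leaf (nat_lit 52372485))) (BT.node (nat_lit 12831360) (BT.leaf (nat_lit 35724833)) (BT.leaf (nat_lit 35725601)))) (BT.node (nat_lit 12831616) (BT.node (nat_lit 12831552) (BT.leaf (nat_lit 35724825)) (BT.leaf (nat_lit 35724829))) (BT.node (nat_lit 12831680) (BT.leaf (nat_lit 35725081)) (BT.leaf (nat_lit 36614421))))) (BT.node (nat_lit 12832000) (BT.node (nat_lit 12831872) (BT.node (nat_lit 12831808) (BT.leaf (nat_lit 36533785)) (BT.leaf (nat_lit 51853081))) (BT.node (nat_lit 12831936) (BT.leaf (nat_lit 52207893)) (BT.leaf (nat_lit 51945249)))) (BT.node (nat_lit 12832128) (BT.node (nat_lit 12832064) (BT.leaf (nat_lit 37095697)) (BT.leaf (nat_lit 37160965))) (BT.node (nat_lit 12832256) (BT.leaf (nat_lit 52196101)) (BT.leaf (nat_lit 49140745)))))) (BT.node (nat_lit 12832896) (BT.node (nat_lit 12832512) (BT.node (nat_lit 12832388) (BT.node (nat_lit 12832384) (BT.leaf (nat_lit 36802057)) (BT.leaf (nat_lit 37669397))) (BT.node (nat_lit 12832448) (BT.leaf (nat_lit 810660)) (BT.leaf (nat_lit 52444181)))) (BT.node (nat_lit 12832768) (BT.node (nat_lit 12832576) (BT.leaf (nat_lit 51329801)) (BT.leaf (nat_lit 52290837))) (BT.node (nat_lit 12832832) (BT.leaf (nat_lit 36556569)) (BT.leaf (nat_lit 37578017))))) (BT.node (nat_lit 12833152) (BT.node (nat_lit 12833024) (BT.node (nat_lit 12832960) (BT.leaf (nat_lit 51645725)) (BT.leaf (nat_lit 35732245))) (BT.node (nat_lit 12833088) (BT.leaf (nat_lit 35733521)) (BT.leaf (nat_lit 40037149)))) (BT.node (nat_lit 12833280) (BT.node (nat_lit 12833216) (BT.leaf (nat_lit 36656417)) (BT.leaf (nat_lit 51601157))) (BT.node (nat_lit 12833344) (BT.leaf (nat_lit 35734293)) (BT.leaf (nat_lit 36638981))))))) (BT.node (nat_lit 12834816) (BT.node (nat_lit 12834112) (BT.node (nat_lit 12833856) (BT.node (nat_lit 12833728) (BT.node (nat_lit 12833536) (BT.leaf (nat_lit 36639237)) (BT.leaf (nat_lit 51709985))) (BT.node (nat_lit 12833792) (BT.leaf (nat_lit 35736857)) (BT.leaf (nat_lit 51692313)))) (BT.node (nat_lit 12833984) (BT.node (nat_lit 12833920) (BT.leaf (nat_lit 51250965)) (BT.leaf (nat_lit 35737113))) (BT.node (nat_lit 12834048) (BT.leaf (nat_lit 35737117)) (BT.leaf (nat_lit 51285017))))) (BT.node (nat_lit 12834560) (BT.node (nat_lit 12834240) (BT.node (nat_lit 12834176) (BT.leaf (nat_lit 35737885)) (BT.leaf (nat_lit 35738137))) (BT.node (nat_lit 12834304) (BT.leaf (nat_lit 51138837)) (BT.leaf (nat_lit 51976225)))) (BT.node (nat_lit 12834688) (BT.node (nat_lit 12834624) (BT.leaf (nat_lit 35744021)) (BT.leaf (nat_lit 44579333))) (BT.node (nat_lit 12834752) (BT.leaf (nat_lit 35744533)) (BT.leaf (nat_lit 35746325)))))) (BT.node (nat_lit 12835456) (BT.node (nat_lit 12835072) (BT.node (nat_lit 12834944) (BT.node (nat_lit 12834880) (BT.leaf (nat_lit 35746581)) (BT.leaf (nat_lit 35747349))) (BT.node (nat_lit 12835008) (BT.leaf (nat_lit 52403993)) (BT.leaf (nat_lit 36485149)))) (BT.node (nat_lit 12835328) (BT.node (nat_lit 12835136) (BT.leaf (nat_lit 35748373)) (BT.leaf (nat_lit 35748629))) (BT.node (nat_lit 12835392) (BT.leaf (nat_lit 37345813)) (BT.leaf (nat_lit 50927381))))) (BT.node (nat_lit 12835776) (BT.node (nat_lit 12835648) (BT.node (nat_lit 12835520) (BT.leaf (nat_lit 36606993)) (BT.leaf (nat_lit 35750681))) (BT.node (nat_lit 12835712) (BT.leaf (nat_lit 35751197)) (BT.leaf (nat_lit 35751709)))) (BT.node (nat_lit 12835968) (BT.node (nat_lit 12835840) (BT.leaf (nat_lit 35752477)) (BT.leaf (nat_lit 35752729))) (BT.node (nat_lit 12836032) (BT.leaf (nat_lit 35755545)) (BT.leaf (nat_lit 35755801)))))))) (BT.node (nat_lit 12838976) (BT.node (nat_lit 12837376) (BT.node (nat_lit 12836736) (BT.node (nat_lit 12836544) (BT.node (nat_lit 12836416) (BT.node (nat_lit 12836160) (BT.leaf (nat_lit 51392021)) (BT.leaf (nat_lit 35756569))) (BT.node (nat_lit 12836480) (BT.leaf (nat_lit 35759897)) (BT.leaf (nat_lit 35759901)))) (BT.node (nat_lit 12836608) (BT.node (nat_lit 12836545) (BT.leaf (nat_lit 35760401)) (BT.leaf (nat_lit 807124))) (BT.node (nat_lit 12836672) (BT.leaf (nat_lit 49855505)) (BT.leaf (nat_lit 35761165))))) (BT.node (nat_lit 12836992) (BT.node (nat_lit 12836864) (BT.node (nat_lit 12836800) (BT.leaf (nat_lit 35761681)) (BT.leaf (nat_lit 35762193))) (BT.node (nat_lit 12836928) (BT.leaf (nat_lit 43367441)) (BT.leaf (nat_lit 52152593)))) (BT.node (nat_lit 12837248) (BT.node (nat_lit 12837120) (BT.leaf (nat_lit 37494037)) (BT.leaf (nat_lit 35765009))) (BT.node (nat_lit 12837312) (BT.leaf (nat_lit 35765529)) (BT.leaf (nat_lit 35766033)))))) (BT.node (nat_lit 12838144) (BT.node (nat_lit 12837696) (BT.node (nat_lit 12837568) (BT.node (nat_lit 12837440) (BT.leaf (nat_lit 35767577)) (BT.leaf (nat_lit 35767581))) (BT.node (nat_lit 12837632) (BT.leaf (nat_lit 51681541)) (BT.leaf (nat_lit 51350297)))) (BT.node (nat_lit 12837824) (BT.node (nat_lit 12837760) (BT.leaf (nat_lit 36655121)) (BT.leaf (nat_lit 51351577))) (BT.node (nat_lit 12837888) (BT.leaf (nat_lit 36354845)) (BT.leaf (nat_lit 36354821))))) (BT.node (nat_lit 12838592) (BT.node (nat_lit 12838400) (BT.node (nat_lit 12838208) (BT.leaf (nat_lit 51666449)) (BT.leaf (nat_lit 51666441))) (BT.node (nat_lit 12838464) (BT.leaf (nat_lit 37039629)) (BT.leaf (nat_lit 35773461)))) (BT.node (nat_lit 12838848) (BT.node (nat_lit 12838784) (BT.leaf (nat_lit 51222561)) (BT.leaf (nat_lit 48402185))) (BT.node (nat_lit 12838912) (BT.leaf (nat_lit 35774985)) (BT.leaf (nat_lit 35774989))))))) (BT.node (nat_lit 12840192) (BT.node (nat_lit 12839680) (BT.node (nat_lit 12839232) (BT.node (nat_lit 12839104) (BT.node (nat_lit 12839040) (BT.leaf (nat_lit 35775001)) (BT.leaf (nat_lit 49146889))) (BT.node (nat_lit 12839168) (BT.leaf (nat_lit 35776801)) (BT.leaf (nat_lit 35777049)))) (BT.node (nat_lit 12839552) (BT.node (nat_lit 12839488) (BT.leaf (nat_lit 35777561)) (BT.leaf (nat_lit 35782405))) (BT.node (nat_lit 12839616) (BT.leaf (nat_lit 35782425)) (BT.leaf (nat_lit 35782429))))) (BT.node (nat_lit 12839936) (BT.node (nat_lit 12839808) (BT.node (nat_lit 12839744) (BT.leaf (nat_lit 35782677)) (BT.leaf (nat_lit 35783189))) (BT.node (nat_lit 12839872) (BT.leaf (nat_lit 35783445)) (BT.leaf (nat_lit 35783453)))) (BT.node (nat_lit 12840064) (BT.node (nat_lit 12840000) (BT.leaf (nat_lit 48861457)) (BT.leaf (nat_lit 50210849))) (BT.node (nat_lit 12840128) (BT.leaf (nat_lit 35784481)) (BT.leaf (nat_lit 37639453)))))) (BT.node (nat_lit 12840832) (BT.node (nat_lit 12840512) (BT.node (nat_lit 12840320) (BT.node (nat_lit 12840256) (BT.leaf (nat_lit 37639433)) (BT.leaf (nat_lit 35785489))) (BT.node (nat_lit 12840384) (BT.leaf (nat_lit 35785245)) (BT.leaf (nat_lit 35785493)))) (BT.node (nat_lit 12840640) (BT.node (nat_lit 12840576) (BT.leaf (nat_lit 36653073)) (BT.leaf (nat_lit 35786781))) (BT.node (nat_lit 12840768) (BT.leaf (nat_lit 35788309)) (BT.leaf (nat_lit 51408669))))) (BT.node (nat_lit 12841216) (BT.node (nat_lit 12840960) (BT.node (nat_lit 12840896) (BT.leaf (nat_lit 51646229)) (BT.leaf (nat_lit 35789073))) (BT.node (nat_lit 12841024) (BT.leaf (nat_lit 37319445)) (BT.leaf (nat_lit 50928413)))) (BT.node (nat_lit 12841408) (BT.node (nat_lit 12841280) (BT.leaf (nat_lit 35792145)) (BT.leaf (nat_lit 35792921))) (BT.node (nat_lit 12841536) (BT.leaf (nat_lit 35793941)) (BT.leaf (nat_lit 37198353)))))))))))) (BT.node (nat_lit 12884160) (BT.node (nat_lit 12863168) (BT.node (nat_lit 12852160) (BT.node (nat_lit 12847168) (BT.node (nat_lit 12844928) (BT.node (nat_lit 12843328) (BT.node (nat_lit 12842304) (BT.node (nat_lit 12841984) (BT.node (nat_lit 12841728) (BT.node (nat_lit 12841664) (BT.leaf (nat_lit 35795481)) (BT.leaf (nat_lit 47666977))) (BT.node (nat_lit 12841920) (BT.leaf (nat_lit 35797265)) (BT.leaf (nat_lit 35798805)))) (BT.node (nat_lit 12842112) (BT.node (nat_lit 12842048) (BT.leaf (nat_lit 35799577)) (BT.leaf (nat_lit 37226757))) (BT.node (nat_lit 12842176) (BT.leaf (nat_lit 35801369)) (BT.leaf (nat_lit 50011657))))) (BT.node (nat_lit 12842624) (BT.node (nat_lit 12842496) (BT.node (nat_lit 12842368) (BT.leaf (nat_lit 35803929)) (BT.leaf (nat_lit 35804433))) (BT.node (nat_lit 12842560) (BT.leaf (nat_lit 51278101)) (BT.leaf (nat_lit 37263381)))) (BT.node (nat_lit 12842944) (BT.node (nat_lit 12842688) (BT.leaf (nat_lit 51366661)) (BT.leaf (nat_lit 51375633))) (BT.node (nat_lit 12843008) (BT.leaf (nat_lit 48565765)) (BT.leaf (nat_lit 35812373)))))) (BT.node (nat_lit 12843904) (BT.node (nat_lit 12843648) (BT.node (nat_lit 12843520) (BT.node (nat_lit 12843392) (BT.leaf (nat_lit 50298401)) (BT.leaf (nat_lit 35815445))) (BT.node (nat_lit 12843584) (BT.leaf (nat_lit 51536413)) (BT.leaf (nat_lit 51536393)))) (BT.node (nat_lit 12843776) (BT.node (nat_lit 12843712) (BT.leaf (nat_lit 35818261)) (BT.leaf (nat_lit 35818265))) (BT.node (nat_lit 12843840) (BT.leaf (nat_lit 35818521)) (BT.leaf (nat_lit 35819525))))) (BT.node (nat_lit 12844288) (BT.node (nat_lit 12844032) (BT.node (nat_lit 12843968) (BT.leaf (nat_lit 35819029)) (BT.leaf (nat_lit 35819541))) (BT.node (nat_lit 12844224) (BT.leaf (nat_lit 37613585)) (BT.leaf (nat_lit 35822873)))) (BT.node (nat_lit 12844672) (BT.node (nat_lit 12844480) (BT.leaf (nat_lit 51730437)) (BT.leaf (nat_lit 49891097))) (BT.node (nat_lit 12844736) (BT.leaf (nat_lit 35825693)) (BT.leaf (nat_lit 35825945))))))) (BT.node (nat_lit 12846144) (BT.node (nat_lit 12845632) (BT.node (nat_lit 12845376) (BT.node (nat_lit 12845120) (BT.node (nat_lit 12845056) (BT.leaf (nat_lit 51201045)) (BT.leaf (nat_lit 51466517))) (BT.node (nat_lit 12845248) (BT.leaf (nat_lit 49818401)) (BT.leaf (nat_lit 51278597)))) (BT.node (nat_lit 12845504) (BT.node (nat_lit 12845440) (BT.leaf (nat_lit 35828765)) (BT.leaf (nat_lit 35829013))) (BT.node (nat_lit 12845568) (BT.leaf (nat_lit 35829273)) (BT.leaf (nat_lit 50702617))))) (BT.node (nat_lit 12845888) (BT.node (nat_lit 12845760) (BT.node (nat_lit 12845696) (BT.leaf (nat_lit 35829765)) (BT.leaf (nat_lit 35829781))) (BT.node (nat_lit 12845824) (BT.leaf (nat_lit 46779141)) (BT.leaf (nat_lit 35830037)))) (BT.node (nat_lit 12846016) (BT.node (nat_lit 12845952) (BT.leaf (nat_lit 47776537)) (BT.leaf (nat_lit 52283141))) (BT.node (nat_lit 12846080) (BT.leaf (nat_lit 51107097)) (BT.leaf (nat_lit 51191833)))))) (BT.node (nat_lit 12846656) (BT.node (nat_lit 12846272) (BT.node (nat_lit 12846208) (BT.node (nat_lit 12846149) (BT.leaf (nat_lit 37300753)) (BT.leaf (nat_lit 816928))) (BT.node (nat_lit 12846213) (BT.leaf (nat_lit 37300769)) (BT.leaf (nat_lit 809008)))) (BT.node (nat_lit 12846528) (BT.node (nat_lit 12846336) (BT.leaf (nat_lit 52442885)) (BT.leaf (nat_lit 52338965))) (BT.node (nat_lit 12846592) (BT.leaf (nat_lit 35834909)) (BT.leaf (nat_lit 51548169))))) (BT.node (nat_lit 12846912) (BT.node (nat_lit 12846784) (BT.node (nat_lit 12846720) (BT.leaf (nat_lit 35836433)) (BT.leaf (nat_lit 35837457))) (BT.node (nat_lit 12846848) (BT.leaf (nat_lit 50086921)) (BT.leaf (nat_lit 35840537)))) (BT.node (nat_lit 12847040) (BT.node (nat_lit 12846976) (BT.leaf (nat_lit 35841045)) (BT.leaf (nat_lit 35841049))) (BT.node (nat_lit 12847104) (BT.leaf (nat_lit 35841297)) (BT.leaf (nat_lit 35842073)))))))) (BT.node (nat_lit 12849728) (BT.node (nat_lit 12848384) (BT.node (nat_lit 12847680) (BT.node (nat_lit 12847424) (BT.node (nat_lit 12847296) (BT.node (nat_lit 12847232) (BT.leaf (nat_lit 35842845)) (BT.leaf (nat_lit 49941537))) (BT.node (nat_lit 12847360) (BT.leaf (nat_lit 35844625)) (BT.leaf (nat_lit 35844885)))) (BT.node (nat_lit 12847552) (BT.node (nat_lit 12847488) (BT.leaf (nat_lit 40512261)) (BT.leaf (nat_lit 51205637))) (BT.node (nat_lit 12847616) (BT.leaf (nat_lit 35845657)) (BT.leaf (nat_lit 35845661))))) (BT.node (nat_lit 12848000) (BT.node (nat_lit 12847808) (BT.node (nat_lit 12847744) (BT.leaf (nat_lit 35846169)) (BT.leaf (nat_lit 35847189))) (BT.node (nat_lit 12847872) (BT.leaf (nat_lit 35848465)) (BT.leaf (nat_lit 48119309)))) (BT.node (nat_lit 12848256) (BT.node (nat_lit 12848128) (BT.leaf (nat_lit 36494865)) (BT.leaf (nat_lit 35850777))) (BT.node (nat_lit 12848320) (BT.leaf (nat_lit 35882765)) (BT.leaf (nat_lit 35851545)))))) (BT.node (nat_lit 12849024) (BT.node (nat_lit 12848640) (BT.node (nat_lit 12848512) (BT.node (nat_lit 12848448) (BT.leaf (nat_lit 35851805)) (BT.leaf (nat_lit 46407193))) (BT.node (nat_lit 12848576) (BT.leaf (nat_lit 35852561)) (BT.leaf (nat_lit 35852821)))) (BT.node (nat_lit 12848832) (BT.node (nat_lit 12848704) (BT.leaf (nat_lit 51394845)) (BT.leaf (nat_lit 51409417))) (BT.node (nat_lit 12848960) (BT.leaf (nat_lit 52272917)) (BT.leaf (nat_lit 52273429))))) (BT.node (nat_lit 12849472) (BT.node (nat_lit 12849216) (BT.node (nat_lit 12849152) (BT.leaf (nat_lit 51880981)) (BT.leaf (nat_lit 39025177))) (BT.node (nat_lit 12849344) (BT.leaf (nat_lit 35854357)) (BT.leaf (nat_lit 35855889)))) (BT.node (nat_lit 12849600) (BT.node (nat_lit 12849536) (BT.leaf (nat_lit 35855905)) (BT.leaf (nat_lit 35856389))) (BT.node (nat_lit 12849664) (BT.leaf (nat_lit 35857181)) (BT.leaf (nat_lit 52444677))))))) (BT.node (nat_lit 12850880) (BT.node (nat_lit 12850240) (BT.node (nat_lit 12849984) (BT.node (nat_lit 12849856) (BT.node (nat_lit 12849792) (BT.leaf (nat_lit 35857689)) (BT.leaf (nat_lit 35857693))) (BT.node (nat_lit 12849920) (BT.leaf (nat_lit 35858705)) (BT.leaf (nat_lit 47969285)))) (BT.node (nat_lit 12850112) (BT.node (nat_lit 12850048) (BT.leaf (nat_lit 35860241)) (BT.leaf (nat_lit 51816993))) (BT.node (nat_lit 12850176) (BT.leaf (nat_lit 51138565)) (BT.leaf (nat_lit 36115985))))) (BT.node (nat_lit 12850560) (BT.node (nat_lit 12850432) (BT.node (nat_lit 12850304) (BT.leaf (nat_lit 51910157)) (BT.leaf (nat_lit 51476001))) (BT.node (nat_lit 12850496) (BT.leaf (nat_lit 35863317)) (BT.leaf (nat_lit 35863569)))) (BT.node (nat_lit 12850752) (BT.node (nat_lit 12850688) (BT.leaf (nat_lit 35864085)) (BT.leaf (nat_lit 52102161))) (BT.node (nat_lit 12850816) (BT.leaf (nat_lit 36685089)) (BT.leaf (nat_lit 52362773)))))) (BT.node (nat_lit 12851456) (BT.node (nat_lit 12851200) (BT.node (nat_lit 12851008) (BT.node (nat_lit 12850944) (BT.leaf (nat_lit 36483861)) (BT.leaf (nat_lit 37263129))) (BT.node (nat_lit 12851136) (BT.leaf (nat_lit 49917449)) (BT.leaf (nat_lit 51404813)))) (BT.node (nat_lit 12851328) (BT.node (nat_lit 12851264) (BT.leaf (nat_lit 52066325)) (BT.leaf (nat_lit 35871261))) (BT.node (nat_lit 12851392) (BT.leaf (nat_lit 35871765)) (BT.leaf (nat_lit 35871773))))) (BT.node (nat_lit 12851712) (BT.node (nat_lit 12851584) (BT.node (nat_lit 12851520) (BT.leaf (nat_lit 35873313)) (BT.leaf (nat_lit 35873569))) (BT.node (nat_lit 12851648) (BT.leaf (nat_lit 35873825)) (BT.leaf (nat_lit 35875853)))) (BT.node (nat_lit 12852032) (BT.node (nat_lit 12851904) (BT.leaf (nat_lit 35876373)) (BT.leaf (nat_lit 35877649))) (BT.node (nat_lit 12852096) (BT.leaf (nat_lit 35878177)) (BT.leaf (nat_lit 51401221))))))))) (BT.node (nat_lit 12857792) (BT.node (nat_lit 12854720) (BT.node (nat_lit 12853312) (BT.node (nat_lit 12852672) (BT.node (nat_lit 12852416) (BT.node (nat_lit 12852288) (BT.node (nat_lit 12852224) (BT.leaf (nat_lit 37315345)) (BT.leaf (nat_lit 51349525))) (BT.node (nat_lit 12852352) (BT.leaf (nat_lit 52179205)) (BT.leaf (nat_lit 52201493)))) (BT.node (nat_lit 12852544) (BT.node (nat_lit 12852480) (BT.leaf (nat_lit 51395353)) (BT.leaf (nat_lit 51266849))) (BT.node (nat_lit 12852608) (BT.leaf (nat_lit 37598497)) (BT.leaf (nat_lit 52203293))))) (BT.node (nat_lit 12852928) (BT.node (nat_lit 12852800) (BT.node (nat_lit 12852736) (BT.leaf (nat_lit 35884809)) (BT.leaf (nat_lit 35884813))) (BT.node (nat_lit 12852864) (BT.leaf (nat_lit 35884825)) (BT.leaf (nat_lit 35885077)))) (BT.node (nat_lit 12853184) (BT.node (nat_lit 12852992) (BT.leaf (nat_lit 35886357)) (BT.leaf (nat_lit 50413853))) (BT.node (nat_lit 12853248) (BT.leaf (nat_lit 35974937)) (BT.leaf (nat_lit 50229281)))))) (BT.node (nat_lit 12853952) (BT.node (nat_lit 12853632) (BT.node (nat_lit 12853440) (BT.node (nat_lit 12853376) (BT.leaf (nat_lit 50229273)) (BT.leaf (nat_lit 50229261))) (BT.node (nat_lit 12853568) (BT.leaf (nat_lit 40788001)) (BT.leaf (nat_lit 51238945)))) (BT.node (nat_lit 12853824) (BT.node (nat_lit 12853696) (BT.leaf (nat_lit 40736529)) (BT.leaf (nat_lit 51939589))) (BT.node (nat_lit 12853888) (BT.leaf (nat_lit 35894541)) (BT.leaf (nat_lit 49836317))))) (BT.node (nat_lit 12854464) (BT.node (nat_lit 12854272) (BT.node (nat_lit 12854144) (BT.leaf (nat_lit 35894805)) (BT.leaf (nat_lit 37680645))) (BT.node (nat_lit 12854400) (BT.leaf (nat_lit 51938829)) (BT.leaf (nat_lit 36827917)))) (BT.node (nat_lit 12854592) (BT.node (nat_lit 12854528) (BT.leaf (nat_lit 35899665)) (BT.leaf (nat_lit 44837409))) (BT.node (nat_lit 12854656) (BT.leaf (nat_lit 47453985)) (BT.leaf (nat_lit 37288213))))))) (BT.node (nat_lit 12856192) (BT.node (nat_lit 12855424) (BT.node (nat_lit 12855040) (BT.node (nat_lit 12854912) (BT.node (nat_lit 12854784) (BT.leaf (nat_lit 37234961)) (BT.leaf (nat_lit 50059525))) (BT.node (nat_lit 12854976) (BT.leaf (nat_lit 35908633)) (BT.leaf (nat_lit 35908637)))) (BT.node (nat_lit 12855168) (BT.node (nat_lit 12855104) (BT.leaf (nat_lit 35908893)) (BT.leaf (nat_lit 37906977))) (BT.node (nat_lit 12855232) (BT.leaf (nat_lit 35910417)) (BT.leaf (nat_lit 36411681))))) (BT.node (nat_lit 12855936) (BT.node (nat_lit 12855552) (BT.node (nat_lit 12855488) (BT.leaf (nat_lit 35913477)) (BT.leaf (nat_lit 51420949))) (BT.node (nat_lit 12855680) (BT.leaf (nat_lit 48310037)) (BT.leaf (nat_lit 50351893)))) (BT.node (nat_lit 12856064) (BT.node (nat_lit 12856000) (BT.leaf (nat_lit 49826593)) (BT.leaf (nat_lit 37122585))) (BT.node (nat_lit 12856128) (BT.leaf (nat_lit 37122589)) (BT.leaf (nat_lit 35916569)))))) (BT.node (nat_lit 12856768) (BT.node (nat_lit 12856512) (BT.node (nat_lit 12856384) (BT.node (nat_lit 12856256) (BT.leaf (nat_lit 35916825)) (BT.leaf (nat_lit 46433305))) (BT.node (nat_lit 12856448) (BT.leaf (nat_lit 35917329)) (BT.leaf (nat_lit 47021853)))) (BT.node (nat_lit 12856640) (BT.node (nat_lit 12856576) (BT.leaf (nat_lit 50454277)) (BT.leaf (nat_lit 51938821))) (BT.node (nat_lit 12856704) (BT.leaf (nat_lit 49853473)) (BT.leaf (nat_lit 48053777))))) (BT.node (nat_lit 12857216) (BT.node (nat_lit 12856896) (BT.node (nat_lit 12856832) (BT.leaf (nat_lit 35918617)) (BT.leaf (nat_lit 37647365))) (BT.node (nat_lit 12857024) (BT.leaf (nat_lit 36849925)) (BT.leaf (nat_lit 36624657)))) (BT.node (nat_lit 12857536) (BT.node (nat_lit 12857280) (BT.leaf (nat_lit 35921433)) (BT.leaf (nat_lit 37277957))) (BT.node (nat_lit 12857600) (BT.leaf (nat_lit 49439249)) (BT.leaf (nat_lit 52014353)))))))) (BT.node (nat_lit 12860160) (BT.node (nat_lit 12859008) (BT.node (nat_lit 12858432) (BT.node (nat_lit 12858048) (BT.node (nat_lit 12857920) (BT.node (nat_lit 12857856) (BT.leaf (nat_lit 36351509)) (BT.leaf (nat_lit 49805845))) (BT.node (nat_lit 12857984) (BT.leaf (nat_lit 35929625)) (BT.leaf (nat_lit 50143253)))) (BT.node (nat_lit 12858240) (BT.node (nat_lit 12858176) (BT.leaf (nat_lit 46476813)) (BT.leaf (nat_lit 46485021))) (BT.node (nat_lit 12858304) (BT.leaf (nat_lit 52121093)) (BT.leaf (nat_lit 35932185))))) (BT.node (nat_lit 12858688) (BT.node (nat_lit 12858560) (BT.node (nat_lit 12858496) (BT.leaf (nat_lit 37259809)) (BT.leaf (nat_lit 35933217))) (BT.node (nat_lit 12858624) (BT.leaf (nat_lit 35934225)) (BT.leaf (nat_lit 35934737)))) (BT.node (nat_lit 12858816) (BT.node (nat_lit 12858752) (BT.leaf (nat_lit 35935005)) (BT.leaf (nat_lit 35935253))) (BT.node (nat_lit 12858944) (BT.leaf (nat_lit 35935509)) (BT.leaf (nat_lit 50223885)))))) (BT.node (nat_lit 12859520) (BT.node (nat_lit 12859264) (BT.node (nat_lit 12859136) (BT.node (nat_lit 12859072) (BT.leaf (nat_lit 50520337)) (BT.leaf (nat_lit 46980633))) (BT.node (nat_lit 12859200) (BT.leaf (nat_lit 35952661)) (BT.leaf (nat_lit 48728333)))) (BT.node (nat_lit 12859392) (BT.node (nat_lit 12859328) (BT.leaf (nat_lit 50035485)) (BT.leaf (nat_lit 46721041))) (BT.node (nat_lit 12859456) (BT.leaf (nat_lit 48305157)) (BT.leaf (nat_lit 49800981))))) (BT.node (nat_lit 12859904) (BT.node (nat_lit 12859712) (BT.node (nat_lit 12859648) (BT.leaf (nat_lit 35939861)) (BT.leaf (nat_lit 52306465))) (BT.node (nat_lit 12859840) (BT.leaf (nat_lit 35941149)) (BT.leaf (nat_lit 35947293)))) (BT.node (nat_lit 12860032) (BT.node (nat_lit 12859968) (BT.leaf (nat_lit 47997445)) (BT.leaf (nat_lit 35949085))) (BT.node (nat_lit 12860096) (BT.leaf (nat_lit 35950357)) (BT.leaf (nat_lit 35952133))))))) (BT.node (nat_lit 12861440) (BT.node (nat_lit 12860736) (BT.node (nat_lit 12860480) (BT.node (nat_lit 12860288) (BT.node (nat_lit 12860224) (BT.leaf (nat_lit 50402577)) (BT.leaf (nat_lit 35953681))) (BT.node (nat_lit 12860352) (BT.leaf (nat_lit 50220833)) (BT.leaf (nat_lit 35955481)))) (BT.node (nat_lit 12860608) (BT.node (nat_lit 12860544) (BT.leaf (nat_lit 35958301)) (BT.leaf (nat_lit 36995853))) (BT.node (nat_lit 12860672) (BT.leaf (nat_lit 51312393)) (BT.leaf (nat_lit 46544905))))) (BT.node (nat_lit 12861184) (BT.node (nat_lit 12860928) (BT.node (nat_lit 12860864) (BT.leaf (nat_lit 48167945)) (BT.leaf (nat_lit 50295317))) (BT.node (nat_lit 12860992) (BT.leaf (nat_lit 49028101)) (BT.leaf (nat_lit 50862113)))) (BT.node (nat_lit 12861312) (BT.node (nat_lit 12861248) (BT.leaf (nat_lit 36216581)) (BT.leaf (nat_lit 51492125))) (BT.node (nat_lit 12861376) (BT.leaf (nat_lit 52289565)) (BT.leaf (nat_lit 35966741)))))) (BT.node (nat_lit 12862080) (BT.node (nat_lit 12861824) (BT.node (nat_lit 12861696) (BT.node (nat_lit 12861632) (BT.leaf (nat_lit 51986209)) (BT.leaf (nat_lit 37528589))) (BT.node (nat_lit 12861760) (BT.leaf (nat_lit 35971601)) (BT.leaf (nat_lit 35971861)))) (BT.node (nat_lit 12861952) (BT.node (nat_lit 12861888) (BT.leaf (nat_lit 51405585)) (BT.leaf (nat_lit 35973145))) (BT.node (nat_lit 12862016) (BT.leaf (nat_lit 35973149)) (BT.leaf (nat_lit 35974429))))) (BT.node (nat_lit 12862592) (BT.node (nat_lit 12862272) (BT.node (nat_lit 12862208) (BT.leaf (nat_lit 35974677)) (BT.leaf (nat_lit 35975949))) (BT.node (nat_lit 12862528) (BT.leaf (nat_lit 35978257)) (BT.leaf (nat_lit 49923085)))) (BT.node (nat_lit 12862784) (BT.node (nat_lit 12862656) (BT.leaf (nat_lit 35980317)) (BT.leaf (nat_lit 35979297))) (BT.node (nat_lit 12863104) (BT.leaf (nat_lit 50418717)) (BT.leaf (nat_lit 38957085)))))))))) (BT.node (nat_lit 12873088) (BT.node (nat_lit 12867520) (BT.node (nat_lit 12865344) (BT.node (nat_lit 12864320) (BT.node (nat_lit 12863680) (BT.node (nat_lit 12863424) (BT.node (nat_lit 12863296) (BT.node (nat_lit 12863232) (BT.leaf (nat_lit 50265357)) (BT.leaf (nat_lit 50565913))) (BT.node (nat_lit 12863360) (BT.leaf (nat_lit 35985693)) (BT.leaf (nat_lit 35986705)))) (BT.node (nat_lit 12863552) (BT.node (nat_lit 12863488) (BT.leaf (nat_lit 37627681)) (BT.leaf (nat_lit 48334877))) (BT.node (nat_lit 12863616) (BT.leaf (nat_lit 49009429)) (BT.leaf (nat_lit 50008597))))) (BT.node (nat_lit 12864000) (BT.node (nat_lit 12863808) (BT.node (nat_lit 12863744) (BT.leaf (nat_lit 35989529)) (BT.leaf (nat_lit 35989781))) (BT.node (nat_lit 12863872) (BT.leaf (nat_lit 36635681)) (BT.leaf (nat_lit 36635425)))) (BT.node (nat_lit 12864192) (BT.node (nat_lit 12864064) (BT.leaf (nat_lit 36980485)) (BT.leaf (nat_lit 52187925))) (BT.node (nat_lit 12864256) (BT.leaf (nat_lit 35992601)) (BT.leaf (nat_lit 35992605)))))) (BT.node (nat_lit 12864832) (BT.node (nat_lit 12864576) (BT.node (nat_lit 12864448) (BT.node (nat_lit 12864384) (BT.leaf (nat_lit 35993625)) (BT.leaf (nat_lit 35993629))) (BT.node (nat_lit 12864512) (BT.leaf (nat_lit 35994901)) (BT.leaf (nat_lit 50623517)))) (BT.node (nat_lit 12864704) (BT.node (nat_lit 12864640) (BT.leaf (nat_lit 47066637)) (BT.leaf (nat_lit 35995413))) (BT.node (nat_lit 12864768) (BT.leaf (nat_lit 35996189)) (BT.leaf (nat_lit 35996701))))) (BT.node (nat_lit 12865088) (BT.node (nat_lit 12864960) (BT.node (nat_lit 12864896) (BT.leaf (nat_lit 35996937)) (BT.leaf (nat_lit 35996941))) (BT.node (nat_lit 12865024) (BT.leaf (nat_lit 45999125)) (BT.leaf (nat_lit 35996957)))) (BT.node (nat_lit 12865216) (BT.node (nat_lit 12865152) (BT.leaf (nat_lit 35997457)) (BT.leaf (nat_lit 35998481))) (BT.node (nat_lit 12865280) (BT.leaf (nat_lit 35998497)) (BT.leaf (nat_lit 37783045))))))) (BT.node (nat_lit 12866368) (BT.node (nat_lit 12865856) (BT.node (nat_lit 12865600) (BT.node (nat_lit 12865472) (BT.node (nat_lit 12865408) (BT.leaf (nat_lit 50492165)) (BT.leaf (nat_lit 50492421))) (BT.node (nat_lit 12865536) (BT.leaf (nat_lit 48192289)) (BT.leaf (nat_lit 36000025)))) (BT.node (nat_lit 12865728) (BT.node (nat_lit 12865664) (BT.leaf (nat_lit 36000029)) (BT.leaf (nat_lit 36000277))) (BT.node (nat_lit 12865792) (BT.leaf (nat_lit 51985929)) (BT.leaf (nat_lit 36000533))))) (BT.node (nat_lit 12866112) (BT.node (nat_lit 12865984) (BT.node (nat_lit 12865920) (BT.leaf (nat_lit 37665797)) (BT.leaf (nat_lit 52137237))) (BT.node (nat_lit 12866048) (BT.leaf (nat_lit 36003353)) (BT.leaf (nat_lit 50662421)))) (BT.node (nat_lit 12866240) (BT.node (nat_lit 12866176) (BT.leaf (nat_lit 50258693)) (BT.leaf (nat_lit 36007705))) (BT.node (nat_lit 12866304) (BT.leaf (nat_lit 36884245)) (BT.leaf (nat_lit 36009237)))))) (BT.node (nat_lit 12866816) (BT.node (nat_lit 12866624) (BT.node (nat_lit 12866496) (BT.node (nat_lit 12866432) (BT.leaf (nat_lit 36009245)) (BT.leaf (nat_lit 50428957))) (BT.node (nat_lit 12866560) (BT.leaf (nat_lit 36011281)) (BT.leaf (nat_lit 37619233)))) (BT.node (nat_lit 12866752) (BT.node (nat_lit 12866688) (BT.leaf (nat_lit 47022625)) (BT.leaf (nat_lit 42964505))) (BT.node (nat_lit 12866758) (BT.leaf (nat_lit 36476945)) (BT.leaf (nat_lit 805840))))) (BT.node (nat_lit 12867264) (BT.node (nat_lit 12866944) (BT.node (nat_lit 12866882) (BT.leaf (nat_lit 51574277)) (BT.leaf (nat_lit 806672))) (BT.node (nat_lit 12867200) (BT.leaf (nat_lit 51573277)) (BT.leaf (nat_lit 50351901)))) (BT.node (nat_lit 12867392) (BT.node (nat_lit 12867328) (BT.leaf (nat_lit 50352149)) (BT.leaf (nat_lit 50541081))) (BT.node (nat_lit 12867456) (BT.leaf (nat_lit 36954641)) (BT.leaf (nat_lit 36029205)))))))) (BT.node (nat_lit 12870592) (BT.node (nat_lit 12868736) (BT.node (nat_lit 12868096) (BT.node (nat_lit 12867776) (BT.node (nat_lit 12867648) (BT.node (nat_lit 12867584) (BT.leaf (nat_lit 51470597)) (BT.leaf (nat_lit 36018969))) (BT.node (nat_lit 12867712) (BT.leaf (nat_lit 36018973)) (BT.leaf (nat_lit 36020245)))) (BT.node (nat_lit 12867968) (BT.node (nat_lit 12867840) (BT.leaf (nat_lit 36020249)) (BT.leaf (nat_lit 36021013))) (BT.node (nat_lit 12868032) (BT.leaf (nat_lit 36022805)) (BT.leaf (nat_lit 36269573))))) (BT.node (nat_lit 12868352) (BT.node (nat_lit 12868224) (BT.node (nat_lit 12868160) (BT.leaf (nat_lit 51472653)) (BT.leaf (nat_lit 49847301))) (BT.node (nat_lit 12868288) (BT.leaf (nat_lit 52099605)) (BT.leaf (nat_lit 50889249)))) (BT.node (nat_lit 12868608) (BT.node (nat_lit 12868416) (BT.leaf (nat_lit 36025873)) (BT.leaf (nat_lit 51475477))) (BT.node (nat_lit 12868672) (BT.leaf (nat_lit 36026145)) (BT.leaf (nat_lit 51475737)))))) (BT.node (nat_lit 12869568) (BT.node (nat_lit 12869120) (BT.node (nat_lit 12868928) (BT.node (nat_lit 12868864) (BT.leaf (nat_lit 50672393)) (BT.leaf (nat_lit 51243025))) (BT.node (nat_lit 12869056) (BT.leaf (nat_lit 36867089)) (BT.leaf (nat_lit 36032281)))) (BT.node (nat_lit 12869312) (BT.node (nat_lit 12869184) (BT.leaf (nat_lit 36032285)) (BT.leaf (nat_lit 36078357))) (BT.node (nat_lit 12869376) (BT.leaf (nat_lit 49968649)) (BT.leaf (nat_lit 37693729))))) (BT.node (nat_lit 12869952) (BT.node (nat_lit 12869696) (BT.node (nat_lit 12869632) (BT.leaf (nat_lit 51894289)) (BT.leaf (nat_lit 51419165))) (BT.node (nat_lit 12869824) (BT.leaf (nat_lit 49871389)) (BT.leaf (nat_lit 52335649)))) (BT.node (nat_lit 12870336) (BT.node (nat_lit 12870272) (BT.leaf (nat_lit 50842401)) (BT.leaf (nat_lit 37206789))) (BT.node (nat_lit 12870464) (BT.leaf (nat_lit 46488349)) (BT.leaf (nat_lit 36043793))))))) (BT.node (nat_lit 12871744) (BT.node (nat_lit 12871296) (BT.node (nat_lit 12871040) (BT.node (nat_lit 12870848) (BT.node (nat_lit 12870784) (BT.leaf (nat_lit 36047109)) (BT.leaf (nat_lit 36044305))) (BT.node (nat_lit 12870976) (BT.leaf (nat_lit 36048417)) (BT.leaf (nat_lit 37484573)))) (BT.node (nat_lit 12871168) (BT.node (nat_lit 12871104) (BT.leaf (nat_lit 36046353)) (BT.leaf (nat_lit 37484305))) (BT.node (nat_lit 12871232) (BT.leaf (nat_lit 36047377)) (BT.leaf (nat_lit 52396561))))) (BT.node (nat_lit 12871488) (BT.node (nat_lit 12871360) (BT.node (nat_lit 12871304) (BT.leaf (nat_lit 36047125)) (BT.leaf (nat_lit 818476))) (BT.node (nat_lit 12871424) (BT.leaf (nat_lit 49900305)) (BT.leaf (nat_lit 36047645)))) (BT.node (nat_lit 12871616) (BT.node (nat_lit 12871552) (BT.leaf (nat_lit 36047897)) (BT.leaf (nat_lit 36047901))) (BT.node (nat_lit 12871680) (BT.leaf (nat_lit 36048145)) (BT.leaf (nat_lit 36048401)))))) (BT.node (nat_lit 12872512) (BT.node (nat_lit 12872192) (BT.node (nat_lit 12872064) (BT.node (nat_lit 12872000) (BT.leaf (nat_lit 36048405)) (BT.leaf (nat_lit 36050441))) (BT.node (nat_lit 12872128) (BT.leaf (nat_lit 36050705)) (BT.leaf (nat_lit 36050709)))) (BT.node (nat_lit 12872320) (BT.node (nat_lit 12872256) (BT.leaf (nat_lit 36050969)) (BT.leaf (nat_lit 36050973))) (BT.node (nat_lit 12872448) (BT.leaf (nat_lit 36051717)) (BT.leaf (nat_lit 51157537))))) (BT.node (nat_lit 12872768) (BT.node (nat_lit 12872640) (BT.node (nat_lit 12872576) (BT.leaf (nat_lit 36157973)) (BT.leaf (nat_lit 36054045))) (BT.node (nat_lit 12872704) (BT.leaf (nat_lit 51884577)) (BT.leaf (nat_lit 36058393)))) (BT.node (nat_lit 12872896) (BT.node (nat_lit 12872832) (BT.leaf (nat_lit 36058397)) (BT.leaf (nat_lit 36059929))) (BT.node (nat_lit 12873024) (BT.leaf (nat_lit 36060441)) (BT.leaf (nat_lit 51444757))))))))) (BT.node (nat_lit 12878464) (BT.node (nat_lit 12875392) (BT.node (nat_lit 12874304) (BT.node (nat_lit 12873792) (BT.node (nat_lit 12873408) (BT.node (nat_lit 12873280) (BT.node (nat_lit 12873216) (BT.leaf (nat_lit 46489105)) (BT.leaf (nat_lit 52001541))) (BT.node (nat_lit 12873344) (BT.leaf (nat_lit 37699345)) (BT.leaf (nat_lit 51777553)))) (BT.node (nat_lit 12873664) (BT.node (nat_lit 12873472) (BT.leaf (nat_lit 36064261)) (BT.leaf (nat_lit 36064533))) (BT.node (nat_lit 12873728) (BT.leaf (nat_lit 36065305)) (BT.leaf (nat_lit 36065553))))) (BT.node (nat_lit 12874048) (BT.node (nat_lit 12873920) (BT.node (nat_lit 12873856) (BT.leaf (nat_lit 36066057)) (BT.leaf (nat_lit 36066061))) (BT.node (nat_lit 12873984) (BT.leaf (nat_lit 36066073)) (BT.leaf (nat_lit 36066077)))) (BT.node (nat_lit 12874176) (BT.node (nat_lit 12874112) (BT.leaf (nat_lit 36066321)) (BT.leaf (nat_lit 36066325))) (BT.node (nat_lit 12874240) (BT.leaf (nat_lit 36066841)) (BT.leaf (nat_lit 36066845)))))) (BT.node (nat_lit 12874816) (BT.node (nat_lit 12874560) (BT.node (nat_lit 12874432) (BT.node (nat_lit 12874368) (BT.leaf (nat_lit 37820185)) (BT.leaf (nat_lit 36067089))) (BT.node (nat_lit 12874496) (BT.leaf (nat_lit 36067093)) (BT.leaf (nat_lit 36067349)))) (BT.node (nat_lit 12874688) (BT.node (nat_lit 12874624) (BT.leaf (nat_lit 36067609)) (BT.leaf (nat_lit 36067845))) (BT.node (nat_lit 12874752) (BT.leaf (nat_lit 36068117)) (BT.leaf (nat_lit 36068381))))) (BT.node (nat_lit 12875072) (BT.node (nat_lit 12874944) (BT.node (nat_lit 12874880) (BT.leaf (nat_lit 36068881)) (BT.leaf (nat_lit 36069649))) (BT.node (nat_lit 12875008) (BT.leaf (nat_lit 36069917)) (BT.leaf (nat_lit 36070173)))) (BT.node (nat_lit 12875200) (BT.node (nat_lit 12875136) (BT.leaf (nat_lit 49809933)) (BT.leaf (nat_lit 50937873))) (BT.node (nat_lit 12875328) (BT.leaf (nat_lit 36073237)) (BT.leaf (nat_lit 50763541))))))) (BT.node (nat_lit 12876864) (BT.node (nat_lit 12875968) (BT.node (nat_lit 12875648) (BT.node (nat_lit 12875520) (BT.node (nat_lit 12875456) (BT.leaf (nat_lit 36076041)) (BT.leaf (nat_lit 40690949))) (BT.node (nat_lit 12875584) (BT.leaf (nat_lit 37612309)) (BT.leaf (nat_lit 52185109)))) (BT.node (nat_lit 12875776) (BT.node (nat_lit 12875712) (BT.leaf (nat_lit 36076829)) (BT.leaf (nat_lit 51183905))) (BT.node (nat_lit 12875840) (BT.leaf (nat_lit 37420805)) (BT.leaf (nat_lit 36079125))))) (BT.node (nat_lit 12876352) (BT.node (nat_lit 12876096) (BT.node (nat_lit 12876032) (BT.leaf (nat_lit 49571353)) (BT.leaf (nat_lit 47747089))) (BT.node (nat_lit 12876288) (BT.leaf (nat_lit 50635029)) (BT.leaf (nat_lit 37439517)))) (BT.node (nat_lit 12876672) (BT.node (nat_lit 12876608) (BT.leaf (nat_lit 51864849)) (BT.leaf (nat_lit 39426053))) (BT.node (nat_lit 12876736) (BT.leaf (nat_lit 49978373)) (BT.leaf (nat_lit 36086545)))))) (BT.node (nat_lit 12877568) (BT.node (nat_lit 12877120) (BT.node (nat_lit 12876992) (BT.node (nat_lit 12876928) (BT.leaf (nat_lit 36088593)) (BT.leaf (nat_lit 36088349))) (BT.node (nat_lit 12877056) (BT.leaf (nat_lit 36089357)) (BT.leaf (nat_lit 51285533)))) (BT.node (nat_lit 12877440) (BT.node (nat_lit 12877376) (BT.leaf (nat_lit 36089617)) (BT.leaf (nat_lit 50407713))) (BT.node (nat_lit 12877504) (BT.leaf (nat_lit 36090889)) (BT.leaf (nat_lit 36090893))))) (BT.node (nat_lit 12878016) (BT.node (nat_lit 12877824) (BT.node (nat_lit 12877760) (BT.leaf (nat_lit 36090905)) (BT.leaf (nat_lit 52414485))) (BT.node (nat_lit 12877952) (BT.leaf (nat_lit 50572833)) (BT.leaf (nat_lit 36091673)))) (BT.node (nat_lit 12878272) (BT.node (nat_lit 12878144) (BT.leaf (nat_lit 36091677)) (BT.leaf (nat_lit 36093717))) (BT.node (nat_lit 12878336) (BT.leaf (nat_lit 36094233)) (BT.leaf (nat_lit 36094237)))))))) (BT.node (nat_lit 12881280) (BT.node (nat_lit 12880064) (BT.node (nat_lit 12879168) (BT.node (nat_lit 12878784) (BT.node (nat_lit 12878592) (BT.node (nat_lit 12878528) (BT.leaf (nat_lit 50459397)) (BT.leaf (nat_lit 52328197))) (BT.node (nat_lit 12878720) (BT.leaf (nat_lit 50461205)) (BT.leaf (nat_lit 36098325)))) (BT.node (nat_lit 12878912) (BT.node (nat_lit 12878848) (BT.leaf (nat_lit 36098833)) (BT.leaf (nat_lit 36099101))) (BT.node (nat_lit 12878976) (BT.leaf (nat_lit 36099349)) (BT.leaf (nat_lit 50419977))))) (BT.node (nat_lit 12879680) (BT.node (nat_lit 12879424) (BT.node (nat_lit 12879296) (BT.leaf (nat_lit 52029713)) (BT.leaf (nat_lit 36103441))) (BT.node (nat_lit 12879616) (BT.leaf (nat_lit 50199073)) (BT.leaf (nat_lit 36106765)))) (BT.node (nat_lit 12879808) (BT.node (nat_lit 12879744) (BT.leaf (nat_lit 36106777)) (BT.leaf (nat_lit 51341345))) (BT.node (nat_lit 12880000) (BT.leaf (nat_lit 51341601)) (BT.leaf (nat_lit 52113945)))))) (BT.node (nat_lit 12880704) (BT.node (nat_lit 12880320) (BT.node (nat_lit 12880192) (BT.node (nat_lit 12880128) (BT.leaf (nat_lit 39521545)) (BT.leaf (nat_lit 39521565))) (BT.node (nat_lit 12880256) (BT.leaf (nat_lit 46807573)) (BT.leaf (nat_lit 46373913)))) (BT.node (nat_lit 12880448) (BT.node (nat_lit 12880384) (BT.leaf (nat_lit 49994513)) (BT.leaf (nat_lit 36114197))) (BT.node (nat_lit 12880512) (BT.leaf (nat_lit 36114453)) (BT.leaf (nat_lit 36115209))))) (BT.node (nat_lit 12881024) (BT.node (nat_lit 12880896) (BT.node (nat_lit 12880768) (BT.leaf (nat_lit 52214293)) (BT.leaf (nat_lit 51910153))) (BT.node (nat_lit 12880960) (BT.leaf (nat_lit 47877145)) (BT.leaf (nat_lit 46514709)))) (BT.node (nat_lit 12881152) (BT.node (nat_lit 12881088) (BT.leaf (nat_lit 50364177)) (BT.leaf (nat_lit 51633157))) (BT.node (nat_lit 12881216) (BT.leaf (nat_lit 37183501)) (BT.leaf (nat_lit 50672389))))))) (BT.node (nat_lit 12882496) (BT.node (nat_lit 12881792) (BT.node (nat_lit 12881536) (BT.node (nat_lit 12881408) (BT.node (nat_lit 12881344) (BT.leaf (nat_lit 50092321)) (BT.leaf (nat_lit 36440605))) (BT.node (nat_lit 12881472) (BT.leaf (nat_lit 36119577)) (BT.leaf (nat_lit 36119581)))) (BT.node (nat_lit 12881664) (BT.node (nat_lit 12881600) (BT.leaf (nat_lit 51442721)) (BT.leaf (nat_lit 36120337))) (BT.node (nat_lit 12881728) (BT.leaf (nat_lit 36121353)) (BT.leaf (nat_lit 36121357))))) (BT.node (nat_lit 12882112) (BT.node (nat_lit 12881920) (BT.node (nat_lit 12881856) (BT.leaf (nat_lit 36121877)) (BT.leaf (nat_lit 36121621))) (BT.node (nat_lit 12882048) (BT.leaf (nat_lit 51591953)) (BT.leaf (nat_lit 46637829)))) (BT.node (nat_lit 12882304) (BT.node (nat_lit 12882176) (BT.leaf (nat_lit 36122889)) (BT.leaf (nat_lit 36122909))) (BT.node (nat_lit 12882368) (BT.leaf (nat_lit 36124185)) (BT.leaf (nat_lit 51519777)))))) (BT.node (nat_lit 12883200) (BT.node (nat_lit 12882880) (BT.node (nat_lit 12882752) (BT.node (nat_lit 12882688) (BT.leaf (nat_lit 51599137)) (BT.leaf (nat_lit 36128273))) (BT.node (nat_lit 12882816) (BT.leaf (nat_lit 49983777)) (BT.leaf (nat_lit 36129813)))) (BT.node (nat_lit 12883072) (BT.node (nat_lit 12882944) (BT.leaf (nat_lit 51236613)) (BT.leaf (nat_lit 47104021))) (BT.node (nat_lit 12883136) (BT.leaf (nat_lit 46807829)) (BT.leaf (nat_lit 36130585))))) (BT.node (nat_lit 12883584) (BT.node (nat_lit 12883456) (BT.node (nat_lit 12883392) (BT.leaf (nat_lit 36131089)) (BT.leaf (nat_lit 38759197))) (BT.node (nat_lit 12883520) (BT.leaf (nat_lit 49895201)) (BT.leaf (nat_lit 48749065)))) (BT.node (nat_lit 12883904) (BT.node (nat_lit 12883840) (BT.leaf (nat_lit 42766597)) (BT.leaf (nat_lit 36133649))) (BT.node (nat_lit 12884096) (BT.leaf (nat_lit 50469381)) (BT.leaf (nat_lit 36134421))))))))))) (BT.node (nat_lit 12903744) (BT.node (nat_lit 12893824) (BT.node (nat_lit 12889472) (BT.node (nat_lit 12887232) (BT.node (nat_lit 12885632) (BT.node (nat_lit 12884800) (BT.node (nat_lit 12884416) (BT.node (nat_lit 12884288) (BT.node (nat_lit 12884224) (BT.leaf (nat_lit 36134929)) (BT.leaf (nat_lit 47121417))) (BT.node (nat_lit 12884352) (BT.leaf (nat_lit 51750661)) (BT.leaf (nat_lit 51810821)))) (BT.node (nat_lit 12884672) (BT.node (nat_lit 12884608) (BT.leaf (nat_lit 50286085)) (BT.leaf (nat_lit 36136729))) (BT.node (nat_lit 12884736) (BT.leaf (nat_lit 36136733)) (BT.leaf (nat_lit 51724049))))) (BT.node (nat_lit 12885056) (BT.node (nat_lit 12884928) (BT.node (nat_lit 12884864) (BT.leaf (nat_lit 51538969)) (BT.leaf (nat_lit 36137737))) (BT.node (nat_lit 12884992) (BT.leaf (nat_lit 36137741)) (BT.leaf (nat_lit 36138009)))) (BT.node (nat_lit 12885440) (BT.node (nat_lit 12885120) (BT.leaf (nat_lit 36139545)) (BT.leaf (nat_lit 36139801))) (BT.node (nat_lit 12885504) (BT.leaf (nat_lit 36140565)) (BT.leaf (nat_lit 36140821)))))) (BT.node (nat_lit 12886336) (BT.node (nat_lit 12886016) (BT.node (nat_lit 12885824) (BT.node (nat_lit 12885696) (BT.leaf (nat_lit 36142101)) (BT.leaf (nat_lit 51132677))) (BT.node (nat_lit 12885888) (BT.leaf (nat_lit 36992525)) (BT.leaf (nat_lit 36143137)))) (BT.node (nat_lit 12886144) (BT.node (nat_lit 12886080) (BT.leaf (nat_lit 36143885)) (BT.leaf (nat_lit 36144405))) (BT.node (nat_lit 12886208) (BT.leaf (nat_lit 36360469)) (BT.leaf (nat_lit 51659281))))) (BT.node (nat_lit 12886784) (BT.node (nat_lit 12886656) (BT.node (nat_lit 12886400) (BT.leaf (nat_lit 46939925)) (BT.leaf (nat_lit 36145945))) (BT.node (nat_lit 12886720) (BT.leaf (nat_lit 52091657)) (BT.leaf (nat_lit 36980745)))) (BT.node (nat_lit 12886976) (BT.node (nat_lit 12886912) (BT.leaf (nat_lit 36146709)) (BT.leaf (nat_lit 36147741))) (BT.node (nat_lit 12887040) (BT.leaf (nat_lit 36147993)) (BT.leaf (nat_lit 49239061))))))) (BT.node (nat_lit 12888448) (BT.node (nat_lit 12887808) (BT.node (nat_lit 12887552) (BT.node (nat_lit 12887360) (BT.node (nat_lit 12887296) (BT.leaf (nat_lit 48274209)) (BT.leaf (nat_lit 39047697))) (BT.node (nat_lit 12887488) (BT.leaf (nat_lit 40075533)) (BT.leaf (nat_lit 36151309)))) (BT.node (nat_lit 12887680) (BT.node (nat_lit 12887616) (BT.leaf (nat_lit 36152085)) (BT.leaf (nat_lit 36151321))) (BT.node (nat_lit 12887744) (BT.leaf (nat_lit 36152601)) (BT.leaf (nat_lit 50013217))))) (BT.node (nat_lit 12888128) (BT.node (nat_lit 12887936) (BT.node (nat_lit 12887872) (BT.leaf (nat_lit 36154641)) (BT.leaf (nat_lit 36154885))) (BT.node (nat_lit 12888000) (BT.leaf (nat_lit 36154909)) (BT.leaf (nat_lit 51541789)))) (BT.node (nat_lit 12888256) (BT.node (nat_lit 12888192) (BT.leaf (nat_lit 49905949)) (BT.leaf (nat_lit 36157725))) (BT.node (nat_lit 12888320) (BT.leaf (nat_lit 36157977)) (BT.leaf (nat_lit 36157981)))))) (BT.node (nat_lit 12888960) (BT.node (nat_lit 12888704) (BT.node (nat_lit 12888576) (BT.node (nat_lit 12888512) (BT.leaf (nat_lit 36158225)) (BT.leaf (nat_lit 52098325))) (BT.node (nat_lit 12888640) (BT.leaf (nat_lit 36158241)) (BT.leaf (nat_lit 46475553)))) (BT.node (nat_lit 12888832) (BT.node (nat_lit 12888768) (BT.leaf (nat_lit 36159241)) (BT.leaf (nat_lit 36159245))) (BT.node (nat_lit 12888896) (BT.leaf (nat_lit 36159761)) (BT.leaf (nat_lit 36159765))))) (BT.node (nat_lit 12889216) (BT.node (nat_lit 12889088) (BT.node (nat_lit 12889024) (BT.leaf (nat_lit 36160025)) (BT.leaf (nat_lit 36160029))) (BT.node (nat_lit 12889152) (BT.leaf (nat_lit 51678221)) (BT.leaf (nat_lit 51556377)))) (BT.node (nat_lit 12889344) (BT.node (nat_lit 12889280) (BT.leaf (nat_lit 50739725)) (BT.leaf (nat_lit 47266337))) (BT.node (nat_lit 12889408) (BT.leaf (nat_lit 50739737)) (BT.leaf (nat_lit 51557129)))))))) (BT.node (nat_lit 12891648) (BT.node (nat_lit 12890560) (BT.node (nat_lit 12889984) (BT.node (nat_lit 12889664) (BT.node (nat_lit 12889536) (BT.node (nat_lit 12889480) (BT.leaf (nat_lit 50715917)) (BT.leaf (nat_lit 815772))) (BT.node (nat_lit 12889600) (BT.leaf (nat_lit 51321865)) (BT.leaf (nat_lit 36809249)))) (BT.node (nat_lit 12889856) (BT.node (nat_lit 12889792) (BT.leaf (nat_lit 51583005)) (BT.leaf (nat_lit 50974225))) (BT.node (nat_lit 12889920) (BT.leaf (nat_lit 36163089)) (BT.leaf (nat_lit 36163865))))) (BT.node (nat_lit 12890304) (BT.node (nat_lit 12890112) (BT.node (nat_lit 12890048) (BT.leaf (nat_lit 36163869)) (BT.leaf (nat_lit 36164633))) (BT.node (nat_lit 12890176) (BT.leaf (nat_lit 36164881)) (BT.leaf (nat_lit 36164885)))) (BT.node (nat_lit 12890432) (BT.node (nat_lit 12890368) (BT.leaf (nat_lit 36165409)) (BT.leaf (nat_lit 36165661))) (BT.node (nat_lit 12890496) (BT.leaf (nat_lit 51876357)) (BT.leaf (nat_lit 37028113)))))) (BT.node (nat_lit 12891072) (BT.node (nat_lit 12890816) (BT.node (nat_lit 12890688) (BT.node (nat_lit 12890624) (BT.leaf (nat_lit 36166937)) (BT.leaf (nat_lit 36166941))) (BT.node (nat_lit 12890752) (BT.leaf (nat_lit 51682053)) (BT.leaf (nat_lit 36327961)))) (BT.node (nat_lit 12890944) (BT.node (nat_lit 12890880) (BT.leaf (nat_lit 36167185)) (BT.leaf (nat_lit 36167441))) (BT.node (nat_lit 12891008) (BT.leaf (nat_lit 36167705)) (BT.leaf (nat_lit 36167709))))) (BT.node (nat_lit 12891392) (BT.node (nat_lit 12891200) (BT.node (nat_lit 12891136) (BT.leaf (nat_lit 36167961)) (BT.leaf (nat_lit 36328985))) (BT.node (nat_lit 12891328) (BT.leaf (nat_lit 36168465)) (BT.leaf (nat_lit 36649241)))) (BT.node (nat_lit 12891520) (BT.node (nat_lit 12891456) (BT.leaf (nat_lit 36168977)) (BT.leaf (nat_lit 51876381))) (BT.node (nat_lit 12891584) (BT.leaf (nat_lit 36171785)) (BT.leaf (nat_lit 36171789))))))) (BT.node (nat_lit 12892672) (BT.node (nat_lit 12892160) (BT.node (nat_lit 12891904) (BT.node (nat_lit 12891776) (BT.node (nat_lit 12891712) (BT.leaf (nat_lit 36171805)) (BT.leaf (nat_lit 51417881))) (BT.node (nat_lit 12891840) (BT.leaf (nat_lit 36172049)) (BT.leaf (nat_lit 36172053)))) (BT.node (nat_lit 12892032) (BT.node (nat_lit 12891968) (BT.leaf (nat_lit 36172305)) (BT.leaf (nat_lit 49530385))) (BT.node (nat_lit 12892096) (BT.leaf (nat_lit 48576517)) (BT.leaf (nat_lit 46307105))))) (BT.node (nat_lit 12892416) (BT.node (nat_lit 12892288) (BT.node (nat_lit 12892224) (BT.leaf (nat_lit 50099729)) (BT.leaf (nat_lit 36176917))) (BT.node (nat_lit 12892352) (BT.leaf (nat_lit 36176665)) (BT.leaf (nat_lit 36176669)))) (BT.node (nat_lit 12892544) (BT.node (nat_lit 12892480) (BT.leaf (nat_lit 36178197)) (BT.leaf (nat_lit 36178205))) (BT.node (nat_lit 12892608) (BT.leaf (nat_lit 50283793)) (BT.leaf (nat_lit 51287581)))))) (BT.node (nat_lit 12893184) (BT.node (nat_lit 12892928) (BT.node (nat_lit 12892800) (BT.node (nat_lit 12892736) (BT.leaf (nat_lit 36179221)) (BT.leaf (nat_lit 36179477))) (BT.node (nat_lit 12892864) (BT.leaf (nat_lit 36179481)) (BT.leaf (nat_lit 36179725)))) (BT.node (nat_lit 12893056) (BT.node (nat_lit 12892992) (BT.leaf (nat_lit 36179989)) (BT.leaf (nat_lit 36180241))) (BT.node (nat_lit 12893120) (BT.leaf (nat_lit 47272713)) (BT.leaf (nat_lit 46578709))))) (BT.node (nat_lit 12893504) (BT.node (nat_lit 12893376) (BT.node (nat_lit 12893312) (BT.leaf (nat_lit 48997393)) (BT.leaf (nat_lit 50036757))) (BT.node (nat_lit 12893440) (BT.leaf (nat_lit 36181789)) (BT.leaf (nat_lit 51573257)))) (BT.node (nat_lit 12893632) (BT.node (nat_lit 12893568) (BT.leaf (nat_lit 36182557)) (BT.leaf (nat_lit 50351637))) (BT.node (nat_lit 12893760) (BT.leaf (nat_lit 37027869)) (BT.leaf (nat_lit 51575317))))))))) (BT.node (nat_lit 12898624) (BT.node (nat_lit 12896000) (BT.node (nat_lit 12894848) (BT.node (nat_lit 12894337) (BT.node (nat_lit 12894144) (BT.node (nat_lit 12894016) (BT.node (nat_lit 12893888) (BT.leaf (nat_lit 50879521)) (BT.leaf (nat_lit 52313633))) (BT.node (nat_lit 12894080) (BT.leaf (nat_lit 40558105)) (BT.leaf (nat_lit 36185873)))) (BT.node (nat_lit 12894272) (BT.node (nat_lit 12894208) (BT.leaf (nat_lit 36185877)) (BT.leaf (nat_lit 52004385))) (BT.node (nat_lit 12894336) (BT.leaf (nat_lit 51808785)) (BT.leaf (nat_lit 51317525))))) (BT.node (nat_lit 12894592) (BT.node (nat_lit 12894464) (BT.node (nat_lit 12894400) (BT.leaf (nat_lit 816532)) (BT.leaf (nat_lit 36188681))) (BT.node (nat_lit 12894528) (BT.leaf (nat_lit 37378065)) (BT.leaf (nat_lit 36188685)))) (BT.node (nat_lit 12894720) (BT.node (nat_lit 12894656) (BT.leaf (nat_lit 45724193)) (BT.leaf (nat_lit 48654361))) (BT.node (nat_lit 12894784) (BT.leaf (nat_lit 36189205)) (BT.leaf (nat_lit 36190233)))))) (BT.node (nat_lit 12895424) (BT.node (nat_lit 12895104) (BT.node (nat_lit 12894976) (BT.node (nat_lit 12894912) (BT.leaf (nat_lit 51008261)) (BT.leaf (nat_lit 51485729))) (BT.node (nat_lit 12895040) (BT.leaf (nat_lit 50611205)) (BT.leaf (nat_lit 36191769)))) (BT.node (nat_lit 12895296) (BT.node (nat_lit 12895168) (BT.leaf (nat_lit 36191773)) (BT.leaf (nat_lit 36608025))) (BT.node (nat_lit 12895360) (BT.leaf (nat_lit 36192797)) (BT.leaf (nat_lit 51712261))))) (BT.node (nat_lit 12895680) (BT.node (nat_lit 12895552) (BT.node (nat_lit 12895488) (BT.leaf (nat_lit 36193809)) (BT.leaf (nat_lit 36194589))) (BT.node (nat_lit 12895616) (BT.leaf (nat_lit 36194837)) (BT.leaf (nat_lit 36195093)))) (BT.node (nat_lit 12895872) (BT.node (nat_lit 12895744) (BT.leaf (nat_lit 36195609)) (BT.leaf (nat_lit 51512609))) (BT.node (nat_lit 12895936) (BT.leaf (nat_lit 51583757)) (BT.leaf (nat_lit 49028373))))))) (BT.node (nat_lit 12897408) (BT.node (nat_lit 12896576) (BT.node (nat_lit 12896256) (BT.node (nat_lit 12896128) (BT.node (nat_lit 12896064) (BT.leaf (nat_lit 36197397)) (BT.leaf (nat_lit 36196633))) (BT.node (nat_lit 12896192) (BT.leaf (nat_lit 36196881)) (BT.leaf (nat_lit 49028633)))) (BT.node (nat_lit 12896448) (BT.node (nat_lit 12896320) (BT.leaf (nat_lit 36197917)) (BT.leaf (nat_lit 36241677))) (BT.node (nat_lit 12896512) (BT.leaf (nat_lit 51586061)) (BT.leaf (nat_lit 47171869))))) (BT.node (nat_lit 12897152) (BT.node (nat_lit 12896896) (BT.node (nat_lit 12896640) (BT.leaf (nat_lit 46931473)) (BT.leaf (nat_lit 51773205))) (BT.node (nat_lit 12896960) (BT.leaf (nat_lit 46931737)) (BT.leaf (nat_lit 46931741)))) (BT.node (nat_lit 12897280) (BT.node (nat_lit 12897216) (BT.leaf (nat_lit 36199965)) (BT.leaf (nat_lit 36199969))) (BT.node (nat_lit 12897344) (BT.leaf (nat_lit 36200469)) (BT.leaf (nat_lit 36200733)))))) (BT.node (nat_lit 12897920) (BT.node (nat_lit 12897664) (BT.node (nat_lit 12897536) (BT.node (nat_lit 12897472) (BT.leaf (nat_lit 51707653)) (BT.leaf (nat_lit 36200985))) (BT.node (nat_lit 12897600) (BT.leaf (nat_lit 36200989)) (BT.leaf (nat_lit 36202005)))) (BT.node (nat_lit 12897792) (BT.node (nat_lit 12897728) (BT.leaf (nat_lit 36202257)) (BT.leaf (nat_lit 36202501))) (BT.node (nat_lit 12897856) (BT.leaf (nat_lit 36202773)) (BT.leaf (nat_lit 51723297))))) (BT.node (nat_lit 12898304) (BT.node (nat_lit 12898048) (BT.node (nat_lit 12897984) (BT.leaf (nat_lit 50379025)) (BT.leaf (nat_lit 38145049))) (BT.node (nat_lit 12898240) (BT.leaf (nat_lit 38145053)) (BT.leaf (nat_lit 36205845)))) (BT.node (nat_lit 12898496) (BT.node (nat_lit 12898432) (BT.leaf (nat_lit 36206101)) (BT.leaf (nat_lit 36409865))) (BT.node (nat_lit 12898560) (BT.leaf (nat_lit 36206881)) (BT.leaf (nat_lit 36207637)))))))) (BT.node (nat_lit 12901056) (BT.node (nat_lit 12899712) (BT.node (nat_lit 12899136) (BT.node (nat_lit 12898880) (BT.node (nat_lit 12898752) (BT.node (nat_lit 12898688) (BT.leaf (nat_lit 48615941)) (BT.leaf (nat_lit 36241669))) (BT.node (nat_lit 12898816) (BT.leaf (nat_lit 36241681)) (BT.leaf (nat_lit 49640225)))) (BT.node (nat_lit 12899008) (BT.node (nat_lit 12898944) (BT.leaf (nat_lit 51613717)) (BT.leaf (nat_lit 37017873))) (BT.node (nat_lit 12899072) (BT.leaf (nat_lit 38364945)) (BT.leaf (nat_lit 36402961))))) (BT.node (nat_lit 12899392) (BT.node (nat_lit 12899264) (BT.node (nat_lit 12899200) (BT.leaf (nat_lit 36212505)) (BT.leaf (nat_lit 36212509))) (BT.node (nat_lit 12899328) (BT.leaf (nat_lit 49004053)) (BT.leaf (nat_lit 51597065)))) (BT.node (nat_lit 12899520) (BT.node (nat_lit 12899456) (BT.leaf (nat_lit 36214297)) (BT.leaf (nat_lit 36214301))) (BT.node (nat_lit 12899584) (BT.leaf (nat_lit 36214813)) (BT.leaf (nat_lit 36216089)))))) (BT.node (nat_lit 12900416) (BT.node (nat_lit 12899968) (BT.node (nat_lit 12899840) (BT.node (nat_lit 12899776) (BT.leaf (nat_lit 46184469)) (BT.leaf (nat_lit 36861469))) (BT.node (nat_lit 12899904) (BT.leaf (nat_lit 36218393)) (BT.leaf (nat_lit 36220181)))) (BT.node (nat_lit 12900288) (BT.node (nat_lit 12900032) (BT.leaf (nat_lit 36221197)) (BT.leaf (nat_lit 52119581))) (BT.node (nat_lit 12900352) (BT.leaf (nat_lit 37636113)) (BT.leaf (nat_lit 51876897))))) (BT.node (nat_lit 12900800) (BT.node (nat_lit 12900672) (BT.node (nat_lit 12900480) (BT.leaf (nat_lit 37114657)) (BT.leaf (nat_lit 37584417))) (BT.node (nat_lit 12900736) (BT.leaf (nat_lit 36224281)) (BT.leaf (nat_lit 36224785)))) (BT.node (nat_lit 12900928) (BT.node (nat_lit 12900864) (BT.leaf (nat_lit 50234913)) (BT.leaf (nat_lit 36225821))) (BT.node (nat_lit 12900992) (BT.leaf (nat_lit 36225553)) (BT.leaf (nat_lit 36225817))))))) (BT.node (nat_lit 12902400) (BT.node (nat_lit 12901696) (BT.node (nat_lit 12901440) (BT.node (nat_lit 12901248) (BT.node (nat_lit 12901120) (BT.leaf (nat_lit 36226321)) (BT.leaf (nat_lit 36227085))) (BT.node (nat_lit 12901376) (BT.leaf (nat_lit 52286229)) (BT.leaf (nat_lit 47826189)))) (BT.node (nat_lit 12901568) (BT.node (nat_lit 12901504) (BT.leaf (nat_lit 36231445)) (BT.leaf (nat_lit 36232985))) (BT.node (nat_lit 12901632) (BT.leaf (nat_lit 36233233)) (BT.leaf (nat_lit 36233489))))) (BT.node (nat_lit 12901952) (BT.node (nat_lit 12901824) (BT.node (nat_lit 12901760) (BT.leaf (nat_lit 36234257)) (BT.leaf (nat_lit 49918741))) (BT.node (nat_lit 12901888) (BT.leaf (nat_lit 51375125)) (BT.leaf (nat_lit 51607321)))) (BT.node (nat_lit 12902080) (BT.node (nat_lit 12902016) (BT.leaf (nat_lit 39158801)) (BT.leaf (nat_lit 36236057))) (BT.node (nat_lit 12902272) (BT.leaf (nat_lit 52305437)) (BT.leaf (nat_lit 36237585)))))) (BT.node (nat_lit 12903168) (BT.node (nat_lit 12902848) (BT.node (nat_lit 12902592) (BT.node (nat_lit 12902464) (BT.leaf (nat_lit 36237853)) (BT.leaf (nat_lit 36238613))) (BT.node (nat_lit 12902784) (BT.leaf (nat_lit 46944277)) (BT.leaf (nat_lit 36239641)))) (BT.node (nat_lit 12902976) (BT.node (nat_lit 12902912) (BT.leaf (nat_lit 36239645)) (BT.leaf (nat_lit 51972117))) (BT.node (nat_lit 12903104) (BT.leaf (nat_lit 51605001)) (BT.leaf (nat_lit 49962265))))) (BT.node (nat_lit 12903424) (BT.node (nat_lit 12903296) (BT.node (nat_lit 12903232) (BT.leaf (nat_lit 36240917)) (BT.leaf (nat_lit 49873437))) (BT.node (nat_lit 12903360) (BT.leaf (nat_lit 36241173)) (BT.leaf (nat_lit 36241437)))) (BT.node (nat_lit 12903616) (BT.node (nat_lit 12903552) (BT.leaf (nat_lit 36241689)) (BT.leaf (nat_lit 36241941))) (BT.node (nat_lit 12903680) (BT.leaf (nat_lit 36635653)) (BT.leaf (nat_lit 51868445)))))))))) (BT.node (nat_lit 12913472) (BT.node (nat_lit 12908416) (BT.node (nat_lit 12905792) (BT.node (nat_lit 12904640) (BT.node (nat_lit 12904128) (BT.node (nat_lit 12903872) (BT.node (nat_lit 12903752) (BT.node (nat_lit 12903748) (BT.leaf (nat_lit 36243477)) (BT.leaf (nat_lit 810440))) (BT.node (nat_lit 12903808) (BT.leaf (nat_lit 810440)) (BT.leaf (nat_lit 36243993)))) (BT.node (nat_lit 12904000) (BT.node (nat_lit 12903936) (BT.leaf (nat_lit 36243997)) (BT.leaf (nat_lit 49638433))) (BT.node (nat_lit 12904064) (BT.leaf (nat_lit 49512733)) (BT.leaf (nat_lit 41580313))))) (BT.node (nat_lit 12904384) (BT.node (nat_lit 12904256) (BT.node (nat_lit 12904192) (BT.leaf (nat_lit 51867925)) (BT.leaf (nat_lit 49030929))) (BT.node (nat_lit 12904320) (BT.leaf (nat_lit 49030945)) (BT.leaf (nat_lit 36245781)))) (BT.node (nat_lit 12904512) (BT.node (nat_lit 12904448) (BT.leaf (nat_lit 47485205)) (BT.leaf (nat_lit 51594765))) (BT.node (nat_lit 12904576) (BT.leaf (nat_lit 36246537)) (BT.leaf (nat_lit 36246557)))))) (BT.node (nat_lit 12905280) (BT.node (nat_lit 12905024) (BT.node (nat_lit 12904896) (BT.node (nat_lit 12904832) (BT.leaf (nat_lit 47635477)) (BT.leaf (nat_lit 50087701))) (BT.node (nat_lit 12904960) (BT.leaf (nat_lit 36248325)) (BT.leaf (nat_lit 36248841)))) (BT.node (nat_lit 12905152) (BT.node (nat_lit 12905088) (BT.leaf (nat_lit 36248845)) (BT.leaf (nat_lit 36248857))) (BT.node (nat_lit 12905216) (BT.leaf (nat_lit 36249105)) (BT.leaf (nat_lit 36249109))))) (BT.node (nat_lit 12905536) (BT.node (nat_lit 12905408) (BT.node (nat_lit 12905344) (BT.leaf (nat_lit 45819681)) (BT.leaf (nat_lit 36249877))) (BT.node (nat_lit 12905472) (BT.leaf (nat_lit 50235397)) (BT.leaf (nat_lit 36251165)))) (BT.node (nat_lit 12905664) (BT.node (nat_lit 12905600) (BT.leaf (nat_lit 50470661)) (BT.leaf (nat_lit 36251421))) (BT.node (nat_lit 12905728) (BT.leaf (nat_lit 36251677)) (BT.leaf (nat_lit 36252185))))))) (BT.node (nat_lit 12906944) (BT.node (nat_lit 12906304) (BT.node (nat_lit 12906048) (BT.node (nat_lit 12905920) (BT.node (nat_lit 12905856) (BT.leaf (nat_lit 36252189)) (BT.leaf (nat_lit 36253205))) (BT.node (nat_lit 12905984) (BT.leaf (nat_lit 36254241)) (BT.leaf (nat_lit 50739489)))) (BT.node (nat_lit 12906176) (BT.node (nat_lit 12906112) (BT.leaf (nat_lit 51972621)) (BT.leaf (nat_lit 36256025))) (BT.node (nat_lit 12906240) (BT.leaf (nat_lit 36256533)) (BT.leaf (nat_lit 36256789))))) (BT.node (nat_lit 12906688) (BT.node (nat_lit 12906496) (BT.node (nat_lit 12906432) (BT.leaf (nat_lit 51905565)) (BT.leaf (nat_lit 50776861))) (BT.node (nat_lit 12906624) (BT.leaf (nat_lit 51437837)) (BT.leaf (nat_lit 46527517)))) (BT.node (nat_lit 12906816) (BT.node (nat_lit 12906752) (BT.leaf (nat_lit 36261393)) (BT.leaf (nat_lit 51573273))) (BT.node (nat_lit 12906880) (BT.leaf (nat_lit 46832405)) (BT.leaf (nat_lit 47357217)))))) (BT.node (nat_lit 12907648) (BT.node (nat_lit 12907200) (BT.node (nat_lit 12907072) (BT.node (nat_lit 12907008) (BT.leaf (nat_lit 48355097)) (BT.leaf (nat_lit 36265761))) (BT.node (nat_lit 12907136) (BT.leaf (nat_lit 48422433)) (BT.leaf (nat_lit 36267281)))) (BT.node (nat_lit 12907520) (BT.node (nat_lit 12907392) (BT.leaf (nat_lit 36268061)) (BT.leaf (nat_lit 36981021))) (BT.node (nat_lit 12907584) (BT.leaf (nat_lit 37489441)) (BT.leaf (nat_lit 36980749))))) (BT.node (nat_lit 12908096) (BT.node (nat_lit 12907904) (BT.node (nat_lit 12907776) (BT.leaf (nat_lit 36269589)) (BT.leaf (nat_lit 51474437))) (BT.node (nat_lit 12907968) (BT.leaf (nat_lit 50766873)) (BT.leaf (nat_lit 36714769)))) (BT.node (nat_lit 12908224) (BT.node (nat_lit 12908160) (BT.leaf (nat_lit 47189013)) (BT.leaf (nat_lit 39226401))) (BT.node (nat_lit 12908288) (BT.leaf (nat_lit 50962465)) (BT.leaf (nat_lit 36274705)))))))) (BT.node (nat_lit 12910976) (BT.node (nat_lit 12909952) (BT.node (nat_lit 12909120) (BT.node (nat_lit 12908672) (BT.node (nat_lit 12908544) (BT.node (nat_lit 12908480) (BT.leaf (nat_lit 46713605)) (BT.leaf (nat_lit 36275993))) (BT.node (nat_lit 12908608) (BT.leaf (nat_lit 36276505)) (BT.leaf (nat_lit 36276757)))) (BT.node (nat_lit 12908800) (BT.node (nat_lit 12908736) (BT.leaf (nat_lit 48722965)) (BT.leaf (nat_lit 48720157))) (BT.node (nat_lit 12908992) (BT.leaf (nat_lit 36278033)) (BT.leaf (nat_lit 52296721))))) (BT.node (nat_lit 12909632) (BT.node (nat_lit 12909504) (BT.node (nat_lit 12909248) (BT.leaf (nat_lit 37141013)) (BT.leaf (nat_lit 52184853))) (BT.node (nat_lit 12909568) (BT.leaf (nat_lit 36282389)) (BT.leaf (nat_lit 36283161)))) (BT.node (nat_lit 12909824) (BT.node (nat_lit 12909696) (BT.leaf (nat_lit 36283165)) (BT.leaf (nat_lit 36283409))) (BT.node (nat_lit 12909888) (BT.leaf (nat_lit 50008077)) (BT.leaf (nat_lit 50372897)))))) (BT.node (nat_lit 12910464) (BT.node (nat_lit 12910208) (BT.node (nat_lit 12910080) (BT.node (nat_lit 12910016) (BT.leaf (nat_lit 47241485)) (BT.leaf (nat_lit 36287765))) (BT.node (nat_lit 12910144) (BT.leaf (nat_lit 36288789)) (BT.leaf (nat_lit 51513613)))) (BT.node (nat_lit 12910336) (BT.node (nat_lit 12910272) (BT.leaf (nat_lit 51192349)) (BT.leaf (nat_lit 49577993))) (BT.node (nat_lit 12910400) (BT.leaf (nat_lit 36290333)) (BT.leaf (nat_lit 47438621))))) (BT.node (nat_lit 12910720) (BT.node (nat_lit 12910592) (BT.node (nat_lit 12910528) (BT.leaf (nat_lit 49578013)) (BT.leaf (nat_lit 36291097))) (BT.node (nat_lit 12910656) (BT.leaf (nat_lit 36291101)) (BT.leaf (nat_lit 36291865)))) (BT.node (nat_lit 12910848) (BT.node (nat_lit 12910784) (BT.leaf (nat_lit 36292629)) (BT.leaf (nat_lit 36292637))) (BT.node (nat_lit 12910912) (BT.leaf (nat_lit 50666509)) (BT.leaf (nat_lit 49994005))))))) (BT.node (nat_lit 12912064) (BT.node (nat_lit 12911552) (BT.node (nat_lit 12911232) (BT.node (nat_lit 12911104) (BT.node (nat_lit 12911040) (BT.leaf (nat_lit 42082329)) (BT.leaf (nat_lit 36294929))) (BT.node (nat_lit 12911168) (BT.leaf (nat_lit 42503201)) (BT.leaf (nat_lit 46871049)))) (BT.node (nat_lit 12911360) (BT.node (nat_lit 12911296) (BT.leaf (nat_lit 46858769)) (BT.leaf (nat_lit 47702533))) (BT.node (nat_lit 12911424) (BT.leaf (nat_lit 47950105)) (BT.leaf (nat_lit 52443909))))) (BT.node (nat_lit 12911808) (BT.node (nat_lit 12911680) (BT.node (nat_lit 12911616) (BT.leaf (nat_lit 36298525)) (BT.leaf (nat_lit 36299025))) (BT.node (nat_lit 12911744) (BT.leaf (nat_lit 50837521)) (BT.leaf (nat_lit 36299541)))) (BT.node (nat_lit 12911936) (BT.node (nat_lit 12911872) (BT.leaf (nat_lit 36301077)) (BT.leaf (nat_lit 36301081))) (BT.node (nat_lit 12912000) (BT.leaf (nat_lit 36301333)) (BT.leaf (nat_lit 51648285)))))) (BT.node (nat_lit 12912704) (BT.node (nat_lit 12912320) (BT.node (nat_lit 12912192) (BT.node (nat_lit 12912128) (BT.leaf (nat_lit 48577545)) (BT.leaf (nat_lit 51159821))) (BT.node (nat_lit 12912256) (BT.leaf (nat_lit 51159825)) (BT.leaf (nat_lit 51159841)))) (BT.node (nat_lit 12912576) (BT.node (nat_lit 12912384) (BT.leaf (nat_lit 36302613)) (BT.leaf (nat_lit 46922017))) (BT.node (nat_lit 12912640) (BT.leaf (nat_lit 36305933)) (BT.leaf (nat_lit 51606549))))) (BT.node (nat_lit 12913024) (BT.node (nat_lit 12912832) (BT.node (nat_lit 12912768) (BT.leaf (nat_lit 36307209)) (BT.leaf (nat_lit 36307213))) (BT.node (nat_lit 12912896) (BT.leaf (nat_lit 36307989)) (BT.leaf (nat_lit 36307733)))) (BT.node (nat_lit 12913280) (BT.node (nat_lit 12913216) (BT.leaf (nat_lit 51659809)) (BT.leaf (nat_lit 36309013))) (BT.node (nat_lit 12913344) (BT.leaf (nat_lit 37480225)) (BT.leaf (nat_lit 37105677))))))))) (BT.node (nat_lit 12918272) (BT.node (nat_lit 12915584) (BT.node (nat_lit 12914560) (BT.node (nat_lit 12913984) (BT.node (nat_lit 12913728) (BT.node (nat_lit 12913600) (BT.node (nat_lit 12913536) (BT.leaf (nat_lit 37105417)) (BT.leaf (nat_lit 52167449))) (BT.node (nat_lit 12913664) (BT.leaf (nat_lit 36310801)) (BT.leaf (nat_lit 36311329)))) (BT.node (nat_lit 12913856) (BT.node (nat_lit 12913792) (BT.leaf (nat_lit 36311825)) (BT.leaf (nat_lit 52194581))) (BT.node (nat_lit 12913920) (BT.leaf (nat_lit 36311841)) (BT.leaf (nat_lit 36312341))))) (BT.node (nat_lit 12914304) (BT.node (nat_lit 12914176) (BT.node (nat_lit 12914112) (BT.leaf (nat_lit 36313105)) (BT.leaf (nat_lit 52324373))) (BT.node (nat_lit 12914240) (BT.leaf (nat_lit 36315161)) (BT.leaf (nat_lit 50081285)))) (BT.node (nat_lit 12914432) (BT.node (nat_lit 12914368) (BT.leaf (nat_lit 36317209)) (BT.leaf (nat_lit 49353493))) (BT.node (nat_lit 12914496) (BT.leaf (nat_lit 36317969)) (BT.leaf (nat_lit 36320277)))))) (BT.node (nat_lit 12915072) (BT.node (nat_lit 12914816) (BT.node (nat_lit 12914688) (BT.node (nat_lit 12914624) (BT.leaf (nat_lit 50054405)) (BT.leaf (nat_lit 36350485))) (BT.node (nat_lit 12914752) (BT.leaf (nat_lit 51287045)) (BT.leaf (nat_lit 51287585)))) (BT.node (nat_lit 12914944) (BT.node (nat_lit 12914880) (BT.leaf (nat_lit 36321557)) (BT.leaf (nat_lit 51305229))) (BT.node (nat_lit 12915008) (BT.leaf (nat_lit 36323085)) (BT.leaf (nat_lit 36323097))))) (BT.node (nat_lit 12915328) (BT.node (nat_lit 12915200) (BT.node (nat_lit 12915136) (BT.leaf (nat_lit 36323361)) (BT.leaf (nat_lit 50064673))) (BT.node (nat_lit 12915264) (BT.leaf (nat_lit 36325653)) (BT.leaf (nat_lit 36327193)))) (BT.node (nat_lit 12915456) (BT.node (nat_lit 12915392) (BT.leaf (nat_lit 37143825)) (BT.leaf (nat_lit 36327965))) (BT.node (nat_lit 12915520) (BT.leaf (nat_lit 51682565)) (BT.leaf (nat_lit 37142801))))))) (BT.node (nat_lit 12917056) (BT.node (nat_lit 12916096) (BT.node (nat_lit 12915840) (BT.node (nat_lit 12915712) (BT.node (nat_lit 12915648) (BT.leaf (nat_lit 36328225)) (BT.leaf (nat_lit 36328465))) (BT.node (nat_lit 12915776) (BT.leaf (nat_lit 36328469)) (BT.leaf (nat_lit 36328721)))) (BT.node (nat_lit 12915968) (BT.node (nat_lit 12915904) (BT.leaf (nat_lit 36329233)) (BT.leaf (nat_lit 51662105))) (BT.node (nat_lit 12916032) (BT.leaf (nat_lit 36329489)) (BT.leaf (nat_lit 37096733))))) (BT.node (nat_lit 12916416) (BT.node (nat_lit 12916224) (BT.node (nat_lit 12916160) (BT.leaf (nat_lit 36330265)) (BT.leaf (nat_lit 36583445))) (BT.node (nat_lit 12916288) (BT.leaf (nat_lit 36331801)) (BT.leaf (nat_lit 36331805)))) (BT.node (nat_lit 12916800) (BT.node (nat_lit 12916608) (BT.leaf (nat_lit 36332317)) (BT.leaf (nat_lit 36334357))) (BT.node (nat_lit 12916864) (BT.leaf (nat_lit 36334873)) (BT.leaf (nat_lit 36334881)))))) (BT.node (nat_lit 12917760) (BT.node (nat_lit 12917440) (BT.node (nat_lit 12917184) (BT.node (nat_lit 12917120) (BT.leaf (nat_lit 37156365)) (BT.leaf (nat_lit 36335393))) (BT.node (nat_lit 12917248) (BT.leaf (nat_lit 36336917)) (BT.leaf (nat_lit 36338197)))) (BT.node (nat_lit 12917632) (BT.node (nat_lit 12917568) (BT.leaf (nat_lit 50579729)) (BT.leaf (nat_lit 37009685))) (BT.node (nat_lit 12917696) (BT.leaf (nat_lit 36339997)) (BT.leaf (nat_lit 47181593))))) (BT.node (nat_lit 12918016) (BT.node (nat_lit 12917888) (BT.node (nat_lit 12917824) (BT.leaf (nat_lit 36340497)) (BT.leaf (nat_lit 36341009))) (BT.node (nat_lit 12917952) (BT.leaf (nat_lit 52035605)) (BT.leaf (nat_lit 36342549)))) (BT.node (nat_lit 12918144) (BT.node (nat_lit 12918080) (BT.leaf (nat_lit 36342033)) (BT.leaf (nat_lit 36342289))) (BT.node (nat_lit 12918208) (BT.leaf (nat_lit 36342553)) (BT.leaf (nat_lit 36342805)))))))) (BT.node (nat_lit 12921344) (BT.node (nat_lit 12919488) (BT.node (nat_lit 12918976) (BT.node (nat_lit 12918528) (BT.node (nat_lit 12918400) (BT.node (nat_lit 12918336) (BT.leaf (nat_lit 36342809)) (BT.leaf (nat_lit 36343313))) (BT.node (nat_lit 12918464) (BT.leaf (nat_lit 51660065)) (BT.leaf (nat_lit 51734557)))) (BT.node (nat_lit 12918848) (BT.node (nat_lit 12918784) (BT.leaf (nat_lit 51454489)) (BT.leaf (nat_lit 36346905))) (BT.node (nat_lit 12918912) (BT.leaf (nat_lit 36347157)) (BT.leaf (nat_lit 36347925))))) (BT.node (nat_lit 12919232) (BT.node (nat_lit 12919104) (BT.node (nat_lit 12919040) (BT.leaf (nat_lit 37602325)) (BT.leaf (nat_lit 36348681))) (BT.node (nat_lit 12919168) (BT.leaf (nat_lit 37606677)) (BT.leaf (nat_lit 36348697)))) (BT.node (nat_lit 12919360) (BT.node (nat_lit 12919296) (BT.leaf (nat_lit 36348701)) (BT.leaf (nat_lit 37606425))) (BT.node (nat_lit 12919424) (BT.leaf (nat_lit 37595165)) (BT.leaf (nat_lit 36349969)))))) (BT.node (nat_lit 12920384) (BT.node (nat_lit 12919872) (BT.node (nat_lit 12919616) (BT.node (nat_lit 12919552) (BT.leaf (nat_lit 36350225)) (BT.leaf (nat_lit 36352277))) (BT.node (nat_lit 12919808) (BT.leaf (nat_lit 49527329)) (BT.leaf (nat_lit 36352521)))) (BT.node (nat_lit 12920000) (BT.node (nat_lit 12919936) (BT.leaf (nat_lit 36352525)) (BT.leaf (nat_lit 36353301))) (BT.node (nat_lit 12920064) (BT.leaf (nat_lit 36352537)) (BT.leaf (nat_lit 36352541))))) (BT.node (nat_lit 12920640) (BT.node (nat_lit 12920512) (BT.node (nat_lit 12920448) (BT.leaf (nat_lit 36354841)) (BT.leaf (nat_lit 37114641))) (BT.node (nat_lit 12920576) (BT.leaf (nat_lit 37114385)) (BT.leaf (nat_lit 36355101)))) (BT.node (nat_lit 12920768) (BT.node (nat_lit 12920704) (BT.leaf (nat_lit 36517137)) (BT.leaf (nat_lit 37129241))) (BT.node (nat_lit 12920832) (BT.leaf (nat_lit 36355601)) (BT.leaf (nat_lit 51693321))))))) (BT.node (nat_lit 12922752) (BT.node (nat_lit 12922112) (BT.node (nat_lit 12921856) (BT.node (nat_lit 12921600) (BT.node (nat_lit 12921536) (BT.leaf (nat_lit 37094169)) (BT.leaf (nat_lit 51686429))) (BT.node (nat_lit 12921792) (BT.leaf (nat_lit 37094157)) (BT.leaf (nat_lit 37126173)))) (BT.node (nat_lit 12921984) (BT.node (nat_lit 12921920) (BT.leaf (nat_lit 36359433)) (BT.leaf (nat_lit 51308805))) (BT.node (nat_lit 12922048) (BT.leaf (nat_lit 36359965)) (BT.leaf (nat_lit 36360217))))) (BT.node (nat_lit 12922432) (BT.node (nat_lit 12922240) (BT.node (nat_lit 12922176) (BT.leaf (nat_lit 36360989)) (BT.leaf (nat_lit 36361489))) (BT.node (nat_lit 12922368) (BT.leaf (nat_lit 36361493)) (BT.leaf (nat_lit 37610773)))) (BT.node (nat_lit 12922560) (BT.node (nat_lit 12922496) (BT.leaf (nat_lit 36364053)) (BT.leaf (nat_lit 36364309))) (BT.node (nat_lit 12922688) (BT.leaf (nat_lit 37134597)) (BT.leaf (nat_lit 46841609)))))) (BT.node (nat_lit 12923328) (BT.node (nat_lit 12923008) (BT.node (nat_lit 12922880) (BT.node (nat_lit 12922816) (BT.leaf (nat_lit 36364817)) (BT.leaf (nat_lit 51518981))) (BT.node (nat_lit 12922944) (BT.leaf (nat_lit 37111825)) (BT.leaf (nat_lit 36366621)))) (BT.node (nat_lit 12923136) (BT.node (nat_lit 12923072) (BT.leaf (nat_lit 52261649)) (BT.leaf (nat_lit 52443925))) (BT.node (nat_lit 12923200) (BT.leaf (nat_lit 36367893)) (BT.leaf (nat_lit 51681813))))) (BT.node (nat_lit 12923584) (BT.node (nat_lit 12923456) (BT.node (nat_lit 12923392) (BT.leaf (nat_lit 52180501)) (BT.leaf (nat_lit 51682073))) (BT.node (nat_lit 12923520) (BT.leaf (nat_lit 36369169)) (BT.leaf (nat_lit 37128989)))) (BT.node (nat_lit 12923712) (BT.node (nat_lit 12923648) (BT.leaf (nat_lit 36369681)) (BT.leaf (nat_lit 36369937))) (BT.node (nat_lit 12923776) (BT.leaf (nat_lit 36370453)) (BT.leaf (nat_lit 36370693)))))))))))))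
noncomputable def big0_e126976 : BT Nat := (BT.node (nat_lit 13009920) (BT.node (nat_lit 12966848) (BT.node (nat_lit 12943552) (BT.node (nat_lit 12933504) (BT.node (nat_lit 12928320) (BT.node (nat_lit 12926016) (BT.node (nat_lit 12924672) (BT.node (nat_lit 12924032) (BT.node (nat_lit 12923844) (BT.node (nat_lit 12923840) (BT.node (nat_lit 12923783) (BT.leaf (nat_lit 815372)) (BT.leaf (nat_lit 815372))) (BT.node (nat_lit 12923841) (BT.leaf (nat_lit 36370713)) (BT.leaf (nat_lit 815376)))) (BT.node (nat_lit 12923904) (BT.node (nat_lit 12923845) (BT.leaf (nat_lit 815376)) (BT.leaf (nat_lit 815376))) (BT.node (nat_lit 12923968) (BT.leaf (nat_lit 37136925)) (BT.leaf (nat_lit 37137429))))) (BT.node (nat_lit 12924352) (BT.node (nat_lit 12924224) (BT.node (nat_lit 12924096) (BT.leaf (nat_lit 36371993)) (BT.leaf (nat_lit 36372245))) (BT.node (nat_lit 12924288) (BT.leaf (nat_lit 37119761)) (BT.leaf (nat_lit 37119505)))) (BT.node (nat_lit 12924544) (BT.node (nat_lit 12924480) (BT.leaf (nat_lit 36373017)) (BT.leaf (nat_lit 51698189))) (BT.node (nat_lit 12924608) (BT.leaf (nat_lit 51696917)) (BT.leaf (nat_lit 51699221)))))) (BT.node (nat_lit 12925312) (BT.node (nat_lit 12925056) (BT.node (nat_lit 12924928) (BT.node (nat_lit 12924800) (BT.leaf (nat_lit 50222101)) (BT.leaf (nat_lit 36374041))) (BT.node (nat_lit 12924992) (BT.leaf (nat_lit 51698205)) (BT.leaf (nat_lit 51697429)))) (BT.node (nat_lit 12925184) (BT.node (nat_lit 12925120) (BT.leaf (nat_lit 36375329)) (BT.leaf (nat_lit 37594649))) (BT.node (nat_lit 12925248) (BT.leaf (nat_lit 50131485)) (BT.leaf (nat_lit 36377885))))) (BT.node (nat_lit 12925760) (BT.node (nat_lit 12925440) (BT.node (nat_lit 12925376) (BT.leaf (nat_lit 36379157)) (BT.leaf (nat_lit 36379929))) (BT.node (nat_lit 12925696) (BT.leaf (nat_lit 36379933)) (BT.leaf (nat_lit 50966045)))) (BT.node (nat_lit 12925888) (BT.node (nat_lit 12925824) (BT.leaf (nat_lit 37361433)) (BT.leaf (nat_lit 36381717))) (BT.node (nat_lit 12925952) (BT.leaf (nat_lit 50939165)) (BT.leaf (nat_lit 51730197))))))) (BT.node (nat_lit 12927232) (BT.node (nat_lit 12926592) (BT.node (nat_lit 12926272) (BT.node (nat_lit 12926144) (BT.node (nat_lit 12926080) (BT.leaf (nat_lit 50532629)) (BT.leaf (nat_lit 36548629))) (BT.node (nat_lit 12926208) (BT.leaf (nat_lit 37343757)) (BT.leaf (nat_lit 51704601)))) (BT.node (nat_lit 12926400) (BT.node (nat_lit 12926336) (BT.leaf (nat_lit 36385289)) (BT.leaf (nat_lit 36385293))) (BT.node (nat_lit 12926464) (BT.leaf (nat_lit 36385297)) (BT.leaf (nat_lit 36385553))))) (BT.node (nat_lit 12926912) (BT.node (nat_lit 12926720) (BT.node (nat_lit 12926656) (BT.leaf (nat_lit 51124501)) (BT.leaf (nat_lit 36386577))) (BT.node (nat_lit 12926784) (BT.leaf (nat_lit 49880609)) (BT.leaf (nat_lit 49895189)))) (BT.node (nat_lit 12927040) (BT.node (nat_lit 12926976) (BT.leaf (nat_lit 52165149)) (BT.leaf (nat_lit 37142805))) (BT.node (nat_lit 12927104) (BT.leaf (nat_lit 52165133)) (BT.leaf (nat_lit 52165909)))))) (BT.node (nat_lit 12927808) (BT.node (nat_lit 12927552) (BT.node (nat_lit 12927360) (BT.node (nat_lit 12927296) (BT.leaf (nat_lit 51788577)) (BT.leaf (nat_lit 37142789))) (BT.node (nat_lit 12927488) (BT.leaf (nat_lit 37143045)) (BT.leaf (nat_lit 52178949)))) (BT.node (nat_lit 12927680) (BT.node (nat_lit 12927616) (BT.leaf (nat_lit 36390429)) (BT.leaf (nat_lit 36390945))) (BT.node (nat_lit 12927744) (BT.leaf (nat_lit 36391185)) (BT.leaf (nat_lit 36391433))))) (BT.node (nat_lit 12928064) (BT.node (nat_lit 12927936) (BT.node (nat_lit 12927872) (BT.leaf (nat_lit 36391449)) (BT.leaf (nat_lit 37635605))) (BT.node (nat_lit 12928000) (BT.leaf (nat_lit 36392725)) (BT.leaf (nat_lit 36393233)))) (BT.node (nat_lit 12928192) (BT.node (nat_lit 12928128) (BT.leaf (nat_lit 48063521)) (BT.leaf (nat_lit 36394001))) (BT.node (nat_lit 12928256) (BT.leaf (nat_lit 51642629)) (BT.leaf (nat_lit 36394517)))))))) (BT.node (nat_lit 12931008) (BT.node (nat_lit 12929792) (BT.node (nat_lit 12928960) (BT.node (nat_lit 12928640) (BT.node (nat_lit 12928448) (BT.node (nat_lit 12928384) (BT.leaf (nat_lit 40055813)) (BT.leaf (nat_lit 36395025))) (BT.node (nat_lit 12928512) (BT.leaf (nat_lit 36395029)) (BT.leaf (nat_lit 51376149)))) (BT.node (nat_lit 12928832) (BT.node (nat_lit 12928768) (BT.leaf (nat_lit 37628957)) (BT.leaf (nat_lit 36397333))) (BT.node (nat_lit 12928896) (BT.leaf (nat_lit 48266777)) (BT.leaf (nat_lit 36397585))))) (BT.node (nat_lit 12929280) (BT.node (nat_lit 12929088) (BT.node (nat_lit 12929024) (BT.leaf (nat_lit 36397845)) (BT.leaf (nat_lit 37149457))) (BT.node (nat_lit 12929216) (BT.leaf (nat_lit 37149201)) (BT.leaf (nat_lit 51067417)))) (BT.node (nat_lit 12929408) (BT.node (nat_lit 12929344) (BT.leaf (nat_lit 51067161)) (BT.leaf (nat_lit 51716381))) (BT.node (nat_lit 12929728) (BT.leaf (nat_lit 51716121)) (BT.leaf (nat_lit 36400909)))))) (BT.node (nat_lit 12930496) (BT.node (nat_lit 12930176) (BT.node (nat_lit 12929984) (BT.node (nat_lit 12929920) (BT.leaf (nat_lit 36400913)) (BT.leaf (nat_lit 36400929))) (BT.node (nat_lit 12930048) (BT.leaf (nat_lit 36401157)) (BT.leaf (nat_lit 36402461)))) (BT.node (nat_lit 12930368) (BT.node (nat_lit 12930304) (BT.leaf (nat_lit 46945313)) (BT.leaf (nat_lit 39981345))) (BT.node (nat_lit 12930432) (BT.leaf (nat_lit 36404249)) (BT.leaf (nat_lit 36405013))))) (BT.node (nat_lit 12930752) (BT.node (nat_lit 12930624) (BT.node (nat_lit 12930560) (BT.leaf (nat_lit 49642785)) (BT.leaf (nat_lit 51723277))) (BT.node (nat_lit 12930688) (BT.leaf (nat_lit 51723037)) (BT.leaf (nat_lit 50806277)))) (BT.node (nat_lit 12930880) (BT.node (nat_lit 12930816) (BT.leaf (nat_lit 37145361)) (BT.leaf (nat_lit 48220945))) (BT.node (nat_lit 12930944) (BT.leaf (nat_lit 47128345)) (BT.leaf (nat_lit 47128349))))))) (BT.node (nat_lit 12932288) (BT.node (nat_lit 12931712) (BT.node (nat_lit 12931456) (BT.node (nat_lit 12931136) (BT.node (nat_lit 12931072) (BT.leaf (nat_lit 36407325)) (BT.leaf (nat_lit 36408345))) (BT.node (nat_lit 12931392) (BT.leaf (nat_lit 36408349)) (BT.leaf (nat_lit 36409365)))) (BT.node (nat_lit 12931584) (BT.node (nat_lit 12931520) (BT.leaf (nat_lit 36409621)) (BT.leaf (nat_lit 52191517))) (BT.node (nat_lit 12931648) (BT.leaf (nat_lit 37152521)) (BT.leaf (nat_lit 36409889))))) (BT.node (nat_lit 12932032) (BT.node (nat_lit 12931840) (BT.node (nat_lit 12931776) (BT.leaf (nat_lit 36410389)) (BT.leaf (nat_lit 36411421))) (BT.node (nat_lit 12931904) (BT.leaf (nat_lit 36411937)) (BT.leaf (nat_lit 51404817)))) (BT.node (nat_lit 12932160) (BT.node (nat_lit 12932096) (BT.leaf (nat_lit 49908257)) (BT.leaf (nat_lit 51728905))) (BT.node (nat_lit 12932224) (BT.leaf (nat_lit 36414489)) (BT.leaf (nat_lit 52167453)))))) (BT.node (nat_lit 12932928) (BT.node (nat_lit 12932608) (BT.node (nat_lit 12932416) (BT.node (nat_lit 12932352) (BT.leaf (nat_lit 36414749)) (BT.leaf (nat_lit 36415505))) (BT.node (nat_lit 12932544) (BT.leaf (nat_lit 37105421)) (BT.leaf (nat_lit 36419097)))) (BT.node (nat_lit 12932736) (BT.node (nat_lit 12932672) (BT.leaf (nat_lit 36419101)) (BT.leaf (nat_lit 36419605))) (BT.node (nat_lit 12932864) (BT.leaf (nat_lit 36420117)) (BT.leaf (nat_lit 37607441))))) (BT.node (nat_lit 12933184) (BT.node (nat_lit 12933056) (BT.node (nat_lit 12932992) (BT.leaf (nat_lit 37377301)) (BT.leaf (nat_lit 36422677))) (BT.node (nat_lit 12933120) (BT.leaf (nat_lit 51020045)) (BT.leaf (nat_lit 50998285)))) (BT.node (nat_lit 12933312) (BT.node (nat_lit 12933248) (BT.leaf (nat_lit 36424969)) (BT.leaf (nat_lit 52054817))) (BT.node (nat_lit 12933376) (BT.leaf (nat_lit 36424989)) (BT.leaf (nat_lit 36424985))))))))) (BT.node (nat_lit 12938176) (BT.node (nat_lit 12936000) (BT.node (nat_lit 12934784) (BT.node (nat_lit 12934336) (BT.node (nat_lit 12933824) (BT.node (nat_lit 12933632) (BT.node (nat_lit 12933568) (BT.leaf (nat_lit 50998809)) (BT.leaf (nat_lit 51652125))) (BT.node (nat_lit 12933696) (BT.leaf (nat_lit 51673621)) (BT.leaf (nat_lit 48119817)))) (BT.node (nat_lit 12933952) (BT.node (nat_lit 12933888) (BT.leaf (nat_lit 48119305)) (BT.leaf (nat_lit 36429065))) (BT.node (nat_lit 12934272) (BT.leaf (nat_lit 44986145)) (BT.leaf (nat_lit 50249997))))) (BT.node (nat_lit 12934407) (BT.node (nat_lit 12934401) (BT.node (nat_lit 12934400) (BT.leaf (nat_lit 36432665)) (BT.leaf (nat_lit 46767385))) (BT.node (nat_lit 12934404) (BT.leaf (nat_lit 809548)) (BT.leaf (nat_lit 809548)))) (BT.node (nat_lit 12934656) (BT.node (nat_lit 12934464) (BT.leaf (nat_lit 809548)) (BT.leaf (nat_lit 36550925))) (BT.node (nat_lit 12934720) (BT.leaf (nat_lit 46407189)) (BT.leaf (nat_lit 36434197)))))) (BT.node (nat_lit 12935488) (BT.node (nat_lit 12935104) (BT.node (nat_lit 12934976) (BT.node (nat_lit 12934912) (BT.leaf (nat_lit 37667333)) (BT.leaf (nat_lit 36435473))) (BT.node (nat_lit 12935040) (BT.leaf (nat_lit 36436245)) (BT.leaf (nat_lit 36436249)))) (BT.node (nat_lit 12935232) (BT.node (nat_lit 12935168) (BT.leaf (nat_lit 36436253)) (BT.leaf (nat_lit 36436761))) (BT.node (nat_lit 12935296) (BT.leaf (nat_lit 36436765)) (BT.leaf (nat_lit 36437009))))) (BT.node (nat_lit 12935744) (BT.node (nat_lit 12935616) (BT.node (nat_lit 12935552) (BT.leaf (nat_lit 36438029)) (BT.leaf (nat_lit 46580505))) (BT.node (nat_lit 12935680) (BT.leaf (nat_lit 36438545)) (BT.leaf (nat_lit 36438549)))) (BT.node (nat_lit 12935872) (BT.node (nat_lit 12935808) (BT.leaf (nat_lit 38768669)) (BT.leaf (nat_lit 36438805))) (BT.node (nat_lit 12935937) (BT.leaf (nat_lit 36439065)) (BT.leaf (nat_lit 813212))))))) (BT.node (nat_lit 12937088) (BT.node (nat_lit 12936576) (BT.node (nat_lit 12936320) (BT.node (nat_lit 12936192) (BT.node (nat_lit 12936064) (BT.leaf (nat_lit 36441361)) (BT.leaf (nat_lit 36441365))) (BT.node (nat_lit 12936256) (BT.leaf (nat_lit 50276633)) (BT.leaf (nat_lit 36442897)))) (BT.node (nat_lit 12936448) (BT.node (nat_lit 12936384) (BT.leaf (nat_lit 36442649)) (BT.leaf (nat_lit 51520009))) (BT.node (nat_lit 12936512) (BT.leaf (nat_lit 51402757)) (BT.leaf (nat_lit 36444445))))) (BT.node (nat_lit 12936832) (BT.node (nat_lit 12936704) (BT.node (nat_lit 12936640) (BT.leaf (nat_lit 36444957)) (BT.leaf (nat_lit 36445969))) (BT.node (nat_lit 12936768) (BT.leaf (nat_lit 36447005)) (BT.leaf (nat_lit 36447505)))) (BT.node (nat_lit 12936960) (BT.node (nat_lit 12936896) (BT.leaf (nat_lit 36448029)) (BT.leaf (nat_lit 48153117))) (BT.node (nat_lit 12937024) (BT.leaf (nat_lit 51873041)) (BT.leaf (nat_lit 36449797)))))) (BT.node (nat_lit 12937664) (BT.node (nat_lit 12937344) (BT.node (nat_lit 12937216) (BT.node (nat_lit 12937152) (BT.leaf (nat_lit 50324485)) (BT.leaf (nat_lit 51252757))) (BT.node (nat_lit 12937280) (BT.leaf (nat_lit 39582241)) (BT.leaf (nat_lit 36454417)))) (BT.node (nat_lit 12937472) (BT.node (nat_lit 12937408) (BT.leaf (nat_lit 51840261)) (BT.leaf (nat_lit 46417437))) (BT.node (nat_lit 12937600) (BT.leaf (nat_lit 36454673)) (BT.leaf (nat_lit 36456477))))) (BT.node (nat_lit 12937856) (BT.node (nat_lit 12937728) (BT.node (nat_lit 12937665) (BT.leaf (nat_lit 36455961)) (BT.leaf (nat_lit 809112))) (BT.node (nat_lit 12937792) (BT.leaf (nat_lit 36509709)) (BT.leaf (nat_lit 36457749)))) (BT.node (nat_lit 12937984) (BT.node (nat_lit 12937920) (BT.leaf (nat_lit 51531529)) (BT.leaf (nat_lit 47444249))) (BT.node (nat_lit 12938112) (BT.leaf (nat_lit 36459281)) (BT.leaf (nat_lit 49956897)))))))) (BT.node (nat_lit 12940544) (BT.node (nat_lit 12939328) (BT.node (nat_lit 12938688) (BT.node (nat_lit 12938432) (BT.node (nat_lit 12938304) (BT.node (nat_lit 12938240) (BT.leaf (nat_lit 51486241)) (BT.leaf (nat_lit 51485985))) (BT.node (nat_lit 12938368) (BT.leaf (nat_lit 46733593)) (BT.leaf (nat_lit 36613145)))) (BT.node (nat_lit 12938560) (BT.node (nat_lit 12938496) (BT.leaf (nat_lit 36461585)) (BT.leaf (nat_lit 36462101))) (BT.node (nat_lit 12938624) (BT.leaf (nat_lit 51282709)) (BT.leaf (nat_lit 50949665))))) (BT.node (nat_lit 12938944) (BT.node (nat_lit 12938816) (BT.node (nat_lit 12938752) (BT.leaf (nat_lit 36463893)) (BT.leaf (nat_lit 51647493))) (BT.node (nat_lit 12938880) (BT.leaf (nat_lit 50846725)) (BT.leaf (nat_lit 48475169)))) (BT.node (nat_lit 12939136) (BT.node (nat_lit 12939072) (BT.leaf (nat_lit 36588317)) (BT.leaf (nat_lit 49827597))) (BT.node (nat_lit 12939200) (BT.leaf (nat_lit 36468249)) (BT.leaf (nat_lit 37459729)))))) (BT.node (nat_lit 12939968) (BT.node (nat_lit 12939648) (BT.node (nat_lit 12939520) (BT.node (nat_lit 12939456) (BT.leaf (nat_lit 51789837)) (BT.leaf (nat_lit 51908625))) (BT.node (nat_lit 12939584) (BT.leaf (nat_lit 51908629)) (BT.leaf (nat_lit 36472849)))) (BT.node (nat_lit 12939776) (BT.node (nat_lit 12939712) (BT.leaf (nat_lit 36473109)) (BT.leaf (nat_lit 36473113))) (BT.node (nat_lit 12939840) (BT.leaf (nat_lit 51800857)) (BT.leaf (nat_lit 37549061))))) (BT.node (nat_lit 12940288) (BT.node (nat_lit 12940096) (BT.node (nat_lit 12940032) (BT.leaf (nat_lit 36520709)) (BT.leaf (nat_lit 37665045))) (BT.node (nat_lit 12940160) (BT.leaf (nat_lit 36476689)) (BT.leaf (nat_lit 51814669)))) (BT.node (nat_lit 12940416) (BT.node (nat_lit 12940352) (BT.leaf (nat_lit 36479257)) (BT.leaf (nat_lit 36479261))) (BT.node (nat_lit 12940480) (BT.leaf (nat_lit 36479761)) (BT.leaf (nat_lit 51660309))))))) (BT.node (nat_lit 12941696) (BT.node (nat_lit 12941056) (BT.node (nat_lit 12940800) (BT.node (nat_lit 12940672) (BT.node (nat_lit 12940608) (BT.leaf (nat_lit 47100421)) (BT.leaf (nat_lit 52443665))) (BT.node (nat_lit 12940736) (BT.leaf (nat_lit 36481305)) (BT.leaf (nat_lit 36481309)))) (BT.node (nat_lit 12940928) (BT.node (nat_lit 12940864) (BT.leaf (nat_lit 37576721)) (BT.leaf (nat_lit 52383761))) (BT.node (nat_lit 12940992) (BT.leaf (nat_lit 51763465)) (BT.leaf (nat_lit 52240917))))) (BT.node (nat_lit 12941376) (BT.node (nat_lit 12941248) (BT.node (nat_lit 12941184) (BT.leaf (nat_lit 37483549)) (BT.leaf (nat_lit 36482073))) (BT.node (nat_lit 12941312) (BT.leaf (nat_lit 36482325)) (BT.leaf (nat_lit 37253893)))) (BT.node (nat_lit 12941504) (BT.node (nat_lit 12941440) (BT.leaf (nat_lit 37327893)) (BT.leaf (nat_lit 51765529))) (BT.node (nat_lit 12941568) (BT.leaf (nat_lit 37547269)) (BT.leaf (nat_lit 36486677)))))) (BT.node (nat_lit 12942656) (BT.node (nat_lit 12942208) (BT.node (nat_lit 12941824) (BT.node (nat_lit 12941760) (BT.leaf (nat_lit 37599765)) (BT.leaf (nat_lit 37599009))) (BT.node (nat_lit 12941888) (BT.leaf (nat_lit 37648389)) (BT.leaf (nat_lit 36488977)))) (BT.node (nat_lit 12942528) (BT.node (nat_lit 12942272) (BT.leaf (nat_lit 52310809)) (BT.leaf (nat_lit 51768857))) (BT.node (nat_lit 12942592) (BT.leaf (nat_lit 52386589)) (BT.leaf (nat_lit 51757829))))) (BT.node (nat_lit 12943232) (BT.node (nat_lit 12942784) (BT.node (nat_lit 12942720) (BT.leaf (nat_lit 52433157)) (BT.leaf (nat_lit 46434313))) (BT.node (nat_lit 12942848) (BT.leaf (nat_lit 46433805)) (BT.leaf (nat_lit 49825045)))) (BT.node (nat_lit 12943360) (BT.node (nat_lit 12943296) (BT.leaf (nat_lit 36498453)) (BT.leaf (nat_lit 37494813))) (BT.node (nat_lit 12943488) (BT.leaf (nat_lit 52419357)) (BT.leaf (nat_lit 36500501)))))))))) (BT.node (nat_lit 12954688) (BT.node (nat_lit 12948800) (BT.node (nat_lit 12946240) (BT.node (nat_lit 12945216) (BT.node (nat_lit 12944384) (BT.node (nat_lit 12943872) (BT.node (nat_lit 12943680) (BT.node (nat_lit 12943616) (BT.leaf (nat_lit 36501017)) (BT.leaf (nat_lit 36501021))) (BT.node (nat_lit 12943808) (BT.leaf (nat_lit 36501265)) (BT.leaf (nat_lit 51814169)))) (BT.node (nat_lit 12944192) (BT.node (nat_lit 12944064) (BT.leaf (nat_lit 52268037)) (BT.leaf (nat_lit 37300513))) (BT.node (nat_lit 12944320) (BT.leaf (nat_lit 36503061)) (BT.leaf (nat_lit 36502801))))) (BT.node (nat_lit 12944896) (BT.node (nat_lit 12944768) (BT.node (nat_lit 12944512) (BT.leaf (nat_lit 49975309)) (BT.leaf (nat_lit 52367125))) (BT.node (nat_lit 12944832) (BT.leaf (nat_lit 36504853)) (BT.leaf (nat_lit 52313097)))) (BT.node (nat_lit 12945152) (BT.node (nat_lit 12945024) (BT.leaf (nat_lit 36504861)) (BT.leaf (nat_lit 37220125))) (BT.node (nat_lit 12945159) (BT.leaf (nat_lit 36505873)) (BT.leaf (nat_lit 809552)))))) (BT.node (nat_lit 12945728) (BT.node (nat_lit 12945472) (BT.node (nat_lit 12945280) (BT.node (nat_lit 12945220) (BT.leaf (nat_lit 37103377)) (BT.leaf (nat_lit 815096))) (BT.node (nat_lit 12945344) (BT.leaf (nat_lit 51812869)) (BT.leaf (nat_lit 37466657)))) (BT.node (nat_lit 12945600) (BT.node (nat_lit 12945536) (BT.leaf (nat_lit 51902737)) (BT.leaf (nat_lit 36507929))) (BT.node (nat_lit 12945664) (BT.leaf (nat_lit 48712725)) (BT.leaf (nat_lit 51780113))))) (BT.node (nat_lit 12945984) (BT.node (nat_lit 12945856) (BT.node (nat_lit 12945792) (BT.leaf (nat_lit 50776593)) (BT.leaf (nat_lit 36509721))) (BT.node (nat_lit 12945920) (BT.leaf (nat_lit 36510229)) (BT.leaf (nat_lit 44712709)))) (BT.node (nat_lit 12946112) (BT.node (nat_lit 12946048) (BT.leaf (nat_lit 36510237)) (BT.leaf (nat_lit 36510481))) (BT.node (nat_lit 12946176) (BT.leaf (nat_lit 37662213)) (BT.leaf (nat_lit 36511497))))))) (BT.node (nat_lit 12947520) (BT.node (nat_lit 12947008) (BT.node (nat_lit 12946496) (BT.node (nat_lit 12946368) (BT.node (nat_lit 12946304) (BT.leaf (nat_lit 36511501)) (BT.leaf (nat_lit 36511517))) (BT.node (nat_lit 12946432) (BT.leaf (nat_lit 36512529)) (BT.leaf (nat_lit 36512785)))) (BT.node (nat_lit 12946880) (BT.node (nat_lit 12946624) (BT.leaf (nat_lit 51546645)) (BT.leaf (nat_lit 37481249))) (BT.node (nat_lit 12946944) (BT.leaf (nat_lit 52179489)) (BT.leaf (nat_lit 50001185))))) (BT.node (nat_lit 12947264) (BT.node (nat_lit 12947136) (BT.node (nat_lit 12947072) (BT.leaf (nat_lit 52444953)) (BT.leaf (nat_lit 51788573))) (BT.node (nat_lit 12947200) (BT.leaf (nat_lit 37580301)) (BT.leaf (nat_lit 36517913)))) (BT.node (nat_lit 12947392) (BT.node (nat_lit 12947328) (BT.leaf (nat_lit 36517917)) (BT.leaf (nat_lit 37581081))) (BT.node (nat_lit 12947456) (BT.leaf (nat_lit 36518421)) (BT.leaf (nat_lit 37691157)))))) (BT.node (nat_lit 12948032) (BT.node (nat_lit 12947712) (BT.node (nat_lit 12947584) (BT.node (nat_lit 12947525) (BT.leaf (nat_lit 36520985)) (BT.leaf (nat_lit 819276))) (BT.node (nat_lit 12947648) (BT.leaf (nat_lit 51136521)) (BT.leaf (nat_lit 36523033)))) (BT.node (nat_lit 12947840) (BT.node (nat_lit 12947776) (BT.leaf (nat_lit 52151813)) (BT.leaf (nat_lit 36523545))) (BT.node (nat_lit 12947968) (BT.leaf (nat_lit 36523549)) (BT.leaf (nat_lit 36525085))))) (BT.node (nat_lit 12948358) (BT.node (nat_lit 12948224) (BT.node (nat_lit 12948096) (BT.leaf (nat_lit 36525841)) (BT.leaf (nat_lit 36525597))) (BT.node (nat_lit 12948352) (BT.leaf (nat_lit 52248597)) (BT.leaf (nat_lit 52359189)))) (BT.node (nat_lit 12948672) (BT.node (nat_lit 12948608) (BT.leaf (nat_lit 813200)) (BT.leaf (nat_lit 36531741))) (BT.node (nat_lit 12948736) (BT.leaf (nat_lit 37614853)) (BT.leaf (nat_lit 36802309)))))))) (BT.node (nat_lit 12951936) (BT.node (nat_lit 12950208) (BT.node (nat_lit 12949440) (BT.node (nat_lit 12949184) (BT.node (nat_lit 12948928) (BT.node (nat_lit 12948864) (BT.leaf (nat_lit 36802821)) (BT.leaf (nat_lit 52179233))) (BT.node (nat_lit 12948992) (BT.leaf (nat_lit 36533009)) (BT.leaf (nat_lit 37511457)))) (BT.node (nat_lit 12949312) (BT.node (nat_lit 12949248) (BT.leaf (nat_lit 52204309)) (BT.leaf (nat_lit 36534533))) (BT.node (nat_lit 12949376) (BT.leaf (nat_lit 36618773)) (BT.leaf (nat_lit 36534301))))) (BT.node (nat_lit 12949696) (BT.node (nat_lit 12949568) (BT.node (nat_lit 12949504) (BT.leaf (nat_lit 52432913)) (BT.leaf (nat_lit 52440601))) (BT.node (nat_lit 12949632) (BT.leaf (nat_lit 36534801)) (BT.leaf (nat_lit 36535057)))) (BT.node (nat_lit 12949952) (BT.node (nat_lit 12949824) (BT.leaf (nat_lit 51312901)) (BT.leaf (nat_lit 37166113))) (BT.node (nat_lit 12950144) (BT.leaf (nat_lit 37166369)) (BT.leaf (nat_lit 37229829)))))) (BT.node (nat_lit 12950848) (BT.node (nat_lit 12950528) (BT.node (nat_lit 12950336) (BT.node (nat_lit 12950272) (BT.leaf (nat_lit 37537029)) (BT.leaf (nat_lit 37360649))) (BT.node (nat_lit 12950400) (BT.leaf (nat_lit 36538133)) (BT.leaf (nat_lit 36538137)))) (BT.node (nat_lit 12950656) (BT.node (nat_lit 12950592) (BT.leaf (nat_lit 36539153)) (BT.leaf (nat_lit 36540701))) (BT.node (nat_lit 12950720) (BT.leaf (nat_lit 47713309)) (BT.leaf (nat_lit 52294421))))) (BT.node (nat_lit 12951488) (BT.node (nat_lit 12951296) (BT.node (nat_lit 12950912) (BT.leaf (nat_lit 51803677)) (BT.leaf (nat_lit 37644565))) (BT.node (nat_lit 12951360) (BT.leaf (nat_lit 36542741)) (BT.leaf (nat_lit 36542997)))) (BT.node (nat_lit 12951808) (BT.node (nat_lit 12951616) (BT.leaf (nat_lit 36543509)) (BT.leaf (nat_lit 52314641))) (BT.node (nat_lit 12951872) (BT.leaf (nat_lit 36544533)) (BT.leaf (nat_lit 36544789))))))) (BT.node (nat_lit 12953472) (BT.node (nat_lit 12952640) (BT.node (nat_lit 12952192) (BT.node (nat_lit 12952064) (BT.node (nat_lit 12952000) (BT.leaf (nat_lit 48994077)) (BT.leaf (nat_lit 36546589))) (BT.node (nat_lit 12952128) (BT.leaf (nat_lit 37660705)) (BT.leaf (nat_lit 36548613)))) (BT.node (nat_lit 12952512) (BT.node (nat_lit 12952384) (BT.leaf (nat_lit 51577633)) (BT.leaf (nat_lit 51848481))) (BT.node (nat_lit 12952576) (BT.leaf (nat_lit 37447713)) (BT.leaf (nat_lit 36550429))))) (BT.node (nat_lit 12952960) (BT.node (nat_lit 12952768) (BT.node (nat_lit 12952704) (BT.leaf (nat_lit 51782917)) (BT.leaf (nat_lit 36550941))) (BT.node (nat_lit 12952896) (BT.leaf (nat_lit 49938185)) (BT.leaf (nat_lit 52445701)))) (BT.node (nat_lit 12953287) (BT.node (nat_lit 12953280) (BT.leaf (nat_lit 51208473)) (BT.leaf (nat_lit 36552977))) (BT.node (nat_lit 12953344) (BT.leaf (nat_lit 809660)) (BT.leaf (nat_lit 51780869)))))) (BT.node (nat_lit 12954048) (BT.node (nat_lit 12953728) (BT.node (nat_lit 12953600) (BT.node (nat_lit 12953536) (BT.leaf (nat_lit 37412385)) (BT.leaf (nat_lit 51775513))) (BT.node (nat_lit 12953664) (BT.leaf (nat_lit 51775517)) (BT.leaf (nat_lit 52268057)))) (BT.node (nat_lit 12953856) (BT.node (nat_lit 12953792) (BT.leaf (nat_lit 52362001)) (BT.leaf (nat_lit 36555801))) (BT.node (nat_lit 12953920) (BT.leaf (nat_lit 51155733)) (BT.leaf (nat_lit 52164617))))) (BT.node (nat_lit 12954432) (BT.node (nat_lit 12954240) (BT.node (nat_lit 12954112) (BT.leaf (nat_lit 37178657)) (BT.leaf (nat_lit 37178401))) (BT.node (nat_lit 12954368) (BT.leaf (nat_lit 36558869)) (BT.leaf (nat_lit 37658913)))) (BT.node (nat_lit 12954560) (BT.node (nat_lit 12954496) (BT.leaf (nat_lit 36560921)) (BT.leaf (nat_lit 36560925))) (BT.node (nat_lit 12954624) (BT.leaf (nat_lit 51811333)) (BT.leaf (nat_lit 46830097))))))))) (BT.node (nat_lit 12960320) (BT.node (nat_lit 12957956) (BT.node (nat_lit 12956608) (BT.node (nat_lit 12955648) (BT.node (nat_lit 12955072) (BT.node (nat_lit 12954816) (BT.node (nat_lit 12954752) (BT.leaf (nat_lit 36561437)) (BT.leaf (nat_lit 36562457))) (BT.node (nat_lit 12954944) (BT.leaf (nat_lit 36562461)) (BT.leaf (nat_lit 36563741)))) (BT.node (nat_lit 12955328) (BT.node (nat_lit 12955264) (BT.leaf (nat_lit 51404549)) (BT.leaf (nat_lit 36736005))) (BT.node (nat_lit 12955520) (BT.leaf (nat_lit 36736013)) (BT.leaf (nat_lit 36567561))))) (BT.node (nat_lit 12956160) (BT.node (nat_lit 12955904) (BT.node (nat_lit 12955776) (BT.leaf (nat_lit 36567577)) (BT.leaf (nat_lit 36567829))) (BT.node (nat_lit 12955968) (BT.leaf (nat_lit 36568345)) (BT.leaf (nat_lit 36568349)))) (BT.node (nat_lit 12956352) (BT.node (nat_lit 12956224) (BT.leaf (nat_lit 52243221)) (BT.leaf (nat_lit 51806489))) (BT.node (nat_lit 12956416) (BT.leaf (nat_lit 51825693)) (BT.leaf (nat_lit 51898129)))))) (BT.node (nat_lit 12957568) (BT.node (nat_lit 12957248) (BT.node (nat_lit 12956864) (BT.node (nat_lit 12956736) (BT.leaf (nat_lit 36570141)) (BT.leaf (nat_lit 49888261))) (BT.node (nat_lit 12957056) (BT.leaf (nat_lit 37419269)) (BT.leaf (nat_lit 36571157)))) (BT.node (nat_lit 12957440) (BT.node (nat_lit 12957376) (BT.leaf (nat_lit 36572185)) (BT.leaf (nat_lit 36572953))) (BT.node (nat_lit 12957504) (BT.leaf (nat_lit 36572957)) (BT.leaf (nat_lit 36573201))))) (BT.node (nat_lit 12957824) (BT.node (nat_lit 12957696) (BT.node (nat_lit 12957632) (BT.leaf (nat_lit 36573465)) (BT.leaf (nat_lit 36573469))) (BT.node (nat_lit 12957760) (BT.leaf (nat_lit 36573713)) (BT.leaf (nat_lit 36574233)))) (BT.node (nat_lit 12957952) (BT.node (nat_lit 12957888) (BT.leaf (nat_lit 36574481)) (BT.leaf (nat_lit 36574749))) (BT.node (nat_lit 12957953) (BT.leaf (nat_lit 37105693)) (BT.leaf (nat_lit 810936))))))) (BT.node (nat_lit 12959232) (BT.node (nat_lit 12958592) (BT.node (nat_lit 12958336) (BT.node (nat_lit 12958208) (BT.node (nat_lit 12958144) (BT.leaf (nat_lit 810936)) (BT.leaf (nat_lit 37582625))) (BT.node (nat_lit 12958272) (BT.leaf (nat_lit 36578329)) (BT.leaf (nat_lit 36578841)))) (BT.node (nat_lit 12958464) (BT.node (nat_lit 12958400) (BT.leaf (nat_lit 36579345)) (BT.leaf (nat_lit 36579601))) (BT.node (nat_lit 12958528) (BT.leaf (nat_lit 36579861)) (BT.leaf (nat_lit 36579865))))) (BT.node (nat_lit 12958848) (BT.node (nat_lit 12958720) (BT.node (nat_lit 12958656) (BT.leaf (nat_lit 36579869)) (BT.leaf (nat_lit 36580113))) (BT.node (nat_lit 12958784) (BT.leaf (nat_lit 36580373)) (BT.leaf (nat_lit 36580377)))) (BT.node (nat_lit 12959104) (BT.node (nat_lit 12958912) (BT.leaf (nat_lit 36580381)) (BT.leaf (nat_lit 36747033))) (BT.node (nat_lit 12959168) (BT.leaf (nat_lit 49818385)) (BT.leaf (nat_lit 36819737)))))) (BT.node (nat_lit 12959744) (BT.node (nat_lit 12959488) (BT.node (nat_lit 12959360) (BT.node (nat_lit 12959296) (BT.leaf (nat_lit 51734817)) (BT.leaf (nat_lit 36586265))) (BT.node (nat_lit 12959424) (BT.leaf (nat_lit 36586269)) (BT.leaf (nat_lit 36587029)))) (BT.node (nat_lit 12959616) (BT.node (nat_lit 12959552) (BT.leaf (nat_lit 36587037)) (BT.leaf (nat_lit 52315913))) (BT.node (nat_lit 12959680) (BT.leaf (nat_lit 51771169)) (BT.leaf (nat_lit 50312197))))) (BT.node (nat_lit 12960000) (BT.node (nat_lit 12959872) (BT.node (nat_lit 12959808) (BT.leaf (nat_lit 52062729)) (BT.leaf (nat_lit 51219741))) (BT.node (nat_lit 12959936) (BT.leaf (nat_lit 51132437)) (BT.leaf (nat_lit 37222409)))) (BT.node (nat_lit 12960128) (BT.node (nat_lit 12960064) (BT.leaf (nat_lit 36593173)) (BT.leaf (nat_lit 36593945))) (BT.node (nat_lit 12960192) (BT.leaf (nat_lit 36594193)) (BT.leaf (nat_lit 36595485)))))))) (BT.node (nat_lit 12962816) (BT.node (nat_lit 12961408) (BT.node (nat_lit 12960832) (BT.node (nat_lit 12960576) (BT.node (nat_lit 12960448) (BT.node (nat_lit 12960384) (BT.leaf (nat_lit 36596505)) (BT.leaf (nat_lit 45105157))) (BT.node (nat_lit 12960512) (BT.leaf (nat_lit 36596757)) (BT.leaf (nat_lit 50052869)))) (BT.node (nat_lit 12960704) (BT.node (nat_lit 12960640) (BT.leaf (nat_lit 37340961)) (BT.leaf (nat_lit 37341189))) (BT.node (nat_lit 12960768) (BT.leaf (nat_lit 36599049)) (BT.leaf (nat_lit 36599073))))) (BT.node (nat_lit 12961152) (BT.node (nat_lit 12960960) (BT.node (nat_lit 12960896) (BT.leaf (nat_lit 51903509)) (BT.leaf (nat_lit 37521693))) (BT.node (nat_lit 12961088) (BT.leaf (nat_lit 36604181)) (BT.leaf (nat_lit 48120589)))) (BT.node (nat_lit 12961280) (BT.node (nat_lit 12961216) (BT.leaf (nat_lit 36601609)) (BT.leaf (nat_lit 36602649))) (BT.node (nat_lit 12961344) (BT.leaf (nat_lit 36602653)) (BT.leaf (nat_lit 36603161)))))) (BT.node (nat_lit 12962176) (BT.node (nat_lit 12961984) (BT.node (nat_lit 12961728) (BT.node (nat_lit 12961472) (BT.leaf (nat_lit 36603165)) (BT.leaf (nat_lit 36603409))) (BT.node (nat_lit 12961920) (BT.leaf (nat_lit 51847181)) (BT.leaf (nat_lit 51824645)))) (BT.node (nat_lit 12962112) (BT.node (nat_lit 12962048) (BT.leaf (nat_lit 51192585)) (BT.leaf (nat_lit 49967625))) (BT.node (nat_lit 12962120) (BT.leaf (nat_lit 36606485)) (BT.leaf (nat_lit 816524))))) (BT.node (nat_lit 12962432) (BT.node (nat_lit 12962304) (BT.node (nat_lit 12962240) (BT.leaf (nat_lit 36606737)) (BT.leaf (nat_lit 36606741))) (BT.node (nat_lit 12962368) (BT.leaf (nat_lit 36608277)) (BT.leaf (nat_lit 52271381)))) (BT.node (nat_lit 12962560) (BT.node (nat_lit 12962496) (BT.leaf (nat_lit 51176469)) (BT.leaf (nat_lit 36608789))) (BT.node (nat_lit 12962624) (BT.leaf (nat_lit 36609813)) (BT.leaf (nat_lit 36609821))))))) (BT.node (nat_lit 12964992) (BT.node (nat_lit 12963648) (BT.node (nat_lit 12963136) (BT.node (nat_lit 12962944) (BT.node (nat_lit 12962880) (BT.leaf (nat_lit 37628181)) (BT.leaf (nat_lit 37012769))) (BT.node (nat_lit 12963008) (BT.leaf (nat_lit 51367689)) (BT.leaf (nat_lit 51905549)))) (BT.node (nat_lit 12963264) (BT.node (nat_lit 12963200) (BT.leaf (nat_lit 51805217)) (BT.leaf (nat_lit 36613401))) (BT.node (nat_lit 12963328) (BT.leaf (nat_lit 36613909)) (BT.leaf (nat_lit 52252177))))) (BT.node (nat_lit 12964036) (BT.node (nat_lit 12963904) (BT.node (nat_lit 12963776) (BT.leaf (nat_lit 52116001)) (BT.leaf (nat_lit 51853341))) (BT.node (nat_lit 12963968) (BT.leaf (nat_lit 50073117)) (BT.leaf (nat_lit 36620569)))) (BT.node (nat_lit 12964160) (BT.node (nat_lit 12964096) (BT.leaf (nat_lit 811196)) (BT.leaf (nat_lit 51856669))) (BT.node (nat_lit 12964928) (BT.leaf (nat_lit 51771909)) (BT.leaf (nat_lit 52250637)))))) (BT.node (nat_lit 12965824) (BT.node (nat_lit 12965568) (BT.node (nat_lit 12965440) (BT.node (nat_lit 12965376) (BT.leaf (nat_lit 37584657)) (BT.leaf (nat_lit 37487385))) (BT.node (nat_lit 12965504) (BT.leaf (nat_lit 48995353)) (BT.leaf (nat_lit 38457353)))) (BT.node (nat_lit 12965696) (BT.node (nat_lit 12965632) (BT.leaf (nat_lit 36627221)) (BT.leaf (nat_lit 51771425))) (BT.node (nat_lit 12965760) (BT.leaf (nat_lit 36629017)) (BT.leaf (nat_lit 51449113))))) (BT.node (nat_lit 12966400) (BT.node (nat_lit 12966016) (BT.node (nat_lit 12965952) (BT.leaf (nat_lit 51651617)) (BT.leaf (nat_lit 49564681))) (BT.node (nat_lit 12966208) (BT.leaf (nat_lit 50467617)) (BT.leaf (nat_lit 50538013)))) (BT.node (nat_lit 12966592) (BT.node (nat_lit 12966464) (BT.leaf (nat_lit 36633109)) (BT.leaf (nat_lit 52112153))) (BT.node (nat_lit 12966784) (BT.leaf (nat_lit 36633877)) (BT.leaf (nat_lit 36634645))))))))))) (BT.node (nat_lit 12989376) (BT.node (nat_lit 12978560) (BT.node (nat_lit 12973312) (BT.node (nat_lit 12970624) (BT.node (nat_lit 12968960) (BT.node (nat_lit 12967680) (BT.node (nat_lit 12967104) (BT.node (nat_lit 12966976) (BT.node (nat_lit 12966912) (BT.leaf (nat_lit 51149061)) (BT.leaf (nat_lit 50144537))) (BT.node (nat_lit 12967040) (BT.leaf (nat_lit 49511713)) (BT.leaf (nat_lit 51595293)))) (BT.node (nat_lit 12967296) (BT.node (nat_lit 12967168) (BT.leaf (nat_lit 49512737)) (BT.leaf (nat_lit 51616033))) (BT.node (nat_lit 12967616) (BT.leaf (nat_lit 36635929)) (BT.leaf (nat_lit 36637205))))) (BT.node (nat_lit 12967936) (BT.node (nat_lit 12967808) (BT.node (nat_lit 12967744) (BT.leaf (nat_lit 36637473)) (BT.leaf (nat_lit 36637713))) (BT.node (nat_lit 12967872) (BT.leaf (nat_lit 39115293)) (BT.leaf (nat_lit 51450141)))) (BT.node (nat_lit 12968128) (BT.node (nat_lit 12968000) (BT.leaf (nat_lit 36639009)) (BT.leaf (nat_lit 52225565))) (BT.node (nat_lit 12968256) (BT.leaf (nat_lit 52225545)) (BT.leaf (nat_lit 50242829)))))) (BT.node (nat_lit 12969920) (BT.node (nat_lit 12969216) (BT.node (nat_lit 12969088) (BT.node (nat_lit 12969024) (BT.leaf (nat_lit 50782229)) (BT.leaf (nat_lit 36647953))) (BT.node (nat_lit 12969152) (BT.leaf (nat_lit 36648465)) (BT.leaf (nat_lit 51224341)))) (BT.node (nat_lit 12969600) (BT.node (nat_lit 12969280) (BT.leaf (nat_lit 37306637)) (BT.leaf (nat_lit 36649245))) (BT.node (nat_lit 12969664) (BT.leaf (nat_lit 37313561)) (BT.leaf (nat_lit 36652565))))) (BT.node (nat_lit 12970240) (BT.node (nat_lit 12970048) (BT.node (nat_lit 12969984) (BT.leaf (nat_lit 36654881)) (BT.leaf (nat_lit 37340697))) (BT.node (nat_lit 12970049) (BT.leaf (nat_lit 36697881)) (BT.leaf (nat_lit 810816)))) (BT.node (nat_lit 12970432) (BT.node (nat_lit 12970368) (BT.leaf (nat_lit 36655649)) (BT.leaf (nat_lit 52289301))) (BT.node (nat_lit 12970560) (BT.leaf (nat_lit 36656661)) (BT.leaf (nat_lit 51739401))))))) (BT.node (nat_lit 12971904) (BT.node (nat_lit 12971328) (BT.node (nat_lit 12971072) (BT.node (nat_lit 12970816) (BT.node (nat_lit 12970752) (BT.leaf (nat_lit 52035861)) (BT.leaf (nat_lit 36661017))) (BT.node (nat_lit 12970880) (BT.leaf (nat_lit 36661529)) (BT.leaf (nat_lit 36664601)))) (BT.node (nat_lit 12971200) (BT.node (nat_lit 12971136) (BT.leaf (nat_lit 36665117)) (BT.leaf (nat_lit 51021329))) (BT.node (nat_lit 12971264) (BT.leaf (nat_lit 36667405)) (BT.leaf (nat_lit 52293909))))) (BT.node (nat_lit 12971648) (BT.node (nat_lit 12971456) (BT.node (nat_lit 12971392) (BT.leaf (nat_lit 37605389)) (BT.leaf (nat_lit 51339273))) (BT.node (nat_lit 12971584) (BT.leaf (nat_lit 51394321)) (BT.leaf (nat_lit 36672541)))) (BT.node (nat_lit 12971776) (BT.node (nat_lit 12971712) (BT.leaf (nat_lit 36673041)) (BT.leaf (nat_lit 36673045))) (BT.node (nat_lit 12971840) (BT.leaf (nat_lit 52197645)) (BT.leaf (nat_lit 52197637)))))) (BT.node (nat_lit 12972672) (BT.node (nat_lit 12972288) (BT.node (nat_lit 12972096) (BT.node (nat_lit 12972032) (BT.leaf (nat_lit 52272665)) (BT.leaf (nat_lit 37619989))) (BT.node (nat_lit 12972224) (BT.leaf (nat_lit 36675353)) (BT.leaf (nat_lit 37201681)))) (BT.node (nat_lit 12972416) (BT.node (nat_lit 12972352) (BT.leaf (nat_lit 52225041)) (BT.leaf (nat_lit 37201673))) (BT.node (nat_lit 12972608) (BT.leaf (nat_lit 50046241)) (BT.leaf (nat_lit 51975193))))) (BT.node (nat_lit 12972928) (BT.node (nat_lit 12972800) (BT.node (nat_lit 12972736) (BT.leaf (nat_lit 37617685)) (BT.leaf (nat_lit 50509837))) (BT.node (nat_lit 12972864) (BT.leaf (nat_lit 52202005)) (BT.leaf (nat_lit 51184405)))) (BT.node (nat_lit 12973056) (BT.node (nat_lit 12972992) (BT.leaf (nat_lit 51891481)) (BT.leaf (nat_lit 52203277))) (BT.node (nat_lit 12973184) (BT.leaf (nat_lit 37340429)) (BT.leaf (nat_lit 37340433)))))))) (BT.node (nat_lit 12976064) (BT.node (nat_lit 12974912) (BT.node (nat_lit 12974144) (BT.node (nat_lit 12973696) (BT.node (nat_lit 12973440) (BT.node (nat_lit 12973376) (BT.leaf (nat_lit 36681497)) (BT.leaf (nat_lit 36682001))) (BT.node (nat_lit 12973568) (BT.leaf (nat_lit 36682265)) (BT.leaf (nat_lit 36683293)))) (BT.node (nat_lit 12973824) (BT.node (nat_lit 12973700) (BT.leaf (nat_lit 37334021)) (BT.leaf (nat_lit 814260))) (BT.node (nat_lit 12974016) (BT.leaf (nat_lit 36686113)) (BT.leaf (nat_lit 36689669))))) (BT.node (nat_lit 12974592) (BT.node (nat_lit 12974272) (BT.node (nat_lit 12974208) (BT.leaf (nat_lit 36689433)) (BT.leaf (nat_lit 36689441))) (BT.node (nat_lit 12974528) (BT.leaf (nat_lit 36689941)) (BT.leaf (nat_lit 52279061)))) (BT.node (nat_lit 12974784) (BT.node (nat_lit 12974656) (BT.leaf (nat_lit 51808533)) (BT.leaf (nat_lit 52028693))) (BT.node (nat_lit 12974848) (BT.leaf (nat_lit 51229457)) (BT.leaf (nat_lit 37496353)))))) (BT.node (nat_lit 12975424) (BT.node (nat_lit 12975168) (BT.node (nat_lit 12975040) (BT.node (nat_lit 12974976) (BT.leaf (nat_lit 37604881)) (BT.leaf (nat_lit 37493281))) (BT.node (nat_lit 12975104) (BT.leaf (nat_lit 36694033)) (BT.leaf (nat_lit 36780313)))) (BT.node (nat_lit 12975296) (BT.node (nat_lit 12975232) (BT.leaf (nat_lit 36696849)) (BT.leaf (nat_lit 36697093))) (BT.node (nat_lit 12975360) (BT.leaf (nat_lit 36697113)) (BT.leaf (nat_lit 36697117))))) (BT.node (nat_lit 12975808) (BT.node (nat_lit 12975552) (BT.node (nat_lit 12975488) (BT.leaf (nat_lit 36697889)) (BT.leaf (nat_lit 52437781))) (BT.node (nat_lit 12975680) (BT.leaf (nat_lit 52394781)) (BT.leaf (nat_lit 37222925)))) (BT.node (nat_lit 12975936) (BT.node (nat_lit 12975872) (BT.leaf (nat_lit 37343749)) (BT.leaf (nat_lit 36701473))) (BT.node (nat_lit 12976000) (BT.leaf (nat_lit 52102933)) (BT.leaf (nat_lit 36702221))))))) (BT.node (nat_lit 12977472) (BT.node (nat_lit 12976768) (BT.node (nat_lit 12976384) (BT.node (nat_lit 12976192) (BT.node (nat_lit 12976128) (BT.leaf (nat_lit 36702225)) (BT.leaf (nat_lit 47170829))) (BT.node (nat_lit 12976320) (BT.leaf (nat_lit 36702241)) (BT.leaf (nat_lit 51851273)))) (BT.node (nat_lit 12976576) (BT.node (nat_lit 12976512) (BT.leaf (nat_lit 37414161)) (BT.leaf (nat_lit 37306913))) (BT.node (nat_lit 12976640) (BT.leaf (nat_lit 37312289)) (BT.leaf (nat_lit 52206853))))) (BT.node (nat_lit 12977024) (BT.node (nat_lit 12976896) (BT.node (nat_lit 12976832) (BT.leaf (nat_lit 37028885)) (BT.leaf (nat_lit 36713241))) (BT.node (nat_lit 12976960) (BT.leaf (nat_lit 36713245)) (BT.leaf (nat_lit 51288581)))) (BT.node (nat_lit 12977152) (BT.node (nat_lit 12977088) (BT.leaf (nat_lit 36715793)) (BT.leaf (nat_lit 51763205))) (BT.node (nat_lit 12977216) (BT.leaf (nat_lit 37628425)) (BT.leaf (nat_lit 36717065)))))) (BT.node (nat_lit 12977984) (BT.node (nat_lit 12977728) (BT.node (nat_lit 12977600) (BT.node (nat_lit 12977536) (BT.leaf (nat_lit 49986837)) (BT.leaf (nat_lit 51401233))) (BT.node (nat_lit 12977664) (BT.leaf (nat_lit 51401237)) (BT.leaf (nat_lit 36718097)))) (BT.node (nat_lit 12977856) (BT.node (nat_lit 12977792) (BT.leaf (nat_lit 36718357)) (BT.leaf (nat_lit 51793433))) (BT.node (nat_lit 12977920) (BT.leaf (nat_lit 51807777)) (BT.leaf (nat_lit 36720657))))) (BT.node (nat_lit 12978240) (BT.node (nat_lit 12978112) (BT.node (nat_lit 12978048) (BT.leaf (nat_lit 52383505)) (BT.leaf (nat_lit 51763473))) (BT.node (nat_lit 12978176) (BT.leaf (nat_lit 36721177)) (BT.leaf (nat_lit 48753925)))) (BT.node (nat_lit 12978432) (BT.node (nat_lit 12978304) (BT.leaf (nat_lit 50345477)) (BT.leaf (nat_lit 49816845))) (BT.node (nat_lit 12978496) (BT.leaf (nat_lit 39806241)) (BT.leaf (nat_lit 36722961))))))))) (BT.node (nat_lit 12984512) (BT.node (nat_lit 12980992) (BT.node (nat_lit 12979648) (BT.node (nat_lit 12979136) (BT.node (nat_lit 12978816) (BT.node (nat_lit 12978688) (BT.node (nat_lit 12978624) (BT.leaf (nat_lit 48565777)) (BT.leaf (nat_lit 48565793))) (BT.node (nat_lit 12978752) (BT.leaf (nat_lit 36724241)) (BT.leaf (nat_lit 48227845)))) (BT.node (nat_lit 12978944) (BT.node (nat_lit 12978882) (BT.leaf (nat_lit 36724501)) (BT.leaf (nat_lit 815596))) (BT.node (nat_lit 12979008) (BT.leaf (nat_lit 36725265)) (BT.leaf (nat_lit 52385057))))) (BT.node (nat_lit 12979392) (BT.node (nat_lit 12979264) (BT.node (nat_lit 12979200) (BT.leaf (nat_lit 52310277)) (BT.leaf (nat_lit 36728337))) (BT.node (nat_lit 12979328) (BT.leaf (nat_lit 36728849)) (BT.leaf (nat_lit 52310033)))) (BT.node (nat_lit 12979520) (BT.node (nat_lit 12979456) (BT.leaf (nat_lit 36729873)) (BT.leaf (nat_lit 51750933))) (BT.node (nat_lit 12979584) (BT.leaf (nat_lit 51750937)) (BT.leaf (nat_lit 36731669)))))) (BT.node (nat_lit 12980160) (BT.node (nat_lit 12979904) (BT.node (nat_lit 12979776) (BT.node (nat_lit 12979712) (BT.leaf (nat_lit 36731677)) (BT.leaf (nat_lit 37377817))) (BT.node (nat_lit 12979840) (BT.leaf (nat_lit 36733465)) (BT.leaf (nat_lit 52176133)))) (BT.node (nat_lit 12980032) (BT.node (nat_lit 12979968) (BT.leaf (nat_lit 51029265)) (BT.leaf (nat_lit 37123097))) (BT.node (nat_lit 12980096) (BT.leaf (nat_lit 36734993)) (BT.leaf (nat_lit 49926937))))) (BT.node (nat_lit 12980672) (BT.node (nat_lit 12980416) (BT.node (nat_lit 12980224) (BT.leaf (nat_lit 49704225)) (BT.leaf (nat_lit 36736281))) (BT.node (nat_lit 12980544) (BT.leaf (nat_lit 52160277)) (BT.leaf (nat_lit 47912213)))) (BT.node (nat_lit 12980864) (BT.node (nat_lit 12980800) (BT.leaf (nat_lit 51824673)) (BT.leaf (nat_lit 52247573))) (BT.node (nat_lit 12980928) (BT.leaf (nat_lit 37437717)) (BT.leaf (nat_lit 51923209))))))) (BT.node (nat_lit 12983104) (BT.node (nat_lit 12981952) (BT.node (nat_lit 12981696) (BT.node (nat_lit 12981568) (BT.node (nat_lit 12981504) (BT.leaf (nat_lit 51792905)) (BT.leaf (nat_lit 36741125))) (BT.node (nat_lit 12981632) (BT.leaf (nat_lit 36740889)) (BT.leaf (nat_lit 36740893)))) (BT.node (nat_lit 12981824) (BT.node (nat_lit 12981760) (BT.leaf (nat_lit 51686665)) (BT.leaf (nat_lit 36741905))) (BT.node (nat_lit 12981888) (BT.leaf (nat_lit 47481369)) (BT.leaf (nat_lit 46453021))))) (BT.node (nat_lit 12982592) (BT.node (nat_lit 12982464) (BT.node (nat_lit 12982016) (BT.leaf (nat_lit 50799365)) (BT.leaf (nat_lit 52429601))) (BT.node (nat_lit 12982528) (BT.leaf (nat_lit 51406625)) (BT.leaf (nat_lit 52176657)))) (BT.node (nat_lit 12982912) (BT.node (nat_lit 12982848) (BT.leaf (nat_lit 36746781)) (BT.leaf (nat_lit 36750357))) (BT.node (nat_lit 12983040) (BT.leaf (nat_lit 36750361)) (BT.leaf (nat_lit 36751641)))))) (BT.node (nat_lit 12984000) (BT.node (nat_lit 12983616) (BT.node (nat_lit 12983296) (BT.node (nat_lit 12983232) (BT.leaf (nat_lit 36751645)) (BT.leaf (nat_lit 52375829))) (BT.node (nat_lit 12983552) (BT.leaf (nat_lit 36753929)) (BT.leaf (nat_lit 36754197)))) (BT.node (nat_lit 12983872) (BT.node (nat_lit 12983744) (BT.leaf (nat_lit 36754453)) (BT.leaf (nat_lit 36754961))) (BT.node (nat_lit 12983936) (BT.leaf (nat_lit 52097301)) (BT.leaf (nat_lit 36755729))))) (BT.node (nat_lit 12984256) (BT.node (nat_lit 12984128) (BT.node (nat_lit 12984064) (BT.leaf (nat_lit 36757021)) (BT.leaf (nat_lit 46555149))) (BT.node (nat_lit 12984192) (BT.leaf (nat_lit 36760329)) (BT.leaf (nat_lit 46555161)))) (BT.node (nat_lit 12984384) (BT.node (nat_lit 12984320) (BT.leaf (nat_lit 36760333)) (BT.leaf (nat_lit 36760349))) (BT.node (nat_lit 12984448) (BT.leaf (nat_lit 37323537)) (BT.leaf (nat_lit 50666005)))))))) (BT.node (nat_lit 12987008) (BT.node (nat_lit 12985472) (BT.node (nat_lit 12984960) (BT.node (nat_lit 12984704) (BT.node (nat_lit 12984584) (BT.node (nat_lit 12984576) (BT.leaf (nat_lit 36763417)) (BT.leaf (nat_lit 36763929))) (BT.node (nat_lit 12984640) (BT.leaf (nat_lit 811936)) (BT.leaf (nat_lit 36763933)))) (BT.node (nat_lit 12984832) (BT.node (nat_lit 12984768) (BT.leaf (nat_lit 46616093)) (BT.leaf (nat_lit 36764425))) (BT.node (nat_lit 12984896) (BT.leaf (nat_lit 36764693)) (BT.leaf (nat_lit 36765729))))) (BT.node (nat_lit 12985216) (BT.node (nat_lit 12985088) (BT.node (nat_lit 12985024) (BT.leaf (nat_lit 51485217)) (BT.leaf (nat_lit 46542617))) (BT.node (nat_lit 12985152) (BT.leaf (nat_lit 52348961)) (BT.leaf (nat_lit 37673477)))) (BT.node (nat_lit 12985344) (BT.node (nat_lit 12985280) (BT.leaf (nat_lit 36766225)) (BT.leaf (nat_lit 51296033))) (BT.node (nat_lit 12985408) (BT.leaf (nat_lit 36766993)) (BT.leaf (nat_lit 36769309)))))) (BT.node (nat_lit 12986048) (BT.node (nat_lit 12985728) (BT.node (nat_lit 12985600) (BT.node (nat_lit 12985536) (BT.leaf (nat_lit 36770325)) (BT.leaf (nat_lit 36772617))) (BT.node (nat_lit 12985664) (BT.leaf (nat_lit 36772621)) (BT.leaf (nat_lit 36772633)))) (BT.node (nat_lit 12985920) (BT.node (nat_lit 12985792) (BT.leaf (nat_lit 36772637)) (BT.leaf (nat_lit 37701397))) (BT.node (nat_lit 12985984) (BT.leaf (nat_lit 51843345)) (BT.leaf (nat_lit 36776973))))) (BT.node (nat_lit 12986368) (BT.node (nat_lit 12986240) (BT.node (nat_lit 12986112) (BT.leaf (nat_lit 36777237)) (BT.leaf (nat_lit 36777493))) (BT.node (nat_lit 12986304) (BT.leaf (nat_lit 36779797)) (BT.leaf (nat_lit 51201305)))) (BT.node (nat_lit 12986880) (BT.node (nat_lit 12986624) (BT.leaf (nat_lit 51946525)) (BT.leaf (nat_lit 37314837))) (BT.node (nat_lit 12986944) (BT.leaf (nat_lit 48861189)) (BT.leaf (nat_lit 51456017))))))) (BT.node (nat_lit 12988160) (BT.node (nat_lit 12987584) (BT.node (nat_lit 12987328) (BT.node (nat_lit 12987200) (BT.node (nat_lit 12987072) (BT.leaf (nat_lit 51974433)) (BT.leaf (nat_lit 52244745))) (BT.node (nat_lit 12987264) (BT.leaf (nat_lit 36788513)) (BT.leaf (nat_lit 36788753)))) (BT.node (nat_lit 12987456) (BT.node (nat_lit 12987392) (BT.leaf (nat_lit 36790301)) (BT.leaf (nat_lit 36789281))) (BT.node (nat_lit 12987520) (BT.leaf (nat_lit 36789537)) (BT.leaf (nat_lit 36790281))))) (BT.node (nat_lit 12987840) (BT.node (nat_lit 12987712) (BT.node (nat_lit 12987648) (BT.leaf (nat_lit 36790545)) (BT.leaf (nat_lit 36790549))) (BT.node (nat_lit 12987776) (BT.leaf (nat_lit 46934277)) (BT.leaf (nat_lit 51398157)))) (BT.node (nat_lit 12987968) (BT.node (nat_lit 12987904) (BT.leaf (nat_lit 48527113)) (BT.leaf (nat_lit 52134925))) (BT.node (nat_lit 12988096) (BT.leaf (nat_lit 36792597)) (BT.leaf (nat_lit 36794385)))))) (BT.node (nat_lit 12988672) (BT.node (nat_lit 12988416) (BT.node (nat_lit 12988288) (BT.node (nat_lit 12988224) (BT.leaf (nat_lit 36812313)) (BT.leaf (nat_lit 36794641))) (BT.node (nat_lit 12988352) (BT.leaf (nat_lit 36801565)) (BT.leaf (nat_lit 36794897)))) (BT.node (nat_lit 12988544) (BT.node (nat_lit 12988480) (BT.leaf (nat_lit 36795665)) (BT.leaf (nat_lit 36795161))) (BT.node (nat_lit 12988608) (BT.leaf (nat_lit 48347401)) (BT.leaf (nat_lit 36796181))))) (BT.node (nat_lit 12989120) (BT.node (nat_lit 12988864) (BT.node (nat_lit 12988736) (BT.leaf (nat_lit 50801953)) (BT.leaf (nat_lit 36796945))) (BT.node (nat_lit 12989056) (BT.leaf (nat_lit 43061001)) (BT.leaf (nat_lit 51305993)))) (BT.node (nat_lit 12989248) (BT.node (nat_lit 12989184) (BT.leaf (nat_lit 50354181)) (BT.leaf (nat_lit 37510433))) (BT.node (nat_lit 12989312) (BT.leaf (nat_lit 36803077)) (BT.leaf (nat_lit 50041377)))))))))) (BT.node (nat_lit 12999680) (BT.node (nat_lit 12994560) (BT.node (nat_lit 12991936) (BT.node (nat_lit 12990464) (BT.node (nat_lit 12989888) (BT.node (nat_lit 12989632) (BT.node (nat_lit 12989504) (BT.node (nat_lit 12989440) (BT.leaf (nat_lit 51872005)) (BT.leaf (nat_lit 36799257))) (BT.node (nat_lit 12989568) (BT.leaf (nat_lit 36799261)) (BT.leaf (nat_lit 51872017)))) (BT.node (nat_lit 12989760) (BT.node (nat_lit 12989696) (BT.leaf (nat_lit 51409185)) (BT.leaf (nat_lit 36799761))) (BT.node (nat_lit 12989824) (BT.leaf (nat_lit 51131925)) (BT.leaf (nat_lit 51406861))))) (BT.node (nat_lit 12990208) (BT.node (nat_lit 12990016) (BT.node (nat_lit 12989952) (BT.leaf (nat_lit 36800801)) (BT.leaf (nat_lit 51466261))) (BT.node (nat_lit 12990080) (BT.leaf (nat_lit 37667861)) (BT.leaf (nat_lit 51329809)))) (BT.node (nat_lit 12990336) (BT.node (nat_lit 12990272) (BT.leaf (nat_lit 52273941)) (BT.leaf (nat_lit 36802565))) (BT.node (nat_lit 12990400) (BT.leaf (nat_lit 36802581)) (BT.leaf (nat_lit 51324705)))))) (BT.node (nat_lit 12991360) (BT.node (nat_lit 12990912) (BT.node (nat_lit 12990592) (BT.node (nat_lit 12990528) (BT.leaf (nat_lit 47151645)) (BT.leaf (nat_lit 52197153))) (BT.node (nat_lit 12990848) (BT.leaf (nat_lit 36804633)) (BT.leaf (nat_lit 36806933)))) (BT.node (nat_lit 12991168) (BT.node (nat_lit 12990976) (BT.leaf (nat_lit 36807441)) (BT.leaf (nat_lit 36807705))) (BT.node (nat_lit 12991296) (BT.leaf (nat_lit 36808721)) (BT.leaf (nat_lit 36809745))))) (BT.node (nat_lit 12991616) (BT.node (nat_lit 12991488) (BT.node (nat_lit 12991424) (BT.leaf (nat_lit 36812037)) (BT.leaf (nat_lit 36812293))) (BT.node (nat_lit 12991552) (BT.leaf (nat_lit 51957273)) (BT.leaf (nat_lit 51209221)))) (BT.node (nat_lit 12991808) (BT.node (nat_lit 12991680) (BT.leaf (nat_lit 46990869)) (BT.leaf (nat_lit 51595805))) (BT.node (nat_lit 12991872) (BT.leaf (nat_lit 36813341)) (BT.leaf (nat_lit 36814101))))))) (BT.node (nat_lit 12993152) (BT.node (nat_lit 12992448) (BT.node (nat_lit 12992192) (BT.node (nat_lit 12992064) (BT.node (nat_lit 12992000) (BT.leaf (nat_lit 51063313)) (BT.leaf (nat_lit 36814361))) (BT.node (nat_lit 12992128) (BT.leaf (nat_lit 36814365)) (BT.leaf (nat_lit 36816913)))) (BT.node (nat_lit 12992320) (BT.node (nat_lit 12992256) (BT.leaf (nat_lit 36817169)) (BT.leaf (nat_lit 36818193))) (BT.node (nat_lit 12992384) (BT.leaf (nat_lit 36818709)) (BT.leaf (nat_lit 48971553))))) (BT.node (nat_lit 12992960) (BT.node (nat_lit 12992768) (BT.node (nat_lit 12992640) (BT.leaf (nat_lit 47297561)) (BT.leaf (nat_lit 44549125))) (BT.node (nat_lit 12992896) (BT.leaf (nat_lit 36820257)) (BT.leaf (nat_lit 51339021)))) (BT.node (nat_lit 12993029) (BT.node (nat_lit 12993024) (BT.leaf (nat_lit 52336909)) (BT.leaf (nat_lit 37640225))) (BT.node (nat_lit 12993088) (BT.leaf (nat_lit 817000)) (BT.leaf (nat_lit 36824089)))))) (BT.node (nat_lit 12993984) (BT.node (nat_lit 12993600) (BT.node (nat_lit 12993280) (BT.node (nat_lit 12993216) (BT.leaf (nat_lit 36824341)) (BT.leaf (nat_lit 36824601))) (BT.node (nat_lit 12993472) (BT.leaf (nat_lit 36824605)) (BT.leaf (nat_lit 47066657)))) (BT.node (nat_lit 12993728) (BT.node (nat_lit 12993664) (BT.leaf (nat_lit 52181517)) (BT.leaf (nat_lit 36825885))) (BT.node (nat_lit 12993792) (BT.leaf (nat_lit 37039385)) (BT.leaf (nat_lit 51890697))))) (BT.node (nat_lit 12994240) (BT.node (nat_lit 12994112) (BT.node (nat_lit 12994048) (BT.leaf (nat_lit 51681033)) (BT.leaf (nat_lit 36827933))) (BT.node (nat_lit 12994176) (BT.leaf (nat_lit 36829717)) (BT.leaf (nat_lit 36829725)))) (BT.node (nat_lit 12994368) (BT.node (nat_lit 12994304) (BT.leaf (nat_lit 41756449)) (BT.leaf (nat_lit 50970637))) (BT.node (nat_lit 12994496) (BT.leaf (nat_lit 51802893)) (BT.leaf (nat_lit 36830985)))))))) (BT.node (nat_lit 12997184) (BT.node (nat_lit 12996160) (BT.node (nat_lit 12995264) (BT.node (nat_lit 12994880) (BT.node (nat_lit 12994688) (BT.node (nat_lit 12994624) (BT.leaf (nat_lit 36830989)) (BT.leaf (nat_lit 51507477))) (BT.node (nat_lit 12994816) (BT.leaf (nat_lit 37416217)) (BT.leaf (nat_lit 51752457)))) (BT.node (nat_lit 12995072) (BT.node (nat_lit 12994944) (BT.leaf (nat_lit 51752461)) (BT.leaf (nat_lit 51752473))) (BT.node (nat_lit 12995136) (BT.leaf (nat_lit 37651717)) (BT.leaf (nat_lit 37418253))))) (BT.node (nat_lit 12995904) (BT.node (nat_lit 12995776) (BT.node (nat_lit 12995712) (BT.leaf (nat_lit 51509781)) (BT.leaf (nat_lit 36834065))) (BT.node (nat_lit 12995840) (BT.leaf (nat_lit 45773573)) (BT.leaf (nat_lit 41845281)))) (BT.node (nat_lit 12996032) (BT.node (nat_lit 12995968) (BT.leaf (nat_lit 52219909)) (BT.leaf (nat_lit 36835089))) (BT.node (nat_lit 12996096) (BT.leaf (nat_lit 36836121)) (BT.leaf (nat_lit 36836125)))))) (BT.node (nat_lit 12996672) (BT.node (nat_lit 12996416) (BT.node (nat_lit 12996288) (BT.node (nat_lit 12996224) (BT.leaf (nat_lit 36837137)) (BT.leaf (nat_lit 49646617))) (BT.node (nat_lit 12996352) (BT.leaf (nat_lit 51984905)) (BT.leaf (nat_lit 49646605)))) (BT.node (nat_lit 12996544) (BT.node (nat_lit 12996480) (BT.leaf (nat_lit 51985437)) (BT.leaf (nat_lit 39592469))) (BT.node (nat_lit 12996608) (BT.leaf (nat_lit 41283349)) (BT.leaf (nat_lit 36839457))))) (BT.node (nat_lit 12996928) (BT.node (nat_lit 12996800) (BT.node (nat_lit 12996736) (BT.leaf (nat_lit 36840217)) (BT.leaf (nat_lit 36840221))) (BT.node (nat_lit 12996864) (BT.leaf (nat_lit 36842505)) (BT.leaf (nat_lit 49944597)))) (BT.node (nat_lit 12997056) (BT.node (nat_lit 12996992) (BT.leaf (nat_lit 47039253)) (BT.leaf (nat_lit 36842773))) (BT.node (nat_lit 12997120) (BT.leaf (nat_lit 36844041)) (BT.leaf (nat_lit 36843297))))))) (BT.node (nat_lit 12998336) (BT.node (nat_lit 12997760) (BT.node (nat_lit 12997504) (BT.node (nat_lit 12997312) (BT.node (nat_lit 12997248) (BT.leaf (nat_lit 51133721)) (BT.leaf (nat_lit 36844061))) (BT.node (nat_lit 12997440) (BT.leaf (nat_lit 36844057)) (BT.leaf (nat_lit 39051289)))) (BT.node (nat_lit 12997632) (BT.node (nat_lit 12997568) (BT.leaf (nat_lit 36846109)) (BT.leaf (nat_lit 36846113))) (BT.node (nat_lit 12997696) (BT.leaf (nat_lit 36846341)) (BT.leaf (nat_lit 36847629))))) (BT.node (nat_lit 12998080) (BT.node (nat_lit 12997952) (BT.node (nat_lit 12997824) (BT.leaf (nat_lit 51169313)) (BT.leaf (nat_lit 36848653))) (BT.node (nat_lit 12998016) (BT.leaf (nat_lit 36848921)) (BT.leaf (nat_lit 36849169)))) (BT.node (nat_lit 12998208) (BT.node (nat_lit 12998144) (BT.leaf (nat_lit 36849173)) (BT.leaf (nat_lit 51487753))) (BT.node (nat_lit 12998272) (BT.leaf (nat_lit 36849941)) (BT.leaf (nat_lit 51767329)))))) (BT.node (nat_lit 12999040) (BT.node (nat_lit 12998784) (BT.node (nat_lit 12998656) (BT.node (nat_lit 12998400) (BT.leaf (nat_lit 36850201)) (BT.leaf (nat_lit 37352733))) (BT.node (nat_lit 12998720) (BT.leaf (nat_lit 52388381)) (BT.leaf (nat_lit 36851209)))) (BT.node (nat_lit 12998912) (BT.node (nat_lit 12998848) (BT.leaf (nat_lit 47769117)) (BT.leaf (nat_lit 47769097))) (BT.node (nat_lit 12998976) (BT.leaf (nat_lit 48444677)) (BT.leaf (nat_lit 36851477))))) (BT.node (nat_lit 12999424) (BT.node (nat_lit 12999296) (BT.node (nat_lit 12999168) (BT.leaf (nat_lit 37285409)) (BT.leaf (nat_lit 37582113))) (BT.node (nat_lit 12999360) (BT.leaf (nat_lit 36854301)) (BT.leaf (nat_lit 36854553)))) (BT.node (nat_lit 12999552) (BT.node (nat_lit 12999488) (BT.leaf (nat_lit 52166417)) (BT.leaf (nat_lit 36856341))) (BT.node (nat_lit 12999616) (BT.leaf (nat_lit 36856349)) (BT.leaf (nat_lit 36857109))))))))) (BT.node (nat_lit 13004672) (BT.node (nat_lit 13002496) (BT.node (nat_lit 13000896) (BT.node (nat_lit 13000384) (BT.node (nat_lit 13000064) (BT.node (nat_lit 12999808) (BT.node (nat_lit 12999744) (BT.leaf (nat_lit 36857353)) (BT.leaf (nat_lit 36857357))) (BT.node (nat_lit 13000000) (BT.leaf (nat_lit 37203997)) (BT.leaf (nat_lit 50193669)))) (BT.node (nat_lit 13000192) (BT.node (nat_lit 13000128) (BT.leaf (nat_lit 52000025)) (BT.leaf (nat_lit 47446301))) (BT.node (nat_lit 13000256) (BT.leaf (nat_lit 51790341)) (BT.leaf (nat_lit 49529361))))) (BT.node (nat_lit 13000640) (BT.node (nat_lit 13000512) (BT.node (nat_lit 13000448) (BT.leaf (nat_lit 36862489)) (BT.leaf (nat_lit 36862493))) (BT.node (nat_lit 13000576) (BT.leaf (nat_lit 47202585)) (BT.leaf (nat_lit 36862997)))) (BT.node (nat_lit 13000768) (BT.node (nat_lit 13000704) (BT.leaf (nat_lit 36863257)) (BT.leaf (nat_lit 36863505))) (BT.node (nat_lit 13000832) (BT.leaf (nat_lit 36863761)) (BT.leaf (nat_lit 36864789)))))) (BT.node (nat_lit 13001792) (BT.node (nat_lit 13001408) (BT.node (nat_lit 13001152) (BT.node (nat_lit 13001088) (BT.leaf (nat_lit 37271045)) (BT.leaf (nat_lit 36866069))) (BT.node (nat_lit 13001216) (BT.leaf (nat_lit 36866077)) (BT.leaf (nat_lit 50754053)))) (BT.node (nat_lit 13001536) (BT.node (nat_lit 13001472) (BT.leaf (nat_lit 37083669)) (BT.leaf (nat_lit 51400965))) (BT.node (nat_lit 13001728) (BT.leaf (nat_lit 36868117)) (BT.leaf (nat_lit 36868125))))) (BT.node (nat_lit 13002176) (BT.node (nat_lit 13001984) (BT.node (nat_lit 13001856) (BT.leaf (nat_lit 36868361)) (BT.leaf (nat_lit 49816837))) (BT.node (nat_lit 13002048) (BT.leaf (nat_lit 36868893)) (BT.leaf (nat_lit 36869645)))) (BT.node (nat_lit 13002368) (BT.node (nat_lit 13002304) (BT.leaf (nat_lit 51512593)) (BT.leaf (nat_lit 51245069))) (BT.node (nat_lit 13002432) (BT.leaf (nat_lit 36870177)) (BT.leaf (nat_lit 52100117))))))) (BT.node (nat_lit 13003520) (BT.node (nat_lit 13003008) (BT.node (nat_lit 13002752) (BT.node (nat_lit 13002624) (BT.node (nat_lit 13002560) (BT.leaf (nat_lit 49989397)) (BT.leaf (nat_lit 50018069))) (BT.node (nat_lit 13002688) (BT.leaf (nat_lit 50018849)) (BT.leaf (nat_lit 48057109)))) (BT.node (nat_lit 13002880) (BT.node (nat_lit 13002816) (BT.leaf (nat_lit 48174353)) (BT.leaf (nat_lit 37652249))) (BT.node (nat_lit 13002944) (BT.leaf (nat_lit 36871969)) (BT.leaf (nat_lit 37189149))))) (BT.node (nat_lit 13003264) (BT.node (nat_lit 13003136) (BT.node (nat_lit 13003072) (BT.leaf (nat_lit 49989149)) (BT.leaf (nat_lit 50018825))) (BT.node (nat_lit 13003200) (BT.leaf (nat_lit 49988889)) (BT.leaf (nat_lit 50153493)))) (BT.node (nat_lit 13003392) (BT.node (nat_lit 13003328) (BT.leaf (nat_lit 36873489)) (BT.leaf (nat_lit 49524249))) (BT.node (nat_lit 13003456) (BT.leaf (nat_lit 36874005)) (BT.leaf (nat_lit 36874521)))))) (BT.node (nat_lit 13004032) (BT.node (nat_lit 13003776) (BT.node (nat_lit 13003648) (BT.node (nat_lit 13003584) (BT.leaf (nat_lit 36877341)) (BT.leaf (nat_lit 36877593))) (BT.node (nat_lit 13003712) (BT.leaf (nat_lit 51883269)) (BT.leaf (nat_lit 36879633)))) (BT.node (nat_lit 13003904) (BT.node (nat_lit 13003840) (BT.leaf (nat_lit 36879889)) (BT.leaf (nat_lit 36880149))) (BT.node (nat_lit 13003968) (BT.leaf (nat_lit 36880153)) (BT.leaf (nat_lit 36880157))))) (BT.node (nat_lit 13004416) (BT.node (nat_lit 13004160) (BT.node (nat_lit 13004096) (BT.leaf (nat_lit 36880401)) (BT.leaf (nat_lit 36880661))) (BT.node (nat_lit 13004224) (BT.leaf (nat_lit 36880665)) (BT.leaf (nat_lit 36880669)))) (BT.node (nat_lit 13004544) (BT.node (nat_lit 13004480) (BT.leaf (nat_lit 49809929)) (BT.leaf (nat_lit 36882209))) (BT.node (nat_lit 13004608) (BT.leaf (nat_lit 36882697)) (BT.leaf (nat_lit 36883221)))))))) (BT.node (nat_lit 13007360) (BT.node (nat_lit 13005888) (BT.node (nat_lit 13005312) (BT.node (nat_lit 13005056) (BT.node (nat_lit 13004928) (BT.node (nat_lit 13004736) (BT.leaf (nat_lit 36883225)) (BT.leaf (nat_lit 36883737))) (BT.node (nat_lit 13004992) (BT.leaf (nat_lit 52139269)) (BT.leaf (nat_lit 50100497)))) (BT.node (nat_lit 13005184) (BT.node (nat_lit 13005120) (BT.leaf (nat_lit 48085513)) (BT.leaf (nat_lit 36885533))) (BT.node (nat_lit 13005248) (BT.leaf (nat_lit 44053253)) (BT.leaf (nat_lit 36886045))))) (BT.node (nat_lit 13005632) (BT.node (nat_lit 13005440) (BT.node (nat_lit 13005376) (BT.leaf (nat_lit 36886289)) (BT.leaf (nat_lit 52151557))) (BT.node (nat_lit 13005568) (BT.leaf (nat_lit 36887325)) (BT.leaf (nat_lit 36891933)))) (BT.node (nat_lit 13005760) (BT.node (nat_lit 13005696) (BT.leaf (nat_lit 36891157)) (BT.leaf (nat_lit 36890653))) (BT.node (nat_lit 13005824) (BT.leaf (nat_lit 36890897)) (BT.leaf (nat_lit 44569109)))))) (BT.node (nat_lit 13006848) (BT.node (nat_lit 13006208) (BT.node (nat_lit 13006080) (BT.node (nat_lit 13005952) (BT.leaf (nat_lit 50420249)) (BT.leaf (nat_lit 36893205))) (BT.node (nat_lit 13006144) (BT.leaf (nat_lit 36895253)) (BT.leaf (nat_lit 51754253)))) (BT.node (nat_lit 13006720) (BT.node (nat_lit 13006272) (BT.leaf (nat_lit 52055813)) (BT.leaf (nat_lit 36896541))) (BT.node (nat_lit 13006784) (BT.leaf (nat_lit 47370757)) (BT.leaf (nat_lit 48751621))))) (BT.node (nat_lit 13007104) (BT.node (nat_lit 13006976) (BT.node (nat_lit 13006912) (BT.leaf (nat_lit 36899101)) (BT.leaf (nat_lit 51223813))) (BT.node (nat_lit 13007040) (BT.leaf (nat_lit 36899865)) (BT.leaf (nat_lit 40670213)))) (BT.node (nat_lit 13007232) (BT.node (nat_lit 13007168) (BT.leaf (nat_lit 50460701)) (BT.leaf (nat_lit 37503757))) (BT.node (nat_lit 13007296) (BT.leaf (nat_lit 37264161)) (BT.leaf (nat_lit 36900889))))))) (BT.node (nat_lit 13008512) (BT.node (nat_lit 13007936) (BT.node (nat_lit 13007616) (BT.node (nat_lit 13007488) (BT.node (nat_lit 13007424) (BT.leaf (nat_lit 36904729)) (BT.leaf (nat_lit 36902677))) (BT.node (nat_lit 13007552) (BT.leaf (nat_lit 52393477)) (BT.leaf (nat_lit 52032277)))) (BT.node (nat_lit 13007808) (BT.node (nat_lit 13007680) (BT.leaf (nat_lit 36901393)) (BT.leaf (nat_lit 52394245))) (BT.node (nat_lit 13007872) (BT.leaf (nat_lit 52360225)) (BT.leaf (nat_lit 51805473))))) (BT.node (nat_lit 13008192) (BT.node (nat_lit 13008064) (BT.node (nat_lit 13008000) (BT.leaf (nat_lit 52264725)) (BT.leaf (nat_lit 36902929))) (BT.node (nat_lit 13008128) (BT.leaf (nat_lit 52265505)) (BT.leaf (nat_lit 37300741)))) (BT.node (nat_lit 13008384) (BT.node (nat_lit 13008256) (BT.leaf (nat_lit 36903189)) (BT.leaf (nat_lit 51805453))) (BT.node (nat_lit 13008448) (BT.leaf (nat_lit 45178629)) (BT.leaf (nat_lit 36903961)))))) (BT.node (nat_lit 13009280) (BT.node (nat_lit 13008832) (BT.node (nat_lit 13008704) (BT.node (nat_lit 13008576) (BT.leaf (nat_lit 36903965)) (BT.leaf (nat_lit 36904209))) (BT.node (nat_lit 13008768) (BT.leaf (nat_lit 36904737)) (BT.leaf (nat_lit 52277537)))) (BT.node (nat_lit 13008960) (BT.node (nat_lit 13008896) (BT.leaf (nat_lit 51671569)) (BT.leaf (nat_lit 52357665))) (BT.node (nat_lit 13009152) (BT.leaf (nat_lit 51180049)) (BT.leaf (nat_lit 36907293))))) (BT.node (nat_lit 13009664) (BT.node (nat_lit 13009536) (BT.node (nat_lit 13009344) (BT.leaf (nat_lit 36907793)) (BT.leaf (nat_lit 36908825))) (BT.node (nat_lit 13009600) (BT.leaf (nat_lit 36913165)) (BT.leaf (nat_lit 46746889)))) (BT.node (nat_lit 13009792) (BT.node (nat_lit 13009728) (BT.leaf (nat_lit 36913181)) (BT.leaf (nat_lit 52138761))) (BT.node (nat_lit 13009856) (BT.leaf (nat_lit 52139021)) (BT.leaf (nat_lit 36912913)))))))))))) (BT.node (nat_lit 13047616) (BT.node (nat_lit 13029568) (BT.node (nat_lit 13019648) (BT.node (nat_lit 13015296) (BT.node (nat_lit 13012736) (BT.node (nat_lit 13011456) (BT.node (nat_lit 13010496) (BT.node (nat_lit 13010240) (BT.node (nat_lit 13010112) (BT.node (nat_lit 13009984) (BT.leaf (nat_lit 36913161)) (BT.leaf (nat_lit 51591941))) (BT.node (nat_lit 13010176) (BT.leaf (nat_lit 36914973)) (BT.leaf (nat_lit 36915213)))) (BT.node (nat_lit 13010368) (BT.node (nat_lit 13010304) (BT.leaf (nat_lit 36915225)) (BT.leaf (nat_lit 36915485))) (BT.node (nat_lit 13010432) (BT.leaf (nat_lit 51648537)) (BT.leaf (nat_lit 48572693))))) (BT.node (nat_lit 13011008) (BT.node (nat_lit 13010752) (BT.node (nat_lit 13010624) (BT.leaf (nat_lit 51507481)) (BT.leaf (nat_lit 52355861))) (BT.node (nat_lit 13010880) (BT.leaf (nat_lit 37436421)) (BT.leaf (nat_lit 52357657)))) (BT.node (nat_lit 13011264) (BT.node (nat_lit 13011200) (BT.leaf (nat_lit 52358165)) (BT.leaf (nat_lit 52409877))) (BT.node (nat_lit 13011392) (BT.leaf (nat_lit 37643533)) (BT.leaf (nat_lit 52212493)))))) (BT.node (nat_lit 13011968) (BT.node (nat_lit 13011712) (BT.node (nat_lit 13011584) (BT.node (nat_lit 13011520) (BT.leaf (nat_lit 37243937)) (BT.leaf (nat_lit 36923409))) (BT.node (nat_lit 13011648) (BT.leaf (nat_lit 52046621)) (BT.leaf (nat_lit 37245445)))) (BT.node (nat_lit 13011840) (BT.node (nat_lit 13011776) (BT.leaf (nat_lit 36925721)) (BT.leaf (nat_lit 36925725))) (BT.node (nat_lit 13011904) (BT.leaf (nat_lit 36926233)) (BT.leaf (nat_lit 36926237))))) (BT.node (nat_lit 13012480) (BT.node (nat_lit 13012352) (BT.node (nat_lit 13012224) (BT.leaf (nat_lit 52262677)) (BT.leaf (nat_lit 40534029))) (BT.node (nat_lit 13012416) (BT.leaf (nat_lit 36929293)) (BT.leaf (nat_lit 36930057)))) (BT.node (nat_lit 13012608) (BT.node (nat_lit 13012544) (BT.leaf (nat_lit 51372041)) (BT.leaf (nat_lit 36930837))) (BT.node (nat_lit 13012672) (BT.leaf (nat_lit 36930077)) (BT.leaf (nat_lit 43145489))))))) (BT.node (nat_lit 13013824) (BT.node (nat_lit 13013248) (BT.node (nat_lit 13012992) (BT.node (nat_lit 13012864) (BT.node (nat_lit 13012800) (BT.leaf (nat_lit 36930073)) (BT.leaf (nat_lit 40534033))) (BT.node (nat_lit 13012928) (BT.leaf (nat_lit 40534049)) (BT.leaf (nat_lit 36931349)))) (BT.node (nat_lit 13013120) (BT.node (nat_lit 13013056) (BT.leaf (nat_lit 36931357)) (BT.leaf (nat_lit 36932117))) (BT.node (nat_lit 13013184) (BT.leaf (nat_lit 36932377)) (BT.leaf (nat_lit 36932381))))) (BT.node (nat_lit 13013504) (BT.node (nat_lit 13013376) (BT.node (nat_lit 13013312) (BT.leaf (nat_lit 36933397)) (BT.leaf (nat_lit 36933401))) (BT.node (nat_lit 13013440) (BT.leaf (nat_lit 36933405)) (BT.leaf (nat_lit 36933649)))) (BT.node (nat_lit 13013632) (BT.node (nat_lit 13013568) (BT.leaf (nat_lit 52298249)) (BT.leaf (nat_lit 36935193))) (BT.node (nat_lit 13013696) (BT.leaf (nat_lit 51651097)) (BT.leaf (nat_lit 51650837)))))) (BT.node (nat_lit 13014592) (BT.node (nat_lit 13014272) (BT.node (nat_lit 13013952) (BT.node (nat_lit 13013888) (BT.leaf (nat_lit 36936985)) (BT.leaf (nat_lit 36937245))) (BT.node (nat_lit 13014080) (BT.leaf (nat_lit 52383765)) (BT.leaf (nat_lit 37651993)))) (BT.node (nat_lit 13014464) (BT.node (nat_lit 13014336) (BT.leaf (nat_lit 52366613)) (BT.leaf (nat_lit 37092117))) (BT.node (nat_lit 13014528) (BT.leaf (nat_lit 51103253)) (BT.leaf (nat_lit 37242373))))) (BT.node (nat_lit 13015040) (BT.node (nat_lit 13014720) (BT.node (nat_lit 13014656) (BT.leaf (nat_lit 52058137)) (BT.leaf (nat_lit 36939537))) (BT.node (nat_lit 13014848) (BT.leaf (nat_lit 51106841)) (BT.leaf (nat_lit 51211281)))) (BT.node (nat_lit 13015168) (BT.node (nat_lit 13015104) (BT.leaf (nat_lit 52001033)) (BT.leaf (nat_lit 52062733))) (BT.node (nat_lit 13015232) (BT.leaf (nat_lit 36942617)) (BT.leaf (nat_lit 36942621)))))))) (BT.node (nat_lit 13017344) (BT.node (nat_lit 13016320) (BT.node (nat_lit 13015808) (BT.node (nat_lit 13015552) (BT.node (nat_lit 13015424) (BT.node (nat_lit 13015360) (BT.leaf (nat_lit 51233569)) (BT.leaf (nat_lit 36944397))) (BT.node (nat_lit 13015488) (BT.leaf (nat_lit 36945689)) (BT.leaf (nat_lit 36945693)))) (BT.node (nat_lit 13015680) (BT.node (nat_lit 13015616) (BT.leaf (nat_lit 36946197)) (BT.leaf (nat_lit 36945945))) (BT.node (nat_lit 13015744) (BT.leaf (nat_lit 51530005)) (BT.leaf (nat_lit 50312205))))) (BT.node (nat_lit 13016064) (BT.node (nat_lit 13015936) (BT.node (nat_lit 13015872) (BT.leaf (nat_lit 36948761)) (BT.leaf (nat_lit 37692677))) (BT.node (nat_lit 13016000) (BT.leaf (nat_lit 36950281)) (BT.leaf (nat_lit 36950285)))) (BT.node (nat_lit 13016192) (BT.node (nat_lit 13016128) (BT.leaf (nat_lit 36950549)) (BT.leaf (nat_lit 36950297))) (BT.node (nat_lit 13016256) (BT.leaf (nat_lit 36950301)) (BT.leaf (nat_lit 36950805)))))) (BT.node (nat_lit 13016832) (BT.node (nat_lit 13016576) (BT.node (nat_lit 13016448) (BT.node (nat_lit 13016384) (BT.leaf (nat_lit 36951061)) (BT.leaf (nat_lit 51399961))) (BT.node (nat_lit 13016512) (BT.leaf (nat_lit 36951313)) (BT.leaf (nat_lit 49070353)))) (BT.node (nat_lit 13016704) (BT.node (nat_lit 13016640) (BT.leaf (nat_lit 36951841)) (BT.leaf (nat_lit 36952089))) (BT.node (nat_lit 13016768) (BT.leaf (nat_lit 36952093)) (BT.leaf (nat_lit 36952337))))) (BT.node (nat_lit 13017088) (BT.node (nat_lit 13016960) (BT.node (nat_lit 13016896) (BT.leaf (nat_lit 36952605)) (BT.leaf (nat_lit 36952849))) (BT.node (nat_lit 13017024) (BT.leaf (nat_lit 36953625)) (BT.leaf (nat_lit 36953629)))) (BT.node (nat_lit 13017216) (BT.node (nat_lit 13017152) (BT.leaf (nat_lit 36955165)) (BT.leaf (nat_lit 36956437))) (BT.node (nat_lit 13017280) (BT.leaf (nat_lit 36956445)) (BT.leaf (nat_lit 52176389))))))) (BT.node (nat_lit 13018560) (BT.node (nat_lit 13018048) (BT.node (nat_lit 13017792) (BT.node (nat_lit 13017664) (BT.node (nat_lit 13017408) (BT.leaf (nat_lit 36956957)) (BT.leaf (nat_lit 52176645))) (BT.node (nat_lit 13017728) (BT.leaf (nat_lit 36960013)) (BT.leaf (nat_lit 50833681)))) (BT.node (nat_lit 13017920) (BT.node (nat_lit 13017856) (BT.leaf (nat_lit 36961041)) (BT.leaf (nat_lit 36961801))) (BT.node (nat_lit 13017984) (BT.leaf (nat_lit 36961805)) (BT.leaf (nat_lit 36962069))))) (BT.node (nat_lit 13018304) (BT.node (nat_lit 13018176) (BT.node (nat_lit 13018112) (BT.leaf (nat_lit 36962329)) (BT.leaf (nat_lit 47835669))) (BT.node (nat_lit 13018240) (BT.leaf (nat_lit 47835673)) (BT.leaf (nat_lit 47835677)))) (BT.node (nat_lit 13018432) (BT.node (nat_lit 13018368) (BT.leaf (nat_lit 36962837)) (BT.leaf (nat_lit 36963085))) (BT.node (nat_lit 13018496) (BT.leaf (nat_lit 47836181)) (BT.leaf (nat_lit 47836437)))))) (BT.node (nat_lit 13019072) (BT.node (nat_lit 13018816) (BT.node (nat_lit 13018688) (BT.node (nat_lit 13018624) (BT.leaf (nat_lit 36964369)) (BT.leaf (nat_lit 36964885))) (BT.node (nat_lit 13018752) (BT.leaf (nat_lit 36964893)) (BT.leaf (nat_lit 51489293)))) (BT.node (nat_lit 13018944) (BT.node (nat_lit 13018880) (BT.leaf (nat_lit 36965897)) (BT.leaf (nat_lit 36965901))) (BT.node (nat_lit 13019008) (BT.leaf (nat_lit 36965913)) (BT.leaf (nat_lit 36965917))))) (BT.node (nat_lit 13019392) (BT.node (nat_lit 13019264) (BT.node (nat_lit 13019200) (BT.leaf (nat_lit 36966161)) (BT.leaf (nat_lit 36966417))) (BT.node (nat_lit 13019328) (BT.leaf (nat_lit 51564309)) (BT.leaf (nat_lit 51561753)))) (BT.node (nat_lit 13019520) (BT.node (nat_lit 13019456) (BT.leaf (nat_lit 36967961)) (BT.leaf (nat_lit 36967965))) (BT.node (nat_lit 13019584) (BT.leaf (nat_lit 36968469)) (BT.leaf (nat_lit 51562013))))))))) (BT.node (nat_lit 13024256) (BT.node (nat_lit 13021824) (BT.node (nat_lit 13020736) (BT.node (nat_lit 13020224) (BT.node (nat_lit 13019968) (BT.node (nat_lit 13019840) (BT.node (nat_lit 13019776) (BT.leaf (nat_lit 51323673)) (BT.leaf (nat_lit 36969501))) (BT.node (nat_lit 13019904) (BT.leaf (nat_lit 51446805)) (BT.leaf (nat_lit 36970001)))) (BT.node (nat_lit 13020096) (BT.node (nat_lit 13020032) (BT.leaf (nat_lit 36970017)) (BT.leaf (nat_lit 46720517))) (BT.node (nat_lit 13020160) (BT.leaf (nat_lit 48774165)) (BT.leaf (nat_lit 36970777))))) (BT.node (nat_lit 13020480) (BT.node (nat_lit 13020352) (BT.node (nat_lit 13020288) (BT.leaf (nat_lit 36970781)) (BT.leaf (nat_lit 36971029))) (BT.node (nat_lit 13020416) (BT.leaf (nat_lit 36971037)) (BT.leaf (nat_lit 36971281)))) (BT.node (nat_lit 13020608) (BT.node (nat_lit 13020544) (BT.leaf (nat_lit 52251413)) (BT.leaf (nat_lit 36972569))) (BT.node (nat_lit 13020672) (BT.leaf (nat_lit 36972809)) (BT.leaf (nat_lit 36972813)))))) (BT.node (nat_lit 13021312) (BT.node (nat_lit 13021056) (BT.node (nat_lit 13020928) (BT.node (nat_lit 13020864) (BT.leaf (nat_lit 36972825)) (BT.leaf (nat_lit 36973333))) (BT.node (nat_lit 13020992) (BT.leaf (nat_lit 50094853)) (BT.leaf (nat_lit 36974353)))) (BT.node (nat_lit 13021184) (BT.node (nat_lit 13021120) (BT.leaf (nat_lit 51941401)) (BT.leaf (nat_lit 36974865))) (BT.node (nat_lit 13021248) (BT.leaf (nat_lit 36975121)) (BT.leaf (nat_lit 36975377))))) (BT.node (nat_lit 13021568) (BT.node (nat_lit 13021440) (BT.node (nat_lit 13021376) (BT.leaf (nat_lit 36975881)) (BT.leaf (nat_lit 36975885))) (BT.node (nat_lit 13021504) (BT.leaf (nat_lit 36976405)) (BT.leaf (nat_lit 36976145)))) (BT.node (nat_lit 13021696) (BT.node (nat_lit 13021632) (BT.leaf (nat_lit 36976149)) (BT.leaf (nat_lit 36976409))) (BT.node (nat_lit 13021760) (BT.leaf (nat_lit 36976649)) (BT.leaf (nat_lit 36976653))))))) (BT.node (nat_lit 13022912) (BT.node (nat_lit 13022336) (BT.node (nat_lit 13022080) (BT.node (nat_lit 13021952) (BT.node (nat_lit 13021888) (BT.leaf (nat_lit 36976669)) (BT.leaf (nat_lit 36976913))) (BT.node (nat_lit 13022016) (BT.leaf (nat_lit 36976917)) (BT.leaf (nat_lit 36977673)))) (BT.node (nat_lit 13022208) (BT.node (nat_lit 13022144) (BT.leaf (nat_lit 36977677)) (BT.leaf (nat_lit 36977689))) (BT.node (nat_lit 13022272) (BT.leaf (nat_lit 52083725)) (BT.leaf (nat_lit 36978185))))) (BT.node (nat_lit 13022592) (BT.node (nat_lit 13022464) (BT.node (nat_lit 13022400) (BT.leaf (nat_lit 36978189)) (BT.leaf (nat_lit 36978201))) (BT.node (nat_lit 13022528) (BT.leaf (nat_lit 36978205)) (BT.leaf (nat_lit 47079445)))) (BT.node (nat_lit 13022720) (BT.node (nat_lit 13022656) (BT.leaf (nat_lit 51671841)) (BT.leaf (nat_lit 36979465))) (BT.node (nat_lit 13022848) (BT.leaf (nat_lit 36979989)) (BT.leaf (nat_lit 36980497)))))) (BT.node (nat_lit 13023488) (BT.node (nat_lit 13023232) (BT.node (nat_lit 13023040) (BT.node (nat_lit 13022976) (BT.leaf (nat_lit 51630101)) (BT.leaf (nat_lit 49840401))) (BT.node (nat_lit 13023168) (BT.leaf (nat_lit 50701597)) (BT.leaf (nat_lit 36982305)))) (BT.node (nat_lit 13023360) (BT.node (nat_lit 13023296) (BT.leaf (nat_lit 36982549)) (BT.leaf (nat_lit 36982801))) (BT.node (nat_lit 13023424) (BT.leaf (nat_lit 36983057)) (BT.leaf (nat_lit 36983825))))) (BT.node (nat_lit 13023808) (BT.node (nat_lit 13023616) (BT.node (nat_lit 13023552) (BT.leaf (nat_lit 36983841)) (BT.leaf (nat_lit 36984081))) (BT.node (nat_lit 13023744) (BT.leaf (nat_lit 52339217)) (BT.leaf (nat_lit 36986401)))) (BT.node (nat_lit 13024000) (BT.node (nat_lit 13023936) (BT.leaf (nat_lit 37340685)) (BT.leaf (nat_lit 52261909))) (BT.node (nat_lit 13024192) (BT.leaf (nat_lit 36988693)) (BT.leaf (nat_lit 52097053)))))))) (BT.node (nat_lit 13026752) (BT.node (nat_lit 13025472) (BT.node (nat_lit 13024896) (BT.node (nat_lit 13024576) (BT.node (nat_lit 13024384) (BT.node (nat_lit 13024320) (BT.leaf (nat_lit 37483525)) (BT.leaf (nat_lit 36989969))) (BT.node (nat_lit 13024448) (BT.leaf (nat_lit 36990225)) (BT.leaf (nat_lit 36990493)))) (BT.node (nat_lit 13024704) (BT.node (nat_lit 13024640) (BT.leaf (nat_lit 36992521)) (BT.leaf (nat_lit 37328661))) (BT.node (nat_lit 13024768) (BT.leaf (nat_lit 36992789)) (BT.leaf (nat_lit 37190409))))) (BT.node (nat_lit 13025216) (BT.node (nat_lit 13025088) (BT.node (nat_lit 13025024) (BT.leaf (nat_lit 36994077)) (BT.leaf (nat_lit 36994585))) (BT.node (nat_lit 13025152) (BT.leaf (nat_lit 51419921)) (BT.leaf (nat_lit 36996357)))) (BT.node (nat_lit 13025344) (BT.node (nat_lit 13025280) (BT.leaf (nat_lit 36996637)) (BT.leaf (nat_lit 49031197))) (BT.node (nat_lit 13025408) (BT.leaf (nat_lit 36997141)) (BT.leaf (nat_lit 36997649)))))) (BT.node (nat_lit 13026176) (BT.node (nat_lit 13025856) (BT.node (nat_lit 13025600) (BT.node (nat_lit 13025536) (BT.leaf (nat_lit 51675405)) (BT.leaf (nat_lit 51403029))) (BT.node (nat_lit 13025728) (BT.leaf (nat_lit 37000737)) (BT.leaf (nat_lit 37001505)))) (BT.node (nat_lit 13025984) (BT.node (nat_lit 13025920) (BT.leaf (nat_lit 52293149)) (BT.leaf (nat_lit 51363873))) (BT.node (nat_lit 13026112) (BT.leaf (nat_lit 52095253)) (BT.leaf (nat_lit 37585685))))) (BT.node (nat_lit 13026432) (BT.node (nat_lit 13026304) (BT.node (nat_lit 13026240) (BT.leaf (nat_lit 37004057)) (BT.leaf (nat_lit 37091861))) (BT.node (nat_lit 13026368) (BT.leaf (nat_lit 37582357)) (BT.leaf (nat_lit 37005329)))) (BT.node (nat_lit 13026624) (BT.node (nat_lit 13026496) (BT.leaf (nat_lit 37005589)) (BT.leaf (nat_lit 37006621))) (BT.node (nat_lit 13026688) (BT.leaf (nat_lit 37021469)) (BT.leaf (nat_lit 37007633))))))) (BT.node (nat_lit 13028416) (BT.node (nat_lit 13027584) (BT.node (nat_lit 13027264) (BT.node (nat_lit 13026944) (BT.node (nat_lit 13026816) (BT.leaf (nat_lit 37023001)) (BT.leaf (nat_lit 37008161))) (BT.node (nat_lit 13027008) (BT.leaf (nat_lit 37169169)) (BT.leaf (nat_lit 51167261)))) (BT.node (nat_lit 13027456) (BT.node (nat_lit 13027328) (BT.leaf (nat_lit 37009681)) (BT.leaf (nat_lit 37010193))) (BT.node (nat_lit 13027520) (BT.leaf (nat_lit 51167257)) (BT.leaf (nat_lit 37011481))))) (BT.node (nat_lit 13027904) (BT.node (nat_lit 13027776) (BT.node (nat_lit 13027648) (BT.leaf (nat_lit 37488909)) (BT.leaf (nat_lit 37012257))) (BT.node (nat_lit 13027840) (BT.leaf (nat_lit 37013013)) (BT.leaf (nat_lit 37013281)))) (BT.node (nat_lit 13028032) (BT.node (nat_lit 13027974) (BT.leaf (nat_lit 37103109)) (BT.leaf (nat_lit 817348))) (BT.node (nat_lit 13028160) (BT.leaf (nat_lit 37316873)) (BT.leaf (nat_lit 37015329)))))) (BT.node (nat_lit 13028928) (BT.node (nat_lit 13028672) (BT.node (nat_lit 13028544) (BT.node (nat_lit 13028480) (BT.leaf (nat_lit 37017109)) (BT.leaf (nat_lit 52025105))) (BT.node (nat_lit 13028608) (BT.leaf (nat_lit 37018117)) (BT.leaf (nat_lit 37018897)))) (BT.node (nat_lit 13028800) (BT.node (nat_lit 13028736) (BT.leaf (nat_lit 37019421)) (BT.leaf (nat_lit 37019925))) (BT.node (nat_lit 13028864) (BT.leaf (nat_lit 37022225)) (BT.leaf (nat_lit 37022489))))) (BT.node (nat_lit 13029184) (BT.node (nat_lit 13029056) (BT.node (nat_lit 13028992) (BT.leaf (nat_lit 52276245)) (BT.leaf (nat_lit 52195589))) (BT.node (nat_lit 13029120) (BT.leaf (nat_lit 51746325)) (BT.leaf (nat_lit 37025817)))) (BT.node (nat_lit 13029312) (BT.node (nat_lit 13029248) (BT.leaf (nat_lit 37025821)) (BT.leaf (nat_lit 37026065))) (BT.node (nat_lit 13029504) (BT.leaf (nat_lit 51026705)) (BT.leaf (nat_lit 37205281)))))))))) (BT.node (nat_lit 13038848) (BT.node (nat_lit 13034560) (BT.node (nat_lit 13032192) (BT.node (nat_lit 13031040) (BT.node (nat_lit 13030272) (BT.node (nat_lit 13029824) (BT.node (nat_lit 13029696) (BT.node (nat_lit 13029632) (BT.leaf (nat_lit 50501921)) (BT.leaf (nat_lit 51771153))) (BT.node (nat_lit 13029760) (BT.leaf (nat_lit 37027865)) (BT.leaf (nat_lit 52198433)))) (BT.node (nat_lit 13030080) (BT.node (nat_lit 13029888) (BT.leaf (nat_lit 51876641)) (BT.leaf (nat_lit 37028629))) (BT.node (nat_lit 13030208) (BT.leaf (nat_lit 52263705)) (BT.leaf (nat_lit 48855317))))) (BT.node (nat_lit 13030656) (BT.node (nat_lit 13030464) (BT.node (nat_lit 13030400) (BT.leaf (nat_lit 48855325)) (BT.leaf (nat_lit 37031961))) (BT.node (nat_lit 13030528) (BT.leaf (nat_lit 37031965)) (BT.leaf (nat_lit 37033237)))) (BT.node (nat_lit 13030848) (BT.node (nat_lit 13030784) (BT.leaf (nat_lit 37033745)) (BT.leaf (nat_lit 37035285))) (BT.node (nat_lit 13030912) (BT.leaf (nat_lit 52295949)) (BT.leaf (nat_lit 52303385)))))) (BT.node (nat_lit 13031680) (BT.node (nat_lit 13031360) (BT.node (nat_lit 13031232) (BT.node (nat_lit 13031168) (BT.leaf (nat_lit 47997473)) (BT.leaf (nat_lit 51365657))) (BT.node (nat_lit 13031296) (BT.leaf (nat_lit 37038361)) (BT.leaf (nat_lit 37039129)))) (BT.node (nat_lit 13031552) (BT.node (nat_lit 13031488) (BT.leaf (nat_lit 37039133)) (BT.leaf (nat_lit 37040917))) (BT.node (nat_lit 13031616) (BT.leaf (nat_lit 37041425)) (BT.leaf (nat_lit 37042457))))) (BT.node (nat_lit 13031936) (BT.node (nat_lit 13031808) (BT.node (nat_lit 13031744) (BT.leaf (nat_lit 37044253)) (BT.leaf (nat_lit 37044489))) (BT.node (nat_lit 13031872) (BT.leaf (nat_lit 37044493)) (BT.leaf (nat_lit 37044497)))) (BT.node (nat_lit 13032064) (BT.node (nat_lit 13032000) (BT.leaf (nat_lit 37044505)) (BT.leaf (nat_lit 37044757))) (BT.node (nat_lit 13032128) (BT.leaf (nat_lit 37045017)) (BT.leaf (nat_lit 37045265))))))) (BT.node (nat_lit 13033472) (BT.node (nat_lit 13032896) (BT.node (nat_lit 13032448) (BT.node (nat_lit 13032320) (BT.node (nat_lit 13032256) (BT.leaf (nat_lit 37045277)) (BT.leaf (nat_lit 51570445))) (BT.node (nat_lit 13032384) (BT.leaf (nat_lit 37046293)) (BT.leaf (nat_lit 37046545)))) (BT.node (nat_lit 13032704) (BT.node (nat_lit 13032512) (BT.leaf (nat_lit 37046805)) (BT.leaf (nat_lit 38973709))) (BT.node (nat_lit 13032768) (BT.leaf (nat_lit 37048085)) (BT.leaf (nat_lit 37048329))))) (BT.node (nat_lit 13033152) (BT.node (nat_lit 13033024) (BT.node (nat_lit 13032960) (BT.leaf (nat_lit 50292501)) (BT.leaf (nat_lit 51408401))) (BT.node (nat_lit 13033088) (BT.leaf (nat_lit 51408405)) (BT.leaf (nat_lit 37049369)))) (BT.node (nat_lit 13033344) (BT.node (nat_lit 13033280) (BT.leaf (nat_lit 37049373)) (BT.leaf (nat_lit 37049889))) (BT.node (nat_lit 13033408) (BT.leaf (nat_lit 49953561)) (BT.leaf (nat_lit 37050645)))))) (BT.node (nat_lit 13034048) (BT.node (nat_lit 13033728) (BT.node (nat_lit 13033600) (BT.node (nat_lit 13033536) (BT.leaf (nat_lit 37051417)) (BT.leaf (nat_lit 37051421))) (BT.node (nat_lit 13033664) (BT.leaf (nat_lit 37051921)) (BT.leaf (nat_lit 37052189)))) (BT.node (nat_lit 13033856) (BT.node (nat_lit 13033792) (BT.leaf (nat_lit 51397909)) (BT.leaf (nat_lit 37054489))) (BT.node (nat_lit 13033920) (BT.leaf (nat_lit 47869473)) (BT.leaf (nat_lit 37056533))))) (BT.node (nat_lit 13034304) (BT.node (nat_lit 13034176) (BT.node (nat_lit 13034112) (BT.leaf (nat_lit 37056517)) (BT.leaf (nat_lit 49294613))) (BT.node (nat_lit 13034240) (BT.leaf (nat_lit 47865861)) (BT.leaf (nat_lit 52407813)))) (BT.node (nat_lit 13034432) (BT.node (nat_lit 13034368) (BT.leaf (nat_lit 51376133)) (BT.leaf (nat_lit 37057817))) (BT.node (nat_lit 13034496) (BT.leaf (nat_lit 37058069)) (BT.leaf (nat_lit 52039949)))))))) (BT.node (nat_lit 13036736) (BT.node (nat_lit 13035712) (BT.node (nat_lit 13035072) (BT.node (nat_lit 13034816) (BT.node (nat_lit 13034688) (BT.node (nat_lit 13034624) (BT.leaf (nat_lit 37060373)) (BT.leaf (nat_lit 37061649))) (BT.node (nat_lit 13034752) (BT.leaf (nat_lit 46746897)) (BT.leaf (nat_lit 46746913)))) (BT.node (nat_lit 13034944) (BT.node (nat_lit 13034880) (BT.leaf (nat_lit 37408033)) (BT.leaf (nat_lit 37064729))) (BT.node (nat_lit 13035008) (BT.leaf (nat_lit 41999113)) (BT.leaf (nat_lit 41999117))))) (BT.node (nat_lit 13035392) (BT.node (nat_lit 13035264) (BT.node (nat_lit 13035200) (BT.leaf (nat_lit 48496673)) (BT.leaf (nat_lit 52411925))) (BT.node (nat_lit 13035328) (BT.leaf (nat_lit 49265697)) (BT.leaf (nat_lit 37067029)))) (BT.node (nat_lit 13035584) (BT.node (nat_lit 13035456) (BT.leaf (nat_lit 37067281)) (BT.leaf (nat_lit 37067541))) (BT.node (nat_lit 13035648) (BT.leaf (nat_lit 37068049)) (BT.leaf (nat_lit 37068313)))))) (BT.node (nat_lit 13036224) (BT.node (nat_lit 13035968) (BT.node (nat_lit 13035840) (BT.node (nat_lit 13035776) (BT.leaf (nat_lit 37068317)) (BT.leaf (nat_lit 37068825))) (BT.node (nat_lit 13035904) (BT.leaf (nat_lit 37068829)) (BT.leaf (nat_lit 37069341)))) (BT.node (nat_lit 13036096) (BT.node (nat_lit 13036032) (BT.leaf (nat_lit 37070089)) (BT.leaf (nat_lit 37070093))) (BT.node (nat_lit 13036160) (BT.leaf (nat_lit 37070097)) (BT.leaf (nat_lit 37070105))))) (BT.node (nat_lit 13036480) (BT.node (nat_lit 13036352) (BT.node (nat_lit 13036288) (BT.leaf (nat_lit 37070609)) (BT.leaf (nat_lit 37070873))) (BT.node (nat_lit 13036416) (BT.leaf (nat_lit 37070877)) (BT.leaf (nat_lit 37071113)))) (BT.node (nat_lit 13036608) (BT.node (nat_lit 13036544) (BT.leaf (nat_lit 37071117)) (BT.leaf (nat_lit 37071637))) (BT.node (nat_lit 13036672) (BT.leaf (nat_lit 37072145)) (BT.leaf (nat_lit 37072401))))))) (BT.node (nat_lit 13037760) (BT.node (nat_lit 13037248) (BT.node (nat_lit 13036992) (BT.node (nat_lit 13036864) (BT.node (nat_lit 13036800) (BT.leaf (nat_lit 37072917)) (BT.leaf (nat_lit 37073177))) (BT.node (nat_lit 13036928) (BT.leaf (nat_lit 37074437)) (BT.leaf (nat_lit 52154653)))) (BT.node (nat_lit 13037120) (BT.node (nat_lit 13037056) (BT.leaf (nat_lit 37075229)) (BT.leaf (nat_lit 37075737))) (BT.node (nat_lit 13037184) (BT.leaf (nat_lit 37075741)) (BT.leaf (nat_lit 52060449))))) (BT.node (nat_lit 13037504) (BT.node (nat_lit 13037376) (BT.node (nat_lit 13037312) (BT.leaf (nat_lit 51422749)) (BT.leaf (nat_lit 37077509))) (BT.node (nat_lit 13037440) (BT.leaf (nat_lit 37077777)) (BT.leaf (nat_lit 37078553)))) (BT.node (nat_lit 13037632) (BT.node (nat_lit 13037568) (BT.leaf (nat_lit 52097797)) (BT.leaf (nat_lit 37080329))) (BT.node (nat_lit 13037696) (BT.leaf (nat_lit 47629325)) (BT.leaf (nat_lit 37081113)))))) (BT.node (nat_lit 13038336) (BT.node (nat_lit 13038016) (BT.node (nat_lit 13037888) (BT.node (nat_lit 13037824) (BT.leaf (nat_lit 46474513)) (BT.leaf (nat_lit 37082133))) (BT.node (nat_lit 13037952) (BT.leaf (nat_lit 37082649)) (BT.leaf (nat_lit 37082653)))) (BT.node (nat_lit 13038144) (BT.node (nat_lit 13038080) (BT.leaf (nat_lit 37083161)) (BT.leaf (nat_lit 37083165))) (BT.node (nat_lit 13038272) (BT.leaf (nat_lit 37083673)) (BT.leaf (nat_lit 37085201))))) (BT.node (nat_lit 13038592) (BT.node (nat_lit 13038464) (BT.node (nat_lit 13038400) (BT.leaf (nat_lit 52302369)) (BT.leaf (nat_lit 37232145))) (BT.node (nat_lit 13038528) (BT.leaf (nat_lit 37086725)) (BT.leaf (nat_lit 52437269)))) (BT.node (nat_lit 13038720) (BT.node (nat_lit 13038656) (BT.leaf (nat_lit 51943685)) (BT.leaf (nat_lit 52295969))) (BT.node (nat_lit 13038784) (BT.leaf (nat_lit 37089041)) (BT.leaf (nat_lit 37089305))))))))) (BT.node (nat_lit 13043456) (BT.node (nat_lit 13041216) (BT.node (nat_lit 13040128) (BT.node (nat_lit 13039424) (BT.node (nat_lit 13039104) (BT.node (nat_lit 13038976) (BT.node (nat_lit 13038912) (BT.leaf (nat_lit 37089545)) (BT.leaf (nat_lit 37089549))) (BT.node (nat_lit 13039040) (BT.leaf (nat_lit 37089553)) (BT.leaf (nat_lit 37089565)))) (BT.node (nat_lit 13039296) (BT.node (nat_lit 13039168) (BT.leaf (nat_lit 37089809)) (BT.leaf (nat_lit 37089813))) (BT.node (nat_lit 13039360) (BT.leaf (nat_lit 52107801)) (BT.leaf (nat_lit 52107805))))) (BT.node (nat_lit 13039872) (BT.node (nat_lit 13039744) (BT.node (nat_lit 13039488) (BT.leaf (nat_lit 37094173)) (BT.leaf (nat_lit 37094153))) (BT.node (nat_lit 13039808) (BT.leaf (nat_lit 37092121)) (BT.leaf (nat_lit 51485461)))) (BT.node (nat_lit 13040000) (BT.node (nat_lit 13039936) (BT.leaf (nat_lit 48097813)) (BT.leaf (nat_lit 51847713))) (BT.node (nat_lit 13040064) (BT.leaf (nat_lit 37094161)) (BT.leaf (nat_lit 37094433)))))) (BT.node (nat_lit 13040704) (BT.node (nat_lit 13040454) (BT.node (nat_lit 13040384) (BT.node (nat_lit 13040256) (BT.leaf (nat_lit 37094677)) (BT.leaf (nat_lit 37576985))) (BT.node (nat_lit 13040448) (BT.leaf (nat_lit 37095969)) (BT.leaf (nat_lit 37096209)))) (BT.node (nat_lit 13040576) (BT.node (nat_lit 13040512) (BT.leaf (nat_lit 818260)) (BT.leaf (nat_lit 37096465))) (BT.node (nat_lit 13040640) (BT.leaf (nat_lit 51682589)) (BT.leaf (nat_lit 37096729))))) (BT.node (nat_lit 13040960) (BT.node (nat_lit 13040832) (BT.node (nat_lit 13040768) (BT.leaf (nat_lit 51661849)) (BT.leaf (nat_lit 51662109))) (BT.node (nat_lit 13040896) (BT.leaf (nat_lit 37230361)) (BT.leaf (nat_lit 37143573)))) (BT.node (nat_lit 13041088) (BT.node (nat_lit 13041024) (BT.leaf (nat_lit 52444961)) (BT.leaf (nat_lit 37100313))) (BT.node (nat_lit 13041152) (BT.leaf (nat_lit 37099289)) (BT.leaf (nat_lit 51136277))))))) (BT.node (nat_lit 13042304) (BT.node (nat_lit 13041728) (BT.node (nat_lit 13041472) (BT.node (nat_lit 13041344) (BT.node (nat_lit 13041280) (BT.leaf (nat_lit 37100053)) (BT.leaf (nat_lit 37143317))) (BT.node (nat_lit 13041408) (BT.leaf (nat_lit 52440865)) (BT.leaf (nat_lit 37100569)))) (BT.node (nat_lit 13041600) (BT.node (nat_lit 13041536) (BT.leaf (nat_lit 51788321)) (BT.leaf (nat_lit 52225285))) (BT.node (nat_lit 13041664) (BT.leaf (nat_lit 37104405)) (BT.leaf (nat_lit 47626769))))) (BT.node (nat_lit 13042048) (BT.node (nat_lit 13041856) (BT.node (nat_lit 13041792) (BT.leaf (nat_lit 51947781)) (BT.leaf (nat_lit 52091397))) (BT.node (nat_lit 13041920) (BT.leaf (nat_lit 51653141)) (BT.leaf (nat_lit 51903769)))) (BT.node (nat_lit 13042176) (BT.node (nat_lit 13042112) (BT.leaf (nat_lit 47074073)) (BT.leaf (nat_lit 37106445))) (BT.node (nat_lit 13042240) (BT.leaf (nat_lit 37106457)) (BT.leaf (nat_lit 47074061)))))) (BT.node (nat_lit 13042880) (BT.node (nat_lit 13042624) (BT.node (nat_lit 13042496) (BT.node (nat_lit 13042432) (BT.leaf (nat_lit 51382537)) (BT.leaf (nat_lit 37107473))) (BT.node (nat_lit 13042560) (BT.leaf (nat_lit 37107729)) (BT.leaf (nat_lit 37108241)))) (BT.node (nat_lit 13042752) (BT.node (nat_lit 13042688) (BT.leaf (nat_lit 51081485)) (BT.leaf (nat_lit 37109257))) (BT.node (nat_lit 13042816) (BT.leaf (nat_lit 37109261)) (BT.leaf (nat_lit 37109273))))) (BT.node (nat_lit 13043200) (BT.node (nat_lit 13043008) (BT.node (nat_lit 13042944) (BT.leaf (nat_lit 37109277)) (BT.leaf (nat_lit 37110045))) (BT.node (nat_lit 13043072) (BT.leaf (nat_lit 37110545)) (BT.leaf (nat_lit 37110805)))) (BT.node (nat_lit 13043328) (BT.node (nat_lit 13043264) (BT.leaf (nat_lit 37111065)) (BT.leaf (nat_lit 37111573))) (BT.node (nat_lit 13043392) (BT.leaf (nat_lit 37112609)) (BT.leaf (nat_lit 37167893)))))))) (BT.node (nat_lit 13045568) (BT.node (nat_lit 13044544) (BT.node (nat_lit 13044032) (BT.node (nat_lit 13043776) (BT.node (nat_lit 13043648) (BT.node (nat_lit 13043584) (BT.leaf (nat_lit 37169181)) (BT.leaf (nat_lit 37113889))) (BT.node (nat_lit 13043712) (BT.leaf (nat_lit 37114133)) (BT.leaf (nat_lit 37600013)))) (BT.node (nat_lit 13043904) (BT.node (nat_lit 13043840) (BT.leaf (nat_lit 37118993)) (BT.leaf (nat_lit 37119265))) (BT.node (nat_lit 13043968) (BT.leaf (nat_lit 37121297)) (BT.leaf (nat_lit 37121553))))) (BT.node (nat_lit 13044288) (BT.node (nat_lit 13044160) (BT.node (nat_lit 13044096) (BT.leaf (nat_lit 37121817)) (BT.leaf (nat_lit 37122077))) (BT.node (nat_lit 13044224) (BT.leaf (nat_lit 37123613)) (BT.leaf (nat_lit 37123861)))) (BT.node (nat_lit 13044416) (BT.node (nat_lit 13044352) (BT.leaf (nat_lit 37124625)) (BT.leaf (nat_lit 37125649))) (BT.node (nat_lit 13044480) (BT.leaf (nat_lit 37125665)) (BT.leaf (nat_lit 37125921)))))) (BT.node (nat_lit 13045056) (BT.node (nat_lit 13044800) (BT.node (nat_lit 13044672) (BT.node (nat_lit 13044608) (BT.leaf (nat_lit 37126149)) (BT.leaf (nat_lit 49751825))) (BT.node (nat_lit 13044736) (BT.leaf (nat_lit 37127445)) (BT.leaf (nat_lit 37128985)))) (BT.node (nat_lit 13044928) (BT.node (nat_lit 13044864) (BT.leaf (nat_lit 51682325)) (BT.leaf (nat_lit 51095577))) (BT.node (nat_lit 13044992) (BT.leaf (nat_lit 51681817)) (BT.leaf (nat_lit 37129505))))) (BT.node (nat_lit 13045312) (BT.node (nat_lit 13045184) (BT.node (nat_lit 13045120) (BT.leaf (nat_lit 37129761)) (BT.leaf (nat_lit 51682077))) (BT.node (nat_lit 13045248) (BT.leaf (nat_lit 37131281)) (BT.leaf (nat_lit 37139993)))) (BT.node (nat_lit 13045440) (BT.node (nat_lit 13045376) (BT.leaf (nat_lit 37133341)) (BT.leaf (nat_lit 37702421))) (BT.node (nat_lit 13045504) (BT.leaf (nat_lit 37134365)) (BT.leaf (nat_lit 37134617))))))) (BT.node (nat_lit 13046592) (BT.node (nat_lit 13046080) (BT.node (nat_lit 13045824) (BT.node (nat_lit 13045696) (BT.node (nat_lit 13045632) (BT.leaf (nat_lit 37135109)) (BT.leaf (nat_lit 37135377))) (BT.node (nat_lit 13045760) (BT.leaf (nat_lit 51689501)) (BT.leaf (nat_lit 50817285)))) (BT.node (nat_lit 13045952) (BT.node (nat_lit 13045888) (BT.leaf (nat_lit 37136149)) (BT.leaf (nat_lit 37136417))) (BT.node (nat_lit 13046016) (BT.leaf (nat_lit 37136901)) (BT.leaf (nat_lit 37136921))))) (BT.node (nat_lit 13046336) (BT.node (nat_lit 13046208) (BT.node (nat_lit 13046144) (BT.leaf (nat_lit 37137169)) (BT.leaf (nat_lit 37138197))) (BT.node (nat_lit 13046272) (BT.leaf (nat_lit 37138961)) (BT.leaf (nat_lit 37139225)))) (BT.node (nat_lit 13046464) (BT.node (nat_lit 13046400) (BT.leaf (nat_lit 37140241)) (BT.leaf (nat_lit 51470341))) (BT.node (nat_lit 13046528) (BT.leaf (nat_lit 52151313)) (BT.leaf (nat_lit 37142049)))))) (BT.node (nat_lit 13047104) (BT.node (nat_lit 13046848) (BT.node (nat_lit 13046720) (BT.node (nat_lit 13046656) (BT.leaf (nat_lit 37142553)) (BT.leaf (nat_lit 37142557))) (BT.node (nat_lit 13046784) (BT.leaf (nat_lit 37580317)) (BT.leaf (nat_lit 37144349)))) (BT.node (nat_lit 13046976) (BT.node (nat_lit 13046912) (BT.leaf (nat_lit 37230365)) (BT.leaf (nat_lit 37146133))) (BT.node (nat_lit 13047040) (BT.leaf (nat_lit 52094981)) (BT.leaf (nat_lit 37147169))))) (BT.node (nat_lit 13047360) (BT.node (nat_lit 13047232) (BT.node (nat_lit 13047168) (BT.leaf (nat_lit 37148173)) (BT.leaf (nat_lit 37147665))) (BT.node (nat_lit 13047296) (BT.leaf (nat_lit 37148189)) (BT.leaf (nat_lit 37147921)))) (BT.node (nat_lit 13047488) (BT.node (nat_lit 13047424) (BT.leaf (nat_lit 37147937)) (BT.leaf (nat_lit 37148433))) (BT.node (nat_lit 13047552) (BT.leaf (nat_lit 37148689)) (BT.leaf (nat_lit 37148705))))))))))) (BT.node (nat_lit 13067776) (BT.node (nat_lit 13057344) (BT.node (nat_lit 13052992) (BT.node (nat_lit 13050304) (BT.node (nat_lit 13049088) (BT.node (nat_lit 13048320) (BT.node (nat_lit 13048064) (BT.node (nat_lit 13047872) (BT.node (nat_lit 13047808) (BT.leaf (nat_lit 37150489)) (BT.leaf (nat_lit 37152017))) (BT.node (nat_lit 13048000) (BT.leaf (nat_lit 37152525)) (BT.leaf (nat_lit 37152545)))) (BT.node (nat_lit 13048192) (BT.node (nat_lit 13048128) (BT.leaf (nat_lit 37152801)) (BT.leaf (nat_lit 37153057))) (BT.node (nat_lit 13048256) (BT.leaf (nat_lit 37153297)) (BT.leaf (nat_lit 37153313))))) (BT.node (nat_lit 13048832) (BT.node (nat_lit 13048640) (BT.node (nat_lit 13048384) (BT.leaf (nat_lit 37153553)) (BT.leaf (nat_lit 37153569))) (BT.node (nat_lit 13048704) (BT.leaf (nat_lit 37156361)) (BT.leaf (nat_lit 37157145)))) (BT.node (nat_lit 13048960) (BT.node (nat_lit 13048896) (BT.leaf (nat_lit 37158425)) (BT.leaf (nat_lit 51714077))) (BT.node (nat_lit 13049024) (BT.leaf (nat_lit 52194837)) (BT.leaf (nat_lit 37166097)))))) (BT.node (nat_lit 13049792) (BT.node (nat_lit 13049408) (BT.node (nat_lit 13049216) (BT.node (nat_lit 13049152) (BT.leaf (nat_lit 37160985)) (BT.leaf (nat_lit 37160989))) (BT.node (nat_lit 13049280) (BT.leaf (nat_lit 51328533)) (BT.leaf (nat_lit 52196373)))) (BT.node (nat_lit 13049600) (BT.node (nat_lit 13049472) (BT.leaf (nat_lit 49883165)) (BT.leaf (nat_lit 37163537))) (BT.node (nat_lit 13049664) (BT.leaf (nat_lit 37306633)) (BT.leaf (nat_lit 37165073))))) (BT.node (nat_lit 13050048) (BT.node (nat_lit 13049920) (BT.node (nat_lit 13049856) (BT.leaf (nat_lit 37167121)) (BT.leaf (nat_lit 37167393))) (BT.node (nat_lit 13049984) (BT.leaf (nat_lit 37578509)) (BT.leaf (nat_lit 37578521)))) (BT.node (nat_lit 13050176) (BT.node (nat_lit 13050112) (BT.leaf (nat_lit 52174605)) (BT.leaf (nat_lit 37168161))) (BT.node (nat_lit 13050240) (BT.leaf (nat_lit 37168401)) (BT.leaf (nat_lit 37169177))))))) (BT.node (nat_lit 13051776) (BT.node (nat_lit 13051008) (BT.node (nat_lit 13050752) (BT.node (nat_lit 13050432) (BT.node (nat_lit 13050368) (BT.leaf (nat_lit 37169165)) (BT.leaf (nat_lit 37169185))) (BT.node (nat_lit 13050496) (BT.leaf (nat_lit 52174617)) (BT.leaf (nat_lit 37169697)))) (BT.node (nat_lit 13050880) (BT.node (nat_lit 13050816) (BT.leaf (nat_lit 37170721)) (BT.leaf (nat_lit 37170965))) (BT.node (nat_lit 13050944) (BT.leaf (nat_lit 37171233)) (BT.leaf (nat_lit 37296137))))) (BT.node (nat_lit 13051520) (BT.node (nat_lit 13051136) (BT.node (nat_lit 13051072) (BT.leaf (nat_lit 37568545)) (BT.leaf (nat_lit 37171745))) (BT.node (nat_lit 13051200) (BT.leaf (nat_lit 37172505)) (BT.leaf (nat_lit 37172509)))) (BT.node (nat_lit 13051648) (BT.node (nat_lit 13051584) (BT.leaf (nat_lit 52053785)) (BT.leaf (nat_lit 37175829))) (BT.node (nat_lit 13051712) (BT.leaf (nat_lit 37487905)) (BT.leaf (nat_lit 37614369)))))) (BT.node (nat_lit 13052288) (BT.node (nat_lit 13052032) (BT.node (nat_lit 13051904) (BT.node (nat_lit 13051840) (BT.leaf (nat_lit 37177873)) (BT.leaf (nat_lit 52195617))) (BT.node (nat_lit 13051968) (BT.leaf (nat_lit 51797789)) (BT.leaf (nat_lit 51900449)))) (BT.node (nat_lit 13052160) (BT.node (nat_lit 13052096) (BT.leaf (nat_lit 46526213)) (BT.leaf (nat_lit 50286873))) (BT.node (nat_lit 13052224) (BT.leaf (nat_lit 50286861)) (BT.leaf (nat_lit 50738709))))) (BT.node (nat_lit 13052544) (BT.node (nat_lit 13052416) (BT.node (nat_lit 13052352) (BT.leaf (nat_lit 37184033)) (BT.leaf (nat_lit 50738713))) (BT.node (nat_lit 13052480) (BT.leaf (nat_lit 37185557)) (BT.leaf (nat_lit 37185805)))) (BT.node (nat_lit 13052800) (BT.node (nat_lit 13052672) (BT.leaf (nat_lit 49836565)) (BT.leaf (nat_lit 37186833))) (BT.node (nat_lit 13052928) (BT.leaf (nat_lit 37187101)) (BT.leaf (nat_lit 48654621)))))))) (BT.node (nat_lit 13055168) (BT.node (nat_lit 13054080) (BT.node (nat_lit 13053504) (BT.node (nat_lit 13053248) (BT.node (nat_lit 13053120) (BT.node (nat_lit 13053056) (BT.leaf (nat_lit 37187601)) (BT.leaf (nat_lit 52003617))) (BT.node (nat_lit 13053184) (BT.leaf (nat_lit 51106065)) (BT.leaf (nat_lit 46322693)))) (BT.node (nat_lit 13053376) (BT.node (nat_lit 13053312) (BT.leaf (nat_lit 37188629)) (BT.leaf (nat_lit 51806469))) (BT.node (nat_lit 13053440) (BT.leaf (nat_lit 37189129)) (BT.leaf (nat_lit 37189133))))) (BT.node (nat_lit 13053824) (BT.node (nat_lit 13053632) (BT.node (nat_lit 13053568) (BT.leaf (nat_lit 37189145)) (BT.leaf (nat_lit 51910413))) (BT.node (nat_lit 13053760) (BT.leaf (nat_lit 50148629)) (BT.leaf (nat_lit 47483153)))) (BT.node (nat_lit 13053952) (BT.node (nat_lit 13053888) (BT.leaf (nat_lit 52132105)) (BT.leaf (nat_lit 37190677))) (BT.node (nat_lit 13054016) (BT.leaf (nat_lit 37190689)) (BT.leaf (nat_lit 37191445)))))) (BT.node (nat_lit 13054656) (BT.node (nat_lit 13054400) (BT.node (nat_lit 13054272) (BT.node (nat_lit 13054144) (BT.leaf (nat_lit 51941921)) (BT.leaf (nat_lit 37193481))) (BT.node (nat_lit 13054336) (BT.leaf (nat_lit 37193485)) (BT.leaf (nat_lit 50617625)))) (BT.node (nat_lit 13054528) (BT.node (nat_lit 13054464) (BT.leaf (nat_lit 37193501)) (BT.leaf (nat_lit 37193497))) (BT.node (nat_lit 13054592) (BT.leaf (nat_lit 50144273)) (BT.leaf (nat_lit 50298901))))) (BT.node (nat_lit 13054912) (BT.node (nat_lit 13054784) (BT.node (nat_lit 13054720) (BT.leaf (nat_lit 48602393)) (BT.leaf (nat_lit 37195269))) (BT.node (nat_lit 13054848) (BT.leaf (nat_lit 49221153)) (BT.leaf (nat_lit 37195797)))) (BT.node (nat_lit 13055040) (BT.node (nat_lit 13054976) (BT.leaf (nat_lit 37197077)) (BT.leaf (nat_lit 37197081))) (BT.node (nat_lit 13055104) (BT.leaf (nat_lit 37197085)) (BT.leaf (nat_lit 37197593))))))) (BT.node (nat_lit 13056320) (BT.node (nat_lit 13055680) (BT.node (nat_lit 13055424) (BT.node (nat_lit 13055296) (BT.node (nat_lit 13055232) (BT.leaf (nat_lit 37197597)) (BT.leaf (nat_lit 37197841))) (BT.node (nat_lit 13055360) (BT.leaf (nat_lit 37198105)) (BT.leaf (nat_lit 37198865)))) (BT.node (nat_lit 13055552) (BT.node (nat_lit 13055488) (BT.leaf (nat_lit 41502469)) (BT.leaf (nat_lit 48749069))) (BT.node (nat_lit 13055616) (BT.leaf (nat_lit 50127629)) (BT.leaf (nat_lit 52222233))))) (BT.node (nat_lit 13056064) (BT.node (nat_lit 13055872) (BT.node (nat_lit 13055808) (BT.leaf (nat_lit 50931233)) (BT.leaf (nat_lit 37200149))) (BT.node (nat_lit 13056000) (BT.leaf (nat_lit 37199897)) (BT.leaf (nat_lit 52136453)))) (BT.node (nat_lit 13056192) (BT.node (nat_lit 13056128) (BT.leaf (nat_lit 37200913)) (BT.leaf (nat_lit 37200665))) (BT.node (nat_lit 13056256) (BT.leaf (nat_lit 37200669)) (BT.leaf (nat_lit 37201677)))))) (BT.node (nat_lit 13056832) (BT.node (nat_lit 13056576) (BT.node (nat_lit 13056448) (BT.node (nat_lit 13056384) (BT.leaf (nat_lit 51781137)) (BT.leaf (nat_lit 37201941))) (BT.node (nat_lit 13056512) (BT.leaf (nat_lit 37473557)) (BT.leaf (nat_lit 46357281)))) (BT.node (nat_lit 13056704) (BT.node (nat_lit 13056640) (BT.leaf (nat_lit 52058125)) (BT.leaf (nat_lit 37202713))) (BT.node (nat_lit 13056768) (BT.leaf (nat_lit 50617609)) (BT.leaf (nat_lit 40821005))))) (BT.node (nat_lit 13057088) (BT.node (nat_lit 13056960) (BT.node (nat_lit 13056896) (BT.leaf (nat_lit 50617629)) (BT.leaf (nat_lit 37203225))) (BT.node (nat_lit 13057024) (BT.leaf (nat_lit 37203485)) (BT.leaf (nat_lit 51579921)))) (BT.node (nat_lit 13057216) (BT.node (nat_lit 13057152) (BT.leaf (nat_lit 49119509)) (BT.leaf (nat_lit 48776985))) (BT.node (nat_lit 13057280) (BT.leaf (nat_lit 42290437)) (BT.leaf (nat_lit 37207829))))))))) (BT.node (nat_lit 13062592) (BT.node (nat_lit 13059712) (BT.node (nat_lit 13058368) (BT.node (nat_lit 13057856) (BT.node (nat_lit 13057600) (BT.node (nat_lit 13057472) (BT.node (nat_lit 13057408) (BT.leaf (nat_lit 37207833)) (BT.leaf (nat_lit 37207837))) (BT.node (nat_lit 13057536) (BT.leaf (nat_lit 37208085)) (BT.leaf (nat_lit 51644957)))) (BT.node (nat_lit 13057728) (BT.node (nat_lit 13057664) (BT.leaf (nat_lit 37208853)) (BT.leaf (nat_lit 46236193))) (BT.node (nat_lit 13057792) (BT.leaf (nat_lit 37210393)) (BT.leaf (nat_lit 50733089))))) (BT.node (nat_lit 13058112) (BT.node (nat_lit 13057984) (BT.node (nat_lit 13057920) (BT.leaf (nat_lit 37211153)) (BT.leaf (nat_lit 37211169))) (BT.node (nat_lit 13058048) (BT.leaf (nat_lit 37948437)) (BT.leaf (nat_lit 37211913)))) (BT.node (nat_lit 13058240) (BT.node (nat_lit 13058176) (BT.leaf (nat_lit 37214481)) (BT.leaf (nat_lit 37214749))) (BT.node (nat_lit 13058304) (BT.leaf (nat_lit 51883013)) (BT.leaf (nat_lit 37215773)))))) (BT.node (nat_lit 13059072) (BT.node (nat_lit 13058624) (BT.node (nat_lit 13058496) (BT.node (nat_lit 13058432) (BT.leaf (nat_lit 37216029)) (BT.leaf (nat_lit 37218065))) (BT.node (nat_lit 13058560) (BT.leaf (nat_lit 37218325)) (BT.leaf (nat_lit 51883025)))) (BT.node (nat_lit 13058880) (BT.node (nat_lit 13058688) (BT.leaf (nat_lit 37218333)) (BT.leaf (nat_lit 52436741))) (BT.node (nat_lit 13058944) (BT.leaf (nat_lit 52437509)) (BT.leaf (nat_lit 37269537))))) (BT.node (nat_lit 13059328) (BT.node (nat_lit 13059200) (BT.node (nat_lit 13059136) (BT.leaf (nat_lit 52387845)) (BT.leaf (nat_lit 52320773))) (BT.node (nat_lit 13059264) (BT.leaf (nat_lit 52402205)) (BT.leaf (nat_lit 37380613)))) (BT.node (nat_lit 13059584) (BT.node (nat_lit 13059392) (BT.leaf (nat_lit 51899413)) (BT.leaf (nat_lit 52047881))) (BT.node (nat_lit 13059648) (BT.leaf (nat_lit 37230617)) (BT.leaf (nat_lit 37230621))))))) (BT.node (nat_lit 13060928) (BT.node (nat_lit 13060352) (BT.node (nat_lit 13059968) (BT.node (nat_lit 13059840) (BT.node (nat_lit 13059776) (BT.leaf (nat_lit 51326241)) (BT.leaf (nat_lit 37231641))) (BT.node (nat_lit 13059904) (BT.leaf (nat_lit 37231645)) (BT.leaf (nat_lit 37231893)))) (BT.node (nat_lit 13060096) (BT.node (nat_lit 13060032) (BT.leaf (nat_lit 49930517)) (BT.leaf (nat_lit 49365025))) (BT.node (nat_lit 13060224) (BT.leaf (nat_lit 42475797)) (BT.leaf (nat_lit 52387617))))) (BT.node (nat_lit 13060672) (BT.node (nat_lit 13060544) (BT.node (nat_lit 13060480) (BT.leaf (nat_lit 51764757)) (BT.leaf (nat_lit 37241365))) (BT.node (nat_lit 13060608) (BT.leaf (nat_lit 51194657)) (BT.leaf (nat_lit 37241117)))) (BT.node (nat_lit 13060800) (BT.node (nat_lit 13060736) (BT.leaf (nat_lit 37241113)) (BT.leaf (nat_lit 37242125))) (BT.node (nat_lit 13060864) (BT.leaf (nat_lit 37242377)) (BT.leaf (nat_lit 46539297)))))) (BT.node (nat_lit 13061760) (BT.node (nat_lit 13061248) (BT.node (nat_lit 13061120) (BT.node (nat_lit 13061056) (BT.leaf (nat_lit 51948313)) (BT.leaf (nat_lit 37242893))) (BT.node (nat_lit 13061184) (BT.leaf (nat_lit 52244765)) (BT.leaf (nat_lit 51896853)))) (BT.node (nat_lit 13061376) (BT.node (nat_lit 13061312) (BT.leaf (nat_lit 52284193)) (BT.leaf (nat_lit 37242401))) (BT.node (nat_lit 13061504) (BT.leaf (nat_lit 49888289)) (BT.leaf (nat_lit 37243161))))) (BT.node (nat_lit 13062208) (BT.node (nat_lit 13062016) (BT.node (nat_lit 13061888) (BT.leaf (nat_lit 51896609)) (BT.leaf (nat_lit 52282373))) (BT.node (nat_lit 13062144) (BT.leaf (nat_lit 37244689)) (BT.leaf (nat_lit 37244957)))) (BT.node (nat_lit 13062336) (BT.node (nat_lit 13062272) (BT.leaf (nat_lit 52199197)) (BT.leaf (nat_lit 37245201))) (BT.node (nat_lit 13062528) (BT.leaf (nat_lit 52095753)) (BT.leaf (nat_lit 37246225)))))))) (BT.node (nat_lit 13064960) (BT.node (nat_lit 13063808) (BT.node (nat_lit 13063296) (BT.node (nat_lit 13062848) (BT.node (nat_lit 13062720) (BT.node (nat_lit 13062656) (BT.leaf (nat_lit 37246229)) (BT.leaf (nat_lit 37483541))) (BT.node (nat_lit 13062784) (BT.leaf (nat_lit 37495573)) (BT.leaf (nat_lit 51807501)))) (BT.node (nat_lit 13063040) (BT.node (nat_lit 13062912) (BT.leaf (nat_lit 52249377)) (BT.leaf (nat_lit 37249565))) (BT.node (nat_lit 13063232) (BT.leaf (nat_lit 51906069)) (BT.leaf (nat_lit 51712005))))) (BT.node (nat_lit 13063552) (BT.node (nat_lit 13063424) (BT.node (nat_lit 13063360) (BT.leaf (nat_lit 51765265)) (BT.leaf (nat_lit 37254173))) (BT.node (nat_lit 13063488) (BT.leaf (nat_lit 37254929)) (BT.leaf (nat_lit 37255433)))) (BT.node (nat_lit 13063680) (BT.node (nat_lit 13063616) (BT.leaf (nat_lit 37255437)) (BT.leaf (nat_lit 37256469))) (BT.node (nat_lit 13063744) (BT.leaf (nat_lit 37255453)) (BT.leaf (nat_lit 37255697)))))) (BT.node (nat_lit 13064320) (BT.node (nat_lit 13064064) (BT.node (nat_lit 13063936) (BT.node (nat_lit 13063872) (BT.leaf (nat_lit 37255957)) (BT.leaf (nat_lit 37256209))) (BT.node (nat_lit 13064000) (BT.leaf (nat_lit 37256721)) (BT.leaf (nat_lit 37256477)))) (BT.node (nat_lit 13064192) (BT.node (nat_lit 13064128) (BT.leaf (nat_lit 37256985)) (BT.leaf (nat_lit 37257237))) (BT.node (nat_lit 13064256) (BT.leaf (nat_lit 37258513)) (BT.leaf (nat_lit 37258773))))) (BT.node (nat_lit 13064576) (BT.node (nat_lit 13064448) (BT.node (nat_lit 13064384) (BT.leaf (nat_lit 52175637)) (BT.leaf (nat_lit 49967893))) (BT.node (nat_lit 13064512) (BT.leaf (nat_lit 37260313)) (BT.leaf (nat_lit 51839521)))) (BT.node (nat_lit 13064704) (BT.node (nat_lit 13064640) (BT.leaf (nat_lit 37260561)) (BT.leaf (nat_lit 51394077))) (BT.node (nat_lit 13064832) (BT.leaf (nat_lit 52123681)) (BT.leaf (nat_lit 51655713))))))) (BT.node (nat_lit 13066368) (BT.node (nat_lit 13065792) (BT.node (nat_lit 13065408) (BT.node (nat_lit 13065088) (BT.node (nat_lit 13065024) (BT.leaf (nat_lit 37263641)) (BT.leaf (nat_lit 48861217))) (BT.node (nat_lit 13065152) (BT.leaf (nat_lit 37264145)) (BT.leaf (nat_lit 52278041)))) (BT.node (nat_lit 13065664) (BT.node (nat_lit 13065472) (BT.leaf (nat_lit 37265177)) (BT.leaf (nat_lit 51806493))) (BT.node (nat_lit 13065728) (BT.leaf (nat_lit 52161557)) (BT.leaf (nat_lit 37267225))))) (BT.node (nat_lit 13066112) (BT.node (nat_lit 13065984) (BT.node (nat_lit 13065920) (BT.leaf (nat_lit 37338401)) (BT.leaf (nat_lit 51906581))) (BT.node (nat_lit 13066048) (BT.leaf (nat_lit 52437777)) (BT.leaf (nat_lit 52263945)))) (BT.node (nat_lit 13066240) (BT.node (nat_lit 13066176) (BT.leaf (nat_lit 52264717)) (BT.leaf (nat_lit 51805213))) (BT.node (nat_lit 13066304) (BT.leaf (nat_lit 51805193)) (BT.leaf (nat_lit 52264985)))))) (BT.node (nat_lit 13067200) (BT.node (nat_lit 13066880) (BT.node (nat_lit 13066688) (BT.node (nat_lit 13066624) (BT.leaf (nat_lit 37270037)) (BT.leaf (nat_lit 37271073))) (BT.node (nat_lit 13066752) (BT.leaf (nat_lit 52282393)) (BT.leaf (nat_lit 51856649)))) (BT.node (nat_lit 13067008) (BT.node (nat_lit 13066944) (BT.leaf (nat_lit 52260641)) (BT.leaf (nat_lit 52275741))) (BT.node (nat_lit 13067072) (BT.leaf (nat_lit 51225361)) (BT.leaf (nat_lit 52268553))))) (BT.node (nat_lit 13067456) (BT.node (nat_lit 13067328) (BT.node (nat_lit 13067264) (BT.leaf (nat_lit 48861209)) (BT.leaf (nat_lit 37276433))) (BT.node (nat_lit 13067392) (BT.leaf (nat_lit 47170833)) (BT.leaf (nat_lit 37277209)))) (BT.node (nat_lit 13067584) (BT.node (nat_lit 13067520) (BT.leaf (nat_lit 37277197)) (BT.leaf (nat_lit 37277217))) (BT.node (nat_lit 13067648) (BT.leaf (nat_lit 37277473)) (BT.leaf (nat_lit 52115745)))))))))) (BT.node (nat_lit 13078528) (BT.node (nat_lit 13073600) (BT.node (nat_lit 13070528) (BT.node (nat_lit 13069120) (BT.node (nat_lit 13068416) (BT.node (nat_lit 13068160) (BT.node (nat_lit 13067968) (BT.node (nat_lit 13067840) (BT.leaf (nat_lit 37279509)) (BT.leaf (nat_lit 37279761))) (BT.node (nat_lit 13068096) (BT.leaf (nat_lit 37280017)) (BT.leaf (nat_lit 52406561)))) (BT.node (nat_lit 13068288) (BT.node (nat_lit 13068224) (BT.leaf (nat_lit 37282577)) (BT.leaf (nat_lit 37282593))) (BT.node (nat_lit 13068352) (BT.leaf (nat_lit 37282845)) (BT.leaf (nat_lit 52181009))))) (BT.node (nat_lit 13068672) (BT.node (nat_lit 13068544) (BT.node (nat_lit 13068480) (BT.leaf (nat_lit 37283861)) (BT.leaf (nat_lit 37284129))) (BT.node (nat_lit 13068608) (BT.leaf (nat_lit 50335501)) (BT.leaf (nat_lit 37285393)))) (BT.node (nat_lit 13068928) (BT.node (nat_lit 13068800) (BT.leaf (nat_lit 37293601)) (BT.leaf (nat_lit 37288977))) (BT.node (nat_lit 13069056) (BT.leaf (nat_lit 37303565)) (BT.leaf (nat_lit 37303581)))))) (BT.node (nat_lit 13069824) (BT.node (nat_lit 13069504) (BT.node (nat_lit 13069248) (BT.node (nat_lit 13069184) (BT.leaf (nat_lit 52305181)) (BT.leaf (nat_lit 52400409))) (BT.node (nat_lit 13069376) (BT.leaf (nat_lit 37290769)) (BT.leaf (nat_lit 51193093)))) (BT.node (nat_lit 13069696) (BT.node (nat_lit 13069568) (BT.leaf (nat_lit 37291797)) (BT.leaf (nat_lit 37292053))) (BT.node (nat_lit 13069760) (BT.leaf (nat_lit 37342749)) (BT.leaf (nat_lit 37328153))))) (BT.node (nat_lit 13070208) (BT.node (nat_lit 13070016) (BT.node (nat_lit 13069888) (BT.leaf (nat_lit 37401377)) (BT.leaf (nat_lit 52325381))) (BT.node (nat_lit 13070144) (BT.leaf (nat_lit 37298949)) (BT.leaf (nat_lit 51881497)))) (BT.node (nat_lit 13070400) (BT.node (nat_lit 13070336) (BT.leaf (nat_lit 37297681)) (BT.leaf (nat_lit 46426657))) (BT.node (nat_lit 13070464) (BT.leaf (nat_lit 37298449)) (BT.leaf (nat_lit 37298705))))))) (BT.node (nat_lit 13072320) (BT.node (nat_lit 13071232) (BT.node (nat_lit 13070784) (BT.node (nat_lit 13070656) (BT.node (nat_lit 13070592) (BT.leaf (nat_lit 52268573)) (BT.leaf (nat_lit 37298961))) (BT.node (nat_lit 13070720) (BT.leaf (nat_lit 37299217)) (BT.leaf (nat_lit 37299985)))) (BT.node (nat_lit 13071040) (BT.node (nat_lit 13070976) (BT.leaf (nat_lit 37300497)) (BT.leaf (nat_lit 52269325))) (BT.node (nat_lit 13071168) (BT.leaf (nat_lit 37302293)) (BT.leaf (nat_lit 37305377))))) (BT.node (nat_lit 13071872) (BT.node (nat_lit 13071616) (BT.node (nat_lit 13071552) (BT.leaf (nat_lit 37305633)) (BT.leaf (nat_lit 37309985))) (BT.node (nat_lit 13071808) (BT.leaf (nat_lit 37310225)) (BT.leaf (nat_lit 37586721)))) (BT.node (nat_lit 13072000) (BT.node (nat_lit 13071936) (BT.leaf (nat_lit 52298761)) (BT.leaf (nat_lit 37311249))) (BT.node (nat_lit 13072192) (BT.leaf (nat_lit 37311265)) (BT.leaf (nat_lit 52398341)))))) (BT.node (nat_lit 13072960) (BT.node (nat_lit 13072576) (BT.node (nat_lit 13072448) (BT.node (nat_lit 13072384) (BT.leaf (nat_lit 52267789)) (BT.leaf (nat_lit 37315089))) (BT.node (nat_lit 13072512) (BT.leaf (nat_lit 37315613)) (BT.leaf (nat_lit 37318673)))) (BT.node (nat_lit 13072704) (BT.node (nat_lit 13072640) (BT.leaf (nat_lit 37577757)) (BT.leaf (nat_lit 37320209))) (BT.node (nat_lit 13072832) (BT.leaf (nat_lit 37320225)) (BT.leaf (nat_lit 37569821))))) (BT.node (nat_lit 13073280) (BT.node (nat_lit 13073152) (BT.node (nat_lit 13073024) (BT.leaf (nat_lit 37321741)) (BT.leaf (nat_lit 37578529))) (BT.node (nat_lit 13073216) (BT.leaf (nat_lit 37322017)) (BT.leaf (nat_lit 37322273)))) (BT.node (nat_lit 13073408) (BT.node (nat_lit 13073344) (BT.leaf (nat_lit 37322517)) (BT.leaf (nat_lit 37324065))) (BT.node (nat_lit 13073472) (BT.leaf (nat_lit 37327877)) (BT.leaf (nat_lit 37497121)))))))) (BT.node (nat_lit 13076096) (BT.node (nat_lit 13074816) (BT.node (nat_lit 13074176) (BT.node (nat_lit 13073920) (BT.node (nat_lit 13073792) (BT.node (nat_lit 13073728) (BT.leaf (nat_lit 37326625)) (BT.leaf (nat_lit 37343497))) (BT.node (nat_lit 13073856) (BT.leaf (nat_lit 37328645)) (BT.leaf (nat_lit 52302861)))) (BT.node (nat_lit 13074048) (BT.node (nat_lit 13073984) (BT.leaf (nat_lit 52295449)) (BT.leaf (nat_lit 37328917))) (BT.node (nat_lit 13074112) (BT.leaf (nat_lit 37329177)) (BT.leaf (nat_lit 37329181))))) (BT.node (nat_lit 13074496) (BT.node (nat_lit 13074368) (BT.node (nat_lit 13074240) (BT.leaf (nat_lit 37329941)) (BT.leaf (nat_lit 37330973))) (BT.node (nat_lit 13074432) (BT.leaf (nat_lit 37628165)) (BT.leaf (nat_lit 37334033)))) (BT.node (nat_lit 13074624) (BT.node (nat_lit 13074560) (BT.leaf (nat_lit 37588757)) (BT.leaf (nat_lit 52441877))) (BT.node (nat_lit 13074688) (BT.leaf (nat_lit 51182861)) (BT.leaf (nat_lit 37335573)))))) (BT.node (nat_lit 13075328) (BT.node (nat_lit 13075072) (BT.node (nat_lit 13074944) (BT.node (nat_lit 13074880) (BT.leaf (nat_lit 37335825)) (BT.leaf (nat_lit 40398857))) (BT.node (nat_lit 13075008) (BT.leaf (nat_lit 47492637)) (BT.leaf (nat_lit 52288793)))) (BT.node (nat_lit 13075200) (BT.node (nat_lit 13075136) (BT.leaf (nat_lit 52110597)) (BT.leaf (nat_lit 37339157))) (BT.node (nat_lit 13075264) (BT.leaf (nat_lit 52301853)) (BT.leaf (nat_lit 37340181))))) (BT.node (nat_lit 13075648) (BT.node (nat_lit 13075456) (BT.node (nat_lit 13075392) (BT.leaf (nat_lit 37341213)) (BT.leaf (nat_lit 37341461))) (BT.node (nat_lit 13075584) (BT.leaf (nat_lit 37342229)) (BT.leaf (nat_lit 37343253)))) (BT.node (nat_lit 13075840) (BT.node (nat_lit 13075776) (BT.leaf (nat_lit 37343493)) (BT.leaf (nat_lit 52302873))) (BT.node (nat_lit 13076032) (BT.leaf (nat_lit 37343765)) (BT.leaf (nat_lit 37345041))))))) (BT.node (nat_lit 13077184) (BT.node (nat_lit 13076608) (BT.node (nat_lit 13076352) (BT.node (nat_lit 13076224) (BT.node (nat_lit 13076160) (BT.leaf (nat_lit 37345301)) (BT.leaf (nat_lit 37345305))) (BT.node (nat_lit 13076288) (BT.leaf (nat_lit 37345797)) (BT.leaf (nat_lit 37347089)))) (BT.node (nat_lit 13076480) (BT.node (nat_lit 13076416) (BT.leaf (nat_lit 37347605)) (BT.leaf (nat_lit 37348113))) (BT.node (nat_lit 13076544) (BT.leaf (nat_lit 37348377)) (BT.leaf (nat_lit 50220569))))) (BT.node (nat_lit 13076864) (BT.node (nat_lit 13076736) (BT.node (nat_lit 13076672) (BT.leaf (nat_lit 51341341)) (BT.leaf (nat_lit 37349141))) (BT.node (nat_lit 13076800) (BT.leaf (nat_lit 37349385)) (BT.leaf (nat_lit 37349649)))) (BT.node (nat_lit 13076992) (BT.node (nat_lit 13076928) (BT.leaf (nat_lit 37349897)) (BT.leaf (nat_lit 37350421))) (BT.node (nat_lit 13077056) (BT.leaf (nat_lit 37350161)) (BT.leaf (nat_lit 37350165)))))) (BT.node (nat_lit 13077696) (BT.node (nat_lit 13077440) (BT.node (nat_lit 13077312) (BT.node (nat_lit 13077248) (BT.leaf (nat_lit 50887689)) (BT.leaf (nat_lit 49665301))) (BT.node (nat_lit 13077376) (BT.leaf (nat_lit 52309017)) (BT.leaf (nat_lit 37351185)))) (BT.node (nat_lit 13077568) (BT.node (nat_lit 13077504) (BT.leaf (nat_lit 37351957)) (BT.leaf (nat_lit 51769093))) (BT.node (nat_lit 13077632) (BT.leaf (nat_lit 37600033)) (BT.leaf (nat_lit 37352465))))) (BT.node (nat_lit 13078080) (BT.node (nat_lit 13077824) (BT.node (nat_lit 13077760) (BT.leaf (nat_lit 37597713)) (BT.leaf (nat_lit 51781133))) (BT.node (nat_lit 13078016) (BT.leaf (nat_lit 51384853)) (BT.leaf (nat_lit 37353489)))) (BT.node (nat_lit 13078400) (BT.node (nat_lit 13078336) (BT.leaf (nat_lit 52269857)) (BT.leaf (nat_lit 51360517))) (BT.node (nat_lit 13078464) (BT.leaf (nat_lit 46434069)) (BT.leaf (nat_lit 37355805))))))))) (BT.node (nat_lit 13083520) (BT.node (nat_lit 13080896) (BT.node (nat_lit 13079616) (BT.node (nat_lit 13079104) (BT.node (nat_lit 13078848) (BT.node (nat_lit 13078720) (BT.node (nat_lit 13078656) (BT.leaf (nat_lit 37356049)) (BT.leaf (nat_lit 52113689))) (BT.node (nat_lit 13078784) (BT.leaf (nat_lit 37357593)) (BT.leaf (nat_lit 37357841)))) (BT.node (nat_lit 13078976) (BT.node (nat_lit 13078912) (BT.leaf (nat_lit 37358105)) (BT.leaf (nat_lit 52276501))) (BT.node (nat_lit 13079040) (BT.leaf (nat_lit 52279317)) (BT.leaf (nat_lit 37663777))))) (BT.node (nat_lit 13079360) (BT.node (nat_lit 13079232) (BT.node (nat_lit 13079168) (BT.leaf (nat_lit 37361177)) (BT.leaf (nat_lit 37361181))) (BT.node (nat_lit 13079296) (BT.leaf (nat_lit 51760409)) (BT.leaf (nat_lit 51802885)))) (BT.node (nat_lit 13079488) (BT.node (nat_lit 13079424) (BT.leaf (nat_lit 37365277)) (BT.leaf (nat_lit 37366557))) (BT.node (nat_lit 13079552) (BT.leaf (nat_lit 37368093)) (BT.leaf (nat_lit 37369105)))))) (BT.node (nat_lit 13080128) (BT.node (nat_lit 13079872) (BT.node (nat_lit 13079744) (BT.node (nat_lit 13079680) (BT.leaf (nat_lit 52436257)) (BT.leaf (nat_lit 37369369))) (BT.node (nat_lit 13079808) (BT.leaf (nat_lit 48834821)) (BT.leaf (nat_lit 37369877)))) (BT.node (nat_lit 13080000) (BT.node (nat_lit 13079936) (BT.leaf (nat_lit 37369881)) (BT.leaf (nat_lit 37370385))) (BT.node (nat_lit 13080064) (BT.leaf (nat_lit 37371413)) (BT.leaf (nat_lit 52435221))))) (BT.node (nat_lit 13080384) (BT.node (nat_lit 13080256) (BT.node (nat_lit 13080192) (BT.leaf (nat_lit 37451269)) (BT.leaf (nat_lit 51932937))) (BT.node (nat_lit 13080320) (BT.leaf (nat_lit 37373701)) (BT.leaf (nat_lit 37374225)))) (BT.node (nat_lit 13080704) (BT.node (nat_lit 13080512) (BT.leaf (nat_lit 37374469)) (BT.leaf (nat_lit 51977505))) (BT.node (nat_lit 13080768) (BT.leaf (nat_lit 37376521)) (BT.leaf (nat_lit 37502741))))))) (BT.node (nat_lit 13082368) (BT.node (nat_lit 13081536) (BT.node (nat_lit 13081280) (BT.node (nat_lit 13081024) (BT.node (nat_lit 13080960) (BT.leaf (nat_lit 37376277)) (BT.leaf (nat_lit 52272389))) (BT.node (nat_lit 13081088) (BT.leaf (nat_lit 37376529)) (BT.leaf (nat_lit 37532705)))) (BT.node (nat_lit 13081408) (BT.node (nat_lit 13081344) (BT.leaf (nat_lit 51606293)) (BT.leaf (nat_lit 37543953))) (BT.node (nat_lit 13081472) (BT.leaf (nat_lit 51163153)) (BT.leaf (nat_lit 52363281))))) (BT.node (nat_lit 13082048) (BT.node (nat_lit 13081856) (BT.node (nat_lit 13081600) (BT.leaf (nat_lit 37380869)) (BT.leaf (nat_lit 52418821))) (BT.node (nat_lit 13081858) (BT.leaf (nat_lit 37547525)) (BT.leaf (nat_lit 819252)))) (BT.node (nat_lit 13082240) (BT.node (nat_lit 13082176) (BT.leaf (nat_lit 50734605)) (BT.leaf (nat_lit 37384725))) (BT.node (nat_lit 13082304) (BT.leaf (nat_lit 50667285)) (BT.leaf (nat_lit 37385493)))))) (BT.node (nat_lit 13083008) (BT.node (nat_lit 13082688) (BT.node (nat_lit 13082496) (BT.node (nat_lit 13082432) (BT.leaf (nat_lit 51010589)) (BT.leaf (nat_lit 37385497))) (BT.node (nat_lit 13082624) (BT.leaf (nat_lit 37385501)) (BT.leaf (nat_lit 51738637)))) (BT.node (nat_lit 13082816) (BT.node (nat_lit 13082752) (BT.leaf (nat_lit 49798153)) (BT.leaf (nat_lit 43339805))) (BT.node (nat_lit 13082880) (BT.leaf (nat_lit 52236297)) (BT.leaf (nat_lit 52343569))))) (BT.node (nat_lit 13083264) (BT.node (nat_lit 13083136) (BT.node (nat_lit 13083072) (BT.leaf (nat_lit 37520417)) (BT.leaf (nat_lit 37387549))) (BT.node (nat_lit 13083200) (BT.leaf (nat_lit 37388825)) (BT.leaf (nat_lit 51199253)))) (BT.node (nat_lit 13083392) (BT.node (nat_lit 13083328) (BT.leaf (nat_lit 37389837)) (BT.leaf (nat_lit 52097557))) (BT.node (nat_lit 13083456) (BT.leaf (nat_lit 51132169)) (BT.leaf (nat_lit 49273097)))))))) (BT.node (nat_lit 13085888) (BT.node (nat_lit 13084800) (BT.node (nat_lit 13084096) (BT.node (nat_lit 13083776) (BT.node (nat_lit 13083648) (BT.node (nat_lit 13083584) (BT.leaf (nat_lit 50914837)) (BT.leaf (nat_lit 48295449))) (BT.node (nat_lit 13083712) (BT.leaf (nat_lit 46811413)) (BT.leaf (nat_lit 37391385)))) (BT.node (nat_lit 13083968) (BT.node (nat_lit 13083904) (BT.leaf (nat_lit 37391389)) (BT.leaf (nat_lit 50581257))) (BT.node (nat_lit 13084032) (BT.leaf (nat_lit 50632725)) (BT.leaf (nat_lit 46970117))))) (BT.node (nat_lit 13084544) (BT.node (nat_lit 13084224) (BT.node (nat_lit 13084160) (BT.leaf (nat_lit 37395217)) (BT.leaf (nat_lit 52270357))) (BT.node (nat_lit 13084480) (BT.leaf (nat_lit 52424213)) (BT.leaf (nat_lit 52384789)))) (BT.node (nat_lit 13084672) (BT.node (nat_lit 13084608) (BT.leaf (nat_lit 51384597)) (BT.leaf (nat_lit 52030241))) (BT.node (nat_lit 13084736) (BT.leaf (nat_lit 52029985)) (BT.leaf (nat_lit 52094469)))))) (BT.node (nat_lit 13085376) (BT.node (nat_lit 13085120) (BT.node (nat_lit 13084992) (BT.node (nat_lit 13084864) (BT.leaf (nat_lit 37399069)) (BT.leaf (nat_lit 46357521))) (BT.node (nat_lit 13085056) (BT.leaf (nat_lit 37401365)) (BT.leaf (nat_lit 47002901)))) (BT.node (nat_lit 13085248) (BT.node (nat_lit 13085184) (BT.leaf (nat_lit 37402645)) (BT.leaf (nat_lit 52380957))) (BT.node (nat_lit 13085312) (BT.leaf (nat_lit 52381457)) (BT.leaf (nat_lit 37404177))))) (BT.node (nat_lit 13085632) (BT.node (nat_lit 13085504) (BT.node (nat_lit 13085440) (BT.leaf (nat_lit 37404689)) (BT.leaf (nat_lit 37404445))) (BT.node (nat_lit 13085568) (BT.leaf (nat_lit 37405713)) (BT.leaf (nat_lit 48995609)))) (BT.node (nat_lit 13085760) (BT.node (nat_lit 13085696) (BT.leaf (nat_lit 37406737)) (BT.leaf (nat_lit 37407769))) (BT.node (nat_lit 13085824) (BT.leaf (nat_lit 37407773)) (BT.leaf (nat_lit 37411609))))))) (BT.node (nat_lit 13087168) (BT.node (nat_lit 13086528) (BT.node (nat_lit 13086144) (BT.node (nat_lit 13086016) (BT.node (nat_lit 13085952) (BT.leaf (nat_lit 52439317)) (BT.leaf (nat_lit 52331553))) (BT.node (nat_lit 13086080) (BT.leaf (nat_lit 52343565)) (BT.leaf (nat_lit 37412877)))) (BT.node (nat_lit 13086336) (BT.node (nat_lit 13086272) (BT.leaf (nat_lit 52292629)) (BT.leaf (nat_lit 51446545))) (BT.node (nat_lit 13086400) (BT.leaf (nat_lit 52406285)) (BT.leaf (nat_lit 51824901))))) (BT.node (nat_lit 13086912) (BT.node (nat_lit 13086784) (BT.node (nat_lit 13086656) (BT.leaf (nat_lit 50093601)) (BT.leaf (nat_lit 52351501))) (BT.node (nat_lit 13086848) (BT.leaf (nat_lit 52280097)) (BT.leaf (nat_lit 37616921)))) (BT.node (nat_lit 13087040) (BT.node (nat_lit 13086976) (BT.leaf (nat_lit 37415185)) (BT.leaf (nat_lit 52247585))) (BT.node (nat_lit 13087104) (BT.leaf (nat_lit 52160545)) (BT.leaf (nat_lit 37416209)))))) (BT.node (nat_lit 13087872) (BT.node (nat_lit 13087552) (BT.node (nat_lit 13087424) (BT.node (nat_lit 13087232) (BT.leaf (nat_lit 37417489)) (BT.leaf (nat_lit 37418249))) (BT.node (nat_lit 13087488) (BT.leaf (nat_lit 46859553)) (BT.leaf (nat_lit 52091665)))) (BT.node (nat_lit 13087680) (BT.node (nat_lit 13087616) (BT.leaf (nat_lit 52349977)) (BT.leaf (nat_lit 51221025))) (BT.node (nat_lit 13087744) (BT.leaf (nat_lit 50600469)) (BT.leaf (nat_lit 50600473))))) (BT.node (nat_lit 13088128) (BT.node (nat_lit 13088000) (BT.node (nat_lit 13087936) (BT.leaf (nat_lit 51979797)) (BT.leaf (nat_lit 37419281))) (BT.node (nat_lit 13088064) (BT.leaf (nat_lit 50747925)) (BT.leaf (nat_lit 52367621)))) (BT.node (nat_lit 13088256) (BT.node (nat_lit 13088192) (BT.leaf (nat_lit 39254817)) (BT.leaf (nat_lit 37420061))) (BT.node (nat_lit 13088320) (BT.leaf (nat_lit 39187733)) (BT.leaf (nat_lit 37422857)))))))))))))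
noncomputable def big0_e129024 : BT Nat := (BT.node (nat_lit 13100608) (BT.node (nat_lit 13094528) (BT.node (nat_lit 13091904) (BT.node (nat_lit 13090176) (BT.node (nat_lit 13089280) (BT.node (nat_lit 13088640) (BT.node (nat_lit 13088512) (BT.node (nat_lit 13088448) (BT.leaf (nat_lit 37422861)) (BT.leaf (nat_lit 37422865))) (BT.node (nat_lit 13088576) (BT.leaf (nat_lit 37422873)) (BT.leaf (nat_lit 37422877)))) (BT.node (nat_lit 13088768) (BT.node (nat_lit 13088704) (BT.leaf (nat_lit 37423125)) (BT.leaf (nat_lit 37455901))) (BT.node (nat_lit 13088896) (BT.leaf (nat_lit 37423641)) (BT.node (nat_lit 13088960) (BT.leaf (nat_lit 50672397)) (BT.leaf (nat_lit 37547297)))))) (BT.node (nat_lit 13089664) (BT.node (nat_lit 13089408) (BT.node (nat_lit 13089344) (BT.leaf (nat_lit 52357405)) (BT.leaf (nat_lit 52397589))) (BT.node (nat_lit 13089536) (BT.leaf (nat_lit 52044045)) (BT.node (nat_lit 13089600) (BT.leaf (nat_lit 52382753)) (BT.leaf (nat_lit 52382733))))) (BT.node (nat_lit 13089984)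 (BT.node (nat_lit 13089792) (BT.leaf (nat_lit 52032801)) (BT.leaf (nat_lit 51763489))) (BT.node (nat_lit 13090048) (BT.leaf (nat_lit 52416541)) (BT.node (nat_lit 13090112) (BT.leaf (nat_lit 37521173)) (BT.leaf (nat_lit 37431317))))))) (BT.node (nat_lit 13090816) (BT.node (nat_lit 13090432) (BT.node (nat_lit 13090304) (BT.node (nat_lit 13090240) (BT.leaf (nat_lit 37431825)) (BT.leaf (nat_lit 37432093))) (BT.node (nat_lit 13090368) (BT.leaf (nat_lit 37433105)) (BT.leaf (nat_lit 43964933)))) (BT.node (nat_lit 13090560) (BT.node (nat_lit 13090496) (BT.leaf (nat_lit 37434393)) (BT.leaf (nat_lit 37434909))) (BT.node (nat_lit 13090688) (BT.leaf (nat_lit 37435925)) (BT.node (nat_lit 13090752) (BT.leaf (nat_lit 37435425)) (BT.leaf (nat_lit 51943689)))))) (BT.node (nat_lit 13091456) (BT.node (nat_lit 13090944) (BT.node (nat_lit 13090880) (BT.leaf (nat_lit 52429081)) (BT.leaf (nat_lit 52397845))) (BT.node (nat_lit 13091136) (BT.leaf (nat_lit 52363545)) (BT.node (nat_lit 13091200) (BT.leaf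 (nat_lit 52111137)) (BT.leaf (nat_lit 37438229))))) (BT.node (nat_lit 13091584) (BT.node (nat_lit 13091520) (BT.leaf (nat_lit 52057101)) (BT.leaf (nat_lit 50594073))) (BT.node (nat_lit 13091648) (BT.leaf (nat_lit 50594077)) (BT.node (nat_lit 13091776) (BT.leaf (nat_lit 52309793)) (BT.leaf (nat_lit 52309773)))))))) (BT.node (nat_lit 13093184) (BT.node (nat_lit 13092544) (BT.node (nat_lit 13092224) (BT.node (nat_lit 13092032) (BT.node (nat_lit 13091968) (BT.leaf (nat_lit 37440273)) (BT.leaf (nat_lit 51686433))) (BT.node (nat_lit 13092096) (BT.leaf (nat_lit 52416517)) (BT.leaf (nat_lit 37443341)))) (BT.node (nat_lit 13092352) (BT.node (nat_lit 13092288) (BT.leaf (nat_lit 51263757)) (BT.leaf (nat_lit 37443865))) (BT.node (nat_lit 13092416) (BT.leaf (nat_lit 52240389)) (BT.node (nat_lit 13092480) (BT.leaf (nat_lit 49273101)) (BT.leaf (nat_lit 39672581)))))) (BT.node (nat_lit 13092864) (BT.node (nat_lit 13092672) (BT.node (nat_lit 13092608) (BT.leaf (nat_lit 37444381)) (BT.leaf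 (nat_lit 37445657))) (BT.node (nat_lit 13092736) (BT.leaf (nat_lit 47322401)) (BT.node (nat_lit 13092800) (BT.leaf (nat_lit 46469141)) (BT.leaf (nat_lit 51484181))))) (BT.node (nat_lit 13092992) (BT.node (nat_lit 13092928) (BT.leaf (nat_lit 52371213)) (BT.leaf (nat_lit 37447197))) (BT.node (nat_lit 13093056) (BT.leaf (nat_lit 52059421)) (BT.node (nat_lit 13093120) (BT.leaf (nat_lit 37447697)) (BT.leaf (nat_lit 37553169))))))) (BT.node (nat_lit 13093888) (BT.node (nat_lit 13093504) (BT.node (nat_lit 13093312) (BT.node (nat_lit 13093248) (BT.leaf (nat_lit 37447961)) (BT.leaf (nat_lit 37447965))) (BT.node (nat_lit 13093376) (BT.leaf (nat_lit 37448473)) (BT.node (nat_lit 13093440) (BT.leaf (nat_lit 37448477)) (BT.leaf (nat_lit 50149401))))) (BT.node (nat_lit 13093632) (BT.node (nat_lit 13093568) (BT.leaf (nat_lit 51798533)) (BT.leaf (nat_lit 51798277))) (BT.node (nat_lit 13093696) (BT.leaf (nat_lit 51940893)) (BT.node (nat_lit 13093824) (BT.leaf (nat_lit 37619481)) (BT.leaf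 (nat_lit 37451025)))))) (BT.node (nat_lit 13094208) (BT.node (nat_lit 13094016) (BT.node (nat_lit 13093952) (BT.leaf (nat_lit 52291333)) (BT.leaf (nat_lit 37451041))) (BT.node (nat_lit 13094080) (BT.leaf (nat_lit 46792709)) (BT.node (nat_lit 13094144) (BT.leaf (nat_lit 37452821)) (BT.leaf (nat_lit 45773829))))) (BT.node (nat_lit 13094336) (BT.node (nat_lit 13094272) (BT.leaf (nat_lit 37453333)) (BT.leaf (nat_lit 37453337))) (BT.node (nat_lit 13094400) (BT.leaf (nat_lit 51919377)) (BT.node (nat_lit 13094464) (BT.leaf (nat_lit 37453849)) (BT.leaf (nat_lit 37453853))))))))) (BT.node (nat_lit 13097792) (BT.node (nat_lit 13095936) (BT.node (nat_lit 13095104) (BT.node (nat_lit 13094784) (BT.node (nat_lit 13094656) (BT.node (nat_lit 13094592) (BT.leaf (nat_lit 37454089)) (BT.leaf (nat_lit 37454105))) (BT.node (nat_lit 13094720) (BT.leaf (nat_lit 37454357)) (BT.leaf (nat_lit 37454609)))) (BT.node (nat_lit 13094912) (BT.node (nat_lit 13094848) (BT.leaf (nat_lit 37455129)) (BT.leaf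 (nat_lit 37455381))) (BT.node (nat_lit 13094976) (BT.leaf (nat_lit 37456401)) (BT.node (nat_lit 13095040) (BT.leaf (nat_lit 37457433)) (BT.leaf (nat_lit 37458449)))))) (BT.node (nat_lit 13095616) (BT.node (nat_lit 13095232) (BT.node (nat_lit 13095168) (BT.leaf (nat_lit 37458961)) (BT.leaf (nat_lit 51634197))) (BT.node (nat_lit 13095360) (BT.leaf (nat_lit 37460497)) (BT.node (nat_lit 13095424) (BT.leaf (nat_lit 52340741)) (BT.leaf (nat_lit 51825441))))) (BT.node (nat_lit 13095744) (BT.node (nat_lit 13095680) (BT.leaf (nat_lit 51144969)) (BT.leaf (nat_lit 37462549))) (BT.node (nat_lit 13095808) (BT.leaf (nat_lit 37462805)) (BT.node (nat_lit 13095872) (BT.leaf (nat_lit 51268869)) (BT.leaf (nat_lit 52326417))))))) (BT.node (nat_lit 13097024) (BT.node (nat_lit 13096384) (BT.node (nat_lit 13096256) (BT.node (nat_lit 13096192) (BT.leaf (nat_lit 52325917)) (BT.leaf (nat_lit 37464353))) (BT.node (nat_lit 13096320) (BT.leaf (nat_lit 37465373)) (BT.leaf (nat_lit 37464609)))) (BT.node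 (nat_lit 13096832) (BT.node (nat_lit 13096640) (BT.leaf (nat_lit 37465353)) (BT.leaf (nat_lit 52263941))) (BT.node (nat_lit 13096896) (BT.leaf (nat_lit 51813397)) (BT.node (nat_lit 13096960) (BT.leaf (nat_lit 37466901)) (BT.leaf (nat_lit 51780893)))))) (BT.node (nat_lit 13097344) (BT.node (nat_lit 13097152) (BT.node (nat_lit 13097088) (BT.leaf (nat_lit 51225629)) (BT.leaf (nat_lit 37468433))) (BT.node (nat_lit 13097216) (BT.leaf (nat_lit 37470233)) (BT.node (nat_lit 13097280) (BT.leaf (nat_lit 48875533)) (BT.leaf (nat_lit 37471513))))) (BT.node (nat_lit 13097472) (BT.node (nat_lit 13097408) (BT.leaf (nat_lit 50499609)) (BT.leaf (nat_lit 46544657))) (BT.node (nat_lit 13097600) (BT.leaf (nat_lit 37474829)) (BT.node (nat_lit 13097728) (BT.leaf (nat_lit 37474825)) (BT.leaf (nat_lit 46805281)))))))) (BT.node (nat_lit 13099264) (BT.node (nat_lit 13098496) (BT.node (nat_lit 13098048) (BT.node (nat_lit 13097920) (BT.node (nat_lit 13097856) (BT.leaf (nat_lit 48491297)) (BT.leaf (nat_lit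 37476377))) (BT.node (nat_lit 13097984) (BT.leaf (nat_lit 51512069)) (BT.leaf (nat_lit 37476629)))) (BT.node (nat_lit 13098304) (BT.node (nat_lit 13098176) (BT.leaf (nat_lit 52065037)) (BT.leaf (nat_lit 52065289))) (BT.node (nat_lit 13098368) (BT.leaf (nat_lit 51776277)) (BT.node (nat_lit 13098432) (BT.leaf (nat_lit 52393757)) (BT.leaf (nat_lit 52270101)))))) (BT.node (nat_lit 13098880) (BT.node (nat_lit 13098624) (BT.node (nat_lit 13098560) (BT.leaf (nat_lit 37479185)) (BT.leaf (nat_lit 52269601))) (BT.node (nat_lit 13098688) (BT.leaf (nat_lit 37481489)) (BT.node (nat_lit 13098752) (BT.leaf (nat_lit 52395021)) (BT.leaf (nat_lit 52271133))))) (BT.node (nat_lit 13099072) (BT.node (nat_lit 13098944) (BT.leaf (nat_lit 51762437)) (BT.leaf (nat_lit 52281861))) (BT.node (nat_lit 13099136) (BT.leaf (nat_lit 52359941)) (BT.node (nat_lit 13099200) (BT.leaf (nat_lit 51212301)) (BT.leaf (nat_lit 52383001))))))) (BT.node (nat_lit 13099968) (BT.node (nat_lit 13099584) (BT.node (nat_lit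 13099392) (BT.node (nat_lit 13099328) (BT.leaf (nat_lit 52358421)) (BT.leaf (nat_lit 52382989))) (BT.node (nat_lit 13099456) (BT.leaf (nat_lit 37485345)) (BT.node (nat_lit 13099520) (BT.leaf (nat_lit 37486881)) (BT.leaf (nat_lit 37488161))))) (BT.node (nat_lit 13099776) (BT.node (nat_lit 13099712) (BT.leaf (nat_lit 37488929)) (BT.leaf (nat_lit 37490961))) (BT.node (nat_lit 13099840) (BT.leaf (nat_lit 37492753)) (BT.node (nat_lit 13099904) (BT.leaf (nat_lit 51900181)) (BT.leaf (nat_lit 51900185)))))) (BT.node (nat_lit 13100288) (BT.node (nat_lit 13100096) (BT.node (nat_lit 13100032) (BT.leaf (nat_lit 37503497)) (BT.leaf (nat_lit 52295685))) (BT.node (nat_lit 13100160) (BT.leaf (nat_lit 37497621)) (BT.node (nat_lit 13100224) (BT.leaf (nat_lit 37498117)) (BT.leaf (nat_lit 51901189))))) (BT.node (nat_lit 13100416) (BT.node (nat_lit 13100352) (BT.leaf (nat_lit 52115473)) (BT.leaf (nat_lit 51900953))) (BT.node (nat_lit 13100480) (BT.leaf (nat_lit 51900957)) (BT.node (nat_lit 13100544)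 (BT.leaf (nat_lit 37499157)) (BT.leaf (nat_lit 37499669)))))))))) (BT.node (nat_lit 13105856) (BT.node (nat_lit 13103232) (BT.node (nat_lit 13101888) (BT.node (nat_lit 13101248) (BT.node (nat_lit 13100864) (BT.node (nat_lit 13100736) (BT.node (nat_lit 13100672) (BT.leaf (nat_lit 37499921)) (BT.leaf (nat_lit 37500177))) (BT.node (nat_lit 13100800) (BT.leaf (nat_lit 37500437)) (BT.leaf (nat_lit 37500697)))) (BT.node (nat_lit 13101056) (BT.node (nat_lit 13100992) (BT.leaf (nat_lit 37500701)) (BT.leaf (nat_lit 37501969))) (BT.node (nat_lit 13101120) (BT.leaf (nat_lit 37501981)) (BT.node (nat_lit 13101184) (BT.leaf (nat_lit 51904773)) (BT.leaf (nat_lit 37503493)))))) (BT.node (nat_lit 13101568) (BT.node (nat_lit 13101376) (BT.node (nat_lit 13101312) (BT.leaf (nat_lit 52303109)) (BT.leaf (nat_lit 40667149))) (BT.node (nat_lit 13101440) (BT.leaf (nat_lit 52296981)) (BT.node (nat_lit 13101504) (BT.leaf (nat_lit 37506833)) (BT.leaf (nat_lit 37510173))))) (BT.node (nat_lit 13101696)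 (BT.node (nat_lit 13101632) (BT.leaf (nat_lit 51895317)) (BT.leaf (nat_lit 51704853))) (BT.node (nat_lit 13101760) (BT.leaf (nat_lit 37675273)) (BT.node (nat_lit 13101824) (BT.leaf (nat_lit 37509657)) (BT.leaf (nat_lit 52300569))))))) (BT.node (nat_lit 13102464) (BT.node (nat_lit 13102144) (BT.node (nat_lit 13102016) (BT.node (nat_lit 13101952) (BT.leaf (nat_lit 49961749)) (BT.leaf (nat_lit 49961757))) (BT.node (nat_lit 13102080) (BT.leaf (nat_lit 37515537)) (BT.leaf (nat_lit 50106633)))) (BT.node (nat_lit 13102272) (BT.node (nat_lit 13102208) (BT.leaf (nat_lit 46926853)) (BT.leaf (nat_lit 51747601))) (BT.node (nat_lit 13102336) (BT.leaf (nat_lit 47799053)) (BT.node (nat_lit 13102400) (BT.leaf (nat_lit 37519633)) (BT.leaf (nat_lit 52343833)))))) (BT.node (nat_lit 13102784) (BT.node (nat_lit 13102592) (BT.node (nat_lit 13102528) (BT.leaf (nat_lit 37521161)) (BT.leaf (nat_lit 37521177))) (BT.node (nat_lit 13102656) (BT.leaf (nat_lit 37521181)) (BT.node (nat_lit 13102720) (BT.leaf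 (nat_lit 45547553)) (BT.leaf (nat_lit 50860577))))) (BT.node (nat_lit 13102912) (BT.node (nat_lit 13102848) (BT.leaf (nat_lit 45139489)) (BT.leaf (nat_lit 43373089))) (BT.node (nat_lit 13102976) (BT.leaf (nat_lit 50860833)) (BT.node (nat_lit 13103040) (BT.leaf (nat_lit 37522701)) (BT.leaf (nat_lit 37522713)))))))) (BT.node (nat_lit 13104576) (BT.node (nat_lit 13103936) (BT.node (nat_lit 13103552) (BT.node (nat_lit 13103424) (BT.node (nat_lit 13103296) (BT.leaf (nat_lit 37524493)) (BT.leaf (nat_lit 51455001))) (BT.node (nat_lit 13103488) (BT.leaf (nat_lit 37524505)) (BT.leaf (nat_lit 51510293)))) (BT.node (nat_lit 13103680) (BT.node (nat_lit 13103616) (BT.leaf (nat_lit 50362133)) (BT.leaf (nat_lit 51992865))) (BT.node (nat_lit 13103744) (BT.leaf (nat_lit 52131845)) (BT.node (nat_lit 13103808) (BT.leaf (nat_lit 50345733)) (BT.leaf (nat_lit 50345493)))))) (BT.node (nat_lit 13104256) (BT.node (nat_lit 13104064) (BT.node (nat_lit 13104000) (BT.leaf (nat_lit 51511053)) (BT.leaf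 (nat_lit 50345745))) (BT.node (nat_lit 13104128) (BT.leaf (nat_lit 50345761)) (BT.node (nat_lit 13104192) (BT.leaf (nat_lit 37528593)) (BT.leaf (nat_lit 52417797))))) (BT.node (nat_lit 13104384) (BT.node (nat_lit 13104320) (BT.leaf (nat_lit 37529369)) (BT.leaf (nat_lit 37529373))) (BT.node (nat_lit 13104448) (BT.leaf (nat_lit 44275461)) (BT.node (nat_lit 13104512) (BT.leaf (nat_lit 51833889)) (BT.leaf (nat_lit 37530397))))))) (BT.node (nat_lit 13105216) (BT.node (nat_lit 13104896) (BT.node (nat_lit 13104704) (BT.node (nat_lit 13104640) (BT.leaf (nat_lit 37530657)) (BT.leaf (nat_lit 48773129))) (BT.node (nat_lit 13104768) (BT.leaf (nat_lit 52345117)) (BT.node (nat_lit 13104832) (BT.leaf (nat_lit 49938697)) (BT.leaf (nat_lit 37532677))))) (BT.node (nat_lit 13105024) (BT.node (nat_lit 13104960) (BT.leaf (nat_lit 37533465)) (BT.leaf (nat_lit 50523929))) (BT.node (nat_lit 13105088) (BT.leaf (nat_lit 37534229)) (BT.node (nat_lit 13105152) (BT.leaf (nat_lit 37534233)) (BT.leaf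 (nat_lit 37534237)))))) (BT.node (nat_lit 13105536) (BT.node (nat_lit 13105344) (BT.node (nat_lit 13105280) (BT.leaf (nat_lit 52318469)) (BT.leaf (nat_lit 37534489))) (BT.node (nat_lit 13105408) (BT.leaf (nat_lit 37534989)) (BT.node (nat_lit 13105472) (BT.leaf (nat_lit 37535765)) (BT.leaf (nat_lit 37535001))))) (BT.node (nat_lit 13105664) (BT.node (nat_lit 13105600) (BT.leaf (nat_lit 37536529)) (BT.leaf (nat_lit 51789833))) (BT.node (nat_lit 13105728) (BT.leaf (nat_lit 52348445)) (BT.node (nat_lit 13105792) (BT.leaf (nat_lit 47072773)) (BT.leaf (nat_lit 52043553))))))))) (BT.node (nat_lit 13108736) (BT.node (nat_lit 13107264) (BT.node (nat_lit 13106560) (BT.node (nat_lit 13106176) (BT.node (nat_lit 13106048) (BT.node (nat_lit 13105920) (BT.leaf (nat_lit 52044065)) (BT.leaf (nat_lit 37538065))) (BT.node (nat_lit 13106112) (BT.leaf (nat_lit 51824913)) (BT.leaf (nat_lit 37538833)))) (BT.node (nat_lit 13106368) (BT.node (nat_lit 13106304) (BT.leaf (nat_lit 37538849)) (BT.leaf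 (nat_lit 52091925))) (BT.node (nat_lit 13106432) (BT.leaf (nat_lit 39254305)) (BT.node (nat_lit 13106496) (BT.leaf (nat_lit 37539601)) (BT.leaf (nat_lit 37539861)))))) (BT.node (nat_lit 13106880) (BT.node (nat_lit 13106688) (BT.node (nat_lit 13106624) (BT.leaf (nat_lit 37539865)) (BT.leaf (nat_lit 37539869))) (BT.node (nat_lit 13106752) (BT.leaf (nat_lit 52385301)) (BT.node (nat_lit 13106816) (BT.leaf (nat_lit 51927045)) (BT.leaf (nat_lit 37541149))))) (BT.node (nat_lit 13107008) (BT.node (nat_lit 13106944) (BT.leaf (nat_lit 51270165)) (BT.leaf (nat_lit 51271197))) (BT.node (nat_lit 13107072) (BT.leaf (nat_lit 51271177)) (BT.node (nat_lit 13107200) (BT.leaf (nat_lit 46838805)) (BT.leaf (nat_lit 37543197))))))) (BT.node (nat_lit 13108032) (BT.node (nat_lit 13107584) (BT.node (nat_lit 13107392) (BT.node (nat_lit 13107328) (BT.leaf (nat_lit 52293653)) (BT.leaf (nat_lit 37701653))) (BT.node (nat_lit 13107456) (BT.leaf (nat_lit 37544981)) (BT.node (nat_lit 13107520) (BT.leaf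 (nat_lit 37763605)) (BT.leaf (nat_lit 50993697))))) (BT.node (nat_lit 13107840) (BT.node (nat_lit 13107776) (BT.leaf (nat_lit 50993441)) (BT.leaf (nat_lit 37545505))) (BT.node (nat_lit 13107904) (BT.leaf (nat_lit 37546769)) (BT.node (nat_lit 13107968) (BT.leaf (nat_lit 37547281)) (BT.leaf (nat_lit 37569825)))))) (BT.node (nat_lit 13108416) (BT.node (nat_lit 13108224) (BT.node (nat_lit 13108160) (BT.leaf (nat_lit 37547793)) (BT.leaf (nat_lit 52398101))) (BT.node (nat_lit 13108288) (BT.leaf (nat_lit 37618197)) (BT.node (nat_lit 13108352) (BT.leaf (nat_lit 37643529)) (BT.leaf (nat_lit 51862289))))) (BT.node (nat_lit 13108544) (BT.node (nat_lit 13108480) (BT.leaf (nat_lit 37550873)) (BT.leaf (nat_lit 51838733))) (BT.node (nat_lit 13108608) (BT.leaf (nat_lit 50513429)) (BT.node (nat_lit 13108672) (BT.leaf (nat_lit 52292885)) (BT.leaf (nat_lit 37670689)))))))) (BT.node (nat_lit 13110336) (BT.node (nat_lit 13109376) (BT.node (nat_lit 13108992) (BT.node (nat_lit 13108864) (BT.node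 (nat_lit 13108800) (BT.leaf (nat_lit 51395853)) (BT.leaf (nat_lit 37555217))) (BT.node (nat_lit 13108928) (BT.leaf (nat_lit 37555473)) (BT.leaf (nat_lit 37556257)))) (BT.node (nat_lit 13109120) (BT.node (nat_lit 13109056) (BT.leaf (nat_lit 37557521)) (BT.leaf (nat_lit 37557781))) (BT.node (nat_lit 13109184) (BT.leaf (nat_lit 37557785)) (BT.node (nat_lit 13109312) (BT.leaf (nat_lit 37557789)) (BT.leaf (nat_lit 37558049)))))) (BT.node (nat_lit 13110016) (BT.node (nat_lit 13109696) (BT.node (nat_lit 13109440) (BT.leaf (nat_lit 52276241)) (BT.leaf (nat_lit 37696797))) (BT.node (nat_lit 13109760) (BT.leaf (nat_lit 37700361)) (BT.node (nat_lit 13109824) (BT.leaf (nat_lit 37605637)) (BT.leaf (nat_lit 52442145))))) (BT.node (nat_lit 13110144) (BT.node (nat_lit 13110080) (BT.leaf (nat_lit 52262661)) (BT.leaf (nat_lit 37563157))) (BT.node (nat_lit 13110208) (BT.leaf (nat_lit 52206869)) (BT.node (nat_lit 13110272) (BT.leaf (nat_lit 37568021)) (BT.leaf (nat_lit 37568261))))))) (BT.node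 (nat_lit 13110976) (BT.node (nat_lit 13110656) (BT.node (nat_lit 13110464) (BT.node (nat_lit 13110400) (BT.leaf (nat_lit 37568273)) (BT.leaf (nat_lit 52096025))) (BT.node (nat_lit 13110528) (BT.leaf (nat_lit 37570065)) (BT.node (nat_lit 13110592) (BT.leaf (nat_lit 51725577)) (BT.leaf (nat_lit 37571617))))) (BT.node (nat_lit 13110784) (BT.node (nat_lit 13110720) (BT.leaf (nat_lit 37574417)) (BT.leaf (nat_lit 37574673))) (BT.node (nat_lit 13110848) (BT.leaf (nat_lit 51101713)) (BT.node (nat_lit 13110912) (BT.leaf (nat_lit 52365857)) (BT.leaf (nat_lit 52368157)))))) (BT.node (nat_lit 13111296) (BT.node (nat_lit 13111104) (BT.node (nat_lit 13111040) (BT.leaf (nat_lit 37577233)) (BT.leaf (nat_lit 37577249))) (BT.node (nat_lit 13111168) (BT.leaf (nat_lit 37577753)) (BT.node (nat_lit 13111232) (BT.leaf (nat_lit 37579041)) (BT.leaf (nat_lit 37580297))))) (BT.node (nat_lit 13111424) (BT.node (nat_lit 13111360) (BT.leaf (nat_lit 37583637)) (BT.leaf (nat_lit 37583905))) (BT.node (nat_lit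 13111488) (BT.leaf (nat_lit 37600009)) (BT.node (nat_lit 13111552) (BT.leaf (nat_lit 37584917)) (BT.leaf (nat_lit 37585441)))))))))))

end CF.Comp.J23B0
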