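import Cfsg.Agent.J23.E0D0
import Cfsg.Agent.J23.E0D1
import Cfsg.Agent.J23.E0D2
import Cfsg.Agent.J23.E0D3
import Cfsg.Agent.J23.E0D4

set_option autoImplicit false
set_option maxRecDepth 1000000
set_option maxHeartbeats 0
set_option Elab.async false

namespace CF.Comp.J23B0

noncomputable def big0_c0 : BT (Bx Nat) := (BT.node (nat_lit 512) (BT.node (nat_lit 256) big0_c0_0 big0_c0_256) (BT.node (nat_lit 768) big0_c0_512 big0_c0_768))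
noncomputable def big0_c1 : BT (Bx Nat) := (BT.node (nat_lit 512) (BT.node (nat_lit 256) big0_c1_0 big0_c1_256) (BT.node (nat_lit 768) big0_c1_512 big0_c1_768))
noncomputable def big0_c2 : BT (Bx Nat) := (BT.node (nat_lit 512) (BT.node (nat_lit 256) big0_c2_0 big0_c2_256) (BT.node (nat_lit 768) big0_c2_512 big0_c2_768))
noncomputable def big0_c3 : BT (Bx Nat) := (BT.node (nat_lit 512) (BT.node (nat_lit 256) big0_c3_0 big0_c3_256) (BT.node (nat_lit 768) big0_c3_512 big0_c3_768))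
noncomputable def big0_c4 : BT (Bx Nat) := (BT.node (nat_lit 512) (BT.node (nat_lit 256) big0_c4_0 big0_c4_256) (BT.node (nat_lit 768) big0_c4_512 big0_c4_768))
noncomputable def big0_c5 : BT (Bx Nat) := (BT.node (nat_lit 512) (BT.node (nat_lit 256) big0_c5_0 big0_c5_256) (BT.node (nat_lit 768) big0_c5_512 big0_c5_768))
noncomputable def big0_c6 : BT (Bx Nat) := (BT.node (nat_lit 512) (BT.node (nat_lit 256) big0_c6_0 big0_c6_256) (BT.node (nat_lit 768) big0_c6_512 big0_c6_768))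
noncomputable def big0_c7 : BT (Bx Nat) := (BT.node (nat_lit 512) (BT.node (nat_lit 256) big0_c7_0 big0_c7_256) (BT.node (nat_lit 768) big0_c7_512 big0_c7_768))
noncomputable def big0_c8 : BT (Bx Nat) := (BT.node (nat_lit 512) (BT.node (nat_lit 256) big0_c8_0 big0_c8_256) (BT.node (nat_lit 768) big0_c8_512 big0_c8_768))
noncomputable def big0_p : BT (Bx Nat) := (BT.node (nat_lit 512) (BT.node (nat_lit 256) big0_p_0 big0_p_256) (BT.node (nat_lit 768) big0_p_512 big0_p_768))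
noncomputable def big0_e : BT Nat := (BT.node (nat_lit 8602304) (BT.node (nat_lit 6167296) (BT.node (nat_lit 5027648) (BT.node (nat_lit 4508801) (BT.node (nat_lit 4371012) (BT.node (nat_lit 4303367) big0_e0 big0_e2048) (BT.node (nat_lit 4441223) big0_e4096 big0_e6144)) (BT.node (nat_lit 4642499) (BT.node (nat_lit 4573702) big0_e8192 big0_e10240) (BT.node (nat_lit 4721158) big0_e12288 big0_e14336))) (BT.node (nat_lit 5643264) (BT.node (nat_lit 5301056) (BT.node (nat_lit 5169984) big0_e16384 big0_e18432) (BT.node (nat_lit 5468480) big0_e20480 big0_e22528)) (BT.node (nat_lit 5905216) (BT.node (nat_lit 5774336) big0_e24576 big0_e26624) (BT.node (nat_lit 6036352) big0_e28672 big0_e30720)))) (BT.node (nat_lit 7464640) (BT.node (nat_lit 6940928) (BT.node (nat_lit 6569280) (BT.node (nat_lit 6354112) big0_e32768 big0_e34816) (BT.node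 (nat_lit 6806144) big0_e36864 big0_e38912)) (BT.node (nat_lit 7202880) (BT.node (nat_lit 7071872) big0_e40960 big0_e43008) (BT.node (nat_lit 7333696) big0_e45056 big0_e47104))) (BT.node (nat_lit 7988608) (BT.node (nat_lit 7726720) (BT.node (nat_lit 7595776) big0_e49152 big0_e51200) (BT.node (nat_lit 7857792) big0_e53248 big0_e55296)) (BT.node (nat_lit 8250816) (BT.node (nat_lit 8119808) big0_e57344 big0_e59392) (BT.node (nat_lit 8429568) big0_e61440 big0_e63488))))) (BT.node (nat_lit 10872192) (BT.node (nat_lit 9890176) (BT.node (nat_lit 9389120) (BT.node (nat_lit 8968384) (BT.node (nat_lit 8770176) big0_e65536 big0_e67584) (BT.node (nat_lit 9179520) big0_e69632 big0_e71680)) (BT.node (nat_lit 9647940) (BT.node (nat_lit 9524864) big0_e73728 big0_e75776) (BT.node (nat_lit 9769480) big0_e77824 big0_e79872))) (BT.node (nat_lit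 10375232) (BT.node (nat_lit 10134144) (BT.node (nat_lit 10010752) big0_e81920 big0_e83968) (BT.node (nat_lit 10255680) big0_e86016 big0_e88064)) (BT.node (nat_lit 10622592) (BT.node (nat_lit 10498432) big0_e90112 big0_e92160) (BT.node (nat_lit 10747072) big0_e94208 big0_e96256)))) (BT.node (nat_lit 11996928) (BT.node (nat_lit 11399424) (BT.node (nat_lit 11134528) (BT.node (nat_lit 11001344) big0_e98304 big0_e100352) (BT.node (nat_lit 11263232) big0_e102400 big0_e104448)) (BT.node (nat_lit 11693440) (BT.node (nat_lit 11536000) big0_e106496 big0_e108544) (BT.node (nat_lit 11843136) big0_e110592 big0_e112640))) (BT.node (nat_lit 12603264) (BT.node (nat_lit 12294528) (BT.node (nat_lit 12146048) big0_e114688 big0_e116736) (BT.node (nat_lit 12437888) big0_e118784 big0_e120832)) (BT.node (nat_lit 12923782) (BT.node (nat_lit 12758016)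 big0_e122880 big0_e124928) (BT.node (nat_lit 13088384) big0_e126976 big0_e129024))))))
noncomputable def big0_cols : List (BT (Bx Nat)) := [big0_c0, big0_c1, big0_c2, big0_c3, big0_c4, big0_c5, big0_c6, big0_c7, big0_c8]
noncomputable def big0_ch (x j : Nat) : Bx Nat := chunkG big0_cols (nat_lit 801) x j
noncomputable def big0_L (x : Nat) : Bx (Nat → Nat) := lookG big0_ch (nat_lit 8) (nat_lit 255) (nat_lit 37) (nat_lit 0x1fffffffff) x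
noncomputable def big0_pc (_ j : Nat) : Bx Nat := big0_p.get j
noncomputable def big0_pb : Bx (Nat → Nat) := lookG big0_pc (nat_lit 8) (nat_lit 255) (nat_lit 29) (nat_lit 536870911) (nat_lit 0)
noncomputable def big0_rots : BT CW := (BT.node (nat_lit 445) (BT.node (nat_lit 222) (BT.node (nat_lit 111) (BT.node (nat_lit 55) (BT.node (nat_lit 27) (BT.node (nat_lit 13) (BT.node (nat_lit 6) (BT.node (nat_lit 3) (BT.node (nat_lit 1) (BT.leaf ⟨[], (nat_lit 1000000), (nat_lit 0), (nat_lit 0), (nat_lit 0)⟩) (BT.node (nat_lit 2) (BT.leaf ⟨[], (nat_lit 1000000), (nat_lit 0), (nat_lit 0), (nat_lit 1)⟩) (BT.leaf ⟨[], (nat_lit 1000000), (nat_lit 0), (nat_lit 0), (nat_lit 2)⟩))) (BT.node (nat_lit 4) (BT.leaf ⟨[(nat_lit 7), (nat_lit 6)], (nat_lit 70), (nat_lit 1), (nat_lit 0), (nat_lit 3)⟩) (BT.node (nat_lit 5) (BT.leaf ⟨[(nat_lit 6), (nat_lit 7)], (nat_lit 70), (nat_lit 0), (nat_lit 0), (nat_lit 3)⟩) (BT.leaf ⟨[(nat_lit 4), (nat_lit 4)], (nat_lit 53), (nat_lit 0), (nat_lit 0), (nat_lit 3)⟩)))) (BT.node (nat_lit 9) (BT.node (nat_lit 7) (BT.leaf ⟨[(nat_lit 5), (nat_lit 5)], (nat_lit 54), (nat_lit 0), (nat_lit 0), (nat_lit 3)⟩) (BT.node (nat_lit 8) (BT.leaf ⟨[(nat_lit 3), (nat_lit 2)], (nat_lit 73), (nat_lit 1), (nat_lit 0), (nat_lit 3)⟩) (BT.leaf ⟨[(nat_lit 2), (nat_lit 3)], (nat_lit 73), (nat_lit 0), (nat_lit 0), (nat_lit 3)⟩))) (BT.node (nat_lit 11) (BT.node (nat_lit 10) (BT.leaf ⟨[(nat_lit 8), (nat_lit 8)], (nat_lit 57), (nat_lit 0), (nat_lit 0), (nat_lit 3)⟩) (BT.leaf ⟨[(nat_lit 1), (nat_lit 1)], (nat_lit 56), (nat_lit 0), (nat_lit 0), (nat_lit 3)⟩)) (BT.node (nat_lit 12) (BT.leaf ⟨[(nat_lit 6), (nat_lit 6), (nat_lit 6)], (nat_lit 15), (nat_lit 0), (nat_lit 0), (nat_lit 3)⟩) (BT.leaf ⟨[(nat_lit 2), (nat_lit 2), (nat_lit 2)], (nat_lit 0), (nat_lit 0), (nat_lit 0), (nat_lit 3)⟩))))) (BT.node (nat_lit 20) (BT.node (nat_lit 16) (BT.node (nat_lit 14) (BT.leaf ⟨[(nat_lit 3), (nat_lit 7), (nat_lit 2), (nat_lit 6)], (nat_lit 16), (nat_lit 2), (nat_lit 0), (nat_lit 3)⟩) (BT.node (nat_lit 15) (BT.leaf ⟨[(nat_lit 2), (nat_lit 6), (nat_lit 3), (nat_lit 7)], (nat_lit 16), (nat_lit 0), (nat_lit 0), (nat_lit 3)⟩) (BT.leaf ⟨[(nat_lit 3), (nat_lit 4), (nat_lit 3), (nat_lit 4)], (nat_lit 79), (nat_lit 1), (nat_lit 0), (nat_lit 3)⟩))) (BT.node (nat_lit 18) (BT.node (nat_lit 17) (BT.leaf ⟨[(nat_lit 2), (nat_lit 4), (nat_lit 2), (nat_lit 4)], (nat_lit 4), (nat_lit 0), (nat_lit 0), (nat_lit 3)⟩) (BT.leaf ⟨[(nat_lit 4), (nat_lit 8), (nat_lit 4), (nat_lit 1)], (nat_lit 2), (nat_lit 1), (nat_lit 0), (nat_lit 3)⟩)) (BT.node (nat_lit 19) (BT.leaf ⟨[(nat_lit 3), (nat_lit 6), (nat_lit 2), (nat_lit 7)], (nat_lit 91), (nat_lit 3), (nat_lit 0), (nat_lit 3)⟩) (BT.leaf ⟨[(nat_lit 2), (nat_lit 7), (nat_lit 3), (nat_lit 6)], (nat_lit 91), (nat_lit 1), (nat_lit 0), (nat_lit 3)⟩)))) (BT.node (nat_lit 23) (BT.node (nat_lit 21) (BT.leaf ⟨[(nat_lit 3), (nat_lit 8), (nat_lit 2), (nat_lit 8)], (nat_lit 5), (nat_lit 2), (nat_lit 0), (nat_lit 3)⟩) (BT.node (nat_lit 22) (BT.leaf ⟨[(nat_lit 2), (nat_lit 8), (nat_lit 3), (nat_lit 8)], (nat_lit 5), (nat_lit 0), (nat_lit 0), (nat_lit 3)⟩) (BT.leaf ⟨[(nat_lit 3), (nat_lit 3), (nat_lit 3)], (nat_lit 75), (nat_lit 0), (nat_lit 0), (nat_lit 3)⟩))) (BT.node (nat_lit 25) (BT.node (nat_lit 24) (BT.leaf ⟨[(nat_lit 6), (nat_lit 8), (nat_lit 6), (nat_lit 8)], (nat_lit 17), (nat_lit 0), (nat_lit 0), (nat_lit 3)⟩) (BT.leaf ⟨[(nat_lit 7), (nat_lit 8), (nat_lit 7), (nat_lit 8)], (nat_lit 92), (nat_lit 1), (nat_lit 0), (nat_lit 3)⟩)) (BT.node (nat_lit 26) (BT.leaf ⟨[(nat_lit 7), (nat_lit 7), (nat_lit 7)], (nat_lit 90), (nat_lit 0), (nat_lit 0), (nat_lit 3)⟩) (BT.leaf ⟨[(nat_lit 2), (nat_lit 1), (nat_lit 3), (nat_lit 1)], (nat_lit 1), (nat_lit 1), (nat_lit 0), (nat_lit 3)⟩)))))) (BT.node (nat_lit 41) (BT.node (nat_lit 34) (BT.node (nat_lit 30) (BT.node (nat_lit 28) (BT.leaf ⟨[(nat_lit 3), (nat_lit 1), (nat_lit 2), (nat_lit 1)], (nat_lit 1), (nat_lit 3), (nat_lit 0), (nat_lit 3)⟩) (BT.node (nat_lit 29) (BT.leaf ⟨[(nat_lit 1), (nat_lit 5), (nat_lit 1), (nat_lit 5)], (nat_lit 3), (nat_lit 0), (nat_lit 0), (nat_lit 3)⟩) (BT.leaf ⟨[(nat_lit 1), (nat_lit 3), (nat_lit 1), (nat_lit 2)], (nat_lit 1), (nat_lit 2), (nat_lit 0), (nat_lit 3)⟩))) (BT.node (nat_lit 32) (BT.node (nat_lit 31) (BT.leaf ⟨[(nat_lit 1), (nat_lit 2), (nat_lit 1), (nat_lit 3)], (nat_lit 1), (nat_lit 0), (nat_lit 0), (nat_lit 3)⟩) (BT.leaf ⟨[(nat_lit 8), (nat_lit 4), (nat_lit 1), (nat_lit 4)], (nat_lit 2), (nat_lit 2), (nat_lit 0), (nat_lit 3)⟩)) (BT.node (nat_lit 33) (BT.leaf ⟨[(nat_lit 8), (nat_lit 6), (nat_lit 8), (nat_lit 6)], (nat_lit 17), (nat_lit 1), (nat_lit 0), (nat_lit 3)⟩) (BT.leaf ⟨[(nat_lit 8), (nat_lit 7), (nat_lit 8), (nat_lit 7)], (nat_lit 92), (nat_lit 0), (nat_lit 0), (nat_lit 3)⟩)))) (BT.node (nat_lit 37) (BT.node (nat_lit 35) (BT.leaf ⟨[(nat_lit 1), (nat_lit 4), (nat_lit 8), (nat_lit 4)], (nat_lit 2), (nat_lit 0), (nat_lit 0), (nat_lit 3)⟩) (BT.node (nat_lit 36) (BT.leaf ⟨[(nat_lit 5), (nat_lit 4), (nat_lit 5), (nat_lit 4), (nat_lit 5), (nat_lit 4)], (nat_lit 10), (nat_lit 1), (nat_lit 0), (nat_lit 3)⟩) (BT.leaf ⟨[(nat_lit 5), (nat_lit 1), (nat_lit 5), (nat_lit 1)], (nat_lit 3), (nat_lit 1), (nat_lit 0), (nat_lit 3)⟩))) (BT.node (nat_lit 39) (BT.node (nat_lit 38) (BT.leaf ⟨[(nat_lit 5), (nat_lit 2), (nat_lit 5), (nat_lit 2), (nat_lit 5), (nat_lit 2)], (nat_lit 9), (nat_lit 1), (nat_lit 0), (nat_lit 3)⟩) (BT.leaf ⟨[(nat_lit 6), (nat_lit 5), (nat_lit 7), (nat_lit 2), (nat_lit 5), (nat_lit 3)], (nat_lit 23), (nat_lit 3), (nat_lit 0), (nat_lit 3)⟩)) (BT.node (nat_lit 40) (BT.leaf ⟨[(nat_lit 3), (nat_lit 5), (nat_lit 7), (nat_lit 2), (nat_lit 5), (nat_lit 6)], (nat_lit 24), (nat_lit 3), (nat_lit 0), (nat_lit 3)⟩) (BT.leaf ⟨[(nat_lit 6), (nat_lit 5), (nat_lit 6), (nat_lit 5), (nat_lit 6), (nat_lit 5)], (nat_lit 26), (nat_lit 1), (nat_lit 0), (nat_lit 3)⟩))))) (BT.node (nat_lit 48) (BT.node (nat_lit 44) (BT.node (nat_lit 42) (BT.leaf ⟨[(nat_lit 7), (nat_lit 5), (nat_lit 7), (nat_lit 5), (nat_lit 7), (nat_lit 5)], (nat_lit 101), (nat_lit 0), (nat_lit 0), (nat_lit 3)⟩) (BT.node (nat_lit 43) (BT.leaf ⟨[(nat_lit 3), (nat_lit 6), (nat_lit 5), (nat_lit 2), (nat_lit 7), (nat_lit 5)], (nat_lit 99), (nat_lit 5), (nat_lit 0), (nat_lit 3)⟩) (BT.leaf ⟨[(nat_lit 6), (nat_lit 3), (nat_lit 5), (nat_lit 2), (nat_lit 7), (nat_lit 5)], (nat_lit 25), (nat_lit 3), (nat_lit 0), (nat_lit 3)⟩))) (BT.node (nat_lit 46) (BT.node (nat_lit 45) (BT.leaf ⟨[(nat_lit 7), (nat_lit 3), (nat_lit 6), (nat_lit 2)], (nat_lit 91), (nat_lit 2), (nat_lit 0), (nat_lit 3)⟩) (BT.leaf ⟨[(nat_lit 5), (nat_lit 3), (nat_lit 5), (nat_lit 3), (nat_lit 5), (nat_lit 3)], (nat_lit 84), (nat_lit 0), (nat_lit 0), (nat_lit 3)⟩)) (BT.node (nat_lit 47) (BT.leaf ⟨[(nat_lit 2), (nat_lit 5), (nat_lit 3), (nat_lit 6), (nat_lit 5), (nat_lit 7)], (nat_lit 23), (nat_lit 0), (nat_lit 0), (nat_lit 3)⟩) (BT.leaf ⟨[(nat_lit 7), (nat_lit 5), (nat_lit 3), (nat_lit 6), (nat_lit 5), (nat_lit 2)], (nat_lit 99), (nat_lit 3), (nat_lit 0), (nat_lit 3)⟩)))) (BT.node (nat_lit 51) (BT.node (nat_lit 49) (BT.leaf ⟨[(nat_lit 7), (nat_lit 2), (nat_lit 5), (nat_lit 3), (nat_lit 6), (nat_lit 5)], (nat_lit 23), (nat_lit 5), (nat_lit 0), (nat_lit 3)⟩) (BT.node (nat_lit 50) (BT.leaf ⟨[(nat_lit 2), (nat_lit 7), (nat_lit 5), (nat_lit 3), (nat_lit 6), (nat_lit 5)], (nat_lit 99), (nat_lit 2), (nat_lit 0), (nat_lit 3)⟩) (BT.leaf ⟨[(nat_lit 6), (nat_lit 2), (nat_lit 7), (nat_lit 3)], (nat_lit 91), (nat_lit 0), (nat_lit 0), (nat_lit 3)⟩))) (BT.node (nat_lit 53) (BT.node (nat_lit 52) (BT.leaf ⟨[(nat_lit 5), (nat_lit 6), (nat_lit 5), (nat_lit 6), (nat_lit 5), (nat_lit 6)], (nat_lit 26), (nat_lit 0), (nat_lit 0), (nat_lit 3)⟩) (BT.leaf ⟨[(nat_lit 5), (nat_lit 7), (nat_lit 5), (nat_lit 7), (nat_lit 5), (nat_lit 7)], (nat_lit 101), (nat_lit 1), (nat_lit 0), (nat_lit 3)⟩)) (BT.node (nat_lit 54) (BT.leaf ⟨[(nat_lit 5), (nat_lit 3), (nat_lit 6), (nat_lit 5), (nat_lit 7), (nat_lit 2)], (nat_lit 23), (nat_lit 1), (nat_lit 0), (nat_lit 3)⟩) (BT.leaf ⟨[(nat_lit 3), (nat_lit 6), (nat_lit 5), (nat_lit 7), (nat_lit 2), (nat_lit 5)], (nat_lit 23), (nat_lit 2), (nat_lit 0), (nat_lit 3)⟩))))))) (BT.node (nat_lit 83) (BT.node (nat_lit 69) (BT.node (nat_lit 62) (BT.node (nat_lit 58) (BT.node (nat_lit 56) (BT.leaf ⟨[(nat_lit 6), (nat_lit 3), (nat_lit 5), (nat_lit 7), (nat_lit 2), (nat_lit 5)], (nat_lit 24), (nat_lit 2), (nat_lit 0), (nat_lit 3)⟩) (BT.node (nat_lit 57) (BT.leaf ⟨[(nat_lit 7), (nat_lit 2), (nat_lit 5), (nat_lit 6), (nat_lit 3), (nat_lit 5)], (nat_lit 24), (nat_lit 5), (nat_lit 0), (nat_lit 3)⟩) (BT.leaf ⟨[(nat_lit 2), (nat_lit 7), (nat_lit 5), (nat_lit 6), (nat_lit 3), (nat_lit 5)], (nat_lit 25), (nat_lit 0), (nat_lit 0), (nat_lit 3)⟩))) (BT.node (nat_lit 60) (BT.node (nat_lit 59) (BT.leaf ⟨[(nat_lit 2), (nat_lit 5), (nat_lit 2), (nat_lit 5), (nat_lit 2), (nat_lit 5)], (nat_lit 9), (nat_lit 0), (nat_lit 0), (nat_lit 3)⟩) (BT.leaf ⟨[(nat_lit 3), (nat_lit 5), (nat_lit 3), (nat_lit 5), (nat_lit 3), (nat_lit 5)], (nat_lit 84), (nat_lit 1), (nat_lit 0), (nat_lit 3)⟩)) (BT.node (nat_lit 61) (BT.leaf ⟨[(nat_lit 1), (nat_lit 8), (nat_lit 6), (nat_lit 1), (nat_lit 7), (nat_lit 8)], (nat_lit 22), (nat_lit 3), (nat_lit 0), (nat_lit 3)⟩) (BT.leaf ⟨[(nat_lit 7), (nat_lit 5), (nat_lit 6), (nat_lit 3), (nat_lit 5), (nat_lit 2)], (nat_lit 25), (nat_lit 1), (nat_lit 0), (nat_lit 3)⟩)))) (BT.node (nat_lit 65) (BT.node (nat_lit 63) (BT.leaf ⟨[(nat_lit 2), (nat_lit 5), (nat_lit 6), (nat_lit 3), (nat_lit 5), (nat_lit 7)], (nat_lit 24), (nat_lit 0), (nat_lit 0), (nat_lit 3)⟩) (BT.node (nat_lit 64) (BT.leaf ⟨[(nat_lit 4), (nat_lit 5), (nat_lit 4), (nat_lit 5), (nat_lit 4), (nat_lit 5)], (nat_lit 10), (nat_lit 0), (nat_lit 0), (nat_lit 3)⟩) (BT.leaf ⟨[(nat_lit 4), (nat_lit 2), (nat_lit 4), (nat_lit 2)], (nat_lit 4), (nat_lit 1), (nat_lit 0), (nat_lit 3)⟩))) (BT.node (nat_lit 67) (BT.node (nat_lit 66) (BT.leaf ⟨[(nat_lit 4), (nat_lit 3), (nat_lit 4), (nat_lit 3)], (nat_lit 79), (nat_lit 0), (nat_lit 0), (nat_lit 3)⟩) (BT.leaf ⟨[(nat_lit 5), (nat_lit 7), (nat_lit 2), (nat_lit 5), (nat_lit 6), (nat_lit 3)], (nat_lit 24), (nat_lit 4), (nat_lit 0), (nat_lit 3)⟩)) (BT.node (nat_lit 68) (BT.leaf ⟨[(nat_lit 7), (nat_lit 1), (nat_lit 7), (nat_lit 1), (nat_lit 7), (nat_lit 1)], (nat_lit 95), (nat_lit 0), (nat_lit 0), (nat_lit 3)⟩) (BT.leaf ⟨[(nat_lit 6), (nat_lit 1), (nat_lit 8), (nat_lit 6), (nat_lit 1), (nat_lit 8)], (nat_lit 96), (nat_lit 1), (nat_lit 0), (nat_lit 3)⟩))))) (BT.node (nat_lit 76) (BT.node (nat_lit 72) (BT.node (nat_lit 70) (BT.leaf ⟨[(nat_lit 7), (nat_lit 2), (nat_lit 6), (nat_lit 3)], (nat_lit 16), (nat_lit 3), (nat_lit 0), (nat_lit 3)⟩) (BT.node (nat_lit 71) (BT.leaf ⟨[(nat_lit 6), (nat_lit 3), (nat_lit 7), (nat_lit 2)], (nat_lit 16), (nat_lit 1), (nat_lit 0), (nat_lit 3)⟩) (BT.leaf ⟨[(nat_lit 6), (nat_lit 5), (nat_lit 2), (nat_lit 7), (nat_lit 5), (nat_lit 3)], (nat_lit 99), (nat_lit 0), (nat_lit 0), (nat_lit 3)⟩))) (BT.node (nat_lit 74) (BT.node (nat_lit 73) (BT.leaf ⟨[(nat_lit 3), (nat_lit 5), (nat_lit 2), (nat_lit 7), (nat_lit 5), (nat_lit 6)], (nat_lit 25), (nat_lit 4), (nat_lit 0), (nat_lit 3)⟩) (BT.leaf ⟨[(nat_lit 7), (nat_lit 8), (nat_lit 1), (nat_lit 7), (nat_lit 8), (nat_lit 1)], (nat_lit 21), (nat_lit 1), (nat_lit 0), (nat_lit 3)⟩)) (BT.node (nat_lit 75) (BT.leaf ⟨[(nat_lit 4), (nat_lit 1), (nat_lit 4), (nat_lit 8)], (nat_lit 2), (nat_lit 3), (nat_lit 0), (nat_lit 3)⟩) (BT.leaf ⟨[(nat_lit 5), (nat_lit 6), (nat_lit 3), (nat_lit 5), (nat_lit 2), (nat_lit 7)], (nat_lit 25), (nat_lit 2), (nat_lit 0), (nat_lit 3)⟩)))) (BT.node (nat_lit 79) (BT.node (nat_lit 77) (BT.leaf ⟨[(nat_lit 1), (nat_lit 7), (nat_lit 8), (nat_lit 1), (nat_lit 7), (nat_lit 8)], (nat_lit 21), (nat_lit 0), (nat_lit 0), (nat_lit 3)⟩) (BT.node (nat_lit 78) (BT.leaf ⟨[(nat_lit 8), (nat_lit 6), (nat_lit 1), (nat_lit 8), (nat_lit 6), (nat_lit 1)], (nat_lit 96), (nat_lit 0), (nat_lit 0), (nat_lit 3)⟩) (BT.leaf ⟨[(nat_lit 8), (nat_lit 3), (nat_lit 8), (nat_lit 2)], (nat_lit 5), (nat_lit 1), (nat_lit 0), (nat_lit 3)⟩))) (BT.node (nat_lit 81) (BT.node (nat_lit 80) (BT.leaf ⟨[(nat_lit 8), (nat_lit 1), (nat_lit 7), (nat_lit 8), (nat_lit 1), (nat_lit 7)], (nat_lit 21), (nat_lit 2), (nat_lit 0), (nat_lit 3)⟩) (BT.leaf ⟨[(nat_lit 5), (nat_lit 7), (nat_lit 2), (nat_lit 5), (nat_lit 3), (nat_lit 6)], (nat_lit 23), (nat_lit 4), (nat_lit 0), (nat_lit 3)⟩)) (BT.node (nat_lit 82) (BT.leaf ⟨[(nat_lit 1), (nat_lit 6), (nat_lit 1), (nat_lit 6), (nat_lit 1), (nat_lit 6)], (nat_lit 20), (nat_lit 0), (nat_lit 0), (nat_lit 3)⟩) (BT.leaf ⟨[(nat_lit 1), (nat_lit 7), (nat_lit 1), (nat_lit 7), (nat_lit 1), (nat_lit 7)], (nat_lit 95), (nat_lit 1), (nat_lit 0), (nat_lit 3)⟩)))))) (BT.node (nat_lit 97) (BT.node (nat_lit 90) (BT.node (nat_lit 86) (BT.node (nat_lit 84) (BT.leaf ⟨[(nat_lit 5), (nat_lit 2), (nat_lit 7), (nat_lit 5), (nat_lit 3), (nat_lit 6)], (nat_lit 99), (nat_lit 1), (nat_lit 0), (nat_lit 3)⟩) (BT.node (nat_lit 85) (BT.leaf ⟨[(nat_lit 5), (nat_lit 6), (nat_lit 3), (nat_lit 5), (nat_lit 7), (nat_lit 2)], (nat_lit 24), (nat_lit 1), (nat_lit 0), (nat_lit 3)⟩) (BT.leaf ⟨[(nat_lit 5), (nat_lit 3), (nat_lit 5), (nat_lit 6), (nat_lit 2), (nat_lit 5), (nat_lit 7)], (nat_lit 108), (nat_lit 5), (nat_lit 0), (nat_lit 3)⟩))) (BT.node (nat_lit 88) (BT.node (nat_lit 87) (BT.leaf ⟨[(nat_lit 5), (nat_lit 2), (nat_lit 5), (nat_lit 3), (nat_lit 7), (nat_lit 5), (nat_lit 6)], (nat_lit 107), (nat_lit 3), (nat_lit 0), (nat_lit 3)⟩) (BT.leaf ⟨[(nat_lit 8), (nat_lit 1), (nat_lit 6), (nat_lit 1), (nat_lit 8), (nat_lit 1), (nat_lit 6)], (nat_lit 28), (nat_lit 6), (nat_lit 0), (nat_lit 3)⟩)) (BT.node (nat_lit 89) (BT.leaf ⟨[(nat_lit 8), (nat_lit 2), (nat_lit 8), (nat_lit 3)], (nat_lit 5), (nat_lit 3), (nat_lit 0), (nat_lit 3)⟩) (BT.leaf ⟨[(nat_lit 5), (nat_lit 7), (nat_lit 5), (nat_lit 2), (nat_lit 6), (nat_lit 5), (nat_lit 3)], (nat_lit 110), (nat_lit 0), (nat_lit 0), (nat_lit 3)⟩)))) (BT.node (nat_lit 93) (BT.node (nat_lit 91) (BT.leaf ⟨[(nat_lit 5), (nat_lit 6), (nat_lit 5), (nat_lit 2), (nat_lit 5), (nat_lit 3), (nat_lit 7)], (nat_lit 107), (nat_lit 1), (nat_lit 0), (nat_lit 3)⟩) (BT.node (nat_lit 92) (BT.leaf ⟨[(nat_lit 5), (nat_lit 6), (nat_lit 5), (nat_lit 3), (nat_lit 7), (nat_lit 5), (nat_lit 2)], (nat_lit 33), (nat_lit 1), (nat_lit 0), (nat_lit 3)⟩) (BT.leaf ⟨[(nat_lit 5), (nat_lit 6), (nat_lit 2), (nat_lit 5), (nat_lit 7), (nat_lit 5), (nat_lit 3)], (nat_lit 108), (nat_lit 0), (nat_lit 0), (nat_lit 3)⟩))) (BT.node (nat_lit 95) (BT.node (nat_lit 94) (BT.leaf ⟨[(nat_lit 6), (nat_lit 2), (nat_lit 5), (nat_lit 7), (nat_lit 5), (nat_lit 3), (nat_lit 5)], (nat_lit 108), (nat_lit 1), (nat_lit 0), (nat_lit 3)⟩) (BT.leaf ⟨[(nat_lit 5), (nat_lit 3), (nat_lit 5), (nat_lit 7), (nat_lit 5), (nat_lit 6), (nat_lit 2)], (nat_lit 32), (nat_lit 1), (nat_lit 0), (nat_lit 3)⟩)) (BT.node (nat_lit 96) (BT.leaf ⟨[(nat_lit 1), (nat_lit 6), (nat_lit 8), (nat_lit 1), (nat_lit 6), (nat_lit 1), (nat_lit 8)], (nat_lit 28), (nat_lit 4), (nat_lit 0), (nat_lit 3)⟩) (BT.leaf ⟨[(nat_lit 2), (nat_lit 6), (nat_lit 5), (nat_lit 3), (nat_lit 5), (nat_lit 7), (nat_lit 5)], (nat_lit 110), (nat_lit 3), (nat_lit 0), (nat_lit 3)⟩))))) (BT.node (nat_lit 104) (BT.node (nat_lit 100) (BT.node (nat_lit 98) (BT.leaf ⟨[(nat_lit 5), (nat_lit 7), (nat_lit 5), (nat_lit 3), (nat_lit 5), (nat_lit 6), (nat_lit 2)], (nat_lit 108), (nat_lit 3), (nat_lit 0), (nat_lit 3)⟩) (BT.node (nat_lit 99) (BT.leaf ⟨[(nat_lit 1), (nat_lit 7), (nat_lit 1), (nat_lit 8), (nat_lit 7), (nat_lit 1), (nat_lit 8)], (nat_lit 103), (nat_lit 4), (nat_lit 0), (nat_lit 3)⟩) (BT.leaf ⟨[(nat_lit 3), (nat_lit 7), (nat_lit 5), (nat_lit 2), (nat_lit 5), (nat_lit 6), (nat_lit 5)], (nat_lit 33), (nat_lit 4), (nat_lit 0), (nat_lit 3)⟩))) (BT.node (nat_lit 102) (BT.node (nat_lit 101) (BT.leaf ⟨[(nat_lit 1), (nat_lit 8), (nat_lit 1), (nat_lit 7), (nat_lit 1), (nat_lit 6), (nat_lit 8)], (nat_lit 104), (nat_lit 2), (nat_lit 0), (nat_lit 3)⟩) (BT.leaf ⟨[(nat_lit 7), (nat_lit 3), (nat_lit 5), (nat_lit 6), (nat_lit 5), (nat_lit 2), (nat_lit 5)], (nat_lit 35), (nat_lit 2), (nat_lit 0), (nat_lit 3)⟩)) (BT.node (nat_lit 103) (BT.leaf ⟨[(nat_lit 7), (nat_lit 3), (nat_lit 5), (nat_lit 3), (nat_lit 6), (nat_lit 5), (nat_lit 3)], (nat_lit 105), (nat_lit 3), (nat_lit 0), (nat_lit 3)⟩) (BT.leaf ⟨[(nat_lit 3), (nat_lit 5), (nat_lit 6), (nat_lit 5), (nat_lit 2), (nat_lit 5), (nat_lit 7)], (nat_lit 35), (nat_lit 3), (nat_lit 0), (nat_lit 3)⟩)))) (BT.node (nat_lit 107) (BT.node (nat_lit 105) (BT.leaf ⟨[(nat_lit 1), (nat_lit 6), (nat_lit 1), (nat_lit 8), (nat_lit 1), (nat_lit 8), (nat_lit 7)], (nat_lit 29), (nat_lit 0), (nat_lit 0), (nat_lit 3)⟩) (BT.node (nat_lit 106) (BT.leaf ⟨[(nat_lit 8), (nat_lit 7), (nat_lit 1), (nat_lit 8), (nat_lit 1), (nat_lit 7), (nat_lit 1)], (nat_lit 103), (nat_lit 0), (nat_lit 0), (nat_lit 3)⟩) (BT.leaf ⟨[(nat_lit 1), (nat_lit 6), (nat_lit 4), (nat_lit 7), (nat_lit 1), (nat_lit 6), (nat_lit 4), (nat_lit 7)], (nat_lit 51), (nat_lit 0), (nat_lit 0), (nat_lit 3)⟩))) (BT.node (nat_lit 109) (BT.node (nat_lit 108) (BT.leaf ⟨[(nat_lit 1), (nat_lit 8), (nat_lit 6), (nat_lit 1), (nat_lit 8), (nat_lit 6)], (nat_lit 96), (nat_lit 2), (nat_lit 0), (nat_lit 3)⟩) (BT.leaf ⟨[(nat_lit 1), (nat_lit 8), (nat_lit 5), (nat_lit 6), (nat_lit 1), (nat_lit 7), (nat_lit 5), (nat_lit 8)], (nat_lit 40), (nat_lit 4), (nat_lit 0), (nat_lit 3)⟩)) (BT.node (nat_lit 110) (BT.leaf ⟨[(nat_lit 1), (nat_lit 6), (nat_lit 5), (nat_lit 7), (nat_lit 1), (nat_lit 6), (nat_lit 5), (nat_lit 7)], (nat_lit 38), (nat_lit 0), (nat_lit 0), (nat_lit 3)⟩) (BT.leaf ⟨[(nat_lit 1), (nat_lit 6), (nat_lit 1), (nat_lit 8), (nat_lit 1), (nat_lit 6), (nat_lit 8)], (nat_lit 28), (nat_lit 0), (nat_lit 0), (nat_lit 3)⟩)))))))) (BT.node (nat_lit 166) (BT.node (nat_lit 138) (BT.node (nat_lit 124) (BT.node (nat_lit 117) (BT.node (nat_lit 114) (BT.node (nat_lit 112) (BT.leaf ⟨[(nat_lit 1), (nat_lit 8), (nat_lit 7), (nat_lit 1), (nat_lit 8), (nat_lit 1), (nat_lit 7)], (nat_lit 103), (nat_lit 6), (nat_lit 0), (nat_lit 3)⟩) (BT.node (nat_lit 113) (BT.leaf ⟨[(nat_lit 6), (nat_lit 4), (nat_lit 7), (nat_lit 1), (nat_lit 6), (nat_lit 4), (nat_lit 7), (nat_lit 1)], (nat_lit 51), (nat_lit 1), (nat_lit 0), (nat_lit 3)⟩) (BT.leaf ⟨[(nat_lit 6), (nat_lit 1), (nat_lit 6), (nat_lit 1), (nat_lit 6), (nat_lit 1)], (nat_lit 20), (nat_lit 1), (nat_lit 0), (nat_lit 3)⟩))) (BT.node (nat_lit 115) (BT.leaf ⟨[(nat_lit 7), (nat_lit 5), (nat_lit 6), (nat_lit 1), (nat_lit 7), (nat_lit 5), (nat_lit 6), (nat_lit 1)], (nat_lit 39), (nat_lit 1), (nat_lit 0), (nat_lit 3)⟩) (BT.node (nat_lit 116) (BT.leaf ⟨[(nat_lit 7), (nat_lit 1), (nat_lit 6), (nat_lit 5), (nat_lit 7), (nat_lit 1), (nat_lit 6), (nat_lit 5)], (nat_lit 38), (nat_lit 3), (nat_lit 0), (nat_lit 3)⟩) (BT.leaf ⟨[(nat_lit 7), (nat_lit 1), (nat_lit 6), (nat_lit 4), (nat_lit 7), (nat_lit 1), (nat_lit 6), (nat_lit 4)], (nat_lit 51), (nat_lit 3), (nat_lit 0), (nat_lit 3)⟩)))) (BT.node (nat_lit 120) (BT.node (nat_lit 118) (BT.leaf ⟨[(nat_lit 1), (nat_lit 7), (nat_lit 8), (nat_lit 1), (nat_lit 8), (nat_lit 6)], (nat_lit 22), (nat_lit 0), (nat_lit 0), (nat_lit 3)⟩) (BT.node (nat_lit 119) (BT.leaf ⟨[(nat_lit 5), (nat_lit 8), (nat_lit 5), (nat_lit 4), (nat_lit 5), (nat_lit 8), (nat_lit 5), (nat_lit 4)], (nat_lit 14), (nat_lit 1), (nat_lit 0), (nat_lit 3)⟩) (BT.leaf ⟨[(nat_lit 6), (nat_lit 1), (nat_lit 8), (nat_lit 1), (nat_lit 8), (nat_lit 7), (nat_lit 1)], (nat_lit 29), (nat_lit 1), (nat_lit 0), (nat_lit 3)⟩))) (BT.node (nat_lit 122) (BT.node (nat_lit 121) (BT.leaf ⟨[(nat_lit 1), (nat_lit 6), (nat_lit 8), (nat_lit 1), (nat_lit 8), (nat_lit 1), (nat_lit 7)], (nat_lit 104), (nat_lit 6), (nat_lit 0), (nat_lit 3)⟩) (BT.leaf ⟨[(nat_lit 1), (nat_lit 8), (nat_lit 7), (nat_lit 1), (nat_lit 6), (nat_lit 1), (nat_lit 8)], (nat_lit 29), (nat_lit 4), (nat_lit 0), (nat_lit 3)⟩)) (BT.node (nat_lit 123) (BT.leaf ⟨[(nat_lit 1), (nat_lit 7), (nat_lit 5), (nat_lit 8), (nat_lit 1), (nat_lit 8), (nat_lit 5), (nat_lit 6)], (nat_lit 40), (nat_lit 0), (nat_lit 0), (nat_lit 3)⟩) (BT.leaf ⟨[(nat_lit 4), (nat_lit 5), (nat_lit 8), (nat_lit 5), (nat_lit 4), (nat_lit 5), (nat_lit 8), (nat_lit 5)], (nat_lit 14), (nat_lit 0), (nat_lit 0), (nat_lit 3)⟩))))) (BT.node (nat_lit 131) (BT.node (nat_lit 127) (BT.node (nat_lit 125) (BT.leaf ⟨[(nat_lit 1), (nat_lit 8), (nat_lit 1), (nat_lit 6), (nat_lit 8), (nat_lit 1), (nat_lit 6)], (nat_lit 28), (nat_lit 2), (nat_lit 0), (nat_lit 3)⟩) (BT.node (nat_lit 126) (BT.leaf ⟨[(nat_lit 1), (nat_lit 8), (nat_lit 5), (nat_lit 8), (nat_lit 1), (nat_lit 8), (nat_lit 5), (nat_lit 8)], (nat_lit 13), (nat_lit 0), (nat_lit 0), (nat_lit 3)⟩) (BT.leaf ⟨[(nat_lit 7), (nat_lit 4), (nat_lit 1), (nat_lit 8), (nat_lit 1), (nat_lit 4), (nat_lit 6), (nat_lit 1)], (nat_lit 49), (nat_lit 4), (nat_lit 0), (nat_lit 3)⟩))) (BT.node (nat_lit 129) (BT.node (nat_lit 128) (BT.leaf ⟨[(nat_lit 1), (nat_lit 7), (nat_lit 5), (nat_lit 6), (nat_lit 1), (nat_lit 7), (nat_lit 5), (nat_lit 6)], (nat_lit 39), (nat_lit 0), (nat_lit 0), (nat_lit 3)⟩) (BT.leaf ⟨[(nat_lit 5), (nat_lit 7), (nat_lit 1), (nat_lit 6), (nat_lit 5), (nat_lit 7), (nat_lit 1), (nat_lit 6)], (nat_lit 38), (nat_lit 2), (nat_lit 0), (nat_lit 3)⟩)) (BT.node (nat_lit 130) (BT.leaf ⟨[(nat_lit 6), (nat_lit 5), (nat_lit 7), (nat_lit 1), (nat_lit 6), (nat_lit 5), (nat_lit 7), (nat_lit 1)], (nat_lit 38), (nat_lit 1), (nat_lit 0), (nat_lit 3)⟩) (BT.leaf ⟨[(nat_lit 1), (nat_lit 2), (nat_lit 5), (nat_lit 1), (nat_lit 6), (nat_lit 3), (nat_lit 5), (nat_lit 7)], (nat_lit 36), (nat_lit 0), (nat_lit 0), (nat_lit 3)⟩)))) (BT.node (nat_lit 134) (BT.node (nat_lit 132) (BT.leaf ⟨[(nat_lit 4), (nat_lit 6), (nat_lit 4), (nat_lit 7), (nat_lit 4), (nat_lit 6), (nat_lit 4), (nat_lit 7), (nat_lit 4), (nat_lit 6), (nat_lit 4), (nat_lit 7), (nat_lit 4), (nat_lit 6), (nat_lit 4), (nat_lit 7)], (nat_lit 52), (nat_lit 0), (nat_lit 0), (nat_lit 3)⟩) (BT.node (nat_lit 133) (BT.leaf ⟨[(nat_lit 4), (nat_lit 7), (nat_lit 4), (nat_lit 6), (nat_lit 4), (nat_lit 7), (nat_lit 4), (nat_lit 6), (nat_lit 4), (nat_lit 7), (nat_lit 4), (nat_lit 6), (nat_lit 4), (nat_lit 7), (nat_lit 4), (nat_lit 6)], (nat_lit 52), (nat_lit 2), (nat_lit 0), (nat_lit 3)⟩) (BT.leaf ⟨[(nat_lit 7), (nat_lit 4), (nat_lit 6), (nat_lit 4), (nat_lit 7), (nat_lit 4), (nat_lit 6), (nat_lit 4), (nat_lit 7), (nat_lit 4), (nat_lit 6), (nat_lit 4), (nat_lit 7), (nat_lit 4), (nat_lit 6), (nat_lit 4)], (nat_lit 52), (nat_lit 3), (nat_lit 0), (nat_lit 3)⟩))) (BT.node (nat_lit 136) (BT.node (nat_lit 135) (BT.leaf ⟨[(nat_lit 6), (nat_lit 4), (nat_lit 7), (nat_lit 4), (nat_lit 6), (nat_lit 4), (nat_lit 7), (nat_lit 4), (nat_lit 6), (nat_lit 4), (nat_lit 7), (nat_lit 4), (nat_lit 6), (nat_lit 4), (nat_lit 7), (nat_lit 4)], (nat_lit 52), (nat_lit 1), (nat_lit 0), (nat_lit 3)⟩) (BT.leaf ⟨[(nat_lit 5), (nat_lit 3), (nat_lit 6), (nat_lit 5), (nat_lit 2), (nat_lit 7)], (nat_lit 99), (nat_lit 4), (nat_lit 0), (nat_lit 3)⟩)) (BT.node (nat_lit 137) (BT.leaf ⟨[(nat_lit 7), (nat_lit 8), (nat_lit 1), (nat_lit 8), (nat_lit 6), (nat_lit 1)], (nat_lit 22), (nat_lit 1), (nat_lit 0), (nat_lit 3)⟩) (BT.leaf ⟨[(nat_lit 8), (nat_lit 6), (nat_lit 1), (nat_lit 7), (nat_lit 8), (nat_lit 1)], (nat_lit 22), (nat_lit 4), (nat_lit 0), (nat_lit 3)⟩)))))) (BT.node (nat_lit 152) (BT.node (nat_lit 145) (BT.node (nat_lit 141) (BT.node (nat_lit 139) (BT.leaf ⟨[(nat_lit 7), (nat_lit 4), (nat_lit 1), (nat_lit 4), (nat_lit 7), (nat_lit 8)], (nat_lit 121), (nat_lit 3), (nat_lit 0), (nat_lit 3)⟩) (BT.node (nat_lit 140) (BT.leaf ⟨[(nat_lit 1), (nat_lit 4), (nat_lit 7), (nat_lit 8), (nat_lit 7), (nat_lit 4)], (nat_lit 121), (nat_lit 5), (nat_lit 0), (nat_lit 3)⟩) (BT.leaf ⟨[(nat_lit 4), (nat_lit 7), (nat_lit 8), (nat_lit 7), (nat_lit 4), (nat_lit 1)], (nat_lit 121), (nat_lit 0), (nat_lit 0), (nat_lit 3)⟩))) (BT.node (nat_lit 143) (BT.node (nat_lit 142) (BT.leaf ⟨[(nat_lit 8), (nat_lit 1), (nat_lit 8), (nat_lit 6), (nat_lit 1), (nat_lit 7)], (nat_lit 22), (nat_lit 2), (nat_lit 0), (nat_lit 3)⟩) (BT.leaf ⟨[(nat_lit 5), (nat_lit 2), (nat_lit 7), (nat_lit 5), (nat_lit 6), (nat_lit 3)], (nat_lit 25), (nat_lit 5), (nat_lit 0), (nat_lit 3)⟩)) (BT.node (nat_lit 144) (BT.leaf ⟨[(nat_lit 6), (nat_lit 1), (nat_lit 7), (nat_lit 8), (nat_lit 1), (nat_lit 8)], (nat_lit 22), (nat_lit 5), (nat_lit 0), (nat_lit 3)⟩) (BT.leaf ⟨[(nat_lit 1), (nat_lit 4), (nat_lit 6), (nat_lit 8), (nat_lit 6), (nat_lit 4)], (nat_lit 46), (nat_lit 0), (nat_lit 0), (nat_lit 3)⟩)))) (BT.node (nat_lit 148) (BT.node (nat_lit 146) (BT.leaf ⟨[(nat_lit 6), (nat_lit 8), (nat_lit 6), (nat_lit 4), (nat_lit 1), (nat_lit 4)], (nat_lit 46), (nat_lit 2), (nat_lit 0), (nat_lit 3)⟩) (BT.node (nat_lit 147) (BT.leaf ⟨[(nat_lit 6), (nat_lit 2), (nat_lit 5), (nat_lit 7), (nat_lit 2), (nat_lit 5), (nat_lit 2)], (nat_lit 30), (nat_lit 3), (nat_lit 0), (nat_lit 3)⟩) (BT.leaf ⟨[(nat_lit 5), (nat_lit 2), (nat_lit 5), (nat_lit 7), (nat_lit 3), (nat_lit 5), (nat_lit 6)], (nat_lit 35), (nat_lit 6), (nat_lit 0), (nat_lit 3)⟩))) (BT.node (nat_lit 150) (BT.node (nat_lit 149) (BT.leaf ⟨[(nat_lit 1), (nat_lit 8), (nat_lit 1), (nat_lit 7), (nat_lit 1), (nat_lit 8), (nat_lit 7)], (nat_lit 103), (nat_lit 2), (nat_lit 0), (nat_lit 3)⟩) (BT.leaf ⟨[(nat_lit 6), (nat_lit 2), (nat_lit 5), (nat_lit 2), (nat_lit 7), (nat_lit 5), (nat_lit 2)], (nat_lit 31), (nat_lit 6), (nat_lit 0), (nat_lit 3)⟩)) (BT.node (nat_lit 151) (BT.leaf ⟨[(nat_lit 3), (nat_lit 5), (nat_lit 2), (nat_lit 5), (nat_lit 6), (nat_lit 5), (nat_lit 7)], (nat_lit 34), (nat_lit 5), (nat_lit 0), (nat_lit 3)⟩) (BT.leaf ⟨[(nat_lit 5), (nat_lit 3), (nat_lit 5), (nat_lit 2), (nat_lit 6), (nat_lit 5), (nat_lit 7)], (nat_lit 109), (nat_lit 5), (nat_lit 0), (nat_lit 3)⟩))))) (BT.node (nat_lit 159) (BT.node (nat_lit 155) (BT.node (nat_lit 153) (BT.leaf ⟨[(nat_lit 6), (nat_lit 5), (nat_lit 3), (nat_lit 7), (nat_lit 5), (nat_lit 2), (nat_lit 5)], (nat_lit 33), (nat_lit 2), (nat_lit 0), (nat_lit 3)⟩) (BT.node (nat_lit 154) (BT.leaf ⟨[(nat_lit 7), (nat_lit 5), (nat_lit 6), (nat_lit 2), (nat_lit 5), (nat_lit 3), (nat_lit 5)], (nat_lit 32), (nat_lit 4), (nat_lit 0), (nat_lit 3)⟩) (BT.leaf ⟨[(nat_lit 3), (nat_lit 7), (nat_lit 3), (nat_lit 5), (nat_lit 3), (nat_lit 6), (nat_lit 5)], (nat_lit 105), (nat_lit 2), (nat_lit 0), (nat_lit 3)⟩))) (BT.node (nat_lit 157) (BT.node (nat_lit 156) (BT.leaf ⟨[(nat_lit 5), (nat_lit 7), (nat_lit 5), (nat_lit 6), (nat_lit 2), (nat_lit 5), (nat_lit 3)], (nat_lit 32), (nat_lit 3), (nat_lit 0), (nat_lit 3)⟩) (BT.leaf ⟨[(nat_lit 2), (nat_lit 5), (nat_lit 7), (nat_lit 3), (nat_lit 5), (nat_lit 6), (nat_lit 5)], (nat_lit 35), (nat_lit 0), (nat_lit 0), (nat_lit 3)⟩)) (BT.node (nat_lit 158) (BT.leaf ⟨[(nat_lit 6), (nat_lit 5), (nat_lit 2), (nat_lit 5), (nat_lit 3), (nat_lit 7), (nat_lit 5)], (nat_lit 107), (nat_lit 2), (nat_lit 0), (nat_lit 3)⟩) (BT.leaf ⟨[(nat_lit 6), (nat_lit 5), (nat_lit 7), (nat_lit 3), (nat_lit 5), (nat_lit 2), (nat_lit 5)], (nat_lit 34), (nat_lit 2), (nat_lit 0), (nat_lit 3)⟩)))) (BT.node (nat_lit 162) (BT.node (nat_lit 160) (BT.leaf ⟨[(nat_lit 8), (nat_lit 1), (nat_lit 7), (nat_lit 1), (nat_lit 8), (nat_lit 7), (nat_lit 1)], (nat_lit 103), (nat_lit 3), (nat_lit 0), (nat_lit 3)⟩) (BT.node (nat_lit 161) (BT.leaf ⟨[(nat_lit 7), (nat_lit 1), (nat_lit 6), (nat_lit 1), (nat_lit 8), (nat_lit 1), (nat_lit 8)], (nat_lit 29), (nat_lit 6), (nat_lit 0), (nat_lit 3)⟩) (BT.leaf ⟨[(nat_lit 5), (nat_lit 7), (nat_lit 2), (nat_lit 5), (nat_lit 2), (nat_lit 6), (nat_lit 2)], (nat_lit 30), (nat_lit 5), (nat_lit 0), (nat_lit 3)⟩))) (BT.node (nat_lit 164) (BT.node (nat_lit 163) (BT.leaf ⟨[(nat_lit 5), (nat_lit 2), (nat_lit 6), (nat_lit 2), (nat_lit 5), (nat_lit 7), (nat_lit 2)], (nat_lit 30), (nat_lit 1), (nat_lit 0), (nat_lit 3)⟩) (BT.leaf ⟨[(nat_lit 6), (nat_lit 8), (nat_lit 1), (nat_lit 6), (nat_lit 1), (nat_lit 8), (nat_lit 1)], (nat_lit 28), (nat_lit 5), (nat_lit 0), (nat_lit 3)⟩)) (BT.node (nat_lit 165) (BT.leaf ⟨[(nat_lit 8), (nat_lit 1), (nat_lit 6), (nat_lit 8), (nat_lit 1), (nat_lit 6), (nat_lit 1)], (nat_lit 28), (nat_lit 3), (nat_lit 0), (nat_lit 3)⟩) (BT.leaf ⟨[(nat_lit 7), (nat_lit 1), (nat_lit 8), (nat_lit 7), (nat_lit 1), (nat_lit 8), (nat_lit 1)], (nat_lit 103), (nat_lit 5), (nat_lit 0), (nat_lit 3)⟩))))))) (BT.node (nat_lit 194) (BT.node (nat_lit 180) (BT.node (nat_lit 173) (BT.node (nat_lit 169) (BT.node (nat_lit 167) (BT.leaf ⟨[(nat_lit 5), (nat_lit 6), (nat_lit 2), (nat_lit 5), (nat_lit 3), (nat_lit 5), (nat_lit 7)], (nat_lit 32), (nat_lit 5), (nat_lit 0), (nat_lit 3)⟩) (BT.node (nat_lit 168) (BT.leaf ⟨[(nat_lit 8), (nat_lit 1), (nat_lit 8), (nat_lit 1), (nat_lit 7), (nat_lit 1), (nat_lit 6)], (nat_lit 104), (nat_lit 1), (nat_lit 0), (nat_lit 3)⟩) (BT.leaf ⟨[(nat_lit 6), (nat_lit 8), (nat_lit 1), (nat_lit 8), (nat_lit 1), (nat_lit 7), (nat_lit 1)], (nat_lit 104), (nat_lit 0), (nat_lit 0), (nat_lit 3)⟩))) (BT.node (nat_lit 171) (BT.node (nat_lit 170) (BT.leaf ⟨[(nat_lit 7), (nat_lit 5), (nat_lit 6), (nat_lit 5), (nat_lit 2), (nat_lit 5), (nat_lit 3)], (nat_lit 107), (nat_lit 0), (nat_lit 0), (nat_lit 3)⟩) (BT.leaf ⟨[(nat_lit 8), (nat_lit 1), (nat_lit 7), (nat_lit 1), (nat_lit 6), (nat_lit 8), (nat_lit 1)], (nat_lit 104), (nat_lit 3), (nat_lit 0), (nat_lit 3)⟩)) (BT.node (nat_lit 172) (BT.leaf ⟨[(nat_lit 6), (nat_lit 1), (nat_lit 8), (nat_lit 1), (nat_lit 6), (nat_lit 8), (nat_lit 1)], (nat_lit 28), (nat_lit 1), (nat_lit 0), (nat_lit 3)⟩) (BT.leaf ⟨[(nat_lit 7), (nat_lit 1), (nat_lit 6), (nat_lit 8), (nat_lit 1), (nat_lit 8), (nat_lit 1)], (nat_lit 104), (nat_lit 5), (nat_lit 0), (nat_lit 3)⟩)))) (BT.node (nat_lit 176) (BT.node (nat_lit 174) (BT.leaf ⟨[(nat_lit 2), (nat_lit 6), (nat_lit 2), (nat_lit 5), (nat_lit 2), (nat_lit 7), (nat_lit 5)], (nat_lit 31), (nat_lit 5), (nat_lit 0), (nat_lit 3)⟩) (BT.node (nat_lit 175) (BT.leaf ⟨[(nat_lit 7), (nat_lit 5), (nat_lit 3), (nat_lit 5), (nat_lit 2), (nat_lit 6), (nat_lit 5)], (nat_lit 109), (nat_lit 4), (nat_lit 0), (nat_lit 3)⟩) (BT.leaf ⟨[(nat_lit 7), (nat_lit 1), (nat_lit 8), (nat_lit 1), (nat_lit 7), (nat_lit 1), (nat_lit 8)], (nat_lit 103), (nat_lit 1), (nat_lit 0), (nat_lit 3)⟩))) (BT.node (nat_lit 178) (BT.node (nat_lit 177) (BT.leaf ⟨[(nat_lit 5), (nat_lit 3), (nat_lit 7), (nat_lit 5), (nat_lit 6), (nat_lit 5), (nat_lit 2)], (nat_lit 107), (nat_lit 5), (nat_lit 0), (nat_lit 3)⟩) (BT.leaf ⟨[(nat_lit 5), (nat_lit 7), (nat_lit 3), (nat_lit 5), (nat_lit 2), (nat_lit 5), (nat_lit 6)], (nat_lit 34), (nat_lit 3), (nat_lit 0), (nat_lit 3)⟩)) (BT.node (nat_lit 179) (BT.leaf ⟨[(nat_lit 2), (nat_lit 5), (nat_lit 7), (nat_lit 2), (nat_lit 5), (nat_lit 2), (nat_lit 6)], (nat_lit 30), (nat_lit 4), (nat_lit 0), (nat_lit 3)⟩) (BT.leaf ⟨[(nat_lit 3), (nat_lit 5), (nat_lit 6), (nat_lit 3), (nat_lit 5), (nat_lit 3), (nat_lit 7)], (nat_lit 106), (nat_lit 1), (nat_lit 0), (nat_lit 3)⟩))))) (BT.node (nat_lit 187) (BT.node (nat_lit 183) (BT.node (nat_lit 181) (BT.leaf ⟨[(nat_lit 2), (nat_lit 5), (nat_lit 7), (nat_lit 5), (nat_lit 3), (nat_lit 5), (nat_lit 6)], (nat_lit 108), (nat_lit 2), (nat_lit 0), (nat_lit 3)⟩) (BT.node (nat_lit 182) (BT.leaf ⟨[(nat_lit 8), (nat_lit 7), (nat_lit 1), (nat_lit 6), (nat_lit 1), (nat_lit 8), (nat_lit 1)], (nat_lit 29), (nat_lit 5), (nat_lit 0), (nat_lit 3)⟩) (BT.leaf ⟨[(nat_lit 8), (nat_lit 1), (nat_lit 8), (nat_lit 7), (nat_lit 1), (nat_lit 6), (nat_lit 1)], (nat_lit 29), (nat_lit 3), (nat_lit 0), (nat_lit 3)⟩))) (BT.node (nat_lit 185) (BT.node (nat_lit 184) (BT.leaf ⟨[(nat_lit 2), (nat_lit 5), (nat_lit 6), (nat_lit 5), (nat_lit 3), (nat_lit 7), (nat_lit 5)], (nat_lit 33), (nat_lit 0), (nat_lit 0), (nat_lit 3)⟩) (BT.leaf ⟨[(nat_lit 3), (nat_lit 8), (nat_lit 5), (nat_lit 2), (nat_lit 7), (nat_lit 5), (nat_lit 8), (nat_lit 7)], (nat_lit 118), (nat_lit 7), (nat_lit 0), (nat_lit 3)⟩)) (BT.node (nat_lit 186) (BT.leaf ⟨[(nat_lit 7), (nat_lit 8), (nat_lit 5), (nat_lit 2), (nat_lit 7), (nat_lit 5), (nat_lit 8), (nat_lit 3)], (nat_lit 44), (nat_lit 5), (nat_lit 0), (nat_lit 3)⟩) (BT.leaf ⟨[(nat_lit 8), (nat_lit 5), (nat_lit 4), (nat_lit 5), (nat_lit 8), (nat_lit 5), (nat_lit 4), (nat_lit 5)], (nat_lit 14), (nat_lit 2), (nat_lit 0), (nat_lit 3)⟩)))) (BT.node (nat_lit 190) (BT.node (nat_lit 188) (BT.leaf ⟨[(nat_lit 5), (nat_lit 6), (nat_lit 1), (nat_lit 7), (nat_lit 5), (nat_lit 8), (nat_lit 1), (nat_lit 8)], (nat_lit 40), (nat_lit 6), (nat_lit 0), (nat_lit 3)⟩) (BT.node (nat_lit 189) (BT.leaf ⟨[(nat_lit 8), (nat_lit 6), (nat_lit 2), (nat_lit 8), (nat_lit 5), (nat_lit 3), (nat_lit 6), (nat_lit 5)], (nat_lit 116), (nat_lit 2), (nat_lit 0), (nat_lit 3)⟩) (BT.leaf ⟨[(nat_lit 3), (nat_lit 7), (nat_lit 8), (nat_lit 5), (nat_lit 7), (nat_lit 2), (nat_lit 5), (nat_lit 8)], (nat_lit 41), (nat_lit 3), (nat_lit 0), (nat_lit 3)⟩))) (BT.node (nat_lit 192) (BT.node (nat_lit 191) (BT.leaf ⟨[(nat_lit 7), (nat_lit 3), (nat_lit 8), (nat_lit 5), (nat_lit 7), (nat_lit 2), (nat_lit 5), (nat_lit 8)], (nat_lit 42), (nat_lit 3), (nat_lit 0), (nat_lit 3)⟩) (BT.leaf ⟨[(nat_lit 6), (nat_lit 5), (nat_lit 8), (nat_lit 6), (nat_lit 2), (nat_lit 8), (nat_lit 5), (nat_lit 3)], (nat_lit 116), (nat_lit 0), (nat_lit 0), (nat_lit 3)⟩)) (BT.node (nat_lit 193) (BT.leaf ⟨[(nat_lit 3), (nat_lit 5), (nat_lit 8), (nat_lit 6), (nat_lit 2), (nat_lit 8), (nat_lit 5), (nat_lit 6)], (nat_lit 119), (nat_lit 7), (nat_lit 0), (nat_lit 3)⟩) (BT.leaf ⟨[(nat_lit 8), (nat_lit 5), (nat_lit 7), (nat_lit 2), (nat_lit 5), (nat_lit 8), (nat_lit 3), (nat_lit 7)], (nat_lit 41), (nat_lit 5), (nat_lit 0), (nat_lit 3)⟩)))))) (BT.node (nat_lit 208) (BT.node (nat_lit 201) (BT.node (nat_lit 197) (BT.node (nat_lit 195) (BT.leaf ⟨[(nat_lit 8), (nat_lit 5), (nat_lit 3), (nat_lit 6), (nat_lit 5), (nat_lit 8), (nat_lit 6), (nat_lit 2)], (nat_lit 116), (nat_lit 5), (nat_lit 0), (nat_lit 3)⟩) (BT.node (nat_lit 196) (BT.leaf ⟨[(nat_lit 1), (nat_lit 7), (nat_lit 5), (nat_lit 3), (nat_lit 6), (nat_lit 1), (nat_lit 5), (nat_lit 2)], (nat_lit 112), (nat_lit 7), (nat_lit 0), (nat_lit 3)⟩) (BT.leaf ⟨[(nat_lit 8), (nat_lit 5), (nat_lit 3), (nat_lit 6), (nat_lit 5), (nat_lit 8), (nat_lit 2), (nat_lit 6)], (nat_lit 117), (nat_lit 5), (nat_lit 0), (nat_lit 3)⟩))) (BT.node (nat_lit 199) (BT.node (nat_lit 198) (BT.leaf ⟨[(nat_lit 3), (nat_lit 5), (nat_lit 1), (nat_lit 7), (nat_lit 2), (nat_lit 5), (nat_lit 6), (nat_lit 1)], (nat_lit 37), (nat_lit 1), (nat_lit 0), (nat_lit 3)⟩) (BT.leaf ⟨[(nat_lit 8), (nat_lit 3), (nat_lit 7), (nat_lit 8), (nat_lit 5), (nat_lit 2), (nat_lit 7), (nat_lit 5)], (nat_lit 44), (nat_lit 3), (nat_lit 0), (nat_lit 3)⟩)) (BT.node (nat_lit 200) (BT.leaf ⟨[(nat_lit 8), (nat_lit 1), (nat_lit 8), (nat_lit 5), (nat_lit 6), (nat_lit 1), (nat_lit 7), (nat_lit 5)], (nat_lit 40), (nat_lit 3), (nat_lit 0), (nat_lit 3)⟩) (BT.leaf ⟨[(nat_lit 1), (nat_lit 3), (nat_lit 5), (nat_lit 1), (nat_lit 7), (nat_lit 2), (nat_lit 5), (nat_lit 6)], (nat_lit 37), (nat_lit 0), (nat_lit 0), (nat_lit 3)⟩)))) (BT.node (nat_lit 204) (BT.node (nat_lit 202) (BT.leaf ⟨[(nat_lit 8), (nat_lit 1), (nat_lit 8), (nat_lit 1), (nat_lit 8), (nat_lit 1), (nat_lit 8), (nat_lit 1)], (nat_lit 12), (nat_lit 1), (nat_lit 0), (nat_lit 3)⟩) (BT.node (nat_lit 203) (BT.leaf ⟨[(nat_lit 7), (nat_lit 5), (nat_lit 3), (nat_lit 6), (nat_lit 1), (nat_lit 5), (nat_lit 2), (nat_lit 1)], (nat_lit 112), (nat_lit 0), (nat_lit 0), (nat_lit 3)⟩) (BT.leaf ⟨[(nat_lit 5), (nat_lit 8), (nat_lit 1), (nat_lit 8), (nat_lit 5), (nat_lit 8), (nat_lit 1), (nat_lit 8)], (nat_lit 13), (nat_lit 2), (nat_lit 0), (nat_lit 3)⟩))) (BT.node (nat_lit 206) (BT.node (nat_lit 205) (BT.leaf ⟨[(nat_lit 7), (nat_lit 1), (nat_lit 2), (nat_lit 5), (nat_lit 1), (nat_lit 6), (nat_lit 3), (nat_lit 5)], (nat_lit 36), (nat_lit 7), (nat_lit 0), (nat_lit 3)⟩) (BT.leaf ⟨[(nat_lit 7), (nat_lit 5), (nat_lit 8), (nat_lit 1), (nat_lit 8), (nat_lit 5), (nat_lit 6), (nat_lit 1)], (nat_lit 40), (nat_lit 1), (nat_lit 0), (nat_lit 3)⟩)) (BT.node (nat_lit 207) (BT.leaf ⟨[(nat_lit 1), (nat_lit 6), (nat_lit 5), (nat_lit 2), (nat_lit 7), (nat_lit 1), (nat_lit 5), (nat_lit 3)], (nat_lit 111), (nat_lit 7), (nat_lit 0), (nat_lit 3)⟩) (BT.leaf ⟨[(nat_lit 5), (nat_lit 8), (nat_lit 1), (nat_lit 8), (nat_lit 5), (nat_lit 6), (nat_lit 1), (nat_lit 7)], (nat_lit 40), (nat_lit 2), (nat_lit 0), (nat_lit 3)⟩))))) (BT.node (nat_lit 215) (BT.node (nat_lit 211) (BT.node (nat_lit 209) (BT.leaf ⟨[(nat_lit 8), (nat_lit 5), (nat_lit 8), (nat_lit 1), (nat_lit 8), (nat_lit 5), (nat_lit 8), (nat_lit 1)], (nat_lit 13), (nat_lit 1), (nat_lit 0), (nat_lit 3)⟩) (BT.node (nat_lit 210) (BT.leaf ⟨[(nat_lit 1), (nat_lit 7), (nat_lit 4), (nat_lit 1), (nat_lit 4), (nat_lit 1), (nat_lit 8), (nat_lit 6)], (nat_lit 122), (nat_lit 2), (nat_lit 0), (nat_lit 3)⟩) (BT.leaf ⟨[(nat_lit 1), (nat_lit 4), (nat_lit 1), (nat_lit 7), (nat_lit 8), (nat_lit 1), (nat_lit 7), (nat_lit 4)], (nat_lit 123), (nat_lit 5), (nat_lit 0), (nat_lit 3)⟩))) (BT.node (nat_lit 213) (BT.node (nat_lit 212) (BT.leaf ⟨[(nat_lit 8), (nat_lit 1), (nat_lit 7), (nat_lit 4), (nat_lit 1), (nat_lit 4), (nat_lit 1), (nat_lit 7)], (nat_lit 123), (nat_lit 1), (nat_lit 0), (nat_lit 3)⟩) (BT.leaf ⟨[(nat_lit 8), (nat_lit 1), (nat_lit 4), (nat_lit 6), (nat_lit 1), (nat_lit 7), (nat_lit 4), (nat_lit 1)], (nat_lit 49), (nat_lit 7), (nat_lit 0), (nat_lit 3)⟩)) (BT.node (nat_lit 214) (BT.leaf ⟨[(nat_lit 7), (nat_lit 3), (nat_lit 8), (nat_lit 5), (nat_lit 2), (nat_lit 7), (nat_lit 5), (nat_lit 8)], (nat_lit 118), (nat_lit 6), (nat_lit 0), (nat_lit 3)⟩) (BT.leaf ⟨[(nat_lit 5), (nat_lit 4), (nat_lit 5), (nat_lit 8), (nat_lit 5), (nat_lit 4), (nat_lit 5), (nat_lit 8)], (nat_lit 14), (nat_lit 3), (nat_lit 0), (nat_lit 3)⟩)))) (BT.node (nat_lit 218) (BT.node (nat_lit 216) (BT.leaf ⟨[(nat_lit 8), (nat_lit 1), (nat_lit 8), (nat_lit 5), (nat_lit 8), (nat_lit 1), (nat_lit 8), (nat_lit 5)], (nat_lit 13), (nat_lit 3), (nat_lit 0), (nat_lit 3)⟩) (BT.node (nat_lit 217) (BT.leaf ⟨[(nat_lit 2), (nat_lit 8), (nat_lit 5), (nat_lit 3), (nat_lit 6), (nat_lit 5), (nat_lit 8), (nat_lit 6)], (nat_lit 116), (nat_lit 4), (nat_lit 0), (nat_lit 3)⟩) (BT.leaf ⟨[(nat_lit 8), (nat_lit 7), (nat_lit 3), (nat_lit 8), (nat_lit 5), (nat_lit 2), (nat_lit 7), (nat_lit 5)], (nat_lit 118), (nat_lit 5), (nat_lit 0), (nat_lit 3)⟩))) (BT.node (nat_lit 220) (BT.node (nat_lit 219) (BT.leaf ⟨[(nat_lit 1), (nat_lit 8), (nat_lit 1), (nat_lit 8), (nat_lit 1), (nat_lit 8), (nat_lit 1), (nat_lit 8)], (nat_lit 12), (nat_lit 0), (nat_lit 0), (nat_lit 3)⟩) (BT.leaf ⟨[(nat_lit 1), (nat_lit 6), (nat_lit 3), (nat_lit 5), (nat_lit 7), (nat_lit 1), (nat_lit 2), (nat_lit 5)], (nat_lit 36), (nat_lit 3), (nat_lit 0), (nat_lit 3)⟩)) (BT.node (nat_lit 221) (BT.leaf ⟨[(nat_lit 3), (nat_lit 5), (nat_lit 6), (nat_lit 2), (nat_lit 5), (nat_lit 7), (nat_lit 5)], (nat_lit 108), (nat_lit 6), (nat_lit 0), (nat_lit 3)⟩) (BT.leaf ⟨[(nat_lit 8), (nat_lit 5), (nat_lit 7), (nat_lit 2), (nat_lit 5), (nat_lit 8), (nat_lit 7), (nat_lit 3)], (nat_lit 42), (nat_lit 5), (nat_lit 0), (nat_lit 3)⟩))))))))) (BT.node (nat_lit 333) (BT.node (nat_lit 277) (BT.node (nat_lit 249) (BT.node (nat_lit 235) (BT.node (nat_lit 228) (BT.node (nat_lit 225) (BT.node (nat_lit 223) (BT.leaf ⟨[(nat_lit 6), (nat_lit 2), (nat_lit 8), (nat_lit 5), (nat_lit 3), (nat_lit 6), (nat_lit 5), (nat_lit 8)], (nat_lit 116), (nat_lit 3), (nat_lit 0), (nat_lit 3)⟩) (BT.node (nat_lit 224) (BT.leaf ⟨[(nat_lit 6), (nat_lit 1), (nat_lit 7), (nat_lit 5), (nat_lit 8), (nat_lit 1), (nat_lit 8), (nat_lit 5)], (nat_lit 40), (nat_lit 7), (nat_lit 0), (nat_lit 3)⟩) (BT.leaf ⟨[(nat_lit 1), (nat_lit 7), (nat_lit 4), (nat_lit 1), (nat_lit 8), (nat_lit 1), (nat_lit 4), (nat_lit 6)], (nat_lit 49), (nat_lit 3), (nat_lit 0), (nat_lit 3)⟩))) (BT.node (nat_lit 226) (BT.leaf ⟨[(nat_lit 8), (nat_lit 5), (nat_lit 6), (nat_lit 3), (nat_lit 5), (nat_lit 8), (nat_lit 2), (nat_lit 6)], (nat_lit 43), (nat_lit 2), (nat_lit 0), (nat_lit 3)⟩) (BT.node (nat_lit 227) (BT.leaf ⟨[(nat_lit 8), (nat_lit 5), (nat_lit 7), (nat_lit 5), (nat_lit 7), (nat_lit 5), (nat_lit 8), (nat_lit 6)], (nat_lit 120), (nat_lit 2), (nat_lit 0), (nat_lit 3)⟩) (BT.leaf ⟨[(nat_lit 7), (nat_lit 1), (nat_lit 5), (nat_lit 3), (nat_lit 1), (nat_lit 6), (nat_lit 5), (nat_lit 2)], (nat_lit 111), (nat_lit 3), (nat_lit 0), (nat_lit 3)⟩)))) (BT.node (nat_lit 231) (BT.node (nat_lit 229) (BT.leaf ⟨[(nat_lit 7), (nat_lit 8), (nat_lit 1), (nat_lit 4), (nat_lit 1), (nat_lit 4), (nat_lit 6), (nat_lit 1)], (nat_lit 47), (nat_lit 6), (nat_lit 0), (nat_lit 3)⟩) (BT.node (nat_lit 230) (BT.leaf ⟨[(nat_lit 8), (nat_lit 2), (nat_lit 6), (nat_lit 8), (nat_lit 5), (nat_lit 3), (nat_lit 6), (nat_lit 5)], (nat_lit 117), (nat_lit 2), (nat_lit 0), (nat_lit 3)⟩) (BT.leaf ⟨[(nat_lit 8), (nat_lit 5), (nat_lit 6), (nat_lit 1), (nat_lit 7), (nat_lit 5), (nat_lit 8), (nat_lit 1)], (nat_lit 40), (nat_lit 5), (nat_lit 0), (nat_lit 3)⟩))) (BT.node (nat_lit 233) (BT.node (nat_lit 232) (BT.leaf ⟨[(nat_lit 3), (nat_lit 7), (nat_lit 8), (nat_lit 5), (nat_lit 2), (nat_lit 7), (nat_lit 5), (nat_lit 8)], (nat_lit 44), (nat_lit 4), (nat_lit 0), (nat_lit 3)⟩) (BT.leaf ⟨[(nat_lit 6), (nat_lit 5), (nat_lit 2), (nat_lit 7), (nat_lit 1), (nat_lit 5), (nat_lit 3), (nat_lit 1)], (nat_lit 111), (nat_lit 0), (nat_lit 0), (nat_lit 3)⟩)) (BT.node (nat_lit 234) (BT.leaf ⟨[(nat_lit 6), (nat_lit 1), (nat_lit 7), (nat_lit 5), (nat_lit 6), (nat_lit 1), (nat_lit 7), (nat_lit 5)], (nat_lit 39), (nat_lit 3), (nat_lit 0), (nat_lit 3)⟩) (BT.leaf ⟨[(nat_lit 6), (nat_lit 2), (nat_lit 5), (nat_lit 3), (nat_lit 5), (nat_lit 7), (nat_lit 5)], (nat_lit 32), (nat_lit 6), (nat_lit 0), (nat_lit 3)⟩))))) (BT.node (nat_lit 242) (BT.node (nat_lit 238) (BT.node (nat_lit 236) (BT.leaf ⟨[(nat_lit 3), (nat_lit 8), (nat_lit 5), (nat_lit 7), (nat_lit 2), (nat_lit 5), (nat_lit 8), (nat_lit 7)], (nat_lit 42), (nat_lit 4), (nat_lit 0), (nat_lit 3)⟩) (BT.node (nat_lit 237) (BT.leaf ⟨[(nat_lit 6), (nat_lit 1), (nat_lit 7), (nat_lit 4), (nat_lit 1), (nat_lit 8), (nat_lit 1), (nat_lit 4)], (nat_lit 49), (nat_lit 2), (nat_lit 0), (nat_lit 3)⟩) (BT.leaf ⟨[(nat_lit 2), (nat_lit 1), (nat_lit 7), (nat_lit 5), (nat_lit 3), (nat_lit 6), (nat_lit 1), (nat_lit 5)], (nat_lit 112), (nat_lit 6), (nat_lit 0), (nat_lit 3)⟩))) (BT.node (nat_lit 240) (BT.node (nat_lit 239) (BT.leaf ⟨[(nat_lit 4), (nat_lit 1), (nat_lit 8), (nat_lit 1), (nat_lit 4), (nat_lit 6), (nat_lit 1), (nat_lit 7)], (nat_lit 49), (nat_lit 5), (nat_lit 0), (nat_lit 3)⟩) (BT.leaf ⟨[(nat_lit 4), (nat_lit 7), (nat_lit 1), (nat_lit 6), (nat_lit 4), (nat_lit 7), (nat_lit 1), (nat_lit 6)], (nat_lit 51), (nat_lit 2), (nat_lit 0), (nat_lit 3)⟩)) (BT.node (nat_lit 241) (BT.leaf ⟨[(nat_lit 2), (nat_lit 5), (nat_lit 1), (nat_lit 6), (nat_lit 3), (nat_lit 5), (nat_lit 7), (nat_lit 1)], (nat_lit 36), (nat_lit 1), (nat_lit 0), (nat_lit 3)⟩) (BT.leaf ⟨[(nat_lit 6), (nat_lit 8), (nat_lit 5), (nat_lit 6), (nat_lit 3), (nat_lit 5), (nat_lit 8), (nat_lit 2)], (nat_lit 43), (nat_lit 1), (nat_lit 0), (nat_lit 3)⟩)))) (BT.node (nat_lit 245) (BT.node (nat_lit 243) (BT.leaf ⟨[(nat_lit 2), (nat_lit 8), (nat_lit 5), (nat_lit 6), (nat_lit 3), (nat_lit 5), (nat_lit 8), (nat_lit 6)], (nat_lit 119), (nat_lit 3), (nat_lit 0), (nat_lit 3)⟩) (BT.node (nat_lit 244) (BT.leaf ⟨[(nat_lit 5), (nat_lit 6), (nat_lit 3), (nat_lit 5), (nat_lit 8), (nat_lit 6), (nat_lit 2), (nat_lit 8)], (nat_lit 119), (nat_lit 5), (nat_lit 0), (nat_lit 3)⟩) (BT.leaf ⟨[(nat_lit 2), (nat_lit 6), (nat_lit 8), (nat_lit 5), (nat_lit 3), (nat_lit 6), (nat_lit 5), (nat_lit 8)], (nat_lit 117), (nat_lit 3), (nat_lit 0), (nat_lit 3)⟩))) (BT.node (nat_lit 247) (BT.node (nat_lit 246) (BT.leaf ⟨[(nat_lit 5), (nat_lit 7), (nat_lit 2), (nat_lit 5), (nat_lit 8), (nat_lit 7), (nat_lit 3), (nat_lit 8)], (nat_lit 42), (nat_lit 6), (nat_lit 0), (nat_lit 3)⟩) (BT.leaf ⟨[(nat_lit 5), (nat_lit 2), (nat_lit 1), (nat_lit 8), (nat_lit 5), (nat_lit 8), (nat_lit 5), (nat_lit 2), (nat_lit 5), (nat_lit 8), (nat_lit 5), (nat_lit 3), (nat_lit 3), (nat_lit 5), (nat_lit 8)], (nat_lit 142), (nat_lit 13), (nat_lit 0), (nat_lit 3)⟩)) (BT.node (nat_lit 248) (BT.leaf ⟨[(nat_lit 5), (nat_lit 8), (nat_lit 5), (nat_lit 3), (nat_lit 5), (nat_lit 8), (nat_lit 5), (nat_lit 8), (nat_lit 1), (nat_lit 3), (nat_lit 5), (nat_lit 8), (nat_lit 5), (nat_lit 2), (nat_lit 2)], (nat_lit 67), (nat_lit 6), (nat_lit 0), (nat_lit 3)⟩) (BT.leaf ⟨[(nat_lit 8), (nat_lit 5), (nat_lit 2), (nat_lit 1), (nat_lit 8), (nat_lit 5), (nat_lit 8), (nat_lit 5), (nat_lit 2), (nat_lit 5), (nat_lit 8), (nat_lit 5), (nat_lit 3), (nat_lit 3), (nat_lit 5)], (nat_lit 142), (nat_lit 12), (nat_lit 0), (nat_lit 3)⟩)))))) (BT.node (nat_lit 263) (BT.node (nat_lit 256) (BT.node (nat_lit 252) (BT.node (nat_lit 250) (BT.leaf ⟨[(nat_lit 8), (nat_lit 5), (nat_lit 2), (nat_lit 2), (nat_lit 5), (nat_lit 8), (nat_lit 5), (nat_lit 3), (nat_lit 5), (nat_lit 8), (nat_lit 5), (nat_lit 8), (nat_lit 1), (nat_lit 3), (nat_lit 5)], (nat_lit 67), (nat_lit 2), (nat_lit 0), (nat_lit 3)⟩) (BT.node (nat_lit 251) (BT.leaf ⟨[(nat_lit 5), (nat_lit 2), (nat_lit 5), (nat_lit 8), (nat_lit 5), (nat_lit 3), (nat_lit 3), (nat_lit 5), (nat_lit 8), (nat_lit 5), (nat_lit 2), (nat_lit 1), (nat_lit 8), (nat_lit 5), (nat_lit 8)], (nat_lit 142), (nat_lit 4), (nat_lit 0), (nat_lit 3)⟩) (BT.leaf ⟨[(nat_lit 8), (nat_lit 7), (nat_lit 3), (nat_lit 8), (nat_lit 5), (nat_lit 7), (nat_lit 2), (nat_lit 5)], (nat_lit 42), (nat_lit 2), (nat_lit 0), (nat_lit 3)⟩))) (BT.node (nat_lit 254) (BT.node (nat_lit 253) (BT.leaf ⟨[(nat_lit 8), (nat_lit 5), (nat_lit 8), (nat_lit 1), (nat_lit 3), (nat_lit 5), (nat_lit 8), (nat_lit 5), (nat_lit 2), (nat_lit 2), (nat_lit 5), (nat_lit 8), (nat_lit 5), (nat_lit 3), (nat_lit 5)], (nat_lit 67), (nat_lit 11), (nat_lit 0), (nat_lit 3)⟩) (BT.leaf ⟨[(nat_lit 8), (nat_lit 5), (nat_lit 3), (nat_lit 3), (nat_lit 5), (nat_lit 8), (nat_lit 5), (nat_lit 2), (nat_lit 1), (nat_lit 8), (nat_lit 5), (nat_lit 8), (nat_lit 5), (nat_lit 2), (nat_lit 5)], (nat_lit 142), (nat_lit 7), (nat_lit 0), (nat_lit 3)⟩)) (BT.node (nat_lit 255) (BT.leaf ⟨[(nat_lit 3), (nat_lit 5), (nat_lit 3), (nat_lit 6), (nat_lit 5), (nat_lit 3), (nat_lit 7)], (nat_lit 105), (nat_lit 4), (nat_lit 0), (nat_lit 3)⟩) (BT.leaf ⟨[(nat_lit 5), (nat_lit 3), (nat_lit 7), (nat_lit 5), (nat_lit 2), (nat_lit 5), (nat_lit 6)], (nat_lit 33), (nat_lit 3), (nat_lit 0), (nat_lit 3)⟩)))) (BT.node (nat_lit 259) (BT.node (nat_lit 257) (BT.leaf ⟨[(nat_lit 5), (nat_lit 7), (nat_lit 3), (nat_lit 5), (nat_lit 6), (nat_lit 5), (nat_lit 2)], (nat_lit 35), (nat_lit 1), (nat_lit 0), (nat_lit 3)⟩) (BT.node (nat_lit 258) (BT.leaf ⟨[(nat_lit 7), (nat_lit 5), (nat_lit 2), (nat_lit 6), (nat_lit 5), (nat_lit 3), (nat_lit 5)], (nat_lit 110), (nat_lit 1), (nat_lit 0), (nat_lit 3)⟩) (BT.leaf ⟨[(nat_lit 2), (nat_lit 7), (nat_lit 1), (nat_lit 5), (nat_lit 3), (nat_lit 1), (nat_lit 6), (nat_lit 5)], (nat_lit 111), (nat_lit 2), (nat_lit 0), (nat_lit 3)⟩))) (BT.node (nat_lit 261) (BT.node (nat_lit 260) (BT.leaf ⟨[(nat_lit 1), (nat_lit 7), (nat_lit 1), (nat_lit 6), (nat_lit 8), (nat_lit 1), (nat_lit 8)], (nat_lit 104), (nat_lit 4), (nat_lit 0), (nat_lit 3)⟩) (BT.leaf ⟨[(nat_lit 3), (nat_lit 5), (nat_lit 7), (nat_lit 5), (nat_lit 6), (nat_lit 2), (nat_lit 5)], (nat_lit 32), (nat_lit 2), (nat_lit 0), (nat_lit 3)⟩)) (BT.node (nat_lit 262) (BT.leaf ⟨[(nat_lit 6), (nat_lit 5), (nat_lit 7), (nat_lit 5), (nat_lit 3), (nat_lit 5), (nat_lit 2)], (nat_lit 109), (nat_lit 2), (nat_lit 0), (nat_lit 3)⟩) (BT.leaf ⟨[(nat_lit 1), (nat_lit 7), (nat_lit 2), (nat_lit 5), (nat_lit 6), (nat_lit 1), (nat_lit 3), (nat_lit 5)], (nat_lit 37), (nat_lit 3), (nat_lit 0), (nat_lit 3)⟩))))) (BT.node (nat_lit 270) (BT.node (nat_lit 266) (BT.node (nat_lit 264) (BT.leaf ⟨[(nat_lit 5), (nat_lit 6), (nat_lit 1), (nat_lit 3), (nat_lit 5), (nat_lit 1), (nat_lit 7), (nat_lit 2)], (nat_lit 37), (nat_lit 6), (nat_lit 0), (nat_lit 3)⟩) (BT.node (nat_lit 265) (BT.leaf ⟨[(nat_lit 5), (nat_lit 8), (nat_lit 6), (nat_lit 2), (nat_lit 8), (nat_lit 5), (nat_lit 3), (nat_lit 6)], (nat_lit 116), (nat_lit 1), (nat_lit 0), (nat_lit 3)⟩) (BT.leaf ⟨[(nat_lit 2), (nat_lit 5), (nat_lit 3), (nat_lit 7), (nat_lit 5), (nat_lit 6), (nat_lit 5)], (nat_lit 107), (nat_lit 4), (nat_lit 0), (nat_lit 3)⟩))) (BT.node (nat_lit 268) (BT.node (nat_lit 267) (BT.leaf ⟨[(nat_lit 7), (nat_lit 8), (nat_lit 5), (nat_lit 6), (nat_lit 5), (nat_lit 6), (nat_lit 5), (nat_lit 8)], (nat_lit 45), (nat_lit 6), (nat_lit 0), (nat_lit 3)⟩) (BT.leaf ⟨[(nat_lit 8), (nat_lit 5), (nat_lit 2), (nat_lit 5), (nat_lit 8), (nat_lit 5), (nat_lit 3), (nat_lit 3), (nat_lit 5), (nat_lit 8), (nat_lit 5), (nat_lit 2), (nat_lit 1), (nat_lit 8), (nat_lit 5)], (nat_lit 142), (nat_lit 3), (nat_lit 0), (nat_lit 3)⟩)) (BT.node (nat_lit 269) (BT.leaf ⟨[(nat_lit 5), (nat_lit 2), (nat_lit 7), (nat_lit 1), (nat_lit 5), (nat_lit 3), (nat_lit 1), (nat_lit 6)], (nat_lit 111), (nat_lit 1), (nat_lit 0), (nat_lit 3)⟩) (BT.leaf ⟨[(nat_lit 5), (nat_lit 6), (nat_lit 5), (nat_lit 7), (nat_lit 3), (nat_lit 5), (nat_lit 2)], (nat_lit 34), (nat_lit 1), (nat_lit 0), (nat_lit 3)⟩)))) (BT.node (nat_lit 273) (BT.node (nat_lit 271) (BT.leaf ⟨[(nat_lit 8), (nat_lit 3), (nat_lit 7), (nat_lit 8), (nat_lit 5), (nat_lit 7), (nat_lit 2), (nat_lit 5)], (nat_lit 41), (nat_lit 2), (nat_lit 0), (nat_lit 3)⟩) (BT.node (nat_lit 272) (BT.leaf ⟨[(nat_lit 7), (nat_lit 6)], (nat_lit 70), (nat_lit 1), (nat_lit 0), (nat_lit 5)⟩) (BT.leaf ⟨[(nat_lit 2), (nat_lit 3)], (nat_lit 73), (nat_lit 0), (nat_lit 0), (nat_lit 5)⟩))) (BT.node (nat_lit 275) (BT.node (nat_lit 274) (BT.leaf ⟨[(nat_lit 3), (nat_lit 2)], (nat_lit 73), (nat_lit 1), (nat_lit 0), (nat_lit 5)⟩) (BT.leaf ⟨[(nat_lit 1), (nat_lit 3), (nat_lit 1), (nat_lit 2)], (nat_lit 1), (nat_lit 2), (nat_lit 0), (nat_lit 5)⟩)) (BT.node (nat_lit 276) (BT.leaf ⟨[(nat_lit 1), (nat_lit 1)], (nat_lit 56), (nat_lit 0), (nat_lit 0), (nat_lit 5)⟩) (BT.leaf ⟨[(nat_lit 8), (nat_lit 8)], (nat_lit 57), (nat_lit 0), (nat_lit 0), (nat_lit 5)⟩))))))) (BT.node (nat_lit 305) (BT.node (nat_lit 291) (BT.node (nat_lit 284) (BT.node (nat_lit 280) (BT.node (nat_lit 278) (BT.leaf ⟨[(nat_lit 2), (nat_lit 4), (nat_lit 2), (nat_lit 4)], (nat_lit 4), (nat_lit 0), (nat_lit 0), (nat_lit 4)⟩) (BT.node (nat_lit 279) (BT.leaf ⟨[(nat_lit 3), (nat_lit 2)], (nat_lit 73), (nat_lit 1), (nat_lit 0), (nat_lit 4)⟩) (BT.leaf ⟨[(nat_lit 6), (nat_lit 7)], (nat_lit 70), (nat_lit 0), (nat_lit 0), (nat_lit 5)⟩))) (BT.node (nat_lit 282) (BT.node (nat_lit 281) (BT.leaf ⟨[(nat_lit 7), (nat_lit 7), (nat_lit 7)], (nat_lit 90), (nat_lit 0), (nat_lit 0), (nat_lit 4)⟩) (BT.leaf ⟨[(nat_lit 8), (nat_lit 7), (nat_lit 8), (nat_lit 7)], (nat_lit 92), (nat_lit 0), (nat_lit 0), (nat_lit 4)⟩)) (BT.node (nat_lit 283) (BT.leaf ⟨[(nat_lit 8), (nat_lit 8)], (nat_lit 57), (nat_lit 0), (nat_lit 0), (nat_lit 4)⟩) (BT.leaf ⟨[(nat_lit 6), (nat_lit 7)], (nat_lit 70), (nat_lit 0), (nat_lit 0), (nat_lit 4)⟩)))) (BT.node (nat_lit 287) (BT.node (nat_lit 285) (BT.leaf ⟨[(nat_lit 3), (nat_lit 6), (nat_lit 2), (nat_lit 7)], (nat_lit 91), (nat_lit 3), (nat_lit 0), (nat_lit 4)⟩) (BT.node (nat_lit 286) (BT.leaf ⟨[(nat_lit 2), (nat_lit 3)], (nat_lit 73), (nat_lit 0), (nat_lit 0), (nat_lit 4)⟩) (BT.leaf ⟨[(nat_lit 4), (nat_lit 4)], (nat_lit 53), (nat_lit 0), (nat_lit 0), (nat_lit 5)⟩))) (BT.node (nat_lit 289) (BT.node (nat_lit 288) (BT.leaf ⟨[(nat_lit 5), (nat_lit 5)], (nat_lit 54), (nat_lit 0), (nat_lit 0), (nat_lit 5)⟩) (BT.leaf ⟨[(nat_lit 8), (nat_lit 4), (nat_lit 1), (nat_lit 4)], (nat_lit 2), (nat_lit 2), (nat_lit 0), (nat_lit 4)⟩)) (BT.node (nat_lit 290) (BT.leaf ⟨[(nat_lit 1), (nat_lit 8), (nat_lit 7), (nat_lit 1), (nat_lit 8), (nat_lit 1), (nat_lit 7)], (nat_lit 103), (nat_lit 6), (nat_lit 0), (nat_lit 4)⟩) (BT.leaf ⟨[(nat_lit 1), (nat_lit 1)], (nat_lit 56), (nat_lit 0), (nat_lit 0), (nat_lit 4)⟩))))) (BT.node (nat_lit 298) (BT.node (nat_lit 294) (BT.node (nat_lit 292) (BT.leaf ⟨[(nat_lit 1), (nat_lit 2), (nat_lit 1), (nat_lit 3)], (nat_lit 1), (nat_lit 0), (nat_lit 0), (nat_lit 5)⟩) (BT.node (nat_lit 293) (BT.leaf ⟨[(nat_lit 4), (nat_lit 1), (nat_lit 4), (nat_lit 8)], (nat_lit 2), (nat_lit 3), (nat_lit 0), (nat_lit 5)⟩) (BT.leaf ⟨[(nat_lit 2), (nat_lit 6), (nat_lit 3), (nat_lit 7)], (nat_lit 16), (nat_lit 0), (nat_lit 0), (nat_lit 4)⟩))) (BT.node (nat_lit 296) (BT.node (nat_lit 295) (BT.leaf ⟨[(nat_lit 1), (nat_lit 7), (nat_lit 1), (nat_lit 7), (nat_lit 1), (nat_lit 7)], (nat_lit 95), (nat_lit 1), (nat_lit 0), (nat_lit 4)⟩) (BT.leaf ⟨[(nat_lit 3), (nat_lit 7), (nat_lit 2), (nat_lit 6)], (nat_lit 16), (nat_lit 2), (nat_lit 0), (nat_lit 4)⟩)) (BT.node (nat_lit 297) (BT.leaf ⟨[(nat_lit 8), (nat_lit 3), (nat_lit 8), (nat_lit 2)], (nat_lit 5), (nat_lit 1), (nat_lit 0), (nat_lit 5)⟩) (BT.leaf ⟨[(nat_lit 6), (nat_lit 3), (nat_lit 7), (nat_lit 2)], (nat_lit 16), (nat_lit 1), (nat_lit 0), (nat_lit 5)⟩)))) (BT.node (nat_lit 301) (BT.node (nat_lit 299) (BT.leaf ⟨[(nat_lit 3), (nat_lit 4), (nat_lit 3), (nat_lit 4)], (nat_lit 79), (nat_lit 1), (nat_lit 0), (nat_lit 4)⟩) (BT.node (nat_lit 300) (BT.leaf ⟨[(nat_lit 8), (nat_lit 6), (nat_lit 8), (nat_lit 6)], (nat_lit 17), (nat_lit 1), (nat_lit 0), (nat_lit 4)⟩) (BT.leaf ⟨[(nat_lit 1), (nat_lit 8), (nat_lit 6), (nat_lit 1), (nat_lit 8), (nat_lit 6)], (nat_lit 96), (nat_lit 2), (nat_lit 0), (nat_lit 4)⟩))) (BT.node (nat_lit 303) (BT.node (nat_lit 302) (BT.leaf ⟨[(nat_lit 1), (nat_lit 7), (nat_lit 1), (nat_lit 7), (nat_lit 1), (nat_lit 7)], (nat_lit 95), (nat_lit 1), (nat_lit 0), (nat_lit 5)⟩) (BT.leaf ⟨[(nat_lit 1), (nat_lit 3), (nat_lit 1), (nat_lit 2)], (nat_lit 1), (nat_lit 2), (nat_lit 0), (nat_lit 4)⟩)) (BT.node (nat_lit 304) (BT.leaf ⟨[(nat_lit 3), (nat_lit 1), (nat_lit 2), (nat_lit 1)], (nat_lit 1), (nat_lit 3), (nat_lit 0), (nat_lit 4)⟩) (BT.leaf ⟨[(nat_lit 8), (nat_lit 2), (nat_lit 8), (nat_lit 3)], (nat_lit 5), (nat_lit 3), (nat_lit 0), (nat_lit 5)⟩)))))) (BT.node (nat_lit 319) (BT.node (nat_lit 312) (BT.node (nat_lit 308) (BT.node (nat_lit 306) (BT.leaf ⟨[(nat_lit 7), (nat_lit 2), (nat_lit 6), (nat_lit 3)], (nat_lit 16), (nat_lit 3), (nat_lit 0), (nat_lit 5)⟩) (BT.node (nat_lit 307) (BT.leaf ⟨[(nat_lit 6), (nat_lit 2), (nat_lit 7), (nat_lit 3)], (nat_lit 91), (nat_lit 0), (nat_lit 0), (nat_lit 5)⟩) (BT.leaf ⟨[(nat_lit 7), (nat_lit 3), (nat_lit 6), (nat_lit 2)], (nat_lit 91), (nat_lit 2), (nat_lit 0), (nat_lit 5)⟩))) (BT.node (nat_lit 310) (BT.node (nat_lit 309) (BT.leaf ⟨[(nat_lit 2), (nat_lit 7), (nat_lit 3), (nat_lit 6)], (nat_lit 91), (nat_lit 1), (nat_lit 0), (nat_lit 4)⟩) (BT.leaf ⟨[(nat_lit 1), (nat_lit 6), (nat_lit 1), (nat_lit 6), (nat_lit 1), (nat_lit 6)], (nat_lit 20), (nat_lit 0), (nat_lit 0), (nat_lit 4)⟩)) (BT.node (nat_lit 311) (BT.leaf ⟨[(nat_lit 6), (nat_lit 3), (nat_lit 5), (nat_lit 7), (nat_lit 2), (nat_lit 5)], (nat_lit 24), (nat_lit 2), (nat_lit 0), (nat_lit 4)⟩) (BT.leaf ⟨[(nat_lit 1), (nat_lit 2), (nat_lit 1), (nat_lit 3)], (nat_lit 1), (nat_lit 0), (nat_lit 0), (nat_lit 4)⟩)))) (BT.node (nat_lit 315) (BT.node (nat_lit 313) (BT.leaf ⟨[(nat_lit 1), (nat_lit 4), (nat_lit 8), (nat_lit 4)], (nat_lit 2), (nat_lit 0), (nat_lit 0), (nat_lit 5)⟩) (BT.node (nat_lit 314) (BT.leaf ⟨[(nat_lit 5), (nat_lit 1), (nat_lit 5), (nat_lit 1)], (nat_lit 3), (nat_lit 1), (nat_lit 0), (nat_lit 4)⟩) (BT.leaf ⟨[(nat_lit 5), (nat_lit 5)], (nat_lit 54), (nat_lit 0), (nat_lit 0), (nat_lit 4)⟩))) (BT.node (nat_lit 317) (BT.node (nat_lit 316) (BT.leaf ⟨[(nat_lit 3), (nat_lit 3), (nat_lit 3)], (nat_lit 75), (nat_lit 0), (nat_lit 0), (nat_lit 4)⟩) (BT.leaf ⟨[(nat_lit 2), (nat_lit 7), (nat_lit 5), (nat_lit 3), (nat_lit 6), (nat_lit 5)], (nat_lit 99), (nat_lit 2), (nat_lit 0), (nat_lit 4)⟩)) (BT.node (nat_lit 318) (BT.leaf ⟨[(nat_lit 7), (nat_lit 2), (nat_lit 5), (nat_lit 3), (nat_lit 6), (nat_lit 5)], (nat_lit 23), (nat_lit 5), (nat_lit 0), (nat_lit 4)⟩) (BT.leaf ⟨[(nat_lit 5), (nat_lit 2), (nat_lit 5), (nat_lit 2), (nat_lit 5), (nat_lit 2)], (nat_lit 9), (nat_lit 1), (nat_lit 0), (nat_lit 5)⟩))))) (BT.node (nat_lit 326) (BT.node (nat_lit 322) (BT.node (nat_lit 320) (BT.leaf ⟨[(nat_lit 8), (nat_lit 4), (nat_lit 1), (nat_lit 4)], (nat_lit 2), (nat_lit 2), (nat_lit 0), (nat_lit 5)⟩) (BT.node (nat_lit 321) (BT.leaf ⟨[(nat_lit 5), (nat_lit 1), (nat_lit 5), (nat_lit 1)], (nat_lit 3), (nat_lit 1), (nat_lit 0), (nat_lit 5)⟩) (BT.leaf ⟨[(nat_lit 5), (nat_lit 4), (nat_lit 5), (nat_lit 4), (nat_lit 5), (nat_lit 4)], (nat_lit 10), (nat_lit 1), (nat_lit 0), (nat_lit 4)⟩))) (BT.node (nat_lit 324) (BT.node (nat_lit 323) (BT.leaf ⟨[(nat_lit 1), (nat_lit 7), (nat_lit 8), (nat_lit 1), (nat_lit 7), (nat_lit 8)], (nat_lit 21), (nat_lit 0), (nat_lit 0), (nat_lit 4)⟩) (BT.leaf ⟨[(nat_lit 1), (nat_lit 7), (nat_lit 8), (nat_lit 1), (nat_lit 7), (nat_lit 8)], (nat_lit 21), (nat_lit 0), (nat_lit 0), (nat_lit 5)⟩)) (BT.node (nat_lit 325) (BT.leaf ⟨[(nat_lit 1), (nat_lit 4), (nat_lit 8), (nat_lit 4)], (nat_lit 2), (nat_lit 0), (nat_lit 0), (nat_lit 4)⟩) (BT.leaf ⟨[(nat_lit 3), (nat_lit 1), (nat_lit 2), (nat_lit 1)], (nat_lit 1), (nat_lit 3), (nat_lit 0), (nat_lit 5)⟩)))) (BT.node (nat_lit 329) (BT.node (nat_lit 327) (BT.leaf ⟨[(nat_lit 2), (nat_lit 1), (nat_lit 3), (nat_lit 1)], (nat_lit 1), (nat_lit 1), (nat_lit 0), (nat_lit 5)⟩) (BT.node (nat_lit 328) (BT.leaf ⟨[(nat_lit 8), (nat_lit 2), (nat_lit 8), (nat_lit 3)], (nat_lit 5), (nat_lit 3), (nat_lit 0), (nat_lit 4)⟩) (BT.leaf ⟨[(nat_lit 1), (nat_lit 5), (nat_lit 1), (nat_lit 5)], (nat_lit 3), (nat_lit 0), (nat_lit 0), (nat_lit 4)⟩))) (BT.node (nat_lit 331) (BT.node (nat_lit 330) (BT.leaf ⟨[(nat_lit 2), (nat_lit 1), (nat_lit 3), (nat_lit 1)], (nat_lit 1), (nat_lit 1), (nat_lit 0), (nat_lit 4)⟩) (BT.leaf ⟨[(nat_lit 8), (nat_lit 3), (nat_lit 8), (nat_lit 2)], (nat_lit 5), (nat_lit 1), (nat_lit 0), (nat_lit 4)⟩)) (BT.node (nat_lit 332) (BT.leaf ⟨[(nat_lit 6), (nat_lit 3), (nat_lit 7), (nat_lit 2)], (nat_lit 16), (nat_lit 1), (nat_lit 0), (nat_lit 4)⟩) (BT.leaf ⟨[(nat_lit 5), (nat_lit 7), (nat_lit 2), (nat_lit 5), (nat_lit 3), (nat_lit 6)], (nat_lit 23), (nat_lit 4), (nat_lit 0), (nat_lit 4)⟩)))))))) (BT.node (nat_lit 389) (BT.node (nat_lit 361) (BT.node (nat_lit 347) (BT.node (nat_lit 340) (BT.node (nat_lit 336) (BT.node (nat_lit 334) (BT.leaf ⟨[(nat_lit 2), (nat_lit 8), (nat_lit 3), (nat_lit 8)], (nat_lit 5), (nat_lit 0), (nat_lit 0), (nat_lit 4)⟩) (BT.node (nat_lit 335) (BT.leaf ⟨[(nat_lit 5), (nat_lit 2), (nat_lit 5), (nat_lit 2), (nat_lit 5), (nat_lit 2)], (nat_lit 9), (nat_lit 1), (nat_lit 0), (nat_lit 4)⟩) (BT.leaf ⟨[(nat_lit 6), (nat_lit 5), (nat_lit 7), (nat_lit 2), (nat_lit 5), (nat_lit 3)], (nat_lit 23), (nat_lit 3), (nat_lit 0), (nat_lit 4)⟩))) (BT.node (nat_lit 338) (BT.node (nat_lit 337) (BT.leaf ⟨[(nat_lit 7), (nat_lit 6)], (nat_lit 70), (nat_lit 1), (nat_lit 0), (nat_lit 4)⟩) (BT.leaf ⟨[(nat_lit 7), (nat_lit 1), (nat_lit 7), (nat_lit 1), (nat_lit 7), (nat_lit 1)], (nat_lit 95), (nat_lit 0), (nat_lit 0), (nat_lit 4)⟩)) (BT.node (nat_lit 339) (BT.leaf ⟨[(nat_lit 8), (nat_lit 6), (nat_lit 1), (nat_lit 8), (nat_lit 6), (nat_lit 1)], (nat_lit 96), (nat_lit 0), (nat_lit 0), (nat_lit 4)⟩) (BT.leaf ⟨[(nat_lit 4), (nat_lit 4)], (nat_lit 53), (nat_lit 0), (nat_lit 0), (nat_lit 4)⟩)))) (BT.node (nat_lit 343) (BT.node (nat_lit 341) (BT.leaf ⟨[(nat_lit 8), (nat_lit 6), (nat_lit 8), (nat_lit 6)], (nat_lit 17), (nat_lit 1), (nat_lit 0), (nat_lit 5)⟩) (BT.node (nat_lit 342) (BT.leaf ⟨[(nat_lit 4), (nat_lit 2), (nat_lit 4), (nat_lit 2)], (nat_lit 4), (nat_lit 1), (nat_lit 0), (nat_lit 5)⟩) (BT.leaf ⟨[(nat_lit 5), (nat_lit 3), (nat_lit 6), (nat_lit 5), (nat_lit 2), (nat_lit 7)], (nat_lit 99), (nat_lit 4), (nat_lit 0), (nat_lit 4)⟩))) (BT.node (nat_lit 345) (BT.node (nat_lit 344) (BT.leaf ⟨[(nat_lit 1), (nat_lit 6), (nat_lit 5), (nat_lit 7), (nat_lit 1), (nat_lit 6), (nat_lit 5), (nat_lit 7)], (nat_lit 38), (nat_lit 0), (nat_lit 0), (nat_lit 4)⟩) (BT.leaf ⟨[(nat_lit 3), (nat_lit 8), (nat_lit 2), (nat_lit 8)], (nat_lit 5), (nat_lit 2), (nat_lit 0), (nat_lit 4)⟩)) (BT.node (nat_lit 346) (BT.leaf ⟨[(nat_lit 5), (nat_lit 2), (nat_lit 7), (nat_lit 5), (nat_lit 3), (nat_lit 6)], (nat_lit 99), (nat_lit 1), (nat_lit 0), (nat_lit 4)⟩) (BT.leaf ⟨[(nat_lit 3), (nat_lit 6), (nat_lit 5), (nat_lit 7), (nat_lit 2), (nat_lit 5)], (nat_lit 23), (nat_lit 2), (nat_lit 0), (nat_lit 4)⟩))))) (BT.node (nat_lit 354) (BT.node (nat_lit 350) (BT.node (nat_lit 348) (BT.leaf ⟨[(nat_lit 5), (nat_lit 7), (nat_lit 5), (nat_lit 7), (nat_lit 5), (nat_lit 7)], (nat_lit 101), (nat_lit 1), (nat_lit 0), (nat_lit 5)⟩) (BT.node (nat_lit 349) (BT.leaf ⟨[(nat_lit 5), (nat_lit 3), (nat_lit 5), (nat_lit 3), (nat_lit 5), (nat_lit 3)], (nat_lit 84), (nat_lit 0), (nat_lit 0), (nat_lit 4)⟩) (BT.leaf ⟨[(nat_lit 5), (nat_lit 6), (nat_lit 3), (nat_lit 5), (nat_lit 2), (nat_lit 7)], (nat_lit 25), (nat_lit 2), (nat_lit 0), (nat_lit 5)⟩))) (BT.node (nat_lit 352) (BT.node (nat_lit 351) (BT.leaf ⟨[(nat_lit 4), (nat_lit 2), (nat_lit 4), (nat_lit 2)], (nat_lit 4), (nat_lit 1), (nat_lit 0), (nat_lit 4)⟩) (BT.leaf ⟨[(nat_lit 8), (nat_lit 3), (nat_lit 7), (nat_lit 8), (nat_lit 5), (nat_lit 7), (nat_lit 2), (nat_lit 5)], (nat_lit 41), (nat_lit 2), (nat_lit 0), (nat_lit 4)⟩)) (BT.node (nat_lit 353) (BT.leaf ⟨[(nat_lit 4), (nat_lit 3), (nat_lit 4), (nat_lit 3)], (nat_lit 79), (nat_lit 0), (nat_lit 0), (nat_lit 4)⟩) (BT.leaf ⟨[(nat_lit 5), (nat_lit 7), (nat_lit 2), (nat_lit 5), (nat_lit 6), (nat_lit 3)], (nat_lit 24), (nat_lit 4), (nat_lit 0), (nat_lit 4)⟩)))) (BT.node (nat_lit 357) (BT.node (nat_lit 355) (BT.leaf ⟨[(nat_lit 6), (nat_lit 8), (nat_lit 6), (nat_lit 8)], (nat_lit 17), (nat_lit 0), (nat_lit 0), (nat_lit 4)⟩) (BT.node (nat_lit 356) (BT.leaf ⟨[(nat_lit 5), (nat_lit 6), (nat_lit 5), (nat_lit 6), (nat_lit 5), (nat_lit 6)], (nat_lit 26), (nat_lit 0), (nat_lit 0), (nat_lit 5)⟩) (BT.leaf ⟨[(nat_lit 1), (nat_lit 6), (nat_lit 4), (nat_lit 7), (nat_lit 1), (nat_lit 6), (nat_lit 4), (nat_lit 7)], (nat_lit 51), (nat_lit 0), (nat_lit 0), (nat_lit 4)⟩))) (BT.node (nat_lit 359) (BT.node (nat_lit 358) (BT.leaf ⟨[(nat_lit 7), (nat_lit 5), (nat_lit 3), (nat_lit 6), (nat_lit 5), (nat_lit 2)], (nat_lit 99), (nat_lit 3), (nat_lit 0), (nat_lit 4)⟩) (BT.leaf ⟨[(nat_lit 2), (nat_lit 5), (nat_lit 2), (nat_lit 5), (nat_lit 2), (nat_lit 5)], (nat_lit 9), (nat_lit 0), (nat_lit 0), (nat_lit 4)⟩)) (BT.node (nat_lit 360) (BT.leaf ⟨[(nat_lit 6), (nat_lit 6), (nat_lit 6)], (nat_lit 15), (nat_lit 0), (nat_lit 0), (nat_lit 4)⟩) (BT.leaf ⟨[(nat_lit 6), (nat_lit 2), (nat_lit 7), (nat_lit 3)], (nat_lit 91), (nat_lit 0), (nat_lit 0), (nat_lit 4)⟩)))))) (BT.node (nat_lit 375) (BT.node (nat_lit 368) (BT.node (nat_lit 364) (BT.node (nat_lit 362) (BT.leaf ⟨[(nat_lit 5), (nat_lit 6), (nat_lit 3), (nat_lit 5), (nat_lit 2), (nat_lit 7)], (nat_lit 25), (nat_lit 2), (nat_lit 0), (nat_lit 4)⟩) (BT.node (nat_lit 363) (BT.leaf ⟨[(nat_lit 2), (nat_lit 2), (nat_lit 2)], (nat_lit 0), (nat_lit 0), (nat_lit 0), (nat_lit 4)⟩) (BT.leaf ⟨[(nat_lit 7), (nat_lit 3), (nat_lit 6), (nat_lit 2)], (nat_lit 91), (nat_lit 2), (nat_lit 0), (nat_lit 4)⟩))) (BT.node (nat_lit 366) (BT.node (nat_lit 365) (BT.leaf ⟨[(nat_lit 5), (nat_lit 3), (nat_lit 5), (nat_lit 3), (nat_lit 5), (nat_lit 3)], (nat_lit 84), (nat_lit 0), (nat_lit 0), (nat_lit 5)⟩) (BT.leaf ⟨[(nat_lit 7), (nat_lit 8), (nat_lit 7), (nat_lit 8)], (nat_lit 92), (nat_lit 1), (nat_lit 0), (nat_lit 5)⟩)) (BT.node (nat_lit 367) (BT.leaf ⟨[(nat_lit 8), (nat_lit 5), (nat_lit 3), (nat_lit 6), (nat_lit 5), (nat_lit 8), (nat_lit 2), (nat_lit 6)], (nat_lit 117), (nat_lit 5), (nat_lit 0), (nat_lit 4)⟩) (BT.leaf ⟨[(nat_lit 6), (nat_lit 6), (nat_lit 6)], (nat_lit 15), (nat_lit 0), (nat_lit 0), (nat_lit 5)⟩)))) (BT.node (nat_lit 371) (BT.node (nat_lit 369) (BT.leaf ⟨[(nat_lit 5), (nat_lit 7), (nat_lit 5), (nat_lit 7), (nat_lit 5), (nat_lit 7)], (nat_lit 101), (nat_lit 1), (nat_lit 0), (nat_lit 4)⟩) (BT.node (nat_lit 370) (BT.leaf ⟨[(nat_lit 7), (nat_lit 2), (nat_lit 5), (nat_lit 3), (nat_lit 6), (nat_lit 5)], (nat_lit 23), (nat_lit 5), (nat_lit 0), (nat_lit 5)⟩) (BT.leaf ⟨[(nat_lit 4), (nat_lit 6), (nat_lit 4), (nat_lit 7), (nat_lit 4), (nat_lit 6), (nat_lit 4), (nat_lit 7), (nat_lit 4), (nat_lit 6), (nat_lit 4), (nat_lit 7), (nat_lit 4), (nat_lit 6), (nat_lit 4), (nat_lit 7)], (nat_lit 52), (nat_lit 0), (nat_lit 0), (nat_lit 4)⟩))) (BT.node (nat_lit 373) (BT.node (nat_lit 372) (BT.leaf ⟨[(nat_lit 7), (nat_lit 2), (nat_lit 6), (nat_lit 3)], (nat_lit 16), (nat_lit 3), (nat_lit 0), (nat_lit 4)⟩) (BT.leaf ⟨[(nat_lit 7), (nat_lit 7), (nat_lit 7)], (nat_lit 90), (nat_lit 0), (nat_lit 0), (nat_lit 5)⟩)) (BT.node (nat_lit 374) (BT.leaf ⟨[(nat_lit 8), (nat_lit 1), (nat_lit 7), (nat_lit 1), (nat_lit 8), (nat_lit 7), (nat_lit 1)], (nat_lit 103), (nat_lit 3), (nat_lit 0), (nat_lit 4)⟩) (BT.leaf ⟨[(nat_lit 3), (nat_lit 5), (nat_lit 3), (nat_lit 5), (nat_lit 3), (nat_lit 5)], (nat_lit 84), (nat_lit 1), (nat_lit 0), (nat_lit 4)⟩))))) (BT.node (nat_lit 382) (BT.node (nat_lit 378) (BT.node (nat_lit 376) (BT.leaf ⟨[(nat_lit 6), (nat_lit 1), (nat_lit 7), (nat_lit 8), (nat_lit 1), (nat_lit 8)], (nat_lit 22), (nat_lit 5), (nat_lit 0), (nat_lit 4)⟩) (BT.node (nat_lit 377) (BT.leaf ⟨[(nat_lit 4), (nat_lit 1), (nat_lit 4), (nat_lit 8)], (nat_lit 2), (nat_lit 3), (nat_lit 0), (nat_lit 4)⟩) (BT.leaf ⟨[(nat_lit 6), (nat_lit 4), (nat_lit 7), (nat_lit 4), (nat_lit 6), (nat_lit 4), (nat_lit 7), (nat_lit 4), (nat_lit 6), (nat_lit 4), (nat_lit 7), (nat_lit 4), (nat_lit 6), (nat_lit 4), (nat_lit 7), (nat_lit 4)], (nat_lit 52), (nat_lit 1), (nat_lit 0), (nat_lit 4)⟩))) (BT.node (nat_lit 380) (BT.node (nat_lit 379) (BT.leaf ⟨[(nat_lit 7), (nat_lit 5), (nat_lit 3), (nat_lit 6), (nat_lit 5), (nat_lit 2)], (nat_lit 99), (nat_lit 3), (nat_lit 0), (nat_lit 5)⟩) (BT.leaf ⟨[(nat_lit 8), (nat_lit 7), (nat_lit 1), (nat_lit 8), (nat_lit 1), (nat_lit 7), (nat_lit 1)], (nat_lit 103), (nat_lit 0), (nat_lit 0), (nat_lit 4)⟩)) (BT.node (nat_lit 381) (BT.leaf ⟨[(nat_lit 6), (nat_lit 1), (nat_lit 8), (nat_lit 1), (nat_lit 8), (nat_lit 7), (nat_lit 1)], (nat_lit 29), (nat_lit 1), (nat_lit 0), (nat_lit 4)⟩) (BT.leaf ⟨[(nat_lit 7), (nat_lit 8), (nat_lit 7), (nat_lit 8)], (nat_lit 92), (nat_lit 1), (nat_lit 0), (nat_lit 4)⟩)))) (BT.node (nat_lit 385) (BT.node (nat_lit 383) (BT.leaf ⟨[(nat_lit 7), (nat_lit 4), (nat_lit 6), (nat_lit 4), (nat_lit 7), (nat_lit 4), (nat_lit 6), (nat_lit 4), (nat_lit 7), (nat_lit 4), (nat_lit 6), (nat_lit 4), (nat_lit 7), (nat_lit 4), (nat_lit 6), (nat_lit 4)], (nat_lit 52), (nat_lit 3), (nat_lit 0), (nat_lit 4)⟩) (BT.node (nat_lit 384) (BT.leaf ⟨[(nat_lit 8), (nat_lit 1), (nat_lit 6), (nat_lit 1), (nat_lit 8), (nat_lit 1), (nat_lit 6)], (nat_lit 28), (nat_lit 6), (nat_lit 0), (nat_lit 5)⟩) (BT.leaf ⟨[(nat_lit 4), (nat_lit 3), (nat_lit 4), (nat_lit 3)], (nat_lit 79), (nat_lit 0), (nat_lit 0), (nat_lit 5)⟩))) (BT.node (nat_lit 387) (BT.node (nat_lit 386) (BT.leaf ⟨[(nat_lit 5), (nat_lit 8), (nat_lit 5), (nat_lit 4), (nat_lit 5), (nat_lit 8), (nat_lit 5), (nat_lit 4)], (nat_lit 14), (nat_lit 1), (nat_lit 0), (nat_lit 4)⟩) (BT.leaf ⟨[(nat_lit 4), (nat_lit 8), (nat_lit 4), (nat_lit 1)], (nat_lit 2), (nat_lit 1), (nat_lit 0), (nat_lit 4)⟩)) (BT.node (nat_lit 388) (BT.leaf ⟨[(nat_lit 5), (nat_lit 6), (nat_lit 5), (nat_lit 6), (nat_lit 5), (nat_lit 6)], (nat_lit 26), (nat_lit 0), (nat_lit 0), (nat_lit 4)⟩) (BT.leaf ⟨[(nat_lit 7), (nat_lit 1), (nat_lit 6), (nat_lit 4), (nat_lit 7), (nat_lit 1), (nat_lit 6), (nat_lit 4)], (nat_lit 51), (nat_lit 3), (nat_lit 0), (nat_lit 4)⟩))))))) (BT.node (nat_lit 417) (BT.node (nat_lit 403) (BT.node (nat_lit 396) (BT.node (nat_lit 392) (BT.node (nat_lit 390) (BT.leaf ⟨[(nat_lit 1), (nat_lit 6), (nat_lit 1), (nat_lit 6), (nat_lit 1), (nat_lit 6)], (nat_lit 20), (nat_lit 0), (nat_lit 0), (nat_lit 5)⟩) (BT.node (nat_lit 391) (BT.leaf ⟨[(nat_lit 1), (nat_lit 3), (nat_lit 5), (nat_lit 1), (nat_lit 7), (nat_lit 2), (nat_lit 5), (nat_lit 6)], (nat_lit 37), (nat_lit 0), (nat_lit 0), (nat_lit 4)⟩) (BT.leaf ⟨[(nat_lit 1), (nat_lit 8), (nat_lit 6), (nat_lit 1), (nat_lit 7), (nat_lit 8)], (nat_lit 22), (nat_lit 3), (nat_lit 0), (nat_lit 4)⟩))) (BT.node (nat_lit 394) (BT.node (nat_lit 393) (BT.leaf ⟨[(nat_lit 4), (nat_lit 5), (nat_lit 4), (nat_lit 5), (nat_lit 4), (nat_lit 5)], (nat_lit 10), (nat_lit 0), (nat_lit 0), (nat_lit 4)⟩) (BT.leaf ⟨[(nat_lit 1), (nat_lit 7), (nat_lit 8), (nat_lit 1), (nat_lit 8), (nat_lit 6)], (nat_lit 22), (nat_lit 0), (nat_lit 0), (nat_lit 4)⟩)) (BT.node (nat_lit 395) (BT.leaf ⟨[(nat_lit 8), (nat_lit 7), (nat_lit 8), (nat_lit 7)], (nat_lit 92), (nat_lit 0), (nat_lit 0), (nat_lit 5)⟩) (BT.leaf ⟨[(nat_lit 6), (nat_lit 8), (nat_lit 6), (nat_lit 8)], (nat_lit 17), (nat_lit 0), (nat_lit 0), (nat_lit 5)⟩)))) (BT.node (nat_lit 399) (BT.node (nat_lit 397) (BT.leaf ⟨[(nat_lit 4), (nat_lit 8), (nat_lit 4), (nat_lit 1)], (nat_lit 2), (nat_lit 1), (nat_lit 0), (nat_lit 5)⟩) (BT.node (nat_lit 398) (BT.leaf ⟨[(nat_lit 2), (nat_lit 7), (nat_lit 5), (nat_lit 3), (nat_lit 6), (nat_lit 5)], (nat_lit 99), (nat_lit 2), (nat_lit 0), (nat_lit 5)⟩) (BT.leaf ⟨[(nat_lit 5), (nat_lit 6), (nat_lit 3), (nat_lit 5), (nat_lit 7), (nat_lit 2)], (nat_lit 24), (nat_lit 1), (nat_lit 0), (nat_lit 4)⟩))) (BT.node (nat_lit 401) (BT.node (nat_lit 400) (BT.leaf ⟨[(nat_lit 6), (nat_lit 1), (nat_lit 7), (nat_lit 4), (nat_lit 1), (nat_lit 8), (nat_lit 1), (nat_lit 4)], (nat_lit 49), (nat_lit 2), (nat_lit 0), (nat_lit 4)⟩) (BT.leaf ⟨[(nat_lit 7), (nat_lit 1), (nat_lit 6), (nat_lit 1), (nat_lit 8), (nat_lit 1), (nat_lit 8)], (nat_lit 29), (nat_lit 6), (nat_lit 0), (nat_lit 4)⟩)) (BT.node (nat_lit 402) (BT.leaf ⟨[(nat_lit 8), (nat_lit 5), (nat_lit 4), (nat_lit 5), (nat_lit 8), (nat_lit 5), (nat_lit 4), (nat_lit 5)], (nat_lit 14), (nat_lit 2), (nat_lit 0), (nat_lit 4)⟩) (BT.leaf ⟨[(nat_lit 7), (nat_lit 1), (nat_lit 7), (nat_lit 1), (nat_lit 7), (nat_lit 1)], (nat_lit 95), (nat_lit 0), (nat_lit 0), (nat_lit 5)⟩))))) (BT.node (nat_lit 410) (BT.node (nat_lit 406) (BT.node (nat_lit 404) (BT.leaf ⟨[(nat_lit 6), (nat_lit 1), (nat_lit 6), (nat_lit 1), (nat_lit 6), (nat_lit 1)], (nat_lit 20), (nat_lit 1), (nat_lit 0), (nat_lit 4)⟩) (BT.node (nat_lit 405) (BT.leaf ⟨[(nat_lit 7), (nat_lit 5), (nat_lit 7), (nat_lit 5), (nat_lit 7), (nat_lit 5)], (nat_lit 101), (nat_lit 0), (nat_lit 0), (nat_lit 4)⟩) (BT.leaf ⟨[(nat_lit 5), (nat_lit 4), (nat_lit 5), (nat_lit 8), (nat_lit 5), (nat_lit 4), (nat_lit 5), (nat_lit 8)], (nat_lit 14), (nat_lit 3), (nat_lit 0), (nat_lit 4)⟩))) (BT.node (nat_lit 408) (BT.node (nat_lit 407) (BT.leaf ⟨[(nat_lit 7), (nat_lit 8), (nat_lit 1), (nat_lit 8), (nat_lit 6), (nat_lit 1)], (nat_lit 22), (nat_lit 1), (nat_lit 0), (nat_lit 4)⟩) (BT.leaf ⟨[(nat_lit 5), (nat_lit 8), (nat_lit 1), (nat_lit 8), (nat_lit 5), (nat_lit 8), (nat_lit 1), (nat_lit 8)], (nat_lit 13), (nat_lit 2), (nat_lit 0), (nat_lit 4)⟩)) (BT.node (nat_lit 409) (BT.leaf ⟨[(nat_lit 6), (nat_lit 5), (nat_lit 6), (nat_lit 5), (nat_lit 6), (nat_lit 5)], (nat_lit 26), (nat_lit 1), (nat_lit 0), (nat_lit 4)⟩) (BT.leaf ⟨[(nat_lit 4), (nat_lit 7), (nat_lit 4), (nat_lit 6), (nat_lit 4), (nat_lit 7), (nat_lit 4), (nat_lit 6), (nat_lit 4), (nat_lit 7), (nat_lit 4), (nat_lit 6), (nat_lit 4), (nat_lit 7), (nat_lit 4), (nat_lit 6)], (nat_lit 52), (nat_lit 2), (nat_lit 0), (nat_lit 4)⟩)))) (BT.node (nat_lit 413) (BT.node (nat_lit 411) (BT.leaf ⟨[(nat_lit 1), (nat_lit 6), (nat_lit 1), (nat_lit 8), (nat_lit 1), (nat_lit 8), (nat_lit 7)], (nat_lit 29), (nat_lit 0), (nat_lit 0), (nat_lit 4)⟩) (BT.node (nat_lit 412) (BT.leaf ⟨[(nat_lit 8), (nat_lit 1), (nat_lit 6), (nat_lit 1), (nat_lit 8), (nat_lit 1), (nat_lit 6)], (nat_lit 28), (nat_lit 6), (nat_lit 0), (nat_lit 4)⟩) (BT.leaf ⟨[(nat_lit 8), (nat_lit 1), (nat_lit 7), (nat_lit 8), (nat_lit 1), (nat_lit 7)], (nat_lit 21), (nat_lit 2), (nat_lit 0), (nat_lit 4)⟩))) (BT.node (nat_lit 415) (BT.node (nat_lit 414) (BT.leaf ⟨[(nat_lit 0), (nat_lit 8), (nat_lit 6), (nat_lit 8), (nat_lit 6)], (nat_lit 17), (nat_lit 1), (nat_lit 1), (nat_lit 4)⟩) (BT.leaf ⟨[(nat_lit 8), (nat_lit 1), (nat_lit 8), (nat_lit 5), (nat_lit 8), (nat_lit 1), (nat_lit 8), (nat_lit 5)], (nat_lit 13), (nat_lit 3), (nat_lit 0), (nat_lit 4)⟩)) (BT.node (nat_lit 416) (BT.leaf ⟨[(nat_lit 4), (nat_lit 1), (nat_lit 8), (nat_lit 1), (nat_lit 4), (nat_lit 6), (nat_lit 1), (nat_lit 7)], (nat_lit 49), (nat_lit 5), (nat_lit 0), (nat_lit 4)⟩) (BT.leaf ⟨[(nat_lit 1), (nat_lit 8), (nat_lit 1), (nat_lit 7), (nat_lit 1), (nat_lit 8), (nat_lit 7)], (nat_lit 103), (nat_lit 2), (nat_lit 0), (nat_lit 4)⟩)))))) (BT.node (nat_lit 431) (BT.node (nat_lit 424) (BT.node (nat_lit 420) (BT.node (nat_lit 418) (BT.leaf ⟨[(nat_lit 8), (nat_lit 1), (nat_lit 7), (nat_lit 1), (nat_lit 6), (nat_lit 8), (nat_lit 1)], (nat_lit 104), (nat_lit 3), (nat_lit 0), (nat_lit 4)⟩) (BT.node (nat_lit 419) (BT.leaf ⟨[(nat_lit 8), (nat_lit 1), (nat_lit 8), (nat_lit 6), (nat_lit 1), (nat_lit 7)], (nat_lit 22), (nat_lit 2), (nat_lit 0), (nat_lit 4)⟩) (BT.leaf ⟨[(nat_lit 8), (nat_lit 1), (nat_lit 6), (nat_lit 8), (nat_lit 1), (nat_lit 6), (nat_lit 1)], (nat_lit 28), (nat_lit 3), (nat_lit 0), (nat_lit 4)⟩))) (BT.node (nat_lit 422) (BT.node (nat_lit 421) (BT.leaf ⟨[(nat_lit 1), (nat_lit 8), (nat_lit 5), (nat_lit 8), (nat_lit 1), (nat_lit 8), (nat_lit 5), (nat_lit 8)], (nat_lit 13), (nat_lit 0), (nat_lit 0), (nat_lit 4)⟩) (BT.leaf ⟨[(nat_lit 5), (nat_lit 4), (nat_lit 5), (nat_lit 4), (nat_lit 5), (nat_lit 4)], (nat_lit 10), (nat_lit 1), (nat_lit 0), (nat_lit 5)⟩)) (BT.node (nat_lit 423) (BT.leaf ⟨[(nat_lit 5), (nat_lit 3), (nat_lit 6), (nat_lit 5), (nat_lit 7), (nat_lit 2)], (nat_lit 23), (nat_lit 1), (nat_lit 0), (nat_lit 4)⟩) (BT.leaf ⟨[(nat_lit 5), (nat_lit 2), (nat_lit 7), (nat_lit 5), (nat_lit 3), (nat_lit 6)], (nat_lit 99), (nat_lit 1), (nat_lit 0), (nat_lit 5)⟩)))) (BT.node (nat_lit 427) (BT.node (nat_lit 425) (BT.leaf ⟨[(nat_lit 2), (nat_lit 2), (nat_lit 2)], (nat_lit 0), (nat_lit 0), (nat_lit 0), (nat_lit 5)⟩) (BT.node (nat_lit 426) (BT.leaf ⟨[(nat_lit 8), (nat_lit 1), (nat_lit 7), (nat_lit 8), (nat_lit 1), (nat_lit 7)], (nat_lit 21), (nat_lit 2), (nat_lit 0), (nat_lit 5)⟩) (BT.leaf ⟨[(nat_lit 1), (nat_lit 2), (nat_lit 5), (nat_lit 1), (nat_lit 6), (nat_lit 3), (nat_lit 5), (nat_lit 7)], (nat_lit 36), (nat_lit 0), (nat_lit 0), (nat_lit 4)⟩))) (BT.node (nat_lit 429) (BT.node (nat_lit 428) (BT.leaf ⟨[(nat_lit 1), (nat_lit 6), (nat_lit 8), (nat_lit 1), (nat_lit 8), (nat_lit 1), (nat_lit 7)], (nat_lit 104), (nat_lit 6), (nat_lit 0), (nat_lit 4)⟩) (BT.leaf ⟨[(nat_lit 8), (nat_lit 5), (nat_lit 8), (nat_lit 1), (nat_lit 8), (nat_lit 5), (nat_lit 8), (nat_lit 1)], (nat_lit 13), (nat_lit 1), (nat_lit 0), (nat_lit 4)⟩)) (BT.node (nat_lit 430) (BT.leaf ⟨[(nat_lit 5), (nat_lit 4), (nat_lit 5), (nat_lit 8), (nat_lit 5), (nat_lit 4), (nat_lit 5), (nat_lit 8)], (nat_lit 14), (nat_lit 3), (nat_lit 0), (nat_lit 5)⟩) (BT.leaf ⟨[(nat_lit 1), (nat_lit 8), (nat_lit 1), (nat_lit 8), (nat_lit 1), (nat_lit 8), (nat_lit 1), (nat_lit 8)], (nat_lit 12), (nat_lit 0), (nat_lit 0), (nat_lit 5)⟩))))) (BT.node (nat_lit 438) (BT.node (nat_lit 434) (BT.node (nat_lit 432) (BT.leaf ⟨[(nat_lit 3), (nat_lit 4), (nat_lit 3), (nat_lit 4)], (nat_lit 79), (nat_lit 1), (nat_lit 0), (nat_lit 5)⟩) (BT.node (nat_lit 433) (BT.leaf ⟨[(nat_lit 7), (nat_lit 8), (nat_lit 1), (nat_lit 7), (nat_lit 8), (nat_lit 1)], (nat_lit 21), (nat_lit 1), (nat_lit 0), (nat_lit 4)⟩) (BT.leaf ⟨[(nat_lit 3), (nat_lit 3), (nat_lit 3)], (nat_lit 75), (nat_lit 0), (nat_lit 0), (nat_lit 5)⟩))) (BT.node (nat_lit 436) (BT.node (nat_lit 435) (BT.leaf ⟨[(nat_lit 4), (nat_lit 5), (nat_lit 4), (nat_lit 5), (nat_lit 4), (nat_lit 5)], (nat_lit 10), (nat_lit 0), (nat_lit 0), (nat_lit 5)⟩) (BT.leaf ⟨[(nat_lit 1), (nat_lit 7), (nat_lit 5), (nat_lit 6), (nat_lit 1), (nat_lit 7), (nat_lit 5), (nat_lit 6)], (nat_lit 39), (nat_lit 0), (nat_lit 0), (nat_lit 4)⟩)) (BT.node (nat_lit 437) (BT.leaf ⟨[(nat_lit 8), (nat_lit 1), (nat_lit 6), (nat_lit 8), (nat_lit 1), (nat_lit 6), (nat_lit 1)], (nat_lit 28), (nat_lit 3), (nat_lit 0), (nat_lit 5)⟩) (BT.leaf ⟨[(nat_lit 8), (nat_lit 1), (nat_lit 8), (nat_lit 6), (nat_lit 1), (nat_lit 7)], (nat_lit 22), (nat_lit 2), (nat_lit 0), (nat_lit 5)⟩)))) (BT.node (nat_lit 441) (BT.node (nat_lit 439) (BT.leaf ⟨[(nat_lit 8), (nat_lit 1), (nat_lit 8), (nat_lit 1), (nat_lit 7), (nat_lit 1), (nat_lit 6)], (nat_lit 104), (nat_lit 1), (nat_lit 0), (nat_lit 4)⟩) (BT.node (nat_lit 440) (BT.leaf ⟨[(nat_lit 5), (nat_lit 8), (nat_lit 5), (nat_lit 2), (nat_lit 2), (nat_lit 5), (nat_lit 8), (nat_lit 5), (nat_lit 3), (nat_lit 5), (nat_lit 8), (nat_lit 5), (nat_lit 8), (nat_lit 1), (nat_lit 3)], (nat_lit 67), (nat_lit 1), (nat_lit 0), (nat_lit 3)⟩) (BT.leaf ⟨[(nat_lit 6), (nat_lit 1), (nat_lit 3), (nat_lit 5), (nat_lit 1), (nat_lit 7), (nat_lit 2), (nat_lit 5)], (nat_lit 37), (nat_lit 7), (nat_lit 0), (nat_lit 3)⟩))) (BT.node (nat_lit 443) (BT.node (nat_lit 442) (BT.leaf ⟨[(nat_lit 1), (nat_lit 5), (nat_lit 1), (nat_lit 5)], (nat_lit 3), (nat_lit 0), (nat_lit 0), (nat_lit 5)⟩) (BT.leaf ⟨[(nat_lit 3), (nat_lit 6), (nat_lit 1), (nat_lit 5), (nat_lit 2), (nat_lit 1), (nat_lit 7), (nat_lit 5)], (nat_lit 112), (nat_lit 2), (nat_lit 0), (nat_lit 3)⟩)) (BT.node (nat_lit 444) (BT.leaf ⟨[(nat_lit 8), (nat_lit 1), (nat_lit 8), (nat_lit 7), (nat_lit 1), (nat_lit 6), (nat_lit 1)], (nat_lit 29), (nat_lit 3), (nat_lit 0), (nat_lit 4)⟩) (BT.leaf ⟨[(nat_lit 6), (nat_lit 1), (nat_lit 8), (nat_lit 1), (nat_lit 6), (nat_lit 8), (nat_lit 1)], (nat_lit 28), (nat_lit 1), (nat_lit 0), (nat_lit 4)⟩)))))))))) (BT.node (nat_lit 668) (BT.node (nat_lit 556) (BT.node (nat_lit 500) (BT.node (nat_lit 472) (BT.node (nat_lit 458) (BT.node (nat_lit 451) (BT.node (nat_lit 448) (BT.node (nat_lit 446) (BT.leaf ⟨[(nat_lit 8), (nat_lit 6), (nat_lit 2), (nat_lit 8), (nat_lit 5), (nat_lit 3), (nat_lit 6), (nat_lit 5)], (nat_lit 116), (nat_lit 2), (nat_lit 0), (nat_lit 5)⟩) (BT.node (nat_lit 447) (BT.leaf ⟨[(nat_lit 8), (nat_lit 3), (nat_lit 7), (nat_lit 8), (nat_lit 5), (nat_lit 7), (nat_lit 2), (nat_lit 5)], (nat_lit 41), (nat_lit 2), (nat_lit 0), (nat_lit 5)⟩) (BT.leaf ⟨[(nat_lit 2), (nat_lit 4), (nat_lit 2), (nat_lit 4)], (nat_lit 4), (nat_lit 0), (nat_lit 0), (nat_lit 5)⟩))) (BT.node (nat_lit 449) (BT.leaf ⟨[(nat_lit 8), (nat_lit 6), (nat_lit 2), (nat_lit 8), (nat_lit 5), (nat_lit 3), (nat_lit 6), (nat_lit 5)], (nat_lit 116), (nat_lit 2), (nat_lit 0), (nat_lit 4)⟩) (BT.node (nat_lit 450) (BT.leaf ⟨[(nat_lit 8), (nat_lit 5), (nat_lit 8), (nat_lit 1), (nat_lit 8), (nat_lit 5), (nat_lit 8), (nat_lit 1)], (nat_lit 13), (nat_lit 1), (nat_lit 0), (nat_lit 5)⟩) (BT.leaf ⟨[(nat_lit 8), (nat_lit 1), (nat_lit 8), (nat_lit 1), (nat_lit 7), (nat_lit 1), (nat_lit 6)], (nat_lit 104), (nat_lit 1), (nat_lit 0), (nat_lit 5)⟩)))) (BT.node (nat_lit 454) (BT.node (nat_lit 452) (BT.leaf ⟨[(nat_lit 1), (nat_lit 8), (nat_lit 1), (nat_lit 8), (nat_lit 1), (nat_lit 8), (nat_lit 1), (nat_lit 8)], (nat_lit 12), (nat_lit 0), (nat_lit 0), (nat_lit 4)⟩) (BT.node (nat_lit 453) (BT.leaf ⟨[(nat_lit 6), (nat_lit 5), (nat_lit 2), (nat_lit 5), (nat_lit 3), (nat_lit 7), (nat_lit 5)], (nat_lit 107), (nat_lit 2), (nat_lit 0), (nat_lit 4)⟩) (BT.leaf ⟨[(nat_lit 1), (nat_lit 5), (nat_lit 3), (nat_lit 1), (nat_lit 6), (nat_lit 5), (nat_lit 2), (nat_lit 7)], (nat_lit 111), (nat_lit 4), (nat_lit 0), (nat_lit 3)⟩))) (BT.node (nat_lit 456) (BT.node (nat_lit 455) (BT.leaf ⟨[(nat_lit 5), (nat_lit 7), (nat_lit 5), (nat_lit 3), (nat_lit 5), (nat_lit 2), (nat_lit 6)], (nat_lit 109), (nat_lit 3), (nat_lit 0), (nat_lit 3)⟩) (BT.leaf ⟨[(nat_lit 1), (nat_lit 7), (nat_lit 1), (nat_lit 6), (nat_lit 8), (nat_lit 1), (nat_lit 8)], (nat_lit 104), (nat_lit 4), (nat_lit 0), (nat_lit 4)⟩)) (BT.node (nat_lit 457) (BT.leaf ⟨[(nat_lit 8), (nat_lit 5), (nat_lit 7), (nat_lit 2), (nat_lit 5), (nat_lit 8), (nat_lit 3), (nat_lit 7)], (nat_lit 41), (nat_lit 5), (nat_lit 0), (nat_lit 4)⟩) (BT.leaf ⟨[(nat_lit 8), (nat_lit 7), (nat_lit 3), (nat_lit 8), (nat_lit 5), (nat_lit 7), (nat_lit 2), (nat_lit 5)], (nat_lit 42), (nat_lit 2), (nat_lit 0), (nat_lit 4)⟩))))) (BT.node (nat_lit 465) (BT.node (nat_lit 461) (BT.node (nat_lit 459) (BT.leaf ⟨[(nat_lit 6), (nat_lit 5), (nat_lit 2), (nat_lit 5), (nat_lit 7), (nat_lit 3), (nat_lit 5)], (nat_lit 35), (nat_lit 5), (nat_lit 0), (nat_lit 3)⟩) (BT.node (nat_lit 460) (BT.leaf ⟨[(nat_lit 5), (nat_lit 7), (nat_lit 2), (nat_lit 5), (nat_lit 8), (nat_lit 3), (nat_lit 7), (nat_lit 8)], (nat_lit 41), (nat_lit 6), (nat_lit 0), (nat_lit 3)⟩) (BT.leaf ⟨[(nat_lit 4), (nat_lit 5), (nat_lit 8), (nat_lit 5), (nat_lit 4), (nat_lit 5), (nat_lit 8), (nat_lit 5)], (nat_lit 14), (nat_lit 0), (nat_lit 0), (nat_lit 4)⟩))) (BT.node (nat_lit 463) (BT.node (nat_lit 462) (BT.leaf ⟨[(nat_lit 6), (nat_lit 5), (nat_lit 2), (nat_lit 5), (nat_lit 3), (nat_lit 7), (nat_lit 5)], (nat_lit 107), (nat_lit 2), (nat_lit 0), (nat_lit 5)⟩) (BT.leaf ⟨[(nat_lit 5), (nat_lit 7), (nat_lit 2), (nat_lit 5), (nat_lit 3), (nat_lit 6)], (nat_lit 23), (nat_lit 4), (nat_lit 0), (nat_lit 5)⟩)) (BT.node (nat_lit 464) (BT.leaf ⟨[(nat_lit 3), (nat_lit 6), (nat_lit 2), (nat_lit 7)], (nat_lit 91), (nat_lit 3), (nat_lit 0), (nat_lit 5)⟩) (BT.leaf ⟨[(nat_lit 6), (nat_lit 1), (nat_lit 8), (nat_lit 1), (nat_lit 8), (nat_lit 7), (nat_lit 1)], (nat_lit 29), (nat_lit 1), (nat_lit 0), (nat_lit 5)⟩)))) (BT.node (nat_lit 468) (BT.node (nat_lit 466) (BT.leaf ⟨[(nat_lit 7), (nat_lit 5), (nat_lit 3), (nat_lit 6), (nat_lit 1), (nat_lit 5), (nat_lit 2), (nat_lit 1)], (nat_lit 112), (nat_lit 0), (nat_lit 0), (nat_lit 4)⟩) (BT.node (nat_lit 467) (BT.leaf ⟨[(nat_lit 4), (nat_lit 7), (nat_lit 1), (nat_lit 6), (nat_lit 4), (nat_lit 7), (nat_lit 1), (nat_lit 6)], (nat_lit 51), (nat_lit 2), (nat_lit 0), (nat_lit 5)⟩) (BT.leaf ⟨[(nat_lit 4), (nat_lit 6), (nat_lit 1), (nat_lit 7), (nat_lit 4), (nat_lit 1), (nat_lit 8), (nat_lit 1)], (nat_lit 49), (nat_lit 1), (nat_lit 0), (nat_lit 4)⟩))) (BT.node (nat_lit 470) (BT.node (nat_lit 469) (BT.leaf ⟨[(nat_lit 7), (nat_lit 1), (nat_lit 2), (nat_lit 5), (nat_lit 1), (nat_lit 6), (nat_lit 3), (nat_lit 5)], (nat_lit 36), (nat_lit 7), (nat_lit 0), (nat_lit 4)⟩) (BT.leaf ⟨[(nat_lit 3), (nat_lit 7), (nat_lit 2), (nat_lit 6)], (nat_lit 16), (nat_lit 2), (nat_lit 0), (nat_lit 5)⟩)) (BT.node (nat_lit 471) (BT.leaf ⟨[(nat_lit 2), (nat_lit 7), (nat_lit 3), (nat_lit 6)], (nat_lit 91), (nat_lit 1), (nat_lit 0), (nat_lit 5)⟩) (BT.leaf ⟨[(nat_lit 8), (nat_lit 3), (nat_lit 7), (nat_lit 8), (nat_lit 5), (nat_lit 2), (nat_lit 7), (nat_lit 5)], (nat_lit 44), (nat_lit 3), (nat_lit 0), (nat_lit 5)⟩)))))) (BT.node (nat_lit 486) (BT.node (nat_lit 479) (BT.node (nat_lit 475) (BT.node (nat_lit 473) (BT.leaf ⟨[(nat_lit 5), (nat_lit 6), (nat_lit 3), (nat_lit 5), (nat_lit 7), (nat_lit 2)], (nat_lit 24), (nat_lit 1), (nat_lit 0), (nat_lit 5)⟩) (BT.node (nat_lit 474) (BT.leaf ⟨[(nat_lit 7), (nat_lit 2), (nat_lit 5), (nat_lit 6), (nat_lit 1), (nat_lit 3), (nat_lit 5), (nat_lit 1)], (nat_lit 37), (nat_lit 4), (nat_lit 0), (nat_lit 4)⟩) (BT.leaf ⟨[(nat_lit 5), (nat_lit 3), (nat_lit 6), (nat_lit 5), (nat_lit 2), (nat_lit 7)], (nat_lit 99), (nat_lit 4), (nat_lit 0), (nat_lit 5)⟩))) (BT.node (nat_lit 477) (BT.node (nat_lit 476) (BT.leaf ⟨[(nat_lit 5), (nat_lit 3), (nat_lit 6), (nat_lit 5), (nat_lit 7), (nat_lit 2)], (nat_lit 23), (nat_lit 1), (nat_lit 0), (nat_lit 5)⟩) (BT.leaf ⟨[(nat_lit 5), (nat_lit 3), (nat_lit 7), (nat_lit 5), (nat_lit 2), (nat_lit 5), (nat_lit 6)], (nat_lit 33), (nat_lit 3), (nat_lit 0), (nat_lit 4)⟩)) (BT.node (nat_lit 478) (BT.leaf ⟨[(nat_lit 8), (nat_lit 5), (nat_lit 3), (nat_lit 6), (nat_lit 5), (nat_lit 8), (nat_lit 6), (nat_lit 2)], (nat_lit 116), (nat_lit 5), (nat_lit 0), (nat_lit 4)⟩) (BT.leaf ⟨[(nat_lit 6), (nat_lit 5), (nat_lit 7), (nat_lit 1), (nat_lit 6), (nat_lit 5), (nat_lit 7), (nat_lit 1)], (nat_lit 38), (nat_lit 1), (nat_lit 0), (nat_lit 4)⟩)))) (BT.node (nat_lit 482) (BT.node (nat_lit 480) (BT.leaf ⟨[(nat_lit 8), (nat_lit 1), (nat_lit 8), (nat_lit 7), (nat_lit 1), (nat_lit 6), (nat_lit 1)], (nat_lit 29), (nat_lit 3), (nat_lit 0), (nat_lit 5)⟩) (BT.node (nat_lit 481) (BT.leaf ⟨[(nat_lit 8), (nat_lit 2), (nat_lit 6), (nat_lit 8), (nat_lit 5), (nat_lit 3), (nat_lit 6), (nat_lit 5)], (nat_lit 117), (nat_lit 2), (nat_lit 0), (nat_lit 4)⟩) (BT.leaf ⟨[(nat_lit 5), (nat_lit 2), (nat_lit 6), (nat_lit 5), (nat_lit 7), (nat_lit 5), (nat_lit 3)], (nat_lit 109), (nat_lit 0), (nat_lit 0), (nat_lit 5)⟩))) (BT.node (nat_lit 484) (BT.node (nat_lit 483) (BT.leaf ⟨[(nat_lit 2), (nat_lit 8), (nat_lit 3), (nat_lit 8)], (nat_lit 5), (nat_lit 0), (nat_lit 0), (nat_lit 5)⟩) (BT.leaf ⟨[(nat_lit 5), (nat_lit 3), (nat_lit 6), (nat_lit 5), (nat_lit 8), (nat_lit 6), (nat_lit 2), (nat_lit 8)], (nat_lit 116), (nat_lit 6), (nat_lit 0), (nat_lit 3)⟩)) (BT.node (nat_lit 485) (BT.leaf ⟨[(nat_lit 8), (nat_lit 6), (nat_lit 1), (nat_lit 8), (nat_lit 6), (nat_lit 1)], (nat_lit 96), (nat_lit 0), (nat_lit 0), (nat_lit 5)⟩) (BT.leaf ⟨[(nat_lit 8), (nat_lit 2), (nat_lit 6), (nat_lit 8), (nat_lit 5), (nat_lit 3), (nat_lit 6), (nat_lit 5)], (nat_lit 117), (nat_lit 2), (nat_lit 0), (nat_lit 5)⟩))))) (BT.node (nat_lit 493) (BT.node (nat_lit 489) (BT.node (nat_lit 487) (BT.leaf ⟨[(nat_lit 5), (nat_lit 3), (nat_lit 5), (nat_lit 8), (nat_lit 5), (nat_lit 8), (nat_lit 1), (nat_lit 3), (nat_lit 5), (nat_lit 8), (nat_lit 5), (nat_lit 2), (nat_lit 2), (nat_lit 5), (nat_lit 8)], (nat_lit 67), (nat_lit 8), (nat_lit 0), (nat_lit 3)⟩) (BT.node (nat_lit 488) (BT.leaf ⟨[(nat_lit 5), (nat_lit 8), (nat_lit 1), (nat_lit 3), (nat_lit 5), (nat_lit 8), (nat_lit 5), (nat_lit 2), (nat_lit 2), (nat_lit 5), (nat_lit 8), (nat_lit 5), (nat_lit 3), (nat_lit 5), (nat_lit 8)], (nat_lit 67), (nat_lit 12), (nat_lit 0), (nat_lit 3)⟩) (BT.leaf ⟨[(nat_lit 5), (nat_lit 6), (nat_lit 5), (nat_lit 6), (nat_lit 5), (nat_lit 8), (nat_lit 7), (nat_lit 8)], (nat_lit 45), (nat_lit 0), (nat_lit 0), (nat_lit 4)⟩))) (BT.node (nat_lit 491) (BT.node (nat_lit 490) (BT.leaf ⟨[(nat_lit 5), (nat_lit 2), (nat_lit 5), (nat_lit 3), (nat_lit 7), (nat_lit 5), (nat_lit 6)], (nat_lit 107), (nat_lit 3), (nat_lit 0), (nat_lit 4)⟩) (BT.leaf ⟨[(nat_lit 6), (nat_lit 3), (nat_lit 5), (nat_lit 7), (nat_lit 2), (nat_lit 5)], (nat_lit 24), (nat_lit 2), (nat_lit 0), (nat_lit 5)⟩)) (BT.node (nat_lit 492) (BT.leaf ⟨[(nat_lit 5), (nat_lit 3), (nat_lit 7), (nat_lit 5), (nat_lit 6), (nat_lit 5), (nat_lit 2)], (nat_lit 107), (nat_lit 5), (nat_lit 0), (nat_lit 5)⟩) (BT.leaf ⟨[(nat_lit 7), (nat_lit 5), (nat_lit 6), (nat_lit 2), (nat_lit 5), (nat_lit 3), (nat_lit 5)], (nat_lit 32), (nat_lit 4), (nat_lit 0), (nat_lit 4)⟩)))) (BT.node (nat_lit 496) (BT.node (nat_lit 494) (BT.leaf ⟨[(nat_lit 2), (nat_lit 8), (nat_lit 5), (nat_lit 3), (nat_lit 6), (nat_lit 5), (nat_lit 8), (nat_lit 6)], (nat_lit 116), (nat_lit 4), (nat_lit 0), (nat_lit 4)⟩) (BT.node (nat_lit 495) (BT.leaf ⟨[(nat_lit 6), (nat_lit 8), (nat_lit 5), (nat_lit 3), (nat_lit 6), (nat_lit 5), (nat_lit 8), (nat_lit 2)], (nat_lit 117), (nat_lit 4), (nat_lit 0), (nat_lit 4)⟩) (BT.leaf ⟨[(nat_lit 6), (nat_lit 1), (nat_lit 6), (nat_lit 1), (nat_lit 6), (nat_lit 1)], (nat_lit 20), (nat_lit 1), (nat_lit 0), (nat_lit 5)⟩))) (BT.node (nat_lit 498) (BT.node (nat_lit 497) (BT.leaf ⟨[(nat_lit 8), (nat_lit 7), (nat_lit 3), (nat_lit 8), (nat_lit 5), (nat_lit 7), (nat_lit 2), (nat_lit 5)], (nat_lit 42), (nat_lit 2), (nat_lit 0), (nat_lit 5)⟩) (BT.leaf ⟨[(nat_lit 5), (nat_lit 8), (nat_lit 1), (nat_lit 8), (nat_lit 5), (nat_lit 6), (nat_lit 1), (nat_lit 7)], (nat_lit 40), (nat_lit 2), (nat_lit 0), (nat_lit 4)⟩)) (BT.node (nat_lit 499) (BT.leaf ⟨[(nat_lit 2), (nat_lit 5), (nat_lit 2), (nat_lit 5), (nat_lit 2), (nat_lit 5)], (nat_lit 9), (nat_lit 0), (nat_lit 0), (nat_lit 5)⟩) (BT.leaf ⟨[(nat_lit 6), (nat_lit 5), (nat_lit 7), (nat_lit 2), (nat_lit 5), (nat_lit 3)], (nat_lit 23), (nat_lit 3), (nat_lit 0), (nat_lit 5)⟩))))))) (BT.node (nat_lit 528) (BT.node (nat_lit 514) (BT.node (nat_lit 507) (BT.node (nat_lit 503) (BT.node (nat_lit 501) (BT.leaf ⟨[(nat_lit 3), (nat_lit 5), (nat_lit 7), (nat_lit 2), (nat_lit 5), (nat_lit 6)], (nat_lit 24), (nat_lit 3), (nat_lit 0), (nat_lit 5)⟩) (BT.node (nat_lit 502) (BT.leaf ⟨[(nat_lit 5), (nat_lit 6), (nat_lit 5), (nat_lit 6), (nat_lit 5), (nat_lit 8), (nat_lit 7), (nat_lit 8)], (nat_lit 45), (nat_lit 0), (nat_lit 0), (nat_lit 3)⟩) (BT.leaf ⟨[(nat_lit 8), (nat_lit 6), (nat_lit 1), (nat_lit 7), (nat_lit 8), (nat_lit 1)], (nat_lit 22), (nat_lit 4), (nat_lit 0), (nat_lit 4)⟩))) (BT.node (nat_lit 505) (BT.node (nat_lit 504) (BT.leaf ⟨[(nat_lit 7), (nat_lit 5), (nat_lit 3), (nat_lit 5), (nat_lit 6), (nat_lit 2), (nat_lit 5)], (nat_lit 108), (nat_lit 4), (nat_lit 0), (nat_lit 4)⟩) (BT.leaf ⟨[(nat_lit 6), (nat_lit 5), (nat_lit 3), (nat_lit 7), (nat_lit 5), (nat_lit 2), (nat_lit 5)], (nat_lit 33), (nat_lit 2), (nat_lit 0), (nat_lit 4)⟩)) (BT.node (nat_lit 506) (BT.leaf ⟨[(nat_lit 8), (nat_lit 1), (nat_lit 3), (nat_lit 5), (nat_lit 8), (nat_lit 5), (nat_lit 2), (nat_lit 2), (nat_lit 5), (nat_lit 8), (nat_lit 5), (nat_lit 3), (nat_lit 5), (nat_lit 8), (nat_lit 5)], (nat_lit 67), (nat_lit 13), (nat_lit 0), (nat_lit 3)⟩) (BT.leaf ⟨[(nat_lit 8), (nat_lit 5), (nat_lit 7), (nat_lit 2), (nat_lit 5), (nat_lit 8), (nat_lit 7), (nat_lit 3)], (nat_lit 42), (nat_lit 5), (nat_lit 0), (nat_lit 4)⟩)))) (BT.node (nat_lit 510) (BT.node (nat_lit 508) (BT.leaf ⟨[(nat_lit 1), (nat_lit 7), (nat_lit 8), (nat_lit 1), (nat_lit 8), (nat_lit 6)], (nat_lit 22), (nat_lit 0), (nat_lit 0), (nat_lit 5)⟩) (BT.node (nat_lit 509) (BT.leaf ⟨[(nat_lit 1), (nat_lit 6), (nat_lit 8), (nat_lit 1), (nat_lit 6), (nat_lit 1), (nat_lit 8)], (nat_lit 28), (nat_lit 4), (nat_lit 0), (nat_lit 4)⟩) (BT.leaf ⟨[(nat_lit 5), (nat_lit 3), (nat_lit 7), (nat_lit 3), (nat_lit 5), (nat_lit 3), (nat_lit 6)], (nat_lit 105), (nat_lit 1), (nat_lit 0), (nat_lit 4)⟩))) (BT.node (nat_lit 512) (BT.node (nat_lit 511) (BT.leaf ⟨[(nat_lit 8), (nat_lit 5), (nat_lit 2), (nat_lit 1), (nat_lit 8), (nat_lit 5), (nat_lit 8), (nat_lit 5), (nat_lit 2), (nat_lit 5), (nat_lit 8), (nat_lit 5), (nat_lit 3), (nat_lit 3), (nat_lit 5)], (nat_lit 142), (nat_lit 12), (nat_lit 0), (nat_lit 4)⟩) (BT.leaf ⟨[(nat_lit 6), (nat_lit 1), (nat_lit 8), (nat_lit 6), (nat_lit 1), (nat_lit 8)], (nat_lit 96), (nat_lit 1), (nat_lit 0), (nat_lit 4)⟩)) (BT.node (nat_lit 513) (BT.leaf ⟨[(nat_lit 4), (nat_lit 7), (nat_lit 4), (nat_lit 6), (nat_lit 4), (nat_lit 7), (nat_lit 4), (nat_lit 6), (nat_lit 4), (nat_lit 7), (nat_lit 4), (nat_lit 6), (nat_lit 4), (nat_lit 7), (nat_lit 4), (nat_lit 6)], (nat_lit 52), (nat_lit 2), (nat_lit 0), (nat_lit 5)⟩) (BT.leaf ⟨[(nat_lit 0), (nat_lit 4), (nat_lit 7), (nat_lit 1), (nat_lit 6), (nat_lit 4), (nat_lit 7), (nat_lit 1), (nat_lit 6)], (nat_lit 51), (nat_lit 2), (nat_lit 1), (nat_lit 3)⟩))))) (BT.node (nat_lit 521) (BT.node (nat_lit 517) (BT.node (nat_lit 515) (BT.leaf ⟨[(nat_lit 5), (nat_lit 7), (nat_lit 5), (nat_lit 7), (nat_lit 5), (nat_lit 8), (nat_lit 6), (nat_lit 8)], (nat_lit 120), (nat_lit 3), (nat_lit 0), (nat_lit 3)⟩) (BT.node (nat_lit 516) (BT.leaf ⟨[(nat_lit 3), (nat_lit 8), (nat_lit 2), (nat_lit 8)], (nat_lit 5), (nat_lit 2), (nat_lit 0), (nat_lit 5)⟩) (BT.leaf ⟨[(nat_lit 8), (nat_lit 5), (nat_lit 2), (nat_lit 5), (nat_lit 8), (nat_lit 5), (nat_lit 3), (nat_lit 3), (nat_lit 5), (nat_lit 8), (nat_lit 5), (nat_lit 2), (nat_lit 1), (nat_lit 8), (nat_lit 5)], (nat_lit 142), (nat_lit 3), (nat_lit 0), (nat_lit 4)⟩))) (BT.node (nat_lit 519) (BT.node (nat_lit 518) (BT.leaf ⟨[(nat_lit 8), (nat_lit 1), (nat_lit 3), (nat_lit 5), (nat_lit 8), (nat_lit 5), (nat_lit 2), (nat_lit 2), (nat_lit 5), (nat_lit 8), (nat_lit 5), (nat_lit 3), (nat_lit 5), (nat_lit 8), (nat_lit 5)], (nat_lit 67), (nat_lit 13), (nat_lit 0), (nat_lit 4)⟩) (BT.leaf ⟨[(nat_lit 5), (nat_lit 3), (nat_lit 5), (nat_lit 6), (nat_lit 2), (nat_lit 5), (nat_lit 7)], (nat_lit 108), (nat_lit 5), (nat_lit 0), (nat_lit 5)⟩)) (BT.node (nat_lit 520) (BT.leaf ⟨[(nat_lit 7), (nat_lit 8), (nat_lit 5), (nat_lit 7), (nat_lit 2), (nat_lit 5), (nat_lit 8), (nat_lit 3)], (nat_lit 41), (nat_lit 4), (nat_lit 0), (nat_lit 3)⟩) (BT.leaf ⟨[(nat_lit 5), (nat_lit 2), (nat_lit 5), (nat_lit 3), (nat_lit 7), (nat_lit 5), (nat_lit 6)], (nat_lit 107), (nat_lit 3), (nat_lit 0), (nat_lit 5)⟩)))) (BT.node (nat_lit 524) (BT.node (nat_lit 522) (BT.leaf ⟨[(nat_lit 8), (nat_lit 7), (nat_lit 1), (nat_lit 6), (nat_lit 1), (nat_lit 8), (nat_lit 1)], (nat_lit 29), (nat_lit 5), (nat_lit 0), (nat_lit 4)⟩) (BT.node (nat_lit 523) (BT.leaf ⟨[(nat_lit 3), (nat_lit 5), (nat_lit 3), (nat_lit 5), (nat_lit 3), (nat_lit 5)], (nat_lit 84), (nat_lit 1), (nat_lit 0), (nat_lit 5)⟩) (BT.leaf ⟨[(nat_lit 8), (nat_lit 5), (nat_lit 2), (nat_lit 2), (nat_lit 5), (nat_lit 8), (nat_lit 5), (nat_lit 3), (nat_lit 5), (nat_lit 8), (nat_lit 5), (nat_lit 8), (nat_lit 1), (nat_lit 3), (nat_lit 5)], (nat_lit 67), (nat_lit 2), (nat_lit 0), (nat_lit 4)⟩))) (BT.node (nat_lit 526) (BT.node (nat_lit 525) (BT.leaf ⟨[(nat_lit 8), (nat_lit 5), (nat_lit 3), (nat_lit 3), (nat_lit 5), (nat_lit 8), (nat_lit 5), (nat_lit 2), (nat_lit 1), (nat_lit 8), (nat_lit 5), (nat_lit 8), (nat_lit 5), (nat_lit 2), (nat_lit 5)], (nat_lit 142), (nat_lit 7), (nat_lit 0), (nat_lit 4)⟩) (BT.leaf ⟨[(nat_lit 5), (nat_lit 7), (nat_lit 5), (nat_lit 7), (nat_lit 5), (nat_lit 8), (nat_lit 6), (nat_lit 8)], (nat_lit 120), (nat_lit 3), (nat_lit 0), (nat_lit 4)⟩)) (BT.node (nat_lit 527) (BT.leaf ⟨[(nat_lit 8), (nat_lit 5), (nat_lit 3), (nat_lit 5), (nat_lit 8), (nat_lit 5), (nat_lit 8), (nat_lit 1), (nat_lit 3), (nat_lit 5), (nat_lit 8), (nat_lit 5), (nat_lit 2), (nat_lit 2), (nat_lit 5)], (nat_lit 67), (nat_lit 7), (nat_lit 0), (nat_lit 4)⟩) (BT.leaf ⟨[(nat_lit 6), (nat_lit 8), (nat_lit 1), (nat_lit 8), (nat_lit 1), (nat_lit 7), (nat_lit 1)], (nat_lit 104), (nat_lit 0), (nat_lit 0), (nat_lit 4)⟩)))))) (BT.node (nat_lit 542) (BT.node (nat_lit 535) (BT.node (nat_lit 531) (BT.node (nat_lit 529) (BT.leaf ⟨[(nat_lit 6), (nat_lit 5), (nat_lit 7), (nat_lit 5), (nat_lit 3), (nat_lit 5), (nat_lit 2)], (nat_lit 109), (nat_lit 2), (nat_lit 0), (nat_lit 4)⟩) (BT.node (nat_lit 530) (BT.leaf ⟨[(nat_lit 6), (nat_lit 4), (nat_lit 7), (nat_lit 4), (nat_lit 6), (nat_lit 4), (nat_lit 7), (nat_lit 4), (nat_lit 6), (nat_lit 4), (nat_lit 7), (nat_lit 4), (nat_lit 6), (nat_lit 4), (nat_lit 7), (nat_lit 4)], (nat_lit 52), (nat_lit 1), (nat_lit 0), (nat_lit 5)⟩) (BT.leaf ⟨[(nat_lit 5), (nat_lit 3), (nat_lit 5), (nat_lit 7), (nat_lit 5), (nat_lit 6), (nat_lit 2)], (nat_lit 32), (nat_lit 1), (nat_lit 0), (nat_lit 4)⟩))) (BT.node (nat_lit 533) (BT.node (nat_lit 532) (BT.leaf ⟨[(nat_lit 1), (nat_lit 8), (nat_lit 1), (nat_lit 7), (nat_lit 1), (nat_lit 6), (nat_lit 8)], (nat_lit 104), (nat_lit 2), (nat_lit 0), (nat_lit 4)⟩) (BT.leaf ⟨[(nat_lit 5), (nat_lit 6), (nat_lit 3), (nat_lit 5), (nat_lit 8), (nat_lit 2), (nat_lit 6), (nat_lit 8)], (nat_lit 43), (nat_lit 3), (nat_lit 0), (nat_lit 3)⟩)) (BT.node (nat_lit 534) (BT.leaf ⟨[(nat_lit 5), (nat_lit 7), (nat_lit 2), (nat_lit 5), (nat_lit 8), (nat_lit 3), (nat_lit 7), (nat_lit 8)], (nat_lit 41), (nat_lit 6), (nat_lit 0), (nat_lit 4)⟩) (BT.leaf ⟨[(nat_lit 7), (nat_lit 5), (nat_lit 8), (nat_lit 6), (nat_lit 8), (nat_lit 5), (nat_lit 7), (nat_lit 5)], (nat_lit 120), (nat_lit 6), (nat_lit 0), (nat_lit 4)⟩)))) (BT.node (nat_lit 538) (BT.node (nat_lit 536) (BT.leaf ⟨[(nat_lit 5), (nat_lit 3), (nat_lit 5), (nat_lit 6), (nat_lit 2), (nat_lit 5), (nat_lit 7)], (nat_lit 108), (nat_lit 5), (nat_lit 0), (nat_lit 4)⟩) (BT.node (nat_lit 537) (BT.leaf ⟨[(nat_lit 4), (nat_lit 7), (nat_lit 1), (nat_lit 6), (nat_lit 4), (nat_lit 7), (nat_lit 1), (nat_lit 6)], (nat_lit 51), (nat_lit 2), (nat_lit 0), (nat_lit 4)⟩) (BT.leaf ⟨[(nat_lit 8), (nat_lit 5), (nat_lit 8), (nat_lit 1), (nat_lit 3), (nat_lit 5), (nat_lit 8), (nat_lit 5), (nat_lit 2), (nat_lit 2), (nat_lit 5), (nat_lit 8), (nat_lit 5), (nat_lit 3), (nat_lit 5)], (nat_lit 67), (nat_lit 11), (nat_lit 0), (nat_lit 4)⟩))) (BT.node (nat_lit 540) (BT.node (nat_lit 539) (BT.leaf ⟨[(nat_lit 5), (nat_lit 8), (nat_lit 5), (nat_lit 4), (nat_lit 5), (nat_lit 8), (nat_lit 5), (nat_lit 4)], (nat_lit 14), (nat_lit 1), (nat_lit 0), (nat_lit 5)⟩) (BT.leaf ⟨[(nat_lit 5), (nat_lit 3), (nat_lit 7), (nat_lit 5), (nat_lit 2), (nat_lit 5), (nat_lit 6)], (nat_lit 33), (nat_lit 3), (nat_lit 0), (nat_lit 5)⟩)) (BT.node (nat_lit 541) (BT.leaf ⟨[(nat_lit 7), (nat_lit 8), (nat_lit 1), (nat_lit 8), (nat_lit 6), (nat_lit 1)], (nat_lit 22), (nat_lit 1), (nat_lit 0), (nat_lit 5)⟩) (BT.leaf ⟨[(nat_lit 5), (nat_lit 8), (nat_lit 7), (nat_lit 3), (nat_lit 8), (nat_lit 5), (nat_lit 2), (nat_lit 7)], (nat_lit 118), (nat_lit 4), (nat_lit 0), (nat_lit 4)⟩))))) (BT.node (nat_lit 549) (BT.node (nat_lit 545) (BT.node (nat_lit 543) (BT.leaf ⟨[(nat_lit 5), (nat_lit 2), (nat_lit 1), (nat_lit 7), (nat_lit 5), (nat_lit 3), (nat_lit 6), (nat_lit 1)], (nat_lit 112), (nat_lit 5), (nat_lit 0), (nat_lit 4)⟩) (BT.node (nat_lit 544) (BT.leaf ⟨[(nat_lit 5), (nat_lit 2), (nat_lit 5), (nat_lit 6), (nat_lit 5), (nat_lit 3), (nat_lit 7)], (nat_lit 33), (nat_lit 6), (nat_lit 0), (nat_lit 3)⟩) (BT.leaf ⟨[(nat_lit 6), (nat_lit 1), (nat_lit 3), (nat_lit 5), (nat_lit 1), (nat_lit 7), (nat_lit 2), (nat_lit 5)], (nat_lit 37), (nat_lit 7), (nat_lit 0), (nat_lit 4)⟩))) (BT.node (nat_lit 547) (BT.node (nat_lit 546) (BT.leaf ⟨[(nat_lit 5), (nat_lit 6), (nat_lit 5), (nat_lit 8), (nat_lit 7), (nat_lit 8), (nat_lit 5), (nat_lit 6)], (nat_lit 45), (nat_lit 2), (nat_lit 0), (nat_lit 4)⟩) (BT.leaf ⟨[(nat_lit 5), (nat_lit 2), (nat_lit 6), (nat_lit 2), (nat_lit 5), (nat_lit 7), (nat_lit 2)], (nat_lit 30), (nat_lit 1), (nat_lit 0), (nat_lit 4)⟩)) (BT.node (nat_lit 548) (BT.leaf ⟨[(nat_lit 5), (nat_lit 1), (nat_lit 7), (nat_lit 2), (nat_lit 5), (nat_lit 6), (nat_lit 1), (nat_lit 3)], (nat_lit 37), (nat_lit 2), (nat_lit 0), (nat_lit 4)⟩) (BT.leaf ⟨[(nat_lit 6), (nat_lit 8), (nat_lit 1), (nat_lit 6), (nat_lit 1), (nat_lit 8), (nat_lit 1)], (nat_lit 28), (nat_lit 5), (nat_lit 0), (nat_lit 4)⟩)))) (BT.node (nat_lit 552) (BT.node (nat_lit 550) (BT.leaf ⟨[(nat_lit 5), (nat_lit 7), (nat_lit 5), (nat_lit 3), (nat_lit 5), (nat_lit 2), (nat_lit 6)], (nat_lit 109), (nat_lit 3), (nat_lit 0), (nat_lit 4)⟩) (BT.node (nat_lit 551) (BT.leaf ⟨[(nat_lit 7), (nat_lit 3), (nat_lit 5), (nat_lit 3), (nat_lit 6), (nat_lit 5), (nat_lit 3)], (nat_lit 105), (nat_lit 3), (nat_lit 0), (nat_lit 4)⟩) (BT.leaf ⟨[(nat_lit 5), (nat_lit 2), (nat_lit 5), (nat_lit 6), (nat_lit 5), (nat_lit 3), (nat_lit 7)], (nat_lit 33), (nat_lit 6), (nat_lit 0), (nat_lit 4)⟩))) (BT.node (nat_lit 554) (BT.node (nat_lit 553) (BT.leaf ⟨[(nat_lit 5), (nat_lit 8), (nat_lit 5), (nat_lit 2), (nat_lit 1), (nat_lit 8), (nat_lit 5), (nat_lit 8), (nat_lit 5), (nat_lit 2), (nat_lit 5), (nat_lit 8), (nat_lit 5), (nat_lit 3), (nat_lit 3)], (nat_lit 142), (nat_lit 11), (nat_lit 0), (nat_lit 3)⟩) (BT.leaf ⟨[(nat_lit 5), (nat_lit 7), (nat_lit 5), (nat_lit 8), (nat_lit 6), (nat_lit 8), (nat_lit 5), (nat_lit 7)], (nat_lit 120), (nat_lit 5), (nat_lit 0), (nat_lit 4)⟩)) (BT.node (nat_lit 555) (BT.leaf ⟨[(nat_lit 0), (nat_lit 4), (nat_lit 1), (nat_lit 4), (nat_lit 8)], (nat_lit 2), (nat_lit 3), (nat_lit 1), (nat_lit 4)⟩) (BT.leaf ⟨[(nat_lit 0), (nat_lit 4), (nat_lit 7), (nat_lit 1), (nat_lit 6), (nat_lit 4), (nat_lit 7), (nat_lit 1), (nat_lit 6)], (nat_lit 51), (nat_lit 2), (nat_lit 1), (nat_lit 5)⟩)))))))) (BT.node (nat_lit 612) (BT.node (nat_lit 584) (BT.node (nat_lit 570) (BT.node (nat_lit 563) (BT.node (nat_lit 559) (BT.node (nat_lit 557) (BT.leaf ⟨[(nat_lit 0), (nat_lit 6), (nat_lit 4), (nat_lit 7), (nat_lit 4), (nat_lit 6), (nat_lit 4), (nat_lit 7), (nat_lit 4), (nat_lit 6), (nat_lit 4), (nat_lit 7), (nat_lit 4), (nat_lit 6), (nat_lit 4), (nat_lit 7), (nat_lit 4)], (nat_lit 52), (nat_lit 1), (nat_lit 1), (nat_lit 5)⟩) (BT.node (nat_lit 558) (BT.leaf ⟨[(nat_lit 4), (nat_lit 1), (nat_lit 4), (nat_lit 6), (nat_lit 4), (nat_lit 1), (nat_lit 4), (nat_lit 6)], (nat_lit 50), (nat_lit 3), (nat_lit 0), (nat_lit 4)⟩) (BT.leaf ⟨[(nat_lit 0), (nat_lit 6), (nat_lit 8), (nat_lit 6), (nat_lit 8)], (nat_lit 17), (nat_lit 0), (nat_lit 1), (nat_lit 4)⟩))) (BT.node (nat_lit 561) (BT.node (nat_lit 560) (BT.leaf ⟨[(nat_lit 0), (nat_lit 4), (nat_lit 6), (nat_lit 4), (nat_lit 7), (nat_lit 4), (nat_lit 6), (nat_lit 4), (nat_lit 7), (nat_lit 4), (nat_lit 6), (nat_lit 4), (nat_lit 7), (nat_lit 4), (nat_lit 6), (nat_lit 4), (nat_lit 7)], (nat_lit 52), (nat_lit 0), (nat_lit 1), (nat_lit 5)⟩) (BT.leaf ⟨[(nat_lit 0), (nat_lit 4), (nat_lit 1), (nat_lit 8), (nat_lit 1), (nat_lit 4), (nat_lit 6), (nat_lit 1), (nat_lit 7)], (nat_lit 49), (nat_lit 5), (nat_lit 1), (nat_lit 5)⟩)) (BT.node (nat_lit 562) (BT.leaf ⟨[(nat_lit 7), (nat_lit 4), (nat_lit 1), (nat_lit 8), (nat_lit 1), (nat_lit 4), (nat_lit 6), (nat_lit 1)], (nat_lit 49), (nat_lit 4), (nat_lit 0), (nat_lit 4)⟩) (BT.leaf ⟨[(nat_lit 8), (nat_lit 1), (nat_lit 8), (nat_lit 5), (nat_lit 8), (nat_lit 1), (nat_lit 8), (nat_lit 5)], (nat_lit 13), (nat_lit 3), (nat_lit 0), (nat_lit 5)⟩)))) (BT.node (nat_lit 566) (BT.node (nat_lit 564) (BT.leaf ⟨[(nat_lit 4), (nat_lit 1), (nat_lit 8), (nat_lit 1), (nat_lit 4), (nat_lit 6), (nat_lit 1), (nat_lit 7)], (nat_lit 49), (nat_lit 5), (nat_lit 0), (nat_lit 5)⟩) (BT.node (nat_lit 565) (BT.leaf ⟨[(nat_lit 7), (nat_lit 1), (nat_lit 6), (nat_lit 4), (nat_lit 7), (nat_lit 1), (nat_lit 6), (nat_lit 4)], (nat_lit 51), (nat_lit 3), (nat_lit 0), (nat_lit 5)⟩) (BT.leaf ⟨[(nat_lit 8), (nat_lit 1), (nat_lit 7), (nat_lit 1), (nat_lit 8), (nat_lit 7), (nat_lit 1)], (nat_lit 103), (nat_lit 3), (nat_lit 0), (nat_lit 5)⟩))) (BT.node (nat_lit 568) (BT.node (nat_lit 567) (BT.leaf ⟨[(nat_lit 5), (nat_lit 3), (nat_lit 5), (nat_lit 7), (nat_lit 5), (nat_lit 6), (nat_lit 2)], (nat_lit 32), (nat_lit 1), (nat_lit 0), (nat_lit 5)⟩) (BT.leaf ⟨[(nat_lit 3), (nat_lit 1), (nat_lit 6), (nat_lit 5), (nat_lit 2), (nat_lit 7), (nat_lit 1), (nat_lit 5)], (nat_lit 111), (nat_lit 6), (nat_lit 0), (nat_lit 4)⟩)) (BT.node (nat_lit 569) (BT.leaf ⟨[(nat_lit 2), (nat_lit 5), (nat_lit 6), (nat_lit 5), (nat_lit 3), (nat_lit 7), (nat_lit 5)], (nat_lit 33), (nat_lit 0), (nat_lit 0), (nat_lit 4)⟩) (BT.leaf ⟨[(nat_lit 5), (nat_lit 8), (nat_lit 5), (nat_lit 2), (nat_lit 5), (nat_lit 8), (nat_lit 5), (nat_lit 3), (nat_lit 3), (nat_lit 5), (nat_lit 8), (nat_lit 5), (nat_lit 2), (nat_lit 1), (nat_lit 8)], (nat_lit 142), (nat_lit 2), (nat_lit 0), (nat_lit 3)⟩))))) (BT.node (nat_lit 577) (BT.node (nat_lit 573) (BT.node (nat_lit 571) (BT.leaf ⟨[(nat_lit 8), (nat_lit 5), (nat_lit 7), (nat_lit 2), (nat_lit 5), (nat_lit 8), (nat_lit 3), (nat_lit 7)], (nat_lit 41), (nat_lit 5), (nat_lit 0), (nat_lit 5)⟩) (BT.node (nat_lit 572) (BT.leaf ⟨[(nat_lit 5), (nat_lit 3), (nat_lit 6), (nat_lit 5), (nat_lit 8), (nat_lit 6), (nat_lit 2), (nat_lit 8)], (nat_lit 116), (nat_lit 6), (nat_lit 0), (nat_lit 4)⟩) (BT.leaf ⟨[(nat_lit 4), (nat_lit 6), (nat_lit 1), (nat_lit 7), (nat_lit 4), (nat_lit 1), (nat_lit 8), (nat_lit 1)], (nat_lit 49), (nat_lit 1), (nat_lit 0), (nat_lit 3)⟩))) (BT.node (nat_lit 575) (BT.node (nat_lit 574) (BT.leaf ⟨[(nat_lit 1), (nat_lit 6), (nat_lit 1), (nat_lit 8), (nat_lit 1), (nat_lit 6), (nat_lit 8)], (nat_lit 28), (nat_lit 0), (nat_lit 0), (nat_lit 5)⟩) (BT.leaf ⟨[(nat_lit 4), (nat_lit 6), (nat_lit 4), (nat_lit 7), (nat_lit 4), (nat_lit 6), (nat_lit 4), (nat_lit 7), (nat_lit 4), (nat_lit 6), (nat_lit 4), (nat_lit 7), (nat_lit 4), (nat_lit 6), (nat_lit 4), (nat_lit 7)], (nat_lit 52), (nat_lit 0), (nat_lit 0), (nat_lit 5)⟩)) (BT.node (nat_lit 576) (BT.leaf ⟨[(nat_lit 1), (nat_lit 4), (nat_lit 6), (nat_lit 1), (nat_lit 7), (nat_lit 4), (nat_lit 1), (nat_lit 8)], (nat_lit 49), (nat_lit 0), (nat_lit 0), (nat_lit 3)⟩) (BT.leaf ⟨[(nat_lit 8), (nat_lit 5), (nat_lit 2), (nat_lit 5), (nat_lit 8), (nat_lit 5), (nat_lit 3), (nat_lit 3), (nat_lit 5), (nat_lit 8), (nat_lit 5), (nat_lit 2), (nat_lit 1), (nat_lit 8), (nat_lit 5)], (nat_lit 142), (nat_lit 3), (nat_lit 0), (nat_lit 5)⟩)))) (BT.node (nat_lit 580) (BT.node (nat_lit 578) (BT.leaf ⟨[(nat_lit 6), (nat_lit 2), (nat_lit 5), (nat_lit 7), (nat_lit 2), (nat_lit 5), (nat_lit 2)], (nat_lit 30), (nat_lit 3), (nat_lit 0), (nat_lit 4)⟩) (BT.node (nat_lit 579) (BT.leaf ⟨[(nat_lit 4), (nat_lit 5), (nat_lit 8), (nat_lit 5), (nat_lit 4), (nat_lit 5), (nat_lit 8), (nat_lit 5)], (nat_lit 14), (nat_lit 0), (nat_lit 0), (nat_lit 5)⟩) (BT.leaf ⟨[(nat_lit 7), (nat_lit 1), (nat_lit 6), (nat_lit 8), (nat_lit 1), (nat_lit 8), (nat_lit 1)], (nat_lit 104), (nat_lit 5), (nat_lit 0), (nat_lit 4)⟩))) (BT.node (nat_lit 582) (BT.node (nat_lit 581) (BT.leaf ⟨[(nat_lit 5), (nat_lit 2), (nat_lit 7), (nat_lit 5), (nat_lit 6), (nat_lit 3)], (nat_lit 25), (nat_lit 5), (nat_lit 0), (nat_lit 5)⟩) (BT.leaf ⟨[(nat_lit 4), (nat_lit 1), (nat_lit 4), (nat_lit 6), (nat_lit 8), (nat_lit 6)], (nat_lit 46), (nat_lit 5), (nat_lit 0), (nat_lit 4)⟩)) (BT.node (nat_lit 583) (BT.leaf ⟨[(nat_lit 6), (nat_lit 1), (nat_lit 8), (nat_lit 6), (nat_lit 1), (nat_lit 8)], (nat_lit 96), (nat_lit 1), (nat_lit 0), (nat_lit 5)⟩) (BT.leaf ⟨[(nat_lit 5), (nat_lit 6), (nat_lit 2), (nat_lit 5), (nat_lit 3), (nat_lit 5), (nat_lit 7)], (nat_lit 32), (nat_lit 5), (nat_lit 0), (nat_lit 4)⟩)))))) (BT.node (nat_lit 598) (BT.node (nat_lit 591) (BT.node (nat_lit 587) (BT.node (nat_lit 585) (BT.leaf ⟨[(nat_lit 8), (nat_lit 7), (nat_lit 1), (nat_lit 8), (nat_lit 1), (nat_lit 7), (nat_lit 1)], (nat_lit 103), (nat_lit 0), (nat_lit 0), (nat_lit 5)⟩) (BT.node (nat_lit 586) (BT.leaf ⟨[(nat_lit 5), (nat_lit 8), (nat_lit 1), (nat_lit 3), (nat_lit 5), (nat_lit 8), (nat_lit 5), (nat_lit 2), (nat_lit 2), (nat_lit 5), (nat_lit 8), (nat_lit 5), (nat_lit 3), (nat_lit 5), (nat_lit 8)], (nat_lit 67), (nat_lit 12), (nat_lit 0), (nat_lit 4)⟩) (BT.leaf ⟨[(nat_lit 5), (nat_lit 6), (nat_lit 3), (nat_lit 5), (nat_lit 8), (nat_lit 2), (nat_lit 6), (nat_lit 8)], (nat_lit 43), (nat_lit 3), (nat_lit 0), (nat_lit 4)⟩))) (BT.node (nat_lit 589) (BT.node (nat_lit 588) (BT.leaf ⟨[(nat_lit 5), (nat_lit 8), (nat_lit 5), (nat_lit 2), (nat_lit 5), (nat_lit 8), (nat_lit 5), (nat_lit 3), (nat_lit 3), (nat_lit 5), (nat_lit 8), (nat_lit 5), (nat_lit 2), (nat_lit 1), (nat_lit 8)], (nat_lit 142), (nat_lit 2), (nat_lit 0), (nat_lit 4)⟩) (BT.leaf ⟨[(nat_lit 8), (nat_lit 5), (nat_lit 8), (nat_lit 5), (nat_lit 2), (nat_lit 5), (nat_lit 8), (nat_lit 5), (nat_lit 3), (nat_lit 3), (nat_lit 5), (nat_lit 8), (nat_lit 5), (nat_lit 2), (nat_lit 1)], (nat_lit 142), (nat_lit 1), (nat_lit 0), (nat_lit 4)⟩)) (BT.node (nat_lit 590) (BT.leaf ⟨[(nat_lit 7), (nat_lit 3), (nat_lit 5), (nat_lit 2), (nat_lit 5), (nat_lit 6), (nat_lit 5)], (nat_lit 34), (nat_lit 4), (nat_lit 0), (nat_lit 4)⟩) (BT.leaf ⟨[(nat_lit 5), (nat_lit 3), (nat_lit 6), (nat_lit 1), (nat_lit 5), (nat_lit 2), (nat_lit 1), (nat_lit 7)], (nat_lit 112), (nat_lit 1), (nat_lit 0), (nat_lit 3)⟩)))) (BT.node (nat_lit 594) (BT.node (nat_lit 592) (BT.leaf ⟨[(nat_lit 1), (nat_lit 6), (nat_lit 1), (nat_lit 8), (nat_lit 1), (nat_lit 6), (nat_lit 8)], (nat_lit 28), (nat_lit 0), (nat_lit 0), (nat_lit 4)⟩) (BT.node (nat_lit 593) (BT.leaf ⟨[(nat_lit 7), (nat_lit 4), (nat_lit 1), (nat_lit 8), (nat_lit 1), (nat_lit 4), (nat_lit 6), (nat_lit 1)], (nat_lit 49), (nat_lit 4), (nat_lit 0), (nat_lit 5)⟩) (BT.leaf ⟨[(nat_lit 7), (nat_lit 8), (nat_lit 1), (nat_lit 7), (nat_lit 8), (nat_lit 1)], (nat_lit 21), (nat_lit 1), (nat_lit 0), (nat_lit 5)⟩))) (BT.node (nat_lit 596) (BT.node (nat_lit 595) (BT.leaf ⟨[(nat_lit 7), (nat_lit 1), (nat_lit 8), (nat_lit 1), (nat_lit 7), (nat_lit 1), (nat_lit 8)], (nat_lit 103), (nat_lit 1), (nat_lit 0), (nat_lit 4)⟩) (BT.leaf ⟨[(nat_lit 8), (nat_lit 5), (nat_lit 4), (nat_lit 5), (nat_lit 8), (nat_lit 5), (nat_lit 4), (nat_lit 5)], (nat_lit 14), (nat_lit 2), (nat_lit 0), (nat_lit 5)⟩)) (BT.node (nat_lit 597) (BT.leaf ⟨[(nat_lit 8), (nat_lit 7), (nat_lit 1), (nat_lit 6), (nat_lit 1), (nat_lit 8), (nat_lit 1)], (nat_lit 29), (nat_lit 5), (nat_lit 0), (nat_lit 5)⟩) (BT.leaf ⟨[(nat_lit 1), (nat_lit 7), (nat_lit 4), (nat_lit 1), (nat_lit 8), (nat_lit 1), (nat_lit 4), (nat_lit 6)], (nat_lit 49), (nat_lit 3), (nat_lit 0), (nat_lit 4)⟩))))) (BT.node (nat_lit 605) (BT.node (nat_lit 601) (BT.node (nat_lit 599) (BT.leaf ⟨[(nat_lit 1), (nat_lit 7), (nat_lit 5), (nat_lit 8), (nat_lit 1), (nat_lit 8), (nat_lit 5), (nat_lit 6)], (nat_lit 40), (nat_lit 0), (nat_lit 0), (nat_lit 4)⟩) (BT.node (nat_lit 600) (BT.leaf ⟨[(nat_lit 6), (nat_lit 1), (nat_lit 7), (nat_lit 5), (nat_lit 6), (nat_lit 1), (nat_lit 7), (nat_lit 5)], (nat_lit 39), (nat_lit 3), (nat_lit 0), (nat_lit 4)⟩) (BT.leaf ⟨[(nat_lit 3), (nat_lit 5), (nat_lit 2), (nat_lit 6), (nat_lit 5), (nat_lit 7), (nat_lit 5)], (nat_lit 109), (nat_lit 6), (nat_lit 0), (nat_lit 3)⟩))) (BT.node (nat_lit 603) (BT.node (nat_lit 602) (BT.leaf ⟨[(nat_lit 6), (nat_lit 3), (nat_lit 5), (nat_lit 2), (nat_lit 7), (nat_lit 5)], (nat_lit 25), (nat_lit 3), (nat_lit 0), (nat_lit 5)⟩) (BT.leaf ⟨[(nat_lit 5), (nat_lit 7), (nat_lit 5), (nat_lit 3), (nat_lit 5), (nat_lit 6), (nat_lit 2)], (nat_lit 108), (nat_lit 3), (nat_lit 0), (nat_lit 5)⟩)) (BT.node (nat_lit 604) (BT.leaf ⟨[(nat_lit 5), (nat_lit 6), (nat_lit 5), (nat_lit 3), (nat_lit 7), (nat_lit 5), (nat_lit 2)], (nat_lit 33), (nat_lit 1), (nat_lit 0), (nat_lit 5)⟩) (BT.leaf ⟨[(nat_lit 0), (nat_lit 4), (nat_lit 8), (nat_lit 4), (nat_lit 1)], (nat_lit 2), (nat_lit 1), (nat_lit 1), (nat_lit 3)⟩)))) (BT.node (nat_lit 608) (BT.node (nat_lit 606) (BT.leaf ⟨[(nat_lit 0), (nat_lit 8), (nat_lit 4), (nat_lit 1), (nat_lit 4)], (nat_lit 2), (nat_lit 2), (nat_lit 1), (nat_lit 3)⟩) (BT.node (nat_lit 607) (BT.leaf ⟨[(nat_lit 6), (nat_lit 8), (nat_lit 1), (nat_lit 8), (nat_lit 1), (nat_lit 7), (nat_lit 1)], (nat_lit 104), (nat_lit 0), (nat_lit 0), (nat_lit 5)⟩) (BT.leaf ⟨[(nat_lit 8), (nat_lit 1), (nat_lit 7), (nat_lit 1), (nat_lit 6), (nat_lit 8), (nat_lit 1)], (nat_lit 104), (nat_lit 3), (nat_lit 0), (nat_lit 5)⟩))) (BT.node (nat_lit 610) (BT.node (nat_lit 609) (BT.leaf ⟨[(nat_lit 6), (nat_lit 5), (nat_lit 2), (nat_lit 5), (nat_lit 7), (nat_lit 3), (nat_lit 5)], (nat_lit 35), (nat_lit 5), (nat_lit 0), (nat_lit 4)⟩) (BT.leaf ⟨[(nat_lit 3), (nat_lit 5), (nat_lit 1), (nat_lit 7), (nat_lit 2), (nat_lit 5), (nat_lit 6), (nat_lit 1)], (nat_lit 37), (nat_lit 1), (nat_lit 0), (nat_lit 4)⟩)) (BT.node (nat_lit 611) (BT.leaf ⟨[(nat_lit 8), (nat_lit 1), (nat_lit 8), (nat_lit 1), (nat_lit 8), (nat_lit 1), (nat_lit 8), (nat_lit 1)], (nat_lit 12), (nat_lit 1), (nat_lit 0), (nat_lit 4)⟩) (BT.leaf ⟨[(nat_lit 5), (nat_lit 8), (nat_lit 1), (nat_lit 8), (nat_lit 5), (nat_lit 8), (nat_lit 1), (nat_lit 8)], (nat_lit 13), (nat_lit 2), (nat_lit 0), (nat_lit 5)⟩))))))) (BT.node (nat_lit 640) (BT.node (nat_lit 626) (BT.node (nat_lit 619) (BT.node (nat_lit 615) (BT.node (nat_lit 613) (BT.leaf ⟨[(nat_lit 5), (nat_lit 2), (nat_lit 6), (nat_lit 5), (nat_lit 3), (nat_lit 5), (nat_lit 7)], (nat_lit 110), (nat_lit 2), (nat_lit 0), (nat_lit 3)⟩) (BT.node (nat_lit 614) (BT.leaf ⟨[(nat_lit 8), (nat_lit 5), (nat_lit 8), (nat_lit 5), (nat_lit 2), (nat_lit 5), (nat_lit 8), (nat_lit 5), (nat_lit 3), (nat_lit 3), (nat_lit 5), (nat_lit 8), (nat_lit 5), (nat_lit 2), (nat_lit 1)], (nat_lit 142), (nat_lit 1), (nat_lit 0), (nat_lit 3)⟩) (BT.leaf ⟨[(nat_lit 0), (nat_lit 8), (nat_lit 7), (nat_lit 8), (nat_lit 7)], (nat_lit 92), (nat_lit 0), (nat_lit 1), (nat_lit 3)⟩))) (BT.node (nat_lit 617) (BT.node (nat_lit 616) (BT.leaf ⟨[(nat_lit 8), (nat_lit 5), (nat_lit 3), (nat_lit 6), (nat_lit 5), (nat_lit 8), (nat_lit 2), (nat_lit 6)], (nat_lit 117), (nat_lit 5), (nat_lit 0), (nat_lit 5)⟩) (BT.leaf ⟨[(nat_lit 7), (nat_lit 5), (nat_lit 6), (nat_lit 1), (nat_lit 7), (nat_lit 5), (nat_lit 6), (nat_lit 1)], (nat_lit 39), (nat_lit 1), (nat_lit 0), (nat_lit 4)⟩)) (BT.node (nat_lit 618) (BT.leaf ⟨[(nat_lit 5), (nat_lit 2), (nat_lit 7), (nat_lit 5), (nat_lit 6), (nat_lit 3)], (nat_lit 25), (nat_lit 5), (nat_lit 0), (nat_lit 4)⟩) (BT.leaf ⟨[(nat_lit 6), (nat_lit 2), (nat_lit 5), (nat_lit 3), (nat_lit 5), (nat_lit 7), (nat_lit 5)], (nat_lit 32), (nat_lit 6), (nat_lit 0), (nat_lit 4)⟩)))) (BT.node (nat_lit 622) (BT.node (nat_lit 620) (BT.leaf ⟨[(nat_lit 5), (nat_lit 3), (nat_lit 5), (nat_lit 8), (nat_lit 5), (nat_lit 8), (nat_lit 1), (nat_lit 3), (nat_lit 5), (nat_lit 8), (nat_lit 5), (nat_lit 2), (nat_lit 2), (nat_lit 5), (nat_lit 8)], (nat_lit 67), (nat_lit 8), (nat_lit 0), (nat_lit 4)⟩) (BT.node (nat_lit 621) (BT.leaf ⟨[(nat_lit 0), (nat_lit 8), (nat_lit 4), (nat_lit 1), (nat_lit 4)], (nat_lit 2), (nat_lit 2), (nat_lit 1), (nat_lit 4)⟩) (BT.leaf ⟨[(nat_lit 0), (nat_lit 7), (nat_lit 1), (nat_lit 6), (nat_lit 4), (nat_lit 7), (nat_lit 1), (nat_lit 6), (nat_lit 4)], (nat_lit 51), (nat_lit 3), (nat_lit 1), (nat_lit 3)⟩))) (BT.node (nat_lit 624) (BT.node (nat_lit 623) (BT.leaf ⟨[(nat_lit 8), (nat_lit 6), (nat_lit 1), (nat_lit 7), (nat_lit 8), (nat_lit 1)], (nat_lit 22), (nat_lit 4), (nat_lit 0), (nat_lit 5)⟩) (BT.leaf ⟨[(nat_lit 6), (nat_lit 8), (nat_lit 5), (nat_lit 3), (nat_lit 6), (nat_lit 5), (nat_lit 8), (nat_lit 2)], (nat_lit 117), (nat_lit 4), (nat_lit 0), (nat_lit 3)⟩)) (BT.node (nat_lit 625) (BT.leaf ⟨[(nat_lit 0), (nat_lit 5), (nat_lit 8), (nat_lit 5), (nat_lit 4), (nat_lit 5), (nat_lit 8), (nat_lit 5), (nat_lit 4)], (nat_lit 14), (nat_lit 1), (nat_lit 1), (nat_lit 3)⟩) (BT.leaf ⟨[(nat_lit 0), (nat_lit 4), (nat_lit 5), (nat_lit 4), (nat_lit 5), (nat_lit 4), (nat_lit 5)], (nat_lit 10), (nat_lit 0), (nat_lit 1), (nat_lit 4)⟩))))) (BT.node (nat_lit 633) (BT.node (nat_lit 629) (BT.node (nat_lit 627) (BT.leaf ⟨[(nat_lit 7), (nat_lit 5), (nat_lit 2), (nat_lit 6), (nat_lit 5), (nat_lit 3), (nat_lit 5)], (nat_lit 110), (nat_lit 1), (nat_lit 0), (nat_lit 4)⟩) (BT.node (nat_lit 628) (BT.leaf ⟨[(nat_lit 0), (nat_lit 1), (nat_lit 4), (nat_lit 8), (nat_lit 4)], (nat_lit 2), (nat_lit 0), (nat_lit 1), (nat_lit 4)⟩) (BT.leaf ⟨[(nat_lit 5), (nat_lit 7), (nat_lit 3), (nat_lit 5), (nat_lit 2), (nat_lit 5), (nat_lit 6)], (nat_lit 34), (nat_lit 3), (nat_lit 0), (nat_lit 4)⟩))) (BT.node (nat_lit 631) (BT.node (nat_lit 630) (BT.leaf ⟨[(nat_lit 6), (nat_lit 4), (nat_lit 7), (nat_lit 1), (nat_lit 6), (nat_lit 4), (nat_lit 7), (nat_lit 1)], (nat_lit 51), (nat_lit 1), (nat_lit 0), (nat_lit 4)⟩) (BT.leaf ⟨[(nat_lit 7), (nat_lit 1), (nat_lit 8), (nat_lit 7), (nat_lit 1), (nat_lit 8), (nat_lit 1)], (nat_lit 103), (nat_lit 5), (nat_lit 0), (nat_lit 4)⟩)) (BT.node (nat_lit 632) (BT.leaf ⟨[(nat_lit 5), (nat_lit 6), (nat_lit 1), (nat_lit 7), (nat_lit 5), (nat_lit 6), (nat_lit 1), (nat_lit 7)], (nat_lit 39), (nat_lit 2), (nat_lit 0), (nat_lit 4)⟩) (BT.leaf ⟨[(nat_lit 5), (nat_lit 6), (nat_lit 1), (nat_lit 7), (nat_lit 5), (nat_lit 6), (nat_lit 1), (nat_lit 7)], (nat_lit 39), (nat_lit 2), (nat_lit 0), (nat_lit 3)⟩)))) (BT.node (nat_lit 636) (BT.node (nat_lit 634) (BT.leaf ⟨[(nat_lit 5), (nat_lit 6), (nat_lit 1), (nat_lit 7), (nat_lit 5), (nat_lit 8), (nat_lit 1), (nat_lit 8)], (nat_lit 40), (nat_lit 6), (nat_lit 0), (nat_lit 4)⟩) (BT.node (nat_lit 635) (BT.leaf ⟨[(nat_lit 0), (nat_lit 4), (nat_lit 3), (nat_lit 4), (nat_lit 3)], (nat_lit 79), (nat_lit 0), (nat_lit 1), (nat_lit 4)⟩) (BT.leaf ⟨[(nat_lit 7), (nat_lit 5), (nat_lit 3), (nat_lit 5), (nat_lit 2), (nat_lit 6), (nat_lit 5)], (nat_lit 109), (nat_lit 4), (nat_lit 0), (nat_lit 4)⟩))) (BT.node (nat_lit 638) (BT.node (nat_lit 637) (BT.leaf ⟨[(nat_lit 5), (nat_lit 7), (nat_lit 5), (nat_lit 2), (nat_lit 6), (nat_lit 5), (nat_lit 3)], (nat_lit 110), (nat_lit 0), (nat_lit 0), (nat_lit 4)⟩) (BT.leaf ⟨[(nat_lit 0), (nat_lit 8), (nat_lit 1), (nat_lit 8), (nat_lit 6), (nat_lit 1), (nat_lit 7)], (nat_lit 22), (nat_lit 2), (nat_lit 1), (nat_lit 4)⟩)) (BT.node (nat_lit 639) (BT.leaf ⟨[(nat_lit 7), (nat_lit 2), (nat_lit 5), (nat_lit 6), (nat_lit 3), (nat_lit 5)], (nat_lit 24), (nat_lit 5), (nat_lit 0), (nat_lit 4)⟩) (BT.leaf ⟨[(nat_lit 5), (nat_lit 7), (nat_lit 2), (nat_lit 5), (nat_lit 8), (nat_lit 7), (nat_lit 3), (nat_lit 8)], (nat_lit 42), (nat_lit 6), (nat_lit 0), (nat_lit 4)⟩)))))) (BT.node (nat_lit 654) (BT.node (nat_lit 647) (BT.node (nat_lit 643) (BT.node (nat_lit 641) (BT.leaf ⟨[(nat_lit 0), (nat_lit 4), (nat_lit 8), (nat_lit 4), (nat_lit 1)], (nat_lit 2), (nat_lit 1), (nat_lit 1), (nat_lit 4)⟩) (BT.node (nat_lit 642) (BT.leaf ⟨[(nat_lit 0), (nat_lit 5), (nat_lit 4), (nat_lit 5), (nat_lit 4), (nat_lit 5), (nat_lit 4)], (nat_lit 10), (nat_lit 1), (nat_lit 1), (nat_lit 4)⟩) (BT.leaf ⟨[(nat_lit 5), (nat_lit 6), (nat_lit 5), (nat_lit 3), (nat_lit 7), (nat_lit 5), (nat_lit 2)], (nat_lit 33), (nat_lit 1), (nat_lit 0), (nat_lit 4)⟩))) (BT.node (nat_lit 645) (BT.node (nat_lit 644) (BT.leaf ⟨[(nat_lit 0), (nat_lit 5), (nat_lit 2), (nat_lit 5), (nat_lit 3), (nat_lit 7), (nat_lit 5), (nat_lit 6)], (nat_lit 107), (nat_lit 3), (nat_lit 1), (nat_lit 4)⟩) (BT.leaf ⟨[(nat_lit 0), (nat_lit 1), (nat_lit 5), (nat_lit 1), (nat_lit 5)], (nat_lit 3), (nat_lit 0), (nat_lit 1), (nat_lit 4)⟩)) (BT.node (nat_lit 646) (BT.leaf ⟨[(nat_lit 0), (nat_lit 1), (nat_lit 4), (nat_lit 8), (nat_lit 4)], (nat_lit 2), (nat_lit 0), (nat_lit 1), (nat_lit 5)⟩) (BT.leaf ⟨[(nat_lit 0), (nat_lit 7), (nat_lit 2), (nat_lit 5), (nat_lit 3), (nat_lit 6), (nat_lit 5)], (nat_lit 23), (nat_lit 5), (nat_lit 1), (nat_lit 5)⟩)))) (BT.node (nat_lit 650) (BT.node (nat_lit 648) (BT.leaf ⟨[(nat_lit 1), (nat_lit 7), (nat_lit 5), (nat_lit 6), (nat_lit 1), (nat_lit 7), (nat_lit 5), (nat_lit 6)], (nat_lit 39), (nat_lit 0), (nat_lit 0), (nat_lit 5)⟩) (BT.node (nat_lit 649) (BT.leaf ⟨[(nat_lit 7), (nat_lit 5), (nat_lit 8), (nat_lit 1), (nat_lit 8), (nat_lit 5), (nat_lit 6), (nat_lit 1)], (nat_lit 40), (nat_lit 1), (nat_lit 0), (nat_lit 4)⟩) (BT.leaf ⟨[(nat_lit 6), (nat_lit 1), (nat_lit 8), (nat_lit 1), (nat_lit 6), (nat_lit 8), (nat_lit 1)], (nat_lit 28), (nat_lit 1), (nat_lit 0), (nat_lit 5)⟩))) (BT.node (nat_lit 652) (BT.node (nat_lit 651) (BT.leaf ⟨[(nat_lit 1), (nat_lit 5), (nat_lit 3), (nat_lit 1), (nat_lit 6), (nat_lit 5), (nat_lit 2), (nat_lit 7)], (nat_lit 111), (nat_lit 4), (nat_lit 0), (nat_lit 4)⟩) (BT.leaf ⟨[(nat_lit 6), (nat_lit 5), (nat_lit 6), (nat_lit 5), (nat_lit 6), (nat_lit 5)], (nat_lit 26), (nat_lit 1), (nat_lit 0), (nat_lit 5)⟩)) (BT.node (nat_lit 653) (BT.leaf ⟨[(nat_lit 1), (nat_lit 8), (nat_lit 6), (nat_lit 1), (nat_lit 8), (nat_lit 6)], (nat_lit 96), (nat_lit 2), (nat_lit 0), (nat_lit 5)⟩) (BT.leaf ⟨[(nat_lit 1), (nat_lit 4), (nat_lit 6), (nat_lit 1), (nat_lit 7), (nat_lit 4), (nat_lit 1), (nat_lit 8)], (nat_lit 49), (nat_lit 0), (nat_lit 0), (nat_lit 4)⟩))))) (BT.node (nat_lit 661) (BT.node (nat_lit 657) (BT.node (nat_lit 655) (BT.leaf ⟨[(nat_lit 3), (nat_lit 5), (nat_lit 7), (nat_lit 2), (nat_lit 5), (nat_lit 6)], (nat_lit 24), (nat_lit 3), (nat_lit 0), (nat_lit 4)⟩) (BT.node (nat_lit 656) (BT.leaf ⟨[(nat_lit 7), (nat_lit 5), (nat_lit 7), (nat_lit 5), (nat_lit 7), (nat_lit 5)], (nat_lit 101), (nat_lit 0), (nat_lit 0), (nat_lit 5)⟩) (BT.leaf ⟨[(nat_lit 6), (nat_lit 5), (nat_lit 2), (nat_lit 7), (nat_lit 1), (nat_lit 5), (nat_lit 3), (nat_lit 1)], (nat_lit 111), (nat_lit 0), (nat_lit 0), (nat_lit 4)⟩))) (BT.node (nat_lit 659) (BT.node (nat_lit 658) (BT.leaf ⟨[(nat_lit 2), (nat_lit 5), (nat_lit 3), (nat_lit 6), (nat_lit 5), (nat_lit 7)], (nat_lit 23), (nat_lit 0), (nat_lit 0), (nat_lit 5)⟩) (BT.leaf ⟨[(nat_lit 0), (nat_lit 8), (nat_lit 3), (nat_lit 8), (nat_lit 2)], (nat_lit 5), (nat_lit 1), (nat_lit 1), (nat_lit 4)⟩)) (BT.node (nat_lit 660) (BT.leaf ⟨[(nat_lit 3), (nat_lit 6), (nat_lit 5), (nat_lit 2), (nat_lit 7), (nat_lit 5)], (nat_lit 99), (nat_lit 5), (nat_lit 0), (nat_lit 4)⟩) (BT.leaf ⟨[(nat_lit 6), (nat_lit 3), (nat_lit 5), (nat_lit 2), (nat_lit 7), (nat_lit 5)], (nat_lit 25), (nat_lit 3), (nat_lit 0), (nat_lit 4)⟩)))) (BT.node (nat_lit 664) (BT.node (nat_lit 662) (BT.leaf ⟨[(nat_lit 2), (nat_lit 5), (nat_lit 3), (nat_lit 7), (nat_lit 5), (nat_lit 6), (nat_lit 5)], (nat_lit 107), (nat_lit 4), (nat_lit 0), (nat_lit 4)⟩) (BT.node (nat_lit 663) (BT.leaf ⟨[(nat_lit 7), (nat_lit 5), (nat_lit 6), (nat_lit 1), (nat_lit 7), (nat_lit 5), (nat_lit 6), (nat_lit 1)], (nat_lit 39), (nat_lit 1), (nat_lit 0), (nat_lit 5)⟩) (BT.leaf ⟨[(nat_lit 1), (nat_lit 5), (nat_lit 2), (nat_lit 1), (nat_lit 7), (nat_lit 5), (nat_lit 3), (nat_lit 6)], (nat_lit 112), (nat_lit 4), (nat_lit 0), (nat_lit 4)⟩))) (BT.node (nat_lit 666) (BT.node (nat_lit 665) (BT.leaf ⟨[(nat_lit 0), (nat_lit 8), (nat_lit 1), (nat_lit 7), (nat_lit 8), (nat_lit 1), (nat_lit 7)], (nat_lit 21), (nat_lit 2), (nat_lit 1), (nat_lit 4)⟩) (BT.leaf ⟨[(nat_lit 6), (nat_lit 2), (nat_lit 5), (nat_lit 7), (nat_lit 2), (nat_lit 5), (nat_lit 2)], (nat_lit 30), (nat_lit 3), (nat_lit 0), (nat_lit 5)⟩)) (BT.node (nat_lit 667) (BT.leaf ⟨[(nat_lit 2), (nat_lit 7), (nat_lit 5), (nat_lit 6), (nat_lit 3), (nat_lit 5)], (nat_lit 25), (nat_lit 0), (nat_lit 0), (nat_lit 4)⟩) (BT.leaf ⟨[(nat_lit 0), (nat_lit 2), (nat_lit 4), (nat_lit 2), (nat_lit 4)], (nat_lit 4), (nat_lit 0), (nat_lit 1), (nat_lit 3)⟩))))))))) (BT.node (nat_lit 779) (BT.node (nat_lit 723) (BT.node (nat_lit 695) (BT.node (nat_lit 681) (BT.node (nat_lit 674) (BT.node (nat_lit 671) (BT.node (nat_lit 669) (BT.leaf ⟨[(nat_lit 0), (nat_lit 4), (nat_lit 5), (nat_lit 4), (nat_lit 5), (nat_lit 4), (nat_lit 5)], (nat_lit 10), (nat_lit 0), (nat_lit 1), (nat_lit 5)⟩) (BT.node (nat_lit 670) (BT.leaf ⟨[(nat_lit 0), (nat_lit 7), (nat_lit 2), (nat_lit 5), (nat_lit 3), (nat_lit 6), (nat_lit 5)], (nat_lit 23), (nat_lit 5), (nat_lit 1), (nat_lit 4)⟩) (BT.leaf ⟨[(nat_lit 6), (nat_lit 3), (nat_lit 5), (nat_lit 8), (nat_lit 2), (nat_lit 6), (nat_lit 8), (nat_lit 5)], (nat_lit 43), (nat_lit 4), (nat_lit 0), (nat_lit 3)⟩))) (BT.node (nat_lit 672) (BT.leaf ⟨[(nat_lit 0), (nat_lit 4), (nat_lit 2), (nat_lit 4), (nat_lit 2)], (nat_lit 4), (nat_lit 1), (nat_lit 1), (nat_lit 4)⟩) (BT.node (nat_lit 673) (BT.leaf ⟨[(nat_lit 0), (nat_lit 2), (nat_lit 4), (nat_lit 2), (nat_lit 4)], (nat_lit 4), (nat_lit 0), (nat_lit 1), (nat_lit 4)⟩) (BT.leaf ⟨[(nat_lit 6), (nat_lit 5), (nat_lit 2), (nat_lit 7), (nat_lit 5), (nat_lit 3)], (nat_lit 99), (nat_lit 0), (nat_lit 0), (nat_lit 4)⟩)))) (BT.node (nat_lit 677) (BT.node (nat_lit 675) (BT.leaf ⟨[(nat_lit 0), (nat_lit 2), (nat_lit 5), (nat_lit 3), (nat_lit 6), (nat_lit 5), (nat_lit 7)], (nat_lit 23), (nat_lit 0), (nat_lit 1), (nat_lit 5)⟩) (BT.node (nat_lit 676) (BT.leaf ⟨[(nat_lit 0), (nat_lit 7), (nat_lit 5), (nat_lit 3), (nat_lit 6), (nat_lit 5), (nat_lit 2)], (nat_lit 99), (nat_lit 3), (nat_lit 1), (nat_lit 5)⟩) (BT.leaf ⟨[(nat_lit 5), (nat_lit 3), (nat_lit 5), (nat_lit 7), (nat_lit 5), (nat_lit 2), (nat_lit 6)], (nat_lit 110), (nat_lit 5), (nat_lit 0), (nat_lit 3)⟩))) (BT.node (nat_lit 679) (BT.node (nat_lit 678) (BT.leaf ⟨[(nat_lit 6), (nat_lit 5), (nat_lit 2), (nat_lit 5), (nat_lit 7), (nat_lit 3), (nat_lit 5)], (nat_lit 35), (nat_lit 5), (nat_lit 0), (nat_lit 5)⟩) (BT.leaf ⟨[(nat_lit 0), (nat_lit 8), (nat_lit 7), (nat_lit 8), (nat_lit 7)], (nat_lit 92), (nat_lit 0), (nat_lit 1), (nat_lit 4)⟩)) (BT.node (nat_lit 680) (BT.leaf ⟨[(nat_lit 6), (nat_lit 3), (nat_lit 5), (nat_lit 7), (nat_lit 1), (nat_lit 2), (nat_lit 5), (nat_lit 1)], (nat_lit 36), (nat_lit 4), (nat_lit 0), (nat_lit 4)⟩) (BT.leaf ⟨[(nat_lit 5), (nat_lit 2), (nat_lit 5), (nat_lit 6), (nat_lit 5), (nat_lit 7), (nat_lit 3)], (nat_lit 34), (nat_lit 6), (nat_lit 0), (nat_lit 5)⟩))))) (BT.node (nat_lit 688) (BT.node (nat_lit 684) (BT.node (nat_lit 682) (BT.leaf ⟨[(nat_lit 5), (nat_lit 7), (nat_lit 5), (nat_lit 6), (nat_lit 2), (nat_lit 5), (nat_lit 3)], (nat_lit 32), (nat_lit 3), (nat_lit 0), (nat_lit 4)⟩) (BT.node (nat_lit 683) (BT.leaf ⟨[(nat_lit 1), (nat_lit 8), (nat_lit 1), (nat_lit 7), (nat_lit 1), (nat_lit 6), (nat_lit 8)], (nat_lit 104), (nat_lit 2), (nat_lit 0), (nat_lit 5)⟩) (BT.leaf ⟨[(nat_lit 3), (nat_lit 5), (nat_lit 2), (nat_lit 7), (nat_lit 5), (nat_lit 6)], (nat_lit 25), (nat_lit 4), (nat_lit 0), (nat_lit 4)⟩))) (BT.node (nat_lit 686) (BT.node (nat_lit 685) (BT.leaf ⟨[(nat_lit 8), (nat_lit 5), (nat_lit 8), (nat_lit 1), (nat_lit 3), (nat_lit 5), (nat_lit 8), (nat_lit 5), (nat_lit 2), (nat_lit 2), (nat_lit 5), (nat_lit 8), (nat_lit 5), (nat_lit 3), (nat_lit 5)], (nat_lit 67), (nat_lit 11), (nat_lit 0), (nat_lit 5)⟩) (BT.leaf ⟨[(nat_lit 6), (nat_lit 8), (nat_lit 1), (nat_lit 6), (nat_lit 1), (nat_lit 8), (nat_lit 1)], (nat_lit 28), (nat_lit 5), (nat_lit 0), (nat_lit 5)⟩)) (BT.node (nat_lit 687) (BT.leaf ⟨[(nat_lit 0), (nat_lit 6), (nat_lit 4), (nat_lit 7), (nat_lit 1), (nat_lit 6), (nat_lit 4), (nat_lit 7), (nat_lit 1)], (nat_lit 51), (nat_lit 1), (nat_lit 1), (nat_lit 4)⟩) (BT.leaf ⟨[(nat_lit 0), (nat_lit 7), (nat_lit 2), (nat_lit 5), (nat_lit 6), (nat_lit 3), (nat_lit 5)], (nat_lit 24), (nat_lit 5), (nat_lit 1), (nat_lit 5)⟩)))) (BT.node (nat_lit 691) (BT.node (nat_lit 689) (BT.leaf ⟨[(nat_lit 5), (nat_lit 3), (nat_lit 5), (nat_lit 7), (nat_lit 5), (nat_lit 2), (nat_lit 6)], (nat_lit 110), (nat_lit 5), (nat_lit 0), (nat_lit 5)⟩) (BT.node (nat_lit 690) (BT.leaf ⟨[(nat_lit 3), (nat_lit 7), (nat_lit 3), (nat_lit 5), (nat_lit 3), (nat_lit 6), (nat_lit 5)], (nat_lit 105), (nat_lit 2), (nat_lit 0), (nat_lit 4)⟩) (BT.leaf ⟨[(nat_lit 2), (nat_lit 6), (nat_lit 3), (nat_lit 7)], (nat_lit 16), (nat_lit 0), (nat_lit 0), (nat_lit 5)⟩))) (BT.node (nat_lit 693) (BT.node (nat_lit 692) (BT.leaf ⟨[(nat_lit 1), (nat_lit 8), (nat_lit 1), (nat_lit 4), (nat_lit 6), (nat_lit 1), (nat_lit 7), (nat_lit 4)], (nat_lit 49), (nat_lit 6), (nat_lit 0), (nat_lit 4)⟩) (BT.leaf ⟨[(nat_lit 1), (nat_lit 8), (nat_lit 1), (nat_lit 6), (nat_lit 8), (nat_lit 1), (nat_lit 6)], (nat_lit 28), (nat_lit 2), (nat_lit 0), (nat_lit 5)⟩)) (BT.node (nat_lit 694) (BT.leaf ⟨[(nat_lit 5), (nat_lit 3), (nat_lit 1), (nat_lit 6), (nat_lit 5), (nat_lit 2), (nat_lit 7), (nat_lit 1)], (nat_lit 111), (nat_lit 5), (nat_lit 0), (nat_lit 4)⟩) (BT.leaf ⟨[(nat_lit 6), (nat_lit 5), (nat_lit 2), (nat_lit 7), (nat_lit 5), (nat_lit 3)], (nat_lit 99), (nat_lit 0), (nat_lit 0), (nat_lit 5)⟩)))))) (BT.node (nat_lit 709) (BT.node (nat_lit 702) (BT.node (nat_lit 698) (BT.node (nat_lit 696) (BT.leaf ⟨[(nat_lit 3), (nat_lit 5), (nat_lit 2), (nat_lit 7), (nat_lit 5), (nat_lit 6)], (nat_lit 25), (nat_lit 4), (nat_lit 0), (nat_lit 5)⟩) (BT.node (nat_lit 697) (BT.leaf ⟨[(nat_lit 6), (nat_lit 1), (nat_lit 7), (nat_lit 8), (nat_lit 1), (nat_lit 8)], (nat_lit 22), (nat_lit 5), (nat_lit 0), (nat_lit 5)⟩) (BT.leaf ⟨[(nat_lit 5), (nat_lit 7), (nat_lit 5), (nat_lit 7), (nat_lit 5), (nat_lit 8), (nat_lit 6), (nat_lit 8)], (nat_lit 120), (nat_lit 3), (nat_lit 0), (nat_lit 5)⟩))) (BT.node (nat_lit 700) (BT.node (nat_lit 699) (BT.leaf ⟨[(nat_lit 0), (nat_lit 1), (nat_lit 4), (nat_lit 8), (nat_lit 4)], (nat_lit 2), (nat_lit 0), (nat_lit 1), (nat_lit 3)⟩) (BT.leaf ⟨[(nat_lit 0), (nat_lit 4), (nat_lit 1), (nat_lit 4), (nat_lit 8)], (nat_lit 2), (nat_lit 3), (nat_lit 1), (nat_lit 3)⟩)) (BT.node (nat_lit 701) (BT.leaf ⟨[(nat_lit 0), (nat_lit 5), (nat_lit 1), (nat_lit 5), (nat_lit 1)], (nat_lit 3), (nat_lit 1), (nat_lit 1), (nat_lit 4)⟩) (BT.leaf ⟨[(nat_lit 5), (nat_lit 6), (nat_lit 3), (nat_lit 5), (nat_lit 8), (nat_lit 6), (nat_lit 2), (nat_lit 8)], (nat_lit 119), (nat_lit 5), (nat_lit 0), (nat_lit 5)⟩)))) (BT.node (nat_lit 705) (BT.node (nat_lit 703) (BT.leaf ⟨[(nat_lit 5), (nat_lit 2), (nat_lit 7), (nat_lit 5), (nat_lit 8), (nat_lit 7), (nat_lit 3), (nat_lit 8)], (nat_lit 118), (nat_lit 1), (nat_lit 0), (nat_lit 4)⟩) (BT.node (nat_lit 704) (BT.leaf ⟨[(nat_lit 2), (nat_lit 6), (nat_lit 2), (nat_lit 5), (nat_lit 7), (nat_lit 2), (nat_lit 5)], (nat_lit 30), (nat_lit 2), (nat_lit 0), (nat_lit 4)⟩) (BT.leaf ⟨[(nat_lit 0), (nat_lit 5), (nat_lit 7), (nat_lit 5), (nat_lit 6), (nat_lit 2), (nat_lit 5), (nat_lit 3)], (nat_lit 32), (nat_lit 3), (nat_lit 1), (nat_lit 3)⟩))) (BT.node (nat_lit 707) (BT.node (nat_lit 706) (BT.leaf ⟨[(nat_lit 7), (nat_lit 5), (nat_lit 3), (nat_lit 5), (nat_lit 6), (nat_lit 2), (nat_lit 5)], (nat_lit 108), (nat_lit 4), (nat_lit 0), (nat_lit 5)⟩) (BT.leaf ⟨[(nat_lit 5), (nat_lit 8), (nat_lit 5), (nat_lit 3), (nat_lit 3), (nat_lit 5), (nat_lit 8), (nat_lit 5), (nat_lit 2), (nat_lit 1), (nat_lit 8), (nat_lit 5), (nat_lit 8), (nat_lit 5), (nat_lit 2)], (nat_lit 142), (nat_lit 6), (nat_lit 0), (nat_lit 4)⟩)) (BT.node (nat_lit 708) (BT.leaf ⟨[(nat_lit 0), (nat_lit 5), (nat_lit 8), (nat_lit 5), (nat_lit 4), (nat_lit 5), (nat_lit 8), (nat_lit 5), (nat_lit 4)], (nat_lit 14), (nat_lit 1), (nat_lit 1), (nat_lit 4)⟩) (BT.leaf ⟨[(nat_lit 0), (nat_lit 7), (nat_lit 1), (nat_lit 6), (nat_lit 8), (nat_lit 1), (nat_lit 8), (nat_lit 1)], (nat_lit 104), (nat_lit 5), (nat_lit 1), (nat_lit 4)⟩))))) (BT.node (nat_lit 716) (BT.node (nat_lit 712) (BT.node (nat_lit 710) (BT.leaf ⟨[(nat_lit 5), (nat_lit 6), (nat_lit 2), (nat_lit 5), (nat_lit 7), (nat_lit 5), (nat_lit 3)], (nat_lit 108), (nat_lit 0), (nat_lit 0), (nat_lit 4)⟩) (BT.node (nat_lit 711) (BT.leaf ⟨[(nat_lit 0), (nat_lit 3), (nat_lit 4), (nat_lit 3), (nat_lit 4)], (nat_lit 79), (nat_lit 1), (nat_lit 1), (nat_lit 4)⟩) (BT.leaf ⟨[(nat_lit 2), (nat_lit 5), (nat_lit 3), (nat_lit 6), (nat_lit 5), (nat_lit 7)], (nat_lit 23), (nat_lit 0), (nat_lit 0), (nat_lit 4)⟩))) (BT.node (nat_lit 714) (BT.node (nat_lit 713) (BT.leaf ⟨[(nat_lit 5), (nat_lit 8), (nat_lit 6), (nat_lit 2), (nat_lit 8), (nat_lit 5), (nat_lit 3), (nat_lit 6)], (nat_lit 116), (nat_lit 1), (nat_lit 0), (nat_lit 4)⟩) (BT.leaf ⟨[(nat_lit 5), (nat_lit 6), (nat_lit 5), (nat_lit 6), (nat_lit 5), (nat_lit 8), (nat_lit 7), (nat_lit 8)], (nat_lit 45), (nat_lit 0), (nat_lit 0), (nat_lit 5)⟩)) (BT.node (nat_lit 715) (BT.leaf ⟨[(nat_lit 7), (nat_lit 1), (nat_lit 6), (nat_lit 5), (nat_lit 7), (nat_lit 1), (nat_lit 6), (nat_lit 5)], (nat_lit 38), (nat_lit 3), (nat_lit 0), (nat_lit 4)⟩) (BT.leaf ⟨[(nat_lit 5), (nat_lit 2), (nat_lit 6), (nat_lit 5), (nat_lit 3), (nat_lit 5), (nat_lit 7)], (nat_lit 110), (nat_lit 2), (nat_lit 0), (nat_lit 4)⟩)))) (BT.node (nat_lit 719) (BT.node (nat_lit 717) (BT.leaf ⟨[(nat_lit 8), (nat_lit 1), (nat_lit 8), (nat_lit 5), (nat_lit 6), (nat_lit 1), (nat_lit 7), (nat_lit 5)], (nat_lit 40), (nat_lit 3), (nat_lit 0), (nat_lit 4)⟩) (BT.node (nat_lit 718) (BT.leaf ⟨[(nat_lit 0), (nat_lit 4), (nat_lit 5), (nat_lit 8), (nat_lit 5), (nat_lit 4), (nat_lit 5), (nat_lit 8), (nat_lit 5)], (nat_lit 14), (nat_lit 0), (nat_lit 1), (nat_lit 4)⟩) (BT.leaf ⟨[(nat_lit 5), (nat_lit 3), (nat_lit 7), (nat_lit 5), (nat_lit 6), (nat_lit 5), (nat_lit 2)], (nat_lit 107), (nat_lit 5), (nat_lit 0), (nat_lit 4)⟩))) (BT.node (nat_lit 721) (BT.node (nat_lit 720) (BT.leaf ⟨[(nat_lit 1), (nat_lit 7), (nat_lit 1), (nat_lit 8), (nat_lit 7), (nat_lit 1), (nat_lit 8)], (nat_lit 103), (nat_lit 4), (nat_lit 0), (nat_lit 4)⟩) (BT.leaf ⟨[(nat_lit 0), (nat_lit 6), (nat_lit 5), (nat_lit 7), (nat_lit 2), (nat_lit 5), (nat_lit 3)], (nat_lit 23), (nat_lit 3), (nat_lit 1), (nat_lit 4)⟩)) (BT.node (nat_lit 722) (BT.leaf ⟨[(nat_lit 6), (nat_lit 5), (nat_lit 7), (nat_lit 3), (nat_lit 5), (nat_lit 2), (nat_lit 5)], (nat_lit 34), (nat_lit 2), (nat_lit 0), (nat_lit 4)⟩) (BT.leaf ⟨[(nat_lit 7), (nat_lit 5), (nat_lit 2), (nat_lit 5), (nat_lit 6), (nat_lit 5), (nat_lit 3)], (nat_lit 33), (nat_lit 5), (nat_lit 0), (nat_lit 4)⟩))))))) (BT.node (nat_lit 751) (BT.node (nat_lit 737) (BT.node (nat_lit 730) (BT.node (nat_lit 726) (BT.node (nat_lit 724) (BT.leaf ⟨[(nat_lit 3), (nat_lit 5), (nat_lit 2), (nat_lit 5), (nat_lit 6), (nat_lit 5), (nat_lit 7)], (nat_lit 34), (nat_lit 5), (nat_lit 0), (nat_lit 4)⟩) (BT.node (nat_lit 725) (BT.leaf ⟨[(nat_lit 0), (nat_lit 5), (nat_lit 3), (nat_lit 5), (nat_lit 3), (nat_lit 5), (nat_lit 3)], (nat_lit 84), (nat_lit 0), (nat_lit 1), (nat_lit 4)⟩) (BT.leaf ⟨[(nat_lit 6), (nat_lit 2), (nat_lit 5), (nat_lit 7), (nat_lit 5), (nat_lit 3), (nat_lit 5)], (nat_lit 108), (nat_lit 1), (nat_lit 0), (nat_lit 4)⟩))) (BT.node (nat_lit 728) (BT.node (nat_lit 727) (BT.leaf ⟨[(nat_lit 0), (nat_lit 7), (nat_lit 1), (nat_lit 6), (nat_lit 4), (nat_lit 7), (nat_lit 1), (nat_lit 6), (nat_lit 4)], (nat_lit 51), (nat_lit 3), (nat_lit 1), (nat_lit 4)⟩) (BT.leaf ⟨[(nat_lit 0), (nat_lit 7), (nat_lit 8), (nat_lit 7), (nat_lit 8)], (nat_lit 92), (nat_lit 1), (nat_lit 1), (nat_lit 4)⟩)) (BT.node (nat_lit 729) (BT.leaf ⟨[(nat_lit 1), (nat_lit 8), (nat_lit 1), (nat_lit 6), (nat_lit 8), (nat_lit 1), (nat_lit 6)], (nat_lit 28), (nat_lit 2), (nat_lit 0), (nat_lit 4)⟩) (BT.leaf ⟨[(nat_lit 4), (nat_lit 1), (nat_lit 4), (nat_lit 7), (nat_lit 8), (nat_lit 7)], (nat_lit 121), (nat_lit 4), (nat_lit 0), (nat_lit 4)⟩)))) (BT.node (nat_lit 733) (BT.node (nat_lit 731) (BT.leaf ⟨[(nat_lit 0), (nat_lit 7), (nat_lit 4), (nat_lit 6), (nat_lit 4), (nat_lit 7), (nat_lit 4), (nat_lit 6), (nat_lit 4), (nat_lit 7), (nat_lit 4), (nat_lit 6), (nat_lit 4), (nat_lit 7), (nat_lit 4), (nat_lit 6), (nat_lit 4)], (nat_lit 52), (nat_lit 3), (nat_lit 1), (nat_lit 5)⟩) (BT.node (nat_lit 732) (BT.leaf ⟨[(nat_lit 0), (nat_lit 5), (nat_lit 4), (nat_lit 5), (nat_lit 4), (nat_lit 5), (nat_lit 4)], (nat_lit 10), (nat_lit 1), (nat_lit 1), (nat_lit 5)⟩) (BT.leaf ⟨[(nat_lit 5), (nat_lit 6), (nat_lit 5), (nat_lit 7), (nat_lit 3), (nat_lit 5), (nat_lit 2)], (nat_lit 34), (nat_lit 1), (nat_lit 0), (nat_lit 4)⟩))) (BT.node (nat_lit 735) (BT.node (nat_lit 734) (BT.leaf ⟨[(nat_lit 0), (nat_lit 5), (nat_lit 8), (nat_lit 5), (nat_lit 2), (nat_lit 5), (nat_lit 8), (nat_lit 5), (nat_lit 3), (nat_lit 3), (nat_lit 5), (nat_lit 8), (nat_lit 5), (nat_lit 2), (nat_lit 1), (nat_lit 8)], (nat_lit 142), (nat_lit 2), (nat_lit 1), (nat_lit 4)⟩) (BT.leaf ⟨[(nat_lit 6), (nat_lit 5), (nat_lit 8), (nat_lit 6), (nat_lit 2), (nat_lit 8), (nat_lit 5), (nat_lit 3)], (nat_lit 116), (nat_lit 0), (nat_lit 0), (nat_lit 4)⟩)) (BT.node (nat_lit 736) (BT.leaf ⟨[(nat_lit 0), (nat_lit 8), (nat_lit 4), (nat_lit 1), (nat_lit 4)], (nat_lit 2), (nat_lit 2), (nat_lit 1), (nat_lit 5)⟩) (BT.leaf ⟨[(nat_lit 0), (nat_lit 3), (nat_lit 6), (nat_lit 2), (nat_lit 7)], (nat_lit 91), (nat_lit 3), (nat_lit 1), (nat_lit 4)⟩))))) (BT.node (nat_lit 744) (BT.node (nat_lit 740) (BT.node (nat_lit 738) (BT.leaf ⟨[(nat_lit 0), (nat_lit 1), (nat_lit 5), (nat_lit 1), (nat_lit 5)], (nat_lit 3), (nat_lit 0), (nat_lit 1), (nat_lit 5)⟩) (BT.node (nat_lit 739) (BT.leaf ⟨[(nat_lit 0), (nat_lit 8), (nat_lit 6), (nat_lit 8), (nat_lit 6)], (nat_lit 17), (nat_lit 1), (nat_lit 1), (nat_lit 5)⟩) (BT.leaf ⟨[(nat_lit 0), (nat_lit 3), (nat_lit 6), (nat_lit 5), (nat_lit 2), (nat_lit 7), (nat_lit 5)], (nat_lit 99), (nat_lit 5), (nat_lit 1), (nat_lit 3)⟩))) (BT.node (nat_lit 742) (BT.node (nat_lit 741) (BT.leaf ⟨[(nat_lit 0), (nat_lit 5), (nat_lit 3), (nat_lit 6), (nat_lit 5), (nat_lit 2), (nat_lit 7)], (nat_lit 99), (nat_lit 4), (nat_lit 1), (nat_lit 4)⟩) (BT.leaf ⟨[(nat_lit 0), (nat_lit 4), (nat_lit 6), (nat_lit 4), (nat_lit 7), (nat_lit 4), (nat_lit 6), (nat_lit 4), (nat_lit 7), (nat_lit 4), (nat_lit 6), (nat_lit 4), (nat_lit 7), (nat_lit 4), (nat_lit 6), (nat_lit 4), (nat_lit 7)], (nat_lit 52), (nat_lit 0), (nat_lit 1), (nat_lit 4)⟩)) (BT.node (nat_lit 743) (BT.leaf ⟨[(nat_lit 0), (nat_lit 1), (nat_lit 3), (nat_lit 1), (nat_lit 2)], (nat_lit 1), (nat_lit 2), (nat_lit 1), (nat_lit 4)⟩) (BT.leaf ⟨[(nat_lit 0), (nat_lit 3), (nat_lit 1), (nat_lit 2), (nat_lit 1)], (nat_lit 1), (nat_lit 3), (nat_lit 1), (nat_lit 4)⟩)))) (BT.node (nat_lit 747) (BT.node (nat_lit 745) (BT.leaf ⟨[(nat_lit 0), (nat_lit 8), (nat_lit 2), (nat_lit 8), (nat_lit 3)], (nat_lit 5), (nat_lit 3), (nat_lit 1), (nat_lit 4)⟩) (BT.node (nat_lit 746) (BT.leaf ⟨[(nat_lit 0), (nat_lit 3), (nat_lit 5), (nat_lit 3), (nat_lit 5), (nat_lit 3), (nat_lit 5)], (nat_lit 84), (nat_lit 1), (nat_lit 1), (nat_lit 5)⟩) (BT.leaf ⟨[(nat_lit 0), (nat_lit 3), (nat_lit 7), (nat_lit 2), (nat_lit 6)], (nat_lit 16), (nat_lit 2), (nat_lit 1), (nat_lit 4)⟩))) (BT.node (nat_lit 749) (BT.node (nat_lit 748) (BT.leaf ⟨[(nat_lit 0), (nat_lit 3), (nat_lit 6), (nat_lit 5), (nat_lit 7), (nat_lit 2), (nat_lit 5)], (nat_lit 23), (nat_lit 2), (nat_lit 1), (nat_lit 4)⟩) (BT.leaf ⟨[(nat_lit 0), (nat_lit 5), (nat_lit 7), (nat_lit 2), (nat_lit 5), (nat_lit 3), (nat_lit 6)], (nat_lit 23), (nat_lit 4), (nat_lit 1), (nat_lit 3)⟩)) (BT.node (nat_lit 750) (BT.leaf ⟨[(nat_lit 0), (nat_lit 4), (nat_lit 5), (nat_lit 4), (nat_lit 5), (nat_lit 4), (nat_lit 5)], (nat_lit 10), (nat_lit 0), (nat_lit 1), (nat_lit 3)⟩) (BT.leaf ⟨[(nat_lit 0), (nat_lit 3), (nat_lit 4), (nat_lit 3), (nat_lit 4)], (nat_lit 79), (nat_lit 1), (nat_lit 1), (nat_lit 5)⟩)))))) (BT.node (nat_lit 765) (BT.node (nat_lit 758) (BT.node (nat_lit 754) (BT.node (nat_lit 752) (BT.leaf ⟨[(nat_lit 0), (nat_lit 7), (nat_lit 5), (nat_lit 7), (nat_lit 5), (nat_lit 7), (nat_lit 5)], (nat_lit 101), (nat_lit 0), (nat_lit 1), (nat_lit 4)⟩) (BT.node (nat_lit 753) (BT.leaf ⟨[(nat_lit 0), (nat_lit 3), (nat_lit 6), (nat_lit 5), (nat_lit 7), (nat_lit 2), (nat_lit 5)], (nat_lit 23), (nat_lit 2), (nat_lit 1), (nat_lit 5)⟩) (BT.leaf ⟨[(nat_lit 0), (nat_lit 5), (nat_lit 7), (nat_lit 2), (nat_lit 5), (nat_lit 3), (nat_lit 6)], (nat_lit 23), (nat_lit 4), (nat_lit 1), (nat_lit 5)⟩))) (BT.node (nat_lit 756) (BT.node (nat_lit 755) (BT.leaf ⟨[(nat_lit 0), (nat_lit 5), (nat_lit 3), (nat_lit 6), (nat_lit 5), (nat_lit 7), (nat_lit 2)], (nat_lit 23), (nat_lit 1), (nat_lit 1), (nat_lit 5)⟩) (BT.leaf ⟨[(nat_lit 0), (nat_lit 5), (nat_lit 1), (nat_lit 5), (nat_lit 1)], (nat_lit 3), (nat_lit 1), (nat_lit 1), (nat_lit 3)⟩)) (BT.node (nat_lit 757) (BT.leaf ⟨[(nat_lit 0), (nat_lit 2), (nat_lit 8), (nat_lit 3), (nat_lit 8)], (nat_lit 5), (nat_lit 0), (nat_lit 1), (nat_lit 4)⟩) (BT.leaf ⟨[(nat_lit 0), (nat_lit 4), (nat_lit 5), (nat_lit 8), (nat_lit 5), (nat_lit 4), (nat_lit 5), (nat_lit 8), (nat_lit 5)], (nat_lit 14), (nat_lit 0), (nat_lit 1), (nat_lit 5)⟩)))) (BT.node (nat_lit 761) (BT.node (nat_lit 759) (BT.leaf ⟨[(nat_lit 0), (nat_lit 5), (nat_lit 7), (nat_lit 2), (nat_lit 5), (nat_lit 6), (nat_lit 3)], (nat_lit 24), (nat_lit 4), (nat_lit 1), (nat_lit 4)⟩) (BT.node (nat_lit 760) (BT.leaf ⟨[(nat_lit 0), (nat_lit 1), (nat_lit 5), (nat_lit 1), (nat_lit 5)], (nat_lit 3), (nat_lit 0), (nat_lit 1), (nat_lit 3)⟩) (BT.leaf ⟨[(nat_lit 0), (nat_lit 5), (nat_lit 2), (nat_lit 5), (nat_lit 6), (nat_lit 5), (nat_lit 3), (nat_lit 7)], (nat_lit 33), (nat_lit 6), (nat_lit 1), (nat_lit 4)⟩))) (BT.node (nat_lit 763) (BT.node (nat_lit 762) (BT.leaf ⟨[(nat_lit 5), (nat_lit 7), (nat_lit 5), (nat_lit 3), (nat_lit 5), (nat_lit 6), (nat_lit 2)], (nat_lit 108), (nat_lit 3), (nat_lit 0), (nat_lit 4)⟩) (BT.leaf ⟨[(nat_lit 0), (nat_lit 5), (nat_lit 4), (nat_lit 5), (nat_lit 8), (nat_lit 5), (nat_lit 4), (nat_lit 5), (nat_lit 8)], (nat_lit 14), (nat_lit 3), (nat_lit 1), (nat_lit 5)⟩)) (BT.node (nat_lit 764) (BT.leaf ⟨[(nat_lit 7), (nat_lit 4), (nat_lit 6), (nat_lit 4), (nat_lit 7), (nat_lit 4), (nat_lit 6), (nat_lit 4), (nat_lit 7), (nat_lit 4), (nat_lit 6), (nat_lit 4), (nat_lit 7), (nat_lit 4), (nat_lit 6), (nat_lit 4)], (nat_lit 52), (nat_lit 3), (nat_lit 0), (nat_lit 5)⟩) (BT.leaf ⟨[(nat_lit 0), (nat_lit 7), (nat_lit 4), (nat_lit 6), (nat_lit 4), (nat_lit 7), (nat_lit 4), (nat_lit 6), (nat_lit 4), (nat_lit 7), (nat_lit 4), (nat_lit 6), (nat_lit 4), (nat_lit 7), (nat_lit 4), (nat_lit 6), (nat_lit 4)], (nat_lit 52), (nat_lit 3), (nat_lit 1), (nat_lit 4)⟩))))) (BT.node (nat_lit 772) (BT.node (nat_lit 768) (BT.node (nat_lit 766) (BT.leaf ⟨[(nat_lit 0), (nat_lit 4), (nat_lit 7), (nat_lit 4), (nat_lit 6), (nat_lit 4), (nat_lit 7), (nat_lit 4), (nat_lit 6), (nat_lit 4), (nat_lit 7), (nat_lit 4), (nat_lit 6), (nat_lit 4), (nat_lit 7), (nat_lit 4), (nat_lit 6)], (nat_lit 52), (nat_lit 2), (nat_lit 1), (nat_lit 3)⟩) (BT.node (nat_lit 767) (BT.leaf ⟨[(nat_lit 0), (nat_lit 2), (nat_lit 1), (nat_lit 3), (nat_lit 1)], (nat_lit 1), (nat_lit 1), (nat_lit 1), (nat_lit 4)⟩) (BT.leaf ⟨[(nat_lit 0), (nat_lit 6), (nat_lit 3), (nat_lit 7), (nat_lit 2)], (nat_lit 16), (nat_lit 1), (nat_lit 1), (nat_lit 4)⟩))) (BT.node (nat_lit 770) (BT.node (nat_lit 769) (BT.leaf ⟨[(nat_lit 0), (nat_lit 1), (nat_lit 6), (nat_lit 1), (nat_lit 6), (nat_lit 1), (nat_lit 6)], (nat_lit 20), (nat_lit 0), (nat_lit 1), (nat_lit 4)⟩) (BT.leaf ⟨[(nat_lit 2), (nat_lit 5), (nat_lit 6), (nat_lit 3), (nat_lit 5), (nat_lit 7)], (nat_lit 24), (nat_lit 0), (nat_lit 0), (nat_lit 5)⟩)) (BT.node (nat_lit 771) (BT.leaf ⟨[(nat_lit 7), (nat_lit 5), (nat_lit 6), (nat_lit 3), (nat_lit 5), (nat_lit 2)], (nat_lit 25), (nat_lit 1), (nat_lit 0), (nat_lit 5)⟩) (BT.leaf ⟨[(nat_lit 0), (nat_lit 3), (nat_lit 5), (nat_lit 3), (nat_lit 5), (nat_lit 3), (nat_lit 5)], (nat_lit 84), (nat_lit 1), (nat_lit 1), (nat_lit 4)⟩)))) (BT.node (nat_lit 775) (BT.node (nat_lit 773) (BT.leaf ⟨[(nat_lit 0), (nat_lit 2), (nat_lit 5), (nat_lit 2), (nat_lit 5), (nat_lit 2), (nat_lit 5)], (nat_lit 9), (nat_lit 0), (nat_lit 1), (nat_lit 5)⟩) (BT.node (nat_lit 774) (BT.leaf ⟨[(nat_lit 0), (nat_lit 5), (nat_lit 6), (nat_lit 3), (nat_lit 5), (nat_lit 2), (nat_lit 7)], (nat_lit 25), (nat_lit 2), (nat_lit 1), (nat_lit 5)⟩) (BT.leaf ⟨[(nat_lit 0), (nat_lit 2), (nat_lit 7), (nat_lit 5), (nat_lit 3), (nat_lit 6), (nat_lit 5)], (nat_lit 99), (nat_lit 2), (nat_lit 1), (nat_lit 4)⟩))) (BT.node (nat_lit 777) (BT.node (nat_lit 776) (BT.leaf ⟨[(nat_lit 0), (nat_lit 1), (nat_lit 2), (nat_lit 1), (nat_lit 3)], (nat_lit 1), (nat_lit 0), (nat_lit 1), (nat_lit 4)⟩) (BT.leaf ⟨[(nat_lit 1), (nat_lit 6), (nat_lit 8), (nat_lit 1), (nat_lit 8), (nat_lit 1), (nat_lit 7)], (nat_lit 104), (nat_lit 6), (nat_lit 0), (nat_lit 5)⟩)) (BT.node (nat_lit 778) (BT.leaf ⟨[(nat_lit 1), (nat_lit 6), (nat_lit 8), (nat_lit 1), (nat_lit 6), (nat_lit 1), (nat_lit 8)], (nat_lit 28), (nat_lit 4), (nat_lit 0), (nat_lit 5)⟩) (BT.leaf ⟨[(nat_lit 0), (nat_lit 6), (nat_lit 3), (nat_lit 5), (nat_lit 7), (nat_lit 2), (nat_lit 5)], (nat_lit 24), (nat_lit 2), (nat_lit 1), (nat_lit 4)⟩)))))))) (BT.node (nat_lit 835) (BT.node (nat_lit 807) (BT.node (nat_lit 793) (BT.node (nat_lit 786) (BT.node (nat_lit 782) (BT.node (nat_lit 780) (BT.leaf ⟨[(nat_lit 0), (nat_lit 5), (nat_lit 6), (nat_lit 5), (nat_lit 6), (nat_lit 5), (nat_lit 6)], (nat_lit 26), (nat_lit 0), (nat_lit 1), (nat_lit 4)⟩) (BT.node (nat_lit 781) (BT.leaf ⟨[(nat_lit 0), (nat_lit 6), (nat_lit 5), (nat_lit 6), (nat_lit 5), (nat_lit 6), (nat_lit 5)], (nat_lit 26), (nat_lit 1), (nat_lit 1), (nat_lit 4)⟩) (BT.leaf ⟨[(nat_lit 0), (nat_lit 4), (nat_lit 7), (nat_lit 4), (nat_lit 6), (nat_lit 4), (nat_lit 7), (nat_lit 4), (nat_lit 6), (nat_lit 4), (nat_lit 7), (nat_lit 4), (nat_lit 6), (nat_lit 4), (nat_lit 7), (nat_lit 4), (nat_lit 6)], (nat_lit 52), (nat_lit 2), (nat_lit 1), (nat_lit 5)⟩))) (BT.node (nat_lit 784) (BT.node (nat_lit 783) (BT.leaf ⟨[(nat_lit 0), (nat_lit 4), (nat_lit 3), (nat_lit 4), (nat_lit 3)], (nat_lit 79), (nat_lit 0), (nat_lit 1), (nat_lit 3)⟩) (BT.leaf ⟨[(nat_lit 0), (nat_lit 3), (nat_lit 8), (nat_lit 2), (nat_lit 8)], (nat_lit 5), (nat_lit 2), (nat_lit 1), (nat_lit 4)⟩)) (BT.node (nat_lit 785) (BT.leaf ⟨[(nat_lit 8), (nat_lit 5), (nat_lit 2), (nat_lit 7), (nat_lit 5), (nat_lit 8), (nat_lit 7), (nat_lit 3)], (nat_lit 118), (nat_lit 0), (nat_lit 0), (nat_lit 3)⟩) (BT.leaf ⟨[(nat_lit 0), (nat_lit 3), (nat_lit 6), (nat_lit 5), (nat_lit 2), (nat_lit 7), (nat_lit 5)], (nat_lit 99), (nat_lit 5), (nat_lit 1), (nat_lit 5)⟩)))) (BT.node (nat_lit 789) (BT.node (nat_lit 787) (BT.leaf ⟨[(nat_lit 1), (nat_lit 7), (nat_lit 4), (nat_lit 1), (nat_lit 8), (nat_lit 1), (nat_lit 4), (nat_lit 6)], (nat_lit 49), (nat_lit 3), (nat_lit 0), (nat_lit 5)⟩) (BT.node (nat_lit 788) (BT.leaf ⟨[(nat_lit 1), (nat_lit 6), (nat_lit 4), (nat_lit 7), (nat_lit 1), (nat_lit 6), (nat_lit 4), (nat_lit 7)], (nat_lit 51), (nat_lit 0), (nat_lit 0), (nat_lit 5)⟩) (BT.leaf ⟨[(nat_lit 0), (nat_lit 4), (nat_lit 7), (nat_lit 1), (nat_lit 6), (nat_lit 4), (nat_lit 7), (nat_lit 1), (nat_lit 6)], (nat_lit 51), (nat_lit 2), (nat_lit 1), (nat_lit 4)⟩))) (BT.node (nat_lit 791) (BT.node (nat_lit 790) (BT.leaf ⟨[(nat_lit 0), (nat_lit 2), (nat_lit 6), (nat_lit 3), (nat_lit 7)], (nat_lit 16), (nat_lit 0), (nat_lit 1), (nat_lit 4)⟩) (BT.leaf ⟨[(nat_lit 0), (nat_lit 7), (nat_lit 8), (nat_lit 1), (nat_lit 8), (nat_lit 6), (nat_lit 1)], (nat_lit 22), (nat_lit 1), (nat_lit 1), (nat_lit 5)⟩)) (BT.node (nat_lit 792) (BT.leaf ⟨[(nat_lit 2), (nat_lit 5), (nat_lit 6), (nat_lit 3), (nat_lit 5), (nat_lit 7)], (nat_lit 24), (nat_lit 0), (nat_lit 0), (nat_lit 4)⟩) (BT.leaf ⟨[(nat_lit 7), (nat_lit 5), (nat_lit 6), (nat_lit 3), (nat_lit 5), (nat_lit 2)], (nat_lit 25), (nat_lit 1), (nat_lit 0), (nat_lit 4)⟩))))) (BT.node (nat_lit 800) (BT.node (nat_lit 796) (BT.node (nat_lit 794) (BT.leaf ⟨[(nat_lit 0), (nat_lit 6), (nat_lit 1), (nat_lit 8), (nat_lit 1), (nat_lit 6), (nat_lit 8), (nat_lit 1)], (nat_lit 28), (nat_lit 1), (nat_lit 1), (nat_lit 4)⟩) (BT.node (nat_lit 795) (BT.leaf ⟨[(nat_lit 0), (nat_lit 4), (nat_lit 5), (nat_lit 8), (nat_lit 5), (nat_lit 4), (nat_lit 5), (nat_lit 8), (nat_lit 5)], (nat_lit 14), (nat_lit 0), (nat_lit 1), (nat_lit 3)⟩) (BT.leaf ⟨[(nat_lit 3), (nat_lit 6), (nat_lit 5), (nat_lit 7), (nat_lit 2), (nat_lit 5)], (nat_lit 23), (nat_lit 2), (nat_lit 0), (nat_lit 5)⟩))) (BT.node (nat_lit 798) (BT.node (nat_lit 797) (BT.leaf ⟨[(nat_lit 0), (nat_lit 2), (nat_lit 5), (nat_lit 6), (nat_lit 3), (nat_lit 5), (nat_lit 7)], (nat_lit 24), (nat_lit 0), (nat_lit 1), (nat_lit 4)⟩) (BT.leaf ⟨[(nat_lit 0), (nat_lit 7), (nat_lit 5), (nat_lit 6), (nat_lit 3), (nat_lit 5), (nat_lit 2)], (nat_lit 25), (nat_lit 1), (nat_lit 1), (nat_lit 4)⟩)) (BT.node (nat_lit 799) (BT.leaf ⟨[(nat_lit 0), (nat_lit 7), (nat_lit 3), (nat_lit 6), (nat_lit 2)], (nat_lit 91), (nat_lit 2), (nat_lit 1), (nat_lit 4)⟩) (BT.leaf ⟨[(nat_lit 0), (nat_lit 5), (nat_lit 8), (nat_lit 5), (nat_lit 4), (nat_lit 5), (nat_lit 8), (nat_lit 5), (nat_lit 4)], (nat_lit 14), (nat_lit 1), (nat_lit 1), (nat_lit 5)⟩)))) (BT.node (nat_lit 803) (BT.node (nat_lit 801) (BT.leaf ⟨[(nat_lit 0), (nat_lit 5), (nat_lit 3), (nat_lit 6), (nat_lit 5), (nat_lit 2), (nat_lit 7)], (nat_lit 99), (nat_lit 4), (nat_lit 1), (nat_lit 3)⟩) (BT.node (nat_lit 802) (BT.leaf ⟨[(nat_lit 0), (nat_lit 5), (nat_lit 7), (nat_lit 2), (nat_lit 5), (nat_lit 3), (nat_lit 6)], (nat_lit 23), (nat_lit 4), (nat_lit 1), (nat_lit 4)⟩) (BT.leaf ⟨[(nat_lit 6), (nat_lit 1), (nat_lit 7), (nat_lit 4), (nat_lit 1), (nat_lit 8), (nat_lit 1), (nat_lit 4)], (nat_lit 49), (nat_lit 2), (nat_lit 0), (nat_lit 5)⟩))) (BT.node (nat_lit 805) (BT.node (nat_lit 804) (BT.leaf ⟨[(nat_lit 7), (nat_lit 2), (nat_lit 5), (nat_lit 6), (nat_lit 3), (nat_lit 5)], (nat_lit 24), (nat_lit 5), (nat_lit 0), (nat_lit 5)⟩) (BT.leaf ⟨[(nat_lit 2), (nat_lit 7), (nat_lit 5), (nat_lit 6), (nat_lit 3), (nat_lit 5)], (nat_lit 25), (nat_lit 0), (nat_lit 0), (nat_lit 5)⟩)) (BT.node (nat_lit 806) (BT.leaf ⟨[(nat_lit 0), (nat_lit 8), (nat_lit 1), (nat_lit 7), (nat_lit 8), (nat_lit 1), (nat_lit 7)], (nat_lit 21), (nat_lit 2), (nat_lit 1), (nat_lit 3)⟩) (BT.leaf ⟨[(nat_lit 0), (nat_lit 6), (nat_lit 1), (nat_lit 7), (nat_lit 8), (nat_lit 1), (nat_lit 8)], (nat_lit 22), (nat_lit 5), (nat_lit 1), (nat_lit 4)⟩)))))) (BT.node (nat_lit 821) (BT.node (nat_lit 814) (BT.node (nat_lit 810) (BT.node (nat_lit 808) (BT.leaf ⟨[(nat_lit 0), (nat_lit 4), (nat_lit 2), (nat_lit 4), (nat_lit 2)], (nat_lit 4), (nat_lit 1), (nat_lit 1), (nat_lit 5)⟩) (BT.node (nat_lit 809) (BT.leaf ⟨[(nat_lit 0), (nat_lit 5), (nat_lit 1), (nat_lit 5), (nat_lit 1)], (nat_lit 3), (nat_lit 1), (nat_lit 1), (nat_lit 5)⟩) (BT.leaf ⟨[(nat_lit 0), (nat_lit 7), (nat_lit 5), (nat_lit 7), (nat_lit 5), (nat_lit 7), (nat_lit 5)], (nat_lit 101), (nat_lit 0), (nat_lit 1), (nat_lit 3)⟩))) (BT.node (nat_lit 812) (BT.node (nat_lit 811) (BT.leaf ⟨[(nat_lit 0), (nat_lit 3), (nat_lit 5), (nat_lit 3), (nat_lit 5), (nat_lit 3), (nat_lit 5)], (nat_lit 84), (nat_lit 1), (nat_lit 1), (nat_lit 3)⟩) (BT.leaf ⟨[(nat_lit 0), (nat_lit 7), (nat_lit 2), (nat_lit 5), (nat_lit 3), (nat_lit 6), (nat_lit 5)], (nat_lit 23), (nat_lit 5), (nat_lit 1), (nat_lit 3)⟩)) (BT.node (nat_lit 813) (BT.leaf ⟨[(nat_lit 0), (nat_lit 5), (nat_lit 3), (nat_lit 6), (nat_lit 5), (nat_lit 7), (nat_lit 2)], (nat_lit 23), (nat_lit 1), (nat_lit 1), (nat_lit 3)⟩) (BT.leaf ⟨[(nat_lit 0), (nat_lit 1), (nat_lit 7), (nat_lit 1), (nat_lit 7), (nat_lit 1), (nat_lit 7)], (nat_lit 95), (nat_lit 1), (nat_lit 1), (nat_lit 4)⟩)))) (BT.node (nat_lit 817) (BT.node (nat_lit 815) (BT.leaf ⟨[(nat_lit 0), (nat_lit 5), (nat_lit 3), (nat_lit 6), (nat_lit 5), (nat_lit 8), (nat_lit 2), (nat_lit 6), (nat_lit 8)], (nat_lit 117), (nat_lit 6), (nat_lit 1), (nat_lit 4)⟩) (BT.node (nat_lit 816) (BT.leaf ⟨[(nat_lit 0), (nat_lit 4), (nat_lit 7), (nat_lit 4), (nat_lit 6), (nat_lit 4), (nat_lit 7), (nat_lit 4), (nat_lit 6), (nat_lit 4), (nat_lit 7), (nat_lit 4), (nat_lit 6), (nat_lit 4), (nat_lit 7), (nat_lit 4), (nat_lit 6)], (nat_lit 52), (nat_lit 2), (nat_lit 1), (nat_lit 4)⟩) (BT.leaf ⟨[(nat_lit 0), (nat_lit 3), (nat_lit 3), (nat_lit 3)], (nat_lit 75), (nat_lit 0), (nat_lit 1), (nat_lit 5)⟩))) (BT.node (nat_lit 819) (BT.node (nat_lit 818) (BT.leaf ⟨[(nat_lit 0), (nat_lit 3), (nat_lit 1), (nat_lit 2), (nat_lit 1)], (nat_lit 1), (nat_lit 3), (nat_lit 1), (nat_lit 5)⟩) (BT.leaf ⟨[(nat_lit 0), (nat_lit 3), (nat_lit 4), (nat_lit 3), (nat_lit 4)], (nat_lit 79), (nat_lit 1), (nat_lit 1), (nat_lit 3)⟩)) (BT.node (nat_lit 820) (BT.leaf ⟨[(nat_lit 0), (nat_lit 2), (nat_lit 4), (nat_lit 2), (nat_lit 4)], (nat_lit 4), (nat_lit 0), (nat_lit 1), (nat_lit 5)⟩) (BT.leaf ⟨[(nat_lit 0), (nat_lit 2), (nat_lit 8), (nat_lit 3), (nat_lit 8)], (nat_lit 5), (nat_lit 0), (nat_lit 1), (nat_lit 3)⟩))))) (BT.node (nat_lit 828) (BT.node (nat_lit 824) (BT.node (nat_lit 822) (BT.leaf ⟨[(nat_lit 0), (nat_lit 8), (nat_lit 7), (nat_lit 8), (nat_lit 7)], (nat_lit 92), (nat_lit 0), (nat_lit 1), (nat_lit 5)⟩) (BT.node (nat_lit 823) (BT.leaf ⟨[(nat_lit 0), (nat_lit 6), (nat_lit 8), (nat_lit 6), (nat_lit 8)], (nat_lit 17), (nat_lit 0), (nat_lit 1), (nat_lit 3)⟩) (BT.leaf ⟨[(nat_lit 0), (nat_lit 6), (nat_lit 8), (nat_lit 6), (nat_lit 8)], (nat_lit 17), (nat_lit 0), (nat_lit 1), (nat_lit 5)⟩))) (BT.node (nat_lit 826) (BT.node (nat_lit 825) (BT.leaf ⟨[(nat_lit 0), (nat_lit 4), (nat_lit 8), (nat_lit 4), (nat_lit 1)], (nat_lit 2), (nat_lit 1), (nat_lit 1), (nat_lit 5)⟩) (BT.leaf ⟨[(nat_lit 0), (nat_lit 8), (nat_lit 3), (nat_lit 8), (nat_lit 2)], (nat_lit 5), (nat_lit 1), (nat_lit 1), (nat_lit 5)⟩)) (BT.node (nat_lit 827) (BT.leaf ⟨[(nat_lit 0), (nat_lit 4), (nat_lit 1), (nat_lit 4), (nat_lit 8)], (nat_lit 2), (nat_lit 3), (nat_lit 1), (nat_lit 5)⟩) (BT.leaf ⟨[(nat_lit 0), (nat_lit 1), (nat_lit 2), (nat_lit 1), (nat_lit 3)], (nat_lit 1), (nat_lit 0), (nat_lit 1), (nat_lit 3)⟩)))) (BT.node (nat_lit 831) (BT.node (nat_lit 829) (BT.leaf ⟨[(nat_lit 0), (nat_lit 7), (nat_lit 2), (nat_lit 6), (nat_lit 3)], (nat_lit 16), (nat_lit 3), (nat_lit 1), (nat_lit 5)⟩) (BT.node (nat_lit 830) (BT.leaf ⟨[(nat_lit 0), (nat_lit 2), (nat_lit 8), (nat_lit 3), (nat_lit 8)], (nat_lit 5), (nat_lit 0), (nat_lit 1), (nat_lit 5)⟩) (BT.leaf ⟨[(nat_lit 0), (nat_lit 3), (nat_lit 7), (nat_lit 2), (nat_lit 6)], (nat_lit 16), (nat_lit 2), (nat_lit 1), (nat_lit 5)⟩))) (BT.node (nat_lit 833) (BT.node (nat_lit 832) (BT.leaf ⟨[(nat_lit 0), (nat_lit 2), (nat_lit 6), (nat_lit 3), (nat_lit 7)], (nat_lit 16), (nat_lit 0), (nat_lit 1), (nat_lit 3)⟩) (BT.leaf ⟨[(nat_lit 0), (nat_lit 7), (nat_lit 8), (nat_lit 7), (nat_lit 8)], (nat_lit 92), (nat_lit 1), (nat_lit 1), (nat_lit 5)⟩)) (BT.node (nat_lit 834) (BT.leaf ⟨[(nat_lit 0), (nat_lit 7), (nat_lit 2), (nat_lit 6), (nat_lit 3)], (nat_lit 16), (nat_lit 3), (nat_lit 1), (nat_lit 3)⟩) (BT.leaf ⟨[(nat_lit 0), (nat_lit 7), (nat_lit 8), (nat_lit 7), (nat_lit 8)], (nat_lit 92), (nat_lit 1), (nat_lit 1), (nat_lit 3)⟩))))))) (BT.node (nat_lit 863) (BT.node (nat_lit 849) (BT.node (nat_lit 842) (BT.node (nat_lit 838) (BT.node (nat_lit 836) (BT.leaf ⟨[(nat_lit 0), (nat_lit 4), (nat_lit 3), (nat_lit 4), (nat_lit 3)], (nat_lit 79), (nat_lit 0), (nat_lit 1), (nat_lit 5)⟩) (BT.node (nat_lit 837) (BT.leaf ⟨[(nat_lit 0), (nat_lit 2), (nat_lit 2), (nat_lit 2)], (nat_lit 0), (nat_lit 0), (nat_lit 1), (nat_lit 5)⟩) (BT.leaf ⟨[(nat_lit 0), (nat_lit 2), (nat_lit 1), (nat_lit 3), (nat_lit 1)], (nat_lit 1), (nat_lit 1), (nat_lit 1), (nat_lit 5)⟩))) (BT.node (nat_lit 840) (BT.node (nat_lit 839) (BT.leaf ⟨[(nat_lit 0), (nat_lit 3), (nat_lit 3), (nat_lit 3)], (nat_lit 75), (nat_lit 0), (nat_lit 1), (nat_lit 3)⟩) (BT.leaf ⟨[(nat_lit 0), (nat_lit 2), (nat_lit 6), (nat_lit 3), (nat_lit 7)], (nat_lit 16), (nat_lit 0), (nat_lit 1), (nat_lit 5)⟩)) (BT.node (nat_lit 841) (BT.leaf ⟨[(nat_lit 0), (nat_lit 2), (nat_lit 7), (nat_lit 3), (nat_lit 6)], (nat_lit 91), (nat_lit 1), (nat_lit 1), (nat_lit 5)⟩) (BT.leaf ⟨[(nat_lit 0), (nat_lit 8), (nat_lit 2), (nat_lit 8), (nat_lit 3)], (nat_lit 5), (nat_lit 3), (nat_lit 1), (nat_lit 5)⟩)))) (BT.node (nat_lit 845) (BT.node (nat_lit 843) (BT.leaf ⟨[(nat_lit 0), (nat_lit 2), (nat_lit 1), (nat_lit 3), (nat_lit 1)], (nat_lit 1), (nat_lit 1), (nat_lit 1), (nat_lit 3)⟩) (BT.node (nat_lit 844) (BT.leaf ⟨[(nat_lit 0), (nat_lit 3), (nat_lit 8), (nat_lit 2), (nat_lit 8)], (nat_lit 5), (nat_lit 2), (nat_lit 1), (nat_lit 5)⟩) (BT.leaf ⟨[(nat_lit 0), (nat_lit 2), (nat_lit 7), (nat_lit 3), (nat_lit 6)], (nat_lit 91), (nat_lit 1), (nat_lit 1), (nat_lit 3)⟩))) (BT.node (nat_lit 847) (BT.node (nat_lit 846) (BT.leaf ⟨[(nat_lit 0), (nat_lit 1), (nat_lit 3), (nat_lit 1), (nat_lit 2)], (nat_lit 1), (nat_lit 2), (nat_lit 1), (nat_lit 5)⟩) (BT.leaf ⟨[(nat_lit 0), (nat_lit 4), (nat_lit 2), (nat_lit 4), (nat_lit 2)], (nat_lit 4), (nat_lit 1), (nat_lit 1), (nat_lit 3)⟩)) (BT.node (nat_lit 848) (BT.leaf ⟨[(nat_lit 0), (nat_lit 8), (nat_lit 6), (nat_lit 8), (nat_lit 6)], (nat_lit 17), (nat_lit 1), (nat_lit 1), (nat_lit 3)⟩) (BT.leaf ⟨[(nat_lit 0), (nat_lit 1), (nat_lit 2), (nat_lit 1), (nat_lit 3)], (nat_lit 1), (nat_lit 0), (nat_lit 1), (nat_lit 5)⟩))))) (BT.node (nat_lit 856) (BT.node (nat_lit 852) (BT.node (nat_lit 850) (BT.leaf ⟨[(nat_lit 0), (nat_lit 8), (nat_lit 3), (nat_lit 8), (nat_lit 2)], (nat_lit 5), (nat_lit 1), (nat_lit 1), (nat_lit 3)⟩) (BT.node (nat_lit 851) (BT.leaf ⟨[(nat_lit 0), (nat_lit 6), (nat_lit 3), (nat_lit 7), (nat_lit 2)], (nat_lit 16), (nat_lit 1), (nat_lit 1), (nat_lit 5)⟩) (BT.leaf ⟨[(nat_lit 0), (nat_lit 2), (nat_lit 2), (nat_lit 2)], (nat_lit 0), (nat_lit 0), (nat_lit 1), (nat_lit 3)⟩))) (BT.node (nat_lit 854) (BT.node (nat_lit 853) (BT.leaf ⟨[(nat_lit 0), (nat_lit 6), (nat_lit 6), (nat_lit 6)], (nat_lit 15), (nat_lit 0), (nat_lit 1), (nat_lit 3)⟩) (BT.leaf ⟨[(nat_lit 0), (nat_lit 1), (nat_lit 3), (nat_lit 1), (nat_lit 2)], (nat_lit 1), (nat_lit 2), (nat_lit 1), (nat_lit 3)⟩)) (BT.node (nat_lit 855) (BT.leaf ⟨[(nat_lit 0), (nat_lit 6), (nat_lit 2), (nat_lit 7), (nat_lit 3)], (nat_lit 91), (nat_lit 0), (nat_lit 1), (nat_lit 5)⟩) (BT.leaf ⟨[(nat_lit 0), (nat_lit 7), (nat_lit 3), (nat_lit 6), (nat_lit 2)], (nat_lit 91), (nat_lit 2), (nat_lit 1), (nat_lit 5)⟩)))) (BT.node (nat_lit 859) (BT.node (nat_lit 857) (BT.leaf ⟨[(nat_lit 0), (nat_lit 3), (nat_lit 6), (nat_lit 2), (nat_lit 7)], (nat_lit 91), (nat_lit 3), (nat_lit 1), (nat_lit 5)⟩) (BT.node (nat_lit 858) (BT.leaf ⟨[(nat_lit 0), (nat_lit 3), (nat_lit 6), (nat_lit 2), (nat_lit 7)], (nat_lit 91), (nat_lit 3), (nat_lit 1), (nat_lit 3)⟩) (BT.leaf ⟨[(nat_lit 0), (nat_lit 6), (nat_lit 2), (nat_lit 7), (nat_lit 3)], (nat_lit 91), (nat_lit 0), (nat_lit 1), (nat_lit 4)⟩))) (BT.node (nat_lit 861) (BT.node (nat_lit 860) (BT.leaf ⟨[(nat_lit 0), (nat_lit 3), (nat_lit 1), (nat_lit 2), (nat_lit 1)], (nat_lit 1), (nat_lit 3), (nat_lit 1), (nat_lit 3)⟩) (BT.leaf ⟨[(nat_lit 0), (nat_lit 3), (nat_lit 8), (nat_lit 2), (nat_lit 8)], (nat_lit 5), (nat_lit 2), (nat_lit 1), (nat_lit 3)⟩)) (BT.node (nat_lit 862) (BT.leaf ⟨[(nat_lit 0), (nat_lit 3), (nat_lit 7), (nat_lit 2), (nat_lit 6)], (nat_lit 16), (nat_lit 2), (nat_lit 1), (nat_lit 3)⟩) (BT.leaf ⟨[(nat_lit 0), (nat_lit 7), (nat_lit 3), (nat_lit 6), (nat_lit 2)], (nat_lit 91), (nat_lit 2), (nat_lit 1), (nat_lit 3)⟩)))))) (BT.node (nat_lit 877) (BT.node (nat_lit 870) (BT.node (nat_lit 866) (BT.node (nat_lit 864) (BT.leaf ⟨[(nat_lit 0), (nat_lit 6), (nat_lit 2), (nat_lit 7), (nat_lit 3)], (nat_lit 91), (nat_lit 0), (nat_lit 1), (nat_lit 3)⟩) (BT.node (nat_lit 865) (BT.leaf ⟨[(nat_lit 0), (nat_lit 6), (nat_lit 3), (nat_lit 7), (nat_lit 2)], (nat_lit 16), (nat_lit 1), (nat_lit 1), (nat_lit 3)⟩) (BT.leaf ⟨[(nat_lit 0), (nat_lit 8), (nat_lit 2), (nat_lit 8), (nat_lit 3)], (nat_lit 5), (nat_lit 3), (nat_lit 1), (nat_lit 3)⟩))) (BT.node (nat_lit 868) (BT.node (nat_lit 867) (BT.leaf ⟨[(nat_lit 0), (nat_lit 5), (nat_lit 4), (nat_lit 5), (nat_lit 4), (nat_lit 5), (nat_lit 4)], (nat_lit 10), (nat_lit 1), (nat_lit 1), (nat_lit 3)⟩) (BT.leaf ⟨[(nat_lit 0), (nat_lit 5), (nat_lit 2), (nat_lit 5), (nat_lit 2), (nat_lit 5), (nat_lit 2)], (nat_lit 9), (nat_lit 1), (nat_lit 1), (nat_lit 5)⟩)) (BT.node (nat_lit 869) (BT.leaf ⟨[(nat_lit 0), (nat_lit 6), (nat_lit 3), (nat_lit 5), (nat_lit 7), (nat_lit 2), (nat_lit 5)], (nat_lit 24), (nat_lit 2), (nat_lit 1), (nat_lit 5)⟩) (BT.leaf ⟨[(nat_lit 0), (nat_lit 7), (nat_lit 5), (nat_lit 7), (nat_lit 5), (nat_lit 7), (nat_lit 5)], (nat_lit 101), (nat_lit 0), (nat_lit 1), (nat_lit 5)⟩)))) (BT.node (nat_lit 873) (BT.node (nat_lit 871) (BT.leaf ⟨[(nat_lit 0), (nat_lit 5), (nat_lit 3), (nat_lit 5), (nat_lit 3), (nat_lit 5), (nat_lit 3)], (nat_lit 84), (nat_lit 0), (nat_lit 1), (nat_lit 5)⟩) (BT.node (nat_lit 872) (BT.leaf ⟨[(nat_lit 0), (nat_lit 5), (nat_lit 6), (nat_lit 3), (nat_lit 5), (nat_lit 7), (nat_lit 2)], (nat_lit 24), (nat_lit 1), (nat_lit 1), (nat_lit 5)⟩) (BT.leaf ⟨[(nat_lit 3), (nat_lit 6), (nat_lit 5), (nat_lit 2), (nat_lit 7), (nat_lit 5)], (nat_lit 99), (nat_lit 5), (nat_lit 0), (nat_lit 5)⟩))) (BT.node (nat_lit 875) (BT.node (nat_lit 874) (BT.leaf ⟨[(nat_lit 0), (nat_lit 6), (nat_lit 5), (nat_lit 6), (nat_lit 5), (nat_lit 6), (nat_lit 5)], (nat_lit 26), (nat_lit 1), (nat_lit 1), (nat_lit 5)⟩) (BT.leaf ⟨[(nat_lit 0), (nat_lit 1), (nat_lit 8), (nat_lit 6), (nat_lit 1), (nat_lit 8), (nat_lit 6)], (nat_lit 96), (nat_lit 2), (nat_lit 1), (nat_lit 5)⟩)) (BT.node (nat_lit 876) (BT.leaf ⟨[(nat_lit 0), (nat_lit 5), (nat_lit 7), (nat_lit 5), (nat_lit 7), (nat_lit 5), (nat_lit 7)], (nat_lit 101), (nat_lit 1), (nat_lit 1), (nat_lit 5)⟩) (BT.leaf ⟨[(nat_lit 0), (nat_lit 5), (nat_lit 6), (nat_lit 5), (nat_lit 6), (nat_lit 5), (nat_lit 6)], (nat_lit 26), (nat_lit 0), (nat_lit 1), (nat_lit 5)⟩))))) (BT.node (nat_lit 884) (BT.node (nat_lit 880) (BT.node (nat_lit 878) (BT.leaf ⟨[(nat_lit 0), (nat_lit 6), (nat_lit 3), (nat_lit 5), (nat_lit 7), (nat_lit 2), (nat_lit 5)], (nat_lit 24), (nat_lit 2), (nat_lit 1), (nat_lit 3)⟩) (BT.node (nat_lit 879) (BT.leaf ⟨[(nat_lit 0), (nat_lit 1), (nat_lit 7), (nat_lit 1), (nat_lit 7), (nat_lit 1), (nat_lit 7)], (nat_lit 95), (nat_lit 1), (nat_lit 1), (nat_lit 3)⟩) (BT.leaf ⟨[(nat_lit 5), (nat_lit 7), (nat_lit 2), (nat_lit 5), (nat_lit 6), (nat_lit 3)], (nat_lit 24), (nat_lit 4), (nat_lit 0), (nat_lit 5)⟩))) (BT.node (nat_lit 882) (BT.node (nat_lit 881) (BT.leaf ⟨[(nat_lit 0), (nat_lit 6), (nat_lit 3), (nat_lit 5), (nat_lit 2), (nat_lit 7), (nat_lit 5)], (nat_lit 25), (nat_lit 3), (nat_lit 1), (nat_lit 5)⟩) (BT.leaf ⟨[(nat_lit 0), (nat_lit 6), (nat_lit 1), (nat_lit 7), (nat_lit 8), (nat_lit 1), (nat_lit 8)], (nat_lit 22), (nat_lit 5), (nat_lit 1), (nat_lit 5)⟩)) (BT.node (nat_lit 883) (BT.leaf ⟨[(nat_lit 0), (nat_lit 5), (nat_lit 3), (nat_lit 6), (nat_lit 5), (nat_lit 2), (nat_lit 7)], (nat_lit 99), (nat_lit 4), (nat_lit 1), (nat_lit 5)⟩) (BT.leaf ⟨[(nat_lit 0), (nat_lit 3), (nat_lit 5), (nat_lit 7), (nat_lit 2), (nat_lit 5), (nat_lit 6)], (nat_lit 24), (nat_lit 3), (nat_lit 1), (nat_lit 5)⟩)))) (BT.node (nat_lit 887) (BT.node (nat_lit 885) (BT.leaf ⟨[(nat_lit 1), (nat_lit 8), (nat_lit 7), (nat_lit 1), (nat_lit 8), (nat_lit 1), (nat_lit 7)], (nat_lit 103), (nat_lit 6), (nat_lit 0), (nat_lit 5)⟩) (BT.node (nat_lit 886) (BT.leaf ⟨[(nat_lit 0), (nat_lit 8), (nat_lit 5), (nat_lit 4), (nat_lit 5), (nat_lit 8), (nat_lit 5), (nat_lit 4), (nat_lit 5)], (nat_lit 14), (nat_lit 2), (nat_lit 1), (nat_lit 5)⟩) (BT.leaf ⟨[(nat_lit 6), (nat_lit 1), (nat_lit 7), (nat_lit 5), (nat_lit 8), (nat_lit 1), (nat_lit 8), (nat_lit 5)], (nat_lit 40), (nat_lit 7), (nat_lit 0), (nat_lit 5)⟩))) (BT.node (nat_lit 889) (BT.node (nat_lit 888) (BT.leaf ⟨[(nat_lit 7), (nat_lit 2), (nat_lit 5), (nat_lit 8), (nat_lit 3), (nat_lit 7), (nat_lit 8), (nat_lit 5)], (nat_lit 41), (nat_lit 7), (nat_lit 0), (nat_lit 5)⟩) (BT.leaf ⟨[(nat_lit 3), (nat_lit 6), (nat_lit 5), (nat_lit 8), (nat_lit 6), (nat_lit 2), (nat_lit 8), (nat_lit 5)], (nat_lit 116), (nat_lit 7), (nat_lit 0), (nat_lit 5)⟩)) (BT.node (nat_lit 890) (BT.leaf ⟨[(nat_lit 1), (nat_lit 4), (nat_lit 6), (nat_lit 4), (nat_lit 1), (nat_lit 4), (nat_lit 6), (nat_lit 4)], (nat_lit 50), (nat_lit 0), (nat_lit 0), (nat_lit 3)⟩) (BT.leaf ⟨[(nat_lit 1), (nat_lit 4), (nat_lit 7), (nat_lit 4), (nat_lit 1), (nat_lit 4), (nat_lit 7), (nat_lit 4)], (nat_lit 125), (nat_lit 3), (nat_lit 0), (nat_lit 3)⟩)))))))))))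
noncomputable def big0_hcs : List CW := [⟨[(nat_lit 1)], (nat_lit 0), (nat_lit 0), (nat_lit 0), (nat_lit 0)⟩, ⟨[(nat_lit 2)], (nat_lit 1), (nat_lit 0), (nat_lit 0), (nat_lit 0)⟩, ⟨[(nat_lit 4)], (nat_lit 2), (nat_lit 0), (nat_lit 0), (nat_lit 0)⟩, ⟨[(nat_lit 5)], (nat_lit 3), (nat_lit 0), (nat_lit 0), (nat_lit 0)⟩, ⟨[(nat_lit 8)], (nat_lit 4), (nat_lit 0), (nat_lit 0), (nat_lit 0)⟩, ⟨[(nat_lit 1)], (nat_lit 5), (nat_lit 0), (nat_lit 0), (nat_lit 0)⟩, ⟨[(nat_lit 3)], (nat_lit 6), (nat_lit 0), (nat_lit 0), (nat_lit 0)⟩, ⟨[(nat_lit 4)], (nat_lit 7), (nat_lit 0), (nat_lit 0), (nat_lit 0)⟩, ⟨[(nat_lit 5)], (nat_lit 8), (nat_lit 0), (nat_lit 0), (nat_lit 0)⟩, ⟨[(nat_lit 8)], (nat_lit 9), (nat_lit 0), (nat_lit 0), (nat_lit 0)⟩]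
noncomputable def big0_H (x j : Nat) : Bx (Nat → Nat → Nat) := mkH big0_L big0_pb.1 big0_e.get (lmap CW.w big0_hcs) (nat_lit 78489) (nat_lit 78490) (nat_lit 9) (nat_lit 262144) (nat_lit 268435456) (nat_lit 16777215) x (big0_rots.get j)
noncomputable def big0_F (x b : Nat) : Bool := blkOK big0_H big0_ch (nat_lit 78490) (nat_lit 262144) (nat_lit 1024) (nat_lit 8) (nat_lit 255) (nat_lit 37) (nat_lit 0x1fffffffff) x b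

end CF.Comp.J23B0
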