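import Cfsg.Agent.Comp.TCDefs

set_option autoImplicit false
set_option maxRecDepth 1000000
set_option maxHeartbeats 0
set_option Elab.async false

namespace CF.Comp.J23Ba

noncomputable def biga_c0 : BT (Bx Nat) := (BT.leaf (Bx.mk (nat_lit 0x401d1aa0ec520766a83aa541bfaa0e9d30766a837f00000000001306e8783b7501b3aa0e65206d09839c00000260e19006c698370501d6260ded2077000000501bf800001606fa88367381cb800001406caa839f441ce260e4d106e4b03a5501ce220dd930710000004c1be240e9d606e0b83a1481beb1468d506d0b83743c1cba00df400000b0376501c8a60d7c0000080397501be280dd000000a038e301ca280dfd006e020308441c7000001106d0000003c1b9220e19206f800000000001a0ce800000000004c1a6980dc8f06ca00000000000000013067400000481be000001006f6803722c1b90000000000000000481a6220dc94067a7837000000100ce1006747036500000260cd80000000000000000000013068a8836500000000000d06c6000001c1a0800000000007833a2c19c8000000000000000000001e0d0c00000000000000000000000000000000000000000000000000000000000000110696503433c1a180000000000000000000000000000000583392418f000000406080000000000000000c06720000000000180ce4806442830700000100c780000000000000000000000000000000000000000000000000000000000000000000000000000000000000000000000000000e0c480000000000000000c0c480000000000000000000000000000000000000000000000000000000000c0c4000000000000000000000000000000000000000000000000183040c182000000000001030204181020c040000000000)))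
noncomputable def biga_c1 : BT (Bx Nat) := (BT.leaf (Bx.mk (nat_lit 0xf9ecb7c761ba66e40000000000cccc9ce26800000000000000000000000000000000000002e628c00001009ac0000040265800000f18918874e0000000000000000cccc3443a5de53a530ead000004262740000120ea9000000000000000120ea40000000000253370f99c4000000000023336800000cccbb4c3a6400001199b058ce36665ca61d29319cecccb82e662a0336c00000000006665a25334c00000000003e670b332cb299a1d00e7800001d33800000080c3dc061f2231091188590f3c311e7800001a01bd58cbae806ee133190998d9873780000263cd4dc789d00d900000340362f998e7ccc7cc3980000000000064cb4e8069d78f0fa01a56ccb368068800001a019f000000000000000000000000004a6605a8eefa019a0000038a5cf4032b0995ed00c9000000000012997a00000443991d12b2000000000034a5c5c32ba000000000000000283c8d41e3ca0721cc64e40000153549000005038fa83c7b41e45a071d50250a932a00000095aab80000273298f19349cca9ce65280000153537000004e653a7329b3995484f18ce652e752a400000a4ca000000271264fa944000004c64d6032773182f94c985438928323f61e2800000543882a12475992ca0c0e506074000014992ea4c94d87878000014992aa5496d66488000013992700000000002e302e00000b4c8c800002c121c00000000005c60400000169912bc707d664540000000000b8705dc241ee3c0c00000b4c855a64270300979905c8701e4240b4060200000)))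
noncomputable def biga_c2 : BT (Bx Nat) := (BT.leaf (Bx.mk (nat_lit 0x1022be000000000000000000000b87ca5ce64c00000000000000000000000000000000000000000192d7a000008c7dd00000000000000007df4e800001d11a000000000000000000000118fb0000003efa38000000000000000000000000000000088b3f80000261f49339a399f513cfb515116a00000000000000000000000000000000000000000130f97000004cfa5400000000000000000000000000000000000000000272cd18166300000000000000000000000000408999a7d17296858e12d00000000001208860000044e551894eafc27894b3e0000021115400000000000000024729800000000005059ca784e2000000000000000197d0330874000006509100000000000c8b20800001f9515416659c4484e21a6f112200000a04338000032847790f3aa9c9e0000020110198834000000000000000000000b9c99000000000000000099f2a800000000000000000000000002310f40000099f268000033105188849a5c9ad021b67108400000a44230000000000000000c4420000002810c15a239000005220f7110be00000cc40f6220dc00001a015ba441f000003402b18161ca4b1380000000001a014f0000000000000001a014800000000002b2c3b58f24000006804fc0000158f20000006804d80000158821000000000000000000000000005498680000000000000005a584ae441d69610b0409e2206c0000000000000000000034022970f08b8403e804300000181604c8781e2200b4060200000)))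
noncomputable def biga_c3 : BT (Bx Nat) := (BT.leaf (Bx.mk (nat_lit 0xe90a60000000000000000f23b900000000000000017079699a4c80000000000000000000000000000000000000000000000000000000000000000000182183187b7000004442fc00000000000000040a2196514a000000000000000000001110b40000000000000000000000000044a1f40000000000000004ad28400001290a994854000001e79a800000000004f15dc00000000000000000000000001387939484e000002521340000000000000003050cb42867000003c42c800000000000000000000238ab200000862b54aa212421100000000000000000000010c55d84855800000000012107f0000048d13400000f1080a22b9800001721033a870000004e41d80000000000000000000029688c0000000000508d6a88acd31091a5431800002720d000000bc848000000000014b43dc839c800000000019205bcc81a0000000000199031000000000000000109082000004cf150000019204fcc8160000000000119079000004cf133240919902800000548d0c00000000000000050dd14000019203fcc81154d0cea46754905f00000624182a207800000c901b66407a8208fa015c0000000000000000000000000000000000001a01500000000000000001a0149a0817800000000000000000000680502c503800000000006804dea204b79030c83870000000000000000000000000000000199009b5187d840480000161010000005a40472401999006000000000000000000000bc383e804340000179004c4801e41c0b3080200000)))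
noncomputable def biga_c4 : BT (Bx Nat) := (BT.leaf (Bx.mk (nat_lit 0xd1cd464a68800001a57a600000000000000000000000000000000000000000000000000002e52b000000000006d6e2000000000019948a000000000032591200000c964380000000000000007274b80000332902000000000000000000000000005d6e400000000000c2cc6000000000000000000000c963b800003258ea00000655d0e4b1cc0000000000c9638800003328d4dcfbc0000064b1a5a577e000006ca5b800003258ccd2bba0000064b193328c00000000000000003328b599459d00e0e807000000000000c4a5de65153328a799452000006806db4036a00000cca26800003328999944bcca256806af40354000000000066511800001994450000066510c00001994427a4b7800000000000000000000680674000019943dcca1e6252573287400000cca1cbaae0c00001a0191d00c868063f4031c000000000068063740318000000000000000340311a0186d00c2e80613328580000000000000003402ffa017dd00be6805ec0000000000000006805db402e800000d00b96805c33284400000d00b5800003402d1a016700000680597402c79941e000000000000000000000000000000000000000000cca0d64a87e8585ba01510000050ac9275a5200000cca0b000003328273942a996906805073282329423000006804e33281f9940ed00986804bf32817a012bcca0568049f4024c00000d0092e650234024399407d008ee804700000000000d008ce8045ef3813a0112d008862701b3280799402d0082e804134060200000)))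
noncomputable def biga_c5 : BT (Bx Nat) := (BT.leaf (Bx.mk (nat_lit 0x199a97000000000000000000000000000000000000118aa08265d0000000000000000000000000000000000000000000000000000000000000000000000000000000926ddbe6b2c00000000008c55b80000000000000000000049369c0000124ca4000000000000000000000000000000000000000000000000000000000119ab0000000000000000111acc000000000000000000000000000000000000000000d00ea0000000000000000d00e80000000000000000000000000000000000000000006669580000109a67000004ac618000000000000000000000000000000099b3b3e69be66cfba01ae000000000000000199a47000004a69fc00001236680000000000000000000008243f0000000000000000000006668f80000119a74898c40000000000000000000000000000000139a3a000000000000000000000aa3358000000000000000d00c5e806280000000000000000000000000000000000006806040000199a29000000000000000000000d00bc66689333446000000000000000326c4a00000000006805ab3344199a1f84d13d04d800000000000ad09b5468dc0000199a1d00000000003334380000000000680557402a999a19000006805374029999a178989d80000000001a0146d00a2e6684800001a013dd009e66684340269a0131b05070000034025800000d00940000000000000000ccd0468048b3340fa011e00000000002e421969a0dd008d6804633340ba0113d0088e6681340213a0106c0981e4280b4060200000)))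
noncomputable def biga_c6 : BT (Bx Nat) := (BT.leaf (Bx.mk (nat_lit 0xcc6cae2374c0000000000000000000000000188dcd0000000000331b1e000000000062371c0000188dc5cc6c60000000000000000cc6c400000000000000000000066361711b7400000000000000000000000000000000000000000198d7c0000000000331af788dad0000000000331aed88da9000006635d00000198d72c46d200000331ae00000091c67c90dd40000198d680000000000331ace00000cc6b2e2365f403a598d63c46ca68073b40399a01cad00e468071b40389a01c20000000000000001a01be000006806f340373a01b7cc6a88000000000000000d00d9c30d7000001a01afd00d60000000000000000000006806a2786dc000000000068068f28689a01a0cc6a080000000000000000000050cd6000001a019bd00cc0000034032d9433bd00c98000000000198d37a609e8000000000000000000006634c711ab400000000000000000000000000cc6960000000000123854d00c100000251a9000000cc69400000241a99a01790000054ccfe51ada00000cc69162350c000014384500000663486a666c000000000066347b11a75a01620000068057c00001a015dcc68e000003402b3a0157d00ab00000000001a01520000000000000001a014a000000000034028f98d12c46926805080000198d10c46906804e74026ba013200000529c534025a00000d009480000000000000000000068048c00001a011fcc68362343c00001a011bcc6828000034022b98d04c468468043b40215a0107cc580e2340f4040400000)))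
noncomputable def biga_c7 : BT (Bx Nat) := (BT.leaf (Bx.mk (nat_lit 0xc866966765707f9e000008cecf8000032199999d91c86656676432199199d8fc866366763b2198999d8dc86616676300000000000c865f6676200000000000000006432e733b0a00000ccec20000000000190cb3ccebf8000000000190cafccebe0000032195999d7b000000000032195199d76000000000000000190ca3cceb90000032194199d70886688000000000190c9bcceb40000032193199d67c864b667597403a790c93cceb18000034039ba01cbd00e4e8071f4038ba01c30000040c98400001a01bf0000000000340375a01b800000000002018ee00000d00da00000000001a01b0d00d6800000000014b25ca22366806a633b3da01a60000068069000001a01a1000000000026188b0bf810000000000000001a019cd00cce510ef4032e00000d00ca6674e000000000000000064317733a68000000000064316733a6200000000006674bc0000119d50c86296674b3403060000000000000000000012bd49c86256674a3402f533f4d0000000000273a8000000c862166748b402dfa016da4ea300000283abf5b237000006430e733a3c00000d00b000000333a3ba015e00000667473402b400000000006430b733a33a0153d00a76430a733a2fa014b000000000000000190c23cce8968050f4027d90c1fcce886804e800001a0133000000000034025c00000d009564305733a12000000000068049000001a0120c86076674180000000000c86056674174022d90c07cce8268043f40217a0108c86016614074040600000)))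
noncomputable def biga_c8 : BT (Bx Nat) := (BT.leaf (Bx.mk (nat_lit 0x1fa1880000074962be97240000000000000000000000000000000648e132970dea19ef12d100000000000000000000000000000000000012259950952c8468e44b4800000912ca00000242b3b2119b912ce00000000001211960000000000242341225a190ac880000000000000005c94d00000158177192b900000324a5632559192ad000000000023256b192b30000031029c000000000000000000001a2b440000000000000002325560000080ac936563000000d128e00000000003324aa00000cc92a4c559e62ae531563000004695a8000000000098ab466493262ae93156598ab84245e0000010127acc9230000033248b2927dcc921ca4a17324852927ba08b16649034033d9923f00000444a0b3247b2927f949436648ea524f999239949420000033246ef918a0000044452a24a97140490000048454a44aa72244f0000000000340313a01878c92cc6496800000000000000000000340301a017e8492ec249780000000000000006805df402eb99222d00b9e805c6a2a71a016ed00b6000003402d200000cc90f68059b402c949241d00b08000000000122f280000000000265c5800000000005844b6b245d292310000054447c0000119234000005454700000000000000006805100000000000a49156804eee2a3b49226a128d4e486ed2a3200000b0a8854443aa4a1f5240c000000000000000159217a490ad248580000000000c08855e482ec2a0d81107bc90456482712a0b89504c888162480f4060200000)))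
noncomputable def biga_c9 : BT (Bx Nat) := (BT.leaf (Bx.mk (nat_lit 0x641a580000000000965d0641a4c00000000000000000000000000f06ac000003c1abc00001006b700000401ae602f80f9fc100000000002297340000000000000000000000000000000000000000000000000000000000000000000000000000001f0d8a00000000000000000000000000000000000000000000000000000000000000121fcf00000000000000000000000000427ef400000000007c361e27f4a19719a01d10000000000000000000006cbc6800001a3f1f01f9588dc5427e2c000012176800000505df642ecb4177b00000000000000000000098bbb00000273f0d317729cfc20000000000000000000004a7dfc00001417678582eca7df2860c94176300000000000000011b058000000000000000119f889cfba46c16633f0a000009cfb8000000000000000000000367d6800000000000000038197a23ecd11f6c9032b467d5e6367b51b4c90f9d54192a82e8200000a1d1f8000028368d49f5498fa1d27d4a8766f43a36000004e7d36a36792b0319c325d418e673ea2000000000000000253eab49f458d81a4a194e93e84000009cfa4ce7d2000000000000000000000243e880000000000000002c0c5351b22a8b90800002b3e5b51b1ea8b8ed45c70000014862ab030fd27cb293e573862eacf91d27ca293e4f49f2600000586c4ec2e2561b11b0b88000002c0c1c0000000000567c66b3e3159f17ac30b567c540000000000000005c181c000016860bb4f85606c1af2e0b89704c0301e4180b4060200000)))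
noncomputable def biga_p : BT (Bx Nat) := (BT.leaf (Bx.mk (nat_lit 0x265c59951e65469942664c59930664869911e64469901e640698f1e63c698e1e638698d1e634698c1e630698b1222848881e22068880621868860621478851a21078841a2084881121fc787f1a1fc187d061f0787c1a1f0587b1e1ec687a121e448761e1d86876061d07874061c878721a1c818701e1c06870061b4886a121a078681a1a018671e19c68651e19468650618c78631a18c18601217c485e12174485a12164485715d58575521d54475421d50475311d4847511dd3c674e15d34874d11d30874c11d2c474a11d24774819d1c574621d18474521d14474321d0c474221d0847411dd0087401dcfc873f11cf8573d21cf4473c11ce8873a11ce4873911ce0673721cdc773619cd0773419cd0373409cc4773119cc42730198bc662e158b4562c1d8b0662c118b0362c098ac762a158a456281d8a066280d8a026251989056231588886221d88866221188836220988476201587c561e21878761e19878461e0d878261d19874561c1d870661c1586c451a1146475191946455181145c75171945c551611454451311448751219448551111440751019440550f11438450c1902c540b11028540a1102474091902424081502044071501c44061d01864060d01823051cc14630514c10730418c1052031080841011c4046000000000)))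
noncomputable def biga_e0 : BT Nat := (BT.node (nat_lit 9408) (BT.node (nat_lit 6080) (BT.node (nat_lit 2176) (BT.node (nat_lit 128) (BT.node (nat_lit 69) (BT.node (nat_lit 66) (BT.leaf (nat_lit 2)) (BT.node (nat_lit 68) (BT.leaf (nat_lit 262146)) (BT.leaf (nat_lit 524290)))) (BT.node (nat_lit 72) (BT.leaf (nat_lit 786434)) (BT.node (nat_lit 73) (BT.leaf (nat_lit 1048578)) (BT.leaf (nat_lit 1310722))))) (BT.node (nat_lit 448) (BT.node (nat_lit 192) (BT.leaf (nat_lit 54045)) (BT.node (nat_lit 256) (BT.leaf (nat_lit 54041)) (BT.leaf (nat_lit 54033)))) (BT.node (nat_lit 1152) (BT.node (nat_lit 512) (BT.leaf (nat_lit 34081)) (BT.leaf (nat_lit 31777))) (BT.node (nat_lit 1920) (BT.leaf (nat_lit 40453)) (BT.leaf (nat_lit 28169)))))) (BT.node (nat_lit 4160) (BT.node (nat_lit 3648) (BT.node (nat_lit 3456) (BT.leaf (nat_lit 24597)) (BT.node (nat_lit 3584) (BT.leaf (nat_lit 34569)) (BT.leaf (nat_lit 19729)))) (BT.node (nat_lit 3712) (BT.leaf (nat_lit 34565)) (BT.node (nat_lit 3904)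 (BT.leaf (nat_lit 37137)) (BT.leaf (nat_lit 26641))))) (BT.node (nat_lit 4800) (BT.node (nat_lit 4288) (BT.leaf (nat_lit 31773)) (BT.node (nat_lit 4352) (BT.leaf (nat_lit 33053)) (BT.leaf (nat_lit 28953)))) (BT.node (nat_lit 4928) (BT.node (nat_lit 4864) (BT.leaf (nat_lit 32529)) (BT.leaf (nat_lit 42769))) (BT.node (nat_lit 5760) (BT.leaf (nat_lit 47889)) (BT.leaf (nat_lit 36113))))))) (BT.node (nat_lit 7616) (BT.node (nat_lit 7040) (BT.node (nat_lit 6464) (BT.node (nat_lit 6144) (BT.leaf (nat_lit 28937)) (BT.node (nat_lit 6336) (BT.leaf (nat_lit 29961)) (BT.leaf (nat_lit 24593)))) (BT.node (nat_lit 6656) (BT.leaf (nat_lit 49189)) (BT.node (nat_lit 6720) (BT.leaf (nat_lit 53025)) (BT.leaf (nat_lit 39441))))) (BT.node (nat_lit 7296) (BT.node (nat_lit 7168) (BT.leaf (nat_lit 29977)) (BT.node (nat_lit 7232) (BT.leaf (nat_lit 36125)) (BT.leaf (nat_lit 40721)))) (BT.node (nat_lit 7488) (BT.node (nat_lit 7424) (BT.leaf (nat_lit 34577)) (BT.leaf (nat_lit 53789))) (BT.node (nat_lit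 7552) (BT.leaf (nat_lit 42257)) (BT.leaf (nat_lit 53029)))))) (BT.node (nat_lit 8576) (BT.node (nat_lit 8000) (BT.node (nat_lit 7872) (BT.leaf (nat_lit 26885)) (BT.node (nat_lit 7936) (BT.leaf (nat_lit 32517)) (BT.leaf (nat_lit 47893)))) (BT.node (nat_lit 8256) (BT.node (nat_lit 8128) (BT.leaf (nat_lit 53257)) (BT.leaf (nat_lit 52237))) (BT.node (nat_lit 8512) (BT.leaf (nat_lit 46353)) (BT.leaf (nat_lit 47905))))) (BT.node (nat_lit 9024) (BT.node (nat_lit 8640) (BT.leaf (nat_lit 51481)) (BT.node (nat_lit 8832) (BT.leaf (nat_lit 29957)) (BT.leaf (nat_lit 49169)))) (BT.node (nat_lit 9152) (BT.node (nat_lit 9088) (BT.leaf (nat_lit 50205)) (BT.leaf (nat_lit 38405))) (BT.node (nat_lit 9280) (BT.leaf (nat_lit 36133)) (BT.leaf (nat_lit 52253)))))))) (BT.node (nat_lit 11456) (BT.node (nat_lit 10432) (BT.node (nat_lit 9856) (BT.node (nat_lit 9600) (BT.node (nat_lit 9472) (BT.leaf (nat_lit 52997)) (BT.node (nat_lit 9536) (BT.leaf (nat_lit 31769)) (BT.leaf (nat_lit 40709)))) (BT.node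 (nat_lit 9664) (BT.leaf (nat_lit 45089)) (BT.node (nat_lit 9728) (BT.leaf (nat_lit 51485)) (BT.leaf (nat_lit 50717))))) (BT.node (nat_lit 10112) (BT.node (nat_lit 9920) (BT.leaf (nat_lit 45061)) (BT.node (nat_lit 9984) (BT.leaf (nat_lit 45081)) (BT.leaf (nat_lit 40733)))) (BT.node (nat_lit 10240) (BT.node (nat_lit 10176) (BT.leaf (nat_lit 29981)) (BT.leaf (nat_lit 45069))) (BT.node (nat_lit 10368) (BT.leaf (nat_lit 43037)) (BT.leaf (nat_lit 53765)))))) (BT.node (nat_lit 10944) (BT.node (nat_lit 10688) (BT.node (nat_lit 10496) (BT.leaf (nat_lit 36121)) (BT.node (nat_lit 10560) (BT.leaf (nat_lit 42521)) (BT.leaf (nat_lit 42005)))) (BT.node (nat_lit 10816) (BT.node (nat_lit 10752) (BT.leaf (nat_lit 39457)) (BT.leaf (nat_lit 42509))) (BT.node (nat_lit 10880) (BT.leaf (nat_lit 43033)) (BT.leaf (nat_lit 45589))))) (BT.node (nat_lit 11200) (BT.node (nat_lit 11072) (BT.leaf (nat_lit 46113)) (BT.node (nat_lit 11136) (BT.leaf (nat_lit 48921)) (BT.leaf (nat_lit 52245)))) (BT.node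 (nat_lit 11328) (BT.node (nat_lit 11264) (BT.leaf (nat_lit 45085)) (BT.leaf (nat_lit 41989))) (BT.node (nat_lit 11392) (BT.leaf (nat_lit 38437)) (BT.leaf (nat_lit 38925))))))) (BT.node (nat_lit 12544) (BT.node (nat_lit 11968) (BT.node (nat_lit 11712) (BT.node (nat_lit 11520) (BT.leaf (nat_lit 52249)) (BT.node (nat_lit 11584) (BT.leaf (nat_lit 43269)) (BT.leaf (nat_lit 42249)))) (BT.node (nat_lit 11776) (BT.leaf (nat_lit 53521)) (BT.node (nat_lit 11840) (BT.leaf (nat_lit 39461)) (BT.leaf (nat_lit 42017))))) (BT.node (nat_lit 12224) (BT.node (nat_lit 12096) (BT.leaf (nat_lit 42273)) (BT.node (nat_lit 12160) (BT.leaf (nat_lit 44293)) (BT.leaf (nat_lit 48925)))) (BT.node (nat_lit 12352) (BT.node (nat_lit 12288) (BT.leaf (nat_lit 50705)) (BT.leaf (nat_lit 46085))) (BT.node (nat_lit 12416) (BT.leaf (nat_lit 48397)) (BT.leaf (nat_lit 50977)))))) (BT.node (nat_lit 13120) (BT.node (nat_lit 12736) (BT.node (nat_lit 12608) (BT.leaf (nat_lit 48901)) (BT.node (nat_lit 12672) (BT.leaf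 (nat_lit 50201)) (BT.leaf (nat_lit 42501)))) (BT.node (nat_lit 12864) (BT.node (nat_lit 12800) (BT.leaf (nat_lit 50713)) (BT.leaf (nat_lit 44817))) (BT.node (nat_lit 13056) (BT.leaf (nat_lit 52769)) (BT.leaf (nat_lit 40981))))) (BT.node (nat_lit 13312) (BT.node (nat_lit 13184) (BT.leaf (nat_lit 46109)) (BT.node (nat_lit 13248) (BT.leaf (nat_lit 40965)) (BT.leaf (nat_lit 40997)))) (BT.node (nat_lit 13440) (BT.node (nat_lit 13376) (BT.leaf (nat_lit 47369)) (BT.leaf (nat_lit 50209))) (BT.node (nat_lit 13504) (BT.leaf (nat_lit 47365)) (BT.leaf (nat_lit 53785)))))))))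
noncomputable def biga_e : BT Nat := biga_e0
noncomputable def biga_cols : List (BT (Bx Nat)) := [biga_c0, biga_c1, biga_c2, biga_c3, biga_c4, biga_c5, biga_c6, biga_c7, biga_c8, biga_c9]
noncomputable def biga_ch (x j : Nat) : Bx Nat := chunkG biga_cols (nat_lit 1) x j
noncomputable def biga_L (x : Nat) : Bx (Nat → Nat) := lookG biga_ch (nat_lit 8) (nat_lit 255) (nat_lit 21) (nat_lit 2097151) x
noncomputable def biga_pc (_ j : Nat) : Bx Nat := biga_p.get j
noncomputable def biga_pb : Bx (Nat → Nat) := lookG biga_pc (nat_lit 8) (nat_lit 255) (nat_lit 18) (nat_lit 262143) (nat_lit 0)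
noncomputable def biga_rots : BT CW := (BT.node (nat_lit 40) (BT.node (nat_lit 20) (BT.node (nat_lit 10) (BT.node (nat_lit 5) (BT.node (nat_lit 2) (BT.node (nat_lit 1) (BT.leaf ⟨[], (nat_lit 1000000), (nat_lit 0), (nat_lit 0), (nat_lit 0)⟩) (BT.leaf ⟨[], (nat_lit 1000000), (nat_lit 0), (nat_lit 0), (nat_lit 1)⟩)) (BT.node (nat_lit 3) (BT.leaf ⟨[], (nat_lit 1000000), (nat_lit 0), (nat_lit 0), (nat_lit 2)⟩) (BT.node (nat_lit 4) (BT.leaf ⟨[(nat_lit 3), (nat_lit 2)], (nat_lit 98), (nat_lit 1), (nat_lit 0), (nat_lit 3)⟩) (BT.leaf ⟨[(nat_lit 7), (nat_lit 6)], (nat_lit 95), (nat_lit 1), (nat_lit 0), (nat_lit 3)⟩)))) (BT.node (nat_lit 7) (BT.node (nat_lit 6) (BT.leaf ⟨[(nat_lit 9), (nat_lit 7), (nat_lit 1), (nat_lit 6)], (nat_lit 26), (nat_lit 2), (nat_lit 0), (nat_lit 4)⟩) (BT.leaf ⟨[(nat_lit 3), (nat_lit 7), (nat_lit 2), (nat_lit 6)], (nat_lit 27), (nat_lit 2), (nat_lit 0), (nat_lit 4)⟩)) (BT.node (nat_lit 8) (BT.leaf ⟨[(nat_lit 2), (nat_lit 3)], (nat_lit 98), (nat_lit 0),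 (nat_lit 0), (nat_lit 4)⟩) (BT.node (nat_lit 9) (BT.leaf ⟨[(nat_lit 1), (nat_lit 7), (nat_lit 9), (nat_lit 1), (nat_lit 6)], (nat_lit 29), (nat_lit 2), (nat_lit 0), (nat_lit 4)⟩) (BT.leaf ⟨[(nat_lit 5), (nat_lit 7), (nat_lit 2), (nat_lit 5), (nat_lit 3), (nat_lit 6)], (nat_lit 41), (nat_lit 4), (nat_lit 0), (nat_lit 4)⟩))))) (BT.node (nat_lit 15) (BT.node (nat_lit 12) (BT.node (nat_lit 11) (BT.leaf ⟨[(nat_lit 6), (nat_lit 7)], (nat_lit 95), (nat_lit 0), (nat_lit 0), (nat_lit 3)⟩) (BT.leaf ⟨[(nat_lit 7), (nat_lit 7), (nat_lit 7)], (nat_lit 125), (nat_lit 0), (nat_lit 0), (nat_lit 4)⟩)) (BT.node (nat_lit 13) (BT.leaf ⟨[(nat_lit 6), (nat_lit 7)], (nat_lit 95), (nat_lit 0), (nat_lit 0), (nat_lit 4)⟩) (BT.node (nat_lit 14) (BT.leaf ⟨[(nat_lit 1), (nat_lit 6), (nat_lit 9), (nat_lit 7)], (nat_lit 26), (nat_lit 0), (nat_lit 0), (nat_lit 4)⟩) (BT.leaf ⟨[(nat_lit 2), (nat_lit 6), (nat_lit 3), (nat_lit 7)], (nat_lit 27), (nat_lit 0), (nat_lit 0), (nat_lit 4)⟩)))) (BT.node (nat_lit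 17) (BT.node (nat_lit 16) (BT.leaf ⟨[(nat_lit 3), (nat_lit 2)], (nat_lit 98), (nat_lit 1), (nat_lit 0), (nat_lit 4)⟩) (BT.leaf ⟨[(nat_lit 8), (nat_lit 7), (nat_lit 8), (nat_lit 7)], (nat_lit 128), (nat_lit 0), (nat_lit 0), (nat_lit 4)⟩)) (BT.node (nat_lit 18) (BT.leaf ⟨[(nat_lit 8), (nat_lit 8)], (nat_lit 82), (nat_lit 0), (nat_lit 0), (nat_lit 4)⟩) (BT.node (nat_lit 19) (BT.leaf ⟨[(nat_lit 5), (nat_lit 3), (nat_lit 6), (nat_lit 5), (nat_lit 7), (nat_lit 2)], (nat_lit 41), (nat_lit 1), (nat_lit 0), (nat_lit 4)⟩) (BT.leaf ⟨[(nat_lit 4), (nat_lit 4)], (nat_lit 78), (nat_lit 0), (nat_lit 0), (nat_lit 4)⟩)))))) (BT.node (nat_lit 30) (BT.node (nat_lit 25) (BT.node (nat_lit 22) (BT.node (nat_lit 21) (BT.leaf ⟨[(nat_lit 8), (nat_lit 4), (nat_lit 1), (nat_lit 4)], (nat_lit 2), (nat_lit 2), (nat_lit 0), (nat_lit 4)⟩) (BT.leaf ⟨[(nat_lit 2), (nat_lit 4), (nat_lit 2), (nat_lit 4)], (nat_lit 5), (nat_lit 0), (nat_lit 0), (nat_lit 4)⟩)) (BT.node (nat_lit 23) (BT.leaf ⟨[(nat_lit 9),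 (nat_lit 4), (nat_lit 9), (nat_lit 4)], (nat_lit 8), (nat_lit 1), (nat_lit 0), (nat_lit 4)⟩) (BT.node (nat_lit 24) (BT.leaf ⟨[(nat_lit 1), (nat_lit 4), (nat_lit 8), (nat_lit 4)], (nat_lit 2), (nat_lit 0), (nat_lit 0), (nat_lit 4)⟩) (BT.leaf ⟨[(nat_lit 1), (nat_lit 1)], (nat_lit 81), (nat_lit 0), (nat_lit 0), (nat_lit 4)⟩)))) (BT.node (nat_lit 27) (BT.node (nat_lit 26) (BT.leaf ⟨[(nat_lit 5), (nat_lit 5)], (nat_lit 79), (nat_lit 0), (nat_lit 0), (nat_lit 4)⟩) (BT.leaf ⟨[(nat_lit 9), (nat_lit 5), (nat_lit 9), (nat_lit 5)], (nat_lit 9), (nat_lit 1), (nat_lit 0), (nat_lit 4)⟩)) (BT.node (nat_lit 28) (BT.leaf ⟨[(nat_lit 4), (nat_lit 5), (nat_lit 4), (nat_lit 5), (nat_lit 4), (nat_lit 5)], (nat_lit 16), (nat_lit 0), (nat_lit 0), (nat_lit 4)⟩) (BT.node (nat_lit 29) (BT.leaf ⟨[(nat_lit 7), (nat_lit 6)], (nat_lit 95), (nat_lit 1), (nat_lit 0), (nat_lit 4)⟩) (BT.leaf ⟨[(nat_lit 1), (nat_lit 5), (nat_lit 1), (nat_lit 5)], (nat_lit 3), (nat_lit 0), (nat_lit 0), (nat_lit 4)⟩)))))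 (BT.node (nat_lit 35) (BT.node (nat_lit 32) (BT.node (nat_lit 31) (BT.leaf ⟨[(nat_lit 9), (nat_lit 9)], (nat_lit 83), (nat_lit 0), (nat_lit 0), (nat_lit 4)⟩) (BT.leaf ⟨[(nat_lit 3), (nat_lit 3), (nat_lit 3)], (nat_lit 100), (nat_lit 0), (nat_lit 0), (nat_lit 4)⟩)) (BT.node (nat_lit 33) (BT.leaf ⟨[(nat_lit 5), (nat_lit 3), (nat_lit 5), (nat_lit 3), (nat_lit 5), (nat_lit 3)], (nat_lit 115), (nat_lit 0), (nat_lit 0), (nat_lit 4)⟩) (BT.node (nat_lit 34) (BT.leaf ⟨[(nat_lit 2), (nat_lit 7), (nat_lit 5), (nat_lit 3), (nat_lit 6), (nat_lit 5)], (nat_lit 142), (nat_lit 2), (nat_lit 0), (nat_lit 4)⟩) (BT.leaf ⟨[(nat_lit 3), (nat_lit 6), (nat_lit 5), (nat_lit 7), (nat_lit 2), (nat_lit 5)], (nat_lit 41), (nat_lit 2), (nat_lit 0), (nat_lit 4)⟩)))) (BT.node (nat_lit 37) (BT.node (nat_lit 36) (BT.leaf ⟨[(nat_lit 8), (nat_lit 3), (nat_lit 8), (nat_lit 2)], (nat_lit 6), (nat_lit 1), (nat_lit 0), (nat_lit 4)⟩) (BT.leaf ⟨[(nat_lit 8), (nat_lit 6), (nat_lit 8), (nat_lit 6)], (nat_lit 28),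 (nat_lit 1), (nat_lit 0), (nat_lit 4)⟩)) (BT.node (nat_lit 38) (BT.leaf ⟨[(nat_lit 2), (nat_lit 9), (nat_lit 3), (nat_lit 9)], (nat_lit 7), (nat_lit 0), (nat_lit 0), (nat_lit 4)⟩) (BT.node (nat_lit 39) (BT.leaf ⟨[(nat_lit 6), (nat_lit 3), (nat_lit 7), (nat_lit 2)], (nat_lit 27), (nat_lit 1), (nat_lit 0), (nat_lit 4)⟩) (BT.leaf ⟨[(nat_lit 3), (nat_lit 4), (nat_lit 3), (nat_lit 4)], (nat_lit 105), (nat_lit 1), (nat_lit 0), (nat_lit 4)⟩))))))) (BT.node (nat_lit 60) (BT.node (nat_lit 50) (BT.node (nat_lit 45) (BT.node (nat_lit 42) (BT.node (nat_lit 41) (BT.leaf ⟨[(nat_lit 1), (nat_lit 9), (nat_lit 1), (nat_lit 9)], (nat_lit 4), (nat_lit 0), (nat_lit 0), (nat_lit 4)⟩) (BT.leaf ⟨[(nat_lit 4), (nat_lit 7), (nat_lit 4), (nat_lit 7), (nat_lit 4), (nat_lit 7), (nat_lit 4), (nat_lit 7), (nat_lit 4), (nat_lit 7), (nat_lit 4), (nat_lit 7)], (nat_lit 177), (nat_lit 1), (nat_lit 0), (nat_lit 4)⟩)) (BT.node (nat_lit 43) (BT.leaf ⟨[(nat_lit 4), (nat_lit 1), (nat_lit 4), (nat_lit 8)],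 (nat_lit 2), (nat_lit 3), (nat_lit 0), (nat_lit 4)⟩) (BT.node (nat_lit 44) (BT.leaf ⟨[(nat_lit 4), (nat_lit 8), (nat_lit 4), (nat_lit 1)], (nat_lit 2), (nat_lit 1), (nat_lit 0), (nat_lit 4)⟩) (BT.leaf ⟨[(nat_lit 4), (nat_lit 9), (nat_lit 4), (nat_lit 9)], (nat_lit 8), (nat_lit 0), (nat_lit 0), (nat_lit 4)⟩)))) (BT.node (nat_lit 47) (BT.node (nat_lit 46) (BT.leaf ⟨[(nat_lit 8), (nat_lit 5), (nat_lit 4), (nat_lit 5), (nat_lit 8), (nat_lit 5), (nat_lit 4), (nat_lit 5)], (nat_lit 24), (nat_lit 2), (nat_lit 0), (nat_lit 4)⟩) (BT.leaf ⟨[(nat_lit 8), (nat_lit 1), (nat_lit 8), (nat_lit 5), (nat_lit 8), (nat_lit 1), (nat_lit 8), (nat_lit 5)], (nat_lit 23), (nat_lit 3), (nat_lit 0), (nat_lit 4)⟩)) (BT.node (nat_lit 48) (BT.leaf ⟨[(nat_lit 9), (nat_lit 8), (nat_lit 9), (nat_lit 8)], (nat_lit 10), (nat_lit 1), (nat_lit 0), (nat_lit 4)⟩) (BT.node (nat_lit 49) (BT.leaf ⟨[(nat_lit 5), (nat_lit 9), (nat_lit 5), (nat_lit 9)], (nat_lit 9), (nat_lit 0), (nat_lit 0), (nat_lit 4)⟩) (BT.leaf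 ⟨[(nat_lit 7), (nat_lit 2), (nat_lit 5), (nat_lit 3), (nat_lit 6), (nat_lit 5)], (nat_lit 41), (nat_lit 5), (nat_lit 0), (nat_lit 4)⟩))))) (BT.node (nat_lit 55) (BT.node (nat_lit 52) (BT.node (nat_lit 51) (BT.leaf ⟨[(nat_lit 6), (nat_lit 3), (nat_lit 5), (nat_lit 7), (nat_lit 2), (nat_lit 5)], (nat_lit 42), (nat_lit 2), (nat_lit 0), (nat_lit 4)⟩) (BT.leaf ⟨[(nat_lit 3), (nat_lit 6), (nat_lit 2), (nat_lit 7)], (nat_lit 127), (nat_lit 3), (nat_lit 0), (nat_lit 4)⟩)) (BT.node (nat_lit 53) (BT.leaf ⟨[(nat_lit 1), (nat_lit 2), (nat_lit 1), (nat_lit 3)], (nat_lit 1), (nat_lit 0), (nat_lit 0), (nat_lit 4)⟩) (BT.node (nat_lit 54) (BT.leaf ⟨[(nat_lit 5), (nat_lit 4), (nat_lit 5), (nat_lit 4), (nat_lit 5), (nat_lit 4)], (nat_lit 16), (nat_lit 1), (nat_lit 0), (nat_lit 4)⟩) (BT.leaf ⟨[(nat_lit 3), (nat_lit 9), (nat_lit 2), (nat_lit 9)], (nat_lit 7), (nat_lit 2), (nat_lit 0), (nat_lit 4)⟩)))) (BT.node (nat_lit 57) (BT.node (nat_lit 56) (BT.leaf ⟨[(nat_lit 6), (nat_lit 9), (nat_lit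 7), (nat_lit 1)], (nat_lit 26), (nat_lit 1), (nat_lit 0), (nat_lit 4)⟩) (BT.leaf ⟨[(nat_lit 2), (nat_lit 7), (nat_lit 3), (nat_lit 6)], (nat_lit 127), (nat_lit 1), (nat_lit 0), (nat_lit 4)⟩)) (BT.node (nat_lit 58) (BT.leaf ⟨[(nat_lit 9), (nat_lit 3), (nat_lit 9), (nat_lit 2)], (nat_lit 7), (nat_lit 1), (nat_lit 0), (nat_lit 4)⟩) (BT.node (nat_lit 59) (BT.leaf ⟨[(nat_lit 9), (nat_lit 2), (nat_lit 9), (nat_lit 3)], (nat_lit 7), (nat_lit 3), (nat_lit 0), (nat_lit 4)⟩) (BT.leaf ⟨[(nat_lit 3), (nat_lit 1), (nat_lit 2), (nat_lit 1)], (nat_lit 1), (nat_lit 3), (nat_lit 0), (nat_lit 4)⟩)))))) (BT.node (nat_lit 70) (BT.node (nat_lit 65) (BT.node (nat_lit 62) (BT.node (nat_lit 61) (BT.leaf ⟨[(nat_lit 7), (nat_lit 2), (nat_lit 6), (nat_lit 3)], (nat_lit 27), (nat_lit 3), (nat_lit 0), (nat_lit 4)⟩) (BT.leaf ⟨[(nat_lit 2), (nat_lit 1), (nat_lit 3), (nat_lit 1)], (nat_lit 1), (nat_lit 1), (nat_lit 0), (nat_lit 4)⟩)) (BT.node (nat_lit 63) (BT.leaf ⟨[(nat_lit 7), (nat_lit 1), (nat_lit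 6), (nat_lit 9)], (nat_lit 26), (nat_lit 3), (nat_lit 0), (nat_lit 4)⟩) (BT.node (nat_lit 64) (BT.leaf ⟨[(nat_lit 8), (nat_lit 2), (nat_lit 8), (nat_lit 3)], (nat_lit 6), (nat_lit 3), (nat_lit 0), (nat_lit 4)⟩) (BT.leaf ⟨[(nat_lit 6), (nat_lit 6), (nat_lit 6)], (nat_lit 25), (nat_lit 0), (nat_lit 0), (nat_lit 4)⟩)))) (BT.node (nat_lit 67) (BT.node (nat_lit 66) (BT.leaf ⟨[(nat_lit 2), (nat_lit 8), (nat_lit 3), (nat_lit 8)], (nat_lit 6), (nat_lit 0), (nat_lit 0), (nat_lit 4)⟩) (BT.leaf ⟨[(nat_lit 6), (nat_lit 8), (nat_lit 6), (nat_lit 8)], (nat_lit 28), (nat_lit 0), (nat_lit 0), (nat_lit 4)⟩)) (BT.node (nat_lit 68) (BT.leaf ⟨[(nat_lit 7), (nat_lit 8), (nat_lit 7), (nat_lit 8)], (nat_lit 128), (nat_lit 1), (nat_lit 0), (nat_lit 4)⟩) (BT.node (nat_lit 69) (BT.leaf ⟨[(nat_lit 3), (nat_lit 8), (nat_lit 2), (nat_lit 8)], (nat_lit 6), (nat_lit 2), (nat_lit 0), (nat_lit 4)⟩) (BT.leaf ⟨[(nat_lit 5), (nat_lit 2), (nat_lit 5), (nat_lit 2), (nat_lit 5), (nat_lit 2)], (nat_lit 15),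 (nat_lit 1), (nat_lit 0), (nat_lit 4)⟩))))) (BT.node (nat_lit 75) (BT.node (nat_lit 72) (BT.node (nat_lit 71) (BT.leaf ⟨[(nat_lit 1), (nat_lit 3), (nat_lit 1), (nat_lit 2)], (nat_lit 1), (nat_lit 2), (nat_lit 0), (nat_lit 4)⟩) (BT.leaf ⟨[(nat_lit 5), (nat_lit 6), (nat_lit 3), (nat_lit 5), (nat_lit 2), (nat_lit 7)], (nat_lit 43), (nat_lit 2), (nat_lit 0), (nat_lit 4)⟩)) (BT.node (nat_lit 73) (BT.leaf ⟨[(nat_lit 4), (nat_lit 5), (nat_lit 8), (nat_lit 5), (nat_lit 4), (nat_lit 5), (nat_lit 8), (nat_lit 5)], (nat_lit 24), (nat_lit 0), (nat_lit 0), (nat_lit 4)⟩) (BT.node (nat_lit 74) (BT.leaf ⟨[(nat_lit 2), (nat_lit 2), (nat_lit 2)], (nat_lit 0), (nat_lit 0), (nat_lit 0), (nat_lit 4)⟩) (BT.leaf ⟨[(nat_lit 9), (nat_lit 1), (nat_lit 9), (nat_lit 1)], (nat_lit 4), (nat_lit 1), (nat_lit 0), (nat_lit 4)⟩)))) (BT.node (nat_lit 78) (BT.node (nat_lit 76) (BT.leaf ⟨[(nat_lit 5), (nat_lit 3), (nat_lit 6), (nat_lit 5), (nat_lit 2), (nat_lit 7)], (nat_lit 142), (nat_lit 4), (nat_lit 0),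 (nat_lit 4)⟩) (BT.node (nat_lit 77) (BT.leaf ⟨[(nat_lit 5), (nat_lit 1), (nat_lit 5), (nat_lit 1)], (nat_lit 3), (nat_lit 1), (nat_lit 0), (nat_lit 4)⟩) (BT.leaf ⟨[(nat_lit 4), (nat_lit 6), (nat_lit 4), (nat_lit 6), (nat_lit 4), (nat_lit 6), (nat_lit 4), (nat_lit 6), (nat_lit 4), (nat_lit 6), (nat_lit 4), (nat_lit 6)], (nat_lit 77), (nat_lit 0), (nat_lit 0), (nat_lit 4)⟩))) (BT.node (nat_lit 79) (BT.leaf ⟨[(nat_lit 4), (nat_lit 3), (nat_lit 4), (nat_lit 3)], (nat_lit 105), (nat_lit 0), (nat_lit 0), (nat_lit 4)⟩) (BT.node (nat_lit 80) (BT.leaf ⟨[(nat_lit 8), (nat_lit 9), (nat_lit 8), (nat_lit 9)], (nat_lit 10), (nat_lit 0), (nat_lit 0), (nat_lit 4)⟩) (BT.leaf ⟨[(nat_lit 0), (nat_lit 4), (nat_lit 3), (nat_lit 4), (nat_lit 3)], (nat_lit 105), (nat_lit 0), (nat_lit 1), (nat_lit 4)⟩))))))))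
noncomputable def biga_hcs : List CW := [⟨[(nat_lit 1)], (nat_lit 0), (nat_lit 0), (nat_lit 0), (nat_lit 0)⟩, ⟨[(nat_lit 2)], (nat_lit 1), (nat_lit 0), (nat_lit 0), (nat_lit 0)⟩, ⟨[(nat_lit 4)], (nat_lit 2), (nat_lit 0), (nat_lit 0), (nat_lit 0)⟩, ⟨[(nat_lit 5)], (nat_lit 3), (nat_lit 0), (nat_lit 0), (nat_lit 0)⟩, ⟨[(nat_lit 8)], (nat_lit 4), (nat_lit 0), (nat_lit 0), (nat_lit 0)⟩, ⟨[(nat_lit 9)], (nat_lit 5), (nat_lit 0), (nat_lit 0), (nat_lit 0)⟩, ⟨[(nat_lit 1)], (nat_lit 6), (nat_lit 0), (nat_lit 0), (nat_lit 0)⟩, ⟨[(nat_lit 3)], (nat_lit 7), (nat_lit 0), (nat_lit 0), (nat_lit 0)⟩, ⟨[(nat_lit 4)], (nat_lit 8), (nat_lit 0), (nat_lit 0), (nat_lit 0)⟩, ⟨[(nat_lit 5)], (nat_lit 9), (nat_lit 0), (nat_lit 0), (nat_lit 0)⟩, ⟨[(nat_lit 8)], (nat_lit 10), (nat_lit 0), (nat_lit 0), (nat_lit 0)⟩, ⟨[(nat_lit 9)], (nat_lit 11), (nat_lit 0), (nat_lit 0), (nat_lit 0)⟩]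
noncomputable def biga_H (x j : Nat) : Bx (Nat → Nat → Nat) := mkH biga_L biga_pb.1 biga_e.get (lmap CW.w biga_hcs) (nat_lit 1) (nat_lit 2) (nat_lit 10) (nat_lit 256) (nat_lit 32768) (nat_lit 16383) x (biga_rots.get j)
noncomputable def biga_F (x b : Nat) : Bool := blkOK biga_H biga_ch (nat_lit 2) (nat_lit 256) (nat_lit 128) (nat_lit 8) (nat_lit 255) (nat_lit 21) (nat_lit 2097151) x b

theorem biga_k0_0 : allFrom (biga_F (nat_lit 0)) (nat_lit 0) (nat_lit 4) = true := by decide +kernel
theorem biga_k1_0 : allFrom (biga_F (nat_lit 1)) (nat_lit 0) (nat_lit 4) = true := by decide +kernel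
theorem biga_k2_0 : allFrom (biga_F (nat_lit 2)) (nat_lit 0) (nat_lit 4) = true := by decide +kernel
theorem biga_k3_0 : allFrom (biga_F (nat_lit 3)) (nat_lit 0) (nat_lit 4) = true := by decide +kernel
theorem biga_k4_0 : allFrom (biga_F (nat_lit 4)) (nat_lit 0) (nat_lit 4) = true := by decide +kernel
theorem biga_k5_0 : allFrom (biga_F (nat_lit 5)) (nat_lit 0) (nat_lit 4) = true := by decide +kernel
theorem biga_k6_0 : allFrom (biga_F (nat_lit 6)) (nat_lit 0) (nat_lit 4) = true := by decide +kernel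
theorem biga_k7_0 : allFrom (biga_F (nat_lit 7)) (nat_lit 0) (nat_lit 4) = true := by decide +kernel
theorem biga_k8_0 : allFrom (biga_F (nat_lit 8)) (nat_lit 0) (nat_lit 4) = true := by decide +kernel
theorem biga_k9_0 : allFrom (biga_F (nat_lit 9)) (nat_lit 0) (nat_lit 4) = true := by decide +kernel

end CF.Comp.J23Ba
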