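import Cfsg.Agent.Comp.TCDefs

set_option autoImplicit false
set_option maxRecDepth 1000000
set_option maxHeartbeats 0
set_option Elab.async false

namespace CF.Comp.J23Bb

noncomputable def bigb_c0 : BT (Bx Nat) := (BT.leaf (Bx.mk (nat_lit 0x2d5351406d48839d501e3a40f3d30742903a600000280f41507ce98383541e7a80ef930714903a300000280ee000000a839d4c1e6260d912075850379501dda40e753070e303100000000000130762a03be541da000000d0734a03a7481cea80db950746683794c1d3280f093071898379341cda60edcc06f2983bf00000260e740000000000401bda60eb930734983a9481d0280e71306f84839d241cea60e5920762903794c1bc280eb12070aa03ae481cca00e8d1072c903a34c1be000000c0734a0398000001c0e8000000000003c1cea80e5cb07165039d00000000000906d49038c301c5980e2d106f600000441be200e15206d4000000000000000000000000000000000000000000703792c1b5240de400000000003c1c2800000b0706883832c1bc8000000000000000000000000000000060379381b5000000a06d46836a00000000000000009836500000000000000000000000000000000000000000000000100cf0000000000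00000000000000000903490000000000000000000000000000000000000000000000000000000000000000000000000000000000000000000000000000000000000000000000000000000000000000000000000000000000000000000000000000000000000000000000000000000000000383200000000000000000000000000000000000000000000000000000000000000000000000000000000000000000000000000000000000000000000000000303200000000000000000283100000000000000000000000000000000000000000000000000000000000000000000000000000000203070000000000000000000000000000000000000000000c182000000000001030204181020c040000000000)))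
noncomputable def bigb_c1 : BT (Bx Nat) := (BT.leaf (Bx.mk (nat_lit 0x3e67a40000139ee10000000000201d9cf19b800000000002073e4000009c76a36b7936334a0000078ce280000000000c98b20000000000221d95019c000000487b63633380000000000000002a1357319e70000000000000000000007ccdf3e67b61135c000008c4dbc267763133e000007cc5eca3a99f4dc6000000000000000251d410addc0000040b73de338f38eb3000006c661c00000fadec88ce5c462d000001099b698cde000003632f948ea300000406737632f348e9da4cea80000000001b81e800000000003703ca00000a0cd800000000001219c188ce4ec65b283359b81d9000006c65ab703a3198838cc424a622a5311600000000004e79f80000128976000006e0710000000000090ccac8665a91cef48e74dc0dd000003703731199788ccc0000000000000000000004c664800001b81b1000003c65b77035bb81a9a0cc48000000000141988000004c39fc0000000000dc0d26e0685f5af5b819e90cb2ee066800000000000000000000251cd7009600000000000000000f9964000000000028328339e4e000004e79500000159e4aacf1fd6391e932793195ab5326d67902b3c9358e3dac4a34c6572c32a600000a132dd465600000109937a8cab54653c000016a63ab5c9c800002972bb51952a8cabc878d2a32a152d5500000586512c328750935896a4000002932711993ea4c16d260c68326568e26acc90de78aa8326768e22b4492dc64bab303d5981f000005864c2c325779e20000005864b2c5a5f71924000005464a4000000000000000626060000018191a000005e243af4c1a00000000006260400000181912c8707dc645ae322a00000c4705e2241f13c0d98e08000006064273300991905d4701ea240b7060200000)))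
noncomputable def bigb_c2 : BT (Bx Nat) := (BT.leaf (Bx.mk (nat_lit 0x2cef8000000000000000000000000000000009e969503ecc00001440b10000040ab2a28192000009ddee00000000000c96cd000000000000000000000000000000000000000000d844d8000000000188f9d00000513eab18134000000000000000000000000000000000000000000e9698000000000026778124095000000000000000000000000004a2308000000000099ddc45025c0000000000000004a5a1f32d0600000a47d7d2eeb80000000000000006023a40000000000000006e07ac000015167cccb3c523e829773f4c09e0000050234c0000000000000000000029114600000dc0eb52228732cd5088b9a445a000000000000000000000000000000000000000000505a2c0000000000000004e22300000000000a0b420000024116a000009c44280000000000000009dda8d88d90000015967998453800003211514887b0000000000000001a8f47c843ad2ed2752c8a00000acb365422640000000000000005621bb5847c00000000005aecfde552800000d841b8000000000000000000000000000000000000c5d9a8000000000000000000005301600000000000d84174c2204000014c052d043f80000361055a084db1d9c5621d2a108c00000b04256821c800001b0824d04220000000000000000b919e000002c1081a0866000006c20800000000000dc0b158210ac1082000000000066587ac2c5200000000000000000000000000000006e05300000000000b8b0fdc3c9800001b8143000005c3c8800001b8139c8419dc208f51e1e00000000000000000000000000b550d80000000000000000000060584b1461d81610bc409e820736100c00000000000000037022988f08c4403ee04300000199604d4781e8200b7060200000)))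
noncomputable def bigb_c3 : BT (Bx Nat) := (BT.leaf (Bx.mk (nat_lit 0x501f3400000000009526180000000000000000000062e2bf10f5d8bead000000000000000000000000000000000000000000000000000000000000000000000000000000000000000006c426c000014b8a3a43d10000000000000000000000000000000000000000000000000000000000000000000000000000000000004c1ef800001290c50000000000000000000000000040fad227d31290bb000000000025590b52c97000000000000000000000a0859800000000000000000000000000000019ac799d63d8000000000000000a9c4e800002a7d35410a6a0852d04293021a800000dc0eb800002b58dce10c88485d0000023218800000000000000000000000000000000000000000142c8a9c8470000000000000000000000000028590739087c885a800002770a5aac4ed43a780000000001490a8a963c000002a20f9910a70000000000338ce76384a000006a1d18000015a4610000058b1a8000015106f000006442640000000000d561dea1cf0000015907ed50316c40dc00000000000000000000310e70000000000000000000000000000000000000297cae0000000000000002620fe00000a5f2880000354099b102a000005a911e820e400000d083a56e92400001aa043d88125ae0dad0e6b6a43db0833000000000016903f000006a80e7620415904bdc0b180000000001b815fcd60f8000000000000000000006e054c0000000000000006e0536b2062000000000000000000001b8144bd60f00000000001b813ab4813e440c800001a870e0000000000000000000000000000000000001b1009c1207de40480000179010d080ee0404754019b1006000000000037022a00000c8383ee04340000191004d0801ea1c0b6080200000)))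
noncomputable def bigb_c4 : BT (Bx Nat) := (BT.leaf (Bx.mk (nat_lit 0x2ec6ec00001b14a3000006c52898296e000000000000000000000000000000000000000000cd3f2000000000000000000000766e0800001a293a000000000034beb0000000000000000000000000000000000000373ac9c299e00000000003652bb629100000058a710000000000000000657ee80000000001b147e0000034530800000000000000038befb560f4000000000000000000001b1474d8a390000000000000000dc0f06e07780000000000000006ac1b5b5f9a00000000006ac1af628cdb1465d8a326c5187628c1b81c878a3bee071c0000000000000000000000000000000d8a2b6c515400001b81bdd8a29000003628a3b1450d8a27c126477036c00000dc0daee06d000001b144ad8a248000036288fb14467d8c980000000001b81a8000006e069c0000000000d8a206c50ff4293db143d000006c50f00000000000d8a1d6e066770331b8197000000000037032db81950000000000000000000000000000000000001b818edc0c66e062f70315b142e000006e061f7030bb8184dc0c1ec50ab7030000000000006e05f3702f600000dc0bcee05e36284800000dc0b880000000001b816fdc0b7000003702d9b816ad8a106e059c000000000000000000000000000000000000000003628375af30aca136e05536283200000a98966e053b6282e00000d8a09d8b8bc00001b8145d8a08d0c48aa604bb813bd8a07ec503b70267b8132dc098ec502f7025bb140adc094ee04a00000000000dc093ec502370247b1407dc08fee04780000000000dc08d6e046323813b8112dc08868701b62807b1402dc082ee04137060200000)))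
noncomputable def bigb_c5 : BT (Bx Nat) := (BT.leaf (Bx.mk (nat_lit 0x3d333c0000000000000000000000000000000000000000025157c00000968ea000000000000000000000000003635460000000000000000000000000000000000000000012c8ac000000000000000121ae7000006c6a64000000000074d7900000000000000000000040db28000000000000000000000000000000000000000002399820000000000486ba400000000000000000000000000000000000000000000000000000000000000000001b81f0dc0f7ee07b80000121ad8000006c69e0000000000099b6b8000000000000000dc0f0ee077c00001348a000000000003703b400000d8d35000003703a400000dc0e600000000000000000000000000216d1a00000d8d2c8000000000131a7c000000000000000000000a5a42c469de8350e00000000004629f40000000000000006c692e235053b68ca5a3700000000001b81aa8e44300000246d00000000000000000000001b1a429da37d069ec0000000000000006e066c0000000000b4d2f8000000000000000000005b11c40000000000b90b3ee06500000000000dc0c90000037031e00000d8d178000000000149a31000000000036345600000000005268b40000000000dc0bf6c689b6344a00000000000000035684e00000000006e05c000001b1a22d8d10c868a40000000000d5a118000000000000000d8d0f80000000001b1a1edc0ae6e056aa6ca9b8158dc0abec686aa6c9db8152dc0a8ec686256c7c00000000006e052b70293b1a12000006e05037027fb1a10dc09bee04d00000178a0e000006e04b800001b812a000000000000000000000d8d046e04936340fb8120000000000031421981a0ddc08dee04676340bb8113dc088ec681370213b8106cc981ea280b7060200000)))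
noncomputable def bigb_c6 : BT (Bx Nat) := (BT.leaf (Bx.mk (nat_lit 0x341bd400000d86d3bc371000000000000000000000286facb8df18c6f80000000000000000906d480000321bb6000000000000000000001b0d990000000000000001b0d98d06e86c365f41b9c00000000006c365400000000000000000000341b8d0d0e5d86c60000000000000000000006836fc0000000000d06de31438000000000000000000000000001b81f2d86be6836cc0000000000d86bce836bf703d9b0d7800000000002753b3b81e9000006c35bf41b4db81e3d86b700000000001b0d6cd06d06e077361ad5a0d9d000006e0757703a7b81cfdc0e6ee072f7039200000000000000000000000000000006e071400001b81c2dc0e06e06fb61aa800000dc0ddc90d8c00001b81b8dc0db80000000000000009e2a900000000001b81b2000000000037035db81abd86a2e835dc00001b0d44000005915280000000000dc0d2ee068800001b819fd619f6e067000000000000000000000000000000000000000000361a69a0d610000000000000001b8193000006e06400000000000000006c34b800000000009d4abd0353000001b0d2a000006e060a71aa3b817f000005add0e81ae800000d869268351f702ed5a949dc0b900000341a856b739b06b400000361a41a0d3d00000000003702cc00000dc0b26c347800001b8160dc0aeee056f702b200000000006e05540000000000000006e053c0000000000dc0a5ec344b41a4db8146dc0a0ec344341a45b813cdc09c6e04d40000000000b158a6e04bc00001b812b00000000002d523200000000006e049400001b8121d868368343c00001b811cd86828000037022db0d04d06846e043b70215b8107d8580e8340f7040400000)))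
noncomputable def bigb_c7 : BT (Bx Nat) := (BT.leaf (Bx.mk (nat_lit 0x6c76d1883c120cdf000000000000000000000960f86a33a763b50000000000067079603b89a8ce3d8ed200000000000b9dba99175800003519b9b1d9ece0ec80000263b52000000000000000000001a8cd3d8ecc80000000001a8ccfd8ecc6a333763b2e00000000006a332763b2a00000000006a331763b1cf8ce60000000000000001b1d8bd465f6c762800001a8cbbd8ec380000000001b1d84d8ec18000000000000000d46596c75f00000000000d46576c75e7703dba8cabd8ebc000002519b7b81eadc0f3ea329763adfb81e4d46516c75b800001a8c9fd8eb66e077751939b1d6adc0ec000003703a9b81d0dc0e700000370394000000000000000351921b1d5a8d134ee071800001b81c3dc0e0ee06fc0000128c57dc0de0000000000000000000006c753a718a2000000000058898eb8ee7b81b3dc0d80000037035fb81acd463b6c75140000148c49000000000000000000000dc0d36e068c00001b81a0000006e06740000168c3f000006c74e7518c9b1d3700000000003518c1b1d34000006a317763a6600000000006e064763a620000098ea9ea315763a5db8189dc0c400000287e9ba8c4fd8e95000003703034c152000005675caa3a8800000d46236c7493702efb8174b0ea56a310763a4600000b911d00000351879b1d20000006e05a000001b1d1fdc0b280000363a3db8161dc0af00000000001a8c2fd8e8d6e055800001a8c2bd8e8c6e05400000000000000006a309763a25b8147dc0a16a308763a21b813d000006e04d80000000000000006e04c2c3a2bb812cd460b6c74240000000000000006e049b1441bb8122d46076c741b7023a00000d46056c74177022fa8c07d8e826e043f70217b8108d46016c14077040600000)))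
noncomputable def bigb_c8 : BT (Bx Nat) := (BT.leaf (Bx.mk (nat_lit 0x1d95ca0000000000000001c23b800000000000000000000000000000002d2b8000000000000000000000000000a92e60000000000000000000008a565800000000000000000000000002251a000000912f780000000001092d500000384725c51940000000000364b3400000da7d194ada4e46ca75166000009c8d14ea28e7235c000009c8ce4ea27672b50000009d453389f1202542000009d45600000252b4f212c798962cc4b1800000000000000000000000001312b70000000000000001312bd9095a80000000000000009896100000214b7200000000003a56b66257d312bf00000444a60000011959a78aca800001d252e00000000000000000000000000849345255f3624af4956ea4abcd255a80000104a92a4ab7ec49440000000000a4abc000002422fc0000000000464a04000014128e000006c491e8251741283000000000000000000000d89218000000000000000a0943d04a336247a00000d891e504a2b624751118f000000000025229f2a850953a6800002722ab3a8569d3a98000000000000000000000000000000000000dc0c6cc4982624c200000000000000037030d21264909328000000000000000000006e05f40000000000dc0bd00000000001b8175dc0b98000000000000000000006c4883702dbb816b000006e05a400000000009d995000000000014b22e00000000000000017912fb89185048d00000000000000004c48dc000016951e000006244970244db81480000000000000001b813ec4a8fd848a2b22335a81ba890e60546aa243a00000b48875aa03ed4e1b6a50c000006454480000000000b090b58485c0000000000cc88564482ef2a0d99107c89045c482742a0ba1504d488168480f7060200000)))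
noncomputable def bigb_c9 : BT (Bx Nat) := (BT.leaf (Bx.mk (nat_lit 0x1a86ae9de6b0000000000104bb4000006c7e99e978ae1fc6d435280000000000b9fbb0000000000000001a869f0000000000289756000009dee94c7faf50d38000000000000000000000000008435b80000210d70000008c35f427e8230d8000000000003a1b90000000000000000000000000000000000000447f2c000000000061ef04f2ec40000000000000004a5ea000000f9fe8dc0f8800000000000000000000687fb22972e000009cfecd26e6c0000121fb6a4bccee07980000000000dc0f100000000001106ca00000492e57703b7a1fd5a0fd500000283f4ef179684fd680000233f3d31b70943414a6e3e33eee00000000004e5dbeb6b0d597859cbb6565e0c0000000000a4bbe0000000000149779a8fc50000000000149767000000000000000141f87acbb748d59283f095976a9034880000266abf3068100000561998000000000098fc7547dee66ac131f8b00000547de0000012068800000547dc8000000000000000000001f0ccb29f6d94fba80000000000000009c32c80000263eb749b40b4da8ce7cf6d0c9f59745adea2566d2ac3eaf49f47b0faad65ceeb7a755bc3900000547d4ad367f43534a83285a18f2a3ea951f53000004e19780000141f58b0fa4ccd4de80cad61f4600000547d36a3e9800000000000000000000139f4800000000002d2e4f49f22bc315da6c92d2e4759f26b8f97da6c82d2e3f6971eb0f98d818b2f0c4361f2eb0f96d418c2e3e4b61f2ab0f94d87ca00000000000bcd89de5c4af362379710000005e18380000000000b8f8ddc7c6ae3e3371f18b830bdc7c5800000000000000062181c000018060bc0f85666c1b22e0ba1704cc301ea180b7060200000)))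
noncomputable def bigb_p : BT (Bx Nat) := (BT.leaf (Bx.mk (nat_lit 0x26d069b3266c059af166b859ad1e6b469aa0a6a079a81a6a019a71e69899a50669079a41a68c99a31668c49a216688499e1e678699d26674599c0666c799b0e66c299a1a66479991a66459990666079981a65c79971a65c59961a65479951a650499212238788e1a238188c1e230688b1e22c688a1e22868881221c78871a21c18850621068831a204487f121f8487c1e1f0687c061ec78791e1e46879061e078781a1e05878061d04872121bc786f1a1bc186e1e1b8686e061b0786c1a1b0186a1e1a8686a161a8186612194486412184486012178585c1a16c585a1e168675915d60475721d5c475611d5447541dd4c775211d44875111d40474f11d38674d1dd34474c19d2c574a21d28474911d1c874711d1847451dd14674421d10774321d0c674311d08574011cfc473d21cf4473c21cf0473a21ce8773a11ce467371dcdc67370dcdc27341dcd067340dccc773319ccc573219cc85631198c0562f158b8762e198b8462e0d8b0562b158a8762a198a8462a0d8a826271989856251589086241d89066241189036240988c76231988856211588086201d88066201188036200987c661f15878761e19878561d11870451b11468751a19468551911460751819460551711458451311448751219448551111440751019440550f11438450d1d430640b1502c440a1502844091d02464090d02424081502044071501c44061d01864060d01823051cc14630514c10730418c1052031080841011c4046000000000)))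
noncomputable def bigb_e0 : BT Nat := (BT.node (nat_lit 11520) (BT.node (nat_lit 8896) (BT.node (nat_lit 3840) (BT.node (nat_lit 128) (BT.node (nat_lit 69) (BT.node (nat_lit 66) (BT.leaf (nat_lit 2)) (BT.node (nat_lit 68) (BT.leaf (nat_lit 262146)) (BT.leaf (nat_lit 524290)))) (BT.node (nat_lit 72) (BT.leaf (nat_lit 786434)) (BT.node (nat_lit 73) (BT.leaf (nat_lit 1048578)) (BT.leaf (nat_lit 1310722))))) (BT.node (nat_lit 448) (BT.node (nat_lit 192) (BT.leaf (nat_lit 47901)) (BT.node (nat_lit 256) (BT.leaf (nat_lit 47897)) (BT.leaf (nat_lit 47889)))) (BT.node (nat_lit 2048) (BT.node (nat_lit 1024) (BT.leaf (nat_lit 44573)) (BT.leaf (nat_lit 44561))) (BT.node (nat_lit 2304) (BT.leaf (nat_lit 55813)) (BT.leaf (nat_lit 44037)))))) (BT.node (nat_lit 7872) (BT.node (nat_lit 7424) (BT.node (nat_lit 6400) (BT.leaf (nat_lit 56605)) (BT.node (nat_lit 6784) (BT.leaf (nat_lit 29725)) (BT.leaf (nat_lit 56593)))) (BT.node (nat_lit 7680) (BT.leaf (nat_lit 43025)) (BT.node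 (nat_lit 7744) (BT.leaf (nat_lit 44813)) (BT.leaf (nat_lit 56849))))) (BT.node (nat_lit 8448) (BT.node (nat_lit 7936) (BT.leaf (nat_lit 48665)) (BT.node (nat_lit 8384) (BT.leaf (nat_lit 45849)) (BT.leaf (nat_lit 50717)))) (BT.node (nat_lit 8640) (BT.node (nat_lit 8512) (BT.leaf (nat_lit 46117)) (BT.leaf (nat_lit 43813))) (BT.node (nat_lit 8832) (BT.leaf (nat_lit 46601)) (BT.leaf (nat_lit 58909))))))) (BT.node (nat_lit 10432) (BT.node (nat_lit 9856) (BT.node (nat_lit 9600) (BT.node (nat_lit 8960) (BT.leaf (nat_lit 48389)) (BT.node (nat_lit 9536) (BT.leaf (nat_lit 48669)) (BT.leaf (nat_lit 51737)))) (BT.node (nat_lit 9664) (BT.leaf (nat_lit 59405)) (BT.node (nat_lit 9792) (BT.leaf (nat_lit 46093)) (BT.leaf (nat_lit 59917))))) (BT.node (nat_lit 10048) (BT.node (nat_lit 9920) (BT.leaf (nat_lit 51233)) (BT.node (nat_lit 9984) (BT.leaf (nat_lit 46113)) (BT.leaf (nat_lit 51741)))) (BT.node (nat_lit 10304) (BT.node (nat_lit 10240) (BT.leaf (nat_lit 57113)) (BT.leaf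 (nat_lit 55577))) (BT.node (nat_lit 10368) (BT.leaf (nat_lit 47393)) (BT.leaf (nat_lit 52509)))))) (BT.node (nat_lit 11072) (BT.node (nat_lit 10816) (BT.node (nat_lit 10624) (BT.leaf (nat_lit 48645)) (BT.node (nat_lit 10752) (BT.leaf (nat_lit 48677)) (BT.leaf (nat_lit 59677)))) (BT.node (nat_lit 10944) (BT.leaf (nat_lit 45829)) (BT.node (nat_lit 11008) (BT.leaf (nat_lit 45597)) (BT.leaf (nat_lit 51729))))) (BT.node (nat_lit 11264) (BT.node (nat_lit 11136) (BT.leaf (nat_lit 46085)) (BT.node (nat_lit 11200) (BT.leaf (nat_lit 51745)) (BT.leaf (nat_lit 54297)))) (BT.node (nat_lit 11392) (BT.node (nat_lit 11328) (BT.leaf (nat_lit 52485)) (BT.leaf (nat_lit 59401))) (BT.node (nat_lit 11456) (BT.leaf (nat_lit 57349)) (BT.leaf (nat_lit 59913)))))))) (BT.node (nat_lit 13376) (BT.node (nat_lit 12544) (BT.node (nat_lit 11904) (BT.node (nat_lit 11712) (BT.node (nat_lit 11584) (BT.leaf (nat_lit 54301)) (BT.node (nat_lit 11648) (BT.leaf (nat_lit 53281)) (BT.leaf (nat_lit 43045))))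 (BT.node (nat_lit 11776) (BT.leaf (nat_lit 58405)) (BT.node (nat_lit 11840) (BT.leaf (nat_lit 60421)) (BT.leaf (nat_lit 43017))))) (BT.node (nat_lit 12096) (BT.node (nat_lit 11968) (BT.leaf (nat_lit 57373)) (BT.node (nat_lit 12032) (BT.leaf (nat_lit 51749)) (BT.leaf (nat_lit 56089)))) (BT.node (nat_lit 12224) (BT.node (nat_lit 12160) (BT.leaf (nat_lit 43041)) (BT.leaf (nat_lit 54289))) (BT.node (nat_lit 12416) (BT.leaf (nat_lit 58905)) (BT.leaf (nat_lit 54281)))))) (BT.node (nat_lit 12928) (BT.node (nat_lit 12736) (BT.node (nat_lit 12608) (BT.leaf (nat_lit 47649)) (BT.node (nat_lit 12672) (BT.leaf (nat_lit 45857)) (BT.leaf (nat_lit 45601)))) (BT.node (nat_lit 12800) (BT.leaf (nat_lit 44821)) (BT.node (nat_lit 12864) (BT.leaf (nat_lit 43021)) (BT.leaf (nat_lit 52769))))) (BT.node (nat_lit 13120) (BT.node (nat_lit 12992) (BT.leaf (nat_lit 52513)) (BT.node (nat_lit 13056) (BT.leaf (nat_lit 56097)) (BT.leaf (nat_lit 61469)))) (BT.node (nat_lit 13248) (BT.node (nat_lit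 13184) (BT.leaf (nat_lit 61965)) (BT.leaf (nat_lit 52505))) (BT.node (nat_lit 13312) (BT.leaf (nat_lit 58889)) (BT.leaf (nat_lit 59161))))))) (BT.node (nat_lit 14464) (BT.node (nat_lit 13952) (BT.node (nat_lit 13632) (BT.node (nat_lit 13504) (BT.leaf (nat_lit 39173)) (BT.node (nat_lit 13568) (BT.leaf (nat_lit 61981)) (BT.leaf (nat_lit 59653)))) (BT.node (nat_lit 13824) (BT.leaf (nat_lit 47653)) (BT.node (nat_lit 13888) (BT.leaf (nat_lit 44053)) (BT.leaf (nat_lit 47621))))) (BT.node (nat_lit 14144) (BT.node (nat_lit 14016) (BT.leaf (nat_lit 51733)) (BT.node (nat_lit 14080) (BT.leaf (nat_lit 57381)) (BT.leaf (nat_lit 60705)))) (BT.node (nat_lit 14272) (BT.node (nat_lit 14208) (BT.leaf (nat_lit 51717)) (BT.leaf (nat_lit 41489))) (BT.node (nat_lit 14336) (BT.leaf (nat_lit 41493)) (BT.leaf (nat_lit 61961)))))) (BT.node (nat_lit 14976) (BT.node (nat_lit 14720) (BT.node (nat_lit 14592) (BT.leaf (nat_lit 52517)) (BT.node (nat_lit 14656) (BT.leaf (nat_lit 58885)) (BT.leaf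 (nat_lit 61729)))) (BT.node (nat_lit 14848) (BT.node (nat_lit 14784) (BT.leaf (nat_lit 57377)) (BT.leaf (nat_lit 61973))) (BT.node (nat_lit 14912) (BT.leaf (nat_lit 43013)) (BT.leaf (nat_lit 61957))))) (BT.node (nat_lit 15232) (BT.node (nat_lit 15104) (BT.leaf (nat_lit 59673)) (BT.node (nat_lit 15168) (BT.leaf (nat_lit 58917)) (BT.leaf (nat_lit 52741)))) (BT.node (nat_lit 15360) (BT.node (nat_lit 15296) (BT.leaf (nat_lit 54293)) (BT.leaf (nat_lit 54049))) (BT.node (nat_lit 15424) (BT.leaf (nat_lit 45077)) (BT.leaf (nat_lit 57369)))))))))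
noncomputable def bigb_e : BT Nat := bigb_e0
noncomputable def bigb_cols : List (BT (Bx Nat)) := [bigb_c0, bigb_c1, bigb_c2, bigb_c3, bigb_c4, bigb_c5, bigb_c6, bigb_c7, bigb_c8, bigb_c9]
noncomputable def bigb_ch (x j : Nat) : Bx Nat := chunkG bigb_cols (nat_lit 1) x j
noncomputable def bigb_L (x : Nat) : Bx (Nat → Nat) := lookG bigb_ch (nat_lit 8) (nat_lit 255) (nat_lit 21) (nat_lit 2097151) x
noncomputable def bigb_pc (_ j : Nat) : Bx Nat := bigb_p.get j
noncomputable def bigb_pb : Bx (Nat → Nat) := lookG bigb_pc (nat_lit 8) (nat_lit 255) (nat_lit 18) (nat_lit 262143) (nat_lit 0)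
noncomputable def bigb_rots : BT CW := (BT.node (nat_lit 42) (BT.node (nat_lit 21) (BT.node (nat_lit 10) (BT.node (nat_lit 5) (BT.node (nat_lit 2) (BT.node (nat_lit 1) (BT.leaf ⟨[], (nat_lit 1000000), (nat_lit 0), (nat_lit 0), (nat_lit 0)⟩) (BT.leaf ⟨[], (nat_lit 1000000), (nat_lit 0), (nat_lit 0), (nat_lit 1)⟩)) (BT.node (nat_lit 3) (BT.leaf ⟨[], (nat_lit 1000000), (nat_lit 0), (nat_lit 0), (nat_lit 2)⟩) (BT.node (nat_lit 4) (BT.leaf ⟨[(nat_lit 3), (nat_lit 2)], (nat_lit 98), (nat_lit 1), (nat_lit 0), (nat_lit 3)⟩) (BT.leaf ⟨[(nat_lit 7), (nat_lit 6)], (nat_lit 95), (nat_lit 1), (nat_lit 0), (nat_lit 3)⟩)))) (BT.node (nat_lit 7) (BT.node (nat_lit 6) (BT.leaf ⟨[(nat_lit 9), (nat_lit 7), (nat_lit 1), (nat_lit 6)], (nat_lit 26), (nat_lit 2), (nat_lit 0), (nat_lit 4)⟩) (BT.leaf ⟨[(nat_lit 3), (nat_lit 7), (nat_lit 2), (nat_lit 6)], (nat_lit 27), (nat_lit 2), (nat_lit 0), (nat_lit 4)⟩)) (BT.node (nat_lit 8) (BT.leaf ⟨[(nat_lit 2), (nat_lit 3)], (nat_lit 98), (nat_lit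 0), (nat_lit 0), (nat_lit 4)⟩) (BT.node (nat_lit 9) (BT.leaf ⟨[(nat_lit 1), (nat_lit 7), (nat_lit 9), (nat_lit 1), (nat_lit 6)], (nat_lit 29), (nat_lit 2), (nat_lit 0), (nat_lit 4)⟩) (BT.leaf ⟨[(nat_lit 5), (nat_lit 7), (nat_lit 2), (nat_lit 5), (nat_lit 3), (nat_lit 6)], (nat_lit 41), (nat_lit 4), (nat_lit 0), (nat_lit 4)⟩))))) (BT.node (nat_lit 15) (BT.node (nat_lit 12) (BT.node (nat_lit 11) (BT.leaf ⟨[(nat_lit 6), (nat_lit 7)], (nat_lit 95), (nat_lit 0), (nat_lit 0), (nat_lit 3)⟩) (BT.leaf ⟨[(nat_lit 7), (nat_lit 7), (nat_lit 7)], (nat_lit 125), (nat_lit 0), (nat_lit 0), (nat_lit 4)⟩)) (BT.node (nat_lit 13) (BT.leaf ⟨[(nat_lit 6), (nat_lit 7)], (nat_lit 95), (nat_lit 0), (nat_lit 0), (nat_lit 4)⟩) (BT.node (nat_lit 14) (BT.leaf ⟨[(nat_lit 1), (nat_lit 6), (nat_lit 9), (nat_lit 7)], (nat_lit 26), (nat_lit 0), (nat_lit 0), (nat_lit 4)⟩) (BT.leaf ⟨[(nat_lit 2), (nat_lit 6), (nat_lit 3), (nat_lit 7)], (nat_lit 27), (nat_lit 0), (nat_lit 0), (nat_lit 4)⟩)))) (BT.node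 (nat_lit 18) (BT.node (nat_lit 16) (BT.leaf ⟨[(nat_lit 3), (nat_lit 2)], (nat_lit 98), (nat_lit 1), (nat_lit 0), (nat_lit 4)⟩) (BT.node (nat_lit 17) (BT.leaf ⟨[(nat_lit 8), (nat_lit 7), (nat_lit 8), (nat_lit 7)], (nat_lit 128), (nat_lit 0), (nat_lit 0), (nat_lit 4)⟩) (BT.leaf ⟨[(nat_lit 8), (nat_lit 8)], (nat_lit 82), (nat_lit 0), (nat_lit 0), (nat_lit 4)⟩))) (BT.node (nat_lit 19) (BT.leaf ⟨[(nat_lit 5), (nat_lit 3), (nat_lit 6), (nat_lit 5), (nat_lit 7), (nat_lit 2)], (nat_lit 41), (nat_lit 1), (nat_lit 0), (nat_lit 4)⟩) (BT.node (nat_lit 20) (BT.leaf ⟨[(nat_lit 4), (nat_lit 4)], (nat_lit 78), (nat_lit 0), (nat_lit 0), (nat_lit 4)⟩) (BT.leaf ⟨[(nat_lit 8), (nat_lit 4), (nat_lit 1), (nat_lit 4)], (nat_lit 2), (nat_lit 2), (nat_lit 0), (nat_lit 4)⟩)))))) (BT.node (nat_lit 31) (BT.node (nat_lit 26) (BT.node (nat_lit 23) (BT.node (nat_lit 22) (BT.leaf ⟨[(nat_lit 2), (nat_lit 4), (nat_lit 2), (nat_lit 4)], (nat_lit 5), (nat_lit 0), (nat_lit 0), (nat_lit 4)⟩) (BT.leaf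 ⟨[(nat_lit 9), (nat_lit 4), (nat_lit 9), (nat_lit 4)], (nat_lit 8), (nat_lit 1), (nat_lit 0), (nat_lit 4)⟩)) (BT.node (nat_lit 24) (BT.leaf ⟨[(nat_lit 1), (nat_lit 4), (nat_lit 8), (nat_lit 4)], (nat_lit 2), (nat_lit 0), (nat_lit 0), (nat_lit 4)⟩) (BT.node (nat_lit 25) (BT.leaf ⟨[(nat_lit 1), (nat_lit 1)], (nat_lit 81), (nat_lit 0), (nat_lit 0), (nat_lit 4)⟩) (BT.leaf ⟨[(nat_lit 5), (nat_lit 5)], (nat_lit 79), (nat_lit 0), (nat_lit 0), (nat_lit 4)⟩)))) (BT.node (nat_lit 28) (BT.node (nat_lit 27) (BT.leaf ⟨[(nat_lit 9), (nat_lit 5), (nat_lit 9), (nat_lit 5)], (nat_lit 9), (nat_lit 1), (nat_lit 0), (nat_lit 4)⟩) (BT.leaf ⟨[(nat_lit 4), (nat_lit 5), (nat_lit 4), (nat_lit 5), (nat_lit 4), (nat_lit 5)], (nat_lit 16), (nat_lit 0), (nat_lit 0), (nat_lit 4)⟩)) (BT.node (nat_lit 29) (BT.leaf ⟨[(nat_lit 7), (nat_lit 6)], (nat_lit 95), (nat_lit 1), (nat_lit 0), (nat_lit 4)⟩) (BT.node (nat_lit 30) (BT.leaf ⟨[(nat_lit 1), (nat_lit 5), (nat_lit 1), (nat_lit 5)], (nat_lit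 3), (nat_lit 0), (nat_lit 0), (nat_lit 4)⟩) (BT.leaf ⟨[(nat_lit 9), (nat_lit 9)], (nat_lit 83), (nat_lit 0), (nat_lit 0), (nat_lit 4)⟩))))) (BT.node (nat_lit 36) (BT.node (nat_lit 33) (BT.node (nat_lit 32) (BT.leaf ⟨[(nat_lit 3), (nat_lit 3), (nat_lit 3)], (nat_lit 100), (nat_lit 0), (nat_lit 0), (nat_lit 4)⟩) (BT.leaf ⟨[(nat_lit 5), (nat_lit 3), (nat_lit 5), (nat_lit 3), (nat_lit 5), (nat_lit 3)], (nat_lit 115), (nat_lit 0), (nat_lit 0), (nat_lit 4)⟩)) (BT.node (nat_lit 34) (BT.leaf ⟨[(nat_lit 7), (nat_lit 2), (nat_lit 5), (nat_lit 3), (nat_lit 6), (nat_lit 5)], (nat_lit 41), (nat_lit 5), (nat_lit 0), (nat_lit 4)⟩) (BT.node (nat_lit 35) (BT.leaf ⟨[(nat_lit 2), (nat_lit 7), (nat_lit 5), (nat_lit 3), (nat_lit 6), (nat_lit 5)], (nat_lit 142), (nat_lit 2), (nat_lit 0), (nat_lit 4)⟩) (BT.leaf ⟨[(nat_lit 3), (nat_lit 6), (nat_lit 5), (nat_lit 7), (nat_lit 2), (nat_lit 5)], (nat_lit 41), (nat_lit 2), (nat_lit 0), (nat_lit 4)⟩)))) (BT.node (nat_lit 39) (BT.node (nat_lit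 37) (BT.leaf ⟨[(nat_lit 8), (nat_lit 3), (nat_lit 8), (nat_lit 2)], (nat_lit 6), (nat_lit 1), (nat_lit 0), (nat_lit 4)⟩) (BT.node (nat_lit 38) (BT.leaf ⟨[(nat_lit 1), (nat_lit 2), (nat_lit 1), (nat_lit 3)], (nat_lit 1), (nat_lit 0), (nat_lit 0), (nat_lit 4)⟩) (BT.leaf ⟨[(nat_lit 8), (nat_lit 2), (nat_lit 8), (nat_lit 3)], (nat_lit 6), (nat_lit 3), (nat_lit 0), (nat_lit 4)⟩))) (BT.node (nat_lit 40) (BT.leaf ⟨[(nat_lit 8), (nat_lit 6), (nat_lit 8), (nat_lit 6)], (nat_lit 28), (nat_lit 1), (nat_lit 0), (nat_lit 4)⟩) (BT.node (nat_lit 41) (BT.leaf ⟨[(nat_lit 6), (nat_lit 9), (nat_lit 7), (nat_lit 1)], (nat_lit 26), (nat_lit 1), (nat_lit 0), (nat_lit 4)⟩) (BT.leaf ⟨[(nat_lit 2), (nat_lit 9), (nat_lit 3), (nat_lit 9)], (nat_lit 7), (nat_lit 0), (nat_lit 0), (nat_lit 4)⟩))))))) (BT.node (nat_lit 63) (BT.node (nat_lit 52) (BT.node (nat_lit 47) (BT.node (nat_lit 44) (BT.node (nat_lit 43) (BT.leaf ⟨[(nat_lit 6), (nat_lit 3), (nat_lit 7), (nat_lit 2)], (nat_lit 27), (nat_lit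 1), (nat_lit 0), (nat_lit 4)⟩) (BT.leaf ⟨[(nat_lit 3), (nat_lit 4), (nat_lit 3), (nat_lit 4)], (nat_lit 105), (nat_lit 1), (nat_lit 0), (nat_lit 4)⟩)) (BT.node (nat_lit 45) (BT.leaf ⟨[(nat_lit 1), (nat_lit 9), (nat_lit 1), (nat_lit 9)], (nat_lit 4), (nat_lit 0), (nat_lit 0), (nat_lit 4)⟩) (BT.node (nat_lit 46) (BT.leaf ⟨[(nat_lit 4), (nat_lit 7), (nat_lit 1), (nat_lit 4), (nat_lit 7), (nat_lit 1), (nat_lit 4), (nat_lit 7), (nat_lit 1), (nat_lit 4), (nat_lit 7), (nat_lit 1), (nat_lit 4), (nat_lit 7), (nat_lit 1), (nat_lit 4), (nat_lit 7), (nat_lit 1)], (nat_lit 177), (nat_lit 2), (nat_lit 0), (nat_lit 4)⟩) (BT.leaf ⟨[(nat_lit 4), (nat_lit 1), (nat_lit 4), (nat_lit 8)], (nat_lit 2), (nat_lit 3), (nat_lit 0), (nat_lit 4)⟩)))) (BT.node (nat_lit 49) (BT.node (nat_lit 48) (BT.leaf ⟨[(nat_lit 4), (nat_lit 8), (nat_lit 4), (nat_lit 1)], (nat_lit 2), (nat_lit 1), (nat_lit 0), (nat_lit 4)⟩) (BT.leaf ⟨[(nat_lit 4), (nat_lit 9), (nat_lit 4), (nat_lit 9)], (nat_lit 8), (nat_lit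 0), (nat_lit 0), (nat_lit 4)⟩)) (BT.node (nat_lit 50) (BT.leaf ⟨[(nat_lit 8), (nat_lit 5), (nat_lit 4), (nat_lit 5), (nat_lit 8), (nat_lit 5), (nat_lit 4), (nat_lit 5)], (nat_lit 24), (nat_lit 2), (nat_lit 0), (nat_lit 4)⟩) (BT.node (nat_lit 51) (BT.leaf ⟨[(nat_lit 8), (nat_lit 1), (nat_lit 8), (nat_lit 5), (nat_lit 8), (nat_lit 1), (nat_lit 8), (nat_lit 5)], (nat_lit 23), (nat_lit 3), (nat_lit 0), (nat_lit 4)⟩) (BT.leaf ⟨[(nat_lit 5), (nat_lit 4), (nat_lit 5), (nat_lit 4), (nat_lit 5), (nat_lit 4)], (nat_lit 16), (nat_lit 1), (nat_lit 0), (nat_lit 4)⟩))))) (BT.node (nat_lit 57) (BT.node (nat_lit 54) (BT.node (nat_lit 53) (BT.leaf ⟨[(nat_lit 9), (nat_lit 8), (nat_lit 9), (nat_lit 8)], (nat_lit 10), (nat_lit 1), (nat_lit 0), (nat_lit 4)⟩) (BT.leaf ⟨[(nat_lit 5), (nat_lit 9), (nat_lit 5), (nat_lit 9)], (nat_lit 9), (nat_lit 0), (nat_lit 0), (nat_lit 4)⟩)) (BT.node (nat_lit 55) (BT.leaf ⟨[(nat_lit 6), (nat_lit 3), (nat_lit 5), (nat_lit 7), (nat_lit 2), (nat_lit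 5)], (nat_lit 42), (nat_lit 2), (nat_lit 0), (nat_lit 4)⟩) (BT.node (nat_lit 56) (BT.leaf ⟨[(nat_lit 3), (nat_lit 6), (nat_lit 2), (nat_lit 7)], (nat_lit 127), (nat_lit 3), (nat_lit 0), (nat_lit 4)⟩) (BT.leaf ⟨[(nat_lit 1), (nat_lit 3), (nat_lit 1), (nat_lit 2)], (nat_lit 1), (nat_lit 2), (nat_lit 0), (nat_lit 4)⟩)))) (BT.node (nat_lit 60) (BT.node (nat_lit 58) (BT.leaf ⟨[(nat_lit 3), (nat_lit 9), (nat_lit 2), (nat_lit 9)], (nat_lit 7), (nat_lit 2), (nat_lit 0), (nat_lit 4)⟩) (BT.node (nat_lit 59) (BT.leaf ⟨[(nat_lit 2), (nat_lit 7), (nat_lit 3), (nat_lit 6)], (nat_lit 127), (nat_lit 1), (nat_lit 0), (nat_lit 4)⟩) (BT.leaf ⟨[(nat_lit 9), (nat_lit 3), (nat_lit 9), (nat_lit 2)], (nat_lit 7), (nat_lit 1), (nat_lit 0), (nat_lit 4)⟩))) (BT.node (nat_lit 61) (BT.leaf ⟨[(nat_lit 9), (nat_lit 2), (nat_lit 9), (nat_lit 3)], (nat_lit 7), (nat_lit 3), (nat_lit 0), (nat_lit 4)⟩) (BT.node (nat_lit 62) (BT.leaf ⟨[(nat_lit 3), (nat_lit 1), (nat_lit 2), (nat_lit 1)], (nat_lit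 1), (nat_lit 3), (nat_lit 0), (nat_lit 4)⟩) (BT.leaf ⟨[(nat_lit 7), (nat_lit 2), (nat_lit 6), (nat_lit 3)], (nat_lit 27), (nat_lit 3), (nat_lit 0), (nat_lit 4)⟩)))))) (BT.node (nat_lit 73) (BT.node (nat_lit 68) (BT.node (nat_lit 65) (BT.node (nat_lit 64) (BT.leaf ⟨[(nat_lit 2), (nat_lit 1), (nat_lit 3), (nat_lit 1)], (nat_lit 1), (nat_lit 1), (nat_lit 0), (nat_lit 4)⟩) (BT.leaf ⟨[(nat_lit 7), (nat_lit 1), (nat_lit 6), (nat_lit 9)], (nat_lit 26), (nat_lit 3), (nat_lit 0), (nat_lit 4)⟩)) (BT.node (nat_lit 66) (BT.leaf ⟨[(nat_lit 2), (nat_lit 8), (nat_lit 3), (nat_lit 8)], (nat_lit 6), (nat_lit 0), (nat_lit 0), (nat_lit 4)⟩) (BT.node (nat_lit 67) (BT.leaf ⟨[(nat_lit 6), (nat_lit 8), (nat_lit 6), (nat_lit 8)], (nat_lit 28), (nat_lit 0), (nat_lit 0), (nat_lit 4)⟩) (BT.leaf ⟨[(nat_lit 5), (nat_lit 2), (nat_lit 5), (nat_lit 2), (nat_lit 5), (nat_lit 2)], (nat_lit 15), (nat_lit 1), (nat_lit 0), (nat_lit 4)⟩)))) (BT.node (nat_lit 70) (BT.node (nat_lit 69) (BT.leaf ⟨[(nat_lit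 6), (nat_lit 6), (nat_lit 6)], (nat_lit 25), (nat_lit 0), (nat_lit 0), (nat_lit 4)⟩) (BT.leaf ⟨[(nat_lit 3), (nat_lit 8), (nat_lit 2), (nat_lit 8)], (nat_lit 6), (nat_lit 2), (nat_lit 0), (nat_lit 4)⟩)) (BT.node (nat_lit 71) (BT.leaf ⟨[(nat_lit 7), (nat_lit 8), (nat_lit 7), (nat_lit 8)], (nat_lit 128), (nat_lit 1), (nat_lit 0), (nat_lit 4)⟩) (BT.node (nat_lit 72) (BT.leaf ⟨[(nat_lit 5), (nat_lit 6), (nat_lit 3), (nat_lit 5), (nat_lit 2), (nat_lit 7)], (nat_lit 43), (nat_lit 2), (nat_lit 0), (nat_lit 4)⟩) (BT.leaf ⟨[(nat_lit 4), (nat_lit 5), (nat_lit 8), (nat_lit 5), (nat_lit 4), (nat_lit 5), (nat_lit 8), (nat_lit 5)], (nat_lit 24), (nat_lit 0), (nat_lit 0), (nat_lit 4)⟩))))) (BT.node (nat_lit 78) (BT.node (nat_lit 75) (BT.node (nat_lit 74) (BT.leaf ⟨[(nat_lit 8), (nat_lit 9), (nat_lit 8), (nat_lit 9)], (nat_lit 10), (nat_lit 0), (nat_lit 0), (nat_lit 4)⟩) (BT.leaf ⟨[(nat_lit 9), (nat_lit 1), (nat_lit 9), (nat_lit 1)], (nat_lit 4), (nat_lit 1), (nat_lit 0), (nat_lit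 4)⟩)) (BT.node (nat_lit 76) (BT.leaf ⟨[(nat_lit 5), (nat_lit 1), (nat_lit 5), (nat_lit 1)], (nat_lit 3), (nat_lit 1), (nat_lit 0), (nat_lit 4)⟩) (BT.node (nat_lit 77) (BT.leaf ⟨[(nat_lit 4), (nat_lit 1), (nat_lit 6), (nat_lit 4), (nat_lit 1), (nat_lit 6), (nat_lit 4), (nat_lit 1), (nat_lit 6), (nat_lit 4), (nat_lit 1), (nat_lit 6), (nat_lit 4), (nat_lit 1), (nat_lit 6), (nat_lit 4), (nat_lit 1), (nat_lit 6)], (nat_lit 77), (nat_lit 0), (nat_lit 0), (nat_lit 4)⟩) (BT.leaf ⟨[(nat_lit 4), (nat_lit 2), (nat_lit 4), (nat_lit 2)], (nat_lit 5), (nat_lit 1), (nat_lit 0), (nat_lit 4)⟩)))) (BT.node (nat_lit 81) (BT.node (nat_lit 79) (BT.leaf ⟨[(nat_lit 2), (nat_lit 5), (nat_lit 2), (nat_lit 5), (nat_lit 2), (nat_lit 5)], (nat_lit 15), (nat_lit 0), (nat_lit 0), (nat_lit 4)⟩) (BT.node (nat_lit 80) (BT.leaf ⟨[(nat_lit 6), (nat_lit 2), (nat_lit 7), (nat_lit 3)], (nat_lit 127), (nat_lit 0), (nat_lit 0), (nat_lit 4)⟩) (BT.leaf ⟨[(nat_lit 5), (nat_lit 3), (nat_lit 6), (nat_lit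 5), (nat_lit 2), (nat_lit 7)], (nat_lit 142), (nat_lit 4), (nat_lit 0), (nat_lit 4)⟩))) (BT.node (nat_lit 82) (BT.leaf ⟨[(nat_lit 2), (nat_lit 2), (nat_lit 2)], (nat_lit 0), (nat_lit 0), (nat_lit 0), (nat_lit 4)⟩) (BT.node (nat_lit 83) (BT.leaf ⟨[(nat_lit 4), (nat_lit 3), (nat_lit 4), (nat_lit 3)], (nat_lit 105), (nat_lit 0), (nat_lit 0), (nat_lit 4)⟩) (BT.leaf ⟨[(nat_lit 0), (nat_lit 4), (nat_lit 5), (nat_lit 4), (nat_lit 5), (nat_lit 4), (nat_lit 5)], (nat_lit 16), (nat_lit 0), (nat_lit 1), (nat_lit 4)⟩))))))))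
noncomputable def bigb_hcs : List CW := [⟨[(nat_lit 1)], (nat_lit 0), (nat_lit 0), (nat_lit 0), (nat_lit 0)⟩, ⟨[(nat_lit 2)], (nat_lit 1), (nat_lit 0), (nat_lit 0), (nat_lit 0)⟩, ⟨[(nat_lit 4)], (nat_lit 2), (nat_lit 0), (nat_lit 0), (nat_lit 0)⟩, ⟨[(nat_lit 5)], (nat_lit 3), (nat_lit 0), (nat_lit 0), (nat_lit 0)⟩, ⟨[(nat_lit 8)], (nat_lit 4), (nat_lit 0), (nat_lit 0), (nat_lit 0)⟩, ⟨[(nat_lit 9)], (nat_lit 5), (nat_lit 0), (nat_lit 0), (nat_lit 0)⟩, ⟨[(nat_lit 1)], (nat_lit 6), (nat_lit 0), (nat_lit 0), (nat_lit 0)⟩, ⟨[(nat_lit 3)], (nat_lit 7), (nat_lit 0), (nat_lit 0), (nat_lit 0)⟩, ⟨[(nat_lit 4)], (nat_lit 8), (nat_lit 0), (nat_lit 0), (nat_lit 0)⟩, ⟨[(nat_lit 5)], (nat_lit 9), (nat_lit 0), (nat_lit 0), (nat_lit 0)⟩, ⟨[(nat_lit 8)], (nat_lit 10), (nat_lit 0), (nat_lit 0), (nat_lit 0)⟩, ⟨[(nat_lit 9)], (nat_lit 11), (nat_lit 0), (nat_lit 0), (nat_lit 0)⟩]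
noncomputable def bigb_H (x j : Nat) : Bx (Nat → Nat → Nat) := mkH bigb_L bigb_pb.1 bigb_e.get (lmap CW.w bigb_hcs) (nat_lit 1) (nat_lit 2) (nat_lit 10) (nat_lit 256) (nat_lit 32768) (nat_lit 16383) x (bigb_rots.get j)
noncomputable def bigb_F (x b : Nat) : Bool := blkOK bigb_H bigb_ch (nat_lit 2) (nat_lit 256) (nat_lit 128) (nat_lit 8) (nat_lit 255) (nat_lit 21) (nat_lit 2097151) x b

theorem bigb_k0_0 : allFrom (bigb_F (nat_lit 0)) (nat_lit 0) (nat_lit 4) = true := by decide +kernel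
theorem bigb_k1_0 : allFrom (bigb_F (nat_lit 1)) (nat_lit 0) (nat_lit 4) = true := by decide +kernel
theorem bigb_k2_0 : allFrom (bigb_F (nat_lit 2)) (nat_lit 0) (nat_lit 4) = true := by decide +kernel
theorem bigb_k3_0 : allFrom (bigb_F (nat_lit 3)) (nat_lit 0) (nat_lit 4) = true := by decide +kernel
theorem bigb_k4_0 : allFrom (bigb_F (nat_lit 4)) (nat_lit 0) (nat_lit 4) = true := by decide +kernel
theorem bigb_k5_0 : allFrom (bigb_F (nat_lit 5)) (nat_lit 0) (nat_lit 4) = true := by decide +kernel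
theorem bigb_k6_0 : allFrom (bigb_F (nat_lit 6)) (nat_lit 0) (nat_lit 4) = true := by decide +kernel
theorem bigb_k7_0 : allFrom (bigb_F (nat_lit 7)) (nat_lit 0) (nat_lit 4) = true := by decide +kernel
theorem bigb_k8_0 : allFrom (bigb_F (nat_lit 8)) (nat_lit 0) (nat_lit 4) = true := by decide +kernel
theorem bigb_k9_0 : allFrom (bigb_F (nat_lit 9)) (nat_lit 0) (nat_lit 4) = true := by decide +kernel

end CF.Comp.J23Bb
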