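import Cfsg.Agent.J23.J3D
import Cfsg.Agent.Spec.Cen
import Cfsg.Agent.Comp.J3.Model

set_option autoImplicit false
set_option maxRecDepth 1000000
set_option maxHeartbeats 0
set_option Elab.async false

namespace CF.J23.J3X

open CF.Comp CF.Bt CF.Spec CF.Comp.J3 CF.Schur.Pc

theorem c17 : stdS N 6156 13 C [y17] [y17] [] [] T17F T17K T17 17 = true := by decide +kernel
theorem o17 : (Bool.rec (idW N 6156 13 (wpow y17 17)) false (sameW N 6156 13 y17 []) : Bool) = true := by decide +kernel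
theorem c19 : stdS N 6156 13 C [y19] [y19] [] [] T19F T19K T19 19 = true := by decide +kernel
theorem o19 : (Bool.rec (idW N 6156 13 (wpow y19 19)) false (sameW N 6156 13 y19 []) : Bool) = true := by decide +kernel
theorem e_0_all : CF.Comp.Cov e_0_F 4 5 0 := by
  have h := CF.Comp.Cov.zero e_0_F 4
  have h := h.blk (b := 4) e_0_k0_0 rfl
  have h := h.next (y := 1) rfl rfl
  have h := h.blk (b := 4) e_0_k1_0 rfl
  have h := h.next (y := 2) rfl rfl
  have h := h.blk (b := 4) e_0_k2_0 rfl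
  have h := h.next (y := 3) rfl rfl
  have h := h.blk (b := 4) e_0_k3_0 rfl
  have h := h.next (y := 4) rfl rfl
  have h := h.blk (b := 4) e_0_k4_0 rfl
  have h := h.next (y := 5) rfl rfl
  exact h

theorem e_0 : Enum R_0 [] (gensW 2) 15 :=
  ⟨e_0_cols, e_0_ch, e_0_L, e_0_H, e_0_pb.1, e_0_e.get, [(nat_lit 0), (nat_lit 1), (nat_lit 2), (nat_lit 3), (nat_lit 4)], (nat_lit 0), (nat_lit 4), e_0_rots, e_0_hcs,
    (nat_lit 16), (nat_lit 5), (nat_lit 16), (nat_lit 32), (nat_lit 512), (nat_lit 1023), (nat_lit 8), (nat_lit 255), (nat_lit 12), (nat_lit 4095), (nat_lit 1), (nat_lit 4),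
    fun _ _ => rfl, fun _ => rfl, fun _ _ => rfl, by decide +kernel, e_0_all.1⟩

theorem e_1_all : CF.Comp.Cov e_1_F 4 6 0 := by
  have h := CF.Comp.Cov.zero e_1_F 4
  have h := h.blk (b := 4) e_1_k0_0 rfl
  have h := h.next (y := 1) rfl rfl
  have h := h.blk (b := 4) e_1_k1_0 rfl
  have h := h.next (y := 2) rfl rfl
  have h := h.blk (b := 4) e_1_k2_0 rfl
  have h := h.next (y := 3) rfl rfl
  have h := h.blk (b := 4) e_1_k3_0 rfl
  have h := h.next (y := 4) rfl rfl
  have h := h.blk (b := 4) e_1_k4_0 rfl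
  have h := h.next (y := 5) rfl rfl
  have h := h.blk (b := 4) e_1_k5_0 rfl
  have h := h.next (y := 6) rfl rfl
  exact h

theorem e_1 : Enum R_1 (gensW 2) (gensW 3) 16 :=
  ⟨e_1_cols, e_1_ch, e_1_L, e_1_H, e_1_pb.1, e_1_e.get, [(nat_lit 0), (nat_lit 1), (nat_lit 2), (nat_lit 3), (nat_lit 4), (nat_lit 5)], (nat_lit 4), (nat_lit 4), e_1_rots, e_1_hcs,
    (nat_lit 17), (nat_lit 6), (nat_lit 32), (nat_lit 32), (nat_lit 1024), (nat_lit 2047), (nat_lit 8), (nat_lit 255), (nat_lit 14), (nat_lit 16383), (nat_lit 1), (nat_lit 4),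
    fun _ _ => rfl, fun _ => rfl, fun _ _ => rfl, by decide +kernel, e_1_all.1⟩

theorem e_2_all : CF.Comp.Cov e_2_F 4 7 0 := by
  have h := CF.Comp.Cov.zero e_2_F 4
  have h := h.blk (b := 4) e_2_k0_0 rfl
  have h := h.next (y := 1) rfl rfl
  have h := h.blk (b := 4) e_2_k1_0 rfl
  have h := h.next (y := 2) rfl rfl
  have h := h.blk (b := 4) e_2_k2_0 rfl
  have h := h.next (y := 3) rfl rfl
  have h := h.blk (b := 4) e_2_k3_0 rfl
  have h := h.next (y := 4) rfl rfl
  have h := h.blk (b := 4) e_2_k4_0 rfl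
  have h := h.next (y := 5) rfl rfl
  have h := h.blk (b := 4) e_2_k5_0 rfl
  have h := h.next (y := 6) rfl rfl
  have h := h.blk (b := 4) e_2_k6_0 rfl
  have h := h.next (y := 7) rfl rfl
  exact h

theorem e_2 : Enum srels (gensW 3) (gensW 4) 17 :=
  ⟨e_2_cols, e_2_ch, e_2_L, e_2_H, e_2_pb.1, e_2_e.get, [(nat_lit 0), (nat_lit 1), (nat_lit 2), (nat_lit 3), (nat_lit 4), (nat_lit 5), (nat_lit 7)], (nat_lit 12), (nat_lit 4), e_2_rots, e_2_hcs,
    (nat_lit 18), (nat_lit 7), (nat_lit 32), (nat_lit 32), (nat_lit 1024), (nat_lit 2047), (nat_lit 8), (nat_lit 255), (nat_lit 14), (nat_lit 16383), (nat_lit 1), (nat_lit 4),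
    fun _ _ => rfl, fun _ => rfl, fun _ _ => rfl, by decide +kernel, e_2_all.1⟩

theorem sbnd {K : Type*} [Group K] {g : ℕ → K} (hr : ∀ r ∈ srels, ev g r = 1) : Bound g (gensW 4) 4080 :=
  (e_2.bound (rels_sub hr (by decide +kernel))
    (e_1.bound (rels_sub hr (by decide +kernel))
    (e_0.bound (rels_sub hr (by decide +kernel))
    (bound_nil _))))

theorem okS : (Bool.rec false (Nat.ble 4080 (chainProd SN 17 SC)) (chainOK SN 17 SC) : Bool) = true := by decide +kernel
theorem lab : LabOK 17 5 (repl 17 5) (full 16) := labOK_spec (by decide +kernel)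
theorem linU_a : linAll T16 17 2 UV UA SN UCs 4 = true := by decide +kernel
theorem linU : LinOK T16 17 2 4 UV UA SN :=
  ⟨⟨Uσ, by decide +kernel⟩, by decide +kernel, by decide +kernel, rfl,
    UCs, by decide +kernel, rfl, linAll_iff.1 linU_a⟩
theorem memU : allFrom (slAt T16 2 UA UD) 0 4 = true := by decide +kernel
theorem fld : FldOK 16 4 (nat_lit 0x123456789abcdef1032547698badcfe23016745ab89efcd32107654ba98fedc45670123cdef89ab54761032dcfe98ba67452301efcdab8976543210fedcba9889abcdef0123456798badcfe10325476ab89efcd23016745ba98fedc32107654cdef89ab45670123dcfe98ba54761032efcdab8967452301fedcba9876543210) (nat_lit 0xa5783ce1b4692df05ba48679c23d1fe07ae36bf258c149d0843fd16a2e957bc0386d92c74f1ae5b0c6b1285f394ed7a0e7f6c5d4a3b28190192a7f4cd5e6b380bc5243ad618f9e70428ef93517dbac6063c914be8d27fa509d15ae26fb73c8402147ed8b9afc5630df9b5713eca86420fedcba98765432100000000000000000) := by decide +kernel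

theorem hrel : lall (idW N 6156 13) (lmap (subst HW) srels) = true := by decide +kernel

end CF.J23.J3X
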