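import Cfsg.Agent.Comp.TCDefs
import Cfsg.Agent.Bt.Defs

set_option autoImplicit false
set_option maxRecDepth 1000000
set_option maxHeartbeats 0
set_option Elab.async false

namespace CF.J23.P2

open CF.Comp CF.Bt

noncomputable def d7 : List Nat := [(nat_lit 10), (nat_lit 7), (nat_lit 5)]
noncomputable def T7 : Tr := (.sym [[1]] (.cons [] 6 1 (.base (nat_lit 0x106a638862b324619d8103888) (.focus 0 (.op 7 0 (.focus 0 (.op 2 0 (.op 4 2 (.xor 1 0 (.focus 0 (.op 4 1 (.xor 3 0 (.focus 0 (.op 7 5 (.xor 5 0 (.focus 0 (.op 4 3 (.xor 7 0 (.focus 0 (.cons [] 0 1 (.focus 7 (.focus 5 (.focus 3 (.focus 1 (.xor 9 11 (.focus 0 (.xor 10 11 (.focus 0 (.base (nat_lit 0xe00410718c08c20a000040006) (.op 7 0 (.xor 13 0 (.focus 0 (.focus 2 (.op 4 2 (.focus 0 (.cons [] 0 1 (.focus 4 (.focus 11 (.focus 15 (.focus 12 (.cons [] 0 1 .triv .nil))))) .nil))))))))))))))))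 (.cons [1] 0 0 (.base (nat_lit 0xe00410718c08c20a000040006) (.op 4 0 (.base (nat_lit 0x2000040002000008103000) (.and 1 0 (.dead 0))))) (.cons [3, 1, 5] 0 0 (.base (nat_lit 0xe00410718c08c20a000040006) (.op 7 1 (.and 1 0 (.dead0 0)))) .nil)))))))))))))))))))) (.cons [3] 6 0 (.base (nat_lit 0x106a638862b324619d8103888) (.op 4 1 (.op 4 0 (.op 4 0 (.and 3 0 (.dead0 0)))))) (.cons [5] 6 0 (.base (nat_lit 0x106a638862b324619d8103888) (.op 4 1 (.op 4 0 (.and 2 0 (.dead0 0))))) (.cons [7] 6 0 (.base (nat_lit 0x106a638862b324619d8103888) (.op 4 1 (.op 4 0 (.op 4 0 (.and 3 0 (.dead0 0)))))) (.cons [9] 6 0 (.base (nat_lit 0x106a638862b324619d8103888) (.op 4 1 (.and 1 0 (.dead0 0)))) (.cons [8] 6 0 (.base (nat_lit 0x106a638862b324619d8103888) (.op 4 1 (.and 1 0 (.dead0 0)))) (.cons [7, 9] 6 0 (.base (nat_lit 0x106a638862b324619d8103888) (.op 4 1 (.and 1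 0 (.dead0 0)))) (.cons [8, 3] 6 0 (.base (nat_lit 0x106a638862b324619d8103888) (.op 4 1 (.op 4 0 (.and 2 0 (.dead0 0))))) (.cons [3, 7] 6 0 (.base (nat_lit 0x106a638862b324619d8103888) (.focus 0 (.op 7 0 (.focus 0 (.op 2 0 (.op 4 2 (.xor 1 0 (.focus 0 (.op 4 1 (.xor 3 0 (.focus 0 (.op 7 5 (.xor 5 0 (.focus 0 (.op 4 3 (.xor 7 0 (.focus 0 (.cons [8, 3] 0 0 (.base (nat_lit 0xe00410718c08c20a000040006) (.op 7 1 (.and 1 0 (.dead0 0)))) (.cons [2, 7, 5] 0 0 (.base (nat_lit 0xe00410718c08c20a000040006) (.op 4 0 (.base (nat_lit 0x2000040002000008103000) (.and 1 0 (.dead 0))))) (.cons [3, 5, 4, 2] 0 0 (.base (nat_lit 0xe00410718c08c20a000040006) (.op 7 0 (.base (nat_lit 0x2000040002000008103000) (.op 4 0 (.and 2 0 (.dead0 0)))))) .nil)))))))))))))))))))) (.cons [3, 8] 6 0 (.base (nat_lit 0x106a638862b324619d8103888) (.op 4 1 (.and 1 0 (.dead0 0)))) (.cons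 [5, 7, 9] 6 0 (.base (nat_lit 0x106a638862b324619d8103888) (.op 4 1 (.and 1 0 (.dead0 0)))) (.cons [5, 8, 3] 6 0 (.base (nat_lit 0x106a638862b324619d8103888) (.op 4 1 (.and 1 0 (.dead0 0)))) (.cons [5, 7, 3] 6 0 (.base (nat_lit 0x106a638862b324619d8103888) (.op 4 1 (.op 4 0 (.and 2 0 (.dead0 0))))) (.cons [1, 5, 9] 6 0 (.base (nat_lit 0x106a638862b324619d8103888) (.op 4 1 (.op 4 0 (.and 2 0 (.dead0 0))))) (.cons [7, 3, 5, 3] 0 0 (.op 5 0 (.and 1 0 (.dead0 0))) (.cons [3, 7, 3, 5, 7] 0 0 (.op 5 0 (.and 1 0 (.dead0 0))) .nil)))))))))))))))))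
noncomputable def T7K : List (List Nat) := [[5, 7, 9, 5, 7, 9, 5, 7, 9]]
noncomputable def T7F : List (List Nat) := [[], [1]]
noncomputable def pC : List Nat := [(nat_lit 7), (nat_lit 5), (nat_lit 3)]
noncomputable def T5 : Tr := (.sym [[1], [3], [5]] (.cons [] 4 2 (.base (nat_lit 0x106a638862b324619d8103888) (.focus 0 (.op 4 0 (.op 4 0 (.focus 0 (.op 2 0 (.xor 0 2 (.focus 0 (.op 7 4 (.xor 2 0 (.focus 0 (.op 4 7 (.xor 4 0 (.focus 0 (.sym [[1]] (.cons [] 0 2 (.focus 8 (.focus 4 (.xor 6 9 (.focus 0 (.xor 7 8 (.focus 0 (.xor 8 12 (.focus 0 (.op 7 3 (.focus 0 (.cons [] 0 2 (.focus 12 (.focus 10 (.focus 8 (.focus 4 (.op 7 9 (.focus 0 (.base (nat_lit 0x410808000a000040002) (.focus 0 (.sym [[1]] (.cons [] 1 1 .triv .nil)))))))))) .nil))))))))))) (.cons [5, 4] 1 0 (.base (nat_lit 0xe00410718c08c20a000040006) (.op 4 1 (.and 1 0 (.dead0 0)))) .nil)))))))))))))))))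 (.cons [3] 4 0 (.base (nat_lit 0x106a638862b324619d8103888) (.focus 0 (.op 4 0 (.op 4 0 (.focus 0 (.op 2 0 (.xor 0 2 (.focus 0 (.op 7 4 (.xor 2 0 (.focus 0 (.op 4 7 (.xor 4 0 (.focus 0 (.sym [[1]] (.cons [5, 3] 0 0 (.focus 8 (.focus 4 (.xor 6 9 (.focus 0 (.xor 7 8 (.focus 0 (.xor 8 12 (.focus 0 (.op 7 3 (.focus 0 (.cons [5, 3] 0 0 (.focus 12 (.focus 10 (.focus 8 (.focus 4 (.op 7 9 (.focus 0 (.base (nat_lit 0x410808000a000040002) (.focus 0 (.sym [[1]] (.cons [1, 3] 1 0 (.base (nat_lit 128) (.op 4 1 (.op 4 0 (.and 2 0 (.dead0 0))))) .nil)))))))))) .nil))))))))))) (.cons [5, 3, 2] 1 0 (.base (nat_lit 0xe00410718c08c20a000040006) (.op 4 1 (.and 1 0 (.dead0 0)))) .nil))))))))))))))))) (.cons [1, 5] 4 0 (.base (nat_lit 0x106a638862b324619d8103888) (.op 4 1 (.and 1 0 (.dead0 0)))) (.cons [2, 5] 4 0 (.base (nat_lit 0x106a638862b324619d8103888) (.op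 4 1 (.and 1 0 (.dead0 0)))) .nil)))))
noncomputable def T5K : List (List Nat) := [[9, 5, 9, 5, 10, 5, 9, 5, 4, 1], [10, 5, 10, 5, 10, 5, 1, 10, 5, 3, 1], [7, 5, 3]]
noncomputable def T5F : List (List Nat) := [[], [1]]
noncomputable def pA : List Nat := [(nat_lit 10), (nat_lit 5), (nat_lit 10), (nat_lit 5), (nat_lit 1), (nat_lit 10), (nat_lit 5), (nat_lit 9), (nat_lit 5), (nat_lit 3)]
noncomputable def T55 : Tr := (.sym [[1], [3]] (.cons [] 4 1 (.base (nat_lit 0x106a638862b324619d8103888) (.focus 0 (.op 2 0 (.op 10 1 (.xor 1 0 (.focus 0 (.op 13 3 (.xor 3 0 (.focus 0 (.op 4 5 (.xor 5 0 (.focus 0 (.op 10 1 (.xor 7 0 (.focus 0 (.op 4 3 (.focus 0 (.cons [] 0 1 (.focus 9 (.focus 7 (.focus 3 (.focus 4 (.xor 10 11 (.focus 0 (.cons [] 0 1 (.focus 1 (.focus 6 (.focus 10 (.focus 8 (.focus 4 (.xor 12 3 (.focus 0 (.op 7 15 (.op 7 0 (.focus 0 (.cons [] 0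 1 .triv .nil))))))))))) .nil))))))) (.cons [4, 2, 5] 0 0 (.base (nat_lit 0xe00410718c08c20a000040006) (.op 10 13 (.op 10 0 (.and 2 0 (.dead0 0))))) (.cons [4, 1, 5] 0 0 (.base (nat_lit 0xe00410718c08c20a000040006) (.op 10 1 (.and 1 0 (.dead0 0)))) .nil)))))))))))))))))))) (.cons [3] 4 0 (.base (nat_lit 0x106a638862b324619d8103888) (.op 4 0 (.op 7 1 (.and 1 0 (.op 10 3 (.and 1 0 (.dead 0))))))) (.cons [1, 5] 4 0 (.base (nat_lit 0x106a638862b324619d8103888) (.op 10 1 (.and 1 0 (.dead0 0)))) (.cons [2, 5] 4 0 (.base (nat_lit 0x106a638862b324619d8103888) (.op 10 1 (.and 1 0 (.dead0 0)))) .nil)))))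
noncomputable def T55K : List (List Nat) := [[10, 5, 9, 5, 10, 5, 1, 9, 5, 3], [7, 5, 3]]
noncomputable def T55F : List (List Nat) := [[], [1], [3]]
noncomputable def q3 : List Nat := [(nat_lit 3)]
noncomputable def u5 : List Nat := [(nat_lit 13)]
noncomputable def v5 : List Nat := [(nat_lit 7)]
noncomputable def y5 : List Nat := [(nat_lit 9), (nat_lit 5), (nat_lit 7), (nat_lit 11), (nat_lit 10), (nat_lit 7), (nat_lit 1), (nat_lit 5), (nat_lit 1), (nat_lit 10)]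
noncomputable def us5 : List (List Nat) := [[1, 1, 1, 1], [3], [1], [3, 3, 3, 3], [1, 1, 3], [1, 1, 1, 3, 3]]
noncomputable def c5 : List Lvl := [⟨0, [pA, pC], 4⟩]
noncomputable def F5 : BT Ent := (.node 433853 (.node 150189 (.node 68242 (.node 19087 (.leaf ⟨10129, [7, 9, 5, 7, 11, 1, 10, 7, 5, 10], 2⟩) (.node 59351 (.leaf ⟨19087, [10, 5, 7, 5, 10, 5, 7, 1, 5, 9], 0⟩) (.leaf ⟨59351, [13], 0⟩))) (.node 93532 (.leaf ⟨68242, [9, 1, 5, 7, 11, 10, 7, 5, 10, 1], 0⟩) (.node 95860 (.leaf ⟨93532, [9, 5, 7, 11, 1, 10, 7, 5, 10], 1⟩) (.leaf ⟨95860, [10, 5, 7, 5, 10, 5, 7, 1, 5, 9], 3⟩)))) (.node 331338 (.node 174452 (.leaf ⟨150189, [10, 5, 7, 5, 10, 5, 7, 1, 5, 9], 2⟩) (.node 258491 (.leaf ⟨174452, [9, 5, 7, 11, 1, 10, 7, 5, 10], 0⟩) (.leaf ⟨258491, [10, 5, 7, 5, 10, 5, 7, 1, 5, 9], 1⟩))) (.node 353352 (.leaf ⟨331338, [9, 5, 7, 10, 5, 7, 11, 9, 7, 11],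 1⟩) (.node 388950 (.leaf ⟨353352, [13], 1⟩) (.leaf ⟨388950, [9, 5, 7, 11, 1, 10, 7, 5, 10], 2⟩))))) (.node 720379 (.node 701736 (.node 542955 (.leaf ⟨433853, [9, 1, 5, 7, 11, 10, 7, 5, 10, 1], 1⟩) (.node 633954 (.leaf ⟨542955, [], 4⟩) (.leaf ⟨633954, [7, 9, 5, 7, 11, 1, 10, 7, 5, 10], 3⟩))) (.node 704467 (.leaf ⟨701736, [9, 5, 7, 10, 5, 7, 11, 9, 7, 11], 0⟩) (.node 710118 (.leaf ⟨704467, [], 1⟩) (.leaf ⟨710118, [9, 5, 7, 10, 5, 7, 11, 9, 7, 11], 3⟩)))) (.node 858990 (.node 749218 (.leaf ⟨720379, [], 0⟩) (.node 760646 (.leaf ⟨749218, [9, 5, 7, 10, 5, 7, 11, 9, 7, 11], 2⟩) (.leaf ⟨760646, [], 2⟩))) (.node 862390 (.node 861616 (.leaf ⟨858990, [7], 2⟩) (.leaf ⟨861616, [7], 3⟩)) (.node 874537 (.leaf ⟨862390, [], 3⟩) (.leaf ⟨874537, [9, 5, 7, 11, 1, 10, 7, 5, 10], 3⟩))))))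
noncomputable def Ts5 : List (List (List Nat)) := [[[], [4], [3], [4, 4], [3, 3], [1], [2], [2, 4], [1, 4], [1, 3], [2, 3], [2, 4, 4], [2, 3, 3], [1, 4, 4], [1, 3, 3], [1, 1], [2, 2], [1, 1, 4], [2, 4, 2], [1, 1, 3], [2, 2, 3], [2, 4, 2, 4], [2, 3, 3, 2], [1, 1, 4, 4], [1, 1, 3, 3]]]
noncomputable def T33 : Tr := (.op 5 0 (.focus 0 (.sym [[1], [3]] (.cons [] 2 3 (.op 2 0 (.xor 0 2 (.focus 0 (.base (nat_lit 0x106a638862b324619d8103888) (.focus 0 (.op 10 0 (.xor 3 0 (.focus 0 (.op 13 2 (.xor 5 0 (.focus 0 (.sym [[1]] (.cons [] 2 1 (.focus 9 (.xor 7 8 (.focus 0 (.op 10 9 (.xor 9 0 (.focus 0 (.op 13 11 (.xor 11 0 (.focus 0 (.base (nat_lit 0xe00410718c08c20a000040006) (.focus 0 (.op 10 0 (.xor 14 0 (.focus 0 (.cons [] 0 1 (.focus 18 (.focus 3 (.focus 1 (.xor 16 0 (.focus 0 (.cons [] 0 1 .triv .nil)))))) (.cons [3, 1, 4, 1] 0 0 (.base (nat_lit 0x1004000000000000000)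 (.op 8 0 (.and 1 0 (.dead0 0)))) .nil)))))))))))))))) (.cons [5] 2 0 (.base (nat_lit 0xe00410718c08c20a000040006) (.op 8 0 (.and 1 0 (.dead 0)))) (.cons [3, 5] 2 0 (.base (nat_lit 0xe00410718c08c20a000040006) (.op 8 0 (.and 1 0 (.dead0 0)))) (.cons [5, 4] 2 0 (.base (nat_lit 0xe00410718c08c20a000040006) (.op 8 0 (.and 1 0 (.dead 0)))) (.cons [5, 3, 2] 2 0 (.base (nat_lit 0xe00410718c08c20a000040006) (.op 8 0 (.and 1 0 (.dead 0)))) .nil))))))))))))))))) (.cons [3] 2 0 (.base (nat_lit 0x106a638862b324619d8103888) (.op 8 0 (.and 1 0 (.dead0 0)))) (.cons [9] 2 0 (.op 2 0 (.xor 0 2 (.focus 0 (.base (nat_lit 0x106a638862b324619d8103888) (.focus 0 (.op 10 0 (.xor 3 0 (.focus 0 (.op 13 2 (.xor 5 0 (.focus 0 (.sym [[1]] (.cons [] 2 0 (.base (nat_lit 0xe00410718c08c20a000040006) (.op 4 0 (.and 1 0 (.op 10 2 (.and 1 0 (.dead 0)))))) (.cons [5] 2 0 (.base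 (nat_lit 0xe00410718c08c20a000040006) (.op 8 0 (.and 1 0 (.dead 0)))) (.cons [3, 5] 2 0 (.base (nat_lit 0xe00410718c08c20a000040006) (.op 8 0 (.and 1 0 (.dead0 0)))) (.cons [5, 4] 2 0 (.base (nat_lit 0xe00410718c08c20a000040006) (.op 8 0 (.and 1 0 (.dead 0)))) (.cons [5, 3, 2] 2 0 (.base (nat_lit 0xe00410718c08c20a000040006) (.op 8 0 (.and 1 0 (.dead 0)))) .nil))))))))))))))))) (.cons [3, 8] 0 0 (.op 8 0 (.and 1 0 (.dead0 0))) .nil)))))))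
noncomputable def T33K : List (List Nat) := [[3], [9]]
noncomputable def T33F : List (List Nat) := [[], [1], [3]]
noncomputable def v3 : List Nat := [(nat_lit 5), (nat_lit 10), (nat_lit 5), (nat_lit 1), (nat_lit 9), (nat_lit 5), (nat_lit 9), (nat_lit 5)]
noncomputable def T3z_1 : Tr := (.cons [] 0 3 (.base (nat_lit 0x106a638862b324619d8103888) (.focus 0 (.op 2 0 (.op 4 1 (.xor 1 0 (.focus 0 (.op 7 3 (.xor 3 0 (.focus 0 (.op 10 5 (.focus 0 (.sym [[1]] (.cons [] 2 1 (.focus 4 (.focus 2 (.xor 6 7 (.focus 0 (.xor 7 2 (.focus 0 (.op 13 10 (.focus 0 (.cons [] 0 1 (.focus 3 (.focus 8 (.focus 6 (.focus 2 (.op 10 12 (.focus 0 (.cons [] 0 1 .triv .nil))))))) .nil))))))))) (.cons [5] 2 0 (.op 4 0 (.op 8 0 (.and 1 0 (.dead0 0)))) .nil)))))))))))))) (.cons [3] 0 0 (.base (nat_lit 0x106a638862b324619d8103888) (.op 5 0 (.and 1 0 (.dead0 0)))) (.cons [5] 2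 0 (.op 4 0 (.op 8 0 (.and 1 0 (.dead0 0)))) (.cons [7] 0 0 (.base (nat_lit 0x106a638862b324619d8103888) (.op 8 0 (.and 1 0 (.dead0 0)))) (.cons [9] 0 0 (.base (nat_lit 0x106a638862b324619d8103888) (.op 4 0 (.op 8 0 (.and 1 0 (.dead0 0))))) (.cons [8] 0 0 (.base (nat_lit 0x106a638862b324619d8103888) (.op 4 0 (.op 8 0 (.and 1 0 (.dead0 0))))) (.cons [7, 9] 0 0 (.base (nat_lit 0x106a638862b324619d8103888) (.op 10 0 (.op 5 0 (.and 1 0 (.dead0 0))))) (.cons [8, 3] 0 0 (.base (nat_lit 0x106a638862b324619d8103888) (.op 5 0 (.and 1 0 (.dead0 0)))) (.cons [3, 7] 0 0 (.base (nat_lit 0x106a638862b324619d8103888) (.op 8 0 (.and 1 0 (.dead0 0)))) (.cons [7, 3] 0 0 (.base (nat_lit 0x106a638862b324619d8103888) (.op 5 0 (.and 1 0 (.dead0 0)))) (.cons [5, 3] 2 0 (.op 10 0 (.op 4 0 (.op 4 2 (.op 10 0 (.and 2 0 (.dead0 0)))))) (.cons [3, 5] 2 0 (.op 10 0 (.op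 4 0 (.op 4 2 (.op 10 0 (.and 2 0 (.dead0 0)))))) (.cons [7, 5] 2 0 (.op 8 0 (.and 1 0 (.dead0 0))) (.cons [8, 5] 2 0 (.op 7 0 (.op 8 0 (.and 1 0 (.dead0 0)))) (.cons [5, 9] 2 0 (.op 10 0 (.op 4 0 (.op 4 2 (.op 10 0 (.and 2 0 (.dead0 0)))))) (.cons [3, 8] 0 0 (.op 5 0 (.and 1 0 (.dead0 0))) (.cons [15, 3] 2 0 (.op 10 0 (.op 4 0 (.op 4 2 (.op 10 0 (.and 2 0 (.dead0 0)))))) (.cons [5, 7, 9] 2 0 (.op 10 0 (.op 4 0 (.op 4 2 (.op 10 0 (.and 2 0 (.dead0 0)))))) (.cons [5, 8, 3] 2 0 (.op 10 0 (.op 4 0 (.op 4 2 (.op 10 0 (.and 2 0 (.dead0 0)))))) (.cons [9, 3, 5] 2 0 (.op 10 0 (.op 4 0 (.op 4 2 (.op 10 0 (.and 2 0 (.dead0 0)))))) (.cons [5, 3, 7] 2 0 (.op 10 0 (.op 4 0 (.op 4 2 (.op 10 0 (.and 2 0 (.dead0 0)))))) (.cons [5, 7, 3] 2 0 (.op 10 0 (.op 4 0 (.op 4 2 (.op 10 0 (.and 2 0 (.dead0 0)))))) (.cons [3, 5, 3] 2 0 (.op 10 0 (.op 4 0 (.op 4 2 (.op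 10 0 (.and 2 0 (.dead0 0)))))) (.cons [9, 5, 3] 2 0 (.op 10 0 (.op 4 0 (.op 4 2 (.op 10 0 (.and 2 0 (.dead0 0)))))) (.cons [3, 8, 5] 2 0 (.op 4 0 (.op 13 0 (.op 7 2 (.and 1 0 (.dead0 0))))) (.cons [3, 7, 5] 2 0 (.op 10 0 (.op 4 0 (.op 4 2 (.op 10 0 (.and 2 0 (.dead0 0)))))) (.cons [3, 5, 9] 2 0 (.op 4 0 (.op 10 0 (.op 7 2 (.and 1 0 (.dead0 0))))) (.cons [5, 3, 8] 2 0 (.op 13 0 (.op 5 0 (.and 1 0 (.dead0 0)))) (.cons [8, 3, 5] 2 0 (.op 10 0 (.op 4 0 (.op 4 2 (.op 10 0 (.and 2 0 (.dead0 0)))))) (.cons [3, 5, 8, 3] 2 0 (.op 10 0 (.op 4 1 (.and 1 0 (.dead0 0)))) (.cons [9, 5, 8, 3] 2 0 (.op 10 0 (.op 4 0 (.op 4 2 (.op 10 0 (.and 2 0 (.dead0 0)))))) (.cons [7, 9, 3, 5] 2 0 (.op 10 0 (.op 4 0 (.op 4 2 (.op 10 0 (.and 2 0 (.dead0 0)))))) (.cons [8, 3, 7, 5] 2 0 (.op 10 0 (.op 4 0 (.op 4 2 (.op 10 0 (.and 2 0 (.dead0 0)))))) (.cons [9, 5, 7, 3] 2 0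 (.op 10 0 (.op 4 0 (.op 4 2 (.op 10 0 (.and 2 0 (.dead0 0)))))) (.cons [5, 1, 3, 5] 2 0 (.op 10 0 (.op 5 0 (.and 1 0 (.dead0 0)))) (.cons [7, 3, 8, 5] 2 0 (.op 13 0 (.op 4 1 (.and 1 0 (.dead0 0)))) (.cons [5, 3, 7, 5] 2 0 (.op 10 0 (.op 4 0 (.op 4 2 (.op 10 0 (.and 2 0 (.dead0 0)))))) (.cons [3, 5, 3, 8] 2 0 (.op 13 0 (.op 7 1 (.and 1 0 (.dead0 0)))) (.cons [8, 3, 8, 5] 2 0 (.op 10 0 (.op 7 1 (.and 1 0 (.dead0 0)))) (.cons [5, 8, 3, 7, 5] 2 0 (.op 5 0 (.and 1 0 (.dead0 0))) .nil))))))))))))))))))))))))))))))))))))))))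
noncomputable def T3z : Tr := (.sym [[1]] T3z_1)
noncomputable def T3zK : List (List Nat) := [[3]]
noncomputable def T3zF : List (List Nat) := [[], [1], [3]]
noncomputable def y8 : List Nat := [(nat_lit 13), (nat_lit 5), (nat_lit 9), (nat_lit 5), (nat_lit 10), (nat_lit 5)]
noncomputable def us3 : List (List Nat) := [[1, 3, 1], [1, 4, 1]]
noncomputable def c3 : List Lvl := [⟨7, [[9], v3], 4⟩]
noncomputable def F3 : BT Ent := (.node 432001 (.node 273169 (.node 122430 (.node 50326 (.leaf ⟨32681, [5, 10, 5, 1, 9, 5, 9, 5], 1⟩) (.node 94137 (.leaf ⟨50326, [5, 9, 5, 10, 5, 10, 1], 1⟩) (.leaf ⟨94137, [5, 10, 5, 10, 5, 10, 5, 1], 1⟩))) (.node 238159 (.leaf ⟨122430, [5, 10, 5, 10, 5, 1, 10, 5, 1], 1⟩) (.node 258486 (.leaf ⟨238159, [13, 5, 9, 5, 10, 5, 10], 1⟩) (.leaf ⟨258486, [5], 0⟩)))) (.node 332208 (.node 285948 (.leaf ⟨273169, [5, 1, 10, 5, 9, 1],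 1⟩) (.node 294448 (.leaf ⟨285948, [5, 9, 5, 9, 5, 1, 10], 1⟩) (.leaf ⟨294448, [5, 9, 5, 9, 5, 1, 9], 1⟩))) (.node 352677 (.node 335329 (.leaf ⟨332208, [13, 5, 9, 5, 10, 5], 1⟩) (.leaf ⟨335329, [5, 9, 5, 10, 13, 5], 1⟩)) (.node 382938 (.leaf ⟨352677, [5, 10, 1, 5, 1, 10], 1⟩) (.leaf ⟨382938, [5, 10, 5, 10, 13], 1⟩))))) (.node 608569 (.node 461887 (.node 440856 (.leaf ⟨432001, [5, 10, 5, 9, 5, 1, 9, 5], 1⟩) (.node 442409 (.leaf ⟨440856, [5, 9, 5, 1, 10, 5, 10], 1⟩) (.leaf ⟨442409, [5, 9, 5, 1, 10, 5], 1⟩))) (.node 535555 (.node 483587 (.leaf ⟨461887, [5, 9, 5, 9, 5, 1], 1⟩) (.leaf ⟨483587, [5, 9, 5, 10, 13, 5, 9], 1⟩)) (.node 542955 (.leaf ⟨535555, [5, 9, 5, 1, 10, 5, 9], 1⟩) (.leaf ⟨542955, [], 2⟩)))) (.node 884737 (.node 711282 (.leaf ⟨608569, [], 1⟩) (.node 725708 (.leaf ⟨711282, [5, 10, 13, 5, 1], 1⟩) (.leaf ⟨725708, [5, 10, 5, 9, 1], 1⟩)))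 (.node 992929 (.node 916732 (.leaf ⟨884737, [13, 5, 9, 5, 10, 5, 9], 1⟩) (.leaf ⟨916732, [], 0⟩)) (.node 995817 (.leaf ⟨992929, [5, 10, 1, 5, 1], 1⟩) (.leaf ⟨995817, [11], 1⟩))))))
noncomputable def Ts3 : List (List (List Nat)) := [[[], [2], [1], [4], [3], [1, 3], [3, 2], [2, 3], [3, 1], [4, 1], [2, 4], [4, 2], [1, 4], [2, 3, 1], [1, 3, 2], [2, 4, 2], [1, 4, 1], [1, 3, 1], [2, 3, 2], [2, 4, 1], [1, 4, 2], [3, 1, 4], [3, 2, 4], [4, 1, 3], [4, 2, 3], [2, 3, 1, 4], [3, 2, 4, 1]]]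
noncomputable def Txw : Tr := (.op 5 0 (.dead 0))
noncomputable def TxwK : List (List Nat) := []
noncomputable def TxwF : List (List Nat) := [[], [1]]
noncomputable def R3 : List (List Nat) := [[1, 1, 1], [3, 3, 3], [1, 3, 2, 4, 1, 3, 2, 4, 1, 3, 2, 4], [1, 3, 2, 4, 1, 3, 1, 4, 2, 2], [1, 3, 2, 4, 3, 3, 1, 4, 2, 4]]
noncomputable def e27_c0 : BT (Bx Nat) := (BT.leaf (Bx.mk (nat_lit 0x0)))
noncomputable def e27_c1 : BT (Bx Nat) := (BT.leaf (Bx.mk (nat_lit 0xb6584b882ecab7a2e9cb9c2a6d15c2a2d13c29ed11c29ad0fc296d0dc292d0bd0d3432d0c342ed0b342ac286d03d088000)))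
noncomputable def e27_c2 : BT (Bx Nat) := (BT.leaf (Bx.mk (nat_lit 0x9566d7786d8ada126289ba253089a24b088a243087a23b086a233085a22b084d0d7433d0c742fd0b742ba20b081d08c000)))
noncomputable def e27_c3 : BT (Bx Nat) := (BT.leaf (Bx.mk (nat_lit 0x63cb0ef68b90f3c3af0ea67588fa53b14f1d0ed13733d152dd0e74385941535c38ed29c38ad27c386d25d0a3426d090000)))
noncomputable def e27_c4 : BT (Bx Nat) := (BT.leaf (Bx.mk (nat_lit 0xc344e14c3370cc33414d5432928f5861dfb68490cbd0e94d94339a73d0df436a3230c3a31b0c2a3130c1d0a7427d094000)))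
noncomputable def e27_p : BT (Bx Nat) := (BT.leaf (Bx.mk (nat_lit 0x910e3c46d0db036b11a846909a416809a0167099c166099814509141440910143110c34211083211084321088410000000)))
noncomputable def e27_e : BT Nat := BT.leaf (nat_lit 0)
noncomputable def e27_cols : List (BT (Bx Nat)) := [e27_c0, e27_c1, e27_c2, e27_c3, e27_c4]
noncomputable def e27_ch (x j : Nat) : Bx Nat := chunkG e27_cols (nat_lit 1) x j
noncomputable def e27_L (x : Nat) : Bx (Nat → Nat) := lookG e27_ch (nat_lit 8) (nat_lit 255) (nat_lit 14) (nat_lit 16383) x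
noncomputable def e27_pc (_ j : Nat) : Bx Nat := e27_p.get j
noncomputable def e27_pb : Bx (Nat → Nat) := lookG e27_pc (nat_lit 8) (nat_lit 255) (nat_lit 14) (nat_lit 16383) (nat_lit 0)
noncomputable def e27_rots : BT CW := (BT.node (nat_lit 11) (BT.node (nat_lit 5) (BT.node (nat_lit 2) (BT.node (nat_lit 1) (BT.leaf ⟨[], (nat_lit 1000000), (nat_lit 0), (nat_lit 0), (nat_lit 0)⟩) (BT.leaf ⟨[], (nat_lit 1000000), (nat_lit 0), (nat_lit 0), (nat_lit 1)⟩)) (BT.node (nat_lit 3) (BT.leaf ⟨[], (nat_lit 1000000), (nat_lit 0), (nat_lit 0), (nat_lit 2)⟩) (BT.node (nat_lit 4) (BT.leaf ⟨[(nat_lit 2), (nat_lit 1)], (nat_lit 6), (nat_lit 1), (nat_lit 0), (nat_lit 3)⟩) (BT.leaf ⟨[(nat_lit 1), (nat_lit 2)], (nat_lit 6), (nat_lit 0), (nat_lit 0), (nat_lit 3)⟩)))) (BT.node (nat_lit 8) (BT.node (nat_lit 6) (BT.leaf ⟨[(nat_lit 4), (nat_lit 3)], (nat_lit 5), (nat_lit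 1), (nat_lit 0), (nat_lit 3)⟩) (BT.node (nat_lit 7) (BT.leaf ⟨[(nat_lit 3), (nat_lit 4)], (nat_lit 5), (nat_lit 0), (nat_lit 0), (nat_lit 3)⟩) (BT.leaf ⟨[(nat_lit 1), (nat_lit 1), (nat_lit 1)], (nat_lit 0), (nat_lit 0), (nat_lit 0), (nat_lit 3)⟩))) (BT.node (nat_lit 9) (BT.leaf ⟨[(nat_lit 3), (nat_lit 3), (nat_lit 3)], (nat_lit 1), (nat_lit 0), (nat_lit 0), (nat_lit 3)⟩) (BT.node (nat_lit 10) (BT.leaf ⟨[(nat_lit 2), (nat_lit 4), (nat_lit 1), (nat_lit 3), (nat_lit 1), (nat_lit 4), (nat_lit 2), (nat_lit 2), (nat_lit 1), (nat_lit 3)], (nat_lit 3), (nat_lit 2), (nat_lit 0), (nat_lit 3)⟩) (BT.leaf ⟨[(nat_lit 2), (nat_lit 3), (nat_lit 1), (nat_lit 4), (nat_lit 2), (nat_lit 1), (nat_lit 1), (nat_lit 3), (nat_lit 2), (nat_lit 4)], (nat_lit 10), (nat_lit 5), (nat_lit 0), (nat_lit 3)⟩))))) (BT.node (nat_lit 16) (BT.node (nat_lit 13) (BT.node (nat_lit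 12) (BT.leaf ⟨[(nat_lit 1), (nat_lit 3), (nat_lit 2), (nat_lit 4), (nat_lit 4), (nat_lit 3), (nat_lit 1), (nat_lit 4), (nat_lit 2), (nat_lit 3)], (nat_lit 11), (nat_lit 1), (nat_lit 0), (nat_lit 3)⟩) (BT.leaf ⟨[(nat_lit 2), (nat_lit 2), (nat_lit 2)], (nat_lit 7), (nat_lit 0), (nat_lit 0), (nat_lit 3)⟩)) (BT.node (nat_lit 14) (BT.leaf ⟨[(nat_lit 3), (nat_lit 1), (nat_lit 4), (nat_lit 2), (nat_lit 1), (nat_lit 1), (nat_lit 3), (nat_lit 2), (nat_lit 4), (nat_lit 2)], (nat_lit 10), (nat_lit 6), (nat_lit 0), (nat_lit 3)⟩) (BT.node (nat_lit 15) (BT.leaf ⟨[(nat_lit 4), (nat_lit 2), (nat_lit 1), (nat_lit 1), (nat_lit 3), (nat_lit 2), (nat_lit 4), (nat_lit 2), (nat_lit 3), (nat_lit 1)], (nat_lit 10), (nat_lit 8), (nat_lit 0), (nat_lit 3)⟩) (BT.leaf ⟨[(nat_lit 4), (nat_lit 4), (nat_lit 4)], (nat_lit 8), (nat_lit 0), (nat_lit 0), (nat_lit 3)⟩)))) (BT.node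 (nat_lit 19) (BT.node (nat_lit 17) (BT.leaf ⟨[(nat_lit 3), (nat_lit 2), (nat_lit 4), (nat_lit 2), (nat_lit 3), (nat_lit 1), (nat_lit 4), (nat_lit 2), (nat_lit 1), (nat_lit 1)], (nat_lit 10), (nat_lit 2), (nat_lit 0), (nat_lit 3)⟩) (BT.node (nat_lit 18) (BT.leaf ⟨[(nat_lit 3), (nat_lit 1), (nat_lit 4), (nat_lit 2), (nat_lit 4), (nat_lit 1), (nat_lit 3), (nat_lit 2), (nat_lit 4), (nat_lit 3)], (nat_lit 4), (nat_lit 5), (nat_lit 0), (nat_lit 3)⟩) (BT.leaf ⟨[(nat_lit 4), (nat_lit 2), (nat_lit 4), (nat_lit 1), (nat_lit 3), (nat_lit 2), (nat_lit 4), (nat_lit 3), (nat_lit 3), (nat_lit 1)], (nat_lit 4), (nat_lit 7), (nat_lit 0), (nat_lit 3)⟩))) (BT.node (nat_lit 20) (BT.leaf ⟨[(nat_lit 4), (nat_lit 4), (nat_lit 3), (nat_lit 1), (nat_lit 4), (nat_lit 2), (nat_lit 3), (nat_lit 1), (nat_lit 3), (nat_lit 2)], (nat_lit 11), (nat_lit 4), (nat_lit 0), (nat_lit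 3)⟩) (BT.node (nat_lit 21) (BT.leaf ⟨[(nat_lit 1), (nat_lit 4), (nat_lit 2), (nat_lit 2), (nat_lit 1), (nat_lit 3), (nat_lit 2), (nat_lit 4), (nat_lit 1), (nat_lit 3)], (nat_lit 3), (nat_lit 6), (nat_lit 0), (nat_lit 3)⟩) (BT.leaf ⟨[(nat_lit 2), (nat_lit 4), (nat_lit 2), (nat_lit 3), (nat_lit 1), (nat_lit 4), (nat_lit 2), (nat_lit 1), (nat_lit 1), (nat_lit 3)], (nat_lit 10), (nat_lit 3), (nat_lit 0), (nat_lit 3)⟩))))))
noncomputable def e27_hcs : List CW := []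
noncomputable def e27_H (x j : Nat) : Bx (Nat → Nat → Nat) := mkH e27_L e27_pb.1 e27_e.get (lmap CW.w e27_hcs) (nat_lit 27) (nat_lit 28) (nat_lit 5) (nat_lit 32) (nat_lit 1024) (nat_lit 2047) x (e27_rots.get j)
noncomputable def e27_F (x b : Nat) : Bool := blkOK e27_H e27_ch (nat_lit 28) (nat_lit 32) (nat_lit 32) (nat_lit 8) (nat_lit 255) (nat_lit 14) (nat_lit 16383) x b

theorem e27_k0_0 : allFrom (e27_F (nat_lit 0)) (nat_lit 0) (nat_lit 4) = true := by decide +kernel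
theorem e27_k1_0 : allFrom (e27_F (nat_lit 1)) (nat_lit 0) (nat_lit 4) = true := by decide +kernel
theorem e27_k2_0 : allFrom (e27_F (nat_lit 2)) (nat_lit 0) (nat_lit 4) = true := by decide +kernel
theorem e27_k3_0 : allFrom (e27_F (nat_lit 3)) (nat_lit 0) (nat_lit 4) = true := by decide +kernel
theorem e27_k4_0 : allFrom (e27_F (nat_lit 4)) (nat_lit 0) (nat_lit 4) = true := by decide +kernel
noncomputable def Tb : Tr := (.sym [[1], [3], [5], [7], [9]] (.cons [] 2 6 (.op 4 0 (.focus 0 (.cons [] 0 6 (.base (nat_lit 0xe00410718c08c20a000040006) (.focus 0 (.sym [[1], [3]] (.cons [] 1 2 (.focus 1 (.base (nat_lit 0x410808000a000040002) (.focus 0 (.sym [[1]] (.cons [] 1 1 .triv (.cons [3] 1 0 (.base (nat_lit 128) (.op 4 1 (.and 1 0 (.dead0 0)))) (.cons [1] 1 0 (.base (nat_lit 128) (.op 4 1 (.and 1 0 (.dead0 0)))) (.cons [1, 3] 1 0 (.base (nat_lit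 128) (.op 4 1 (.and 1 0 (.dead0 0)))) .nil)))))))) (.cons [1] 1 0 (.base (nat_lit 2048) (.op 4 1 (.and 1 0 (.dead0 0)))) (.cons [3] 1 0 (.base (nat_lit 2048) (.op 4 1 (.and 1 0 (.dead0 0)))) (.cons [4, 1] 2 0 (.base (nat_lit 2048) (.op 4 1 (.and 1 0 (.dead0 0)))) (.cons [1, 3] 1 0 (.base (nat_lit 2048) (.op 4 1 (.and 1 0 (.dead0 0)))) (.cons [3, 1] 1 0 (.base (nat_lit 2048) (.op 4 1 (.and 1 0 (.dead0 0)))) .nil))))))))) .nil))) (.cons [3, 5] 3 0 (.base (nat_lit 0x106a638862b324619d8103888) (.op 4 1 (.and 1 0 (.dead0 0)))) .nil)))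
noncomputable def TbK : List (List Nat) := [[9, 5, 9, 5, 10, 5, 9, 5, 4, 1], [13, 1], [5, 10, 5, 1, 10, 5, 9, 5, 10, 3], [7], [3, 7, 4]]
noncomputable def TbF : List (List Nat) := [[], [1]]
noncomputable def iA : List Nat := [(nat_lit 1)]
noncomputable def yA : List Nat := [(nat_lit 5), (nat_lit 9), (nat_lit 5), (nat_lit 10), (nat_lit 5), (nat_lit 9), (nat_lit 5), (nat_lit 1)]
noncomputable def M5 : Nat := 1000003
noncomputable def M3 : Nat := 1000003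

end CF.J23.P2
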