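import Cfsg.Agent.J23.P2
import Cfsg.Agent.Comp.MatG
import Cfsg.Agent.Schur.Cl

set_option autoImplicit false
set_option maxRecDepth 1000000
set_option maxHeartbeats 0
set_option Elab.async false

namespace CF.J23.P2

open CF.Comp

noncomputable def HU : List (List Nat) := [[(nat_lit 3)],
  [(nat_lit 6), (nat_lit 2), (nat_lit 9), (nat_lit 5)],
  [(nat_lit 8), (nat_lit 9), (nat_lit 11), (nat_lit 7)]]
noncomputable def Uν : Net := (Net.cons (nat_lit 2) (nat_lit 0x1111111110000000000000000) (Net.cons (nat_lit 4) (nat_lit 0x70707070704000000000000) (Net.cons (nat_lit 8) (nat_lit 0x7c007f0007000300000000) (Net.cons (nat_lit 16) (nat_lit 0x7ff80000000700000000) (Net.cons (nat_lit 32) (nat_lit 0x7000000007ffbfc00) (Net.cons (nat_lit 64) (nat_lit 0x77ffbfc00) (Net.cons (nat_lit 32) (nat_lit 2149317632) (Net.cons (nat_lit 16) (nat_lit 0x30700007ff80000fc00) (Net.cons (nat_lit 8) (nat_lit 0x83001c00f3000300fe00e0) (Net.cons (nat_lit 4) (nat_lit 0x8040f0c010c000700030f0c)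 (Net.cons (nat_lit 2) (nat_lit 0x2012131320303013021133132) (Net.cons (nat_lit 1) (nat_lit 0x5004015001111400015501505) Net.nil))))))))))))
noncomputable def U0_0 : Net := (Net.cons (nat_lit 1) (nat_lit 0x445044545115000) (Net.cons (nat_lit 2) (nat_lit 0x210331313000200) (Net.cons (nat_lit 4) (nat_lit 0x2000c0300000800) (Net.cons (nat_lit 8) (nat_lit 0x40000900130000) (Net.cons (nat_lit 16) (nat_lit 0x646100000000) (Net.cons (nat_lit 32) (nat_lit 1684080640) (Net.cons (nat_lit 16) (nat_lit 0x4fb0000db00) (Net.cons (nat_lit 8) (nat_lit 0x6d005b00850000) (Net.cons (nat_lit 4) (nat_lit 0x5060604090d0100) (Net.cons (nat_lit 2) (nat_lit 0x113301303201300) (Net.cons (nat_lit 1) (nat_lit 0x1414001554555000) Net.nil)))))))))))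
noncomputable def U0_1 : Net := (Net.cons (nat_lit 1) (nat_lit 0x140555100151400) (Net.cons (nat_lit 2) (nat_lit 0x1133100023120200) (Net.cons (nat_lit 4) (nat_lit 0x70402020b040000) (Net.cons (nat_lit 8) (nat_lit 0x240026009b0000) (Net.cons (nat_lit 16) (nat_lit 0x700000000000) (Net.cons (nat_lit 32) (nat_lit 1787107072) (Net.cons (nat_lit 16) (nat_lit 0x63f900005d00) (Net.cons (nat_lit 8) (nat_lit 0x78008800d00020) (Net.cons (nat_lit 4) (nat_lit 0x206090506030c0c) (Net.cons (nat_lit 2) (nat_lit 0x1331103200011303) (Net.cons (nat_lit 1) (nat_lit 0x1414054510411154) Net.nil)))))))))))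
noncomputable def U0_2 : Net := (Net.cons (nat_lit 1) (nat_lit 0x1554000050510140) (Net.cons (nat_lit 2) (nat_lit 0x220021001020120) (Net.cons (nat_lit 4) (nat_lit 0x807010c080800) (Net.cons (nat_lit 8) (nat_lit 0x35000800400000) (Net.cons (nat_lit 16) (nat_lit 0x125800008000) (Net.cons (nat_lit 32) (nat_lit 1646825554) (Net.cons (nat_lit 16) (nat_lit 0x3cfb0000f082) (Net.cons (nat_lit 8) (nat_lit 0x5500580030006e) (Net.cons (nat_lit 4) (nat_lit 0x20a05030b0a0a02) (Net.cons (nat_lit 2) (nat_lit 0x1232023010131130) (Net.cons (nat_lit 1) (nat_lit 0x1554000050510540) Net.nil)))))))))))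
noncomputable def U0 : List Net := [U0_0, U0_1, U0_2]
noncomputable def U1_0 : Net := (Net.cons (nat_lit 1) (nat_lit 0x1414050111444100) (Net.cons (nat_lit 2) (nat_lit 0x1320010321222100) (Net.cons (nat_lit 4) (nat_lit 0x508020d090b0400) (Net.cons (nat_lit 8) (nat_lit 0x1002a00f60080) (Net.cons (nat_lit 16) (nat_lit 0x390400000000) (Net.cons (nat_lit 32) (nat_lit 783454638) (Net.cons (nat_lit 16) (nat_lit 0x24c600006929) (Net.cons (nat_lit 8) (nat_lit 0x22008f006600bc) (Net.cons (nat_lit 4) (nat_lit 0x1080c0401010c08) (Net.cons (nat_lit 2) (nat_lit 0x212301002021121) (Net.cons (nat_lit 1) (nat_lit 0x1144450405014505) Net.nil)))))))))))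
noncomputable def U1_1 : Net := (Net.cons (nat_lit 1) (nat_lit 0x1404555000040010) (Net.cons (nat_lit 2) (nat_lit 0x11023000120020) (Net.cons (nat_lit 4) (nat_lit 0x507010705090808) (Net.cons (nat_lit 8) (nat_lit 0x70000100100000) (Net.cons (nat_lit 16) (nat_lit 0x3c0500000000) (Net.cons (nat_lit 32) (nat_lit 206401578) (Net.cons (nat_lit 16) (nat_lit 0x54070000c094) (Net.cons (nat_lit 8) (nat_lit 0xa009b00530064) (Net.cons (nat_lit 4) (nat_lit 0x5010a090c0f0c0e) (Net.cons (nat_lit 2) (nat_lit 0x12133133300030) (Net.cons (nat_lit 1) (nat_lit 0x1101540045140414) Net.nil)))))))))))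
noncomputable def U1_2 : Net := (Net.cons (nat_lit 1) (nat_lit 0x1101541044140404) (Net.cons (nat_lit 2) (nat_lit 0x12133133300030) (Net.cons (nat_lit 4) (nat_lit 0x10d040506050608) (Net.cons (nat_lit 8) (nat_lit 0xe0000005c0080) (Net.cons (nat_lit 16) (nat_lit 0x550200008000) (Net.cons (nat_lit 32) (nat_lit 1099732578) (Net.cons (nat_lit 16) (nat_lit 0x710600000c54) (Net.cons (nat_lit 8) (nat_lit 0x3c001e00b500cc) (Net.cons (nat_lit 4) (nat_lit 0x109090d0b0f0600) (Net.cons (nat_lit 2) (nat_lit 0x11023000120020) (Net.cons (nat_lit 1) (nat_lit 0x1004555400040410) Net.nil)))))))))))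
noncomputable def U1 : List Net := [U1_0, U1_1, U1_2]
noncomputable def UW : List (List Nat) := [[(nat_lit 4), (nat_lit 1), (nat_lit 6), (nat_lit 3), (nat_lit 1), (nat_lit 4), (nat_lit 5), (nat_lit 1), (nat_lit 3)],
  [(nat_lit 6), (nat_lit 3), (nat_lit 1), (nat_lit 3), (nat_lit 1), (nat_lit 3), (nat_lit 5)],
  [(nat_lit 10)]]
noncomputable def UC : List Lvl := [⟨(nat_lit 8), [[(nat_lit 1)],
  [(nat_lit 3)],
  [(nat_lit 5)]], (nat_lit 5)⟩,
  ⟨(nat_lit 0), [[(nat_lit 7)],
  [(nat_lit 9)]], (nat_lit 6)⟩,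
  ⟨(nat_lit 1), [[(nat_lit 11)]], (nat_lit 2)⟩]
noncomputable def UV : List (List Nat) := [[(nat_lit 0x20800200404001), (nat_lit 0x7fdf7ffdffbfbffe), (nat_lit 0), (nat_lit 0), (nat_lit 0), (nat_lit 0), (nat_lit 0), (nat_lit 0), (nat_lit 0)],
  [(nat_lit 0x20028900001), (nat_lit 0x420980200486000), (nat_lit 0x811000440000000), (nat_lit 0x4211002000000), (nat_lit 4350), (nat_lit 0x60c0000000018300), (nat_lit 0x1000042110000000), (nat_lit 0xa004805020400), (nat_lit 0x300408080240800)],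
  [(nat_lit 0x1820100002800000), (nat_lit 0x400024408003), (nat_lit 0x28001005100), (nat_lit 0x200000208020210), (nat_lit 0x4410001890000040), (nat_lit 0x8c0400400c0020), (nat_lit 0x100800000110480), (nat_lit 0x42200500002804), (nat_lit 0x2001096000200008)]]
noncomputable def Uσ : Net := (Net.cons (nat_lit 1) (nat_lit 0x401404054150054) (Net.cons (nat_lit 2) (nat_lit 0x1311333102032110) (Net.cons (nat_lit 4) (nat_lit 0x106080a03090c00) (Net.cons (nat_lit 8) (nat_lit 0x7500ec00c60080) (Net.cons (nat_lit 16) (nat_lit 0x115100000000) (Net.cons (nat_lit 32) (nat_lit 1237097571) (Net.cons (nat_lit 16) (nat_lit 0x2c8100007e5d) (Net.cons (nat_lit 8) (nat_lit 0xb0091009d000a) (Net.cons (nat_lit 4) (nat_lit 0x305060f0c000408) (Net.cons (nat_lit 2) (nat_lit 0x1212331312133132) (Net.cons (nat_lit 1) (nat_lit 0x555145455011100) Net.nil)))))))))))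
noncomputable def UCs : List (List Nat) := [[(nat_lit 0), (nat_lit 4351), (nat_lit 0x1000042110000000), (nat_lit 0x4211002000000), (nat_lit 0x60c0000000018300), (nat_lit 0x20820228d04000), (nat_lit 0xa004805020400), (nat_lit 0x400180000082000), (nat_lit 0xb114084c0240800)],
  [(nat_lit 0), (nat_lit 0x80840480428000), (nat_lit 0x200001090008), (nat_lit 0x50410200000080), (nat_lit 0x4024122000000c10), (nat_lit 0x340000804c200044), (nat_lit 0x20a080010001000), (nat_lit 0x1000802942102), (nat_lit 0x900005120004221)],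
  [(nat_lit 0), (nat_lit 0x4209a0228d86000), (nat_lit 0x811000440000001), (nat_lit 0x1000042110000000), (nat_lit 0x60c0000000018300), (nat_lit 4350), (nat_lit 0x4211002000000), (nat_lit 0x300408080240800), (nat_lit 0xa004805020400)]]
noncomputable def UA : List (List (List Nat)) := [[[4, 4, 0], [5, 7, 0], [0, 0, 1]],
  [[0, 5, 7], [8, 2, 2], [8, 1, 1]],
  [[0, 1, 0], [1, 0, 0], [0, 0, 2]]]
noncomputable def UD : List (List (List (List Nat))) := [[[[1, 0, 0], [3, 1, 0], [0, 0, 1]],
  [[4, 4, 0], [0, 5, 0], [0, 0, 1]]],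
 [[[1, 2, 0], [0, 1, 0], [0, 0, 1]],
  [[1, 0, 0], [1, 1, 0], [1, 5, 1]],
  [[8, 4, 6], [0, 7, 5], [0, 0, 1]]],
 [[[1, 2, 0], [0, 1, 0], [0, 0, 1]],
  [[1, 0, 0], [1, 1, 0], [0, 0, 1]],
  [[1, 1, 0], [0, 2, 0], [0, 0, 2]]]]
theorem linU_a : linAll (tabQ 3 2 0) 63 3 UV UA U0 UCs 3 = true := by decide +kernel
theorem linU : LinOK (tabQ 3 2 0) 63 3 3 UV UA U0 :=
  ⟨⟨Uσ, by decide +kernel⟩, by decide +kernel, by decide +kernel, rfl,
    UCs, by decide +kernel, rfl, linAll_iff.1 linU_a⟩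
theorem chU : ChainGe U0 U1 63 6 3 UW UC 6048 :=
  ⟨rfl, by decide, by decide, slp_of_slpOK (by decide +kernel), by decide +kernel, by decide +kernel,
    by decide +kernel⟩
theorem suU : allFrom (suAt (tabQ 3 2 0) 3 3 UA UD) 0 3 = true := by decide +kernel
theorem subU : subOK N U0 Uν HU 63 6 = true := by decide +kernel

theorem card_PSU (K : Type*) [Field K] [Fintype K] (hK : Fintype.card K = 9) :
    Nat.card (Cfsg.PSU 3 K 3) = 6048 := by
  have := card_PSU_mul (K := K) (q := 3) (d := 3) hK (by decide)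
  simp only [Finset.prod_range_succ, Finset.prod_range_zero] at this
  norm_num at this
  omega

/-- the point stabiliser is the unitary group -/
theorem stab_equiv {G Ω : Type*} [Group G] [MulAction G Ω] {D : Dom Ω 100} {g : ℕ → G}
    (hE : Exact D N g C ⊤) (K : Type*) [Field K] [Fintype K] (hK : Fintype.card K = 9) :
    Nonempty (stabIn (⊤ : Subgroup G) (D.pt 0) ≃* Cfsg.PSU 3 K 3) := by
  obtain ⟨el, hT⟩ := CF.Schur.Pc.exists_ok_nine hK
  have hS := Exact.tail (L := C.head (by simp [C])) (t := C.tail) hE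
  have := hS.fin
  exact (chU.nonempty_equiv (hE.1.sub_of_OK (ν := Uν) (by decide +kernel) (by decide) (by decide) subU)
    (fun _ h => evs_eq_one (ws := HU) h) (linU.hasReps_PSU hT (q := 3) hK (by decide) suU) (card_PSU K hK)
    (evs_mem fun w hw => hS.mem w (subW_iff.1 (by decide +kernel) w hw))
    (hS.card.trans (by decide +kernel)).le).2

end CF.J23.P2
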