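import Cfsg.Agent.J23.Rels

set_option autoImplicit false
set_option maxRecDepth 1000000
set_option maxHeartbeats 0
set_option Elab.async false

namespace CF.J23

open CF.Comp CF.Cod

noncomputable def TA_c0 : BT (Bx Nat) := (BT.node (nat_lit 3) (BT.node (nat_lit 1) (BT.leaf (Bx.mk (nat_lit 0x1f86cb2211d8acaa471b89cc6431988cbe511787cb0491d0a8a8461b098c44219088785017078b64c1f0682a110682432100602030140581c2e13078182c12070280a04018080200))) (BT.node (nat_lit 2) (BT.leaf (Bx.mk (nat_lit 0x6f25dca7c39429a4a97c9d98c68641ed749437a299c8173a0d3e745e2e0ca451a894c253189789e410e92c7a2d2b92072293014860202e938801c2d12858561c0a0c8441a090b84d))) (BT.leaf (Bx.mk (nat_lit 0x7c2f57c674e9c5c06686b560aeb52a4196cf60bd1b70245a8cf0c962a61668c552119ac734bd9769576b5a0ea63f25938706fb0d22b24335dd4a4559b980f36d23e02a235208d880))))) (BT.node (nat_lit 4) (BT.leaf (Bx.mk (nat_lit 0x713c1b30968c00eebf7327a1eae44419d8fe7230936f15a23616e135bdcfaef683fdd0b9499fd890e56a1dfacc472696d03699e5f6e3581b542d858c215073501d54edd493b95e89)))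 (BT.node (nat_lit 5) (BT.leaf (Bx.mk (nat_lit 0xb1d6e69508fd0e735c89cda8f3d99c9ac55a97d2ab32cac51a455293cca2b48a14a6bb209dc42371c8ed32335e8bd824b559bd2e9f1e7ab716f04749e9f8ca4cbc96b0c6a2b10afa))) (BT.leaf (Bx.mk (nat_lit 0xaa53ac9659fcc69316afc6243389f4c25b2ba8d022967a9ca2af3c88d9a891a894bac3249acaa8b4d9d48e8356))))))
noncomputable def TA_c1 : BT (Bx Nat) := (BT.node (nat_lit 3) (BT.node (nat_lit 1) (BT.leaf (Bx.mk (nat_lit 0x6303d80185d2e0407c2c0349ea92583148634f82c9c974a1791e72450250c5540820f6393a01cdc6c34018c43c2d814a850260108c421f00c6c32170084c220f0682c12070280001))) (BT.node (nat_lit 2) (BT.leaf (Bx.mk (nat_lit 0x99c31c83810a6e58e2599364e1f910a2411e23875fe1c6d9762e1b82441230a18065af01738a8d4f90ba01903779b9448157528906141a8b4ec1319b7978da3784564d2670415682))) (BT.leaf (Bx.mk (nat_lit 0xadb561049928ee8e3a953ee47133b916b08da150d194120d306946994dd16316c14a1b5217d41e34f3d52a9b1d1652ddc2b9ed20caed14cbd60ad5289e5339778959f1928900465a)))))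 (BT.node (nat_lit 4) (BT.leaf (Bx.mk (nat_lit 0x36bdec5095b558b95d7f5826ae12bce93adf43a5520c48d94e8b062fcd0ac7d6e1e1e93b7812a2ae33592186a330b2d7d05ac91194c54290d935a6b3459a59af0fda0ec6cd72063d))) (BT.node (nat_lit 5) (BT.leaf (Bx.mk (nat_lit 0xa8d992764703c911115342deae63fa9e491a474aebe79972dd13493ac3977315a9ce9c71879c1310275cc1096134d95bb675a54e70668fc99427e9b191f8bdaaba1a86760c70c163))) (BT.leaf (Bx.mk (nat_lit 0x8a4fa2d3c803f630f696b1df0c25fb31a6b1a03ea0f44892827e9e4e48532aa4b26a50925caa1d354572bd5957))))))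
noncomputable def TA_c3 : BT (Bx Nat) := (BT.node (nat_lit 3) (BT.node (nat_lit 1) (BT.leaf (Bx.mk (nat_lit 0x63b0d82965d83884b30696c48aa062994aa305a703a984a828ba8c04938a035041f8f878039c05a5a34978c65f02960aa51021248e43018e86e33178a84e230f8042e13078000c02))) (BT.node (nat_lit 2) (BT.leaf (Bx.mk (nat_lit 0x93089482197346202095caa512491c49d81e55a29991b7cc6836c289c461a830cc1e0b020c06852841b071ec167a3182aed75a2c2825480999adf67b1424db08b59aa94080e596c9))) (BT.leaf (Bx.mk (nat_lit 0x6932ab4f01dc11aed94153267251c26dde93abc5ea515378d13309a28c8627d18391f95374546382e59395522c900f05644583868c4fa250a8228291ba793a93c2a6e5c322de68ea))))) (BT.node (nat_lit 4) (BT.leaf (Bx.mk (nat_lit 0x8a405e4a1a6b70d762789665a57b33f5eebc58d6ca87129a02a09fb0c3134a285b3924c82640e7afa2446571555c9188b639dafcf4c025b889a6d20af880e01f958951d1f1a07ad0))) (BT.node (nat_lit 5) (BT.leaf (Bx.mk (nat_lit 0x99521ba8969a22bb4e42d9652815acfe3d548f9edeb213b9da6a75439fd687439c3a589797cc5889d361a9b54b5755958ff339c8cc79a0488cae671a1951673153cc2ba6f181fd47)))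 (BT.leaf (Bx.mk (nat_lit 0x843ce6d5f6a3e1cf59b252a7343772f6c14957c59b130502b53ce9834e1f6b68c57ab13e802454e8fae2391b0f))))))
noncomputable def TA_c5 : BT (Bx Nat) := (BT.node (nat_lit 3) (BT.node (nat_lit 1) (BT.leaf (Bx.mk (nat_lit 0x7a0d18be071a96c0d58abd5a0c542592e7050275345505249200945a250e084104424793a9c4de6d03198c8052e164ac042688444441f8ec7034010ac50240086c30140002c0e03))) (BT.node (nat_lit 2) (BT.leaf (Bx.mk (nat_lit 0x453c623306db0840ea554043e4f2fb283c300eb503912820ea31152806a1c19843e1010339bf5f617252842ca76185458ee6f34dce673a38c26e04716dba956c291381067af598b0))) (BT.leaf (Bx.mk (nat_lit 0x9e0f0851094c81672c800e51b3f5cc286e401b3a06b328f9ddfc332c46d9c466fc50b42fa63945c45768b6330d188c8910c7f8a9a0299f12d6a3d139fc4d2412ce2672d1f08e6a61))))) (BT.node (nat_lit 4) (BT.leaf (Bx.mk (nat_lit 0x49aa4bd642ec75c462a4c864767b1b58fd058b15136c8a41e254ae28d093d65273e65c4c5194c931c3dd428a47ab3c9886e2947a4a9121a968041af9ca6ceca9c8a0cd52b9ea7727)))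 (BT.node (nat_lit 5) (BT.leaf (Bx.mk (nat_lit 0x5a23ebcbf60d36ae86b1325031a42ab2167ca8b8508b8acba5774b6050da2887ab19ecba55b49f4dc534d13269ad3bcd0a2a31b0fabcb0995309498acac063a0b15e06b30510ecb7))) (BT.leaf (Bx.mk (nat_lit 0x7a571c8fc79cde1f0965cf69f66a745e57559cb5eb14a63d1e5edaaed6e749f94551eeeba944db3029339a0ecd))))))
noncomputable def TA_c7 : BT (Bx Nat) := (BT.node (nat_lit 3) (BT.node (nat_lit 1) (BT.leaf (Bx.mk (nat_lit 0x35b11840e5e2e41ab4592c15cab1329cea0b509f1360a3124c128d318cd10842c1fcfa073b1c884063519c0a602e968ae52271289003200f07202180b05201100703200080301004))) (BT.node (nat_lit 2) (BT.leaf (Bx.mk (nat_lit 0x111dc422e97bf65b0e3f07c63254e07a191f8ec0566e31f86d50470d23e1f0b138ae0c187fbf82e4c4c059ee230abc5decb76051d0e57204dc25c5884882113435d24d368074920f))) (BT.leaf (Bx.mk (nat_lit 0x9fd55ec3b42ab4751eaccf1b238368dc9636820d574e61a30d18691928a912374a985f499a4fa6e7316a029c5b6a35a8d4a151168f453350c50a940c4e7a256ecad76246d3c9169a)))))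 (BT.node (nat_lit 4) (BT.leaf (Bx.mk (nat_lit 0x2f978f550b1c86c5162caf6a6cf70208ad1c2ac098a538ace94651902b0a04f364c09af38bccd0f4260a0d6ace2325ac8972253ec0437a362bf242a5518129ab569da3e550f5b6c9))) (BT.node (nat_lit 5) (BT.leaf (Bx.mk (nat_lit 0x5fa7912b6a5baa6b414ec6a729f6f41606e23dc48f35c434899151a6428e8cc524a9f4e7382e0def08ccda375e6fbe1d75b454ba1b58329e222713249acb578018664af98bb8dd07))) (BT.leaf (Bx.mk (nat_lit 0xa957612d57dbe69ad166c62cd2c8a3196f108431d7cca7ad9e50fc69266c3279da5140a548a552140473727144))))))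
noncomputable def TA_c9 : BT (Bx Nat) := (BT.node (nat_lit 3) (BT.node (nat_lit 1) (BT.leaf (Bx.mk (nat_lit 0x643141cbf5e9296eb50d13818ac2a130166a5127814994b09d228e15058108541a000e7a3b9cc0c51358dcca612f09808532792c0645208f40435188b40225108740015088341205))) (BT.node (nat_lit 2) (BT.leaf (Bx.mk (nat_lit 0x3846e6531910815ed50fafa53260f4856c7f8196238810d8c233168a448330c84a3c31048005df8fa45219f06e7abc9e0330a3a438e6098d9c432090e94cdc6cb0020d468b341eca))) (BT.leaf (Bx.mk (nat_lit 0x1e1d876907fbc528cb1c9c470f7873266b4d3cd5a22346824dd9554e1260d50a20bea942a28ba10a795380594c468adceb95552452bc310a12f409f96e7d3b70968493611b38d822))))) (BT.node (nat_lit 4) (BT.leaf (Bx.mk (nat_lit 0x5db32bc5d8a97286595a4e8af3cac1597455b258e6ea9854d0a5514a942c14f611350e9a67b5a4048b2d708f0dadb78f044b158486ab6fa0884fe5c101643facd747d4160b8d8646))) (BT.node (nat_lit 5) (BT.leaf (Bx.mk (nat_lit 0x45a263af4443da955776a1162ea971f4f946a74ce91528f26ceb5fb31d20523921ece4dd884ae7a6d3f41cd305859a1f667ad1995b1fa9acdb0648bbacc69d8d296306037c96ce5f)))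 (BT.leaf (Bx.mk (nat_lit 0x80c9db6ef7734da4e5943f58cda6bc4d8ef39c2b950a187cb1d0a4724bd6098a3ce5252da5cc13ea37ca81888c))))))
noncomputable def TA_w : BT (Bx Nat) := (BT.node (nat_lit 3) (BT.node (nat_lit 1) (BT.leaf (Bx.mk (nat_lit 0x535001350091500715005150031500793005930039300193009730057300373001730095300753003530015300913007130051300313007910059100391001910097100571003710017100951007510035100151009310073100531001310007900059000390001900097000570003700017000950007500035000150009300073000530001300091000710005100031000090000700005000030000100000))) (BT.node (nat_lit 2) (BT.leaf (Bx.mk (nat_lit 0x7171031710795103951019510975105751037510935107351053510135109151071510515103151059310193105731017310953107531035310153107131051310097900579003790017900959007590035900939007390053900139007190051900319007970059700397001970095700757003570015700937007370053700137009170071700317007950039500195009750057500375001750093500735)))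 (BT.leaf (Bx.mk (nat_lit 0x9715057150951507515035150151507315013150979305793095930759303593073930539307193051930797305973095730757303573015730537307173031730395301953037530935307353053530135309153051530315307913059130971303713017130951303513015130731305313097910579101791095910759103591053910139105191079710597101971095710757109371053710137109171))))) (BT.node (nat_lit 4) (BT.leaf (Bx.mk (nat_lit 0x7359079390593909739057390953901539095190751903519097970379701797095970759709397073970519703197079570395701957097570735705357091570715707937057370953707537051370313701717053170979503795017950939505395071950319503975095750757501575093750737505375013750917505935039350973503735095350353501535091350713503135079150391501915))) (BT.node (nat_lit 5) (BT.leaf (Bx.mk (nat_lit 0x95391951917519135191979713797117971519713957197571513713137117171979519395153951719513195175751157513935137351953513535115351913517135131351391511915197151151517315113151759319573131731375319353153531135319153151531971313713195131351311513107979059790397909579075790157909379053790317907959039590975905759037590175909359)))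 (BT.leaf (Bx.mk (nat_lit 0x53797317979379573975395759757591575793755393513535915351791519715395157979315393351939797395373973533535315353391531915313153797131971393713195137151395313153137979139791757913179179591395913759193591))))))
noncomputable def TA_cols : List (BT (Bx Nat)) := [TA_c0, TA_c1, TA_c1, TA_c3, TA_c3, TA_c5, TA_c5, TA_c7, TA_c7, TA_c9, TA_c9]
noncomputable def TA_ch (x j : Nat) : Bx Nat := chk TA_cols x j
noncomputable def TA_wc (_ j : Nat) : Bx Nat := TA_w.get j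
noncomputable def TA : CT := ⟨(nat_lit 360), (nat_lit 9), (nat_lit 511), TA_ch, (nat_lit 20), (nat_lit 1048575), TA_wc, (nat_lit 2046)⟩
noncomputable def eA1_c0 : BT (Bx Nat) := (BT.leaf (Bx.mk (nat_lit 0x0)))
noncomputable def eA1_c1 : BT (Bx Nat) := (BT.leaf (Bx.mk (nat_lit 0x71f128f81c787a3b9d1db40f57476a974ac91f98f6f4755097864bbe8e9da182896761e9e8e826cdef25991e6e8e769aa263ea91d8e8e655f4510f551ee58fa3c75ba395e079f03c781dac396a9e4c24bc277bc0e5b4c7f037f471a83c5e06bd247f819fa389e063ba6cf8177a3879488d0ea7814ba385e04df024f8117c1820000)))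
noncomputable def eA1_c2 : BT (Bx Nat) := (BT.leaf (Bx.mk (nat_lit 0x5128e88ef4471f5526122d091971c2a25f3418e88b10497a2284136b4dad62ba4abdd1103090d907dc272657cb9c7f4434b365d10cdabb9d0e0f6d7d10ba895444b7c0f7e07a75edf442708332134e227781ccc225e071e8831f0570b23e06cb093ec45fc0cde064f0307440fc0b5b105e2027814f8711b107f02574407c0840000)))
noncomputable def eA1_c3 : BT (Bx Nat) := (BT.leaf (Bx.mk (nat_lit 0x1d1646d35045d934f2667868ba08cea74eae97750afa4c8ce663d153ab36f454a82dec165d334305efa29f916ba8a8b2981acd9e07c40b94c557a296b1665b39c6965ecaea64ae8a4b4c5202bdd14870aef451e8644c15af038781bad2cfd145f034f45136299c30df030a4573c0b7e058f02b7450bc0a1e04ee8a0f811bc0860000)))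
noncomputable def eA1_c4 : BT (Bx Nat) := (BT.leaf (Bx.mk (nat_lit 0x1582e29b99cdca345a819de8cd2cddba32fd19620dd986eaaede4621a0d8d06f2037388e7c9b5f463d8340729bb8d66c67fa3189612d1b1cc6606360d8e9e1537462926f0619530d4781dfa3114822f03af81d0e6b9d186b0c720693a30ba18df0355dd4f6c21e065e8c1f817b8693e059e8c178153c0a3d181f025f811fc0880000)))
noncomputable def eA1_c5 : BT (Bx Nat) := (BT.leaf (Bx.mk (nat_lit 0x9527d91d70bef84c6d2206915a09a944e4a269d10ca48d6e44c6224ab69e485ba422eadd757b9c8d92469d20e411e61ec544247530d91cf482ea430e278e9053c86da459d209828f348436be76521e903e94bba40d96d4a117ad497c0dae79ae902781a36e1bd203f0317817fc0b9d202f02bf8157478be04ff02678123c1820000)))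
noncomputable def eA1_p : BT (Bx Nat) := (BT.leaf (Bx.mk (nat_lit 0x49038e851c0a380c6c18d091a062e245848b05150628144c38983120e222c4028802cf119e1b3856702cd0998233026602cb15961b2c2650aca11940b2456486c9099023203638ac70d8c2b1846304c6058a23143420a840d080a0c541888309060a0854108820d0409044208641080000000)))
noncomputable def eA1_e0 : BT Nat := (BT.node (nat_lit 69) (BT.leaf (nat_lit 2)) (BT.leaf (nat_lit 262146)))
noncomputable def eA1_e : BT Nat := eA1_e0
noncomputable def eA1_cols : List (BT (Bx Nat)) := [eA1_c0, eA1_c1, eA1_c2, eA1_c3, eA1_c4, eA1_c5]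
noncomputable def eA1_ch (x j : Nat) : Bx Nat := chunkG eA1_cols (nat_lit 1) x j
noncomputable def eA1_L (x : Nat) : Bx (Nat → Nat) := lookG eA1_ch (nat_lit 8) (nat_lit 255) (nat_lit 17) (nat_lit 131071) x
noncomputable def eA1_pc (_ j : Nat) : Bx Nat := eA1_p.get j
noncomputable def eA1_pb : Bx (Nat → Nat) := lookG eA1_pc (nat_lit 8) (nat_lit 255) (nat_lit 15) (nat_lit 32767) (nat_lit 0)
noncomputable def eA1_rots : BT CW := (BT.node (nat_lit 24) (BT.node (nat_lit 12) (BT.node (nat_lit 6) (BT.node (nat_lit 3) (BT.node (nat_lit 1) (BT.leaf ⟨[], (nat_lit 1000000), (nat_lit 0), (nat_lit 0), (nat_lit 0)⟩) (BT.node (nat_lit 2) (BT.leaf ⟨[], (nat_lit 1000000), (nat_lit 0), (nat_lit 0), (nat_lit 1)⟩) (BT.leaf ⟨[], (nat_lit 1000000), (nat_lit 0), (nat_lit 0), (nat_lit 2)⟩))) (BT.node (nat_lit 4) (BT.leaf ⟨[(nat_lit 2), (nat_lit 2)], (nat_lit 1), (nat_lit 0), (nat_lit 0), (nat_lit 3)⟩) (BT.node (nat_lit 5) (BT.leaf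 ⟨[(nat_lit 3), (nat_lit 3)], (nat_lit 2), (nat_lit 0), (nat_lit 0), (nat_lit 3)⟩) (BT.leaf ⟨[(nat_lit 4), (nat_lit 4)], (nat_lit 3), (nat_lit 0), (nat_lit 0), (nat_lit 3)⟩)))) (BT.node (nat_lit 9) (BT.node (nat_lit 7) (BT.leaf ⟨[(nat_lit 1), (nat_lit 1)], (nat_lit 0), (nat_lit 0), (nat_lit 0), (nat_lit 3)⟩) (BT.node (nat_lit 8) (BT.leaf ⟨[(nat_lit 5), (nat_lit 5)], (nat_lit 4), (nat_lit 0), (nat_lit 0), (nat_lit 3)⟩) (BT.leaf ⟨[(nat_lit 5), (nat_lit 1), (nat_lit 5), (nat_lit 1), (nat_lit 5), (nat_lit 1)], (nat_lit 6), (nat_lit 1), (nat_lit 0), (nat_lit 3)⟩))) (BT.node (nat_lit 10) (BT.leaf ⟨[(nat_lit 4), (nat_lit 2), (nat_lit 1), (nat_lit 4), (nat_lit 3), (nat_lit 2), (nat_lit 5)], (nat_lit 24), (nat_lit 4), (nat_lit 0), (nat_lit 3)⟩) (BT.node (nat_lit 11) (BT.leaf ⟨[(nat_lit 5), (nat_lit 2), (nat_lit 1), (nat_lit 2), (nat_lit 1), (nat_lit 5), (nat_lit 2)], (nat_lit 22), (nat_lit 2), (nat_lit 0), (nat_lit 3)⟩)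 (BT.leaf ⟨[(nat_lit 3), (nat_lit 1), (nat_lit 4), (nat_lit 1), (nat_lit 3), (nat_lit 5)], (nat_lit 5), (nat_lit 3), (nat_lit 0), (nat_lit 3)⟩))))) (BT.node (nat_lit 18) (BT.node (nat_lit 15) (BT.node (nat_lit 13) (BT.leaf ⟨[(nat_lit 4), (nat_lit 1), (nat_lit 3), (nat_lit 5), (nat_lit 3), (nat_lit 1)], (nat_lit 5), (nat_lit 5), (nat_lit 0), (nat_lit 3)⟩) (BT.node (nat_lit 14) (BT.leaf ⟨[(nat_lit 2), (nat_lit 5), (nat_lit 2), (nat_lit 5), (nat_lit 1), (nat_lit 2), (nat_lit 1)], (nat_lit 7), (nat_lit 3), (nat_lit 0), (nat_lit 3)⟩) (BT.leaf ⟨[(nat_lit 5), (nat_lit 1), (nat_lit 2), (nat_lit 1), (nat_lit 2), (nat_lit 5), (nat_lit 2)], (nat_lit 7), (nat_lit 6), (nat_lit 0), (nat_lit 3)⟩))) (BT.node (nat_lit 16) (BT.leaf ⟨[(nat_lit 2), (nat_lit 4), (nat_lit 1), (nat_lit 5), (nat_lit 1), (nat_lit 2), (nat_lit 4)], (nat_lit 8), (nat_lit 3), (nat_lit 0), (nat_lit 3)⟩) (BT.node (nat_lit 17) (BT.leaf ⟨[(nat_lit 2), (nat_lit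 3), (nat_lit 4), (nat_lit 1), (nat_lit 2), (nat_lit 4), (nat_lit 5)], (nat_lit 9), (nat_lit 4), (nat_lit 0), (nat_lit 3)⟩) (BT.leaf ⟨[(nat_lit 1), (nat_lit 5), (nat_lit 1), (nat_lit 5), (nat_lit 1), (nat_lit 5)], (nat_lit 6), (nat_lit 0), (nat_lit 0), (nat_lit 3)⟩)))) (BT.node (nat_lit 21) (BT.node (nat_lit 19) (BT.leaf ⟨[(nat_lit 1), (nat_lit 2), (nat_lit 4), (nat_lit 5), (nat_lit 2), (nat_lit 3), (nat_lit 4)], (nat_lit 9), (nat_lit 0), (nat_lit 0), (nat_lit 3)⟩) (BT.node (nat_lit 20) (BT.leaf ⟨[(nat_lit 5), (nat_lit 3), (nat_lit 1), (nat_lit 4), (nat_lit 1), (nat_lit 3)], (nat_lit 5), (nat_lit 2), (nat_lit 0), (nat_lit 3)⟩) (BT.leaf ⟨[(nat_lit 2), (nat_lit 4), (nat_lit 2), (nat_lit 4), (nat_lit 1), (nat_lit 5), (nat_lit 1)], (nat_lit 8), (nat_lit 1), (nat_lit 0), (nat_lit 3)⟩))) (BT.node (nat_lit 22) (BT.leaf ⟨[(nat_lit 2), (nat_lit 4), (nat_lit 2), (nat_lit 1), (nat_lit 5), (nat_lit 1), (nat_lit 4)], (nat_lit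 23), (nat_lit 3), (nat_lit 0), (nat_lit 3)⟩) (BT.node (nat_lit 23) (BT.leaf ⟨[(nat_lit 5), (nat_lit 2), (nat_lit 3), (nat_lit 4), (nat_lit 1), (nat_lit 2), (nat_lit 4)], (nat_lit 9), (nat_lit 3), (nat_lit 0), (nat_lit 3)⟩) (BT.leaf ⟨[(nat_lit 4), (nat_lit 3), (nat_lit 2), (nat_lit 5), (nat_lit 4), (nat_lit 2), (nat_lit 1)], (nat_lit 24), (nat_lit 0), (nat_lit 0), (nat_lit 3)⟩)))))) (BT.node (nat_lit 36) (BT.node (nat_lit 30) (BT.node (nat_lit 27) (BT.node (nat_lit 25) (BT.leaf ⟨[(nat_lit 3), (nat_lit 5), (nat_lit 3), (nat_lit 1), (nat_lit 4), (nat_lit 1)], (nat_lit 5), (nat_lit 1), (nat_lit 0), (nat_lit 3)⟩) (BT.node (nat_lit 26) (BT.leaf ⟨[(nat_lit 1), (nat_lit 5), (nat_lit 2), (nat_lit 5), (nat_lit 2), (nat_lit 1), (nat_lit 2)], (nat_lit 22), (nat_lit 6), (nat_lit 0), (nat_lit 3)⟩) (BT.leaf ⟨[(nat_lit 5), (nat_lit 1), (nat_lit 2), (nat_lit 4), (nat_lit 2), (nat_lit 4), (nat_lit 1)], (nat_lit 8), (nat_lit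 6), (nat_lit 0), (nat_lit 3)⟩))) (BT.node (nat_lit 28) (BT.leaf ⟨[(nat_lit 5), (nat_lit 1), (nat_lit 4), (nat_lit 2), (nat_lit 4), (nat_lit 2), (nat_lit 1)], (nat_lit 23), (nat_lit 0), (nat_lit 0), (nat_lit 3)⟩) (BT.node (nat_lit 29) (BT.leaf ⟨[(nat_lit 4), (nat_lit 2), (nat_lit 4), (nat_lit 1), (nat_lit 5), (nat_lit 1), (nat_lit 2)], (nat_lit 8), (nat_lit 2), (nat_lit 0), (nat_lit 3)⟩) (BT.leaf ⟨[(nat_lit 5), (nat_lit 2), (nat_lit 5), (nat_lit 1), (nat_lit 2), (nat_lit 1), (nat_lit 2)], (nat_lit 7), (nat_lit 4), (nat_lit 0), (nat_lit 3)⟩)))) (BT.node (nat_lit 33) (BT.node (nat_lit 31) (BT.leaf ⟨[(nat_lit 1), (nat_lit 2), (nat_lit 4), (nat_lit 2), (nat_lit 4), (nat_lit 1), (nat_lit 5)], (nat_lit 8), (nat_lit 0), (nat_lit 0), (nat_lit 3)⟩) (BT.node (nat_lit 32) (BT.leaf ⟨[(nat_lit 4), (nat_lit 1), (nat_lit 2), (nat_lit 4), (nat_lit 5), (nat_lit 2), (nat_lit 3)], (nat_lit 9), (nat_lit 6), (nat_lit 0), (nat_lit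 3)⟩) (BT.leaf ⟨[(nat_lit 1), (nat_lit 2), (nat_lit 1), (nat_lit 2), (nat_lit 5), (nat_lit 2), (nat_lit 5)], (nat_lit 7), (nat_lit 0), (nat_lit 0), (nat_lit 3)⟩))) (BT.node (nat_lit 34) (BT.leaf ⟨[(nat_lit 2), (nat_lit 1), (nat_lit 2), (nat_lit 1), (nat_lit 5), (nat_lit 2), (nat_lit 5)], (nat_lit 22), (nat_lit 3), (nat_lit 0), (nat_lit 3)⟩) (BT.node (nat_lit 35) (BT.leaf ⟨[(nat_lit 4), (nat_lit 1), (nat_lit 5), (nat_lit 1), (nat_lit 2), (nat_lit 4), (nat_lit 2)], (nat_lit 8), (nat_lit 4), (nat_lit 0), (nat_lit 3)⟩) (BT.leaf ⟨[(nat_lit 1), (nat_lit 4), (nat_lit 1), (nat_lit 3), (nat_lit 5), (nat_lit 3)], (nat_lit 5), (nat_lit 4), (nat_lit 0), (nat_lit 3)⟩))))) (BT.node (nat_lit 42) (BT.node (nat_lit 39) (BT.node (nat_lit 37) (BT.leaf ⟨[(nat_lit 3), (nat_lit 2), (nat_lit 5), (nat_lit 4), (nat_lit 2), (nat_lit 1), (nat_lit 4)], (nat_lit 24), (nat_lit 1), (nat_lit 0), (nat_lit 3)⟩) (BT.node (nat_lit 38) (BT.leaf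 ⟨[(nat_lit 2), (nat_lit 4), (nat_lit 5), (nat_lit 2), (nat_lit 3), (nat_lit 4), (nat_lit 1)], (nat_lit 9), (nat_lit 1), (nat_lit 0), (nat_lit 3)⟩) (BT.leaf ⟨[(nat_lit 1), (nat_lit 2), (nat_lit 5), (nat_lit 2), (nat_lit 5), (nat_lit 1), (nat_lit 2)], (nat_lit 7), (nat_lit 2), (nat_lit 0), (nat_lit 3)⟩))) (BT.node (nat_lit 40) (BT.leaf ⟨[(nat_lit 4), (nat_lit 2), (nat_lit 4), (nat_lit 2), (nat_lit 1), (nat_lit 5), (nat_lit 1)], (nat_lit 23), (nat_lit 2), (nat_lit 0), (nat_lit 3)⟩) (BT.node (nat_lit 41) (BT.leaf ⟨[(nat_lit 3), (nat_lit 4), (nat_lit 1), (nat_lit 2), (nat_lit 4), (nat_lit 5), (nat_lit 2)], (nat_lit 9), (nat_lit 5), (nat_lit 0), (nat_lit 3)⟩) (BT.leaf ⟨[(nat_lit 2), (nat_lit 1), (nat_lit 4), (nat_lit 3), (nat_lit 2), (nat_lit 5), (nat_lit 4)], (nat_lit 24), (nat_lit 5), (nat_lit 0), (nat_lit 3)⟩)))) (BT.node (nat_lit 45) (BT.node (nat_lit 43) (BT.leaf ⟨[(nat_lit 5), (nat_lit 2), (nat_lit 5), (nat_lit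 2), (nat_lit 1), (nat_lit 2), (nat_lit 1)], (nat_lit 22), (nat_lit 0), (nat_lit 0), (nat_lit 3)⟩) (BT.node (nat_lit 44) (BT.leaf ⟨[(nat_lit 1), (nat_lit 3), (nat_lit 5), (nat_lit 3), (nat_lit 1), (nat_lit 4)], (nat_lit 5), (nat_lit 0), (nat_lit 0), (nat_lit 3)⟩) (BT.leaf ⟨[(nat_lit 2), (nat_lit 5), (nat_lit 1), (nat_lit 2), (nat_lit 1), (nat_lit 2), (nat_lit 5)], (nat_lit 7), (nat_lit 5), (nat_lit 0), (nat_lit 3)⟩))) (BT.node (nat_lit 47) (BT.node (nat_lit 46) (BT.leaf ⟨[(nat_lit 1), (nat_lit 4), (nat_lit 3), (nat_lit 2), (nat_lit 5), (nat_lit 4), (nat_lit 2)], (nat_lit 24), (nat_lit 6), (nat_lit 0), (nat_lit 3)⟩) (BT.leaf ⟨[(nat_lit 2), (nat_lit 5), (nat_lit 2), (nat_lit 1), (nat_lit 2), (nat_lit 1), (nat_lit 5)], (nat_lit 22), (nat_lit 1), (nat_lit 0), (nat_lit 3)⟩)) (BT.node (nat_lit 48) (BT.leaf ⟨[(nat_lit 2), (nat_lit 5), (nat_lit 4), (nat_lit 2), (nat_lit 1), (nat_lit 4), (nat_lit 3)], (nat_lit 24), (nat_lit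 2), (nat_lit 0), (nat_lit 3)⟩) (BT.leaf ⟨[(nat_lit 2), (nat_lit 1), (nat_lit 2), (nat_lit 5), (nat_lit 2), (nat_lit 5), (nat_lit 1)], (nat_lit 7), (nat_lit 1), (nat_lit 0), (nat_lit 3)⟩)))))))
noncomputable def eA1_hcs : List CW := [⟨[(nat_lit 1)], (nat_lit 0), (nat_lit 0), (nat_lit 0), (nat_lit 0)⟩, ⟨[(nat_lit 5)], (nat_lit 1), (nat_lit 0), (nat_lit 0), (nat_lit 0)⟩, ⟨[(nat_lit 1)], (nat_lit 2), (nat_lit 0), (nat_lit 0), (nat_lit 0)⟩, ⟨[(nat_lit 5)], (nat_lit 3), (nat_lit 0), (nat_lit 0), (nat_lit 0)⟩]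
noncomputable def eA1_H (x j : Nat) : Bx (Nat → Nat → Nat) := mkH eA1_L eA1_pb.1 eA1_e.get (lmap CW.w eA1_hcs) (nat_lit 60) (nat_lit 61) (nat_lit 6) (nat_lit 64) (nat_lit 4096) (nat_lit 4095) x (eA1_rots.get j)
noncomputable def eA1_F (x b : Nat) : Bool := blkOK eA1_H eA1_ch (nat_lit 61) (nat_lit 64) (nat_lit 64) (nat_lit 8) (nat_lit 255) (nat_lit 17) (nat_lit 131071) x b

theorem eA1_k0_0 : allFrom (eA1_F (nat_lit 0)) (nat_lit 0) (nat_lit 4) = true := by decide +kernel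
theorem eA1_k1_0 : allFrom (eA1_F (nat_lit 1)) (nat_lit 0) (nat_lit 4) = true := by decide +kernel
theorem eA1_k2_0 : allFrom (eA1_F (nat_lit 2)) (nat_lit 0) (nat_lit 4) = true := by decide +kernel
theorem eA1_k3_0 : allFrom (eA1_F (nat_lit 3)) (nat_lit 0) (nat_lit 4) = true := by decide +kernel
theorem eA1_k4_0 : allFrom (eA1_F (nat_lit 4)) (nat_lit 0) (nat_lit 4) = true := by decide +kernel
theorem eA1_k5_0 : allFrom (eA1_F (nat_lit 5)) (nat_lit 0) (nat_lit 4) = true := by decide +kernel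
noncomputable def eA2_c0 : BT (Bx Nat) := (BT.leaf (Bx.mk (nat_lit 0x0)))
noncomputable def eA2_c1 : BT (Bx Nat) := (BT.leaf (Bx.mk (nat_lit 0x391c70e86b861400)))
noncomputable def eA2_c2 : BT (Bx Nat) := (BT.leaf (Bx.mk (nat_lit 0x2d4dcea74c321600)))
noncomputable def eA2_p : BT (Bx Nat) := (BT.leaf (Bx.mk (nat_lit 0x1c0660c8248490400000)))
noncomputable def eA2_e : BT Nat := BT.leaf (nat_lit 0)
noncomputable def eA2_cols : List (BT (Bx Nat)) := [eA2_c0, eA2_c1, eA2_c2]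
noncomputable def eA2_ch (x j : Nat) : Bx Nat := chunkG eA2_cols (nat_lit 1) x j
noncomputable def eA2_L (x : Nat) : Bx (Nat → Nat) := lookG eA2_ch (nat_lit 8) (nat_lit 255) (nat_lit 9) (nat_lit 511) x
noncomputable def eA2_pc (_ j : Nat) : Bx Nat := eA2_p.get j
noncomputable def eA2_pb : Bx (Nat → Nat) := lookG eA2_pc (nat_lit 8) (nat_lit 255) (nat_lit 11) (nat_lit 2047) (nat_lit 0)
noncomputable def eA2_rots : BT CW := (BT.node (nat_lit 3) (BT.node (nat_lit 1) (BT.leaf ⟨[], (nat_lit 1000000), (nat_lit 0), (nat_lit 0), (nat_lit 0)⟩) (BT.node (nat_lit 2) (BT.leaf ⟨[], (nat_lit 1000000), (nat_lit 0), (nat_lit 0), (nat_lit 1)⟩) (BT.leaf ⟨[], (nat_lit 1000000), (nat_lit 0), (nat_lit 0), (nat_lit 2)⟩))) (BT.node (nat_lit 4) (BT.leaf ⟨[(nat_lit 1), (nat_lit 1)], (nat_lit 0), (nat_lit 0), (nat_lit 0), (nat_lit 3)⟩) (BT.node (nat_lit 5) (BT.leaf ⟨[(nat_lit 2), (nat_lit 2)], (nat_lit 4), (nat_lit 0), (nat_lit 0), (nat_lit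 3)⟩) (BT.leaf ⟨[(nat_lit 2), (nat_lit 1), (nat_lit 2), (nat_lit 1), (nat_lit 2), (nat_lit 1)], (nat_lit 6), (nat_lit 1), (nat_lit 0), (nat_lit 3)⟩))))
noncomputable def eA2_hcs : List CW := []
noncomputable def eA2_H (x j : Nat) : Bx (Nat → Nat → Nat) := mkH eA2_L eA2_pb.1 eA2_e.get (lmap CW.w eA2_hcs) (nat_lit 6) (nat_lit 7) (nat_lit 3) (nat_lit 8) (nat_lit 64) (nat_lit 511) x (eA2_rots.get j)
noncomputable def eA2_F (x b : Nat) : Bool := blkOK eA2_H eA2_ch (nat_lit 7) (nat_lit 8) (nat_lit 8) (nat_lit 8) (nat_lit 255) (nat_lit 9) (nat_lit 511) x b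

theorem eA2_k0_0 : allFrom (eA2_F (nat_lit 0)) (nat_lit 0) (nat_lit 4) = true := by decide +kernel
theorem eA2_k1_0 : allFrom (eA2_F (nat_lit 1)) (nat_lit 0) (nat_lit 4) = true := by decide +kernel
theorem eA2_k2_0 : allFrom (eA2_F (nat_lit 2)) (nat_lit 0) (nat_lit 4) = true := by decide +kernel
theorem TA_ok : TA.ok = true := by decide +kernel
theorem TA_rel : lall TA.relOK RA = true := by decide +kernel

end CF.J23
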