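import Cfsg.Agent.J23.Rels

set_option autoImplicit false
set_option maxRecDepth 1000000
set_option maxHeartbeats 0
set_option Elab.async false

namespace CF.J23

open CF.Comp CF.Cod

noncomputable def TC_c0 : BT (Bx Nat) := (BT.node (nat_lit 1) (BT.leaf (Bx.mk (nat_lit 0x2322302e2d333942212c1e1d3a29283d243c3b361f2a3231401a252f3f3e37202b3534411b2619181711080c131216070b0a09140f0e0d151006050403010200))) (BT.node (nat_lit 2) (BT.leaf (Bx.mk (nat_lit 0x758a475b566e6a744d807f784e626186857a516581794a5e504f6c6463727189546846457c5a5982877b4b5f53526d676673778b556949487d5d5c8343381c27))) (BT.leaf (Bx.mk (nat_lit 0xbb92b896bfa097bdad989d8cb39f90a8a39cb7a48fa29ab0a78e99acafaaa1bab28db5ae91a9a5b6b9bc959394be9bb1aba69eb44c7e608457706f8844586b76)))))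
noncomputable def TC_c1 : BT (Bx Nat) := (BT.node (nat_lit 1) (BT.leaf (Bx.mk (nat_lit 0x1817823f3e7c7179113713127235346c196463680c2b5a595e0b262f504f54082046454a071b243c3b400415323136031006052a250e0d1f1a0a09140f000201))) (BT.node (nat_lit 2) (BT.leaf (Bx.mk (nat_lit 0x7abd3a7d38947b85399fb2a43373779e8a9c306db3b72c692e2d8e6766b0a7ad275f2928a85d5ca69da3215523227053529a8f971c4b1e1d9049488c81891641))) (BT.leaf (Bx.mk (nat_lit 0x9278ac74966f6abfb96e6b65b58862b16076af7e61845ba9ab8656bca59357bbae51a1b64e9b4caa99a04d7f80b8479195b4448d42ba8b754358be983d8387a2)))))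
noncomputable def TC_c2 : BT (Bx Nat) := (BT.node (nat_lit 1) (BT.leaf (Bx.mk (nat_lit 0x3c3b8318177d777b361132317313126d246766692a0c5d5c5f250b195352551f0849484b1a072f3f3e4114043534370f030a092b260605201b0e0d1510010002))) (BT.node (nat_lit 2) (BT.leaf (Bx.mk (nat_lit 0x94ac7c3a797f38be71ae88bc72333951bab66c30b5b9682c6463b42e2db1abaf5e275a59a9292886a1a55421504f9e23229b95994a1c4645911e1d8d878b4016))) (BT.leaf (Bx.mk (nat_lit 0xb8857ea4a08ab7926a9cb38e6b75b062ad9f60bda798a85b6158a37456809d967670576e9a4e97844cbb8f7aa2bf90474d658c44896f42b281a678aa823d4393)))))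
noncomputable def TC_c3 : BT (Bx Nat) := (BT.node (nat_lit 1) (BT.leaf (Bx.mk (nat_lit 0x868515807f1419437a784645745d5c6e616a270c65620e0d2d0f1b4d561c08514e0a09222510394211043d3a0605171a2629282c021e1d2101131216000b0703))) (BT.node (nat_lit 2) (BT.leaf (Bx.mk (nat_lit 0x3b6682419137b8368fbd4433afb3ab9b5b3053a3602eb0b48d7e2bb29f2a2f6baeac32316f4948934c239a9e6da0209c841f245798965a599235347538187c83))) (BT.leaf (Bx.mk (nat_lit 0x879476b5aaa188798ca5bc6872648e69735fa45e71bb999d9589b6ad6c8bba526354a8507055a94b8a4aa7be58477b8177b167b7a297a6b9bf3f3e4f407d903c)))))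
noncomputable def TC_c5 : BT (Bx Nat) := (BT.node (nat_lit 1) (BT.leaf (Bx.mk (nat_lit 0x504f8467667e42136c73767510706f0f6b0e0d281420602c0b5b58570a091d2a154c21074744430605121f2b38160333302e2d02272322011c181700110c0804))) (BT.node (nat_lit 2) (BT.leaf (Bx.mk (nat_lit 0x653a95a39e97aeb9b1353445366dbb32315c72372f61b8b63c3b7f5352a06a29a6a9aa6e26829225244da4a264639f3f3e85561e8c9194931b8e741a19398a88))) (BT.leaf (Bx.mk (nat_lit 0x9ca78f8071b278699a688199a1ba7789837998a59b5d5e86be5fac557c54b362517b87bfabb7b4ad7a8b7d4948594a8dbd46904b9641b0409da84e3daf5ab5bc)))))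
noncomputable def TC_c7 : BT (Bx Nat) := (BT.node (nat_lit 1) (BT.leaf (Bx.mk (nat_lit 0x87158581147f13424140771075710f6f0e6b0c276663610b2c5c590a57081c524f4d07214845064304113e3b39031634312f022d282401221d190017120d0905))) (BT.node (nat_lit 2) (BT.leaf (Bx.mk (nat_lit 0x3a65947a8b7c898335b1334488b232bb305bba8a2e605f5eb52b7eb32a9f296a6968ab266ea72592234c4b4aa120a09d1f841e565554951b938f1a7418383736))) (BT.leaf (Bx.mk (nat_lit 0x86828e8d706dafa6ada967ac647276aeb9b0b7b45d9bb69c5ab8998c97915351629650a8aa98a59aa39e497d4758a28046bdbca47b6c79733fbf3d4e78be3c90)))))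
noncomputable def TC_c9 : BT (Bx Nat) := (BT.node (nat_lit 1) (BT.leaf (Bx.mk (nat_lit 0x15878614818012117b791077760f71700d0c6b6a67640b61605d5a090857565350074d4c4946050443423f3c0339383532022f2e290124231e001918130e0a06))) (BT.node (nat_lit 2) (BT.leaf (Bx.mk (nat_lit 0x90bc93a2379136b83433b1bdae9f3130bb9b519e2d2cb9b72bb58d2ab3b22827afad26abaa25a7822221a5a320a16d1f9d9c1d1c99971b95941a8f8e17168b89))) (BT.leaf (Bx.mk (nat_lit 0x8592747e6fa06978689a668c636275885f735ea45c5b9884598355ac547c52ba726c4f4e6eb64ba94a8a48477dbe7a7f454465b4419640b03e3dbfa8a6583b3a)))))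
noncomputable def TC_w : BT (Bx Nat) := (BT.node (nat_lit 1) (BT.leaf (Bx.mk (nat_lit 0x925007250032500915007150031500973009530025300153009230072300523009130071300513009720095200752003520025200152009320073200532002320013200971009510075100351002510015100931007310053100231001310009700095000750003500025000150009300073000530002300013000920007200052000320009100071000510003100009000070000500003000020000100000))) (BT.node (nat_lit 2) (BT.leaf (Bx.mk (nat_lit 0x7315053150231501315092530325309153031530972309523075230352302523015230971309513075130351302513015130975209352023520135209252072520325209152071520315209732095320253201532092320723205232091320713205132097510935102351013510925107251032510915107151031510973109531025310153109231072310523109131071310513100975009350023500135))) (BT.leaf (Bx.mk (nat_lit 0x97325231539352323523975137251392352523529135251352972522325297152931522315213152925323253291532315329723295232252321523297132151329235152351913515135197251732515325123251971519315123151131519253132531915313153197231952317523135231252311523197131951312513115131092350523509135051350972509325073250532502325013250971509315)))))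
noncomputable def TC_cols : List (BT (Bx Nat)) := [TC_c0, TC_c1, TC_c2, TC_c3, TC_c3, TC_c5, TC_c5, TC_c7, TC_c7, TC_c9, TC_c9]
noncomputable def TC_ch (x j : Nat) : Bx Nat := chk TC_cols x j
noncomputable def TC_wc (_ j : Nat) : Bx Nat := TC_w.get j
noncomputable def TC : CT := ⟨(nat_lit 192), (nat_lit 8), (nat_lit 255), TC_ch, (nat_lit 20), (nat_lit 1048575), TC_wc, (nat_lit 2046)⟩
noncomputable def eC1_c0 : BT (Bx Nat) := (BT.leaf (Bx.mk (nat_lit 0x14a92c0400000000000000000000000000000000000000000000000000000000000000000000)))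
noncomputable def eC1_c1 : BT (Bx Nat) := (BT.leaf (Bx.mk (nat_lit 0x1c520000610f690a81074948510d816ea0300869534c896b99029146a0518903a025a0610000)))
noncomputable def eC1_c2 : BT (Bx Nat) := (BT.leaf (Bx.mk (nat_lit 0x243298e498ea6b3078eb598c48e880e7730f086940ed898e88e598e220649183a02698e10000)))
noncomputable def eC1_c3 : BT (Bx Nat) := (BT.leaf (Bx.mk (nat_lit 0x1c920000792e4b6882509926612b6acc99250869412f9922a02da02a2be481e3a027a0610000)))
noncomputable def eC1_c4 : BT (Bx Nat) := (BT.leaf (Bx.mk (nat_lit 0x246f3ba87a6a1bd27a2b588c626d708e7090086f33d191a388859206206888879881a0220000)))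
noncomputable def eC1_c5 : BT (Bx Nat) := (BT.leaf (Bx.mk (nat_lit 0x98a4000068ad4b8898a67290628a98a558ac086440af88a2a02ea02ba05298a191c7a0230000)))
noncomputable def eC1_c6 : BT (Bx Nat) := (BT.leaf (Bx.mk (nat_lit 0x7aae98c770d092a698c56aea60cb98c398c2a02f88cda02c98c1a029a028a0240000)))
noncomputable def eC1_p : BT (Bx Nat) := (BT.leaf (Bx.mk (nat_lit 0x110544062816719985660d94665159434319086420d082420484621148440000000)))
noncomputable def eC1_e0 : BT Nat := (BT.node (nat_lit 577) (BT.node (nat_lit 258) (BT.node (nat_lit 67) (BT.leaf (nat_lit 2)) (BT.leaf (nat_lit 262146))) (BT.node (nat_lit 260) (BT.leaf (nat_lit 68)) (BT.leaf (nat_lit 68)))) (BT.node (nat_lit 579) (BT.node (nat_lit 578) (BT.leaf (nat_lit 72)) (BT.leaf (nat_lit 72))) (BT.node (nat_lit 580) (BT.leaf (nat_lit 72)) (BT.node (nat_lit 581) (BT.leaf (nat_lit 72)) (BT.leaf (nat_lit 72))))))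
noncomputable def eC1_e : BT Nat := eC1_e0
noncomputable def eC1_cols : List (BT (Bx Nat)) := [eC1_c0, eC1_c1, eC1_c2, eC1_c3, eC1_c4, eC1_c5, eC1_c6]
noncomputable def eC1_ch (x j : Nat) : Bx Nat := chunkG eC1_cols (nat_lit 1) x j
noncomputable def eC1_L (x : Nat) : Bx (Nat → Nat) := lookG eC1_ch (nat_lit 8) (nat_lit 255) (nat_lit 16) (nat_lit 65535) x
noncomputable def eC1_pc (_ j : Nat) : Bx Nat := eC1_p.get j
noncomputable def eC1_pb : Bx (Nat → Nat) := lookG eC1_pc (nat_lit 8) (nat_lit 255) (nat_lit 14) (nat_lit 16383) (nat_lit 0)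
noncomputable def eC1_rots : BT CW := (BT.node (nat_lit 18) (BT.node (nat_lit 9) (BT.node (nat_lit 4) (BT.node (nat_lit 2) (BT.node (nat_lit 1) (BT.leaf ⟨[], (nat_lit 1000000), (nat_lit 0), (nat_lit 0), (nat_lit 0)⟩) (BT.leaf ⟨[], (nat_lit 1000000), (nat_lit 0), (nat_lit 0), (nat_lit 1)⟩)) (BT.node (nat_lit 3) (BT.leaf ⟨[], (nat_lit 1000000), (nat_lit 0), (nat_lit 0), (nat_lit 2)⟩) (BT.leaf ⟨[(nat_lit 4), (nat_lit 4)], (nat_lit 1), (nat_lit 0), (nat_lit 0), (nat_lit 3)⟩))) (BT.node (nat_lit 6) (BT.node (nat_lit 5) (BT.leaf ⟨[(nat_lit 5), (nat_lit 5)], (nat_lit 2), (nat_lit 0), (nat_lit 0), (nat_lit 3)⟩) (BT.leaf ⟨[(nat_lit 6), (nat_lit 6)], (nat_lit 3), (nat_lit 0), (nat_lit 0), (nat_lit 3)⟩)) (BT.node (nat_lit 7) (BT.leaf ⟨[(nat_lit 2), (nat_lit 1)], (nat_lit 14), (nat_lit 1), (nat_lit 0), (nat_lit 3)⟩) (BT.node (nat_lit 8) (BT.leaf ⟨[(nat_lit 1), (nat_lit 2)], (nat_lit 14), (nat_lit 0), (nat_lit 0),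 (nat_lit 3)⟩) (BT.leaf ⟨[(nat_lit 3), (nat_lit 3)], (nat_lit 0), (nat_lit 0), (nat_lit 0), (nat_lit 3)⟩))))) (BT.node (nat_lit 13) (BT.node (nat_lit 11) (BT.node (nat_lit 10) (BT.leaf ⟨[(nat_lit 1), (nat_lit 1), (nat_lit 1)], (nat_lit 4), (nat_lit 0), (nat_lit 0), (nat_lit 3)⟩) (BT.leaf ⟨[(nat_lit 1), (nat_lit 5), (nat_lit 2), (nat_lit 5)], (nat_lit 5), (nat_lit 0), (nat_lit 0), (nat_lit 3)⟩)) (BT.node (nat_lit 12) (BT.leaf ⟨[(nat_lit 2), (nat_lit 5), (nat_lit 1), (nat_lit 5)], (nat_lit 5), (nat_lit 2), (nat_lit 0), (nat_lit 3)⟩) (BT.leaf ⟨[(nat_lit 4), (nat_lit 5), (nat_lit 3), (nat_lit 4), (nat_lit 3)], (nat_lit 6), (nat_lit 3), (nat_lit 0), (nat_lit 3)⟩))) (BT.node (nat_lit 15) (BT.node (nat_lit 14) (BT.leaf ⟨[(nat_lit 5), (nat_lit 3), (nat_lit 4), (nat_lit 3), (nat_lit 4)], (nat_lit 6), (nat_lit 4), (nat_lit 0), (nat_lit 3)⟩) (BT.leaf ⟨[(nat_lit 3), (nat_lit 4), (nat_lit 5), (nat_lit 3), (nat_lit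 4)], (nat_lit 6), (nat_lit 2), (nat_lit 0), (nat_lit 3)⟩)) (BT.node (nat_lit 16) (BT.leaf ⟨[(nat_lit 4), (nat_lit 1), (nat_lit 4), (nat_lit 1), (nat_lit 4), (nat_lit 1)], (nat_lit 8), (nat_lit 1), (nat_lit 0), (nat_lit 3)⟩) (BT.node (nat_lit 17) (BT.leaf ⟨[(nat_lit 4), (nat_lit 2), (nat_lit 4), (nat_lit 2), (nat_lit 4), (nat_lit 2)], (nat_lit 23), (nat_lit 0), (nat_lit 0), (nat_lit 3)⟩) (BT.leaf ⟨[(nat_lit 3), (nat_lit 2), (nat_lit 3), (nat_lit 2), (nat_lit 3), (nat_lit 2)], (nat_lit 22), (nat_lit 0), (nat_lit 0), (nat_lit 3)⟩)))))) (BT.node (nat_lit 27) (BT.node (nat_lit 22) (BT.node (nat_lit 20) (BT.node (nat_lit 19) (BT.leaf ⟨[(nat_lit 4), (nat_lit 3), (nat_lit 4), (nat_lit 5), (nat_lit 3)], (nat_lit 6), (nat_lit 1), (nat_lit 0), (nat_lit 3)⟩) (BT.leaf ⟨[(nat_lit 5), (nat_lit 4), (nat_lit 3), (nat_lit 4), (nat_lit 3)], (nat_lit 21), (nat_lit 0), (nat_lit 0), (nat_lit 3)⟩)) (BT.node (nat_lit 21) (BT.leaf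 ⟨[(nat_lit 6), (nat_lit 1), (nat_lit 4), (nat_lit 2), (nat_lit 3), (nat_lit 1), (nat_lit 4), (nat_lit 2), (nat_lit 3)], (nat_lit 9), (nat_lit 8), (nat_lit 0), (nat_lit 3)⟩) (BT.leaf ⟨[(nat_lit 3), (nat_lit 6), (nat_lit 1), (nat_lit 4), (nat_lit 2), (nat_lit 3), (nat_lit 1), (nat_lit 4), (nat_lit 2)], (nat_lit 9), (nat_lit 7), (nat_lit 0), (nat_lit 3)⟩))) (BT.node (nat_lit 24) (BT.node (nat_lit 23) (BT.leaf ⟨[(nat_lit 6), (nat_lit 3), (nat_lit 1), (nat_lit 4), (nat_lit 2), (nat_lit 3), (nat_lit 1), (nat_lit 4), (nat_lit 2)], (nat_lit 24), (nat_lit 0), (nat_lit 0), (nat_lit 3)⟩) (BT.leaf ⟨[(nat_lit 2), (nat_lit 6), (nat_lit 3), (nat_lit 1), (nat_lit 4), (nat_lit 2), (nat_lit 3), (nat_lit 1), (nat_lit 4)], (nat_lit 24), (nat_lit 8), (nat_lit 0), (nat_lit 3)⟩)) (BT.node (nat_lit 25) (BT.leaf ⟨[(nat_lit 2), (nat_lit 2), (nat_lit 2)], (nat_lit 19), (nat_lit 0), (nat_lit 0), (nat_lit 3)⟩) (BT.node (nat_lit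 26) (BT.leaf ⟨[(nat_lit 1), (nat_lit 4), (nat_lit 2), (nat_lit 3), (nat_lit 1), (nat_lit 4), (nat_lit 2), (nat_lit 3), (nat_lit 6)], (nat_lit 9), (nat_lit 0), (nat_lit 0), (nat_lit 3)⟩) (BT.leaf ⟨[(nat_lit 3), (nat_lit 1), (nat_lit 4), (nat_lit 2), (nat_lit 3), (nat_lit 1), (nat_lit 4), (nat_lit 2), (nat_lit 6)], (nat_lit 24), (nat_lit 1), (nat_lit 0), (nat_lit 3)⟩))))) (BT.node (nat_lit 32) (BT.node (nat_lit 29) (BT.node (nat_lit 28) (BT.leaf ⟨[(nat_lit 5), (nat_lit 1), (nat_lit 5), (nat_lit 2)], (nat_lit 5), (nat_lit 3), (nat_lit 0), (nat_lit 3)⟩) (BT.leaf ⟨[(nat_lit 4), (nat_lit 2), (nat_lit 3), (nat_lit 1), (nat_lit 4), (nat_lit 2), (nat_lit 3), (nat_lit 6), (nat_lit 1)], (nat_lit 9), (nat_lit 1), (nat_lit 0), (nat_lit 3)⟩)) (BT.node (nat_lit 30) (BT.leaf ⟨[(nat_lit 4), (nat_lit 4)], (nat_lit 1), (nat_lit 0), (nat_lit 0), (nat_lit 5)⟩) (BT.node (nat_lit 31) (BT.leaf ⟨[(nat_lit 3), (nat_lit 1), (nat_lit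 4), (nat_lit 2), (nat_lit 3), (nat_lit 6), (nat_lit 1), (nat_lit 4), (nat_lit 2)], (nat_lit 9), (nat_lit 3), (nat_lit 0), (nat_lit 3)⟩) (BT.leaf ⟨[(nat_lit 0), (nat_lit 1), (nat_lit 4), (nat_lit 1), (nat_lit 4), (nat_lit 1), (nat_lit 4)], (nat_lit 8), (nat_lit 0), (nat_lit 1), (nat_lit 3)⟩)))) (BT.node (nat_lit 34) (BT.node (nat_lit 33) (BT.leaf ⟨[(nat_lit 2), (nat_lit 5), (nat_lit 1), (nat_lit 5)], (nat_lit 5), (nat_lit 2), (nat_lit 0), (nat_lit 5)⟩) (BT.leaf ⟨[(nat_lit 1), (nat_lit 2)], (nat_lit 14), (nat_lit 0), (nat_lit 0), (nat_lit 4)⟩)) (BT.node (nat_lit 35) (BT.leaf ⟨[(nat_lit 4), (nat_lit 3), (nat_lit 4), (nat_lit 3), (nat_lit 5)], (nat_lit 21), (nat_lit 1), (nat_lit 0), (nat_lit 5)⟩) (BT.node (nat_lit 36) (BT.leaf ⟨[(nat_lit 3), (nat_lit 4), (nat_lit 3), (nat_lit 4), (nat_lit 5)], (nat_lit 6), (nat_lit 0), (nat_lit 0), (nat_lit 5)⟩) (BT.leaf ⟨[(nat_lit 0), (nat_lit 6), (nat_lit 1), (nat_lit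 4), (nat_lit 2), (nat_lit 3), (nat_lit 1), (nat_lit 4), (nat_lit 2), (nat_lit 3)], (nat_lit 9), (nat_lit 8), (nat_lit 1), (nat_lit 3)⟩)))))))
noncomputable def eC1_hcs : List CW := [⟨[(nat_lit 1)], (nat_lit 0), (nat_lit 0), (nat_lit 0), (nat_lit 0)⟩, ⟨[(nat_lit 3)], (nat_lit 1), (nat_lit 0), (nat_lit 0), (nat_lit 0)⟩, ⟨[(nat_lit 2)], (nat_lit 2), (nat_lit 0), (nat_lit 0), (nat_lit 0)⟩, ⟨[(nat_lit 3)], (nat_lit 3), (nat_lit 0), (nat_lit 0), (nat_lit 0)⟩]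
noncomputable def eC1_H (x j : Nat) : Bx (Nat → Nat → Nat) := mkH eC1_L eC1_pb.1 eC1_e.get (lmap CW.w eC1_hcs) (nat_lit 16) (nat_lit 17) (nat_lit 7) (nat_lit 32) (nat_lit 2048) (nat_lit 2047) x (eC1_rots.get j)
noncomputable def eC1_F (x b : Nat) : Bool := blkOK eC1_H eC1_ch (nat_lit 17) (nat_lit 32) (nat_lit 64) (nat_lit 8) (nat_lit 255) (nat_lit 16) (nat_lit 65535) x b

theorem eC1_k0_0 : allFrom (eC1_F (nat_lit 0)) (nat_lit 0) (nat_lit 4) = true := by decide +kernel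
theorem eC1_k1_0 : allFrom (eC1_F (nat_lit 1)) (nat_lit 0) (nat_lit 4) = true := by decide +kernel
theorem eC1_k2_0 : allFrom (eC1_F (nat_lit 2)) (nat_lit 0) (nat_lit 4) = true := by decide +kernel
theorem eC1_k3_0 : allFrom (eC1_F (nat_lit 3)) (nat_lit 0) (nat_lit 4) = true := by decide +kernel
theorem eC1_k4_0 : allFrom (eC1_F (nat_lit 4)) (nat_lit 0) (nat_lit 4) = true := by decide +kernel
theorem eC1_k5_0 : allFrom (eC1_F (nat_lit 5)) (nat_lit 0) (nat_lit 4) = true := by decide +kernel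
theorem eC1_k6_0 : allFrom (eC1_F (nat_lit 6)) (nat_lit 0) (nat_lit 4) = true := by decide +kernel
noncomputable def eC2_c0 : BT (Bx Nat) := (BT.leaf (Bx.mk (nat_lit 0x0)))
noncomputable def eC2_c1 : BT (Bx Nat) := (BT.leaf (Bx.mk (nat_lit 0x5568f95563d5548f186f0ce17aa31cf09000)))
noncomputable def eC2_c2 : BT (Bx Nat) := (BT.leaf (Bx.mk (nat_lit 0x34ba8cd26a2b47a898730d61868550709800)))
noncomputable def eC2_c3 : BT (Bx Nat) := (BT.leaf (Bx.mk (nat_lit 0x4972d4a6e443696d958eb1561c2d8570a000)))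
noncomputable def eC2_p : BT (Bx Nat) := (BT.leaf (Bx.mk (nat_lit 0xd82d81d42d419029018c3883443442441000000)))
noncomputable def eC2_e : BT Nat := BT.leaf (nat_lit 0)
noncomputable def eC2_cols : List (BT (Bx Nat)) := [eC2_c0, eC2_c1, eC2_c2, eC2_c3]
noncomputable def eC2_ch (x j : Nat) : Bx Nat := chunkG eC2_cols (nat_lit 1) x j
noncomputable def eC2_L (x : Nat) : Bx (Nat → Nat) := lookG eC2_ch (nat_lit 8) (nat_lit 255) (nat_lit 11) (nat_lit 2047) x
noncomputable def eC2_pc (_ j : Nat) : Bx Nat := eC2_p.get j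
noncomputable def eC2_pb : Bx (Nat → Nat) := lookG eC2_pc (nat_lit 8) (nat_lit 255) (nat_lit 12) (nat_lit 4095) (nat_lit 0)
noncomputable def eC2_rots : BT CW := (BT.node (nat_lit 4) (BT.node (nat_lit 2) (BT.node (nat_lit 1) (BT.leaf ⟨[], (nat_lit 1000000), (nat_lit 0), (nat_lit 0), (nat_lit 0)⟩) (BT.leaf ⟨[], (nat_lit 1000000), (nat_lit 0), (nat_lit 0), (nat_lit 1)⟩)) (BT.node (nat_lit 3) (BT.leaf ⟨[], (nat_lit 1000000), (nat_lit 0), (nat_lit 0), (nat_lit 2)⟩) (BT.leaf ⟨[(nat_lit 2), (nat_lit 1)], (nat_lit 14), (nat_lit 1), (nat_lit 0), (nat_lit 3)⟩))) (BT.node (nat_lit 6) (BT.node (nat_lit 5) (BT.leaf ⟨[(nat_lit 1), (nat_lit 2)], (nat_lit 14), (nat_lit 0), (nat_lit 0), (nat_lit 3)⟩) (BT.leaf ⟨[(nat_lit 3), (nat_lit 3)], (nat_lit 0), (nat_lit 0), (nat_lit 0), (nat_lit 3)⟩)) (BT.node (nat_lit 7) (BT.leaf ⟨[(nat_lit 1), (nat_lit 1), (nat_lit 1)], (nat_lit 4), (nat_lit 0), (nat_lit 0), (nat_lit 3)⟩) (BT.node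 (nat_lit 8) (BT.leaf ⟨[(nat_lit 3), (nat_lit 1), (nat_lit 3), (nat_lit 1), (nat_lit 3), (nat_lit 1)], (nat_lit 7), (nat_lit 1), (nat_lit 0), (nat_lit 3)⟩) (BT.leaf ⟨[(nat_lit 3), (nat_lit 2), (nat_lit 3), (nat_lit 2), (nat_lit 3), (nat_lit 2)], (nat_lit 22), (nat_lit 0), (nat_lit 0), (nat_lit 3)⟩)))))
noncomputable def eC2_hcs : List CW := []
noncomputable def eC2_H (x j : Nat) : Bx (Nat → Nat → Nat) := mkH eC2_L eC2_pb.1 eC2_e.get (lmap CW.w eC2_hcs) (nat_lit 12) (nat_lit 13) (nat_lit 4) (nat_lit 16) (nat_lit 256) (nat_lit 1023) x (eC2_rots.get j)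
noncomputable def eC2_F (x b : Nat) : Bool := blkOK eC2_H eC2_ch (nat_lit 13) (nat_lit 16) (nat_lit 16) (nat_lit 8) (nat_lit 255) (nat_lit 11) (nat_lit 2047) x b

theorem eC2_k0_0 : allFrom (eC2_F (nat_lit 0)) (nat_lit 0) (nat_lit 4) = true := by decide +kernel
theorem eC2_k1_0 : allFrom (eC2_F (nat_lit 1)) (nat_lit 0) (nat_lit 4) = true := by decide +kernel
theorem eC2_k2_0 : allFrom (eC2_F (nat_lit 2)) (nat_lit 0) (nat_lit 4) = true := by decide +kernel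
theorem eC2_k3_0 : allFrom (eC2_F (nat_lit 3)) (nat_lit 0) (nat_lit 4) = true := by decide +kernel
theorem TC_ok : TC.ok = true := by decide +kernel
theorem TC_rel : lall TC.relOK RC = true := by decide +kernel

end CF.J23
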