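import Cfsg.Agent.J23.Rels

set_option autoImplicit false
set_option maxRecDepth 1000000
set_option maxHeartbeats 0
set_option Elab.async false

namespace CF.J23

open CF.Comp CF.Cod

noncomputable def TP_c0 : BT (Bx Nat) := (BT.node (nat_lit 1) (BT.leaf (Bx.mk (nat_lit 0x572d1f53493a1a5045284c413325593022563e2c1e4f44364b403224582f21553d2b1d5248391914110d09180c0817100b0716130f0615120e0a050403020100))) (BT.node (nat_lit 2) (BT.leaf (Bx.mk (nat_lit 0x5e84a471669a92a68b706e8e69627c7680758160836a73a3677b5d9c9472976ca17f655c5a5b31233f2e204a3c1c47382a4e433527543b1b514637294d423426))) (BT.leaf (Bx.mk (nat_lit 0x9f78a57d68a05fa2a7918d64887a899361908c6398799e9685749d957787999b8a828f7e6b866d6f)))))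
noncomputable def TP_c1 : BT (Bx Nat) := (BT.node (nat_lit 1) (BT.leaf (Bx.mk (nat_lit 0x8e7f102e812a0f2c835b5149460d45500c3c4d380b3a544a757372096e6c086967650762605d06585552054b4804403d3903322f2b0224211d1915120e0a0001))) (BT.node (nat_lit 2) (BT.leaf (Bx.mk (nat_lit 0x3e88984753958a878c4e27a7262564a55e2363226142209f1f5f1e716d1c6b1b666f1a4f36449718a3a117297b1635305c762d9c142834137c33315a806a9411))) (BT.leaf (Bx.mk (nat_lit 0x7491708f57a056a26892854c8696827d599a7a418d9ea68ba43f93779079847e789b9d8937993b43)))))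
noncomputable def TP_c3 : BT (Bx Nat) := (BT.node (nat_lit 1) (BT.leaf (Bx.mk (nat_lit 0x8f10706b20245b1b270e86840d62820c5d7e6a0b6072656c3753093a47084a3b4307544638500a5956054f4c0444413e033633302c1925221e0116130f000602))) (BT.node (nat_lit 2) (BT.leaf (Bx.mk (nat_lit 0xa52ea0777a7b83817c808a93952a493d4d8c51283c2d878d4e4529899b32882b99422f52394818a6a4178b1d265c6d1a15676f149a21715a231c66121f5e1192))) (BT.leaf (Bx.mk (nat_lit 0x9f587f578e85907da7949896634b5f9d919c739e744097a13fa3686e557564616935a23479317876)))))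
noncomputable def TP_c5 : BT (Bx Nat) := (BT.node (nat_lit 1) (BT.leaf (Bx.mk (nat_lit 0x9077318c8b0f8a735987850d83483d554b7f0c244a79760a7409562c6f6d6b6a084f0e635e065a570553504d494542043a1d342d0228261f011a1710000b0703))) (BT.node (nat_lit 2) (BT.leaf (Bx.mk (nat_lit 0x2e75647186682a703e297e2738847c78236022622120407a619aa67d1c6c676e801b4491a519379918253092169b9c151e9e149d2f2b13329897125d96119569))) (BT.leaf (Bx.mk (nat_lit 0x88655b93828d898f944e4c51526658474643419fa4545c3fa081a23c3b39a1a7367b357233a38e5f)))))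
noncomputable def TP_c7 : BT (Bx Nat) := (BT.node (nat_lit 1) (BT.leaf (Bx.mk (nat_lit 0x9120618d0f8b65220e250d852158671352800b7c7b7a0a76097436717038333e07415964065e5b055754514e304643033b3735022d2927011f1b1800100c0804))) (BT.node (nat_lit 2) (BT.leaf (Bx.mk (nat_lit 0x5f6c632c2b2a686f6a2862266d6024237884737e8377a479318f391c7d753d727f1aa19019a51d3217874916922f159c95149e829b8655998812978911961e93))) (BT.leaf (Bx.mk (nat_lit 0x988a5a699d8c5d9a8e4da3504ba048a745424f8140533f5c669f3ca23aa64447564a346e6b4c942e)))))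
noncomputable def TP_c9 : BT (Bx Nat) := (BT.node (nat_lit 1) (BT.leaf (Bx.mk (nat_lit 0x1079640f45322b0e8988677f163a0c1d810b7d40390a7877706a461508444c0768663006615f5c4e423324044a47033f3c3802312e2a0123201c0014110d0905))) (BT.node (nat_lit 2) (BT.leaf (Bx.mk (nat_lit 0x34922d4ba16f3e292874a37655528e277a9ca69a4126501f351e5d3d804f1b941a8565199e9686a7a5a27382a0729f69621890217c138a8c12253b2291176b2c))) (BT.leaf (Bx.mk (nat_lit 0x586d578475567b53515b956e936c878b8d5a9d609b7e434d837197489849373699595ea48f542f63)))))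
noncomputable def TP_w : BT (Bx Nat) := (BT.node (nat_lit 1) (BT.leaf (Bx.mk (nat_lit 0x975037501750935073505350135091507150315079305930393019309730373017309530753035301530913071305130791059103910191097103710171095107510351015109310731053101310079005900390019009700370017009500750035001500930073005300130091007100510031000900070005000300010000))) (BT.node (nat_lit 2) (BT.leaf (Bx.mk (nat_lit 0x5953395397537353715379135913971395137513179175911591139171917971597119715371137151715951195197511751935113517931593119319731173195317531153191317131513103790179075903590159073905390139071905190319079705970397019709370537013709170717051703170795059503950195))) (BT.leaf (Bx.mk (nat_lit 0x9179317997593759175993591359953997197597539713977197319771375917751775955395139571953195797559753975197579355935753551359715931553153793759335935393397391737953)))))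
noncomputable def TP_cols : List (BT (Bx Nat)) := [TP_c0, TP_c1, TP_c1, TP_c3, TP_c3, TP_c5, TP_c5, TP_c7, TP_c7, TP_c9, TP_c9]
noncomputable def TP_ch (x j : Nat) : Bx Nat := chk TP_cols x j
noncomputable def TP_wc (_ j : Nat) : Bx Nat := TP_w.get j
noncomputable def TP : CT := ⟨(nat_lit 168), (nat_lit 8), (nat_lit 255), TP_ch, (nat_lit 16), (nat_lit 65535), TP_wc, (nat_lit 2046)⟩
noncomputable def eP1_c0 : BT (Bx Nat) := (BT.leaf (Bx.mk (nat_lit 0x14b06c19149500000000000000000000000000000000000000000000000000000000000000000000000000000000000000000000000000000000000000000000)))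
noncomputable def eP1_c1 : BT (Bx Nat) := (BT.leaf (Bx.mk (nat_lit 0x7bdaa8ef0000a8f531db73ff606f80ee51f17a6bb03c6a54a8e78a4848f7087ab05e8a3889cda8e470f691e6a8e380f2b03388eaa8e2b02cb029b025b0610000)))
noncomputable def eP1_c2 : BT (Bx Nat) := (BT.leaf (Bx.mk (nat_lit 0xa90f000000003bbc41159aae791882d9410b71124b9ba907621379969a88086fb05f911aa904918c4a17a90381059111b034a9028a09b02db02ab026b0610000)))
noncomputable def eP1_c3 : BT (Bx Nat) := (BT.leaf (Bx.mk (nat_lit 0x6c3f0000000038971c7ba88d6891a88a417ca889288f5888592b6972733908703135a884b03a98865093b038b03661745883a16ca125b02e6367a881b0220000)))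
noncomputable def eP1_c4 : BT (Bx Nat) := (BT.leaf (Bx.mk (nat_lit 0xa8ae22fca8b268b6a8ac23583af7735a086e30a842ebb03ba8a6a8a5a8a4b05d7ae9b03938b3734a70ad3b54a8a2b031b030b02fa8a1b027b0230000)))
noncomputable def eP1_c5 : BT (Bx Nat) := (BT.leaf (Bx.mk (nat_lit 0x6c5f000000002b1918da231b20dc71b8a8c940d1a8c781ae48cfa8c649560870531378d4830da14ca8c3a1a5b037a8c2b035b03298caa8c1b02bb028b0240000)))
noncomputable def eP1_p : BT (Bx Nat) := (BT.leaf (Bx.mk (nat_lit 0x6f09bc16e125419211b436c11a836915a4367159c2670598566119444411103440910143150c243050854211082420484521108430000000)))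
noncomputable def eP1_e0 : BT Nat := (BT.node (nat_lit 1027) (BT.node (nat_lit 1025) (BT.node (nat_lit 66) (BT.leaf (nat_lit 2)) (BT.leaf (nat_lit 262146))) (BT.node (nat_lit 1026) (BT.leaf (nat_lit 124)) (BT.leaf (nat_lit 124)))) (BT.node (nat_lit 1348) (BT.node (nat_lit 1029) (BT.leaf (nat_lit 124)) (BT.leaf (nat_lit 124))) (BT.node (nat_lit 1601) (BT.leaf (nat_lit 116)) (BT.leaf (nat_lit 120)))))
noncomputable def eP1_e : BT Nat := eP1_e0
noncomputable def eP1_cols : List (BT (Bx Nat)) := [eP1_c0, eP1_c1, eP1_c2, eP1_c3, eP1_c4, eP1_c5]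
noncomputable def eP1_ch (x j : Nat) : Bx Nat := chunkG eP1_cols (nat_lit 1) x j
noncomputable def eP1_L (x : Nat) : Bx (Nat → Nat) := lookG eP1_ch (nat_lit 8) (nat_lit 255) (nat_lit 16) (nat_lit 65535) x
noncomputable def eP1_pc (_ j : Nat) : Bx Nat := eP1_p.get j
noncomputable def eP1_pb : Bx (Nat → Nat) := lookG eP1_pc (nat_lit 8) (nat_lit 255) (nat_lit 14) (nat_lit 16383) (nat_lit 0)
noncomputable def eP1_rots : BT CW := (BT.node (nat_lit 18) (BT.node (nat_lit 9) (BT.node (nat_lit 4) (BT.node (nat_lit 2) (BT.node (nat_lit 1) (BT.leaf ⟨[], (nat_lit 1000000), (nat_lit 0), (nat_lit 0), (nat_lit 0)⟩) (BT.leaf ⟨[], (nat_lit 1000000), (nat_lit 0), (nat_lit 0), (nat_lit 1)⟩)) (BT.node (nat_lit 3) (BT.leaf ⟨[], (nat_lit 1000000), (nat_lit 0), (nat_lit 0), (nat_lit 2)⟩) (BT.leaf ⟨[(nat_lit 3), (nat_lit 3)], (nat_lit 2), (nat_lit 0), (nat_lit 0), (nat_lit 3)⟩))) (BT.node (nat_lit 6) (BT.node (nat_lit 5)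 (BT.leaf ⟨[(nat_lit 4), (nat_lit 4)], (nat_lit 3), (nat_lit 0), (nat_lit 0), (nat_lit 3)⟩) (BT.leaf ⟨[(nat_lit 5), (nat_lit 5)], (nat_lit 4), (nat_lit 0), (nat_lit 0), (nat_lit 3)⟩)) (BT.node (nat_lit 7) (BT.leaf ⟨[(nat_lit 1), (nat_lit 1)], (nat_lit 0), (nat_lit 0), (nat_lit 0), (nat_lit 3)⟩) (BT.node (nat_lit 8) (BT.leaf ⟨[(nat_lit 2), (nat_lit 2)], (nat_lit 1), (nat_lit 0), (nat_lit 0), (nat_lit 3)⟩) (BT.leaf ⟨[(nat_lit 3), (nat_lit 1), (nat_lit 3), (nat_lit 1), (nat_lit 3), (nat_lit 1)], (nat_lit 6), (nat_lit 1), (nat_lit 0), (nat_lit 3)⟩))))) (BT.node (nat_lit 13) (BT.node (nat_lit 11) (BT.node (nat_lit 10) (BT.leaf ⟨[(nat_lit 5), (nat_lit 1), (nat_lit 5), (nat_lit 1), (nat_lit 5), (nat_lit 1)], (nat_lit 7), (nat_lit 1), (nat_lit 0), (nat_lit 3)⟩) (BT.leaf ⟨[(nat_lit 3), (nat_lit 1), (nat_lit 5), (nat_lit 1), (nat_lit 2), (nat_lit 3), (nat_lit 2)], (nat_lit 8), (nat_lit 4), (nat_lit 0), (nat_lit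 3)⟩)) (BT.node (nat_lit 12) (BT.leaf ⟨[(nat_lit 2), (nat_lit 3), (nat_lit 2), (nat_lit 3), (nat_lit 1), (nat_lit 5), (nat_lit 1)], (nat_lit 8), (nat_lit 1), (nat_lit 0), (nat_lit 3)⟩) (BT.leaf ⟨[(nat_lit 5), (nat_lit 1), (nat_lit 3), (nat_lit 1), (nat_lit 2), (nat_lit 4), (nat_lit 2)], (nat_lit 9), (nat_lit 4), (nat_lit 0), (nat_lit 3)⟩))) (BT.node (nat_lit 15) (BT.node (nat_lit 14) (BT.leaf ⟨[(nat_lit 1), (nat_lit 2), (nat_lit 1), (nat_lit 2), (nat_lit 1), (nat_lit 2)], (nat_lit 5), (nat_lit 0), (nat_lit 0), (nat_lit 3)⟩) (BT.leaf ⟨[(nat_lit 1), (nat_lit 2), (nat_lit 3), (nat_lit 2), (nat_lit 3), (nat_lit 1), (nat_lit 5)], (nat_lit 8), (nat_lit 0), (nat_lit 0), (nat_lit 3)⟩)) (BT.node (nat_lit 16) (BT.leaf ⟨[(nat_lit 2), (nat_lit 1), (nat_lit 2), (nat_lit 1), (nat_lit 2), (nat_lit 1)], (nat_lit 5), (nat_lit 1), (nat_lit 0), (nat_lit 3)⟩) (BT.node (nat_lit 17) (BT.leaf ⟨[(nat_lit 1), (nat_lit 3), (nat_lit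 1), (nat_lit 3), (nat_lit 1), (nat_lit 3)], (nat_lit 6), (nat_lit 0), (nat_lit 0), (nat_lit 3)⟩) (BT.leaf ⟨[(nat_lit 1), (nat_lit 5), (nat_lit 1), (nat_lit 5), (nat_lit 1), (nat_lit 5)], (nat_lit 7), (nat_lit 0), (nat_lit 0), (nat_lit 3)⟩)))))) (BT.node (nat_lit 27) (BT.node (nat_lit 22) (BT.node (nat_lit 20) (BT.node (nat_lit 19) (BT.leaf ⟨[(nat_lit 1), (nat_lit 5), (nat_lit 1), (nat_lit 2), (nat_lit 3), (nat_lit 2), (nat_lit 3)], (nat_lit 8), (nat_lit 5), (nat_lit 0), (nat_lit 3)⟩) (BT.leaf ⟨[(nat_lit 2), (nat_lit 5), (nat_lit 1), (nat_lit 3), (nat_lit 1), (nat_lit 2), (nat_lit 4)], (nat_lit 9), (nat_lit 3), (nat_lit 0), (nat_lit 3)⟩)) (BT.node (nat_lit 21) (BT.leaf ⟨[(nat_lit 2), (nat_lit 3), (nat_lit 1), (nat_lit 5), (nat_lit 1), (nat_lit 2), (nat_lit 3)], (nat_lit 8), (nat_lit 3), (nat_lit 0), (nat_lit 3)⟩) (BT.leaf ⟨[(nat_lit 2), (nat_lit 4), (nat_lit 2), (nat_lit 5), (nat_lit 1), (nat_lit 3),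 (nat_lit 1)], (nat_lit 9), (nat_lit 1), (nat_lit 0), (nat_lit 3)⟩))) (BT.node (nat_lit 24) (BT.node (nat_lit 23) (BT.leaf ⟨[(nat_lit 4), (nat_lit 2), (nat_lit 5), (nat_lit 1), (nat_lit 3), (nat_lit 1), (nat_lit 2)], (nat_lit 9), (nat_lit 2), (nat_lit 0), (nat_lit 3)⟩) (BT.leaf ⟨[(nat_lit 5), (nat_lit 1), (nat_lit 2), (nat_lit 3), (nat_lit 2), (nat_lit 3), (nat_lit 1)], (nat_lit 8), (nat_lit 6), (nat_lit 0), (nat_lit 3)⟩)) (BT.node (nat_lit 25) (BT.leaf ⟨[(nat_lit 3), (nat_lit 2), (nat_lit 3), (nat_lit 1), (nat_lit 5), (nat_lit 1), (nat_lit 2)], (nat_lit 8), (nat_lit 2), (nat_lit 0), (nat_lit 3)⟩) (BT.node (nat_lit 26) (BT.leaf ⟨[(nat_lit 4), (nat_lit 2), (nat_lit 1), (nat_lit 3), (nat_lit 1), (nat_lit 5), (nat_lit 2)], (nat_lit 24), (nat_lit 4), (nat_lit 0), (nat_lit 3)⟩) (BT.leaf ⟨[(nat_lit 3), (nat_lit 2), (nat_lit 1), (nat_lit 5), (nat_lit 1), (nat_lit 3), (nat_lit 2)], (nat_lit 23), (nat_lit 4),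 (nat_lit 0), (nat_lit 3)⟩))))) (BT.node (nat_lit 32) (BT.node (nat_lit 29) (BT.node (nat_lit 28) (BT.leaf ⟨[(nat_lit 2), (nat_lit 4), (nat_lit 2), (nat_lit 1), (nat_lit 3), (nat_lit 1), (nat_lit 5)], (nat_lit 24), (nat_lit 3), (nat_lit 0), (nat_lit 3)⟩) (BT.leaf ⟨[(nat_lit 2), (nat_lit 1), (nat_lit 5), (nat_lit 1), (nat_lit 3), (nat_lit 2), (nat_lit 3)], (nat_lit 23), (nat_lit 5), (nat_lit 0), (nat_lit 3)⟩)) (BT.node (nat_lit 30) (BT.leaf ⟨[(nat_lit 1), (nat_lit 3), (nat_lit 1), (nat_lit 5), (nat_lit 2), (nat_lit 4), (nat_lit 2)], (nat_lit 24), (nat_lit 6), (nat_lit 0), (nat_lit 3)⟩) (BT.node (nat_lit 31) (BT.leaf ⟨[(nat_lit 1), (nat_lit 1)], (nat_lit 0), (nat_lit 0), (nat_lit 0), (nat_lit 5)⟩) (BT.leaf ⟨[(nat_lit 0), (nat_lit 2), (nat_lit 1), (nat_lit 2), (nat_lit 1), (nat_lit 2), (nat_lit 1)], (nat_lit 5), (nat_lit 1), (nat_lit 1), (nat_lit 3)⟩)))) (BT.node (nat_lit 34) (BT.node (nat_lit 33) (BT.leaf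 ⟨[(nat_lit 3), (nat_lit 1), (nat_lit 3), (nat_lit 1), (nat_lit 3), (nat_lit 1)], (nat_lit 6), (nat_lit 1), (nat_lit 0), (nat_lit 4)⟩) (BT.leaf ⟨[(nat_lit 5), (nat_lit 1), (nat_lit 2), (nat_lit 3), (nat_lit 2), (nat_lit 3), (nat_lit 1)], (nat_lit 8), (nat_lit 6), (nat_lit 0), (nat_lit 4)⟩)) (BT.node (nat_lit 35) (BT.leaf ⟨[(nat_lit 3), (nat_lit 2), (nat_lit 3), (nat_lit 2), (nat_lit 1), (nat_lit 5), (nat_lit 1)], (nat_lit 23), (nat_lit 2), (nat_lit 0), (nat_lit 3)⟩) (BT.node (nat_lit 36) (BT.leaf ⟨[(nat_lit 0), (nat_lit 2), (nat_lit 5), (nat_lit 1), (nat_lit 3), (nat_lit 1), (nat_lit 2), (nat_lit 4)], (nat_lit 9), (nat_lit 3), (nat_lit 1), (nat_lit 3)⟩) (BT.leaf ⟨[(nat_lit 0), (nat_lit 4), (nat_lit 2), (nat_lit 5), (nat_lit 1), (nat_lit 3), (nat_lit 1), (nat_lit 2)], (nat_lit 9), (nat_lit 2), (nat_lit 1), (nat_lit 3)⟩)))))))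
noncomputable def eP1_hcs : List CW := [⟨[(nat_lit 1)], (nat_lit 0), (nat_lit 0), (nat_lit 0), (nat_lit 0)⟩, ⟨[(nat_lit 2)], (nat_lit 1), (nat_lit 0), (nat_lit 0), (nat_lit 0)⟩, ⟨[(nat_lit 1)], (nat_lit 2), (nat_lit 0), (nat_lit 0), (nat_lit 0)⟩, ⟨[(nat_lit 2)], (nat_lit 3), (nat_lit 0), (nat_lit 0), (nat_lit 0)⟩]
noncomputable def eP1_H (x j : Nat) : Bx (Nat → Nat → Nat) := mkH eP1_L eP1_pb.1 eP1_e.get (lmap CW.w eP1_hcs) (nat_lit 28) (nat_lit 29) (nat_lit 6) (nat_lit 32) (nat_lit 2048) (nat_lit 2047) x (eP1_rots.get j)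
noncomputable def eP1_F (x b : Nat) : Bool := blkOK eP1_H eP1_ch (nat_lit 29) (nat_lit 32) (nat_lit 64) (nat_lit 8) (nat_lit 255) (nat_lit 16) (nat_lit 65535) x b

theorem eP1_k0_0 : allFrom (eP1_F (nat_lit 0)) (nat_lit 0) (nat_lit 4) = true := by decide +kernel
theorem eP1_k1_0 : allFrom (eP1_F (nat_lit 1)) (nat_lit 0) (nat_lit 4) = true := by decide +kernel
theorem eP1_k2_0 : allFrom (eP1_F (nat_lit 2)) (nat_lit 0) (nat_lit 4) = true := by decide +kernel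
theorem eP1_k3_0 : allFrom (eP1_F (nat_lit 3)) (nat_lit 0) (nat_lit 4) = true := by decide +kernel
theorem eP1_k4_0 : allFrom (eP1_F (nat_lit 4)) (nat_lit 0) (nat_lit 4) = true := by decide +kernel
theorem eP1_k5_0 : allFrom (eP1_F (nat_lit 5)) (nat_lit 0) (nat_lit 4) = true := by decide +kernel
noncomputable def eP2_c0 : BT (Bx Nat) := (BT.leaf (Bx.mk (nat_lit 0x0)))
noncomputable def eP2_c1 : BT (Bx Nat) := (BT.leaf (Bx.mk (nat_lit 0x391c70e86b861400)))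
noncomputable def eP2_c2 : BT (Bx Nat) := (BT.leaf (Bx.mk (nat_lit 0x2d4dcea74c321600)))
noncomputable def eP2_p : BT (Bx Nat) := (BT.leaf (Bx.mk (nat_lit 0x1c0660c8248490400000)))
noncomputable def eP2_e : BT Nat := BT.leaf (nat_lit 0)
noncomputable def eP2_cols : List (BT (Bx Nat)) := [eP2_c0, eP2_c1, eP2_c2]
noncomputable def eP2_ch (x j : Nat) : Bx Nat := chunkG eP2_cols (nat_lit 1) x j
noncomputable def eP2_L (x : Nat) : Bx (Nat → Nat) := lookG eP2_ch (nat_lit 8) (nat_lit 255) (nat_lit 9) (nat_lit 511) x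
noncomputable def eP2_pc (_ j : Nat) : Bx Nat := eP2_p.get j
noncomputable def eP2_pb : Bx (Nat → Nat) := lookG eP2_pc (nat_lit 8) (nat_lit 255) (nat_lit 11) (nat_lit 2047) (nat_lit 0)
noncomputable def eP2_rots : BT CW := (BT.node (nat_lit 3) (BT.node (nat_lit 1) (BT.leaf ⟨[], (nat_lit 1000000), (nat_lit 0), (nat_lit 0), (nat_lit 0)⟩) (BT.node (nat_lit 2) (BT.leaf ⟨[], (nat_lit 1000000), (nat_lit 0), (nat_lit 0), (nat_lit 1)⟩) (BT.leaf ⟨[], (nat_lit 1000000), (nat_lit 0), (nat_lit 0), (nat_lit 2)⟩))) (BT.node (nat_lit 4) (BT.leaf ⟨[(nat_lit 1), (nat_lit 1)], (nat_lit 0), (nat_lit 0), (nat_lit 0), (nat_lit 3)⟩) (BT.node (nat_lit 5) (BT.leaf ⟨[(nat_lit 2), (nat_lit 2)], (nat_lit 1), (nat_lit 0), (nat_lit 0), (nat_lit 3)⟩) (BT.leaf ⟨[(nat_lit 2), (nat_lit 1), (nat_lit 2), (nat_lit 1), (nat_lit 2), (nat_lit 1)], (nat_lit 5), (nat_lit 1), (nat_lit 0), (nat_lit 3)⟩))))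
noncomputable def eP2_hcs : List CW := []
noncomputable def eP2_H (x j : Nat) : Bx (Nat → Nat → Nat) := mkH eP2_L eP2_pb.1 eP2_e.get (lmap CW.w eP2_hcs) (nat_lit 6) (nat_lit 7) (nat_lit 3) (nat_lit 8) (nat_lit 64) (nat_lit 511) x (eP2_rots.get j)
noncomputable def eP2_F (x b : Nat) : Bool := blkOK eP2_H eP2_ch (nat_lit 7) (nat_lit 8) (nat_lit 8) (nat_lit 8) (nat_lit 255) (nat_lit 9) (nat_lit 511) x b

theorem eP2_k0_0 : allFrom (eP2_F (nat_lit 0)) (nat_lit 0) (nat_lit 4) = true := by decide +kernel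
theorem eP2_k1_0 : allFrom (eP2_F (nat_lit 1)) (nat_lit 0) (nat_lit 4) = true := by decide +kernel
theorem eP2_k2_0 : allFrom (eP2_F (nat_lit 2)) (nat_lit 0) (nat_lit 4) = true := by decide +kernel
theorem TP_ok : TP.ok = true := by decide +kernel
theorem TP_rel : lall TP.relOK RP = true := by decide +kernel

end CF.J23
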