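import Cfsg.Agent.J23.Rels

set_option autoImplicit false
set_option maxRecDepth 1000000
set_option maxHeartbeats 0
set_option Elab.async false

namespace CF.J23

open CF.Comp CF.Cod

noncomputable def TQ_c0 : BT (Bx Nat) := (BT.leaf (Bx.mk (nat_lit 0xfe68f56bd3726bdc3510e5e475eed1618a418820)))
noncomputable def TQ_c1 : BT (Bx Nat) := (BT.leaf (Bx.mk (nat_lit 0x536f32a64fe910ee6467c53c237f5582f768b001)))
noncomputable def TQ_c3 : BT (Bx Nat) := (BT.leaf (Bx.mk (nat_lit 0x7c525c391b251b650fc6feaab64fb90c397900e2)))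
noncomputable def TQ_c5 : BT (Bx Nat) := (BT.leaf (Bx.mk (nat_lit 0xa1cb674d84570dfd41724ec598dde1f57b803503)))
noncomputable def TQ_c7 : BT (Bx Nat) := (BT.leaf (Bx.mk (nat_lit 0xc958891bf582f071edf78895db343ca6bc09b924)))
noncomputable def TQ_c9 : BT (Bx Nat) := (BT.leaf (Bx.mk (nat_lit 0x36ab05f8878b7a3626fc122d3d864ec7c19a3d45)))
noncomputable def TQ_c11 : BT (Bx Nat) := (BT.leaf (Bx.mk (nat_lit 0x2e68f513d37247dc3502e5e470eed1603faac166)))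
noncomputable def TQ_w : BT (Bx Nat) := (BT.leaf (Bx.mk (nat_lit 0xb979593919b797573717b595753515b393735313b1917151310b090705030100)))
noncomputable def TQ_cols : List (BT (Bx Nat)) := [TQ_c0, TQ_c1, TQ_c1, TQ_c3, TQ_c3, TQ_c5, TQ_c5, TQ_c7, TQ_c7, TQ_c9, TQ_c9, TQ_c11, TQ_c11]
noncomputable def TQ_ch (x j : Nat) : Bx Nat := chk TQ_cols x j
noncomputable def TQ_wc (_ j : Nat) : Bx Nat := TQ_w.get j
noncomputable def TQ : CT := ⟨(nat_lit 32), (nat_lit 5), (nat_lit 31), TQ_ch, (nat_lit 8), (nat_lit 255), TQ_wc, (nat_lit 8190)⟩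
noncomputable def eQ1_c0 : BT (Bx Nat) := (BT.leaf (Bx.mk (nat_lit 0x0)))
noncomputable def eQ1_c1 : BT (Bx Nat) := (BT.leaf (Bx.mk (nat_lit 0x810b5d0e11186114a106810a81138d902d5ea1058109110f7d5d9a1aa104810871192d95411fa10372c79520945b939692d1610cb05cb057b052b04da101b0420000)))
noncomputable def eQ1_c2 : BT (Bx Nat) := (BT.leaf (Bx.mk (nat_lit 0x81507b52314aa1468159814f7b899b1ca1454c15814e31576c0ba144615f764797e0971b9656814c930d51544e1e615aa1426151b05db058b053a141b048b0430000)))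
noncomputable def eQ1_c3 : BT (Bx Nat) := (BT.leaf (Bx.mk (nat_lit 0x81958188a1866c577c8f8194518da185618b519d78c799a098db8191818c96936c8a619ca183669a93d27c585190a182959f6196b05eb059a181b04eb049b0440000)))
noncomputable def eQ1_c4 : BT (Bx Nat) := (BT.leaf (Bx.mk (nat_lit 0x81daa1c661cd85c921d37a879aa081d681d181cc991941c8a1c43cdc5910975841d2a1c381cb7cde949795cea1c271dd5dd561dbb05fa1c1b054b04fb04ab0450000)))
noncomputable def eQ1_c5 : BT (Bx Nat) := (BT.leaf (Bx.mk (nat_lit 0x6207821b82168211820c9adfa20562084ad27ace99dea204820d584a3218981da203620962179854955ca2024213784f7bd97560a201b05ab055b050b04bb0460000)))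
noncomputable def eQ1_c6 : BT (Bx Nat) := (BT.leaf (Bx.mk (nat_lit 0xa246825a82558250824ba2459a5f8254824f824aa244995e9899824e8249a243979d96d896138248a24294dc94179352928da241b060b05bb056b051b04cb0470000)))
noncomputable def eQ1_p : BT (Bx Nat) := (BT.leaf (Bx.mk (nat_lit 0x21868612183860a181851a145850e14285061068416104840a101831a0c583120c383060868216084820e0824119045411104341090410000000)))
noncomputable def eQ1_e : BT Nat := BT.leaf (nat_lit 0)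
noncomputable def eQ1_cols : List (BT (Bx Nat)) := [eQ1_c0, eQ1_c1, eQ1_c2, eQ1_c3, eQ1_c4, eQ1_c5, eQ1_c6]
noncomputable def eQ1_ch (x j : Nat) : Bx Nat := chunkG eQ1_cols (nat_lit 1) x j
noncomputable def eQ1_L (x : Nat) : Bx (Nat → Nat) := lookG eQ1_ch (nat_lit 8) (nat_lit 255) (nat_lit 16) (nat_lit 65535) x
noncomputable def eQ1_pc (_ j : Nat) : Bx Nat := eQ1_p.get j
noncomputable def eQ1_pb : Bx (Nat → Nat) := lookG eQ1_pc (nat_lit 8) (nat_lit 255) (nat_lit 14) (nat_lit 16383) (nat_lit 0)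
noncomputable def eQ1_rots : BT CW := (BT.node (nat_lit 28) (BT.node (nat_lit 14) (BT.node (nat_lit 7) (BT.node (nat_lit 3) (BT.node (nat_lit 1) (BT.leaf ⟨[], (nat_lit 1000000), (nat_lit 0), (nat_lit 0), (nat_lit 0)⟩) (BT.node (nat_lit 2) (BT.leaf ⟨[], (nat_lit 1000000), (nat_lit 0), (nat_lit 0), (nat_lit 1)⟩) (BT.leaf ⟨[], (nat_lit 1000000), (nat_lit 0), (nat_lit 0), (nat_lit 2)⟩))) (BT.node (nat_lit 5) (BT.node (nat_lit 4) (BT.leaf ⟨[(nat_lit 1), (nat_lit 1)], (nat_lit 0), (nat_lit 0), (nat_lit 0), (nat_lit 3)⟩) (BT.leaf ⟨[(nat_lit 2), (nat_lit 2)], (nat_lit 1), (nat_lit 0), (nat_lit 0), (nat_lit 3)⟩)) (BT.node (nat_lit 6) (BT.leaf ⟨[(nat_lit 3), (nat_lit 3)], (nat_lit 2), (nat_lit 0), (nat_lit 0), (nat_lit 3)⟩) (BT.leaf ⟨[(nat_lit 4), (nat_lit 4)], (nat_lit 3), (nat_lit 0), (nat_lit 0), (nat_lit 3)⟩)))) (BT.node (nat_lit 10) (BT.node (nat_lit 8)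 (BT.leaf ⟨[(nat_lit 5), (nat_lit 5)], (nat_lit 4), (nat_lit 0), (nat_lit 0), (nat_lit 3)⟩) (BT.node (nat_lit 9) (BT.leaf ⟨[(nat_lit 6), (nat_lit 6)], (nat_lit 5), (nat_lit 0), (nat_lit 0), (nat_lit 3)⟩) (BT.leaf ⟨[(nat_lit 6), (nat_lit 1), (nat_lit 2), (nat_lit 1), (nat_lit 2)], (nat_lit 6), (nat_lit 4), (nat_lit 0), (nat_lit 3)⟩))) (BT.node (nat_lit 12) (BT.node (nat_lit 11) (BT.leaf ⟨[(nat_lit 1), (nat_lit 6), (nat_lit 2), (nat_lit 1), (nat_lit 2)], (nat_lit 29), (nat_lit 4), (nat_lit 0), (nat_lit 3)⟩) (BT.leaf ⟨[(nat_lit 2), (nat_lit 1), (nat_lit 2), (nat_lit 1), (nat_lit 6)], (nat_lit 29), (nat_lit 1), (nat_lit 0), (nat_lit 3)⟩)) (BT.node (nat_lit 13) (BT.leaf ⟨[(nat_lit 6), (nat_lit 1), (nat_lit 3), (nat_lit 1), (nat_lit 3)], (nat_lit 7), (nat_lit 4), (nat_lit 0), (nat_lit 3)⟩) (BT.leaf ⟨[(nat_lit 1), (nat_lit 6), (nat_lit 3), (nat_lit 1), (nat_lit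 3)], (nat_lit 30), (nat_lit 4), (nat_lit 0), (nat_lit 3)⟩))))) (BT.node (nat_lit 21) (BT.node (nat_lit 17) (BT.node (nat_lit 15) (BT.leaf ⟨[(nat_lit 3), (nat_lit 1), (nat_lit 3), (nat_lit 1), (nat_lit 6)], (nat_lit 30), (nat_lit 1), (nat_lit 0), (nat_lit 3)⟩) (BT.node (nat_lit 16) (BT.leaf ⟨[(nat_lit 6), (nat_lit 1), (nat_lit 4), (nat_lit 1), (nat_lit 4)], (nat_lit 8), (nat_lit 4), (nat_lit 0), (nat_lit 3)⟩) (BT.leaf ⟨[(nat_lit 1), (nat_lit 6), (nat_lit 4), (nat_lit 1), (nat_lit 4)], (nat_lit 31), (nat_lit 4), (nat_lit 0), (nat_lit 3)⟩))) (BT.node (nat_lit 19) (BT.node (nat_lit 18) (BT.leaf ⟨[(nat_lit 4), (nat_lit 1), (nat_lit 4), (nat_lit 1), (nat_lit 6)], (nat_lit 31), (nat_lit 1), (nat_lit 0), (nat_lit 3)⟩) (BT.leaf ⟨[(nat_lit 6), (nat_lit 1), (nat_lit 5), (nat_lit 1), (nat_lit 5)], (nat_lit 9), (nat_lit 4), (nat_lit 0), (nat_lit 3)⟩)) (BT.node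 (nat_lit 20) (BT.leaf ⟨[(nat_lit 1), (nat_lit 6), (nat_lit 5), (nat_lit 1), (nat_lit 5)], (nat_lit 32), (nat_lit 4), (nat_lit 0), (nat_lit 3)⟩) (BT.leaf ⟨[(nat_lit 5), (nat_lit 1), (nat_lit 5), (nat_lit 1), (nat_lit 6)], (nat_lit 32), (nat_lit 1), (nat_lit 0), (nat_lit 3)⟩)))) (BT.node (nat_lit 24) (BT.node (nat_lit 22) (BT.leaf ⟨[(nat_lit 3), (nat_lit 4), (nat_lit 5), (nat_lit 1), (nat_lit 2)], (nat_lit 16), (nat_lit 2), (nat_lit 0), (nat_lit 3)⟩) (BT.node (nat_lit 23) (BT.leaf ⟨[(nat_lit 4), (nat_lit 3), (nat_lit 2), (nat_lit 1), (nat_lit 5)], (nat_lit 39), (nat_lit 1), (nat_lit 0), (nat_lit 3)⟩) (BT.leaf ⟨[(nat_lit 6), (nat_lit 2), (nat_lit 3), (nat_lit 2), (nat_lit 3)], (nat_lit 10), (nat_lit 4), (nat_lit 0), (nat_lit 3)⟩))) (BT.node (nat_lit 26) (BT.node (nat_lit 25) (BT.leaf ⟨[(nat_lit 2), (nat_lit 6), (nat_lit 3), (nat_lit 2), (nat_lit 3)],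 (nat_lit 33), (nat_lit 4), (nat_lit 0), (nat_lit 3)⟩) (BT.leaf ⟨[(nat_lit 3), (nat_lit 2), (nat_lit 3), (nat_lit 2), (nat_lit 6)], (nat_lit 33), (nat_lit 1), (nat_lit 0), (nat_lit 3)⟩)) (BT.node (nat_lit 27) (BT.leaf ⟨[(nat_lit 6), (nat_lit 2), (nat_lit 4), (nat_lit 2), (nat_lit 4)], (nat_lit 11), (nat_lit 4), (nat_lit 0), (nat_lit 3)⟩) (BT.leaf ⟨[(nat_lit 2), (nat_lit 6), (nat_lit 4), (nat_lit 2), (nat_lit 4)], (nat_lit 34), (nat_lit 4), (nat_lit 0), (nat_lit 3)⟩)))))) (BT.node (nat_lit 42) (BT.node (nat_lit 35) (BT.node (nat_lit 31) (BT.node (nat_lit 29) (BT.leaf ⟨[(nat_lit 4), (nat_lit 2), (nat_lit 4), (nat_lit 2), (nat_lit 6)], (nat_lit 34), (nat_lit 1), (nat_lit 0), (nat_lit 3)⟩) (BT.node (nat_lit 30) (BT.leaf ⟨[(nat_lit 6), (nat_lit 2), (nat_lit 5), (nat_lit 2), (nat_lit 5)], (nat_lit 12), (nat_lit 4), (nat_lit 0), (nat_lit 3)⟩) (BT.leaf ⟨[(nat_lit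 2), (nat_lit 6), (nat_lit 5), (nat_lit 2), (nat_lit 5)], (nat_lit 35), (nat_lit 4), (nat_lit 0), (nat_lit 3)⟩))) (BT.node (nat_lit 33) (BT.node (nat_lit 32) (BT.leaf ⟨[(nat_lit 5), (nat_lit 2), (nat_lit 5), (nat_lit 2), (nat_lit 6)], (nat_lit 35), (nat_lit 1), (nat_lit 0), (nat_lit 3)⟩) (BT.leaf ⟨[(nat_lit 5), (nat_lit 4), (nat_lit 3), (nat_lit 2), (nat_lit 1)], (nat_lit 39), (nat_lit 0), (nat_lit 0), (nat_lit 3)⟩)) (BT.node (nat_lit 34) (BT.leaf ⟨[(nat_lit 6), (nat_lit 3), (nat_lit 4), (nat_lit 3), (nat_lit 4)], (nat_lit 13), (nat_lit 4), (nat_lit 0), (nat_lit 3)⟩) (BT.leaf ⟨[(nat_lit 3), (nat_lit 6), (nat_lit 4), (nat_lit 3), (nat_lit 4)], (nat_lit 36), (nat_lit 4), (nat_lit 0), (nat_lit 3)⟩)))) (BT.node (nat_lit 38) (BT.node (nat_lit 36) (BT.leaf ⟨[(nat_lit 4), (nat_lit 3), (nat_lit 4), (nat_lit 3), (nat_lit 6)], (nat_lit 36), (nat_lit 1), (nat_lit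 0), (nat_lit 3)⟩) (BT.node (nat_lit 37) (BT.leaf ⟨[(nat_lit 6), (nat_lit 3), (nat_lit 5), (nat_lit 3), (nat_lit 5)], (nat_lit 14), (nat_lit 4), (nat_lit 0), (nat_lit 3)⟩) (BT.leaf ⟨[(nat_lit 3), (nat_lit 6), (nat_lit 5), (nat_lit 3), (nat_lit 5)], (nat_lit 37), (nat_lit 4), (nat_lit 0), (nat_lit 3)⟩))) (BT.node (nat_lit 40) (BT.node (nat_lit 39) (BT.leaf ⟨[(nat_lit 5), (nat_lit 3), (nat_lit 5), (nat_lit 3), (nat_lit 6)], (nat_lit 37), (nat_lit 1), (nat_lit 0), (nat_lit 3)⟩) (BT.leaf ⟨[(nat_lit 1), (nat_lit 5), (nat_lit 4), (nat_lit 3), (nat_lit 2)], (nat_lit 39), (nat_lit 4), (nat_lit 0), (nat_lit 3)⟩)) (BT.node (nat_lit 41) (BT.leaf ⟨[(nat_lit 6), (nat_lit 4), (nat_lit 5), (nat_lit 4), (nat_lit 5)], (nat_lit 15), (nat_lit 4), (nat_lit 0), (nat_lit 3)⟩) (BT.leaf ⟨[(nat_lit 4), (nat_lit 6), (nat_lit 5), (nat_lit 4), (nat_lit 5)], (nat_lit 38), (nat_lit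 4), (nat_lit 0), (nat_lit 3)⟩))))) (BT.node (nat_lit 49) (BT.node (nat_lit 45) (BT.node (nat_lit 43) (BT.leaf ⟨[(nat_lit 5), (nat_lit 4), (nat_lit 5), (nat_lit 4), (nat_lit 6)], (nat_lit 38), (nat_lit 1), (nat_lit 0), (nat_lit 3)⟩) (BT.node (nat_lit 44) (BT.leaf ⟨[(nat_lit 2), (nat_lit 1), (nat_lit 5), (nat_lit 4), (nat_lit 3)], (nat_lit 39), (nat_lit 3), (nat_lit 0), (nat_lit 3)⟩) (BT.leaf ⟨[(nat_lit 2), (nat_lit 3), (nat_lit 6), (nat_lit 2), (nat_lit 3)], (nat_lit 10), (nat_lit 2), (nat_lit 0), (nat_lit 3)⟩))) (BT.node (nat_lit 47) (BT.node (nat_lit 46) (BT.leaf ⟨[(nat_lit 2), (nat_lit 3), (nat_lit 2), (nat_lit 3), (nat_lit 6)], (nat_lit 10), (nat_lit 0), (nat_lit 0), (nat_lit 3)⟩) (BT.leaf ⟨[(nat_lit 5), (nat_lit 2), (nat_lit 5), (nat_lit 6), (nat_lit 2)], (nat_lit 12), (nat_lit 1), (nat_lit 0), (nat_lit 3)⟩)) (BT.node (nat_lit 48) (BT.leaf ⟨[(nat_lit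 2), (nat_lit 5), (nat_lit 2), (nat_lit 5), (nat_lit 6)], (nat_lit 12), (nat_lit 0), (nat_lit 0), (nat_lit 3)⟩) (BT.leaf ⟨[(nat_lit 3), (nat_lit 4), (nat_lit 6), (nat_lit 3), (nat_lit 4)], (nat_lit 13), (nat_lit 2), (nat_lit 0), (nat_lit 3)⟩)))) (BT.node (nat_lit 52) (BT.node (nat_lit 50) (BT.leaf ⟨[(nat_lit 3), (nat_lit 4), (nat_lit 3), (nat_lit 4), (nat_lit 6)], (nat_lit 13), (nat_lit 0), (nat_lit 0), (nat_lit 3)⟩) (BT.node (nat_lit 51) (BT.leaf ⟨[(nat_lit 4), (nat_lit 5), (nat_lit 6), (nat_lit 4), (nat_lit 5)], (nat_lit 15), (nat_lit 2), (nat_lit 0), (nat_lit 3)⟩) (BT.leaf ⟨[(nat_lit 1), (nat_lit 3), (nat_lit 1), (nat_lit 3), (nat_lit 6)], (nat_lit 7), (nat_lit 0), (nat_lit 0), (nat_lit 3)⟩))) (BT.node (nat_lit 54) (BT.node (nat_lit 53) (BT.leaf ⟨[(nat_lit 1), (nat_lit 5), (nat_lit 6), (nat_lit 1), (nat_lit 5)], (nat_lit 9), (nat_lit 2), (nat_lit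 0), (nat_lit 3)⟩) (BT.leaf ⟨[(nat_lit 1), (nat_lit 5), (nat_lit 1), (nat_lit 5), (nat_lit 6)], (nat_lit 9), (nat_lit 0), (nat_lit 0), (nat_lit 3)⟩)) (BT.node (nat_lit 55) (BT.leaf ⟨[(nat_lit 4), (nat_lit 5), (nat_lit 1), (nat_lit 2), (nat_lit 3)], (nat_lit 16), (nat_lit 3), (nat_lit 0), (nat_lit 3)⟩) (BT.leaf ⟨[(nat_lit 2), (nat_lit 5), (nat_lit 6), (nat_lit 2), (nat_lit 5)], (nat_lit 12), (nat_lit 2), (nat_lit 0), (nat_lit 3)⟩)))))))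
noncomputable def eQ1_hcs : List CW := []
noncomputable def eQ1_H (x j : Nat) : Bx (Nat → Nat → Nat) := mkH eQ1_L eQ1_pb.1 eQ1_e.get (lmap CW.w eQ1_hcs) (nat_lit 32) (nat_lit 33) (nat_lit 7) (nat_lit 64) (nat_lit 4096) (nat_lit 4095) x (eQ1_rots.get j)
noncomputable def eQ1_F (x b : Nat) : Bool := blkOK eQ1_H eQ1_ch (nat_lit 33) (nat_lit 64) (nat_lit 64) (nat_lit 8) (nat_lit 255) (nat_lit 16) (nat_lit 65535) x b

theorem eQ1_k0_0 : allFrom (eQ1_F (nat_lit 0)) (nat_lit 0) (nat_lit 4) = true := by decide +kernel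
theorem eQ1_k1_0 : allFrom (eQ1_F (nat_lit 1)) (nat_lit 0) (nat_lit 4) = true := by decide +kernel
theorem eQ1_k2_0 : allFrom (eQ1_F (nat_lit 2)) (nat_lit 0) (nat_lit 4) = true := by decide +kernel
theorem eQ1_k3_0 : allFrom (eQ1_F (nat_lit 3)) (nat_lit 0) (nat_lit 4) = true := by decide +kernel
theorem eQ1_k4_0 : allFrom (eQ1_F (nat_lit 4)) (nat_lit 0) (nat_lit 4) = true := by decide +kernel
theorem eQ1_k5_0 : allFrom (eQ1_F (nat_lit 5)) (nat_lit 0) (nat_lit 4) = true := by decide +kernel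
theorem eQ1_k6_0 : allFrom (eQ1_F (nat_lit 6)) (nat_lit 0) (nat_lit 4) = true := by decide +kernel
theorem TQ_ok : TQ.ok = true := by decide +kernel
theorem TQ_rel : lall TQ.relOK RQ = true := by decide +kernel

end CF.J23
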