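import Cfsg.Agent.Cod.Basic
import Cfsg.Agent.J23.TQ
import Cfsg.Agent.J23.TH
import Cfsg.Agent.J23.TN
import Cfsg.Agent.J23.TC
import Cfsg.Agent.J23.TM
import Cfsg.Agent.J23.TK0
import Cfsg.Agent.J23.TK1
import Cfsg.Agent.J23.TK2
import Cfsg.Agent.J23.TA
import Cfsg.Agent.J23.TP

set_option autoImplicit false
set_option maxRecDepth 1000000
set_option maxHeartbeats 0
set_option Elab.async false

namespace CF.J23

open CF.Comp CF.Cod

theorem eQ1_all : Cov eQ1_F 4 7 0 := by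
  have h := Cov.zero eQ1_F 4
  have h := h.blk (b := 4) eQ1_k0_0 rfl
  have h := h.next (y := 1) rfl rfl
  have h := h.blk (b := 4) eQ1_k1_0 rfl
  have h := h.next (y := 2) rfl rfl
  have h := h.blk (b := 4) eQ1_k2_0 rfl
  have h := h.next (y := 3) rfl rfl
  have h := h.blk (b := 4) eQ1_k3_0 rfl
  have h := h.next (y := 4) rfl rfl
  have h := h.blk (b := 4) eQ1_k4_0 rfl
  have h := h.next (y := 5) rfl rfl
  have h := h.blk (b := 4) eQ1_k5_0 rfl
  have h := h.next (y := 6) rfl rfl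
  have h := h.blk (b := 4) eQ1_k6_0 rfl
  have h := h.next (y := 7) rfl rfl
  exact h

theorem eQ1 : Enum RQ SQ GQ 32 :=
  ⟨eQ1_cols, eQ1_ch, eQ1_L, eQ1_H, eQ1_pb.1, eQ1_e.get, [(nat_lit 0), (nat_lit 1), (nat_lit 3), (nat_lit 5), (nat_lit 7), (nat_lit 9), (nat_lit 11)], (nat_lit 63), (nat_lit 6), eQ1_rots, eQ1_hcs,
    (nat_lit 33), (nat_lit 7), (nat_lit 64), (nat_lit 64), (nat_lit 4096), (nat_lit 4095), (nat_lit 8), (nat_lit 255), (nat_lit 16), (nat_lit 65535), (nat_lit 1), (nat_lit 4),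
    fun _ _ => rfl, fun _ => rfl, fun _ _ => rfl, by decide +kernel, eQ1_all.1⟩

theorem pQ : TQ.Pres RQ GQ :=
  ⟨CT.ok_spec TQ_ok, lall_iff.1 TQ_rel, by decide +kernel, by decide +kernel, by decide +kernel,
    eQ1.bound (ug_rels _) (bound_nil _)⟩

instance gQ : TQ.Grp := pQ.grp

theorem eH1_all : Cov eH1_F 4 8 0 := by
  have h := Cov.zero eH1_F 4
  have h := h.blk (b := 4) eH1_k0_0 rfl
  have h := h.next (y := 1) rfl rfl
  have h := h.blk (b := 4) eH1_k1_0 rfl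
  have h := h.next (y := 2) rfl rfl
  have h := h.blk (b := 4) eH1_k2_0 rfl
  have h := h.next (y := 3) rfl rfl
  have h := h.blk (b := 4) eH1_k3_0 rfl
  have h := h.next (y := 4) rfl rfl
  have h := h.blk (b := 4) eH1_k4_0 rfl
  have h := h.next (y := 5) rfl rfl
  have h := h.blk (b := 4) eH1_k5_0 rfl
  have h := h.next (y := 6) rfl rfl
  have h := h.blk (b := 4) eH1_k6_0 rfl
  have h := h.next (y := 7) rfl rfl
  have h := h.blk (b := 4) eH1_k7_0 rfl
  have h := h.next (y := 8) rfl rfl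
  exact h

theorem eH1 : Enum RH SH GH 32 :=
  ⟨eH1_cols, eH1_ch, eH1_L, eH1_H, eH1_pb.1, eH1_e.get, [(nat_lit 0), (nat_lit 1), (nat_lit 3), (nat_lit 4), (nat_lit 5), (nat_lit 7), (nat_lit 11), (nat_lit 13)], (nat_lit 109), (nat_lit 7), eH1_rots, eH1_hcs,
    (nat_lit 33), (nat_lit 8), (nat_lit 64), (nat_lit 64), (nat_lit 4096), (nat_lit 4095), (nat_lit 8), (nat_lit 255), (nat_lit 17), (nat_lit 131071), (nat_lit 1), (nat_lit 4),
    fun _ _ => rfl, fun _ => rfl, fun _ _ => rfl, by decide +kernel, eH1_all.1⟩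
theorem eH2_all : Cov eH2_F 4 5 0 := by
  have h := Cov.zero eH2_F 4
  have h := h.blk (b := 4) eH2_k0_0 rfl
  have h := h.next (y := 1) rfl rfl
  have h := h.blk (b := 4) eH2_k1_0 rfl
  have h := h.next (y := 2) rfl rfl
  have h := h.blk (b := 4) eH2_k2_0 rfl
  have h := h.next (y := 3) rfl rfl
  have h := h.blk (b := 4) eH2_k3_0 rfl
  have h := h.next (y := 4) rfl rfl
  have h := h.blk (b := 4) eH2_k4_0 rfl
  have h := h.next (y := 5) rfl rfl
  exact h

theorem eH2 : Enum RH S0 SH 60 :=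
  ⟨eH2_cols, eH2_ch, eH2_L, eH2_H, eH2_pb.1, eH2_e.get, [(nat_lit 0), (nat_lit 3), (nat_lit 4), (nat_lit 5), (nat_lit 7)], (nat_lit 109), (nat_lit 7), eH2_rots, eH2_hcs,
    (nat_lit 61), (nat_lit 5), (nat_lit 64), (nat_lit 32), (nat_lit 2048), (nat_lit 4095), (nat_lit 8), (nat_lit 255), (nat_lit 15), (nat_lit 32767), (nat_lit 1), (nat_lit 4),
    fun _ _ => rfl, fun _ => rfl, fun _ _ => rfl, by decide +kernel, eH2_all.1⟩

theorem pH : TH.Pres RH GH :=
  ⟨CT.ok_spec TH_ok, lall_iff.1 TH_rel, by decide +kernel, by decide +kernel, by decide +kernel,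
    eH1.bound (ug_rels _) (eH2.bound (ug_rels _) (bound_nil _))⟩

instance gH : TH.Grp := pH.grp

theorem eN1_all : Cov eN1_F 4 10 0 := by
  have h := Cov.zero eN1_F 4
  have h := h.blk (b := 4) eN1_k0_0 rfl
  have h := h.next (y := 1) rfl rfl
  have h := h.blk (b := 4) eN1_k1_0 rfl
  have h := h.next (y := 2) rfl rfl
  have h := h.blk (b := 4) eN1_k2_0 rfl
  have h := h.next (y := 3) rfl rfl
  have h := h.blk (b := 4) eN1_k3_0 rfl
  have h := h.next (y := 4) rfl rfl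
  have h := h.blk (b := 4) eN1_k4_0 rfl
  have h := h.next (y := 5) rfl rfl
  have h := h.blk (b := 4) eN1_k5_0 rfl
  have h := h.next (y := 6) rfl rfl
  have h := h.blk (b := 4) eN1_k6_0 rfl
  have h := h.next (y := 7) rfl rfl
  have h := h.blk (b := 4) eN1_k7_0 rfl
  have h := h.next (y := 8) rfl rfl
  have h := h.blk (b := 4) eN1_k8_0 rfl
  have h := h.next (y := 9) rfl rfl
  have h := h.blk (b := 4) eN1_k9_0 rfl
  have h := h.next (y := 10) rfl rfl
  exact h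

theorem eN1 : Enum RN SN GN 16 :=
  ⟨eN1_cols, eN1_ch, eN1_L, eN1_H, eN1_pb.1, eN1_e.get, [(nat_lit 0), (nat_lit 1), (nat_lit 3), (nat_lit 4), (nat_lit 5), (nat_lit 6), (nat_lit 7), (nat_lit 8), (nat_lit 11), (nat_lit 13)], (nat_lit 97), (nat_lit 7), eN1_rots, eN1_hcs,
    (nat_lit 17), (nat_lit 10), (nat_lit 32), (nat_lit 64), (nat_lit 2048), (nat_lit 2047), (nat_lit 8), (nat_lit 255), (nat_lit 16), (nat_lit 65535), (nat_lit 1), (nat_lit 4),
    fun _ _ => rfl, fun _ => rfl, fun _ _ => rfl, by decide +kernel, eN1_all.1⟩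
theorem eN2_all : Cov eN2_F 4 8 0 := by
  have h := Cov.zero eN2_F 4
  have h := h.blk (b := 4) eN2_k0_0 rfl
  have h := h.next (y := 1) rfl rfl
  have h := h.blk (b := 4) eN2_k1_0 rfl
  have h := h.next (y := 2) rfl rfl
  have h := h.blk (b := 4) eN2_k2_0 rfl
  have h := h.next (y := 3) rfl rfl
  have h := h.blk (b := 4) eN2_k3_0 rfl
  have h := h.next (y := 4) rfl rfl
  have h := h.blk (b := 4) eN2_k4_0 rfl
  have h := h.next (y := 5) rfl rfl
  have h := h.blk (b := 4) eN2_k5_0 rfl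
  have h := h.next (y := 6) rfl rfl
  have h := h.blk (b := 4) eN2_k6_0 rfl
  have h := h.next (y := 7) rfl rfl
  have h := h.blk (b := 4) eN2_k7_0 rfl
  have h := h.next (y := 8) rfl rfl
  exact h

theorem eN2 : Enum RN S0 SN 120 :=
  ⟨eN2_cols, eN2_ch, eN2_L, eN2_H, eN2_pb.1, eN2_e.get, [(nat_lit 0), (nat_lit 3), (nat_lit 4), (nat_lit 5), (nat_lit 6), (nat_lit 7), (nat_lit 8), (nat_lit 13)], (nat_lit 97), (nat_lit 7), eN2_rots, eN2_hcs,
    (nat_lit 121), (nat_lit 8), (nat_lit 128), (nat_lit 64), (nat_lit 8192), (nat_lit 8191), (nat_lit 8), (nat_lit 255), (nat_lit 17), (nat_lit 131071), (nat_lit 1), (nat_lit 4),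
    fun _ _ => rfl, fun _ => rfl, fun _ _ => rfl, by decide +kernel, eN2_all.1⟩

theorem pN : TN.Pres RN GN :=
  ⟨CT.ok_spec TN_ok, lall_iff.1 TN_rel, by decide +kernel, by decide +kernel, by decide +kernel,
    eN1.bound (ug_rels _) (eN2.bound (ug_rels _) (bound_nil _))⟩

instance gN : TN.Grp := pN.grp

theorem eC1_all : Cov eC1_F 4 7 0 := by
  have h := Cov.zero eC1_F 4
  have h := h.blk (b := 4) eC1_k0_0 rfl
  have h := h.next (y := 1) rfl rfl
  have h := h.blk (b := 4) eC1_k1_0 rfl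
  have h := h.next (y := 2) rfl rfl
  have h := h.blk (b := 4) eC1_k2_0 rfl
  have h := h.next (y := 3) rfl rfl
  have h := h.blk (b := 4) eC1_k3_0 rfl
  have h := h.next (y := 4) rfl rfl
  have h := h.blk (b := 4) eC1_k4_0 rfl
  have h := h.next (y := 5) rfl rfl
  have h := h.blk (b := 4) eC1_k5_0 rfl
  have h := h.next (y := 6) rfl rfl
  have h := h.blk (b := 4) eC1_k6_0 rfl
  have h := h.next (y := 7) rfl rfl
  exact h

theorem eC1 : Enum RC SC GC 16 :=
  ⟨eC1_cols, eC1_ch, eC1_L, eC1_H, eC1_pb.1, eC1_e.get, [(nat_lit 0), (nat_lit 1), (nat_lit 2), (nat_lit 3), (nat_lit 5), (nat_lit 7), (nat_lit 9)], (nat_lit 30), (nat_lit 5), eC1_rots, eC1_hcs,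
    (nat_lit 17), (nat_lit 7), (nat_lit 32), (nat_lit 64), (nat_lit 2048), (nat_lit 2047), (nat_lit 8), (nat_lit 255), (nat_lit 16), (nat_lit 65535), (nat_lit 1), (nat_lit 4),
    fun _ _ => rfl, fun _ => rfl, fun _ _ => rfl, by decide +kernel, eC1_all.1⟩
theorem eC2_all : Cov eC2_F 4 4 0 := by
  have h := Cov.zero eC2_F 4
  have h := h.blk (b := 4) eC2_k0_0 rfl
  have h := h.next (y := 1) rfl rfl
  have h := h.blk (b := 4) eC2_k1_0 rfl
  have h := h.next (y := 2) rfl rfl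
  have h := h.blk (b := 4) eC2_k2_0 rfl
  have h := h.next (y := 3) rfl rfl
  have h := h.blk (b := 4) eC2_k3_0 rfl
  have h := h.next (y := 4) rfl rfl
  exact h

theorem eC2 : Enum RC S0 SC 12 :=
  ⟨eC2_cols, eC2_ch, eC2_L, eC2_H, eC2_pb.1, eC2_e.get, [(nat_lit 0), (nat_lit 1), (nat_lit 2), (nat_lit 3)], (nat_lit 30), (nat_lit 5), eC2_rots, eC2_hcs,
    (nat_lit 13), (nat_lit 4), (nat_lit 16), (nat_lit 16), (nat_lit 256), (nat_lit 1023), (nat_lit 8), (nat_lit 255), (nat_lit 11), (nat_lit 2047), (nat_lit 1), (nat_lit 4),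
    fun _ _ => rfl, fun _ => rfl, fun _ _ => rfl, by decide +kernel, eC2_all.1⟩

theorem pC : TC.Pres RC GC :=
  ⟨CT.ok_spec TC_ok, lall_iff.1 TC_rel, by decide +kernel, by decide +kernel, by decide +kernel,
    eC1.bound (ug_rels _) (eC2.bound (ug_rels _) (bound_nil _))⟩

instance gC : TC.Grp := pC.grp

theorem eM1_all : Cov eM1_F 4 9 0 := by
  have h := Cov.zero eM1_F 4
  have h := h.blk (b := 4) eM1_k0_0 rfl
  have h := h.next (y := 1) rfl rfl
  have h := h.blk (b := 4) eM1_k1_0 rfl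
  have h := h.next (y := 2) rfl rfl
  have h := h.blk (b := 4) eM1_k2_0 rfl
  have h := h.next (y := 3) rfl rfl
  have h := h.blk (b := 4) eM1_k3_0 rfl
  have h := h.next (y := 4) rfl rfl
  have h := h.blk (b := 4) eM1_k4_0 rfl
  have h := h.next (y := 5) rfl rfl
  have h := h.blk (b := 4) eM1_k5_0 rfl
  have h := h.next (y := 6) rfl rfl
  have h := h.blk (b := 4) eM1_k6_0 rfl
  have h := h.next (y := 7) rfl rfl
  have h := h.blk (b := 4) eM1_k7_0 rfl
  have h := h.next (y := 8) rfl rfl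
  have h := h.blk (b := 4) eM1_k8_0 rfl
  have h := h.next (y := 9) rfl rfl
  exact h

theorem eM1 : Enum RM SM GM 96 :=
  ⟨eM1_cols, eM1_ch, eM1_L, eM1_H, eM1_pb.1, eM1_e.get, [(nat_lit 0), (nat_lit 1), (nat_lit 3), (nat_lit 4), (nat_lit 7), (nat_lit 9), (nat_lit 10), (nat_lit 11), (nat_lit 13)], (nat_lit 105), (nat_lit 7), eM1_rots, eM1_hcs,
    (nat_lit 97), (nat_lit 9), (nat_lit 128), (nat_lit 64), (nat_lit 8192), (nat_lit 8191), (nat_lit 8), (nat_lit 255), (nat_lit 19), (nat_lit 524287), (nat_lit 1), (nat_lit 4),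
    fun _ _ => rfl, fun _ => rfl, fun _ _ => rfl, by decide +kernel, eM1_all.1⟩
theorem eM2_all : Cov eM2_F 4 4 0 := by
  have h := Cov.zero eM2_F 4
  have h := h.blk (b := 4) eM2_k0_0 rfl
  have h := h.next (y := 1) rfl rfl
  have h := h.blk (b := 4) eM2_k1_0 rfl
  have h := h.next (y := 2) rfl rfl
  have h := h.blk (b := 4) eM2_k2_0 rfl
  have h := h.next (y := 3) rfl rfl
  have h := h.blk (b := 4) eM2_k3_0 rfl
  have h := h.next (y := 4) rfl rfl
  exact h

theorem eM2 : Enum RM S0 SM 12 :=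
  ⟨eM2_cols, eM2_ch, eM2_L, eM2_H, eM2_pb.1, eM2_e.get, [(nat_lit 0), (nat_lit 3), (nat_lit 4), (nat_lit 7)], (nat_lit 105), (nat_lit 7), eM2_rots, eM2_hcs,
    (nat_lit 13), (nat_lit 4), (nat_lit 16), (nat_lit 16), (nat_lit 256), (nat_lit 1023), (nat_lit 8), (nat_lit 255), (nat_lit 11), (nat_lit 2047), (nat_lit 1), (nat_lit 4),
    fun _ _ => rfl, fun _ => rfl, fun _ _ => rfl, by decide +kernel, eM2_all.1⟩

theorem pM : TM.Pres RM GM :=
  ⟨CT.ok_spec TM_ok, lall_iff.1 TM_rel, by decide +kernel, by decide +kernel, by decide +kernel,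
    eM1.bound (ug_rels _) (eM2.bound (ug_rels _) (bound_nil _))⟩

instance gM : TM.Grp := pM.grp

theorem eK01_all : Cov eK01_F 4 9 0 := by
  have h := Cov.zero eK01_F 4
  have h := h.blk (b := 4) eK01_k0_0 rfl
  have h := h.next (y := 1) rfl rfl
  have h := h.blk (b := 4) eK01_k1_0 rfl
  have h := h.next (y := 2) rfl rfl
  have h := h.blk (b := 4) eK01_k2_0 rfl
  have h := h.next (y := 3) rfl rfl
  have h := h.blk (b := 4) eK01_k3_0 rfl
  have h := h.next (y := 4) rfl rfl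
  have h := h.blk (b := 4) eK01_k4_0 rfl
  have h := h.next (y := 5) rfl rfl
  have h := h.blk (b := 4) eK01_k5_0 rfl
  have h := h.next (y := 6) rfl rfl
  have h := h.blk (b := 4) eK01_k6_0 rfl
  have h := h.next (y := 7) rfl rfl
  have h := h.blk (b := 4) eK01_k7_0 rfl
  have h := h.next (y := 8) rfl rfl
  have h := h.blk (b := 4) eK01_k8_0 rfl
  have h := h.next (y := 9) rfl rfl
  exact h

theorem eK01 : Enum RK0 SK0 GK0 135 :=
  ⟨eK01_cols, eK01_ch, eK01_L, eK01_H, eK01_pb.1, eK01_e.get, [(nat_lit 0), (nat_lit 1), (nat_lit 3), (nat_lit 4), (nat_lit 5), (nat_lit 9), (nat_lit 10), (nat_lit 11), (nat_lit 13)], (nat_lit 101), (nat_lit 7), eK01_rots, eK01_hcs,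
    (nat_lit 136), (nat_lit 9), (nat_lit 256), (nat_lit 64), (nat_lit 16384), (nat_lit 16383), (nat_lit 8), (nat_lit 255), (nat_lit 19), (nat_lit 524287), (nat_lit 1), (nat_lit 4),
    fun _ _ => rfl, fun _ => rfl, fun _ _ => rfl, by decide +kernel, eK01_all.1⟩
theorem eK02_all : Cov eK02_F 4 5 0 := by
  have h := Cov.zero eK02_F 4
  have h := h.blk (b := 4) eK02_k0_0 rfl
  have h := h.next (y := 1) rfl rfl
  have h := h.blk (b := 4) eK02_k1_0 rfl
  have h := h.next (y := 2) rfl rfl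
  have h := h.blk (b := 4) eK02_k2_0 rfl
  have h := h.next (y := 3) rfl rfl
  have h := h.blk (b := 4) eK02_k3_0 rfl
  have h := h.next (y := 4) rfl rfl
  have h := h.blk (b := 4) eK02_k4_0 rfl
  have h := h.next (y := 5) rfl rfl
  exact h

theorem eK02 : Enum RK0 S0 SK0 16 :=
  ⟨eK02_cols, eK02_ch, eK02_L, eK02_H, eK02_pb.1, eK02_e.get, [(nat_lit 0), (nat_lit 1), (nat_lit 5), (nat_lit 11), (nat_lit 13)], (nat_lit 101), (nat_lit 7), eK02_rots, eK02_hcs,
    (nat_lit 17), (nat_lit 5), (nat_lit 32), (nat_lit 16), (nat_lit 512), (nat_lit 2047), (nat_lit 8), (nat_lit 255), (nat_lit 13), (nat_lit 8191), (nat_lit 1), (nat_lit 4),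
    fun _ _ => rfl, fun _ => rfl, fun _ _ => rfl, by decide +kernel, eK02_all.1⟩

theorem pK0 : TK0.Pres RK0 GK0 :=
  ⟨CT.ok_spec TK0_ok, lall_iff.1 TK0_rel, by decide +kernel, by decide +kernel, by decide +kernel,
    eK01.bound (ug_rels _) (eK02.bound (ug_rels _) (bound_nil _))⟩

instance gK0 : TK0.Grp := pK0.grp

theorem eK11_all : Cov eK11_F 4 9 0 := by
  have h := Cov.zero eK11_F 4
  have h := h.blk (b := 4) eK11_k0_0 rfl
  have h := h.next (y := 1) rfl rfl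
  have h := h.blk (b := 4) eK11_k1_0 rfl
  have h := h.next (y := 2) rfl rfl
  have h := h.blk (b := 4) eK11_k2_0 rfl
  have h := h.next (y := 3) rfl rfl
  have h := h.blk (b := 4) eK11_k3_0 rfl
  have h := h.next (y := 4) rfl rfl
  have h := h.blk (b := 4) eK11_k4_0 rfl
  have h := h.next (y := 5) rfl rfl
  have h := h.blk (b := 4) eK11_k5_0 rfl
  have h := h.next (y := 6) rfl rfl
  have h := h.blk (b := 4) eK11_k6_0 rfl
  have h := h.next (y := 7) rfl rfl
  have h := h.blk (b := 4) eK11_k7_0 rfl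
  have h := h.next (y := 8) rfl rfl
  have h := h.blk (b := 4) eK11_k8_0 rfl
  have h := h.next (y := 9) rfl rfl
  exact h

theorem eK11 : Enum RK1 SK1 GK1 135 :=
  ⟨eK11_cols, eK11_ch, eK11_L, eK11_H, eK11_pb.1, eK11_e.get, [(nat_lit 0), (nat_lit 1), (nat_lit 3), (nat_lit 4), (nat_lit 5), (nat_lit 9), (nat_lit 10), (nat_lit 11), (nat_lit 13)], (nat_lit 101), (nat_lit 7), eK11_rots, eK11_hcs,
    (nat_lit 136), (nat_lit 9), (nat_lit 256), (nat_lit 64), (nat_lit 16384), (nat_lit 16383), (nat_lit 8), (nat_lit 255), (nat_lit 19), (nat_lit 524287), (nat_lit 1), (nat_lit 4),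
    fun _ _ => rfl, fun _ => rfl, fun _ _ => rfl, by decide +kernel, eK11_all.1⟩
theorem eK12_all : Cov eK12_F 4 5 0 := by
  have h := Cov.zero eK12_F 4
  have h := h.blk (b := 4) eK12_k0_0 rfl
  have h := h.next (y := 1) rfl rfl
  have h := h.blk (b := 4) eK12_k1_0 rfl
  have h := h.next (y := 2) rfl rfl
  have h := h.blk (b := 4) eK12_k2_0 rfl
  have h := h.next (y := 3) rfl rfl
  have h := h.blk (b := 4) eK12_k3_0 rfl
  have h := h.next (y := 4) rfl rfl
  have h := h.blk (b := 4) eK12_k4_0 rfl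
  have h := h.next (y := 5) rfl rfl
  exact h

theorem eK12 : Enum RK1 S0 SK1 16 :=
  ⟨eK12_cols, eK12_ch, eK12_L, eK12_H, eK12_pb.1, eK12_e.get, [(nat_lit 0), (nat_lit 1), (nat_lit 5), (nat_lit 11), (nat_lit 13)], (nat_lit 101), (nat_lit 7), eK12_rots, eK12_hcs,
    (nat_lit 17), (nat_lit 5), (nat_lit 32), (nat_lit 16), (nat_lit 512), (nat_lit 2047), (nat_lit 8), (nat_lit 255), (nat_lit 13), (nat_lit 8191), (nat_lit 1), (nat_lit 4),
    fun _ _ => rfl, fun _ => rfl, fun _ _ => rfl, by decide +kernel, eK12_all.1⟩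

theorem pK1 : TK1.Pres RK1 GK1 :=
  ⟨CT.ok_spec TK1_ok, lall_iff.1 TK1_rel, by decide +kernel, by decide +kernel, by decide +kernel,
    eK11.bound (ug_rels _) (eK12.bound (ug_rels _) (bound_nil _))⟩

instance gK1 : TK1.Grp := pK1.grp

theorem eK21_all : Cov eK21_F 4 9 0 := by
  have h := Cov.zero eK21_F 4
  have h := h.blk (b := 4) eK21_k0_0 rfl
  have h := h.next (y := 1) rfl rfl
  have h := h.blk (b := 4) eK21_k1_0 rfl
  have h := h.next (y := 2) rfl rfl
  have h := h.blk (b := 4) eK21_k2_0 rfl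
  have h := h.next (y := 3) rfl rfl
  have h := h.blk (b := 4) eK21_k3_0 rfl
  have h := h.next (y := 4) rfl rfl
  have h := h.blk (b := 4) eK21_k4_0 rfl
  have h := h.next (y := 5) rfl rfl
  have h := h.blk (b := 4) eK21_k5_0 rfl
  have h := h.next (y := 6) rfl rfl
  have h := h.blk (b := 4) eK21_k6_0 rfl
  have h := h.next (y := 7) rfl rfl
  have h := h.blk (b := 4) eK21_k7_0 rfl
  have h := h.next (y := 8) rfl rfl
  have h := h.blk (b := 4) eK21_k8_0 rfl
  have h := h.next (y := 9) rfl rfl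
  exact h

theorem eK21 : Enum RK2 SK2 GK2 135 :=
  ⟨eK21_cols, eK21_ch, eK21_L, eK21_H, eK21_pb.1, eK21_e.get, [(nat_lit 0), (nat_lit 1), (nat_lit 3), (nat_lit 4), (nat_lit 5), (nat_lit 9), (nat_lit 10), (nat_lit 11), (nat_lit 13)], (nat_lit 101), (nat_lit 7), eK21_rots, eK21_hcs,
    (nat_lit 136), (nat_lit 9), (nat_lit 256), (nat_lit 64), (nat_lit 16384), (nat_lit 16383), (nat_lit 8), (nat_lit 255), (nat_lit 19), (nat_lit 524287), (nat_lit 1), (nat_lit 4),
    fun _ _ => rfl, fun _ => rfl, fun _ _ => rfl, by decide +kernel, eK21_all.1⟩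
theorem eK22_all : Cov eK22_F 4 5 0 := by
  have h := Cov.zero eK22_F 4
  have h := h.blk (b := 4) eK22_k0_0 rfl
  have h := h.next (y := 1) rfl rfl
  have h := h.blk (b := 4) eK22_k1_0 rfl
  have h := h.next (y := 2) rfl rfl
  have h := h.blk (b := 4) eK22_k2_0 rfl
  have h := h.next (y := 3) rfl rfl
  have h := h.blk (b := 4) eK22_k3_0 rfl
  have h := h.next (y := 4) rfl rfl
  have h := h.blk (b := 4) eK22_k4_0 rfl
  have h := h.next (y := 5) rfl rfl
  exact h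

theorem eK22 : Enum RK2 S0 SK2 16 :=
  ⟨eK22_cols, eK22_ch, eK22_L, eK22_H, eK22_pb.1, eK22_e.get, [(nat_lit 0), (nat_lit 1), (nat_lit 5), (nat_lit 11), (nat_lit 13)], (nat_lit 101), (nat_lit 7), eK22_rots, eK22_hcs,
    (nat_lit 17), (nat_lit 5), (nat_lit 32), (nat_lit 16), (nat_lit 512), (nat_lit 2047), (nat_lit 8), (nat_lit 255), (nat_lit 13), (nat_lit 8191), (nat_lit 1), (nat_lit 4),
    fun _ _ => rfl, fun _ => rfl, fun _ _ => rfl, by decide +kernel, eK22_all.1⟩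

theorem pK2 : TK2.Pres RK2 GK2 :=
  ⟨CT.ok_spec TK2_ok, lall_iff.1 TK2_rel, by decide +kernel, by decide +kernel, by decide +kernel,
    eK21.bound (ug_rels _) (eK22.bound (ug_rels _) (bound_nil _))⟩

instance gK2 : TK2.Grp := pK2.grp

theorem eA1_all : Cov eA1_F 4 6 0 := by
  have h := Cov.zero eA1_F 4
  have h := h.blk (b := 4) eA1_k0_0 rfl
  have h := h.next (y := 1) rfl rfl
  have h := h.blk (b := 4) eA1_k1_0 rfl
  have h := h.next (y := 2) rfl rfl
  have h := h.blk (b := 4) eA1_k2_0 rfl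
  have h := h.next (y := 3) rfl rfl
  have h := h.blk (b := 4) eA1_k3_0 rfl
  have h := h.next (y := 4) rfl rfl
  have h := h.blk (b := 4) eA1_k4_0 rfl
  have h := h.next (y := 5) rfl rfl
  have h := h.blk (b := 4) eA1_k5_0 rfl
  have h := h.next (y := 6) rfl rfl
  exact h

theorem eA1 : Enum RA SA GA 60 :=
  ⟨eA1_cols, eA1_ch, eA1_L, eA1_H, eA1_pb.1, eA1_e.get, [(nat_lit 0), (nat_lit 1), (nat_lit 3), (nat_lit 5), (nat_lit 7), (nat_lit 9)], (nat_lit 31), (nat_lit 5), eA1_rots, eA1_hcs,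
    (nat_lit 61), (nat_lit 6), (nat_lit 64), (nat_lit 64), (nat_lit 4096), (nat_lit 4095), (nat_lit 8), (nat_lit 255), (nat_lit 17), (nat_lit 131071), (nat_lit 1), (nat_lit 4),
    fun _ _ => rfl, fun _ => rfl, fun _ _ => rfl, by decide +kernel, eA1_all.1⟩
theorem eA2_all : Cov eA2_F 4 3 0 := by
  have h := Cov.zero eA2_F 4
  have h := h.blk (b := 4) eA2_k0_0 rfl
  have h := h.next (y := 1) rfl rfl
  have h := h.blk (b := 4) eA2_k1_0 rfl
  have h := h.next (y := 2) rfl rfl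
  have h := h.blk (b := 4) eA2_k2_0 rfl
  have h := h.next (y := 3) rfl rfl
  exact h

theorem eA2 : Enum RA S0 SA 6 :=
  ⟨eA2_cols, eA2_ch, eA2_L, eA2_H, eA2_pb.1, eA2_e.get, [(nat_lit 0), (nat_lit 1), (nat_lit 9)], (nat_lit 31), (nat_lit 5), eA2_rots, eA2_hcs,
    (nat_lit 7), (nat_lit 3), (nat_lit 8), (nat_lit 8), (nat_lit 64), (nat_lit 511), (nat_lit 8), (nat_lit 255), (nat_lit 9), (nat_lit 511), (nat_lit 1), (nat_lit 4),
    fun _ _ => rfl, fun _ => rfl, fun _ _ => rfl, by decide +kernel, eA2_all.1⟩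

theorem pA : TA.Pres RA GA :=
  ⟨CT.ok_spec TA_ok, lall_iff.1 TA_rel, by decide +kernel, by decide +kernel, by decide +kernel,
    eA1.bound (ug_rels _) (eA2.bound (ug_rels _) (bound_nil _))⟩

instance gA : TA.Grp := pA.grp

theorem eP1_all : Cov eP1_F 4 6 0 := by
  have h := Cov.zero eP1_F 4
  have h := h.blk (b := 4) eP1_k0_0 rfl
  have h := h.next (y := 1) rfl rfl
  have h := h.blk (b := 4) eP1_k1_0 rfl
  have h := h.next (y := 2) rfl rfl
  have h := h.blk (b := 4) eP1_k2_0 rfl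
  have h := h.next (y := 3) rfl rfl
  have h := h.blk (b := 4) eP1_k3_0 rfl
  have h := h.next (y := 4) rfl rfl
  have h := h.blk (b := 4) eP1_k4_0 rfl
  have h := h.next (y := 5) rfl rfl
  have h := h.blk (b := 4) eP1_k5_0 rfl
  have h := h.next (y := 6) rfl rfl
  exact h

theorem eP1 : Enum RP SP GP 28 :=
  ⟨eP1_cols, eP1_ch, eP1_L, eP1_H, eP1_pb.1, eP1_e.get, [(nat_lit 0), (nat_lit 1), (nat_lit 3), (nat_lit 5), (nat_lit 7), (nat_lit 9)], (nat_lit 31), (nat_lit 5), eP1_rots, eP1_hcs,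
    (nat_lit 29), (nat_lit 6), (nat_lit 32), (nat_lit 64), (nat_lit 2048), (nat_lit 2047), (nat_lit 8), (nat_lit 255), (nat_lit 16), (nat_lit 65535), (nat_lit 1), (nat_lit 4),
    fun _ _ => rfl, fun _ => rfl, fun _ _ => rfl, by decide +kernel, eP1_all.1⟩
theorem eP2_all : Cov eP2_F 4 3 0 := by
  have h := Cov.zero eP2_F 4
  have h := h.blk (b := 4) eP2_k0_0 rfl
  have h := h.next (y := 1) rfl rfl
  have h := h.blk (b := 4) eP2_k1_0 rfl
  have h := h.next (y := 2) rfl rfl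
  have h := h.blk (b := 4) eP2_k2_0 rfl
  have h := h.next (y := 3) rfl rfl
  exact h

theorem eP2 : Enum RP S0 SP 6 :=
  ⟨eP2_cols, eP2_ch, eP2_L, eP2_H, eP2_pb.1, eP2_e.get, [(nat_lit 0), (nat_lit 1), (nat_lit 3)], (nat_lit 31), (nat_lit 5), eP2_rots, eP2_hcs,
    (nat_lit 7), (nat_lit 3), (nat_lit 8), (nat_lit 8), (nat_lit 64), (nat_lit 511), (nat_lit 8), (nat_lit 255), (nat_lit 9), (nat_lit 511), (nat_lit 1), (nat_lit 4),
    fun _ _ => rfl, fun _ => rfl, fun _ _ => rfl, by decide +kernel, eP2_all.1⟩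

theorem pP : TP.Pres RP GP :=
  ⟨CT.ok_spec TP_ok, lall_iff.1 TP_rel, by decide +kernel, by decide +kernel, by decide +kernel,
    eP1.bound (ug_rels _) (eP2.bound (ug_rels _) (bound_nil _))⟩

instance gP : TP.Grp := pP.grp


end CF.J23
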