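import Cfsg.Agent.J23.Rels

set_option autoImplicit false
set_option maxRecDepth 1000000
set_option maxHeartbeats 0
set_option Elab.async false

namespace CF.J23

open CF.Comp CF.Cod

noncomputable def YH0 : List (List Nat) := [[(nat_lit 3), (nat_lit 3), (nat_lit 3)],
  [(nat_lit 1), (nat_lit 3), (nat_lit 1), (nat_lit 4)],
  [(nat_lit 1), (nat_lit 5), (nat_lit 11), (nat_lit 5)],
  [(nat_lit 1), (nat_lit 7), (nat_lit 1), (nat_lit 7)],
  [(nat_lit 3), (nat_lit 5), (nat_lit 3), (nat_lit 5)],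
  [(nat_lit 3), (nat_lit 11), (nat_lit 4), (nat_lit 11)],
  [(nat_lit 1), (nat_lit 3), (nat_lit 1), (nat_lit 5), (nat_lit 3), (nat_lit 5)],
  [(nat_lit 1), (nat_lit 3), (nat_lit 1), (nat_lit 11), (nat_lit 4), (nat_lit 11)],
  [(nat_lit 1), (nat_lit 5), (nat_lit 11), (nat_lit 1), (nat_lit 5), (nat_lit 11)],
  [(nat_lit 3), (nat_lit 7), (nat_lit 3), (nat_lit 7), (nat_lit 3), (nat_lit 7)],
  [(nat_lit 5), (nat_lit 7), (nat_lit 5), (nat_lit 7), (nat_lit 5), (nat_lit 7)],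
  [(nat_lit 1), (nat_lit 5), (nat_lit 7), (nat_lit 5), (nat_lit 7), (nat_lit 5), (nat_lit 1), (nat_lit 7)],
  [(nat_lit 1), (nat_lit 11), (nat_lit 1), (nat_lit 11), (nat_lit 1), (nat_lit 11), (nat_lit 1), (nat_lit 11)],
  [(nat_lit 1), (nat_lit 11), (nat_lit 7), (nat_lit 11), (nat_lit 1), (nat_lit 11), (nat_lit 7), (nat_lit 11)],
  [(nat_lit 5), (nat_lit 7), (nat_lit 11), (nat_lit 7), (nat_lit 5), (nat_lit 7), (nat_lit 11), (nat_lit 7)]]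
noncomputable def YM0 : List (List Nat) := [[(nat_lit 9), (nat_lit 9), (nat_lit 9)],
  [(nat_lit 3), (nat_lit 9), (nat_lit 4), (nat_lit 10)],
  [(nat_lit 9), (nat_lit 11), (nat_lit 9), (nat_lit 11)],
  [(nat_lit 1), (nat_lit 3), (nat_lit 1), (nat_lit 9), (nat_lit 4), (nat_lit 10)],
  [(nat_lit 1), (nat_lit 3), (nat_lit 1), (nat_lit 10), (nat_lit 4), (nat_lit 9)],
  [(nat_lit 1), (nat_lit 9), (nat_lit 1), (nat_lit 9), (nat_lit 1), (nat_lit 9)],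
  [(nat_lit 1), (nat_lit 10), (nat_lit 11), (nat_lit 1), (nat_lit 10), (nat_lit 11)],
  [(nat_lit 1), (nat_lit 10), (nat_lit 11), (nat_lit 1), (nat_lit 11), (nat_lit 9)],
  [(nat_lit 3), (nat_lit 7), (nat_lit 4), (nat_lit 9), (nat_lit 7), (nat_lit 10)],
  [(nat_lit 3), (nat_lit 7), (nat_lit 9), (nat_lit 4), (nat_lit 7), (nat_lit 10)],
  [(nat_lit 3), (nat_lit 10), (nat_lit 7), (nat_lit 9), (nat_lit 4), (nat_lit 7)],
  [(nat_lit 7), (nat_lit 9), (nat_lit 7), (nat_lit 9), (nat_lit 7), (nat_lit 9)],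
  [(nat_lit 1), (nat_lit 9), (nat_lit 1), (nat_lit 9), (nat_lit 1), (nat_lit 10), (nat_lit 10)],
  [(nat_lit 1), (nat_lit 9), (nat_lit 1), (nat_lit 11), (nat_lit 1), (nat_lit 9), (nat_lit 11)],
  [(nat_lit 1), (nat_lit 9), (nat_lit 1), (nat_lit 11), (nat_lit 1), (nat_lit 11), (nat_lit 10)],
  [(nat_lit 3), (nat_lit 7), (nat_lit 3), (nat_lit 9), (nat_lit 3), (nat_lit 7), (nat_lit 10)],
  [(nat_lit 3), (nat_lit 7), (nat_lit 3), (nat_lit 10), (nat_lit 7), (nat_lit 3), (nat_lit 9)],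
  [(nat_lit 3), (nat_lit 7), (nat_lit 4), (nat_lit 7), (nat_lit 10), (nat_lit 7), (nat_lit 9)],
  [(nat_lit 3), (nat_lit 7), (nat_lit 9), (nat_lit 7), (nat_lit 4), (nat_lit 10), (nat_lit 7)],
  [(nat_lit 3), (nat_lit 7), (nat_lit 9), (nat_lit 7), (nat_lit 10), (nat_lit 4), (nat_lit 7)],
  [(nat_lit 3), (nat_lit 7), (nat_lit 10), (nat_lit 4), (nat_lit 7), (nat_lit 9), (nat_lit 7)],
  [(nat_lit 1), (nat_lit 3), (nat_lit 7), (nat_lit 1), (nat_lit 9), (nat_lit 4), (nat_lit 7), (nat_lit 10)],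
  [(nat_lit 1), (nat_lit 4), (nat_lit 7), (nat_lit 1), (nat_lit 10), (nat_lit 3), (nat_lit 7), (nat_lit 9)],
  [(nat_lit 1), (nat_lit 9), (nat_lit 7), (nat_lit 10), (nat_lit 1), (nat_lit 9), (nat_lit 7), (nat_lit 10)],
  [(nat_lit 1), (nat_lit 10), (nat_lit 7), (nat_lit 9), (nat_lit 1), (nat_lit 10), (nat_lit 7), (nat_lit 9)],
  [(nat_lit 1), (nat_lit 10), (nat_lit 7), (nat_lit 11), (nat_lit 1), (nat_lit 11), (nat_lit 7), (nat_lit 9)],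
  [(nat_lit 3), (nat_lit 7), (nat_lit 11), (nat_lit 4), (nat_lit 10), (nat_lit 11), (nat_lit 7), (nat_lit 10)],
  [(nat_lit 3), (nat_lit 7), (nat_lit 11), (nat_lit 10), (nat_lit 4), (nat_lit 11), (nat_lit 7), (nat_lit 10)],
  [(nat_lit 3), (nat_lit 9), (nat_lit 11), (nat_lit 7), (nat_lit 9), (nat_lit 4), (nat_lit 7), (nat_lit 11)],
  [(nat_lit 3), (nat_lit 10), (nat_lit 7), (nat_lit 11), (nat_lit 4), (nat_lit 10), (nat_lit 11), (nat_lit 7)],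
  [(nat_lit 7), (nat_lit 9), (nat_lit 7), (nat_lit 9), (nat_lit 7), (nat_lit 11), (nat_lit 10), (nat_lit 11)]]
noncomputable def YK0 : List (List Nat) := [[(nat_lit 1), (nat_lit 5), (nat_lit 9), (nat_lit 11), (nat_lit 9), (nat_lit 5)],
  [(nat_lit 1), (nat_lit 5), (nat_lit 1), (nat_lit 5), (nat_lit 9), (nat_lit 1), (nat_lit 10), (nat_lit 11)],
  [(nat_lit 1), (nat_lit 5), (nat_lit 1), (nat_lit 5), (nat_lit 9), (nat_lit 1), (nat_lit 11), (nat_lit 9)],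
  [(nat_lit 1), (nat_lit 5), (nat_lit 9), (nat_lit 1), (nat_lit 10), (nat_lit 5), (nat_lit 1), (nat_lit 11)],
  [(nat_lit 1), (nat_lit 5), (nat_lit 9), (nat_lit 5), (nat_lit 1), (nat_lit 5), (nat_lit 9), (nat_lit 5)],
  [(nat_lit 1), (nat_lit 9), (nat_lit 5), (nat_lit 10), (nat_lit 1), (nat_lit 9), (nat_lit 5), (nat_lit 10)],
  [(nat_lit 5), (nat_lit 9), (nat_lit 5), (nat_lit 10), (nat_lit 5), (nat_lit 9), (nat_lit 5), (nat_lit 10), (nat_lit 5), (nat_lit 9), (nat_lit 5), (nat_lit 10), (nat_lit 5), (nat_lit 9), (nat_lit 5), (nat_lit 10)]]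
noncomputable def U0 : List (List Nat) := lapp YH0 (lapp YM0 (lapp YK0 RH))
noncomputable def YH1 : List (List Nat) := [[(nat_lit 3), (nat_lit 3), (nat_lit 3)],
  [(nat_lit 1), (nat_lit 3), (nat_lit 1), (nat_lit 4)],
  [(nat_lit 1), (nat_lit 5), (nat_lit 11), (nat_lit 5)],
  [(nat_lit 1), (nat_lit 7), (nat_lit 1), (nat_lit 7)],
  [(nat_lit 1), (nat_lit 13), (nat_lit 1), (nat_lit 13)],
  [(nat_lit 3), (nat_lit 5), (nat_lit 3), (nat_lit 5)],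
  [(nat_lit 3), (nat_lit 11), (nat_lit 4), (nat_lit 11)],
  [(nat_lit 3), (nat_lit 13), (nat_lit 4), (nat_lit 13)],
  [(nat_lit 5), (nat_lit 13), (nat_lit 5), (nat_lit 13)],
  [(nat_lit 7), (nat_lit 13), (nat_lit 7), (nat_lit 13)],
  [(nat_lit 11), (nat_lit 13), (nat_lit 11), (nat_lit 13)],
  [(nat_lit 1), (nat_lit 11), (nat_lit 1), (nat_lit 11), (nat_lit 13)],
  [(nat_lit 1), (nat_lit 3), (nat_lit 1), (nat_lit 5), (nat_lit 3), (nat_lit 5)],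
  [(nat_lit 1), (nat_lit 3), (nat_lit 1), (nat_lit 11), (nat_lit 4), (nat_lit 11)],
  [(nat_lit 1), (nat_lit 5), (nat_lit 11), (nat_lit 1), (nat_lit 5), (nat_lit 11)],
  [(nat_lit 3), (nat_lit 7), (nat_lit 3), (nat_lit 7), (nat_lit 3), (nat_lit 7)],
  [(nat_lit 5), (nat_lit 7), (nat_lit 5), (nat_lit 7), (nat_lit 5), (nat_lit 7)],
  [(nat_lit 1), (nat_lit 3), (nat_lit 11), (nat_lit 1), (nat_lit 13), (nat_lit 11), (nat_lit 4)],
  [(nat_lit 1), (nat_lit 4), (nat_lit 11), (nat_lit 1), (nat_lit 13), (nat_lit 11), (nat_lit 3)],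
  [(nat_lit 1), (nat_lit 5), (nat_lit 1), (nat_lit 5), (nat_lit 1), (nat_lit 11), (nat_lit 13)],
  [(nat_lit 1), (nat_lit 7), (nat_lit 11), (nat_lit 1), (nat_lit 13), (nat_lit 11), (nat_lit 7)],
  [(nat_lit 1), (nat_lit 7), (nat_lit 13), (nat_lit 7), (nat_lit 11), (nat_lit 1), (nat_lit 11)]]
noncomputable def YM1 : List (List Nat) := [[(nat_lit 9), (nat_lit 9), (nat_lit 9)],
  [(nat_lit 1), (nat_lit 9), (nat_lit 13), (nat_lit 10)],
  [(nat_lit 3), (nat_lit 9), (nat_lit 4), (nat_lit 10)],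
  [(nat_lit 9), (nat_lit 11), (nat_lit 9), (nat_lit 11)],
  [(nat_lit 1), (nat_lit 9), (nat_lit 1), (nat_lit 10), (nat_lit 13)],
  [(nat_lit 1), (nat_lit 9), (nat_lit 13), (nat_lit 9), (nat_lit 9)],
  [(nat_lit 1), (nat_lit 10), (nat_lit 13), (nat_lit 9), (nat_lit 13)],
  [(nat_lit 1), (nat_lit 3), (nat_lit 1), (nat_lit 9), (nat_lit 4), (nat_lit 10)],
  [(nat_lit 1), (nat_lit 3), (nat_lit 1), (nat_lit 10), (nat_lit 4), (nat_lit 9)],
  [(nat_lit 1), (nat_lit 9), (nat_lit 7), (nat_lit 13), (nat_lit 7), (nat_lit 10)],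
  [(nat_lit 1), (nat_lit 9), (nat_lit 11), (nat_lit 13), (nat_lit 9), (nat_lit 11)],
  [(nat_lit 1), (nat_lit 9), (nat_lit 11), (nat_lit 13), (nat_lit 11), (nat_lit 10)],
  [(nat_lit 1), (nat_lit 9), (nat_lit 13), (nat_lit 11), (nat_lit 9), (nat_lit 11)],
  [(nat_lit 1), (nat_lit 10), (nat_lit 11), (nat_lit 1), (nat_lit 10), (nat_lit 11)],
  [(nat_lit 1), (nat_lit 10), (nat_lit 11), (nat_lit 1), (nat_lit 11), (nat_lit 9)],
  [(nat_lit 1), (nat_lit 11), (nat_lit 10), (nat_lit 13), (nat_lit 9), (nat_lit 11)],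
  [(nat_lit 3), (nat_lit 7), (nat_lit 4), (nat_lit 9), (nat_lit 7), (nat_lit 10)],
  [(nat_lit 3), (nat_lit 7), (nat_lit 9), (nat_lit 4), (nat_lit 7), (nat_lit 10)],
  [(nat_lit 3), (nat_lit 10), (nat_lit 7), (nat_lit 9), (nat_lit 4), (nat_lit 7)],
  [(nat_lit 7), (nat_lit 9), (nat_lit 7), (nat_lit 9), (nat_lit 7), (nat_lit 9)],
  [(nat_lit 1), (nat_lit 3), (nat_lit 9), (nat_lit 1), (nat_lit 10), (nat_lit 13), (nat_lit 4)],
  [(nat_lit 1), (nat_lit 3), (nat_lit 10), (nat_lit 1), (nat_lit 13), (nat_lit 9), (nat_lit 4)],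
  [(nat_lit 1), (nat_lit 4), (nat_lit 9), (nat_lit 1), (nat_lit 10), (nat_lit 13), (nat_lit 3)],
  [(nat_lit 1), (nat_lit 4), (nat_lit 10), (nat_lit 1), (nat_lit 13), (nat_lit 9), (nat_lit 3)],
  [(nat_lit 1), (nat_lit 7), (nat_lit 9), (nat_lit 1), (nat_lit 10), (nat_lit 13), (nat_lit 7)],
  [(nat_lit 1), (nat_lit 7), (nat_lit 10), (nat_lit 1), (nat_lit 13), (nat_lit 9), (nat_lit 7)],
  [(nat_lit 1), (nat_lit 7), (nat_lit 13), (nat_lit 7), (nat_lit 9), (nat_lit 1), (nat_lit 10)],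
  [(nat_lit 1), (nat_lit 7), (nat_lit 13), (nat_lit 7), (nat_lit 10), (nat_lit 13), (nat_lit 9)],
  [(nat_lit 1), (nat_lit 9), (nat_lit 1), (nat_lit 10), (nat_lit 11), (nat_lit 13), (nat_lit 11)],
  [(nat_lit 1), (nat_lit 9), (nat_lit 1), (nat_lit 11), (nat_lit 1), (nat_lit 11), (nat_lit 10)],
  [(nat_lit 3), (nat_lit 7), (nat_lit 3), (nat_lit 9), (nat_lit 3), (nat_lit 7), (nat_lit 10)],
  [(nat_lit 3), (nat_lit 7), (nat_lit 3), (nat_lit 10), (nat_lit 7), (nat_lit 3), (nat_lit 9)],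
  [(nat_lit 3), (nat_lit 7), (nat_lit 4), (nat_lit 7), (nat_lit 10), (nat_lit 7), (nat_lit 9)],
  [(nat_lit 3), (nat_lit 7), (nat_lit 9), (nat_lit 7), (nat_lit 4), (nat_lit 10), (nat_lit 7)],
  [(nat_lit 3), (nat_lit 7), (nat_lit 9), (nat_lit 7), (nat_lit 10), (nat_lit 4), (nat_lit 7)],
  [(nat_lit 3), (nat_lit 7), (nat_lit 10), (nat_lit 4), (nat_lit 7), (nat_lit 9), (nat_lit 7)]]
noncomputable def YK1 : List (List Nat) := [[(nat_lit 1), (nat_lit 5), (nat_lit 9), (nat_lit 11), (nat_lit 9), (nat_lit 5)],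
  [(nat_lit 1), (nat_lit 9), (nat_lit 5), (nat_lit 13), (nat_lit 5), (nat_lit 10)],
  [(nat_lit 1), (nat_lit 5), (nat_lit 13), (nat_lit 5), (nat_lit 9), (nat_lit 1), (nat_lit 10)],
  [(nat_lit 1), (nat_lit 5), (nat_lit 13), (nat_lit 5), (nat_lit 10), (nat_lit 13), (nat_lit 9)],
  [(nat_lit 5), (nat_lit 9), (nat_lit 5), (nat_lit 10), (nat_lit 5), (nat_lit 9), (nat_lit 5), (nat_lit 10), (nat_lit 5), (nat_lit 9), (nat_lit 5), (nat_lit 10), (nat_lit 5), (nat_lit 9), (nat_lit 5), (nat_lit 10), (nat_lit 3)]]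
noncomputable def U1 : List (List Nat) := lapp YH1 (lapp YM1 (lapp YK1 RH))
noncomputable def YH2 : List (List Nat) := [[(nat_lit 3), (nat_lit 3), (nat_lit 3)],
  [(nat_lit 1), (nat_lit 3), (nat_lit 1), (nat_lit 4)],
  [(nat_lit 1), (nat_lit 5), (nat_lit 11), (nat_lit 5)],
  [(nat_lit 1), (nat_lit 7), (nat_lit 1), (nat_lit 7)],
  [(nat_lit 1), (nat_lit 13), (nat_lit 1), (nat_lit 13)],
  [(nat_lit 3), (nat_lit 5), (nat_lit 3), (nat_lit 5)],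
  [(nat_lit 3), (nat_lit 11), (nat_lit 4), (nat_lit 11)],
  [(nat_lit 3), (nat_lit 13), (nat_lit 4), (nat_lit 13)],
  [(nat_lit 5), (nat_lit 13), (nat_lit 5), (nat_lit 13)],
  [(nat_lit 7), (nat_lit 13), (nat_lit 7), (nat_lit 13)],
  [(nat_lit 11), (nat_lit 13), (nat_lit 11), (nat_lit 13)],
  [(nat_lit 1), (nat_lit 11), (nat_lit 1), (nat_lit 11), (nat_lit 13)],
  [(nat_lit 1), (nat_lit 3), (nat_lit 1), (nat_lit 5), (nat_lit 3), (nat_lit 5)],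
  [(nat_lit 1), (nat_lit 3), (nat_lit 1), (nat_lit 11), (nat_lit 4), (nat_lit 11)],
  [(nat_lit 1), (nat_lit 5), (nat_lit 11), (nat_lit 1), (nat_lit 5), (nat_lit 11)],
  [(nat_lit 3), (nat_lit 7), (nat_lit 3), (nat_lit 7), (nat_lit 3), (nat_lit 7)],
  [(nat_lit 5), (nat_lit 7), (nat_lit 5), (nat_lit 7), (nat_lit 5), (nat_lit 7)]]
noncomputable def YM2 : List (List Nat) := [[(nat_lit 9), (nat_lit 9), (nat_lit 9)],
  [(nat_lit 1), (nat_lit 9), (nat_lit 13), (nat_lit 10)],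
  [(nat_lit 3), (nat_lit 9), (nat_lit 4), (nat_lit 10)],
  [(nat_lit 9), (nat_lit 11), (nat_lit 9), (nat_lit 11)],
  [(nat_lit 1), (nat_lit 9), (nat_lit 1), (nat_lit 10), (nat_lit 13)],
  [(nat_lit 1), (nat_lit 9), (nat_lit 13), (nat_lit 9), (nat_lit 9)],
  [(nat_lit 1), (nat_lit 10), (nat_lit 13), (nat_lit 9), (nat_lit 13)],
  [(nat_lit 1), (nat_lit 3), (nat_lit 1), (nat_lit 9), (nat_lit 4), (nat_lit 10)],
  [(nat_lit 1), (nat_lit 3), (nat_lit 1), (nat_lit 10), (nat_lit 4), (nat_lit 9)],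
  [(nat_lit 1), (nat_lit 9), (nat_lit 7), (nat_lit 13), (nat_lit 7), (nat_lit 10)],
  [(nat_lit 1), (nat_lit 9), (nat_lit 11), (nat_lit 13), (nat_lit 9), (nat_lit 11)],
  [(nat_lit 1), (nat_lit 9), (nat_lit 11), (nat_lit 13), (nat_lit 11), (nat_lit 10)],
  [(nat_lit 1), (nat_lit 9), (nat_lit 13), (nat_lit 11), (nat_lit 9), (nat_lit 11)],
  [(nat_lit 1), (nat_lit 10), (nat_lit 11), (nat_lit 1), (nat_lit 10), (nat_lit 11)],
  [(nat_lit 1), (nat_lit 10), (nat_lit 11), (nat_lit 1), (nat_lit 11), (nat_lit 9)],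
  [(nat_lit 1), (nat_lit 11), (nat_lit 10), (nat_lit 13), (nat_lit 9), (nat_lit 11)],
  [(nat_lit 3), (nat_lit 7), (nat_lit 4), (nat_lit 9), (nat_lit 7), (nat_lit 10)],
  [(nat_lit 3), (nat_lit 7), (nat_lit 9), (nat_lit 4), (nat_lit 7), (nat_lit 10)],
  [(nat_lit 3), (nat_lit 10), (nat_lit 7), (nat_lit 9), (nat_lit 4), (nat_lit 7)],
  [(nat_lit 7), (nat_lit 9), (nat_lit 7), (nat_lit 9), (nat_lit 7), (nat_lit 9)]]
noncomputable def YK2 : List (List Nat) := [[(nat_lit 1), (nat_lit 5), (nat_lit 9), (nat_lit 11), (nat_lit 9), (nat_lit 5)],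
  [(nat_lit 1), (nat_lit 9), (nat_lit 5), (nat_lit 13), (nat_lit 5), (nat_lit 10)],
  [(nat_lit 5), (nat_lit 9), (nat_lit 5), (nat_lit 10), (nat_lit 5), (nat_lit 9), (nat_lit 5), (nat_lit 10), (nat_lit 5), (nat_lit 9), (nat_lit 5), (nat_lit 10), (nat_lit 5), (nat_lit 9), (nat_lit 5), (nat_lit 10), (nat_lit 3), (nat_lit 3)]]
noncomputable def U2 : List (List Nat) := lapp YH2 (lapp YM2 (lapp YK2 RH))
noncomputable def YHa : List (List Nat) := [[(nat_lit 3), (nat_lit 3), (nat_lit 3)],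
  [(nat_lit 1), (nat_lit 3), (nat_lit 1), (nat_lit 4)],
  [(nat_lit 1), (nat_lit 5), (nat_lit 11), (nat_lit 5)],
  [(nat_lit 1), (nat_lit 7), (nat_lit 1), (nat_lit 7)],
  [(nat_lit 1), (nat_lit 13), (nat_lit 1), (nat_lit 13)],
  [(nat_lit 3), (nat_lit 5), (nat_lit 3), (nat_lit 5)],
  [(nat_lit 3), (nat_lit 11), (nat_lit 4), (nat_lit 11)],
  [(nat_lit 3), (nat_lit 13), (nat_lit 4), (nat_lit 13)],
  [(nat_lit 5), (nat_lit 13), (nat_lit 5), (nat_lit 13)],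
  [(nat_lit 7), (nat_lit 13), (nat_lit 7), (nat_lit 13)],
  [(nat_lit 11), (nat_lit 13), (nat_lit 11), (nat_lit 13)],
  [(nat_lit 1), (nat_lit 11), (nat_lit 1), (nat_lit 11), (nat_lit 13)],
  [(nat_lit 1), (nat_lit 3), (nat_lit 1), (nat_lit 5), (nat_lit 3), (nat_lit 5)],
  [(nat_lit 1), (nat_lit 3), (nat_lit 1), (nat_lit 11), (nat_lit 4), (nat_lit 11)],
  [(nat_lit 1), (nat_lit 5), (nat_lit 11), (nat_lit 1), (nat_lit 5), (nat_lit 11)],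
  [(nat_lit 3), (nat_lit 7), (nat_lit 3), (nat_lit 7), (nat_lit 3), (nat_lit 7)],
  [(nat_lit 5), (nat_lit 7), (nat_lit 5), (nat_lit 7), (nat_lit 5), (nat_lit 7)],
  [(nat_lit 1), (nat_lit 3), (nat_lit 11), (nat_lit 1), (nat_lit 13), (nat_lit 11), (nat_lit 4)],
  [(nat_lit 1), (nat_lit 4), (nat_lit 11), (nat_lit 1), (nat_lit 13), (nat_lit 11), (nat_lit 3)],
  [(nat_lit 1), (nat_lit 5), (nat_lit 1), (nat_lit 5), (nat_lit 1), (nat_lit 11), (nat_lit 13)],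
  [(nat_lit 1), (nat_lit 7), (nat_lit 11), (nat_lit 1), (nat_lit 13), (nat_lit 11), (nat_lit 7)],
  [(nat_lit 1), (nat_lit 7), (nat_lit 13), (nat_lit 7), (nat_lit 11), (nat_lit 1), (nat_lit 11)],
  [(nat_lit 1), (nat_lit 5), (nat_lit 7), (nat_lit 5), (nat_lit 7), (nat_lit 5), (nat_lit 1), (nat_lit 7)],
  [(nat_lit 1), (nat_lit 11), (nat_lit 7), (nat_lit 11), (nat_lit 1), (nat_lit 11), (nat_lit 7), (nat_lit 11)],
  [(nat_lit 5), (nat_lit 7), (nat_lit 11), (nat_lit 7), (nat_lit 5), (nat_lit 7), (nat_lit 11), (nat_lit 7)]]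
noncomputable def YMa : List (List Nat) := [[(nat_lit 9), (nat_lit 9), (nat_lit 9)],
  [(nat_lit 1), (nat_lit 9), (nat_lit 13), (nat_lit 10)],
  [(nat_lit 3), (nat_lit 9), (nat_lit 4), (nat_lit 10)],
  [(nat_lit 9), (nat_lit 11), (nat_lit 9), (nat_lit 11)],
  [(nat_lit 1), (nat_lit 9), (nat_lit 1), (nat_lit 10), (nat_lit 13)],
  [(nat_lit 1), (nat_lit 9), (nat_lit 13), (nat_lit 9), (nat_lit 9)],
  [(nat_lit 1), (nat_lit 10), (nat_lit 13), (nat_lit 9), (nat_lit 13)],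
  [(nat_lit 1), (nat_lit 3), (nat_lit 1), (nat_lit 9), (nat_lit 4), (nat_lit 10)],
  [(nat_lit 1), (nat_lit 3), (nat_lit 1), (nat_lit 10), (nat_lit 4), (nat_lit 9)],
  [(nat_lit 1), (nat_lit 9), (nat_lit 7), (nat_lit 13), (nat_lit 7), (nat_lit 10)],
  [(nat_lit 1), (nat_lit 9), (nat_lit 11), (nat_lit 13), (nat_lit 9), (nat_lit 11)],
  [(nat_lit 1), (nat_lit 9), (nat_lit 11), (nat_lit 13), (nat_lit 11), (nat_lit 10)],
  [(nat_lit 1), (nat_lit 9), (nat_lit 13), (nat_lit 11), (nat_lit 9), (nat_lit 11)],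
  [(nat_lit 1), (nat_lit 10), (nat_lit 11), (nat_lit 1), (nat_lit 10), (nat_lit 11)],
  [(nat_lit 1), (nat_lit 10), (nat_lit 11), (nat_lit 1), (nat_lit 11), (nat_lit 9)],
  [(nat_lit 1), (nat_lit 11), (nat_lit 10), (nat_lit 13), (nat_lit 9), (nat_lit 11)],
  [(nat_lit 3), (nat_lit 7), (nat_lit 4), (nat_lit 9), (nat_lit 7), (nat_lit 10)],
  [(nat_lit 3), (nat_lit 7), (nat_lit 9), (nat_lit 4), (nat_lit 7), (nat_lit 10)],
  [(nat_lit 3), (nat_lit 10), (nat_lit 7), (nat_lit 9), (nat_lit 4), (nat_lit 7)],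
  [(nat_lit 7), (nat_lit 9), (nat_lit 7), (nat_lit 9), (nat_lit 7), (nat_lit 9)],
  [(nat_lit 1), (nat_lit 3), (nat_lit 9), (nat_lit 1), (nat_lit 10), (nat_lit 13), (nat_lit 4)],
  [(nat_lit 1), (nat_lit 3), (nat_lit 10), (nat_lit 1), (nat_lit 13), (nat_lit 9), (nat_lit 4)],
  [(nat_lit 1), (nat_lit 4), (nat_lit 9), (nat_lit 1), (nat_lit 10), (nat_lit 13), (nat_lit 3)],
  [(nat_lit 1), (nat_lit 4), (nat_lit 10), (nat_lit 1), (nat_lit 13), (nat_lit 9), (nat_lit 3)],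
  [(nat_lit 1), (nat_lit 7), (nat_lit 9), (nat_lit 1), (nat_lit 10), (nat_lit 13), (nat_lit 7)],
  [(nat_lit 1), (nat_lit 7), (nat_lit 10), (nat_lit 1), (nat_lit 13), (nat_lit 9), (nat_lit 7)],
  [(nat_lit 1), (nat_lit 7), (nat_lit 13), (nat_lit 7), (nat_lit 9), (nat_lit 1), (nat_lit 10)],
  [(nat_lit 1), (nat_lit 7), (nat_lit 13), (nat_lit 7), (nat_lit 10), (nat_lit 13), (nat_lit 9)],
  [(nat_lit 1), (nat_lit 9), (nat_lit 1), (nat_lit 10), (nat_lit 11), (nat_lit 13), (nat_lit 11)],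
  [(nat_lit 1), (nat_lit 9), (nat_lit 1), (nat_lit 11), (nat_lit 1), (nat_lit 11), (nat_lit 10)],
  [(nat_lit 3), (nat_lit 7), (nat_lit 3), (nat_lit 9), (nat_lit 3), (nat_lit 7), (nat_lit 10)],
  [(nat_lit 3), (nat_lit 7), (nat_lit 3), (nat_lit 10), (nat_lit 7), (nat_lit 3), (nat_lit 9)],
  [(nat_lit 3), (nat_lit 7), (nat_lit 4), (nat_lit 7), (nat_lit 10), (nat_lit 7), (nat_lit 9)],
  [(nat_lit 3), (nat_lit 7), (nat_lit 9), (nat_lit 7), (nat_lit 4), (nat_lit 10), (nat_lit 7)],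
  [(nat_lit 3), (nat_lit 7), (nat_lit 9), (nat_lit 7), (nat_lit 10), (nat_lit 4), (nat_lit 7)],
  [(nat_lit 3), (nat_lit 7), (nat_lit 10), (nat_lit 4), (nat_lit 7), (nat_lit 9), (nat_lit 7)],
  [(nat_lit 1), (nat_lit 3), (nat_lit 7), (nat_lit 1), (nat_lit 9), (nat_lit 4), (nat_lit 7), (nat_lit 10)],
  [(nat_lit 1), (nat_lit 4), (nat_lit 7), (nat_lit 1), (nat_lit 10), (nat_lit 3), (nat_lit 7), (nat_lit 9)],
  [(nat_lit 1), (nat_lit 7), (nat_lit 9), (nat_lit 13), (nat_lit 4), (nat_lit 7), (nat_lit 3), (nat_lit 10)],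
  [(nat_lit 1), (nat_lit 7), (nat_lit 9), (nat_lit 13), (nat_lit 7), (nat_lit 9), (nat_lit 7), (nat_lit 9)],
  [(nat_lit 1), (nat_lit 7), (nat_lit 10), (nat_lit 7), (nat_lit 10), (nat_lit 13), (nat_lit 7), (nat_lit 10)],
  [(nat_lit 1), (nat_lit 9), (nat_lit 7), (nat_lit 4), (nat_lit 13), (nat_lit 3), (nat_lit 7), (nat_lit 10)],
  [(nat_lit 1), (nat_lit 9), (nat_lit 7), (nat_lit 11), (nat_lit 13), (nat_lit 11), (nat_lit 7), (nat_lit 10)],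
  [(nat_lit 1), (nat_lit 9), (nat_lit 11), (nat_lit 7), (nat_lit 13), (nat_lit 7), (nat_lit 11), (nat_lit 10)],
  [(nat_lit 1), (nat_lit 10), (nat_lit 7), (nat_lit 11), (nat_lit 1), (nat_lit 11), (nat_lit 7), (nat_lit 9)],
  [(nat_lit 1), (nat_lit 11), (nat_lit 7), (nat_lit 10), (nat_lit 13), (nat_lit 9), (nat_lit 7), (nat_lit 11)],
  [(nat_lit 3), (nat_lit 7), (nat_lit 4), (nat_lit 13), (nat_lit 9), (nat_lit 7), (nat_lit 10), (nat_lit 13)],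
  [(nat_lit 3), (nat_lit 7), (nat_lit 11), (nat_lit 4), (nat_lit 10), (nat_lit 11), (nat_lit 7), (nat_lit 10)],
  [(nat_lit 3), (nat_lit 7), (nat_lit 11), (nat_lit 10), (nat_lit 4), (nat_lit 11), (nat_lit 7), (nat_lit 10)],
  [(nat_lit 3), (nat_lit 9), (nat_lit 11), (nat_lit 7), (nat_lit 9), (nat_lit 4), (nat_lit 7), (nat_lit 11)],
  [(nat_lit 3), (nat_lit 10), (nat_lit 7), (nat_lit 11), (nat_lit 4), (nat_lit 10), (nat_lit 11), (nat_lit 7)],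
  [(nat_lit 7), (nat_lit 9), (nat_lit 7), (nat_lit 9), (nat_lit 7), (nat_lit 11), (nat_lit 10), (nat_lit 11)]]
noncomputable def YKa : List (List Nat) := [[(nat_lit 5), (nat_lit 9), (nat_lit 5), (nat_lit 9), (nat_lit 5), (nat_lit 9), (nat_lit 5), (nat_lit 9), (nat_lit 5), (nat_lit 9), (nat_lit 5), (nat_lit 9)]]
noncomputable def Ua : List (List Nat) := lapp YHa (lapp YMa (lapp YKa RH))
noncomputable def YHb : List (List Nat) := [[(nat_lit 3), (nat_lit 3), (nat_lit 3)],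
  [(nat_lit 1), (nat_lit 3), (nat_lit 1), (nat_lit 4)],
  [(nat_lit 1), (nat_lit 5), (nat_lit 11), (nat_lit 5)],
  [(nat_lit 1), (nat_lit 7), (nat_lit 1), (nat_lit 7)],
  [(nat_lit 1), (nat_lit 13), (nat_lit 1), (nat_lit 13)],
  [(nat_lit 3), (nat_lit 5), (nat_lit 3), (nat_lit 5)],
  [(nat_lit 3), (nat_lit 11), (nat_lit 4), (nat_lit 11)],
  [(nat_lit 3), (nat_lit 13), (nat_lit 4), (nat_lit 13)],
  [(nat_lit 5), (nat_lit 13), (nat_lit 5), (nat_lit 13)],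
  [(nat_lit 7), (nat_lit 13), (nat_lit 7), (nat_lit 13)],
  [(nat_lit 11), (nat_lit 13), (nat_lit 11), (nat_lit 13)],
  [(nat_lit 1), (nat_lit 11), (nat_lit 1), (nat_lit 11), (nat_lit 13)],
  [(nat_lit 1), (nat_lit 3), (nat_lit 1), (nat_lit 5), (nat_lit 3), (nat_lit 5)],
  [(nat_lit 1), (nat_lit 3), (nat_lit 1), (nat_lit 11), (nat_lit 4), (nat_lit 11)],
  [(nat_lit 1), (nat_lit 5), (nat_lit 11), (nat_lit 1), (nat_lit 5), (nat_lit 11)],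
  [(nat_lit 3), (nat_lit 7), (nat_lit 3), (nat_lit 7), (nat_lit 3), (nat_lit 7)],
  [(nat_lit 5), (nat_lit 7), (nat_lit 5), (nat_lit 7), (nat_lit 5), (nat_lit 7)],
  [(nat_lit 1), (nat_lit 3), (nat_lit 11), (nat_lit 1), (nat_lit 13), (nat_lit 11), (nat_lit 4)],
  [(nat_lit 1), (nat_lit 4), (nat_lit 11), (nat_lit 1), (nat_lit 13), (nat_lit 11), (nat_lit 3)],
  [(nat_lit 1), (nat_lit 5), (nat_lit 1), (nat_lit 5), (nat_lit 1), (nat_lit 11), (nat_lit 13)],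
  [(nat_lit 1), (nat_lit 7), (nat_lit 11), (nat_lit 1), (nat_lit 13), (nat_lit 11), (nat_lit 7)],
  [(nat_lit 1), (nat_lit 7), (nat_lit 13), (nat_lit 7), (nat_lit 11), (nat_lit 1), (nat_lit 11)],
  [(nat_lit 1), (nat_lit 5), (nat_lit 7), (nat_lit 5), (nat_lit 7), (nat_lit 5), (nat_lit 1), (nat_lit 7)],
  [(nat_lit 1), (nat_lit 11), (nat_lit 7), (nat_lit 11), (nat_lit 1), (nat_lit 11), (nat_lit 7), (nat_lit 11)],
  [(nat_lit 5), (nat_lit 7), (nat_lit 11), (nat_lit 7), (nat_lit 5), (nat_lit 7), (nat_lit 11), (nat_lit 7)]]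
noncomputable def YMb : List (List Nat) := [[(nat_lit 9), (nat_lit 9), (nat_lit 9)],
  [(nat_lit 1), (nat_lit 9), (nat_lit 13), (nat_lit 10)],
  [(nat_lit 3), (nat_lit 9), (nat_lit 4), (nat_lit 10)],
  [(nat_lit 9), (nat_lit 11), (nat_lit 9), (nat_lit 11)],
  [(nat_lit 1), (nat_lit 9), (nat_lit 1), (nat_lit 10), (nat_lit 13)],
  [(nat_lit 1), (nat_lit 9), (nat_lit 13), (nat_lit 9), (nat_lit 9)],
  [(nat_lit 1), (nat_lit 10), (nat_lit 13), (nat_lit 9), (nat_lit 13)],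
  [(nat_lit 1), (nat_lit 3), (nat_lit 1), (nat_lit 9), (nat_lit 4), (nat_lit 10)],
  [(nat_lit 1), (nat_lit 3), (nat_lit 1), (nat_lit 10), (nat_lit 4), (nat_lit 9)],
  [(nat_lit 1), (nat_lit 9), (nat_lit 7), (nat_lit 13), (nat_lit 7), (nat_lit 10)],
  [(nat_lit 1), (nat_lit 9), (nat_lit 11), (nat_lit 13), (nat_lit 9), (nat_lit 11)],
  [(nat_lit 1), (nat_lit 9), (nat_lit 11), (nat_lit 13), (nat_lit 11), (nat_lit 10)],
  [(nat_lit 1), (nat_lit 9), (nat_lit 13), (nat_lit 11), (nat_lit 9), (nat_lit 11)],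
  [(nat_lit 1), (nat_lit 10), (nat_lit 11), (nat_lit 1), (nat_lit 10), (nat_lit 11)],
  [(nat_lit 1), (nat_lit 10), (nat_lit 11), (nat_lit 1), (nat_lit 11), (nat_lit 9)],
  [(nat_lit 1), (nat_lit 11), (nat_lit 10), (nat_lit 13), (nat_lit 9), (nat_lit 11)],
  [(nat_lit 3), (nat_lit 7), (nat_lit 4), (nat_lit 9), (nat_lit 7), (nat_lit 10)],
  [(nat_lit 3), (nat_lit 7), (nat_lit 9), (nat_lit 4), (nat_lit 7), (nat_lit 10)],
  [(nat_lit 3), (nat_lit 10), (nat_lit 7), (nat_lit 9), (nat_lit 4), (nat_lit 7)],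
  [(nat_lit 7), (nat_lit 9), (nat_lit 7), (nat_lit 9), (nat_lit 7), (nat_lit 9)],
  [(nat_lit 1), (nat_lit 3), (nat_lit 9), (nat_lit 1), (nat_lit 10), (nat_lit 13), (nat_lit 4)],
  [(nat_lit 1), (nat_lit 3), (nat_lit 10), (nat_lit 1), (nat_lit 13), (nat_lit 9), (nat_lit 4)],
  [(nat_lit 1), (nat_lit 4), (nat_lit 9), (nat_lit 1), (nat_lit 10), (nat_lit 13), (nat_lit 3)],
  [(nat_lit 1), (nat_lit 4), (nat_lit 10), (nat_lit 1), (nat_lit 13), (nat_lit 9), (nat_lit 3)],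
  [(nat_lit 1), (nat_lit 7), (nat_lit 9), (nat_lit 1), (nat_lit 10), (nat_lit 13), (nat_lit 7)],
  [(nat_lit 1), (nat_lit 7), (nat_lit 10), (nat_lit 1), (nat_lit 13), (nat_lit 9), (nat_lit 7)],
  [(nat_lit 1), (nat_lit 7), (nat_lit 13), (nat_lit 7), (nat_lit 9), (nat_lit 1), (nat_lit 10)],
  [(nat_lit 1), (nat_lit 7), (nat_lit 13), (nat_lit 7), (nat_lit 10), (nat_lit 13), (nat_lit 9)],
  [(nat_lit 1), (nat_lit 9), (nat_lit 1), (nat_lit 10), (nat_lit 11), (nat_lit 13), (nat_lit 11)],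
  [(nat_lit 1), (nat_lit 9), (nat_lit 1), (nat_lit 11), (nat_lit 1), (nat_lit 11), (nat_lit 10)],
  [(nat_lit 3), (nat_lit 7), (nat_lit 3), (nat_lit 9), (nat_lit 3), (nat_lit 7), (nat_lit 10)],
  [(nat_lit 3), (nat_lit 7), (nat_lit 3), (nat_lit 10), (nat_lit 7), (nat_lit 3), (nat_lit 9)],
  [(nat_lit 3), (nat_lit 7), (nat_lit 4), (nat_lit 7), (nat_lit 10), (nat_lit 7), (nat_lit 9)],
  [(nat_lit 3), (nat_lit 7), (nat_lit 9), (nat_lit 7), (nat_lit 4), (nat_lit 10), (nat_lit 7)],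
  [(nat_lit 3), (nat_lit 7), (nat_lit 9), (nat_lit 7), (nat_lit 10), (nat_lit 4), (nat_lit 7)],
  [(nat_lit 3), (nat_lit 7), (nat_lit 10), (nat_lit 4), (nat_lit 7), (nat_lit 9), (nat_lit 7)],
  [(nat_lit 1), (nat_lit 3), (nat_lit 7), (nat_lit 1), (nat_lit 9), (nat_lit 4), (nat_lit 7), (nat_lit 10)],
  [(nat_lit 1), (nat_lit 4), (nat_lit 7), (nat_lit 1), (nat_lit 10), (nat_lit 3), (nat_lit 7), (nat_lit 9)],
  [(nat_lit 1), (nat_lit 7), (nat_lit 9), (nat_lit 13), (nat_lit 4), (nat_lit 7), (nat_lit 3), (nat_lit 10)],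
  [(nat_lit 1), (nat_lit 7), (nat_lit 9), (nat_lit 13), (nat_lit 7), (nat_lit 9), (nat_lit 7), (nat_lit 9)],
  [(nat_lit 1), (nat_lit 7), (nat_lit 10), (nat_lit 7), (nat_lit 10), (nat_lit 13), (nat_lit 7), (nat_lit 10)],
  [(nat_lit 1), (nat_lit 9), (nat_lit 7), (nat_lit 4), (nat_lit 13), (nat_lit 3), (nat_lit 7), (nat_lit 10)],
  [(nat_lit 1), (nat_lit 9), (nat_lit 7), (nat_lit 11), (nat_lit 13), (nat_lit 11), (nat_lit 7), (nat_lit 10)],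
  [(nat_lit 1), (nat_lit 9), (nat_lit 11), (nat_lit 7), (nat_lit 13), (nat_lit 7), (nat_lit 11), (nat_lit 10)],
  [(nat_lit 1), (nat_lit 10), (nat_lit 7), (nat_lit 11), (nat_lit 1), (nat_lit 11), (nat_lit 7), (nat_lit 9)],
  [(nat_lit 1), (nat_lit 11), (nat_lit 7), (nat_lit 10), (nat_lit 13), (nat_lit 9), (nat_lit 7), (nat_lit 11)],
  [(nat_lit 3), (nat_lit 7), (nat_lit 4), (nat_lit 13), (nat_lit 9), (nat_lit 7), (nat_lit 10), (nat_lit 13)],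
  [(nat_lit 3), (nat_lit 7), (nat_lit 11), (nat_lit 4), (nat_lit 10), (nat_lit 11), (nat_lit 7), (nat_lit 10)],
  [(nat_lit 3), (nat_lit 7), (nat_lit 11), (nat_lit 10), (nat_lit 4), (nat_lit 11), (nat_lit 7), (nat_lit 10)],
  [(nat_lit 3), (nat_lit 9), (nat_lit 11), (nat_lit 7), (nat_lit 9), (nat_lit 4), (nat_lit 7), (nat_lit 11)],
  [(nat_lit 3), (nat_lit 10), (nat_lit 7), (nat_lit 11), (nat_lit 4), (nat_lit 10), (nat_lit 11), (nat_lit 7)],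
  [(nat_lit 7), (nat_lit 9), (nat_lit 7), (nat_lit 9), (nat_lit 7), (nat_lit 11), (nat_lit 10), (nat_lit 11)]]
noncomputable def YKb : List (List Nat) := [[(nat_lit 5), (nat_lit 1), (nat_lit 9), (nat_lit 5), (nat_lit 1), (nat_lit 9), (nat_lit 5), (nat_lit 1), (nat_lit 9), (nat_lit 5), (nat_lit 1), (nat_lit 9), (nat_lit 5), (nat_lit 1), (nat_lit 9), (nat_lit 5), (nat_lit 1), (nat_lit 9)]]
noncomputable def Ub : List (List Nat) := lapp YHb (lapp YMb (lapp YKb RH))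
noncomputable def G7 : List (List Nat) := [[(nat_lit 1)],
  [(nat_lit 3)],
  [(nat_lit 5)],
  [(nat_lit 7)],
  [(nat_lit 9)],
  [(nat_lit 11)],
  [(nat_lit 13)]]
noncomputable def G6 : List (List Nat) := [[(nat_lit 1)],
  [(nat_lit 3)],
  [(nat_lit 5)],
  [(nat_lit 7)],
  [(nat_lit 9)],
  [(nat_lit 11)]]
noncomputable def H5 : List (List Nat) := [[(nat_lit 1)],
  [(nat_lit 3)],
  [(nat_lit 5)],
  [(nat_lit 7)],
  [(nat_lit 11)]]

end CF.J23
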