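import Cfsg.Agent.Cod.Defs

set_option autoImplicit false
set_option maxRecDepth 1000000
set_option maxHeartbeats 0
set_option Elab.async false

namespace CF.J23

open CF.Comp CF.Cod

noncomputable def RB : List (List Nat) := [[(nat_lit 1), (nat_lit 1)],
  [(nat_lit 7), (nat_lit 7)],
  [(nat_lit 11), (nat_lit 11)],
  [(nat_lit 13), (nat_lit 13)],
  [(nat_lit 3), (nat_lit 3), (nat_lit 3)],
  [(nat_lit 1), (nat_lit 3), (nat_lit 1), (nat_lit 4)],
  [(nat_lit 3), (nat_lit 11), (nat_lit 4), (nat_lit 11)],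
  [(nat_lit 1), (nat_lit 11), (nat_lit 1), (nat_lit 11), (nat_lit 13)],
  [(nat_lit 3), (nat_lit 7), (nat_lit 3), (nat_lit 7), (nat_lit 3), (nat_lit 7)],
  [(nat_lit 1), (nat_lit 3), (nat_lit 11), (nat_lit 7), (nat_lit 4), (nat_lit 11), (nat_lit 7), (nat_lit 3), (nat_lit 11), (nat_lit 7), (nat_lit 11), (nat_lit 4), (nat_lit 7)]]
noncomputable def RW : List (List Nat) := [[(nat_lit 9), (nat_lit 9), (nat_lit 9)],
  [(nat_lit 9), (nat_lit 3), (nat_lit 10), (nat_lit 4)],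
  [(nat_lit 9), (nat_lit 4), (nat_lit 7), (nat_lit 3), (nat_lit 10), (nat_lit 8)],
  [(nat_lit 11), (nat_lit 9), (nat_lit 11), (nat_lit 9)]]
noncomputable def RD : List (List Nat) := [[(nat_lit 1), (nat_lit 1)],
  [(nat_lit 5), (nat_lit 5)],
  [(nat_lit 11), (nat_lit 11)],
  [(nat_lit 13), (nat_lit 13)],
  [(nat_lit 3), (nat_lit 3), (nat_lit 3)],
  [(nat_lit 1), (nat_lit 3), (nat_lit 1), (nat_lit 4)],
  [(nat_lit 1), (nat_lit 5), (nat_lit 11), (nat_lit 5)],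
  [(nat_lit 3), (nat_lit 5), (nat_lit 3), (nat_lit 5)],
  [(nat_lit 1), (nat_lit 11), (nat_lit 1), (nat_lit 11), (nat_lit 13)]]
noncomputable def RS : List (List Nat) := [[(nat_lit 9), (nat_lit 9), (nat_lit 9)],
  [(nat_lit 9), (nat_lit 3), (nat_lit 10), (nat_lit 4)],
  [(nat_lit 11), (nat_lit 9), (nat_lit 11), (nat_lit 9)],
  [(nat_lit 9), (nat_lit 13), (nat_lit 10), (nat_lit 2)]]
noncomputable def RQ : List (List Nat) := [[(nat_lit 1), (nat_lit 1)],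
  [(nat_lit 3), (nat_lit 3)],
  [(nat_lit 5), (nat_lit 5)],
  [(nat_lit 7), (nat_lit 7)],
  [(nat_lit 9), (nat_lit 9)],
  [(nat_lit 11), (nat_lit 11)],
  [(nat_lit 1), (nat_lit 3), (nat_lit 1), (nat_lit 3), (nat_lit 12)],
  [(nat_lit 1), (nat_lit 5), (nat_lit 1), (nat_lit 5), (nat_lit 12)],
  [(nat_lit 1), (nat_lit 7), (nat_lit 1), (nat_lit 7), (nat_lit 12)],
  [(nat_lit 1), (nat_lit 9), (nat_lit 1), (nat_lit 9), (nat_lit 12)],
  [(nat_lit 3), (nat_lit 5), (nat_lit 3), (nat_lit 5), (nat_lit 12)],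
  [(nat_lit 3), (nat_lit 7), (nat_lit 3), (nat_lit 7), (nat_lit 12)],
  [(nat_lit 3), (nat_lit 9), (nat_lit 3), (nat_lit 9), (nat_lit 12)],
  [(nat_lit 5), (nat_lit 7), (nat_lit 5), (nat_lit 7), (nat_lit 12)],
  [(nat_lit 5), (nat_lit 9), (nat_lit 5), (nat_lit 9), (nat_lit 12)],
  [(nat_lit 7), (nat_lit 9), (nat_lit 7), (nat_lit 9), (nat_lit 12)],
  [(nat_lit 1), (nat_lit 3), (nat_lit 5), (nat_lit 7), (nat_lit 9)]]
noncomputable def GQ : List (List Nat) := [[(nat_lit 1)],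
  [(nat_lit 3)],
  [(nat_lit 5)],
  [(nat_lit 7)],
  [(nat_lit 9)],
  [(nat_lit 11)]]
noncomputable def SQ : List (List Nat) := []
noncomputable def RH : List (List Nat) := [[(nat_lit 5), (nat_lit 5)],
  [(nat_lit 7), (nat_lit 7)],
  [(nat_lit 3), (nat_lit 5), (nat_lit 3), (nat_lit 5)],
  [(nat_lit 1), (nat_lit 1)],
  [(nat_lit 11), (nat_lit 11)],
  [(nat_lit 13), (nat_lit 13)],
  [(nat_lit 3), (nat_lit 3), (nat_lit 3)],
  [(nat_lit 3), (nat_lit 7), (nat_lit 3), (nat_lit 7), (nat_lit 3), (nat_lit 7)],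
  [(nat_lit 5), (nat_lit 7), (nat_lit 5), (nat_lit 7), (nat_lit 5), (nat_lit 7)],
  [(nat_lit 1), (nat_lit 3), (nat_lit 2), (nat_lit 4)],
  [(nat_lit 1), (nat_lit 7), (nat_lit 2), (nat_lit 8)],
  [(nat_lit 5), (nat_lit 1), (nat_lit 6), (nat_lit 12)],
  [(nat_lit 1), (nat_lit 11), (nat_lit 1), (nat_lit 11), (nat_lit 14)],
  [(nat_lit 13), (nat_lit 7), (nat_lit 14), (nat_lit 8)],
  [(nat_lit 4), (nat_lit 7), (nat_lit 11), (nat_lit 8), (nat_lit 3), (nat_lit 3), (nat_lit 7), (nat_lit 11), (nat_lit 8), (nat_lit 4), (nat_lit 7), (nat_lit 11), (nat_lit 8), (nat_lit 11), (nat_lit 1)]]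
noncomputable def GH : List (List Nat) := [[(nat_lit 1)],
  [(nat_lit 3)],
  [(nat_lit 5)],
  [(nat_lit 7)],
  [(nat_lit 11)],
  [(nat_lit 13)]]
noncomputable def SH : List (List Nat) := [[(nat_lit 3)],
  [(nat_lit 5)],
  [(nat_lit 7)]]
noncomputable def RN : List (List Nat) := [[(nat_lit 5), (nat_lit 5), (nat_lit 14)],
  [(nat_lit 7), (nat_lit 7), (nat_lit 14)],
  [(nat_lit 3), (nat_lit 5), (nat_lit 3), (nat_lit 5), (nat_lit 14)],
  [(nat_lit 13), (nat_lit 3), (nat_lit 14), (nat_lit 4)],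
  [(nat_lit 13), (nat_lit 5), (nat_lit 14), (nat_lit 6)],
  [(nat_lit 1), (nat_lit 1)],
  [(nat_lit 11), (nat_lit 11)],
  [(nat_lit 13), (nat_lit 13)],
  [(nat_lit 3), (nat_lit 3), (nat_lit 3)],
  [(nat_lit 3), (nat_lit 7), (nat_lit 3), (nat_lit 7), (nat_lit 3), (nat_lit 7)],
  [(nat_lit 5), (nat_lit 7), (nat_lit 5), (nat_lit 7), (nat_lit 5), (nat_lit 7)],
  [(nat_lit 1), (nat_lit 3), (nat_lit 2), (nat_lit 4)],
  [(nat_lit 1), (nat_lit 7), (nat_lit 2), (nat_lit 8)],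
  [(nat_lit 5), (nat_lit 1), (nat_lit 6), (nat_lit 12)],
  [(nat_lit 1), (nat_lit 11), (nat_lit 1), (nat_lit 11), (nat_lit 14)],
  [(nat_lit 13), (nat_lit 7), (nat_lit 14), (nat_lit 8)],
  [(nat_lit 4), (nat_lit 7), (nat_lit 11), (nat_lit 8), (nat_lit 3), (nat_lit 3), (nat_lit 7), (nat_lit 11), (nat_lit 8), (nat_lit 4), (nat_lit 7), (nat_lit 11), (nat_lit 8), (nat_lit 11), (nat_lit 1)]]
noncomputable def GN : List (List Nat) := [[(nat_lit 1)],
  [(nat_lit 3)],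
  [(nat_lit 5)],
  [(nat_lit 7)],
  [(nat_lit 11)],
  [(nat_lit 13)]]
noncomputable def SN : List (List Nat) := [[(nat_lit 3)],
  [(nat_lit 5)],
  [(nat_lit 7)],
  [(nat_lit 13)]]
noncomputable def RC : List (List Nat) := [[(nat_lit 3), (nat_lit 3)],
  [(nat_lit 5), (nat_lit 5)],
  [(nat_lit 7), (nat_lit 7)],
  [(nat_lit 9), (nat_lit 9)],
  [(nat_lit 1), (nat_lit 1), (nat_lit 1)],
  [(nat_lit 1), (nat_lit 7), (nat_lit 2), (nat_lit 7)],
  [(nat_lit 3), (nat_lit 5), (nat_lit 3), (nat_lit 5), (nat_lit 7)],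
  [(nat_lit 1), (nat_lit 3), (nat_lit 1), (nat_lit 3), (nat_lit 1), (nat_lit 3)],
  [(nat_lit 1), (nat_lit 5), (nat_lit 1), (nat_lit 5), (nat_lit 1), (nat_lit 5)],
  [(nat_lit 1), (nat_lit 5), (nat_lit 2), (nat_lit 3), (nat_lit 1), (nat_lit 5), (nat_lit 2), (nat_lit 3), (nat_lit 9)]]
noncomputable def GC : List (List Nat) := [[(nat_lit 1)],
  [(nat_lit 3)],
  [(nat_lit 5)],
  [(nat_lit 7)],
  [(nat_lit 9)]]
noncomputable def SC : List (List Nat) := [[(nat_lit 1)],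
  [(nat_lit 3)]]
noncomputable def RM : List (List Nat) := lapp RB RW
noncomputable def GM : List (List Nat) := [[(nat_lit 1)],
  [(nat_lit 3)],
  [(nat_lit 7)],
  [(nat_lit 9)],
  [(nat_lit 11)],
  [(nat_lit 13)]]
noncomputable def SM : List (List Nat) := [[(nat_lit 3)],
  [(nat_lit 7)]]
noncomputable def XK0 : List (List Nat) := [[(nat_lit 5), (nat_lit 9), (nat_lit 5), (nat_lit 10), (nat_lit 5), (nat_lit 9), (nat_lit 5), (nat_lit 10), (nat_lit 5), (nat_lit 9), (nat_lit 5), (nat_lit 10), (nat_lit 5), (nat_lit 9), (nat_lit 5), (nat_lit 10)]]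
noncomputable def RK0 : List (List Nat) := lapp RD (lapp RS XK0)
noncomputable def GK0 : List (List Nat) := [[(nat_lit 1)],
  [(nat_lit 3)],
  [(nat_lit 5)],
  [(nat_lit 9)],
  [(nat_lit 11)],
  [(nat_lit 13)]]
noncomputable def SK0 : List (List Nat) := [[(nat_lit 1)],
  [(nat_lit 5)],
  [(nat_lit 11)],
  [(nat_lit 13)]]
noncomputable def XK1 : List (List Nat) := [[(nat_lit 5), (nat_lit 9), (nat_lit 5), (nat_lit 10), (nat_lit 5), (nat_lit 9), (nat_lit 5), (nat_lit 10), (nat_lit 5), (nat_lit 9), (nat_lit 5), (nat_lit 10), (nat_lit 5), (nat_lit 9), (nat_lit 5), (nat_lit 10), (nat_lit 3)]]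
noncomputable def RK1 : List (List Nat) := lapp RD (lapp RS XK1)
noncomputable def GK1 : List (List Nat) := [[(nat_lit 1)],
  [(nat_lit 3)],
  [(nat_lit 5)],
  [(nat_lit 9)],
  [(nat_lit 11)],
  [(nat_lit 13)]]
noncomputable def SK1 : List (List Nat) := [[(nat_lit 1)],
  [(nat_lit 5)],
  [(nat_lit 11)],
  [(nat_lit 13)]]
noncomputable def XK2 : List (List Nat) := [[(nat_lit 5), (nat_lit 9), (nat_lit 5), (nat_lit 10), (nat_lit 5), (nat_lit 9), (nat_lit 5), (nat_lit 10), (nat_lit 5), (nat_lit 9), (nat_lit 5), (nat_lit 10), (nat_lit 5), (nat_lit 9), (nat_lit 5), (nat_lit 10), (nat_lit 3), (nat_lit 3)]]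
noncomputable def RK2 : List (List Nat) := lapp RD (lapp RS XK2)
noncomputable def GK2 : List (List Nat) := [[(nat_lit 1)],
  [(nat_lit 3)],
  [(nat_lit 5)],
  [(nat_lit 9)],
  [(nat_lit 11)],
  [(nat_lit 13)]]
noncomputable def SK2 : List (List Nat) := [[(nat_lit 1)],
  [(nat_lit 5)],
  [(nat_lit 11)],
  [(nat_lit 13)]]
noncomputable def RA : List (List Nat) := [[(nat_lit 1), (nat_lit 1)],
  [(nat_lit 3), (nat_lit 3)],
  [(nat_lit 5), (nat_lit 5)],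
  [(nat_lit 7), (nat_lit 7)],
  [(nat_lit 9), (nat_lit 9)],
  [(nat_lit 1), (nat_lit 5), (nat_lit 9), (nat_lit 5), (nat_lit 1), (nat_lit 7)],
  [(nat_lit 1), (nat_lit 9), (nat_lit 1), (nat_lit 9), (nat_lit 1), (nat_lit 9)],
  [(nat_lit 1), (nat_lit 3), (nat_lit 1), (nat_lit 3), (nat_lit 9), (nat_lit 3), (nat_lit 9)],
  [(nat_lit 1), (nat_lit 3), (nat_lit 7), (nat_lit 3), (nat_lit 7), (nat_lit 1), (nat_lit 9)],
  [(nat_lit 1), (nat_lit 3), (nat_lit 7), (nat_lit 9), (nat_lit 3), (nat_lit 5), (nat_lit 7)]]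
noncomputable def GA : List (List Nat) := [[(nat_lit 1)],
  [(nat_lit 3)],
  [(nat_lit 5)],
  [(nat_lit 7)],
  [(nat_lit 9)]]
noncomputable def SA : List (List Nat) := [[(nat_lit 1)],
  [(nat_lit 9)]]
noncomputable def RP : List (List Nat) := [[(nat_lit 1), (nat_lit 1)],
  [(nat_lit 3), (nat_lit 3)],
  [(nat_lit 5), (nat_lit 5)],
  [(nat_lit 7), (nat_lit 7)],
  [(nat_lit 9), (nat_lit 9)],
  [(nat_lit 1), (nat_lit 3), (nat_lit 1), (nat_lit 3), (nat_lit 1), (nat_lit 3)],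
  [(nat_lit 1), (nat_lit 5), (nat_lit 1), (nat_lit 5), (nat_lit 1), (nat_lit 5)],
  [(nat_lit 1), (nat_lit 9), (nat_lit 1), (nat_lit 9), (nat_lit 1), (nat_lit 9)],
  [(nat_lit 1), (nat_lit 3), (nat_lit 5), (nat_lit 3), (nat_lit 5), (nat_lit 1), (nat_lit 9)],
  [(nat_lit 1), (nat_lit 3), (nat_lit 7), (nat_lit 3), (nat_lit 9), (nat_lit 1), (nat_lit 5)]]
noncomputable def GP : List (List Nat) := [[(nat_lit 1)],
  [(nat_lit 3)],
  [(nat_lit 5)],
  [(nat_lit 7)],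
  [(nat_lit 9)]]
noncomputable def SP : List (List Nat) := [[(nat_lit 1)],
  [(nat_lit 3)]]
noncomputable def S0 : List (List Nat) := []

end CF.J23
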